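import Cfsg.Agent.Helper17.Fi22bTC.Facts1

set_option autoImplicit false
set_option linter.all false

noncomputable section

namespace Cfsg.Agent.Helper17.Fi22bTC

def n3889 : Q := act 8 n2850
theorem D3889 : act 8 n2850 = n3889 := rfl
theorem F15298 : act 7 n3889 = n3750 := d35_1 D3889 (iv D3750) (iv D2750) (iv F8528) D2850
def n3891 : Q := act 8 n2851
theorem D3891 : act 8 n2851 = n3891 := rfl
theorem F15303 : act 3 n3891 = n2852 := d25_1 D3891 (iv D2852) D2851
def n3892 : Q := act 1 n2853
theorem D3892 : act 1 n2853 = n3892 := rfl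
def n3893 : Q := act 8 n2853
theorem D3893 : act 8 n2853 = n3893 := rfl
theorem F15310 : act 2 n3893 = n2854 := d20_1 D3893 (iv D2854) D2853
def n3894 : Q := act 7 n2854
theorem D3894 : act 7 n2854 = n3894 := rfl
theorem F15314 : act 3 n3894 = n3755 := d24_1 D3894 (iv D3755) F11043 (iv F8538) (iv F11428)
def n3895 : Q := act 4 n2855
theorem D3895 : act 4 n2855 = n3895 := rfl
theorem F15319 : act 1 n3895 = n2857 := d10_1 D3895 (iv D2857) (iv F11432)
theorem F15320 : act 2 n3895 = n3855 := d16_1 D3895 (iv D3855) (iv F11433)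
theorem F15321 : act 5 n3895 = n3713 := d26_2 D2855 D3895 (iv D3713) (iv D2726) (iv F8546)
theorem F15322 : act 8 n3895 = n2884 := d29_2 (iv F11435) D3895 (iv D2884)
def n3896 : Q := act 6 n2855
theorem D3896 : act 6 n2855 = n3896 := rfl
theorem F15323 : act 0 n3896 = n3896 := d5_1 D3896 (iv D3896) F11431
theorem F15324 : act 1 n3896 = n2858 := d12_1 D3896 (iv D2858) (iv F11432)
theorem F15325 : act 2 n3896 = n3856 := d18_1 D3896 (iv D3856) (iv F11433)
theorem F15326 : act 3 n3896 = n2950 := d23_1 D3896 (iv D2950) (iv F11434)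
theorem F15327 : act 8 n3896 = n2885 := d34_2 (iv F11435) D3896 (iv D2885)
def n3897 : Q := act 7 n2855
theorem D3897 : act 7 n2855 = n3897 := rfl
theorem F15329 : act 1 n3897 = n2859 := d13_1 D3897 (iv D2859) (iv F11432)
theorem F15330 : act 2 n3897 = n3857 := d19_1 D3897 (iv D3857) (iv F11433)
def n3898 : Q := act 3 n2856
theorem D3898 : act 3 n2856 = n3898 := rfl
theorem F15332 : act 0 n3898 = n3898 := d2_1 D3898 (iv D3898) F11436
theorem F15333 : act 1 n3898 = n2860 := d9_1 D3898 (iv D2860) (iv F11437)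
theorem F15334 : act 7 n3898 = n2952 := d24_2 D2856 D3898 (iv D2952) (iv D2167) (iv F8545)
def n3899 : Q := act 8 n2856
theorem D3899 : act 8 n2856 = n3899 := rfl
theorem F15339 : act 7 n3899 = n2887 := d35_1 D3899 (iv D2887) (iv D2116) (iv F8547) D2856
def n3900 : Q := act 3 n2857
theorem D3900 : act 3 n2857 = n3900 := rfl
theorem F15340 : act 0 n3900 = n2866 := d2_1 D3900 (iv D2866) (iv F11440)
theorem F15342 : act 4 n3900 = n2953 := d21_2 D2857 D3900 (iv D2953) (iv D2168) (iv F8550)
theorem F15343 : act 5 n3900 = n3718 := d22_2 (iv F11442) D3900 (iv D3718)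
theorem F15344 : act 8 n3900 = n2888 := d25_2 (iv F11443) D3900 (iv D2888)
def n3901 : Q := act 6 n2857
theorem D3901 : act 6 n2857 = n3901 := rfl
theorem F15345 : act 0 n3901 = n2867 := d5_1 D3901 (iv D2867) (iv F11440)
theorem F15346 : act 2 n3901 = n2862 := d18_1 D3901 (iv D2862) (iv F11441)
theorem F15347 : act 4 n3901 = n2858 := d27_1 D3901 (iv D2858) D2857
def n3902 : Q := act 7 n2857
theorem D3902 : act 7 n2857 = n3902 := rfl
theorem F15351 : act 4 n3902 = n2859 := d28_1 D3902 (iv D2859) D2857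
def n3903 : Q := act 7 n2858
theorem D3903 : act 7 n2858 = n3903 := rfl
theorem F15354 : act 2 n3903 = n2864 := d19_1 D3903 (iv D2864) (iv F11445)
theorem F15355 : act 6 n3903 = n2859 := d33_1 D3903 (iv D2859) D2858
def n3904 : Q := act 3 n2859
theorem D3904 : act 3 n2859 = n3904 := rfl
theorem F15359 : act 7 n3904 = n2957 := d24_2 D2859 D3904 (iv D2957) (iv D2170) (iv F8550)
def n3905 : Q := act 8 n2859
theorem D3905 : act 8 n2859 = n3905 := rfl
theorem F15360 : act 0 n3905 = n2871 := d7_1 D3905 (iv D2871) (iv F11448)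
theorem F15361 : act 2 n3905 = n2865 := d20_1 D3905 (iv D2865) (iv F11449)
def n3906 : Q := act 4 n2860
theorem D3906 : act 4 n2860 = n3906 := rfl
theorem F15366 : act 3 n3906 = n3724 := d21_1 D3906 (iv D3724) (iv D2731) (iv F8554) D2860
theorem F15367 : act 7 n3906 = n2958 := d28_2 (iv F11453) D3906 (iv D2958)
def n3907 : Q := act 8 n2860
theorem D3907 : act 8 n2860 = n3907 := rfl
def n3908 : Q := act 5 n2862
theorem D3908 : act 5 n2862 = n3908 := rfl
theorem F15372 : act 0 n3908 = n2874 := d4_1 D3908 (iv D2874) (iv F11458)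
theorem F15373 : act 1 n3908 = n3867 := d11_1 D3908 (iv D3867) (iv F11459)
def n3909 : Q := act 7 n2862
theorem D3909 : act 7 n2862 = n3909 := rfl
theorem F15379 : act 4 n3909 = n2864 := d28_1 D3909 (iv D2864) (iv F11461)
def n3910 : Q := act 3 n2863
theorem D3910 : act 3 n2863 = n3910 := rfl
def n3911 : Q := act 8 n2863
theorem D3911 : act 8 n2863 = n3911 := rfl
theorem F15388 : act 4 n3911 = n2865 := d29_1 D3911 (iv D2865) (iv F11465)
def n3913 : Q := act 6 n2866
theorem D3913 : act 6 n2866 = n3913 := rfl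
theorem F15398 : act 3 n3913 = n2867 := d23_1 D3913 (iv D2867) D2866
theorem F15399 : act 4 n3913 = n2962 := d27_1 D3913 (iv D2962) (iv F11478)
def n3914 : Q := act 7 n2866
theorem D3914 : act 7 n2866 = n3914 := rfl
theorem F15403 : act 4 n3914 = n2963 := d28_1 D3914 (iv D2963) (iv F11478)
theorem F15404 : act 5 n3914 = n3732 := d31_1 D3914 (iv D3732) (iv F11479)
def n3915 : Q := act 5 n2867
theorem D3915 : act 5 n2867 = n3915 := rfl
def n3916 : Q := act 7 n2867
theorem D3916 : act 7 n2867 = n3916 := rfl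
theorem F15410 : act 2 n3916 = n2875 := d19_1 D3916 (iv D2875) (iv F11482)
theorem F15411 : act 4 n3916 = n2869 := d28_1 D3916 (iv D2869) (iv F11483)
def n3919 : Q := act 3 n2869
theorem D3919 : act 3 n2869 = n3919 := rfl
theorem F15423 : act 7 n3919 = n2967 := d24_2 D2869 D3919 (iv D2967) (iv D2178) (iv F8579)
def n3920 : Q := act 8 n2869
theorem D3920 : act 8 n2869 = n3920 := rfl
theorem F15426 : act 6 n3920 = n2871 := d34_1 D3920 (iv D2871) (iv F11491)
def n3921 : Q := act 4 n2870
theorem D3921 : act 4 n2870 = n3921 := rfl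
theorem F15430 : act 7 n3921 = n2968 := d28_2 (iv F11495) D3921 (iv D2968)
def n3923 : Q := act 5 n2872
theorem D3923 : act 5 n2872 = n3923 := rfl
theorem F15438 : act 3 n3923 = n3741 := d22_1 D3923 (iv D3741) (iv F11502)
theorem F15439 : act 7 n3923 = n2969 := d31_2 (iv F11503) D3923 (iv D2969)
def n3925 : Q := act 7 n2874
theorem D3925 : act 7 n2874 = n3925 := rfl
theorem F15446 : act 5 n3925 = n2875 := d31_1 D3925 (iv D2875) D2874
def n3926 : Q := act 3 n2875
theorem D3926 : act 3 n2875 = n3926 := rfl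
def n3927 : Q := act 8 n2875
theorem D3927 : act 8 n2875 = n3927 := rfl
def n3930 : Q := act 3 n2879
theorem D3930 : act 3 n2879 = n3930 := rfl
theorem F15464 : act 5 n3930 = n2880 := d22_2 (iv F11529) D3930 (iv D2880)
def n3931 : Q := act 8 n2879
theorem D3931 : act 8 n2879 = n3931 := rfl
theorem F15469 : act 5 n3931 = n2881 := d32_1 D3931 (iv D2881) (iv F11529)
def n3932 : Q := act 2 n2880
theorem D3932 : act 2 n2880 = n3932 := rfl
def n3933 : Q := act 8 n2880
theorem D3933 : act 8 n2880 = n3933 := rfl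
def n3935 : Q := act 8 n2882
theorem D3935 : act 8 n2882 = n3935 := rfl
theorem F15486 : act 2 n3935 = n2883 := d20_1 D3935 (iv D2883) D2882
def n3937 : Q := act 3 n2884
theorem D3937 : act 3 n2884 = n3937 := rfl
theorem F15495 : act 0 n3937 = n3937 := d2_1 D3937 (iv D3937) F11549
theorem F15496 : act 1 n3937 = n2888 := d9_1 D3937 (iv D2888) (iv F11550)
theorem F15497 : act 4 n3937 = n2976 := d21_2 D2884 D3937 (iv D2976) (iv D2187) (iv F8630)
def n3938 : Q := act 6 n2884
theorem D3938 : act 6 n2884 = n3938 := rfl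
theorem F15500 : act 4 n3938 = n2885 := d27_1 D3938 (iv D2885) D2884
def n3939 : Q := act 7 n2884
theorem D3939 : act 7 n2884 = n3939 := rfl
theorem F15503 : act 4 n3939 = n2886 := d28_1 D3939 (iv D2886) D2884
def n3940 : Q := act 7 n2885
theorem D3940 : act 7 n2885 = n3940 := rfl
theorem F15507 : act 6 n3940 = n2886 := d33_1 D3940 (iv D2886) D2885
def n3942 : Q := act 6 n2888
theorem D3942 : act 6 n2888 = n3942 := rfl
theorem F15514 : act 3 n3942 = n2889 := d23_1 D3942 (iv D2889) D2888
def n3943 : Q := act 7 n2888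
theorem D3943 : act 7 n2888 = n3943 := rfl
theorem F15518 : act 4 n3943 = n2979 := d28_1 D3943 (iv D2979) (iv F11563)
def n3944 : Q := act 5 n2889
theorem D3944 : act 5 n2889 = n3944 := rfl
theorem F15520 : act 2 n3944 = n2893 := d17_1 D3944 (iv D2893) (iv F11565)
def n3945 : Q := act 7 n2889
theorem D3945 : act 7 n2889 = n3945 := rfl
theorem F15522 : act 2 n3945 = n2894 := d19_1 D3945 (iv D2894) (iv F11565)
theorem F15523 : act 4 n3945 = n2891 := d28_1 D3945 (iv D2891) (iv F11566)
def n3946 : Q := act 3 n2890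
theorem D3946 : act 3 n2890 = n3946 := rfl
def n3954 : Q := act 5 n2898
theorem D3954 : act 5 n2898 = n3954 := rfl
theorem F15551 : act 3 n3954 = n2900 := d22_1 D3954 (iv D2900) (iv F11593)
def n3955 : Q := act 7 n2898
theorem D3955 : act 7 n2898 = n3955 := rfl
theorem F15555 : act 6 n3955 = n2899 := d33_1 D3955 (iv D2899) D2898
def n3956 : Q := act 3 n2899
theorem D3956 : act 3 n2899 = n3956 := rfl
theorem F15558 : act 7 n3956 = n2902 := d24_2 D2899 D3956 (iv D2902) (iv D2127) D2125
def n3958 : Q := act 7 n2900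
theorem D3958 : act 7 n2900 = n3958 := rfl
theorem F15563 : act 2 n3958 = n2905 := d19_1 D3958 (iv D2905) (iv F11599)
def n3959 : Q := act 3 n2901
theorem D3959 : act 3 n2901 = n3959 := rfl
def n4019 : Q := act 3 n2949
theorem D4019 : act 3 n2949 = n4019 := rfl
theorem F15771 : act 0 n4019 = n4019 := d2_1 D4019 (iv D4019) F11762
theorem F15772 : act 1 n4019 = n2953 := d9_1 D4019 (iv D2953) (iv F11763)
theorem F15773 : act 5 n4019 = n4019 := d22_2 F11765 D4019 (iv D4019)
theorem F15774 : act 8 n4019 = n2976 := d25_2 (iv F11766) D4019 (iv D2976)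
def n4020 : Q := act 6 n2949
theorem D4020 : act 6 n2949 = n4020 := rfl
theorem F15775 : act 0 n4020 = n4020 := d5_1 D4020 (iv D4020) F11762
theorem F15776 : act 1 n4020 = n2954 := d12_1 D4020 (iv D2954) (iv F11763)
theorem F15777 : act 2 n4020 = n4020 := d18_1 D4020 (iv D4020) F11764
theorem F15778 : act 4 n4020 = n2950 := d27_1 D4020 (iv D2950) D2949
theorem F15779 : act 8 n4020 = n2977 := d34_2 (iv F11766) D4020 (iv D2977)
def n4021 : Q := act 7 n2949
theorem D4021 : act 7 n2949 = n4021 := rfl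
theorem F15780 : act 0 n4021 = n4021 := d6_1 D4021 (iv D4021) F11762
theorem F15781 : act 1 n4021 = n2955 := d13_1 D4021 (iv D2955) (iv F11763)
theorem F15782 : act 2 n4021 = n4021 := d19_1 D4021 (iv D4021) F11764
theorem F15783 : act 4 n4021 = n2951 := d28_1 D4021 (iv D2951) D2949
theorem F15784 : act 5 n4021 = n4021 := d31_1 D4021 (iv D4021) F11765
theorem F15785 : act 8 n4021 = n4021 := d35_2 (iv F11766) D4021 (iv D4021) F11766 F8891
def n4022 : Q := act 7 n2950
theorem D4022 : act 7 n2950 = n4022 := rfl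
theorem F15786 : act 0 n4022 = n4022 := d6_1 D4022 (iv D4022) F11767
theorem F15787 : act 1 n4022 = n2956 := d13_1 D4022 (iv D2956) (iv F11768)
theorem F15788 : act 2 n4022 = n4022 := d19_1 D4022 (iv D4022) F11769
theorem F15789 : act 6 n4022 = n2951 := d33_1 D4022 (iv D2951) D2950
theorem F15790 : act 8 n4022 = n4022 := d35_2 (iv F11770) D4022 (iv D4022) F11770 F8895
def n4023 : Q := act 3 n2951
theorem D4023 : act 3 n2951 = n4023 := rfl
theorem F15791 : act 0 n4023 = n4023 := d2_1 D4023 (iv D4023) F11771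
theorem F15792 : act 1 n4023 = n2957 := d9_1 D4023 (iv D2957) (iv F11772)
theorem F15793 : act 5 n4023 = n2952 := d22_2 (iv F11774) D4023 (iv D2952)
theorem F15794 : act 8 n4023 = n4023 := d25_2 F11775 D4023 (iv D4023)
def n4024 : Q := act 2 n2952
theorem D4024 : act 2 n2952 = n4024 := rfl
theorem F15795 : act 0 n4024 = n4024 := d1_1 D4024 (iv D4024) F11776
theorem F15796 : act 1 n4024 = n4024 := d8_1 D4024 (iv D4024) F11777 F8816 (iv F11777)
theorem F15797 : act 3 n4024 = n4024 := d15_2 D2952 D4024 (iv D4024) (iv D2952) F8801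
theorem F15798 : act 8 n4024 = n4024 := d20_2 F11778 D4024 (iv D4024)
def n4025 : Q := act 4 n2952
theorem D4025 : act 4 n2952 = n4025 := rfl
theorem F15799 : act 0 n4025 = n4025 := d3_1 D4025 (iv D4025) F11776
theorem F15800 : act 1 n4025 = n2958 := d10_1 D4025 (iv D2958) (iv F11777)
theorem F15801 : act 3 n4025 = n4025 := d21_1 D4025 (iv D4025) (iv D2952) F8802 D2952
theorem F15802 : act 8 n4025 = n4025 := d29_2 F11778 D4025 (iv D4025)
def n4026 : Q := act 6 n2953
theorem D4026 : act 6 n2953 = n4026 := rfl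
theorem F15803 : act 0 n4026 = n2962 := d5_1 D4026 (iv D2962) (iv F11779)
theorem F15804 : act 2 n4026 = n4026 := d18_1 D4026 (iv D4026) F11780
theorem F15805 : act 3 n4026 = n2954 := d23_1 D4026 (iv D2954) D2953
theorem F15806 : act 8 n4026 = n2978 := d34_2 (iv F11782) D4026 (iv D2978)
def n4027 : Q := act 7 n2953
theorem D4027 : act 7 n2953 = n4027 := rfl
def n4028 : Q := act 5 n2954
theorem D4028 : act 5 n2954 = n4028 := rfl
theorem F15810 : act 0 n4028 = n2964 := d4_1 D4028 (iv D2964) (iv F11783)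
theorem F15811 : act 2 n4028 = n2959 := d17_1 D4028 (iv D2959) (iv F11784)
theorem F15812 : act 6 n4028 = n4028 := d30_2 D2954 D4028 (iv D4028) (iv D2954) F8806
theorem F15813 : act 8 n4028 = n2980 := d32_2 (iv F11786) D4028 (iv D2980)
def n4029 : Q := act 7 n2954
theorem D4029 : act 7 n2954 = n4029 := rfl
theorem F15814 : act 0 n4029 = n2965 := d6_1 D4029 (iv D2965) (iv F11783)
theorem F15815 : act 2 n4029 = n2960 := d19_1 D4029 (iv D2960) (iv F11784)
theorem F15816 : act 4 n4029 = n2956 := d28_1 D4029 (iv D2956) (iv F11785)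
theorem F15817 : act 6 n4029 = n2955 := d33_1 D4029 (iv D2955) D2954
theorem F15818 : act 8 n4029 = n4029 := d35_2 (iv F11786) D4029 (iv D4029) F11786 F8902
def n4030 : Q := act 3 n2955
theorem D4030 : act 3 n2955 = n4030 := rfl
def n4031 : Q := act 3 n2956
theorem D4031 : act 3 n2956 = n4031 := rfl
theorem F15822 : act 0 n4031 = n2967 := d2_1 D4031 (iv D2967) (iv F11792)
theorem F15823 : act 2 n4031 = n4031 := d15_1 D4031 (iv D4031) F11793 F8830 (iv F11793)
theorem F15824 : act 6 n4031 = n2957 := d23_2 (iv F11794) D4031 (iv D2957)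
theorem F15825 : act 8 n4031 = n4031 := d25_2 F11795 D4031 (iv D4031)
def n4032 : Q := act 4 n2957
theorem D4032 : act 4 n2957 = n4032 := rfl
theorem F15826 : act 0 n4032 = n2968 := d3_1 D4032 (iv D2968) (iv F11796)
def n4033 : Q := act 5 n2958
theorem D4033 : act 5 n2958 = n4033 := rfl
def n4034 : Q := act 7 n2959
theorem D4034 : act 7 n2959 = n4034 := rfl
def n4035 : Q := act 3 n2960
theorem D4035 : act 3 n2960 = n4035 := rfl
def n4036 : Q := act 2 n2961
theorem D4036 : act 2 n2961 = n4036 := rfl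
def n4037 : Q := act 5 n2962
theorem D4037 : act 5 n2962 = n4037 := rfl
theorem F15849 : act 1 n4037 = n4037 := d11_1 D4037 (iv D4037) F11820
theorem F15850 : act 2 n4037 = n4037 := d17_1 D4037 (iv D4037) F11821
theorem F15851 : act 3 n4037 = n2964 := d22_1 D4037 (iv D2964) (iv F11822)
theorem F15852 : act 6 n4037 = n4037 := d30_2 D2962 D4037 (iv D4037) (iv D2962) F8835
theorem F15853 : act 8 n4037 = n2981 := d32_2 (iv F11823) D4037 (iv D2981)
def n4038 : Q := act 7 n2962
theorem D4038 : act 7 n2962 = n4038 := rfl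
theorem F15856 : act 6 n4038 = n2963 := d33_1 D4038 (iv D2963) D2962
def n4039 : Q := act 3 n2963
theorem D4039 : act 3 n2963 = n4039 := rfl
theorem F15859 : act 7 n4039 = n2966 := d24_2 D2963 D4039 (iv D2966) (iv D2177) D2175
def n4041 : Q := act 7 n2964
theorem D4041 : act 7 n2964 = n4041 := rfl
def n4042 : Q := act 3 n2965
theorem D4042 : act 3 n2965 = n4042 := rfl
def n4043 : Q := act 2 n2966
theorem D4043 : act 2 n2966 = n4043 := rfl
theorem F15872 : act 3 n4043 = n2972 := d15_2 D2966 D4043 (iv D2972) (iv D2183) (iv F8842)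
def n4044 : Q := act 4 n2966
theorem D4044 : act 4 n2966 = n4044 := rfl
theorem F15876 : act 3 n4044 = n2968 := d21_1 D4044 (iv D2968) (iv D2179) (iv F8843) D2966
def n4045 : Q := act 4 n2967
theorem D4045 : act 4 n2967 = n4045 := rfl
def n4055 : Q := act 2 n2976
theorem D4055 : act 2 n2976 = n4055 := rfl
theorem F15926 : act 0 n4055 = n4055 := d1_1 D4055 (iv D4055) F11879
theorem F15927 : act 1 n4055 = n4055 := d8_1 D4055 (iv D4055) F11880 F8897 (iv F11880)
theorem F15928 : act 3 n4055 = n4055 := d15_2 D2976 D4055 (iv D4055) (iv D2976) F8889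
theorem F15929 : act 5 n4055 = n4055 := d17_2 F11881 D4055 (iv D4055)
def n4056 : Q := act 6 n2976
theorem D4056 : act 6 n2976 = n4056 := rfl
theorem F15930 : act 0 n4056 = n4056 := d5_1 D4056 (iv D4056) F11879
theorem F15931 : act 1 n4056 = n2978 := d12_1 D4056 (iv D2978) (iv F11880)
theorem F15932 : act 3 n4056 = n2977 := d23_1 D4056 (iv D2977) D2976
def n4057 : Q := act 7 n2976
theorem D4057 : act 7 n2976 = n4057 := rfl
def n4058 : Q := act 5 n2977
theorem D4058 : act 5 n2977 = n4058 := rfl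
theorem F15937 : act 0 n4058 = n4058 := d4_1 D4058 (iv D4058) F11882
theorem F15938 : act 1 n4058 = n2980 := d11_1 D4058 (iv D2980) (iv F11883)
theorem F15939 : act 2 n4058 = n4058 := d17_1 D4058 (iv D4058) F11884
theorem F15940 : act 6 n4058 = n4058 := d30_2 D2977 D4058 (iv D4058) (iv D2977) F8890
theorem F15941 : act 7 n4058 = n4058 := d31_2 F11886 D4058 (iv D4058)
def n4059 : Q := act 5 n2978
theorem D4059 : act 5 n2978 = n4059 := rfl
theorem F15942 : act 0 n4059 = n2981 := d4_1 D4059 (iv D2981) (iv F11887)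
theorem F15943 : act 2 n4059 = n4059 := d17_1 D4059 (iv D4059) F11888
theorem F15944 : act 3 n4059 = n2980 := d22_1 D4059 (iv D2980) (iv F11889)
theorem F15945 : act 6 n4059 = n4059 := d30_2 D2978 D4059 (iv D4059) (iv D2978) F8898
def n4060 : Q := act 7 n2978
theorem D4060 : act 7 n2978 = n4060 := rfl
theorem F15949 : act 6 n4060 = n2979 := d33_1 D4060 (iv D2979) D2978
def n4062 : Q := act 4 n2981
theorem D4062 : act 4 n2981 = n4062 := rfl
theorem F15954 : act 1 n4062 = n4062 := d10_1 D4062 (iv D4062) F11898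
theorem F15955 : act 2 n4062 = n4062 := d16_1 D4062 (iv D4062) F11899
theorem F15956 : act 6 n4062 = n4062 := d27_2 F11901 D4062 (iv D4062)
def n4063 : Q := act 7 n2981
theorem D4063 : act 7 n2981 = n4063 := rfl
theorem F15960 : act 5 n4063 = n2982 := d31_1 D4063 (iv D2982) D2981
def n4145 : Q := act 1 n3044
theorem D4145 : act 1 n3044 = n4145 := rfl
theorem F16302 : act 0 n4145 = n3058 := d0_1 D4145 (iv D3058) F9151 (iv F9123) (iv F12165)
theorem F16303 : act 2 n4145 = n3306 := d8_2 D3044 D4145 (iv D3306) (iv D2425) (iv F9116)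
theorem F16304 : act 3 n4145 = n4145 := d9_2 F12166 D4145 (iv D4145)
theorem F16305 : act 6 n4145 = n4145 := d12_2 F12167 D4145 (iv D4145)
def n4146 : Q := act 5 n3044
theorem D4146 : act 5 n3044 = n4146 := rfl
theorem F16306 : act 0 n4146 = n3048 := d4_1 D4146 (iv D3048) (iv F12165)
theorem F16307 : act 2 n4146 = n3045 := d17_1 D4146 (iv D3045) D3044
theorem F16308 : act 3 n4146 = n4146 := d22_1 D4146 (iv D4146) F12166
def n4147 : Q := act 7 n3044
theorem D4147 : act 7 n3044 = n4147 := rfl
theorem F16309 : act 0 n4147 = n3049 := d6_1 D4147 (iv D3049) (iv F12165)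
theorem F16310 : act 2 n4147 = n3046 := d19_1 D4147 (iv D3046) D3044
theorem F16311 : act 6 n4147 = n4147 := d33_1 D4147 (iv D4147) F12167
def n4148 : Q := act 4 n3045
theorem D4148 : act 4 n3045 = n4148 := rfl
theorem F16312 : act 0 n4148 = n3050 := d3_1 D4148 (iv D3050) (iv F12168)
theorem F16313 : act 1 n4148 = n3309 := d10_1 D4148 (iv D3309) (iv F12169)
theorem F16314 : act 3 n4148 = n4148 := d21_1 D4148 (iv D4148) F12170 F9121 (iv F12170)
def n4149 : Q := act 6 n3045
theorem D4149 : act 6 n3045 = n4149 := rfl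
theorem F16316 : act 1 n4149 = n3310 := d12_1 D4149 (iv D3310) (iv F12169)
theorem F16317 : act 3 n4149 = n3047 := d23_1 D4149 (iv D3047) (iv F12170)
def n4150 : Q := act 7 n3045
theorem D4150 : act 7 n3045 = n4150 := rfl
theorem F16319 : act 0 n4150 = n3052 := d6_1 D4150 (iv D3052) (iv F12168)
theorem F16320 : act 1 n4150 = n3311 := d13_1 D4150 (iv D3311) (iv F12169)
theorem F16321 : act 3 n4150 = n4150 := d24_1 D4150 (iv D4150) F12170 F9122 (iv F12170)
theorem F16322 : act 5 n4150 = n3046 := d31_1 D4150 (iv D3046) D3045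
def n4151 : Q := act 8 n3046
theorem D4151 : act 8 n3046 = n4151 := rfl
theorem F16323 : act 0 n4151 = n3053 := d7_1 D4151 (iv D3053) (iv F12171)
theorem F16324 : act 1 n4151 = n3312 := d14_1 D4151 (iv D3312) (iv F12172)
theorem F16325 : act 3 n4151 = n4151 := d25_1 D4151 (iv D4151) F12173
theorem F16326 : act 6 n4151 = n4151 := d34_1 D4151 (iv D4151) F12174
def n4152 : Q := act 4 n3048
theorem D4152 : act 4 n3048 = n4152 := rfl
theorem F16327 : act 1 n4152 = n3065 := d10_1 D4152 (iv D3065) (iv F12181)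
theorem F16328 : act 2 n4152 = n3050 := d16_1 D4152 (iv D3050) (iv F12182)
def n4153 : Q := act 6 n3048
theorem D4153 : act 6 n3048 = n4153 := rfl
def n4154 : Q := act 7 n3048
theorem D4154 : act 7 n3048 = n4154 := rfl
theorem F16333 : act 1 n4154 = n3067 := d13_1 D4154 (iv D3067) (iv F12181)
theorem F16334 : act 2 n4154 = n3052 := d19_1 D4154 (iv D3052) (iv F12182)
theorem F16335 : act 5 n4154 = n3049 := d31_1 D4154 (iv D3049) D3048
def n4155 : Q := act 3 n3049
theorem D4155 : act 3 n3049 = n4155 := rfl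
theorem F16336 : act 1 n4155 = n3068 := d9_1 D4155 (iv D3068) (iv F12184)
theorem F16337 : act 2 n4155 = n4155 := d15_1 D4155 (iv D4155) F12185 F9129 (iv F12185)
theorem F16338 : act 6 n4155 = n4155 := d23_2 F12186 D4155 (iv D4155)
theorem F16339 : act 7 n4155 = n4155 := d24_2 D3049 D4155 (iv D4155) (iv D3049) F9124
def n4156 : Q := act 8 n3049
theorem D4156 : act 8 n3049 = n4156 := rfl
theorem F16340 : act 1 n4156 = n3069 := d14_1 D4156 (iv D3069) (iv F12184)
theorem F16341 : act 2 n4156 = n3053 := d20_1 D4156 (iv D3053) (iv F12185)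
theorem F16342 : act 6 n4156 = n4156 := d34_1 D4156 (iv D4156) F12186
def n4157 : Q := act 6 n3050
theorem D4157 : act 6 n3050 = n4157 := rfl
theorem F16345 : act 4 n4157 = n3051 := d27_1 D4157 (iv D3051) D3050
def n4158 : Q := act 7 n3050
theorem D4158 : act 7 n3050 = n4158 := rfl
theorem F16346 : act 1 n4158 = n3055 := d13_1 D4158 (iv D3055) (iv F12187)
theorem F16347 : act 4 n4158 = n3052 := d28_1 D4158 (iv D3052) D3050
def n4159 : Q := act 7 n3051
theorem D4159 : act 7 n3051 = n4159 := rfl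
def n4160 : Q := act 8 n3052
theorem D4160 : act 8 n3052 = n4160 := rfl
theorem F16352 : act 1 n4160 = n3057 := d14_1 D4160 (iv D3057) (iv F12192)
theorem F16353 : act 3 n4160 = n4160 := d25_1 D4160 (iv D4160) F12193
theorem F16354 : act 5 n4160 = n3053 := d32_1 D4160 (iv D3053) (iv F12194)
def n4161 : Q := act 5 n3054
theorem D4161 : act 5 n3054 = n4161 := rfl
theorem F16355 : act 0 n4161 = n3322 := d4_1 D4161 (iv D3322) (iv F12198)
def n4162 : Q := act 7 n3054
theorem D4162 : act 7 n3054 = n4162 := rfl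
theorem F16359 : act 0 n4162 = n3323 := d6_1 D4162 (iv D3323) (iv F12198)
def n4163 : Q := act 3 n3055
theorem D4163 : act 3 n3055 = n4163 := rfl
theorem F16363 : act 0 n4163 = n3324 := d2_1 D4163 (iv D3324) (iv F12202)
theorem F16364 : act 4 n4163 = n4163 := d21_2 (iv F12204) D4163 (iv D4163) F12204 F9145
theorem F16365 : act 7 n4163 = n4163 := d24_2 D3055 D4163 (iv D4163) (iv D3055) F9138
def n4164 : Q := act 8 n3055
theorem D4164 : act 8 n3055 = n4164 := rfl
theorem F16366 : act 0 n4164 = n3325 := d7_1 D4164 (iv D3325) (iv F12202)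
theorem F16367 : act 2 n4164 = n3077 := d20_1 D4164 (iv D3077) (iv F12203)
theorem F16368 : act 4 n4164 = n3057 := d29_1 D4164 (iv D3057) (iv F12204)
def n4165 : Q := act 8 n3056
theorem D4165 : act 8 n3056 = n4165 := rfl
theorem F16369 : act 0 n4165 = n3326 := d7_1 D4165 (iv D3326) (iv F12205)
def n4166 : Q := act 5 n3058
theorem D4166 : act 5 n3058 = n4166 := rfl
theorem F16374 : act 1 n4166 = n3059 := d11_1 D4166 (iv D3059) D3058
theorem F16375 : act 2 n4166 = n3348 := d17_1 D4166 (iv D3348) (iv F12214)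
theorem F16376 : act 3 n4166 = n4166 := d22_1 D4166 (iv D4166) F12215
def n4167 : Q := act 7 n3058
theorem D4167 : act 7 n3058 = n4167 := rfl
theorem F16377 : act 1 n4167 = n3060 := d13_1 D4167 (iv D3060) D3058
theorem F16378 : act 2 n4167 = n3349 := d19_1 D4167 (iv D3349) (iv F12214)
theorem F16379 : act 6 n4167 = n4167 := d33_1 D4167 (iv D4167) F12216
def n4168 : Q := act 4 n3059
theorem D4168 : act 4 n3059 = n4168 := rfl
theorem F16380 : act 0 n4168 = n3065 := d3_1 D4168 (iv D3065) (iv F12217)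
theorem F16381 : act 2 n4168 = n3061 := d16_1 D4168 (iv D3061) (iv F12218)
def n4169 : Q := act 6 n3059
theorem D4169 : act 6 n3059 = n4169 := rfl
def n4170 : Q := act 7 n3059
theorem D4170 : act 7 n3059 = n4170 := rfl
theorem F16386 : act 0 n4170 = n3067 := d6_1 D4170 (iv D3067) (iv F12217)
theorem F16387 : act 2 n4170 = n3063 := d19_1 D4170 (iv D3063) (iv F12218)
theorem F16388 : act 5 n4170 = n3060 := d31_1 D4170 (iv D3060) D3059
def n4171 : Q := act 3 n3060
theorem D4171 : act 3 n3060 = n4171 := rfl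
theorem F16389 : act 0 n4171 = n3068 := d2_1 D4171 (iv D3068) (iv F12220)
theorem F16390 : act 2 n4171 = n3113 := d15_1 D4171 (iv D3113) F9273 (iv F9159) (iv F12221)
theorem F16391 : act 6 n4171 = n4171 := d23_2 F12222 D4171 (iv D4171)
theorem F16392 : act 7 n4171 = n4171 := d24_2 D3060 D4171 (iv D4171) (iv D3060) F9152
def n4172 : Q := act 8 n3060
theorem D4172 : act 8 n3060 = n4172 := rfl
theorem F16393 : act 0 n4172 = n3069 := d7_1 D4172 (iv D3069) (iv F12220)
theorem F16394 : act 2 n4172 = n3064 := d20_1 D4172 (iv D3064) (iv F12221)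
theorem F16395 : act 6 n4172 = n4172 := d34_1 D4172 (iv D4172) F12222
def n4173 : Q := act 6 n3061
theorem D4173 : act 6 n3061 = n4173 := rfl
theorem F16397 : act 1 n4173 = n3355 := d12_1 D4173 (iv D3355) (iv F12224)
theorem F16398 : act 3 n4173 = n3086 := d23_1 D4173 (iv D3086) (iv F12225)
def n4174 : Q := act 7 n3061
theorem D4174 : act 7 n3061 = n4174 := rfl
theorem F16400 : act 0 n4174 = n3071 := d6_1 D4174 (iv D3071) (iv F12223)
theorem F16401 : act 1 n4174 = n3356 := d13_1 D4174 (iv D3356) (iv F12224)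
theorem F16402 : act 4 n4174 = n3063 := d28_1 D4174 (iv D3063) D3061
def n4175 : Q := act 7 n3062
theorem D4175 : act 7 n3062 = n4175 := rfl
theorem F16404 : act 1 n4175 = n3357 := d13_1 D4175 (iv D3357) (iv F12227)
theorem F16405 : act 3 n4175 = n3117 := d24_1 D4175 (iv D3117) F9283 (iv F9166) (iv F12228)
def n4176 : Q := act 8 n3063
theorem D4176 : act 8 n3063 = n4176 := rfl
theorem F16408 : act 0 n4176 = n3073 := d7_1 D4176 (iv D3073) (iv F12230)
theorem F16409 : act 1 n4176 = n3358 := d14_1 D4176 (iv D3358) (iv F12231)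
theorem F16410 : act 3 n4176 = n3118 := d25_1 D4176 (iv D3118) (iv F12232)
theorem F16411 : act 5 n4176 = n3064 := d32_1 D4176 (iv D3064) (iv F12233)
def n4177 : Q := act 3 n3065
theorem D4177 : act 3 n3065 = n4177 := rfl
theorem F16412 : act 2 n4177 = n3090 := d15_1 D4177 (iv D3090) F9219 (iv F9172) (iv F12238)
theorem F16413 : act 4 n4177 = n4177 := d21_2 D3065 D4177 (iv D4177) (iv D3065) F9168
def n4178 : Q := act 6 n3065
theorem D4178 : act 6 n3065 = n4178 := rfl
theorem F16415 : act 4 n4178 = n3066 := d27_1 D4178 (iv D3066) D3065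
def n4179 : Q := act 7 n3065
theorem D4179 : act 7 n3065 = n4179 := rfl
theorem F16416 : act 2 n4179 = n3071 := d19_1 D4179 (iv D3071) (iv F12238)
theorem F16417 : act 4 n4179 = n3067 := d28_1 D4179 (iv D3067) D3065
def n4180 : Q := act 7 n3066
theorem D4180 : act 7 n3066 = n4180 := rfl
def n4181 : Q := act 3 n3067
theorem D4181 : act 3 n3067 = n4181 := rfl
theorem F16421 : act 2 n4181 = n3123 := d15_1 D4181 (iv D3123) F9304 (iv F9177) (iv F12242)
theorem F16422 : act 5 n4181 = n3068 := d22_2 (iv F12243) D4181 (iv D3068)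
theorem F16423 : act 7 n4181 = n4181 := d24_2 D3067 D4181 (iv D4181) (iv D3067) F9168
def n4182 : Q := act 8 n3067
theorem D4182 : act 8 n3067 = n4182 := rfl
theorem F16424 : act 2 n4182 = n3073 := d20_1 D4182 (iv D3073) (iv F12242)
theorem F16425 : act 5 n4182 = n3069 := d32_1 D4182 (iv D3069) (iv F12243)
def n4183 : Q := act 4 n3068
theorem D4183 : act 4 n3068 = n4183 := rfl
theorem F16426 : act 2 n4183 = n3125 := d16_1 D4183 (iv D3125) (iv F12244)
theorem F16427 : act 6 n4183 = n4183 := d27_2 F12245 D4183 (iv D4183)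
theorem F16428 : act 7 n4183 = n4183 := d28_2 F12246 D4183 (iv D4183)
def n4184 : Q := act 8 n3068
theorem D4184 : act 8 n3068 = n4184 := rfl
theorem F16429 : act 2 n4184 = n3126 := d20_1 D4184 (iv D3126) (iv F12244)
theorem F16430 : act 3 n4184 = n3069 := d25_1 D4184 (iv D3069) D3068
theorem F16431 : act 6 n4184 = n4184 := d34_1 D4184 (iv D4184) F12245
def n4185 : Q := act 5 n3070
theorem D4185 : act 5 n3070 = n4185 := rfl
def n4186 : Q := act 7 n3070
theorem D4186 : act 7 n3070 = n4186 := rfl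
def n4187 : Q := act 3 n3071
theorem D4187 : act 3 n3071 = n4187 := rfl
theorem F16440 : act 7 n4187 = n3100 := d24_2 D3071 D4187 (iv D3100) (iv D2277) (iv F9172)
def n4188 : Q := act 8 n3071
theorem D4188 : act 8 n3071 = n4188 := rfl
theorem F16441 : act 1 n4188 = n3077 := d14_1 D4188 (iv D3077) (iv F12252)
theorem F16442 : act 4 n4188 = n3073 := d29_1 D4188 (iv D3073) (iv F12253)
def n4189 : Q := act 8 n3072
theorem D4189 : act 8 n3072 = n4189 := rfl
def n4192 : Q := act 8 n3075
theorem D4192 : act 8 n3075 = n4192 := rfl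
theorem F16454 : act 0 n4192 = n3374 := d7_1 D4192 (iv D3374) (iv F12264)
def n4193 : Q := act 2 n3076
theorem D4193 : act 2 n3076 = n4193 := rfl
theorem F16459 : act 7 n4193 = n3106 := d19_2 (iv F12269) D4193 (iv D3106)
def n4194 : Q := act 8 n3076
theorem D4194 : act 8 n3076 = n4194 := rfl
def n4195 : Q := act 4 n3079
theorem D4195 : act 4 n3079 = n4195 := rfl
theorem F16463 : act 0 n4195 = n4195 := d3_1 D4195 (iv D4195) F12276
theorem F16464 : act 1 n4195 = n3081 := d10_1 D4195 (iv D3081) (iv F12277)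
theorem F16465 : act 2 n4195 = n3406 := d16_1 D4195 (iv D3406) (iv F12278)
def n4196 : Q := act 6 n3079
theorem D4196 : act 6 n3079 = n4196 := rfl
theorem F16468 : act 2 n4196 = n3407 := d18_1 D4196 (iv D3407) (iv F12278)
theorem F16470 : act 5 n4196 = n3714 := d30_1 D4196 (iv D3714) (iv D2726) (iv F9197) D3079
def n4197 : Q := act 7 n3079
theorem D4197 : act 7 n3079 = n4197 := rfl
theorem F16474 : act 5 n4197 = n3080 := d31_1 D4197 (iv D3080) D3079
def n4199 : Q := act 8 n3080
theorem D4199 : act 8 n3080 = n4199 := rfl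
def n4200 : Q := act 3 n3081
theorem D4200 : act 3 n3081 = n4200 := rfl
theorem F16484 : act 0 n4200 = n3090 := d2_1 D4200 (iv D3090) (iv F12284)
theorem F16485 : act 4 n4200 = n4200 := d21_2 D3081 D4200 (iv D4200) (iv D3081) F9200
def n4201 : Q := act 6 n3081
theorem D4201 : act 6 n3081 = n4201 := rfl
def n4202 : Q := act 7 n3081
theorem D4202 : act 7 n3081 = n4202 := rfl
def n4205 : Q := act 8 n3083
theorem D4205 : act 8 n3083 = n4205 := rfl
theorem F16502 : act 5 n4205 = n3085 := d32_1 D4205 (iv D3085) (iv F12292)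
def n4208 : Q := act 5 n3086
theorem D4208 : act 5 n3086 = n4208 := rfl
theorem F16513 : act 4 n4208 = n3726 := d26_1 D4208 (iv D3726) F10977 (iv F9209) (iv F12302)
def n4210 : Q := act 3 n3087
theorem D4210 : act 3 n3087 = n4210 := rfl
def n4213 : Q := act 6 n3090
theorem D4213 : act 6 n3090 = n4213 := rfl
def n4214 : Q := act 7 n3090
theorem D4214 : act 7 n3090 = n4214 := rfl
theorem F16532 : act 1 n4214 = n4214 := d13_1 D4214 (iv D4214) F12315
theorem F16533 : act 4 n4214 = n4214 := d28_1 D4214 (iv D4214) F12316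
def n4215 : Q := act 5 n3091
theorem D4215 : act 5 n3091 = n4215 := rfl
def n4217 : Q := act 3 n3092
theorem D4217 : act 3 n3092 = n4217 := rfl
def n4229 : Q := act 2 n3100
theorem D4229 : act 2 n3100 = n4229 := rfl
def n4235 : Q := act 1 n3106
theorem D4235 : act 1 n3106 = n4235 := rfl
def n4239 : Q := act 6 n3108
theorem D4239 : act 6 n3108 = n4239 := rfl
theorem F16613 : act 1 n4239 = n3111 := d12_1 D4239 (iv D3111) (iv F12373)
theorem F16614 : act 2 n4239 = n3440 := d18_1 D4239 (iv D3440) (iv F12374)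
def n4240 : Q := act 7 n3108
theorem D4240 : act 7 n3108 = n4240 := rfl
theorem F16618 : act 0 n4240 = n4240 := d6_1 D4240 (iv D4240) F12372
theorem F16619 : act 1 n4240 = n3112 := d13_1 D4240 (iv D3112) (iv F12373)
theorem F16620 : act 2 n4240 = n3441 := d19_1 D4240 (iv D3441) (iv F12374)
theorem F16621 : act 5 n4240 = n3109 := d31_1 D4240 (iv D3109) D3108
def n4241 : Q := act 3 n3109
theorem D4241 : act 3 n3109 = n4241 := rfl
theorem F16622 : act 0 n4241 = n4241 := d2_1 D4241 (iv D4241) F12377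
theorem F16623 : act 1 n4241 = n3113 := d9_1 D4241 (iv D3113) (iv F12378)
theorem F16624 : act 6 n4241 = n4241 := d23_2 F12381 D4241 (iv D4241)
theorem F16625 : act 7 n4241 = n4241 := d24_2 D3109 D4241 (iv D4241) (iv D3109) F9264
def n4242 : Q := act 8 n3109
theorem D4242 : act 8 n3109 = n4242 := rfl
theorem F16626 : act 0 n4242 = n4242 := d7_1 D4242 (iv D4242) F12377
theorem F16627 : act 1 n4242 = n3114 := d14_1 D4242 (iv D3114) (iv F12378)
theorem F16628 : act 2 n4242 = n3443 := d20_1 D4242 (iv D3443) (iv F12379)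
theorem F16629 : act 4 n4242 = n4242 := d29_1 D4242 (iv D4242) F12380
theorem F16630 : act 6 n4242 = n4242 := d34_1 D4242 (iv D4242) F12381
theorem F16631 : act 7 n4242 = n4242 := d35_1 D4242 (iv D4242) (iv D3109) F9267 D3109
def n4246 : Q := act 7 n3111
theorem D4246 : act 7 n3111 = n4246 := rfl
theorem F16646 : act 2 n4246 = n3117 := d19_1 D4246 (iv D3117) (iv F12387)
def n4247 : Q := act 3 n3112
theorem D4247 : act 3 n3112 = n4247 := rfl
theorem F16649 : act 0 n4247 = n3123 := d2_1 D4247 (iv D3123) (iv F12391)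
theorem F16650 : act 5 n4247 = n3113 := d22_2 (iv F12393) D4247 (iv D3113)
theorem F16651 : act 7 n4247 = n4247 := d24_2 D3112 D4247 (iv D4247) (iv D3112) F9270
def n4248 : Q := act 8 n3112
theorem D4248 : act 8 n3112 = n4248 := rfl
theorem F16652 : act 0 n4248 = n3124 := d7_1 D4248 (iv D3124) (iv F12391)
theorem F16653 : act 2 n4248 = n3118 := d20_1 D4248 (iv D3118) (iv F12392)
theorem F16654 : act 5 n4248 = n3114 := d32_1 D4248 (iv D3114) (iv F12393)
theorem F16655 : act 7 n4248 = n4248 := d35_1 D4248 (iv D4248) (iv D3112) F9271 D3112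
def n4249 : Q := act 4 n3113
theorem D4249 : act 4 n3113 = n4249 := rfl
theorem F16656 : act 0 n4249 = n3125 := d3_1 D4249 (iv D3125) (iv F12394)
theorem F16657 : act 3 n4249 = n4249 := d21_1 D4249 (iv D4249) (iv D3113) F9274 D3113
theorem F16658 : act 6 n4249 = n4249 := d27_2 F12395 D4249 (iv D4249)
theorem F16659 : act 7 n4249 = n4249 := d28_2 F12396 D4249 (iv D4249)
def n4250 : Q := act 8 n3113
theorem D4250 : act 8 n3113 = n4250 := rfl
theorem F16660 : act 0 n4250 = n3126 := d7_1 D4250 (iv D3126) (iv F12394)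
theorem F16661 : act 3 n4250 = n3114 := d25_1 D4250 (iv D3114) D3113
theorem F16662 : act 6 n4250 = n4250 := d34_1 D4250 (iv D4250) F12395
def n4255 : Q := act 8 n3117
theorem D4255 : act 8 n3117 = n4255 := rfl
theorem F16683 : act 1 n4255 = n3455 := d14_1 D4255 (iv D3455) (iv F12412)
def n4264 : Q := act 4 n3123
theorem D4264 : act 4 n3123 = n4264 := rfl
theorem F16721 : act 1 n4264 = n4264 := d10_1 D4264 (iv D4264) F12436
theorem F16722 : act 7 n4264 = n4264 := d28_2 F12438 D4264 (iv D4264)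
def n4265 : Q := act 8 n3123
theorem D4265 : act 8 n3123 = n4265 := rfl
theorem F16723 : act 1 n4265 = n4265 := d14_1 D4265 (iv D4265) F12436
theorem F16724 : act 3 n4265 = n3124 := d25_1 D4265 (iv D3124) D3123
theorem F16725 : act 5 n4265 = n3126 := d32_1 D4265 (iv D3126) (iv F12437)
def n4266 : Q := act 5 n3125
theorem D4266 : act 5 n3125 = n4266 := rfl
theorem F16726 : act 1 n4266 = n4266 := d11_1 D4266 (iv D4266) F12443
theorem F16727 : act 3 n4266 = n4266 := d22_1 D4266 (iv D4266) F12444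
theorem F16728 : act 7 n4266 = n4266 := d31_2 F12446 D4266 (iv D4266)
def n4267 : Q := act 8 n3125
theorem D4267 : act 8 n3125 = n4267 := rfl
theorem F16729 : act 1 n4267 = n4267 := d14_1 D4267 (iv D4267) F12443
theorem F16730 : act 3 n4267 = n4267 := d25_1 D4267 (iv D4267) F12444
theorem F16731 : act 4 n4267 = n3126 := d29_1 D4267 (iv D3126) D3125
theorem F16732 : act 6 n4267 = n4267 := d34_1 D4267 (iv D4267) F12445
def n4268 : Q := act 7 n3126
theorem D4268 : act 7 n3126 = n4268 := rfl
theorem F16733 : act 1 n4268 = n4268 := d13_1 D4268 (iv D4268) F12447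
theorem F16734 : act 3 n4268 = n4268 := d24_1 D4268 (iv D4268) F12448 F9313 (iv F12448)
theorem F16735 : act 6 n4268 = n4268 := d33_1 D4268 (iv D4268) F12449
theorem F16736 : act 8 n4268 = n4268 := d35_2 D3126 D4268 (iv D4268) (iv D3126) F9308
def n4380 : Q := act 2 n3209
theorem D4380 : act 2 n3209 = n4380 := rfl
theorem F17162 : act 0 n4380 = n3211 := d1_1 D4380 (iv D3211) (iv F12778)
theorem F17163 : act 3 n4380 = n4380 := d15_2 D3209 D4380 (iv D4380) (iv D3209) F9566
theorem F17164 : act 4 n4380 = n4380 := d16_2 F12779 D4380 (iv D4380)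
theorem F17165 : act 6 n4380 = n4380 := d18_2 F12780 D4380 (iv D4380)
theorem F17166 : act 8 n4380 = n4380 := d20_2 F12781 D4380 (iv D4380)
def n4381 : Q := act 5 n3209
theorem D4381 : act 5 n3209 = n4381 := rfl
theorem F17167 : act 0 n4381 = n3212 := d4_1 D4381 (iv D3212) (iv F12778)
theorem F17168 : act 3 n4381 = n3210 := d22_1 D4381 (iv D3210) D3209
theorem F17169 : act 8 n4381 = n4381 := d32_2 F12781 D4381 (iv D4381)
def n4382 : Q := act 7 n3209
theorem D4382 : act 7 n3209 = n4382 := rfl
theorem F17170 : act 0 n4382 = n3213 := d6_1 D4382 (iv D3213) (iv F12778)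
theorem F17171 : act 3 n4382 = n3221 := d24_1 D4382 (iv D3221) (iv D2364) (iv F9568) D3209
theorem F17172 : act 4 n4382 = n4382 := d28_1 D4382 (iv D4382) F12779
theorem F17173 : act 6 n4382 = n4382 := d33_1 D4382 (iv D4382) F12780
def n4383 : Q := act 6 n3210
theorem D4383 : act 6 n3210 = n4383 := rfl
theorem F17174 : act 0 n4383 = n3214 := d5_1 D4383 (iv D3214) (iv F12782)
theorem F17175 : act 2 n4383 = n4383 := d18_1 D4383 (iv D4383) F12783
theorem F17176 : act 4 n4383 = n4383 := d27_1 D4383 (iv D4383) F12784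
theorem F17177 : act 5 n4383 = n4383 := d30_1 D4383 (iv D4383) (iv D3210) F9567 D3210
theorem F17178 : act 7 n4383 = n3222 := d33_2 (iv F12785) D4383 (iv D3222)
theorem F17179 : act 8 n4383 = n4383 := d34_2 F12786 D4383 (iv D4383)
def n4384 : Q := act 5 n3211
theorem D4384 : act 5 n3211 = n4384 := rfl
theorem F17180 : act 1 n4384 = n4384 := d11_1 D4384 (iv D4384) F12787
theorem F17181 : act 2 n4384 = n3212 := d17_1 D4384 (iv D3212) D3211
theorem F17182 : act 3 n4384 = n4384 := d22_1 D4384 (iv D4384) F12788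
theorem F17183 : act 8 n4384 = n4384 := d32_2 F12791 D4384 (iv D4384)
def n4385 : Q := act 7 n3211
theorem D4385 : act 7 n3211 = n4385 := rfl
theorem F17184 : act 1 n4385 = n4385 := d13_1 D4385 (iv D4385) F12787
theorem F17185 : act 2 n4385 = n3213 := d19_1 D4385 (iv D3213) D3211
theorem F17186 : act 4 n4385 = n4385 := d28_1 D4385 (iv D4385) F12789
theorem F17187 : act 6 n4385 = n4385 := d33_1 D4385 (iv D4385) F12790
def n4386 : Q := act 4 n3212
theorem D4386 : act 4 n3212 = n4386 := rfl
theorem F17188 : act 1 n4386 = n3215 := d10_1 D4386 (iv D3215) (iv F12792)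
theorem F17189 : act 3 n4386 = n4386 := d21_1 D4386 (iv D4386) F12793 F9576 (iv F12793)
theorem F17190 : act 5 n4386 = n4386 := d26_2 D3212 D4386 (iv D4386) (iv D3212) F9571
theorem F17191 : act 8 n4386 = n4386 := d29_2 F12794 D4386 (iv D4386)
def n4387 : Q := act 6 n3212
theorem D4387 : act 6 n3212 = n4387 := rfl
theorem F17192 : act 1 n4387 = n3216 := d12_1 D4387 (iv D3216) (iv F12792)
theorem F17193 : act 3 n4387 = n3214 := d23_1 D4387 (iv D3214) (iv F12793)
theorem F17194 : act 5 n4387 = n4387 := d30_1 D4387 (iv D4387) (iv D3212) F9572 D3212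
theorem F17195 : act 8 n4387 = n4387 := d34_2 F12794 D4387 (iv D4387)
def n4388 : Q := act 7 n3212
theorem D4388 : act 7 n3212 = n4388 := rfl
theorem F17196 : act 1 n4388 = n3217 := d13_1 D4388 (iv D3217) (iv F12792)
theorem F17197 : act 3 n4388 = n3227 := d24_1 D4388 (iv D3227) F9605 (iv F9577) (iv F12793)
theorem F17198 : act 5 n4388 = n3213 := d31_1 D4388 (iv D3213) D3212
def n4389 : Q := act 8 n3213
theorem D4389 : act 8 n3213 = n4389 := rfl
theorem F17199 : act 1 n4389 = n3218 := d14_1 D4389 (iv D3218) (iv F12795)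
theorem F17200 : act 3 n4389 = n3228 := d25_1 D4389 (iv D3228) (iv F12796)
theorem F17201 : act 4 n4389 = n4389 := d29_1 D4389 (iv D4389) F12797
theorem F17202 : act 6 n4389 = n4389 := d34_1 D4389 (iv D4389) F12798
theorem F17203 : act 7 n4389 = n4389 := d35_1 D4389 (iv D4389) (iv D3213) F9573 D3213
def n4390 : Q := act 6 n3215
theorem D4390 : act 6 n3215 = n4390 := rfl
theorem F17204 : act 2 n4390 = n4390 := d18_1 D4390 (iv D4390) F12805
theorem F17205 : act 3 n4390 = n4390 := d23_1 D4390 (iv D4390) F12806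
theorem F17206 : act 4 n4390 = n3216 := d27_1 D4390 (iv D3216) D3215
theorem F17207 : act 8 n4390 = n4390 := d34_2 F12808 D4390 (iv D4390)
def n4391 : Q := act 7 n3215
theorem D4391 : act 7 n3215 = n4391 := rfl
theorem F17208 : act 2 n4391 = n4391 := d19_1 D4391 (iv D4391) F12805
theorem F17209 : act 4 n4391 = n3217 := d28_1 D4391 (iv D3217) D3215
theorem F17210 : act 5 n4391 = n4391 := d31_1 D4391 (iv D4391) F12807
def n4392 : Q := act 7 n3216
theorem D4392 : act 7 n3216 = n4392 := rfl
theorem F17211 : act 2 n4392 = n4392 := d19_1 D4392 (iv D4392) F12809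
theorem F17212 : act 3 n4392 = n3231 := d24_1 D4392 (iv D3231) F9620 (iv F9589) (iv F12810)
theorem F17213 : act 5 n4392 = n4392 := d31_1 D4392 (iv D4392) F12811
theorem F17214 : act 6 n4392 = n3217 := d33_1 D4392 (iv D3217) D3216
def n4393 : Q := act 8 n3217
theorem D4393 : act 8 n3217 = n4393 := rfl
theorem F17215 : act 2 n4393 = n4393 := d20_1 D4393 (iv D4393) F12813
theorem F17216 : act 3 n4393 = n3232 := d25_1 D4393 (iv D3232) (iv F12814)
theorem F17217 : act 5 n4393 = n3218 := d32_1 D4393 (iv D3218) (iv F12815)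
theorem F17218 : act 7 n4393 = n4393 := d35_1 D4393 (iv D4393) (iv D3217) F9581 D3217
def n4394 : Q := act 1 n3219
theorem D4394 : act 1 n3219 = n4394 := rfl
theorem F17219 : act 0 n4394 = n3233 := d0_1 D4394 (iv D3233) F9629 (iv F9599) (iv F12821)
theorem F17220 : act 3 n4394 = n4394 := d9_2 F12822 D4394 (iv D4394)
theorem F17221 : act 4 n4394 = n3306 := d10_2 (iv F12823) D4394 (iv D3306)
theorem F17222 : act 6 n4394 = n4394 := d12_2 F12824 D4394 (iv D4394)
theorem F17223 : act 8 n4394 = n4145 := d14_2 (iv F12825) D4394 (iv D4145)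
def n4395 : Q := act 5 n3219
theorem D4395 : act 5 n3219 = n4395 := rfl
theorem F17224 : act 0 n4395 = n3223 := d4_1 D4395 (iv D3223) (iv F12821)
theorem F17225 : act 2 n4395 = n3220 := d17_1 D4395 (iv D3220) D3219
theorem F17226 : act 3 n4395 = n4395 := d22_1 D4395 (iv D4395) F12822
theorem F17227 : act 8 n4395 = n4146 := d32_2 (iv F12825) D4395 (iv D4146)
def n4396 : Q := act 7 n3219
theorem D4396 : act 7 n3219 = n4396 := rfl
theorem F17228 : act 0 n4396 = n3224 := d6_1 D4396 (iv D3224) (iv F12821)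
theorem F17229 : act 2 n4396 = n3221 := d19_1 D4396 (iv D3221) D3219
theorem F17230 : act 4 n4396 = n3308 := d28_1 D4396 (iv D3308) (iv F12823)
theorem F17231 : act 6 n4396 = n4396 := d33_1 D4396 (iv D4396) F12824
def n4397 : Q := act 4 n3220
theorem D4397 : act 4 n3220 = n4397 := rfl
theorem F17232 : act 0 n4397 = n3225 := d3_1 D4397 (iv D3225) (iv F12826)
theorem F17233 : act 3 n4397 = n4397 := d21_1 D4397 (iv D4397) F12827 F9597 (iv F12827)
theorem F17234 : act 5 n4397 = n3309 := d26_2 D3220 D4397 (iv D3309) (iv D2426) (iv F9592)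
theorem F17235 : act 8 n4397 = n4148 := d29_2 (iv F12828) D4397 (iv D4148)
def n4398 : Q := act 6 n3220
theorem D4398 : act 6 n3220 = n4398 := rfl
theorem F17236 : act 0 n4398 = n3226 := d5_1 D4398 (iv D3226) (iv F12826)
theorem F17237 : act 3 n4398 = n3222 := d23_1 D4398 (iv D3222) (iv F12827)
theorem F17238 : act 5 n4398 = n4398 := d30_1 D4398 (iv D4398) (iv D3220) F9593 D3220
theorem F17239 : act 8 n4398 = n4149 := d34_2 (iv F12828) D4398 (iv D4149)
def n4399 : Q := act 7 n3220
theorem D4399 : act 7 n3220 = n4399 := rfl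
theorem F17240 : act 0 n4399 = n3227 := d6_1 D4399 (iv D3227) (iv F12826)
theorem F17241 : act 5 n4399 = n3221 := d31_1 D4399 (iv D3221) D3220
def n4400 : Q := act 8 n3221
theorem D4400 : act 8 n3221 = n4400 := rfl
theorem F17242 : act 0 n4400 = n3228 := d7_1 D4400 (iv D3228) (iv F12829)
theorem F17243 : act 4 n4400 = n3312 := d29_1 D4400 (iv D3312) (iv F12830)
theorem F17244 : act 6 n4400 = n4400 := d34_1 D4400 (iv D4400) F12831
theorem F17245 : act 7 n4400 = n4151 := d35_1 D4400 (iv D4151) (iv D3046) (iv F9594) D3221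
def n4401 : Q := act 4 n3223
theorem D4401 : act 4 n3223 = n4401 := rfl
theorem F17246 : act 1 n4401 = n3240 := d10_1 D4401 (iv D3240) (iv F12837)
theorem F17247 : act 2 n4401 = n3225 := d16_1 D4401 (iv D3225) (iv F12838)
theorem F17248 : act 5 n4401 = n3313 := d26_2 D3223 D4401 (iv D3313) (iv D2429) (iv F9601)
theorem F17249 : act 8 n4401 = n4152 := d29_2 (iv F12840) D4401 (iv D4152)
def n4402 : Q := act 6 n3223
theorem D4402 : act 6 n3223 = n4402 := rfl
theorem F17250 : act 1 n4402 = n3241 := d12_1 D4402 (iv D3241) (iv F12837)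
theorem F17251 : act 2 n4402 = n3226 := d18_1 D4402 (iv D3226) (iv F12838)
theorem F17252 : act 3 n4402 = n4402 := d23_1 D4402 (iv D4402) F12839
theorem F17253 : act 5 n4402 = n4402 := d30_1 D4402 (iv D4402) (iv D3223) F9602 D3223
theorem F17254 : act 8 n4402 = n4153 := d34_2 (iv F12840) D4402 (iv D4153)
def n4403 : Q := act 7 n3223
theorem D4403 : act 7 n3223 = n4403 := rfl
theorem F17255 : act 1 n4403 = n3242 := d13_1 D4403 (iv D3242) (iv F12837)
theorem F17256 : act 2 n4403 = n3227 := d19_1 D4403 (iv D3227) (iv F12838)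
theorem F17257 : act 5 n4403 = n3224 := d31_1 D4403 (iv D3224) D3223
def n4404 : Q := act 3 n3224
theorem D4404 : act 3 n3224 = n4404 := rfl
theorem F17258 : act 1 n4404 = n3243 := d9_1 D4404 (iv D3243) (iv F12841)
theorem F17259 : act 6 n4404 = n4404 := d23_2 F12844 D4404 (iv D4404)
theorem F17260 : act 7 n4404 = n4404 := d24_2 D3224 D4404 (iv D4404) (iv D3224) F9600
def n4405 : Q := act 8 n3224
theorem D4405 : act 8 n3224 = n4405 := rfl
theorem F17261 : act 1 n4405 = n3244 := d14_1 D4405 (iv D3244) (iv F12841)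
theorem F17262 : act 2 n4405 = n3228 := d20_1 D4405 (iv D3228) (iv F12842)
theorem F17263 : act 4 n4405 = n3317 := d29_1 D4405 (iv D3317) (iv F12843)
theorem F17264 : act 6 n4405 = n4405 := d34_1 D4405 (iv D4405) F12844
theorem F17265 : act 7 n4405 = n4156 := d35_1 D4405 (iv D4156) (iv D3049) (iv F9603) D3224
def n4406 : Q := act 6 n3225
theorem D4406 : act 6 n3225 = n4406 := rfl
theorem F17266 : act 1 n4406 = n3229 := d12_1 D4406 (iv D3229) (iv F12845)
theorem F17267 : act 3 n4406 = n4406 := d23_1 D4406 (iv D4406) F12846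
theorem F17268 : act 4 n4406 = n3226 := d27_1 D4406 (iv D3226) D3225
theorem F17269 : act 8 n4406 = n4157 := d34_2 (iv F12848) D4406 (iv D4157)
def n4407 : Q := act 7 n3225
theorem D4407 : act 7 n3225 = n4407 := rfl
theorem F17270 : act 1 n4407 = n3230 := d13_1 D4407 (iv D3230) (iv F12845)
theorem F17271 : act 4 n4407 = n3227 := d28_1 D4407 (iv D3227) D3225
theorem F17272 : act 5 n4407 = n3319 := d31_1 D4407 (iv D3319) (iv F12847)
def n4408 : Q := act 7 n3226
theorem D4408 : act 7 n3226 = n4408 := rfl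
theorem F17273 : act 1 n4408 = n3231 := d13_1 D4408 (iv D3231) (iv F12849)
theorem F17274 : act 5 n4408 = n4408 := d31_1 D4408 (iv D4408) F12851
theorem F17275 : act 6 n4408 = n3227 := d33_1 D4408 (iv D3227) D3226
def n4409 : Q := act 8 n3227
theorem D4409 : act 8 n3227 = n4409 := rfl
theorem F17276 : act 1 n4409 = n3232 := d14_1 D4409 (iv D3232) (iv F12853)
theorem F17277 : act 5 n4409 = n3228 := d32_1 D4409 (iv D3228) (iv F12854)
theorem F17278 : act 7 n4409 = n4160 := d35_1 D4409 (iv D4160) (iv D3052) (iv F9606) D3227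
def n4410 : Q := act 5 n3229
theorem D4410 : act 5 n3229 = n4410 := rfl
theorem F17279 : act 2 n4410 = n3249 := d17_1 D4410 (iv D3249) (iv F12859)
theorem F17280 : act 3 n4410 = n4410 := d22_1 D4410 (iv D4410) F12860
theorem F17281 : act 4 n4410 = n4410 := d26_1 D4410 (iv D4410) F12861 F9621 (iv F12861)
theorem F17282 : act 6 n4410 = n3322 := d30_2 D3229 D4410 (iv D3322) (iv D2435) (iv F9617)
theorem F17283 : act 8 n4410 = n4161 := d32_2 (iv F12862) D4410 (iv D4161)
def n4411 : Q := act 7 n3229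
theorem D4411 : act 7 n3229 = n4411 := rfl
theorem F17284 : act 2 n4411 = n3250 := d19_1 D4411 (iv D3250) (iv F12859)
theorem F17285 : act 4 n4411 = n3231 := d28_1 D4411 (iv D3231) (iv F12861)
theorem F17286 : act 6 n4411 = n3230 := d33_1 D4411 (iv D3230) D3229
def n4412 : Q := act 3 n3230
theorem D4412 : act 3 n3230 = n4412 := rfl
theorem F17287 : act 5 n4412 = n3324 := d22_2 (iv F12865) D4412 (iv D3324)
theorem F17288 : act 7 n4412 = n4412 := d24_2 D3230 D4412 (iv D4412) (iv D3230) F9616
def n4413 : Q := act 8 n3230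
theorem D4413 : act 8 n3230 = n4413 := rfl
theorem F17289 : act 2 n4413 = n3252 := d20_1 D4413 (iv D3252) (iv F12863)
theorem F17290 : act 4 n4413 = n3232 := d29_1 D4413 (iv D3232) (iv F12864)
theorem F17291 : act 5 n4413 = n3325 := d32_1 D4413 (iv D3325) (iv F12865)
theorem F17292 : act 7 n4413 = n4164 := d35_1 D4413 (iv D4164) (iv D3055) (iv F9618) D3230
def n4414 : Q := act 8 n3231
theorem D4414 : act 8 n3231 = n4414 := rfl
theorem F17293 : act 2 n4414 = n3253 := d20_1 D4414 (iv D3253) (iv F12866)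
theorem F17294 : act 5 n4414 = n4414 := d32_1 D4414 (iv D4414) F12867
theorem F17295 : act 6 n4414 = n3232 := d34_1 D4414 (iv D3232) (iv F12868)
theorem F17296 : act 7 n4414 = n4165 := d35_1 D4414 (iv D4165) (iv D3056) (iv F9622) D3231
def n4415 : Q := act 5 n3233
theorem D4415 : act 5 n3233 = n4415 := rfl
theorem F17297 : act 1 n4415 = n3234 := d11_1 D4415 (iv D3234) D3233
theorem F17298 : act 3 n4415 = n4415 := d22_1 D4415 (iv D4415) F12872
theorem F17299 : act 8 n4415 = n4166 := d32_2 (iv F12875) D4415 (iv D4166)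
def n4416 : Q := act 7 n3233
theorem D4416 : act 7 n3233 = n4416 := rfl
theorem F17300 : act 1 n4416 = n3235 := d13_1 D4416 (iv D3235) D3233
theorem F17301 : act 4 n4416 = n3349 := d28_1 D4416 (iv D3349) (iv F12873)
theorem F17302 : act 6 n4416 = n4416 := d33_1 D4416 (iv D4416) F12874
def n4417 : Q := act 4 n3234
theorem D4417 : act 4 n3234 = n4417 := rfl
theorem F17303 : act 0 n4417 = n3240 := d3_1 D4417 (iv D3240) (iv F12876)
theorem F17304 : act 2 n4417 = n3236 := d16_1 D4417 (iv D3236) (iv F12877)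
theorem F17305 : act 5 n4417 = n3350 := d26_2 D3234 D4417 (iv D3350) (iv D2454) (iv F9631)
theorem F17306 : act 8 n4417 = n4168 := d29_2 (iv F12879) D4417 (iv D4168)
def n4418 : Q := act 6 n3234
theorem D4418 : act 6 n3234 = n4418 := rfl
theorem F17307 : act 0 n4418 = n3241 := d5_1 D4418 (iv D3241) (iv F12876)
theorem F17308 : act 2 n4418 = n3237 := d18_1 D4418 (iv D3237) (iv F12877)
theorem F17309 : act 3 n4418 = n4418 := d23_1 D4418 (iv D4418) F12878
theorem F17310 : act 5 n4418 = n4418 := d30_1 D4418 (iv D4418) (iv D3234) F9632 D3234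
theorem F17311 : act 8 n4418 = n4169 := d34_2 (iv F12879) D4418 (iv D4169)
def n4419 : Q := act 7 n3234
theorem D4419 : act 7 n3234 = n4419 := rfl
theorem F17312 : act 0 n4419 = n3242 := d6_1 D4419 (iv D3242) (iv F12876)
theorem F17313 : act 2 n4419 = n3238 := d19_1 D4419 (iv D3238) (iv F12877)
theorem F17314 : act 5 n4419 = n3235 := d31_1 D4419 (iv D3235) D3234
def n4420 : Q := act 3 n3235
theorem D4420 : act 3 n3235 = n4420 := rfl
theorem F17315 : act 0 n4420 = n3243 := d2_1 D4420 (iv D3243) (iv F12880)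
theorem F17316 : act 2 n4420 = n4420 := d15_1 D4420 (iv D4420) F12881 F9638 (iv F12881)
theorem F17317 : act 6 n4420 = n4420 := d23_2 F12883 D4420 (iv D4420)
theorem F17318 : act 7 n4420 = n4420 := d24_2 D3235 D4420 (iv D4420) (iv D3235) F9630
def n4421 : Q := act 8 n3235
theorem D4421 : act 8 n3235 = n4421 := rfl
theorem F17319 : act 0 n4421 = n3244 := d7_1 D4421 (iv D3244) (iv F12880)
theorem F17320 : act 2 n4421 = n3239 := d20_1 D4421 (iv D3239) (iv F12881)
theorem F17321 : act 4 n4421 = n3354 := d29_1 D4421 (iv D3354) (iv F12882)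
theorem F17322 : act 6 n4421 = n4421 := d34_1 D4421 (iv D4421) F12883
theorem F17323 : act 7 n4421 = n4172 := d35_1 D4421 (iv D4172) (iv D3060) (iv F9633) D3235
def n4422 : Q := act 6 n3236
theorem D4422 : act 6 n3236 = n4422 := rfl
theorem F17324 : act 0 n4422 = n3245 := d5_1 D4422 (iv D3245) (iv F12884)
theorem F17325 : act 3 n4422 = n3261 := d23_1 D4422 (iv D3261) (iv F12885)
theorem F17326 : act 4 n4422 = n3237 := d27_1 D4422 (iv D3237) D3236
theorem F17327 : act 8 n4422 = n4173 := d34_2 (iv F12887) D4422 (iv D4173)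
def n4423 : Q := act 7 n3236
theorem D4423 : act 7 n3236 = n4423 := rfl
theorem F17328 : act 0 n4423 = n3246 := d6_1 D4423 (iv D3246) (iv F12884)
theorem F17329 : act 4 n4423 = n3238 := d28_1 D4423 (iv D3238) D3236
theorem F17330 : act 5 n4423 = n3356 := d31_1 D4423 (iv D3356) (iv F12886)
def n4424 : Q := act 7 n3237
theorem D4424 : act 7 n3237 = n4424 := rfl
theorem F17331 : act 0 n4424 = n3247 := d6_1 D4424 (iv D3247) (iv F12888)
theorem F17332 : act 3 n4424 = n4424 := d24_1 D4424 (iv D4424) F12889 F9645 (iv F12889)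
theorem F17333 : act 5 n4424 = n4424 := d31_1 D4424 (iv D4424) F12890
theorem F17334 : act 6 n4424 = n3238 := d33_1 D4424 (iv D3238) D3237
def n4425 : Q := act 8 n3238
theorem D4425 : act 8 n3238 = n4425 := rfl
theorem F17335 : act 0 n4425 = n3248 := d7_1 D4425 (iv D3248) (iv F12892)
theorem F17336 : act 3 n4425 = n4425 := d25_1 D4425 (iv D4425) F12893
theorem F17337 : act 5 n4425 = n3239 := d32_1 D4425 (iv D3239) (iv F12894)
theorem F17338 : act 7 n4425 = n4176 := d35_1 D4425 (iv D4176) (iv D3063) (iv F9636) D3238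
def n4426 : Q := act 3 n3240
theorem D4426 : act 3 n3240 = n4426 := rfl
theorem F17339 : act 2 n4426 = n3265 := d15_1 D4426 (iv D3265) F9709 (iv F9654) (iv F12900)
theorem F17340 : act 4 n4426 = n4426 := d21_2 D3240 D4426 (iv D4426) (iv D3240) F9648
theorem F17341 : act 5 n4426 = n3359 := d22_2 (iv F12901) D4426 (iv D3359)
theorem F17342 : act 8 n4426 = n4177 := d25_2 (iv F12902) D4426 (iv D4177)
def n4427 : Q := act 6 n3240
theorem D4427 : act 6 n3240 = n4427 := rfl
theorem F17343 : act 2 n4427 = n3245 := d18_1 D4427 (iv D3245) (iv F12900)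
theorem F17344 : act 4 n4427 = n3241 := d27_1 D4427 (iv D3241) D3240
theorem F17345 : act 8 n4427 = n4178 := d34_2 (iv F12902) D4427 (iv D4178)
def n4428 : Q := act 7 n3240
theorem D4428 : act 7 n3240 = n4428 := rfl
theorem F17346 : act 2 n4428 = n3246 := d19_1 D4428 (iv D3246) (iv F12900)
theorem F17347 : act 4 n4428 = n3242 := d28_1 D4428 (iv D3242) D3240
theorem F17348 : act 5 n4428 = n3361 := d31_1 D4428 (iv D3361) (iv F12901)
def n4429 : Q := act 7 n3241
theorem D4429 : act 7 n3241 = n4429 := rfl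
theorem F17349 : act 2 n4429 = n3247 := d19_1 D4429 (iv D3247) (iv F12903)
theorem F17350 : act 5 n4429 = n4429 := d31_1 D4429 (iv D4429) F12905
theorem F17351 : act 6 n4429 = n3242 := d33_1 D4429 (iv D3242) D3241
def n4430 : Q := act 3 n3242
theorem D4430 : act 3 n3242 = n4430 := rfl
theorem F17352 : act 2 n4430 = n4430 := d15_1 D4430 (iv D4430) F12907 F9662 (iv F12907)
theorem F17353 : act 5 n4430 = n3243 := d22_2 (iv F12908) D4430 (iv D3243)
theorem F17354 : act 7 n4430 = n4430 := d24_2 D3242 D4430 (iv D4430) (iv D3242) F9648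
def n4431 : Q := act 8 n3242
theorem D4431 : act 8 n3242 = n4431 := rfl
theorem F17355 : act 2 n4431 = n3248 := d20_1 D4431 (iv D3248) (iv F12907)
theorem F17356 : act 5 n4431 = n3244 := d32_1 D4431 (iv D3244) (iv F12908)
theorem F17357 : act 7 n4431 = n4182 := d35_1 D4431 (iv D4182) (iv D3067) (iv F9649) D3242
def n4432 : Q := act 4 n3243
theorem D4432 : act 4 n3243 = n4432 := rfl
theorem F17358 : act 2 n4432 = n4432 := d16_1 D4432 (iv D4432) F12909
theorem F17359 : act 3 n4432 = n3365 := d21_1 D4432 (iv D3365) (iv D2463) (iv F9651) D3243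
theorem F17360 : act 6 n4432 = n4432 := d27_2 F12910 D4432 (iv D4432)
theorem F17361 : act 7 n4432 = n4432 := d28_2 F12911 D4432 (iv D4432)
def n4433 : Q := act 8 n3243
theorem D4433 : act 8 n3243 = n4433 := rfl
theorem F17362 : act 2 n4433 = n4433 := d20_1 D4433 (iv D4433) F12909
theorem F17363 : act 3 n4433 = n3244 := d25_1 D4433 (iv D3244) D3243
theorem F17364 : act 6 n4433 = n4433 := d34_1 D4433 (iv D4433) F12910
def n4434 : Q := act 5 n3245
theorem D4434 : act 5 n3245 = n4434 := rfl
theorem F17365 : act 1 n4434 = n3249 := d11_1 D4434 (iv D3249) (iv F12916)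
theorem F17366 : act 3 n4434 = n3272 := d22_1 D4434 (iv D3272) (iv F12917)
theorem F17367 : act 4 n4434 = n4434 := d26_1 D4434 (iv D4434) F12918 F9659 (iv F12918)
theorem F17368 : act 6 n4434 = n3367 := d30_2 D3245 D4434 (iv D3367) (iv D2465) (iv F9655)
theorem F17369 : act 8 n4434 = n4185 := d32_2 (iv F12919) D4434 (iv D4185)
def n4435 : Q := act 7 n3245
theorem D4435 : act 7 n3245 = n4435 := rfl
theorem F17370 : act 1 n4435 = n3250 := d13_1 D4435 (iv D3250) (iv F12916)
theorem F17371 : act 4 n4435 = n3247 := d28_1 D4435 (iv D3247) (iv F12918)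
theorem F17372 : act 6 n4435 = n3246 := d33_1 D4435 (iv D3246) D3245
def n4436 : Q := act 3 n3246
theorem D4436 : act 3 n3246 = n4436 := rfl
theorem F17373 : act 1 n4436 = n3251 := d9_1 D4436 (iv D3251) (iv F12920)
theorem F17374 : act 4 n4436 = n4436 := d21_2 (iv F12921) D4436 (iv D4436) F12921 F9662
theorem F17375 : act 5 n4436 = n3369 := d22_2 (iv F12922) D4436 (iv D3369)
theorem F17376 : act 7 n4436 = n3274 := d24_2 D3246 D4436 (iv D3274) (iv D2401) (iv F9654)
def n4437 : Q := act 8 n3246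
theorem D4437 : act 8 n3246 = n4437 := rfl
theorem F17377 : act 1 n4437 = n3252 := d14_1 D4437 (iv D3252) (iv F12920)
theorem F17378 : act 4 n4437 = n3248 := d29_1 D4437 (iv D3248) (iv F12921)
theorem F17379 : act 5 n4437 = n3370 := d32_1 D4437 (iv D3370) (iv F12922)
theorem F17380 : act 7 n4437 = n4188 := d35_1 D4437 (iv D4188) (iv D3071) (iv F9656) D3246
def n4438 : Q := act 8 n3247
theorem D4438 : act 8 n3247 = n4438 := rfl
theorem F17381 : act 1 n4438 = n3253 := d14_1 D4438 (iv D3253) (iv F12923)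
theorem F17382 : act 3 n4438 = n4438 := d25_1 D4438 (iv D4438) F12924
theorem F17383 : act 5 n4438 = n4438 := d32_1 D4438 (iv D4438) F12925
theorem F17384 : act 6 n4438 = n3248 := d34_1 D4438 (iv D3248) (iv F12926)
theorem F17385 : act 7 n4438 = n4189 := d35_1 D4438 (iv D4189) (iv D3072) (iv F9660) D3247
def n4439 : Q := act 7 n3249
theorem D4439 : act 7 n3249 = n4439 := rfl
theorem F17386 : act 4 n4439 = n4439 := d28_1 D4439 (iv D4439) F12932
theorem F17387 : act 5 n4439 = n3250 := d31_1 D4439 (iv D3250) D3249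
theorem F17388 : act 6 n4439 = n3372 := d33_1 D4439 (iv D3372) (iv F12933)
def n4440 : Q := act 3 n3250
theorem D4440 : act 3 n3250 = n4440 := rfl
theorem F17389 : act 4 n4440 = n4440 := d21_2 (iv F12935) D4440 (iv D4440) F12935 F9674
theorem F17390 : act 6 n4440 = n3251 := d23_2 (iv F12936) D4440 (iv D3251)
theorem F17391 : act 7 n4440 = n3278 := d24_2 D3250 D4440 (iv D3278) (iv D2405) (iv F9669)
def n4441 : Q := act 8 n3250
theorem D4441 : act 8 n3250 = n4441 := rfl
theorem F17392 : act 4 n4441 = n3253 := d29_1 D4441 (iv D3253) (iv F12935)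
theorem F17393 : act 6 n4441 = n3252 := d34_1 D4441 (iv D3252) (iv F12936)
theorem F17394 : act 7 n4441 = n4192 := d35_1 D4441 (iv D4192) (iv D3075) (iv F9671) D3250
def n4442 : Q := act 2 n3251
theorem D4442 : act 2 n3251 = n4442 := rfl
theorem F17395 : act 4 n4442 = n4442 := d16_2 F12937 D4442 (iv D4442)
theorem F17396 : act 5 n4442 = n3375 := d17_2 (iv F12938) D4442 (iv D3375)
theorem F17397 : act 7 n4442 = n3280 := d19_2 (iv F12939) D4442 (iv D3280)
def n4443 : Q := act 8 n3251
theorem D4443 : act 8 n3251 = n4443 := rfl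
theorem F17398 : act 3 n4443 = n3252 := d25_1 D4443 (iv D3252) D3251
theorem F17399 : act 4 n4443 = n4443 := d29_1 D4443 (iv D4443) F12937
theorem F17400 : act 5 n4443 = n3376 := d32_1 D4443 (iv D3376) (iv F12938)
def n4444 : Q := act 4 n3254
theorem D4444 : act 4 n3254 = n4444 := rfl
theorem F17401 : act 0 n4444 = n4444 := d3_1 D4444 (iv D4444) F12947
theorem F17402 : act 1 n4444 = n3256 := d10_1 D4444 (iv D3256) (iv F12948)
theorem F17403 : act 5 n4444 = n3406 := d26_2 D3254 D4444 (iv D3406) (iv D2495) (iv F9682)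
theorem F17404 : act 8 n4444 = n4195 := d29_2 (iv F12950) D4444 (iv D4195)
def n4445 : Q := act 6 n3254
theorem D4445 : act 6 n3254 = n4445 := rfl
theorem F17405 : act 0 n4445 = n4445 := d5_1 D4445 (iv D4445) F12947
theorem F17406 : act 1 n4445 = n3257 := d12_1 D4445 (iv D3257) (iv F12948)
theorem F17407 : act 3 n4445 = n4445 := d23_1 D4445 (iv D4445) F12949
theorem F17408 : act 5 n4445 = n3856 := d30_1 D4445 (iv D3856) (iv D2827) (iv F9683) D3254
theorem F17409 : act 8 n4445 = n4196 := d34_2 (iv F12950) D4445 (iv D4196)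
def n4446 : Q := act 7 n3254
theorem D4446 : act 7 n3254 = n4446 := rfl
theorem F17410 : act 0 n4446 = n4446 := d6_1 D4446 (iv D4446) F12947
theorem F17411 : act 1 n4446 = n3258 := d13_1 D4446 (iv D3258) (iv F12948)
theorem F17412 : act 5 n4446 = n3255 := d31_1 D4446 (iv D3255) D3254
def n4447 : Q := act 3 n3255
theorem D4447 : act 3 n3255 = n4447 := rfl
theorem F17413 : act 0 n4447 = n4447 := d2_1 D4447 (iv D4447) F12951
theorem F17414 : act 1 n4447 = n3259 := d9_1 D4447 (iv D3259) (iv F12952)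
theorem F17415 : act 4 n4447 = n4447 := d21_2 (iv F12953) D4447 (iv D4447) F12953 F10084
theorem F17416 : act 6 n4447 = n3858 := d23_2 (iv F12954) D4447 (iv D3858)
theorem F17417 : act 7 n4447 = n4447 := d24_2 D3255 D4447 (iv D4447) (iv D3255) F9681
def n4448 : Q := act 8 n3255
theorem D4448 : act 8 n3255 = n4448 := rfl
theorem F17418 : act 0 n4448 = n4448 := d7_1 D4448 (iv D4448) F12951
theorem F17419 : act 1 n4448 = n3260 := d14_1 D4448 (iv D3260) (iv F12952)
theorem F17420 : act 4 n4448 = n3409 := d29_1 D4448 (iv D3409) (iv F12953)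
theorem F17422 : act 7 n4448 = n4199 := d35_1 D4448 (iv D4199) (iv D3080) (iv F9684) D3255
def n4449 : Q := act 3 n3256
theorem D4449 : act 3 n3256 = n4449 := rfl
theorem F17423 : act 0 n4449 = n3265 := d2_1 D4449 (iv D3265) (iv F12955)
theorem F17424 : act 4 n4449 = n4449 := d21_2 D3256 D4449 (iv D4449) (iv D3256) F9687
theorem F17425 : act 5 n4449 = n3410 := d22_2 (iv F12957) D4449 (iv D3410)
theorem F17426 : act 8 n4449 = n4200 := d25_2 (iv F12958) D4449 (iv D4200)
def n4450 : Q := act 6 n3256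
theorem D4450 : act 6 n3256 = n4450 := rfl
theorem F17427 : act 0 n4450 = n3266 := d5_1 D4450 (iv D3266) (iv F12955)
theorem F17428 : act 2 n4450 = n3261 := d18_1 D4450 (iv D3261) (iv F12956)
theorem F17429 : act 4 n4450 = n3257 := d27_1 D4450 (iv D3257) D3256
theorem F17430 : act 8 n4450 = n4201 := d34_2 (iv F12958) D4450 (iv D4201)
def n4451 : Q := act 7 n3256
theorem D4451 : act 7 n3256 = n4451 := rfl
theorem F17431 : act 0 n4451 = n3267 := d6_1 D4451 (iv D3267) (iv F12955)
theorem F17432 : act 2 n4451 = n3262 := d19_1 D4451 (iv D3262) (iv F12956)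
theorem F17433 : act 4 n4451 = n3258 := d28_1 D4451 (iv D3258) D3256
theorem F17434 : act 5 n4451 = n3412 := d31_1 D4451 (iv D3412) (iv F12957)
def n4452 : Q := act 7 n3257
theorem D4452 : act 7 n3257 = n4452 := rfl
theorem F17435 : act 0 n4452 = n3268 := d6_1 D4452 (iv D3268) (iv F12959)
theorem F17436 : act 2 n4452 = n3263 := d19_1 D4452 (iv D3263) (iv F12960)
theorem F17437 : act 5 n4452 = n3863 := d31_1 D4452 (iv D3863) (iv F12962)
theorem F17438 : act 6 n4452 = n3258 := d33_1 D4452 (iv D3258) D3257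
def n4453 : Q := act 3 n3258
theorem D4453 : act 3 n3258 = n4453 := rfl
theorem F17439 : act 0 n4453 = n3269 := d2_1 D4453 (iv D3269) (iv F12964)
theorem F17440 : act 2 n4453 = n4453 := d15_1 D4453 (iv D4453) F12965 F9701 (iv F12965)
theorem F17441 : act 5 n4453 = n3259 := d22_2 (iv F12966) D4453 (iv D3259)
theorem F17442 : act 7 n4453 = n4453 := d24_2 D3258 D4453 (iv D4453) (iv D3258) F9687
def n4454 : Q := act 8 n3258
theorem D4454 : act 8 n3258 = n4454 := rfl
theorem F17443 : act 0 n4454 = n3270 := d7_1 D4454 (iv D3270) (iv F12964)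
theorem F17444 : act 2 n4454 = n3264 := d20_1 D4454 (iv D3264) (iv F12965)
theorem F17445 : act 5 n4454 = n3260 := d32_1 D4454 (iv D3260) (iv F12966)
theorem F17446 : act 7 n4454 = n4205 := d35_1 D4454 (iv D4205) (iv D3083) (iv F9688) D3258
def n4455 : Q := act 8 n3259
theorem D4455 : act 8 n3259 = n4455 := rfl
theorem F17447 : act 0 n4455 = n3271 := d7_1 D4455 (iv D3271) (iv F12967)
theorem F17448 : act 2 n4455 = n4455 := d20_1 D4455 (iv D4455) F12968
theorem F17449 : act 3 n4455 = n3260 := d25_1 D4455 (iv D3260) D3259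
theorem F17450 : act 4 n4455 = n4455 := d29_1 D4455 (iv D4455) F12969
def n4456 : Q := act 5 n3261
theorem D4456 : act 5 n3261 = n4456 := rfl
theorem F17452 : act 0 n4456 = n3272 := d4_1 D4456 (iv D3272) (iv F12977)
theorem F17453 : act 4 n4456 = n3867 := d26_1 D4456 (iv D3867) F11355 (iv F9698) (iv F12978)
theorem F17454 : act 6 n4456 = n3415 := d30_2 D3261 D4456 (iv D3415) (iv D2501) (iv F9694)
theorem F17455 : act 8 n4456 = n4208 := d32_2 (iv F12979) D4456 (iv D4208)
def n4457 : Q := act 7 n3261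
theorem D4457 : act 7 n3261 = n4457 := rfl
theorem F17456 : act 0 n4457 = n3273 := d6_1 D4457 (iv D3273) (iv F12977)
theorem F17457 : act 4 n4457 = n3263 := d28_1 D4457 (iv D3263) (iv F12978)
theorem F17458 : act 6 n4457 = n3262 := d33_1 D4457 (iv D3262) D3261
def n4458 : Q := act 3 n3262
theorem D4458 : act 3 n3262 = n4458 := rfl
theorem F17459 : act 0 n4458 = n3274 := d2_1 D4458 (iv D3274) (iv F12980)
theorem F17460 : act 4 n4458 = n4458 := d21_2 (iv F12981) D4458 (iv D4458) F12981 F9701
theorem F17461 : act 5 n4458 = n3417 := d22_2 (iv F12982) D4458 (iv D3417)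
def n4459 : Q := act 8 n3262
theorem D4459 : act 8 n3262 = n4459 := rfl
theorem F17463 : act 4 n4459 = n3264 := d29_1 D4459 (iv D3264) (iv F12981)
def n4460 : Q := act 8 n3263
theorem D4460 : act 8 n3263 = n4460 := rfl
theorem F17466 : act 0 n4460 = n3276 := d7_1 D4460 (iv D3276) (iv F12983)
theorem F17469 : act 6 n4460 = n3264 := d34_1 D4460 (iv D3264) (iv F12986)
def n4461 : Q := act 6 n3265
theorem D4461 : act 6 n3265 = n4461 := rfl
theorem F17471 : act 1 n4461 = n4461 := d12_1 D4461 (iv D4461) F12991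
theorem F17472 : act 3 n4461 = n3266 := d23_1 D4461 (iv D3266) D3265
theorem F17473 : act 4 n4461 = n4461 := d27_1 D4461 (iv D4461) F12992
theorem F17474 : act 8 n4461 = n4213 := d34_2 (iv F12994) D4461 (iv D4213)
def n4462 : Q := act 7 n3265
theorem D4462 : act 7 n3265 = n4462 := rfl
theorem F17475 : act 1 n4462 = n4462 := d13_1 D4462 (iv D4462) F12991
theorem F17476 : act 4 n4462 = n4462 := d28_1 D4462 (iv D4462) F12992
theorem F17477 : act 5 n4462 = n3421 := d31_1 D4462 (iv D3421) (iv F12993)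
def n4463 : Q := act 5 n3266
theorem D4463 : act 5 n3266 = n4463 := rfl
theorem F17478 : act 1 n4463 = n4463 := d11_1 D4463 (iv D4463) F12995
theorem F17479 : act 2 n4463 = n3272 := d17_1 D4463 (iv D3272) (iv F12996)
theorem F17480 : act 4 n4463 = n3874 := d26_1 D4463 (iv D3874) F11374 (iv F9715) (iv F12997)
theorem F17481 : act 6 n4463 = n3422 := d30_2 D3266 D4463 (iv D3422) (iv D2506) (iv F9710)
theorem F17482 : act 8 n4463 = n4215 := d32_2 (iv F12998) D4463 (iv D4215)
def n4464 : Q := act 7 n3266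
theorem D4464 : act 7 n3266 = n4464 := rfl
theorem F17483 : act 1 n4464 = n4464 := d13_1 D4464 (iv D4464) F12995
theorem F17484 : act 2 n4464 = n3273 := d19_1 D4464 (iv D3273) (iv F12996)
theorem F17485 : act 4 n4464 = n3268 := d28_1 D4464 (iv D3268) (iv F12997)
theorem F17486 : act 6 n4464 = n3267 := d33_1 D4464 (iv D3267) D3266
def n4465 : Q := act 3 n3267
theorem D4465 : act 3 n3267 = n4465 := rfl
theorem F17487 : act 1 n4465 = n4465 := d9_1 D4465 (iv D4465) F12999
theorem F17488 : act 5 n4465 = n3424 := d22_2 (iv F13002) D4465 (iv D3424)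
def n4466 : Q := act 8 n3267
theorem D4466 : act 8 n3267 = n4466 := rfl
theorem F17491 : act 4 n4466 = n3270 := d29_1 D4466 (iv D3270) (iv F13001)
def n4467 : Q := act 3 n3268
theorem D4467 : act 3 n3268 = n4467 := rfl
theorem F17494 : act 1 n4467 = n4467 := d9_1 D4467 (iv D4467) F13003
theorem F17495 : act 2 n4467 = n4467 := d15_1 D4467 (iv D4467) F13004 F9737 (iv F13004)
theorem F17496 : act 5 n4467 = n3878 := d22_2 (iv F13005) D4467 (iv D3878)
theorem F17497 : act 6 n4467 = n3269 := d23_2 (iv F13006) D4467 (iv D3269)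
theorem F17498 : act 7 n4467 = n4467 := d24_2 D3268 D4467 (iv D4467) (iv D3268) F9714
def n4468 : Q := act 8 n3268
theorem D4468 : act 8 n3268 = n4468 := rfl
theorem F17502 : act 6 n4468 = n3270 := d34_1 D4468 (iv D3270) (iv F13006)
def n4469 : Q := act 4 n3269
theorem D4469 : act 4 n3269 = n4469 := rfl
theorem F17504 : act 1 n4469 = n4469 := d10_1 D4469 (iv D4469) F13007
theorem F17505 : act 2 n4469 = n4469 := d16_1 D4469 (iv D4469) F13008
theorem F17506 : act 5 n4469 = n4469 := d26_2 (iv F13009) D4469 (iv D4469) F13009 F9722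
theorem F17507 : act 7 n4469 = n4469 := d28_2 F13010 D4469 (iv D4469)
def n4470 : Q := act 8 n3269
theorem D4470 : act 8 n3269 = n4470 := rfl
theorem F17508 : act 1 n4470 = n4470 := d14_1 D4470 (iv D4470) F13007
theorem F17509 : act 2 n4470 = n4470 := d20_1 D4470 (iv D4470) F13008
theorem F17510 : act 3 n4470 = n3270 := d25_1 D4470 (iv D3270) D3269
theorem F17511 : act 5 n4470 = n3271 := d32_1 D4470 (iv D3271) (iv F13009)
def n4471 : Q := act 7 n3271
theorem D4471 : act 7 n3271 = n4471 := rfl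
def n4472 : Q := act 7 n3272
theorem D4472 : act 7 n3272 = n4472 := rfl
theorem F17519 : act 4 n4472 = n3883 := d28_1 D4472 (iv D3883) (iv F13021)
def n4473 : Q := act 3 n3273
theorem D4473 : act 3 n3273 = n4473 := rfl
theorem F17522 : act 1 n4473 = n3278 := d9_1 D4473 (iv D3278) (iv F13024)
theorem F17523 : act 4 n4473 = n4473 := d21_2 (iv F13025) D4473 (iv D4473) F13025 F9737
theorem F17524 : act 6 n4473 = n3274 := d23_2 (iv F13026) D4473 (iv D3274)
def n4474 : Q := act 8 n3273
theorem D4474 : act 8 n3273 = n4474 := rfl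
theorem F17526 : act 4 n4474 = n3276 := d29_1 D4474 (iv D3276) (iv F13025)
def n4475 : Q := act 2 n3274
theorem D4475 : act 2 n3274 = n4475 := rfl
theorem F17529 : act 4 n4475 = n4475 := d16_2 F13028 D4475 (iv D4475)
theorem F17530 : act 5 n4475 = n3430 := d17_2 (iv F13029) D4475 (iv D3430)
def n4476 : Q := act 8 n3274
theorem D4476 : act 8 n3274 = n4476 := rfl
theorem F17532 : act 3 n4476 = n3275 := d25_1 D4476 (iv D3275) D3274
def n4477 : Q := act 3 n3277
theorem D4477 : act 3 n3277 = n4477 := rfl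
def n4479 : Q := act 2 n3278
theorem D4479 : act 2 n3278 = n4479 := rfl
theorem F17542 : act 3 n4479 = n4479 := d15_2 D3278 D4479 (iv D4479) (iv D3278) F9748
theorem F17543 : act 4 n4479 = n4479 := d16_2 F13043 D4479 (iv D4479)
theorem F17544 : act 6 n4479 = n3280 := d18_2 (iv F13044) D4479 (iv D3280)
def n4480 : Q := act 8 n3278
theorem D4480 : act 8 n3278 = n4480 := rfl
theorem F17545 : act 3 n4480 = n3279 := d25_1 D4480 (iv D3279) D3278
def n4481 : Q := act 1 n3280
theorem D4481 : act 1 n3280 = n4481 := rfl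
theorem F17548 : act 3 n4481 = n4481 := d9_2 F13049 D4481 (iv D4481)
theorem F17549 : act 4 n4481 = n4481 := d10_2 F13050 D4481 (iv D4481)
theorem F17550 : act 5 n4481 = n3436 := d11_2 (iv F13051) D4481 (iv D3436)
def n4482 : Q := act 8 n3280
theorem D4482 : act 8 n3280 = n4482 := rfl
theorem F17551 : act 2 n4482 = n3281 := d20_1 D4482 (iv D3281) D3280
def n4483 : Q := act 7 n3281
theorem D4483 : act 7 n3281 = n4483 := rfl
def n4484 : Q := act 2 n3282
theorem D4484 : act 2 n3282 = n4484 := rfl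
theorem F17558 : act 0 n4484 = n3284 := d1_1 D4484 (iv D3284) (iv F13055)
theorem F17559 : act 3 n4484 = n3521 := d15_2 D3282 D4484 (iv D3521) (iv D2580) (iv F9764)
theorem F17560 : act 4 n4484 = n4484 := d16_2 F13057 D4484 (iv D4484)
theorem F17561 : act 6 n4484 = n4484 := d18_2 F13058 D4484 (iv D4484)
theorem F17562 : act 8 n4484 = n4484 := d20_2 F13059 D4484 (iv D4484)
def n4485 : Q := act 5 n3282
theorem D4485 : act 5 n3282 = n4485 := rfl
theorem F17563 : act 0 n4485 = n3285 := d4_1 D4485 (iv D3285) (iv F13055)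
theorem F17564 : act 1 n4485 = n4381 := d11_1 D4485 (iv D4381) (iv F13056)
theorem F17565 : act 3 n4485 = n3283 := d22_1 D4485 (iv D3283) D3282
theorem F17566 : act 8 n4485 = n4485 := d32_2 F13059 D4485 (iv D4485)
def n4486 : Q := act 7 n3282
theorem D4486 : act 7 n3282 = n4486 := rfl
theorem F17567 : act 0 n4486 = n3286 := d6_1 D4486 (iv D3286) (iv F13055)
theorem F17568 : act 1 n4486 = n4382 := d13_1 D4486 (iv D4382) (iv F13056)
theorem F17569 : act 3 n4486 = n3294 := d24_1 D4486 (iv D3294) (iv D2415) (iv F9766) D3282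
theorem F17570 : act 4 n4486 = n4486 := d28_1 D4486 (iv D4486) F13057
theorem F17571 : act 6 n4486 = n4486 := d33_1 D4486 (iv D4486) F13058
def n4487 : Q := act 6 n3283
theorem D4487 : act 6 n3283 = n4487 := rfl
theorem F17572 : act 0 n4487 = n3287 := d5_1 D4487 (iv D3287) (iv F13060)
theorem F17573 : act 1 n4487 = n4383 := d12_1 D4487 (iv D4383) (iv F13061)
theorem F17574 : act 2 n4487 = n3524 := d18_1 D4487 (iv D3524) (iv F13062)
theorem F17575 : act 4 n4487 = n4487 := d27_1 D4487 (iv D4487) F13063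
theorem F17576 : act 5 n4487 = n4487 := d30_1 D4487 (iv D4487) (iv D3283) F9765 D3283
theorem F17577 : act 7 n4487 = n3295 := d33_2 (iv F13064) D4487 (iv D3295)
theorem F17578 : act 8 n4487 = n4487 := d34_2 F13065 D4487 (iv D4487)
def n4488 : Q := act 5 n3284
theorem D4488 : act 5 n3284 = n4488 := rfl
theorem F17579 : act 1 n4488 = n4488 := d11_1 D4488 (iv D4488) F13066
theorem F17580 : act 2 n4488 = n3285 := d17_1 D4488 (iv D3285) D3284
theorem F17581 : act 3 n4488 = n3525 := d22_1 D4488 (iv D3525) (iv F13067)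
theorem F17582 : act 8 n4488 = n4488 := d32_2 F13070 D4488 (iv D4488)
def n4489 : Q := act 7 n3284
theorem D4489 : act 7 n3284 = n4489 := rfl
theorem F17583 : act 1 n4489 = n4489 := d13_1 D4489 (iv D4489) F13066
theorem F17584 : act 2 n4489 = n3286 := d19_1 D4489 (iv D3286) D3284
theorem F17585 : act 4 n4489 = n4489 := d28_1 D4489 (iv D4489) F13068
theorem F17586 : act 6 n4489 = n4489 := d33_1 D4489 (iv D4489) F13069
def n4490 : Q := act 4 n3285
theorem D4490 : act 4 n3285 = n4490 := rfl
theorem F17587 : act 1 n4490 = n3288 := d10_1 D4490 (iv D3288) (iv F13071)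
theorem F17588 : act 3 n4490 = n4490 := d21_1 D4490 (iv D4490) F13072 F9774 (iv F13072)
theorem F17589 : act 5 n4490 = n4490 := d26_2 D3285 D4490 (iv D4490) (iv D3285) F9769
theorem F17590 : act 8 n4490 = n4490 := d29_2 F13073 D4490 (iv D4490)
def n4491 : Q := act 6 n3285
theorem D4491 : act 6 n3285 = n4491 := rfl
theorem F17591 : act 1 n4491 = n3289 := d12_1 D4491 (iv D3289) (iv F13071)
theorem F17592 : act 3 n4491 = n3287 := d23_1 D4491 (iv D3287) (iv F13072)
theorem F17593 : act 5 n4491 = n4491 := d30_1 D4491 (iv D4491) (iv D3285) F9770 D3285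
theorem F17594 : act 8 n4491 = n4491 := d34_2 F13073 D4491 (iv D4491)
def n4492 : Q := act 7 n3285
theorem D4492 : act 7 n3285 = n4492 := rfl
theorem F17595 : act 1 n4492 = n3290 := d13_1 D4492 (iv D3290) (iv F13071)
theorem F17596 : act 3 n4492 = n3300 := d24_1 D4492 (iv D3300) F9808 (iv F9775) (iv F13072)
theorem F17597 : act 5 n4492 = n3286 := d31_1 D4492 (iv D3286) D3285
def n4493 : Q := act 8 n3286
theorem D4493 : act 8 n3286 = n4493 := rfl
theorem F17598 : act 1 n4493 = n3291 := d14_1 D4493 (iv D3291) (iv F13074)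
theorem F17599 : act 3 n4493 = n3301 := d25_1 D4493 (iv D3301) (iv F13075)
theorem F17600 : act 4 n4493 = n4493 := d29_1 D4493 (iv D4493) F13076
theorem F17601 : act 6 n4493 = n4493 := d34_1 D4493 (iv D4493) F13077
theorem F17602 : act 7 n4493 = n4493 := d35_1 D4493 (iv D4493) (iv D3286) F9771 D3286
def n4494 : Q := act 6 n3288
theorem D4494 : act 6 n3288 = n4494 := rfl
theorem F17603 : act 0 n4494 = n4390 := d5_1 D4494 (iv D4390) (iv F13084)
theorem F17604 : act 2 n4494 = n4494 := d18_1 D4494 (iv D4494) F13085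
theorem F17605 : act 3 n4494 = n4494 := d23_1 D4494 (iv D4494) F13086
theorem F17606 : act 4 n4494 = n3289 := d27_1 D4494 (iv D3289) D3288
theorem F17607 : act 8 n4494 = n4494 := d34_2 F13088 D4494 (iv D4494)
def n4495 : Q := act 7 n3288
theorem D4495 : act 7 n3288 = n4495 := rfl
theorem F17608 : act 0 n4495 = n4391 := d6_1 D4495 (iv D4391) (iv F13084)
theorem F17609 : act 2 n4495 = n4495 := d19_1 D4495 (iv D4495) F13085
theorem F17610 : act 4 n4495 = n3290 := d28_1 D4495 (iv D3290) D3288
theorem F17611 : act 5 n4495 = n4495 := d31_1 D4495 (iv D4495) F13087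
def n4496 : Q := act 7 n3289
theorem D4496 : act 7 n3289 = n4496 := rfl
theorem F17612 : act 0 n4496 = n4392 := d6_1 D4496 (iv D4392) (iv F13089)
theorem F17613 : act 2 n4496 = n4496 := d19_1 D4496 (iv D4496) F13090
theorem F17614 : act 3 n4496 = n3304 := d24_1 D4496 (iv D3304) F9825 (iv F9790) (iv F13091)
theorem F17615 : act 5 n4496 = n4496 := d31_1 D4496 (iv D4496) F13092
theorem F17616 : act 6 n4496 = n3290 := d33_1 D4496 (iv D3290) D3289
def n4497 : Q := act 8 n3290
theorem D4497 : act 8 n3290 = n4497 := rfl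
theorem F17617 : act 0 n4497 = n4393 := d7_1 D4497 (iv D4393) (iv F13094)
theorem F17618 : act 2 n4497 = n4497 := d20_1 D4497 (iv D4497) F13095
theorem F17619 : act 3 n4497 = n3305 := d25_1 D4497 (iv D3305) (iv F13096)
theorem F17620 : act 5 n4497 = n3291 := d32_1 D4497 (iv D3291) (iv F13097)
theorem F17621 : act 7 n4497 = n4497 := d35_1 D4497 (iv D4497) (iv D3290) F9780 D3290
def n4498 : Q := act 1 n3292
theorem D4498 : act 1 n3292 = n4498 := rfl
theorem F17622 : act 0 n4498 = n3327 := d0_1 D4498 (iv D3327) F9878 (iv F9802) (iv F13104)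
theorem F17623 : act 2 n4498 = n4394 := d8_2 D3292 D4498 (iv D4394) (iv D3219) (iv F9793)
theorem F17624 : act 3 n4498 = n3535 := d9_2 (iv F13105) D4498 (iv D3535)
theorem F17625 : act 4 n4498 = n4145 := d10_2 (iv F13106) D4498 (iv D4145)
theorem F17626 : act 6 n4498 = n4498 := d12_2 F13107 D4498 (iv D4498)
theorem F17627 : act 8 n4498 = n3306 := d14_2 (iv F13108) D4498 (iv D3306)
def n4499 : Q := act 5 n3292
theorem D4499 : act 5 n3292 = n4499 := rfl
theorem F17628 : act 0 n4499 = n3296 := d4_1 D4499 (iv D3296) (iv F13104)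
theorem F17629 : act 2 n4499 = n3293 := d17_1 D4499 (iv D3293) D3292
theorem F17630 : act 3 n4499 = n3536 := d22_1 D4499 (iv D3536) (iv F13105)
theorem F17631 : act 8 n4499 = n3307 := d32_2 (iv F13108) D4499 (iv D3307)
def n4500 : Q := act 7 n3292
theorem D4500 : act 7 n3292 = n4500 := rfl
theorem F17632 : act 0 n4500 = n3297 := d6_1 D4500 (iv D3297) (iv F13104)
theorem F17633 : act 2 n4500 = n3294 := d19_1 D4500 (iv D3294) D3292
theorem F17634 : act 4 n4500 = n4147 := d28_1 D4500 (iv D4147) (iv F13106)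
theorem F17635 : act 6 n4500 = n4500 := d33_1 D4500 (iv D4500) F13107
def n4501 : Q := act 4 n3293
theorem D4501 : act 4 n3293 = n4501 := rfl
theorem F17636 : act 0 n4501 = n3298 := d3_1 D4501 (iv D3298) (iv F13109)
theorem F17637 : act 1 n4501 = n4397 := d10_1 D4501 (iv D4397) (iv F13110)
theorem F17638 : act 3 n4501 = n4501 := d21_1 D4501 (iv D4501) F13111 F9800 (iv F13111)
theorem F17639 : act 5 n4501 = n4148 := d26_2 D3293 D4501 (iv D4148) (iv D3045) (iv F9794)
theorem F17640 : act 8 n4501 = n3309 := d29_2 (iv F13112) D4501 (iv D3309)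
def n4502 : Q := act 6 n3293
theorem D4502 : act 6 n3293 = n4502 := rfl
theorem F17641 : act 0 n4502 = n3299 := d5_1 D4502 (iv D3299) (iv F13109)
theorem F17642 : act 1 n4502 = n4398 := d12_1 D4502 (iv D4398) (iv F13110)
theorem F17643 : act 3 n4502 = n3295 := d23_1 D4502 (iv D3295) (iv F13111)
theorem F17644 : act 5 n4502 = n4502 := d30_1 D4502 (iv D4502) (iv D3293) F9795 D3293
theorem F17645 : act 8 n4502 = n3310 := d34_2 (iv F13112) D4502 (iv D3310)
def n4503 : Q := act 7 n3293
theorem D4503 : act 7 n3293 = n4503 := rfl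
theorem F17646 : act 0 n4503 = n3300 := d6_1 D4503 (iv D3300) (iv F13109)
theorem F17647 : act 1 n4503 = n4399 := d13_1 D4503 (iv D4399) (iv F13110)
theorem F17648 : act 5 n4503 = n3294 := d31_1 D4503 (iv D3294) D3293
def n4504 : Q := act 8 n3294
theorem D4504 : act 8 n3294 = n4504 := rfl
theorem F17649 : act 0 n4504 = n3301 := d7_1 D4504 (iv D3301) (iv F13113)
theorem F17650 : act 1 n4504 = n4400 := d14_1 D4504 (iv D4400) (iv F13114)
theorem F17651 : act 4 n4504 = n4151 := d29_1 D4504 (iv D4151) (iv F13115)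
theorem F17652 : act 6 n4504 = n4504 := d34_1 D4504 (iv D4504) F13116
theorem F17653 : act 7 n4504 = n3312 := d35_1 D4504 (iv D3312) (iv D2427) (iv F9796) D3294
def n4505 : Q := act 4 n3296
theorem D4505 : act 4 n3296 = n4505 := rfl
theorem F17654 : act 1 n4505 = n3334 := d10_1 D4505 (iv D3334) (iv F13123)
theorem F17655 : act 2 n4505 = n3298 := d16_1 D4505 (iv D3298) (iv F13124)
theorem F17656 : act 5 n4505 = n4152 := d26_2 D3296 D4505 (iv D4152) (iv D3048) (iv F9804)
theorem F17657 : act 8 n4505 = n3313 := d29_2 (iv F13126) D4505 (iv D3313)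
def n4506 : Q := act 6 n3296
theorem D4506 : act 6 n3296 = n4506 := rfl
theorem F17658 : act 1 n4506 = n3335 := d12_1 D4506 (iv D3335) (iv F13123)
theorem F17659 : act 2 n4506 = n3299 := d18_1 D4506 (iv D3299) (iv F13124)
theorem F17660 : act 3 n4506 = n3543 := d23_1 D4506 (iv D3543) (iv F13125)
theorem F17661 : act 5 n4506 = n4506 := d30_1 D4506 (iv D4506) (iv D3296) F9805 D3296
theorem F17662 : act 8 n4506 = n3314 := d34_2 (iv F13126) D4506 (iv D3314)
def n4507 : Q := act 7 n3296
theorem D4507 : act 7 n3296 = n4507 := rfl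
theorem F17663 : act 1 n4507 = n3336 := d13_1 D4507 (iv D3336) (iv F13123)
theorem F17664 : act 2 n4507 = n3300 := d19_1 D4507 (iv D3300) (iv F13124)
theorem F17665 : act 5 n4507 = n3297 := d31_1 D4507 (iv D3297) D3296
def n4508 : Q := act 3 n3297
theorem D4508 : act 3 n3297 = n4508 := rfl
theorem F17666 : act 1 n4508 = n3337 := d9_1 D4508 (iv D3337) (iv F13127)
theorem F17667 : act 6 n4508 = n4508 := d23_2 F13130 D4508 (iv D4508)
theorem F17668 : act 7 n4508 = n3545 := d24_2 D3297 D4508 (iv D3545) (iv D2595) (iv F9803)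
def n4509 : Q := act 8 n3297
theorem D4509 : act 8 n3297 = n4509 := rfl
theorem F17669 : act 1 n4509 = n3338 := d14_1 D4509 (iv D3338) (iv F13127)
theorem F17670 : act 2 n4509 = n3301 := d20_1 D4509 (iv D3301) (iv F13128)
theorem F17671 : act 4 n4509 = n4156 := d29_1 D4509 (iv D4156) (iv F13129)
theorem F17672 : act 6 n4509 = n4509 := d34_1 D4509 (iv D4509) F13130
theorem F17673 : act 7 n4509 = n3317 := d35_1 D4509 (iv D3317) (iv D2430) (iv F9806) D3297
def n4510 : Q := act 6 n3298
theorem D4510 : act 6 n3298 = n4510 := rfl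
theorem F17674 : act 1 n4510 = n3302 := d12_1 D4510 (iv D3302) (iv F13131)
theorem F17675 : act 3 n4510 = n4510 := d23_1 D4510 (iv D4510) F13132
theorem F17676 : act 4 n4510 = n3299 := d27_1 D4510 (iv D3299) D3298
theorem F17677 : act 8 n4510 = n3318 := d34_2 (iv F13134) D4510 (iv D3318)
def n4511 : Q := act 7 n3298
theorem D4511 : act 7 n3298 = n4511 := rfl
theorem F17678 : act 1 n4511 = n3303 := d13_1 D4511 (iv D3303) (iv F13131)
theorem F17679 : act 4 n4511 = n3300 := d28_1 D4511 (iv D3300) D3298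
theorem F17680 : act 5 n4511 = n4158 := d31_1 D4511 (iv D4158) (iv F13133)
def n4512 : Q := act 7 n3299
theorem D4512 : act 7 n3299 = n4512 := rfl
theorem F17681 : act 1 n4512 = n3304 := d13_1 D4512 (iv D3304) (iv F13135)
theorem F17682 : act 5 n4512 = n4512 := d31_1 D4512 (iv D4512) F13137
theorem F17683 : act 6 n4512 = n3300 := d33_1 D4512 (iv D3300) D3299
def n4513 : Q := act 8 n3300
theorem D4513 : act 8 n3300 = n4513 := rfl
theorem F17684 : act 1 n4513 = n3305 := d14_1 D4513 (iv D3305) (iv F13139)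
theorem F17685 : act 5 n4513 = n3301 := d32_1 D4513 (iv D3301) (iv F13140)
theorem F17686 : act 7 n4513 = n3321 := d35_1 D4513 (iv D3321) (iv D2433) (iv F9809) D3300
def n4514 : Q := act 5 n3302
theorem D4514 : act 5 n3302 = n4514 := rfl
theorem F17687 : act 0 n4514 = n4410 := d4_1 D4514 (iv D4410) (iv F13145)
theorem F17688 : act 2 n4514 = n3343 := d17_1 D4514 (iv D3343) (iv F13146)
theorem F17692 : act 8 n4514 = n3322 := d32_2 (iv F13149) D4514 (iv D3322)
def n4515 : Q := act 7 n3302
theorem D4515 : act 7 n3302 = n4515 := rfl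
theorem F17693 : act 0 n4515 = n4411 := d6_1 D4515 (iv D4411) (iv F13145)
theorem F17694 : act 2 n4515 = n3344 := d19_1 D4515 (iv D3344) (iv F13146)
theorem F17695 : act 4 n4515 = n3304 := d28_1 D4515 (iv D3304) (iv F13148)
theorem F17696 : act 6 n4515 = n3303 := d33_1 D4515 (iv D3303) D3302
def n4516 : Q := act 3 n3303
theorem D4516 : act 3 n3303 = n4516 := rfl
theorem F17697 : act 0 n4516 = n4412 := d2_1 D4516 (iv D4412) (iv F13150)
theorem F17698 : act 5 n4516 = n4163 := d22_2 (iv F13153) D4516 (iv D4163)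
theorem F17699 : act 7 n4516 = n4516 := d24_2 D3303 D4516 (iv D4516) (iv D3303) F9820
def n4517 : Q := act 8 n3303
theorem D4517 : act 8 n3303 = n4517 := rfl
theorem F17700 : act 0 n4517 = n4413 := d7_1 D4517 (iv D4413) (iv F13150)
theorem F17701 : act 2 n4517 = n3346 := d20_1 D4517 (iv D3346) (iv F13151)
theorem F17702 : act 4 n4517 = n3305 := d29_1 D4517 (iv D3305) (iv F13152)
theorem F17703 : act 5 n4517 = n4164 := d32_1 D4517 (iv D4164) (iv F13153)
theorem F17704 : act 7 n4517 = n3325 := d35_1 D4517 (iv D3325) (iv D2436) (iv F9822) D3303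
def n4518 : Q := act 8 n3304
theorem D4518 : act 8 n3304 = n4518 := rfl
theorem F17705 : act 0 n4518 = n4414 := d7_1 D4518 (iv D4414) (iv F13154)
theorem F17706 : act 2 n4518 = n3347 := d20_1 D4518 (iv D3347) (iv F13155)
theorem F17707 : act 5 n4518 = n4518 := d32_1 D4518 (iv D4518) F13156
theorem F17708 : act 6 n4518 = n3305 := d34_1 D4518 (iv D3305) (iv F13157)
theorem F17709 : act 7 n4518 = n3326 := d35_1 D4518 (iv D3326) (iv D2437) (iv F9827) D3304
def n4519 : Q := act 5 n3306
theorem D4519 : act 5 n3306 = n4519 := rfl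
theorem F17710 : act 0 n4519 = n3348 := d4_1 D4519 (iv D3348) (iv F13162)
theorem F17711 : act 1 n4519 = n3307 := d11_1 D4519 (iv D3307) D3306
theorem F17712 : act 3 n4519 = n3556 := d22_1 D4519 (iv D3556) (iv F13163)
def n4520 : Q := act 7 n3306
theorem D4520 : act 7 n3306 = n4520 := rfl
theorem F17713 : act 0 n4520 = n3349 := d6_1 D4520 (iv D3349) (iv F13162)
theorem F17714 : act 1 n4520 = n3308 := d13_1 D4520 (iv D3308) D3306
theorem F17715 : act 6 n4520 = n4520 := d33_1 D4520 (iv D4520) F13164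
def n4521 : Q := act 4 n3307
theorem D4521 : act 4 n3307 = n4521 := rfl
theorem F17716 : act 0 n4521 = n3313 := d3_1 D4521 (iv D3313) (iv F13165)
theorem F17717 : act 2 n4521 = n3309 := d16_1 D4521 (iv D3309) (iv F13166)
def n4522 : Q := act 6 n3307
theorem D4522 : act 6 n3307 = n4522 := rfl
theorem F17718 : act 0 n4522 = n3314 := d5_1 D4522 (iv D3314) (iv F13165)
theorem F17719 : act 2 n4522 = n3310 := d18_1 D4522 (iv D3310) (iv F13166)
theorem F17720 : act 3 n4522 = n3559 := d23_1 D4522 (iv D3559) (iv F13167)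
theorem F17721 : act 5 n4522 = n4522 := d30_1 D4522 (iv D4522) (iv D3307) F9838 D3307
def n4523 : Q := act 7 n3307
theorem D4523 : act 7 n3307 = n4523 := rfl
theorem F17722 : act 0 n4523 = n3315 := d6_1 D4523 (iv D3315) (iv F13165)
theorem F17723 : act 2 n4523 = n3311 := d19_1 D4523 (iv D3311) (iv F13166)
theorem F17724 : act 5 n4523 = n3308 := d31_1 D4523 (iv D3308) D3307
def n4524 : Q := act 3 n3308
theorem D4524 : act 3 n3308 = n4524 := rfl
theorem F17725 : act 0 n4524 = n3316 := d2_1 D4524 (iv D3316) (iv F13168)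
theorem F17726 : act 2 n4524 = n4524 := d15_1 D4524 (iv D4524) F13169 F9842 (iv F13169)
theorem F17727 : act 6 n4524 = n4524 := d23_2 F13170 D4524 (iv D4524)
theorem F17728 : act 7 n4524 = n3561 := d24_2 D3308 D4524 (iv D3561) (iv D2606) (iv F9837)
def n4525 : Q := act 8 n3308
theorem D4525 : act 8 n3308 = n4525 := rfl
theorem F17729 : act 0 n4525 = n3317 := d7_1 D4525 (iv D3317) (iv F13168)
theorem F17730 : act 2 n4525 = n3312 := d20_1 D4525 (iv D3312) (iv F13169)
theorem F17731 : act 6 n4525 = n4525 := d34_1 D4525 (iv D4525) F13170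
def n4526 : Q := act 6 n3309
theorem D4526 : act 6 n3309 = n4526 := rfl
theorem F17732 : act 0 n4526 = n3318 := d5_1 D4526 (iv D3318) (iv F13171)
theorem F17733 : act 3 n4526 = n4526 := d23_1 D4526 (iv D4526) F13172
theorem F17734 : act 4 n4526 = n3310 := d27_1 D4526 (iv D3310) D3309
def n4527 : Q := act 7 n3309
theorem D4527 : act 7 n3309 = n4527 := rfl
theorem F17735 : act 0 n4527 = n3319 := d6_1 D4527 (iv D3319) (iv F13171)
theorem F17736 : act 4 n4527 = n3311 := d28_1 D4527 (iv D3311) D3309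
def n4528 : Q := act 7 n3310
theorem D4528 : act 7 n3310 = n4528 := rfl
theorem F17737 : act 0 n4528 = n3320 := d6_1 D4528 (iv D3320) (iv F13173)
theorem F17738 : act 3 n4528 = n4528 := d24_1 D4528 (iv D4528) F13174 F9848 (iv F13174)
theorem F17739 : act 5 n4528 = n4528 := d31_1 D4528 (iv D4528) F13175
theorem F17740 : act 6 n4528 = n3311 := d33_1 D4528 (iv D3311) D3310
def n4529 : Q := act 8 n3311
theorem D4529 : act 8 n3311 = n4529 := rfl
theorem F17741 : act 0 n4529 = n3321 := d7_1 D4529 (iv D3321) (iv F13176)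
theorem F17742 : act 3 n4529 = n4529 := d25_1 D4529 (iv D4529) F13177
theorem F17743 : act 5 n4529 = n3312 := d32_1 D4529 (iv D3312) (iv F13178)
def n4530 : Q := act 3 n3313
theorem D4530 : act 3 n3313 = n4530 := rfl
theorem F17744 : act 1 n4530 = n3359 := d9_1 D4530 (iv D3359) (iv F13182)
theorem F17745 : act 2 n4530 = n4530 := d15_1 D4530 (iv D4530) F13183 F9856 (iv F13183)
theorem F17746 : act 4 n4530 = n3567 := d21_2 D3313 D4530 (iv D3567) (iv D2611) (iv F9851)
def n4531 : Q := act 6 n3313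
theorem D4531 : act 6 n3313 = n4531 := rfl
theorem F17747 : act 1 n4531 = n3360 := d12_1 D4531 (iv D3360) (iv F13182)
theorem F17748 : act 2 n4531 = n3318 := d18_1 D4531 (iv D3318) (iv F13183)
theorem F17749 : act 4 n4531 = n3314 := d27_1 D4531 (iv D3314) D3313
def n4532 : Q := act 7 n3313
theorem D4532 : act 7 n3313 = n4532 := rfl
theorem F17750 : act 1 n4532 = n3361 := d13_1 D4532 (iv D3361) (iv F13182)
theorem F17751 : act 2 n4532 = n3319 := d19_1 D4532 (iv D3319) (iv F13183)
theorem F17752 : act 4 n4532 = n3315 := d28_1 D4532 (iv D3315) D3313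
def n4533 : Q := act 7 n3314
theorem D4533 : act 7 n3314 = n4533 := rfl
theorem F17753 : act 1 n4533 = n3362 := d13_1 D4533 (iv D3362) (iv F13184)
theorem F17754 : act 2 n4533 = n3320 := d19_1 D4533 (iv D3320) (iv F13185)
theorem F17755 : act 5 n4533 = n4533 := d31_1 D4533 (iv D4533) F13187
theorem F17756 : act 6 n4533 = n3315 := d33_1 D4533 (iv D3315) D3314
def n4534 : Q := act 3 n3315
theorem D4534 : act 3 n3315 = n4534 := rfl
theorem F17757 : act 1 n4534 = n3363 := d9_1 D4534 (iv D3363) (iv F13188)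
theorem F17758 : act 2 n4534 = n4534 := d15_1 D4534 (iv D4534) F13189 F9861 (iv F13189)
theorem F17759 : act 5 n4534 = n3316 := d22_2 (iv F13190) D4534 (iv D3316)
theorem F17760 : act 7 n4534 = n3571 := d24_2 D3315 D4534 (iv D3571) (iv D2613) (iv F9851)
def n4535 : Q := act 8 n3315
theorem D4535 : act 8 n3315 = n4535 := rfl
theorem F17761 : act 1 n4535 = n3364 := d14_1 D4535 (iv D3364) (iv F13188)
theorem F17762 : act 2 n4535 = n3321 := d20_1 D4535 (iv D3321) (iv F13189)
theorem F17763 : act 5 n4535 = n3317 := d32_1 D4535 (iv D3317) (iv F13190)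
def n4536 : Q := act 4 n3316
theorem D4536 : act 4 n3316 = n4536 := rfl
theorem F17764 : act 1 n4536 = n3365 := d10_1 D4536 (iv D3365) (iv F13191)
theorem F17765 : act 2 n4536 = n4536 := d16_1 D4536 (iv D4536) F13192
theorem F17766 : act 6 n4536 = n4536 := d27_2 F13193 D4536 (iv D4536)
theorem F17767 : act 7 n4536 = n3573 := d28_2 (iv F13194) D4536 (iv D3573)
def n4537 : Q := act 8 n3316
theorem D4537 : act 8 n3316 = n4537 := rfl
theorem F17768 : act 1 n4537 = n3366 := d14_1 D4537 (iv D3366) (iv F13191)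
theorem F17769 : act 2 n4537 = n4537 := d20_1 D4537 (iv D4537) F13192
theorem F17770 : act 3 n4537 = n3317 := d25_1 D4537 (iv D3317) D3316
theorem F17771 : act 6 n4537 = n4537 := d34_1 D4537 (iv D4537) F13193
def n4538 : Q := act 5 n3318
theorem D4538 : act 5 n3318 = n4538 := rfl
theorem F17772 : act 1 n4538 = n3322 := d11_1 D4538 (iv D3322) (iv F13198)
theorem F17773 : act 3 n4538 = n4538 := d22_1 D4538 (iv D4538) F13199
theorem F17774 : act 4 n4538 = n4538 := d26_1 D4538 (iv D4538) F13200 F9859 (iv F13200)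
def n4539 : Q := act 7 n3318
theorem D4539 : act 7 n3318 = n4539 := rfl
theorem F17775 : act 1 n4539 = n3323 := d13_1 D4539 (iv D3323) (iv F13198)
theorem F17776 : act 4 n4539 = n3320 := d28_1 D4539 (iv D3320) (iv F13200)
theorem F17777 : act 6 n4539 = n3319 := d33_1 D4539 (iv D3319) D3318
def n4540 : Q := act 3 n3319
theorem D4540 : act 3 n3319 = n4540 := rfl
theorem F17778 : act 1 n4540 = n3324 := d9_1 D4540 (iv D3324) (iv F13201)
theorem F17779 : act 4 n4540 = n4540 := d21_2 (iv F13202) D4540 (iv D4540) F13202 F9861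
theorem F17780 : act 7 n4540 = n4540 := d24_2 D3319 D4540 (iv D4540) (iv D3319) F9856
def n4541 : Q := act 8 n3319
theorem D4541 : act 8 n3319 = n4541 := rfl
theorem F17781 : act 1 n4541 = n3325 := d14_1 D4541 (iv D3325) (iv F13201)
theorem F17782 : act 4 n4541 = n3321 := d29_1 D4541 (iv D3321) (iv F13202)
def n4542 : Q := act 8 n3320
theorem D4542 : act 8 n3320 = n4542 := rfl
theorem F17783 : act 1 n4542 = n3326 := d14_1 D4542 (iv D3326) (iv F13203)
theorem F17784 : act 3 n4542 = n4542 := d25_1 D4542 (iv D4542) F13204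
theorem F17785 : act 5 n4542 = n4542 := d32_1 D4542 (iv D4542) F13205
theorem F17786 : act 6 n4542 = n3321 := d34_1 D4542 (iv D3321) (iv F13206)
def n4543 : Q := act 7 n3322
theorem D4543 : act 7 n3322 = n4543 := rfl
theorem F17788 : act 4 n4543 = n4543 := d28_1 D4543 (iv D4543) F13212
theorem F17789 : act 5 n4543 = n3323 := d31_1 D4543 (iv D3323) D3322
def n4544 : Q := act 3 n3323
theorem D4544 : act 3 n3323 = n4544 := rfl
theorem F17790 : act 4 n4544 = n4544 := d21_2 (iv F13214) D4544 (iv D4544) F13214 F9872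
theorem F17791 : act 6 n4544 = n3324 := d23_2 (iv F13215) D4544 (iv D3324)
theorem F17792 : act 7 n4544 = n4544 := d24_2 D3323 D4544 (iv D4544) (iv D3323) F9867
def n4545 : Q := act 8 n3323
theorem D4545 : act 8 n3323 = n4545 := rfl
theorem F17793 : act 2 n4545 = n3374 := d20_1 D4545 (iv D3374) (iv F13213)
theorem F17794 : act 4 n4545 = n3326 := d29_1 D4545 (iv D3326) (iv F13214)
theorem F17795 : act 6 n4545 = n3325 := d34_1 D4545 (iv D3325) (iv F13215)
def n4546 : Q := act 2 n3324
theorem D4546 : act 2 n3324 = n4546 := rfl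
theorem F17796 : act 3 n4546 = n3375 := d15_2 D3324 D4546 (iv D3375) (iv D2471) (iv F9869)
theorem F17797 : act 4 n4546 = n4546 := d16_2 F13216 D4546 (iv D4546)
theorem F17798 : act 7 n4546 = n4546 := d19_2 F13217 D4546 (iv D4546)
def n4547 : Q := act 8 n3324
theorem D4547 : act 8 n3324 = n4547 := rfl
theorem F17799 : act 3 n4547 = n3325 := d25_1 D4547 (iv D3325) D3324
theorem F17800 : act 4 n4547 = n4547 := d29_1 D4547 (iv D4547) F13216
def n4548 : Q := act 5 n3327
theorem D4548 : act 5 n3327 = n4548 := rfl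
theorem F17801 : act 1 n4548 = n3328 := d11_1 D4548 (iv D3328) D3327
theorem F17802 : act 2 n4548 = n4415 := d17_1 D4548 (iv D4415) (iv F13224)
theorem F17803 : act 3 n4548 = n3584 := d22_1 D4548 (iv D3584) (iv F13225)
theorem F17804 : act 8 n4548 = n3348 := d32_2 (iv F13228) D4548 (iv D3348)
def n4549 : Q := act 7 n3327
theorem D4549 : act 7 n3327 = n4549 := rfl
theorem F17805 : act 1 n4549 = n3329 := d13_1 D4549 (iv D3329) D3327
theorem F17806 : act 2 n4549 = n4416 := d19_1 D4549 (iv D4416) (iv F13224)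
theorem F17807 : act 4 n4549 = n4167 := d28_1 D4549 (iv D4167) (iv F13226)
theorem F17808 : act 6 n4549 = n4549 := d33_1 D4549 (iv D4549) F13227
def n4550 : Q := act 4 n3328
theorem D4550 : act 4 n3328 = n4550 := rfl
theorem F17809 : act 0 n4550 = n3334 := d3_1 D4550 (iv D3334) (iv F13229)
theorem F17810 : act 2 n4550 = n3330 := d16_1 D4550 (iv D3330) (iv F13230)
theorem F17811 : act 5 n4550 = n4168 := d26_2 D3328 D4550 (iv D4168) (iv D3059) (iv F9880)
theorem F17812 : act 8 n4550 = n3350 := d29_2 (iv F13232) D4550 (iv D3350)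
def n4551 : Q := act 6 n3328
theorem D4551 : act 6 n3328 = n4551 := rfl
theorem F17813 : act 0 n4551 = n3335 := d5_1 D4551 (iv D3335) (iv F13229)
theorem F17814 : act 2 n4551 = n3331 := d18_1 D4551 (iv D3331) (iv F13230)
theorem F17815 : act 3 n4551 = n3587 := d23_1 D4551 (iv D3587) (iv F13231)
theorem F17816 : act 5 n4551 = n4551 := d30_1 D4551 (iv D4551) (iv D3328) F9881 D3328
theorem F17817 : act 8 n4551 = n3351 := d34_2 (iv F13232) D4551 (iv D3351)
def n4552 : Q := act 7 n3328
theorem D4552 : act 7 n3328 = n4552 := rfl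
theorem F17818 : act 0 n4552 = n3336 := d6_1 D4552 (iv D3336) (iv F13229)
theorem F17819 : act 2 n4552 = n3332 := d19_1 D4552 (iv D3332) (iv F13230)
theorem F17820 : act 5 n4552 = n3329 := d31_1 D4552 (iv D3329) D3328
def n4553 : Q := act 3 n3329
theorem D4553 : act 3 n3329 = n4553 := rfl
theorem F17821 : act 0 n4553 = n3337 := d2_1 D4553 (iv D3337) (iv F13233)
theorem F17822 : act 2 n4553 = n4553 := d15_1 D4553 (iv D4553) F13234 F9889 (iv F13234)
theorem F17823 : act 6 n4553 = n4553 := d23_2 F13236 D4553 (iv D4553)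
theorem F17824 : act 7 n4553 = n3589 := d24_2 D3329 D4553 (iv D3589) (iv D2627) (iv F9879)
def n4554 : Q := act 8 n3329
theorem D4554 : act 8 n3329 = n4554 := rfl
theorem F17825 : act 0 n4554 = n3338 := d7_1 D4554 (iv D3338) (iv F13233)
theorem F17826 : act 2 n4554 = n3333 := d20_1 D4554 (iv D3333) (iv F13234)
theorem F17827 : act 4 n4554 = n4172 := d29_1 D4554 (iv D4172) (iv F13235)
theorem F17828 : act 6 n4554 = n4554 := d34_1 D4554 (iv D4554) F13236
theorem F17829 : act 7 n4554 = n3354 := d35_1 D4554 (iv D3354) (iv D2455) (iv F9882) D3329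
def n4555 : Q := act 6 n3330
theorem D4555 : act 6 n3330 = n4555 := rfl
theorem F17830 : act 0 n4555 = n3339 := d5_1 D4555 (iv D3339) (iv F13237)
theorem F17831 : act 1 n4555 = n4422 := d12_1 D4555 (iv D4422) (iv F13238)
theorem F17832 : act 3 n4555 = n3384 := d23_1 D4555 (iv D3384) (iv F13239)
theorem F17833 : act 4 n4555 = n3331 := d27_1 D4555 (iv D3331) D3330
theorem F17834 : act 8 n4555 = n3355 := d34_2 (iv F13241) D4555 (iv D3355)
def n4556 : Q := act 7 n3330
theorem D4556 : act 7 n3330 = n4556 := rfl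
theorem F17835 : act 0 n4556 = n3340 := d6_1 D4556 (iv D3340) (iv F13237)
theorem F17836 : act 1 n4556 = n4423 := d13_1 D4556 (iv D4423) (iv F13238)
theorem F17837 : act 4 n4556 = n3332 := d28_1 D4556 (iv D3332) D3330
theorem F17838 : act 5 n4556 = n4174 := d31_1 D4556 (iv D4174) (iv F13240)
def n4557 : Q := act 7 n3331
theorem D4557 : act 7 n3331 = n4557 := rfl
theorem F17839 : act 0 n4557 = n3341 := d6_1 D4557 (iv D3341) (iv F13242)
theorem F17840 : act 1 n4557 = n4424 := d13_1 D4557 (iv D4424) (iv F13243)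
theorem F17841 : act 3 n4557 = n4557 := d24_1 D4557 (iv D4557) F13244 F9897 (iv F13244)
theorem F17842 : act 5 n4557 = n4557 := d31_1 D4557 (iv D4557) F13245
theorem F17843 : act 6 n4557 = n3332 := d33_1 D4557 (iv D3332) D3331
def n4558 : Q := act 8 n3332
theorem D4558 : act 8 n3332 = n4558 := rfl
theorem F17844 : act 0 n4558 = n3342 := d7_1 D4558 (iv D3342) (iv F13247)
theorem F17845 : act 1 n4558 = n4425 := d14_1 D4558 (iv D4425) (iv F13248)
theorem F17846 : act 3 n4558 = n4558 := d25_1 D4558 (iv D4558) F13249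
theorem F17847 : act 5 n4558 = n3333 := d32_1 D4558 (iv D3333) (iv F13250)
theorem F17848 : act 7 n4558 = n3358 := d35_1 D4558 (iv D3358) (iv D2458) (iv F9886) D3332
def n4559 : Q := act 3 n3334
theorem D4559 : act 3 n3334 = n4559 := rfl
theorem F17849 : act 2 n4559 = n3388 := d15_1 D4559 (iv D3388) F10022 (iv F9906) (iv F13257)
theorem F17850 : act 4 n4559 = n3595 := d21_2 D3334 D4559 (iv D3595) (iv D2632) (iv F9900)
theorem F17851 : act 5 n4559 = n4177 := d22_2 (iv F13258) D4559 (iv D4177)
theorem F17852 : act 8 n4559 = n3359 := d25_2 (iv F13259) D4559 (iv D3359)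
def n4560 : Q := act 6 n3334
theorem D4560 : act 6 n3334 = n4560 := rfl
theorem F17853 : act 2 n4560 = n3339 := d18_1 D4560 (iv D3339) (iv F13257)
theorem F17854 : act 4 n4560 = n3335 := d27_1 D4560 (iv D3335) D3334
theorem F17855 : act 8 n4560 = n3360 := d34_2 (iv F13259) D4560 (iv D3360)
def n4561 : Q := act 7 n3334
theorem D4561 : act 7 n3334 = n4561 := rfl
theorem F17856 : act 2 n4561 = n3340 := d19_1 D4561 (iv D3340) (iv F13257)
theorem F17857 : act 4 n4561 = n3336 := d28_1 D4561 (iv D3336) D3334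
theorem F17858 : act 5 n4561 = n4179 := d31_1 D4561 (iv D4179) (iv F13258)
def n4562 : Q := act 7 n3335
theorem D4562 : act 7 n3335 = n4562 := rfl
theorem F17859 : act 2 n4562 = n3341 := d19_1 D4562 (iv D3341) (iv F13260)
theorem F17860 : act 5 n4562 = n4562 := d31_1 D4562 (iv D4562) F13262
theorem F17861 : act 6 n4562 = n3336 := d33_1 D4562 (iv D3336) D3335
def n4563 : Q := act 3 n3336
theorem D4563 : act 3 n3336 = n4563 := rfl
theorem F17862 : act 2 n4563 = n4563 := d15_1 D4563 (iv D4563) F13264 F9914 (iv F13264)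
theorem F17863 : act 5 n4563 = n3337 := d22_2 (iv F13265) D4563 (iv D3337)
theorem F17864 : act 7 n4563 = n3599 := d24_2 D3336 D4563 (iv D3599) (iv D2634) (iv F9900)
def n4564 : Q := act 8 n3336
theorem D4564 : act 8 n3336 = n4564 := rfl
theorem F17865 : act 2 n4564 = n3342 := d20_1 D4564 (iv D3342) (iv F13264)
theorem F17866 : act 5 n4564 = n3338 := d32_1 D4564 (iv D3338) (iv F13265)
theorem F17867 : act 7 n4564 = n3364 := d35_1 D4564 (iv D3364) (iv D2462) (iv F9901) D3336
def n4565 : Q := act 4 n3337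
theorem D4565 : act 4 n3337 = n4565 := rfl
theorem F17868 : act 2 n4565 = n4565 := d16_1 D4565 (iv D4565) F13266
theorem F17869 : act 3 n4565 = n4183 := d21_1 D4565 (iv D4183) (iv D3068) (iv F9903) D3337
theorem F17870 : act 6 n4565 = n4565 := d27_2 F13267 D4565 (iv D4565)
theorem F17871 : act 7 n4565 = n3601 := d28_2 (iv F13268) D4565 (iv D3601)
def n4566 : Q := act 8 n3337
theorem D4566 : act 8 n3337 = n4566 := rfl
theorem F17872 : act 2 n4566 = n4566 := d20_1 D4566 (iv D4566) F13266
theorem F17873 : act 3 n4566 = n3338 := d25_1 D4566 (iv D3338) D3337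
theorem F17874 : act 6 n4566 = n4566 := d34_1 D4566 (iv D4566) F13267
def n4567 : Q := act 5 n3339
theorem D4567 : act 5 n3339 = n4567 := rfl
theorem F17876 : act 3 n4567 = n3396 := d22_1 D4567 (iv D3396) (iv F13274)
def n4568 : Q := act 7 n3339
theorem D4568 : act 7 n3339 = n4568 := rfl
theorem F17880 : act 1 n4568 = n3344 := d13_1 D4568 (iv D3344) (iv F13273)
theorem F17881 : act 4 n4568 = n3341 := d28_1 D4568 (iv D3341) (iv F13275)
theorem F17882 : act 6 n4568 = n3340 := d33_1 D4568 (iv D3340) D3339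
def n4569 : Q := act 3 n3340
theorem D4569 : act 3 n3340 = n4569 := rfl
theorem F17883 : act 1 n4569 = n3345 := d9_1 D4569 (iv D3345) (iv F13277)
theorem F17884 : act 4 n4569 = n4569 := d21_2 (iv F13278) D4569 (iv D4569) F13278 F9914
theorem F17885 : act 5 n4569 = n4187 := d22_2 (iv F13279) D4569 (iv D4187)
theorem F17886 : act 7 n4569 = n3398 := d24_2 D3340 D4569 (iv D3398) (iv D2487) (iv F9906)
def n4570 : Q := act 8 n3340
theorem D4570 : act 8 n3340 = n4570 := rfl
theorem F17887 : act 1 n4570 = n3346 := d14_1 D4570 (iv D3346) (iv F13277)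
theorem F17888 : act 4 n4570 = n3342 := d29_1 D4570 (iv D3342) (iv F13278)
theorem F17889 : act 5 n4570 = n4188 := d32_1 D4570 (iv D4188) (iv F13279)
theorem F17890 : act 7 n4570 = n3370 := d35_1 D4570 (iv D3370) (iv D2466) (iv F9908) D3340
def n4571 : Q := act 8 n3341
theorem D4571 : act 8 n3341 = n4571 := rfl
theorem F17891 : act 1 n4571 = n3347 := d14_1 D4571 (iv D3347) (iv F13280)
theorem F17892 : act 3 n4571 = n4571 := d25_1 D4571 (iv D4571) F13281
theorem F17893 : act 5 n4571 = n4571 := d32_1 D4571 (iv D4571) F13282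
theorem F17894 : act 6 n4571 = n3342 := d34_1 D4571 (iv D3342) (iv F13283)
theorem F17895 : act 7 n4571 = n3371 := d35_1 D4571 (iv D3371) (iv D2467) (iv F9912) D3341
def n4572 : Q := act 7 n3343
theorem D4572 : act 7 n3343 = n4572 := rfl
theorem F17896 : act 0 n4572 = n4439 := d6_1 D4572 (iv D4439) (iv F13288)
theorem F17898 : act 5 n4572 = n3344 := d31_1 D4572 (iv D3344) D3343
def n4573 : Q := act 3 n3344
theorem D4573 : act 3 n3344 = n4573 := rfl
theorem F17903 : act 7 n4573 = n3402 := d24_2 D3344 D4573 (iv D3402) (iv D2491) (iv F9922)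
def n4574 : Q := act 8 n3344
theorem D4574 : act 8 n3344 = n4574 := rfl
theorem F17904 : act 0 n4574 = n4441 := d7_1 D4574 (iv D4441) (iv F13293)
theorem F17905 : act 4 n4574 = n3347 := d29_1 D4574 (iv D3347) (iv F13294)
theorem F17906 : act 6 n4574 = n3346 := d34_1 D4574 (iv D3346) (iv F13295)
theorem F17907 : act 7 n4574 = n3374 := d35_1 D4574 (iv D3374) (iv D2470) (iv F9924) D3344
def n4575 : Q := act 2 n3345
theorem D4575 : act 2 n3345 = n4575 := rfl
theorem F17908 : act 0 n4575 = n4442 := d1_1 D4575 (iv D4442) (iv F13296)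
theorem F17911 : act 7 n4575 = n3404 := d19_2 (iv F13299) D4575 (iv D3404)
def n4576 : Q := act 8 n3345
theorem D4576 : act 8 n3345 = n4576 := rfl
theorem F17912 : act 0 n4576 = n4443 := d7_1 D4576 (iv D4443) (iv F13296)
theorem F17913 : act 3 n4576 = n3346 := d25_1 D4576 (iv D3346) D3345
theorem F17914 : act 4 n4576 = n4576 := d29_1 D4576 (iv D4576) F13297
theorem F17915 : act 5 n4576 = n4194 := d32_1 D4576 (iv D4194) (iv F13298)
def n4577 : Q := act 4 n3348
theorem D4577 : act 4 n3348 = n4577 := rfl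
theorem F17916 : act 1 n4577 = n3350 := d10_1 D4577 (iv D3350) (iv F13309)
def n4578 : Q := act 6 n3348
theorem D4578 : act 6 n3348 = n4578 := rfl
theorem F17917 : act 1 n4578 = n3351 := d12_1 D4578 (iv D3351) (iv F13309)
theorem F17918 : act 3 n4578 = n3614 := d23_1 D4578 (iv D3614) (iv F13310)
theorem F17919 : act 5 n4578 = n4578 := d30_1 D4578 (iv D4578) (iv D3348) F9937 D3348
def n4579 : Q := act 7 n3348
theorem D4579 : act 7 n3348 = n4579 := rfl
theorem F17920 : act 1 n4579 = n3352 := d13_1 D4579 (iv D3352) (iv F13309)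
theorem F17921 : act 5 n4579 = n3349 := d31_1 D4579 (iv D3349) D3348
def n4580 : Q := act 3 n3349
theorem D4580 : act 3 n3349 = n4580 := rfl
theorem F17922 : act 1 n4580 = n3353 := d9_1 D4580 (iv D3353) (iv F13311)
theorem F17923 : act 6 n4580 = n4580 := d23_2 F13312 D4580 (iv D4580)
theorem F17924 : act 7 n4580 = n3616 := d24_2 D3349 D4580 (iv D3616) (iv D2647) (iv F9936)
def n4581 : Q := act 8 n3349
theorem D4581 : act 8 n3349 = n4581 := rfl
theorem F17925 : act 1 n4581 = n3354 := d14_1 D4581 (iv D3354) (iv F13311)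
theorem F17926 : act 6 n4581 = n4581 := d34_1 D4581 (iv D4581) F13312
def n4582 : Q := act 3 n3350
theorem D4582 : act 3 n3350 = n4582 := rfl
theorem F17927 : act 0 n4582 = n3359 := d2_1 D4582 (iv D3359) (iv F13313)
theorem F17928 : act 2 n4582 = n3410 := d15_1 D4582 (iv D3410) F10087 (iv F9945) (iv F13314)
theorem F17929 : act 4 n4582 = n3618 := d21_2 D3350 D4582 (iv D3618) (iv D2648) (iv F9940)
def n4583 : Q := act 6 n3350
theorem D4583 : act 6 n3350 = n4583 := rfl
theorem F17930 : act 0 n4583 = n3360 := d5_1 D4583 (iv D3360) (iv F13313)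
theorem F17931 : act 2 n4583 = n3355 := d18_1 D4583 (iv D3355) (iv F13314)
theorem F17932 : act 4 n4583 = n3351 := d27_1 D4583 (iv D3351) D3350
def n4584 : Q := act 7 n3350
theorem D4584 : act 7 n3350 = n4584 := rfl
theorem F17933 : act 0 n4584 = n3361 := d6_1 D4584 (iv D3361) (iv F13313)
theorem F17934 : act 2 n4584 = n3356 := d19_1 D4584 (iv D3356) (iv F13314)
theorem F17935 : act 4 n4584 = n3352 := d28_1 D4584 (iv D3352) D3350
def n4585 : Q := act 7 n3351
theorem D4585 : act 7 n3351 = n4585 := rfl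
theorem F17936 : act 0 n4585 = n3362 := d6_1 D4585 (iv D3362) (iv F13315)
theorem F17937 : act 2 n4585 = n3357 := d19_1 D4585 (iv D3357) (iv F13316)
theorem F17938 : act 5 n4585 = n4585 := d31_1 D4585 (iv D4585) F13318
theorem F17939 : act 6 n4585 = n3352 := d33_1 D4585 (iv D3352) D3351
def n4586 : Q := act 3 n3352
theorem D4586 : act 3 n3352 = n4586 := rfl
theorem F17940 : act 0 n4586 = n3363 := d2_1 D4586 (iv D3363) (iv F13319)
theorem F17941 : act 2 n4586 = n3447 := d15_1 D4586 (iv D3447) F10172 (iv F9950) (iv F13320)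
theorem F17942 : act 5 n4586 = n3353 := d22_2 (iv F13321) D4586 (iv D3353)
theorem F17943 : act 7 n4586 = n3622 := d24_2 D3352 D4586 (iv D3622) (iv D2650) (iv F9940)
def n4587 : Q := act 8 n3352
theorem D4587 : act 8 n3352 = n4587 := rfl
theorem F17944 : act 0 n4587 = n3364 := d7_1 D4587 (iv D3364) (iv F13319)
theorem F17945 : act 2 n4587 = n3358 := d20_1 D4587 (iv D3358) (iv F13320)
theorem F17946 : act 5 n4587 = n3354 := d32_1 D4587 (iv D3354) (iv F13321)
def n4588 : Q := act 4 n3353
theorem D4588 : act 4 n3353 = n4588 := rfl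
theorem F17947 : act 0 n4588 = n3365 := d3_1 D4588 (iv D3365) (iv F13322)
theorem F17948 : act 2 n4588 = n3449 := d16_1 D4588 (iv D3449) (iv F13323)
theorem F17949 : act 6 n4588 = n4588 := d27_2 F13324 D4588 (iv D4588)
theorem F17950 : act 7 n4588 = n3624 := d28_2 (iv F13325) D4588 (iv D3624)
def n4589 : Q := act 8 n3353
theorem D4589 : act 8 n3353 = n4589 := rfl
theorem F17951 : act 0 n4589 = n3366 := d7_1 D4589 (iv D3366) (iv F13322)
theorem F17952 : act 2 n4589 = n3450 := d20_1 D4589 (iv D3450) (iv F13323)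
theorem F17953 : act 3 n4589 = n3354 := d25_1 D4589 (iv D3354) D3353
theorem F17954 : act 6 n4589 = n4589 := d34_1 D4589 (iv D4589) F13324
def n4590 : Q := act 5 n3355
theorem D4590 : act 5 n3355 = n4590 := rfl
theorem F17955 : act 0 n4590 = n3367 := d4_1 D4590 (iv D3367) (iv F13329)
theorem F17956 : act 3 n4590 = n3415 := d22_1 D4590 (iv D3415) (iv F13330)
theorem F17957 : act 4 n4590 = n4590 := d26_1 D4590 (iv D4590) F13331 F9948 (iv F13331)
def n4591 : Q := act 7 n3355
theorem D4591 : act 7 n3355 = n4591 := rfl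
theorem F17958 : act 0 n4591 = n3368 := d6_1 D4591 (iv D3368) (iv F13329)
theorem F17959 : act 4 n4591 = n3357 := d28_1 D4591 (iv D3357) (iv F13331)
theorem F17960 : act 6 n4591 = n3356 := d33_1 D4591 (iv D3356) D3355
def n4592 : Q := act 3 n3356
theorem D4592 : act 3 n3356 = n4592 := rfl
theorem F17961 : act 0 n4592 = n3369 := d2_1 D4592 (iv D3369) (iv F13332)
theorem F17962 : act 4 n4592 = n3453 := d21_2 (iv F13333) D4592 (iv D3453) F10187 (iv F9950)
theorem F17963 : act 7 n4592 = n3417 := d24_2 D3356 D4592 (iv D3417) (iv D2502) (iv F9945)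
def n4593 : Q := act 8 n3356
theorem D4593 : act 8 n3356 = n4593 := rfl
theorem F17964 : act 0 n4593 = n3370 := d7_1 D4593 (iv D3370) (iv F13332)
theorem F17965 : act 4 n4593 = n3358 := d29_1 D4593 (iv D3358) (iv F13333)
def n4594 : Q := act 8 n3357
theorem D4594 : act 8 n3357 = n4594 := rfl
theorem F17966 : act 0 n4594 = n3371 := d7_1 D4594 (iv D3371) (iv F13334)
theorem F17967 : act 3 n4594 = n3455 := d25_1 D4594 (iv D3455) (iv F13335)
theorem F17968 : act 5 n4594 = n4594 := d32_1 D4594 (iv D4594) F13336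
theorem F17969 : act 6 n4594 = n3358 := d34_1 D4594 (iv D3358) (iv F13337)
def n4595 : Q := act 6 n3359
theorem D4595 : act 6 n3359 = n4595 := rfl
theorem F17970 : act 2 n4595 = n3420 := d18_1 D4595 (iv D3420) (iv F13341)
theorem F17971 : act 3 n4595 = n3360 := d23_1 D4595 (iv D3360) D3359
theorem F17972 : act 4 n4595 = n3630 := d27_1 D4595 (iv D3630) (iv F13342)
def n4596 : Q := act 7 n3359
theorem D4596 : act 7 n3359 = n4596 := rfl
theorem F17973 : act 2 n4596 = n3421 := d19_1 D4596 (iv D3421) (iv F13341)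
theorem F17974 : act 4 n4596 = n3631 := d28_1 D4596 (iv D3631) (iv F13342)
def n4597 : Q := act 5 n3360
theorem D4597 : act 5 n3360 = n4597 := rfl
theorem F17975 : act 2 n4597 = n3367 := d17_1 D4597 (iv D3367) (iv F13343)
theorem F17976 : act 4 n4597 = n4597 := d26_1 D4597 (iv D4597) F13344 F9958 (iv F13344)
def n4598 : Q := act 7 n3360
theorem D4598 : act 7 n3360 = n4598 := rfl
theorem F17977 : act 2 n4598 = n3368 := d19_1 D4598 (iv D3368) (iv F13343)
theorem F17978 : act 4 n4598 = n3362 := d28_1 D4598 (iv D3362) (iv F13344)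
theorem F17979 : act 6 n4598 = n3361 := d33_1 D4598 (iv D3361) D3360
def n4599 : Q := act 3 n3361
theorem D4599 : act 3 n3361 = n4599 := rfl
def n4600 : Q := act 8 n3361
theorem D4600 : act 8 n3361 = n4600 := rfl
theorem F17980 : act 2 n4600 = n3370 := d20_1 D4600 (iv D3370) (iv F13345)
theorem F17981 : act 4 n4600 = n3364 := d29_1 D4600 (iv D3364) (iv F13346)
def n4601 : Q := act 3 n3362
theorem D4601 : act 3 n3362 = n4601 := rfl
theorem F17982 : act 2 n4601 = n3460 := d15_1 D4601 (iv D3460) F10205 (iv F9972) (iv F13347)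
theorem F17983 : act 5 n4601 = n4601 := d22_2 F13348 D4601 (iv D4601)
theorem F17984 : act 6 n4601 = n3363 := d23_2 (iv F13349) D4601 (iv D3363)
theorem F17985 : act 7 n4601 = n3636 := d24_2 D3362 D4601 (iv D3636) (iv D2660) (iv F9957)
def n4602 : Q := act 8 n3362
theorem D4602 : act 8 n3362 = n4602 := rfl
theorem F17986 : act 2 n4602 = n3371 := d20_1 D4602 (iv D3371) (iv F13347)
theorem F17987 : act 5 n4602 = n4602 := d32_1 D4602 (iv D4602) F13348
theorem F17988 : act 6 n4602 = n3364 := d34_1 D4602 (iv D3364) (iv F13349)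
def n4603 : Q := act 4 n3363
theorem D4603 : act 4 n3363 = n4603 := rfl
theorem F17989 : act 2 n4603 = n3462 := d16_1 D4603 (iv D3462) (iv F13350)
theorem F17990 : act 7 n4603 = n3638 := d28_2 (iv F13352) D4603 (iv D3638)
def n4604 : Q := act 8 n3363
theorem D4604 : act 8 n3363 = n4604 := rfl
theorem F17991 : act 2 n4604 = n3463 := d20_1 D4604 (iv D3463) (iv F13350)
theorem F17992 : act 3 n4604 = n3364 := d25_1 D4604 (iv D3364) D3363
theorem F17993 : act 5 n4604 = n3366 := d32_1 D4604 (iv D3366) (iv F13351)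
def n4605 : Q := act 5 n3365
theorem D4605 : act 5 n3365 = n4605 := rfl
theorem F17994 : act 2 n4605 = n3464 := d17_1 D4605 (iv D3464) (iv F13355)
theorem F17995 : act 7 n4605 = n3640 := d31_2 (iv F13357) D4605 (iv D3640)
def n4606 : Q := act 8 n3365
theorem D4606 : act 8 n3365 = n4606 := rfl
theorem F17996 : act 2 n4606 = n3465 := d20_1 D4606 (iv D3465) (iv F13355)
theorem F17997 : act 4 n4606 = n3366 := d29_1 D4606 (iv D3366) D3365
theorem F17998 : act 6 n4606 = n4606 := d34_1 D4606 (iv D4606) F13356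
def n4607 : Q := act 7 n3366
theorem D4607 : act 7 n3366 = n4607 := rfl
theorem F17999 : act 2 n4607 = n3466 := d19_1 D4607 (iv D3466) (iv F13358)
theorem F18000 : act 6 n4607 = n4607 := d33_1 D4607 (iv D4607) F13360
theorem F18001 : act 8 n4607 = n3642 := d35_2 D3366 D4607 (iv D3642) (iv D2664) (iv F9963)
def n4608 : Q := act 7 n3367
theorem D4608 : act 7 n3367 = n4608 := rfl
def n4609 : Q := act 3 n3368
theorem D4609 : act 3 n3368 = n4609 := rfl
theorem F18007 : act 6 n4609 = n3369 := d23_2 (iv F13366) D4609 (iv D3369)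
theorem F18008 : act 7 n4609 = n3428 := d24_2 D3368 D4609 (iv D3428) (iv D2511) (iv F9967)
def n4610 : Q := act 8 n3368
theorem D4610 : act 8 n3368 = n4610 := rfl
theorem F18009 : act 1 n4610 = n3374 := d14_1 D4610 (iv D3374) (iv F13364)
theorem F18010 : act 4 n4610 = n3371 := d29_1 D4610 (iv D3371) (iv F13365)
theorem F18011 : act 6 n4610 = n3370 := d34_1 D4610 (iv D3370) (iv F13366)
def n4611 : Q := act 2 n3369
theorem D4611 : act 2 n3369 = n4611 := rfl
theorem F18012 : act 4 n4611 = n3470 := d16_2 (iv F13368) D4611 (iv D3470)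
theorem F18013 : act 7 n4611 = n3430 := d19_2 (iv F13369) D4611 (iv D3430)
def n4612 : Q := act 8 n3369
theorem D4612 : act 8 n3369 = n4612 := rfl
theorem F18014 : act 1 n4612 = n3376 := d14_1 D4612 (iv D3376) (iv F13367)
theorem F18015 : act 3 n4612 = n3370 := d25_1 D4612 (iv D3370) D3369
theorem F18016 : act 4 n4612 = n3471 := d29_1 D4612 (iv D3471) (iv F13368)
def n4614 : Q := act 8 n3372
theorem D4614 : act 8 n3372 = n4614 := rfl
def n4615 : Q := act 2 n3373
theorem D4615 : act 2 n3373 = n4615 := rfl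
theorem F18022 : act 6 n4615 = n3375 := d18_2 (iv F13379) D4615 (iv D3375)
theorem F18023 : act 7 n4615 = n3434 := d19_2 (iv F13380) D4615 (iv D3434)
def n4616 : Q := act 8 n3373
theorem D4616 : act 8 n3373 = n4616 := rfl
theorem F18024 : act 3 n4616 = n3374 := d25_1 D4616 (iv D3374) D3373
theorem F18026 : act 6 n4616 = n3376 := d34_1 D4616 (iv D3376) (iv F13379)
def n4617 : Q := act 1 n3375
theorem D4617 : act 1 n3375 = n4617 := rfl
theorem F18027 : act 4 n4617 = n3476 := d10_2 (iv F13383) D4617 (iv D3476)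
theorem F18028 : act 7 n4617 = n3436 := d13_2 (iv F13384) D4617 (iv D3436)
def n4618 : Q := act 8 n3375
theorem D4618 : act 8 n3375 = n4618 := rfl
theorem F18029 : act 2 n4618 = n3376 := d20_1 D4618 (iv D3376) D3375
theorem F18030 : act 4 n4618 = n3477 := d29_1 D4618 (iv D3477) (iv F13383)
def n4620 : Q := act 4 n3377
theorem D4620 : act 4 n3377 = n4620 := rfl
theorem F18033 : act 0 n4620 = n4620 := d3_1 D4620 (iv D4620) F13387
theorem F18034 : act 1 n4620 = n3379 := d10_1 D4620 (iv D3379) (iv F13388)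
theorem F18035 : act 2 n4620 = n4444 := d16_1 D4620 (iv D4444) (iv F13389)
theorem F18036 : act 5 n4620 = n4195 := d26_2 D3377 D4620 (iv D4195) (iv D3079) (iv F9991)
theorem F18037 : act 8 n4620 = n3406 := d29_2 (iv F13391) D4620 (iv D3406)
def n4621 : Q := act 6 n3377
theorem D4621 : act 6 n3377 = n4621 := rfl
theorem F18038 : act 0 n4621 = n4621 := d5_1 D4621 (iv D4621) F13387
theorem F18039 : act 1 n4621 = n3380 := d12_1 D4621 (iv D3380) (iv F13388)
theorem F18040 : act 2 n4621 = n4445 := d18_1 D4621 (iv D4445) (iv F13389)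
theorem F18041 : act 3 n4621 = n3647 := d23_1 D4621 (iv D3647) (iv F13390)
theorem F18042 : act 5 n4621 = n3896 := d30_1 D4621 (iv D3896) (iv D2855) (iv F9992) D3377
theorem F18043 : act 8 n4621 = n3407 := d34_2 (iv F13391) D4621 (iv D3407)
def n4622 : Q := act 7 n3377
theorem D4622 : act 7 n3377 = n4622 := rfl
theorem F18044 : act 0 n4622 = n4622 := d6_1 D4622 (iv D4622) F13387
theorem F18045 : act 1 n4622 = n3381 := d13_1 D4622 (iv D3381) (iv F13388)
theorem F18046 : act 2 n4622 = n4446 := d19_1 D4622 (iv D4446) (iv F13389)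
theorem F18047 : act 5 n4622 = n3378 := d31_1 D4622 (iv D3378) D3377
def n4623 : Q := act 3 n3378
theorem D4623 : act 3 n3378 = n4623 := rfl
theorem F18048 : act 0 n4623 = n4623 := d2_1 D4623 (iv D4623) F13392
theorem F18049 : act 1 n4623 = n3382 := d9_1 D4623 (iv D3382) (iv F13393)
theorem F18050 : act 6 n4623 = n3898 := d23_2 (iv F13396) D4623 (iv D3898)
theorem F18051 : act 7 n4623 = n3649 := d24_2 D3378 D4623 (iv D3649) (iv D2672) (iv F9990)
def n4624 : Q := act 8 n3378
theorem D4624 : act 8 n3378 = n4624 := rfl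
theorem F18052 : act 0 n4624 = n4624 := d7_1 D4624 (iv D4624) F13392
theorem F18053 : act 1 n4624 = n3383 := d14_1 D4624 (iv D3383) (iv F13393)
theorem F18054 : act 2 n4624 = n4448 := d20_1 D4624 (iv D4448) (iv F13394)
theorem F18055 : act 4 n4624 = n4199 := d29_1 D4624 (iv D4199) (iv F13395)
theorem F18057 : act 7 n4624 = n3409 := d35_1 D4624 (iv D3409) (iv D2496) (iv F9993) D3378
def n4625 : Q := act 3 n3379
theorem D4625 : act 3 n3379 = n4625 := rfl
theorem F18058 : act 0 n4625 = n3388 := d2_1 D4625 (iv D3388) (iv F13397)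
theorem F18059 : act 4 n4625 = n3650 := d21_2 D3379 D4625 (iv D3650) (iv D2673) (iv F9996)
theorem F18060 : act 5 n4625 = n4200 := d22_2 (iv F13399) D4625 (iv D4200)
theorem F18061 : act 8 n4625 = n3410 := d25_2 (iv F13400) D4625 (iv D3410)
def n4626 : Q := act 6 n3379
theorem D4626 : act 6 n3379 = n4626 := rfl
theorem F18062 : act 0 n4626 = n3389 := d5_1 D4626 (iv D3389) (iv F13397)
theorem F18063 : act 2 n4626 = n3384 := d18_1 D4626 (iv D3384) (iv F13398)
theorem F18064 : act 4 n4626 = n3380 := d27_1 D4626 (iv D3380) D3379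
theorem F18065 : act 8 n4626 = n3411 := d34_2 (iv F13400) D4626 (iv D3411)
def n4627 : Q := act 7 n3379
theorem D4627 : act 7 n3379 = n4627 := rfl
theorem F18066 : act 0 n4627 = n3390 := d6_1 D4627 (iv D3390) (iv F13397)
theorem F18067 : act 2 n4627 = n3385 := d19_1 D4627 (iv D3385) (iv F13398)
theorem F18068 : act 4 n4627 = n3381 := d28_1 D4627 (iv D3381) D3379
theorem F18069 : act 5 n4627 = n4202 := d31_1 D4627 (iv D4202) (iv F13399)
def n4628 : Q := act 7 n3380
theorem D4628 : act 7 n3380 = n4628 := rfl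
theorem F18070 : act 0 n4628 = n3391 := d6_1 D4628 (iv D3391) (iv F13401)
theorem F18072 : act 5 n4628 = n3903 := d31_1 D4628 (iv D3903) (iv F13404)
theorem F18073 : act 6 n4628 = n3381 := d33_1 D4628 (iv D3381) D3380
def n4629 : Q := act 3 n3381
theorem D4629 : act 3 n3381 = n4629 := rfl
theorem F18074 : act 0 n4629 = n3392 := d2_1 D4629 (iv D3392) (iv F13406)
theorem F18075 : act 2 n4629 = n4629 := d15_1 D4629 (iv D4629) F13407 F10013 (iv F13407)
theorem F18076 : act 5 n4629 = n3382 := d22_2 (iv F13408) D4629 (iv D3382)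
theorem F18077 : act 7 n4629 = n3654 := d24_2 D3381 D4629 (iv D3654) (iv D2675) (iv F9996)
def n4630 : Q := act 8 n3381
theorem D4630 : act 8 n3381 = n4630 := rfl
theorem F18080 : act 5 n4630 = n3383 := d32_1 D4630 (iv D3383) (iv F13408)
def n4631 : Q := act 4 n3382
theorem D4631 : act 4 n3382 = n4631 := rfl
theorem F18085 : act 6 n4631 = n3906 := d27_2 (iv F13411) D4631 (iv D3906)
theorem F18086 : act 7 n4631 = n3655 := d28_2 (iv F13412) D4631 (iv D3655)
def n4632 : Q := act 8 n3382
theorem D4632 : act 8 n3382 = n4632 := rfl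
theorem F18087 : act 0 n4632 = n3395 := d7_1 D4632 (iv D3395) (iv F13409)
theorem F18088 : act 2 n4632 = n4632 := d20_1 D4632 (iv D4632) F13410
theorem F18089 : act 3 n4632 = n3383 := d25_1 D4632 (iv D3383) D3382
theorem F18091 : act 7 n4632 = n4632 := d35_1 D4632 (iv D4632) F13412 F10744 (iv F13412)
def n4633 : Q := act 5 n3384
theorem D4633 : act 5 n3384 = n4633 := rfl
theorem F18093 : act 1 n4633 = n4456 := d11_1 D4633 (iv D4456) (iv F13419)
theorem F18094 : act 4 n4633 = n3908 := d26_1 D4633 (iv D3908) F11461 (iv F10009) (iv F13420)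
def n4634 : Q := act 7 n3384
theorem D4634 : act 7 n3384 = n4634 := rfl
theorem F18099 : act 4 n4634 = n3386 := d28_1 D4634 (iv D3386) (iv F13420)
def n4635 : Q := act 3 n3385
theorem D4635 : act 3 n3385 = n4635 := rfl
theorem F18102 : act 1 n4635 = n4458 := d9_1 D4635 (iv D4458) (iv F13423)
theorem F18104 : act 5 n4635 = n4210 := d22_2 (iv F13425) D4635 (iv D4210)
def n4638 : Q := act 6 n3388
theorem D4638 : act 6 n3388 = n4638 := rfl
theorem F18116 : act 1 n4638 = n4638 := d12_1 D4638 (iv D4638) F13436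
theorem F18117 : act 3 n4638 = n3389 := d23_1 D4638 (iv D3389) D3388
theorem F18118 : act 4 n4638 = n3659 := d27_1 D4638 (iv D3659) (iv F13437)
theorem F18119 : act 8 n4638 = n3420 := d34_2 (iv F13439) D4638 (iv D3420)
def n4639 : Q := act 7 n3388
theorem D4639 : act 7 n3388 = n4639 := rfl
theorem F18120 : act 1 n4639 = n4639 := d13_1 D4639 (iv D4639) F13436
theorem F18121 : act 4 n4639 = n3660 := d28_1 D4639 (iv D3660) (iv F13437)
theorem F18122 : act 5 n4639 = n4214 := d31_1 D4639 (iv D4214) (iv F13438)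
def n4640 : Q := act 5 n3389
theorem D4640 : act 5 n3389 = n4640 := rfl
theorem F18125 : act 4 n4640 = n3915 := d26_1 D4640 (iv D3915) F11483 (iv F10028) (iv F13442)
def n4641 : Q := act 7 n3389
theorem D4641 : act 7 n3389 = n4641 := rfl
theorem F18130 : act 4 n4641 = n3391 := d28_1 D4641 (iv D3391) (iv F13442)
def n4642 : Q := act 3 n3390
theorem D4642 : act 3 n3390 = n4642 := rfl
theorem F18132 : act 1 n4642 = n4642 := d9_1 D4642 (iv D4642) F13444
theorem F18133 : act 5 n4642 = n4217 := d22_2 (iv F13447) D4642 (iv D4217)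
def n4644 : Q := act 3 n3391
theorem D4644 : act 3 n3391 = n4644 := rfl
theorem F18142 : act 6 n4644 = n3392 := d23_2 (iv F13451) D4644 (iv D3392)
theorem F18143 : act 7 n4644 = n3664 := d24_2 D3391 D4644 (iv D3664) (iv D2683) (iv F10027)
def n4645 : Q := act 8 n3391
theorem D4645 : act 8 n3391 = n4645 := rfl
theorem F18145 : act 2 n4645 = n3400 := d20_1 D4645 (iv D3400) (iv F13449)
theorem F18146 : act 5 n4645 = n3920 := d32_1 D4645 (iv D3920) (iv F13450)
def n4646 : Q := act 4 n3392
theorem D4646 : act 4 n3392 = n4646 := rfl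
theorem F18149 : act 1 n4646 = n4646 := d10_1 D4646 (iv D4646) F13452
theorem F18150 : act 2 n4646 = n4646 := d16_1 D4646 (iv D4646) F13453
theorem F18151 : act 7 n4646 = n3665 := d28_2 (iv F13455) D4646 (iv D3665)
def n4647 : Q := act 8 n3392
theorem D4647 : act 8 n3392 = n4647 := rfl
theorem F18155 : act 5 n4647 = n3395 := d32_1 D4647 (iv D3395) (iv F13454)
def n4648 : Q := act 5 n3394
theorem D4648 : act 5 n3394 = n4648 := rfl
theorem F18160 : act 7 n4648 = n3666 := d31_2 (iv F13464) D4648 (iv D3666)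
def n4649 : Q := act 8 n3394
theorem D4649 : act 8 n3394 = n4649 := rfl
theorem F18164 : act 4 n4649 = n3395 := d29_1 D4649 (iv D3395) D3394
def n4650 : Q := act 7 n3396
theorem D4650 : act 7 n3396 = n4650 := rfl
theorem F18169 : act 5 n4650 = n3397 := d31_1 D4650 (iv D3397) D3396
def n4651 : Q := act 3 n3397
theorem D4651 : act 3 n3397 = n4651 := rfl
def n4652 : Q := act 8 n3397
theorem D4652 : act 8 n3397 = n4652 := rfl
theorem F18175 : act 4 n4652 = n3400 := d29_1 D4652 (iv D3400) (iv F13475)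
def n4653 : Q := act 2 n3398
theorem D4653 : act 2 n3398 = n4653 := rfl
theorem F18179 : act 5 n4653 = n4229 := d17_2 (iv F13479) D4653 (iv D4229)
def n4654 : Q := act 8 n3398
theorem D4654 : act 8 n3398 = n4654 := rfl
theorem F18181 : act 3 n4654 = n3399 := d25_1 D4654 (iv D3399) D3398
def n4655 : Q := act 3 n3401
theorem D4655 : act 3 n3401 = n4655 := rfl
theorem F18185 : act 5 n4655 = n3402 := d22_2 (iv F13492) D4655 (iv D3402)
def n4656 : Q := act 8 n3401
theorem D4656 : act 8 n3401 = n4656 := rfl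
theorem F18190 : act 5 n4656 = n3403 := d32_1 D4656 (iv D3403) (iv F13492)
def n4657 : Q := act 2 n3402
theorem D4657 : act 2 n3402 = n4657 := rfl
def n4658 : Q := act 8 n3402
theorem D4658 : act 8 n3402 = n4658 := rfl
theorem F18198 : act 3 n4658 = n3403 := d25_1 D4658 (iv D3403) D3402
def n4659 : Q := act 1 n3404
theorem D4659 : act 1 n3404 = n4659 := rfl
theorem F18203 : act 5 n4659 = n4235 := d11_2 (iv F13505) D4659 (iv D4235)
def n4662 : Q := act 3 n3406
theorem D4662 : act 3 n3406 = n4662 := rfl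
theorem F18213 : act 0 n4662 = n4662 := d2_1 D4662 (iv D4662) F13510
theorem F18214 : act 1 n4662 = n3410 := d9_1 D4662 (iv D3410) (iv F13511)
theorem F18215 : act 4 n4662 = n3673 := d21_2 D3406 D4662 (iv D3673) (iv D2692) (iv F10081)
def n4663 : Q := act 6 n3406
theorem D4663 : act 6 n3406 = n4663 := rfl
theorem F18216 : act 0 n4663 = n4663 := d5_1 D4663 (iv D4663) F13510
theorem F18217 : act 1 n4663 = n3411 := d12_1 D4663 (iv D3411) (iv F13511)
theorem F18218 : act 4 n4663 = n3407 := d27_1 D4663 (iv D3407) D3406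
def n4664 : Q := act 7 n3406
theorem D4664 : act 7 n3406 = n4664 := rfl
theorem F18219 : act 0 n4664 = n4664 := d6_1 D4664 (iv D4664) F13510
theorem F18220 : act 1 n4664 = n3412 := d13_1 D4664 (iv D3412) (iv F13511)
theorem F18221 : act 4 n4664 = n3408 := d28_1 D4664 (iv D3408) D3406
def n4665 : Q := act 7 n3407
theorem D4665 : act 7 n3407 = n4665 := rfl
theorem F18225 : act 5 n4665 = n3940 := d31_1 D4665 (iv D3940) (iv F13515)
theorem F18226 : act 6 n4665 = n3408 := d33_1 D4665 (iv D3408) D3407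
def n4666 : Q := act 8 n3408
theorem D4666 : act 8 n3408 = n4666 := rfl
theorem F18230 : act 5 n4666 = n3409 := d32_1 D4666 (iv D3409) (iv F13519)
def n4667 : Q := act 6 n3410
theorem D4667 : act 6 n3410 = n4667 := rfl
theorem F18231 : act 0 n4667 = n3420 := d5_1 D4667 (iv D3420) (iv F13524)
theorem F18232 : act 3 n4667 = n3411 := d23_1 D4667 (iv D3411) D3410
theorem F18233 : act 4 n4667 = n3675 := d27_1 D4667 (iv D3675) (iv F13525)
def n4668 : Q := act 7 n3410
theorem D4668 : act 7 n3410 = n4668 := rfl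
theorem F18234 : act 0 n4668 = n3421 := d6_1 D4668 (iv D3421) (iv F13524)
theorem F18235 : act 4 n4668 = n3676 := d28_1 D4668 (iv D3676) (iv F13525)
def n4669 : Q := act 5 n3411
theorem D4669 : act 5 n3411 = n4669 := rfl
theorem F18238 : act 4 n4669 = n3944 := d26_1 D4669 (iv D3944) F11566 (iv F10091) (iv F13528)
def n4670 : Q := act 7 n3411
theorem D4670 : act 7 n3411 = n4670 := rfl
theorem F18241 : act 4 n4670 = n3413 := d28_1 D4670 (iv D3413) (iv F13528)
theorem F18242 : act 6 n4670 = n3412 := d33_1 D4670 (iv D3412) D3411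
def n4671 : Q := act 3 n3412
theorem D4671 : act 3 n3412 = n4671 := rfl
theorem F18243 : act 0 n4671 = n3424 := d2_1 D4671 (iv D3424) (iv F13529)
theorem F18244 : act 4 n4671 = n4671 := d21_2 (iv F13531) D4671 (iv D4671) F13531 F10094
def n4675 : Q := act 3 n3416
theorem D4675 : act 3 n3416 = n4675 := rfl
theorem F18258 : act 6 n4675 = n3417 := d23_2 (iv F13545) D4675 (iv D3417)
def n4677 : Q := act 2 n3417
theorem D4677 : act 2 n3417 = n4677 := rfl
theorem F18262 : act 0 n4677 = n3430 := d1_1 D4677 (iv D3430) (iv F13546)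
theorem F18263 : act 4 n4677 = n3482 := d16_2 (iv F13547) D4677 (iv D3482)
def n4679 : Q := act 5 n3420
theorem D4679 : act 5 n3420 = n4679 := rfl
theorem F18268 : act 3 n4679 = n3422 := d22_1 D4679 (iv D3422) (iv F13555)
def n4680 : Q := act 7 n3420
theorem D4680 : act 7 n3420 = n4680 := rfl
theorem F18269 : act 1 n4680 = n4680 := d13_1 D4680 (iv D4680) F13554
theorem F18270 : act 4 n4680 = n3679 := d28_1 D4680 (iv D3679) (iv F13556)
theorem F18271 : act 6 n4680 = n3421 := d33_1 D4680 (iv D3421) D3420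
def n4681 : Q := act 3 n3421
theorem D4681 : act 3 n3421 = n4681 := rfl
theorem F18272 : act 1 n4681 = n4681 := d9_1 D4681 (iv D4681) F13557
theorem F18273 : act 4 n4681 = n4681 := d21_2 (iv F13558) D4681 (iv D4681) F13558 F10837
theorem F18274 : act 7 n4681 = n3424 := d24_2 D3421 D4681 (iv D3424) (iv D2507) D2505
def n4682 : Q := act 8 n3421
theorem D4682 : act 8 n3421 = n4682 := rfl
theorem F18275 : act 1 n4682 = n4682 := d14_1 D4682 (iv D4682) F13557
theorem F18276 : act 4 n4682 = n3680 := d29_1 D4682 (iv D3680) (iv F13558)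
def n4683 : Q := act 7 n3422
theorem D4683 : act 7 n3422 = n4683 := rfl
theorem F18279 : act 4 n4683 = n3958 := d28_1 D4683 (iv D3958) (iv F13561)
theorem F18280 : act 5 n4683 = n3423 := d31_1 D4683 (iv D3423) D3422
def n4684 : Q := act 3 n3423
theorem D4684 : act 3 n3423 = n4684 := rfl
theorem F18283 : act 6 n4684 = n3424 := d23_2 (iv F13565) D4684 (iv D3424)
def n4686 : Q := act 2 n3424
theorem D4686 : act 2 n3424 = n4686 := rfl
theorem F18288 : act 3 n4686 = n3430 := d15_2 D3424 D4686 (iv D3430) (iv D2512) (iv F10117)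
theorem F18289 : act 4 n4686 = n4686 := d16_2 F13567 D4686 (iv D4686)
def n4688 : Q := act 3 n3427
theorem D4688 : act 3 n3427 = n4688 := rfl
theorem F18294 : act 5 n4688 = n3428 := d22_2 (iv F13578) D4688 (iv D3428)
def n4690 : Q := act 2 n3428
theorem D4690 : act 2 n3428 = n4690 := rfl
theorem F18298 : act 4 n4690 = n3486 := d16_2 (iv F13580) D4690 (iv D3486)
theorem F18299 : act 6 n4690 = n3430 := d18_2 (iv F13581) D4690 (iv D3430)
def n4692 : Q := act 1 n3430
theorem D4692 : act 1 n3430 = n4692 := rfl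
theorem F18304 : act 2 n4692 = n3436 := d8_2 D3430 D4692 (iv D3436) (iv D2518) (iv F10133)
theorem F18305 : act 4 n4692 = n3488 := d10_2 (iv F13585) D4692 (iv D3488)
def n4695 : Q := act 2 n3432
theorem D4695 : act 2 n3432 = n4695 := rfl
theorem F18311 : act 5 n4695 = n3434 := d17_2 (iv F13589) D4695 (iv D3434)
def n4698 : Q := act 1 n3434
theorem D4698 : act 1 n3434 = n4698 := rfl
theorem F18317 : act 4 n4698 = n3494 := d10_2 (iv F13594) D4698 (iv D3494)
theorem F18318 : act 6 n4698 = n3436 := d12_2 (iv F13595) D4698 (iv D3436)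
def n4701 : Q := act 0 n3436
theorem D4701 : act 0 n3436 = n4701 := rfl
theorem F18325 : act 3 n4701 = n4701 := d2_2 F13599 D4701 (iv D4701)
theorem F18326 : act 4 n4701 = n3497 := d3_2 (iv F13600) D4701 (iv D3497)
def n4704 : Q := act 6 n3439
theorem D4704 : act 6 n3439 = n4704 := rfl
theorem F18333 : act 1 n4704 = n3444 := d12_1 D4704 (iv D3444) (iv F13606)
theorem F18335 : act 4 n4704 = n3440 := d27_1 D4704 (iv D3440) D3439
def n4705 : Q := act 7 n3439
theorem D4705 : act 7 n3439 = n4705 := rfl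
theorem F18337 : act 0 n4705 = n4705 := d6_1 D4705 (iv D4705) F13605
theorem F18338 : act 1 n4705 = n3445 := d13_1 D4705 (iv D3445) (iv F13606)
theorem F18339 : act 4 n4705 = n3441 := d28_1 D4705 (iv D3441) D3439
theorem F18340 : act 5 n4705 = n4705 := d31_1 D4705 (iv D4705) F13608
def n4706 : Q := act 7 n3440
theorem D4706 : act 7 n3440 = n4706 := rfl
theorem F18341 : act 0 n4706 = n4706 := d6_1 D4706 (iv D4706) F13610
theorem F18342 : act 1 n4706 = n3446 := d13_1 D4706 (iv D3446) (iv F13611)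
theorem F18343 : act 5 n4706 = n4706 := d31_1 D4706 (iv D4706) F13613
theorem F18344 : act 6 n4706 = n3441 := d33_1 D4706 (iv D3441) D3440
def n4707 : Q := act 3 n3441
theorem D4707 : act 3 n3441 = n4707 := rfl
theorem F18345 : act 0 n4707 = n4707 := d2_1 D4707 (iv D4707) F13615
theorem F18346 : act 1 n4707 = n3447 := d9_1 D4707 (iv D3447) (iv F13616)
theorem F18347 : act 5 n4707 = n3442 := d22_2 (iv F13617) D4707 (iv D3442)
theorem F18348 : act 7 n4707 = n3682 := d24_2 D3441 D4707 (iv D3682) (iv D2701) (iv F10155)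
def n4708 : Q := act 8 n3441
theorem D4708 : act 8 n3441 = n4708 := rfl
theorem F18349 : act 0 n4708 = n4708 := d7_1 D4708 (iv D4708) F13615
theorem F18350 : act 1 n4708 = n3448 := d14_1 D4708 (iv D3448) (iv F13616)
theorem F18351 : act 5 n4708 = n3443 := d32_1 D4708 (iv D3443) (iv F13617)
theorem F18352 : act 7 n4708 = n4708 := d35_1 D4708 (iv D4708) (iv D3441) F10156 D3441
def n4709 : Q := act 2 n3442
theorem D4709 : act 2 n3442 = n4709 := rfl
theorem F18353 : act 0 n4709 = n4709 := d1_1 D4709 (iv D4709) F13618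
theorem F18354 : act 6 n4709 = n4709 := d18_2 F13620 D4709 (iv D4709)
theorem F18355 : act 7 n4709 = n3684 := d19_2 (iv F13621) D4709 (iv D3684)
def n4710 : Q := act 4 n3442
theorem D4710 : act 4 n3442 = n4710 := rfl
theorem F18356 : act 0 n4710 = n4710 := d3_1 D4710 (iv D4710) F13618
theorem F18357 : act 1 n4710 = n3449 := d10_1 D4710 (iv D3449) (iv F13619)
theorem F18358 : act 3 n4710 = n4710 := d21_1 D4710 (iv D4710) (iv D3442) F10159 D3442
theorem F18359 : act 6 n4710 = n4710 := d27_2 F13620 D4710 (iv D4710)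
theorem F18360 : act 7 n4710 = n3685 := d28_2 (iv F13621) D4710 (iv D3685)
def n4711 : Q := act 8 n3442
theorem D4711 : act 8 n3442 = n4711 := rfl
theorem F18361 : act 0 n4711 = n4711 := d7_1 D4711 (iv D4711) F13618
theorem F18362 : act 1 n4711 = n3450 := d14_1 D4711 (iv D3450) (iv F13619)
theorem F18363 : act 3 n4711 = n3443 := d25_1 D4711 (iv D3443) D3442
theorem F18364 : act 6 n4711 = n4711 := d34_1 D4711 (iv D4711) F13620
def n4713 : Q := act 7 n3444
theorem D4713 : act 7 n3444 = n4713 := rfl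
theorem F18372 : act 2 n4713 = n3452 := d19_1 D4713 (iv D3452) (iv F13628)
theorem F18373 : act 4 n4713 = n3446 := d28_1 D4713 (iv D3446) (iv F13630)
theorem F18374 : act 6 n4713 = n3445 := d33_1 D4713 (iv D3445) D3444
def n4714 : Q := act 3 n3445
theorem D4714 : act 3 n3445 = n4714 := rfl
theorem F18375 : act 0 n4714 = n3458 := d2_1 D4714 (iv D3458) (iv F13632)
theorem F18376 : act 5 n4714 = n4714 := d22_2 F13635 D4714 (iv D4714)
theorem F18377 : act 7 n4714 = n4714 := d24_2 D3445 D4714 (iv D4714) (iv D3445) F10163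
def n4715 : Q := act 8 n3445
theorem D4715 : act 8 n3445 = n4715 := rfl
theorem F18378 : act 0 n4715 = n3459 := d7_1 D4715 (iv D3459) (iv F13632)
theorem F18379 : act 2 n4715 = n3454 := d20_1 D4715 (iv D3454) (iv F13633)
theorem F18380 : act 4 n4715 = n3448 := d29_1 D4715 (iv D3448) (iv F13634)
theorem F18381 : act 5 n4715 = n4715 := d32_1 D4715 (iv D4715) F13635
theorem F18382 : act 7 n4715 = n4715 := d35_1 D4715 (iv D4715) (iv D3445) F10165 D3445
def n4716 : Q := act 3 n3446
theorem D4716 : act 3 n3446 = n4716 := rfl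
theorem F18383 : act 0 n4716 = n3460 := d2_1 D4716 (iv D3460) (iv F13636)
theorem F18384 : act 5 n4716 = n4716 := d22_2 F13638 D4716 (iv D4716)
theorem F18385 : act 6 n4716 = n3447 := d23_2 (iv F13639) D4716 (iv D3447)
theorem F18386 : act 7 n4716 = n3687 := d24_2 D3446 D4716 (iv D3687) (iv D2704) (iv F10168)
def n4717 : Q := act 8 n3446
theorem D4717 : act 8 n3446 = n4717 := rfl
theorem F18387 : act 0 n4717 = n3461 := d7_1 D4717 (iv D3461) (iv F13636)
theorem F18388 : act 2 n4717 = n3455 := d20_1 D4717 (iv D3455) (iv F13637)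
theorem F18389 : act 5 n4717 = n4717 := d32_1 D4717 (iv D4717) F13638
theorem F18390 : act 6 n4717 = n3448 := d34_1 D4717 (iv D3448) (iv F13639)
theorem F18391 : act 7 n4717 = n4717 := d35_1 D4717 (iv D4717) (iv D3446) F10170 D3446
def n4718 : Q := act 4 n3447
theorem D4718 : act 4 n3447 = n4718 := rfl
theorem F18392 : act 0 n4718 = n3462 := d3_1 D4718 (iv D3462) (iv F13640)
theorem F18393 : act 7 n4718 = n3689 := d28_2 (iv F13642) D4718 (iv D3689)
def n4719 : Q := act 8 n3447
theorem D4719 : act 8 n3447 = n4719 := rfl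
theorem F18394 : act 0 n4719 = n3463 := d7_1 D4719 (iv D3463) (iv F13640)
theorem F18395 : act 3 n4719 = n3448 := d25_1 D4719 (iv D3448) D3447
theorem F18396 : act 5 n4719 = n3450 := d32_1 D4719 (iv D3450) (iv F13641)
def n4720 : Q := act 5 n3449
theorem D4720 : act 5 n3449 = n4720 := rfl
theorem F18397 : act 0 n4720 = n3464 := d4_1 D4720 (iv D3464) (iv F13647)
theorem F18398 : act 3 n4720 = n4720 := d22_1 D4720 (iv D4720) F13648
theorem F18399 : act 7 n4720 = n3691 := d31_2 (iv F13650) D4720 (iv D3691)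
def n4721 : Q := act 8 n3449
theorem D4721 : act 8 n3449 = n4721 := rfl
theorem F18400 : act 0 n4721 = n3465 := d7_1 D4721 (iv D3465) (iv F13647)
theorem F18401 : act 3 n4721 = n4721 := d25_1 D4721 (iv D4721) F13648
theorem F18402 : act 4 n4721 = n3450 := d29_1 D4721 (iv D3450) D3449
theorem F18403 : act 6 n4721 = n4721 := d34_1 D4721 (iv D4721) F13649
def n4722 : Q := act 7 n3450
theorem D4722 : act 7 n3450 = n4722 := rfl
theorem F18404 : act 0 n4722 = n3466 := d6_1 D4722 (iv D3466) (iv F13651)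
theorem F18405 : act 3 n4722 = n4722 := d24_1 D4722 (iv D4722) F13652 F10181 (iv F13652)
theorem F18406 : act 6 n4722 = n4722 := d33_1 D4722 (iv D4722) F13653
theorem F18407 : act 8 n4722 = n3693 := d35_2 D3450 D4722 (iv D3693) (iv D2708) (iv F10176)
def n4724 : Q := act 3 n3452
theorem D4724 : act 3 n3452 = n4724 := rfl
theorem F18413 : act 6 n4724 = n3453 := d23_2 (iv F13661) D4724 (iv D3453)
theorem F18414 : act 7 n4724 = n3480 := d24_2 D3452 D4724 (iv D3480) (iv D2549) (iv F10183)
def n4725 : Q := act 8 n3452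
theorem D4725 : act 8 n3452 = n4725 := rfl
theorem F18416 : act 4 n4725 = n3455 := d29_1 D4725 (iv D3455) (iv F13660)
theorem F18417 : act 6 n4725 = n3454 := d34_1 D4725 (iv D3454) (iv F13661)
def n4726 : Q := act 2 n3453
theorem D4726 : act 2 n3453 = n4726 := rfl
theorem F18419 : act 0 n4726 = n3470 := d1_1 D4726 (iv D3470) (iv F13662)
theorem F18420 : act 5 n4726 = n4726 := d17_2 F13663 D4726 (iv D4726)
theorem F18421 : act 7 n4726 = n3482 := d19_2 (iv F13664) D4726 (iv D3482)
def n4727 : Q := act 8 n3453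
theorem D4727 : act 8 n3453 = n4727 := rfl
theorem F18422 : act 0 n4727 = n3471 := d7_1 D4727 (iv D3471) (iv F13662)
theorem F18423 : act 3 n4727 = n3454 := d25_1 D4727 (iv D3454) D3453
theorem F18424 : act 5 n4727 = n4727 := d32_1 D4727 (iv D4727) F13663
def n4729 : Q := act 3 n3457
theorem D4729 : act 3 n3457 = n4729 := rfl
theorem F18431 : act 6 n4729 = n3458 := d23_2 (iv F13682) D4729 (iv D3458)
def n4730 : Q := act 8 n3457
theorem D4730 : act 8 n3457 = n4730 := rfl
theorem F18435 : act 4 n4730 = n3461 := d29_1 D4730 (iv D3461) (iv F13681)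
theorem F18436 : act 6 n4730 = n3459 := d34_1 D4730 (iv D3459) (iv F13682)
def n4731 : Q := act 2 n3458
theorem D4731 : act 2 n3458 = n4731 := rfl
theorem F18438 : act 3 n4731 = n3470 := d15_2 D3458 D4731 (iv D3470) (iv D2540) (iv F10201)
theorem F18439 : act 5 n4731 = n4731 := d17_2 F13684 D4731 (iv D4731)
theorem F18440 : act 7 n4731 = n4731 := d19_2 F13685 D4731 (iv D4731)
def n4732 : Q := act 4 n3458
theorem D4732 : act 4 n3458 = n4732 := rfl
theorem F18441 : act 1 n4732 = n4732 := d10_1 D4732 (iv D4732) F13683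
theorem F18442 : act 3 n4732 = n3462 := d21_1 D4732 (iv D3462) (iv D2534) (iv F10202) D3458
theorem F18443 : act 7 n4732 = n4732 := d28_2 F13685 D4732 (iv D4732)
def n4733 : Q := act 8 n3458
theorem D4733 : act 8 n3458 = n4733 := rfl
theorem F18444 : act 1 n4733 = n4733 := d14_1 D4733 (iv D4733) F13683
theorem F18445 : act 3 n4733 = n3459 := d25_1 D4733 (iv D3459) D3458
theorem F18446 : act 5 n4733 = n4733 := d32_1 D4733 (iv D4733) F13684
def n4734 : Q := act 4 n3460
theorem D4734 : act 4 n3460 = n4734 := rfl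
theorem F18447 : act 1 n4734 = n4734 := d10_1 D4734 (iv D4734) F13691
theorem F18448 : act 6 n4734 = n3462 := d27_2 (iv F13693) D4734 (iv D3462)
theorem F18449 : act 7 n4734 = n3694 := d28_2 (iv F13694) D4734 (iv D3694)
def n4735 : Q := act 8 n3460
theorem D4735 : act 8 n3460 = n4735 := rfl
theorem F18450 : act 1 n4735 = n4735 := d14_1 D4735 (iv D4735) F13691
theorem F18451 : act 3 n4735 = n3461 := d25_1 D4735 (iv D3461) D3460
theorem F18452 : act 5 n4735 = n4735 := d32_1 D4735 (iv D4735) F13692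
theorem F18453 : act 6 n4735 = n3463 := d34_1 D4735 (iv D3463) (iv F13693)
def n4736 : Q := act 5 n3462
theorem D4736 : act 5 n3462 = n4736 := rfl
theorem F18454 : act 1 n4736 = n4736 := d11_1 D4736 (iv D4736) F13700
theorem F18455 : act 4 n4736 = n3464 := d26_1 D4736 (iv D3464) (iv D2536) (iv F10209) D3462
theorem F18456 : act 7 n4736 = n3696 := d31_2 (iv F13701) D4736 (iv D3696)
def n4737 : Q := act 8 n3462
theorem D4737 : act 8 n3462 = n4737 := rfl
theorem F18457 : act 1 n4737 = n4737 := d14_1 D4737 (iv D4737) F13700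
theorem F18458 : act 4 n4737 = n3463 := d29_1 D4737 (iv D3463) D3462
def n4738 : Q := act 7 n3463
theorem D4738 : act 7 n3463 = n4738 := rfl
theorem F18459 : act 1 n4738 = n4738 := d13_1 D4738 (iv D4738) F13702
theorem F18460 : act 3 n4738 = n4738 := d24_1 D4738 (iv D4738) F13703 F10214 (iv F13703)
theorem F18461 : act 5 n4738 = n3466 := d31_1 D4738 (iv D3466) (iv F13704)
theorem F18462 : act 8 n4738 = n3698 := d35_2 D3463 D4738 (iv D3698) (iv D2713) (iv F10210)
def n4739 : Q := act 6 n3464
theorem D4739 : act 6 n3464 = n4739 := rfl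
theorem F18463 : act 1 n4739 = n4739 := d12_1 D4739 (iv D4739) F13705
theorem F18464 : act 3 n4739 = n4739 := d23_1 D4739 (iv D4739) F13706
theorem F18465 : act 5 n4739 = n4739 := d30_1 D4739 (iv D4739) (iv D3464) F10217 D3464
theorem F18466 : act 7 n4739 = n3699 := d33_2 (iv F13707) D4739 (iv D3699)
def n4740 : Q := act 8 n3464
theorem D4740 : act 8 n3464 = n4740 := rfl
theorem F18467 : act 1 n4740 = n4740 := d14_1 D4740 (iv D4740) F13705
theorem F18468 : act 3 n4740 = n4740 := d25_1 D4740 (iv D4740) F13706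
theorem F18469 : act 5 n4740 = n3465 := d32_1 D4740 (iv D3465) D3464
def n4741 : Q := act 7 n3465
theorem D4741 : act 7 n3465 = n4741 := rfl
theorem F18470 : act 1 n4741 = n4741 := d13_1 D4741 (iv D4741) F13708
theorem F18471 : act 4 n4741 = n3466 := d28_1 D4741 (iv D3466) (iv F13710)
theorem F18472 : act 6 n4741 = n4741 := d33_1 D4741 (iv D4741) F13711
theorem F18473 : act 8 n4741 = n3701 := d35_2 D3465 D4741 (iv D3701) (iv D2715) (iv F10218)
def n4744 : Q := act 2 n3468
theorem D4744 : act 2 n3468 = n4744 := rfl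
theorem F18483 : act 6 n4744 = n3470 := d18_2 (iv F13721) D4744 (iv D3470)
theorem F18484 : act 7 n4744 = n3486 := d19_2 (iv F13722) D4744 (iv D3486)
def n4745 : Q := act 8 n3468
theorem D4745 : act 8 n3468 = n4745 := rfl
theorem F18487 : act 6 n4745 = n3471 := d34_1 D4745 (iv D3471) (iv F13721)
def n4746 : Q := act 1 n3470
theorem D4746 : act 1 n3470 = n4746 := rfl
theorem F18488 : act 2 n4746 = n3476 := d8_2 D3470 D4746 (iv D3476) (iv D2546) (iv F10230)
theorem F18489 : act 5 n4746 = n4746 := d11_2 F13727 D4746 (iv D4746)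
theorem F18490 : act 7 n4746 = n3488 := d13_2 (iv F13728) D4746 (iv D3488)
def n4747 : Q := act 8 n3470
theorem D4747 : act 8 n3470 = n4747 := rfl
theorem F18491 : act 2 n4747 = n3471 := d20_1 D4747 (iv D3471) D3470
theorem F18492 : act 5 n4747 = n4747 := d32_1 D4747 (iv D4747) F13727
def n4752 : Q := act 1 n3474
theorem D4752 : act 1 n3474 = n4752 := rfl
theorem F18508 : act 6 n4752 = n3476 := d12_2 (iv F13741) D4752 (iv D3476)
theorem F18509 : act 7 n4752 = n3494 := d13_2 (iv F13742) D4752 (iv D3494)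
def n4753 : Q := act 8 n3474
theorem D4753 : act 8 n3474 = n4753 := rfl
theorem F18512 : act 6 n4753 = n3477 := d34_1 D4753 (iv D3477) (iv F13741)
def n4755 : Q := act 0 n3476
theorem D4755 : act 0 n3476 = n4755 := rfl
theorem F18516 : act 3 n4755 = n4755 := d2_2 F13745 D4755 (iv D4755)
theorem F18517 : act 5 n4755 = n4755 := d4_2 F13746 D4755 (iv D4755)
theorem F18518 : act 7 n4755 = n3497 := d6_2 (iv F13747) D4755 (iv D3497)
def n4756 : Q := act 8 n3476
theorem D4756 : act 8 n3476 = n4756 := rfl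
theorem F18519 : act 1 n4756 = n3477 := d14_1 D4756 (iv D3477) D3476
theorem F18520 : act 3 n4756 = n4756 := d25_1 D4756 (iv D4756) F13745
theorem F18521 : act 5 n4756 = n4756 := d32_1 D4756 (iv D4756) F13746
def n4760 : Q := act 2 n3480
theorem D4760 : act 2 n3480 = n4760 := rfl
theorem F18536 : act 6 n4760 = n3482 := d18_2 (iv F13760) D4760 (iv D3482)
def n4762 : Q := act 1 n3482
theorem D4762 : act 1 n3482 = n4762 := rfl
theorem F18540 : act 3 n4762 = n4762 := d9_2 F13767 D4762 (iv D4762)
theorem F18541 : act 5 n4762 = n4762 := d11_2 F13768 D4762 (iv D4762)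
def n4763 : Q := act 8 n3482
theorem D4763 : act 8 n3482 = n4763 := rfl
theorem F18543 : act 2 n4763 = n3483 := d20_1 D4763 (iv D3483) D3482
def n4764 : Q := act 7 n3483
theorem D4764 : act 7 n3483 = n4764 := rfl
def n4768 : Q := act 1 n3486
theorem D4768 : act 1 n3486 = n4768 := rfl
theorem F18561 : act 6 n4768 = n3488 := d12_2 (iv F13782) D4768 (iv D3488)
def n4771 : Q := act 0 n3488
theorem D4771 : act 0 n3488 = n4771 := rfl
theorem F18568 : act 2 n4771 = n3497 := d1_2 (iv F13786) D4771 (iv D3497)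
theorem F18569 : act 3 n4771 = n4771 := d2_2 F13787 D4771 (iv D4771)
theorem F18570 : act 5 n4771 = n4771 := d4_2 F13788 D4771 (iv D4771)
def n4779 : Q := act 0 n3494
theorem D4779 : act 0 n3494 = n4779 := rfl
theorem F18592 : act 3 n4779 = n3505 := d2_2 (iv F13803) D4779 (iv D3505)
theorem F18593 : act 6 n4779 = n3497 := d5_2 (iv F13804) D4779 (iv D3497)
def n4798 : Q := act 2 n3511
theorem D4798 : act 2 n3511 = n4798 := rfl
theorem F18659 : act 0 n4798 = n3513 := d1_1 D4798 (iv D3513) (iv F13862)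
theorem F18660 : act 3 n4798 = n4798 := d15_2 D3511 D4798 (iv D4798) (iv D3511) F10350
theorem F18661 : act 4 n4798 = n3521 := d16_2 (iv F13864) D4798 (iv D3521)
theorem F18662 : act 6 n4798 = n4798 := d18_2 F13865 D4798 (iv D4798)
theorem F18663 : act 8 n4798 = n4798 := d20_2 F13866 D4798 (iv D4798)
def n4799 : Q := act 5 n3511
theorem D4799 : act 5 n3511 = n4799 := rfl
theorem F18666 : act 3 n4799 = n3512 := d22_1 D4799 (iv D3512) D3511
def n4800 : Q := act 7 n3511
theorem D4800 : act 7 n3511 = n4800 := rfl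
theorem F18671 : act 4 n4800 = n3523 := d28_1 D4800 (iv D3523) (iv F13864)
def n4801 : Q := act 6 n3512
theorem D4801 : act 6 n3512 = n4801 := rfl
def n4802 : Q := act 5 n3513
theorem D4802 : act 5 n3513 = n4802 := rfl
def n4803 : Q := act 7 n3513
theorem D4803 : act 7 n3513 = n4803 := rfl
theorem F18685 : act 2 n4803 = n3515 := d19_1 D4803 (iv D3515) D3513
theorem F18686 : act 4 n4803 = n3526 := d28_1 D4803 (iv D3526) (iv F13875)
def n4805 : Q := act 6 n3514
theorem D4805 : act 6 n3514 = n4805 := rfl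
theorem F18693 : act 3 n4805 = n3516 := d23_1 D4805 (iv D3516) (iv F13879)
def n4806 : Q := act 7 n3514
theorem D4806 : act 7 n3514 = n4806 := rfl
theorem F18698 : act 5 n4806 = n3515 := d31_1 D4806 (iv D3515) D3514
def n4810 : Q := act 7 n3518
theorem D4810 : act 7 n3518 = n4810 := rfl
theorem F18717 : act 6 n4810 = n3519 := d33_1 D4810 (iv D3519) D3518
def n4812 : Q := act 1 n3521
theorem D4812 : act 1 n3521 = n4812 := rfl
theorem F18723 : act 0 n4812 = n4812 := d0_1 D4812 (iv D4812) F13911 F10387 (iv F13911)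
theorem F18724 : act 2 n4812 = n4812 := d8_2 D3521 D4812 (iv D4812) (iv D3521) F10379
theorem F18725 : act 6 n4812 = n4812 := d12_2 F13912 D4812 (iv D4812)
theorem F18726 : act 8 n4812 = n4812 := d14_2 F13913 D4812 (iv D4812)
def n4813 : Q := act 5 n3521
theorem D4813 : act 5 n3521 = n4813 := rfl
theorem F18727 : act 0 n4813 = n3525 := d4_1 D4813 (iv D3525) (iv F13911)
theorem F18728 : act 2 n4813 = n3522 := d17_1 D4813 (iv D3522) D3521
theorem F18729 : act 8 n4813 = n4813 := d32_2 F13913 D4813 (iv D4813)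
def n4814 : Q := act 7 n3521
theorem D4814 : act 7 n3521 = n4814 := rfl
theorem F18730 : act 0 n4814 = n3526 := d6_1 D4814 (iv D3526) (iv F13911)
theorem F18731 : act 2 n4814 = n3523 := d19_1 D4814 (iv D3523) D3521
theorem F18732 : act 6 n4814 = n4814 := d33_1 D4814 (iv D4814) F13912
def n4815 : Q := act 4 n3522
theorem D4815 : act 4 n3522 = n4815 := rfl
def n4816 : Q := act 6 n3522
theorem D4816 : act 6 n3522 = n4816 := rfl
theorem F18739 : act 3 n4816 = n3524 := d23_1 D4816 (iv D3524) (iv F13916)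
def n4817 : Q := act 7 n3522
theorem D4817 : act 7 n3522 = n4817 := rfl
theorem F18745 : act 5 n4817 = n3523 := d31_1 D4817 (iv D3523) D3522
def n4818 : Q := act 8 n3523
theorem D4818 : act 8 n3523 = n4818 := rfl
def n4819 : Q := act 4 n3525
theorem D4819 : act 4 n3525 = n4819 := rfl
def n4820 : Q := act 6 n3525
theorem D4820 : act 6 n3525 = n4820 := rfl
def n4821 : Q := act 7 n3525
theorem D4821 : act 7 n3525 = n4821 := rfl
theorem F18760 : act 5 n4821 = n3526 := d31_1 D4821 (iv D3526) D3525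
def n4822 : Q := act 3 n3526
theorem D4822 : act 3 n3526 = n4822 := rfl
theorem F18761 : act 1 n4822 = n4822 := d9_1 D4822 (iv D4822) F13931
theorem F18762 : act 2 n4822 = n3545 := d15_1 D4822 (iv D3545) F10440 (iv F10394) (iv F13932)
theorem F18763 : act 6 n4822 = n4822 := d23_2 F13933 D4822 (iv D4822)
def n4823 : Q := act 8 n3526
theorem D4823 : act 8 n3526 = n4823 := rfl
def n4825 : Q := act 7 n3527
theorem D4825 : act 7 n3527 = n4825 := rfl
theorem F18773 : act 4 n4825 = n3529 := d28_1 D4825 (iv D3529) D3527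
def n4826 : Q := act 7 n3528
theorem D4826 : act 7 n3528 = n4826 := rfl
theorem F18777 : act 6 n4826 = n3529 := d33_1 D4826 (iv D3529) D3528
def n4833 : Q := act 5 n3535
theorem D4833 : act 5 n3535 = n4833 := rfl
theorem F18804 : act 0 n4833 = n3584 := d4_1 D4833 (iv D3584) (iv F13966)
theorem F18805 : act 1 n4833 = n3536 := d11_1 D4833 (iv D3536) D3535
theorem F18806 : act 2 n4833 = n4833 := d17_1 D4833 (iv D4833) F13967
theorem F18807 : act 8 n4833 = n3556 := d32_2 (iv F13970) D4833 (iv D3556)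
def n4834 : Q := act 7 n3535
theorem D4834 : act 7 n3535 = n4834 := rfl
theorem F18808 : act 0 n4834 = n3585 := d6_1 D4834 (iv D3585) (iv F13966)
theorem F18809 : act 1 n4834 = n3537 := d13_1 D4834 (iv D3537) D3535
theorem F18810 : act 2 n4834 = n4834 := d19_1 D4834 (iv D4834) F13967
theorem F18811 : act 4 n4834 = n4834 := d28_1 D4834 (iv D4834) F13968
theorem F18812 : act 6 n4834 = n4834 := d33_1 D4834 (iv D4834) F13969
def n4835 : Q := act 4 n3536
theorem D4835 : act 4 n3536 = n4835 := rfl
theorem F18813 : act 0 n4835 = n3542 := d3_1 D4835 (iv D3542) (iv F13971)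
theorem F18814 : act 2 n4835 = n3538 := d16_1 D4835 (iv D3538) (iv F13972)
theorem F18815 : act 5 n4835 = n4835 := d26_2 D3536 D4835 (iv D4835) (iv D3536) F10420
theorem F18816 : act 8 n4835 = n3558 := d29_2 (iv F13973) D4835 (iv D3558)
def n4836 : Q := act 6 n3536
theorem D4836 : act 6 n3536 = n4836 := rfl
theorem F18817 : act 0 n4836 = n3543 := d5_1 D4836 (iv D3543) (iv F13971)
theorem F18818 : act 2 n4836 = n3539 := d18_1 D4836 (iv D3539) (iv F13972)
theorem F18819 : act 5 n4836 = n4836 := d30_1 D4836 (iv D4836) (iv D3536) F10421 D3536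
theorem F18820 : act 8 n4836 = n3559 := d34_2 (iv F13973) D4836 (iv D3559)
def n4837 : Q := act 7 n3536
theorem D4837 : act 7 n3536 = n4837 := rfl
theorem F18821 : act 0 n4837 = n3544 := d6_1 D4837 (iv D3544) (iv F13971)
theorem F18822 : act 2 n4837 = n3540 := d19_1 D4837 (iv D3540) (iv F13972)
theorem F18823 : act 5 n4837 = n3537 := d31_1 D4837 (iv D3537) D3536
def n4838 : Q := act 3 n3537
theorem D4838 : act 3 n3537 = n4838 := rfl
theorem F18824 : act 0 n4838 = n3545 := d2_1 D4838 (iv D3545) (iv F13974)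
theorem F18825 : act 6 n4838 = n4838 := d23_2 F13977 D4838 (iv D4838)
def n4839 : Q := act 8 n3537
theorem D4839 : act 8 n3537 = n4839 := rfl
theorem F18826 : act 0 n4839 = n3546 := d7_1 D4839 (iv D3546) (iv F13974)
theorem F18827 : act 2 n4839 = n3541 := d20_1 D4839 (iv D3541) (iv F13975)
theorem F18828 : act 4 n4839 = n4839 := d29_1 D4839 (iv D4839) F13976
theorem F18829 : act 6 n4839 = n4839 := d34_1 D4839 (iv D4839) F13977
theorem F18830 : act 7 n4839 = n3562 := d35_1 D4839 (iv D3562) (iv D2606) (iv F10422) D3537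
def n4840 : Q := act 6 n3538
theorem D4840 : act 6 n3538 = n4840 := rfl
theorem F18835 : act 8 n4840 = n3563 := d34_2 (iv F13982) D4840 (iv D3563)
def n4841 : Q := act 7 n3538
theorem D4841 : act 7 n3538 = n4841 := rfl
theorem F18838 : act 4 n4841 = n3540 := d28_1 D4841 (iv D3540) D3538
def n4842 : Q := act 7 n3539
theorem D4842 : act 7 n3539 = n4842 := rfl
theorem F18843 : act 6 n4842 = n3540 := d33_1 D4842 (iv D3540) D3539
def n4843 : Q := act 8 n3540
theorem D4843 : act 8 n3540 = n4843 := rfl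
theorem F18846 : act 5 n4843 = n3541 := d32_1 D4843 (iv D3541) (iv F13990)
theorem F18847 : act 7 n4843 = n3566 := d35_1 D4843 (iv D3566) (iv D2609) (iv F10426) D3540
def n4844 : Q := act 3 n3542
theorem D4844 : act 3 n3542 = n4844 := rfl
theorem F18848 : act 1 n4844 = n3595 := d9_1 D4844 (iv D3595) (iv F13996)
theorem F18849 : act 2 n4844 = n4844 := d15_1 D4844 (iv D4844) F13997 F10444 (iv F13997)
theorem F18850 : act 5 n4844 = n4844 := d22_2 F13998 D4844 (iv D4844)
theorem F18851 : act 8 n4844 = n3567 := d25_2 (iv F13999) D4844 (iv D3567)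
def n4845 : Q := act 6 n3542
theorem D4845 : act 6 n3542 = n4845 := rfl
theorem F18853 : act 2 n4845 = n3547 := d18_1 D4845 (iv D3547) (iv F13997)
theorem F18854 : act 4 n4845 = n3543 := d27_1 D4845 (iv D3543) D3542
theorem F18855 : act 8 n4845 = n3568 := d34_2 (iv F13999) D4845 (iv D3568)
def n4846 : Q := act 7 n3542
theorem D4846 : act 7 n3542 = n4846 := rfl
theorem F18858 : act 4 n4846 = n3544 := d28_1 D4846 (iv D3544) D3542
def n4847 : Q := act 7 n3543
theorem D4847 : act 7 n3543 = n4847 := rfl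
theorem F18863 : act 6 n4847 = n3544 := d33_1 D4847 (iv D3544) D3543
def n4848 : Q := act 3 n3544
theorem D4848 : act 3 n3544 = n4848 := rfl
theorem F18864 : act 1 n4848 = n3599 := d9_1 D4848 (iv D3599) (iv F14004)
theorem F18865 : act 5 n4848 = n3545 := d22_2 (iv F14006) D4848 (iv D3545)
def n4849 : Q := act 8 n3544
theorem D4849 : act 8 n3544 = n4849 := rfl
theorem F18868 : act 5 n4849 = n3546 := d32_1 D4849 (iv D3546) (iv F14006)
theorem F18869 : act 7 n4849 = n3572 := d35_1 D4849 (iv D3572) (iv D2613) (iv F10438) D3544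
def n4850 : Q := act 4 n3545
theorem D4850 : act 4 n3545 = n4850 := rfl
theorem F18870 : act 1 n4850 = n3601 := d10_1 D4850 (iv D3601) (iv F14007)
theorem F18871 : act 3 n4850 = n4850 := d21_1 D4850 (iv D4850) (iv D3545) F10441 D3545
theorem F18872 : act 6 n4850 = n4850 := d27_2 F14008 D4850 (iv D4850)
def n4851 : Q := act 8 n3545
theorem D4851 : act 8 n3545 = n4851 := rfl
theorem F18873 : act 1 n4851 = n3602 := d14_1 D4851 (iv D3602) (iv F14007)
theorem F18874 : act 3 n4851 = n3546 := d25_1 D4851 (iv D3546) D3545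
theorem F18875 : act 6 n4851 = n4851 := d34_1 D4851 (iv D4851) F14008
def n4852 : Q := act 5 n3547
theorem D4852 : act 5 n3547 = n4852 := rfl
theorem F18876 : act 1 n4852 = n3551 := d11_1 D4852 (iv D3551) (iv F14014)
def n4855 : Q := act 8 n3548
theorem D4855 : act 8 n3548 = n4855 := rfl
theorem F18890 : act 7 n4855 = n3578 := d35_1 D4855 (iv D3578) (iv D2617) (iv F10446) D3548
def n4856 : Q := act 8 n3549
theorem D4856 : act 8 n3549 = n4856 := rfl
theorem F18894 : act 7 n4856 = n3579 := d35_1 D4856 (iv D3579) (iv D2618) (iv F10450) D3549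
def n4862 : Q := act 4 n3556
theorem D4862 : act 4 n3556 = n4862 := rfl
theorem F18915 : act 0 n4862 = n3613 := d3_1 D4862 (iv D3613) (iv F14050)
theorem F18916 : act 1 n4862 = n3558 := d10_1 D4862 (iv D3558) (iv F14051)
theorem F18917 : act 2 n4862 = n4862 := d16_1 D4862 (iv D4862) F14052
theorem F18918 : act 5 n4862 = n4862 := d26_2 D3556 D4862 (iv D4862) (iv D3556) F10476
def n4863 : Q := act 6 n3556
theorem D4863 : act 6 n3556 = n4863 := rfl
theorem F18919 : act 0 n4863 = n3614 := d5_1 D4863 (iv D3614) (iv F14050)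
theorem F18920 : act 1 n4863 = n3559 := d12_1 D4863 (iv D3559) (iv F14051)
theorem F18921 : act 2 n4863 = n4863 := d18_1 D4863 (iv D4863) F14052
theorem F18922 : act 5 n4863 = n4863 := d30_1 D4863 (iv D4863) (iv D3556) F10477 D3556
def n4864 : Q := act 7 n3556
theorem D4864 : act 7 n3556 = n4864 := rfl
theorem F18923 : act 0 n4864 = n3615 := d6_1 D4864 (iv D3615) (iv F14050)
theorem F18924 : act 1 n4864 = n3560 := d13_1 D4864 (iv D3560) (iv F14051)
theorem F18925 : act 2 n4864 = n4864 := d19_1 D4864 (iv D4864) F14052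
theorem F18926 : act 5 n4864 = n3557 := d31_1 D4864 (iv D3557) D3556
def n4865 : Q := act 3 n3557
theorem D4865 : act 3 n3557 = n4865 := rfl
theorem F18927 : act 0 n4865 = n3616 := d2_1 D4865 (iv D3616) (iv F14053)
theorem F18928 : act 1 n4865 = n3561 := d9_1 D4865 (iv D3561) (iv F14054)
theorem F18929 : act 6 n4865 = n4865 := d23_2 F14057 D4865 (iv D4865)
def n4866 : Q := act 8 n3557
theorem D4866 : act 8 n3557 = n4866 := rfl
theorem F18930 : act 0 n4866 = n3617 := d7_1 D4866 (iv D3617) (iv F14053)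
theorem F18931 : act 1 n4866 = n3562 := d14_1 D4866 (iv D3562) (iv F14054)
theorem F18932 : act 2 n4866 = n4866 := d20_1 D4866 (iv D4866) F14055
theorem F18933 : act 4 n4866 = n4866 := d29_1 D4866 (iv D4866) F14056
theorem F18934 : act 6 n4866 = n4866 := d34_1 D4866 (iv D4866) F14057
def n4867 : Q := act 3 n3558
theorem D4867 : act 3 n3558 = n4867 := rfl
theorem F18935 : act 0 n4867 = n3567 := d2_1 D4867 (iv D3567) (iv F14058)
theorem F18936 : act 2 n4867 = n4867 := d15_1 D4867 (iv D4867) F14059 F10486 (iv F14059)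
theorem F18937 : act 5 n4867 = n4867 := d22_2 F14060 D4867 (iv D4867)
def n4868 : Q := act 6 n3558
theorem D4868 : act 6 n3558 = n4868 := rfl
theorem F18938 : act 0 n4868 = n3568 := d5_1 D4868 (iv D3568) (iv F14058)
theorem F18939 : act 2 n4868 = n3563 := d18_1 D4868 (iv D3563) (iv F14059)
theorem F18940 : act 4 n4868 = n3559 := d27_1 D4868 (iv D3559) D3558
def n4869 : Q := act 7 n3558
theorem D4869 : act 7 n3558 = n4869 := rfl
theorem F18941 : act 0 n4869 = n3569 := d6_1 D4869 (iv D3569) (iv F14058)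
theorem F18942 : act 2 n4869 = n3564 := d19_1 D4869 (iv D3564) (iv F14059)
theorem F18943 : act 4 n4869 = n3560 := d28_1 D4869 (iv D3560) D3558
theorem F18944 : act 5 n4869 = n4869 := d31_1 D4869 (iv D4869) F14060
def n4870 : Q := act 7 n3559
theorem D4870 : act 7 n3559 = n4870 := rfl
theorem F18945 : act 0 n4870 = n3570 := d6_1 D4870 (iv D3570) (iv F14061)
theorem F18946 : act 2 n4870 = n3565 := d19_1 D4870 (iv D3565) (iv F14062)
theorem F18947 : act 5 n4870 = n4870 := d31_1 D4870 (iv D4870) F14063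
theorem F18948 : act 6 n4870 = n3560 := d33_1 D4870 (iv D3560) D3559
def n4871 : Q := act 3 n3560
theorem D4871 : act 3 n3560 = n4871 := rfl
theorem F18949 : act 0 n4871 = n3571 := d2_1 D4871 (iv D3571) (iv F14064)
theorem F18950 : act 2 n4871 = n4871 := d15_1 D4871 (iv D4871) F14065 F10494 (iv F14065)
theorem F18951 : act 5 n4871 = n3561 := d22_2 (iv F14066) D4871 (iv D3561)
def n4872 : Q := act 8 n3560
theorem D4872 : act 8 n3560 = n4872 := rfl
theorem F18952 : act 0 n4872 = n3572 := d7_1 D4872 (iv D3572) (iv F14064)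
theorem F18953 : act 2 n4872 = n3566 := d20_1 D4872 (iv D3566) (iv F14065)
theorem F18954 : act 5 n4872 = n3562 := d32_1 D4872 (iv D3562) (iv F14066)
def n4873 : Q := act 4 n3561
theorem D4873 : act 4 n3561 = n4873 := rfl
theorem F18955 : act 0 n4873 = n3573 := d3_1 D4873 (iv D3573) (iv F14067)
theorem F18956 : act 2 n4873 = n4873 := d16_1 D4873 (iv D4873) F14068
theorem F18957 : act 3 n4873 = n4873 := d21_1 D4873 (iv D4873) (iv D3561) F10482 D3561
theorem F18958 : act 6 n4873 = n4873 := d27_2 F14069 D4873 (iv D4873)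
def n4874 : Q := act 8 n3561
theorem D4874 : act 8 n3561 = n4874 := rfl
theorem F18959 : act 0 n4874 = n3574 := d7_1 D4874 (iv D3574) (iv F14067)
theorem F18960 : act 2 n4874 = n4874 := d20_1 D4874 (iv D4874) F14068
theorem F18961 : act 3 n4874 = n3562 := d25_1 D4874 (iv D3562) D3561
theorem F18962 : act 6 n4874 = n4874 := d34_1 D4874 (iv D4874) F14069
def n4876 : Q := act 7 n3563
theorem D4876 : act 7 n3563 = n4876 := rfl
def n4877 : Q := act 3 n3564
theorem D4877 : act 3 n3564 = n4877 := rfl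
def n4878 : Q := act 8 n3564
theorem D4878 : act 8 n3564 = n4878 := rfl
theorem F18979 : act 4 n4878 = n3566 := d29_1 D4878 (iv D3566) (iv F14080)
def n4879 : Q := act 8 n3565
theorem D4879 : act 8 n3565 = n4879 := rfl
theorem F18985 : act 6 n4879 = n3566 := d34_1 D4879 (iv D3566) (iv F14086)
def n4880 : Q := act 6 n3567
theorem D4880 : act 6 n3567 = n4880 := rfl
theorem F18986 : act 1 n4880 = n3630 := d12_1 D4880 (iv D3630) (iv F14091)
theorem F18987 : act 2 n4880 = n4880 := d18_1 D4880 (iv D4880) F14092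
theorem F18988 : act 3 n4880 = n3568 := d23_1 D4880 (iv D3568) D3567
def n4881 : Q := act 7 n3567
theorem D4881 : act 7 n3567 = n4881 := rfl
theorem F18989 : act 1 n4881 = n3631 := d13_1 D4881 (iv D3631) (iv F14091)
theorem F18990 : act 2 n4881 = n4881 := d19_1 D4881 (iv D4881) F14092
theorem F18991 : act 5 n4881 = n4881 := d31_1 D4881 (iv D4881) F14093
def n4883 : Q := act 7 n3568
theorem D4883 : act 7 n3568 = n4883 := rfl
def n4884 : Q := act 3 n3569
theorem D4884 : act 3 n3569 = n4884 := rfl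
theorem F19000 : act 1 n4884 = n3634 := d9_1 D4884 (iv D3634) (iv F14097)
theorem F19001 : act 5 n4884 = n4884 := d22_2 F14100 D4884 (iv D4884)
def n4885 : Q := act 8 n3569
theorem D4885 : act 8 n3569 = n4885 := rfl
theorem F19004 : act 4 n4885 = n3572 := d29_1 D4885 (iv D3572) (iv F14099)
def n4886 : Q := act 3 n3570
theorem D4886 : act 3 n3570 = n4886 := rfl
theorem F19006 : act 1 n4886 = n3636 := d9_1 D4886 (iv D3636) (iv F14101)
theorem F19007 : act 2 n4886 = n4886 := d15_1 D4886 (iv D4886) F14102 F10524 (iv F14102)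
theorem F19008 : act 5 n4886 = n4886 := d22_2 F14103 D4886 (iv D4886)
theorem F19009 : act 6 n4886 = n3571 := d23_2 (iv F14104) D4886 (iv D3571)
def n4887 : Q := act 8 n3570
theorem D4887 : act 8 n3570 = n4887 := rfl
theorem F19013 : act 6 n4887 = n3572 := d34_1 D4887 (iv D3572) (iv F14104)
def n4888 : Q := act 4 n3571
theorem D4888 : act 4 n3571 = n4888 := rfl
theorem F19014 : act 1 n4888 = n3638 := d10_1 D4888 (iv D3638) (iv F14105)
theorem F19015 : act 2 n4888 = n4888 := d16_1 D4888 (iv D4888) F14106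
def n4889 : Q := act 8 n3571
theorem D4889 : act 8 n3571 = n4889 := rfl
theorem F19016 : act 1 n4889 = n3639 := d14_1 D4889 (iv D3639) (iv F14105)
theorem F19017 : act 2 n4889 = n4889 := d20_1 D4889 (iv D4889) F14106
theorem F19018 : act 3 n4889 = n3572 := d25_1 D4889 (iv D3572) D3571
theorem F19019 : act 5 n4889 = n3574 := d32_1 D4889 (iv D3574) (iv F14107)
def n4890 : Q := act 5 n3573
theorem D4890 : act 5 n3573 = n4890 := rfl
theorem F19020 : act 1 n4890 = n3640 := d11_1 D4890 (iv D3640) (iv F14111)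
theorem F19021 : act 2 n4890 = n4890 := d17_1 D4890 (iv D4890) F14112
theorem F19022 : act 3 n4890 = n4890 := d22_1 D4890 (iv D4890) F14113
def n4891 : Q := act 8 n3573
theorem D4891 : act 8 n3573 = n4891 := rfl
theorem F19023 : act 1 n4891 = n3641 := d14_1 D4891 (iv D3641) (iv F14111)
theorem F19024 : act 2 n4891 = n4891 := d20_1 D4891 (iv D4891) F14112
theorem F19025 : act 3 n4891 = n4891 := d25_1 D4891 (iv D4891) F14113
theorem F19026 : act 4 n4891 = n3574 := d29_1 D4891 (iv D3574) D3573
theorem F19027 : act 6 n4891 = n4891 := d34_1 D4891 (iv D4891) F14114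
def n4892 : Q := act 7 n3574
theorem D4892 : act 7 n3574 = n4892 := rfl
theorem F19028 : act 1 n4892 = n3642 := d13_1 D4892 (iv D3642) (iv F14115)
theorem F19029 : act 2 n4892 = n4892 := d19_1 D4892 (iv D4892) F14116
theorem F19030 : act 6 n4892 = n4892 := d33_1 D4892 (iv D4892) F14118
def n4902 : Q := act 4 n3584
theorem D4902 : act 4 n3584 = n4902 := rfl
theorem F19070 : act 1 n4902 = n3586 := d10_1 D4902 (iv D3586) (iv F14156)
theorem F19071 : act 2 n4902 = n4902 := d16_1 D4902 (iv D4902) F14157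
theorem F19072 : act 5 n4902 = n4902 := d26_2 D3584 D4902 (iv D4902) (iv D3584) F10554
theorem F19073 : act 8 n4902 = n3613 := d29_2 (iv F14158) D4902 (iv D3613)
def n4903 : Q := act 6 n3584
theorem D4903 : act 6 n3584 = n4903 := rfl
theorem F19074 : act 1 n4903 = n3587 := d12_1 D4903 (iv D3587) (iv F14156)
theorem F19075 : act 2 n4903 = n4903 := d18_1 D4903 (iv D4903) F14157
theorem F19076 : act 5 n4903 = n4903 := d30_1 D4903 (iv D4903) (iv D3584) F10555 D3584
theorem F19077 : act 8 n4903 = n3614 := d34_2 (iv F14158) D4903 (iv D3614)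
def n4904 : Q := act 7 n3584
theorem D4904 : act 7 n3584 = n4904 := rfl
theorem F19078 : act 1 n4904 = n3588 := d13_1 D4904 (iv D3588) (iv F14156)
theorem F19079 : act 2 n4904 = n4904 := d19_1 D4904 (iv D4904) F14157
theorem F19080 : act 5 n4904 = n3585 := d31_1 D4904 (iv D3585) D3584
def n4905 : Q := act 3 n3585
theorem D4905 : act 3 n3585 = n4905 := rfl
theorem F19081 : act 1 n4905 = n3589 := d9_1 D4905 (iv D3589) (iv F14159)
theorem F19082 : act 6 n4905 = n4905 := d23_2 F14162 D4905 (iv D4905)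
def n4906 : Q := act 8 n3585
theorem D4906 : act 8 n3585 = n4906 := rfl
theorem F19083 : act 1 n4906 = n3590 := d14_1 D4906 (iv D3590) (iv F14159)
theorem F19084 : act 2 n4906 = n4906 := d20_1 D4906 (iv D4906) F14160
theorem F19085 : act 4 n4906 = n4906 := d29_1 D4906 (iv D4906) F14161
theorem F19086 : act 6 n4906 = n4906 := d34_1 D4906 (iv D4906) F14162
theorem F19087 : act 7 n4906 = n3617 := d35_1 D4906 (iv D3617) (iv D2647) (iv F10556) D3585
def n4907 : Q := act 3 n3586
theorem D4907 : act 3 n3586 = n4907 := rfl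
theorem F19088 : act 0 n4907 = n3595 := d2_1 D4907 (iv D3595) (iv F14163)
theorem F19089 : act 2 n4907 = n3650 := d15_1 D4907 (iv D3650) F10730 (iv F10566) (iv F14164)
theorem F19090 : act 5 n4907 = n4907 := d22_2 F14165 D4907 (iv D4907)
theorem F19091 : act 8 n4907 = n3618 := d25_2 (iv F14166) D4907 (iv D3618)
def n4908 : Q := act 6 n3586
theorem D4908 : act 6 n3586 = n4908 := rfl
theorem F19093 : act 2 n4908 = n3591 := d18_1 D4908 (iv D3591) (iv F14164)
theorem F19094 : act 4 n4908 = n3587 := d27_1 D4908 (iv D3587) D3586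
theorem F19095 : act 8 n4908 = n3619 := d34_2 (iv F14166) D4908 (iv D3619)
def n4909 : Q := act 7 n3586
theorem D4909 : act 7 n3586 = n4909 := rfl
theorem F19096 : act 0 n4909 = n3597 := d6_1 D4909 (iv D3597) (iv F14163)
theorem F19098 : act 4 n4909 = n3588 := d28_1 D4909 (iv D3588) D3586
def n4910 : Q := act 7 n3587
theorem D4910 : act 7 n3587 = n4910 := rfl
theorem F19103 : act 6 n4910 = n3588 := d33_1 D4910 (iv D3588) D3587
def n4911 : Q := act 3 n3588
theorem D4911 : act 3 n3588 = n4911 := rfl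
theorem F19104 : act 0 n4911 = n3599 := d2_1 D4911 (iv D3599) (iv F14171)
theorem F19105 : act 2 n4911 = n4911 := d15_1 D4911 (iv D4911) F14172 F10576 (iv F14172)
theorem F19106 : act 5 n4911 = n3589 := d22_2 (iv F14173) D4911 (iv D3589)
def n4912 : Q := act 8 n3588
theorem D4912 : act 8 n3588 = n4912 := rfl
theorem F19109 : act 5 n4912 = n3590 := d32_1 D4912 (iv D3590) (iv F14173)
theorem F19110 : act 7 n4912 = n3623 := d35_1 D4912 (iv D3623) (iv D2650) (iv F10559) D3588
def n4913 : Q := act 4 n3589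
theorem D4913 : act 4 n3589 = n4913 := rfl
theorem F19111 : act 0 n4913 = n3601 := d3_1 D4913 (iv D3601) (iv F14174)
theorem F19112 : act 2 n4913 = n4913 := d16_1 D4913 (iv D4913) F14175
theorem F19113 : act 3 n4913 = n4913 := d21_1 D4913 (iv D4913) (iv D3589) F10562 D3589
theorem F19114 : act 6 n4913 = n4913 := d27_2 F14176 D4913 (iv D4913)
def n4914 : Q := act 8 n3589
theorem D4914 : act 8 n3589 = n4914 := rfl
theorem F19115 : act 0 n4914 = n3602 := d7_1 D4914 (iv D3602) (iv F14174)
theorem F19116 : act 2 n4914 = n4914 := d20_1 D4914 (iv D4914) F14175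
theorem F19117 : act 3 n4914 = n3590 := d25_1 D4914 (iv D3590) D3589
theorem F19118 : act 6 n4914 = n4914 := d34_1 D4914 (iv D4914) F14176
def n4915 : Q := act 5 n3591
theorem D4915 : act 5 n3591 = n4915 := rfl
theorem F19124 : act 8 n4915 = n3626 := d32_2 (iv F14186) D4915 (iv D3626)
def n4918 : Q := act 8 n3592
theorem D4918 : act 8 n3592 = n4918 := rfl
theorem F19138 : act 7 n4918 = n3628 := d35_1 D4918 (iv D3628) (iv D2654) (iv F10568) D3592
def n4919 : Q := act 8 n3593
theorem D4919 : act 8 n3593 = n4919 := rfl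
theorem F19144 : act 7 n4919 = n3629 := d35_1 D4919 (iv D3629) (iv D2655) (iv F10573) D3593
def n4920 : Q := act 6 n3595
theorem D4920 : act 6 n3595 = n4920 := rfl
theorem F19145 : act 2 n4920 = n3659 := d18_1 D4920 (iv D3659) (iv F14201)
theorem F19146 : act 3 n4920 = n3596 := d23_1 D4920 (iv D3596) D3595
theorem F19147 : act 8 n4920 = n3630 := d34_2 (iv F14203) D4920 (iv D3630)
def n4921 : Q := act 7 n3595
theorem D4921 : act 7 n3595 = n4921 := rfl
theorem F19148 : act 2 n4921 = n3660 := d19_1 D4921 (iv D3660) (iv F14201)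
theorem F19149 : act 5 n4921 = n4921 := d31_1 D4921 (iv D4921) F14202
def n4922 : Q := act 5 n3596
theorem D4922 : act 5 n3596 = n4922 := rfl
theorem F19150 : act 2 n4922 = n3603 := d17_1 D4922 (iv D3603) (iv F14204)
def n4924 : Q := act 3 n3597
theorem D4924 : act 3 n3597 = n4924 := rfl
def n4925 : Q := act 8 n3597
theorem D4925 : act 8 n3597 = n4925 := rfl
theorem F19161 : act 7 n4925 = n3635 := d35_1 D4925 (iv D3635) (iv D2659) (iv F10586) D3597
def n4926 : Q := act 3 n3598
theorem D4926 : act 3 n3598 = n4926 := rfl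
theorem F19164 : act 6 n4926 = n3599 := d23_2 (iv F14212) D4926 (iv D3599)
def n4927 : Q := act 8 n3598
theorem D4927 : act 8 n3598 = n4927 := rfl
theorem F19168 : act 7 n4927 = n3637 := d35_1 D4927 (iv D3637) (iv D2660) (iv F10589) D3598
def n4928 : Q := act 4 n3599
theorem D4928 : act 4 n3599 = n4928 := rfl
theorem F19169 : act 2 n4928 = n4928 := d16_1 D4928 (iv D4928) F14213
def n4929 : Q := act 8 n3599
theorem D4929 : act 8 n3599 = n4929 := rfl
theorem F19171 : act 3 n4929 = n3600 := d25_1 D4929 (iv D3600) D3599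
theorem F19172 : act 5 n4929 = n3602 := d32_1 D4929 (iv D3602) (iv F14214)
def n4930 : Q := act 5 n3601
theorem D4930 : act 5 n3601 = n4930 := rfl
theorem F19173 : act 2 n4930 = n4930 := d17_1 D4930 (iv D4930) F14218
theorem F19174 : act 3 n4930 = n4930 := d22_1 D4930 (iv D4930) F14219
def n4931 : Q := act 8 n3601
theorem D4931 : act 8 n3601 = n4931 := rfl
theorem F19175 : act 2 n4931 = n4931 := d20_1 D4931 (iv D4931) F14218
theorem F19176 : act 3 n4931 = n4931 := d25_1 D4931 (iv D4931) F14219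
theorem F19177 : act 4 n4931 = n3602 := d29_1 D4931 (iv D3602) D3601
theorem F19178 : act 6 n4931 = n4931 := d34_1 D4931 (iv D4931) F14220
def n4932 : Q := act 7 n3602
theorem D4932 : act 7 n3602 = n4932 := rfl
theorem F19179 : act 2 n4932 = n4932 := d19_1 D4932 (iv D4932) F14221
theorem F19180 : act 3 n4932 = n3642 := d24_1 D4932 (iv D3642) F10692 (iv F10597) (iv F14222)
theorem F19181 : act 6 n4932 = n4932 := d33_1 D4932 (iv D4932) F14223
def n4944 : Q := act 3 n3613
theorem D4944 : act 3 n3613 = n4944 := rfl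
theorem F19228 : act 1 n4944 = n3618 := d9_1 D4944 (iv D3618) (iv F14266)
theorem F19229 : act 5 n4944 = n4944 := d22_2 F14268 D4944 (iv D4944)
def n4945 : Q := act 6 n3613
theorem D4945 : act 6 n3613 = n4945 := rfl
theorem F19230 : act 1 n4945 = n3619 := d12_1 D4945 (iv D3619) (iv F14266)
theorem F19231 : act 2 n4945 = n4945 := d18_1 D4945 (iv D4945) F14267
theorem F19232 : act 4 n4945 = n3614 := d27_1 D4945 (iv D3614) D3613
def n4946 : Q := act 7 n3613
theorem D4946 : act 7 n3613 = n4946 := rfl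
theorem F19233 : act 1 n4946 = n3620 := d13_1 D4946 (iv D3620) (iv F14266)
theorem F19234 : act 2 n4946 = n4946 := d19_1 D4946 (iv D4946) F14267
theorem F19235 : act 4 n4946 = n3615 := d28_1 D4946 (iv D3615) D3613
theorem F19236 : act 5 n4946 = n4946 := d31_1 D4946 (iv D4946) F14268
def n4947 : Q := act 7 n3614
theorem D4947 : act 7 n3614 = n4947 := rfl
theorem F19237 : act 1 n4947 = n3621 := d13_1 D4947 (iv D3621) (iv F14269)
theorem F19238 : act 2 n4947 = n4947 := d19_1 D4947 (iv D4947) F14270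
theorem F19239 : act 5 n4947 = n4947 := d31_1 D4947 (iv D4947) F14271
theorem F19240 : act 6 n4947 = n3615 := d33_1 D4947 (iv D3615) D3614
def n4948 : Q := act 3 n3615
theorem D4948 : act 3 n3615 = n4948 := rfl
theorem F19241 : act 1 n4948 = n3622 := d9_1 D4948 (iv D3622) (iv F14272)
theorem F19242 : act 5 n4948 = n3616 := d22_2 (iv F14274) D4948 (iv D3616)
def n4949 : Q := act 8 n3615
theorem D4949 : act 8 n3615 = n4949 := rfl
theorem F19243 : act 1 n4949 = n3623 := d14_1 D4949 (iv D3623) (iv F14272)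
theorem F19244 : act 2 n4949 = n4949 := d20_1 D4949 (iv D4949) F14273
theorem F19245 : act 5 n4949 = n3617 := d32_1 D4949 (iv D3617) (iv F14274)
def n4950 : Q := act 2 n3616
theorem D4950 : act 2 n3616 = n4950 := rfl
theorem F19246 : act 1 n4950 = n3684 := d8_1 D4950 (iv D3684) F10856 (iv F10650) (iv F14275)
theorem F19247 : act 3 n4950 = n4950 := d15_2 D3616 D4950 (iv D4950) (iv D3616) F10637
theorem F19248 : act 6 n4950 = n4950 := d18_2 F14276 D4950 (iv D4950)
def n4951 : Q := act 4 n3616
theorem D4951 : act 4 n3616 = n4951 := rfl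
theorem F19249 : act 1 n4951 = n3624 := d10_1 D4951 (iv D3624) (iv F14275)
theorem F19250 : act 3 n4951 = n4951 := d21_1 D4951 (iv D4951) (iv D3616) F10638 D3616
theorem F19251 : act 6 n4951 = n4951 := d27_2 F14276 D4951 (iv D4951)
def n4952 : Q := act 8 n3616
theorem D4952 : act 8 n3616 = n4952 := rfl
theorem F19252 : act 1 n4952 = n3625 := d14_1 D4952 (iv D3625) (iv F14275)
theorem F19253 : act 3 n4952 = n3617 := d25_1 D4952 (iv D3617) D3616
theorem F19254 : act 6 n4952 = n4952 := d34_1 D4952 (iv D4952) F14276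
def n4953 : Q := act 6 n3618
theorem D4953 : act 6 n3618 = n4953 := rfl
theorem F19255 : act 0 n4953 = n3630 := d5_1 D4953 (iv D3630) (iv F14281)
theorem F19256 : act 2 n4953 = n3675 := d18_1 D4953 (iv D3675) (iv F14282)
theorem F19257 : act 3 n4953 = n3619 := d23_1 D4953 (iv D3619) D3618
def n4954 : Q := act 7 n3618
theorem D4954 : act 7 n3618 = n4954 := rfl
theorem F19258 : act 0 n4954 = n3631 := d6_1 D4954 (iv D3631) (iv F14281)
theorem F19259 : act 2 n4954 = n3676 := d19_1 D4954 (iv D3676) (iv F14282)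
theorem F19260 : act 5 n4954 = n4954 := d31_1 D4954 (iv D4954) F14283
def n4956 : Q := act 7 n3619
theorem D4956 : act 7 n3619 = n4956 := rfl
theorem F19267 : act 4 n4956 = n3621 := d28_1 D4956 (iv D3621) (iv F14286)
theorem F19268 : act 6 n4956 = n3620 := d33_1 D4956 (iv D3620) D3619
def n4957 : Q := act 3 n3620
theorem D4957 : act 3 n3620 = n4957 := rfl
theorem F19269 : act 0 n4957 = n3634 := d2_1 D4957 (iv D3634) (iv F14287)
theorem F19270 : act 2 n4957 = n4957 := d15_1 D4957 (iv D4957) F14288 F10662 (iv F14288)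
theorem F19271 : act 5 n4957 = n4957 := d22_2 F14290 D4957 (iv D4957)
def n4958 : Q := act 8 n3620
theorem D4958 : act 8 n3620 = n4958 := rfl
theorem F19274 : act 4 n4958 = n3623 := d29_1 D4958 (iv D3623) (iv F14289)
def n4959 : Q := act 3 n3621
theorem D4959 : act 3 n3621 = n4959 := rfl
theorem F19276 : act 0 n4959 = n3636 := d2_1 D4959 (iv D3636) (iv F14291)
theorem F19277 : act 2 n4959 = n3687 := d15_1 D4959 (iv D3687) F10865 (iv F10667) (iv F14292)
theorem F19278 : act 5 n4959 = n4959 := d22_2 F14293 D4959 (iv D4959)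
theorem F19279 : act 6 n4959 = n3622 := d23_2 (iv F14294) D4959 (iv D3622)
def n4960 : Q := act 8 n3621
theorem D4960 : act 8 n3621 = n4960 := rfl
theorem F19283 : act 6 n4960 = n3623 := d34_1 D4960 (iv D3623) (iv F14294)
def n4961 : Q := act 4 n3622
theorem D4961 : act 4 n3622 = n4961 := rfl
theorem F19284 : act 0 n4961 = n3638 := d3_1 D4961 (iv D3638) (iv F14295)
theorem F19285 : act 2 n4961 = n3689 := d16_1 D4961 (iv D3689) (iv F14296)
def n4962 : Q := act 8 n3622
theorem D4962 : act 8 n3622 = n4962 := rfl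
theorem F19286 : act 0 n4962 = n3639 := d7_1 D4962 (iv D3639) (iv F14295)
theorem F19287 : act 2 n4962 = n3690 := d20_1 D4962 (iv D3690) (iv F14296)
theorem F19288 : act 3 n4962 = n3623 := d25_1 D4962 (iv D3623) D3622
theorem F19289 : act 5 n4962 = n3625 := d32_1 D4962 (iv D3625) (iv F14297)
def n4963 : Q := act 5 n3624
theorem D4963 : act 5 n3624 = n4963 := rfl
theorem F19290 : act 0 n4963 = n3640 := d4_1 D4963 (iv D3640) (iv F14301)
theorem F19291 : act 2 n4963 = n3691 := d17_1 D4963 (iv D3691) (iv F14302)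
theorem F19292 : act 3 n4963 = n4963 := d22_1 D4963 (iv D4963) F14303
def n4964 : Q := act 8 n3624
theorem D4964 : act 8 n3624 = n4964 := rfl
theorem F19293 : act 0 n4964 = n3641 := d7_1 D4964 (iv D3641) (iv F14301)
theorem F19294 : act 2 n4964 = n3692 := d20_1 D4964 (iv D3692) (iv F14302)
theorem F19295 : act 3 n4964 = n4964 := d25_1 D4964 (iv D4964) F14303
theorem F19296 : act 4 n4964 = n3625 := d29_1 D4964 (iv D3625) D3624
theorem F19297 : act 6 n4964 = n4964 := d34_1 D4964 (iv D4964) F14304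
def n4965 : Q := act 7 n3625
theorem D4965 : act 7 n3625 = n4965 := rfl
theorem F19298 : act 0 n4965 = n3642 := d6_1 D4965 (iv D3642) (iv F14305)
theorem F19299 : act 2 n4965 = n3693 := d19_1 D4965 (iv D3693) (iv F14306)
theorem F19300 : act 6 n4965 = n4965 := d33_1 D4965 (iv D4965) F14308
def n4968 : Q := act 5 n3630
theorem D4968 : act 5 n3630 = n4968 := rfl
theorem F19312 : act 2 n4968 = n3678 := d17_1 D4968 (iv D3678) (iv F14329)
def n4969 : Q := act 7 n3630
theorem D4969 : act 7 n3630 = n4969 := rfl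
theorem F19315 : act 2 n4969 = n3679 := d19_1 D4969 (iv D3679) (iv F14329)
theorem F19316 : act 6 n4969 = n3631 := d33_1 D4969 (iv D3631) D3630
def n4970 : Q := act 3 n3631
theorem D4970 : act 3 n3631 = n4970 := rfl
theorem F19317 : act 2 n4970 = n4970 := d15_1 D4970 (iv D4970) F14331 F10837 (iv F14331)
theorem F19318 : act 5 n4970 = n4970 := d22_2 F14332 D4970 (iv D4970)
theorem F19319 : act 7 n4970 = n3634 := d24_2 D3631 D4970 (iv D3634) (iv D2659) D2657
def n4971 : Q := act 8 n3631
theorem D4971 : act 8 n3631 = n4971 := rfl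
theorem F19320 : act 2 n4971 = n3680 := d20_1 D4971 (iv D3680) (iv F14331)
theorem F19321 : act 5 n4971 = n4971 := d32_1 D4971 (iv D4971) F14332
def n4973 : Q := act 3 n3633
theorem D4973 : act 3 n3633 = n4973 := rfl
def n4975 : Q := act 4 n3634
theorem D4975 : act 4 n3634 = n4975 := rfl
theorem F19331 : act 2 n4975 = n4975 := d16_1 D4975 (iv D4975) F14339
theorem F19332 : act 3 n4975 = n3638 := d21_1 D4975 (iv D3638) (iv D2661) (iv F10679) D3634
def n4976 : Q := act 8 n3634
theorem D4976 : act 8 n3634 = n4976 := rfl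
theorem F19334 : act 3 n4976 = n3635 := d25_1 D4976 (iv D3635) D3634
def n4977 : Q := act 4 n3636
theorem D4977 : act 4 n3636 = n4977 := rfl
theorem F19336 : act 2 n4977 = n3694 := d16_1 D4977 (iv D3694) (iv F14344)
theorem F19337 : act 6 n4977 = n3638 := d27_2 (iv F14346) D4977 (iv D3638)
def n4978 : Q := act 8 n3636
theorem D4978 : act 8 n3636 = n4978 := rfl
theorem F19338 : act 2 n4978 = n3695 := d20_1 D4978 (iv D3695) (iv F14344)
theorem F19339 : act 3 n4978 = n3637 := d25_1 D4978 (iv D3637) D3636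
theorem F19341 : act 6 n4978 = n3639 := d34_1 D4978 (iv D3639) (iv F14346)
def n4979 : Q := act 5 n3638
theorem D4979 : act 5 n3638 = n4979 := rfl
theorem F19342 : act 2 n4979 = n3696 := d17_1 D4979 (iv D3696) (iv F14350)
theorem F19343 : act 4 n4979 = n3640 := d26_1 D4979 (iv D3640) (iv D2663) (iv F10685) D3638
def n4980 : Q := act 8 n3638
theorem D4980 : act 8 n3638 = n4980 := rfl
theorem F19344 : act 2 n4980 = n3697 := d20_1 D4980 (iv D3697) (iv F14350)
theorem F19345 : act 4 n4980 = n3639 := d29_1 D4980 (iv D3639) D3638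
def n4981 : Q := act 7 n3639
theorem D4981 : act 7 n3639 = n4981 := rfl
theorem F19346 : act 2 n4981 = n3698 := d19_1 D4981 (iv D3698) (iv F14351)
theorem F19347 : act 5 n4981 = n3642 := d31_1 D4981 (iv D3642) (iv F14353)
def n4982 : Q := act 6 n3640
theorem D4982 : act 6 n3640 = n4982 := rfl
theorem F19348 : act 2 n4982 = n3699 := d18_1 D4982 (iv D3699) (iv F14354)
theorem F19349 : act 3 n4982 = n4982 := d23_1 D4982 (iv D4982) F14355
theorem F19350 : act 5 n4982 = n4982 := d30_1 D4982 (iv D4982) (iv D3640) F10690 D3640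
def n4983 : Q := act 8 n3640
theorem D4983 : act 8 n3640 = n4983 := rfl
theorem F19351 : act 2 n4983 = n3700 := d20_1 D4983 (iv D3700) (iv F14354)
theorem F19352 : act 3 n4983 = n4983 := d25_1 D4983 (iv D4983) F14355
theorem F19353 : act 5 n4983 = n3641 := d32_1 D4983 (iv D3641) D3640
def n4984 : Q := act 7 n3641
theorem D4984 : act 7 n3641 = n4984 := rfl
theorem F19354 : act 2 n4984 = n3701 := d19_1 D4984 (iv D3701) (iv F14356)
theorem F19355 : act 4 n4984 = n3642 := d28_1 D4984 (iv D3642) (iv F14358)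
theorem F19356 : act 6 n4984 = n4984 := d33_1 D4984 (iv D4984) F14359
def n4986 : Q := act 3 n3646
theorem D4986 : act 3 n3646 = n4986 := rfl
theorem F19362 : act 0 n4986 = n4986 := d2_1 D4986 (iv D4986) F14376
theorem F19363 : act 1 n4986 = n3650 := d9_1 D4986 (iv D3650) (iv F14377)
theorem F19364 : act 5 n4986 = n4986 := d22_2 F14379 D4986 (iv D4986)
theorem F19365 : act 8 n4986 = n3673 := d25_2 (iv F14380) D4986 (iv D3673)
def n4987 : Q := act 6 n3646
theorem D4987 : act 6 n3646 = n4987 := rfl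
theorem F19366 : act 0 n4987 = n4987 := d5_1 D4987 (iv D4987) F14376
theorem F19367 : act 1 n4987 = n3651 := d12_1 D4987 (iv D3651) (iv F14377)
theorem F19368 : act 2 n4987 = n4987 := d18_1 D4987 (iv D4987) F14378
theorem F19369 : act 4 n4987 = n3647 := d27_1 D4987 (iv D3647) D3646
theorem F19370 : act 8 n4987 = n3674 := d34_2 (iv F14380) D4987 (iv D3674)
def n4988 : Q := act 7 n3646
theorem D4988 : act 7 n3646 = n4988 := rfl
theorem F19371 : act 0 n4988 = n4988 := d6_1 D4988 (iv D4988) F14376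
theorem F19372 : act 1 n4988 = n3652 := d13_1 D4988 (iv D3652) (iv F14377)
theorem F19373 : act 2 n4988 = n4988 := d19_1 D4988 (iv D4988) F14378
theorem F19374 : act 4 n4988 = n3648 := d28_1 D4988 (iv D3648) D3646
theorem F19375 : act 5 n4988 = n4988 := d31_1 D4988 (iv D4988) F14379
theorem F19376 : act 8 n4988 = n4988 := d35_2 (iv F14380) D4988 (iv D4988) F14380 F10817
def n4989 : Q := act 7 n3647
theorem D4989 : act 7 n3647 = n4989 := rfl
theorem F19377 : act 0 n4989 = n4989 := d6_1 D4989 (iv D4989) F14381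
theorem F19378 : act 1 n4989 = n3653 := d13_1 D4989 (iv D3653) (iv F14382)
theorem F19379 : act 2 n4989 = n4989 := d19_1 D4989 (iv D4989) F14383
theorem F19380 : act 5 n4989 = n4022 := d31_1 D4989 (iv D4022) (iv F14384)
theorem F19381 : act 6 n4989 = n3648 := d33_1 D4989 (iv D3648) D3647
theorem F19382 : act 8 n4989 = n4989 := d35_2 (iv F14385) D4989 (iv D4989) F14385 F10822
def n4990 : Q := act 3 n3648
theorem D4990 : act 3 n3648 = n4990 := rfl
theorem F19383 : act 0 n4990 = n4990 := d2_1 D4990 (iv D4990) F14386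
theorem F19384 : act 1 n4990 = n3654 := d9_1 D4990 (iv D3654) (iv F14387)
theorem F19385 : act 5 n4990 = n3649 := d22_2 (iv F14389) D4990 (iv D3649)
theorem F19386 : act 8 n4990 = n4990 := d25_2 F14390 D4990 (iv D4990)
def n4991 : Q := act 2 n3649
theorem D4991 : act 2 n3649 = n4991 := rfl
theorem F19387 : act 0 n4991 = n4991 := d1_1 D4991 (iv D4991) F14391
theorem F19388 : act 1 n4991 = n4991 := d8_1 D4991 (iv D4991) F14392 F10742 (iv F14392)
theorem F19389 : act 3 n4991 = n4991 := d15_2 D3649 D4991 (iv D4991) (iv D3649) F10725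
theorem F19390 : act 6 n4991 = n4024 := d18_2 (iv F14393) D4991 (iv D4024)
theorem F19391 : act 8 n4991 = n4991 := d20_2 F14394 D4991 (iv D4991)
def n4992 : Q := act 4 n3649
theorem D4992 : act 4 n3649 = n4992 := rfl
theorem F19392 : act 0 n4992 = n4992 := d3_1 D4992 (iv D4992) F14391
theorem F19393 : act 1 n4992 = n3655 := d10_1 D4992 (iv D3655) (iv F14392)
theorem F19394 : act 3 n4992 = n4992 := d21_1 D4992 (iv D4992) (iv D3649) F10726 D3649
theorem F19395 : act 6 n4992 = n4025 := d27_2 (iv F14393) D4992 (iv D4025)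
theorem F19396 : act 8 n4992 = n4992 := d29_2 F14394 D4992 (iv D4992)
def n4993 : Q := act 6 n3650
theorem D4993 : act 6 n3650 = n4993 := rfl
theorem F19397 : act 0 n4993 = n3659 := d5_1 D4993 (iv D3659) (iv F14395)
theorem F19398 : act 3 n4993 = n3651 := d23_1 D4993 (iv D3651) D3650
theorem F19399 : act 8 n4993 = n3675 := d34_2 (iv F14397) D4993 (iv D3675)
def n4994 : Q := act 7 n3650
theorem D4994 : act 7 n3650 = n4994 := rfl
theorem F19400 : act 0 n4994 = n3660 := d6_1 D4994 (iv D3660) (iv F14395)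
theorem F19401 : act 5 n4994 = n4994 := d31_1 D4994 (iv D4994) F14396
def n4995 : Q := act 5 n3651
theorem D4995 : act 5 n3651 = n4995 := rfl
theorem F19403 : act 2 n4995 = n3656 := d17_1 D4995 (iv D3656) (iv F14399)
theorem F19404 : act 4 n4995 = n4028 := d26_1 D4995 (iv D4028) F11785 (iv F10735) (iv F14400)
theorem F19406 : act 8 n4995 = n3677 := d32_2 (iv F14401) D4995 (iv D3677)
def n4996 : Q := act 7 n3651
theorem D4996 : act 7 n3651 = n4996 := rfl
theorem F19409 : act 4 n4996 = n3653 := d28_1 D4996 (iv D3653) (iv F14400)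
theorem F19410 : act 6 n4996 = n3652 := d33_1 D4996 (iv D3652) D3651
def n4997 : Q := act 3 n3652
theorem D4997 : act 3 n3652 = n4997 := rfl
theorem F19412 : act 0 n4997 = n3663 := d2_1 D4997 (iv D3663) (iv F14402)
theorem F19413 : act 5 n4997 = n4997 := d22_2 F14405 D4997 (iv D4997)
theorem F19414 : act 8 n4997 = n4997 := d25_2 F14406 D4997 (iv D4997)
def n4998 : Q := act 3 n3653
theorem D4998 : act 3 n3653 = n4998 := rfl
theorem F19415 : act 0 n4998 = n3664 := d2_1 D4998 (iv D3664) (iv F14407)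
theorem F19416 : act 2 n4998 = n4998 := d15_1 D4998 (iv D4998) F14408 F10756 (iv F14408)
theorem F19417 : act 5 n4998 = n4031 := d22_2 (iv F14409) D4998 (iv D4031)
theorem F19418 : act 6 n4998 = n3654 := d23_2 (iv F14410) D4998 (iv D3654)
theorem F19419 : act 8 n4998 = n4998 := d25_2 F14411 D4998 (iv D4998)
def n4999 : Q := act 4 n3654
theorem D4999 : act 4 n3654 = n4999 := rfl
theorem F19420 : act 0 n4999 = n3665 := d3_1 D4999 (iv D3665) (iv F14412)
theorem F19421 : act 2 n4999 = n4999 := d16_1 D4999 (iv D4999) F14413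
theorem F19422 : act 8 n4999 = n4999 := d29_2 F14415 D4999 (iv D4999)
def n5000 : Q := act 5 n3655
theorem D5000 : act 5 n3655 = n5000 := rfl
theorem F19423 : act 0 n5000 = n3666 := d4_1 D5000 (iv D3666) (iv F14416)
theorem F19424 : act 2 n5000 = n5000 := d17_1 D5000 (iv D5000) F14417
theorem F19425 : act 3 n5000 = n5000 := d22_1 D5000 (iv D5000) F14418
theorem F19426 : act 8 n5000 = n5000 := d32_2 F14420 D5000 (iv D5000)
def n5004 : Q := act 5 n3659
theorem D5004 : act 5 n3659 = n5004 := rfl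
theorem F19443 : act 3 n5004 = n3661 := d22_1 D5004 (iv D3661) (iv F14437)
theorem F19445 : act 8 n5004 = n3678 := d32_2 (iv F14438) D5004 (iv D3678)
def n5005 : Q := act 7 n3659
theorem D5005 : act 7 n3659 = n5005 := rfl
theorem F19446 : act 1 n5005 = n5005 := d13_1 D5005 (iv D5005) F14436
theorem F19447 : act 6 n5005 = n3660 := d33_1 D5005 (iv D3660) D3659
def n5006 : Q := act 3 n3660
theorem D5006 : act 3 n3660 = n5006 := rfl
theorem F19448 : act 1 n5006 = n5006 := d9_1 D5006 (iv D5006) F14439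
theorem F19449 : act 5 n5006 = n5006 := d22_2 F14440 D5006 (iv D5006)
theorem F19450 : act 7 n5006 = n3663 := d24_2 D3660 D5006 (iv D3663) (iv D2682) D2680
def n5007 : Q := act 8 n3660
theorem D5007 : act 8 n3660 = n5007 := rfl
theorem F19451 : act 1 n5007 = n5007 := d14_1 D5007 (iv D5007) F14439
theorem F19452 : act 5 n5007 = n5007 := d32_1 D5007 (iv D5007) F14440
theorem F19453 : act 7 n5007 = n3680 := d35_1 D5007 (iv D3680) (iv D2698) (iv F10762) D3660
def n5010 : Q := act 2 n3663
theorem D5010 : act 2 n3663 = n5010 := rfl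
def n5011 : Q := act 4 n3663
theorem D5011 : act 4 n3663 = n5011 := rfl
theorem F19466 : act 1 n5011 = n5011 := d10_1 D5011 (iv D5011) F14451
theorem F19467 : act 3 n5011 = n3665 := d21_1 D5011 (iv D3665) (iv D2684) (iv F10769) D3663
theorem F19468 : act 8 n5011 = n5011 := d29_2 F14453 D5011 (iv D5011)
def n5012 : Q := act 4 n3664
theorem D5012 : act 4 n3664 = n5012 := rfl
theorem F19469 : act 1 n5012 = n5012 := d10_1 D5012 (iv D5012) F14454
theorem F19470 : act 2 n5012 = n5012 := d16_1 D5012 (iv D5012) F14455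
theorem F19471 : act 6 n5012 = n3665 := d27_2 (iv F14457) D5012 (iv D3665)
theorem F19472 : act 8 n5012 = n5012 := d29_2 F14458 D5012 (iv D5012)
def n5013 : Q := act 5 n3665
theorem D5013 : act 5 n3665 = n5013 := rfl
theorem F19473 : act 1 n5013 = n5013 := d11_1 D5013 (iv D5013) F14459
theorem F19474 : act 2 n5013 = n5013 := d17_1 D5013 (iv D5013) F14460
theorem F19475 : act 4 n5013 = n3666 := d26_1 D5013 (iv D3666) (iv D2685) (iv F10779) D3665
theorem F19476 : act 8 n5013 = n5013 := d32_2 F14461 D5013 (iv D5013)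
def n5014 : Q := act 6 n3666
theorem D5014 : act 6 n3666 = n5014 := rfl
def n5022 : Q := act 2 n3673
theorem D5022 : act 2 n3673 = n5022 := rfl
theorem F19512 : act 0 n5022 = n5022 := d1_1 D5022 (iv D5022) F14491
theorem F19513 : act 3 n5022 = n5022 := d15_2 D3673 D5022 (iv D5022) (iv D3673) F10815
theorem F19514 : act 5 n5022 = n5022 := d17_2 F14493 D5022 (iv D5022)
def n5023 : Q := act 6 n3673
theorem D5023 : act 6 n3673 = n5023 := rfl
theorem F19515 : act 0 n5023 = n5023 := d5_1 D5023 (iv D5023) F14491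
theorem F19516 : act 1 n5023 = n3675 := d12_1 D5023 (iv D3675) (iv F14492)
theorem F19517 : act 3 n5023 = n3674 := d23_1 D5023 (iv D3674) D3673
def n5024 : Q := act 7 n3673
theorem D5024 : act 7 n3673 = n5024 := rfl
theorem F19518 : act 0 n5024 = n5024 := d6_1 D5024 (iv D5024) F14491
theorem F19519 : act 1 n5024 = n3676 := d13_1 D5024 (iv D3676) (iv F14492)
theorem F19520 : act 3 n5024 = n5024 := d24_1 D5024 (iv D5024) (iv D3673) F10817 D3673
theorem F19521 : act 5 n5024 = n5024 := d31_1 D5024 (iv D5024) F14493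
def n5025 : Q := act 5 n3674
theorem D5025 : act 5 n3674 = n5025 := rfl
theorem F19522 : act 0 n5025 = n5025 := d4_1 D5025 (iv D5025) F14494
theorem F19523 : act 1 n5025 = n3677 := d11_1 D5025 (iv D3677) (iv F14495)
theorem F19524 : act 2 n5025 = n5025 := d17_1 D5025 (iv D5025) F14496
theorem F19525 : act 4 n5025 = n4058 := d26_1 D5025 (iv D4058) F11885 (iv F10821) (iv F14497)
theorem F19526 : act 6 n5025 = n5025 := d30_2 D3674 D5025 (iv D5025) (iv D3674) F10816
theorem F19527 : act 7 n5025 = n5025 := d31_2 F14498 D5025 (iv D5025)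
def n5026 : Q := act 5 n3675
theorem D5026 : act 5 n3675 = n5026 := rfl
theorem F19528 : act 0 n5026 = n3678 := d4_1 D5026 (iv D3678) (iv F14499)
theorem F19529 : act 3 n5026 = n3677 := d22_1 D5026 (iv D3677) (iv F14500)
theorem F19530 : act 6 n5026 = n5026 := d30_2 D3675 D5026 (iv D5026) (iv D3675) F10824
def n5027 : Q := act 7 n3675
theorem D5027 : act 7 n3675 = n5027 := rfl
theorem F19531 : act 0 n5027 = n3679 := d6_1 D5027 (iv D3679) (iv F14499)
theorem F19532 : act 3 n5027 = n5027 := d24_1 D5027 (iv D5027) F14500 F10828 (iv F14500)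
theorem F19533 : act 6 n5027 = n3676 := d33_1 D5027 (iv D3676) D3675
def n5028 : Q := act 8 n3676
theorem D5028 : act 8 n3676 = n5028 := rfl
theorem F19534 : act 0 n5028 = n3680 := d7_1 D5028 (iv D3680) (iv F14501)
theorem F19535 : act 3 n5028 = n5028 := d25_1 D5028 (iv D5028) F14502
theorem F19536 : act 5 n5028 = n5028 := d32_1 D5028 (iv D5028) F14503
def n5029 : Q := act 4 n3678
theorem D5029 : act 4 n3678 = n5029 := rfl
theorem F19537 : act 1 n5029 = n5029 := d10_1 D5029 (iv D5029) F14509
theorem F19538 : act 3 n5029 = n4062 := d21_1 D5029 (iv D4062) F11900 (iv F10841) (iv F14510)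
theorem F19539 : act 6 n5029 = n5029 := d27_2 F14511 D5029 (iv D5029)
def n5030 : Q := act 7 n3678
theorem D5030 : act 7 n3678 = n5030 := rfl
theorem F19540 : act 1 n5030 = n5030 := d13_1 D5030 (iv D5030) F14509
theorem F19541 : act 3 n5030 = n5030 := d24_1 D5030 (iv D5030) F14510 F10843 (iv F14510)
theorem F19542 : act 5 n5030 = n3679 := d31_1 D5030 (iv D3679) D3678
theorem F19543 : act 6 n5030 = n5030 := d33_1 D5030 (iv D5030) F14511
def n5031 : Q := act 8 n3679
theorem D5031 : act 8 n3679 = n5031 := rfl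
theorem F19544 : act 1 n5031 = n5031 := d14_1 D5031 (iv D5031) F14512
theorem F19545 : act 3 n5031 = n5031 := d25_1 D5031 (iv D5031) F14513
theorem F19546 : act 6 n5031 = n3680 := d34_1 D5031 (iv D3680) (iv F14514)
def n5032 : Q := act 3 n3681
theorem D5032 : act 3 n3681 = n5032 := rfl
theorem F19547 : act 0 n5032 = n5032 := d2_1 D5032 (iv D5032) F14518
theorem F19548 : act 1 n5032 = n3687 := d9_1 D5032 (iv D3687) (iv F14519)
theorem F19549 : act 5 n5032 = n5032 := d22_2 F14522 D5032 (iv D5032)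
theorem F19550 : act 6 n5032 = n3682 := d23_2 (iv F14523) D5032 (iv D3682)
def n5033 : Q := act 8 n3681
theorem D5033 : act 8 n3681 = n5033 := rfl
theorem F19551 : act 0 n5033 = n5033 := d7_1 D5033 (iv D5033) F14518
theorem F19552 : act 1 n5033 = n3688 := d14_1 D5033 (iv D3688) (iv F14519)
theorem F19553 : act 2 n5033 = n5033 := d20_1 D5033 (iv D5033) F14520
theorem F19554 : act 4 n5033 = n5033 := d29_1 D5033 (iv D5033) F14521
theorem F19555 : act 5 n5033 = n5033 := d32_1 D5033 (iv D5033) F14522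
theorem F19556 : act 6 n5033 = n3683 := d34_1 D5033 (iv D3683) (iv F14523)
theorem F19557 : act 7 n5033 = n5033 := d35_1 D5033 (iv D5033) (iv D3681) F10849 D3681
def n5034 : Q := act 2 n3682
theorem D5034 : act 2 n3682 = n5034 := rfl
theorem F19558 : act 0 n5034 = n5034 := d1_1 D5034 (iv D5034) F14524
theorem F19559 : act 3 n5034 = n5034 := d15_2 D3682 D5034 (iv D5034) (iv D3682) F10852
theorem F19560 : act 5 n5034 = n3684 := d17_2 (iv F14526) D5034 (iv D3684)
def n5035 : Q := act 4 n3682
theorem D5035 : act 4 n3682 = n5035 := rfl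
theorem F19561 : act 0 n5035 = n5035 := d3_1 D5035 (iv D5035) F14524
theorem F19562 : act 1 n5035 = n3689 := d10_1 D5035 (iv D3689) (iv F14525)
theorem F19563 : act 3 n5035 = n5035 := d21_1 D5035 (iv D5035) (iv D3682) F10853 D3682
def n5036 : Q := act 8 n3682
theorem D5036 : act 8 n3682 = n5036 := rfl
theorem F19564 : act 0 n5036 = n5036 := d7_1 D5036 (iv D5036) F14524
theorem F19565 : act 1 n5036 = n3690 := d14_1 D5036 (iv D3690) (iv F14525)
theorem F19566 : act 3 n5036 = n3683 := d25_1 D5036 (iv D3683) D3682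
theorem F19567 : act 5 n5036 = n3686 := d32_1 D5036 (iv D3686) (iv F14526)
def n5037 : Q := act 4 n3684
theorem D5037 : act 4 n3684 = n5037 := rfl
theorem F19568 : act 0 n5037 = n5037 := d3_1 D5037 (iv D5037) F14533
theorem F19569 : act 2 n5037 = n3685 := d16_1 D5037 (iv D3685) D3684
theorem F19570 : act 6 n5037 = n5037 := d27_2 F14535 D5037 (iv D5037)
def n5038 : Q := act 8 n3684
theorem D5038 : act 8 n3684 = n5038 := rfl
theorem F19571 : act 0 n5038 = n5038 := d7_1 D5038 (iv D5038) F14533
theorem F19572 : act 2 n5038 = n3686 := d20_1 D5038 (iv D3686) D3684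
theorem F19573 : act 3 n5038 = n5038 := d25_1 D5038 (iv D5038) F14534
theorem F19574 : act 6 n5038 = n5038 := d34_1 D5038 (iv D5038) F14535
def n5039 : Q := act 5 n3685
theorem D5039 : act 5 n3685 = n5039 := rfl
theorem F19575 : act 0 n5039 = n5039 := d4_1 D5039 (iv D5039) F14536
theorem F19576 : act 1 n5039 = n3691 := d11_1 D5039 (iv D3691) (iv F14537)
theorem F19577 : act 3 n5039 = n3704 := d22_1 D5039 (iv D3704) (iv F14538)
def n5040 : Q := act 8 n3685
theorem D5040 : act 8 n3685 = n5040 := rfl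
theorem F19578 : act 0 n5040 = n5040 := d7_1 D5040 (iv D5040) F14536
theorem F19579 : act 1 n5040 = n3692 := d14_1 D5040 (iv D3692) (iv F14537)
theorem F19580 : act 3 n5040 = n3705 := d25_1 D5040 (iv D3705) (iv F14538)
theorem F19581 : act 4 n5040 = n3686 := d29_1 D5040 (iv D3686) D3685
theorem F19582 : act 6 n5040 = n5040 := d34_1 D5040 (iv D5040) F14539
def n5041 : Q := act 7 n3686
theorem D5041 : act 7 n3686 = n5041 := rfl
theorem F19583 : act 0 n5041 = n5041 := d6_1 D5041 (iv D5041) F14540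
theorem F19584 : act 1 n5041 = n3693 := d13_1 D5041 (iv D3693) (iv F14541)
theorem F19585 : act 3 n5041 = n5041 := d24_1 D5041 (iv D5041) F14542 F10863 (iv F14542)
theorem F19586 : act 6 n5041 = n5041 := d33_1 D5041 (iv D5041) F14543
def n5042 : Q := act 4 n3687
theorem D5042 : act 4 n3687 = n5042 := rfl
theorem F19587 : act 0 n5042 = n3694 := d3_1 D5042 (iv D3694) (iv F14544)
theorem F19588 : act 3 n5042 = n5042 := d21_1 D5042 (iv D5042) (iv D3687) F10866 D3687
theorem F19589 : act 6 n5042 = n3689 := d27_2 (iv F14546) D5042 (iv D3689)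
def n5043 : Q := act 8 n3687
theorem D5043 : act 8 n3687 = n5043 := rfl
theorem F19590 : act 0 n5043 = n3695 := d7_1 D5043 (iv D3695) (iv F14544)
theorem F19591 : act 3 n5043 = n3688 := d25_1 D5043 (iv D3688) D3687
theorem F19592 : act 5 n5043 = n5043 := d32_1 D5043 (iv D5043) F14545
theorem F19593 : act 6 n5043 = n3690 := d34_1 D5043 (iv D3690) (iv F14546)
def n5044 : Q := act 5 n3689
theorem D5044 : act 5 n3689 = n5044 := rfl
theorem F19594 : act 0 n5044 = n3696 := d4_1 D5044 (iv D3696) (iv F14553)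
theorem F19595 : act 3 n5044 = n5044 := d22_1 D5044 (iv D5044) F14554
theorem F19596 : act 4 n5044 = n3691 := d26_1 D5044 (iv D3691) (iv D2707) (iv F10870) D3689
def n5045 : Q := act 8 n3689
theorem D5045 : act 8 n3689 = n5045 := rfl
theorem F19597 : act 0 n5045 = n3697 := d7_1 D5045 (iv D3697) (iv F14553)
theorem F19598 : act 3 n5045 = n5045 := d25_1 D5045 (iv D5045) F14554
theorem F19599 : act 4 n5045 = n3690 := d29_1 D5045 (iv D3690) D3689
def n5046 : Q := act 7 n3690
theorem D5046 : act 7 n3690 = n5046 := rfl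
theorem F19600 : act 0 n5046 = n3698 := d6_1 D5046 (iv D3698) (iv F14555)
theorem F19601 : act 3 n5046 = n5046 := d24_1 D5046 (iv D5046) F14556 F10875 (iv F14556)
theorem F19602 : act 5 n5046 = n3693 := d31_1 D5046 (iv D3693) (iv F14557)
def n5047 : Q := act 6 n3691
theorem D5047 : act 6 n3691 = n5047 := rfl
theorem F19603 : act 0 n5047 = n3699 := d5_1 D5047 (iv D3699) (iv F14558)
theorem F19604 : act 3 n5047 = n3707 := d23_1 D5047 (iv D3707) (iv F14559)
theorem F19605 : act 5 n5047 = n5047 := d30_1 D5047 (iv D5047) (iv D3691) F10878 D3691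
def n5048 : Q := act 8 n3691
theorem D5048 : act 8 n3691 = n5048 := rfl
theorem F19606 : act 0 n5048 = n3700 := d7_1 D5048 (iv D3700) (iv F14558)
theorem F19607 : act 3 n5048 = n3708 := d25_1 D5048 (iv D3708) (iv F14559)
theorem F19608 : act 5 n5048 = n3692 := d32_1 D5048 (iv D3692) D3691
def n5049 : Q := act 7 n3692
theorem D5049 : act 7 n3692 = n5049 := rfl
theorem F19609 : act 0 n5049 = n3701 := d6_1 D5049 (iv D3701) (iv F14560)
theorem F19610 : act 4 n5049 = n3693 := d28_1 D5049 (iv D3693) (iv F14562)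
theorem F19611 : act 6 n5049 = n5049 := d33_1 D5049 (iv D5049) F14563
def n5050 : Q := act 5 n3694
theorem D5050 : act 5 n3694 = n5050 := rfl
theorem F19612 : act 1 n5050 = n5050 := d11_1 D5050 (iv D5050) F14567
theorem F19613 : act 3 n5050 = n5050 := d22_1 D5050 (iv D5050) F14568
theorem F19614 : act 4 n5050 = n5050 := d26_1 D5050 (iv D5050) (iv D3694) F10889 D3694
def n5051 : Q := act 8 n3694
theorem D5051 : act 8 n3694 = n5051 := rfl
theorem F19615 : act 1 n5051 = n5051 := d14_1 D5051 (iv D5051) F14567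
theorem F19616 : act 3 n5051 = n5051 := d25_1 D5051 (iv D5051) F14568
theorem F19617 : act 4 n5051 = n3695 := d29_1 D5051 (iv D3695) D3694
theorem F19618 : act 6 n5051 = n3697 := d34_1 D5051 (iv D3697) (iv F14569)
def n5052 : Q := act 7 n3695
theorem D5052 : act 7 n3695 = n5052 := rfl
theorem F19619 : act 1 n5052 = n5052 := d13_1 D5052 (iv D5052) F14570
theorem F19620 : act 3 n5052 = n5052 := d24_1 D5052 (iv D5052) F14571 F10896 (iv F14571)
theorem F19621 : act 5 n5052 = n5052 := d31_1 D5052 (iv D5052) F14572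
theorem F19622 : act 6 n5052 = n3698 := d33_1 D5052 (iv D3698) (iv F14573)
def n5053 : Q := act 6 n3696
theorem D5053 : act 6 n3696 = n5053 := rfl
theorem F19623 : act 1 n5053 = n5053 := d12_1 D5053 (iv D5053) F14574
theorem F19624 : act 3 n5053 = n5053 := d23_1 D5053 (iv D5053) F14575
theorem F19625 : act 4 n5053 = n3699 := d27_1 D5053 (iv D3699) (iv F14576)
def n5054 : Q := act 8 n3696
theorem D5054 : act 8 n3696 = n5054 := rfl
theorem F19626 : act 1 n5054 = n5054 := d14_1 D5054 (iv D5054) F14574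
theorem F19627 : act 3 n5054 = n5054 := d25_1 D5054 (iv D5054) F14575
theorem F19628 : act 4 n5054 = n3700 := d29_1 D5054 (iv D3700) (iv F14576)
theorem F19629 : act 5 n5054 = n3697 := d32_1 D5054 (iv D3697) D3696
def n5055 : Q := act 7 n3697
theorem D5055 : act 7 n3697 = n5055 := rfl
theorem F19630 : act 1 n5055 = n5055 := d13_1 D5055 (iv D5055) F14577
theorem F19631 : act 4 n5055 = n3698 := d28_1 D5055 (iv D3698) (iv F14579)
def n5056 : Q := act 8 n3699
theorem D5056 : act 8 n3699 = n5056 := rfl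
theorem F19632 : act 1 n5056 = n5056 := d14_1 D5056 (iv D5056) F14583
theorem F19633 : act 3 n5056 = n3710 := d25_1 D5056 (iv D3710) (iv F14584)
theorem F19634 : act 5 n5056 = n5056 := d32_1 D5056 (iv D5056) F14585
theorem F19635 : act 6 n5056 = n3700 := d34_1 D5056 (iv D3700) D3699
def n5057 : Q := act 7 n3700
theorem D5057 : act 7 n3700 = n5057 := rfl
theorem F19636 : act 1 n5057 = n5057 := d13_1 D5057 (iv D5057) F14586
theorem F19637 : act 5 n5057 = n3701 := d31_1 D5057 (iv D3701) (iv F14588)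
def n5058 : Q := act 3 n3701
theorem D5058 : act 3 n3701 = n5058 := rfl
theorem F19638 : act 1 n5058 = n5058 := d9_1 D5058 (iv D5058) F14589
theorem F19639 : act 4 n5058 = n5058 := d21_2 (iv F14590) D5058 (iv D5058) F14590 F10909
theorem F19640 : act 6 n5058 = n5058 := d23_2 F14591 D5058 (iv D5058)
theorem F19641 : act 7 n5058 = n3712 := d24_2 D3701 D5058 (iv D3712) (iv D2725) (iv F10905)
def n5059 : Q := act 3 n3702
theorem D5059 : act 3 n3702 = n5059 := rfl
theorem F19642 : act 0 n5059 = n5059 := d2_1 D5059 (iv D5059) F14592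
theorem F19643 : act 1 n5059 = n5059 := d9_1 D5059 (iv D5059) F14593
theorem F19644 : act 4 n5059 = n5059 := d21_2 D3702 D5059 (iv D5059) (iv D3702) F10913
theorem F19645 : act 6 n5059 = n5059 := d23_2 F14595 D5059 (iv D5059)
def n5060 : Q := act 5 n3702
theorem D5060 : act 5 n3702 = n5060 := rfl
theorem F19646 : act 0 n5060 = n5060 := d4_1 D5060 (iv D5060) F14592
theorem F19647 : act 1 n5060 = n5060 := d11_1 D5060 (iv D5060) F14593
theorem F19648 : act 2 n5060 = n3704 := d17_1 D5060 (iv D3704) (iv F14594)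
theorem F19649 : act 4 n5060 = n5060 := d26_1 D5060 (iv D5060) (iv D3702) F10914 D3702
theorem F19650 : act 7 n5060 = n5060 := d31_2 F14596 D5060 (iv D5060)
def n5061 : Q := act 8 n3702
theorem D5061 : act 8 n3702 = n5061 := rfl
theorem F19651 : act 0 n5061 = n5061 := d7_1 D5061 (iv D5061) F14592
theorem F19652 : act 1 n5061 = n5061 := d14_1 D5061 (iv D5061) F14593
theorem F19653 : act 2 n5061 = n3705 := d20_1 D5061 (iv D3705) (iv F14594)
theorem F19654 : act 4 n5061 = n3703 := d29_1 D5061 (iv D3703) D3702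
theorem F19655 : act 6 n5061 = n5061 := d34_1 D5061 (iv D5061) F14595
def n5062 : Q := act 7 n3703
theorem D5062 : act 7 n3703 = n5062 := rfl
theorem F19656 : act 0 n5062 = n5062 := d6_1 D5062 (iv D5062) F14597
theorem F19657 : act 1 n5062 = n5062 := d13_1 D5062 (iv D5062) F14598
theorem F19658 : act 2 n5062 = n3706 := d19_1 D5062 (iv D3706) (iv F14599)
theorem F19659 : act 5 n5062 = n5062 := d31_1 D5062 (iv D5062) F14601
theorem F19660 : act 6 n5062 = n5062 := d33_1 D5062 (iv D5062) F14602
theorem F19661 : act 8 n5062 = n5062 := d35_2 D3703 D5062 (iv D5062) (iv D3703) F10916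
def n5063 : Q := act 6 n3704
theorem D5063 : act 6 n3704 = n5063 := rfl
theorem F19662 : act 0 n5063 = n5063 := d5_1 D5063 (iv D5063) F14603
theorem F19663 : act 1 n5063 = n3707 := d12_1 D5063 (iv D3707) (iv F14604)
theorem F19664 : act 4 n5063 = n5063 := d27_1 D5063 (iv D5063) F14605
theorem F19665 : act 5 n5063 = n5063 := d30_1 D5063 (iv D5063) (iv D3704) F10919 D3704
theorem F19666 : act 7 n5063 = n5063 := d33_2 F14606 D5063 (iv D5063)
def n5064 : Q := act 8 n3704
theorem D5064 : act 8 n3704 = n5064 := rfl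
theorem F19667 : act 0 n5064 = n5064 := d7_1 D5064 (iv D5064) F14603
theorem F19668 : act 1 n5064 = n3708 := d14_1 D5064 (iv D3708) (iv F14604)
theorem F19669 : act 4 n5064 = n5064 := d29_1 D5064 (iv D5064) F14605
theorem F19670 : act 5 n5064 = n3705 := d32_1 D5064 (iv D3705) D3704
def n5065 : Q := act 7 n3705
theorem D5065 : act 7 n3705 = n5065 := rfl
theorem F19671 : act 0 n5065 = n5065 := d6_1 D5065 (iv D5065) F14607
theorem F19672 : act 1 n5065 = n3709 := d13_1 D5065 (iv D3709) (iv F14608)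
theorem F19673 : act 4 n5065 = n3706 := d28_1 D5065 (iv D3706) (iv F14609)
theorem F19674 : act 6 n5065 = n5065 := d33_1 D5065 (iv D5065) F14610
theorem F19675 : act 8 n5065 = n5065 := d35_2 D3705 D5065 (iv D5065) (iv D3705) F10920
def n5066 : Q := act 8 n3707
theorem D5066 : act 8 n3707 = n5066 := rfl
theorem F19676 : act 0 n5066 = n3710 := d7_1 D5066 (iv D3710) (iv F14617)
theorem F19677 : act 2 n5066 = n5066 := d20_1 D5066 (iv D5066) F14618
theorem F19678 : act 4 n5066 = n5066 := d29_1 D5066 (iv D5066) F14619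
theorem F19679 : act 5 n5066 = n5066 := d32_1 D5066 (iv D5066) F14620
theorem F19680 : act 6 n5066 = n3708 := d34_1 D5066 (iv D3708) D3707
def n5067 : Q := act 7 n3708
theorem D5067 : act 7 n3708 = n5067 := rfl
theorem F19681 : act 0 n5067 = n3711 := d6_1 D5067 (iv D3711) (iv F14622)
theorem F19682 : act 2 n5067 = n5067 := d19_1 D5067 (iv D5067) F14623
theorem F19683 : act 4 n5067 = n5067 := d28_1 D5067 (iv D5067) F14624
theorem F19684 : act 5 n5067 = n3709 := d31_1 D5067 (iv D3709) (iv F14625)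
theorem F19685 : act 8 n5067 = n5067 := d35_2 D3708 D5067 (iv D5067) (iv D3708) F10929
def n5068 : Q := act 3 n3709
theorem D5068 : act 3 n3709 = n5068 := rfl
theorem F19686 : act 0 n5068 = n3712 := d2_1 D5068 (iv D3712) (iv F14626)
theorem F19687 : act 4 n5068 = n5068 := d21_2 (iv F14628) D5068 (iv D5068) F14628 F10936
theorem F19688 : act 6 n5068 = n5068 := d23_2 F14629 D5068 (iv D5068)
theorem F19689 : act 8 n5068 = n5068 := d25_2 F14630 D5068 (iv D5068)
def n5069 : Q := act 7 n3710
theorem D5069 : act 7 n3710 = n5069 := rfl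
theorem F19690 : act 1 n5069 = n5069 := d13_1 D5069 (iv D5069) F14631
theorem F19691 : act 2 n5069 = n5069 := d19_1 D5069 (iv D5069) F14632
theorem F19692 : act 4 n5069 = n5069 := d28_1 D5069 (iv D5069) F14633
theorem F19693 : act 5 n5069 = n5069 := d31_1 D5069 (iv D5069) F14634
theorem F19694 : act 6 n5069 = n3711 := d33_1 D5069 (iv D3711) (iv F14635)
theorem F19695 : act 8 n5069 = n5069 := d35_2 D3710 D5069 (iv D5069) (iv D3710) F10944
def n5070 : Q := act 3 n3711
theorem D5070 : act 3 n3711 = n5070 := rfl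
theorem F19696 : act 1 n5070 = n5070 := d9_1 D5070 (iv D5070) F14636
theorem F19697 : act 5 n5070 = n3712 := d22_2 (iv F14639) D5070 (iv D3712)
theorem F19698 : act 8 n5070 = n5070 := d25_2 F14640 D5070 (iv D5070)
def n5071 : Q := act 2 n3712
theorem D5071 : act 2 n3712 = n5071 := rfl
theorem F19699 : act 3 n5071 = n5071 := d15_2 D3712 D5071 (iv D5071) (iv D3712) F10950
theorem F19700 : act 4 n5071 = n5071 := d16_2 F14642 D5071 (iv D5071)
theorem F19701 : act 6 n5071 = n5071 := d18_2 F14643 D5071 (iv D5071)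
theorem F19702 : act 8 n5071 = n5071 := d20_2 F14644 D5071 (iv D5071)
def n5072 : Q := act 3 n3713
theorem D5072 : act 3 n3713 = n5072 := rfl
theorem F19704 : act 1 n5072 = n3718 := d9_1 D5072 (iv D3718) (iv F14646)
def n5073 : Q := act 6 n3713
theorem D5073 : act 6 n3713 = n5073 := rfl
theorem F19709 : act 4 n5073 = n3714 := d27_1 D5073 (iv D3714) D3713
def n5074 : Q := act 7 n3713
theorem D5074 : act 7 n3713 = n5074 := rfl
theorem F19713 : act 4 n5074 = n3715 := d28_1 D5074 (iv D3715) D3713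
def n5076 : Q := act 3 n3715
theorem D5076 : act 3 n3715 = n5076 := rfl
theorem F19721 : act 5 n5076 = n3716 := d22_2 (iv F14655) D5076 (iv D3716)
def n5078 : Q := act 4 n3716
theorem D5078 : act 4 n3716 = n5078 := rfl
def n5080 : Q := act 6 n3718
theorem D5080 : act 6 n3718 = n5080 := rfl
def n5081 : Q := act 7 n3718
theorem D5081 : act 7 n3718 = n5081 := rfl
theorem F19739 : act 0 n5081 = n3732 := d6_1 D5081 (iv D3732) (iv F14663)
def n5082 : Q := act 5 n3719
theorem D5082 : act 5 n3719 = n5082 := rfl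
def n5084 : Q := act 3 n3720
theorem D5084 : act 3 n3720 = n5084 := rfl
def n5088 : Q := act 4 n3722
theorem D5088 : act 4 n3722 = n5088 := rfl
def n5090 : Q := act 5 n3724
theorem D5090 : act 5 n3724 = n5090 := rfl
def n5100 : Q := act 3 n3732
theorem D5100 : act 3 n3732 = n5100 := rfl
theorem F19802 : act 7 n5100 = n3735 := d24_2 D3732 D5100 (iv D3735) (iv D2739) D2737
def n5106 : Q := act 4 n3735
theorem D5106 : act 4 n3735 = n5106 := rfl
theorem F19817 : act 3 n5106 = n3739 := d21_1 D5106 (iv D3739) (iv D2741) (iv F10997) D3735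
def n5110 : Q := act 5 n3739
theorem D5110 : act 5 n3739 = n5110 := rfl
theorem F19830 : act 4 n5110 = n3741 := d26_1 D5110 (iv D3741) (iv D2743) (iv F11003) D3739
def n5119 : Q := act 8 n3745
theorem D5119 : act 8 n3745 = n5119 := rfl
theorem F19859 : act 3 n5119 = n3746 := d25_1 D5119 (iv D3746) D3745
theorem F19861 : act 6 n5119 = n3748 := d34_1 D5119 (iv D3748) (iv F14750)
def n5122 : Q := act 7 n3748
theorem D5122 : act 7 n3748 = n5122 := rfl
theorem F19867 : act 1 n5122 = n3755 := d13_1 D5122 (iv D3755) (iv F14757)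
def n5125 : Q := act 8 n3749
theorem D5125 : act 8 n3749 = n5125 := rfl
theorem F19878 : act 3 n5125 = n3750 := d25_1 D5125 (iv D3750) D3749
theorem F19879 : act 5 n5125 = n3752 := d32_1 D5125 (iv D3752) (iv F14761)
def n5128 : Q := act 7 n3752
theorem D5128 : act 7 n3752 = n5128 := rfl
theorem F19891 : act 6 n5128 = n3755 := d33_1 D5128 (iv D3755) (iv F14774)
def n5131 : Q := act 7 n3754
theorem D5131 : act 7 n3754 = n5131 := rfl
theorem F19901 : act 2 n5131 = n3755 := d19_1 D5131 (iv D3755) (iv F14779)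
def n5267 : Q := act 3 n3855
theorem D5267 : act 3 n3855 = n5267 := rfl
theorem F20414 : act 0 n5267 = n5267 := d2_1 D5267 (iv D5267) F15163
theorem F20415 : act 1 n5267 = n3860 := d9_1 D5267 (iv D3860) (iv F15164)
theorem F20416 : act 4 n5267 = n5267 := d21_2 D3855 D5267 (iv D5267) (iv D3855) F11329
theorem F20417 : act 5 n5267 = n3937 := d22_2 (iv F15165) D5267 (iv D3937)
theorem F20418 : act 8 n5267 = n5072 := d25_2 (iv F15166) D5267 (iv D5072)
def n5268 : Q := act 6 n3855
theorem D5268 : act 6 n3855 = n5268 := rfl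
theorem F20421 : act 4 n5268 = n3856 := d27_1 D5268 (iv D3856) D3855
theorem F20422 : act 8 n5268 = n5073 := d34_2 (iv F15166) D5268 (iv D5073)
def n5269 : Q := act 7 n3855
theorem D5269 : act 7 n3855 = n5269 := rfl
theorem F20425 : act 4 n5269 = n3857 := d28_1 D5269 (iv D3857) D3855
def n5270 : Q := act 7 n3856
theorem D5270 : act 7 n3856 = n5270 := rfl
theorem F20429 : act 6 n5270 = n3857 := d33_1 D5270 (iv D3857) D3856
def n5271 : Q := act 3 n3857
theorem D5271 : act 3 n3857 = n5271 := rfl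
theorem F20430 : act 0 n5271 = n5271 := d2_1 D5271 (iv D5271) F15171
theorem F20431 : act 1 n5271 = n3864 := d9_1 D5271 (iv D3864) (iv F15172)
theorem F20432 : act 5 n5271 = n3858 := d22_2 (iv F15173) D5271 (iv D3858)
theorem F20433 : act 7 n5271 = n5271 := d24_2 D3857 D5271 (iv D5271) (iv D3857) F11329
def n5272 : Q := act 8 n3857
theorem D5272 : act 8 n3857 = n5272 := rfl
theorem F20435 : act 1 n5272 = n3865 := d14_1 D5272 (iv D3865) (iv F15172)
def n5273 : Q := act 2 n3858
theorem D5273 : act 2 n3858 = n5273 := rfl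
theorem F20438 : act 0 n5273 = n5273 := d1_1 D5273 (iv D5273) F15174
theorem F20439 : act 1 n5273 = n5273 := d8_1 D5273 (iv D5273) F15175 F11346 (iv F15175)
theorem F20440 : act 4 n5273 = n5273 := d16_2 F15176 D5273 (iv D5273)
theorem F20441 : act 7 n5273 = n5273 := d19_2 F15177 D5273 (iv D5273)
def n5274 : Q := act 8 n3858
theorem D5274 : act 8 n3858 = n5274 := rfl
def n5275 : Q := act 6 n3860
theorem D5275 : act 6 n3860 = n5275 := rfl
theorem F20448 : act 3 n5275 = n3861 := d23_1 D5275 (iv D3861) D3860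
theorem F20450 : act 8 n5275 = n5080 := d34_2 (iv F15186) D5275 (iv D5080)
def n5276 : Q := act 7 n3860
theorem D5276 : act 7 n3860 = n5276 := rfl
theorem F20451 : act 0 n5276 = n3873 := d6_1 D5276 (iv D3873) (iv F15182)
theorem F20454 : act 5 n5276 = n3943 := d31_1 D5276 (iv D3943) (iv F15185)
def n5277 : Q := act 5 n3861
theorem D5277 : act 5 n3861 = n5277 := rfl
theorem F20458 : act 8 n5277 = n5082 := d32_2 (iv F15190) D5277 (iv D5082)
def n5278 : Q := act 7 n3861
theorem D5278 : act 7 n3861 = n5278 := rfl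
theorem F20462 : act 6 n5278 = n3862 := d33_1 D5278 (iv D3862) D3861
def n5279 : Q := act 3 n3862
theorem D5279 : act 3 n3862 = n5279 := rfl
def n5281 : Q := act 3 n3863
theorem D5281 : act 3 n3863 = n5281 := rfl
theorem F20472 : act 6 n5281 = n3864 := d23_2 (iv F15197) D5281 (iv D3864)
def n5283 : Q := act 4 n3864
theorem D5283 : act 4 n3864 = n5283 := rfl
def n5284 : Q := act 8 n3864
theorem D5284 : act 8 n3864 = n5284 := rfl
def n5286 : Q := act 7 n3867
theorem D5286 : act 7 n3867 = n5286 := rfl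
theorem F20492 : act 5 n5286 = n3868 := d31_1 D5286 (iv D3868) D3867
def n5291 : Q := act 5 n3872
theorem D5291 : act 5 n3872 = n5291 := rfl
theorem F20512 : act 3 n5291 = n3874 := d22_1 D5291 (iv D3874) (iv F15231)
def n5292 : Q := act 7 n3872
theorem D5292 : act 7 n3872 = n5292 := rfl
theorem F20518 : act 6 n5292 = n3873 := d33_1 D5292 (iv D3873) D3872
def n5293 : Q := act 3 n3873
theorem D5293 : act 3 n3873 = n5293 := rfl
theorem F20520 : act 5 n5293 = n3956 := d22_2 (iv F15237) D5293 (iv D3956)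
theorem F20521 : act 7 n5293 = n3876 := d24_2 D3873 D5293 (iv D3876) (iv D2840) D2838
def n5295 : Q := act 7 n3874
theorem D5295 : act 7 n3874 = n5295 := rfl
theorem F20529 : act 5 n5295 = n3875 := d31_1 D5295 (iv D3875) D3874
def n5296 : Q := act 3 n3875
theorem D5296 : act 3 n3875 = n5296 := rfl
def n5298 : Q := act 2 n3876
theorem D5298 : act 2 n3876 = n5298 := rfl
theorem F20538 : act 3 n5298 = n3886 := d15_2 D3876 D5298 (iv D3886) (iv D2847) (iv F11377)
def n5301 : Q := act 4 n3878
theorem D5301 : act 4 n3878 = n5301 := rfl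
theorem F20548 : act 6 n5301 = n3880 := d27_2 (iv F15255) D5301 (iv D3880)
def n5308 : Q := act 8 n3884
theorem D5308 : act 8 n3884 = n5308 := rfl
theorem F20575 : act 3 n5308 = n3885 := d25_1 D5308 (iv D3885) D3884
def n5309 : Q := act 1 n3886
theorem D5309 : act 1 n3886 = n5309 := rfl
theorem F20578 : act 2 n5309 = n3892 := d8_2 D3886 D5309 (iv D3892) (iv D2853) (iv F11402)
def n5311 : Q := act 7 n3887
theorem D5311 : act 7 n3887 = n5311 := rfl
theorem F20586 : act 3 n5311 = n5122 := d24_1 D5311 (iv D5122) F14758 (iv F11409) (iv F15289)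
def n5314 : Q := act 8 n3888
theorem D5314 : act 8 n3888 = n5314 := rfl
theorem F20597 : act 3 n5314 = n3889 := d25_1 D5314 (iv D3889) D3888
def n5317 : Q := act 7 n3891
theorem D5317 : act 7 n3891 = n5317 := rfl
theorem F20608 : act 3 n5317 = n5128 := d24_1 D5317 (iv D5128) F14772 (iv F11423) (iv F15303)
def n5320 : Q := act 7 n3893
theorem D5320 : act 7 n3893 = n5320 := rfl
theorem F20620 : act 2 n5320 = n3894 := d19_1 D5320 (iv D3894) (iv F15310)
def n5321 : Q := act 3 n3895
theorem D5321 : act 3 n3895 = n5321 := rfl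
theorem F20625 : act 1 n5321 = n3900 := d9_1 D5321 (iv D3900) (iv F15319)
theorem F20626 : act 4 n5321 = n4019 := d21_2 D3895 D5321 (iv D4019) (iv D2949) (iv F11434)
theorem F20627 : act 5 n5321 = n5072 := d22_2 (iv F15321) D5321 (iv D5072)
theorem F20628 : act 8 n5321 = n3937 := d25_2 (iv F15322) D5321 (iv D3937)
def n5322 : Q := act 6 n3895
theorem D5322 : act 6 n3895 = n5322 := rfl
theorem F20630 : act 1 n5322 = n3901 := d12_1 D5322 (iv D3901) (iv F15319)
theorem F20631 : act 2 n5322 = n5268 := d18_1 D5322 (iv D5268) (iv F15320)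
theorem F20632 : act 4 n5322 = n3896 := d27_1 D5322 (iv D3896) D3895
def n5323 : Q := act 7 n3895
theorem D5323 : act 7 n3895 = n5323 := rfl
theorem F20637 : act 4 n5323 = n3897 := d28_1 D5323 (iv D3897) D3895
def n5324 : Q := act 7 n3896
theorem D5324 : act 7 n3896 = n5324 := rfl
theorem F20642 : act 6 n5324 = n3897 := d33_1 D5324 (iv D3897) D3896
def n5325 : Q := act 3 n3897
theorem D5325 : act 3 n3897 = n5325 := rfl
theorem F20646 : act 7 n5325 = n4023 := d24_2 D3897 D5325 (iv D4023) (iv D2951) (iv F11434)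
def n5326 : Q := act 8 n3897
theorem D5326 : act 8 n3897 = n5326 := rfl
theorem F20648 : act 1 n5326 = n3905 := d14_1 D5326 (iv D3905) (iv F15329)
theorem F20649 : act 2 n5326 = n5272 := d20_1 D5326 (iv D5272) (iv F15330)
def n5327 : Q := act 2 n3898
theorem D5327 : act 2 n3898 = n5327 := rfl
theorem F20652 : act 0 n5327 = n5327 := d1_1 D5327 (iv D5327) F15332
theorem F20653 : act 1 n5327 = n5327 := d8_1 D5327 (iv D5327) F15333 F11452 (iv F15333)
theorem F20654 : act 3 n5327 = n5273 := d15_2 D3898 D5327 (iv D5273) (iv D3858) (iv F11438)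
theorem F20655 : act 7 n5327 = n4024 := d19_2 (iv F15334) D5327 (iv D4024)
def n5328 : Q := act 4 n3898
theorem D5328 : act 4 n3898 = n5328 := rfl
theorem F20658 : act 3 n5328 = n5078 := d21_1 D5328 (iv D5078) (iv D3716) (iv F11439) D3898
theorem F20659 : act 7 n5328 = n4025 := d28_2 (iv F15334) D5328 (iv D4025)
def n5329 : Q := act 8 n3898
theorem D5329 : act 8 n3898 = n5329 := rfl
def n5330 : Q := act 6 n3900
theorem D5330 : act 6 n3900 = n5330 := rfl
theorem F20664 : act 0 n5330 = n3913 := d5_1 D5330 (iv D3913) (iv F15340)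
theorem F20667 : act 4 n5330 = n4026 := d27_1 D5330 (iv D4026) (iv F15342)
def n5331 : Q := act 7 n3900
theorem D5331 : act 7 n3900 = n5331 := rfl
theorem F20671 : act 4 n5331 = n4027 := d28_1 D5331 (iv D4027) (iv F15342)
theorem F20672 : act 5 n5331 = n5081 := d31_1 D5331 (iv D5081) (iv F15343)
def n5332 : Q := act 5 n3901
theorem D5332 : act 5 n3901 = n5332 := rfl
def n5333 : Q := act 7 n3901
theorem D5333 : act 7 n3901 = n5333 := rfl
theorem F20677 : act 0 n5333 = n3916 := d6_1 D5333 (iv D3916) (iv F15345)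
theorem F20678 : act 2 n5333 = n3909 := d19_1 D5333 (iv D3909) (iv F15346)
theorem F20679 : act 4 n5333 = n3903 := d28_1 D5333 (iv D3903) (iv F15347)
def n5334 : Q := act 3 n3902
theorem D5334 : act 3 n3902 = n5334 := rfl
def n5335 : Q := act 8 n3902
theorem D5335 : act 8 n3902 = n5335 := rfl
theorem F20685 : act 4 n5335 = n3905 := d29_1 D5335 (iv D3905) (iv F15351)
def n5336 : Q := act 3 n3903
theorem D5336 : act 3 n3903 = n5336 := rfl
theorem F20690 : act 6 n5336 = n3904 := d23_2 (iv F15355) D5336 (iv D3904)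
theorem F20691 : act 7 n5336 = n4031 := d24_2 D3903 D5336 (iv D4031) (iv D2956) (iv F11446)
def n5337 : Q := act 8 n3903
theorem D5337 : act 8 n3903 = n5337 := rfl
theorem F20694 : act 6 n5337 = n3905 := d34_1 D5337 (iv D3905) (iv F15355)
def n5338 : Q := act 4 n3904
theorem D5338 : act 4 n3904 = n5338 := rfl
theorem F20698 : act 7 n5338 = n4032 := d28_2 (iv F15359) D5338 (iv D4032)
def n5340 : Q := act 5 n3906
theorem D5340 : act 5 n3906 = n5340 := rfl
theorem F20706 : act 3 n5340 = n5090 := d22_1 D5340 (iv D5090) (iv F15366)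
theorem F20707 : act 7 n5340 = n4033 := d31_2 (iv F15367) D5340 (iv D4033)
def n5342 : Q := act 7 n3908
theorem D5342 : act 7 n3908 = n5342 := rfl
theorem F20715 : act 5 n5342 = n3909 := d31_1 D5342 (iv D3909) D3908
def n5343 : Q := act 3 n3909
theorem D5343 : act 3 n3909 = n5343 := rfl
def n5344 : Q := act 8 n3909
theorem D5344 : act 8 n3909 = n5344 := rfl
def n5346 : Q := act 8 n3910
theorem D5346 : act 8 n3910 = n5346 := rfl
theorem F20733 : act 3 n5346 = n3911 := d25_1 D5346 (iv D3911) D3910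
def n5347 : Q := act 5 n3913
theorem D5347 : act 5 n3913 = n5347 := rfl
theorem F20738 : act 3 n5347 = n3915 := d22_1 D5347 (iv D3915) (iv F15398)
def n5349 : Q := act 3 n3914
theorem D5349 : act 3 n3914 = n5349 := rfl
theorem F20746 : act 5 n5349 = n5100 := d22_2 (iv F15404) D5349 (iv D5100)
def n5351 : Q := act 7 n3915
theorem D5351 : act 7 n3915 = n5351 := rfl
theorem F20755 : act 5 n5351 = n3916 := d31_1 D5351 (iv D3916) D3915
def n5353 : Q := act 8 n3916
theorem D5353 : act 8 n3916 = n5353 := rfl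
def n5359 : Q := act 5 n3921
theorem D5359 : act 5 n3921 = n5359 := rfl
theorem F20782 : act 4 n5359 = n3923 := d26_1 D5359 (iv D3923) (iv D2872) (iv F11494) D3921
def n5361 : Q := act 6 n3923
theorem D5361 : act 6 n3923 = n5361 := rfl
def n5363 : Q := act 3 n3925
theorem D5363 : act 3 n3925 = n5363 := rfl
theorem F20798 : act 5 n5363 = n3926 := d22_2 (iv F15446) D5363 (iv D3926)
def n5364 : Q := act 8 n3925
theorem D5364 : act 8 n3925 = n5364 := rfl
theorem F20802 : act 5 n5364 = n3927 := d32_1 D5364 (iv D3927) (iv F15446)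
def n5366 : Q := act 8 n3926
theorem D5366 : act 8 n3926 = n5366 := rfl
def n5370 : Q := act 2 n3930
theorem D5370 : act 2 n3930 = n5370 := rfl
theorem F20826 : act 5 n5370 = n3932 := d17_2 (iv F15464) D5370 (iv D3932)
def n5371 : Q := act 4 n3930
theorem D5371 : act 4 n3930 = n5371 := rfl
def n5372 : Q := act 8 n3930
theorem D5372 : act 8 n3930 = n5372 := rfl
theorem F20835 : act 5 n5372 = n3933 := d32_1 D5372 (iv D3933) (iv F15464)
def n5374 : Q := act 8 n3932
theorem D5374 : act 8 n3932 = n5374 := rfl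
def n5379 : Q := act 2 n3937
theorem D5379 : act 2 n3937 = n5379 := rfl
theorem F20865 : act 0 n5379 = n5379 := d1_1 D5379 (iv D5379) F15495
theorem F20866 : act 1 n5379 = n5379 := d8_1 D5379 (iv D5379) F15496 F11562 (iv F15496)
theorem F20867 : act 4 n5379 = n4055 := d16_2 (iv F15497) D5379 (iv D4055)
def n5380 : Q := act 6 n3937
theorem D5380 : act 6 n3937 = n5380 := rfl
theorem F20870 : act 3 n5380 = n3938 := d23_1 D5380 (iv D3938) D3937
def n5381 : Q := act 7 n3937
theorem D5381 : act 7 n3937 = n5381 := rfl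
theorem F20874 : act 4 n5381 = n4057 := d28_1 D5381 (iv D4057) (iv F15497)
def n5382 : Q := act 5 n3938
theorem D5382 : act 5 n3938 = n5382 := rfl
def n5384 : Q := act 3 n3939
theorem D5384 : act 3 n3939 = n5384 := rfl
def n5387 : Q := act 5 n3942
theorem D5387 : act 5 n3942 = n5387 := rfl
theorem F20893 : act 3 n5387 = n3944 := d22_1 D5387 (iv D3944) (iv F15514)
def n5388 : Q := act 7 n3942
theorem D5388 : act 7 n3942 = n5388 := rfl
theorem F20897 : act 6 n5388 = n3943 := d33_1 D5388 (iv D3943) D3942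
def n5389 : Q := act 3 n3943
theorem D5389 : act 3 n3943 = n5389 := rfl
theorem F20900 : act 7 n5389 = n3946 := d24_2 D3943 D5389 (iv D3946) (iv D2890) D2888
def n5392 : Q := act 3 n3945
theorem D5392 : act 3 n3945 = n5392 := rfl
def n5403 : Q := act 4 n3954
theorem D5403 : act 4 n3954 = n5403 := rfl
def n5404 : Q := act 7 n3954
theorem D5404 : act 7 n3954 = n5404 := rfl
theorem F20946 : act 5 n5404 = n3955 := d31_1 D5404 (iv D3955) D3954
def n5405 : Q := act 3 n3955
theorem D5405 : act 3 n3955 = n5405 := rfl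
theorem F20949 : act 6 n5405 = n3956 := d23_2 (iv F15555) D5405 (iv D3956)
theorem F20950 : act 7 n5405 = n3959 := d24_2 D3955 D5405 (iv D3959) (iv D2901) (iv F11593)
def n5409 : Q := act 3 n3958
theorem D5409 : act 3 n3958 = n5409 := rfl
def n5486 : Q := act 2 n4019
theorem D5486 : act 2 n4019 = n5486 := rfl
theorem F21230 : act 0 n5486 = n5486 := d1_1 D5486 (iv D5486) F15771
theorem F21231 : act 1 n5486 = n5486 := d8_1 D5486 (iv D5486) F15772 F11780 (iv F15772)
theorem F21232 : act 3 n5486 = n5486 := d15_2 D4019 D5486 (iv D5486) (iv D4019) F11764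
theorem F21233 : act 5 n5486 = n5486 := d17_2 F15773 D5486 (iv D5486)
theorem F21234 : act 8 n5486 = n4055 := d20_2 (iv F15774) D5486 (iv D4055)
def n5487 : Q := act 6 n4019
theorem D5487 : act 6 n4019 = n5487 := rfl
theorem F21235 : act 0 n5487 = n5487 := d5_1 D5487 (iv D5487) F15771
theorem F21236 : act 1 n5487 = n4026 := d12_1 D5487 (iv D4026) (iv F15772)
theorem F21237 : act 3 n5487 = n4020 := d23_1 D5487 (iv D4020) D4019
theorem F21238 : act 8 n5487 = n4056 := d34_2 (iv F15774) D5487 (iv D4056)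
def n5488 : Q := act 7 n4019
theorem D5488 : act 7 n4019 = n5488 := rfl
def n5489 : Q := act 5 n4020
theorem D5489 : act 5 n4020 = n5489 := rfl
theorem F21242 : act 0 n5489 = n5489 := d4_1 D5489 (iv D5489) F15775
theorem F21243 : act 1 n5489 = n4028 := d11_1 D5489 (iv D4028) (iv F15776)
theorem F21244 : act 2 n5489 = n5489 := d17_1 D5489 (iv D5489) F15777
theorem F21245 : act 6 n5489 = n5489 := d30_2 D4020 D5489 (iv D5489) (iv D4020) F11765
theorem F21246 : act 8 n5489 = n4058 := d32_2 (iv F15779) D5489 (iv D4058)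
def n5490 : Q := act 7 n4020
theorem D5490 : act 7 n4020 = n5490 := rfl
theorem F21247 : act 0 n5490 = n5490 := d6_1 D5490 (iv D5490) F15775
theorem F21248 : act 1 n5490 = n4029 := d13_1 D5490 (iv D4029) (iv F15776)
theorem F21249 : act 2 n5490 = n5490 := d19_1 D5490 (iv D5490) F15777
theorem F21250 : act 4 n5490 = n4022 := d28_1 D5490 (iv D4022) (iv F15778)
theorem F21251 : act 6 n5490 = n4021 := d33_1 D5490 (iv D4021) D4020
theorem F21252 : act 8 n5490 = n5490 := d35_2 (iv F15779) D5490 (iv D5490) F15779 F11886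
def n5491 : Q := act 3 n4021
theorem D5491 : act 3 n4021 = n5491 := rfl
def n5492 : Q := act 3 n4022
theorem D5492 : act 3 n4022 = n5492 := rfl
theorem F21257 : act 0 n5492 = n5492 := d2_1 D5492 (iv D5492) F15786
theorem F21258 : act 1 n5492 = n4031 := d9_1 D5492 (iv D4031) (iv F15787)
theorem F21259 : act 6 n5492 = n4023 := d23_2 (iv F15789) D5492 (iv D4023)
theorem F21260 : act 8 n5492 = n5492 := d25_2 F15790 D5492 (iv D5492)
def n5493 : Q := act 2 n4023
theorem D5493 : act 2 n4023 = n5493 := rfl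
theorem F21261 : act 0 n5493 = n5493 := d1_1 D5493 (iv D5493) F15791
theorem F21262 : act 1 n5493 = n5493 := d8_1 D5493 (iv D5493) F15792 F11797 (iv F15792)
theorem F21263 : act 3 n5493 = n5493 := d15_2 D4023 D5493 (iv D5493) (iv D4023) F11773
theorem F21264 : act 5 n5493 = n4024 := d17_2 (iv F15793) D5493 (iv D4024)
theorem F21265 : act 8 n5493 = n5493 := d20_2 F15794 D5493 (iv D5493)
def n5494 : Q := act 4 n4023
theorem D5494 : act 4 n4023 = n5494 := rfl
theorem F21267 : act 1 n5494 = n4032 := d10_1 D5494 (iv D4032) (iv F15792)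
def n5495 : Q := act 4 n4024
theorem D5495 : act 4 n4024 = n5495 := rfl
theorem F21269 : act 0 n5495 = n5495 := d3_1 D5495 (iv D5495) F15795
theorem F21270 : act 1 n5495 = n5495 := d10_1 D5495 (iv D5495) F15796
theorem F21271 : act 2 n5495 = n4025 := d16_1 D5495 (iv D4025) D4024
theorem F21272 : act 8 n5495 = n5495 := d29_2 F15798 D5495 (iv D5495)
def n5496 : Q := act 5 n4025
theorem D5496 : act 5 n4025 = n5496 := rfl
def n5497 : Q := act 5 n4026
theorem D5497 : act 5 n4026 = n5497 := rfl
theorem F21277 : act 0 n5497 = n4037 := d4_1 D5497 (iv D4037) (iv F15803)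
theorem F21278 : act 2 n5497 = n5497 := d17_1 D5497 (iv D5497) F15804
theorem F21279 : act 3 n5497 = n4028 := d22_1 D5497 (iv D4028) (iv F15805)
theorem F21280 : act 6 n5497 = n5497 := d30_2 D4026 D5497 (iv D5497) (iv D4026) F11781
theorem F21281 : act 8 n5497 = n4059 := d32_2 (iv F15806) D5497 (iv D4059)
def n5498 : Q := act 7 n4026
theorem D5498 : act 7 n4026 = n5498 := rfl
theorem F21284 : act 6 n5498 = n4027 := d33_1 D5498 (iv D4027) D4026
def n5499 : Q := act 3 n4027
theorem D5499 : act 3 n4027 = n5499 := rfl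
theorem F21287 : act 7 n5499 = n4030 := d24_2 D4027 D5499 (iv D4030) (iv D2955) D2953
def n5501 : Q := act 7 n4028
theorem D5501 : act 7 n4028 = n5501 := rfl
def n5502 : Q := act 3 n4029
theorem D5502 : act 3 n4029 = n5502 := rfl
def n5503 : Q := act 2 n4030
theorem D5503 : act 2 n4030 = n5503 := rfl
theorem F21301 : act 3 n5503 = n4036 := d15_2 D4030 D5503 (iv D4036) (iv D2961) (iv F11788)
def n5505 : Q := act 4 n4031
theorem D5505 : act 4 n4031 = n5505 := rfl
def n5511 : Q := act 4 n4037
theorem D5511 : act 4 n4037 = n5511 := rfl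
theorem F21335 : act 1 n5511 = n5511 := d10_1 D5511 (iv D5511) F15849
theorem F21336 : act 2 n5511 = n5511 := d16_1 D5511 (iv D5511) F15850
theorem F21337 : act 6 n5511 = n5511 := d27_2 F15852 D5511 (iv D5511)
theorem F21338 : act 8 n5511 = n4062 := d29_2 (iv F15853) D5511 (iv D4062)
def n5512 : Q := act 7 n4037
theorem D5512 : act 7 n4037 = n5512 := rfl
theorem F21341 : act 5 n5512 = n4038 := d31_1 D5512 (iv D4038) D4037
def n5513 : Q := act 3 n4038
theorem D5513 : act 3 n4038 = n5513 := rfl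
theorem F21344 : act 6 n5513 = n4039 := d23_2 (iv F15856) D5513 (iv D4039)
theorem F21345 : act 7 n5513 = n4042 := d24_2 D4038 D5513 (iv D4042) (iv D2965) (iv F11822)
def n5515 : Q := act 2 n4039
theorem D5515 : act 2 n4039 = n5515 := rfl
theorem F21352 : act 7 n5515 = n4043 := d19_2 (iv F15859) D5515 (iv D4043)
def n5516 : Q := act 4 n4039
theorem D5516 : act 4 n4039 = n5516 := rfl
theorem F21354 : act 7 n5516 = n4044 := d28_2 (iv F15859) D5516 (iv D4044)
def n5520 : Q := act 4 n4042
theorem D5520 : act 4 n4042 = n5520 := rfl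
theorem F21367 : act 3 n5520 = n4045 := d21_1 D5520 (iv D4045) (iv D2967) (iv F11833) D4042
def n5524 : Q := act 5 n4045
theorem D5524 : act 5 n4045 = n5524 := rfl
def n5533 : Q := act 6 n4055
theorem D5533 : act 6 n4055 = n5533 := rfl
theorem F21424 : act 0 n5533 = n5533 := d5_1 D5533 (iv D5533) F15926
theorem F21425 : act 1 n5533 = n5533 := d12_1 D5533 (iv D5533) F15927
theorem F21426 : act 2 n5533 = n4056 := d18_1 D5533 (iv D4056) D4055
theorem F21427 : act 3 n5533 = n5533 := d23_1 D5533 (iv D5533) F15928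
def n5534 : Q := act 7 n4055
theorem D5534 : act 7 n4055 = n5534 := rfl
theorem F21431 : act 5 n5534 = n5534 := d31_1 D5534 (iv D5534) F15929
def n5535 : Q := act 5 n4056
theorem D5535 : act 5 n4056 = n5535 := rfl
theorem F21432 : act 0 n5535 = n5535 := d4_1 D5535 (iv D5535) F15930
theorem F21433 : act 1 n5535 = n4059 := d11_1 D5535 (iv D4059) (iv F15931)
theorem F21434 : act 3 n5535 = n4058 := d22_1 D5535 (iv D4058) (iv F15932)
theorem F21435 : act 6 n5535 = n5535 := d30_2 D4056 D5535 (iv D5535) (iv D4056) F11881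
def n5536 : Q := act 7 n4056
theorem D5536 : act 7 n4056 = n5536 := rfl
theorem F21439 : act 6 n5536 = n4057 := d33_1 D5536 (iv D4057) D4056
def n5538 : Q := act 4 n4059
theorem D5538 : act 4 n4059 = n5538 := rfl
theorem F21444 : act 0 n5538 = n4062 := d3_1 D5538 (iv D4062) (iv F15942)
theorem F21445 : act 2 n5538 = n5538 := d16_1 D5538 (iv D5538) F15943
theorem F21446 : act 6 n5538 = n5538 := d27_2 F15945 D5538 (iv D5538)
def n5539 : Q := act 7 n4059
theorem D5539 : act 7 n4059 = n5539 := rfl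
theorem F21450 : act 5 n5539 = n4060 := d31_1 D5539 (iv D4060) D4059
def n5541 : Q := act 7 n4062
theorem D5541 : act 7 n4062 = n5541 := rfl
theorem F21458 : act 4 n5541 = n4063 := d28_1 D5541 (iv D4063) D4062
def n5653 : Q := act 5 n4145
theorem D5653 : act 5 n4145 = n5653 := rfl
theorem F21924 : act 0 n5653 = n4166 := d4_1 D5653 (iv D4166) (iv F16302)
theorem F21925 : act 1 n5653 = n4146 := d11_1 D5653 (iv D4146) D4145
theorem F21926 : act 2 n5653 = n4519 := d17_1 D5653 (iv D4519) (iv F16303)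
theorem F21927 : act 3 n5653 = n5653 := d22_1 D5653 (iv D5653) F16304
def n5654 : Q := act 7 n4145
theorem D5654 : act 7 n4145 = n5654 := rfl
theorem F21928 : act 0 n5654 = n4167 := d6_1 D5654 (iv D4167) (iv F16302)
theorem F21929 : act 1 n5654 = n4147 := d13_1 D5654 (iv D4147) D4145
theorem F21930 : act 2 n5654 = n4520 := d19_1 D5654 (iv D4520) (iv F16303)
theorem F21931 : act 6 n5654 = n5654 := d33_1 D5654 (iv D5654) F16305
def n5655 : Q := act 4 n4146
theorem D5655 : act 4 n4146 = n5655 := rfl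
theorem F21932 : act 0 n5655 = n4152 := d3_1 D5655 (iv D4152) (iv F16306)
theorem F21933 : act 2 n5655 = n4148 := d16_1 D5655 (iv D4148) (iv F16307)
def n5656 : Q := act 6 n4146
theorem D5656 : act 6 n4146 = n5656 := rfl
def n5657 : Q := act 7 n4146
theorem D5657 : act 7 n4146 = n5657 := rfl
theorem F21938 : act 0 n5657 = n4154 := d6_1 D5657 (iv D4154) (iv F16306)
theorem F21939 : act 2 n5657 = n4150 := d19_1 D5657 (iv D4150) (iv F16307)
theorem F21940 : act 5 n5657 = n4147 := d31_1 D5657 (iv D4147) D4146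
def n5658 : Q := act 3 n4147
theorem D5658 : act 3 n4147 = n5658 := rfl
theorem F21941 : act 0 n5658 = n4155 := d2_1 D5658 (iv D4155) (iv F16309)
theorem F21942 : act 2 n5658 = n5658 := d15_1 D5658 (iv D5658) F16310 F12173 (iv F16310)
theorem F21943 : act 6 n5658 = n5658 := d23_2 F16311 D5658 (iv D5658)
theorem F21944 : act 7 n5658 = n5658 := d24_2 D4147 D5658 (iv D5658) (iv D4147) F12166
def n5659 : Q := act 8 n4147
theorem D5659 : act 8 n4147 = n5659 := rfl
theorem F21945 : act 0 n5659 = n4156 := d7_1 D5659 (iv D4156) (iv F16309)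
theorem F21946 : act 2 n5659 = n4151 := d20_1 D5659 (iv D4151) (iv F16310)
theorem F21947 : act 6 n5659 = n5659 := d34_1 D5659 (iv D5659) F16311
def n5660 : Q := act 6 n4148
theorem D5660 : act 6 n4148 = n5660 := rfl
theorem F21948 : act 0 n5660 = n4157 := d5_1 D5660 (iv D4157) (iv F16312)
theorem F21949 : act 1 n5660 = n4526 := d12_1 D5660 (iv D4526) (iv F16313)
theorem F21951 : act 4 n5660 = n4149 := d27_1 D5660 (iv D4149) D4148
def n5661 : Q := act 7 n4148
theorem D5661 : act 7 n4148 = n5661 := rfl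
theorem F21952 : act 0 n5661 = n4158 := d6_1 D5661 (iv D4158) (iv F16312)
theorem F21953 : act 1 n5661 = n4527 := d13_1 D5661 (iv D4527) (iv F16313)
theorem F21954 : act 4 n5661 = n4150 := d28_1 D5661 (iv D4150) D4148
def n5662 : Q := act 7 n4149
theorem D5662 : act 7 n4149 = n5662 := rfl
theorem F21956 : act 1 n5662 = n4528 := d13_1 D5662 (iv D4528) (iv F16316)
def n5663 : Q := act 8 n4150
theorem D5663 : act 8 n4150 = n5663 := rfl
theorem F21960 : act 0 n5663 = n4160 := d7_1 D5663 (iv D4160) (iv F16319)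
theorem F21961 : act 1 n5663 = n4529 := d14_1 D5663 (iv D4529) (iv F16320)
theorem F21962 : act 3 n5663 = n5663 := d25_1 D5663 (iv D5663) F16321
theorem F21963 : act 5 n5663 = n4151 := d32_1 D5663 (iv D4151) (iv F16322)
def n5664 : Q := act 3 n4152
theorem D5664 : act 3 n4152 = n5664 := rfl
theorem F21964 : act 1 n5664 = n4177 := d9_1 D5664 (iv D4177) (iv F16327)
theorem F21965 : act 2 n5664 = n5664 := d15_1 D5664 (iv D5664) F16328 F12188 (iv F16328)
theorem F21966 : act 4 n5664 = n5664 := d21_2 D4152 D5664 (iv D5664) (iv D4152) F12183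
def n5665 : Q := act 6 n4152
theorem D5665 : act 6 n4152 = n5665 := rfl
theorem F21967 : act 1 n5665 = n4178 := d12_1 D5665 (iv D4178) (iv F16327)
theorem F21969 : act 4 n5665 = n4153 := d27_1 D5665 (iv D4153) D4152
def n5666 : Q := act 7 n4152
theorem D5666 : act 7 n4152 = n5666 := rfl
theorem F21970 : act 1 n5666 = n4179 := d13_1 D5666 (iv D4179) (iv F16327)
theorem F21971 : act 2 n5666 = n4158 := d19_1 D5666 (iv D4158) (iv F16328)
theorem F21972 : act 4 n5666 = n4154 := d28_1 D5666 (iv D4154) D4152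
def n5667 : Q := act 7 n4153
theorem D5667 : act 7 n4153 = n5667 := rfl
def n5668 : Q := act 3 n4154
theorem D5668 : act 3 n4154 = n5668 := rfl
theorem F21977 : act 1 n5668 = n4181 := d9_1 D5668 (iv D4181) (iv F16333)
theorem F21978 : act 2 n5668 = n5668 := d15_1 D5668 (iv D5668) F16334 F12193 (iv F16334)
theorem F21979 : act 5 n5668 = n4155 := d22_2 (iv F16335) D5668 (iv D4155)
theorem F21980 : act 7 n5668 = n5668 := d24_2 D4154 D5668 (iv D5668) (iv D4154) F12183
def n5669 : Q := act 8 n4154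
theorem D5669 : act 8 n4154 = n5669 := rfl
theorem F21981 : act 1 n5669 = n4182 := d14_1 D5669 (iv D4182) (iv F16333)
theorem F21982 : act 2 n5669 = n4160 := d20_1 D5669 (iv D4160) (iv F16334)
theorem F21983 : act 5 n5669 = n4156 := d32_1 D5669 (iv D4156) (iv F16335)
def n5670 : Q := act 4 n4155
theorem D5670 : act 4 n4155 = n5670 := rfl
theorem F21984 : act 1 n5670 = n4183 := d10_1 D5670 (iv D4183) (iv F16336)
theorem F21985 : act 2 n5670 = n5670 := d16_1 D5670 (iv D5670) F16337
theorem F21986 : act 6 n5670 = n5670 := d27_2 F16338 D5670 (iv D5670)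
theorem F21987 : act 7 n5670 = n5670 := d28_2 F16339 D5670 (iv D5670)
def n5671 : Q := act 8 n4155
theorem D5671 : act 8 n4155 = n5671 := rfl
theorem F21988 : act 1 n5671 = n4184 := d14_1 D5671 (iv D4184) (iv F16336)
theorem F21989 : act 2 n5671 = n5671 := d20_1 D5671 (iv D5671) F16337
theorem F21990 : act 3 n5671 = n4156 := d25_1 D5671 (iv D4156) D4155
theorem F21991 : act 6 n5671 = n5671 := d34_1 D5671 (iv D5671) F16338
def n5672 : Q := act 5 n4157
theorem D5672 : act 5 n4157 = n5672 := rfl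
def n5673 : Q := act 7 n4157
theorem D5673 : act 7 n4157 = n5673 := rfl
def n5674 : Q := act 3 n4158
theorem D5674 : act 3 n4158 = n5674 := rfl
theorem F21998 : act 1 n5674 = n4163 := d9_1 D5674 (iv D4163) (iv F16346)
theorem F21999 : act 4 n5674 = n5674 := d21_2 (iv F16347) D5674 (iv D5674) F16347 F12193
theorem F22000 : act 7 n5674 = n5674 := d24_2 D4158 D5674 (iv D5674) (iv D4158) F12188
def n5675 : Q := act 8 n4158
theorem D5675 : act 8 n4158 = n5675 := rfl
theorem F22001 : act 1 n5675 = n4164 := d14_1 D5675 (iv D4164) (iv F16346)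
theorem F22002 : act 4 n5675 = n4160 := d29_1 D5675 (iv D4160) (iv F16347)
def n5676 : Q := act 8 n4159
theorem D5676 : act 8 n4159 = n5676 := rfl
def n5677 : Q := act 7 n4161
theorem D5677 : act 7 n4161 = n5677 := rfl
theorem F22007 : act 0 n5677 = n4543 := d6_1 D5677 (iv D4543) (iv F16355)
def n5678 : Q := act 3 n4162
theorem D5678 : act 3 n4162 = n5678 := rfl
theorem F22011 : act 0 n5678 = n4544 := d2_1 D5678 (iv D4544) (iv F16359)
def n5679 : Q := act 8 n4162
theorem D5679 : act 8 n4162 = n5679 := rfl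
theorem F22015 : act 0 n5679 = n4545 := d7_1 D5679 (iv D4545) (iv F16359)
def n5680 : Q := act 2 n4163
theorem D5680 : act 2 n4163 = n5680 := rfl
theorem F22020 : act 3 n5680 = n4193 := d15_2 D4163 D5680 (iv D4193) (iv D3076) (iv F12203)
def n5681 : Q := act 8 n4163
theorem D5681 : act 8 n4163 = n5681 := rfl
theorem F22023 : act 0 n5681 = n4547 := d7_1 D5681 (iv D4547) (iv F16363)
theorem F22024 : act 3 n5681 = n4164 := d25_1 D5681 (iv D4164) D4163
theorem F22025 : act 4 n5681 = n5681 := d29_1 D5681 (iv D5681) F16364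
def n5682 : Q := act 4 n4166
theorem D5682 : act 4 n4166 = n5682 := rfl
theorem F22026 : act 1 n5682 = n4168 := d10_1 D5682 (iv D4168) (iv F16374)
theorem F22027 : act 2 n5682 = n4577 := d16_1 D5682 (iv D4577) (iv F16375)
def n5683 : Q := act 6 n4166
theorem D5683 : act 6 n4166 = n5683 := rfl
theorem F22029 : act 2 n5683 = n4578 := d18_1 D5683 (iv D4578) (iv F16375)
def n5684 : Q := act 7 n4166
theorem D5684 : act 7 n4166 = n5684 := rfl
theorem F22032 : act 1 n5684 = n4170 := d13_1 D5684 (iv D4170) (iv F16374)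
theorem F22033 : act 2 n5684 = n4579 := d19_1 D5684 (iv D4579) (iv F16375)
theorem F22034 : act 5 n5684 = n4167 := d31_1 D5684 (iv D4167) D4166
def n5685 : Q := act 3 n4167
theorem D5685 : act 3 n4167 = n5685 := rfl
theorem F22035 : act 1 n5685 = n4171 := d9_1 D5685 (iv D4171) (iv F16377)
theorem F22036 : act 6 n5685 = n5685 := d23_2 F16379 D5685 (iv D5685)
theorem F22037 : act 7 n5685 = n5685 := d24_2 D4167 D5685 (iv D5685) (iv D4167) F12215
def n5686 : Q := act 8 n4167
theorem D5686 : act 8 n4167 = n5686 := rfl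
theorem F22038 : act 1 n5686 = n4172 := d14_1 D5686 (iv D4172) (iv F16377)
theorem F22039 : act 2 n5686 = n4581 := d20_1 D5686 (iv D4581) (iv F16378)
theorem F22040 : act 6 n5686 = n5686 := d34_1 D5686 (iv D5686) F16379
def n5687 : Q := act 3 n4168
theorem D5687 : act 3 n4168 = n5687 := rfl
theorem F22041 : act 0 n5687 = n4177 := d2_1 D5687 (iv D4177) (iv F16380)
theorem F22042 : act 2 n5687 = n4200 := d15_1 D5687 (iv D4200) F12285 (iv F12225) (iv F16381)
theorem F22043 : act 4 n5687 = n5687 := d21_2 D4168 D5687 (iv D5687) (iv D4168) F12219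
def n5688 : Q := act 6 n4168
theorem D5688 : act 6 n4168 = n5688 := rfl
theorem F22045 : act 2 n5688 = n4173 := d18_1 D5688 (iv D4173) (iv F16381)
def n5689 : Q := act 7 n4168
theorem D5689 : act 7 n4168 = n5689 := rfl
theorem F22047 : act 0 n5689 = n4179 := d6_1 D5689 (iv D4179) (iv F16380)
theorem F22048 : act 2 n5689 = n4174 := d19_1 D5689 (iv D4174) (iv F16381)
theorem F22049 : act 4 n5689 = n4170 := d28_1 D5689 (iv D4170) D4168
def n5690 : Q := act 7 n4169
theorem D5690 : act 7 n4169 = n5690 := rfl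
def n5691 : Q := act 3 n4170
theorem D5691 : act 3 n4170 = n5691 := rfl
theorem F22054 : act 0 n5691 = n4181 := d2_1 D5691 (iv D4181) (iv F16386)
theorem F22055 : act 2 n5691 = n4247 := d15_1 D5691 (iv D4247) F12392 (iv F12232) (iv F16387)
theorem F22056 : act 5 n5691 = n4171 := d22_2 (iv F16388) D5691 (iv D4171)
theorem F22057 : act 7 n5691 = n5691 := d24_2 D4170 D5691 (iv D5691) (iv D4170) F12219
def n5692 : Q := act 8 n4170
theorem D5692 : act 8 n4170 = n5692 := rfl
theorem F22058 : act 0 n5692 = n4182 := d7_1 D5692 (iv D4182) (iv F16386)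
theorem F22059 : act 2 n5692 = n4176 := d20_1 D5692 (iv D4176) (iv F16387)
theorem F22060 : act 5 n5692 = n4172 := d32_1 D5692 (iv D4172) (iv F16388)
def n5693 : Q := act 4 n4171
theorem D5693 : act 4 n4171 = n5693 := rfl
theorem F22061 : act 0 n5693 = n4183 := d3_1 D5693 (iv D4183) (iv F16389)
theorem F22062 : act 2 n5693 = n4249 := d16_1 D5693 (iv D4249) (iv F16390)
theorem F22063 : act 6 n5693 = n5693 := d27_2 F16391 D5693 (iv D5693)
theorem F22064 : act 7 n5693 = n5693 := d28_2 F16392 D5693 (iv D5693)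
def n5694 : Q := act 8 n4171
theorem D5694 : act 8 n4171 = n5694 := rfl
theorem F22065 : act 0 n5694 = n4184 := d7_1 D5694 (iv D4184) (iv F16389)
theorem F22066 : act 2 n5694 = n4250 := d20_1 D5694 (iv D4250) (iv F16390)
theorem F22067 : act 3 n5694 = n4172 := d25_1 D5694 (iv D4172) D4171
theorem F22068 : act 6 n5694 = n5694 := d34_1 D5694 (iv D5694) F16391
def n5695 : Q := act 5 n4173
theorem D5695 : act 5 n4173 = n5695 := rfl
theorem F22070 : act 1 n5695 = n4590 := d11_1 D5695 (iv D4590) (iv F16397)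
def n5696 : Q := act 7 n4173
theorem D5696 : act 7 n4173 = n5696 := rfl
theorem F22074 : act 1 n5696 = n4591 := d13_1 D5696 (iv D4591) (iv F16397)
def n5697 : Q := act 3 n4174
theorem D5697 : act 3 n4174 = n5697 := rfl
theorem F22080 : act 7 n5697 = n4210 := d24_2 D4174 D5697 (iv D4210) (iv D3087) (iv F12225)
def n5698 : Q := act 8 n4174
theorem D5698 : act 8 n4174 = n5698 := rfl
theorem F22081 : act 0 n5698 = n4188 := d7_1 D5698 (iv D4188) (iv F16400)
theorem F22082 : act 1 n5698 = n4593 := d14_1 D5698 (iv D4593) (iv F16401)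
theorem F22083 : act 4 n5698 = n4176 := d29_1 D5698 (iv D4176) (iv F16402)
def n5699 : Q := act 8 n4175
theorem D5699 : act 8 n4175 = n5699 := rfl
theorem F22085 : act 1 n5699 = n4594 := d14_1 D5699 (iv D4594) (iv F16404)
theorem F22086 : act 3 n5699 = n4255 := d25_1 D5699 (iv D4255) (iv F16405)
def n5700 : Q := act 6 n4177
theorem D5700 : act 6 n4177 = n5700 := rfl
theorem F22089 : act 2 n5700 = n4213 := d18_1 D5700 (iv D4213) (iv F16412)
def n5701 : Q := act 7 n4177
theorem D5701 : act 7 n4177 = n5701 := rfl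
theorem F22092 : act 2 n5701 = n4214 := d19_1 D5701 (iv D4214) (iv F16412)
theorem F22093 : act 4 n5701 = n5701 := d28_1 D5701 (iv D5701) F16413
def n5702 : Q := act 5 n4178
theorem D5702 : act 5 n4178 = n5702 := rfl
def n5703 : Q := act 7 n4178
theorem D5703 : act 7 n4178 = n5703 := rfl
def n5704 : Q := act 3 n4179
theorem D5704 : act 3 n4179 = n5704 := rfl
def n5705 : Q := act 8 n4179
theorem D5705 : act 8 n4179 = n5705 := rfl
theorem F22099 : act 2 n5705 = n4188 := d20_1 D5705 (iv D4188) (iv F16416)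
theorem F22100 : act 4 n5705 = n4182 := d29_1 D5705 (iv D4182) (iv F16417)
def n5707 : Q := act 8 n4180
theorem D5707 : act 8 n4180 = n5707 := rfl
def n5708 : Q := act 4 n4181
theorem D5708 : act 4 n4181 = n5708 := rfl
theorem F22108 : act 2 n5708 = n4264 := d16_1 D5708 (iv D4264) (iv F16421)
theorem F22109 : act 7 n5708 = n5708 := d28_2 F16423 D5708 (iv D5708)
def n5709 : Q := act 8 n4181
theorem D5709 : act 8 n4181 = n5709 := rfl
theorem F22110 : act 2 n5709 = n4265 := d20_1 D5709 (iv D4265) (iv F16421)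
theorem F22111 : act 3 n5709 = n4182 := d25_1 D5709 (iv D4182) D4181
theorem F22112 : act 5 n5709 = n4184 := d32_1 D5709 (iv D4184) (iv F16422)
def n5710 : Q := act 5 n4183
theorem D5710 : act 5 n4183 = n5710 := rfl
theorem F22113 : act 2 n5710 = n4266 := d17_1 D5710 (iv D4266) (iv F16426)
theorem F22114 : act 7 n5710 = n5710 := d31_2 F16428 D5710 (iv D5710)
def n5711 : Q := act 8 n4183
theorem D5711 : act 8 n4183 = n5711 := rfl
theorem F22115 : act 2 n5711 = n4267 := d20_1 D5711 (iv D4267) (iv F16426)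
theorem F22116 : act 4 n5711 = n4184 := d29_1 D5711 (iv D4184) D4183
theorem F22117 : act 6 n5711 = n5711 := d34_1 D5711 (iv D5711) F16427
def n5712 : Q := act 7 n4184
theorem D5712 : act 7 n4184 = n5712 := rfl
theorem F22118 : act 2 n5712 = n4268 := d19_1 D5712 (iv D4268) (iv F16429)
theorem F22119 : act 6 n5712 = n5712 := d33_1 D5712 (iv D5712) F16431
theorem F22120 : act 8 n5712 = n5712 := d35_2 D4184 D5712 (iv D5712) (iv D4184) F12246
def n5713 : Q := act 7 n4185
theorem D5713 : act 7 n4185 = n5713 := rfl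
def n5715 : Q := act 8 n4186
theorem D5715 : act 8 n4186 = n5715 := rfl
def n5716 : Q := act 2 n4187
theorem D5716 : act 2 n4187 = n5716 := rfl
theorem F22132 : act 7 n5716 = n4229 := d19_2 (iv F16440) D5716 (iv D4229)
def n5717 : Q := act 8 n4187
theorem D5717 : act 8 n4187 = n5717 := rfl
def n5722 : Q := act 1 n4193
theorem D5722 : act 1 n4193 = n5722 := rfl
theorem F22151 : act 7 n5722 = n4235 := d13_2 (iv F16459) D5722 (iv D4235)
def n5725 : Q := act 3 n4195
theorem D5725 : act 3 n4195 = n5725 := rfl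
theorem F22158 : act 0 n5725 = n5725 := d2_1 D5725 (iv D5725) F16463
theorem F22159 : act 1 n5725 = n4200 := d9_1 D5725 (iv D4200) (iv F16464)
theorem F22160 : act 4 n5725 = n5725 := d21_2 D4195 D5725 (iv D5725) (iv D4195) F12279
def n5726 : Q := act 6 n4195
theorem D5726 : act 6 n4195 = n5726 := rfl
theorem F22163 : act 2 n5726 = n4663 := d18_1 D5726 (iv D4663) (iv F16465)
theorem F22164 : act 4 n5726 = n4196 := d27_1 D5726 (iv D4196) D4195
def n5727 : Q := act 7 n4195
theorem D5727 : act 7 n4195 = n5727 := rfl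
theorem F22168 : act 4 n5727 = n4197 := d28_1 D5727 (iv D4197) D4195
def n5730 : Q := act 8 n4197
theorem D5730 : act 8 n4197 = n5730 := rfl
theorem F22182 : act 5 n5730 = n4199 := d32_1 D5730 (iv D4199) (iv F16474)
def n5733 : Q := act 6 n4200
theorem D5733 : act 6 n4200 = n5733 := rfl
theorem F22194 : act 3 n5733 = n4201 := d23_1 D5733 (iv D4201) D4200
def n5734 : Q := act 7 n4200
theorem D5734 : act 7 n4200 = n5734 := rfl
theorem F22196 : act 0 n5734 = n4214 := d6_1 D5734 (iv D4214) (iv F16484)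
theorem F22197 : act 4 n5734 = n5734 := d28_1 D5734 (iv D5734) F16485
def n5735 : Q := act 5 n4201
theorem D5735 : act 5 n4201 = n5735 := rfl
def n5737 : Q := act 3 n4202
theorem D5737 : act 3 n4202 = n5737 := rfl
def n5749 : Q := act 2 n4210
theorem D5749 : act 2 n4210 = n5749 := rfl
def n5751 : Q := act 5 n4213
theorem D5751 : act 5 n4213 = n5751 := rfl
def n5752 : Q := act 7 n4213
theorem D5752 : act 7 n4213 = n5752 := rfl
def n5753 : Q := act 3 n4214
theorem D5753 : act 3 n4214 = n5753 := rfl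
theorem F22260 : act 7 n5753 = n4217 := d24_2 D4214 D5753 (iv D4217) (iv D3092) D3090
def n5754 : Q := act 8 n4214
theorem D5754 : act 8 n4214 = n5754 := rfl
theorem F22261 : act 1 n5754 = n5754 := d14_1 D5754 (iv D5754) F16532
theorem F22262 : act 4 n5754 = n5754 := d29_1 D5754 (iv D5754) F16533
def n5788 : Q := act 7 n4239
theorem D5788 : act 7 n4239 = n5788 := rfl
theorem F22374 : act 1 n5788 = n4246 := d13_1 D5788 (iv D4246) (iv F16613)
theorem F22375 : act 2 n5788 = n4706 := d19_1 D5788 (iv D4706) (iv F16614)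
def n5789 : Q := act 3 n4240
theorem D5789 : act 3 n4240 = n5789 := rfl
theorem F22378 : act 0 n5789 = n5789 := d2_1 D5789 (iv D5789) F16618
theorem F22379 : act 1 n5789 = n4247 := d9_1 D5789 (iv D4247) (iv F16619)
theorem F22380 : act 5 n5789 = n4241 := d22_2 (iv F16621) D5789 (iv D4241)
theorem F22381 : act 7 n5789 = n5789 := d24_2 D4240 D5789 (iv D5789) (iv D4240) F12375
def n5790 : Q := act 8 n4240
theorem D5790 : act 8 n4240 = n5790 := rfl
theorem F22382 : act 0 n5790 = n5790 := d7_1 D5790 (iv D5790) F16618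
theorem F22383 : act 1 n5790 = n4248 := d14_1 D5790 (iv D4248) (iv F16619)
theorem F22384 : act 2 n5790 = n4708 := d20_1 D5790 (iv D4708) (iv F16620)
theorem F22385 : act 5 n5790 = n4242 := d32_1 D5790 (iv D4242) (iv F16621)
theorem F22386 : act 7 n5790 = n5790 := d35_1 D5790 (iv D5790) (iv D4240) F12376 D4240
def n5791 : Q := act 2 n4241
theorem D5791 : act 2 n4241 = n5791 := rfl
theorem F22387 : act 0 n5791 = n5791 := d1_1 D5791 (iv D5791) F16622
theorem F22388 : act 3 n5791 = n4709 := d15_2 D4241 D5791 (iv D4709) (iv D3442) (iv F12379)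
theorem F22389 : act 6 n5791 = n5791 := d18_2 F16624 D5791 (iv D5791)
theorem F22390 : act 7 n5791 = n5791 := d19_2 F16625 D5791 (iv D5791)
def n5792 : Q := act 4 n4241
theorem D5792 : act 4 n4241 = n5792 := rfl
theorem F22391 : act 0 n5792 = n5792 := d3_1 D5792 (iv D5792) F16622
theorem F22392 : act 1 n5792 = n4249 := d10_1 D5792 (iv D4249) (iv F16623)
theorem F22393 : act 3 n5792 = n5792 := d21_1 D5792 (iv D5792) (iv D4241) F12380 D4241
theorem F22394 : act 6 n5792 = n5792 := d27_2 F16624 D5792 (iv D5792)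
theorem F22395 : act 7 n5792 = n5792 := d28_2 F16625 D5792 (iv D5792)
def n5793 : Q := act 8 n4241
theorem D5793 : act 8 n4241 = n5793 := rfl
theorem F22396 : act 0 n5793 = n5793 := d7_1 D5793 (iv D5793) F16622
theorem F22397 : act 1 n5793 = n4250 := d14_1 D5793 (iv D4250) (iv F16623)
theorem F22398 : act 3 n5793 = n4242 := d25_1 D5793 (iv D4242) D4241
theorem F22399 : act 6 n5793 = n5793 := d34_1 D5793 (iv D5793) F16624
def n5801 : Q := act 8 n4246
theorem D5801 : act 8 n4246 = n5801 := rfl
theorem F22430 : act 2 n5801 = n4255 := d20_1 D5801 (iv D4255) (iv F16646)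
def n5802 : Q := act 4 n4247
theorem D5802 : act 4 n4247 = n5802 := rfl
theorem F22434 : act 0 n5802 = n4264 := d3_1 D5802 (iv D4264) (iv F16649)
theorem F22435 : act 7 n5802 = n5802 := d28_2 F16651 D5802 (iv D5802)
def n5803 : Q := act 8 n4247
theorem D5803 : act 8 n4247 = n5803 := rfl
theorem F22436 : act 0 n5803 = n4265 := d7_1 D5803 (iv D4265) (iv F16649)
theorem F22437 : act 3 n5803 = n4248 := d25_1 D5803 (iv D4248) D4247
theorem F22438 : act 5 n5803 = n4250 := d32_1 D5803 (iv D4250) (iv F16650)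
def n5804 : Q := act 5 n4249
theorem D5804 : act 5 n4249 = n5804 := rfl
theorem F22439 : act 0 n5804 = n4266 := d4_1 D5804 (iv D4266) (iv F16656)
theorem F22440 : act 3 n5804 = n5804 := d22_1 D5804 (iv D5804) F16657
theorem F22441 : act 7 n5804 = n5804 := d31_2 F16659 D5804 (iv D5804)
def n5805 : Q := act 8 n4249
theorem D5805 : act 8 n4249 = n5805 := rfl
theorem F22442 : act 0 n5805 = n4267 := d7_1 D5805 (iv D4267) (iv F16656)
theorem F22443 : act 3 n5805 = n5805 := d25_1 D5805 (iv D5805) F16657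
theorem F22444 : act 4 n5805 = n4250 := d29_1 D5805 (iv D4250) D4249
theorem F22445 : act 6 n5805 = n5805 := d34_1 D5805 (iv D5805) F16658
def n5806 : Q := act 7 n4250
theorem D5806 : act 7 n4250 = n5806 := rfl
theorem F22446 : act 0 n5806 = n4268 := d6_1 D5806 (iv D4268) (iv F16660)
theorem F22447 : act 3 n5806 = n5806 := d24_1 D5806 (iv D5806) F16661 F12401 (iv F16661)
theorem F22448 : act 6 n5806 = n5806 := d33_1 D5806 (iv D5806) F16662
theorem F22449 : act 8 n5806 = n5806 := d35_2 D4250 D5806 (iv D5806) (iv D4250) F12396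
def n5824 : Q := act 5 n4264
theorem D5824 : act 5 n4264 = n5824 := rfl
theorem F22514 : act 1 n5824 = n5824 := d11_1 D5824 (iv D5824) F16721
theorem F22515 : act 4 n5824 = n4266 := d26_1 D5824 (iv D4266) (iv D3125) (iv F12437) D4264
theorem F22516 : act 7 n5824 = n5824 := d31_2 F16722 D5824 (iv D5824)
def n5825 : Q := act 8 n4264
theorem D5825 : act 8 n4264 = n5825 := rfl
theorem F22517 : act 1 n5825 = n5825 := d14_1 D5825 (iv D5825) F16721
theorem F22518 : act 4 n5825 = n4265 := d29_1 D5825 (iv D4265) D4264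
def n5826 : Q := act 7 n4265
theorem D5826 : act 7 n4265 = n5826 := rfl
theorem F22519 : act 1 n5826 = n5826 := d13_1 D5826 (iv D5826) F16723
theorem F22520 : act 3 n5826 = n5826 := d24_1 D5826 (iv D5826) F16724 F12442 (iv F16724)
theorem F22521 : act 5 n5826 = n4268 := d31_1 D5826 (iv D4268) (iv F16725)
theorem F22522 : act 8 n5826 = n5826 := d35_2 D4265 D5826 (iv D5826) (iv D4265) F12438
def n5827 : Q := act 6 n4266
theorem D5827 : act 6 n4266 = n5827 := rfl
theorem F22523 : act 1 n5827 = n5827 := d12_1 D5827 (iv D5827) F16726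
theorem F22524 : act 3 n5827 = n5827 := d23_1 D5827 (iv D5827) F16727
theorem F22525 : act 5 n5827 = n5827 := d30_1 D5827 (iv D5827) (iv D4266) F12445 D4266
theorem F22526 : act 7 n5827 = n5827 := d33_2 F16728 D5827 (iv D5827)
def n5828 : Q := act 8 n4266
theorem D5828 : act 8 n4266 = n5828 := rfl
theorem F22527 : act 1 n5828 = n5828 := d14_1 D5828 (iv D5828) F16726
theorem F22528 : act 3 n5828 = n5828 := d25_1 D5828 (iv D5828) F16727
theorem F22529 : act 5 n5828 = n4267 := d32_1 D5828 (iv D4267) D4266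
def n5829 : Q := act 7 n4267
theorem D5829 : act 7 n4267 = n5829 := rfl
theorem F22530 : act 1 n5829 = n5829 := d13_1 D5829 (iv D5829) F16729
theorem F22531 : act 4 n5829 = n4268 := d28_1 D5829 (iv D4268) (iv F16731)
theorem F22532 : act 6 n5829 = n5829 := d33_1 D5829 (iv D5829) F16732
theorem F22533 : act 8 n5829 = n5829 := d35_2 D4267 D5829 (iv D5829) (iv D4267) F12446
def n5981 : Q := act 1 n4380
theorem D5981 : act 1 n4380 = n5981 := rfl
theorem F23098 : act 0 n5981 = n5981 := d0_1 D5981 (iv D5981) F17162 F12787 (iv F17162)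
theorem F23099 : act 3 n5981 = n5981 := d9_2 F17163 D5981 (iv D5981)
theorem F23100 : act 4 n5981 = n5981 := d10_2 F17164 D5981 (iv D5981)
theorem F23101 : act 6 n5981 = n5981 := d12_2 F17165 D5981 (iv D5981)
theorem F23102 : act 8 n5981 = n5981 := d14_2 F17166 D5981 (iv D5981)
def n5982 : Q := act 5 n4380
theorem D5982 : act 5 n4380 = n5982 := rfl
theorem F23103 : act 0 n5982 = n4384 := d4_1 D5982 (iv D4384) (iv F17162)
theorem F23104 : act 2 n5982 = n4381 := d17_1 D5982 (iv D4381) D4380
theorem F23105 : act 3 n5982 = n5982 := d22_1 D5982 (iv D5982) F17163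
theorem F23106 : act 8 n5982 = n5982 := d32_2 F17166 D5982 (iv D5982)
def n5983 : Q := act 7 n4380
theorem D5983 : act 7 n4380 = n5983 := rfl
theorem F23107 : act 0 n5983 = n4385 := d6_1 D5983 (iv D4385) (iv F17162)
theorem F23108 : act 2 n5983 = n4382 := d19_1 D5983 (iv D4382) D4380
theorem F23109 : act 4 n5983 = n5983 := d28_1 D5983 (iv D5983) F17164
theorem F23110 : act 6 n5983 = n5983 := d33_1 D5983 (iv D5983) F17165
def n5984 : Q := act 4 n4381
theorem D5984 : act 4 n4381 = n5984 := rfl
theorem F23111 : act 0 n5984 = n4386 := d3_1 D5984 (iv D4386) (iv F17167)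
theorem F23112 : act 3 n5984 = n5984 := d21_1 D5984 (iv D5984) F17168 F12784 (iv F17168)
theorem F23113 : act 5 n5984 = n5984 := d26_2 D4381 D5984 (iv D5984) (iv D4381) F12779
theorem F23114 : act 8 n5984 = n5984 := d29_2 F17169 D5984 (iv D5984)
def n5985 : Q := act 6 n4381
theorem D5985 : act 6 n4381 = n5985 := rfl
theorem F23115 : act 0 n5985 = n4387 := d5_1 D5985 (iv D4387) (iv F17167)
theorem F23116 : act 3 n5985 = n4383 := d23_1 D5985 (iv D4383) (iv F17168)
theorem F23117 : act 5 n5985 = n5985 := d30_1 D5985 (iv D5985) (iv D4381) F12780 D4381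
theorem F23118 : act 8 n5985 = n5985 := d34_2 F17169 D5985 (iv D5985)
def n5986 : Q := act 7 n4381
theorem D5986 : act 7 n4381 = n5986 := rfl
theorem F23119 : act 0 n5986 = n4388 := d6_1 D5986 (iv D4388) (iv F17167)
theorem F23120 : act 3 n5986 = n4399 := d24_1 D5986 (iv D4399) F12827 (iv F12785) (iv F17168)
theorem F23121 : act 5 n5986 = n4382 := d31_1 D5986 (iv D4382) D4381
def n5987 : Q := act 8 n4382
theorem D5987 : act 8 n4382 = n5987 := rfl
theorem F23122 : act 0 n5987 = n4389 := d7_1 D5987 (iv D4389) (iv F17170)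
theorem F23123 : act 3 n5987 = n4400 := d25_1 D5987 (iv D4400) (iv F17171)
theorem F23124 : act 4 n5987 = n5987 := d29_1 D5987 (iv D5987) F17172
theorem F23125 : act 6 n5987 = n5987 := d34_1 D5987 (iv D5987) F17173
theorem F23126 : act 7 n5987 = n5987 := d35_1 D5987 (iv D5987) (iv D4382) F12781 D4382
def n5988 : Q := act 4 n4384
theorem D5988 : act 4 n4384 = n5988 := rfl
theorem F23127 : act 1 n5988 = n5988 := d10_1 D5988 (iv D5988) F17180
theorem F23128 : act 2 n5988 = n4386 := d16_1 D5988 (iv D4386) (iv F17181)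
theorem F23129 : act 5 n5988 = n5988 := d26_2 D4384 D5988 (iv D5988) (iv D4384) F12789
theorem F23130 : act 8 n5988 = n5988 := d29_2 F17183 D5988 (iv D5988)
def n5989 : Q := act 6 n4384
theorem D5989 : act 6 n4384 = n5989 := rfl
theorem F23131 : act 1 n5989 = n5989 := d12_1 D5989 (iv D5989) F17180
theorem F23132 : act 2 n5989 = n4387 := d18_1 D5989 (iv D4387) (iv F17181)
theorem F23133 : act 3 n5989 = n5989 := d23_1 D5989 (iv D5989) F17182
theorem F23134 : act 5 n5989 = n5989 := d30_1 D5989 (iv D5989) (iv D4384) F12790 D4384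
theorem F23135 : act 8 n5989 = n5989 := d34_2 F17183 D5989 (iv D5989)
def n5990 : Q := act 7 n4384
theorem D5990 : act 7 n4384 = n5990 := rfl
theorem F23136 : act 1 n5990 = n5990 := d13_1 D5990 (iv D5990) F17180
theorem F23137 : act 2 n5990 = n4388 := d19_1 D5990 (iv D4388) (iv F17181)
theorem F23138 : act 5 n5990 = n4385 := d31_1 D5990 (iv D4385) D4384
def n5991 : Q := act 3 n4385
theorem D5991 : act 3 n4385 = n5991 := rfl
theorem F23139 : act 1 n5991 = n5991 := d9_1 D5991 (iv D5991) F17184
theorem F23140 : act 2 n5991 = n4404 := d15_1 D5991 (iv D4404) F12842 (iv F12796) (iv F17185)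
theorem F23141 : act 6 n5991 = n5991 := d23_2 F17187 D5991 (iv D5991)
theorem F23142 : act 7 n5991 = n5991 := d24_2 D4385 D5991 (iv D5991) (iv D4385) F12788
def n5992 : Q := act 8 n4385
theorem D5992 : act 8 n4385 = n5992 := rfl
theorem F23143 : act 1 n5992 = n5992 := d14_1 D5992 (iv D5992) F17184
theorem F23144 : act 2 n5992 = n4389 := d20_1 D5992 (iv D4389) (iv F17185)
theorem F23145 : act 4 n5992 = n5992 := d29_1 D5992 (iv D5992) F17186
theorem F23146 : act 6 n5992 = n5992 := d34_1 D5992 (iv D5992) F17187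
theorem F23147 : act 7 n5992 = n5992 := d35_1 D5992 (iv D5992) (iv D4385) F12791 D4385
def n5993 : Q := act 6 n4386
theorem D5993 : act 6 n4386 = n5993 := rfl
theorem F23148 : act 1 n5993 = n4390 := d12_1 D5993 (iv D4390) (iv F17188)
theorem F23149 : act 3 n5993 = n5993 := d23_1 D5993 (iv D5993) F17189
theorem F23150 : act 4 n5993 = n4387 := d27_1 D5993 (iv D4387) D4386
theorem F23151 : act 8 n5993 = n5993 := d34_2 F17191 D5993 (iv D5993)
def n5994 : Q := act 7 n4386
theorem D5994 : act 7 n4386 = n5994 := rfl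
theorem F23152 : act 1 n5994 = n4391 := d13_1 D5994 (iv D4391) (iv F17188)
theorem F23153 : act 4 n5994 = n4388 := d28_1 D5994 (iv D4388) D4386
theorem F23154 : act 5 n5994 = n5994 := d31_1 D5994 (iv D5994) F17190
def n5995 : Q := act 7 n4387
theorem D5995 : act 7 n4387 = n5995 := rfl
theorem F23155 : act 1 n5995 = n4392 := d13_1 D5995 (iv D4392) (iv F17192)
theorem F23156 : act 3 n5995 = n4408 := d24_1 D5995 (iv D4408) F12850 (iv F12803) (iv F17193)
theorem F23157 : act 5 n5995 = n5995 := d31_1 D5995 (iv D5995) F17194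
theorem F23158 : act 6 n5995 = n4388 := d33_1 D5995 (iv D4388) D4387
def n5996 : Q := act 8 n4388
theorem D5996 : act 8 n4388 = n5996 := rfl
theorem F23159 : act 1 n5996 = n4393 := d14_1 D5996 (iv D4393) (iv F17196)
theorem F23160 : act 3 n5996 = n4409 := d25_1 D5996 (iv D4409) (iv F17197)
theorem F23161 : act 5 n5996 = n4389 := d32_1 D5996 (iv D4389) (iv F17198)
theorem F23162 : act 7 n5996 = n5996 := d35_1 D5996 (iv D5996) (iv D4388) F12794 D4388
def n5997 : Q := act 5 n4390
theorem D5997 : act 5 n4390 = n5997 := rfl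
theorem F23163 : act 2 n5997 = n5997 := d17_1 D5997 (iv D5997) F17204
theorem F23164 : act 3 n5997 = n5997 := d22_1 D5997 (iv D5997) F17205
theorem F23165 : act 4 n5997 = n5997 := d26_1 D5997 (iv D5997) F17206 F12811 (iv F17206)
theorem F23166 : act 6 n5997 = n5997 := d30_2 D4390 D5997 (iv D5997) (iv D4390) F12807
theorem F23167 : act 8 n5997 = n5997 := d32_2 F17207 D5997 (iv D5997)
def n5998 : Q := act 7 n4390
theorem D5998 : act 7 n4390 = n5998 := rfl
theorem F23168 : act 2 n5998 = n5998 := d19_1 D5998 (iv D5998) F17204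
theorem F23169 : act 4 n5998 = n4392 := d28_1 D5998 (iv D4392) (iv F17206)
theorem F23170 : act 6 n5998 = n4391 := d33_1 D5998 (iv D4391) D4390
def n5999 : Q := act 3 n4391
theorem D5999 : act 3 n4391 = n5999 := rfl
theorem F23171 : act 4 n5999 = n4412 := d21_2 (iv F17209) D5999 (iv D4412) F12864 (iv F12814)
theorem F23172 : act 5 n5999 = n5999 := d22_2 F17210 D5999 (iv D5999)
theorem F23173 : act 7 n5999 = n5999 := d24_2 D4391 D5999 (iv D5999) (iv D4391) F12806
def n6000 : Q := act 8 n4391
theorem D6000 : act 8 n4391 = n6000 := rfl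
theorem F23174 : act 2 n6000 = n6000 := d20_1 D6000 (iv D6000) F17208
theorem F23175 : act 4 n6000 = n4393 := d29_1 D6000 (iv D4393) (iv F17209)
theorem F23176 : act 5 n6000 = n6000 := d32_1 D6000 (iv D6000) F17210
theorem F23177 : act 7 n6000 = n6000 := d35_1 D6000 (iv D6000) (iv D4391) F12808 D4391
def n6001 : Q := act 8 n4392
theorem D6001 : act 8 n4392 = n6001 := rfl
theorem F23178 : act 2 n6001 = n6001 := d20_1 D6001 (iv D6001) F17211
theorem F23179 : act 3 n6001 = n4414 := d25_1 D6001 (iv D4414) (iv F17212)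
theorem F23180 : act 5 n6001 = n6001 := d32_1 D6001 (iv D6001) F17213
theorem F23181 : act 6 n6001 = n4393 := d34_1 D6001 (iv D4393) (iv F17214)
theorem F23182 : act 7 n6001 = n6001 := d35_1 D6001 (iv D6001) (iv D4392) F12812 D4392
def n6002 : Q := act 5 n4394
theorem D6002 : act 5 n4394 = n6002 := rfl
theorem F23183 : act 0 n6002 = n4415 := d4_1 D6002 (iv D4415) (iv F17219)
theorem F23184 : act 1 n6002 = n4395 := d11_1 D6002 (iv D4395) D4394
theorem F23185 : act 3 n6002 = n6002 := d22_1 D6002 (iv D6002) F17220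
theorem F23186 : act 8 n6002 = n5653 := d32_2 (iv F17223) D6002 (iv D5653)
def n6003 : Q := act 7 n4394
theorem D6003 : act 7 n4394 = n6003 := rfl
theorem F23187 : act 0 n6003 = n4416 := d6_1 D6003 (iv D4416) (iv F17219)
theorem F23188 : act 1 n6003 = n4396 := d13_1 D6003 (iv D4396) D4394
theorem F23189 : act 4 n6003 = n4520 := d28_1 D6003 (iv D4520) (iv F17221)
theorem F23190 : act 6 n6003 = n6003 := d33_1 D6003 (iv D6003) F17222
def n6004 : Q := act 4 n4395
theorem D6004 : act 4 n4395 = n6004 := rfl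
theorem F23191 : act 0 n6004 = n4401 := d3_1 D6004 (iv D4401) (iv F17224)
theorem F23192 : act 2 n6004 = n4397 := d16_1 D6004 (iv D4397) (iv F17225)
theorem F23193 : act 5 n6004 = n4521 := d26_2 D4395 D6004 (iv D4521) (iv D3307) (iv F12823)
theorem F23194 : act 8 n6004 = n5655 := d29_2 (iv F17227) D6004 (iv D5655)
def n6005 : Q := act 6 n4395
theorem D6005 : act 6 n4395 = n6005 := rfl
theorem F23195 : act 0 n6005 = n4402 := d5_1 D6005 (iv D4402) (iv F17224)
theorem F23196 : act 2 n6005 = n4398 := d18_1 D6005 (iv D4398) (iv F17225)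
theorem F23197 : act 3 n6005 = n6005 := d23_1 D6005 (iv D6005) F17226
theorem F23198 : act 5 n6005 = n6005 := d30_1 D6005 (iv D6005) (iv D4395) F12824 D4395
theorem F23199 : act 8 n6005 = n5656 := d34_2 (iv F17227) D6005 (iv D5656)
def n6006 : Q := act 7 n4395
theorem D6006 : act 7 n4395 = n6006 := rfl
theorem F23200 : act 0 n6006 = n4403 := d6_1 D6006 (iv D4403) (iv F17224)
theorem F23201 : act 2 n6006 = n4399 := d19_1 D6006 (iv D4399) (iv F17225)
theorem F23202 : act 5 n6006 = n4396 := d31_1 D6006 (iv D4396) D4395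
def n6007 : Q := act 3 n4396
theorem D6007 : act 3 n4396 = n6007 := rfl
theorem F23203 : act 0 n6007 = n4404 := d2_1 D6007 (iv D4404) (iv F17228)
theorem F23204 : act 6 n6007 = n6007 := d23_2 F17231 D6007 (iv D6007)
theorem F23205 : act 7 n6007 = n6007 := d24_2 D4396 D6007 (iv D6007) (iv D4396) F12822
def n6008 : Q := act 8 n4396
theorem D6008 : act 8 n4396 = n6008 := rfl
theorem F23206 : act 0 n6008 = n4405 := d7_1 D6008 (iv D4405) (iv F17228)
theorem F23207 : act 2 n6008 = n4400 := d20_1 D6008 (iv D4400) (iv F17229)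
theorem F23208 : act 4 n6008 = n4525 := d29_1 D6008 (iv D4525) (iv F17230)
theorem F23209 : act 6 n6008 = n6008 := d34_1 D6008 (iv D6008) F17231
theorem F23210 : act 7 n6008 = n5659 := d35_1 D6008 (iv D5659) (iv D4147) (iv F12825) D4396
def n6009 : Q := act 6 n4397
theorem D6009 : act 6 n4397 = n6009 := rfl
theorem F23211 : act 0 n6009 = n4406 := d5_1 D6009 (iv D4406) (iv F17232)
theorem F23212 : act 3 n6009 = n6009 := d23_1 D6009 (iv D6009) F17233
theorem F23213 : act 4 n6009 = n4398 := d27_1 D6009 (iv D4398) D4397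
theorem F23214 : act 8 n6009 = n5660 := d34_2 (iv F17235) D6009 (iv D5660)
def n6010 : Q := act 7 n4397
theorem D6010 : act 7 n4397 = n6010 := rfl
theorem F23215 : act 0 n6010 = n4407 := d6_1 D6010 (iv D4407) (iv F17232)
theorem F23216 : act 4 n6010 = n4399 := d28_1 D6010 (iv D4399) D4397
theorem F23217 : act 5 n6010 = n4527 := d31_1 D6010 (iv D4527) (iv F17234)
def n6011 : Q := act 7 n4398
theorem D6011 : act 7 n4398 = n6011 := rfl
theorem F23218 : act 0 n6011 = n4408 := d6_1 D6011 (iv D4408) (iv F17236)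
theorem F23219 : act 5 n6011 = n6011 := d31_1 D6011 (iv D6011) F17238
theorem F23220 : act 6 n6011 = n4399 := d33_1 D6011 (iv D4399) D4398
def n6012 : Q := act 8 n4399
theorem D6012 : act 8 n4399 = n6012 := rfl
theorem F23221 : act 0 n6012 = n4409 := d7_1 D6012 (iv D4409) (iv F17240)
theorem F23222 : act 5 n6012 = n4400 := d32_1 D6012 (iv D4400) (iv F17241)
theorem F23223 : act 7 n6012 = n5663 := d35_1 D6012 (iv D5663) (iv D4150) (iv F12828) D4399
def n6013 : Q := act 3 n4401
theorem D6013 : act 3 n4401 = n6013 := rfl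
theorem F23224 : act 1 n6013 = n4426 := d9_1 D6013 (iv D4426) (iv F17246)
theorem F23225 : act 2 n6013 = n6013 := d15_1 D6013 (iv D6013) F17247 F12846 (iv F17247)
theorem F23226 : act 4 n6013 = n6013 := d21_2 D4401 D6013 (iv D6013) (iv D4401) F12839
theorem F23227 : act 5 n6013 = n4530 := d22_2 (iv F17248) D6013 (iv D4530)
theorem F23228 : act 8 n6013 = n5664 := d25_2 (iv F17249) D6013 (iv D5664)
def n6014 : Q := act 6 n4401
theorem D6014 : act 6 n4401 = n6014 := rfl
theorem F23229 : act 1 n6014 = n4427 := d12_1 D6014 (iv D4427) (iv F17246)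
theorem F23230 : act 2 n6014 = n4406 := d18_1 D6014 (iv D4406) (iv F17247)
theorem F23231 : act 4 n6014 = n4402 := d27_1 D6014 (iv D4402) D4401
theorem F23232 : act 8 n6014 = n5665 := d34_2 (iv F17249) D6014 (iv D5665)
def n6015 : Q := act 7 n4401
theorem D6015 : act 7 n4401 = n6015 := rfl
theorem F23233 : act 1 n6015 = n4428 := d13_1 D6015 (iv D4428) (iv F17246)
theorem F23234 : act 2 n6015 = n4407 := d19_1 D6015 (iv D4407) (iv F17247)
theorem F23235 : act 4 n6015 = n4403 := d28_1 D6015 (iv D4403) D4401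
theorem F23236 : act 5 n6015 = n4532 := d31_1 D6015 (iv D4532) (iv F17248)
def n6016 : Q := act 7 n4402
theorem D6016 : act 7 n4402 = n6016 := rfl
theorem F23237 : act 1 n6016 = n4429 := d13_1 D6016 (iv D4429) (iv F17250)
theorem F23238 : act 2 n6016 = n4408 := d19_1 D6016 (iv D4408) (iv F17251)
theorem F23239 : act 5 n6016 = n6016 := d31_1 D6016 (iv D6016) F17253
theorem F23240 : act 6 n6016 = n4403 := d33_1 D6016 (iv D4403) D4402
def n6017 : Q := act 3 n4403
theorem D6017 : act 3 n4403 = n6017 := rfl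
theorem F23241 : act 1 n6017 = n4430 := d9_1 D6017 (iv D4430) (iv F17255)
theorem F23242 : act 5 n6017 = n4404 := d22_2 (iv F17257) D6017 (iv D4404)
theorem F23243 : act 7 n6017 = n6017 := d24_2 D4403 D6017 (iv D6017) (iv D4403) F12839
def n6018 : Q := act 8 n4403
theorem D6018 : act 8 n4403 = n6018 := rfl
theorem F23244 : act 1 n6018 = n4431 := d14_1 D6018 (iv D4431) (iv F17255)
theorem F23245 : act 2 n6018 = n4409 := d20_1 D6018 (iv D4409) (iv F17256)
theorem F23246 : act 5 n6018 = n4405 := d32_1 D6018 (iv D4405) (iv F17257)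
theorem F23247 : act 7 n6018 = n5669 := d35_1 D6018 (iv D5669) (iv D4154) (iv F12840) D4403
def n6019 : Q := act 4 n4404
theorem D6019 : act 4 n4404 = n6019 := rfl
theorem F23248 : act 1 n6019 = n4432 := d10_1 D6019 (iv D4432) (iv F17258)
theorem F23249 : act 3 n6019 = n4536 := d21_1 D6019 (iv D4536) (iv D3316) (iv F12843) D4404
theorem F23250 : act 6 n6019 = n6019 := d27_2 F17259 D6019 (iv D6019)
theorem F23251 : act 7 n6019 = n6019 := d28_2 F17260 D6019 (iv D6019)
def n6020 : Q := act 8 n4404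
theorem D6020 : act 8 n4404 = n6020 := rfl
theorem F23252 : act 1 n6020 = n4433 := d14_1 D6020 (iv D4433) (iv F17258)
theorem F23253 : act 3 n6020 = n4405 := d25_1 D6020 (iv D4405) D4404
theorem F23254 : act 6 n6020 = n6020 := d34_1 D6020 (iv D6020) F17259
def n6021 : Q := act 5 n4406
theorem D6021 : act 5 n4406 = n6021 := rfl
theorem F23255 : act 1 n6021 = n4410 := d11_1 D6021 (iv D4410) (iv F17266)
theorem F23256 : act 3 n6021 = n6021 := d22_1 D6021 (iv D6021) F17267
theorem F23257 : act 4 n6021 = n6021 := d26_1 D6021 (iv D6021) F17268 F12851 (iv F17268)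
theorem F23258 : act 6 n6021 = n4538 := d30_2 D4406 D6021 (iv D4538) (iv D3318) (iv F12847)
theorem F23259 : act 8 n6021 = n5672 := d32_2 (iv F17269) D6021 (iv D5672)
def n6022 : Q := act 7 n4406
theorem D6022 : act 7 n4406 = n6022 := rfl
theorem F23260 : act 1 n6022 = n4411 := d13_1 D6022 (iv D4411) (iv F17266)
theorem F23261 : act 4 n6022 = n4408 := d28_1 D6022 (iv D4408) (iv F17268)
theorem F23262 : act 6 n6022 = n4407 := d33_1 D6022 (iv D4407) D4406
def n6023 : Q := act 3 n4407
theorem D6023 : act 3 n4407 = n6023 := rfl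
theorem F23263 : act 1 n6023 = n4412 := d9_1 D6023 (iv D4412) (iv F17270)
theorem F23264 : act 5 n6023 = n4540 := d22_2 (iv F17272) D6023 (iv D4540)
theorem F23265 : act 7 n6023 = n6023 := d24_2 D4407 D6023 (iv D6023) (iv D4407) F12846
def n6024 : Q := act 8 n4407
theorem D6024 : act 8 n4407 = n6024 := rfl
theorem F23266 : act 1 n6024 = n4413 := d14_1 D6024 (iv D4413) (iv F17270)
theorem F23267 : act 4 n6024 = n4409 := d29_1 D6024 (iv D4409) (iv F17271)
theorem F23268 : act 5 n6024 = n4541 := d32_1 D6024 (iv D4541) (iv F17272)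
theorem F23269 : act 7 n6024 = n5675 := d35_1 D6024 (iv D5675) (iv D4158) (iv F12848) D4407
def n6025 : Q := act 8 n4408
theorem D6025 : act 8 n4408 = n6025 := rfl
theorem F23270 : act 1 n6025 = n4414 := d14_1 D6025 (iv D4414) (iv F17273)
theorem F23271 : act 5 n6025 = n6025 := d32_1 D6025 (iv D6025) F17274
theorem F23272 : act 6 n6025 = n4409 := d34_1 D6025 (iv D4409) (iv F17275)
theorem F23273 : act 7 n6025 = n5676 := d35_1 D6025 (iv D5676) (iv D4159) (iv F12852) D4408
def n6026 : Q := act 7 n4410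
theorem D6026 : act 7 n4410 = n6026 := rfl
theorem F23274 : act 2 n6026 = n4439 := d19_1 D6026 (iv D4439) (iv F17279)
theorem F23275 : act 4 n6026 = n6026 := d28_1 D6026 (iv D6026) F17281
theorem F23276 : act 5 n6026 = n4411 := d31_1 D6026 (iv D4411) D4410
theorem F23277 : act 6 n6026 = n4543 := d33_1 D6026 (iv D4543) (iv F17282)
def n6027 : Q := act 3 n4411
theorem D6027 : act 3 n4411 = n6027 := rfl
theorem F23278 : act 6 n6027 = n4412 := d23_2 (iv F17286) D6027 (iv D4412)
theorem F23279 : act 7 n6027 = n6027 := d24_2 D4411 D6027 (iv D6027) (iv D4411) F12860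
def n6028 : Q := act 8 n4411
theorem D6028 : act 8 n4411 = n6028 := rfl
theorem F23280 : act 2 n6028 = n4441 := d20_1 D6028 (iv D4441) (iv F17284)
theorem F23281 : act 4 n6028 = n4414 := d29_1 D6028 (iv D4414) (iv F17285)
theorem F23282 : act 6 n6028 = n4413 := d34_1 D6028 (iv D4413) (iv F17286)
theorem F23283 : act 7 n6028 = n5679 := d35_1 D6028 (iv D5679) (iv D4162) (iv F12862) D4411
def n6029 : Q := act 2 n4412
theorem D6029 : act 2 n4412 = n6029 := rfl
theorem F23284 : act 3 n6029 = n4442 := d15_2 D4412 D6029 (iv D4442) (iv D3251) (iv F12863)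
theorem F23285 : act 5 n6029 = n4546 := d17_2 (iv F17287) D6029 (iv D4546)
theorem F23286 : act 7 n6029 = n6029 := d19_2 F17288 D6029 (iv D6029)
def n6030 : Q := act 8 n4412
theorem D6030 : act 8 n4412 = n6030 := rfl
theorem F23287 : act 3 n6030 = n4413 := d25_1 D6030 (iv D4413) D4412
theorem F23288 : act 5 n6030 = n4547 := d32_1 D6030 (iv D4547) (iv F17287)
def n6031 : Q := act 4 n4415
theorem D6031 : act 4 n4415 = n6031 := rfl
theorem F23289 : act 1 n6031 = n4417 := d10_1 D6031 (iv D4417) (iv F17297)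
theorem F23290 : act 5 n6031 = n4577 := d26_2 D4415 D6031 (iv D4577) (iv D3348) (iv F12873)
theorem F23291 : act 8 n6031 = n5682 := d29_2 (iv F17299) D6031 (iv D5682)
def n6032 : Q := act 6 n4415
theorem D6032 : act 6 n4415 = n6032 := rfl
theorem F23292 : act 1 n6032 = n4418 := d12_1 D6032 (iv D4418) (iv F17297)
theorem F23293 : act 3 n6032 = n6032 := d23_1 D6032 (iv D6032) F17298
theorem F23294 : act 5 n6032 = n6032 := d30_1 D6032 (iv D6032) (iv D4415) F12874 D4415
theorem F23295 : act 8 n6032 = n5683 := d34_2 (iv F17299) D6032 (iv D5683)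
def n6033 : Q := act 7 n4415
theorem D6033 : act 7 n4415 = n6033 := rfl
theorem F23296 : act 1 n6033 = n4419 := d13_1 D6033 (iv D4419) (iv F17297)
theorem F23297 : act 5 n6033 = n4416 := d31_1 D6033 (iv D4416) D4415
def n6034 : Q := act 3 n4416
theorem D6034 : act 3 n4416 = n6034 := rfl
theorem F23298 : act 1 n6034 = n4420 := d9_1 D6034 (iv D4420) (iv F17300)
theorem F23299 : act 6 n6034 = n6034 := d23_2 F17302 D6034 (iv D6034)
theorem F23300 : act 7 n6034 = n6034 := d24_2 D4416 D6034 (iv D6034) (iv D4416) F12872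
def n6035 : Q := act 8 n4416
theorem D6035 : act 8 n4416 = n6035 := rfl
theorem F23301 : act 1 n6035 = n4421 := d14_1 D6035 (iv D4421) (iv F17300)
theorem F23302 : act 4 n6035 = n4581 := d29_1 D6035 (iv D4581) (iv F17301)
theorem F23303 : act 6 n6035 = n6035 := d34_1 D6035 (iv D6035) F17302
theorem F23304 : act 7 n6035 = n5686 := d35_1 D6035 (iv D5686) (iv D4167) (iv F12875) D4416
def n6036 : Q := act 3 n4417
theorem D6036 : act 3 n4417 = n6036 := rfl
theorem F23305 : act 0 n6036 = n4426 := d2_1 D6036 (iv D4426) (iv F17303)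
theorem F23306 : act 2 n6036 = n4449 := d15_1 D6036 (iv D4449) F12956 (iv F12885) (iv F17304)
theorem F23307 : act 4 n6036 = n6036 := d21_2 D4417 D6036 (iv D6036) (iv D4417) F12878
theorem F23308 : act 5 n6036 = n4582 := d22_2 (iv F17305) D6036 (iv D4582)
theorem F23309 : act 8 n6036 = n5687 := d25_2 (iv F17306) D6036 (iv D5687)
def n6037 : Q := act 6 n4417
theorem D6037 : act 6 n4417 = n6037 := rfl
theorem F23310 : act 0 n6037 = n4427 := d5_1 D6037 (iv D4427) (iv F17303)
theorem F23311 : act 2 n6037 = n4422 := d18_1 D6037 (iv D4422) (iv F17304)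
theorem F23312 : act 4 n6037 = n4418 := d27_1 D6037 (iv D4418) D4417
theorem F23313 : act 8 n6037 = n5688 := d34_2 (iv F17306) D6037 (iv D5688)
def n6038 : Q := act 7 n4417
theorem D6038 : act 7 n4417 = n6038 := rfl
theorem F23314 : act 0 n6038 = n4428 := d6_1 D6038 (iv D4428) (iv F17303)
theorem F23315 : act 2 n6038 = n4423 := d19_1 D6038 (iv D4423) (iv F17304)
theorem F23316 : act 4 n6038 = n4419 := d28_1 D6038 (iv D4419) D4417
theorem F23317 : act 5 n6038 = n4584 := d31_1 D6038 (iv D4584) (iv F17305)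
def n6039 : Q := act 7 n4418
theorem D6039 : act 7 n4418 = n6039 := rfl
theorem F23318 : act 0 n6039 = n4429 := d6_1 D6039 (iv D4429) (iv F17307)
theorem F23319 : act 2 n6039 = n4424 := d19_1 D6039 (iv D4424) (iv F17308)
theorem F23320 : act 5 n6039 = n6039 := d31_1 D6039 (iv D6039) F17310
theorem F23321 : act 6 n6039 = n4419 := d33_1 D6039 (iv D4419) D4418
def n6040 : Q := act 3 n4419
theorem D6040 : act 3 n4419 = n6040 := rfl
theorem F23322 : act 0 n6040 = n4430 := d2_1 D6040 (iv D4430) (iv F17312)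
theorem F23323 : act 2 n6040 = n6040 := d15_1 D6040 (iv D6040) F17313 F12893 (iv F17313)
theorem F23324 : act 5 n6040 = n4420 := d22_2 (iv F17314) D6040 (iv D4420)
theorem F23325 : act 7 n6040 = n6040 := d24_2 D4419 D6040 (iv D6040) (iv D4419) F12878
def n6041 : Q := act 8 n4419
theorem D6041 : act 8 n4419 = n6041 := rfl
theorem F23326 : act 0 n6041 = n4431 := d7_1 D6041 (iv D4431) (iv F17312)
theorem F23327 : act 2 n6041 = n4425 := d20_1 D6041 (iv D4425) (iv F17313)
theorem F23328 : act 5 n6041 = n4421 := d32_1 D6041 (iv D4421) (iv F17314)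
theorem F23329 : act 7 n6041 = n5692 := d35_1 D6041 (iv D5692) (iv D4170) (iv F12879) D4419
def n6042 : Q := act 4 n4420
theorem D6042 : act 4 n4420 = n6042 := rfl
theorem F23330 : act 0 n6042 = n4432 := d3_1 D6042 (iv D4432) (iv F17315)
theorem F23331 : act 2 n6042 = n6042 := d16_1 D6042 (iv D6042) F17316
theorem F23332 : act 3 n6042 = n4588 := d21_1 D6042 (iv D4588) (iv D3353) (iv F12882) D4420
theorem F23333 : act 6 n6042 = n6042 := d27_2 F17317 D6042 (iv D6042)
theorem F23334 : act 7 n6042 = n6042 := d28_2 F17318 D6042 (iv D6042)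
def n6043 : Q := act 8 n4420
theorem D6043 : act 8 n4420 = n6043 := rfl
theorem F23335 : act 0 n6043 = n4433 := d7_1 D6043 (iv D4433) (iv F17315)
theorem F23336 : act 2 n6043 = n6043 := d20_1 D6043 (iv D6043) F17316
theorem F23337 : act 3 n6043 = n4421 := d25_1 D6043 (iv D4421) D4420
theorem F23338 : act 6 n6043 = n6043 := d34_1 D6043 (iv D6043) F17317
def n6044 : Q := act 5 n4422
theorem D6044 : act 5 n4422 = n6044 := rfl
theorem F23339 : act 0 n6044 = n4434 := d4_1 D6044 (iv D4434) (iv F17324)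
theorem F23340 : act 3 n6044 = n4456 := d22_1 D6044 (iv D4456) (iv F17325)
theorem F23341 : act 4 n6044 = n6044 := d26_1 D6044 (iv D6044) F17326 F12890 (iv F17326)
theorem F23342 : act 6 n6044 = n4590 := d30_2 D4422 D6044 (iv D4590) (iv D3355) (iv F12886)
theorem F23343 : act 8 n6044 = n5695 := d32_2 (iv F17327) D6044 (iv D5695)
def n6045 : Q := act 7 n4422
theorem D6045 : act 7 n4422 = n6045 := rfl
theorem F23344 : act 0 n6045 = n4435 := d6_1 D6045 (iv D4435) (iv F17324)
theorem F23345 : act 4 n6045 = n4424 := d28_1 D6045 (iv D4424) (iv F17326)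
theorem F23346 : act 6 n6045 = n4423 := d33_1 D6045 (iv D4423) D4422
def n6046 : Q := act 3 n4423
theorem D6046 : act 3 n4423 = n6046 := rfl
theorem F23347 : act 0 n6046 = n4436 := d2_1 D6046 (iv D4436) (iv F17328)
theorem F23348 : act 4 n6046 = n6046 := d21_2 (iv F17329) D6046 (iv D6046) F17329 F12893
theorem F23349 : act 5 n6046 = n4592 := d22_2 (iv F17330) D6046 (iv D4592)
theorem F23350 : act 7 n6046 = n4458 := d24_2 D4423 D6046 (iv D4458) (iv D3262) (iv F12885)
def n6047 : Q := act 8 n4423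
theorem D6047 : act 8 n4423 = n6047 := rfl
theorem F23351 : act 0 n6047 = n4437 := d7_1 D6047 (iv D4437) (iv F17328)
theorem F23352 : act 4 n6047 = n4425 := d29_1 D6047 (iv D4425) (iv F17329)
theorem F23353 : act 5 n6047 = n4593 := d32_1 D6047 (iv D4593) (iv F17330)
theorem F23354 : act 7 n6047 = n5698 := d35_1 D6047 (iv D5698) (iv D4174) (iv F12887) D4423
def n6048 : Q := act 8 n4424
theorem D6048 : act 8 n4424 = n6048 := rfl
theorem F23355 : act 0 n6048 = n4438 := d7_1 D6048 (iv D4438) (iv F17331)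
theorem F23356 : act 3 n6048 = n6048 := d25_1 D6048 (iv D6048) F17332
theorem F23357 : act 5 n6048 = n6048 := d32_1 D6048 (iv D6048) F17333
theorem F23358 : act 6 n6048 = n4425 := d34_1 D6048 (iv D4425) (iv F17334)
theorem F23359 : act 7 n6048 = n5699 := d35_1 D6048 (iv D5699) (iv D4175) (iv F12891) D4424
def n6049 : Q := act 6 n4426
theorem D6049 : act 6 n4426 = n6049 := rfl
theorem F23360 : act 2 n6049 = n4461 := d18_1 D6049 (iv D4461) (iv F17339)
theorem F23361 : act 3 n6049 = n4427 := d23_1 D6049 (iv D4427) D4426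
theorem F23362 : act 4 n6049 = n6049 := d27_1 D6049 (iv D6049) F17340
theorem F23363 : act 8 n6049 = n5700 := d34_2 (iv F17342) D6049 (iv D5700)
def n6050 : Q := act 7 n4426
theorem D6050 : act 7 n4426 = n6050 := rfl
theorem F23364 : act 2 n6050 = n4462 := d19_1 D6050 (iv D4462) (iv F17339)
theorem F23365 : act 4 n6050 = n6050 := d28_1 D6050 (iv D6050) F17340
theorem F23366 : act 5 n6050 = n4596 := d31_1 D6050 (iv D4596) (iv F17341)
def n6051 : Q := act 5 n4427
theorem D6051 : act 5 n4427 = n6051 := rfl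
theorem F23367 : act 2 n6051 = n4434 := d17_1 D6051 (iv D4434) (iv F17343)
theorem F23368 : act 4 n6051 = n6051 := d26_1 D6051 (iv D6051) F17344 F12905 (iv F17344)
theorem F23369 : act 6 n6051 = n4597 := d30_2 D4427 D6051 (iv D4597) (iv D3360) (iv F12901)
theorem F23370 : act 8 n6051 = n5702 := d32_2 (iv F17345) D6051 (iv D5702)
def n6052 : Q := act 7 n4427
theorem D6052 : act 7 n4427 = n6052 := rfl
theorem F23371 : act 2 n6052 = n4435 := d19_1 D6052 (iv D4435) (iv F17343)
theorem F23372 : act 4 n6052 = n4429 := d28_1 D6052 (iv D4429) (iv F17344)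
theorem F23373 : act 6 n6052 = n4428 := d33_1 D6052 (iv D4428) D4427
def n6053 : Q := act 3 n4428
theorem D6053 : act 3 n4428 = n6053 := rfl
theorem F23374 : act 5 n6053 = n4599 := d22_2 (iv F17348) D6053 (iv D4599)
def n6054 : Q := act 8 n4428
theorem D6054 : act 8 n4428 = n6054 := rfl
theorem F23375 : act 2 n6054 = n4437 := d20_1 D6054 (iv D4437) (iv F17346)
theorem F23376 : act 4 n6054 = n4431 := d29_1 D6054 (iv D4431) (iv F17347)
theorem F23377 : act 5 n6054 = n4600 := d32_1 D6054 (iv D4600) (iv F17348)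
theorem F23378 : act 7 n6054 = n5705 := d35_1 D6054 (iv D5705) (iv D4179) (iv F12902) D4428
def n6055 : Q := act 3 n4429
theorem D6055 : act 3 n4429 = n6055 := rfl
theorem F23379 : act 2 n6055 = n6055 := d15_1 D6055 (iv D6055) F17349 F12924 (iv F17349)
theorem F23380 : act 5 n6055 = n6055 := d22_2 F17350 D6055 (iv D6055)
theorem F23381 : act 6 n6055 = n4430 := d23_2 (iv F17351) D6055 (iv D4430)
theorem F23382 : act 7 n6055 = n6055 := d24_2 D4429 D6055 (iv D6055) (iv D4429) F12904
def n6056 : Q := act 8 n4429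
theorem D6056 : act 8 n4429 = n6056 := rfl
theorem F23383 : act 2 n6056 = n4438 := d20_1 D6056 (iv D4438) (iv F17349)
theorem F23384 : act 5 n6056 = n6056 := d32_1 D6056 (iv D6056) F17350
theorem F23385 : act 6 n6056 = n4431 := d34_1 D6056 (iv D4431) (iv F17351)
theorem F23386 : act 7 n6056 = n5707 := d35_1 D6056 (iv D5707) (iv D4180) (iv F12906) D4429
def n6057 : Q := act 4 n4430
theorem D6057 : act 4 n4430 = n6057 := rfl
theorem F23387 : act 2 n6057 = n6057 := d16_1 D6057 (iv D6057) F17352
theorem F23388 : act 7 n6057 = n6057 := d28_2 F17354 D6057 (iv D6057)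
def n6058 : Q := act 8 n4430
theorem D6058 : act 8 n4430 = n6058 := rfl
theorem F23389 : act 2 n6058 = n6058 := d20_1 D6058 (iv D6058) F17352
theorem F23390 : act 3 n6058 = n4431 := d25_1 D6058 (iv D4431) D4430
theorem F23391 : act 5 n6058 = n4433 := d32_1 D6058 (iv D4433) (iv F17353)
def n6059 : Q := act 5 n4432
theorem D6059 : act 5 n4432 = n6059 := rfl
theorem F23392 : act 2 n6059 = n6059 := d17_1 D6059 (iv D6059) F17358
theorem F23393 : act 3 n6059 = n4605 := d22_1 D6059 (iv D4605) (iv F17359)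
theorem F23394 : act 7 n6059 = n6059 := d31_2 F17361 D6059 (iv D6059)
def n6060 : Q := act 8 n4432
theorem D6060 : act 8 n4432 = n6060 := rfl
theorem F23395 : act 2 n6060 = n6060 := d20_1 D6060 (iv D6060) F17358
theorem F23396 : act 3 n6060 = n4606 := d25_1 D6060 (iv D4606) (iv F17359)
theorem F23397 : act 4 n6060 = n4433 := d29_1 D6060 (iv D4433) D4432
theorem F23398 : act 6 n6060 = n6060 := d34_1 D6060 (iv D6060) F17360
def n6061 : Q := act 7 n4433
theorem D6061 : act 7 n4433 = n6061 := rfl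
theorem F23399 : act 2 n6061 = n6061 := d19_1 D6061 (iv D6061) F17362
theorem F23400 : act 3 n6061 = n5712 := d24_1 D6061 (iv D5712) F16430 (iv F12915) (iv F17363)
theorem F23401 : act 6 n6061 = n6061 := d33_1 D6061 (iv D6061) F17364
theorem F23402 : act 8 n6061 = n6061 := d35_2 D4433 D6061 (iv D6061) (iv D4433) F12911
def n6062 : Q := act 7 n4434
theorem D6062 : act 7 n4434 = n6062 := rfl
theorem F23403 : act 1 n6062 = n4439 := d13_1 D6062 (iv D4439) (iv F17365)
theorem F23404 : act 4 n6062 = n6062 := d28_1 D6062 (iv D6062) F17367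
theorem F23405 : act 5 n6062 = n4435 := d31_1 D6062 (iv D4435) D4434
theorem F23406 : act 6 n6062 = n4608 := d33_1 D6062 (iv D4608) (iv F17368)
def n6063 : Q := act 3 n4435
theorem D6063 : act 3 n4435 = n6063 := rfl
theorem F23407 : act 1 n6063 = n4440 := d9_1 D6063 (iv D4440) (iv F17370)
theorem F23408 : act 4 n6063 = n6063 := d21_2 (iv F17371) D6063 (iv D6063) F17371 F12924
theorem F23409 : act 6 n6063 = n4436 := d23_2 (iv F17372) D6063 (iv D4436)
theorem F23410 : act 7 n6063 = n4473 := d24_2 D4435 D6063 (iv D4473) (iv D3273) (iv F12917)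
def n6064 : Q := act 8 n4435
theorem D6064 : act 8 n4435 = n6064 := rfl
theorem F23411 : act 1 n6064 = n4441 := d14_1 D6064 (iv D4441) (iv F17370)
theorem F23412 : act 4 n6064 = n4438 := d29_1 D6064 (iv D4438) (iv F17371)
theorem F23413 : act 6 n6064 = n4437 := d34_1 D6064 (iv D4437) (iv F17372)
theorem F23414 : act 7 n6064 = n5715 := d35_1 D6064 (iv D5715) (iv D4186) (iv F12919) D4435
def n6065 : Q := act 2 n4436
theorem D6065 : act 2 n4436 = n6065 := rfl
theorem F23415 : act 4 n6065 = n6065 := d16_2 F17374 D6065 (iv D6065)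
theorem F23416 : act 5 n6065 = n4611 := d17_2 (iv F17375) D6065 (iv D4611)
theorem F23417 : act 7 n6065 = n4475 := d19_2 (iv F17376) D6065 (iv D4475)
def n6066 : Q := act 8 n4436
theorem D6066 : act 8 n4436 = n6066 := rfl
theorem F23418 : act 1 n6066 = n4443 := d14_1 D6066 (iv D4443) (iv F17373)
theorem F23419 : act 3 n6066 = n4437 := d25_1 D6066 (iv D4437) D4436
theorem F23420 : act 4 n6066 = n6066 := d29_1 D6066 (iv D6066) F17374
theorem F23421 : act 5 n6066 = n4612 := d32_1 D6066 (iv D4612) (iv F17375)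
def n6067 : Q := act 3 n4439
theorem D6067 : act 3 n4439 = n6067 := rfl
theorem F23424 : act 7 n6067 = n4477 := d24_2 D4439 D6067 (iv D4477) (iv D3277) (iv F12931)
def n6068 : Q := act 8 n4439
theorem D6068 : act 8 n4439 = n6068 := rfl
theorem F23425 : act 4 n6068 = n6068 := d29_1 D6068 (iv D6068) F17386
theorem F23426 : act 5 n6068 = n4441 := d32_1 D6068 (iv D4441) (iv F17387)
theorem F23427 : act 6 n6068 = n4614 := d34_1 D6068 (iv D4614) (iv F17388)
def n6069 : Q := act 2 n4440
theorem D6069 : act 2 n4440 = n6069 := rfl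
theorem F23429 : act 4 n6069 = n6069 := d16_2 F17389 D6069 (iv D6069)
theorem F23430 : act 6 n6069 = n4442 := d18_2 (iv F17390) D6069 (iv D4442)
theorem F23431 : act 7 n6069 = n4479 := d19_2 (iv F17391) D6069 (iv D4479)
def n6070 : Q := act 8 n4440
theorem D6070 : act 8 n4440 = n6070 := rfl
theorem F23432 : act 3 n6070 = n4441 := d25_1 D6070 (iv D4441) D4440
theorem F23433 : act 4 n6070 = n6070 := d29_1 D6070 (iv D6070) F17389
theorem F23434 : act 6 n6070 = n4443 := d34_1 D6070 (iv D4443) (iv F17390)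
def n6071 : Q := act 1 n4442
theorem D6071 : act 1 n4442 = n6071 := rfl
theorem F23435 : act 4 n6071 = n6071 := d10_2 F17395 D6071 (iv D6071)
theorem F23436 : act 5 n6071 = n4617 := d11_2 (iv F17396) D6071 (iv D4617)
theorem F23437 : act 7 n6071 = n4481 := d13_2 (iv F17397) D6071 (iv D4481)
def n6072 : Q := act 8 n4442
theorem D6072 : act 8 n4442 = n6072 := rfl
theorem F23438 : act 2 n6072 = n4443 := d20_1 D6072 (iv D4443) D4442
theorem F23439 : act 4 n6072 = n6072 := d29_1 D6072 (iv D6072) F17395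
theorem F23440 : act 5 n6072 = n4618 := d32_1 D6072 (iv D4618) (iv F17396)
def n6073 : Q := act 7 n4443
theorem D6073 : act 7 n4443 = n6073 := rfl
theorem F23444 : act 8 n6073 = n4483 := d35_2 D4443 D6073 (iv D4483) (iv D3281) (iv F12939)
def n6074 : Q := act 3 n4444
theorem D6074 : act 3 n4444 = n6074 := rfl
theorem F23445 : act 0 n6074 = n6074 := d2_1 D6074 (iv D6074) F17401
theorem F23446 : act 1 n6074 = n4449 := d9_1 D6074 (iv D4449) (iv F17402)
theorem F23447 : act 4 n6074 = n6074 := d21_2 D4444 D6074 (iv D6074) (iv D4444) F12949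
theorem F23448 : act 5 n6074 = n4662 := d22_2 (iv F17403) D6074 (iv D4662)
theorem F23449 : act 8 n6074 = n5725 := d25_2 (iv F17404) D6074 (iv D5725)
def n6075 : Q := act 6 n4444
theorem D6075 : act 6 n4444 = n6075 := rfl
theorem F23450 : act 0 n6075 = n6075 := d5_1 D6075 (iv D6075) F17401
theorem F23451 : act 1 n6075 = n4450 := d12_1 D6075 (iv D4450) (iv F17402)
theorem F23452 : act 4 n6075 = n4445 := d27_1 D6075 (iv D4445) D4444
theorem F23453 : act 8 n6075 = n5726 := d34_2 (iv F17404) D6075 (iv D5726)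
def n6076 : Q := act 7 n4444
theorem D6076 : act 7 n4444 = n6076 := rfl
theorem F23454 : act 0 n6076 = n6076 := d6_1 D6076 (iv D6076) F17401
theorem F23455 : act 1 n6076 = n4451 := d13_1 D6076 (iv D4451) (iv F17402)
theorem F23456 : act 4 n6076 = n4446 := d28_1 D6076 (iv D4446) D4444
theorem F23457 : act 5 n6076 = n4664 := d31_1 D6076 (iv D4664) (iv F17403)
def n6077 : Q := act 7 n4445
theorem D6077 : act 7 n4445 = n6077 := rfl
theorem F23458 : act 0 n6077 = n6077 := d6_1 D6077 (iv D6077) F17405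
theorem F23459 : act 1 n6077 = n4452 := d13_1 D6077 (iv D4452) (iv F17406)
theorem F23460 : act 5 n6077 = n5270 := d31_1 D6077 (iv D5270) (iv F17408)
theorem F23461 : act 6 n6077 = n4446 := d33_1 D6077 (iv D4446) D4445
def n6078 : Q := act 3 n4446
theorem D6078 : act 3 n4446 = n6078 := rfl
theorem F23462 : act 0 n6078 = n6078 := d2_1 D6078 (iv D6078) F17410
theorem F23463 : act 1 n6078 = n4453 := d9_1 D6078 (iv D4453) (iv F17411)
theorem F23464 : act 5 n6078 = n4447 := d22_2 (iv F17412) D6078 (iv D4447)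
theorem F23465 : act 7 n6078 = n6078 := d24_2 D4446 D6078 (iv D6078) (iv D4446) F12949
def n6079 : Q := act 8 n4446
theorem D6079 : act 8 n4446 = n6079 := rfl
theorem F23466 : act 0 n6079 = n6079 := d7_1 D6079 (iv D6079) F17410
theorem F23467 : act 1 n6079 = n4454 := d14_1 D6079 (iv D4454) (iv F17411)
theorem F23468 : act 5 n6079 = n4448 := d32_1 D6079 (iv D4448) (iv F17412)
theorem F23469 : act 7 n6079 = n5730 := d35_1 D6079 (iv D5730) (iv D4197) (iv F12950) D4446
def n6080 : Q := act 2 n4447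
theorem D6080 : act 2 n4447 = n6080 := rfl
theorem F23470 : act 0 n6080 = n6080 := d1_1 D6080 (iv D6080) F17413
theorem F23471 : act 1 n6080 = n6080 := d8_1 D6080 (iv D6080) F17414 F12968 (iv F17414)
theorem F23472 : act 4 n6080 = n6080 := d16_2 F17415 D6080 (iv D6080)
theorem F23473 : act 6 n6080 = n5273 := d18_2 (iv F17416) D6080 (iv D5273)
theorem F23474 : act 7 n6080 = n6080 := d19_2 F17417 D6080 (iv D6080)
def n6081 : Q := act 8 n4447
theorem D6081 : act 8 n4447 = n6081 := rfl
theorem F23475 : act 0 n6081 = n6081 := d7_1 D6081 (iv D6081) F17413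
theorem F23476 : act 1 n6081 = n4455 := d14_1 D6081 (iv D4455) (iv F17414)
theorem F23477 : act 3 n6081 = n4448 := d25_1 D6081 (iv D4448) D4447
theorem F23478 : act 4 n6081 = n6081 := d29_1 D6081 (iv D6081) F17415
def n6082 : Q := act 6 n4449
theorem D6082 : act 6 n4449 = n6082 := rfl
theorem F23480 : act 0 n6082 = n4461 := d5_1 D6082 (iv D4461) (iv F17423)
theorem F23481 : act 3 n6082 = n4450 := d23_1 D6082 (iv D4450) D4449
theorem F23482 : act 4 n6082 = n6082 := d27_1 D6082 (iv D6082) F17424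
theorem F23483 : act 8 n6082 = n5733 := d34_2 (iv F17426) D6082 (iv D5733)
def n6083 : Q := act 7 n4449
theorem D6083 : act 7 n4449 = n6083 := rfl
theorem F23484 : act 0 n6083 = n4462 := d6_1 D6083 (iv D4462) (iv F17423)
theorem F23485 : act 4 n6083 = n6083 := d28_1 D6083 (iv D6083) F17424
theorem F23486 : act 5 n6083 = n4668 := d31_1 D6083 (iv D4668) (iv F17425)
def n6084 : Q := act 5 n4450
theorem D6084 : act 5 n4450 = n6084 := rfl
theorem F23487 : act 0 n6084 = n4463 := d4_1 D6084 (iv D4463) (iv F17427)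
theorem F23488 : act 2 n6084 = n4456 := d17_1 D6084 (iv D4456) (iv F17428)
theorem F23489 : act 4 n6084 = n5277 := d26_1 D6084 (iv D5277) F15189 (iv F12962) (iv F17429)
theorem F23490 : act 6 n6084 = n4669 := d30_2 D4450 D6084 (iv D4669) (iv D3411) (iv F12957)
theorem F23491 : act 8 n6084 = n5735 := d32_2 (iv F17430) D6084 (iv D5735)
def n6085 : Q := act 7 n4450
theorem D6085 : act 7 n4450 = n6085 := rfl
theorem F23492 : act 0 n6085 = n4464 := d6_1 D6085 (iv D4464) (iv F17427)
theorem F23493 : act 2 n6085 = n4457 := d19_1 D6085 (iv D4457) (iv F17428)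
theorem F23494 : act 4 n6085 = n4452 := d28_1 D6085 (iv D4452) (iv F17429)
theorem F23495 : act 6 n6085 = n4451 := d33_1 D6085 (iv D4451) D4450
def n6086 : Q := act 3 n4451
theorem D6086 : act 3 n4451 = n6086 := rfl
theorem F23496 : act 0 n6086 = n4465 := d2_1 D6086 (iv D4465) (iv F17431)
theorem F23497 : act 5 n6086 = n4671 := d22_2 (iv F17434) D6086 (iv D4671)
def n6087 : Q := act 8 n4451
theorem D6087 : act 8 n4451 = n6087 := rfl
theorem F23500 : act 4 n6087 = n4454 := d29_1 D6087 (iv D4454) (iv F17433)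
def n6088 : Q := act 3 n4452
theorem D6088 : act 3 n4452 = n6088 := rfl
theorem F23503 : act 0 n6088 = n4467 := d2_1 D6088 (iv D4467) (iv F17435)
theorem F23504 : act 2 n6088 = n6088 := d15_1 D6088 (iv D6088) F17436 F12984 (iv F17436)
theorem F23505 : act 5 n6088 = n5281 := d22_2 (iv F17437) D6088 (iv D5281)
theorem F23506 : act 6 n6088 = n4453 := d23_2 (iv F17438) D6088 (iv D4453)
theorem F23507 : act 7 n6088 = n6088 := d24_2 D4452 D6088 (iv D6088) (iv D4452) F12961
def n6089 : Q := act 8 n4452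
theorem D6089 : act 8 n4452 = n6089 := rfl
theorem F23508 : act 0 n6089 = n4468 := d7_1 D6089 (iv D4468) (iv F17435)
theorem F23511 : act 6 n6089 = n4454 := d34_1 D6089 (iv D4454) (iv F17438)
def n6090 : Q := act 4 n4453
theorem D6090 : act 4 n4453 = n6090 := rfl
theorem F23513 : act 0 n6090 = n4469 := d3_1 D6090 (iv D4469) (iv F17439)
theorem F23514 : act 2 n6090 = n6090 := d16_1 D6090 (iv D6090) F17440
theorem F23515 : act 5 n6090 = n6090 := d26_2 (iv F17441) D6090 (iv D6090) F17441 F12969
theorem F23516 : act 7 n6090 = n6090 := d28_2 F17442 D6090 (iv D6090)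
def n6091 : Q := act 8 n4453
theorem D6091 : act 8 n4453 = n6091 := rfl
theorem F23517 : act 0 n6091 = n4470 := d7_1 D6091 (iv D4470) (iv F17439)
theorem F23518 : act 2 n6091 = n6091 := d20_1 D6091 (iv D6091) F17440
theorem F23519 : act 3 n6091 = n4454 := d25_1 D6091 (iv D4454) D4453
theorem F23520 : act 5 n6091 = n4455 := d32_1 D6091 (iv D4455) (iv F17441)
def n6092 : Q := act 7 n4455
theorem D6092 : act 7 n4455 = n6092 := rfl
def n6093 : Q := act 7 n4456
theorem D6093 : act 7 n4456 = n6093 := rfl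
theorem F23528 : act 4 n6093 = n5286 := d28_1 D6093 (iv D5286) (iv F17453)
def n6094 : Q := act 3 n4457
theorem D6094 : act 3 n4457 = n6094 := rfl
theorem F23531 : act 0 n6094 = n4473 := d2_1 D6094 (iv D4473) (iv F17456)
theorem F23532 : act 4 n6094 = n6094 := d21_2 (iv F17457) D6094 (iv D6094) F17457 F12984
theorem F23533 : act 6 n6094 = n4458 := d23_2 (iv F17458) D6094 (iv D4458)
def n6095 : Q := act 8 n4457
theorem D6095 : act 8 n4457 = n6095 := rfl
theorem F23535 : act 4 n6095 = n4460 := d29_1 D6095 (iv D4460) (iv F17457)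
def n6096 : Q := act 2 n4458
theorem D6096 : act 2 n4458 = n6096 := rfl
theorem F23538 : act 0 n6096 = n4475 := d1_1 D6096 (iv D4475) (iv F17459)
theorem F23539 : act 4 n6096 = n6096 := d16_2 F17460 D6096 (iv D6096)
theorem F23540 : act 5 n6096 = n4677 := d17_2 (iv F17461) D6096 (iv D4677)
def n6098 : Q := act 5 n4461
theorem D6098 : act 5 n4461 = n6098 := rfl
theorem F23545 : act 1 n6098 = n6098 := d11_1 D6098 (iv D6098) F17471
theorem F23546 : act 3 n6098 = n4463 := d22_1 D6098 (iv D4463) (iv F17472)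
theorem F23547 : act 6 n6098 = n4679 := d30_2 D4461 D6098 (iv D4679) (iv D3420) (iv F12993)
theorem F23548 : act 8 n6098 = n5751 := d32_2 (iv F17474) D6098 (iv D5751)
def n6099 : Q := act 7 n4461
theorem D6099 : act 7 n4461 = n6099 := rfl
theorem F23549 : act 1 n6099 = n6099 := d13_1 D6099 (iv D6099) F17471
theorem F23550 : act 4 n6099 = n6099 := d28_1 D6099 (iv D6099) F17473
theorem F23551 : act 6 n6099 = n4462 := d33_1 D6099 (iv D4462) D4461
def n6100 : Q := act 3 n4462
theorem D6100 : act 3 n4462 = n6100 := rfl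
theorem F23552 : act 1 n6100 = n6100 := d9_1 D6100 (iv D6100) F17475
theorem F23553 : act 5 n6100 = n4681 := d22_2 (iv F17477) D6100 (iv D4681)
theorem F23554 : act 7 n6100 = n4465 := d24_2 D4462 D6100 (iv D4465) (iv D3267) D3265
def n6101 : Q := act 8 n4462
theorem D6101 : act 8 n4462 = n6101 := rfl
theorem F23555 : act 1 n6101 = n6101 := d14_1 D6101 (iv D6101) F17475
theorem F23556 : act 4 n6101 = n6101 := d29_1 D6101 (iv D6101) F17476
theorem F23557 : act 5 n6101 = n4682 := d32_1 D6101 (iv D4682) (iv F17477)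
theorem F23558 : act 7 n6101 = n5754 := d35_1 D6101 (iv D5754) (iv D4214) (iv F12994) D4462
def n6102 : Q := act 7 n4463
theorem D6102 : act 7 n4463 = n6102 := rfl
theorem F23561 : act 4 n6102 = n5295 := d28_1 D6102 (iv D5295) (iv F17480)
def n6103 : Q := act 3 n4464
theorem D6103 : act 3 n4464 = n6103 := rfl
theorem F23564 : act 1 n6103 = n6103 := d9_1 D6103 (iv D6103) F17483
theorem F23565 : act 6 n6103 = n4465 := d23_2 (iv F17486) D6103 (iv D4465)
def n6104 : Q := act 8 n4464
theorem D6104 : act 8 n4464 = n6104 := rfl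
theorem F23568 : act 4 n6104 = n4468 := d29_1 D6104 (iv D4468) (iv F17485)
def n6105 : Q := act 2 n4465
theorem D6105 : act 2 n4465 = n6105 := rfl
theorem F23571 : act 3 n6105 = n4475 := d15_2 D4465 D6105 (iv D4475) (iv D3274) (iv F13000)
theorem F23572 : act 5 n6105 = n4686 := d17_2 (iv F17488) D6105 (iv D4686)
def n6106 : Q := act 4 n4465
theorem D6106 : act 4 n4465 = n6106 := rfl
theorem F23573 : act 1 n6106 = n6106 := d10_1 D6106 (iv D6106) F17487
theorem F23574 : act 3 n6106 = n4469 := d21_1 D6106 (iv D4469) (iv D3269) (iv F13001) D4465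
theorem F23575 : act 5 n6106 = n6106 := d26_2 (iv F17488) D6106 (iv D6106) F17488 F13567
def n6107 : Q := act 8 n4465
theorem D6107 : act 8 n4465 = n6107 := rfl
theorem F23577 : act 3 n6107 = n4466 := d25_1 D6107 (iv D4466) D4465
def n6108 : Q := act 4 n4467
theorem D6108 : act 4 n4467 = n6108 := rfl
theorem F23579 : act 1 n6108 = n6108 := d10_1 D6108 (iv D6108) F17494
theorem F23580 : act 2 n6108 = n6108 := d16_1 D6108 (iv D6108) F17495
theorem F23581 : act 6 n6108 = n4469 := d27_2 (iv F17497) D6108 (iv D4469)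
theorem F23582 : act 7 n6108 = n6108 := d28_2 F17498 D6108 (iv D6108)
def n6109 : Q := act 8 n4467
theorem D6109 : act 8 n4467 = n6109 := rfl
def n6110 : Q := act 8 n4469
theorem D6110 : act 8 n4469 = n6110 := rfl
theorem F23588 : act 1 n6110 = n6110 := d14_1 D6110 (iv D6110) F17504
theorem F23589 : act 2 n6110 = n6110 := d20_1 D6110 (iv D6110) F17505
theorem F23590 : act 4 n6110 = n4470 := d29_1 D6110 (iv D4470) D4469
theorem F23591 : act 5 n6110 = n6110 := d32_1 D6110 (iv D6110) F17506
def n6111 : Q := act 7 n4470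
theorem D6111 : act 7 n4470 = n6111 := rfl
def n6112 : Q := act 3 n4472
theorem D6112 : act 3 n4472 = n6112 := rfl
def n6114 : Q := act 2 n4473
theorem D6114 : act 2 n4473 = n6114 := rfl
theorem F23605 : act 4 n6114 = n6114 := d16_2 F17523 D6114 (iv D6114)
theorem F23606 : act 6 n6114 = n4475 := d18_2 (iv F17524) D6114 (iv D4475)
def n6115 : Q := act 8 n4473
theorem D6115 : act 8 n4473 = n6115 := rfl
theorem F23608 : act 3 n6115 = n4474 := d25_1 D6115 (iv D4474) D4473
def n6116 : Q := act 1 n4475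
theorem D6116 : act 1 n4475 = n6116 := rfl
theorem F23611 : act 2 n6116 = n4481 := d8_2 D4475 D6116 (iv D4481) (iv D3280) (iv F13027)
theorem F23612 : act 4 n6116 = n6116 := d10_2 F17529 D6116 (iv D6116)
theorem F23613 : act 5 n6116 = n4692 := d11_2 (iv F17530) D6116 (iv D4692)
def n6117 : Q := act 8 n4475
theorem D6117 : act 8 n4475 = n6117 := rfl
theorem F23614 : act 2 n6117 = n4476 := d20_1 D6117 (iv D4476) D4475
def n6122 : Q := act 1 n4479
theorem D6122 : act 1 n4479 = n6122 := rfl
theorem F23630 : act 3 n6122 = n6122 := d9_2 F17542 D6122 (iv D6122)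
theorem F23631 : act 4 n6122 = n6122 := d10_2 F17543 D6122 (iv D6122)
theorem F23632 : act 6 n6122 = n4481 := d12_2 (iv F17544) D6122 (iv D4481)
def n6123 : Q := act 8 n4479
theorem D6123 : act 8 n4479 = n6123 := rfl
theorem F23633 : act 2 n6123 = n4480 := d20_1 D6123 (iv D4480) D4479
def n6124 : Q := act 7 n4480
theorem D6124 : act 7 n4480 = n6124 := rfl
def n6125 : Q := act 0 n4481
theorem D6125 : act 0 n4481 = n6125 := rfl
theorem F23640 : act 3 n6125 = n6125 := d2_2 F17548 D6125 (iv D6125)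
theorem F23641 : act 4 n6125 = n6125 := d3_2 F17549 D6125 (iv D6125)
theorem F23642 : act 5 n6125 = n4701 := d4_2 (iv F17550) D6125 (iv D4701)
def n6126 : Q := act 8 n4481
theorem D6126 : act 8 n4481 = n6126 := rfl
theorem F23643 : act 1 n6126 = n4482 := d14_1 D6126 (iv D4482) D4481
def n6127 : Q := act 7 n4482
theorem D6127 : act 7 n4482 = n6127 := rfl
def n6128 : Q := act 1 n4484
theorem D6128 : act 1 n4484 = n6128 := rfl
theorem F23650 : act 0 n6128 = n6128 := d0_1 D6128 (iv D6128) F17558 F13066 (iv F17558)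
theorem F23651 : act 2 n6128 = n5981 := d8_2 D4484 D6128 (iv D5981) (iv D4380) (iv F13056)
theorem F23652 : act 3 n6128 = n4812 := d9_2 (iv F17559) D6128 (iv D4812)
theorem F23653 : act 4 n6128 = n6128 := d10_2 F17560 D6128 (iv D6128)
theorem F23654 : act 6 n6128 = n6128 := d12_2 F17561 D6128 (iv D6128)
theorem F23655 : act 8 n6128 = n6128 := d14_2 F17562 D6128 (iv D6128)
def n6129 : Q := act 5 n4484
theorem D6129 : act 5 n4484 = n6129 := rfl
theorem F23656 : act 0 n6129 = n4488 := d4_1 D6129 (iv D4488) (iv F17558)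
theorem F23657 : act 2 n6129 = n4485 := d17_1 D6129 (iv D4485) D4484
theorem F23658 : act 3 n6129 = n4813 := d22_1 D6129 (iv D4813) (iv F17559)
theorem F23659 : act 8 n6129 = n6129 := d32_2 F17562 D6129 (iv D6129)
def n6130 : Q := act 7 n4484
theorem D6130 : act 7 n4484 = n6130 := rfl
theorem F23660 : act 0 n6130 = n4489 := d6_1 D6130 (iv D4489) (iv F17558)
theorem F23661 : act 2 n6130 = n4486 := d19_1 D6130 (iv D4486) D4484
theorem F23662 : act 4 n6130 = n6130 := d28_1 D6130 (iv D6130) F17560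
theorem F23663 : act 6 n6130 = n6130 := d33_1 D6130 (iv D6130) F17561
def n6131 : Q := act 4 n4485
theorem D6131 : act 4 n4485 = n6131 := rfl
theorem F23664 : act 0 n6131 = n4490 := d3_1 D6131 (iv D4490) (iv F17563)
theorem F23665 : act 1 n6131 = n5984 := d10_1 D6131 (iv D5984) (iv F17564)
theorem F23666 : act 3 n6131 = n6131 := d21_1 D6131 (iv D6131) F17565 F13063 (iv F17565)
theorem F23667 : act 5 n6131 = n6131 := d26_2 D4485 D6131 (iv D6131) (iv D4485) F13057
theorem F23668 : act 8 n6131 = n6131 := d29_2 F17566 D6131 (iv D6131)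
def n6132 : Q := act 6 n4485
theorem D6132 : act 6 n4485 = n6132 := rfl
theorem F23669 : act 0 n6132 = n4491 := d5_1 D6132 (iv D4491) (iv F17563)
theorem F23670 : act 1 n6132 = n5985 := d12_1 D6132 (iv D5985) (iv F17564)
theorem F23671 : act 3 n6132 = n4487 := d23_1 D6132 (iv D4487) (iv F17565)
theorem F23672 : act 5 n6132 = n6132 := d30_1 D6132 (iv D6132) (iv D4485) F13058 D4485
theorem F23673 : act 8 n6132 = n6132 := d34_2 F17566 D6132 (iv D6132)
def n6133 : Q := act 7 n4485
theorem D6133 : act 7 n4485 = n6133 := rfl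
theorem F23674 : act 0 n6133 = n4492 := d6_1 D6133 (iv D4492) (iv F17563)
theorem F23675 : act 1 n6133 = n5986 := d13_1 D6133 (iv D5986) (iv F17564)
theorem F23676 : act 3 n6133 = n4503 := d24_1 D6133 (iv D4503) F13111 (iv F13064) (iv F17565)
theorem F23677 : act 5 n6133 = n4486 := d31_1 D6133 (iv D4486) D4485
def n6134 : Q := act 8 n4486
theorem D6134 : act 8 n4486 = n6134 := rfl
theorem F23678 : act 0 n6134 = n4493 := d7_1 D6134 (iv D4493) (iv F17567)
theorem F23679 : act 1 n6134 = n5987 := d14_1 D6134 (iv D5987) (iv F17568)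
theorem F23680 : act 3 n6134 = n4504 := d25_1 D6134 (iv D4504) (iv F17569)
theorem F23681 : act 4 n6134 = n6134 := d29_1 D6134 (iv D6134) F17570
theorem F23682 : act 6 n6134 = n6134 := d34_1 D6134 (iv D6134) F17571
theorem F23683 : act 7 n6134 = n6134 := d35_1 D6134 (iv D6134) (iv D4486) F13059 D4486
def n6135 : Q := act 4 n4488
theorem D6135 : act 4 n4488 = n6135 := rfl
theorem F23684 : act 1 n6135 = n6135 := d10_1 D6135 (iv D6135) F17579
theorem F23685 : act 2 n6135 = n4490 := d16_1 D6135 (iv D4490) (iv F17580)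
theorem F23686 : act 5 n6135 = n6135 := d26_2 D4488 D6135 (iv D6135) (iv D4488) F13068
theorem F23687 : act 8 n6135 = n6135 := d29_2 F17582 D6135 (iv D6135)
def n6136 : Q := act 6 n4488
theorem D6136 : act 6 n4488 = n6136 := rfl
theorem F23689 : act 2 n6136 = n4491 := d18_1 D6136 (iv D4491) (iv F17580)
theorem F23690 : act 3 n6136 = n4820 := d23_1 D6136 (iv D4820) (iv F17581)
def n6137 : Q := act 7 n4488
theorem D6137 : act 7 n4488 = n6137 := rfl
theorem F23693 : act 1 n6137 = n6137 := d13_1 D6137 (iv D6137) F17579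
theorem F23694 : act 2 n6137 = n4492 := d19_1 D6137 (iv D4492) (iv F17580)
theorem F23695 : act 5 n6137 = n4489 := d31_1 D6137 (iv D4489) D4488
def n6138 : Q := act 3 n4489
theorem D6138 : act 3 n4489 = n6138 := rfl
theorem F23696 : act 1 n6138 = n6138 := d9_1 D6138 (iv D6138) F17583
theorem F23697 : act 2 n6138 = n4508 := d15_1 D6138 (iv D4508) F13128 (iv F13075) (iv F17584)
theorem F23698 : act 6 n6138 = n6138 := d23_2 F17586 D6138 (iv D6138)
theorem F23699 : act 7 n6138 = n4822 := d24_2 D4489 D6138 (iv D4822) (iv D3526) (iv F13067)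
def n6139 : Q := act 8 n4489
theorem D6139 : act 8 n4489 = n6139 := rfl
theorem F23700 : act 1 n6139 = n6139 := d14_1 D6139 (iv D6139) F17583
theorem F23701 : act 2 n6139 = n4493 := d20_1 D6139 (iv D4493) (iv F17584)
theorem F23702 : act 4 n6139 = n6139 := d29_1 D6139 (iv D6139) F17585
theorem F23703 : act 6 n6139 = n6139 := d34_1 D6139 (iv D6139) F17586
theorem F23704 : act 7 n6139 = n6139 := d35_1 D6139 (iv D6139) (iv D4489) F13070 D4489
def n6140 : Q := act 6 n4490
theorem D6140 : act 6 n4490 = n6140 := rfl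
theorem F23705 : act 1 n6140 = n4494 := d12_1 D6140 (iv D4494) (iv F17587)
theorem F23706 : act 3 n6140 = n6140 := d23_1 D6140 (iv D6140) F17588
theorem F23707 : act 4 n6140 = n4491 := d27_1 D6140 (iv D4491) D4490
theorem F23708 : act 8 n6140 = n6140 := d34_2 F17590 D6140 (iv D6140)
def n6141 : Q := act 7 n4490
theorem D6141 : act 7 n4490 = n6141 := rfl
theorem F23709 : act 1 n6141 = n4495 := d13_1 D6141 (iv D4495) (iv F17587)
theorem F23710 : act 4 n6141 = n4492 := d28_1 D6141 (iv D4492) D4490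
theorem F23711 : act 5 n6141 = n6141 := d31_1 D6141 (iv D6141) F17589
def n6142 : Q := act 7 n4491
theorem D6142 : act 7 n4491 = n6142 := rfl
theorem F23712 : act 1 n6142 = n4496 := d13_1 D6142 (iv D4496) (iv F17591)
theorem F23713 : act 3 n6142 = n4512 := d24_1 D6142 (iv D4512) F13136 (iv F13082) (iv F17592)
theorem F23714 : act 5 n6142 = n6142 := d31_1 D6142 (iv D6142) F17593
theorem F23715 : act 6 n6142 = n4492 := d33_1 D6142 (iv D4492) D4491
def n6143 : Q := act 8 n4492
theorem D6143 : act 8 n4492 = n6143 := rfl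
theorem F23716 : act 1 n6143 = n4497 := d14_1 D6143 (iv D4497) (iv F17595)
theorem F23717 : act 3 n6143 = n4513 := d25_1 D6143 (iv D4513) (iv F17596)
theorem F23718 : act 5 n6143 = n4493 := d32_1 D6143 (iv D4493) (iv F17597)
theorem F23719 : act 7 n6143 = n6143 := d35_1 D6143 (iv D6143) (iv D4492) F13073 D4492
def n6144 : Q := act 5 n4494
theorem D6144 : act 5 n4494 = n6144 := rfl
theorem F23720 : act 0 n6144 = n5997 := d4_1 D6144 (iv D5997) (iv F17603)
theorem F23721 : act 2 n6144 = n6144 := d17_1 D6144 (iv D6144) F17604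
theorem F23722 : act 3 n6144 = n6144 := d22_1 D6144 (iv D6144) F17605
theorem F23723 : act 4 n6144 = n6144 := d26_1 D6144 (iv D6144) F17606 F13092 (iv F17606)
theorem F23724 : act 6 n6144 = n6144 := d30_2 D4494 D6144 (iv D6144) (iv D4494) F13087
theorem F23725 : act 8 n6144 = n6144 := d32_2 F17607 D6144 (iv D6144)
def n6145 : Q := act 7 n4494
theorem D6145 : act 7 n4494 = n6145 := rfl
theorem F23726 : act 0 n6145 = n5998 := d6_1 D6145 (iv D5998) (iv F17603)
theorem F23727 : act 2 n6145 = n6145 := d19_1 D6145 (iv D6145) F17604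
theorem F23728 : act 4 n6145 = n4496 := d28_1 D6145 (iv D4496) (iv F17606)
theorem F23729 : act 6 n6145 = n4495 := d33_1 D6145 (iv D4495) D4494
def n6146 : Q := act 3 n4495
theorem D6146 : act 3 n4495 = n6146 := rfl
theorem F23730 : act 0 n6146 = n5999 := d2_1 D6146 (iv D5999) (iv F17608)
theorem F23731 : act 4 n6146 = n4516 := d21_2 (iv F17610) D6146 (iv D4516) F13152 (iv F13096)
theorem F23732 : act 5 n6146 = n6146 := d22_2 F17611 D6146 (iv D6146)
theorem F23733 : act 7 n6146 = n6146 := d24_2 D4495 D6146 (iv D6146) (iv D4495) F13086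
def n6147 : Q := act 8 n4495
theorem D6147 : act 8 n4495 = n6147 := rfl
theorem F23734 : act 0 n6147 = n6000 := d7_1 D6147 (iv D6000) (iv F17608)
theorem F23735 : act 2 n6147 = n6147 := d20_1 D6147 (iv D6147) F17609
theorem F23736 : act 4 n6147 = n4497 := d29_1 D6147 (iv D4497) (iv F17610)
theorem F23737 : act 5 n6147 = n6147 := d32_1 D6147 (iv D6147) F17611
theorem F23738 : act 7 n6147 = n6147 := d35_1 D6147 (iv D6147) (iv D4495) F13088 D4495
def n6148 : Q := act 8 n4496
theorem D6148 : act 8 n4496 = n6148 := rfl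
theorem F23739 : act 0 n6148 = n6001 := d7_1 D6148 (iv D6001) (iv F17612)
theorem F23740 : act 2 n6148 = n6148 := d20_1 D6148 (iv D6148) F17613
theorem F23741 : act 3 n6148 = n4518 := d25_1 D6148 (iv D4518) (iv F17614)
theorem F23742 : act 5 n6148 = n6148 := d32_1 D6148 (iv D6148) F17615
theorem F23743 : act 6 n6148 = n4497 := d34_1 D6148 (iv D4497) (iv F17616)
theorem F23744 : act 7 n6148 = n6148 := d35_1 D6148 (iv D6148) (iv D4496) F13093 D4496
def n6149 : Q := act 5 n4498
theorem D6149 : act 5 n4498 = n6149 := rfl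
theorem F23745 : act 0 n6149 = n4548 := d4_1 D6149 (iv D4548) (iv F17622)
theorem F23746 : act 1 n6149 = n4499 := d11_1 D6149 (iv D4499) D4498
theorem F23747 : act 2 n6149 = n6002 := d17_1 D6149 (iv D6002) (iv F17623)
theorem F23748 : act 3 n6149 = n4833 := d22_1 D6149 (iv D4833) (iv F17624)
theorem F23749 : act 8 n6149 = n4519 := d32_2 (iv F17627) D6149 (iv D4519)
def n6150 : Q := act 7 n4498
theorem D6150 : act 7 n4498 = n6150 := rfl
theorem F23750 : act 0 n6150 = n4549 := d6_1 D6150 (iv D4549) (iv F17622)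
theorem F23751 : act 1 n6150 = n4500 := d13_1 D6150 (iv D4500) D4498
theorem F23752 : act 2 n6150 = n6003 := d19_1 D6150 (iv D6003) (iv F17623)
theorem F23753 : act 4 n6150 = n5654 := d28_1 D6150 (iv D5654) (iv F17625)
theorem F23754 : act 6 n6150 = n6150 := d33_1 D6150 (iv D6150) F17626
def n6151 : Q := act 4 n4499
theorem D6151 : act 4 n4499 = n6151 := rfl
theorem F23755 : act 0 n6151 = n4505 := d3_1 D6151 (iv D4505) (iv F17628)
theorem F23756 : act 2 n6151 = n4501 := d16_1 D6151 (iv D4501) (iv F17629)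
theorem F23757 : act 5 n6151 = n5655 := d26_2 D4499 D6151 (iv D5655) (iv D4146) (iv F13106)
theorem F23758 : act 8 n6151 = n4521 := d29_2 (iv F17631) D6151 (iv D4521)
def n6152 : Q := act 6 n4499
theorem D6152 : act 6 n4499 = n6152 := rfl
theorem F23759 : act 0 n6152 = n4506 := d5_1 D6152 (iv D4506) (iv F17628)
theorem F23760 : act 2 n6152 = n4502 := d18_1 D6152 (iv D4502) (iv F17629)
theorem F23761 : act 3 n6152 = n4836 := d23_1 D6152 (iv D4836) (iv F17630)
theorem F23762 : act 5 n6152 = n6152 := d30_1 D6152 (iv D6152) (iv D4499) F13107 D4499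
theorem F23763 : act 8 n6152 = n4522 := d34_2 (iv F17631) D6152 (iv D4522)
def n6153 : Q := act 7 n4499
theorem D6153 : act 7 n4499 = n6153 := rfl
theorem F23764 : act 0 n6153 = n4507 := d6_1 D6153 (iv D4507) (iv F17628)
theorem F23765 : act 2 n6153 = n4503 := d19_1 D6153 (iv D4503) (iv F17629)
theorem F23766 : act 5 n6153 = n4500 := d31_1 D6153 (iv D4500) D4499
def n6154 : Q := act 3 n4500
theorem D6154 : act 3 n4500 = n6154 := rfl
theorem F23767 : act 0 n6154 = n4508 := d2_1 D6154 (iv D4508) (iv F17632)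
theorem F23768 : act 6 n6154 = n6154 := d23_2 F17635 D6154 (iv D6154)
theorem F23769 : act 7 n6154 = n4838 := d24_2 D4500 D6154 (iv D4838) (iv D3537) (iv F13105)
def n6155 : Q := act 8 n4500
theorem D6155 : act 8 n4500 = n6155 := rfl
theorem F23770 : act 0 n6155 = n4509 := d7_1 D6155 (iv D4509) (iv F17632)
theorem F23771 : act 2 n6155 = n4504 := d20_1 D6155 (iv D4504) (iv F17633)
theorem F23772 : act 4 n6155 = n5659 := d29_1 D6155 (iv D5659) (iv F17634)
theorem F23773 : act 6 n6155 = n6155 := d34_1 D6155 (iv D6155) F17635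
theorem F23774 : act 7 n6155 = n4525 := d35_1 D6155 (iv D4525) (iv D3308) (iv F13108) D4500
def n6156 : Q := act 6 n4501
theorem D6156 : act 6 n4501 = n6156 := rfl
theorem F23775 : act 0 n6156 = n4510 := d5_1 D6156 (iv D4510) (iv F17636)
theorem F23776 : act 1 n6156 = n6009 := d12_1 D6156 (iv D6009) (iv F17637)
theorem F23777 : act 3 n6156 = n6156 := d23_1 D6156 (iv D6156) F17638
theorem F23778 : act 4 n6156 = n4502 := d27_1 D6156 (iv D4502) D4501
theorem F23779 : act 8 n6156 = n4526 := d34_2 (iv F17640) D6156 (iv D4526)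
def n6157 : Q := act 7 n4501
theorem D6157 : act 7 n4501 = n6157 := rfl
theorem F23780 : act 0 n6157 = n4511 := d6_1 D6157 (iv D4511) (iv F17636)
theorem F23781 : act 1 n6157 = n6010 := d13_1 D6157 (iv D6010) (iv F17637)
theorem F23782 : act 4 n6157 = n4503 := d28_1 D6157 (iv D4503) D4501
theorem F23783 : act 5 n6157 = n5661 := d31_1 D6157 (iv D5661) (iv F17639)
def n6158 : Q := act 7 n4502
theorem D6158 : act 7 n4502 = n6158 := rfl
theorem F23784 : act 0 n6158 = n4512 := d6_1 D6158 (iv D4512) (iv F17641)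
theorem F23785 : act 1 n6158 = n6011 := d13_1 D6158 (iv D6011) (iv F17642)
theorem F23786 : act 5 n6158 = n6158 := d31_1 D6158 (iv D6158) F17644
theorem F23787 : act 6 n6158 = n4503 := d33_1 D6158 (iv D4503) D4502
def n6159 : Q := act 8 n4503
theorem D6159 : act 8 n4503 = n6159 := rfl
theorem F23788 : act 0 n6159 = n4513 := d7_1 D6159 (iv D4513) (iv F17646)
theorem F23789 : act 1 n6159 = n6012 := d14_1 D6159 (iv D6012) (iv F17647)
theorem F23790 : act 5 n6159 = n4504 := d32_1 D6159 (iv D4504) (iv F17648)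
theorem F23791 : act 7 n6159 = n4529 := d35_1 D6159 (iv D4529) (iv D3311) (iv F13112) D4503
def n6160 : Q := act 3 n4505
theorem D6160 : act 3 n4505 = n6160 := rfl
theorem F23792 : act 1 n6160 = n4559 := d9_1 D6160 (iv D4559) (iv F17654)
theorem F23793 : act 2 n6160 = n6160 := d15_1 D6160 (iv D6160) F17655 F13132 (iv F17655)
theorem F23794 : act 4 n6160 = n4844 := d21_2 D4505 D6160 (iv D4844) (iv D3542) (iv F13125)
theorem F23795 : act 5 n6160 = n5664 := d22_2 (iv F17656) D6160 (iv D5664)
theorem F23796 : act 8 n6160 = n4530 := d25_2 (iv F17657) D6160 (iv D4530)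
def n6161 : Q := act 6 n4505
theorem D6161 : act 6 n4505 = n6161 := rfl
theorem F23797 : act 1 n6161 = n4560 := d12_1 D6161 (iv D4560) (iv F17654)
theorem F23798 : act 2 n6161 = n4510 := d18_1 D6161 (iv D4510) (iv F17655)
theorem F23799 : act 4 n6161 = n4506 := d27_1 D6161 (iv D4506) D4505
theorem F23800 : act 8 n6161 = n4531 := d34_2 (iv F17657) D6161 (iv D4531)
def n6162 : Q := act 7 n4505
theorem D6162 : act 7 n4505 = n6162 := rfl
theorem F23801 : act 1 n6162 = n4561 := d13_1 D6162 (iv D4561) (iv F17654)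
theorem F23802 : act 2 n6162 = n4511 := d19_1 D6162 (iv D4511) (iv F17655)
theorem F23803 : act 4 n6162 = n4507 := d28_1 D6162 (iv D4507) D4505
theorem F23804 : act 5 n6162 = n5666 := d31_1 D6162 (iv D5666) (iv F17656)
def n6163 : Q := act 7 n4506
theorem D6163 : act 7 n4506 = n6163 := rfl
theorem F23805 : act 1 n6163 = n4562 := d13_1 D6163 (iv D4562) (iv F17658)
theorem F23806 : act 2 n6163 = n4512 := d19_1 D6163 (iv D4512) (iv F17659)
theorem F23807 : act 5 n6163 = n6163 := d31_1 D6163 (iv D6163) F17661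
theorem F23808 : act 6 n6163 = n4507 := d33_1 D6163 (iv D4507) D4506
def n6164 : Q := act 3 n4507
theorem D6164 : act 3 n4507 = n6164 := rfl
theorem F23809 : act 1 n6164 = n4563 := d9_1 D6164 (iv D4563) (iv F17663)
theorem F23810 : act 5 n6164 = n4508 := d22_2 (iv F17665) D6164 (iv D4508)
theorem F23811 : act 7 n6164 = n4848 := d24_2 D4507 D6164 (iv D4848) (iv D3544) (iv F13125)
def n6165 : Q := act 8 n4507
theorem D6165 : act 8 n4507 = n6165 := rfl
theorem F23812 : act 1 n6165 = n4564 := d14_1 D6165 (iv D4564) (iv F17663)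
theorem F23813 : act 2 n6165 = n4513 := d20_1 D6165 (iv D4513) (iv F17664)
theorem F23814 : act 5 n6165 = n4509 := d32_1 D6165 (iv D4509) (iv F17665)
theorem F23815 : act 7 n6165 = n4535 := d35_1 D6165 (iv D4535) (iv D3315) (iv F13126) D4507
def n6166 : Q := act 4 n4508
theorem D6166 : act 4 n4508 = n6166 := rfl
theorem F23816 : act 1 n6166 = n4565 := d10_1 D6166 (iv D4565) (iv F17666)
theorem F23817 : act 3 n6166 = n5670 := d21_1 D6166 (iv D5670) (iv D4155) (iv F13129) D4508
theorem F23818 : act 6 n6166 = n6166 := d27_2 F17667 D6166 (iv D6166)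
theorem F23819 : act 7 n6166 = n4850 := d28_2 (iv F17668) D6166 (iv D4850)
def n6167 : Q := act 8 n4508
theorem D6167 : act 8 n4508 = n6167 := rfl
theorem F23820 : act 1 n6167 = n4566 := d14_1 D6167 (iv D4566) (iv F17666)
theorem F23821 : act 3 n6167 = n4509 := d25_1 D6167 (iv D4509) D4508
theorem F23822 : act 6 n6167 = n6167 := d34_1 D6167 (iv D6167) F17667
def n6168 : Q := act 5 n4510
theorem D6168 : act 5 n4510 = n6168 := rfl
theorem F23823 : act 1 n6168 = n4514 := d11_1 D6168 (iv D4514) (iv F17674)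
def n6169 : Q := act 7 n4510
theorem D6169 : act 7 n4510 = n6169 := rfl
theorem F23828 : act 1 n6169 = n4515 := d13_1 D6169 (iv D4515) (iv F17674)
theorem F23829 : act 4 n6169 = n4512 := d28_1 D6169 (iv D4512) (iv F17676)
theorem F23830 : act 6 n6169 = n4511 := d33_1 D6169 (iv D4511) D4510
def n6170 : Q := act 3 n4511
theorem D6170 : act 3 n4511 = n6170 := rfl
theorem F23831 : act 1 n6170 = n4516 := d9_1 D6170 (iv D4516) (iv F17678)
theorem F23832 : act 5 n6170 = n5674 := d22_2 (iv F17680) D6170 (iv D5674)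
theorem F23833 : act 7 n6170 = n6170 := d24_2 D4511 D6170 (iv D6170) (iv D4511) F13132
def n6171 : Q := act 8 n4511
theorem D6171 : act 8 n4511 = n6171 := rfl
theorem F23834 : act 1 n6171 = n4517 := d14_1 D6171 (iv D4517) (iv F17678)
theorem F23835 : act 4 n6171 = n4513 := d29_1 D6171 (iv D4513) (iv F17679)
theorem F23836 : act 5 n6171 = n5675 := d32_1 D6171 (iv D5675) (iv F17680)
theorem F23837 : act 7 n6171 = n4541 := d35_1 D6171 (iv D4541) (iv D3319) (iv F13134) D4511
def n6172 : Q := act 8 n4512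
theorem D6172 : act 8 n4512 = n6172 := rfl
theorem F23838 : act 1 n6172 = n4518 := d14_1 D6172 (iv D4518) (iv F17681)
theorem F23839 : act 5 n6172 = n6172 := d32_1 D6172 (iv D6172) F17682
theorem F23840 : act 6 n6172 = n4513 := d34_1 D6172 (iv D4513) (iv F17683)
theorem F23841 : act 7 n6172 = n4542 := d35_1 D6172 (iv D4542) (iv D3320) (iv F13138) D4512
def n6173 : Q := act 7 n4514
theorem D6173 : act 7 n4514 = n6173 := rfl
theorem F23842 : act 0 n6173 = n6026 := d6_1 D6173 (iv D6026) (iv F17687)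
theorem F23845 : act 5 n6173 = n4515 := d31_1 D6173 (iv D4515) D4514
def n6174 : Q := act 3 n4515
theorem D6174 : act 3 n4515 = n6174 := rfl
theorem F23847 : act 0 n6174 = n6027 := d2_1 D6174 (iv D6027) (iv F17693)
theorem F23848 : act 6 n6174 = n4516 := d23_2 (iv F17696) D6174 (iv D4516)
theorem F23849 : act 7 n6174 = n6174 := d24_2 D4515 D6174 (iv D6174) (iv D4515) F13147
def n6175 : Q := act 8 n4515
theorem D6175 : act 8 n4515 = n6175 := rfl
theorem F23850 : act 0 n6175 = n6028 := d7_1 D6175 (iv D6028) (iv F17693)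
theorem F23851 : act 2 n6175 = n4574 := d20_1 D6175 (iv D4574) (iv F17694)
theorem F23852 : act 4 n6175 = n4518 := d29_1 D6175 (iv D4518) (iv F17695)
theorem F23853 : act 6 n6175 = n4517 := d34_1 D6175 (iv D4517) (iv F17696)
theorem F23854 : act 7 n6175 = n4545 := d35_1 D6175 (iv D4545) (iv D3323) (iv F13149) D4515
def n6176 : Q := act 2 n4516
theorem D6176 : act 2 n4516 = n6176 := rfl
theorem F23855 : act 0 n6176 = n6029 := d1_1 D6176 (iv D6029) (iv F17697)
theorem F23856 : act 3 n6176 = n4575 := d15_2 D4516 D6176 (iv D4575) (iv D3345) (iv F13151)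
theorem F23857 : act 5 n6176 = n5680 := d17_2 (iv F17698) D6176 (iv D5680)
theorem F23858 : act 7 n6176 = n6176 := d19_2 F17699 D6176 (iv D6176)
def n6177 : Q := act 8 n4516
theorem D6177 : act 8 n4516 = n6177 := rfl
theorem F23859 : act 0 n6177 = n6030 := d7_1 D6177 (iv D6030) (iv F17697)
theorem F23860 : act 3 n6177 = n4517 := d25_1 D6177 (iv D4517) D4516
theorem F23861 : act 5 n6177 = n5681 := d32_1 D6177 (iv D5681) (iv F17698)
def n6178 : Q := act 4 n4519
theorem D6178 : act 4 n4519 = n6178 := rfl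
theorem F23862 : act 0 n6178 = n4577 := d3_1 D6178 (iv D4577) (iv F17710)
theorem F23863 : act 1 n6178 = n4521 := d10_1 D6178 (iv D4521) (iv F17711)
def n6179 : Q := act 6 n4519
theorem D6179 : act 6 n4519 = n6179 := rfl
theorem F23864 : act 0 n6179 = n4578 := d5_1 D6179 (iv D4578) (iv F17710)
theorem F23865 : act 1 n6179 = n4522 := d12_1 D6179 (iv D4522) (iv F17711)
theorem F23866 : act 3 n6179 = n4863 := d23_1 D6179 (iv D4863) (iv F17712)
theorem F23867 : act 5 n6179 = n6179 := d30_1 D6179 (iv D6179) (iv D4519) F13164 D4519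
def n6180 : Q := act 7 n4519
theorem D6180 : act 7 n4519 = n6180 := rfl
theorem F23868 : act 0 n6180 = n4579 := d6_1 D6180 (iv D4579) (iv F17710)
theorem F23869 : act 1 n6180 = n4523 := d13_1 D6180 (iv D4523) (iv F17711)
theorem F23870 : act 5 n6180 = n4520 := d31_1 D6180 (iv D4520) D4519
def n6181 : Q := act 3 n4520
theorem D6181 : act 3 n4520 = n6181 := rfl
theorem F23871 : act 0 n6181 = n4580 := d2_1 D6181 (iv D4580) (iv F17713)
theorem F23872 : act 1 n6181 = n4524 := d9_1 D6181 (iv D4524) (iv F17714)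
theorem F23873 : act 6 n6181 = n6181 := d23_2 F17715 D6181 (iv D6181)
theorem F23874 : act 7 n6181 = n4865 := d24_2 D4520 D6181 (iv D4865) (iv D3557) (iv F13163)
def n6182 : Q := act 8 n4520
theorem D6182 : act 8 n4520 = n6182 := rfl
theorem F23875 : act 0 n6182 = n4581 := d7_1 D6182 (iv D4581) (iv F17713)
theorem F23876 : act 1 n6182 = n4525 := d14_1 D6182 (iv D4525) (iv F17714)
theorem F23877 : act 6 n6182 = n6182 := d34_1 D6182 (iv D6182) F17715
def n6183 : Q := act 3 n4521
theorem D6183 : act 3 n4521 = n6183 := rfl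
theorem F23878 : act 0 n6183 = n4530 := d2_1 D6183 (iv D4530) (iv F17716)
theorem F23879 : act 2 n6183 = n6183 := d15_1 D6183 (iv D6183) F17717 F13172 (iv F17717)
theorem F23880 : act 4 n6183 = n4867 := d21_2 D4521 D6183 (iv D4867) (iv D3558) (iv F13167)
def n6184 : Q := act 6 n4521
theorem D6184 : act 6 n4521 = n6184 := rfl
theorem F23881 : act 0 n6184 = n4531 := d5_1 D6184 (iv D4531) (iv F17716)
theorem F23882 : act 2 n6184 = n4526 := d18_1 D6184 (iv D4526) (iv F17717)
theorem F23883 : act 4 n6184 = n4522 := d27_1 D6184 (iv D4522) D4521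
def n6185 : Q := act 7 n4521
theorem D6185 : act 7 n4521 = n6185 := rfl
theorem F23884 : act 0 n6185 = n4532 := d6_1 D6185 (iv D4532) (iv F17716)
theorem F23885 : act 2 n6185 = n4527 := d19_1 D6185 (iv D4527) (iv F17717)
theorem F23886 : act 4 n6185 = n4523 := d28_1 D6185 (iv D4523) D4521
def n6186 : Q := act 7 n4522
theorem D6186 : act 7 n4522 = n6186 := rfl
theorem F23887 : act 0 n6186 = n4533 := d6_1 D6186 (iv D4533) (iv F17718)
theorem F23888 : act 2 n6186 = n4528 := d19_1 D6186 (iv D4528) (iv F17719)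
theorem F23889 : act 5 n6186 = n6186 := d31_1 D6186 (iv D6186) F17721
theorem F23890 : act 6 n6186 = n4523 := d33_1 D6186 (iv D4523) D4522
def n6187 : Q := act 3 n4523
theorem D6187 : act 3 n4523 = n6187 := rfl
theorem F23891 : act 0 n6187 = n4534 := d2_1 D6187 (iv D4534) (iv F17722)
theorem F23892 : act 2 n6187 = n6187 := d15_1 D6187 (iv D6187) F17723 F13177 (iv F17723)
theorem F23893 : act 5 n6187 = n4524 := d22_2 (iv F17724) D6187 (iv D4524)
theorem F23894 : act 7 n6187 = n4871 := d24_2 D4523 D6187 (iv D4871) (iv D3560) (iv F13167)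
def n6188 : Q := act 8 n4523
theorem D6188 : act 8 n4523 = n6188 := rfl
theorem F23895 : act 0 n6188 = n4535 := d7_1 D6188 (iv D4535) (iv F17722)
theorem F23896 : act 2 n6188 = n4529 := d20_1 D6188 (iv D4529) (iv F17723)
theorem F23897 : act 5 n6188 = n4525 := d32_1 D6188 (iv D4525) (iv F17724)
def n6189 : Q := act 4 n4524
theorem D6189 : act 4 n4524 = n6189 := rfl
theorem F23898 : act 0 n6189 = n4536 := d3_1 D6189 (iv D4536) (iv F17725)
theorem F23899 : act 2 n6189 = n6189 := d16_1 D6189 (iv D6189) F17726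
theorem F23900 : act 6 n6189 = n6189 := d27_2 F17727 D6189 (iv D6189)
theorem F23901 : act 7 n6189 = n4873 := d28_2 (iv F17728) D6189 (iv D4873)
def n6190 : Q := act 8 n4524
theorem D6190 : act 8 n4524 = n6190 := rfl
theorem F23902 : act 0 n6190 = n4537 := d7_1 D6190 (iv D4537) (iv F17725)
theorem F23903 : act 2 n6190 = n6190 := d20_1 D6190 (iv D6190) F17726
theorem F23904 : act 3 n6190 = n4525 := d25_1 D6190 (iv D4525) D4524
theorem F23905 : act 6 n6190 = n6190 := d34_1 D6190 (iv D6190) F17727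
def n6191 : Q := act 5 n4526
theorem D6191 : act 5 n4526 = n6191 := rfl
theorem F23906 : act 0 n6191 = n4538 := d4_1 D6191 (iv D4538) (iv F17732)
theorem F23907 : act 3 n6191 = n6191 := d22_1 D6191 (iv D6191) F17733
theorem F23908 : act 4 n6191 = n6191 := d26_1 D6191 (iv D6191) F17734 F13175 (iv F17734)
def n6192 : Q := act 7 n4526
theorem D6192 : act 7 n4526 = n6192 := rfl
theorem F23909 : act 0 n6192 = n4539 := d6_1 D6192 (iv D4539) (iv F17732)
theorem F23910 : act 4 n6192 = n4528 := d28_1 D6192 (iv D4528) (iv F17734)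
theorem F23911 : act 6 n6192 = n4527 := d33_1 D6192 (iv D4527) D4526
def n6193 : Q := act 3 n4527
theorem D6193 : act 3 n4527 = n6193 := rfl
theorem F23912 : act 0 n6193 = n4540 := d2_1 D6193 (iv D4540) (iv F17735)
theorem F23913 : act 4 n6193 = n6193 := d21_2 (iv F17736) D6193 (iv D6193) F17736 F13177
theorem F23914 : act 7 n6193 = n6193 := d24_2 D4527 D6193 (iv D6193) (iv D4527) F13172
def n6194 : Q := act 8 n4527
theorem D6194 : act 8 n4527 = n6194 := rfl
theorem F23915 : act 0 n6194 = n4541 := d7_1 D6194 (iv D4541) (iv F17735)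
theorem F23916 : act 4 n6194 = n4529 := d29_1 D6194 (iv D4529) (iv F17736)
def n6195 : Q := act 8 n4528
theorem D6195 : act 8 n4528 = n6195 := rfl
theorem F23917 : act 0 n6195 = n4542 := d7_1 D6195 (iv D4542) (iv F17737)
theorem F23918 : act 3 n6195 = n6195 := d25_1 D6195 (iv D6195) F17738
theorem F23919 : act 5 n6195 = n6195 := d32_1 D6195 (iv D6195) F17739
theorem F23920 : act 6 n6195 = n4529 := d34_1 D6195 (iv D4529) (iv F17740)
def n6196 : Q := act 6 n4530
theorem D6196 : act 6 n4530 = n6196 := rfl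
theorem F23921 : act 1 n6196 = n4595 := d12_1 D6196 (iv D4595) (iv F17744)
theorem F23922 : act 2 n6196 = n6196 := d18_1 D6196 (iv D6196) F17745
theorem F23923 : act 3 n6196 = n4531 := d23_1 D6196 (iv D4531) D4530
theorem F23924 : act 4 n6196 = n4880 := d27_1 D6196 (iv D4880) (iv F17746)
def n6197 : Q := act 7 n4530
theorem D6197 : act 7 n4530 = n6197 := rfl
theorem F23925 : act 1 n6197 = n4596 := d13_1 D6197 (iv D4596) (iv F17744)
theorem F23926 : act 2 n6197 = n6197 := d19_1 D6197 (iv D6197) F17745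
theorem F23927 : act 4 n6197 = n4881 := d28_1 D6197 (iv D4881) (iv F17746)
def n6198 : Q := act 5 n4531
theorem D6198 : act 5 n4531 = n6198 := rfl
theorem F23928 : act 1 n6198 = n4597 := d11_1 D6198 (iv D4597) (iv F17747)
theorem F23929 : act 2 n6198 = n4538 := d17_1 D6198 (iv D4538) (iv F17748)
theorem F23930 : act 4 n6198 = n6198 := d26_1 D6198 (iv D6198) F17749 F13187 (iv F17749)
def n6199 : Q := act 7 n4531
theorem D6199 : act 7 n4531 = n6199 := rfl
theorem F23931 : act 1 n6199 = n4598 := d13_1 D6199 (iv D4598) (iv F17747)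
theorem F23932 : act 2 n6199 = n4539 := d19_1 D6199 (iv D4539) (iv F17748)
theorem F23933 : act 4 n6199 = n4533 := d28_1 D6199 (iv D4533) (iv F17749)
theorem F23934 : act 6 n6199 = n4532 := d33_1 D6199 (iv D4532) D4531
def n6200 : Q := act 3 n4532
theorem D6200 : act 3 n4532 = n6200 := rfl
theorem F23935 : act 1 n6200 = n4599 := d9_1 D6200 (iv D4599) (iv F17750)
def n6201 : Q := act 8 n4532
theorem D6201 : act 8 n4532 = n6201 := rfl
theorem F23936 : act 1 n6201 = n4600 := d14_1 D6201 (iv D4600) (iv F17750)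
theorem F23937 : act 2 n6201 = n4541 := d20_1 D6201 (iv D4541) (iv F17751)
theorem F23938 : act 4 n6201 = n4535 := d29_1 D6201 (iv D4535) (iv F17752)
def n6202 : Q := act 3 n4533
theorem D6202 : act 3 n4533 = n6202 := rfl
theorem F23939 : act 1 n6202 = n4601 := d9_1 D6202 (iv D4601) (iv F17753)
theorem F23940 : act 2 n6202 = n6202 := d15_1 D6202 (iv D6202) F17754 F13204 (iv F17754)
theorem F23941 : act 5 n6202 = n6202 := d22_2 F17755 D6202 (iv D6202)
theorem F23942 : act 6 n6202 = n4534 := d23_2 (iv F17756) D6202 (iv D4534)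
theorem F23943 : act 7 n6202 = n4886 := d24_2 D4533 D6202 (iv D4886) (iv D3570) (iv F13186)
def n6203 : Q := act 8 n4533
theorem D6203 : act 8 n4533 = n6203 := rfl
theorem F23944 : act 1 n6203 = n4602 := d14_1 D6203 (iv D4602) (iv F17753)
theorem F23945 : act 2 n6203 = n4542 := d20_1 D6203 (iv D4542) (iv F17754)
theorem F23946 : act 5 n6203 = n6203 := d32_1 D6203 (iv D6203) F17755
theorem F23947 : act 6 n6203 = n4535 := d34_1 D6203 (iv D4535) (iv F17756)
def n6204 : Q := act 4 n4534
theorem D6204 : act 4 n4534 = n6204 := rfl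
theorem F23948 : act 1 n6204 = n4603 := d10_1 D6204 (iv D4603) (iv F17757)
theorem F23949 : act 2 n6204 = n6204 := d16_1 D6204 (iv D6204) F17758
theorem F23950 : act 7 n6204 = n4888 := d28_2 (iv F17760) D6204 (iv D4888)
def n6205 : Q := act 8 n4534
theorem D6205 : act 8 n4534 = n6205 := rfl
theorem F23951 : act 1 n6205 = n4604 := d14_1 D6205 (iv D4604) (iv F17757)
theorem F23952 : act 2 n6205 = n6205 := d20_1 D6205 (iv D6205) F17758
theorem F23953 : act 3 n6205 = n4535 := d25_1 D6205 (iv D4535) D4534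
theorem F23954 : act 5 n6205 = n4537 := d32_1 D6205 (iv D4537) (iv F17759)
def n6206 : Q := act 5 n4536
theorem D6206 : act 5 n4536 = n6206 := rfl
theorem F23955 : act 1 n6206 = n4605 := d11_1 D6206 (iv D4605) (iv F17764)
theorem F23956 : act 2 n6206 = n6206 := d17_1 D6206 (iv D6206) F17765
theorem F23957 : act 7 n6206 = n4890 := d31_2 (iv F17767) D6206 (iv D4890)
def n6207 : Q := act 8 n4536
theorem D6207 : act 8 n4536 = n6207 := rfl
theorem F23958 : act 1 n6207 = n4606 := d14_1 D6207 (iv D4606) (iv F17764)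
theorem F23959 : act 2 n6207 = n6207 := d20_1 D6207 (iv D6207) F17765
theorem F23960 : act 4 n6207 = n4537 := d29_1 D6207 (iv D4537) D4536
theorem F23961 : act 6 n6207 = n6207 := d34_1 D6207 (iv D6207) F17766
def n6208 : Q := act 7 n4537
theorem D6208 : act 7 n4537 = n6208 := rfl
theorem F23962 : act 1 n6208 = n4607 := d13_1 D6208 (iv D4607) (iv F17768)
theorem F23963 : act 2 n6208 = n6208 := d19_1 D6208 (iv D6208) F17769
theorem F23964 : act 6 n6208 = n6208 := d33_1 D6208 (iv D6208) F17771
theorem F23965 : act 8 n6208 = n4892 := d35_2 D4537 D6208 (iv D4892) (iv D3574) (iv F13194)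
def n6209 : Q := act 7 n4538
theorem D6209 : act 7 n4538 = n6209 := rfl
theorem F23966 : act 1 n6209 = n4543 := d13_1 D6209 (iv D4543) (iv F17772)
theorem F23967 : act 4 n6209 = n6209 := d28_1 D6209 (iv D6209) F17774
theorem F23968 : act 5 n6209 = n4539 := d31_1 D6209 (iv D4539) D4538
def n6210 : Q := act 3 n4539
theorem D6210 : act 3 n4539 = n6210 := rfl
theorem F23969 : act 1 n6210 = n4544 := d9_1 D6210 (iv D4544) (iv F17775)
theorem F23970 : act 4 n6210 = n6210 := d21_2 (iv F17776) D6210 (iv D6210) F17776 F13204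
theorem F23971 : act 6 n6210 = n4540 := d23_2 (iv F17777) D6210 (iv D4540)
theorem F23972 : act 7 n6210 = n6210 := d24_2 D4539 D6210 (iv D6210) (iv D4539) F13199
def n6211 : Q := act 8 n4539
theorem D6211 : act 8 n4539 = n6211 := rfl
theorem F23973 : act 1 n6211 = n4545 := d14_1 D6211 (iv D4545) (iv F17775)
theorem F23974 : act 4 n6211 = n4542 := d29_1 D6211 (iv D4542) (iv F17776)
theorem F23975 : act 6 n6211 = n4541 := d34_1 D6211 (iv D4541) (iv F17777)
def n6212 : Q := act 2 n4540
theorem D6212 : act 2 n4540 = n6212 := rfl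
theorem F23976 : act 4 n6212 = n6212 := d16_2 F17779 D6212 (iv D6212)
theorem F23977 : act 7 n6212 = n6212 := d19_2 F17780 D6212 (iv D6212)
def n6213 : Q := act 8 n4540
theorem D6213 : act 8 n4540 = n6213 := rfl
theorem F23978 : act 1 n6213 = n4547 := d14_1 D6213 (iv D4547) (iv F17778)
theorem F23979 : act 3 n6213 = n4541 := d25_1 D6213 (iv D4541) D4540
theorem F23980 : act 4 n6213 = n6213 := d29_1 D6213 (iv D6213) F17779
def n6214 : Q := act 3 n4543
theorem D6214 : act 3 n4543 = n6214 := rfl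
def n6215 : Q := act 8 n4543
theorem D6215 : act 8 n4543 = n6215 := rfl
theorem F23984 : act 4 n6215 = n6215 := d29_1 D6215 (iv D6215) F17788
theorem F23985 : act 5 n6215 = n4545 := d32_1 D6215 (iv D4545) (iv F17789)
def n6216 : Q := act 2 n4544
theorem D6216 : act 2 n4544 = n6216 := rfl
theorem F23986 : act 3 n6216 = n4615 := d15_2 D4544 D6216 (iv D4615) (iv D3373) (iv F13213)
theorem F23988 : act 6 n6216 = n4546 := d18_2 (iv F17791) D6216 (iv D4546)
def n6217 : Q := act 8 n4544
theorem D6217 : act 8 n4544 = n6217 := rfl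
theorem F23990 : act 3 n6217 = n4545 := d25_1 D6217 (iv D4545) D4544
theorem F23991 : act 4 n6217 = n6217 := d29_1 D6217 (iv D6217) F17790
theorem F23992 : act 6 n6217 = n4547 := d34_1 D6217 (iv D4547) (iv F17791)
def n6218 : Q := act 1 n4546
theorem D6218 : act 1 n4546 = n6218 := rfl
theorem F23993 : act 3 n6218 = n4617 := d9_2 (iv F17796) D6218 (iv D4617)
theorem F23994 : act 4 n6218 = n6218 := d10_2 F17797 D6218 (iv D6218)
theorem F23995 : act 7 n6218 = n6218 := d13_2 F17798 D6218 (iv D6218)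
def n6219 : Q := act 8 n4546
theorem D6219 : act 8 n4546 = n6219 := rfl
theorem F23996 : act 2 n6219 = n4547 := d20_1 D6219 (iv D4547) D4546
theorem F23997 : act 3 n6219 = n4618 := d25_1 D6219 (iv D4618) (iv F17796)
theorem F23998 : act 4 n6219 = n6219 := d29_1 D6219 (iv D6219) F17797
def n6220 : Q := act 7 n4547
theorem D6220 : act 7 n4547 = n6220 := rfl
theorem F23999 : act 4 n6220 = n6220 := d28_1 D6220 (iv D6220) F17800
theorem F24000 : act 8 n6220 = n6220 := d35_2 D4547 D6220 (iv D6220) (iv D4547) F13217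
def n6221 : Q := act 4 n4548
theorem D6221 : act 4 n4548 = n6221 := rfl
theorem F24001 : act 1 n6221 = n4550 := d10_1 D6221 (iv D4550) (iv F17801)
theorem F24002 : act 2 n6221 = n6031 := d16_1 D6221 (iv D6031) (iv F17802)
theorem F24003 : act 5 n6221 = n5682 := d26_2 D4548 D6221 (iv D5682) (iv D4166) (iv F13226)
theorem F24004 : act 8 n6221 = n4577 := d29_2 (iv F17804) D6221 (iv D4577)
def n6222 : Q := act 6 n4548
theorem D6222 : act 6 n4548 = n6222 := rfl
theorem F24005 : act 1 n6222 = n4551 := d12_1 D6222 (iv D4551) (iv F17801)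
theorem F24006 : act 2 n6222 = n6032 := d18_1 D6222 (iv D6032) (iv F17802)
theorem F24007 : act 3 n6222 = n4903 := d23_1 D6222 (iv D4903) (iv F17803)
theorem F24008 : act 5 n6222 = n6222 := d30_1 D6222 (iv D6222) (iv D4548) F13227 D4548
theorem F24009 : act 8 n6222 = n4578 := d34_2 (iv F17804) D6222 (iv D4578)
def n6223 : Q := act 7 n4548
theorem D6223 : act 7 n4548 = n6223 := rfl
theorem F24010 : act 1 n6223 = n4552 := d13_1 D6223 (iv D4552) (iv F17801)
theorem F24011 : act 2 n6223 = n6033 := d19_1 D6223 (iv D6033) (iv F17802)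
theorem F24012 : act 5 n6223 = n4549 := d31_1 D6223 (iv D4549) D4548
def n6224 : Q := act 3 n4549
theorem D6224 : act 3 n4549 = n6224 := rfl
theorem F24013 : act 1 n6224 = n4553 := d9_1 D6224 (iv D4553) (iv F17805)
theorem F24014 : act 6 n6224 = n6224 := d23_2 F17808 D6224 (iv D6224)
theorem F24015 : act 7 n6224 = n4905 := d24_2 D4549 D6224 (iv D4905) (iv D3585) (iv F13225)
def n6225 : Q := act 8 n4549
theorem D6225 : act 8 n4549 = n6225 := rfl
theorem F24016 : act 1 n6225 = n4554 := d14_1 D6225 (iv D4554) (iv F17805)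
theorem F24017 : act 2 n6225 = n6035 := d20_1 D6225 (iv D6035) (iv F17806)
theorem F24018 : act 4 n6225 = n5686 := d29_1 D6225 (iv D5686) (iv F17807)
theorem F24019 : act 6 n6225 = n6225 := d34_1 D6225 (iv D6225) F17808
theorem F24020 : act 7 n6225 = n4581 := d35_1 D6225 (iv D4581) (iv D3349) (iv F13228) D4549
def n6226 : Q := act 3 n4550
theorem D6226 : act 3 n4550 = n6226 := rfl
theorem F24021 : act 0 n6226 = n4559 := d2_1 D6226 (iv D4559) (iv F17809)
theorem F24022 : act 2 n6226 = n4625 := d15_1 D6226 (iv D4625) F13398 (iv F13239) (iv F17810)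
theorem F24023 : act 4 n6226 = n4907 := d21_2 D4550 D6226 (iv D4907) (iv D3586) (iv F13231)
theorem F24024 : act 5 n6226 = n5687 := d22_2 (iv F17811) D6226 (iv D5687)
theorem F24025 : act 8 n6226 = n4582 := d25_2 (iv F17812) D6226 (iv D4582)
def n6227 : Q := act 6 n4550
theorem D6227 : act 6 n4550 = n6227 := rfl
theorem F24026 : act 0 n6227 = n4560 := d5_1 D6227 (iv D4560) (iv F17809)
theorem F24027 : act 2 n6227 = n4555 := d18_1 D6227 (iv D4555) (iv F17810)
theorem F24028 : act 4 n6227 = n4551 := d27_1 D6227 (iv D4551) D4550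
theorem F24029 : act 8 n6227 = n4583 := d34_2 (iv F17812) D6227 (iv D4583)
def n6228 : Q := act 7 n4550
theorem D6228 : act 7 n4550 = n6228 := rfl
theorem F24030 : act 0 n6228 = n4561 := d6_1 D6228 (iv D4561) (iv F17809)
theorem F24031 : act 2 n6228 = n4556 := d19_1 D6228 (iv D4556) (iv F17810)
theorem F24032 : act 4 n6228 = n4552 := d28_1 D6228 (iv D4552) D4550
theorem F24033 : act 5 n6228 = n5689 := d31_1 D6228 (iv D5689) (iv F17811)
def n6229 : Q := act 7 n4551
theorem D6229 : act 7 n4551 = n6229 := rfl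
theorem F24034 : act 0 n6229 = n4562 := d6_1 D6229 (iv D4562) (iv F17813)
theorem F24035 : act 2 n6229 = n4557 := d19_1 D6229 (iv D4557) (iv F17814)
theorem F24036 : act 5 n6229 = n6229 := d31_1 D6229 (iv D6229) F17816
theorem F24037 : act 6 n6229 = n4552 := d33_1 D6229 (iv D4552) D4551
def n6230 : Q := act 3 n4552
theorem D6230 : act 3 n4552 = n6230 := rfl
theorem F24038 : act 0 n6230 = n4563 := d2_1 D6230 (iv D4563) (iv F17818)
theorem F24039 : act 2 n6230 = n6230 := d15_1 D6230 (iv D6230) F17819 F13249 (iv F17819)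
theorem F24040 : act 5 n6230 = n4553 := d22_2 (iv F17820) D6230 (iv D4553)
theorem F24041 : act 7 n6230 = n4911 := d24_2 D4552 D6230 (iv D4911) (iv D3588) (iv F13231)
def n6231 : Q := act 8 n4552
theorem D6231 : act 8 n4552 = n6231 := rfl
theorem F24042 : act 0 n6231 = n4564 := d7_1 D6231 (iv D4564) (iv F17818)
theorem F24043 : act 2 n6231 = n4558 := d20_1 D6231 (iv D4558) (iv F17819)
theorem F24044 : act 5 n6231 = n4554 := d32_1 D6231 (iv D4554) (iv F17820)
theorem F24045 : act 7 n6231 = n4587 := d35_1 D6231 (iv D4587) (iv D3352) (iv F13232) D4552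
def n6232 : Q := act 4 n4553
theorem D6232 : act 4 n4553 = n6232 := rfl
theorem F24046 : act 0 n6232 = n4565 := d3_1 D6232 (iv D4565) (iv F17821)
theorem F24047 : act 2 n6232 = n6232 := d16_1 D6232 (iv D6232) F17822
theorem F24048 : act 3 n6232 = n5693 := d21_1 D6232 (iv D5693) (iv D4171) (iv F13235) D4553
theorem F24049 : act 6 n6232 = n6232 := d27_2 F17823 D6232 (iv D6232)
theorem F24050 : act 7 n6232 = n4913 := d28_2 (iv F17824) D6232 (iv D4913)
def n6233 : Q := act 8 n4553
theorem D6233 : act 8 n4553 = n6233 := rfl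
theorem F24051 : act 0 n6233 = n4566 := d7_1 D6233 (iv D4566) (iv F17821)
theorem F24052 : act 2 n6233 = n6233 := d20_1 D6233 (iv D6233) F17822
theorem F24053 : act 3 n6233 = n4554 := d25_1 D6233 (iv D4554) D4553
theorem F24054 : act 6 n6233 = n6233 := d34_1 D6233 (iv D6233) F17823
def n6234 : Q := act 5 n4555
theorem D6234 : act 5 n4555 = n6234 := rfl
theorem F24056 : act 1 n6234 = n6044 := d11_1 D6234 (iv D6044) (iv F17831)
theorem F24057 : act 3 n6234 = n4633 := d22_1 D6234 (iv D4633) (iv F17832)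
def n6235 : Q := act 7 n4555
theorem D6235 : act 7 n4555 = n6235 := rfl
theorem F24061 : act 0 n6235 = n4568 := d6_1 D6235 (iv D4568) (iv F17830)
theorem F24062 : act 1 n6235 = n6045 := d13_1 D6235 (iv D6045) (iv F17831)
theorem F24063 : act 4 n6235 = n4557 := d28_1 D6235 (iv D4557) (iv F17833)
theorem F24064 : act 6 n6235 = n4556 := d33_1 D6235 (iv D4556) D4555
def n6236 : Q := act 3 n4556
theorem D6236 : act 3 n4556 = n6236 := rfl
theorem F24065 : act 0 n6236 = n4569 := d2_1 D6236 (iv D4569) (iv F17835)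
theorem F24066 : act 1 n6236 = n6046 := d9_1 D6236 (iv D6046) (iv F17836)
theorem F24067 : act 4 n6236 = n6236 := d21_2 (iv F17837) D6236 (iv D6236) F17837 F13249
theorem F24068 : act 5 n6236 = n5697 := d22_2 (iv F17838) D6236 (iv D5697)
theorem F24069 : act 7 n6236 = n4635 := d24_2 D4556 D6236 (iv D4635) (iv D3385) (iv F13239)
def n6237 : Q := act 8 n4556
theorem D6237 : act 8 n4556 = n6237 := rfl
theorem F24070 : act 0 n6237 = n4570 := d7_1 D6237 (iv D4570) (iv F17835)
theorem F24071 : act 1 n6237 = n6047 := d14_1 D6237 (iv D6047) (iv F17836)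
theorem F24072 : act 4 n6237 = n4558 := d29_1 D6237 (iv D4558) (iv F17837)
theorem F24073 : act 5 n6237 = n5698 := d32_1 D6237 (iv D5698) (iv F17838)
theorem F24074 : act 7 n6237 = n4593 := d35_1 D6237 (iv D4593) (iv D3356) (iv F13241) D4556
def n6238 : Q := act 8 n4557
theorem D6238 : act 8 n4557 = n6238 := rfl
theorem F24075 : act 0 n6238 = n4571 := d7_1 D6238 (iv D4571) (iv F17839)
theorem F24076 : act 1 n6238 = n6048 := d14_1 D6238 (iv D6048) (iv F17840)
theorem F24077 : act 3 n6238 = n6238 := d25_1 D6238 (iv D6238) F17841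
theorem F24078 : act 5 n6238 = n6238 := d32_1 D6238 (iv D6238) F17842
theorem F24079 : act 6 n6238 = n4558 := d34_1 D6238 (iv D4558) (iv F17843)
theorem F24080 : act 7 n6238 = n4594 := d35_1 D6238 (iv D4594) (iv D3357) (iv F13246) D4557
def n6239 : Q := act 6 n4559
theorem D6239 : act 6 n4559 = n6239 := rfl
theorem F24081 : act 2 n6239 = n4638 := d18_1 D6239 (iv D4638) (iv F17849)
theorem F24082 : act 3 n6239 = n4560 := d23_1 D6239 (iv D4560) D4559
theorem F24083 : act 4 n6239 = n4920 := d27_1 D6239 (iv D4920) (iv F17850)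
theorem F24084 : act 8 n6239 = n4595 := d34_2 (iv F17852) D6239 (iv D4595)
def n6240 : Q := act 7 n4559
theorem D6240 : act 7 n4559 = n6240 := rfl
theorem F24085 : act 2 n6240 = n4639 := d19_1 D6240 (iv D4639) (iv F17849)
theorem F24086 : act 4 n6240 = n4921 := d28_1 D6240 (iv D4921) (iv F17850)
theorem F24087 : act 5 n6240 = n5701 := d31_1 D6240 (iv D5701) (iv F17851)
def n6241 : Q := act 5 n4560
theorem D6241 : act 5 n4560 = n6241 := rfl
theorem F24088 : act 2 n6241 = n4567 := d17_1 D6241 (iv D4567) (iv F17853)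
def n6242 : Q := act 7 n4560
theorem D6242 : act 7 n4560 = n6242 := rfl
theorem F24092 : act 2 n6242 = n4568 := d19_1 D6242 (iv D4568) (iv F17853)
theorem F24093 : act 4 n6242 = n4562 := d28_1 D6242 (iv D4562) (iv F17854)
theorem F24094 : act 6 n6242 = n4561 := d33_1 D6242 (iv D4561) D4560
def n6243 : Q := act 3 n4561
theorem D6243 : act 3 n4561 = n6243 := rfl
theorem F24095 : act 5 n6243 = n5704 := d22_2 (iv F17858) D6243 (iv D5704)
def n6244 : Q := act 8 n4561
theorem D6244 : act 8 n4561 = n6244 := rfl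
theorem F24096 : act 2 n6244 = n4570 := d20_1 D6244 (iv D4570) (iv F17856)
theorem F24097 : act 4 n6244 = n4564 := d29_1 D6244 (iv D4564) (iv F17857)
theorem F24098 : act 5 n6244 = n5705 := d32_1 D6244 (iv D5705) (iv F17858)
theorem F24099 : act 7 n6244 = n4600 := d35_1 D6244 (iv D4600) (iv D3361) (iv F13259) D4561
def n6245 : Q := act 3 n4562
theorem D6245 : act 3 n4562 = n6245 := rfl
theorem F24100 : act 2 n6245 = n6245 := d15_1 D6245 (iv D6245) F17859 F13281 (iv F17859)
theorem F24101 : act 5 n6245 = n6245 := d22_2 F17860 D6245 (iv D6245)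
theorem F24102 : act 6 n6245 = n4563 := d23_2 (iv F17861) D6245 (iv D4563)
theorem F24103 : act 7 n6245 = n4926 := d24_2 D4562 D6245 (iv D4926) (iv D3598) (iv F13261)
def n6246 : Q := act 8 n4562
theorem D6246 : act 8 n4562 = n6246 := rfl
theorem F24104 : act 2 n6246 = n4571 := d20_1 D6246 (iv D4571) (iv F17859)
theorem F24105 : act 5 n6246 = n6246 := d32_1 D6246 (iv D6246) F17860
theorem F24106 : act 6 n6246 = n4564 := d34_1 D6246 (iv D4564) (iv F17861)
theorem F24107 : act 7 n6246 = n4602 := d35_1 D6246 (iv D4602) (iv D3362) (iv F13263) D4562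
def n6247 : Q := act 4 n4563
theorem D6247 : act 4 n4563 = n6247 := rfl
theorem F24108 : act 2 n6247 = n6247 := d16_1 D6247 (iv D6247) F17862
theorem F24109 : act 7 n6247 = n4928 := d28_2 (iv F17864) D6247 (iv D4928)
def n6248 : Q := act 8 n4563
theorem D6248 : act 8 n4563 = n6248 := rfl
theorem F24110 : act 2 n6248 = n6248 := d20_1 D6248 (iv D6248) F17862
theorem F24111 : act 3 n6248 = n4564 := d25_1 D6248 (iv D4564) D4563
theorem F24112 : act 5 n6248 = n4566 := d32_1 D6248 (iv D4566) (iv F17863)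
def n6249 : Q := act 5 n4565
theorem D6249 : act 5 n4565 = n6249 := rfl
theorem F24113 : act 2 n6249 = n6249 := d17_1 D6249 (iv D6249) F17868
theorem F24114 : act 3 n6249 = n5710 := d22_1 D6249 (iv D5710) (iv F17869)
theorem F24115 : act 7 n6249 = n4930 := d31_2 (iv F17871) D6249 (iv D4930)
def n6250 : Q := act 8 n4565
theorem D6250 : act 8 n4565 = n6250 := rfl
theorem F24116 : act 2 n6250 = n6250 := d20_1 D6250 (iv D6250) F17868
theorem F24117 : act 3 n6250 = n5711 := d25_1 D6250 (iv D5711) (iv F17869)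
theorem F24118 : act 4 n6250 = n4566 := d29_1 D6250 (iv D4566) D4565
theorem F24119 : act 6 n6250 = n6250 := d34_1 D6250 (iv D6250) F17870
def n6251 : Q := act 7 n4566
theorem D6251 : act 7 n4566 = n6251 := rfl
theorem F24120 : act 2 n6251 = n6251 := d19_1 D6251 (iv D6251) F17872
theorem F24121 : act 3 n6251 = n4607 := d24_1 D6251 (iv D4607) F13359 (iv F13272) (iv F17873)
theorem F24122 : act 6 n6251 = n6251 := d33_1 D6251 (iv D6251) F17874
theorem F24123 : act 8 n6251 = n4932 := d35_2 D4566 D6251 (iv D4932) (iv D3602) (iv F13268)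
def n6252 : Q := act 7 n4567
theorem D6252 : act 7 n4567 = n6252 := rfl
theorem F24126 : act 5 n6252 = n4568 := d31_1 D6252 (iv D4568) D4567
def n6253 : Q := act 3 n4568
theorem D6253 : act 3 n4568 = n6253 := rfl
theorem F24131 : act 7 n6253 = n4651 := d24_2 D4568 D6253 (iv D4651) (iv D3397) (iv F13274)
def n6254 : Q := act 8 n4568
theorem D6254 : act 8 n4568 = n6254 := rfl
theorem F24132 : act 1 n6254 = n4574 := d14_1 D6254 (iv D4574) (iv F17880)
theorem F24133 : act 4 n6254 = n4571 := d29_1 D6254 (iv D4571) (iv F17881)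
theorem F24134 : act 6 n6254 = n4570 := d34_1 D6254 (iv D4570) (iv F17882)
theorem F24135 : act 7 n6254 = n4610 := d35_1 D6254 (iv D4610) (iv D3368) (iv F13276) D4568
def n6255 : Q := act 2 n4569
theorem D6255 : act 2 n4569 = n6255 := rfl
theorem F24136 : act 4 n6255 = n6255 := d16_2 F17884 D6255 (iv D6255)
theorem F24137 : act 5 n6255 = n5716 := d17_2 (iv F17885) D6255 (iv D5716)
theorem F24138 : act 7 n6255 = n4653 := d19_2 (iv F17886) D6255 (iv D4653)
def n6256 : Q := act 8 n4569
theorem D6256 : act 8 n4569 = n6256 := rfl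
theorem F24139 : act 1 n6256 = n4576 := d14_1 D6256 (iv D4576) (iv F17883)
theorem F24140 : act 3 n6256 = n4570 := d25_1 D6256 (iv D4570) D4569
theorem F24141 : act 4 n6256 = n6256 := d29_1 D6256 (iv D6256) F17884
theorem F24142 : act 5 n6256 = n5717 := d32_1 D6256 (iv D5717) (iv F17885)
def n6258 : Q := act 8 n4572
theorem D6258 : act 8 n4572 = n6258 := rfl
theorem F24147 : act 0 n6258 = n6068 := d7_1 D6258 (iv D6068) (iv F17896)
theorem F24149 : act 5 n6258 = n4574 := d32_1 D6258 (iv D4574) (iv F17898)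
def n6259 : Q := act 2 n4573
theorem D6259 : act 2 n4573 = n6259 := rfl
theorem F24155 : act 7 n6259 = n4657 := d19_2 (iv F17903) D6259 (iv D4657)
def n6261 : Q := act 1 n4575
theorem D6261 : act 1 n4575 = n6261 := rfl
theorem F24162 : act 7 n6261 = n4659 := d13_2 (iv F17911) D6261 (iv D4659)
def n6262 : Q := act 8 n4575
theorem D6262 : act 8 n4575 = n6262 := rfl
theorem F24164 : act 2 n6262 = n4576 := d20_1 D6262 (iv D4576) D4575
def n6264 : Q := act 3 n4577
theorem D6264 : act 3 n4577 = n6264 := rfl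
theorem F24172 : act 1 n6264 = n4582 := d9_1 D6264 (iv D4582) (iv F17916)
theorem F24173 : act 4 n6264 = n4944 := d21_2 D4577 D6264 (iv D4944) (iv D3613) (iv F13310)
def n6265 : Q := act 6 n4577
theorem D6265 : act 6 n4577 = n6265 := rfl
theorem F24174 : act 1 n6265 = n4583 := d12_1 D6265 (iv D4583) (iv F17916)
theorem F24175 : act 4 n6265 = n4578 := d27_1 D6265 (iv D4578) D4577
def n6266 : Q := act 7 n4577
theorem D6266 : act 7 n4577 = n6266 := rfl
theorem F24176 : act 1 n6266 = n4584 := d13_1 D6266 (iv D4584) (iv F17916)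
theorem F24177 : act 4 n6266 = n4579 := d28_1 D6266 (iv D4579) D4577
def n6267 : Q := act 7 n4578
theorem D6267 : act 7 n4578 = n6267 := rfl
theorem F24178 : act 1 n6267 = n4585 := d13_1 D6267 (iv D4585) (iv F17917)
theorem F24179 : act 5 n6267 = n6267 := d31_1 D6267 (iv D6267) F17919
theorem F24180 : act 6 n6267 = n4579 := d33_1 D6267 (iv D4579) D4578
def n6268 : Q := act 3 n4579
theorem D6268 : act 3 n4579 = n6268 := rfl
theorem F24181 : act 1 n6268 = n4586 := d9_1 D6268 (iv D4586) (iv F17920)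
theorem F24182 : act 5 n6268 = n4580 := d22_2 (iv F17921) D6268 (iv D4580)
theorem F24183 : act 7 n6268 = n4948 := d24_2 D4579 D6268 (iv D4948) (iv D3615) (iv F13310)
def n6269 : Q := act 8 n4579
theorem D6269 : act 8 n4579 = n6269 := rfl
theorem F24184 : act 1 n6269 = n4587 := d14_1 D6269 (iv D4587) (iv F17920)
theorem F24185 : act 5 n6269 = n4581 := d32_1 D6269 (iv D4581) (iv F17921)
def n6270 : Q := act 2 n4580
theorem D6270 : act 2 n4580 = n6270 := rfl
theorem F24186 : act 1 n6270 = n4709 := d8_1 D6270 (iv D4709) F13619 (iv F13323) (iv F17922)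
theorem F24187 : act 6 n6270 = n6270 := d18_2 F17923 D6270 (iv D6270)
theorem F24188 : act 7 n6270 = n4950 := d19_2 (iv F17924) D6270 (iv D4950)
def n6271 : Q := act 4 n4580
theorem D6271 : act 4 n4580 = n6271 := rfl
theorem F24189 : act 1 n6271 = n4588 := d10_1 D6271 (iv D4588) (iv F17922)
theorem F24190 : act 6 n6271 = n6271 := d27_2 F17923 D6271 (iv D6271)
theorem F24191 : act 7 n6271 = n4951 := d28_2 (iv F17924) D6271 (iv D4951)
def n6272 : Q := act 8 n4580
theorem D6272 : act 8 n4580 = n6272 := rfl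
theorem F24192 : act 1 n6272 = n4589 := d14_1 D6272 (iv D4589) (iv F17922)
theorem F24193 : act 3 n6272 = n4581 := d25_1 D6272 (iv D4581) D4580
theorem F24194 : act 6 n6272 = n6272 := d34_1 D6272 (iv D6272) F17923
def n6273 : Q := act 6 n4582
theorem D6273 : act 6 n4582 = n6273 := rfl
theorem F24195 : act 0 n6273 = n4595 := d5_1 D6273 (iv D4595) (iv F17927)
theorem F24196 : act 2 n6273 = n4667 := d18_1 D6273 (iv D4667) (iv F17928)
theorem F24197 : act 3 n6273 = n4583 := d23_1 D6273 (iv D4583) D4582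
theorem F24198 : act 4 n6273 = n4953 := d27_1 D6273 (iv D4953) (iv F17929)
def n6274 : Q := act 7 n4582
theorem D6274 : act 7 n4582 = n6274 := rfl
theorem F24199 : act 0 n6274 = n4596 := d6_1 D6274 (iv D4596) (iv F17927)
theorem F24200 : act 2 n6274 = n4668 := d19_1 D6274 (iv D4668) (iv F17928)
theorem F24201 : act 4 n6274 = n4954 := d28_1 D6274 (iv D4954) (iv F17929)
def n6275 : Q := act 5 n4583
theorem D6275 : act 5 n4583 = n6275 := rfl
theorem F24202 : act 0 n6275 = n4597 := d4_1 D6275 (iv D4597) (iv F17930)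
theorem F24203 : act 2 n6275 = n4590 := d17_1 D6275 (iv D4590) (iv F17931)
theorem F24204 : act 4 n6275 = n6275 := d26_1 D6275 (iv D6275) F17932 F13318 (iv F17932)
def n6276 : Q := act 7 n4583
theorem D6276 : act 7 n4583 = n6276 := rfl
theorem F24205 : act 0 n6276 = n4598 := d6_1 D6276 (iv D4598) (iv F17930)
theorem F24206 : act 2 n6276 = n4591 := d19_1 D6276 (iv D4591) (iv F17931)
theorem F24207 : act 4 n6276 = n4585 := d28_1 D6276 (iv D4585) (iv F17932)
theorem F24208 : act 6 n6276 = n4584 := d33_1 D6276 (iv D4584) D4583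
def n6277 : Q := act 3 n4584
theorem D6277 : act 3 n4584 = n6277 := rfl
theorem F24209 : act 0 n6277 = n4599 := d2_1 D6277 (iv D4599) (iv F17933)
def n6278 : Q := act 8 n4584
theorem D6278 : act 8 n4584 = n6278 := rfl
theorem F24210 : act 0 n6278 = n4600 := d7_1 D6278 (iv D4600) (iv F17933)
theorem F24211 : act 2 n6278 = n4593 := d20_1 D6278 (iv D4593) (iv F17934)
theorem F24212 : act 4 n6278 = n4587 := d29_1 D6278 (iv D4587) (iv F17935)
def n6279 : Q := act 3 n4585
theorem D6279 : act 3 n4585 = n6279 := rfl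
theorem F24213 : act 0 n6279 = n4601 := d2_1 D6279 (iv D4601) (iv F17936)
theorem F24214 : act 2 n6279 = n4716 := d15_1 D6279 (iv D4716) F13637 (iv F13335) (iv F17937)
theorem F24215 : act 5 n6279 = n6279 := d22_2 F17938 D6279 (iv D6279)
theorem F24216 : act 6 n6279 = n4586 := d23_2 (iv F17939) D6279 (iv D4586)
theorem F24217 : act 7 n6279 = n4959 := d24_2 D4585 D6279 (iv D4959) (iv D3621) (iv F13317)
def n6280 : Q := act 8 n4585
theorem D6280 : act 8 n4585 = n6280 := rfl
theorem F24218 : act 0 n6280 = n4602 := d7_1 D6280 (iv D4602) (iv F17936)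
theorem F24219 : act 2 n6280 = n4594 := d20_1 D6280 (iv D4594) (iv F17937)
theorem F24220 : act 5 n6280 = n6280 := d32_1 D6280 (iv D6280) F17938
theorem F24221 : act 6 n6280 = n4587 := d34_1 D6280 (iv D4587) (iv F17939)
def n6281 : Q := act 4 n4586
theorem D6281 : act 4 n4586 = n6281 := rfl
theorem F24222 : act 0 n6281 = n4603 := d3_1 D6281 (iv D4603) (iv F17940)
theorem F24223 : act 2 n6281 = n4718 := d16_1 D6281 (iv D4718) (iv F17941)
theorem F24224 : act 7 n6281 = n4961 := d28_2 (iv F17943) D6281 (iv D4961)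
def n6282 : Q := act 8 n4586
theorem D6282 : act 8 n4586 = n6282 := rfl
theorem F24225 : act 0 n6282 = n4604 := d7_1 D6282 (iv D4604) (iv F17940)
theorem F24226 : act 2 n6282 = n4719 := d20_1 D6282 (iv D4719) (iv F17941)
theorem F24227 : act 3 n6282 = n4587 := d25_1 D6282 (iv D4587) D4586
theorem F24228 : act 5 n6282 = n4589 := d32_1 D6282 (iv D4589) (iv F17942)
def n6283 : Q := act 5 n4588
theorem D6283 : act 5 n4588 = n6283 := rfl
theorem F24229 : act 0 n6283 = n4605 := d4_1 D6283 (iv D4605) (iv F17947)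
theorem F24230 : act 2 n6283 = n4720 := d17_1 D6283 (iv D4720) (iv F17948)
theorem F24231 : act 7 n6283 = n4963 := d31_2 (iv F17950) D6283 (iv D4963)
def n6284 : Q := act 8 n4588
theorem D6284 : act 8 n4588 = n6284 := rfl
theorem F24232 : act 0 n6284 = n4606 := d7_1 D6284 (iv D4606) (iv F17947)
theorem F24233 : act 2 n6284 = n4721 := d20_1 D6284 (iv D4721) (iv F17948)
theorem F24234 : act 4 n6284 = n4589 := d29_1 D6284 (iv D4589) D4588
theorem F24235 : act 6 n6284 = n6284 := d34_1 D6284 (iv D6284) F17949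
def n6285 : Q := act 7 n4589
theorem D6285 : act 7 n4589 = n6285 := rfl
theorem F24236 : act 0 n6285 = n4607 := d6_1 D6285 (iv D4607) (iv F17951)
theorem F24237 : act 2 n6285 = n4722 := d19_1 D6285 (iv D4722) (iv F17952)
theorem F24238 : act 6 n6285 = n6285 := d33_1 D6285 (iv D6285) F17954
theorem F24239 : act 8 n6285 = n4965 := d35_2 D4589 D6285 (iv D4965) (iv D3625) (iv F13325)
def n6286 : Q := act 7 n4590
theorem D6286 : act 7 n4590 = n6286 := rfl
def n6287 : Q := act 3 n4591
theorem D6287 : act 3 n4591 = n6287 := rfl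
theorem F24245 : act 6 n6287 = n4592 := d23_2 (iv F17960) D6287 (iv D4592)
theorem F24246 : act 7 n6287 = n4675 := d24_2 D4591 D6287 (iv D4675) (iv D3416) (iv F13330)
def n6288 : Q := act 8 n4591
theorem D6288 : act 8 n4591 = n6288 := rfl
theorem F24247 : act 0 n6288 = n4610 := d7_1 D6288 (iv D4610) (iv F17958)
theorem F24248 : act 4 n6288 = n4594 := d29_1 D6288 (iv D4594) (iv F17959)
theorem F24249 : act 6 n6288 = n4593 := d34_1 D6288 (iv D4593) (iv F17960)
def n6289 : Q := act 2 n4592
theorem D6289 : act 2 n4592 = n6289 := rfl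
theorem F24250 : act 0 n6289 = n4611 := d1_1 D6289 (iv D4611) (iv F17961)
theorem F24251 : act 4 n6289 = n4726 := d16_2 (iv F17962) D6289 (iv D4726)
theorem F24252 : act 7 n6289 = n4677 := d19_2 (iv F17963) D6289 (iv D4677)
def n6290 : Q := act 8 n4592
theorem D6290 : act 8 n4592 = n6290 := rfl
theorem F24253 : act 0 n6290 = n4612 := d7_1 D6290 (iv D4612) (iv F17961)
theorem F24254 : act 3 n6290 = n4593 := d25_1 D6290 (iv D4593) D4592
theorem F24255 : act 4 n6290 = n4727 := d29_1 D6290 (iv D4727) (iv F17962)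
def n6291 : Q := act 5 n4595
theorem D6291 : act 5 n4595 = n6291 := rfl
theorem F24256 : act 2 n6291 = n4679 := d17_1 D6291 (iv D4679) (iv F17970)
theorem F24257 : act 3 n6291 = n4597 := d22_1 D6291 (iv D4597) (iv F17971)
def n6292 : Q := act 7 n4595
theorem D6292 : act 7 n4595 = n6292 := rfl
theorem F24258 : act 2 n6292 = n4680 := d19_1 D6292 (iv D4680) (iv F17970)
theorem F24259 : act 4 n6292 = n4969 := d28_1 D6292 (iv D4969) (iv F17972)
theorem F24260 : act 6 n6292 = n4596 := d33_1 D6292 (iv D4596) D4595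
def n6293 : Q := act 3 n4596
theorem D6293 : act 3 n4596 = n6293 := rfl
theorem F24261 : act 7 n6293 = n4599 := d24_2 D4596 D6293 (iv D4599) (iv D3361) D3359
def n6294 : Q := act 8 n4596
theorem D6294 : act 8 n4596 = n6294 := rfl
theorem F24262 : act 2 n6294 = n4682 := d20_1 D6294 (iv D4682) (iv F17973)
theorem F24263 : act 4 n6294 = n4971 := d29_1 D6294 (iv D4971) (iv F17974)
def n6295 : Q := act 7 n4597
theorem D6295 : act 7 n4597 = n6295 := rfl
def n6296 : Q := act 3 n4598
theorem D6296 : act 3 n4598 = n6296 := rfl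
theorem F24267 : act 6 n6296 = n4599 := d23_2 (iv F17979) D6296 (iv D4599)
def n6297 : Q := act 8 n4598
theorem D6297 : act 8 n4598 = n6297 := rfl
theorem F24268 : act 2 n6297 = n4610 := d20_1 D6297 (iv D4610) (iv F17977)
theorem F24269 : act 4 n6297 = n4602 := d29_1 D6297 (iv D4602) (iv F17978)
theorem F24270 : act 6 n6297 = n4600 := d34_1 D6297 (iv D4600) (iv F17979)
def n6298 : Q := act 2 n4599
theorem D6298 : act 2 n4599 = n6298 := rfl
theorem F24271 : act 3 n6298 = n4611 := d15_2 D4599 D6298 (iv D4611) (iv D3369) (iv F13345)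
def n6299 : Q := act 4 n4599
theorem D6299 : act 4 n4599 = n6299 := rfl
theorem F24272 : act 3 n6299 = n4603 := d21_1 D6299 (iv D4603) (iv D3363) (iv F13346) D4599
def n6300 : Q := act 8 n4599
theorem D6300 : act 8 n4599 = n6300 := rfl
theorem F24273 : act 3 n6300 = n4600 := d25_1 D6300 (iv D4600) D4599
def n6301 : Q := act 4 n4601
theorem D6301 : act 4 n4601 = n6301 := rfl
theorem F24274 : act 2 n6301 = n4734 := d16_1 D6301 (iv D4734) (iv F17982)
theorem F24275 : act 6 n6301 = n4603 := d27_2 (iv F17984) D6301 (iv D4603)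
theorem F24276 : act 7 n6301 = n4977 := d28_2 (iv F17985) D6301 (iv D4977)
def n6302 : Q := act 8 n4601
theorem D6302 : act 8 n4601 = n6302 := rfl
theorem F24277 : act 2 n6302 = n4735 := d20_1 D6302 (iv D4735) (iv F17982)
theorem F24278 : act 3 n6302 = n4602 := d25_1 D6302 (iv D4602) D4601
theorem F24279 : act 5 n6302 = n6302 := d32_1 D6302 (iv D6302) F17983
theorem F24280 : act 6 n6302 = n4604 := d34_1 D6302 (iv D4604) (iv F17984)
def n6303 : Q := act 5 n4603
theorem D6303 : act 5 n4603 = n6303 := rfl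
theorem F24281 : act 2 n6303 = n4736 := d17_1 D6303 (iv D4736) (iv F17989)
theorem F24282 : act 4 n6303 = n4605 := d26_1 D6303 (iv D4605) (iv D3365) (iv F13351) D4603
theorem F24283 : act 7 n6303 = n4979 := d31_2 (iv F17990) D6303 (iv D4979)
def n6304 : Q := act 8 n4603
theorem D6304 : act 8 n4603 = n6304 := rfl
theorem F24284 : act 2 n6304 = n4737 := d20_1 D6304 (iv D4737) (iv F17989)
theorem F24285 : act 4 n6304 = n4604 := d29_1 D6304 (iv D4604) D4603
def n6305 : Q := act 7 n4604
theorem D6305 : act 7 n4604 = n6305 := rfl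
theorem F24286 : act 2 n6305 = n4738 := d19_1 D6305 (iv D4738) (iv F17991)
theorem F24287 : act 5 n6305 = n4607 := d31_1 D6305 (iv D4607) (iv F17993)
theorem F24288 : act 8 n6305 = n4981 := d35_2 D4604 D6305 (iv D4981) (iv D3639) (iv F13352)
def n6306 : Q := act 6 n4605
theorem D6306 : act 6 n4605 = n6306 := rfl
theorem F24289 : act 2 n6306 = n4739 := d18_1 D6306 (iv D4739) (iv F17994)
theorem F24290 : act 5 n6306 = n6306 := d30_1 D6306 (iv D6306) (iv D4605) F13356 D4605
theorem F24291 : act 7 n6306 = n4982 := d33_2 (iv F17995) D6306 (iv D4982)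
def n6307 : Q := act 8 n4605
theorem D6307 : act 8 n4605 = n6307 := rfl
theorem F24292 : act 2 n6307 = n4740 := d20_1 D6307 (iv D4740) (iv F17994)
theorem F24293 : act 5 n6307 = n4606 := d32_1 D6307 (iv D4606) D4605
def n6308 : Q := act 7 n4606
theorem D6308 : act 7 n4606 = n6308 := rfl
theorem F24294 : act 2 n6308 = n4741 := d19_1 D6308 (iv D4741) (iv F17996)
theorem F24295 : act 4 n6308 = n4607 := d28_1 D6308 (iv D4607) (iv F17997)
theorem F24296 : act 6 n6308 = n6308 := d33_1 D6308 (iv D6308) F17998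
theorem F24297 : act 8 n6308 = n4984 := d35_2 D4606 D6308 (iv D4984) (iv D3641) (iv F13357)
def n6310 : Q := act 8 n4608
theorem D6310 : act 8 n4608 = n6310 := rfl
def n6311 : Q := act 2 n4609
theorem D6311 : act 2 n4609 = n6311 := rfl
theorem F24305 : act 6 n6311 = n4611 := d18_2 (iv F18007) D6311 (iv D4611)
theorem F24306 : act 7 n6311 = n4690 := d19_2 (iv F18008) D6311 (iv D4690)
def n6312 : Q := act 8 n4609
theorem D6312 : act 8 n4609 = n6312 := rfl
theorem F24308 : act 3 n6312 = n4610 := d25_1 D6312 (iv D4610) D4609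
theorem F24310 : act 6 n6312 = n4612 := d34_1 D6312 (iv D4612) (iv F18007)
def n6313 : Q := act 1 n4611
theorem D6313 : act 1 n4611 = n6313 := rfl
theorem F24311 : act 2 n6313 = n4617 := d8_2 D4611 D6313 (iv D4617) (iv D3375) (iv F13367)
theorem F24312 : act 4 n6313 = n4746 := d10_2 (iv F18012) D6313 (iv D4746)
theorem F24313 : act 7 n6313 = n4692 := d13_2 (iv F18013) D6313 (iv D4692)
def n6314 : Q := act 8 n4611
theorem D6314 : act 8 n4611 = n6314 := rfl
theorem F24314 : act 2 n6314 = n4612 := d20_1 D6314 (iv D4612) D4611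
theorem F24315 : act 4 n6314 = n4747 := d29_1 D6314 (iv D4747) (iv F18012)
def n6319 : Q := act 1 n4615
theorem D6319 : act 1 n4615 = n6319 := rfl
theorem F24327 : act 6 n6319 = n4617 := d12_2 (iv F18022) D6319 (iv D4617)
theorem F24328 : act 7 n6319 = n4698 := d13_2 (iv F18023) D6319 (iv D4698)
def n6320 : Q := act 8 n4615
theorem D6320 : act 8 n4615 = n6320 := rfl
theorem F24331 : act 6 n6320 = n4618 := d34_1 D6320 (iv D4618) (iv F18022)
def n6322 : Q := act 0 n4617
theorem D6322 : act 0 n4617 = n6322 := rfl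
theorem F24335 : act 4 n6322 = n4755 := d3_2 (iv F18027) D6322 (iv D4755)
theorem F24336 : act 7 n6322 = n4701 := d6_2 (iv F18028) D6322 (iv D4701)
def n6323 : Q := act 8 n4617
theorem D6323 : act 8 n4617 = n6323 := rfl
theorem F24337 : act 1 n6323 = n4618 := d14_1 D6323 (iv D4618) D4617
theorem F24338 : act 4 n6323 = n4756 := d29_1 D6323 (iv D4756) (iv F18027)
def n6325 : Q := act 3 n4620
theorem D6325 : act 3 n4620 = n6325 := rfl
theorem F24342 : act 0 n6325 = n6325 := d2_1 D6325 (iv D6325) F18033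
theorem F24343 : act 1 n6325 = n4625 := d9_1 D6325 (iv D4625) (iv F18034)
theorem F24344 : act 4 n6325 = n4986 := d21_2 D4620 D6325 (iv D4986) (iv D3646) (iv F13390)
theorem F24345 : act 5 n6325 = n5725 := d22_2 (iv F18036) D6325 (iv D5725)
theorem F24346 : act 8 n6325 = n4662 := d25_2 (iv F18037) D6325 (iv D4662)
def n6326 : Q := act 6 n4620
theorem D6326 : act 6 n4620 = n6326 := rfl
theorem F24347 : act 0 n6326 = n6326 := d5_1 D6326 (iv D6326) F18033
theorem F24348 : act 1 n6326 = n4626 := d12_1 D6326 (iv D4626) (iv F18034)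
theorem F24349 : act 2 n6326 = n6075 := d18_1 D6326 (iv D6075) (iv F18035)
theorem F24350 : act 4 n6326 = n4621 := d27_1 D6326 (iv D4621) D4620
theorem F24351 : act 8 n6326 = n4663 := d34_2 (iv F18037) D6326 (iv D4663)
def n6327 : Q := act 7 n4620
theorem D6327 : act 7 n4620 = n6327 := rfl
theorem F24352 : act 0 n6327 = n6327 := d6_1 D6327 (iv D6327) F18033
theorem F24353 : act 1 n6327 = n4627 := d13_1 D6327 (iv D4627) (iv F18034)
theorem F24354 : act 2 n6327 = n6076 := d19_1 D6327 (iv D6076) (iv F18035)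
theorem F24355 : act 4 n6327 = n4622 := d28_1 D6327 (iv D4622) D4620
theorem F24356 : act 5 n6327 = n5727 := d31_1 D6327 (iv D5727) (iv F18036)
def n6328 : Q := act 7 n4621
theorem D6328 : act 7 n4621 = n6328 := rfl
theorem F24358 : act 1 n6328 = n4628 := d13_1 D6328 (iv D4628) (iv F18039)
theorem F24359 : act 2 n6328 = n6077 := d19_1 D6328 (iv D6077) (iv F18040)
theorem F24360 : act 5 n6328 = n5324 := d31_1 D6328 (iv D5324) (iv F18042)
theorem F24361 : act 6 n6328 = n4622 := d33_1 D6328 (iv D4622) D4621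
def n6329 : Q := act 3 n4622
theorem D6329 : act 3 n4622 = n6329 := rfl
theorem F24362 : act 0 n6329 = n6329 := d2_1 D6329 (iv D6329) F18044
theorem F24363 : act 1 n6329 = n4629 := d9_1 D6329 (iv D4629) (iv F18045)
theorem F24364 : act 5 n6329 = n4623 := d22_2 (iv F18047) D6329 (iv D4623)
theorem F24365 : act 7 n6329 = n4990 := d24_2 D4622 D6329 (iv D4990) (iv D3648) (iv F13390)
def n6330 : Q := act 8 n4622
theorem D6330 : act 8 n4622 = n6330 := rfl
theorem F24369 : act 5 n6330 = n4624 := d32_1 D6330 (iv D4624) (iv F18047)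
def n6331 : Q := act 2 n4623
theorem D6331 : act 2 n4623 = n6331 := rfl
theorem F24371 : act 0 n6331 = n6331 := d1_1 D6331 (iv D6331) F18048
theorem F24372 : act 1 n6331 = n6331 := d8_1 D6331 (iv D6331) F18049 F13410 (iv F18049)
theorem F24373 : act 3 n6331 = n6080 := d15_2 D4623 D6331 (iv D6080) (iv D4447) (iv F13394)
theorem F24374 : act 6 n6331 = n5327 := d18_2 (iv F18050) D6331 (iv D5327)
theorem F24375 : act 7 n6331 = n4991 := d19_2 (iv F18051) D6331 (iv D4991)
def n6332 : Q := act 4 n4623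
theorem D6332 : act 4 n4623 = n6332 := rfl
theorem F24380 : act 7 n6332 = n4992 := d28_2 (iv F18051) D6332 (iv D4992)
def n6333 : Q := act 8 n4623
theorem D6333 : act 8 n4623 = n6333 := rfl
theorem F24381 : act 0 n6333 = n6333 := d7_1 D6333 (iv D6333) F18048
theorem F24382 : act 1 n6333 = n4632 := d14_1 D6333 (iv D4632) (iv F18049)
theorem F24383 : act 3 n6333 = n4624 := d25_1 D6333 (iv D4624) D4623
theorem F24385 : act 7 n6333 = n6333 := d35_1 D6333 (iv D6333) F18051 F14394 (iv F18051)
def n6334 : Q := act 6 n4625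
theorem D6334 : act 6 n4625 = n6334 := rfl
theorem F24386 : act 0 n6334 = n4638 := d5_1 D6334 (iv D4638) (iv F18058)
theorem F24387 : act 3 n6334 = n4626 := d23_1 D6334 (iv D4626) D4625
theorem F24388 : act 4 n6334 = n4993 := d27_1 D6334 (iv D4993) (iv F18059)
theorem F24389 : act 8 n6334 = n4667 := d34_2 (iv F18061) D6334 (iv D4667)
def n6335 : Q := act 7 n4625
theorem D6335 : act 7 n4625 = n6335 := rfl
theorem F24390 : act 0 n6335 = n4639 := d6_1 D6335 (iv D4639) (iv F18058)
theorem F24391 : act 4 n6335 = n4994 := d28_1 D6335 (iv D4994) (iv F18059)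
theorem F24392 : act 5 n6335 = n5734 := d31_1 D6335 (iv D5734) (iv F18060)
def n6336 : Q := act 5 n4626
theorem D6336 : act 5 n4626 = n6336 := rfl
theorem F24395 : act 4 n6336 = n5332 := d26_1 D6336 (iv D5332) F15347 (iv F13404) (iv F18064)
def n6337 : Q := act 7 n4626
theorem D6337 : act 7 n4626 = n6337 := rfl
theorem F24400 : act 4 n6337 = n4628 := d28_1 D6337 (iv D4628) (iv F18064)
def n6338 : Q := act 3 n4627
theorem D6338 : act 3 n4627 = n6338 := rfl
theorem F24402 : act 0 n6338 = n4642 := d2_1 D6338 (iv D4642) (iv F18066)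
theorem F24403 : act 5 n6338 = n5737 := d22_2 (iv F18069) D6338 (iv D5737)
def n6339 : Q := act 8 n4627
theorem D6339 : act 8 n4627 = n6339 := rfl
theorem F24406 : act 4 n6339 = n4630 := d29_1 D6339 (iv D4630) (iv F18068)
def n6340 : Q := act 3 n4628
theorem D6340 : act 3 n4628 = n6340 := rfl
theorem F24412 : act 6 n6340 = n4629 := d23_2 (iv F18073) D6340 (iv D4629)
theorem F24413 : act 7 n6340 = n4998 := d24_2 D4628 D6340 (iv D4998) (iv D3653) (iv F13403)
def n6341 : Q := act 8 n4628
theorem D6341 : act 8 n4628 = n6341 := rfl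
theorem F24416 : act 5 n6341 = n5337 := d32_1 D6341 (iv D5337) (iv F18072)
def n6342 : Q := act 4 n4629
theorem D6342 : act 4 n4629 = n6342 := rfl
theorem F24419 : act 0 n6342 = n4646 := d3_1 D6342 (iv D4646) (iv F18074)
theorem F24420 : act 2 n6342 = n6342 := d16_1 D6342 (iv D6342) F18075
theorem F24421 : act 7 n6342 = n4999 := d28_2 (iv F18077) D6342 (iv D4999)
def n6343 : Q := act 8 n4629
theorem D6343 : act 8 n4629 = n6343 := rfl
theorem F24425 : act 5 n6343 = n4632 := d32_1 D6343 (iv D4632) (iv F18076)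
def n6344 : Q := act 5 n4631
theorem D6344 : act 5 n4631 = n6344 := rfl
theorem F24430 : act 7 n6344 = n5000 := d31_2 (iv F18086) D6344 (iv D5000)
def n6345 : Q := act 8 n4631
theorem D6345 : act 8 n4631 = n6345 := rfl
theorem F24434 : act 4 n6345 = n4632 := d29_1 D6345 (iv D4632) D4631
def n6346 : Q := act 7 n4633
theorem D6346 : act 7 n4633 = n6346 := rfl
theorem F24439 : act 4 n6346 = n5342 := d28_1 D6346 (iv D5342) (iv F18094)
def n6347 : Q := act 3 n4634
theorem D6347 : act 3 n4634 = n6347 := rfl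
def n6348 : Q := act 8 n4634
theorem D6348 : act 8 n4634 = n6348 := rfl
def n6349 : Q := act 2 n4635
theorem D6349 : act 2 n4635 = n6349 := rfl
theorem F24453 : act 5 n6349 = n5749 := d17_2 (iv F18104) D6349 (iv D5749)
def n6351 : Q := act 5 n4638
theorem D6351 : act 5 n4638 = n6351 := rfl
theorem F24460 : act 3 n6351 = n4640 := d22_1 D6351 (iv D4640) (iv F18117)
def n6352 : Q := act 7 n4638
theorem D6352 : act 7 n4638 = n6352 := rfl
theorem F24463 : act 1 n6352 = n6352 := d13_1 D6352 (iv D6352) F18116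
theorem F24464 : act 4 n6352 = n5005 := d28_1 D6352 (iv D5005) (iv F18118)
theorem F24465 : act 6 n6352 = n4639 := d33_1 D6352 (iv D4639) D4638
def n6353 : Q := act 3 n4639
theorem D6353 : act 3 n4639 = n6353 := rfl
theorem F24466 : act 1 n6353 = n6353 := d9_1 D6353 (iv D6353) F18120
theorem F24467 : act 5 n6353 = n5753 := d22_2 (iv F18122) D6353 (iv D5753)
theorem F24468 : act 7 n6353 = n4642 := d24_2 D4639 D6353 (iv D4642) (iv D3390) D3388
def n6354 : Q := act 8 n4639
theorem D6354 : act 8 n4639 = n6354 := rfl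
theorem F24469 : act 1 n6354 = n6354 := d14_1 D6354 (iv D6354) F18120
theorem F24470 : act 4 n6354 = n5007 := d29_1 D6354 (iv D5007) (iv F18121)
theorem F24471 : act 5 n6354 = n5754 := d32_1 D6354 (iv D5754) (iv F18122)
theorem F24472 : act 7 n6354 = n4682 := d35_1 D6354 (iv D4682) (iv D3421) (iv F13439) D4639
def n6355 : Q := act 7 n4640
theorem D6355 : act 7 n4640 = n6355 := rfl
theorem F24476 : act 5 n6355 = n4641 := d31_1 D6355 (iv D4641) D4640
def n6356 : Q := act 3 n4641
theorem D6356 : act 3 n4641 = n6356 := rfl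
def n6357 : Q := act 8 n4641
theorem D6357 : act 8 n4641 = n6357 := rfl
theorem F24482 : act 4 n6357 = n4645 := d29_1 D6357 (iv D4645) (iv F18130)
def n6358 : Q := act 2 n4642
theorem D6358 : act 2 n4642 = n6358 := rfl
theorem F24485 : act 3 n6358 = n4653 := d15_2 D4642 D6358 (iv D4653) (iv D3398) (iv F13445)
def n6359 : Q := act 4 n4642
theorem D6359 : act 4 n4642 = n6359 := rfl
theorem F24487 : act 1 n6359 = n6359 := d10_1 D6359 (iv D6359) F18132
theorem F24488 : act 3 n6359 = n4646 := d21_1 D6359 (iv D4646) (iv D3392) (iv F13446) D4642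
def n6361 : Q := act 4 n4644
theorem D6361 : act 4 n4644 = n6361 := rfl
theorem F24494 : act 6 n6361 = n4646 := d27_2 (iv F18142) D6361 (iv D4646)
theorem F24495 : act 7 n6361 = n5012 := d28_2 (iv F18143) D6361 (iv D5012)
def n6363 : Q := act 5 n4646
theorem D6363 : act 5 n4646 = n6363 := rfl
theorem F24504 : act 4 n6363 = n4648 := d26_1 D6363 (iv D4648) (iv D3394) (iv F13454) D4646
theorem F24505 : act 7 n6363 = n5013 := d31_2 (iv F18151) D6363 (iv D5013)
def n6364 : Q := act 8 n4646
theorem D6364 : act 8 n4646 = n6364 := rfl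
theorem F24508 : act 4 n6364 = n4647 := d29_1 D6364 (iv D4647) D4646
def n6365 : Q := act 6 n4648
theorem D6365 : act 6 n4648 = n6365 := rfl
theorem F24513 : act 5 n6365 = n5361 := d30_1 D6365 (iv D5361) (iv D3923) (iv F13463) D4648
theorem F24514 : act 7 n6365 = n5014 := d33_2 (iv F18160) D6365 (iv D5014)
def n6367 : Q := act 3 n4650
theorem D6367 : act 3 n4650 = n6367 := rfl
theorem F24521 : act 5 n6367 = n4651 := d22_2 (iv F18169) D6367 (iv D4651)
def n6368 : Q := act 8 n4650
theorem D6368 : act 8 n4650 = n6368 := rfl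
theorem F24525 : act 5 n6368 = n4652 := d32_1 D6368 (iv D4652) (iv F18169)
def n6369 : Q := act 2 n4651
theorem D6369 : act 2 n4651 = n6369 := rfl
def n6370 : Q := act 8 n4651
theorem D6370 : act 8 n4651 = n6370 := rfl
theorem F24531 : act 3 n6370 = n4652 := d25_1 D6370 (iv D4652) D4651
def n6371 : Q := act 1 n4653
theorem D6371 : act 1 n4653 = n6371 := rfl
theorem F24534 : act 2 n6371 = n4659 := d8_2 D4653 D6371 (iv D4659) (iv D3404) (iv F13477)
def n6373 : Q := act 7 n4654
theorem D6373 : act 7 n4654 = n6373 := rfl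
def n6374 : Q := act 2 n4655
theorem D6374 : act 2 n4655 = n6374 := rfl
theorem F24546 : act 5 n6374 = n4657 := d17_2 (iv F18185) D6374 (iv D4657)
def n6375 : Q := act 4 n4655
theorem D6375 : act 4 n4655 = n6375 := rfl
def n6376 : Q := act 8 n4655
theorem D6376 : act 8 n4655 = n6376 := rfl
theorem F24554 : act 5 n6376 = n4658 := d32_1 D6376 (iv D4658) (iv F18185)
def n6377 : Q := act 1 n4657
theorem D6377 : act 1 n4657 = n6377 := rfl
def n6378 : Q := act 8 n4657
theorem D6378 : act 8 n4657 = n6378 := rfl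
theorem F24560 : act 2 n6378 = n4658 := d20_1 D6378 (iv D4658) D4657
def n6380 : Q := act 0 n4659
theorem D6380 : act 0 n4659 = n6380 := rfl
def n6383 : Q := act 2 n4662
theorem D6383 : act 2 n4662 = n6383 := rfl
theorem F24580 : act 0 n6383 = n6383 := d1_1 D6383 (iv D6383) F18213
theorem F24581 : act 4 n6383 = n5022 := d16_2 (iv F18215) D6383 (iv D5022)
def n6384 : Q := act 6 n4662
theorem D6384 : act 6 n4662 = n6384 := rfl
theorem F24582 : act 0 n6384 = n6384 := d5_1 D6384 (iv D6384) F18213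
theorem F24583 : act 1 n6384 = n4667 := d12_1 D6384 (iv D4667) (iv F18214)
theorem F24584 : act 3 n6384 = n4663 := d23_1 D6384 (iv D4663) D4662
theorem F24585 : act 4 n6384 = n5023 := d27_1 D6384 (iv D5023) (iv F18215)
def n6385 : Q := act 7 n4662
theorem D6385 : act 7 n4662 = n6385 := rfl
theorem F24586 : act 0 n6385 = n6385 := d6_1 D6385 (iv D6385) F18213
theorem F24587 : act 1 n6385 = n4668 := d13_1 D6385 (iv D4668) (iv F18214)
theorem F24588 : act 4 n6385 = n5024 := d28_1 D6385 (iv D5024) (iv F18215)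
def n6386 : Q := act 5 n4663
theorem D6386 : act 5 n4663 = n6386 := rfl
theorem F24591 : act 4 n6386 = n5382 := d26_1 D6386 (iv D5382) F15500 (iv F13515) (iv F18218)
def n6387 : Q := act 7 n4663
theorem D6387 : act 7 n4663 = n6387 := rfl
theorem F24594 : act 4 n6387 = n4665 := d28_1 D6387 (iv D4665) (iv F18218)
theorem F24595 : act 6 n6387 = n4664 := d33_1 D6387 (iv D4664) D4663
def n6388 : Q := act 3 n4664
theorem D6388 : act 3 n4664 = n6388 := rfl
theorem F24596 : act 0 n6388 = n6388 := d2_1 D6388 (iv D6388) F18219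
theorem F24597 : act 1 n6388 = n4671 := d9_1 D6388 (iv D4671) (iv F18220)
theorem F24598 : act 4 n6388 = n6388 := d21_2 (iv F18221) D6388 (iv D6388) F18221 F13518
def n6391 : Q := act 5 n4667
theorem D6391 : act 5 n4667 = n6391 := rfl
theorem F24608 : act 3 n6391 = n4669 := d22_1 D6391 (iv D4669) (iv F18232)
def n6392 : Q := act 7 n4667
theorem D6392 : act 7 n4667 = n6392 := rfl
theorem F24609 : act 0 n6392 = n4680 := d6_1 D6392 (iv D4680) (iv F18231)
theorem F24610 : act 4 n6392 = n5027 := d28_1 D6392 (iv D5027) (iv F18233)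
theorem F24611 : act 6 n6392 = n4668 := d33_1 D6392 (iv D4668) D4667
def n6393 : Q := act 3 n4668
theorem D6393 : act 3 n4668 = n6393 := rfl
theorem F24612 : act 0 n6393 = n4681 := d2_1 D6393 (iv D4681) (iv F18234)
theorem F24613 : act 4 n6393 = n6393 := d21_2 (iv F18235) D6393 (iv D6393) F18235 F14502
theorem F24614 : act 7 n6393 = n4671 := d24_2 D4668 D6393 (iv D4671) (iv D3412) D3410
def n6394 : Q := act 8 n4668
theorem D6394 : act 8 n4668 = n6394 := rfl
theorem F24615 : act 0 n6394 = n4682 := d7_1 D6394 (iv D4682) (iv F18234)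
theorem F24616 : act 4 n6394 = n5028 := d29_1 D6394 (iv D5028) (iv F18235)
def n6396 : Q := act 3 n4670
theorem D6396 : act 3 n4670 = n6396 := rfl
theorem F24623 : act 6 n6396 = n4671 := d23_2 (iv F18242) D6396 (iv D4671)
def n6398 : Q := act 2 n4671
theorem D6398 : act 2 n4671 = n6398 := rfl
theorem F24628 : act 0 n6398 = n4686 := d1_1 D6398 (iv D4686) (iv F18243)
theorem F24629 : act 3 n6398 = n4677 := d15_2 D4671 D6398 (iv D4677) (iv D3417) (iv F13530)
theorem F24630 : act 4 n6398 = n6398 := d16_2 F18244 D6398 (iv D6398)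
def n6402 : Q := act 2 n4675
theorem D6402 : act 2 n4675 = n6402 := rfl
theorem F24641 : act 6 n6402 = n4677 := d18_2 (iv F18258) D6402 (iv D4677)
def n6404 : Q := act 1 n4677
theorem D6404 : act 1 n4677 = n6404 := rfl
theorem F24646 : act 4 n6404 = n4762 := d10_2 (iv F18263) D6404 (iv D4762)
def n6407 : Q := act 4 n4679
theorem D6407 : act 4 n4679 = n6407 := rfl
theorem F24653 : act 3 n6407 = n5403 := d21_1 D6407 (iv D5403) F15551 (iv F13561) (iv F18268)
theorem F24654 : act 5 n6407 = n5029 := d26_2 D4679 D6407 (iv D5029) (iv D3678) (iv F13556)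
def n6408 : Q := act 7 n4679
theorem D6408 : act 7 n4679 = n6408 := rfl
def n6409 : Q := act 3 n4680
theorem D6409 : act 3 n4680 = n6409 := rfl
theorem F24659 : act 6 n6409 = n4681 := d23_2 (iv F18271) D6409 (iv D4681)
theorem F24660 : act 7 n6409 = n4684 := d24_2 D4680 D6409 (iv D4684) (iv D3423) (iv F13555)
def n6410 : Q := act 8 n4680
theorem D6410 : act 8 n4680 = n6410 := rfl
theorem F24661 : act 1 n6410 = n6410 := d14_1 D6410 (iv D6410) F18269
theorem F24662 : act 4 n6410 = n5031 := d29_1 D6410 (iv D5031) (iv F18270)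
theorem F24663 : act 6 n6410 = n4682 := d34_1 D6410 (iv D4682) (iv F18271)
def n6411 : Q := act 2 n4681
theorem D6411 : act 2 n4681 = n6411 := rfl
theorem F24664 : act 4 n6411 = n6411 := d16_2 F18273 D6411 (iv D6411)
theorem F24665 : act 7 n6411 = n4686 := d19_2 (iv F18274) D6411 (iv D4686)
def n6412 : Q := act 8 n4681
theorem D6412 : act 8 n4681 = n6412 := rfl
theorem F24666 : act 1 n6412 = n6412 := d14_1 D6412 (iv D6412) F18272
theorem F24667 : act 3 n6412 = n4682 := d25_1 D6412 (iv D4682) D4681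
theorem F24668 : act 4 n6412 = n6412 := d29_1 D6412 (iv D6412) F18273
def n6413 : Q := act 3 n4683
theorem D6413 : act 3 n4683 = n6413 := rfl
theorem F24670 : act 5 n6413 = n4684 := d22_2 (iv F18280) D6413 (iv D4684)
def n6415 : Q := act 2 n4684
theorem D6415 : act 2 n4684 = n6415 := rfl
theorem F24677 : act 6 n6415 = n4686 := d18_2 (iv F18283) D6415 (iv D4686)
def n6417 : Q := act 1 n4686
theorem D6417 : act 1 n4686 = n6417 := rfl
theorem F24682 : act 2 n6417 = n6417 := d8_2 D4686 D6417 (iv D6417) (iv D4686) F13566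
theorem F24683 : act 3 n6417 = n4692 := d9_2 (iv F18288) D6417 (iv D4692)
theorem F24684 : act 4 n6417 = n6417 := d10_2 F18289 D6417 (iv D6417)
def n6420 : Q := act 2 n4688
theorem D6420 : act 2 n4688 = n6420 := rfl
theorem F24690 : act 5 n6420 = n4690 := d17_2 (iv F18294) D6420 (iv D4690)
def n6423 : Q := act 1 n4690
theorem D6423 : act 1 n4690 = n6423 := rfl
theorem F24698 : act 4 n6423 = n4768 := d10_2 (iv F18298) D6423 (iv D4768)
theorem F24699 : act 6 n6423 = n4692 := d12_2 (iv F18299) D6423 (iv D4692)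
def n6426 : Q := act 0 n4692
theorem D6426 : act 0 n4692 = n6426 := rfl
theorem F24706 : act 2 n6426 = n4701 := d1_2 (iv F18304) D6426 (iv D4701)
theorem F24707 : act 4 n6426 = n4771 := d3_2 (iv F18305) D6426 (iv D4771)
def n6429 : Q := act 1 n4695
theorem D6429 : act 1 n4695 = n6429 := rfl
theorem F24714 : act 5 n6429 = n4698 := d11_2 (iv F18311) D6429 (iv D4698)
def n6434 : Q := act 0 n4698
theorem D6434 : act 0 n4698 = n6434 := rfl
theorem F24725 : act 4 n6434 = n4779 := d3_2 (iv F18317) D6434 (iv D4779)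
theorem F24726 : act 6 n6434 = n4701 := d5_2 (iv F18318) D6434 (iv D4701)
def n6441 : Q := act 7 n4704
theorem D6441 : act 7 n4704 = n6441 := rfl
theorem F24747 : act 1 n6441 = n4713 := d13_1 D6441 (iv D4713) (iv F18333)
theorem F24748 : act 4 n6441 = n4706 := d28_1 D6441 (iv D4706) (iv F18335)
theorem F24749 : act 6 n6441 = n4705 := d33_1 D6441 (iv D4705) D4704
def n6442 : Q := act 3 n4705
theorem D6442 : act 3 n4705 = n6442 := rfl
theorem F24750 : act 0 n6442 = n6442 := d2_1 D6442 (iv D6442) F18337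
theorem F24751 : act 1 n6442 = n4714 := d9_1 D6442 (iv D4714) (iv F18338)
theorem F24752 : act 5 n6442 = n6442 := d22_2 F18340 D6442 (iv D6442)
theorem F24753 : act 7 n6442 = n6442 := d24_2 D4705 D6442 (iv D6442) (iv D4705) F13607
def n6443 : Q := act 8 n4705
theorem D6443 : act 8 n4705 = n6443 := rfl
theorem F24754 : act 0 n6443 = n6443 := d7_1 D6443 (iv D6443) F18337
theorem F24755 : act 1 n6443 = n4715 := d14_1 D6443 (iv D4715) (iv F18338)
theorem F24756 : act 4 n6443 = n4708 := d29_1 D6443 (iv D4708) (iv F18339)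
theorem F24757 : act 5 n6443 = n6443 := d32_1 D6443 (iv D6443) F18340
theorem F24758 : act 7 n6443 = n6443 := d35_1 D6443 (iv D6443) (iv D4705) F13609 D4705
def n6444 : Q := act 3 n4706
theorem D6444 : act 3 n4706 = n6444 := rfl
theorem F24759 : act 0 n6444 = n6444 := d2_1 D6444 (iv D6444) F18341
theorem F24760 : act 1 n6444 = n4716 := d9_1 D6444 (iv D4716) (iv F18342)
theorem F24761 : act 5 n6444 = n6444 := d22_2 F18343 D6444 (iv D6444)
theorem F24762 : act 6 n6444 = n4707 := d23_2 (iv F18344) D6444 (iv D4707)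
theorem F24763 : act 7 n6444 = n5032 := d24_2 D4706 D6444 (iv D5032) (iv D3681) (iv F13612)
def n6445 : Q := act 8 n4706
theorem D6445 : act 8 n4706 = n6445 := rfl
theorem F24764 : act 0 n6445 = n6445 := d7_1 D6445 (iv D6445) F18341
theorem F24765 : act 1 n6445 = n4717 := d14_1 D6445 (iv D4717) (iv F18342)
theorem F24766 : act 5 n6445 = n6445 := d32_1 D6445 (iv D6445) F18343
theorem F24767 : act 6 n6445 = n4708 := d34_1 D6445 (iv D4708) (iv F18344)
theorem F24768 : act 7 n6445 = n6445 := d35_1 D6445 (iv D6445) (iv D4706) F13614 D4706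
def n6446 : Q := act 2 n4707
theorem D6446 : act 2 n4707 = n6446 := rfl
theorem F24769 : act 0 n6446 = n6446 := d1_1 D6446 (iv D6446) F18345
theorem F24770 : act 5 n6446 = n4709 := d17_2 (iv F18347) D6446 (iv D4709)
theorem F24771 : act 7 n6446 = n5034 := d19_2 (iv F18348) D6446 (iv D5034)
def n6447 : Q := act 4 n4707
theorem D6447 : act 4 n4707 = n6447 := rfl
theorem F24772 : act 0 n6447 = n6447 := d3_1 D6447 (iv D6447) F18345
theorem F24773 : act 1 n6447 = n4718 := d10_1 D6447 (iv D4718) (iv F18346)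
theorem F24774 : act 7 n6447 = n5035 := d28_2 (iv F18348) D6447 (iv D5035)
def n6448 : Q := act 8 n4707
theorem D6448 : act 8 n4707 = n6448 := rfl
theorem F24775 : act 0 n6448 = n6448 := d7_1 D6448 (iv D6448) F18345
theorem F24776 : act 1 n6448 = n4719 := d14_1 D6448 (iv D4719) (iv F18346)
theorem F24777 : act 3 n6448 = n4708 := d25_1 D6448 (iv D4708) D4707
theorem F24778 : act 5 n6448 = n4711 := d32_1 D6448 (iv D4711) (iv F18347)
def n6449 : Q := act 4 n4709
theorem D6449 : act 4 n4709 = n6449 := rfl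
theorem F24779 : act 0 n6449 = n6449 := d3_1 D6449 (iv D6449) F18353
theorem F24780 : act 2 n6449 = n4710 := d16_1 D6449 (iv D4710) D4709
theorem F24781 : act 6 n6449 = n6449 := d27_2 F18354 D6449 (iv D6449)
theorem F24782 : act 7 n6449 = n5037 := d28_2 (iv F18355) D6449 (iv D5037)
def n6450 : Q := act 8 n4709
theorem D6450 : act 8 n4709 = n6450 := rfl
theorem F24783 : act 0 n6450 = n6450 := d7_1 D6450 (iv D6450) F18353
theorem F24784 : act 2 n6450 = n4711 := d20_1 D6450 (iv D4711) D4709
theorem F24785 : act 6 n6450 = n6450 := d34_1 D6450 (iv D6450) F18354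
def n6451 : Q := act 5 n4710
theorem D6451 : act 5 n4710 = n6451 := rfl
theorem F24786 : act 0 n6451 = n6451 := d4_1 D6451 (iv D6451) F18356
theorem F24787 : act 1 n6451 = n4720 := d11_1 D6451 (iv D4720) (iv F18357)
theorem F24788 : act 3 n6451 = n6451 := d22_1 D6451 (iv D6451) F18358
theorem F24789 : act 7 n6451 = n5039 := d31_2 (iv F18360) D6451 (iv D5039)
def n6452 : Q := act 8 n4710
theorem D6452 : act 8 n4710 = n6452 := rfl
theorem F24790 : act 0 n6452 = n6452 := d7_1 D6452 (iv D6452) F18356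
theorem F24791 : act 1 n6452 = n4721 := d14_1 D6452 (iv D4721) (iv F18357)
theorem F24792 : act 3 n6452 = n6452 := d25_1 D6452 (iv D6452) F18358
theorem F24793 : act 4 n6452 = n4711 := d29_1 D6452 (iv D4711) D4710
theorem F24794 : act 6 n6452 = n6452 := d34_1 D6452 (iv D6452) F18359
def n6453 : Q := act 7 n4711
theorem D6453 : act 7 n4711 = n6453 := rfl
theorem F24795 : act 0 n6453 = n6453 := d6_1 D6453 (iv D6453) F18361
theorem F24796 : act 1 n6453 = n4722 := d13_1 D6453 (iv D4722) (iv F18362)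
theorem F24797 : act 3 n6453 = n6453 := d24_1 D6453 (iv D6453) F18363 F13626 (iv F18363)
theorem F24798 : act 6 n6453 = n6453 := d33_1 D6453 (iv D6453) F18364
theorem F24799 : act 8 n6453 = n5041 := d35_2 D4711 D6453 (iv D5041) (iv D3686) (iv F13621)
def n6455 : Q := act 3 n4713
theorem D6455 : act 3 n4713 = n6455 := rfl
theorem F24806 : act 6 n6455 = n4714 := d23_2 (iv F18374) D6455 (iv D4714)
def n6456 : Q := act 8 n4713
theorem D6456 : act 8 n4713 = n6456 := rfl
theorem F24810 : act 4 n6456 = n4717 := d29_1 D6456 (iv D4717) (iv F18373)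
theorem F24811 : act 6 n6456 = n4715 := d34_1 D6456 (iv D4715) (iv F18374)
def n6457 : Q := act 2 n4714
theorem D6457 : act 2 n4714 = n6457 := rfl
theorem F24813 : act 0 n6457 = n4731 := d1_1 D6457 (iv D4731) (iv F18375)
theorem F24814 : act 3 n6457 = n4726 := d15_2 D4714 D6457 (iv D4726) (iv D3453) (iv F13633)
theorem F24815 : act 5 n6457 = n6457 := d17_2 F18376 D6457 (iv D6457)
theorem F24816 : act 7 n6457 = n6457 := d19_2 F18377 D6457 (iv D6457)
def n6458 : Q := act 4 n4714
theorem D6458 : act 4 n4714 = n6458 := rfl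
theorem F24817 : act 0 n6458 = n4732 := d3_1 D6458 (iv D4732) (iv F18375)
theorem F24818 : act 3 n6458 = n4718 := d21_1 D6458 (iv D4718) (iv D3447) (iv F13634) D4714
theorem F24819 : act 7 n6458 = n6458 := d28_2 F18377 D6458 (iv D6458)
def n6459 : Q := act 8 n4714
theorem D6459 : act 8 n4714 = n6459 := rfl
theorem F24820 : act 0 n6459 = n4733 := d7_1 D6459 (iv D4733) (iv F18375)
theorem F24821 : act 3 n6459 = n4715 := d25_1 D6459 (iv D4715) D4714
theorem F24822 : act 5 n6459 = n6459 := d32_1 D6459 (iv D6459) F18376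
def n6460 : Q := act 4 n4716
theorem D6460 : act 4 n4716 = n6460 := rfl
theorem F24823 : act 0 n6460 = n4734 := d3_1 D6460 (iv D4734) (iv F18383)
theorem F24824 : act 6 n6460 = n4718 := d27_2 (iv F18385) D6460 (iv D4718)
theorem F24825 : act 7 n6460 = n5042 := d28_2 (iv F18386) D6460 (iv D5042)
def n6461 : Q := act 8 n4716
theorem D6461 : act 8 n4716 = n6461 := rfl
theorem F24826 : act 0 n6461 = n4735 := d7_1 D6461 (iv D4735) (iv F18383)
theorem F24827 : act 3 n6461 = n4717 := d25_1 D6461 (iv D4717) D4716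
theorem F24828 : act 5 n6461 = n6461 := d32_1 D6461 (iv D6461) F18384
theorem F24829 : act 6 n6461 = n4719 := d34_1 D6461 (iv D4719) (iv F18385)
def n6462 : Q := act 5 n4718
theorem D6462 : act 5 n4718 = n6462 := rfl
theorem F24830 : act 0 n6462 = n4736 := d4_1 D6462 (iv D4736) (iv F18392)
theorem F24831 : act 4 n6462 = n4720 := d26_1 D6462 (iv D4720) (iv D3449) (iv F13641) D4718
theorem F24832 : act 7 n6462 = n5044 := d31_2 (iv F18393) D6462 (iv D5044)
def n6463 : Q := act 8 n4718
theorem D6463 : act 8 n4718 = n6463 := rfl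
theorem F24833 : act 0 n6463 = n4737 := d7_1 D6463 (iv D4737) (iv F18392)
theorem F24834 : act 4 n6463 = n4719 := d29_1 D6463 (iv D4719) D4718
def n6464 : Q := act 7 n4719
theorem D6464 : act 7 n4719 = n6464 := rfl
theorem F24835 : act 0 n6464 = n4738 := d6_1 D6464 (iv D4738) (iv F18394)
theorem F24836 : act 3 n6464 = n6464 := d24_1 D6464 (iv D6464) F18395 F13646 (iv F18395)
theorem F24837 : act 5 n6464 = n4722 := d31_1 D6464 (iv D4722) (iv F18396)
theorem F24838 : act 8 n6464 = n5046 := d35_2 D4719 D6464 (iv D5046) (iv D3690) (iv F13642)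
def n6465 : Q := act 6 n4720
theorem D6465 : act 6 n4720 = n6465 := rfl
theorem F24839 : act 0 n6465 = n4739 := d5_1 D6465 (iv D4739) (iv F18397)
theorem F24840 : act 3 n6465 = n6465 := d23_1 D6465 (iv D6465) F18398
theorem F24841 : act 5 n6465 = n6465 := d30_1 D6465 (iv D6465) (iv D4720) F13649 D4720
theorem F24842 : act 7 n6465 = n5047 := d33_2 (iv F18399) D6465 (iv D5047)
def n6466 : Q := act 8 n4720
theorem D6466 : act 8 n4720 = n6466 := rfl
theorem F24843 : act 0 n6466 = n4740 := d7_1 D6466 (iv D4740) (iv F18397)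
theorem F24844 : act 3 n6466 = n6466 := d25_1 D6466 (iv D6466) F18398
theorem F24845 : act 5 n6466 = n4721 := d32_1 D6466 (iv D4721) D4720
def n6467 : Q := act 7 n4721
theorem D6467 : act 7 n4721 = n6467 := rfl
theorem F24846 : act 0 n6467 = n4741 := d6_1 D6467 (iv D4741) (iv F18400)
theorem F24847 : act 4 n6467 = n4722 := d28_1 D6467 (iv D4722) (iv F18402)
theorem F24848 : act 6 n6467 = n6467 := d33_1 D6467 (iv D6467) F18403
theorem F24849 : act 8 n6467 = n5049 := d35_2 D4721 D6467 (iv D5049) (iv D3692) (iv F13650)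
def n6470 : Q := act 2 n4724
theorem D6470 : act 2 n4724 = n6470 := rfl
theorem F24860 : act 6 n6470 = n4726 := d18_2 (iv F18413) D6470 (iv D4726)
theorem F24861 : act 7 n6470 = n4760 := d19_2 (iv F18414) D6470 (iv D4760)
def n6471 : Q := act 8 n4724
theorem D6471 : act 8 n4724 = n6471 := rfl
theorem F24864 : act 6 n6471 = n4727 := d34_1 D6471 (iv D4727) (iv F18413)
def n6472 : Q := act 1 n4726
theorem D6472 : act 1 n4726 = n6472 := rfl
theorem F24865 : act 5 n6472 = n6472 := d11_2 F18420 D6472 (iv D6472)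
theorem F24866 : act 7 n6472 = n4762 := d13_2 (iv F18421) D6472 (iv D4762)
def n6473 : Q := act 8 n4726
theorem D6473 : act 8 n4726 = n6473 := rfl
theorem F24867 : act 0 n6473 = n4747 := d7_1 D6473 (iv D4747) (iv F18419)
theorem F24868 : act 2 n6473 = n4727 := d20_1 D6473 (iv D4727) D4726
theorem F24869 : act 5 n6473 = n6473 := d32_1 D6473 (iv D6473) F18420
def n6474 : Q := act 7 n4727
theorem D6474 : act 7 n4727 = n6474 := rfl
theorem F24873 : act 8 n6474 = n4764 := d35_2 D4727 D6474 (iv D4764) (iv D3483) (iv F13664)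
def n6477 : Q := act 2 n4729
theorem D6477 : act 2 n4729 = n6477 := rfl
theorem F24884 : act 3 n6477 = n4744 := d15_2 D4729 D6477 (iv D4744) (iv D3468) (iv F13680)
theorem F24885 : act 6 n6477 = n4731 := d18_2 (iv F18431) D6477 (iv D4731)
def n6478 : Q := act 4 n4729
theorem D6478 : act 4 n4729 = n6478 := rfl
theorem F24888 : act 3 n6478 = n4734 := d21_1 D6478 (iv D4734) (iv D3460) (iv F13681) D4729
theorem F24889 : act 6 n6478 = n4732 := d27_2 (iv F18431) D6478 (iv D4732)
def n6479 : Q := act 8 n4729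
theorem D6479 : act 8 n4729 = n6479 := rfl
theorem F24893 : act 6 n6479 = n4733 := d34_1 D6479 (iv D4733) (iv F18431)
def n6480 : Q := act 1 n4731
theorem D6480 : act 1 n4731 = n6480 := rfl
theorem F24894 : act 2 n6480 = n6480 := d8_2 D4731 D6480 (iv D6480) (iv D4731) F13683
theorem F24895 : act 3 n6480 = n4746 := d9_2 (iv F18438) D6480 (iv D4746)
theorem F24896 : act 5 n6480 = n6480 := d11_2 F18439 D6480 (iv D6480)
theorem F24897 : act 7 n6480 = n6480 := d13_2 F18440 D6480 (iv D6480)
def n6481 : Q := act 4 n4731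
theorem D6481 : act 4 n4731 = n6481 := rfl
theorem F24898 : act 2 n6481 = n4732 := d16_1 D6481 (iv D4732) D4731
theorem F24899 : act 7 n6481 = n6481 := d28_2 F18440 D6481 (iv D6481)
def n6482 : Q := act 8 n4731
theorem D6482 : act 8 n4731 = n6482 := rfl
theorem F24900 : act 2 n6482 = n4733 := d20_1 D6482 (iv D4733) D4731
theorem F24901 : act 3 n6482 = n4747 := d25_1 D6482 (iv D4747) (iv F18438)
theorem F24902 : act 5 n6482 = n6482 := d32_1 D6482 (iv D6482) F18439
def n6483 : Q := act 5 n4732
theorem D6483 : act 5 n4732 = n6483 := rfl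
theorem F24903 : act 1 n6483 = n6483 := d11_1 D6483 (iv D6483) F18441
theorem F24904 : act 3 n6483 = n4736 := d22_1 D6483 (iv D4736) (iv F18442)
theorem F24905 : act 4 n6483 = n6483 := d26_1 D6483 (iv D6483) (iv D4732) F13684 D4732
theorem F24906 : act 7 n6483 = n6483 := d31_2 F18443 D6483 (iv D6483)
def n6484 : Q := act 8 n4732
theorem D6484 : act 8 n4732 = n6484 := rfl
theorem F24907 : act 1 n6484 = n6484 := d14_1 D6484 (iv D6484) F18441
theorem F24908 : act 3 n6484 = n4737 := d25_1 D6484 (iv D4737) (iv F18442)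
theorem F24909 : act 4 n6484 = n4733 := d29_1 D6484 (iv D4733) D4732
def n6485 : Q := act 7 n4733
theorem D6485 : act 7 n4733 = n6485 := rfl
theorem F24910 : act 1 n6485 = n6485 := d13_1 D6485 (iv D6485) F18444
theorem F24911 : act 3 n6485 = n6485 := d24_1 D6485 (iv D6485) F18445 F13690 (iv F18445)
theorem F24912 : act 5 n6485 = n6485 := d31_1 D6485 (iv D6485) F18446
theorem F24913 : act 8 n6485 = n6485 := d35_2 D4733 D6485 (iv D6485) (iv D4733) F13685
def n6486 : Q := act 5 n4734
theorem D6486 : act 5 n4734 = n6486 := rfl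
theorem F24914 : act 1 n6486 = n6486 := d11_1 D6486 (iv D6486) F18447
theorem F24915 : act 4 n6486 = n6486 := d26_1 D6486 (iv D6486) (iv D4734) F13692 D4734
theorem F24916 : act 7 n6486 = n5050 := d31_2 (iv F18449) D6486 (iv D5050)
def n6487 : Q := act 8 n4734
theorem D6487 : act 8 n4734 = n6487 := rfl
theorem F24917 : act 1 n6487 = n6487 := d14_1 D6487 (iv D6487) F18447
theorem F24918 : act 4 n6487 = n4735 := d29_1 D6487 (iv D4735) D4734
theorem F24919 : act 6 n6487 = n4737 := d34_1 D6487 (iv D4737) (iv F18448)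
def n6488 : Q := act 7 n4735
theorem D6488 : act 7 n4735 = n6488 := rfl
theorem F24920 : act 1 n6488 = n6488 := d13_1 D6488 (iv D6488) F18450
theorem F24921 : act 3 n6488 = n6488 := d24_1 D6488 (iv D6488) F18451 F13699 (iv F18451)
theorem F24922 : act 5 n6488 = n6488 := d31_1 D6488 (iv D6488) F18452
theorem F24923 : act 6 n6488 = n4738 := d33_1 D6488 (iv D4738) (iv F18453)
theorem F24924 : act 8 n6488 = n5052 := d35_2 D4735 D6488 (iv D5052) (iv D3695) (iv F13694)
def n6489 : Q := act 6 n4736
theorem D6489 : act 6 n4736 = n6489 := rfl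
theorem F24925 : act 1 n6489 = n6489 := d12_1 D6489 (iv D6489) F18454
theorem F24926 : act 4 n6489 = n4739 := d27_1 D6489 (iv D4739) (iv F18455)
theorem F24927 : act 7 n6489 = n5053 := d33_2 (iv F18456) D6489 (iv D5053)
def n6490 : Q := act 8 n4736
theorem D6490 : act 8 n4736 = n6490 := rfl
theorem F24928 : act 1 n6490 = n6490 := d14_1 D6490 (iv D6490) F18454
theorem F24929 : act 4 n6490 = n4740 := d29_1 D6490 (iv D4740) (iv F18455)
theorem F24930 : act 5 n6490 = n4737 := d32_1 D6490 (iv D4737) D4736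
def n6491 : Q := act 7 n4737
theorem D6491 : act 7 n4737 = n6491 := rfl
theorem F24931 : act 1 n6491 = n6491 := d13_1 D6491 (iv D6491) F18457
theorem F24932 : act 4 n6491 = n4738 := d28_1 D6491 (iv D4738) (iv F18458)
theorem F24933 : act 8 n6491 = n5055 := d35_2 D4737 D6491 (iv D5055) (iv D3697) (iv F13701)
def n6492 : Q := act 8 n4739
theorem D6492 : act 8 n4739 = n6492 := rfl
theorem F24934 : act 1 n6492 = n6492 := d14_1 D6492 (iv D6492) F18463
theorem F24935 : act 3 n6492 = n6492 := d25_1 D6492 (iv D6492) F18464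
theorem F24936 : act 5 n6492 = n6492 := d32_1 D6492 (iv D6492) F18465
theorem F24937 : act 6 n6492 = n4740 := d34_1 D6492 (iv D4740) D4739
def n6493 : Q := act 7 n4740
theorem D6493 : act 7 n4740 = n6493 := rfl
theorem F24938 : act 1 n6493 = n6493 := d13_1 D6493 (iv D6493) F18467
theorem F24939 : act 5 n6493 = n4741 := d31_1 D6493 (iv D4741) (iv F18469)
theorem F24940 : act 8 n6493 = n5057 := d35_2 D4740 D6493 (iv D5057) (iv D3700) (iv F13707)
def n6494 : Q := act 3 n4741
theorem D6494 : act 3 n4741 = n6494 := rfl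
theorem F24941 : act 1 n6494 = n6494 := d9_1 D6494 (iv D6494) F18470
theorem F24942 : act 4 n6494 = n6494 := d21_2 (iv F18471) D6494 (iv D6494) F18471 F13713
theorem F24943 : act 6 n6494 = n6494 := d23_2 F18472 D6494 (iv D6494)
theorem F24944 : act 7 n6494 = n6494 := d24_2 D4741 D6494 (iv D6494) (iv D4741) F13709
theorem F24945 : act 8 n6494 = n5058 := d25_2 (iv F18473) D6494 (iv D5058)
def n6498 : Q := act 1 n4744
theorem D6498 : act 1 n4744 = n6498 := rfl
theorem F24958 : act 6 n6498 = n4746 := d12_2 (iv F18483) D6498 (iv D4746)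
theorem F24959 : act 7 n6498 = n4768 := d13_2 (iv F18484) D6498 (iv D4768)
def n6499 : Q := act 8 n4744
theorem D6499 : act 8 n4744 = n6499 := rfl
theorem F24961 : act 6 n6499 = n4747 := d34_1 D6499 (iv D4747) (iv F18483)
def n6501 : Q := act 0 n4746
theorem D6501 : act 0 n4746 = n6501 := rfl
theorem F24966 : act 2 n6501 = n4755 := d1_2 (iv F18488) D6501 (iv D4755)
theorem F24967 : act 5 n6501 = n6501 := d4_2 F18489 D6501 (iv D6501)
theorem F24968 : act 7 n6501 = n4771 := d6_2 (iv F18490) D6501 (iv D4771)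
def n6502 : Q := act 8 n4746
theorem D6502 : act 8 n4746 = n6502 := rfl
theorem F24969 : act 1 n6502 = n4747 := d14_1 D6502 (iv D4747) D4746
theorem F24970 : act 2 n6502 = n4756 := d20_1 D6502 (iv D4756) (iv F18488)
theorem F24971 : act 5 n6502 = n6502 := d32_1 D6502 (iv D6502) F18489
def n6509 : Q := act 0 n4752
theorem D6509 : act 0 n4752 = n6509 := rfl
theorem F24994 : act 6 n6509 = n4755 := d5_2 (iv F18508) D6509 (iv D4755)
theorem F24995 : act 7 n6509 = n4779 := d6_2 (iv F18509) D6509 (iv D4779)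
def n6510 : Q := act 8 n4752
theorem D6510 : act 8 n4752 = n6510 := rfl
theorem F24998 : act 6 n6510 = n4756 := d34_1 D6510 (iv D4756) (iv F18508)
def n6512 : Q := act 8 n4755
theorem D6512 : act 8 n4755 = n6512 := rfl
theorem F25002 : act 0 n6512 = n4756 := d7_1 D6512 (iv D4756) D4755
theorem F25003 : act 3 n6512 = n6512 := d25_1 D6512 (iv D6512) F18516
theorem F25004 : act 5 n6512 = n6512 := d32_1 D6512 (iv D6512) F18517
def n6518 : Q := act 1 n4760
theorem D6518 : act 1 n4760 = n6518 := rfl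
theorem F25024 : act 6 n6518 = n4762 := d12_2 (iv F18536) D6518 (iv D4762)
def n6521 : Q := act 0 n4762
theorem D6521 : act 0 n4762 = n6521 := rfl
theorem F25032 : act 1 n6521 = n4771 := d0_2 D4762 D6521 (iv D4771) (iv D3488) (iv F13766)
theorem F25033 : act 3 n6521 = n6521 := d2_2 F18540 D6521 (iv D6521)
theorem F25034 : act 5 n6521 = n6521 := d4_2 F18541 D6521 (iv D6521)
def n6522 : Q := act 8 n4762
theorem D6522 : act 8 n4762 = n6522 := rfl
theorem F25035 : act 1 n6522 = n4763 := d14_1 D6522 (iv D4763) D4762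
def n6523 : Q := act 7 n4763
theorem D6523 : act 7 n4763 = n6523 := rfl
def n6529 : Q := act 0 n4768
theorem D6529 : act 0 n4768 = n6529 := rfl
theorem F25061 : act 6 n6529 = n4771 := d5_2 (iv F18561) D6529 (iv D4771)
def n6565 : Q := act 1 n4798
theorem D6565 : act 1 n4798 = n6565 := rfl
theorem F25184 : act 0 n6565 = n6565 := d0_1 D6565 (iv D6565) F18659 F13873 (iv F18659)
theorem F25185 : act 2 n6565 = n6565 := d8_2 D4798 D6565 (iv D6565) (iv D4798) F13863
theorem F25186 : act 3 n6565 = n6565 := d9_2 F18660 D6565 (iv D6565)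
theorem F25187 : act 4 n6565 = n4812 := d10_2 (iv F18661) D6565 (iv D4812)
theorem F25188 : act 6 n6565 = n6565 := d12_2 F18662 D6565 (iv D6565)
theorem F25189 : act 8 n6565 = n6565 := d14_2 F18663 D6565 (iv D6565)
def n6566 : Q := act 5 n4798
theorem D6566 : act 5 n4798 = n6566 := rfl
def n6567 : Q := act 7 n4798
theorem D6567 : act 7 n4798 = n6567 := rfl
theorem F25196 : act 4 n6567 = n4814 := d28_1 D6567 (iv D4814) (iv F18661)
def n6569 : Q := act 6 n4799
theorem D6569 : act 6 n4799 = n6569 := rfl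
theorem F25205 : act 3 n6569 = n4801 := d23_1 D6569 (iv D4801) (iv F18666)
def n6570 : Q := act 7 n4799
theorem D6570 : act 7 n4799 = n6570 := rfl
theorem F25211 : act 5 n6570 = n4800 := d31_1 D6570 (iv D4800) D4799
def n6574 : Q := act 7 n4802
theorem D6574 : act 7 n4802 = n6574 := rfl
theorem F25229 : act 5 n6574 = n4803 := d31_1 D6574 (iv D4803) D4802
def n6575 : Q := act 3 n4803
theorem D6575 : act 3 n4803 = n6575 := rfl
def n6579 : Q := act 7 n4805
theorem D6579 : act 7 n4805 = n6579 := rfl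
theorem F25249 : act 6 n6579 = n4806 := d33_1 D6579 (iv D4806) D4805
def n6586 : Q := act 5 n4812
theorem D6586 : act 5 n4812 = n6586 := rfl
theorem F25279 : act 0 n6586 = n6586 := d4_1 D6586 (iv D6586) F18723
theorem F25280 : act 1 n6586 = n4813 := d11_1 D6586 (iv D4813) D4812
theorem F25281 : act 2 n6586 = n6586 := d17_1 D6586 (iv D6586) F18724
theorem F25282 : act 8 n6586 = n6586 := d32_2 F18726 D6586 (iv D6586)
def n6587 : Q := act 7 n4812
theorem D6587 : act 7 n4812 = n6587 := rfl
theorem F25283 : act 0 n6587 = n6587 := d6_1 D6587 (iv D6587) F18723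
theorem F25284 : act 1 n6587 = n4814 := d13_1 D6587 (iv D4814) D4812
theorem F25285 : act 2 n6587 = n6587 := d19_1 D6587 (iv D6587) F18724
theorem F25286 : act 6 n6587 = n6587 := d33_1 D6587 (iv D6587) F18725
def n6588 : Q := act 4 n4813
theorem D6588 : act 4 n4813 = n6588 := rfl
def n6589 : Q := act 6 n4813
theorem D6589 : act 6 n4813 = n6589 := rfl
def n6590 : Q := act 7 n4813
theorem D6590 : act 7 n4813 = n6590 := rfl
theorem F25296 : act 5 n6590 = n4814 := d31_1 D6590 (iv D4814) D4813
def n6591 : Q := act 3 n4814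
theorem D6591 : act 3 n4814 = n6591 := rfl
theorem F25297 : act 0 n6591 = n4822 := d2_1 D6591 (iv D4822) (iv F18730)
theorem F25298 : act 2 n6591 = n4838 := d15_1 D6591 (iv D4838) F13975 (iv F13920) (iv F18731)
theorem F25299 : act 6 n6591 = n6591 := d23_2 F18732 D6591 (iv D6591)
def n6592 : Q := act 8 n4814
theorem D6592 : act 8 n4814 = n6592 := rfl
def n6594 : Q := act 7 n4815
theorem D6594 : act 7 n4815 = n6594 := rfl
theorem F25311 : act 4 n6594 = n4817 := d28_1 D6594 (iv D4817) D4815
def n6595 : Q := act 7 n4816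
theorem D6595 : act 7 n4816 = n6595 := rfl
theorem F25316 : act 6 n6595 = n4817 := d33_1 D6595 (iv D4817) D4816
def n6597 : Q := act 3 n4819
theorem D6597 : act 3 n4819 = n6597 := rfl
def n6599 : Q := act 7 n4819
theorem D6599 : act 7 n4819 = n6599 := rfl
theorem F25331 : act 4 n6599 = n4821 := d28_1 D6599 (iv D4821) D4819
def n6600 : Q := act 7 n4820
theorem D6600 : act 7 n4820 = n6600 := rfl
theorem F25335 : act 6 n6600 = n4821 := d33_1 D6600 (iv D4821) D4820
def n6601 : Q := act 3 n4821
theorem D6601 : act 3 n4821 = n6601 := rfl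
theorem F25338 : act 5 n6601 = n4822 := d22_2 (iv F18760) D6601 (iv D4822)
def n6603 : Q := act 4 n4822
theorem D6603 : act 4 n4822 = n6603 := rfl
theorem F25343 : act 1 n6603 = n6603 := d10_1 D6603 (iv D6603) F18761
theorem F25344 : act 2 n6603 = n4850 := d16_1 D6603 (iv D4850) (iv F18762)
theorem F25345 : act 6 n6603 = n6603 := d27_2 F18763 D6603 (iv D6603)
def n6604 : Q := act 8 n4822
theorem D6604 : act 8 n4822 = n6604 := rfl
def n6615 : Q := act 4 n4833
theorem D6615 : act 4 n4833 = n6615 := rfl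
theorem F25388 : act 0 n6615 = n4902 := d3_1 D6615 (iv D4902) (iv F18804)
theorem F25389 : act 1 n6615 = n4835 := d10_1 D6615 (iv D4835) (iv F18805)
theorem F25390 : act 2 n6615 = n6615 := d16_1 D6615 (iv D6615) F18806
theorem F25391 : act 5 n6615 = n6615 := d26_2 D4833 D6615 (iv D6615) (iv D4833) F13968
theorem F25392 : act 8 n6615 = n4862 := d29_2 (iv F18807) D6615 (iv D4862)
def n6616 : Q := act 6 n4833
theorem D6616 : act 6 n4833 = n6616 := rfl
theorem F25393 : act 0 n6616 = n4903 := d5_1 D6616 (iv D4903) (iv F18804)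
theorem F25394 : act 1 n6616 = n4836 := d12_1 D6616 (iv D4836) (iv F18805)
theorem F25395 : act 2 n6616 = n6616 := d18_1 D6616 (iv D6616) F18806
theorem F25396 : act 5 n6616 = n6616 := d30_1 D6616 (iv D6616) (iv D4833) F13969 D4833
theorem F25397 : act 8 n6616 = n4863 := d34_2 (iv F18807) D6616 (iv D4863)
def n6617 : Q := act 7 n4833
theorem D6617 : act 7 n4833 = n6617 := rfl
theorem F25398 : act 0 n6617 = n4904 := d6_1 D6617 (iv D4904) (iv F18804)
theorem F25399 : act 1 n6617 = n4837 := d13_1 D6617 (iv D4837) (iv F18805)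
theorem F25400 : act 2 n6617 = n6617 := d19_1 D6617 (iv D6617) F18806
theorem F25401 : act 5 n6617 = n4834 := d31_1 D6617 (iv D4834) D4833
def n6618 : Q := act 3 n4834
theorem D6618 : act 3 n4834 = n6618 := rfl
theorem F25402 : act 0 n6618 = n4905 := d2_1 D6618 (iv D4905) (iv F18808)
theorem F25403 : act 1 n6618 = n4838 := d9_1 D6618 (iv D4838) (iv F18809)
theorem F25404 : act 6 n6618 = n6618 := d23_2 F18812 D6618 (iv D6618)
def n6619 : Q := act 8 n4834
theorem D6619 : act 8 n4834 = n6619 := rfl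
theorem F25405 : act 0 n6619 = n4906 := d7_1 D6619 (iv D4906) (iv F18808)
theorem F25406 : act 1 n6619 = n4839 := d14_1 D6619 (iv D4839) (iv F18809)
theorem F25407 : act 2 n6619 = n6619 := d20_1 D6619 (iv D6619) F18810
theorem F25408 : act 4 n6619 = n6619 := d29_1 D6619 (iv D6619) F18811
theorem F25409 : act 6 n6619 = n6619 := d34_1 D6619 (iv D6619) F18812
theorem F25410 : act 7 n6619 = n4866 := d35_1 D6619 (iv D4866) (iv D3557) (iv F13970) D4834
def n6620 : Q := act 3 n4835
theorem D6620 : act 3 n4835 = n6620 := rfl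
theorem F25411 : act 0 n6620 = n4844 := d2_1 D6620 (iv D4844) (iv F18813)
theorem F25412 : act 2 n6620 = n6620 := d15_1 D6620 (iv D6620) F18814 F13980 (iv F18814)
theorem F25413 : act 5 n6620 = n6620 := d22_2 F18815 D6620 (iv D6620)
theorem F25414 : act 8 n6620 = n4867 := d25_2 (iv F18816) D6620 (iv D4867)
def n6621 : Q := act 6 n4835
theorem D6621 : act 6 n4835 = n6621 := rfl
theorem F25415 : act 0 n6621 = n4845 := d5_1 D6621 (iv D4845) (iv F18813)
theorem F25416 : act 2 n6621 = n4840 := d18_1 D6621 (iv D4840) (iv F18814)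
theorem F25418 : act 8 n6621 = n4868 := d34_2 (iv F18816) D6621 (iv D4868)
def n6622 : Q := act 7 n4835
theorem D6622 : act 7 n4835 = n6622 := rfl
theorem F25421 : act 4 n6622 = n4837 := d28_1 D6622 (iv D4837) D4835
def n6623 : Q := act 7 n4836
theorem D6623 : act 7 n4836 = n6623 := rfl
theorem F25426 : act 6 n6623 = n4837 := d33_1 D6623 (iv D4837) D4836
def n6624 : Q := act 3 n4837
theorem D6624 : act 3 n4837 = n6624 := rfl
theorem F25427 : act 0 n6624 = n4848 := d2_1 D6624 (iv D4848) (iv F18821)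
theorem F25428 : act 5 n6624 = n4838 := d22_2 (iv F18823) D6624 (iv D4838)
def n6625 : Q := act 8 n4837
theorem D6625 : act 8 n4837 = n6625 := rfl
theorem F25431 : act 5 n6625 = n4839 := d32_1 D6625 (iv D4839) (iv F18823)
theorem F25432 : act 7 n6625 = n4872 := d35_1 D6625 (iv D4872) (iv D3560) (iv F13973) D4837
def n6626 : Q := act 4 n4838
theorem D6626 : act 4 n4838 = n6626 := rfl
theorem F25433 : act 0 n6626 = n4850 := d3_1 D6626 (iv D4850) (iv F18824)
theorem F25434 : act 3 n6626 = n6626 := d21_1 D6626 (iv D6626) (iv D4838) F13976 D4838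
theorem F25435 : act 6 n6626 = n6626 := d27_2 F18825 D6626 (iv D6626)
def n6627 : Q := act 8 n4838
theorem D6627 : act 8 n4838 = n6627 := rfl
theorem F25436 : act 0 n6627 = n4851 := d7_1 D6627 (iv D4851) (iv F18824)
theorem F25437 : act 3 n6627 = n4839 := d25_1 D6627 (iv D4839) D4838
theorem F25438 : act 6 n6627 = n6627 := d34_1 D6627 (iv D6627) F18825
def n6628 : Q := act 5 n4840
theorem D6628 : act 5 n4840 = n6628 := rfl
def n6631 : Q := act 8 n4841
theorem D6631 : act 8 n4841 = n6631 := rfl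
theorem F25457 : act 7 n6631 = n4878 := d35_1 D6631 (iv D4878) (iv D3564) (iv F13982) D4841
def n6632 : Q := act 8 n4842
theorem D6632 : act 8 n4842 = n6632 := rfl
theorem F25462 : act 7 n6632 = n4879 := d35_1 D6632 (iv D4879) (iv D3565) (iv F13987) D4842
def n6633 : Q := act 6 n4844
theorem D6633 : act 6 n4844 = n6633 := rfl
theorem F25463 : act 1 n6633 = n4920 := d12_1 D6633 (iv D4920) (iv F18848)
theorem F25465 : act 3 n6633 = n4845 := d23_1 D6633 (iv D4845) D4844
theorem F25466 : act 8 n6633 = n4880 := d34_2 (iv F18851) D6633 (iv D4880)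
def n6634 : Q := act 7 n4844
theorem D6634 : act 7 n4844 = n6634 := rfl
theorem F25467 : act 1 n6634 = n4921 := d13_1 D6634 (iv D4921) (iv F18848)
def n6635 : Q := act 5 n4845
theorem D6635 : act 5 n4845 = n6635 := rfl
theorem F25471 : act 2 n6635 = n4852 := d17_1 D6635 (iv D4852) (iv F18853)
def n6638 : Q := act 8 n4846
theorem D6638 : act 8 n4846 = n6638 := rfl
theorem F25485 : act 7 n6638 = n4885 := d35_1 D6638 (iv D4885) (iv D3569) (iv F13999) D4846
def n6639 : Q := act 3 n4847
theorem D6639 : act 3 n4847 = n6639 := rfl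
theorem F25488 : act 6 n6639 = n4848 := d23_2 (iv F18863) D6639 (iv D4848)
def n6640 : Q := act 8 n4847
theorem D6640 : act 8 n4847 = n6640 := rfl
theorem F25493 : act 7 n6640 = n4887 := d35_1 D6640 (iv D4887) (iv D3570) (iv F14003) D4847
def n6641 : Q := act 4 n4848
theorem D6641 : act 4 n4848 = n6641 := rfl
theorem F25494 : act 1 n6641 = n4928 := d10_1 D6641 (iv D4928) (iv F18864)
def n6642 : Q := act 8 n4848
theorem D6642 : act 8 n4848 = n6642 := rfl
theorem F25496 : act 3 n6642 = n4849 := d25_1 D6642 (iv D4849) D4848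
theorem F25497 : act 5 n6642 = n4851 := d32_1 D6642 (iv D4851) (iv F18865)
def n6643 : Q := act 5 n4850
theorem D6643 : act 5 n4850 = n6643 := rfl
theorem F25498 : act 1 n6643 = n4930 := d11_1 D6643 (iv D4930) (iv F18870)
theorem F25499 : act 3 n6643 = n6643 := d22_1 D6643 (iv D6643) F18871
def n6644 : Q := act 8 n4850
theorem D6644 : act 8 n4850 = n6644 := rfl
theorem F25500 : act 1 n6644 = n4931 := d14_1 D6644 (iv D4931) (iv F18870)
theorem F25501 : act 3 n6644 = n6644 := d25_1 D6644 (iv D6644) F18871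
theorem F25502 : act 4 n6644 = n4851 := d29_1 D6644 (iv D4851) D4850
theorem F25503 : act 6 n6644 = n6644 := d34_1 D6644 (iv D6644) F18872
def n6645 : Q := act 7 n4851
theorem D6645 : act 7 n4851 = n6645 := rfl
theorem F25504 : act 1 n6645 = n4932 := d13_1 D6645 (iv D4932) (iv F18873)
theorem F25505 : act 3 n6645 = n4892 := d24_1 D6645 (iv D4892) F14117 (iv F14013) (iv F18874)
theorem F25506 : act 6 n6645 = n6645 := d33_1 D6645 (iv D6645) F18875
def n6658 : Q := act 3 n4862
theorem D6658 : act 3 n4862 = n6658 := rfl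
theorem F25551 : act 0 n6658 = n4944 := d2_1 D6658 (iv D4944) (iv F18915)
theorem F25552 : act 1 n6658 = n4867 := d9_1 D6658 (iv D4867) (iv F18916)
theorem F25553 : act 5 n6658 = n6658 := d22_2 F18918 D6658 (iv D6658)
def n6659 : Q := act 6 n4862
theorem D6659 : act 6 n4862 = n6659 := rfl
theorem F25554 : act 0 n6659 = n4945 := d5_1 D6659 (iv D4945) (iv F18915)
theorem F25555 : act 1 n6659 = n4868 := d12_1 D6659 (iv D4868) (iv F18916)
theorem F25556 : act 2 n6659 = n6659 := d18_1 D6659 (iv D6659) F18917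
theorem F25557 : act 4 n6659 = n4863 := d27_1 D6659 (iv D4863) D4862
def n6660 : Q := act 7 n4862
theorem D6660 : act 7 n4862 = n6660 := rfl
theorem F25558 : act 0 n6660 = n4946 := d6_1 D6660 (iv D4946) (iv F18915)
theorem F25559 : act 1 n6660 = n4869 := d13_1 D6660 (iv D4869) (iv F18916)
theorem F25560 : act 2 n6660 = n6660 := d19_1 D6660 (iv D6660) F18917
theorem F25561 : act 4 n6660 = n4864 := d28_1 D6660 (iv D4864) D4862
theorem F25562 : act 5 n6660 = n6660 := d31_1 D6660 (iv D6660) F18918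
def n6661 : Q := act 7 n4863
theorem D6661 : act 7 n4863 = n6661 := rfl
theorem F25563 : act 0 n6661 = n4947 := d6_1 D6661 (iv D4947) (iv F18919)
theorem F25564 : act 1 n6661 = n4870 := d13_1 D6661 (iv D4870) (iv F18920)
theorem F25565 : act 2 n6661 = n6661 := d19_1 D6661 (iv D6661) F18921
theorem F25566 : act 5 n6661 = n6661 := d31_1 D6661 (iv D6661) F18922
theorem F25567 : act 6 n6661 = n4864 := d33_1 D6661 (iv D4864) D4863
def n6662 : Q := act 3 n4864
theorem D6662 : act 3 n4864 = n6662 := rfl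
theorem F25568 : act 0 n6662 = n4948 := d2_1 D6662 (iv D4948) (iv F18923)
theorem F25569 : act 1 n6662 = n4871 := d9_1 D6662 (iv D4871) (iv F18924)
theorem F25570 : act 5 n6662 = n4865 := d22_2 (iv F18926) D6662 (iv D4865)
def n6663 : Q := act 8 n4864
theorem D6663 : act 8 n4864 = n6663 := rfl
theorem F25571 : act 0 n6663 = n4949 := d7_1 D6663 (iv D4949) (iv F18923)
theorem F25572 : act 1 n6663 = n4872 := d14_1 D6663 (iv D4872) (iv F18924)
theorem F25573 : act 2 n6663 = n6663 := d20_1 D6663 (iv D6663) F18925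
theorem F25574 : act 5 n6663 = n4866 := d32_1 D6663 (iv D4866) (iv F18926)
def n6664 : Q := act 2 n4865
theorem D6664 : act 2 n4865 = n6664 := rfl
theorem F25575 : act 0 n6664 = n4950 := d1_1 D6664 (iv D4950) (iv F18927)
theorem F25576 : act 1 n6664 = n6664 := d8_1 D6664 (iv D6664) F18928 F14068 (iv F18928)
theorem F25577 : act 3 n6664 = n6664 := d15_2 D4865 D6664 (iv D6664) (iv D4865) F14055
theorem F25578 : act 6 n6664 = n6664 := d18_2 F18929 D6664 (iv D6664)
def n6665 : Q := act 4 n4865
theorem D6665 : act 4 n4865 = n6665 := rfl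
theorem F25579 : act 0 n6665 = n4951 := d3_1 D6665 (iv D4951) (iv F18927)
theorem F25580 : act 1 n6665 = n4873 := d10_1 D6665 (iv D4873) (iv F18928)
theorem F25581 : act 3 n6665 = n6665 := d21_1 D6665 (iv D6665) (iv D4865) F14056 D4865
theorem F25582 : act 6 n6665 = n6665 := d27_2 F18929 D6665 (iv D6665)
def n6666 : Q := act 8 n4865
theorem D6666 : act 8 n4865 = n6666 := rfl
theorem F25583 : act 0 n6666 = n4952 := d7_1 D6666 (iv D4952) (iv F18927)
theorem F25584 : act 1 n6666 = n4874 := d14_1 D6666 (iv D4874) (iv F18928)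
theorem F25585 : act 3 n6666 = n4866 := d25_1 D6666 (iv D4866) D4865
theorem F25586 : act 6 n6666 = n6666 := d34_1 D6666 (iv D6666) F18929
def n6667 : Q := act 6 n4867
theorem D6667 : act 6 n4867 = n6667 := rfl
theorem F25587 : act 0 n6667 = n4880 := d5_1 D6667 (iv D4880) (iv F18935)
theorem F25588 : act 2 n6667 = n6667 := d18_1 D6667 (iv D6667) F18936
theorem F25589 : act 3 n6667 = n4868 := d23_1 D6667 (iv D4868) D4867
def n6668 : Q := act 7 n4867
theorem D6668 : act 7 n4867 = n6668 := rfl
theorem F25590 : act 0 n6668 = n4881 := d6_1 D6668 (iv D4881) (iv F18935)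
theorem F25591 : act 2 n6668 = n6668 := d19_1 D6668 (iv D6668) F18936
theorem F25592 : act 5 n6668 = n6668 := d31_1 D6668 (iv D6668) F18937
def n6670 : Q := act 7 n4868
theorem D6670 : act 7 n4868 = n6670 := rfl
def n6671 : Q := act 3 n4869
theorem D6671 : act 3 n4869 = n6671 := rfl
theorem F25601 : act 0 n6671 = n4884 := d2_1 D6671 (iv D4884) (iv F18941)
theorem F25602 : act 5 n6671 = n6671 := d22_2 F18944 D6671 (iv D6671)
def n6672 : Q := act 8 n4869
theorem D6672 : act 8 n4869 = n6672 := rfl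
theorem F25605 : act 4 n6672 = n4872 := d29_1 D6672 (iv D4872) (iv F18943)
def n6673 : Q := act 3 n4870
theorem D6673 : act 3 n4870 = n6673 := rfl
theorem F25607 : act 0 n6673 = n4886 := d2_1 D6673 (iv D4886) (iv F18945)
theorem F25608 : act 2 n6673 = n6673 := d15_1 D6673 (iv D6673) F18946 F14084 (iv F18946)
theorem F25609 : act 5 n6673 = n6673 := d22_2 F18947 D6673 (iv D6673)
theorem F25610 : act 6 n6673 = n4871 := d23_2 (iv F18948) D6673 (iv D4871)
def n6674 : Q := act 8 n4870
theorem D6674 : act 8 n4870 = n6674 := rfl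
theorem F25614 : act 6 n6674 = n4872 := d34_1 D6674 (iv D4872) (iv F18948)
def n6675 : Q := act 4 n4871
theorem D6675 : act 4 n4871 = n6675 := rfl
theorem F25615 : act 0 n6675 = n4888 := d3_1 D6675 (iv D4888) (iv F18949)
theorem F25616 : act 2 n6675 = n6675 := d16_1 D6675 (iv D6675) F18950
def n6676 : Q := act 8 n4871
theorem D6676 : act 8 n4871 = n6676 := rfl
theorem F25617 : act 0 n6676 = n4889 := d7_1 D6676 (iv D4889) (iv F18949)
theorem F25618 : act 2 n6676 = n6676 := d20_1 D6676 (iv D6676) F18950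
theorem F25619 : act 3 n6676 = n4872 := d25_1 D6676 (iv D4872) D4871
theorem F25620 : act 5 n6676 = n4874 := d32_1 D6676 (iv D4874) (iv F18951)
def n6677 : Q := act 5 n4873
theorem D6677 : act 5 n4873 = n6677 := rfl
theorem F25621 : act 0 n6677 = n4890 := d4_1 D6677 (iv D4890) (iv F18955)
theorem F25622 : act 2 n6677 = n6677 := d17_1 D6677 (iv D6677) F18956
theorem F25623 : act 3 n6677 = n6677 := d22_1 D6677 (iv D6677) F18957
def n6678 : Q := act 8 n4873
theorem D6678 : act 8 n4873 = n6678 := rfl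
theorem F25624 : act 0 n6678 = n4891 := d7_1 D6678 (iv D4891) (iv F18955)
theorem F25625 : act 2 n6678 = n6678 := d20_1 D6678 (iv D6678) F18956
theorem F25626 : act 3 n6678 = n6678 := d25_1 D6678 (iv D6678) F18957
theorem F25627 : act 4 n6678 = n4874 := d29_1 D6678 (iv D4874) D4873
theorem F25628 : act 6 n6678 = n6678 := d34_1 D6678 (iv D6678) F18958
def n6679 : Q := act 7 n4874
theorem D6679 : act 7 n4874 = n6679 := rfl
theorem F25629 : act 0 n6679 = n4892 := d6_1 D6679 (iv D4892) (iv F18959)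
theorem F25630 : act 2 n6679 = n6679 := d19_1 D6679 (iv D6679) F18960
theorem F25631 : act 6 n6679 = n6679 := d33_1 D6679 (iv D6679) F18962
def n6686 : Q := act 7 n4880
theorem D6686 : act 7 n4880 = n6686 := rfl
theorem F25659 : act 1 n6686 = n4969 := d13_1 D6686 (iv D4969) (iv F18986)
theorem F25660 : act 2 n6686 = n6686 := d19_1 D6686 (iv D6686) F18987
theorem F25661 : act 6 n6686 = n4881 := d33_1 D6686 (iv D4881) D4880
def n6687 : Q := act 3 n4881
theorem D6687 : act 3 n4881 = n6687 := rfl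
theorem F25662 : act 1 n6687 = n4970 := d9_1 D6687 (iv D4970) (iv F18989)
theorem F25663 : act 5 n6687 = n6687 := d22_2 F18991 D6687 (iv D6687)
theorem F25664 : act 7 n6687 = n4884 := d24_2 D4881 D6687 (iv D4884) (iv D3569) D3567
def n6688 : Q := act 8 n4881
theorem D6688 : act 8 n4881 = n6688 := rfl
theorem F25665 : act 1 n6688 = n4971 := d14_1 D6688 (iv D4971) (iv F18989)
theorem F25666 : act 2 n6688 = n6688 := d20_1 D6688 (iv D6688) F18990
theorem F25667 : act 5 n6688 = n6688 := d32_1 D6688 (iv D6688) F18991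
def n6692 : Q := act 2 n4884
theorem D6692 : act 2 n4884 = n6692 := rfl
def n6693 : Q := act 4 n4884
theorem D6693 : act 4 n4884 = n6693 := rfl
theorem F25682 : act 1 n6693 = n4975 := d10_1 D6693 (iv D4975) (iv F19000)
theorem F25683 : act 3 n6693 = n4888 := d21_1 D6693 (iv D4888) (iv D3571) (iv F14099) D4884
def n6694 : Q := act 8 n4884
theorem D6694 : act 8 n4884 = n6694 := rfl
theorem F25685 : act 3 n6694 = n4885 := d25_1 D6694 (iv D4885) D4884
def n6695 : Q := act 4 n4886
theorem D6695 : act 4 n4886 = n6695 := rfl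
theorem F25687 : act 1 n6695 = n4977 := d10_1 D6695 (iv D4977) (iv F19006)
theorem F25688 : act 2 n6695 = n6695 := d16_1 D6695 (iv D6695) F19007
theorem F25689 : act 6 n6695 = n4888 := d27_2 (iv F19009) D6695 (iv D4888)
def n6696 : Q := act 8 n4886
theorem D6696 : act 8 n4886 = n6696 := rfl
theorem F25692 : act 3 n6696 = n4887 := d25_1 D6696 (iv D4887) D4886
theorem F25694 : act 6 n6696 = n4889 := d34_1 D6696 (iv D4889) (iv F19009)
def n6697 : Q := act 5 n4888
theorem D6697 : act 5 n4888 = n6697 := rfl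
theorem F25695 : act 1 n6697 = n4979 := d11_1 D6697 (iv D4979) (iv F19014)
theorem F25696 : act 2 n6697 = n6697 := d17_1 D6697 (iv D6697) F19015
theorem F25697 : act 4 n6697 = n4890 := d26_1 D6697 (iv D4890) (iv D3573) (iv F14107) D4888
def n6698 : Q := act 8 n4888
theorem D6698 : act 8 n4888 = n6698 := rfl
theorem F25698 : act 1 n6698 = n4980 := d14_1 D6698 (iv D4980) (iv F19014)
theorem F25699 : act 2 n6698 = n6698 := d20_1 D6698 (iv D6698) F19015
theorem F25700 : act 4 n6698 = n4889 := d29_1 D6698 (iv D4889) D4888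
def n6699 : Q := act 7 n4889
theorem D6699 : act 7 n4889 = n6699 := rfl
theorem F25701 : act 1 n6699 = n4981 := d13_1 D6699 (iv D4981) (iv F19016)
theorem F25702 : act 2 n6699 = n6699 := d19_1 D6699 (iv D6699) F19017
theorem F25703 : act 5 n6699 = n4892 := d31_1 D6699 (iv D4892) (iv F19019)
def n6700 : Q := act 6 n4890
theorem D6700 : act 6 n4890 = n6700 := rfl
theorem F25704 : act 1 n6700 = n4982 := d12_1 D6700 (iv D4982) (iv F19020)
theorem F25705 : act 2 n6700 = n6700 := d18_1 D6700 (iv D6700) F19021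
theorem F25706 : act 3 n6700 = n6700 := d23_1 D6700 (iv D6700) F19022
theorem F25707 : act 5 n6700 = n6700 := d30_1 D6700 (iv D6700) (iv D4890) F14114 D4890
def n6701 : Q := act 8 n4890
theorem D6701 : act 8 n4890 = n6701 := rfl
theorem F25708 : act 1 n6701 = n4983 := d14_1 D6701 (iv D4983) (iv F19020)
theorem F25709 : act 2 n6701 = n6701 := d20_1 D6701 (iv D6701) F19021
theorem F25710 : act 3 n6701 = n6701 := d25_1 D6701 (iv D6701) F19022
theorem F25711 : act 5 n6701 = n4891 := d32_1 D6701 (iv D4891) D4890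
def n6702 : Q := act 7 n4891
theorem D6702 : act 7 n4891 = n6702 := rfl
theorem F25712 : act 1 n6702 = n4984 := d13_1 D6702 (iv D4984) (iv F19023)
theorem F25713 : act 2 n6702 = n6702 := d19_1 D6702 (iv D6702) F19024
theorem F25714 : act 4 n6702 = n4892 := d28_1 D6702 (iv D4892) (iv F19026)
theorem F25715 : act 6 n6702 = n6702 := d33_1 D6702 (iv D6702) F19027
def n6712 : Q := act 3 n4902
theorem D6712 : act 3 n4902 = n6712 := rfl
theorem F25756 : act 1 n6712 = n4907 := d9_1 D6712 (iv D4907) (iv F19070)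
theorem F25757 : act 5 n6712 = n6712 := d22_2 F19072 D6712 (iv D6712)
theorem F25758 : act 8 n6712 = n4944 := d25_2 (iv F19073) D6712 (iv D4944)
def n6713 : Q := act 6 n4902
theorem D6713 : act 6 n4902 = n6713 := rfl
theorem F25759 : act 1 n6713 = n4908 := d12_1 D6713 (iv D4908) (iv F19070)
theorem F25761 : act 4 n6713 = n4903 := d27_1 D6713 (iv D4903) D4902
theorem F25762 : act 8 n6713 = n4945 := d34_2 (iv F19073) D6713 (iv D4945)
def n6714 : Q := act 7 n4902
theorem D6714 : act 7 n4902 = n6714 := rfl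
theorem F25765 : act 4 n6714 = n4904 := d28_1 D6714 (iv D4904) D4902
def n6715 : Q := act 7 n4903
theorem D6715 : act 7 n4903 = n6715 := rfl
theorem F25767 : act 1 n6715 = n4910 := d13_1 D6715 (iv D4910) (iv F19074)
theorem F25770 : act 6 n6715 = n4904 := d33_1 D6715 (iv D4904) D4903
def n6716 : Q := act 3 n4904
theorem D6716 : act 3 n4904 = n6716 := rfl
theorem F25771 : act 1 n6716 = n4911 := d9_1 D6716 (iv D4911) (iv F19078)
theorem F25772 : act 5 n6716 = n4905 := d22_2 (iv F19080) D6716 (iv D4905)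
def n6717 : Q := act 8 n4904
theorem D6717 : act 8 n4904 = n6717 := rfl
theorem F25775 : act 5 n6717 = n4906 := d32_1 D6717 (iv D4906) (iv F19080)
theorem F25776 : act 7 n6717 = n4949 := d35_1 D6717 (iv D4949) (iv D3615) (iv F14158) D4904
def n6718 : Q := act 2 n4905
theorem D6718 : act 2 n4905 = n6718 := rfl
theorem F25777 : act 1 n6718 = n6718 := d8_1 D6718 (iv D6718) F19081 F14175 (iv F19081)
theorem F25778 : act 3 n6718 = n6718 := d15_2 D4905 D6718 (iv D6718) (iv D4905) F14160
theorem F25779 : act 6 n6718 = n6718 := d18_2 F19082 D6718 (iv D6718)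
def n6719 : Q := act 4 n4905
theorem D6719 : act 4 n4905 = n6719 := rfl
theorem F25780 : act 1 n6719 = n4913 := d10_1 D6719 (iv D4913) (iv F19081)
theorem F25781 : act 3 n6719 = n6719 := d21_1 D6719 (iv D6719) (iv D4905) F14161 D4905
theorem F25782 : act 6 n6719 = n6719 := d27_2 F19082 D6719 (iv D6719)
def n6720 : Q := act 8 n4905
theorem D6720 : act 8 n4905 = n6720 := rfl
theorem F25783 : act 1 n6720 = n4914 := d14_1 D6720 (iv D4914) (iv F19081)
theorem F25784 : act 3 n6720 = n4906 := d25_1 D6720 (iv D4906) D4905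
theorem F25785 : act 6 n6720 = n6720 := d34_1 D6720 (iv D6720) F19082
def n6721 : Q := act 6 n4907
theorem D6721 : act 6 n4907 = n6721 := rfl
theorem F25787 : act 2 n6721 = n4993 := d18_1 D6721 (iv D4993) (iv F19089)
theorem F25788 : act 3 n6721 = n4908 := d23_1 D6721 (iv D4908) D4907
theorem F25789 : act 8 n6721 = n4953 := d34_2 (iv F19091) D6721 (iv D4953)
def n6722 : Q := act 7 n4907
theorem D6722 : act 7 n4907 = n6722 := rfl
theorem F25790 : act 0 n6722 = n4921 := d6_1 D6722 (iv D4921) (iv F19088)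
theorem F25791 : act 2 n6722 = n4994 := d19_1 D6722 (iv D4994) (iv F19089)
theorem F25792 : act 5 n6722 = n6722 := d31_1 D6722 (iv D6722) F19090
def n6723 : Q := act 5 n4908
theorem D6723 : act 5 n4908 = n6723 := rfl
theorem F25794 : act 2 n6723 = n4915 := d17_1 D6723 (iv D4915) (iv F19093)
def n6725 : Q := act 3 n4909
theorem D6725 : act 3 n4909 = n6725 := rfl
theorem F25802 : act 0 n6725 = n4924 := d2_1 D6725 (iv D4924) (iv F19096)
def n6726 : Q := act 8 n4909
theorem D6726 : act 8 n4909 = n6726 := rfl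
theorem F25808 : act 7 n6726 = n4958 := d35_1 D6726 (iv D4958) (iv D3620) (iv F14166) D4909
def n6727 : Q := act 3 n4910
theorem D6727 : act 3 n4910 = n6727 := rfl
theorem F25812 : act 6 n6727 = n4911 := d23_2 (iv F19103) D6727 (iv D4911)
def n6728 : Q := act 8 n4910
theorem D6728 : act 8 n4910 = n6728 := rfl
theorem F25817 : act 7 n6728 = n4960 := d35_1 D6728 (iv D4960) (iv D3621) (iv F14170) D4910
def n6729 : Q := act 4 n4911
theorem D6729 : act 4 n4911 = n6729 := rfl
theorem F25818 : act 0 n6729 = n4928 := d3_1 D6729 (iv D4928) (iv F19104)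
theorem F25819 : act 2 n6729 = n6729 := d16_1 D6729 (iv D6729) F19105
def n6730 : Q := act 8 n4911
theorem D6730 : act 8 n4911 = n6730 := rfl
theorem F25822 : act 3 n6730 = n4912 := d25_1 D6730 (iv D4912) D4911
theorem F25823 : act 5 n6730 = n4914 := d32_1 D6730 (iv D4914) (iv F19106)
def n6731 : Q := act 5 n4913
theorem D6731 : act 5 n4913 = n6731 := rfl
theorem F25824 : act 0 n6731 = n4930 := d4_1 D6731 (iv D4930) (iv F19111)
theorem F25825 : act 2 n6731 = n6731 := d17_1 D6731 (iv D6731) F19112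
theorem F25826 : act 3 n6731 = n6731 := d22_1 D6731 (iv D6731) F19113
def n6732 : Q := act 8 n4913
theorem D6732 : act 8 n4913 = n6732 := rfl
theorem F25827 : act 0 n6732 = n4931 := d7_1 D6732 (iv D4931) (iv F19111)
theorem F25828 : act 2 n6732 = n6732 := d20_1 D6732 (iv D6732) F19112
theorem F25829 : act 3 n6732 = n6732 := d25_1 D6732 (iv D6732) F19113
theorem F25830 : act 4 n6732 = n4914 := d29_1 D6732 (iv D4914) D4913
theorem F25831 : act 6 n6732 = n6732 := d34_1 D6732 (iv D6732) F19114
def n6733 : Q := act 7 n4914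
theorem D6733 : act 7 n4914 = n6733 := rfl
theorem F25832 : act 0 n6733 = n4932 := d6_1 D6733 (iv D4932) (iv F19115)
theorem F25833 : act 2 n6733 = n6733 := d19_1 D6733 (iv D6733) F19116
theorem F25834 : act 3 n6733 = n4965 := d24_1 D6733 (iv D4965) F14307 (iv F14181) (iv F19117)
theorem F25835 : act 6 n6733 = n6733 := d33_1 D6733 (iv D6733) F19118
def n6739 : Q := act 5 n4920
theorem D6739 : act 5 n4920 = n6739 := rfl
theorem F25861 : act 2 n6739 = n5004 := d17_1 D6739 (iv D5004) (iv F19145)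
theorem F25862 : act 3 n6739 = n4922 := d22_1 D6739 (iv D4922) (iv F19146)
theorem F25864 : act 8 n6739 = n4968 := d32_2 (iv F19147) D6739 (iv D4968)
def n6740 : Q := act 7 n4920
theorem D6740 : act 7 n4920 = n6740 := rfl
theorem F25865 : act 2 n6740 = n5005 := d19_1 D6740 (iv D5005) (iv F19145)
theorem F25866 : act 6 n6740 = n4921 := d33_1 D6740 (iv D4921) D4920
def n6741 : Q := act 3 n4921
theorem D6741 : act 3 n4921 = n6741 := rfl
def n6742 : Q := act 8 n4921
theorem D6742 : act 8 n4921 = n6742 := rfl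
theorem F25869 : act 2 n6742 = n5007 := d20_1 D6742 (iv D5007) (iv F19148)
theorem F25870 : act 5 n6742 = n6742 := d32_1 D6742 (iv D6742) F19149
theorem F25871 : act 7 n6742 = n4971 := d35_1 D6742 (iv D4971) (iv D3631) (iv F14203) D4921
def n6747 : Q := act 4 n4924
theorem D6747 : act 4 n4924 = n6747 := rfl
theorem F25883 : act 3 n6747 = n4928 := d21_1 D6747 (iv D4928) (iv D3599) (iv F14208) D4924
def n6748 : Q := act 8 n4924
theorem D6748 : act 8 n4924 = n6748 := rfl
theorem F25884 : act 3 n6748 = n4925 := d25_1 D6748 (iv D4925) D4924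
def n6749 : Q := act 4 n4926
theorem D6749 : act 4 n4926 = n6749 := rfl
theorem F25887 : act 6 n6749 = n4928 := d27_2 (iv F19164) D6749 (iv D4928)
def n6750 : Q := act 8 n4926
theorem D6750 : act 8 n4926 = n6750 := rfl
theorem F25889 : act 3 n6750 = n4927 := d25_1 D6750 (iv D4927) D4926
def n6751 : Q := act 5 n4928
theorem D6751 : act 5 n4928 = n6751 := rfl
theorem F25892 : act 2 n6751 = n6751 := d17_1 D6751 (iv D6751) F19169
theorem F25893 : act 4 n6751 = n4930 := d26_1 D6751 (iv D4930) (iv D3601) (iv F14214) D4928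
def n6752 : Q := act 8 n4928
theorem D6752 : act 8 n4928 = n6752 := rfl
def n6753 : Q := act 7 n4929
theorem D6753 : act 7 n4929 = n6753 := rfl
theorem F25897 : act 3 n6753 = n4981 := d24_1 D6753 (iv D4981) F14352 (iv F14217) (iv F19171)
theorem F25898 : act 5 n6753 = n4932 := d31_1 D6753 (iv D4932) (iv F19172)
def n6754 : Q := act 6 n4930
theorem D6754 : act 6 n4930 = n6754 := rfl
theorem F25899 : act 2 n6754 = n6754 := d18_1 D6754 (iv D6754) F19173
theorem F25900 : act 3 n6754 = n6754 := d23_1 D6754 (iv D6754) F19174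
theorem F25901 : act 5 n6754 = n6754 := d30_1 D6754 (iv D6754) (iv D4930) F14220 D4930
def n6755 : Q := act 8 n4930
theorem D6755 : act 8 n4930 = n6755 := rfl
theorem F25902 : act 2 n6755 = n6755 := d20_1 D6755 (iv D6755) F19173
theorem F25903 : act 3 n6755 = n6755 := d25_1 D6755 (iv D6755) F19174
theorem F25904 : act 5 n6755 = n4931 := d32_1 D6755 (iv D4931) D4930
def n6756 : Q := act 7 n4931
theorem D6756 : act 7 n4931 = n6756 := rfl
theorem F25905 : act 2 n6756 = n6756 := d19_1 D6756 (iv D6756) F19175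
theorem F25906 : act 4 n6756 = n4932 := d28_1 D6756 (iv D4932) (iv F19177)
theorem F25907 : act 6 n6756 = n6756 := d33_1 D6756 (iv D6756) F19178
def n6770 : Q := act 2 n4944
theorem D6770 : act 2 n4944 = n6770 := rfl
theorem F25963 : act 1 n6770 = n5022 := d8_1 D6770 (iv D5022) F14492 (iv F14282) (iv F19228)
theorem F25964 : act 3 n6770 = n6770 := d15_2 D4944 D6770 (iv D6770) (iv D4944) F14267
theorem F25965 : act 5 n6770 = n6770 := d17_2 F19229 D6770 (iv D6770)
def n6771 : Q := act 6 n4944
theorem D6771 : act 6 n4944 = n6771 := rfl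
theorem F25966 : act 1 n6771 = n4953 := d12_1 D6771 (iv D4953) (iv F19228)
theorem F25967 : act 3 n6771 = n4945 := d23_1 D6771 (iv D4945) D4944
def n6772 : Q := act 7 n4944
theorem D6772 : act 7 n4944 = n6772 := rfl
theorem F25968 : act 1 n6772 = n4954 := d13_1 D6772 (iv D4954) (iv F19228)
theorem F25969 : act 5 n6772 = n6772 := d31_1 D6772 (iv D6772) F19229
def n6774 : Q := act 7 n4945
theorem D6774 : act 7 n4945 = n6774 := rfl
theorem F25976 : act 4 n6774 = n4947 := d28_1 D6774 (iv D4947) (iv F19232)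
theorem F25977 : act 6 n6774 = n4946 := d33_1 D6774 (iv D4946) D4945
def n6775 : Q := act 3 n4946
theorem D6775 : act 3 n4946 = n6775 := rfl
theorem F25978 : act 1 n6775 = n4957 := d9_1 D6775 (iv D4957) (iv F19233)
theorem F25979 : act 5 n6775 = n6775 := d22_2 F19236 D6775 (iv D6775)
def n6776 : Q := act 8 n4946
theorem D6776 : act 8 n4946 = n6776 := rfl
theorem F25982 : act 4 n6776 = n4949 := d29_1 D6776 (iv D4949) (iv F19235)
def n6777 : Q := act 3 n4947
theorem D6777 : act 3 n4947 = n6777 := rfl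
theorem F25984 : act 1 n6777 = n4959 := d9_1 D6777 (iv D4959) (iv F19237)
theorem F25985 : act 5 n6777 = n6777 := d22_2 F19239 D6777 (iv D6777)
theorem F25986 : act 6 n6777 = n4948 := d23_2 (iv F19240) D6777 (iv D4948)
def n6778 : Q := act 8 n4947
theorem D6778 : act 8 n4947 = n6778 := rfl
theorem F25990 : act 6 n6778 = n4949 := d34_1 D6778 (iv D4949) (iv F19240)
def n6779 : Q := act 2 n4948
theorem D6779 : act 2 n4948 = n6779 := rfl
theorem F25991 : act 1 n6779 = n5034 := d8_1 D6779 (iv D5034) F14525 (iv F14296) (iv F19241)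
theorem F25992 : act 3 n6779 = n6779 := d15_2 D4948 D6779 (iv D6779) (iv D4948) F14273
theorem F25993 : act 5 n6779 = n4950 := d17_2 (iv F19242) D6779 (iv D4950)
def n6780 : Q := act 4 n4948
theorem D6780 : act 4 n4948 = n6780 := rfl
theorem F25994 : act 1 n6780 = n4961 := d10_1 D6780 (iv D4961) (iv F19241)
def n6781 : Q := act 8 n4948
theorem D6781 : act 8 n4948 = n6781 := rfl
theorem F25995 : act 1 n6781 = n4962 := d14_1 D6781 (iv D4962) (iv F19241)
theorem F25996 : act 3 n6781 = n4949 := d25_1 D6781 (iv D4949) D4948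
theorem F25997 : act 5 n6781 = n4952 := d32_1 D6781 (iv D4952) (iv F19242)
def n6782 : Q := act 4 n4950
theorem D6782 : act 4 n4950 = n6782 := rfl
theorem F25998 : act 1 n6782 = n5037 := d10_1 D6782 (iv D5037) (iv F19246)
theorem F25999 : act 2 n6782 = n4951 := d16_1 D6782 (iv D4951) D4950
theorem F26000 : act 6 n6782 = n6782 := d27_2 F19248 D6782 (iv D6782)
def n6783 : Q := act 8 n4950
theorem D6783 : act 8 n4950 = n6783 := rfl
theorem F26001 : act 1 n6783 = n5038 := d14_1 D6783 (iv D5038) (iv F19246)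
theorem F26002 : act 2 n6783 = n4952 := d20_1 D6783 (iv D4952) D4950
theorem F26003 : act 3 n6783 = n6783 := d25_1 D6783 (iv D6783) F19247
theorem F26004 : act 6 n6783 = n6783 := d34_1 D6783 (iv D6783) F19248
def n6784 : Q := act 5 n4951
theorem D6784 : act 5 n4951 = n6784 := rfl
theorem F26005 : act 1 n6784 = n4963 := d11_1 D6784 (iv D4963) (iv F19249)
theorem F26006 : act 3 n6784 = n6784 := d22_1 D6784 (iv D6784) F19250
def n6785 : Q := act 8 n4951
theorem D6785 : act 8 n4951 = n6785 := rfl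
theorem F26007 : act 1 n6785 = n4964 := d14_1 D6785 (iv D4964) (iv F19249)
theorem F26008 : act 3 n6785 = n6785 := d25_1 D6785 (iv D6785) F19250
theorem F26009 : act 4 n6785 = n4952 := d29_1 D6785 (iv D4952) D4951
theorem F26010 : act 6 n6785 = n6785 := d34_1 D6785 (iv D6785) F19251
def n6786 : Q := act 7 n4952
theorem D6786 : act 7 n4952 = n6786 := rfl
theorem F26011 : act 1 n6786 = n4965 := d13_1 D6786 (iv D4965) (iv F19252)
theorem F26012 : act 6 n6786 = n6786 := d33_1 D6786 (iv D6786) F19254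
def n6787 : Q := act 5 n4953
theorem D6787 : act 5 n4953 = n6787 := rfl
theorem F26013 : act 0 n6787 = n4968 := d4_1 D6787 (iv D4968) (iv F19255)
theorem F26014 : act 2 n6787 = n5026 := d17_1 D6787 (iv D5026) (iv F19256)
def n6788 : Q := act 7 n4953
theorem D6788 : act 7 n4953 = n6788 := rfl
theorem F26017 : act 0 n6788 = n4969 := d6_1 D6788 (iv D4969) (iv F19255)
theorem F26018 : act 2 n6788 = n5027 := d19_1 D6788 (iv D5027) (iv F19256)
theorem F26019 : act 6 n6788 = n4954 := d33_1 D6788 (iv D4954) D4953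
def n6789 : Q := act 3 n4954
theorem D6789 : act 3 n4954 = n6789 := rfl
theorem F26020 : act 0 n6789 = n4970 := d2_1 D6789 (iv D4970) (iv F19258)
theorem F26021 : act 2 n6789 = n6789 := d15_1 D6789 (iv D6789) F19259 F14502 (iv F19259)
theorem F26022 : act 5 n6789 = n6789 := d22_2 F19260 D6789 (iv D6789)
theorem F26023 : act 7 n6789 = n4957 := d24_2 D4954 D6789 (iv D4957) (iv D3620) D3618
def n6790 : Q := act 8 n4954
theorem D6790 : act 8 n4954 = n6790 := rfl
theorem F26024 : act 0 n6790 = n4971 := d7_1 D6790 (iv D4971) (iv F19258)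
theorem F26025 : act 2 n6790 = n5028 := d20_1 D6790 (iv D5028) (iv F19259)
theorem F26026 : act 5 n6790 = n6790 := d32_1 D6790 (iv D6790) F19260
def n6792 : Q := act 3 n4956
theorem D6792 : act 3 n4956 = n6792 := rfl
theorem F26034 : act 6 n6792 = n4957 := d23_2 (iv F19268) D6792 (iv D4957)
def n6794 : Q := act 4 n4957
theorem D6794 : act 4 n4957 = n6794 := rfl
theorem F26039 : act 0 n6794 = n4975 := d3_1 D6794 (iv D4975) (iv F19269)
theorem F26040 : act 2 n6794 = n6794 := d16_1 D6794 (iv D6794) F19270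
theorem F26041 : act 3 n6794 = n4961 := d21_1 D6794 (iv D4961) (iv D3622) (iv F14289) D4957
def n6795 : Q := act 8 n4957
theorem D6795 : act 8 n4957 = n6795 := rfl
theorem F26044 : act 3 n6795 = n4958 := d25_1 D6795 (iv D4958) D4957
def n6796 : Q := act 4 n4959
theorem D6796 : act 4 n4959 = n6796 := rfl
theorem F26046 : act 0 n6796 = n4977 := d3_1 D6796 (iv D4977) (iv F19276)
theorem F26047 : act 2 n6796 = n5042 := d16_1 D6796 (iv D5042) (iv F19277)
theorem F26048 : act 6 n6796 = n4961 := d27_2 (iv F19279) D6796 (iv D4961)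
def n6797 : Q := act 8 n4959
theorem D6797 : act 8 n4959 = n6797 := rfl
theorem F26049 : act 0 n6797 = n4978 := d7_1 D6797 (iv D4978) (iv F19276)
theorem F26050 : act 2 n6797 = n5043 := d20_1 D6797 (iv D5043) (iv F19277)
theorem F26051 : act 3 n6797 = n4960 := d25_1 D6797 (iv D4960) D4959
theorem F26053 : act 6 n6797 = n4962 := d34_1 D6797 (iv D4962) (iv F19279)
def n6798 : Q := act 5 n4961
theorem D6798 : act 5 n4961 = n6798 := rfl
theorem F26054 : act 0 n6798 = n4979 := d4_1 D6798 (iv D4979) (iv F19284)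
theorem F26055 : act 2 n6798 = n5044 := d17_1 D6798 (iv D5044) (iv F19285)
theorem F26056 : act 4 n6798 = n4963 := d26_1 D6798 (iv D4963) (iv D3624) (iv F14297) D4961
def n6799 : Q := act 8 n4961
theorem D6799 : act 8 n4961 = n6799 := rfl
theorem F26057 : act 0 n6799 = n4980 := d7_1 D6799 (iv D4980) (iv F19284)
theorem F26058 : act 2 n6799 = n5045 := d20_1 D6799 (iv D5045) (iv F19285)
theorem F26059 : act 4 n6799 = n4962 := d29_1 D6799 (iv D4962) D4961
def n6800 : Q := act 7 n4962
theorem D6800 : act 7 n4962 = n6800 := rfl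
theorem F26060 : act 0 n6800 = n4981 := d6_1 D6800 (iv D4981) (iv F19286)
theorem F26061 : act 2 n6800 = n5046 := d19_1 D6800 (iv D5046) (iv F19287)
theorem F26062 : act 5 n6800 = n4965 := d31_1 D6800 (iv D4965) (iv F19289)
def n6801 : Q := act 6 n4963
theorem D6801 : act 6 n4963 = n6801 := rfl
theorem F26063 : act 0 n6801 = n4982 := d5_1 D6801 (iv D4982) (iv F19290)
theorem F26064 : act 2 n6801 = n5047 := d18_1 D6801 (iv D5047) (iv F19291)
theorem F26065 : act 3 n6801 = n6801 := d23_1 D6801 (iv D6801) F19292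
theorem F26066 : act 5 n6801 = n6801 := d30_1 D6801 (iv D6801) (iv D4963) F14304 D4963
def n6802 : Q := act 8 n4963
theorem D6802 : act 8 n4963 = n6802 := rfl
theorem F26067 : act 0 n6802 = n4983 := d7_1 D6802 (iv D4983) (iv F19290)
theorem F26068 : act 2 n6802 = n5048 := d20_1 D6802 (iv D5048) (iv F19291)
theorem F26069 : act 3 n6802 = n6802 := d25_1 D6802 (iv D6802) F19292
theorem F26070 : act 5 n6802 = n4964 := d32_1 D6802 (iv D4964) D4963
def n6803 : Q := act 7 n4964
theorem D6803 : act 7 n4964 = n6803 := rfl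
theorem F26071 : act 0 n6803 = n4984 := d6_1 D6803 (iv D4984) (iv F19293)
theorem F26072 : act 2 n6803 = n5049 := d19_1 D6803 (iv D5049) (iv F19294)
theorem F26073 : act 4 n6803 = n4965 := d28_1 D6803 (iv D4965) (iv F19296)
theorem F26074 : act 6 n6803 = n6803 := d33_1 D6803 (iv D6803) F19297
def n6805 : Q := act 4 n4968
theorem D6805 : act 4 n4968 = n6805 := rfl
theorem F26081 : act 2 n6805 = n5029 := d16_1 D6805 (iv D5029) (iv F19312)
def n6806 : Q := act 7 n4968
theorem D6806 : act 7 n4968 = n6806 := rfl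
theorem F26084 : act 2 n6806 = n5030 := d19_1 D6806 (iv D5030) (iv F19312)
theorem F26085 : act 5 n6806 = n4969 := d31_1 D6806 (iv D4969) D4968
def n6807 : Q := act 3 n4969
theorem D6807 : act 3 n4969 = n6807 := rfl
theorem F26088 : act 6 n6807 = n4970 := d23_2 (iv F19316) D6807 (iv D4970)
def n6808 : Q := act 8 n4969
theorem D6808 : act 8 n4969 = n6808 := rfl
theorem F26090 : act 2 n6808 = n5031 := d20_1 D6808 (iv D5031) (iv F19315)
theorem F26091 : act 6 n6808 = n4971 := d34_1 D6808 (iv D4971) (iv F19316)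
def n6809 : Q := act 4 n4970
theorem D6809 : act 4 n4970 = n6809 := rfl
theorem F26092 : act 2 n6809 = n6809 := d16_1 D6809 (iv D6809) F19317
theorem F26093 : act 7 n6809 = n4975 := d28_2 (iv F19319) D6809 (iv D4975)
def n6810 : Q := act 8 n4970
theorem D6810 : act 8 n4970 = n6810 := rfl
theorem F26094 : act 2 n6810 = n6810 := d20_1 D6810 (iv D6810) F19317
theorem F26095 : act 3 n6810 = n4971 := d25_1 D6810 (iv D4971) D4970
theorem F26096 : act 5 n6810 = n6810 := d32_1 D6810 (iv D6810) F19318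
def n6813 : Q := act 4 n4973
theorem D6813 : act 4 n4973 = n6813 := rfl
theorem F26105 : act 3 n6813 = n4977 := d21_1 D6813 (iv D4977) (iv D3636) (iv F14337) D4973
def n6815 : Q := act 5 n4975
theorem D6815 : act 5 n4975 = n6815 := rfl
theorem F26110 : act 2 n6815 = n6815 := d17_1 D6815 (iv D6815) F19331
theorem F26111 : act 3 n6815 = n4979 := d22_1 D6815 (iv D4979) (iv F19332)
theorem F26112 : act 4 n6815 = n6815 := d26_1 D6815 (iv D6815) (iv D4975) F14340 D4975
def n6816 : Q := act 8 n4975
theorem D6816 : act 8 n4975 = n6816 := rfl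
theorem F26114 : act 3 n6816 = n4980 := d25_1 D6816 (iv D4980) (iv F19332)
theorem F26115 : act 4 n6816 = n4976 := d29_1 D6816 (iv D4976) D4975
def n6817 : Q := act 7 n4976
theorem D6817 : act 7 n4976 = n6817 := rfl
def n6818 : Q := act 5 n4977
theorem D6818 : act 5 n4977 = n6818 := rfl
theorem F26118 : act 2 n6818 = n5050 := d17_1 D6818 (iv D5050) (iv F19336)
theorem F26119 : act 4 n6818 = n6818 := d26_1 D6818 (iv D6818) (iv D4977) F14345 D4977
def n6819 : Q := act 8 n4977
theorem D6819 : act 8 n4977 = n6819 := rfl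
theorem F26120 : act 2 n6819 = n5051 := d20_1 D6819 (iv D5051) (iv F19336)
theorem F26121 : act 4 n6819 = n4978 := d29_1 D6819 (iv D4978) D4977
theorem F26122 : act 6 n6819 = n4980 := d34_1 D6819 (iv D4980) (iv F19337)
def n6820 : Q := act 7 n4978
theorem D6820 : act 7 n4978 = n6820 := rfl
theorem F26123 : act 2 n6820 = n5052 := d19_1 D6820 (iv D5052) (iv F19338)
theorem F26125 : act 6 n6820 = n4981 := d33_1 D6820 (iv D4981) (iv F19341)
def n6821 : Q := act 6 n4979
theorem D6821 : act 6 n4979 = n6821 := rfl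
theorem F26126 : act 2 n6821 = n5053 := d18_1 D6821 (iv D5053) (iv F19342)
theorem F26127 : act 4 n6821 = n4982 := d27_1 D6821 (iv D4982) (iv F19343)
def n6822 : Q := act 8 n4979
theorem D6822 : act 8 n4979 = n6822 := rfl
theorem F26128 : act 2 n6822 = n5054 := d20_1 D6822 (iv D5054) (iv F19342)
theorem F26129 : act 4 n6822 = n4983 := d29_1 D6822 (iv D4983) (iv F19343)
theorem F26130 : act 5 n6822 = n4980 := d32_1 D6822 (iv D4980) D4979
def n6823 : Q := act 7 n4980
theorem D6823 : act 7 n4980 = n6823 := rfl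
theorem F26131 : act 2 n6823 = n5055 := d19_1 D6823 (iv D5055) (iv F19344)
theorem F26132 : act 4 n6823 = n4981 := d28_1 D6823 (iv D4981) (iv F19345)
def n6824 : Q := act 8 n4982
theorem D6824 : act 8 n4982 = n6824 := rfl
theorem F26133 : act 2 n6824 = n5056 := d20_1 D6824 (iv D5056) (iv F19348)
theorem F26134 : act 3 n6824 = n6824 := d25_1 D6824 (iv D6824) F19349
theorem F26135 : act 5 n6824 = n6824 := d32_1 D6824 (iv D6824) F19350
theorem F26136 : act 6 n6824 = n4983 := d34_1 D6824 (iv D4983) D4982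
def n6825 : Q := act 7 n4983
theorem D6825 : act 7 n4983 = n6825 := rfl
theorem F26137 : act 2 n6825 = n5057 := d19_1 D6825 (iv D5057) (iv F19351)
theorem F26138 : act 5 n6825 = n4984 := d31_1 D6825 (iv D4984) (iv F19353)
def n6826 : Q := act 3 n4984
theorem D6826 : act 3 n4984 = n6826 := rfl
theorem F26139 : act 6 n6826 = n6826 := d23_2 F19356 D6826 (iv D6826)
theorem F26140 : act 7 n6826 = n6826 := d24_2 D4984 D6826 (iv D6826) (iv D4984) F14357
def n6827 : Q := act 2 n4986
theorem D6827 : act 2 n4986 = n6827 := rfl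
theorem F26141 : act 0 n6827 = n6827 := d1_1 D6827 (iv D6827) F19362
theorem F26142 : act 3 n6827 = n6827 := d15_2 D4986 D6827 (iv D6827) (iv D4986) F14378
theorem F26143 : act 5 n6827 = n6827 := d17_2 F19364 D6827 (iv D6827)
theorem F26144 : act 8 n6827 = n5022 := d20_2 (iv F19365) D6827 (iv D5022)
def n6828 : Q := act 6 n4986
theorem D6828 : act 6 n4986 = n6828 := rfl
theorem F26145 : act 0 n6828 = n6828 := d5_1 D6828 (iv D6828) F19362
theorem F26146 : act 1 n6828 = n4993 := d12_1 D6828 (iv D4993) (iv F19363)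
theorem F26147 : act 3 n6828 = n4987 := d23_1 D6828 (iv D4987) D4986
theorem F26148 : act 8 n6828 = n5023 := d34_2 (iv F19365) D6828 (iv D5023)
def n6829 : Q := act 7 n4986
theorem D6829 : act 7 n4986 = n6829 := rfl
theorem F26149 : act 0 n6829 = n6829 := d6_1 D6829 (iv D6829) F19362
theorem F26150 : act 1 n6829 = n4994 := d13_1 D6829 (iv D4994) (iv F19363)
theorem F26151 : act 5 n6829 = n6829 := d31_1 D6829 (iv D6829) F19364
def n6830 : Q := act 5 n4987
theorem D6830 : act 5 n4987 = n6830 := rfl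
theorem F26155 : act 4 n6830 = n5489 := d26_1 D6830 (iv D5489) F15778 (iv F14384) (iv F19369)
theorem F26157 : act 8 n6830 = n5025 := d32_2 (iv F19370) D6830 (iv D5025)
def n6831 : Q := act 7 n4987
theorem D6831 : act 7 n4987 = n6831 := rfl
theorem F26161 : act 4 n6831 = n4989 := d28_1 D6831 (iv D4989) (iv F19369)
theorem F26162 : act 6 n6831 = n4988 := d33_1 D6831 (iv D4988) D4987
def n6832 : Q := act 3 n4988
theorem D6832 : act 3 n4988 = n6832 := rfl
theorem F26164 : act 0 n6832 = n6832 := d2_1 D6832 (iv D6832) F19371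
theorem F26165 : act 1 n6832 = n4997 := d9_1 D6832 (iv D4997) (iv F19372)
theorem F26166 : act 5 n6832 = n6832 := d22_2 F19375 D6832 (iv D6832)
theorem F26167 : act 8 n6832 = n6832 := d25_2 F19376 D6832 (iv D6832)
def n6833 : Q := act 3 n4989
theorem D6833 : act 3 n4989 = n6833 := rfl
theorem F26168 : act 0 n6833 = n6833 := d2_1 D6833 (iv D6833) F19377
theorem F26169 : act 1 n6833 = n4998 := d9_1 D6833 (iv D4998) (iv F19378)
theorem F26170 : act 5 n6833 = n5492 := d22_2 (iv F19380) D6833 (iv D5492)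
theorem F26171 : act 6 n6833 = n4990 := d23_2 (iv F19381) D6833 (iv D4990)
theorem F26172 : act 8 n6833 = n6833 := d25_2 F19382 D6833 (iv D6833)
def n6834 : Q := act 2 n4990
theorem D6834 : act 2 n4990 = n6834 := rfl
theorem F26173 : act 0 n6834 = n6834 := d1_1 D6834 (iv D6834) F19383
theorem F26174 : act 1 n6834 = n6834 := d8_1 D6834 (iv D6834) F19384 F14413 (iv F19384)
theorem F26175 : act 3 n6834 = n6834 := d15_2 D4990 D6834 (iv D6834) (iv D4990) F14388
theorem F26176 : act 5 n6834 = n4991 := d17_2 (iv F19385) D6834 (iv D4991)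
theorem F26177 : act 8 n6834 = n6834 := d20_2 F19386 D6834 (iv D6834)
def n6835 : Q := act 4 n4990
theorem D6835 : act 4 n4990 = n6835 := rfl
theorem F26178 : act 0 n6835 = n6835 := d3_1 D6835 (iv D6835) F19383
theorem F26179 : act 1 n6835 = n4999 := d10_1 D6835 (iv D4999) (iv F19384)
theorem F26180 : act 8 n6835 = n6835 := d29_2 F19386 D6835 (iv D6835)
def n6836 : Q := act 4 n4991
theorem D6836 : act 4 n4991 = n6836 := rfl
theorem F26181 : act 0 n6836 = n6836 := d3_1 D6836 (iv D6836) F19387
theorem F26182 : act 1 n6836 = n6836 := d10_1 D6836 (iv D6836) F19388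
theorem F26183 : act 2 n6836 = n4992 := d16_1 D6836 (iv D4992) D4991
theorem F26184 : act 6 n6836 = n5495 := d27_2 (iv F19390) D6836 (iv D5495)
theorem F26185 : act 8 n6836 = n6836 := d29_2 F19391 D6836 (iv D6836)
def n6837 : Q := act 5 n4992
theorem D6837 : act 5 n4992 = n6837 := rfl
theorem F26186 : act 0 n6837 = n6837 := d4_1 D6837 (iv D6837) F19392
theorem F26187 : act 1 n6837 = n5000 := d11_1 D6837 (iv D5000) (iv F19393)
theorem F26188 : act 3 n6837 = n6837 := d22_1 D6837 (iv D6837) F19394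
theorem F26189 : act 8 n6837 = n6837 := d32_2 F19396 D6837 (iv D6837)
def n6838 : Q := act 5 n4993
theorem D6838 : act 5 n4993 = n6838 := rfl
theorem F26190 : act 0 n6838 = n5004 := d4_1 D6838 (iv D5004) (iv F19397)
theorem F26191 : act 3 n6838 = n4995 := d22_1 D6838 (iv D4995) (iv F19398)
theorem F26193 : act 8 n6838 = n5026 := d32_2 (iv F19399) D6838 (iv D5026)
def n6839 : Q := act 7 n4993
theorem D6839 : act 7 n4993 = n6839 := rfl
theorem F26194 : act 0 n6839 = n5005 := d6_1 D6839 (iv D5005) (iv F19397)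
theorem F26195 : act 6 n6839 = n4994 := d33_1 D6839 (iv D4994) D4993
def n6840 : Q := act 3 n4994
theorem D6840 : act 3 n4994 = n6840 := rfl
theorem F26196 : act 0 n6840 = n5006 := d2_1 D6840 (iv D5006) (iv F19400)
theorem F26197 : act 5 n6840 = n6840 := d22_2 F19401 D6840 (iv D6840)
theorem F26198 : act 7 n6840 = n4997 := d24_2 D4994 D6840 (iv D4997) (iv D3652) D3650
def n6841 : Q := act 8 n4994
theorem D6841 : act 8 n4994 = n6841 := rfl
theorem F26199 : act 0 n6841 = n5007 := d7_1 D6841 (iv D5007) (iv F19400)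
theorem F26200 : act 5 n6841 = n6841 := d32_1 D6841 (iv D6841) F19401
theorem F26201 : act 7 n6841 = n5028 := d35_1 D6841 (iv D5028) (iv D3676) (iv F14397) D4994
def n6843 : Q := act 3 n4996
theorem D6843 : act 3 n4996 = n6843 := rfl
theorem F26209 : act 6 n6843 = n4997 := d23_2 (iv F19410) D6843 (iv D4997)
def n6844 : Q := act 2 n4997
theorem D6844 : act 2 n4997 = n6844 := rfl
def n6845 : Q := act 4 n4997
theorem D6845 : act 4 n4997 = n6845 := rfl
theorem F26215 : act 0 n6845 = n5011 := d3_1 D6845 (iv D5011) (iv F19412)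
theorem F26216 : act 3 n6845 = n4999 := d21_1 D6845 (iv D4999) (iv D3654) (iv F14404) D4997
theorem F26217 : act 8 n6845 = n6845 := d29_2 F19414 D6845 (iv D6845)
def n6846 : Q := act 4 n4998
theorem D6846 : act 4 n4998 = n6846 := rfl
theorem F26218 : act 0 n6846 = n5012 := d3_1 D6846 (iv D5012) (iv F19415)
theorem F26219 : act 2 n6846 = n6846 := d16_1 D6846 (iv D6846) F19416
theorem F26220 : act 6 n6846 = n4999 := d27_2 (iv F19418) D6846 (iv D4999)
theorem F26221 : act 8 n6846 = n6846 := d29_2 F19419 D6846 (iv D6846)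
def n6847 : Q := act 5 n4999
theorem D6847 : act 5 n4999 = n6847 := rfl
theorem F26222 : act 0 n6847 = n5013 := d4_1 D6847 (iv D5013) (iv F19420)
theorem F26223 : act 2 n6847 = n6847 := d17_1 D6847 (iv D6847) F19421
theorem F26224 : act 4 n6847 = n5000 := d26_1 D6847 (iv D5000) (iv D3655) (iv F14414) D4999
theorem F26225 : act 8 n6847 = n6847 := d32_2 F19422 D6847 (iv D6847)
def n6848 : Q := act 6 n5000
theorem D6848 : act 6 n5000 = n6848 := rfl
def n6852 : Q := act 4 n5004
theorem D6852 : act 4 n5004 = n6852 := rfl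
theorem F26245 : act 3 n6852 = n5511 := d21_1 D6852 (iv D5511) F15851 (iv F14443) (iv F19443)
theorem F26247 : act 8 n6852 = n5029 := d29_2 (iv F19445) D6852 (iv D5029)
def n6853 : Q := act 7 n5004
theorem D6853 : act 7 n5004 = n6853 := rfl
theorem F26249 : act 5 n6853 = n5005 := d31_1 D6853 (iv D5005) D5004
def n6854 : Q := act 3 n5005
theorem D6854 : act 3 n5005 = n6854 := rfl
theorem F26252 : act 6 n6854 = n5006 := d23_2 (iv F19447) D6854 (iv D5006)
def n6855 : Q := act 8 n5005
theorem D6855 : act 8 n5005 = n6855 := rfl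
theorem F26254 : act 1 n6855 = n6855 := d14_1 D6855 (iv D6855) F19446
theorem F26255 : act 6 n6855 = n5007 := d34_1 D6855 (iv D5007) (iv F19447)
theorem F26256 : act 7 n6855 = n5031 := d35_1 D6855 (iv D5031) (iv D3679) (iv F14438) D5005
def n6856 : Q := act 2 n5006
theorem D6856 : act 2 n5006 = n6856 := rfl
def n6857 : Q := act 4 n5006
theorem D6857 : act 4 n5006 = n6857 := rfl
theorem F26259 : act 1 n6857 = n6857 := d10_1 D6857 (iv D6857) F19448
theorem F26260 : act 7 n6857 = n5011 := d28_2 (iv F19450) D6857 (iv D5011)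
def n6858 : Q := act 8 n5006
theorem D6858 : act 8 n5006 = n6858 := rfl
theorem F26261 : act 1 n6858 = n6858 := d14_1 D6858 (iv D6858) F19448
theorem F26262 : act 3 n6858 = n5007 := d25_1 D6858 (iv D5007) D5006
theorem F26263 : act 5 n6858 = n6858 := d32_1 D6858 (iv D6858) F19449
theorem F26264 : act 7 n6858 = n6858 := d35_1 D6858 (iv D6858) F19450 F14453 (iv F19450)
def n6863 : Q := act 4 n5010
theorem D6863 : act 4 n5010 = n6863 := rfl
theorem F26280 : act 2 n6863 = n5011 := d16_1 D6863 (iv D5011) D5010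
def n6864 : Q := act 5 n5011
theorem D6864 : act 5 n5011 = n6864 := rfl
theorem F26283 : act 1 n6864 = n6864 := d11_1 D6864 (iv D6864) F19466
theorem F26284 : act 3 n6864 = n5013 := d22_1 D6864 (iv D5013) (iv F19467)
theorem F26285 : act 4 n6864 = n6864 := d26_1 D6864 (iv D6864) (iv D5011) F14452 D5011
theorem F26286 : act 8 n6864 = n6864 := d32_2 F19468 D6864 (iv D6864)
def n6865 : Q := act 5 n5012
theorem D6865 : act 5 n5012 = n6865 := rfl
theorem F26289 : act 4 n6865 = n5524 := d26_1 D6865 (iv D5524) (iv D4045) (iv F14456) D5012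
def n6866 : Q := act 6 n5013
theorem D6866 : act 6 n5013 = n6866 := rfl
def n6874 : Q := act 6 n5022
theorem D6874 : act 6 n5022 = n6874 := rfl
theorem F26325 : act 0 n6874 = n6874 := d5_1 D6874 (iv D6874) F19512
theorem F26326 : act 2 n6874 = n5023 := d18_1 D6874 (iv D5023) D5022
theorem F26327 : act 3 n6874 = n6874 := d23_1 D6874 (iv D6874) F19513
def n6875 : Q := act 7 n5022
theorem D6875 : act 7 n5022 = n6875 := rfl
theorem F26328 : act 0 n6875 = n6875 := d6_1 D6875 (iv D6875) F19512
theorem F26329 : act 2 n6875 = n5024 := d19_1 D6875 (iv D5024) D5022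
theorem F26330 : act 5 n6875 = n6875 := d31_1 D6875 (iv D6875) F19514
def n6876 : Q := act 5 n5023
theorem D6876 : act 5 n5023 = n6876 := rfl
theorem F26331 : act 0 n6876 = n6876 := d4_1 D6876 (iv D6876) F19515
theorem F26332 : act 1 n6876 = n5026 := d11_1 D6876 (iv D5026) (iv F19516)
theorem F26333 : act 3 n6876 = n5025 := d22_1 D6876 (iv D5025) (iv F19517)
theorem F26334 : act 6 n6876 = n6876 := d30_2 D5023 D6876 (iv D6876) (iv D5023) F14493
def n6877 : Q := act 7 n5023
theorem D6877 : act 7 n5023 = n6877 := rfl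
theorem F26335 : act 0 n6877 = n6877 := d6_1 D6877 (iv D6877) F19515
theorem F26336 : act 1 n6877 = n5027 := d13_1 D6877 (iv D5027) (iv F19516)
theorem F26337 : act 3 n6877 = n6877 := d24_1 D6877 (iv D6877) F19517 F14498 (iv F19517)
theorem F26338 : act 6 n6877 = n5024 := d33_1 D6877 (iv D5024) D5023
def n6878 : Q := act 8 n5024
theorem D6878 : act 8 n5024 = n6878 := rfl
theorem F26339 : act 0 n6878 = n6878 := d7_1 D6878 (iv D6878) F19518
theorem F26340 : act 1 n6878 = n5028 := d14_1 D6878 (iv D5028) (iv F19519)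
theorem F26341 : act 3 n6878 = n6878 := d25_1 D6878 (iv D6878) F19520
theorem F26342 : act 5 n6878 = n6878 := d32_1 D6878 (iv D6878) F19521
def n6879 : Q := act 4 n5026
theorem D6879 : act 4 n5026 = n6879 := rfl
theorem F26343 : act 0 n6879 = n5029 := d3_1 D6879 (iv D5029) (iv F19528)
theorem F26344 : act 3 n6879 = n5538 := d21_1 D6879 (iv D5538) F15944 (iv F14506) (iv F19529)
theorem F26345 : act 6 n6879 = n6879 := d27_2 F19530 D6879 (iv D6879)
def n6880 : Q := act 7 n5026
theorem D6880 : act 7 n5026 = n6880 := rfl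
theorem F26346 : act 0 n6880 = n5030 := d6_1 D6880 (iv D5030) (iv F19528)
theorem F26347 : act 3 n6880 = n6880 := d24_1 D6880 (iv D6880) F19529 F14508 (iv F19529)
theorem F26348 : act 5 n6880 = n5027 := d31_1 D6880 (iv D5027) D5026
theorem F26349 : act 6 n6880 = n6880 := d33_1 D6880 (iv D6880) F19530
def n6881 : Q := act 8 n5027
theorem D6881 : act 8 n5027 = n6881 := rfl
theorem F26350 : act 0 n6881 = n5031 := d7_1 D6881 (iv D5031) (iv F19531)
theorem F26351 : act 3 n6881 = n6881 := d25_1 D6881 (iv D6881) F19532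
theorem F26352 : act 6 n6881 = n5028 := d34_1 D6881 (iv D5028) (iv F19533)
def n6882 : Q := act 7 n5029
theorem D6882 : act 7 n5029 = n6882 := rfl
theorem F26353 : act 1 n6882 = n6882 := d13_1 D6882 (iv D6882) F19537
theorem F26354 : act 4 n6882 = n5030 := d28_1 D6882 (iv D5030) D5029
theorem F26355 : act 6 n6882 = n6882 := d33_1 D6882 (iv D6882) F19539
def n6883 : Q := act 8 n5030
theorem D6883 : act 8 n5030 = n6883 := rfl
theorem F26356 : act 1 n6883 = n6883 := d14_1 D6883 (iv D6883) F19540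
theorem F26357 : act 3 n6883 = n6883 := d25_1 D6883 (iv D6883) F19541
theorem F26358 : act 5 n6883 = n5031 := d32_1 D6883 (iv D5031) (iv F19542)
theorem F26359 : act 6 n6883 = n6883 := d34_1 D6883 (iv D6883) F19543
def n6884 : Q := act 2 n5032
theorem D6884 : act 2 n5032 = n6884 := rfl
theorem F26360 : act 0 n6884 = n6884 := d1_1 D6884 (iv D6884) F19547
theorem F26361 : act 3 n6884 = n6884 := d15_2 D5032 D6884 (iv D6884) (iv D5032) F14520
theorem F26362 : act 5 n6884 = n6884 := d17_2 F19549 D6884 (iv D6884)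
theorem F26363 : act 6 n6884 = n5034 := d18_2 (iv F19550) D6884 (iv D5034)
def n6885 : Q := act 4 n5032
theorem D6885 : act 4 n5032 = n6885 := rfl
theorem F26364 : act 0 n6885 = n6885 := d3_1 D6885 (iv D6885) F19547
theorem F26365 : act 1 n6885 = n5042 := d10_1 D6885 (iv D5042) (iv F19548)
theorem F26366 : act 3 n6885 = n6885 := d21_1 D6885 (iv D6885) (iv D5032) F14521 D5032
theorem F26367 : act 6 n6885 = n5035 := d27_2 (iv F19550) D6885 (iv D5035)
def n6886 : Q := act 8 n5032
theorem D6886 : act 8 n5032 = n6886 := rfl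
theorem F26368 : act 0 n6886 = n6886 := d7_1 D6886 (iv D6886) F19547
theorem F26369 : act 1 n6886 = n5043 := d14_1 D6886 (iv D5043) (iv F19548)
theorem F26370 : act 3 n6886 = n5033 := d25_1 D6886 (iv D5033) D5032
theorem F26371 : act 5 n6886 = n6886 := d32_1 D6886 (iv D6886) F19549
theorem F26372 : act 6 n6886 = n5036 := d34_1 D6886 (iv D5036) (iv F19550)
def n6887 : Q := act 4 n5034
theorem D6887 : act 4 n5034 = n6887 := rfl
theorem F26373 : act 0 n6887 = n6887 := d3_1 D6887 (iv D6887) F19558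
theorem F26374 : act 2 n6887 = n5035 := d16_1 D6887 (iv D5035) D5034
def n6888 : Q := act 8 n5034
theorem D6888 : act 8 n5034 = n6888 := rfl
theorem F26375 : act 0 n6888 = n6888 := d7_1 D6888 (iv D6888) F19558
theorem F26376 : act 2 n6888 = n5036 := d20_1 D6888 (iv D5036) D5034
theorem F26377 : act 3 n6888 = n6888 := d25_1 D6888 (iv D6888) F19559
theorem F26378 : act 5 n6888 = n5038 := d32_1 D6888 (iv D5038) (iv F19560)
def n6889 : Q := act 5 n5035
theorem D6889 : act 5 n5035 = n6889 := rfl
theorem F26379 : act 0 n6889 = n6889 := d4_1 D6889 (iv D6889) F19561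
theorem F26380 : act 1 n6889 = n5044 := d11_1 D6889 (iv D5044) (iv F19562)
theorem F26381 : act 3 n6889 = n6889 := d22_1 D6889 (iv D6889) F19563
theorem F26382 : act 4 n6889 = n5039 := d26_1 D6889 (iv D5039) (iv D3685) (iv F14526) D5035
def n6890 : Q := act 8 n5035
theorem D6890 : act 8 n5035 = n6890 := rfl
theorem F26383 : act 0 n6890 = n6890 := d7_1 D6890 (iv D6890) F19561
theorem F26384 : act 1 n6890 = n5045 := d14_1 D6890 (iv D5045) (iv F19562)
theorem F26385 : act 3 n6890 = n6890 := d25_1 D6890 (iv D6890) F19563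
theorem F26386 : act 4 n6890 = n5036 := d29_1 D6890 (iv D5036) D5035
def n6891 : Q := act 7 n5036
theorem D6891 : act 7 n5036 = n6891 := rfl
theorem F26387 : act 0 n6891 = n6891 := d6_1 D6891 (iv D6891) F19564
theorem F26388 : act 1 n6891 = n5046 := d13_1 D6891 (iv D5046) (iv F19565)
theorem F26389 : act 3 n6891 = n6891 := d24_1 D6891 (iv D6891) F19566 F14532 (iv F19566)
theorem F26390 : act 5 n6891 = n5041 := d31_1 D6891 (iv D5041) (iv F19567)
def n6892 : Q := act 3 n5037
theorem D6892 : act 3 n5037 = n6892 := rfl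
theorem F26391 : act 0 n6892 = n6892 := d2_1 D6892 (iv D6892) F19568
theorem F26392 : act 2 n6892 = n5059 := d15_1 D6892 (iv D5059) F14594 (iv F14538) (iv F19569)
theorem F26393 : act 4 n6892 = n6892 := d21_2 D5037 D6892 (iv D6892) (iv D5037) F14534
theorem F26394 : act 6 n6892 = n6892 := d23_2 F19570 D6892 (iv D6892)
def n6893 : Q := act 5 n5037
theorem D6893 : act 5 n5037 = n6893 := rfl
theorem F26395 : act 0 n6893 = n6893 := d4_1 D6893 (iv D6893) F19568
theorem F26396 : act 2 n6893 = n5039 := d17_1 D6893 (iv D5039) (iv F19569)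
def n6894 : Q := act 8 n5037
theorem D6894 : act 8 n5037 = n6894 := rfl
theorem F26397 : act 0 n6894 = n6894 := d7_1 D6894 (iv D6894) F19568
theorem F26398 : act 2 n6894 = n5040 := d20_1 D6894 (iv D5040) (iv F19569)
theorem F26399 : act 4 n6894 = n5038 := d29_1 D6894 (iv D5038) D5037
theorem F26400 : act 6 n6894 = n6894 := d34_1 D6894 (iv D6894) F19570
def n6895 : Q := act 7 n5038
theorem D6895 : act 7 n5038 = n6895 := rfl
theorem F26401 : act 0 n6895 = n6895 := d6_1 D6895 (iv D6895) F19571
theorem F26402 : act 2 n6895 = n5041 := d19_1 D6895 (iv D5041) (iv F19572)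
theorem F26403 : act 6 n6895 = n6895 := d33_1 D6895 (iv D6895) F19574
def n6896 : Q := act 6 n5039
theorem D6896 : act 6 n5039 = n6896 := rfl
theorem F26404 : act 0 n6896 = n6896 := d5_1 D6896 (iv D6896) F19575
theorem F26405 : act 1 n6896 = n5047 := d12_1 D6896 (iv D5047) (iv F19576)
theorem F26406 : act 3 n6896 = n5063 := d23_1 D6896 (iv D5063) (iv F19577)
theorem F26407 : act 5 n6896 = n6896 := d30_1 D6896 (iv D6896) (iv D5039) F14539 D5039
def n6897 : Q := act 8 n5039
theorem D6897 : act 8 n5039 = n6897 := rfl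
theorem F26408 : act 0 n6897 = n6897 := d7_1 D6897 (iv D6897) F19575
theorem F26409 : act 1 n6897 = n5048 := d14_1 D6897 (iv D5048) (iv F19576)
theorem F26410 : act 3 n6897 = n5064 := d25_1 D6897 (iv D5064) (iv F19577)
theorem F26411 : act 5 n6897 = n5040 := d32_1 D6897 (iv D5040) D5039
def n6898 : Q := act 7 n5040
theorem D6898 : act 7 n5040 = n6898 := rfl
theorem F26412 : act 0 n6898 = n6898 := d6_1 D6898 (iv D6898) F19578
theorem F26413 : act 1 n6898 = n5049 := d13_1 D6898 (iv D5049) (iv F19579)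
theorem F26414 : act 4 n6898 = n5041 := d28_1 D6898 (iv D5041) (iv F19581)
theorem F26415 : act 6 n6898 = n6898 := d33_1 D6898 (iv D6898) F19582
def n6899 : Q := act 5 n5042
theorem D6899 : act 5 n5042 = n6899 := rfl
theorem F26416 : act 0 n6899 = n5050 := d4_1 D6899 (iv D5050) (iv F19587)
theorem F26417 : act 3 n6899 = n6899 := d22_1 D6899 (iv D6899) F19588
theorem F26418 : act 4 n6899 = n6899 := d26_1 D6899 (iv D6899) (iv D5042) F14545 D5042
def n6900 : Q := act 8 n5042
theorem D6900 : act 8 n5042 = n6900 := rfl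
theorem F26419 : act 0 n6900 = n5051 := d7_1 D6900 (iv D5051) (iv F19587)
theorem F26420 : act 3 n6900 = n6900 := d25_1 D6900 (iv D6900) F19588
theorem F26421 : act 4 n6900 = n5043 := d29_1 D6900 (iv D5043) D5042
theorem F26422 : act 6 n6900 = n5045 := d34_1 D6900 (iv D5045) (iv F19589)
def n6901 : Q := act 7 n5043
theorem D6901 : act 7 n5043 = n6901 := rfl
theorem F26423 : act 0 n6901 = n5052 := d6_1 D6901 (iv D5052) (iv F19590)
theorem F26424 : act 3 n6901 = n6901 := d24_1 D6901 (iv D6901) F19591 F14552 (iv F19591)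
theorem F26425 : act 5 n6901 = n6901 := d31_1 D6901 (iv D6901) F19592
theorem F26426 : act 6 n6901 = n5046 := d33_1 D6901 (iv D5046) (iv F19593)
def n6902 : Q := act 6 n5044
theorem D6902 : act 6 n5044 = n6902 := rfl
theorem F26427 : act 0 n6902 = n5053 := d5_1 D6902 (iv D5053) (iv F19594)
theorem F26428 : act 3 n6902 = n6902 := d23_1 D6902 (iv D6902) F19595
theorem F26429 : act 4 n6902 = n5047 := d27_1 D6902 (iv D5047) (iv F19596)
def n6903 : Q := act 8 n5044
theorem D6903 : act 8 n5044 = n6903 := rfl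
theorem F26430 : act 0 n6903 = n5054 := d7_1 D6903 (iv D5054) (iv F19594)
theorem F26431 : act 3 n6903 = n6903 := d25_1 D6903 (iv D6903) F19595
theorem F26432 : act 4 n6903 = n5048 := d29_1 D6903 (iv D5048) (iv F19596)
theorem F26433 : act 5 n6903 = n5045 := d32_1 D6903 (iv D5045) D5044
def n6904 : Q := act 7 n5045
theorem D6904 : act 7 n5045 = n6904 := rfl
theorem F26434 : act 0 n6904 = n5055 := d6_1 D6904 (iv D5055) (iv F19597)
theorem F26435 : act 4 n6904 = n5046 := d28_1 D6904 (iv D5046) (iv F19599)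
def n6905 : Q := act 8 n5047
theorem D6905 : act 8 n5047 = n6905 := rfl
theorem F26436 : act 0 n6905 = n5056 := d7_1 D6905 (iv D5056) (iv F19603)
theorem F26437 : act 3 n6905 = n5066 := d25_1 D6905 (iv D5066) (iv F19604)
theorem F26438 : act 5 n6905 = n6905 := d32_1 D6905 (iv D6905) F19605
theorem F26439 : act 6 n6905 = n5048 := d34_1 D6905 (iv D5048) D5047
def n6906 : Q := act 7 n5048
theorem D6906 : act 7 n5048 = n6906 := rfl
theorem F26440 : act 0 n6906 = n5057 := d6_1 D6906 (iv D5057) (iv F19606)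
theorem F26441 : act 5 n6906 = n5049 := d31_1 D6906 (iv D5049) (iv F19608)
def n6907 : Q := act 3 n5049
theorem D6907 : act 3 n5049 = n6907 := rfl
theorem F26442 : act 0 n6907 = n5058 := d2_1 D6907 (iv D5058) (iv F19609)
theorem F26443 : act 4 n6907 = n6907 := d21_2 (iv F19610) D6907 (iv D6907) F19610 F14565
theorem F26444 : act 6 n6907 = n6907 := d23_2 F19611 D6907 (iv D6907)
theorem F26445 : act 7 n6907 = n5068 := d24_2 D5049 D6907 (iv D5068) (iv D3709) (iv F14561)
def n6908 : Q := act 6 n5050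
theorem D6908 : act 6 n5050 = n6908 := rfl
theorem F26446 : act 1 n6908 = n6908 := d12_1 D6908 (iv D6908) F19612
theorem F26447 : act 3 n6908 = n6908 := d23_1 D6908 (iv D6908) F19613
theorem F26448 : act 4 n6908 = n6908 := d27_1 D6908 (iv D6908) F19614
theorem F26449 : act 5 n6908 = n5053 := d30_1 D6908 (iv D5053) (iv D3696) (iv F14569) D5050
def n6909 : Q := act 8 n5050
theorem D6909 : act 8 n5050 = n6909 := rfl
theorem F26450 : act 1 n6909 = n6909 := d14_1 D6909 (iv D6909) F19612
theorem F26451 : act 3 n6909 = n6909 := d25_1 D6909 (iv D6909) F19613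
theorem F26452 : act 4 n6909 = n6909 := d29_1 D6909 (iv D6909) F19614
theorem F26453 : act 5 n6909 = n5051 := d32_1 D6909 (iv D5051) D5050
def n6910 : Q := act 7 n5051
theorem D6910 : act 7 n5051 = n6910 := rfl
theorem F26454 : act 1 n6910 = n6910 := d13_1 D6910 (iv D6910) F19615
theorem F26455 : act 4 n6910 = n5052 := d28_1 D6910 (iv D5052) (iv F19617)
theorem F26456 : act 6 n6910 = n5055 := d33_1 D6910 (iv D5055) (iv F19618)
def n6911 : Q := act 8 n5053
theorem D6911 : act 8 n5053 = n6911 := rfl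
theorem F26457 : act 1 n6911 = n6911 := d14_1 D6911 (iv D6911) F19623
theorem F26458 : act 3 n6911 = n6911 := d25_1 D6911 (iv D6911) F19624
theorem F26459 : act 4 n6911 = n5056 := d29_1 D6911 (iv D5056) (iv F19625)
theorem F26460 : act 6 n6911 = n5054 := d34_1 D6911 (iv D5054) D5053
def n6912 : Q := act 7 n5054
theorem D6912 : act 7 n5054 = n6912 := rfl
theorem F26461 : act 1 n6912 = n6912 := d13_1 D6912 (iv D6912) F19626
theorem F26462 : act 4 n6912 = n5057 := d28_1 D6912 (iv D5057) (iv F19628)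
theorem F26463 : act 5 n6912 = n5055 := d31_1 D6912 (iv D5055) (iv F19629)
def n6913 : Q := act 3 n5055
theorem D6913 : act 3 n5055 = n6913 := rfl
theorem F26464 : act 1 n6913 = n6913 := d9_1 D6913 (iv D6913) F19630
theorem F26465 : act 4 n6913 = n6913 := d21_2 (iv F19631) D6913 (iv D6913) F19631 F14581
theorem F26466 : act 7 n6913 = n6913 := d24_2 D5055 D6913 (iv D6913) (iv D5055) F14578
def n6914 : Q := act 7 n5056
theorem D6914 : act 7 n5056 = n6914 := rfl
theorem F26467 : act 1 n6914 = n6914 := d13_1 D6914 (iv D6914) F19632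
theorem F26468 : act 5 n6914 = n6914 := d31_1 D6914 (iv D6914) F19634
theorem F26469 : act 6 n6914 = n5057 := d33_1 D6914 (iv D5057) (iv F19635)
def n6915 : Q := act 3 n5057
theorem D6915 : act 3 n5057 = n6915 := rfl
theorem F26470 : act 1 n6915 = n6915 := d9_1 D6915 (iv D6915) F19636
theorem F26471 : act 5 n6915 = n5058 := d22_2 (iv F19637) D6915 (iv D5058)
theorem F26472 : act 7 n6915 = n5070 := d24_2 D5057 D6915 (iv D5070) (iv D3711) (iv F14587)
def n6916 : Q := act 2 n5058
theorem D6916 : act 2 n5058 = n6916 := rfl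
theorem F26473 : act 4 n6916 = n6916 := d16_2 F19639 D6916 (iv D6916)
theorem F26474 : act 6 n6916 = n6916 := d18_2 F19640 D6916 (iv D6916)
theorem F26475 : act 7 n6916 = n5071 := d19_2 (iv F19641) D6916 (iv D5071)
def n6917 : Q := act 5 n5059
theorem D6917 : act 5 n5059 = n6917 := rfl
theorem F26476 : act 0 n6917 = n6917 := d4_1 D6917 (iv D6917) F19642
theorem F26477 : act 1 n6917 = n6917 := d11_1 D6917 (iv D6917) F19643
theorem F26478 : act 3 n6917 = n5060 := d22_1 D6917 (iv D5060) D5059
def n6918 : Q := act 7 n5059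
theorem D6918 : act 7 n5059 = n6918 := rfl
theorem F26479 : act 0 n6918 = n6918 := d6_1 D6918 (iv D6918) F19642
theorem F26480 : act 1 n6918 = n6918 := d13_1 D6918 (iv D6918) F19643
theorem F26481 : act 3 n6918 = n6918 := d24_1 D6918 (iv D6918) (iv D5059) F14596 D5059
theorem F26482 : act 4 n6918 = n6918 := d28_1 D6918 (iv D6918) F19644
theorem F26483 : act 6 n6918 = n6918 := d33_1 D6918 (iv D6918) F19645
def n6919 : Q := act 8 n5059
theorem D6919 : act 8 n5059 = n6919 := rfl
theorem F26484 : act 0 n6919 = n6919 := d7_1 D6919 (iv D6919) F19642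
theorem F26485 : act 1 n6919 = n6919 := d14_1 D6919 (iv D6919) F19643
theorem F26486 : act 3 n6919 = n5061 := d25_1 D6919 (iv D5061) D5059
theorem F26487 : act 4 n6919 = n6919 := d29_1 D6919 (iv D6919) F19644
theorem F26488 : act 6 n6919 = n6919 := d34_1 D6919 (iv D6919) F19645
def n6920 : Q := act 6 n5060
theorem D6920 : act 6 n5060 = n6920 := rfl
theorem F26489 : act 0 n6920 = n6920 := d5_1 D6920 (iv D6920) F19646
theorem F26490 : act 1 n6920 = n6920 := d12_1 D6920 (iv D6920) F19647
theorem F26491 : act 2 n6920 = n5063 := d18_1 D6920 (iv D5063) (iv F19648)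
theorem F26492 : act 4 n6920 = n6920 := d27_1 D6920 (iv D6920) F19649
theorem F26493 : act 5 n6920 = n6920 := d30_1 D6920 (iv D6920) (iv D5060) F14595 D5060
theorem F26494 : act 7 n6920 = n6920 := d33_2 F19650 D6920 (iv D6920)
def n6921 : Q := act 8 n5060
theorem D6921 : act 8 n5060 = n6921 := rfl
theorem F26495 : act 0 n6921 = n6921 := d7_1 D6921 (iv D6921) F19646
theorem F26496 : act 1 n6921 = n6921 := d14_1 D6921 (iv D6921) F19647
theorem F26497 : act 2 n6921 = n5064 := d20_1 D6921 (iv D5064) (iv F19648)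
theorem F26498 : act 4 n6921 = n6921 := d29_1 D6921 (iv D6921) F19649
theorem F26499 : act 5 n6921 = n5061 := d32_1 D6921 (iv D5061) D5060
def n6922 : Q := act 7 n5061
theorem D6922 : act 7 n5061 = n6922 := rfl
theorem F26500 : act 0 n6922 = n6922 := d6_1 D6922 (iv D6922) F19651
theorem F26501 : act 1 n6922 = n6922 := d13_1 D6922 (iv D6922) F19652
theorem F26502 : act 2 n6922 = n5065 := d19_1 D6922 (iv D5065) (iv F19653)
theorem F26503 : act 4 n6922 = n5062 := d28_1 D6922 (iv D5062) (iv F19654)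
theorem F26504 : act 6 n6922 = n6922 := d33_1 D6922 (iv D6922) F19655
theorem F26505 : act 8 n6922 = n6922 := d35_2 D5061 D6922 (iv D6922) (iv D5061) F14596
def n6923 : Q := act 3 n5062
theorem D6923 : act 3 n5062 = n6923 := rfl
theorem F26506 : act 0 n6923 = n6923 := d2_1 D6923 (iv D6923) F19656
theorem F26507 : act 1 n6923 = n6923 := d9_1 D6923 (iv D6923) F19657
theorem F26508 : act 2 n6923 = n6923 := d15_1 D6923 (iv D6923) F19658 F14613 (iv F19658)
theorem F26509 : act 5 n6923 = n6923 := d22_2 F19659 D6923 (iv D6923)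
theorem F26510 : act 6 n6923 = n6923 := d23_2 F19660 D6923 (iv D6923)
theorem F26511 : act 7 n6923 = n6923 := d24_2 D5062 D6923 (iv D6923) (iv D5062) F14600
theorem F26512 : act 8 n6923 = n6923 := d25_2 F19661 D6923 (iv D6923)
def n6924 : Q := act 8 n5063
theorem D6924 : act 8 n5063 = n6924 := rfl
theorem F26513 : act 0 n6924 = n6924 := d7_1 D6924 (iv D6924) F19662
theorem F26514 : act 1 n6924 = n5066 := d14_1 D6924 (iv D5066) (iv F19663)
theorem F26515 : act 4 n6924 = n6924 := d29_1 D6924 (iv D6924) F19664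
theorem F26516 : act 5 n6924 = n6924 := d32_1 D6924 (iv D6924) F19665
theorem F26517 : act 6 n6924 = n5064 := d34_1 D6924 (iv D5064) D5063
def n6925 : Q := act 7 n5064
theorem D6925 : act 7 n5064 = n6925 := rfl
theorem F26518 : act 0 n6925 = n6925 := d6_1 D6925 (iv D6925) F19667
theorem F26519 : act 1 n6925 = n5067 := d13_1 D6925 (iv D5067) (iv F19668)
theorem F26520 : act 4 n6925 = n6925 := d28_1 D6925 (iv D6925) F19669
theorem F26521 : act 5 n6925 = n5065 := d31_1 D6925 (iv D5065) (iv F19670)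
theorem F26522 : act 8 n6925 = n6925 := d35_2 D5064 D6925 (iv D6925) (iv D5064) F14606
def n6926 : Q := act 3 n5065
theorem D6926 : act 3 n5065 = n6926 := rfl
theorem F26523 : act 0 n6926 = n6926 := d2_1 D6926 (iv D6926) F19671
theorem F26524 : act 1 n6926 = n5068 := d9_1 D6926 (iv D5068) (iv F19672)
theorem F26525 : act 4 n6926 = n6926 := d21_2 (iv F19673) D6926 (iv D6926) F19673 F14613
theorem F26526 : act 6 n6926 = n6926 := d23_2 F19674 D6926 (iv D6926)
theorem F26527 : act 8 n6926 = n6926 := d25_2 F19675 D6926 (iv D6926)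
def n6927 : Q := act 7 n5066
theorem D6927 : act 7 n5066 = n6927 := rfl
theorem F26528 : act 0 n6927 = n5069 := d6_1 D6927 (iv D5069) (iv F19676)
theorem F26529 : act 2 n6927 = n6927 := d19_1 D6927 (iv D6927) F19677
theorem F26530 : act 4 n6927 = n6927 := d28_1 D6927 (iv D6927) F19678
theorem F26531 : act 5 n6927 = n6927 := d31_1 D6927 (iv D6927) F19679
theorem F26532 : act 6 n6927 = n5067 := d33_1 D6927 (iv D5067) (iv F19680)
theorem F26533 : act 8 n6927 = n6927 := d35_2 D5066 D6927 (iv D6927) (iv D5066) F14621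
def n6928 : Q := act 3 n5067
theorem D6928 : act 3 n5067 = n6928 := rfl
theorem F26534 : act 0 n6928 = n5070 := d2_1 D6928 (iv D5070) (iv F19681)
theorem F26535 : act 5 n6928 = n5068 := d22_2 (iv F19684) D6928 (iv D5068)
theorem F26536 : act 8 n6928 = n6928 := d25_2 F19685 D6928 (iv D6928)
def n6929 : Q := act 2 n5068
theorem D6929 : act 2 n5068 = n6929 := rfl
theorem F26537 : act 0 n6929 = n5071 := d1_1 D6929 (iv D5071) (iv F19686)
theorem F26538 : act 3 n6929 = n6929 := d15_2 D5068 D6929 (iv D6929) (iv D5068) F14627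
theorem F26539 : act 4 n6929 = n6929 := d16_2 F19687 D6929 (iv D6929)
theorem F26540 : act 6 n6929 = n6929 := d18_2 F19688 D6929 (iv D6929)
theorem F26541 : act 8 n6929 = n6929 := d20_2 F19689 D6929 (iv D6929)
def n6930 : Q := act 3 n5069
theorem D6930 : act 3 n5069 = n6930 := rfl
theorem F26544 : act 6 n6930 = n5070 := d23_2 (iv F19694) D6930 (iv D5070)
def n6931 : Q := act 2 n5070
theorem D6931 : act 2 n5070 = n6931 := rfl
theorem F26547 : act 5 n6931 = n5071 := d17_2 (iv F19697) D6931 (iv D5071)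
def n6932 : Q := act 4 n5070
theorem D6932 : act 4 n5070 = n6932 := rfl
def n6933 : Q := act 1 n5071
theorem D6933 : act 1 n5071 = n6933 := rfl
def n6934 : Q := act 2 n5072
theorem D6934 : act 2 n5072 = n6934 := rfl
theorem F26560 : act 3 n6934 = n5379 := d15_2 D5072 D6934 (iv D5379) (iv D3937) (iv F14647)
def n6935 : Q := act 6 n5072
theorem D6935 : act 6 n5072 = n6935 := rfl
def n6936 : Q := act 7 n5072
theorem D6936 : act 7 n5072 = n6936 := rfl
theorem F26567 : act 1 n6936 = n5081 := d13_1 D6936 (iv D5081) (iv F19704)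
def n6937 : Q := act 5 n5073
theorem D6937 : act 5 n5073 = n6937 := rfl
def n6939 : Q := act 3 n5074
theorem D6939 : act 3 n5074 = n6939 := rfl
def n6943 : Q := act 4 n5076
theorem D6943 : act 4 n5076 = n6943 := rfl
def n6945 : Q := act 5 n5078
theorem D6945 : act 5 n5078 = n6945 := rfl
def n6950 : Q := act 3 n5081
theorem D6950 : act 3 n5081 = n6950 := rfl
theorem F26621 : act 7 n6950 = n5084 := d24_2 D5081 D6950 (iv D5084) (iv D3720) D3718
def n6956 : Q := act 4 n5084
theorem D6956 : act 4 n5084 = n6956 := rfl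
theorem F26637 : act 3 n6956 = n5088 := d21_1 D6956 (iv D5088) (iv D3722) (iv F14671) D5084
def n6960 : Q := act 5 n5088
theorem D6960 : act 5 n5088 = n6960 := rfl
theorem F26650 : act 4 n6960 = n5090 := d26_1 D6960 (iv D5090) (iv D3724) (iv F14677) D5088
def n6978 : Q := act 4 n5100
theorem D6978 : act 4 n5100 = n6978 := rfl
theorem F26713 : act 7 n6978 = n5106 := d28_2 (iv F19802) D6978 (iv D5106)
def n6988 : Q := act 5 n5106
theorem D6988 : act 5 n5106 = n6988 := rfl
theorem F26736 : act 3 n6988 = n5110 := d22_1 D6988 (iv D5110) (iv F19817)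
def n7004 : Q := act 7 n5119
theorem D7004 : act 7 n5119 = n7004 := rfl
theorem F26789 : act 6 n7004 = n5122 := d33_1 D7004 (iv D5122) (iv F19861)
def n7012 : Q := act 7 n5125
theorem D7012 : act 7 n5125 = n7012 := rfl
theorem F26815 : act 5 n7012 = n5128 := d31_1 D7012 (iv D5128) (iv F19879)
def n7018 : Q := act 3 n5131
theorem D7018 : act 3 n5131 = n7018 := rfl
def n7204 : Q := act 2 n5267
theorem D7204 : act 2 n5267 = n7204 := rfl
theorem F27537 : act 0 n7204 = n7204 := d1_1 D7204 (iv D7204) F20414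
theorem F27538 : act 1 n7204 = n7204 := d8_1 D7204 (iv D7204) F20415 F15183 (iv F20415)
theorem F27539 : act 4 n7204 = n7204 := d16_2 F20416 D7204 (iv D7204)
theorem F27540 : act 5 n7204 = n5379 := d17_2 (iv F20417) D7204 (iv D5379)
theorem F27541 : act 8 n7204 = n6934 := d20_2 (iv F20418) D7204 (iv D6934)
def n7205 : Q := act 6 n5267
theorem D7205 : act 6 n5267 = n7205 := rfl
theorem F27546 : act 8 n7205 = n6935 := d34_2 (iv F20418) D7205 (iv D6935)
def n7206 : Q := act 7 n5267
theorem D7206 : act 7 n5267 = n7206 := rfl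
theorem F27548 : act 1 n7206 = n5276 := d13_1 D7206 (iv D5276) (iv F20415)
theorem F27550 : act 5 n7206 = n5381 := d31_1 D7206 (iv D5381) (iv F20417)
def n7207 : Q := act 5 n5268
theorem D7207 : act 5 n5268 = n7207 := rfl
theorem F27553 : act 6 n7207 = n5382 := d30_2 D5268 D7207 (iv D5382) (iv D3938) (iv F15165)
theorem F27554 : act 8 n7207 = n6937 := d32_2 (iv F20422) D7207 (iv D6937)
def n7211 : Q := act 3 n5270
theorem D7211 : act 3 n5270 = n7211 := rfl
theorem F27569 : act 6 n7211 = n5271 := d23_2 (iv F20429) D7211 (iv D5271)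
def n7213 : Q := act 2 n5271
theorem D7213 : act 2 n5271 = n7213 := rfl
theorem F27575 : act 0 n7213 = n7213 := d1_1 D7213 (iv D7213) F20430
theorem F27576 : act 1 n7213 = n7213 := d8_1 D7213 (iv D7213) F20431 F15199 (iv F20431)
theorem F27577 : act 5 n7213 = n5273 := d17_2 (iv F20432) D7213 (iv D5273)
theorem F27578 : act 7 n7213 = n7213 := d19_2 F20433 D7213 (iv D7213)
def n7214 : Q := act 4 n5271
theorem D7214 : act 4 n5271 = n7214 := rfl
def n7215 : Q := act 8 n5271
theorem D7215 : act 8 n5271 = n7215 := rfl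
def n7216 : Q := act 8 n5273
theorem D7216 : act 8 n5273 = n7216 := rfl
def n7219 : Q := act 7 n5275
theorem D7219 : act 7 n5275 = n7219 := rfl
theorem F27604 : act 6 n7219 = n5276 := d33_1 D7219 (iv D5276) D5275
def n7220 : Q := act 3 n5276
theorem D7220 : act 3 n5276 = n7220 := rfl
theorem F27606 : act 5 n7220 = n5389 := d22_2 (iv F20454) D7220 (iv D5389)
theorem F27607 : act 7 n7220 = n5279 := d24_2 D5276 D7220 (iv D5279) (iv D3862) D3860
def n7222 : Q := act 7 n5277
theorem D7222 : act 7 n5277 = n7222 := rfl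
theorem F27615 : act 5 n7222 = n5278 := d31_1 D7222 (iv D5278) D5277
def n7240 : Q := act 7 n5291
theorem D7240 : act 7 n5291 = n7240 := rfl
theorem F27685 : act 5 n7240 = n5292 := d31_1 D7240 (iv D5292) D5291
def n7241 : Q := act 3 n5292
theorem D7241 : act 3 n5292 = n7241 := rfl
theorem F27688 : act 6 n7241 = n5293 := d23_2 (iv F20518) D7241 (iv D5293)
theorem F27689 : act 7 n7241 = n5296 := d24_2 D5292 D7241 (iv D5296) (iv D3875) (iv F15231)
def n7243 : Q := act 2 n5293
theorem D7243 : act 2 n5293 = n7243 := rfl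
theorem F27697 : act 7 n7243 = n5298 := d19_2 (iv F20521) D7243 (iv D5298)
def n7251 : Q := act 1 n5298
theorem D7251 : act 1 n5298 = n7251 := rfl
theorem F27722 : act 3 n7251 = n5309 := d9_2 (iv F20538) D7251 (iv D5309)
def n7256 : Q := act 5 n5301
theorem D7256 : act 5 n5301 = n7256 := rfl
def n7265 : Q := act 7 n5308
theorem D7265 : act 7 n5308 = n7265 := rfl
theorem F27774 : act 3 n7265 = n7004 := d24_1 D7265 (iv D7004) F19859 (iv F15284) (iv F20575)
def n7273 : Q := act 7 n5314
theorem D7273 : act 7 n5314 = n7273 := rfl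
theorem F27805 : act 3 n7273 = n7012 := d24_1 D7273 (iv D7012) F19878 (iv F15298) (iv F20597)
def n7279 : Q := act 3 n5320
theorem D7279 : act 3 n5320 = n7279 := rfl
theorem F27829 : act 2 n7279 = n7018 := d15_1 D7279 (iv D7018) F19901 (iv F15314) (iv F20620)
def n7280 : Q := act 2 n5321
theorem D7280 : act 2 n5321 = n7280 := rfl
theorem F27835 : act 3 n7280 = n7204 := d15_2 D5321 D7280 (iv D7204) (iv D5267) (iv F15320)
theorem F27836 : act 4 n7280 = n5486 := d16_2 (iv F20626) D7280 (iv D5486)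
theorem F27838 : act 8 n7280 = n5379 := d20_2 (iv F20628) D7280 (iv D5379)
def n7281 : Q := act 6 n5321
theorem D7281 : act 6 n5321 = n7281 := rfl
theorem F27840 : act 1 n7281 = n5330 := d12_1 D7281 (iv D5330) (iv F20625)
theorem F27841 : act 3 n7281 = n5322 := d23_1 D7281 (iv D5322) D5321
theorem F27842 : act 4 n7281 = n5487 := d27_1 D7281 (iv D5487) (iv F20626)
theorem F27843 : act 8 n7281 = n5380 := d34_2 (iv F20628) D7281 (iv D5380)
def n7282 : Q := act 7 n5321
theorem D7282 : act 7 n5321 = n7282 := rfl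
theorem F27846 : act 4 n7282 = n5488 := d28_1 D7282 (iv D5488) (iv F20626)
theorem F27847 : act 5 n7282 = n6936 := d31_1 D7282 (iv D6936) (iv F20627)
def n7283 : Q := act 5 n5322
theorem D7283 : act 5 n5322 = n7283 := rfl
theorem F27850 : act 2 n7283 = n7207 := d17_1 D7283 (iv D7207) (iv F20631)
def n7284 : Q := act 7 n5322
theorem D7284 : act 7 n5322 = n7284 := rfl
theorem F27854 : act 1 n7284 = n5333 := d13_1 D7284 (iv D5333) (iv F20630)
theorem F27857 : act 6 n7284 = n5323 := d33_1 D7284 (iv D5323) D5322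
def n7286 : Q := act 8 n5323
theorem D7286 : act 8 n5323 = n7286 := rfl
theorem F27864 : act 4 n7286 = n5326 := d29_1 D7286 (iv D5326) (iv F20637)
def n7287 : Q := act 3 n5324
theorem D7287 : act 3 n5324 = n7287 := rfl
theorem F27869 : act 6 n7287 = n5325 := d23_2 (iv F20642) D7287 (iv D5325)
theorem F27870 : act 7 n7287 = n5492 := d24_2 D5324 D7287 (iv D5492) (iv D4022) (iv F15326)
def n7289 : Q := act 2 n5325
theorem D7289 : act 2 n5325 = n7289 := rfl
theorem F27878 : act 3 n7289 = n7213 := d15_2 D5325 D7289 (iv D7213) (iv D5271) (iv F15330)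
theorem F27880 : act 7 n7289 = n5493 := d19_2 (iv F20646) D7289 (iv D5493)
def n7292 : Q := act 4 n5327
theorem D7292 : act 4 n5327 = n7292 := rfl
theorem F27892 : act 3 n7292 = n7292 := d21_1 D7292 (iv D7292) F20654 F20440 (iv F20654)
theorem F27893 : act 7 n7292 = n5495 := d28_2 (iv F20655) D7292 (iv D5495)
def n7293 : Q := act 8 n5327
theorem D7293 : act 8 n5327 = n7293 := rfl
def n7294 : Q := act 5 n5328
theorem D7294 : act 5 n5328 = n7294 := rfl
theorem F27901 : act 3 n7294 = n6945 := d22_1 D7294 (iv D6945) (iv F20658)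
theorem F27902 : act 7 n7294 = n5496 := d31_2 (iv F20659) D7294 (iv D5496)
def n7298 : Q := act 3 n5331
theorem D7298 : act 3 n5331 = n7298 := rfl
theorem F27918 : act 5 n7298 = n6950 := d22_2 (iv F20672) D7298 (iv D6950)
theorem F27919 : act 7 n7298 = n5334 := d24_2 D5331 D7298 (iv D5334) (iv D3902) D3900
def n7304 : Q := act 4 n5334
theorem D7304 : act 4 n5334 = n7304 := rfl
theorem F27940 : act 3 n7304 = n5338 := d21_1 D7304 (iv D5338) (iv D3904) (iv F15351) D5334
def n7306 : Q := act 4 n5336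
theorem D7306 : act 4 n5336 = n7306 := rfl
theorem F27946 : act 6 n7306 = n5338 := d27_2 (iv F20690) D7306 (iv D5338)
theorem F27947 : act 7 n7306 = n5505 := d28_2 (iv F20691) D7306 (iv D5505)
def n7310 : Q := act 6 n5340
theorem D7310 : act 6 n5340 = n7310 := rfl
def n7312 : Q := act 3 n5342
theorem D7312 : act 3 n5342 = n7312 := rfl
theorem F27972 : act 5 n7312 = n5343 := d22_2 (iv F20715) D7312 (iv D5343)
def n7313 : Q := act 8 n5342
theorem D7313 : act 8 n5342 = n7313 := rfl
theorem F27977 : act 5 n7313 = n5344 := d32_1 D7313 (iv D5344) (iv F20715)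
def n7319 : Q := act 4 n5347
theorem D7319 : act 4 n5347 = n7319 := rfl
def n7324 : Q := act 4 n5349
theorem D7324 : act 4 n5349 = n7324 := rfl
theorem F28024 : act 3 n7324 = n5516 := d21_1 D7324 (iv D5516) (iv D4039) (iv F15403) D5349
def n7327 : Q := act 8 n5351
theorem D7327 : act 8 n5351 = n7327 := rfl
theorem F28034 : act 5 n7327 = n5353 := d32_1 D7327 (iv D5353) (iv F20755)
def n7344 : Q := act 8 n5363
theorem D7344 : act 8 n5363 = n7344 := rfl
theorem F28093 : act 5 n7344 = n5366 := d32_1 D7344 (iv D5366) (iv F20798)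
def n7353 : Q := act 8 n5370
theorem D7353 : act 8 n5370 = n7353 := rfl
theorem F28131 : act 5 n7353 = n5374 := d32_1 D7353 (iv D5374) (iv F20826)
def n7354 : Q := act 8 n5371
theorem D7354 : act 8 n5371 = n7354 := rfl
theorem F28134 : act 4 n7354 = n5372 := d29_1 D7354 (iv D5372) D5371
def n7363 : Q := act 7 n5379
theorem D7363 : act 7 n5379 = n7363 := rfl
theorem F28177 : act 4 n7363 = n5534 := d28_1 D7363 (iv D5534) (iv F20867)
def n7365 : Q := act 7 n5380
theorem D7365 : act 7 n5380 = n7365 := rfl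
theorem F28184 : act 6 n7365 = n5381 := d33_1 D7365 (iv D5381) D5380
def n7366 : Q := act 3 n5381
theorem D7366 : act 3 n5381 = n7366 := rfl
theorem F28188 : act 7 n7366 = n5384 := d24_2 D5381 D7366 (iv D5384) (iv D3939) D3937
def n7373 : Q := act 4 n5387
theorem D7373 : act 4 n5387 = n7373 := rfl
def n7374 : Q := act 7 n5387
theorem D7374 : act 7 n5387 = n7374 := rfl
theorem F28214 : act 5 n7374 = n5388 := d31_1 D7374 (iv D5388) D5387
def n7375 : Q := act 3 n5388
theorem D7375 : act 3 n5388 = n7375 := rfl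
theorem F28217 : act 6 n7375 = n5389 := d23_2 (iv F20897) D7375 (iv D5389)
theorem F28218 : act 7 n7375 = n5392 := d24_2 D5388 D7375 (iv D5392) (iv D3945) (iv F15514)
def n7395 : Q := act 7 n5403
theorem D7395 : act 7 n5403 = n7395 := rfl
theorem F28282 : act 4 n7395 = n5404 := d28_1 D7395 (iv D5404) D5403
def n7396 : Q := act 3 n5404
theorem D7396 : act 3 n5404 = n7396 := rfl
theorem F28285 : act 5 n7396 = n5405 := d22_2 (iv F20946) D7396 (iv D5405)
theorem F28286 : act 7 n7396 = n5409 := d24_2 D5404 D7396 (iv D5409) (iv D3958) (iv F15551)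
def n7499 : Q := act 6 n5486
theorem D7499 : act 6 n5486 = n7499 := rfl
theorem F28645 : act 0 n7499 = n7499 := d5_1 D7499 (iv D7499) F21230
theorem F28646 : act 1 n7499 = n7499 := d12_1 D7499 (iv D7499) F21231
theorem F28647 : act 2 n7499 = n5487 := d18_1 D7499 (iv D5487) D5486
theorem F28648 : act 3 n7499 = n7499 := d23_1 D7499 (iv D7499) F21232
theorem F28649 : act 8 n7499 = n5533 := d34_2 (iv F21234) D7499 (iv D5533)
def n7500 : Q := act 7 n5486
theorem D7500 : act 7 n5486 = n7500 := rfl
theorem F28652 : act 2 n7500 = n5488 := d19_1 D7500 (iv D5488) D5486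
def n7501 : Q := act 5 n5487
theorem D7501 : act 5 n5487 = n7501 := rfl
theorem F28654 : act 0 n7501 = n7501 := d4_1 D7501 (iv D7501) F21235
theorem F28655 : act 1 n7501 = n5497 := d11_1 D7501 (iv D5497) (iv F21236)
theorem F28656 : act 3 n7501 = n5489 := d22_1 D7501 (iv D5489) (iv F21237)
theorem F28657 : act 6 n7501 = n7501 := d30_2 D5487 D7501 (iv D7501) (iv D5487) F15773
theorem F28658 : act 8 n7501 = n5535 := d32_2 (iv F21238) D7501 (iv D5535)
def n7502 : Q := act 7 n5487
theorem D7502 : act 7 n5487 = n7502 := rfl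
theorem F28661 : act 6 n7502 = n5488 := d33_1 D7502 (iv D5488) D5487
def n7503 : Q := act 3 n5488
theorem D7503 : act 3 n5488 = n7503 := rfl
theorem F28665 : act 7 n7503 = n5491 := d24_2 D5488 D7503 (iv D5491) (iv D4021) D4019
def n7505 : Q := act 7 n5489
theorem D7505 : act 7 n5489 = n7505 := rfl
theorem F28673 : act 5 n7505 = n5490 := d31_1 D7505 (iv D5490) D5489
def n7506 : Q := act 3 n5490
theorem D7506 : act 3 n5490 = n7506 := rfl
theorem F28678 : act 6 n7506 = n5491 := d23_2 (iv F21251) D7506 (iv D5491)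
def n7508 : Q := act 4 n5491
theorem D7508 : act 4 n5491 = n7508 := rfl
theorem F28686 : act 3 n7508 = n5494 := d21_1 D7508 (iv D5494) (iv D4023) (iv F15783) D5491
def n7509 : Q := act 2 n5492
theorem D7509 : act 2 n5492 = n7509 := rfl
theorem F28688 : act 0 n7509 = n7509 := d1_1 D7509 (iv D7509) F21257
theorem F28689 : act 1 n7509 = n7509 := d8_1 D7509 (iv D7509) F21258 F15823 (iv F21258)
theorem F28690 : act 3 n7509 = n7509 := d15_2 D5492 D7509 (iv D7509) (iv D5492) F15788
theorem F28691 : act 6 n7509 = n5493 := d18_2 (iv F21259) D7509 (iv D5493)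
theorem F28692 : act 8 n7509 = n7509 := d20_2 F21260 D7509 (iv D7509)
def n7510 : Q := act 4 n5492
theorem D7510 : act 4 n5492 = n7510 := rfl
theorem F28695 : act 6 n7510 = n5494 := d27_2 (iv F21259) D7510 (iv D5494)
def n7511 : Q := act 4 n5493
theorem D7511 : act 4 n5493 = n7511 := rfl
theorem F28699 : act 2 n7511 = n5494 := d16_1 D7511 (iv D5494) D5493
theorem F28700 : act 8 n7511 = n7511 := d29_2 F21265 D7511 (iv D7511)
def n7513 : Q := act 3 n5495
theorem D7513 : act 3 n5495 = n7513 := rfl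
theorem F28705 : act 0 n7513 = n7513 := d2_1 D7513 (iv D7513) F21269
theorem F28706 : act 1 n7513 = n7513 := d9_1 D7513 (iv D7513) F21270
theorem F28707 : act 2 n7513 = n7513 := d15_1 D7513 (iv D7513) F21271 F15801 (iv F21271)
theorem F28708 : act 4 n7513 = n7513 := d21_2 D5495 D7513 (iv D7513) (iv D5495) F15797
theorem F28709 : act 7 n7513 = n7513 := d24_2 F27893 D7513 (iv D7513) (iv F27893) F27892
theorem F28710 : act 8 n7513 = n7513 := d25_2 F21272 D7513 (iv D7513)
def n7514 : Q := act 5 n5495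
theorem D7514 : act 5 n5495 = n7514 := rfl
theorem F28713 : act 2 n7514 = n5496 := d17_1 D7514 (iv D5496) (iv F21271)
def n7515 : Q := act 6 n5496
theorem D7515 : act 6 n5496 = n7515 := rfl
def n7516 : Q := act 4 n5497
theorem D7516 : act 4 n5497 = n7516 := rfl
theorem F28719 : act 0 n7516 = n5511 := d3_1 D7516 (iv D5511) (iv F21277)
theorem F28720 : act 2 n7516 = n7516 := d16_1 D7516 (iv D7516) F21278
theorem F28721 : act 6 n7516 = n7516 := d27_2 F21280 D7516 (iv D7516)
theorem F28722 : act 8 n7516 = n5538 := d29_2 (iv F21281) D7516 (iv D5538)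
def n7517 : Q := act 7 n5497
theorem D7517 : act 7 n5497 = n7517 := rfl
theorem F28725 : act 5 n7517 = n5498 := d31_1 D7517 (iv D5498) D5497
def n7518 : Q := act 3 n5498
theorem D7518 : act 3 n5498 = n7518 := rfl
theorem F28728 : act 6 n7518 = n5499 := d23_2 (iv F21284) D7518 (iv D5499)
theorem F28729 : act 7 n7518 = n5502 := d24_2 D5498 D7518 (iv D5502) (iv D4029) (iv F15805)
def n7520 : Q := act 2 n5499
theorem D7520 : act 2 n5499 = n7520 := rfl
theorem F28737 : act 7 n7520 = n5503 := d19_2 (iv F21287) D7520 (iv D5503)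
def n7529 : Q := act 5 n5505
theorem D7529 : act 5 n5505 = n7529 := rfl
def n7535 : Q := act 7 n5511
theorem D7535 : act 7 n5511 = n7535 := rfl
theorem F28798 : act 4 n7535 = n5512 := d28_1 D7535 (iv D5512) D5511
def n7539 : Q := act 4 n5513
theorem D7539 : act 4 n5513 = n7539 := rfl
theorem F28813 : act 6 n7539 = n5516 := d27_2 (iv F21344) D7539 (iv D5516)
theorem F28814 : act 7 n7539 = n5520 := d28_2 (iv F21345) D7539 (iv D5520)
def n7562 : Q := act 5 n5533
theorem D7562 : act 5 n5533 = n7562 := rfl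
theorem F28904 : act 0 n7562 = n7562 := d4_1 D7562 (iv D7562) F21424
theorem F28905 : act 1 n7562 = n7562 := d11_1 D7562 (iv D7562) F21425
theorem F28906 : act 2 n7562 = n5535 := d17_1 D7562 (iv D5535) (iv F21426)
theorem F28907 : act 3 n7562 = n7562 := d22_1 D7562 (iv D7562) F21427
theorem F28908 : act 6 n7562 = n7562 := d30_2 D5533 D7562 (iv D7562) (iv D5533) F15929
def n7563 : Q := act 7 n5533
theorem D7563 : act 7 n5533 = n7563 := rfl
theorem F28912 : act 6 n7563 = n5534 := d33_1 D7563 (iv D5534) D5533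
def n7564 : Q := act 3 n5534
theorem D7564 : act 3 n5534 = n7564 := rfl
theorem F28916 : act 5 n7564 = n7564 := d22_2 F21431 D7564 (iv D7564)
def n7566 : Q := act 4 n5535
theorem D7566 : act 4 n5535 = n7566 := rfl
theorem F28922 : act 0 n7566 = n7566 := d3_1 D7566 (iv D7566) F21432
theorem F28923 : act 1 n7566 = n5538 := d10_1 D7566 (iv D5538) (iv F21433)
theorem F28924 : act 6 n7566 = n7566 := d27_2 F21435 D7566 (iv D7566)
def n7567 : Q := act 7 n5535
theorem D7567 : act 7 n5535 = n7567 := rfl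
theorem F28928 : act 5 n7567 = n5536 := d31_1 D7567 (iv D5536) D5535
def n7569 : Q := act 7 n5538
theorem D7569 : act 7 n5538 = n7569 := rfl
theorem F28936 : act 4 n7569 = n5539 := d28_1 D7569 (iv D5539) D5538
def n7571 : Q := act 3 n5541
theorem D7571 : act 3 n5541 = n7571 := rfl
def n7723 : Q := act 4 n5653
theorem D7723 : act 4 n5653 = n7723 := rfl
theorem F29571 : act 0 n7723 = n5682 := d3_1 D7723 (iv D5682) (iv F21924)
theorem F29572 : act 1 n7723 = n5655 := d10_1 D7723 (iv D5655) (iv F21925)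
theorem F29573 : act 2 n7723 = n6178 := d16_1 D7723 (iv D6178) (iv F21926)
def n7724 : Q := act 6 n5653
theorem D7724 : act 6 n5653 = n7724 := rfl
theorem F29576 : act 2 n7724 = n6179 := d18_1 D7724 (iv D6179) (iv F21926)
def n7725 : Q := act 7 n5653
theorem D7725 : act 7 n5653 = n7725 := rfl
theorem F29579 : act 0 n7725 = n5684 := d6_1 D7725 (iv D5684) (iv F21924)
theorem F29580 : act 1 n7725 = n5657 := d13_1 D7725 (iv D5657) (iv F21925)
theorem F29581 : act 2 n7725 = n6180 := d19_1 D7725 (iv D6180) (iv F21926)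
theorem F29582 : act 5 n7725 = n5654 := d31_1 D7725 (iv D5654) D5653
def n7726 : Q := act 3 n5654
theorem D7726 : act 3 n5654 = n7726 := rfl
theorem F29583 : act 0 n7726 = n5685 := d2_1 D7726 (iv D5685) (iv F21928)
theorem F29584 : act 1 n7726 = n5658 := d9_1 D7726 (iv D5658) (iv F21929)
theorem F29585 : act 6 n7726 = n7726 := d23_2 F21931 D7726 (iv D7726)
theorem F29586 : act 7 n7726 = n7726 := d24_2 D5654 D7726 (iv D7726) (iv D5654) F16304
def n7727 : Q := act 8 n5654
theorem D7727 : act 8 n5654 = n7727 := rfl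
theorem F29587 : act 0 n7727 = n5686 := d7_1 D7727 (iv D5686) (iv F21928)
theorem F29588 : act 1 n7727 = n5659 := d14_1 D7727 (iv D5659) (iv F21929)
theorem F29589 : act 2 n7727 = n6182 := d20_1 D7727 (iv D6182) (iv F21930)
theorem F29590 : act 6 n7727 = n7727 := d34_1 D7727 (iv D7727) F21931
def n7728 : Q := act 3 n5655
theorem D7728 : act 3 n5655 = n7728 := rfl
theorem F29591 : act 0 n7728 = n5664 := d2_1 D7728 (iv D5664) (iv F21932)
theorem F29592 : act 2 n7728 = n7728 := d15_1 D7728 (iv D7728) F21933 F16314 (iv F21933)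
theorem F29593 : act 4 n7728 = n7728 := d21_2 D5655 D7728 (iv D7728) (iv D5655) F16308
def n7729 : Q := act 6 n5655
theorem D7729 : act 6 n5655 = n7729 := rfl
theorem F29594 : act 0 n7729 = n5665 := d5_1 D7729 (iv D5665) (iv F21932)
theorem F29596 : act 4 n7729 = n5656 := d27_1 D7729 (iv D5656) D5655
def n7730 : Q := act 7 n5655
theorem D7730 : act 7 n5655 = n7730 := rfl
theorem F29597 : act 0 n7730 = n5666 := d6_1 D7730 (iv D5666) (iv F21932)
theorem F29598 : act 2 n7730 = n5661 := d19_1 D7730 (iv D5661) (iv F21933)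
theorem F29599 : act 4 n7730 = n5657 := d28_1 D7730 (iv D5657) D5655
def n7732 : Q := act 3 n5657
theorem D7732 : act 3 n5657 = n7732 := rfl
theorem F29604 : act 0 n7732 = n5668 := d2_1 D7732 (iv D5668) (iv F21938)
theorem F29605 : act 2 n7732 = n7732 := d15_1 D7732 (iv D7732) F21939 F16321 (iv F21939)
theorem F29606 : act 5 n7732 = n5658 := d22_2 (iv F21940) D7732 (iv D5658)
theorem F29607 : act 7 n7732 = n7732 := d24_2 D5657 D7732 (iv D7732) (iv D5657) F16308
def n7733 : Q := act 8 n5657
theorem D7733 : act 8 n5657 = n7733 := rfl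
theorem F29608 : act 0 n7733 = n5669 := d7_1 D7733 (iv D5669) (iv F21938)
theorem F29609 : act 2 n7733 = n5663 := d20_1 D7733 (iv D5663) (iv F21939)
theorem F29610 : act 5 n7733 = n5659 := d32_1 D7733 (iv D5659) (iv F21940)
def n7734 : Q := act 4 n5658
theorem D7734 : act 4 n5658 = n7734 := rfl
theorem F29611 : act 0 n7734 = n5670 := d3_1 D7734 (iv D5670) (iv F21941)
theorem F29612 : act 2 n7734 = n7734 := d16_1 D7734 (iv D7734) F21942
theorem F29613 : act 6 n7734 = n7734 := d27_2 F21943 D7734 (iv D7734)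
theorem F29614 : act 7 n7734 = n7734 := d28_2 F21944 D7734 (iv D7734)
def n7735 : Q := act 8 n5658
theorem D7735 : act 8 n5658 = n7735 := rfl
theorem F29615 : act 0 n7735 = n5671 := d7_1 D7735 (iv D5671) (iv F21941)
theorem F29616 : act 2 n7735 = n7735 := d20_1 D7735 (iv D7735) F21942
theorem F29617 : act 3 n7735 = n5659 := d25_1 D7735 (iv D5659) D5658
theorem F29618 : act 6 n7735 = n7735 := d34_1 D7735 (iv D7735) F21943
def n7736 : Q := act 5 n5660
theorem D7736 : act 5 n5660 = n7736 := rfl
theorem F29619 : act 0 n7736 = n5672 := d4_1 D7736 (iv D5672) (iv F21948)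
theorem F29620 : act 1 n7736 = n6191 := d11_1 D7736 (iv D6191) (iv F21949)
def n7737 : Q := act 7 n5660
theorem D7737 : act 7 n5660 = n7737 := rfl
theorem F29624 : act 1 n7737 = n6192 := d13_1 D7737 (iv D6192) (iv F21949)
def n7738 : Q := act 3 n5661
theorem D7738 : act 3 n5661 = n7738 := rfl
theorem F29627 : act 0 n7738 = n5674 := d2_1 D7738 (iv D5674) (iv F21952)
theorem F29628 : act 1 n7738 = n6193 := d9_1 D7738 (iv D6193) (iv F21953)
theorem F29629 : act 4 n7738 = n7738 := d21_2 (iv F21954) D7738 (iv D7738) F21954 F16321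
theorem F29630 : act 7 n7738 = n7738 := d24_2 D5661 D7738 (iv D7738) (iv D5661) F16314
def n7739 : Q := act 8 n5661
theorem D7739 : act 8 n5661 = n7739 := rfl
theorem F29631 : act 0 n7739 = n5675 := d7_1 D7739 (iv D5675) (iv F21952)
theorem F29632 : act 1 n7739 = n6194 := d14_1 D7739 (iv D6194) (iv F21953)
theorem F29633 : act 4 n7739 = n5663 := d29_1 D7739 (iv D5663) (iv F21954)
def n7740 : Q := act 8 n5662
theorem D7740 : act 8 n5662 = n7740 := rfl
theorem F29635 : act 1 n7740 = n6195 := d14_1 D7740 (iv D6195) (iv F21956)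
def n7741 : Q := act 6 n5664
theorem D7741 : act 6 n5664 = n7741 := rfl
theorem F29639 : act 1 n7741 = n5700 := d12_1 D7741 (iv D5700) (iv F21964)
def n7742 : Q := act 7 n5664
theorem D7742 : act 7 n5664 = n7742 := rfl
theorem F29643 : act 1 n7742 = n5701 := d13_1 D7742 (iv D5701) (iv F21964)
theorem F29644 : act 2 n7742 = n7742 := d19_1 D7742 (iv D7742) F21965
theorem F29645 : act 4 n7742 = n7742 := d28_1 D7742 (iv D7742) F21966
def n7743 : Q := act 5 n5665
theorem D7743 : act 5 n5665 = n7743 := rfl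
theorem F29646 : act 1 n7743 = n5702 := d11_1 D7743 (iv D5702) (iv F21967)
def n7745 : Q := act 3 n5666
theorem D7745 : act 3 n5666 = n7745 := rfl
theorem F29653 : act 1 n7745 = n5704 := d9_1 D7745 (iv D5704) (iv F21970)
def n7746 : Q := act 8 n5666
theorem D7746 : act 8 n5666 = n7746 := rfl
theorem F29654 : act 1 n7746 = n5705 := d14_1 D7746 (iv D5705) (iv F21970)
theorem F29655 : act 2 n7746 = n5675 := d20_1 D7746 (iv D5675) (iv F21971)
theorem F29656 : act 4 n7746 = n5669 := d29_1 D7746 (iv D5669) (iv F21972)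
def n7748 : Q := act 8 n5667
theorem D7748 : act 8 n5667 = n7748 := rfl
def n7749 : Q := act 4 n5668
theorem D7749 : act 4 n5668 = n7749 := rfl
theorem F29666 : act 1 n7749 = n5708 := d10_1 D7749 (iv D5708) (iv F21977)
theorem F29667 : act 2 n7749 = n7749 := d16_1 D7749 (iv D7749) F21978
theorem F29668 : act 7 n7749 = n7749 := d28_2 F21980 D7749 (iv D7749)
def n7750 : Q := act 8 n5668
theorem D7750 : act 8 n5668 = n7750 := rfl
theorem F29669 : act 1 n7750 = n5709 := d14_1 D7750 (iv D5709) (iv F21977)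
theorem F29670 : act 2 n7750 = n7750 := d20_1 D7750 (iv D7750) F21978
theorem F29671 : act 3 n7750 = n5669 := d25_1 D7750 (iv D5669) D5668
theorem F29672 : act 5 n7750 = n5671 := d32_1 D7750 (iv D5671) (iv F21979)
def n7751 : Q := act 5 n5670
theorem D7751 : act 5 n5670 = n7751 := rfl
theorem F29673 : act 1 n7751 = n5710 := d11_1 D7751 (iv D5710) (iv F21984)
theorem F29674 : act 2 n7751 = n7751 := d17_1 D7751 (iv D7751) F21985
theorem F29675 : act 7 n7751 = n7751 := d31_2 F21987 D7751 (iv D7751)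
def n7752 : Q := act 8 n5670
theorem D7752 : act 8 n5670 = n7752 := rfl
theorem F29676 : act 1 n7752 = n5711 := d14_1 D7752 (iv D5711) (iv F21984)
theorem F29677 : act 2 n7752 = n7752 := d20_1 D7752 (iv D7752) F21985
theorem F29678 : act 4 n7752 = n5671 := d29_1 D7752 (iv D5671) D5670
theorem F29679 : act 6 n7752 = n7752 := d34_1 D7752 (iv D7752) F21986
def n7753 : Q := act 7 n5671
theorem D7753 : act 7 n5671 = n7753 := rfl
theorem F29680 : act 1 n7753 = n5712 := d13_1 D7753 (iv D5712) (iv F21988)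
theorem F29681 : act 2 n7753 = n7753 := d19_1 D7753 (iv D7753) F21989
theorem F29682 : act 6 n7753 = n7753 := d33_1 D7753 (iv D7753) F21991
theorem F29683 : act 8 n7753 = n7753 := d35_2 D5671 D7753 (iv D7753) (iv D5671) F16339
def n7756 : Q := act 8 n5673
theorem D7756 : act 8 n5673 = n7756 := rfl
def n7757 : Q := act 2 n5674
theorem D7757 : act 2 n5674 = n7757 := rfl
theorem F29694 : act 4 n7757 = n7757 := d16_2 F21999 D7757 (iv D7757)
theorem F29695 : act 7 n7757 = n7757 := d19_2 F22000 D7757 (iv D7757)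
def n7758 : Q := act 8 n5674
theorem D7758 : act 8 n5674 = n7758 := rfl
theorem F29696 : act 1 n7758 = n5681 := d14_1 D7758 (iv D5681) (iv F21998)
theorem F29697 : act 3 n7758 = n5675 := d25_1 D7758 (iv D5675) D5674
theorem F29698 : act 4 n7758 = n7758 := d29_1 D7758 (iv D7758) F21999
def n7760 : Q := act 8 n5677
theorem D7760 : act 8 n5677 = n7760 := rfl
theorem F29702 : act 0 n7760 = n6215 := d7_1 D7760 (iv D6215) (iv F22007)
def n7762 : Q := act 8 n5678
theorem D7762 : act 8 n5678 = n7762 := rfl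
theorem F29711 : act 0 n7762 = n6217 := d7_1 D7762 (iv D6217) (iv F22011)
def n7763 : Q := act 1 n5680
theorem D7763 : act 1 n5680 = n7763 := rfl
theorem F29715 : act 3 n7763 = n5722 := d9_2 (iv F22020) D7763 (iv D5722)
def n7764 : Q := act 8 n5680
theorem D7764 : act 8 n5680 = n7764 := rfl
def n7765 : Q := act 7 n5681
theorem D7765 : act 7 n5681 = n7765 := rfl
theorem F29722 : act 0 n7765 = n6220 := d6_1 D7765 (iv D6220) (iv F22023)
theorem F29723 : act 4 n7765 = n7765 := d28_1 D7765 (iv D7765) F22025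
theorem F29724 : act 8 n7765 = n7765 := d35_2 D5681 D7765 (iv D7765) (iv D5681) F16365
def n7766 : Q := act 3 n5682
theorem D7766 : act 3 n5682 = n7766 := rfl
theorem F29725 : act 1 n7766 = n5687 := d9_1 D7766 (iv D5687) (iv F22026)
theorem F29726 : act 4 n7766 = n7766 := d21_2 D5682 D7766 (iv D7766) (iv D5682) F16376
def n7767 : Q := act 6 n5682
theorem D7767 : act 6 n5682 = n7767 := rfl
theorem F29727 : act 1 n7767 = n5688 := d12_1 D7767 (iv D5688) (iv F22026)
theorem F29728 : act 2 n7767 = n6265 := d18_1 D7767 (iv D6265) (iv F22027)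
def n7768 : Q := act 7 n5682
theorem D7768 : act 7 n5682 = n7768 := rfl
theorem F29730 : act 1 n7768 = n5689 := d13_1 D7768 (iv D5689) (iv F22026)
theorem F29731 : act 2 n7768 = n6266 := d19_1 D7768 (iv D6266) (iv F22027)
theorem F29732 : act 4 n7768 = n5684 := d28_1 D7768 (iv D5684) D5682
def n7769 : Q := act 7 n5683
theorem D7769 : act 7 n5683 = n7769 := rfl
theorem F29734 : act 2 n7769 = n6267 := d19_1 D7769 (iv D6267) (iv F22029)
def n7770 : Q := act 3 n5684
theorem D7770 : act 3 n5684 = n7770 := rfl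
theorem F29737 : act 1 n7770 = n5691 := d9_1 D7770 (iv D5691) (iv F22032)
theorem F29738 : act 5 n7770 = n5685 := d22_2 (iv F22034) D7770 (iv D5685)
theorem F29739 : act 7 n7770 = n7770 := d24_2 D5684 D7770 (iv D7770) (iv D5684) F16376
def n7771 : Q := act 8 n5684
theorem D7771 : act 8 n5684 = n7771 := rfl
theorem F29740 : act 1 n7771 = n5692 := d14_1 D7771 (iv D5692) (iv F22032)
theorem F29741 : act 2 n7771 = n6269 := d20_1 D7771 (iv D6269) (iv F22033)
theorem F29742 : act 5 n7771 = n5686 := d32_1 D7771 (iv D5686) (iv F22034)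
def n7772 : Q := act 2 n5685
theorem D7772 : act 2 n5685 = n7772 := rfl
theorem F29743 : act 1 n7772 = n5791 := d8_1 D7772 (iv D5791) F16623 (iv F16390) (iv F22035)
theorem F29744 : act 3 n7772 = n6270 := d15_2 D5685 D7772 (iv D6270) (iv D4580) (iv F16378)
theorem F29745 : act 6 n7772 = n7772 := d18_2 F22036 D7772 (iv D7772)
theorem F29746 : act 7 n7772 = n7772 := d19_2 F22037 D7772 (iv D7772)
def n7773 : Q := act 4 n5685
theorem D7773 : act 4 n5685 = n7773 := rfl
theorem F29747 : act 1 n7773 = n5693 := d10_1 D7773 (iv D5693) (iv F22035)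
theorem F29748 : act 6 n7773 = n7773 := d27_2 F22036 D7773 (iv D7773)
theorem F29749 : act 7 n7773 = n7773 := d28_2 F22037 D7773 (iv D7773)
def n7774 : Q := act 8 n5685
theorem D7774 : act 8 n5685 = n7774 := rfl
theorem F29750 : act 1 n7774 = n5694 := d14_1 D7774 (iv D5694) (iv F22035)
theorem F29751 : act 3 n7774 = n5686 := d25_1 D7774 (iv D5686) D5685
theorem F29752 : act 6 n7774 = n7774 := d34_1 D7774 (iv D7774) F22036
def n7775 : Q := act 6 n5687
theorem D7775 : act 6 n5687 = n7775 := rfl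
theorem F29754 : act 2 n7775 = n5733 := d18_1 D7775 (iv D5733) (iv F22042)
def n7776 : Q := act 7 n5687
theorem D7776 : act 7 n5687 = n7776 := rfl
theorem F29757 : act 0 n7776 = n5701 := d6_1 D7776 (iv D5701) (iv F22041)
theorem F29758 : act 2 n7776 = n5734 := d19_1 D7776 (iv D5734) (iv F22042)
theorem F29759 : act 4 n7776 = n7776 := d28_1 D7776 (iv D7776) F22043
def n7777 : Q := act 5 n5688
theorem D7777 : act 5 n5688 = n7777 := rfl
theorem F29761 : act 2 n7777 = n5695 := d17_1 D7777 (iv D5695) (iv F22045)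
def n7779 : Q := act 3 n5689
theorem D7779 : act 3 n5689 = n7779 := rfl
theorem F29767 : act 0 n7779 = n5704 := d2_1 D7779 (iv D5704) (iv F22047)
def n7780 : Q := act 8 n5689
theorem D7780 : act 8 n5689 = n7780 := rfl
theorem F29768 : act 0 n7780 = n5705 := d7_1 D7780 (iv D5705) (iv F22047)
theorem F29769 : act 2 n7780 = n5698 := d20_1 D7780 (iv D5698) (iv F22048)
theorem F29770 : act 4 n7780 = n5692 := d29_1 D7780 (iv D5692) (iv F22049)
def n7782 : Q := act 8 n5690
theorem D7782 : act 8 n5690 = n7782 := rfl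
def n7783 : Q := act 4 n5691
theorem D7783 : act 4 n5691 = n7783 := rfl
theorem F29780 : act 0 n7783 = n5708 := d3_1 D7783 (iv D5708) (iv F22054)
theorem F29781 : act 2 n7783 = n5802 := d16_1 D7783 (iv D5802) (iv F22055)
theorem F29782 : act 7 n7783 = n7783 := d28_2 F22057 D7783 (iv D7783)
def n7784 : Q := act 8 n5691
theorem D7784 : act 8 n5691 = n7784 := rfl
theorem F29783 : act 0 n7784 = n5709 := d7_1 D7784 (iv D5709) (iv F22054)
theorem F29784 : act 2 n7784 = n5803 := d20_1 D7784 (iv D5803) (iv F22055)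
theorem F29785 : act 3 n7784 = n5692 := d25_1 D7784 (iv D5692) D5691
theorem F29786 : act 5 n7784 = n5694 := d32_1 D7784 (iv D5694) (iv F22056)
def n7785 : Q := act 5 n5693
theorem D7785 : act 5 n5693 = n7785 := rfl
theorem F29787 : act 0 n7785 = n5710 := d4_1 D7785 (iv D5710) (iv F22061)
theorem F29788 : act 2 n7785 = n5804 := d17_1 D7785 (iv D5804) (iv F22062)
theorem F29789 : act 7 n7785 = n7785 := d31_2 F22064 D7785 (iv D7785)
def n7786 : Q := act 8 n5693
theorem D7786 : act 8 n5693 = n7786 := rfl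
theorem F29790 : act 0 n7786 = n5711 := d7_1 D7786 (iv D5711) (iv F22061)
theorem F29791 : act 2 n7786 = n5805 := d20_1 D7786 (iv D5805) (iv F22062)
theorem F29792 : act 4 n7786 = n5694 := d29_1 D7786 (iv D5694) D5693
theorem F29793 : act 6 n7786 = n7786 := d34_1 D7786 (iv D7786) F22063
def n7787 : Q := act 7 n5694
theorem D7787 : act 7 n5694 = n7787 := rfl
theorem F29794 : act 0 n7787 = n5712 := d6_1 D7787 (iv D5712) (iv F22065)
theorem F29795 : act 2 n7787 = n5806 := d19_1 D7787 (iv D5806) (iv F22066)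
theorem F29796 : act 6 n7787 = n7787 := d33_1 D7787 (iv D7787) F22068
theorem F29797 : act 8 n7787 = n7787 := d35_2 D5694 D7787 (iv D7787) (iv D5694) F16392
def n7790 : Q := act 8 n5696
theorem D7790 : act 8 n5696 = n7790 := rfl
theorem F29808 : act 1 n7790 = n6288 := d14_1 D7790 (iv D6288) (iv F22074)
def n7791 : Q := act 2 n5697
theorem D7791 : act 2 n5697 = n7791 := rfl
theorem F29813 : act 7 n7791 = n5749 := d19_2 (iv F22080) D7791 (iv D5749)
def n7792 : Q := act 8 n5697
theorem D7792 : act 8 n5697 = n7792 := rfl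
def n7793 : Q := act 5 n5700
theorem D7793 : act 5 n5700 = n7793 := rfl
theorem F29818 : act 2 n7793 = n5751 := d17_1 D7793 (iv D5751) (iv F22089)
def n7795 : Q := act 3 n5701
theorem D7795 : act 3 n5701 = n7795 := rfl
theorem F29823 : act 7 n7795 = n5704 := d24_2 D5701 D7795 (iv D5704) (iv D4179) D4177
def n7796 : Q := act 8 n5701
theorem D7796 : act 8 n5701 = n7796 := rfl
theorem F29824 : act 2 n7796 = n5754 := d20_1 D7796 (iv D5754) (iv F22092)
theorem F29825 : act 4 n7796 = n7796 := d29_1 D7796 (iv D7796) F22093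
def n7799 : Q := act 8 n5703
theorem D7799 : act 8 n5703 = n7799 := rfl
def n7800 : Q := act 2 n5704
theorem D7800 : act 2 n5704 = n7800 := rfl
theorem F29833 : act 3 n7800 = n5716 := d15_2 D5704 D7800 (iv D5716) (iv D4187) (iv F16416)
def n7801 : Q := act 4 n5704
theorem D7801 : act 4 n5704 = n7801 := rfl
theorem F29834 : act 3 n7801 = n5708 := d21_1 D7801 (iv D5708) (iv D4181) (iv F16417) D5704
def n7802 : Q := act 8 n5704
theorem D7802 : act 8 n5704 = n7802 := rfl
theorem F29835 : act 3 n7802 = n5705 := d25_1 D7802 (iv D5705) D5704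
def n7805 : Q := act 5 n5708
theorem D7805 : act 5 n5708 = n7805 := rfl
theorem F29843 : act 2 n7805 = n5824 := d17_1 D7805 (iv D5824) (iv F22108)
theorem F29844 : act 4 n7805 = n5710 := d26_1 D7805 (iv D5710) (iv D4183) (iv F16422) D5708
theorem F29845 : act 7 n7805 = n7805 := d31_2 F22109 D7805 (iv D7805)
def n7806 : Q := act 8 n5708
theorem D7806 : act 8 n5708 = n7806 := rfl
theorem F29846 : act 2 n7806 = n5825 := d20_1 D7806 (iv D5825) (iv F22108)
theorem F29847 : act 4 n7806 = n5709 := d29_1 D7806 (iv D5709) D5708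
def n7807 : Q := act 7 n5709
theorem D7807 : act 7 n5709 = n7807 := rfl
theorem F29848 : act 2 n7807 = n5826 := d19_1 D7807 (iv D5826) (iv F22110)
theorem F29849 : act 5 n7807 = n5712 := d31_1 D7807 (iv D5712) (iv F22112)
theorem F29850 : act 8 n7807 = n7807 := d35_2 D5709 D7807 (iv D7807) (iv D5709) F16423
def n7808 : Q := act 6 n5710
theorem D7808 : act 6 n5710 = n7808 := rfl
theorem F29851 : act 2 n7808 = n5827 := d18_1 D7808 (iv D5827) (iv F22113)
theorem F29852 : act 5 n7808 = n7808 := d30_1 D7808 (iv D7808) (iv D5710) F16427 D5710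
theorem F29853 : act 7 n7808 = n7808 := d33_2 F22114 D7808 (iv D7808)
def n7809 : Q := act 8 n5710
theorem D7809 : act 8 n5710 = n7809 := rfl
theorem F29854 : act 2 n7809 = n5828 := d20_1 D7809 (iv D5828) (iv F22113)
theorem F29855 : act 5 n7809 = n5711 := d32_1 D7809 (iv D5711) D5710
def n7810 : Q := act 7 n5711
theorem D7810 : act 7 n5711 = n7810 := rfl
theorem F29856 : act 2 n7810 = n5829 := d19_1 D7810 (iv D5829) (iv F22115)
theorem F29857 : act 4 n7810 = n5712 := d28_1 D7810 (iv D5712) (iv F22116)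
theorem F29858 : act 6 n7810 = n7810 := d33_1 D7810 (iv D7810) F22117
theorem F29859 : act 8 n7810 = n7810 := d35_2 D5711 D7810 (iv D7810) (iv D5711) F16428
def n7812 : Q := act 8 n5713
theorem D7812 : act 8 n5713 = n7812 := rfl
def n7816 : Q := act 8 n5716
theorem D7816 : act 8 n5716 = n7816 := rfl
def n7827 : Q := act 2 n5725
theorem D7827 : act 2 n5725 = n7827 := rfl
theorem F29911 : act 0 n7827 = n7827 := d1_1 D7827 (iv D7827) F22158
theorem F29912 : act 3 n7827 = n6383 := d15_2 D5725 D7827 (iv D6383) (iv D4662) (iv F16465)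
theorem F29913 : act 4 n7827 = n7827 := d16_2 F22160 D7827 (iv D7827)
def n7828 : Q := act 6 n5725
theorem D7828 : act 6 n5725 = n7828 := rfl
theorem F29916 : act 3 n7828 = n5726 := d23_1 D7828 (iv D5726) D5725
def n7829 : Q := act 7 n5725
theorem D7829 : act 7 n5725 = n7829 := rfl
theorem F29918 : act 0 n7829 = n7829 := d6_1 D7829 (iv D7829) F22158
theorem F29919 : act 1 n7829 = n5734 := d13_1 D7829 (iv D5734) (iv F22159)
theorem F29920 : act 4 n7829 = n7829 := d28_1 D7829 (iv D7829) F22160
def n7830 : Q := act 5 n5726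
theorem D7830 : act 5 n5726 = n7830 := rfl
theorem F29924 : act 4 n7830 = n6937 := d26_1 D7830 (iv D6937) F19709 (iv F16470) (iv F22164)
def n7832 : Q := act 3 n5727
theorem D7832 : act 3 n5727 = n7832 := rfl
def n7841 : Q := act 5 n5733
theorem D7841 : act 5 n5733 = n7841 := rfl
theorem F29971 : act 3 n7841 = n5735 := d22_1 D7841 (iv D5735) (iv F22194)
def n7843 : Q := act 3 n5734
theorem D7843 : act 3 n5734 = n7843 := rfl
theorem F29976 : act 7 n7843 = n5737 := d24_2 D5734 D7843 (iv D5737) (iv D4202) D4200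
def n7844 : Q := act 8 n5734
theorem D7844 : act 8 n5734 = n7844 := rfl
theorem F29977 : act 0 n7844 = n5754 := d7_1 D7844 (iv D5754) (iv F22196)
theorem F29978 : act 4 n7844 = n7844 := d29_1 D7844 (iv D7844) F22197
def n7869 : Q := act 8 n5752
theorem D7869 : act 8 n5752 = n7869 := rfl
def n7872 : Q := act 8 n5753
theorem D7872 : act 8 n5753 = n7872 := rfl
def n7919 : Q := act 8 n5788
theorem D7919 : act 8 n5788 = n7919 := rfl
theorem F30223 : act 1 n7919 = n5801 := d14_1 D7919 (iv D5801) (iv F22374)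
theorem F30224 : act 2 n7919 = n6445 := d20_1 D7919 (iv D6445) (iv F22375)
def n7920 : Q := act 2 n5789
theorem D7920 : act 2 n5789 = n7920 := rfl
theorem F30228 : act 0 n7920 = n7920 := d1_1 D7920 (iv D7920) F22378
theorem F30229 : act 3 n7920 = n6446 := d15_2 D5789 D7920 (iv D6446) (iv D4707) (iv F16620)
theorem F30230 : act 5 n7920 = n5791 := d17_2 (iv F22380) D7920 (iv D5791)
theorem F30231 : act 7 n7920 = n7920 := d19_2 F22381 D7920 (iv D7920)
def n7921 : Q := act 4 n5789
theorem D7921 : act 4 n5789 = n7921 := rfl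
theorem F30232 : act 0 n7921 = n7921 := d3_1 D7921 (iv D7921) F22378
theorem F30233 : act 1 n7921 = n5802 := d10_1 D7921 (iv D5802) (iv F22379)
theorem F30234 : act 7 n7921 = n7921 := d28_2 F22381 D7921 (iv D7921)
def n7922 : Q := act 8 n5789
theorem D7922 : act 8 n5789 = n7922 := rfl
theorem F30235 : act 0 n7922 = n7922 := d7_1 D7922 (iv D7922) F22378
theorem F30236 : act 1 n7922 = n5803 := d14_1 D7922 (iv D5803) (iv F22379)
theorem F30237 : act 3 n7922 = n5790 := d25_1 D7922 (iv D5790) D5789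
theorem F30238 : act 5 n7922 = n5793 := d32_1 D7922 (iv D5793) (iv F22380)
def n7923 : Q := act 4 n5791
theorem D7923 : act 4 n5791 = n7923 := rfl
theorem F30239 : act 0 n7923 = n7923 := d3_1 D7923 (iv D7923) F22387
theorem F30240 : act 2 n7923 = n5792 := d16_1 D7923 (iv D5792) D5791
theorem F30241 : act 6 n7923 = n7923 := d27_2 F22389 D7923 (iv D7923)
theorem F30242 : act 7 n7923 = n7923 := d28_2 F22390 D7923 (iv D7923)
def n7924 : Q := act 8 n5791
theorem D7924 : act 8 n5791 = n7924 := rfl
theorem F30243 : act 0 n7924 = n7924 := d7_1 D7924 (iv D7924) F22387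
theorem F30244 : act 2 n7924 = n5793 := d20_1 D7924 (iv D5793) D5791
theorem F30245 : act 3 n7924 = n6450 := d25_1 D7924 (iv D6450) (iv F22388)
theorem F30246 : act 6 n7924 = n7924 := d34_1 D7924 (iv D7924) F22389
def n7925 : Q := act 5 n5792
theorem D7925 : act 5 n5792 = n7925 := rfl
theorem F30247 : act 0 n7925 = n7925 := d4_1 D7925 (iv D7925) F22391
theorem F30248 : act 1 n7925 = n5804 := d11_1 D7925 (iv D5804) (iv F22392)
theorem F30249 : act 3 n7925 = n7925 := d22_1 D7925 (iv D7925) F22393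
theorem F30250 : act 7 n7925 = n7925 := d31_2 F22395 D7925 (iv D7925)
def n7926 : Q := act 8 n5792
theorem D7926 : act 8 n5792 = n7926 := rfl
theorem F30251 : act 0 n7926 = n7926 := d7_1 D7926 (iv D7926) F22391
theorem F30252 : act 1 n7926 = n5805 := d14_1 D7926 (iv D5805) (iv F22392)
theorem F30253 : act 3 n7926 = n7926 := d25_1 D7926 (iv D7926) F22393
theorem F30254 : act 4 n7926 = n5793 := d29_1 D7926 (iv D5793) D5792
theorem F30255 : act 6 n7926 = n7926 := d34_1 D7926 (iv D7926) F22394
def n7927 : Q := act 7 n5793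
theorem D7927 : act 7 n5793 = n7927 := rfl
theorem F30256 : act 0 n7927 = n7927 := d6_1 D7927 (iv D7927) F22396
theorem F30257 : act 1 n7927 = n5806 := d13_1 D7927 (iv D5806) (iv F22397)
theorem F30258 : act 3 n7927 = n7927 := d24_1 D7927 (iv D7927) F22398 F16631 (iv F22398)
theorem F30259 : act 6 n7927 = n7927 := d33_1 D7927 (iv D7927) F22399
theorem F30260 : act 8 n7927 = n7927 := d35_2 D5793 D7927 (iv D7927) (iv D5793) F16625
def n7940 : Q := act 5 n5802
theorem D7940 : act 5 n5802 = n7940 := rfl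
theorem F30305 : act 0 n7940 = n5824 := d4_1 D7940 (iv D5824) (iv F22434)
theorem F30306 : act 4 n7940 = n5804 := d26_1 D7940 (iv D5804) (iv D4249) (iv F16650) D5802
theorem F30307 : act 7 n7940 = n7940 := d31_2 F22435 D7940 (iv D7940)
def n7941 : Q := act 8 n5802
theorem D7941 : act 8 n5802 = n7941 := rfl
theorem F30308 : act 0 n7941 = n5825 := d7_1 D7941 (iv D5825) (iv F22434)
theorem F30309 : act 4 n7941 = n5803 := d29_1 D7941 (iv D5803) D5802
def n7942 : Q := act 7 n5803
theorem D7942 : act 7 n5803 = n7942 := rfl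
theorem F30310 : act 0 n7942 = n5826 := d6_1 D7942 (iv D5826) (iv F22436)
theorem F30311 : act 3 n7942 = n7942 := d24_1 D7942 (iv D7942) F22437 F16655 (iv F22437)
theorem F30312 : act 5 n7942 = n5806 := d31_1 D7942 (iv D5806) (iv F22438)
theorem F30313 : act 8 n7942 = n7942 := d35_2 D5803 D7942 (iv D7942) (iv D5803) F16651
def n7943 : Q := act 6 n5804
theorem D7943 : act 6 n5804 = n7943 := rfl
theorem F30314 : act 0 n7943 = n5827 := d5_1 D7943 (iv D5827) (iv F22439)
theorem F30315 : act 3 n7943 = n7943 := d23_1 D7943 (iv D7943) F22440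
theorem F30316 : act 5 n7943 = n7943 := d30_1 D7943 (iv D7943) (iv D5804) F16658 D5804
theorem F30317 : act 7 n7943 = n7943 := d33_2 F22441 D7943 (iv D7943)
def n7944 : Q := act 8 n5804
theorem D7944 : act 8 n5804 = n7944 := rfl
theorem F30318 : act 0 n7944 = n5828 := d7_1 D7944 (iv D5828) (iv F22439)
theorem F30319 : act 3 n7944 = n7944 := d25_1 D7944 (iv D7944) F22440
theorem F30320 : act 5 n7944 = n5805 := d32_1 D7944 (iv D5805) D5804
def n7945 : Q := act 7 n5805
theorem D7945 : act 7 n5805 = n7945 := rfl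
theorem F30321 : act 0 n7945 = n5829 := d6_1 D7945 (iv D5829) (iv F22442)
theorem F30322 : act 4 n7945 = n5806 := d28_1 D7945 (iv D5806) (iv F22444)
theorem F30323 : act 6 n7945 = n7945 := d33_1 D7945 (iv D7945) F22445
theorem F30324 : act 8 n7945 = n7945 := d35_2 D5805 D7945 (iv D7945) (iv D5805) F16659
def n7974 : Q := act 6 n5824
theorem D7974 : act 6 n5824 = n7974 := rfl
theorem F30425 : act 1 n7974 = n7974 := d12_1 D7974 (iv D7974) F22514
theorem F30426 : act 4 n7974 = n5827 := d27_1 D7974 (iv D5827) (iv F22515)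
theorem F30427 : act 7 n7974 = n7974 := d33_2 F22516 D7974 (iv D7974)
def n7975 : Q := act 8 n5824
theorem D7975 : act 8 n5824 = n7975 := rfl
theorem F30428 : act 1 n7975 = n7975 := d14_1 D7975 (iv D7975) F22514
theorem F30429 : act 4 n7975 = n5828 := d29_1 D7975 (iv D5828) (iv F22515)
theorem F30430 : act 5 n7975 = n5825 := d32_1 D7975 (iv D5825) D5824
def n7976 : Q := act 7 n5825
theorem D7976 : act 7 n5825 = n7976 := rfl
theorem F30431 : act 1 n7976 = n7976 := d13_1 D7976 (iv D7976) F22517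
theorem F30432 : act 4 n7976 = n5826 := d28_1 D7976 (iv D5826) (iv F22518)
theorem F30433 : act 8 n7976 = n7976 := d35_2 D5825 D7976 (iv D7976) (iv D5825) F16722
def n7977 : Q := act 8 n5827
theorem D7977 : act 8 n5827 = n7977 := rfl
theorem F30434 : act 1 n7977 = n7977 := d14_1 D7977 (iv D7977) F22523
theorem F30435 : act 3 n7977 = n7977 := d25_1 D7977 (iv D7977) F22524
theorem F30436 : act 5 n7977 = n7977 := d32_1 D7977 (iv D7977) F22525
theorem F30437 : act 6 n7977 = n5828 := d34_1 D7977 (iv D5828) D5827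
def n7978 : Q := act 7 n5828
theorem D7978 : act 7 n5828 = n7978 := rfl
theorem F30438 : act 1 n7978 = n7978 := d13_1 D7978 (iv D7978) F22527
theorem F30439 : act 5 n7978 = n5829 := d31_1 D7978 (iv D5829) (iv F22529)
theorem F30440 : act 8 n7978 = n7978 := d35_2 D5828 D7978 (iv D7978) (iv D5828) F16728
def n7979 : Q := act 3 n5829
theorem D7979 : act 3 n5829 = n7979 := rfl
theorem F30441 : act 1 n7979 = n7979 := d9_1 D7979 (iv D7979) F22530
theorem F30442 : act 4 n7979 = n7979 := d21_2 (iv F22531) D7979 (iv D7979) F22531 F16734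
theorem F30443 : act 6 n7979 = n7979 := d23_2 F22532 D7979 (iv D7979)
theorem F30444 : act 7 n7979 = n7979 := d24_2 D5829 D7979 (iv D7979) (iv D5829) F16730
theorem F30445 : act 8 n7979 = n7979 := d25_2 F22533 D7979 (iv D7979)
def n8185 : Q := act 5 n5981
theorem D8185 : act 5 n5981 = n8185 := rfl
theorem F31208 : act 0 n8185 = n8185 := d4_1 D8185 (iv D8185) F23098
theorem F31209 : act 1 n8185 = n5982 := d11_1 D8185 (iv D5982) D5981
theorem F31210 : act 3 n8185 = n8185 := d22_1 D8185 (iv D8185) F23099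
theorem F31211 : act 8 n8185 = n8185 := d32_2 F23102 D8185 (iv D8185)
def n8186 : Q := act 7 n5981
theorem D8186 : act 7 n5981 = n8186 := rfl
theorem F31212 : act 0 n8186 = n8186 := d6_1 D8186 (iv D8186) F23098
theorem F31213 : act 1 n8186 = n5983 := d13_1 D8186 (iv D5983) D5981
theorem F31214 : act 4 n8186 = n8186 := d28_1 D8186 (iv D8186) F23100
theorem F31215 : act 6 n8186 = n8186 := d33_1 D8186 (iv D8186) F23101
def n8187 : Q := act 4 n5982
theorem D8187 : act 4 n5982 = n8187 := rfl
theorem F31216 : act 0 n8187 = n5988 := d3_1 D8187 (iv D5988) (iv F23103)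
theorem F31217 : act 2 n8187 = n5984 := d16_1 D8187 (iv D5984) (iv F23104)
theorem F31218 : act 5 n8187 = n8187 := d26_2 D5982 D8187 (iv D8187) (iv D5982) F17164
theorem F31219 : act 8 n8187 = n8187 := d29_2 F23106 D8187 (iv D8187)
def n8188 : Q := act 6 n5982
theorem D8188 : act 6 n5982 = n8188 := rfl
theorem F31220 : act 0 n8188 = n5989 := d5_1 D8188 (iv D5989) (iv F23103)
theorem F31221 : act 2 n8188 = n5985 := d18_1 D8188 (iv D5985) (iv F23104)
theorem F31222 : act 3 n8188 = n8188 := d23_1 D8188 (iv D8188) F23105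
theorem F31223 : act 5 n8188 = n8188 := d30_1 D8188 (iv D8188) (iv D5982) F17165 D5982
theorem F31224 : act 8 n8188 = n8188 := d34_2 F23106 D8188 (iv D8188)
def n8189 : Q := act 7 n5982
theorem D8189 : act 7 n5982 = n8189 := rfl
theorem F31225 : act 0 n8189 = n5990 := d6_1 D8189 (iv D5990) (iv F23103)
theorem F31226 : act 2 n8189 = n5986 := d19_1 D8189 (iv D5986) (iv F23104)
theorem F31227 : act 5 n8189 = n5983 := d31_1 D8189 (iv D5983) D5982
def n8190 : Q := act 3 n5983
theorem D8190 : act 3 n5983 = n8190 := rfl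
theorem F31228 : act 0 n8190 = n5991 := d2_1 D8190 (iv D5991) (iv F23107)
theorem F31229 : act 2 n8190 = n6007 := d15_1 D8190 (iv D6007) F17229 (iv F17171) (iv F23108)
theorem F31230 : act 6 n8190 = n8190 := d23_2 F23110 D8190 (iv D8190)
theorem F31231 : act 7 n8190 = n8190 := d24_2 D5983 D8190 (iv D8190) (iv D5983) F17163
def n8191 : Q := act 8 n5983
theorem D8191 : act 8 n5983 = n8191 := rfl
theorem F31232 : act 0 n8191 = n5992 := d7_1 D8191 (iv D5992) (iv F23107)
theorem F31233 : act 2 n8191 = n5987 := d20_1 D8191 (iv D5987) (iv F23108)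
theorem F31234 : act 4 n8191 = n8191 := d29_1 D8191 (iv D8191) F23109
theorem F31235 : act 6 n8191 = n8191 := d34_1 D8191 (iv D8191) F23110
theorem F31236 : act 7 n8191 = n8191 := d35_1 D8191 (iv D8191) (iv D5983) F17166 D5983
def n8192 : Q := act 6 n5984
theorem D8192 : act 6 n5984 = n8192 := rfl
theorem F31237 : act 0 n8192 = n5993 := d5_1 D8192 (iv D5993) (iv F23111)
theorem F31238 : act 3 n8192 = n8192 := d23_1 D8192 (iv D8192) F23112
theorem F31239 : act 4 n8192 = n5985 := d27_1 D8192 (iv D5985) D5984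
theorem F31240 : act 8 n8192 = n8192 := d34_2 F23114 D8192 (iv D8192)
def n8193 : Q := act 7 n5984
theorem D8193 : act 7 n5984 = n8193 := rfl
theorem F31241 : act 0 n8193 = n5994 := d6_1 D8193 (iv D5994) (iv F23111)
theorem F31242 : act 4 n8193 = n5986 := d28_1 D8193 (iv D5986) D5984
theorem F31243 : act 5 n8193 = n8193 := d31_1 D8193 (iv D8193) F23113
def n8194 : Q := act 7 n5985
theorem D8194 : act 7 n5985 = n8194 := rfl
theorem F31244 : act 0 n8194 = n5995 := d6_1 D8194 (iv D5995) (iv F23115)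
theorem F31245 : act 3 n8194 = n6011 := d24_1 D8194 (iv D6011) F17237 (iv F17178) (iv F23116)
theorem F31246 : act 5 n8194 = n8194 := d31_1 D8194 (iv D8194) F23117
theorem F31247 : act 6 n8194 = n5986 := d33_1 D8194 (iv D5986) D5985
def n8195 : Q := act 8 n5986
theorem D8195 : act 8 n5986 = n8195 := rfl
theorem F31248 : act 0 n8195 = n5996 := d7_1 D8195 (iv D5996) (iv F23119)
theorem F31249 : act 3 n8195 = n6012 := d25_1 D8195 (iv D6012) (iv F23120)
theorem F31250 : act 5 n8195 = n5987 := d32_1 D8195 (iv D5987) (iv F23121)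
theorem F31251 : act 7 n8195 = n8195 := d35_1 D8195 (iv D8195) (iv D5986) F17169 D5986
def n8196 : Q := act 3 n5988
theorem D8196 : act 3 n5988 = n8196 := rfl
def n8197 : Q := act 6 n5988
theorem D8197 : act 6 n5988 = n8197 := rfl
theorem F31258 : act 2 n8197 = n5993 := d18_1 D8197 (iv D5993) (iv F23128)
theorem F31259 : act 4 n8197 = n5989 := d27_1 D8197 (iv D5989) D5988
def n8198 : Q := act 7 n5988
theorem D8198 : act 7 n5988 = n8198 := rfl
theorem F31261 : act 1 n8198 = n8198 := d13_1 D8198 (iv D8198) F23127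
theorem F31262 : act 2 n8198 = n5994 := d19_1 D8198 (iv D5994) (iv F23128)
theorem F31263 : act 4 n8198 = n5990 := d28_1 D8198 (iv D5990) D5988
theorem F31264 : act 5 n8198 = n8198 := d31_1 D8198 (iv D8198) F23129
def n8199 : Q := act 7 n5989
theorem D8199 : act 7 n5989 = n8199 := rfl
theorem F31265 : act 1 n8199 = n8199 := d13_1 D8199 (iv D8199) F23131
theorem F31266 : act 2 n8199 = n5995 := d19_1 D8199 (iv D5995) (iv F23132)
theorem F31267 : act 5 n8199 = n8199 := d31_1 D8199 (iv D8199) F23134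
theorem F31268 : act 6 n8199 = n5990 := d33_1 D8199 (iv D5990) D5989
def n8200 : Q := act 3 n5990
theorem D8200 : act 3 n5990 = n8200 := rfl
theorem F31269 : act 1 n8200 = n8200 := d9_1 D8200 (iv D8200) F23136
theorem F31270 : act 2 n8200 = n6017 := d15_1 D8200 (iv D6017) F17256 (iv F17197) (iv F23137)
theorem F31271 : act 5 n8200 = n5991 := d22_2 (iv F23138) D8200 (iv D5991)
theorem F31272 : act 7 n8200 = n8200 := d24_2 D5990 D8200 (iv D8200) (iv D5990) F17182
def n8201 : Q := act 8 n5990
theorem D8201 : act 8 n5990 = n8201 := rfl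
theorem F31273 : act 1 n8201 = n8201 := d14_1 D8201 (iv D8201) F23136
theorem F31274 : act 2 n8201 = n5996 := d20_1 D8201 (iv D5996) (iv F23137)
theorem F31275 : act 5 n8201 = n5992 := d32_1 D8201 (iv D5992) (iv F23138)
theorem F31276 : act 7 n8201 = n8201 := d35_1 D8201 (iv D8201) (iv D5990) F17183 D5990
def n8202 : Q := act 4 n5991
theorem D8202 : act 4 n5991 = n8202 := rfl
theorem F31277 : act 1 n8202 = n8202 := d10_1 D8202 (iv D8202) F23139
theorem F31278 : act 2 n8202 = n6019 := d16_1 D8202 (iv D6019) (iv F23140)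
theorem F31279 : act 3 n8202 = n8202 := d21_1 D8202 (iv D8202) (iv D5991) F17186 D5991
theorem F31280 : act 6 n8202 = n8202 := d27_2 F23141 D8202 (iv D8202)
theorem F31281 : act 7 n8202 = n8202 := d28_2 F23142 D8202 (iv D8202)
def n8203 : Q := act 8 n5991
theorem D8203 : act 8 n5991 = n8203 := rfl
theorem F31282 : act 1 n8203 = n8203 := d14_1 D8203 (iv D8203) F23139
theorem F31283 : act 2 n8203 = n6020 := d20_1 D8203 (iv D6020) (iv F23140)
theorem F31284 : act 3 n8203 = n5992 := d25_1 D8203 (iv D5992) D5991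
theorem F31285 : act 6 n8203 = n8203 := d34_1 D8203 (iv D8203) F23141
def n8204 : Q := act 5 n5993
theorem D8204 : act 5 n5993 = n8204 := rfl
def n8205 : Q := act 7 n5993
theorem D8205 : act 7 n5993 = n8205 := rfl
theorem F31291 : act 1 n8205 = n5998 := d13_1 D8205 (iv D5998) (iv F23148)
theorem F31292 : act 4 n8205 = n5995 := d28_1 D8205 (iv D5995) (iv F23150)
theorem F31293 : act 6 n8205 = n5994 := d33_1 D8205 (iv D5994) D5993
def n8206 : Q := act 3 n5994
theorem D8206 : act 3 n5994 = n8206 := rfl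
theorem F31294 : act 1 n8206 = n5999 := d9_1 D8206 (iv D5999) (iv F23152)
theorem F31295 : act 4 n8206 = n6023 := d21_2 (iv F23153) D8206 (iv D6023) F17271 (iv F17197)
theorem F31296 : act 5 n8206 = n8206 := d22_2 F23154 D8206 (iv D8206)
theorem F31297 : act 7 n8206 = n8206 := d24_2 D5994 D8206 (iv D8206) (iv D5994) F17189
def n8207 : Q := act 8 n5994
theorem D8207 : act 8 n5994 = n8207 := rfl
theorem F31298 : act 1 n8207 = n6000 := d14_1 D8207 (iv D6000) (iv F23152)
theorem F31299 : act 4 n8207 = n5996 := d29_1 D8207 (iv D5996) (iv F23153)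
theorem F31300 : act 5 n8207 = n8207 := d32_1 D8207 (iv D8207) F23154
theorem F31301 : act 7 n8207 = n8207 := d35_1 D8207 (iv D8207) (iv D5994) F17191 D5994
def n8208 : Q := act 8 n5995
theorem D8208 : act 8 n5995 = n8208 := rfl
theorem F31302 : act 1 n8208 = n6001 := d14_1 D8208 (iv D6001) (iv F23155)
theorem F31303 : act 3 n8208 = n6025 := d25_1 D8208 (iv D6025) (iv F23156)
theorem F31304 : act 5 n8208 = n8208 := d32_1 D8208 (iv D8208) F23157
theorem F31305 : act 6 n8208 = n5996 := d34_1 D8208 (iv D5996) (iv F23158)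
theorem F31306 : act 7 n8208 = n8208 := d35_1 D8208 (iv D8208) (iv D5995) F17195 D5995
def n8209 : Q := act 7 n5997
theorem D8209 : act 7 n5997 = n8209 := rfl
theorem F31307 : act 2 n8209 = n8209 := d19_1 D8209 (iv D8209) F23163
theorem F31308 : act 4 n8209 = n8209 := d28_1 D8209 (iv D8209) F23165
theorem F31309 : act 5 n8209 = n5998 := d31_1 D8209 (iv D5998) D5997
theorem F31310 : act 6 n8209 = n8209 := d33_1 D8209 (iv D8209) F23166
def n8210 : Q := act 3 n5998
theorem D8210 : act 3 n5998 = n8210 := rfl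
theorem F31311 : act 4 n8210 = n6027 := d21_2 (iv F23169) D8210 (iv D6027) F17285 (iv F17212)
theorem F31312 : act 6 n8210 = n5999 := d23_2 (iv F23170) D8210 (iv D5999)
theorem F31313 : act 7 n8210 = n8210 := d24_2 D5998 D8210 (iv D8210) (iv D5998) F17205
def n8211 : Q := act 8 n5998
theorem D8211 : act 8 n5998 = n8211 := rfl
theorem F31314 : act 2 n8211 = n8211 := d20_1 D8211 (iv D8211) F23168
theorem F31315 : act 4 n8211 = n6001 := d29_1 D8211 (iv D6001) (iv F23169)
theorem F31316 : act 6 n8211 = n6000 := d34_1 D8211 (iv D6000) (iv F23170)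
theorem F31317 : act 7 n8211 = n8211 := d35_1 D8211 (iv D8211) (iv D5998) F17207 D5998
def n8212 : Q := act 2 n5999
theorem D8212 : act 2 n5999 = n8212 := rfl
theorem F31318 : act 3 n8212 = n8212 := d15_2 D5999 D8212 (iv D8212) (iv D5999) F17208
theorem F31319 : act 4 n8212 = n6029 := d16_2 (iv F23171) D8212 (iv D6029)
theorem F31320 : act 5 n8212 = n8212 := d17_2 F23172 D8212 (iv D8212)
theorem F31321 : act 7 n8212 = n8212 := d19_2 F23173 D8212 (iv D8212)
def n8213 : Q := act 8 n5999
theorem D8213 : act 8 n5999 = n8213 := rfl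
theorem F31322 : act 3 n8213 = n6000 := d25_1 D8213 (iv D6000) D5999
theorem F31323 : act 4 n8213 = n6030 := d29_1 D8213 (iv D6030) (iv F23171)
theorem F31324 : act 5 n8213 = n8213 := d32_1 D8213 (iv D8213) F23172
def n8214 : Q := act 4 n6002
theorem D8214 : act 4 n6002 = n8214 := rfl
theorem F31325 : act 0 n8214 = n6031 := d3_1 D8214 (iv D6031) (iv F23183)
theorem F31326 : act 1 n8214 = n6004 := d10_1 D8214 (iv D6004) (iv F23184)
theorem F31327 : act 5 n8214 = n6178 := d26_2 D6002 D8214 (iv D6178) (iv D4519) (iv F17221)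
theorem F31328 : act 8 n8214 = n7723 := d29_2 (iv F23186) D8214 (iv D7723)
def n8215 : Q := act 6 n6002
theorem D8215 : act 6 n6002 = n8215 := rfl
theorem F31329 : act 0 n8215 = n6032 := d5_1 D8215 (iv D6032) (iv F23183)
theorem F31330 : act 1 n8215 = n6005 := d12_1 D8215 (iv D6005) (iv F23184)
theorem F31331 : act 3 n8215 = n8215 := d23_1 D8215 (iv D8215) F23185
theorem F31332 : act 5 n8215 = n8215 := d30_1 D8215 (iv D8215) (iv D6002) F17222 D6002
theorem F31333 : act 8 n8215 = n7724 := d34_2 (iv F23186) D8215 (iv D7724)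
def n8216 : Q := act 7 n6002
theorem D8216 : act 7 n6002 = n8216 := rfl
theorem F31334 : act 0 n8216 = n6033 := d6_1 D8216 (iv D6033) (iv F23183)
theorem F31335 : act 1 n8216 = n6006 := d13_1 D8216 (iv D6006) (iv F23184)
theorem F31336 : act 5 n8216 = n6003 := d31_1 D8216 (iv D6003) D6002
def n8217 : Q := act 3 n6003
theorem D8217 : act 3 n6003 = n8217 := rfl
theorem F31337 : act 0 n8217 = n6034 := d2_1 D8217 (iv D6034) (iv F23187)
theorem F31338 : act 1 n8217 = n6007 := d9_1 D8217 (iv D6007) (iv F23188)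
theorem F31339 : act 6 n8217 = n8217 := d23_2 F23190 D8217 (iv D8217)
theorem F31340 : act 7 n8217 = n8217 := d24_2 D6003 D8217 (iv D8217) (iv D6003) F17220
def n8218 : Q := act 8 n6003
theorem D8218 : act 8 n6003 = n8218 := rfl
theorem F31341 : act 0 n8218 = n6035 := d7_1 D8218 (iv D6035) (iv F23187)
theorem F31342 : act 1 n8218 = n6008 := d14_1 D8218 (iv D6008) (iv F23188)
theorem F31343 : act 4 n8218 = n6182 := d29_1 D8218 (iv D6182) (iv F23189)
theorem F31344 : act 6 n8218 = n8218 := d34_1 D8218 (iv D8218) F23190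
theorem F31345 : act 7 n8218 = n7727 := d35_1 D8218 (iv D7727) (iv D5654) (iv F17223) D6003
def n8219 : Q := act 3 n6004
theorem D8219 : act 3 n6004 = n8219 := rfl
theorem F31346 : act 0 n8219 = n6013 := d2_1 D8219 (iv D6013) (iv F23191)
theorem F31347 : act 2 n8219 = n8219 := d15_1 D8219 (iv D8219) F23192 F17233 (iv F23192)
theorem F31348 : act 4 n8219 = n8219 := d21_2 D6004 D8219 (iv D8219) (iv D6004) F17226
theorem F31349 : act 5 n8219 = n6183 := d22_2 (iv F23193) D8219 (iv D6183)
theorem F31350 : act 8 n8219 = n7728 := d25_2 (iv F23194) D8219 (iv D7728)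
def n8220 : Q := act 6 n6004
theorem D8220 : act 6 n6004 = n8220 := rfl
theorem F31351 : act 0 n8220 = n6014 := d5_1 D8220 (iv D6014) (iv F23191)
theorem F31352 : act 2 n8220 = n6009 := d18_1 D8220 (iv D6009) (iv F23192)
theorem F31353 : act 4 n8220 = n6005 := d27_1 D8220 (iv D6005) D6004
theorem F31354 : act 8 n8220 = n7729 := d34_2 (iv F23194) D8220 (iv D7729)
def n8221 : Q := act 7 n6004
theorem D8221 : act 7 n6004 = n8221 := rfl
theorem F31355 : act 0 n8221 = n6015 := d6_1 D8221 (iv D6015) (iv F23191)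
theorem F31356 : act 2 n8221 = n6010 := d19_1 D8221 (iv D6010) (iv F23192)
theorem F31357 : act 4 n8221 = n6006 := d28_1 D8221 (iv D6006) D6004
theorem F31358 : act 5 n8221 = n6185 := d31_1 D8221 (iv D6185) (iv F23193)
def n8222 : Q := act 7 n6005
theorem D8222 : act 7 n6005 = n8222 := rfl
theorem F31359 : act 0 n8222 = n6016 := d6_1 D8222 (iv D6016) (iv F23195)
theorem F31360 : act 2 n8222 = n6011 := d19_1 D8222 (iv D6011) (iv F23196)
theorem F31361 : act 5 n8222 = n8222 := d31_1 D8222 (iv D8222) F23198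
theorem F31362 : act 6 n8222 = n6006 := d33_1 D8222 (iv D6006) D6005
def n8223 : Q := act 3 n6006
theorem D8223 : act 3 n6006 = n8223 := rfl
theorem F31363 : act 0 n8223 = n6017 := d2_1 D8223 (iv D6017) (iv F23200)
theorem F31364 : act 5 n8223 = n6007 := d22_2 (iv F23202) D8223 (iv D6007)
theorem F31365 : act 7 n8223 = n8223 := d24_2 D6006 D8223 (iv D8223) (iv D6006) F17226
def n8224 : Q := act 8 n6006
theorem D8224 : act 8 n6006 = n8224 := rfl
theorem F31366 : act 0 n8224 = n6018 := d7_1 D8224 (iv D6018) (iv F23200)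
theorem F31367 : act 2 n8224 = n6012 := d20_1 D8224 (iv D6012) (iv F23201)
theorem F31368 : act 5 n8224 = n6008 := d32_1 D8224 (iv D6008) (iv F23202)
theorem F31369 : act 7 n8224 = n7733 := d35_1 D8224 (iv D7733) (iv D5657) (iv F17227) D6006
def n8225 : Q := act 4 n6007
theorem D8225 : act 4 n6007 = n8225 := rfl
theorem F31370 : act 0 n8225 = n6019 := d3_1 D8225 (iv D6019) (iv F23203)
theorem F31371 : act 3 n8225 = n6189 := d21_1 D8225 (iv D6189) (iv D4524) (iv F17230) D6007
theorem F31372 : act 6 n8225 = n8225 := d27_2 F23204 D8225 (iv D8225)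
theorem F31373 : act 7 n8225 = n8225 := d28_2 F23205 D8225 (iv D8225)
def n8226 : Q := act 8 n6007
theorem D8226 : act 8 n6007 = n8226 := rfl
theorem F31374 : act 0 n8226 = n6020 := d7_1 D8226 (iv D6020) (iv F23203)
theorem F31375 : act 3 n8226 = n6008 := d25_1 D8226 (iv D6008) D6007
theorem F31376 : act 6 n8226 = n8226 := d34_1 D8226 (iv D8226) F23204
def n8227 : Q := act 5 n6009
theorem D8227 : act 5 n6009 = n8227 := rfl
theorem F31377 : act 0 n8227 = n6021 := d4_1 D8227 (iv D6021) (iv F23211)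
theorem F31378 : act 3 n8227 = n8227 := d22_1 D8227 (iv D8227) F23212
theorem F31379 : act 4 n8227 = n8227 := d26_1 D8227 (iv D8227) F23213 F17238 (iv F23213)
theorem F31380 : act 6 n8227 = n6191 := d30_2 D6009 D8227 (iv D6191) (iv D4526) (iv F17234)
def n8228 : Q := act 7 n6009
theorem D8228 : act 7 n6009 = n8228 := rfl
theorem F31382 : act 0 n8228 = n6022 := d6_1 D8228 (iv D6022) (iv F23211)
theorem F31383 : act 4 n8228 = n6011 := d28_1 D8228 (iv D6011) (iv F23213)
theorem F31384 : act 6 n8228 = n6010 := d33_1 D8228 (iv D6010) D6009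
def n8229 : Q := act 3 n6010
theorem D8229 : act 3 n6010 = n8229 := rfl
theorem F31385 : act 0 n8229 = n6023 := d2_1 D8229 (iv D6023) (iv F23215)
theorem F31386 : act 5 n8229 = n6193 := d22_2 (iv F23217) D8229 (iv D6193)
theorem F31387 : act 7 n8229 = n8229 := d24_2 D6010 D8229 (iv D8229) (iv D6010) F17233
def n8230 : Q := act 8 n6010
theorem D8230 : act 8 n6010 = n8230 := rfl
theorem F31388 : act 0 n8230 = n6024 := d7_1 D8230 (iv D6024) (iv F23215)
theorem F31389 : act 4 n8230 = n6012 := d29_1 D8230 (iv D6012) (iv F23216)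
theorem F31390 : act 5 n8230 = n6194 := d32_1 D8230 (iv D6194) (iv F23217)
theorem F31391 : act 7 n8230 = n7739 := d35_1 D8230 (iv D7739) (iv D5661) (iv F17235) D6010
def n8231 : Q := act 8 n6011
theorem D8231 : act 8 n6011 = n8231 := rfl
theorem F31392 : act 0 n8231 = n6025 := d7_1 D8231 (iv D6025) (iv F23218)
theorem F31393 : act 5 n8231 = n8231 := d32_1 D8231 (iv D8231) F23219
theorem F31394 : act 6 n8231 = n6012 := d34_1 D8231 (iv D6012) (iv F23220)
theorem F31395 : act 7 n8231 = n7740 := d35_1 D8231 (iv D7740) (iv D5662) (iv F17239) D6011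
def n8232 : Q := act 6 n6013
theorem D8232 : act 6 n6013 = n8232 := rfl
theorem F31396 : act 1 n8232 = n6049 := d12_1 D8232 (iv D6049) (iv F23224)
theorem F31397 : act 2 n8232 = n8232 := d18_1 D8232 (iv D8232) F23225
theorem F31398 : act 3 n8232 = n6014 := d23_1 D8232 (iv D6014) D6013
theorem F31399 : act 4 n8232 = n8232 := d27_1 D8232 (iv D8232) F23226
theorem F31400 : act 8 n8232 = n7741 := d34_2 (iv F23228) D8232 (iv D7741)
def n8233 : Q := act 7 n6013
theorem D8233 : act 7 n6013 = n8233 := rfl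
theorem F31401 : act 1 n8233 = n6050 := d13_1 D8233 (iv D6050) (iv F23224)
theorem F31402 : act 2 n8233 = n8233 := d19_1 D8233 (iv D8233) F23225
theorem F31403 : act 4 n8233 = n8233 := d28_1 D8233 (iv D8233) F23226
theorem F31404 : act 5 n8233 = n6197 := d31_1 D8233 (iv D6197) (iv F23227)
def n8234 : Q := act 5 n6014
theorem D8234 : act 5 n6014 = n8234 := rfl
theorem F31405 : act 1 n8234 = n6051 := d11_1 D8234 (iv D6051) (iv F23229)
theorem F31406 : act 2 n8234 = n6021 := d17_1 D8234 (iv D6021) (iv F23230)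
theorem F31407 : act 4 n8234 = n8234 := d26_1 D8234 (iv D8234) F23231 F17253 (iv F23231)
theorem F31408 : act 6 n8234 = n6198 := d30_2 D6014 D8234 (iv D6198) (iv D4531) (iv F17248)
def n8235 : Q := act 7 n6014
theorem D8235 : act 7 n6014 = n8235 := rfl
theorem F31410 : act 1 n8235 = n6052 := d13_1 D8235 (iv D6052) (iv F23229)
theorem F31411 : act 2 n8235 = n6022 := d19_1 D8235 (iv D6022) (iv F23230)
theorem F31412 : act 4 n8235 = n6016 := d28_1 D8235 (iv D6016) (iv F23231)
theorem F31413 : act 6 n8235 = n6015 := d33_1 D8235 (iv D6015) D6014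
def n8236 : Q := act 3 n6015
theorem D8236 : act 3 n6015 = n8236 := rfl
theorem F31414 : act 1 n8236 = n6053 := d9_1 D8236 (iv D6053) (iv F23233)
theorem F31415 : act 5 n8236 = n6200 := d22_2 (iv F23236) D8236 (iv D6200)
def n8237 : Q := act 8 n6015
theorem D8237 : act 8 n6015 = n8237 := rfl
theorem F31416 : act 1 n8237 = n6054 := d14_1 D8237 (iv D6054) (iv F23233)
theorem F31417 : act 2 n8237 = n6024 := d20_1 D8237 (iv D6024) (iv F23234)
theorem F31418 : act 4 n8237 = n6018 := d29_1 D8237 (iv D6018) (iv F23235)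
theorem F31419 : act 5 n8237 = n6201 := d32_1 D8237 (iv D6201) (iv F23236)
theorem F31420 : act 7 n8237 = n7746 := d35_1 D8237 (iv D7746) (iv D5666) (iv F17249) D6015
def n8238 : Q := act 3 n6016
theorem D8238 : act 3 n6016 = n8238 := rfl
theorem F31421 : act 1 n8238 = n6055 := d9_1 D8238 (iv D6055) (iv F23237)
theorem F31422 : act 5 n8238 = n8238 := d22_2 F23239 D8238 (iv D8238)
theorem F31423 : act 6 n8238 = n6017 := d23_2 (iv F23240) D8238 (iv D6017)
theorem F31424 : act 7 n8238 = n8238 := d24_2 D6016 D8238 (iv D8238) (iv D6016) F17252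
def n8239 : Q := act 8 n6016
theorem D8239 : act 8 n6016 = n8239 := rfl
theorem F31425 : act 1 n8239 = n6056 := d14_1 D8239 (iv D6056) (iv F23237)
theorem F31426 : act 2 n8239 = n6025 := d20_1 D8239 (iv D6025) (iv F23238)
theorem F31427 : act 5 n8239 = n8239 := d32_1 D8239 (iv D8239) F23239
theorem F31428 : act 6 n8239 = n6018 := d34_1 D8239 (iv D6018) (iv F23240)
theorem F31429 : act 7 n8239 = n7748 := d35_1 D8239 (iv D7748) (iv D5667) (iv F17254) D6016
def n8240 : Q := act 4 n6017
theorem D8240 : act 4 n6017 = n8240 := rfl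
theorem F31430 : act 1 n8240 = n6057 := d10_1 D8240 (iv D6057) (iv F23241)
theorem F31431 : act 7 n8240 = n8240 := d28_2 F23243 D8240 (iv D8240)
def n8241 : Q := act 8 n6017
theorem D8241 : act 8 n6017 = n8241 := rfl
theorem F31432 : act 1 n8241 = n6058 := d14_1 D8241 (iv D6058) (iv F23241)
theorem F31433 : act 3 n8241 = n6018 := d25_1 D8241 (iv D6018) D6017
theorem F31434 : act 5 n8241 = n6020 := d32_1 D8241 (iv D6020) (iv F23242)
def n8242 : Q := act 5 n6019
theorem D8242 : act 5 n6019 = n8242 := rfl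
theorem F31435 : act 1 n8242 = n6059 := d11_1 D8242 (iv D6059) (iv F23248)
theorem F31436 : act 3 n8242 = n6206 := d22_1 D8242 (iv D6206) (iv F23249)
theorem F31437 : act 7 n8242 = n8242 := d31_2 F23251 D8242 (iv D8242)
def n8243 : Q := act 8 n6019
theorem D8243 : act 8 n6019 = n8243 := rfl
theorem F31438 : act 1 n8243 = n6060 := d14_1 D8243 (iv D6060) (iv F23248)
theorem F31439 : act 3 n8243 = n6207 := d25_1 D8243 (iv D6207) (iv F23249)
theorem F31440 : act 4 n8243 = n6020 := d29_1 D8243 (iv D6020) D6019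
theorem F31441 : act 6 n8243 = n8243 := d34_1 D8243 (iv D8243) F23250
def n8244 : Q := act 7 n6020
theorem D8244 : act 7 n6020 = n8244 := rfl
theorem F31442 : act 1 n8244 = n6061 := d13_1 D8244 (iv D6061) (iv F23252)
theorem F31443 : act 3 n8244 = n7753 := d24_1 D8244 (iv D7753) F21990 (iv F17265) (iv F23253)
theorem F31444 : act 6 n8244 = n8244 := d33_1 D8244 (iv D8244) F23254
theorem F31445 : act 8 n8244 = n8244 := d35_2 D6020 D8244 (iv D8244) (iv D6020) F17260
def n8245 : Q := act 7 n6021
theorem D8245 : act 7 n6021 = n8245 := rfl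
theorem F31446 : act 1 n8245 = n6026 := d13_1 D8245 (iv D6026) (iv F23255)
theorem F31447 : act 4 n8245 = n8245 := d28_1 D8245 (iv D8245) F23257
theorem F31448 : act 5 n8245 = n6022 := d31_1 D8245 (iv D6022) D6021
theorem F31449 : act 6 n8245 = n6209 := d33_1 D8245 (iv D6209) (iv F23258)
def n8246 : Q := act 3 n6022
theorem D8246 : act 3 n6022 = n8246 := rfl
theorem F31450 : act 1 n8246 = n6027 := d9_1 D8246 (iv D6027) (iv F23260)
theorem F31451 : act 6 n8246 = n6023 := d23_2 (iv F23262) D8246 (iv D6023)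
theorem F31452 : act 7 n8246 = n8246 := d24_2 D6022 D8246 (iv D8246) (iv D6022) F17267
def n8247 : Q := act 8 n6022
theorem D8247 : act 8 n6022 = n8247 := rfl
theorem F31453 : act 1 n8247 = n6028 := d14_1 D8247 (iv D6028) (iv F23260)
theorem F31454 : act 4 n8247 = n6025 := d29_1 D8247 (iv D6025) (iv F23261)
theorem F31455 : act 6 n8247 = n6024 := d34_1 D8247 (iv D6024) (iv F23262)
theorem F31456 : act 7 n8247 = n7756 := d35_1 D8247 (iv D7756) (iv D5673) (iv F17269) D6022
def n8248 : Q := act 2 n6023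
theorem D8248 : act 2 n6023 = n8248 := rfl
theorem F31457 : act 5 n8248 = n6212 := d17_2 (iv F23264) D8248 (iv D6212)
theorem F31458 : act 7 n8248 = n8248 := d19_2 F23265 D8248 (iv D8248)
def n8249 : Q := act 8 n6023
theorem D8249 : act 8 n6023 = n8249 := rfl
theorem F31459 : act 1 n8249 = n6030 := d14_1 D8249 (iv D6030) (iv F23263)
theorem F31460 : act 3 n8249 = n6024 := d25_1 D8249 (iv D6024) D6023
theorem F31461 : act 5 n8249 = n6213 := d32_1 D8249 (iv D6213) (iv F23264)
def n8250 : Q := act 3 n6026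
theorem D8250 : act 3 n6026 = n8250 := rfl
theorem F31462 : act 5 n8250 = n6027 := d22_2 (iv F23276) D8250 (iv D6027)
theorem F31463 : act 6 n8250 = n6214 := d23_2 (iv F23277) D8250 (iv D6214)
theorem F31464 : act 7 n8250 = n8250 := d24_2 D6026 D8250 (iv D8250) (iv D6026) F17280
def n8251 : Q := act 8 n6026
theorem D8251 : act 8 n6026 = n8251 := rfl
theorem F31465 : act 2 n8251 = n6068 := d20_1 D8251 (iv D6068) (iv F23274)
theorem F31466 : act 4 n8251 = n8251 := d29_1 D8251 (iv D8251) F23275
theorem F31467 : act 5 n8251 = n6028 := d32_1 D8251 (iv D6028) (iv F23276)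
theorem F31468 : act 6 n8251 = n6215 := d34_1 D8251 (iv D6215) (iv F23277)
def n8252 : Q := act 2 n6027
theorem D8252 : act 2 n6027 = n8252 := rfl
theorem F31470 : act 3 n8252 = n6069 := d15_2 D6027 D8252 (iv D6069) (iv D4440) (iv F17284)
theorem F31471 : act 6 n8252 = n6029 := d18_2 (iv F23278) D8252 (iv D6029)
theorem F31472 : act 7 n8252 = n8252 := d19_2 F23279 D8252 (iv D8252)
def n8253 : Q := act 8 n6027
theorem D8253 : act 8 n6027 = n8253 := rfl
theorem F31473 : act 3 n8253 = n6028 := d25_1 D8253 (iv D6028) D6027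
theorem F31474 : act 6 n8253 = n6030 := d34_1 D8253 (iv D6030) (iv F23278)
def n8254 : Q := act 1 n6029
theorem D8254 : act 1 n6029 = n8254 := rfl
theorem F31475 : act 3 n8254 = n6071 := d9_2 (iv F23284) D8254 (iv D6071)
theorem F31476 : act 5 n8254 = n6218 := d11_2 (iv F23285) D8254 (iv D6218)
theorem F31477 : act 7 n8254 = n8254 := d13_2 F23286 D8254 (iv D8254)
def n8255 : Q := act 8 n6029
theorem D8255 : act 8 n6029 = n8255 := rfl
theorem F31478 : act 2 n8255 = n6030 := d20_1 D8255 (iv D6030) D6029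
theorem F31479 : act 3 n8255 = n6072 := d25_1 D8255 (iv D6072) (iv F23284)
theorem F31480 : act 5 n8255 = n6219 := d32_1 D8255 (iv D6219) (iv F23285)
def n8256 : Q := act 7 n6030
theorem D8256 : act 7 n6030 = n8256 := rfl
theorem F31481 : act 3 n8256 = n7765 := d24_1 D8256 (iv D7765) F22024 (iv F17292) (iv F23287)
theorem F31482 : act 5 n8256 = n6220 := d31_1 D8256 (iv D6220) (iv F23288)
theorem F31483 : act 8 n8256 = n8256 := d35_2 D6030 D8256 (iv D8256) (iv D6030) F17288
def n8257 : Q := act 3 n6031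
theorem D8257 : act 3 n6031 = n8257 := rfl
theorem F31484 : act 1 n8257 = n6036 := d9_1 D8257 (iv D6036) (iv F23289)
theorem F31485 : act 4 n8257 = n8257 := d21_2 D6031 D8257 (iv D8257) (iv D6031) F17298
theorem F31486 : act 5 n8257 = n6264 := d22_2 (iv F23290) D8257 (iv D6264)
theorem F31487 : act 8 n8257 = n7766 := d25_2 (iv F23291) D8257 (iv D7766)
def n8258 : Q := act 6 n6031
theorem D8258 : act 6 n6031 = n8258 := rfl
theorem F31488 : act 1 n8258 = n6037 := d12_1 D8258 (iv D6037) (iv F23289)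
theorem F31489 : act 4 n8258 = n6032 := d27_1 D8258 (iv D6032) D6031
theorem F31490 : act 8 n8258 = n7767 := d34_2 (iv F23291) D8258 (iv D7767)
def n8259 : Q := act 7 n6031
theorem D8259 : act 7 n6031 = n8259 := rfl
theorem F31491 : act 1 n8259 = n6038 := d13_1 D8259 (iv D6038) (iv F23289)
theorem F31492 : act 4 n8259 = n6033 := d28_1 D8259 (iv D6033) D6031
theorem F31493 : act 5 n8259 = n6266 := d31_1 D8259 (iv D6266) (iv F23290)
def n8260 : Q := act 7 n6032
theorem D8260 : act 7 n6032 = n8260 := rfl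
theorem F31494 : act 1 n8260 = n6039 := d13_1 D8260 (iv D6039) (iv F23292)
theorem F31495 : act 5 n8260 = n8260 := d31_1 D8260 (iv D8260) F23294
theorem F31496 : act 6 n8260 = n6033 := d33_1 D8260 (iv D6033) D6032
def n8261 : Q := act 3 n6033
theorem D8261 : act 3 n6033 = n8261 := rfl
theorem F31497 : act 1 n8261 = n6040 := d9_1 D8261 (iv D6040) (iv F23296)
theorem F31498 : act 5 n8261 = n6034 := d22_2 (iv F23297) D8261 (iv D6034)
theorem F31499 : act 7 n8261 = n8261 := d24_2 D6033 D8261 (iv D8261) (iv D6033) F17298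
def n8262 : Q := act 8 n6033
theorem D8262 : act 8 n6033 = n8262 := rfl
theorem F31500 : act 1 n8262 = n6041 := d14_1 D8262 (iv D6041) (iv F23296)
theorem F31501 : act 5 n8262 = n6035 := d32_1 D8262 (iv D6035) (iv F23297)
theorem F31502 : act 7 n8262 = n7771 := d35_1 D8262 (iv D7771) (iv D5684) (iv F17299) D6033
def n8263 : Q := act 2 n6034
theorem D8263 : act 2 n6034 = n8263 := rfl
theorem F31503 : act 1 n8263 = n8263 := d8_1 D8263 (iv D8263) F23298 F17316 (iv F23298)
theorem F31504 : act 6 n8263 = n8263 := d18_2 F23299 D8263 (iv D8263)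
theorem F31505 : act 7 n8263 = n8263 := d19_2 F23300 D8263 (iv D8263)
def n8264 : Q := act 4 n6034
theorem D8264 : act 4 n6034 = n8264 := rfl
theorem F31506 : act 1 n8264 = n6042 := d10_1 D8264 (iv D6042) (iv F23298)
theorem F31507 : act 3 n8264 = n6271 := d21_1 D8264 (iv D6271) (iv D4580) (iv F17301) D6034
theorem F31508 : act 6 n8264 = n8264 := d27_2 F23299 D8264 (iv D8264)
theorem F31509 : act 7 n8264 = n8264 := d28_2 F23300 D8264 (iv D8264)
def n8265 : Q := act 8 n6034
theorem D8265 : act 8 n6034 = n8265 := rfl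
theorem F31510 : act 1 n8265 = n6043 := d14_1 D8265 (iv D6043) (iv F23298)
theorem F31511 : act 3 n8265 = n6035 := d25_1 D8265 (iv D6035) D6034
theorem F31512 : act 6 n8265 = n8265 := d34_1 D8265 (iv D8265) F23299
def n8266 : Q := act 6 n6036
theorem D8266 : act 6 n6036 = n8266 := rfl
theorem F31513 : act 0 n8266 = n6049 := d5_1 D8266 (iv D6049) (iv F23305)
theorem F31514 : act 2 n8266 = n6082 := d18_1 D8266 (iv D6082) (iv F23306)
theorem F31515 : act 3 n8266 = n6037 := d23_1 D8266 (iv D6037) D6036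
theorem F31516 : act 4 n8266 = n8266 := d27_1 D8266 (iv D8266) F23307
theorem F31517 : act 8 n8266 = n7775 := d34_2 (iv F23309) D8266 (iv D7775)
def n8267 : Q := act 7 n6036
theorem D8267 : act 7 n6036 = n8267 := rfl
theorem F31518 : act 0 n8267 = n6050 := d6_1 D8267 (iv D6050) (iv F23305)
theorem F31519 : act 2 n8267 = n6083 := d19_1 D8267 (iv D6083) (iv F23306)
theorem F31520 : act 4 n8267 = n8267 := d28_1 D8267 (iv D8267) F23307
theorem F31521 : act 5 n8267 = n6274 := d31_1 D8267 (iv D6274) (iv F23308)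
def n8268 : Q := act 5 n6037
theorem D8268 : act 5 n6037 = n8268 := rfl
theorem F31522 : act 0 n8268 = n6051 := d4_1 D8268 (iv D6051) (iv F23310)
theorem F31523 : act 2 n8268 = n6044 := d17_1 D8268 (iv D6044) (iv F23311)
theorem F31524 : act 4 n8268 = n8268 := d26_1 D8268 (iv D8268) F23312 F17310 (iv F23312)
theorem F31525 : act 6 n8268 = n6275 := d30_2 D6037 D8268 (iv D6275) (iv D4583) (iv F17305)
theorem F31526 : act 8 n8268 = n7777 := d32_2 (iv F23313) D8268 (iv D7777)
def n8269 : Q := act 7 n6037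
theorem D8269 : act 7 n6037 = n8269 := rfl
theorem F31527 : act 0 n8269 = n6052 := d6_1 D8269 (iv D6052) (iv F23310)
theorem F31528 : act 2 n8269 = n6045 := d19_1 D8269 (iv D6045) (iv F23311)
theorem F31529 : act 4 n8269 = n6039 := d28_1 D8269 (iv D6039) (iv F23312)
theorem F31530 : act 6 n8269 = n6038 := d33_1 D8269 (iv D6038) D6037
def n8270 : Q := act 3 n6038
theorem D8270 : act 3 n6038 = n8270 := rfl
theorem F31531 : act 0 n8270 = n6053 := d2_1 D8270 (iv D6053) (iv F23314)
theorem F31532 : act 5 n8270 = n6277 := d22_2 (iv F23317) D8270 (iv D6277)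
def n8271 : Q := act 8 n6038
theorem D8271 : act 8 n6038 = n8271 := rfl
theorem F31533 : act 0 n8271 = n6054 := d7_1 D8271 (iv D6054) (iv F23314)
theorem F31534 : act 2 n8271 = n6047 := d20_1 D8271 (iv D6047) (iv F23315)
theorem F31535 : act 4 n8271 = n6041 := d29_1 D8271 (iv D6041) (iv F23316)
theorem F31536 : act 5 n8271 = n6278 := d32_1 D8271 (iv D6278) (iv F23317)
theorem F31537 : act 7 n8271 = n7780 := d35_1 D8271 (iv D7780) (iv D5689) (iv F17306) D6038
def n8272 : Q := act 3 n6039
theorem D8272 : act 3 n6039 = n8272 := rfl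
theorem F31538 : act 0 n8272 = n6055 := d2_1 D8272 (iv D6055) (iv F23318)
theorem F31539 : act 2 n8272 = n8272 := d15_1 D8272 (iv D8272) F23319 F17332 (iv F23319)
theorem F31540 : act 5 n8272 = n8272 := d22_2 F23320 D8272 (iv D8272)
theorem F31541 : act 6 n8272 = n6040 := d23_2 (iv F23321) D8272 (iv D6040)
theorem F31542 : act 7 n8272 = n8272 := d24_2 D6039 D8272 (iv D8272) (iv D6039) F17309
def n8273 : Q := act 8 n6039
theorem D8273 : act 8 n6039 = n8273 := rfl
theorem F31543 : act 0 n8273 = n6056 := d7_1 D8273 (iv D6056) (iv F23318)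
theorem F31544 : act 2 n8273 = n6048 := d20_1 D8273 (iv D6048) (iv F23319)
theorem F31545 : act 5 n8273 = n8273 := d32_1 D8273 (iv D8273) F23320
theorem F31546 : act 6 n8273 = n6041 := d34_1 D8273 (iv D6041) (iv F23321)
theorem F31547 : act 7 n8273 = n7782 := d35_1 D8273 (iv D7782) (iv D5690) (iv F17311) D6039
def n8274 : Q := act 4 n6040
theorem D8274 : act 4 n6040 = n8274 := rfl
theorem F31548 : act 0 n8274 = n6057 := d3_1 D8274 (iv D6057) (iv F23322)
theorem F31549 : act 2 n8274 = n8274 := d16_1 D8274 (iv D8274) F23323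
theorem F31550 : act 7 n8274 = n8274 := d28_2 F23325 D8274 (iv D8274)
def n8275 : Q := act 8 n6040
theorem D8275 : act 8 n6040 = n8275 := rfl
theorem F31551 : act 0 n8275 = n6058 := d7_1 D8275 (iv D6058) (iv F23322)
theorem F31552 : act 2 n8275 = n8275 := d20_1 D8275 (iv D8275) F23323
theorem F31553 : act 3 n8275 = n6041 := d25_1 D8275 (iv D6041) D6040
theorem F31554 : act 5 n8275 = n6043 := d32_1 D8275 (iv D6043) (iv F23324)
def n8276 : Q := act 5 n6042
theorem D8276 : act 5 n6042 = n8276 := rfl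
theorem F31555 : act 0 n8276 = n6059 := d4_1 D8276 (iv D6059) (iv F23330)
theorem F31556 : act 2 n8276 = n8276 := d17_1 D8276 (iv D8276) F23331
theorem F31557 : act 3 n8276 = n6283 := d22_1 D8276 (iv D6283) (iv F23332)
theorem F31558 : act 7 n8276 = n8276 := d31_2 F23334 D8276 (iv D8276)
def n8277 : Q := act 8 n6042
theorem D8277 : act 8 n6042 = n8277 := rfl
theorem F31559 : act 0 n8277 = n6060 := d7_1 D8277 (iv D6060) (iv F23330)
theorem F31560 : act 2 n8277 = n8277 := d20_1 D8277 (iv D8277) F23331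
theorem F31561 : act 3 n8277 = n6284 := d25_1 D8277 (iv D6284) (iv F23332)
theorem F31562 : act 4 n8277 = n6043 := d29_1 D8277 (iv D6043) D6042
theorem F31563 : act 6 n8277 = n8277 := d34_1 D8277 (iv D8277) F23333
def n8278 : Q := act 7 n6043
theorem D8278 : act 7 n6043 = n8278 := rfl
theorem F31564 : act 0 n8278 = n6061 := d6_1 D8278 (iv D6061) (iv F23335)
theorem F31565 : act 2 n8278 = n8278 := d19_1 D8278 (iv D8278) F23336
theorem F31566 : act 3 n8278 = n7787 := d24_1 D8278 (iv D7787) F22067 (iv F17323) (iv F23337)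
theorem F31567 : act 6 n8278 = n8278 := d33_1 D8278 (iv D8278) F23338
theorem F31568 : act 8 n8278 = n8278 := d35_2 D6043 D8278 (iv D8278) (iv D6043) F17318
def n8279 : Q := act 7 n6044
theorem D8279 : act 7 n6044 = n8279 := rfl
theorem F31569 : act 0 n8279 = n6062 := d6_1 D8279 (iv D6062) (iv F23339)
theorem F31570 : act 4 n8279 = n8279 := d28_1 D8279 (iv D8279) F23341
theorem F31571 : act 5 n8279 = n6045 := d31_1 D8279 (iv D6045) D6044
theorem F31572 : act 6 n8279 = n6286 := d33_1 D8279 (iv D6286) (iv F23342)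
def n8280 : Q := act 3 n6045
theorem D8280 : act 3 n6045 = n8280 := rfl
theorem F31573 : act 0 n8280 = n6063 := d2_1 D8280 (iv D6063) (iv F23344)
theorem F31574 : act 4 n8280 = n8280 := d21_2 (iv F23345) D8280 (iv D8280) F23345 F17332
theorem F31575 : act 6 n8280 = n6046 := d23_2 (iv F23346) D8280 (iv D6046)
theorem F31576 : act 7 n8280 = n6094 := d24_2 D6045 D8280 (iv D6094) (iv D4457) (iv F17325)
def n8281 : Q := act 8 n6045
theorem D8281 : act 8 n6045 = n8281 := rfl
theorem F31577 : act 0 n8281 = n6064 := d7_1 D8281 (iv D6064) (iv F23344)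
theorem F31578 : act 4 n8281 = n6048 := d29_1 D8281 (iv D6048) (iv F23345)
theorem F31579 : act 6 n8281 = n6047 := d34_1 D8281 (iv D6047) (iv F23346)
theorem F31580 : act 7 n8281 = n7790 := d35_1 D8281 (iv D7790) (iv D5696) (iv F17327) D6045
def n8282 : Q := act 2 n6046
theorem D8282 : act 2 n6046 = n8282 := rfl
theorem F31581 : act 0 n8282 = n6065 := d1_1 D8282 (iv D6065) (iv F23347)
theorem F31582 : act 4 n8282 = n8282 := d16_2 F23348 D8282 (iv D8282)
theorem F31583 : act 5 n8282 = n6289 := d17_2 (iv F23349) D8282 (iv D6289)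
theorem F31584 : act 7 n8282 = n6096 := d19_2 (iv F23350) D8282 (iv D6096)
def n8283 : Q := act 8 n6046
theorem D8283 : act 8 n6046 = n8283 := rfl
theorem F31585 : act 0 n8283 = n6066 := d7_1 D8283 (iv D6066) (iv F23347)
theorem F31586 : act 3 n8283 = n6047 := d25_1 D8283 (iv D6047) D6046
theorem F31587 : act 4 n8283 = n8283 := d29_1 D8283 (iv D8283) F23348
theorem F31588 : act 5 n8283 = n6290 := d32_1 D8283 (iv D6290) (iv F23349)
def n8284 : Q := act 5 n6049
theorem D8284 : act 5 n6049 = n8284 := rfl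
theorem F31589 : act 2 n8284 = n6098 := d17_1 D8284 (iv D6098) (iv F23360)
theorem F31590 : act 3 n8284 = n6051 := d22_1 D8284 (iv D6051) (iv F23361)
theorem F31591 : act 6 n8284 = n6291 := d30_2 D6049 D8284 (iv D6291) (iv D4595) (iv F17341)
theorem F31592 : act 8 n8284 = n7793 := d32_2 (iv F23363) D8284 (iv D7793)
def n8285 : Q := act 7 n6049
theorem D8285 : act 7 n6049 = n8285 := rfl
theorem F31593 : act 2 n8285 = n6099 := d19_1 D8285 (iv D6099) (iv F23360)
theorem F31594 : act 4 n8285 = n8285 := d28_1 D8285 (iv D8285) F23362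
theorem F31595 : act 6 n8285 = n6050 := d33_1 D8285 (iv D6050) D6049
def n8286 : Q := act 3 n6050
theorem D8286 : act 3 n6050 = n8286 := rfl
theorem F31596 : act 5 n8286 = n6293 := d22_2 (iv F23366) D8286 (iv D6293)
theorem F31597 : act 7 n8286 = n6053 := d24_2 D6050 D8286 (iv D6053) (iv D4428) D4426
def n8287 : Q := act 8 n6050
theorem D8287 : act 8 n6050 = n8287 := rfl
theorem F31598 : act 2 n8287 = n6101 := d20_1 D8287 (iv D6101) (iv F23364)
theorem F31599 : act 4 n8287 = n8287 := d29_1 D8287 (iv D8287) F23365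
theorem F31600 : act 5 n8287 = n6294 := d32_1 D8287 (iv D6294) (iv F23366)
theorem F31601 : act 7 n8287 = n7796 := d35_1 D8287 (iv D7796) (iv D5701) (iv F17342) D6050
def n8288 : Q := act 7 n6051
theorem D8288 : act 7 n6051 = n8288 := rfl
theorem F31602 : act 2 n8288 = n6062 := d19_1 D8288 (iv D6062) (iv F23367)
theorem F31603 : act 4 n8288 = n8288 := d28_1 D8288 (iv D8288) F23368
theorem F31604 : act 5 n8288 = n6052 := d31_1 D8288 (iv D6052) D6051
theorem F31605 : act 6 n8288 = n6295 := d33_1 D8288 (iv D6295) (iv F23369)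
def n8289 : Q := act 3 n6052
theorem D8289 : act 3 n6052 = n8289 := rfl
theorem F31606 : act 6 n8289 = n6053 := d23_2 (iv F23373) D8289 (iv D6053)
def n8290 : Q := act 8 n6052
theorem D8290 : act 8 n6052 = n8290 := rfl
theorem F31607 : act 2 n8290 = n6064 := d20_1 D8290 (iv D6064) (iv F23371)
theorem F31608 : act 4 n8290 = n6056 := d29_1 D8290 (iv D6056) (iv F23372)
theorem F31609 : act 6 n8290 = n6054 := d34_1 D8290 (iv D6054) (iv F23373)
theorem F31610 : act 7 n8290 = n7799 := d35_1 D8290 (iv D7799) (iv D5703) (iv F17345) D6052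
def n8291 : Q := act 2 n6053
theorem D8291 : act 2 n6053 = n8291 := rfl
theorem F31611 : act 3 n8291 = n6065 := d15_2 D6053 D8291 (iv D6065) (iv D4436) (iv F17346)
theorem F31612 : act 5 n8291 = n6298 := d17_2 (iv F23374) D8291 (iv D6298)
def n8292 : Q := act 4 n6053
theorem D8292 : act 4 n6053 = n8292 := rfl
theorem F31613 : act 3 n8292 = n6057 := d21_1 D8292 (iv D6057) (iv D4430) (iv F17347) D6053
def n8293 : Q := act 8 n6053
theorem D8293 : act 8 n6053 = n8293 := rfl
theorem F31614 : act 3 n8293 = n6054 := d25_1 D8293 (iv D6054) D6053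
theorem F31615 : act 5 n8293 = n6300 := d32_1 D8293 (iv D6300) (iv F23374)
def n8294 : Q := act 4 n6055
theorem D8294 : act 4 n6055 = n8294 := rfl
theorem F31616 : act 2 n8294 = n8294 := d16_1 D8294 (iv D8294) F23379
theorem F31617 : act 6 n8294 = n6057 := d27_2 (iv F23381) D8294 (iv D6057)
theorem F31618 : act 7 n8294 = n8294 := d28_2 F23382 D8294 (iv D8294)
def n8295 : Q := act 8 n6055
theorem D8295 : act 8 n6055 = n8295 := rfl
theorem F31619 : act 2 n8295 = n8295 := d20_1 D8295 (iv D8295) F23379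
theorem F31620 : act 3 n8295 = n6056 := d25_1 D8295 (iv D6056) D6055
theorem F31621 : act 5 n8295 = n8295 := d32_1 D8295 (iv D8295) F23380
theorem F31622 : act 6 n8295 = n6058 := d34_1 D8295 (iv D6058) (iv F23381)
def n8296 : Q := act 5 n6057
theorem D8296 : act 5 n6057 = n8296 := rfl
theorem F31623 : act 2 n8296 = n8296 := d17_1 D8296 (iv D8296) F23387
theorem F31624 : act 4 n8296 = n6059 := d26_1 D8296 (iv D6059) (iv D4432) (iv F17353) D6057
theorem F31625 : act 7 n8296 = n8296 := d31_2 F23388 D8296 (iv D8296)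
def n8297 : Q := act 8 n6057
theorem D8297 : act 8 n6057 = n8297 := rfl
theorem F31626 : act 2 n8297 = n8297 := d20_1 D8297 (iv D8297) F23387
theorem F31627 : act 4 n8297 = n6058 := d29_1 D8297 (iv D6058) D6057
def n8298 : Q := act 7 n6058
theorem D8298 : act 7 n6058 = n8298 := rfl
theorem F31628 : act 2 n8298 = n8298 := d19_1 D8298 (iv D8298) F23389
theorem F31629 : act 3 n8298 = n7807 := d24_1 D8298 (iv D7807) F22111 (iv F17357) (iv F23390)
theorem F31630 : act 5 n8298 = n6061 := d31_1 D8298 (iv D6061) (iv F23391)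
theorem F31631 : act 8 n8298 = n8298 := d35_2 D6058 D8298 (iv D8298) (iv D6058) F17354
def n8299 : Q := act 6 n6059
theorem D8299 : act 6 n6059 = n8299 := rfl
theorem F31632 : act 2 n8299 = n8299 := d18_1 D8299 (iv D8299) F23392
theorem F31633 : act 3 n8299 = n6306 := d23_1 D8299 (iv D6306) (iv F23393)
theorem F31634 : act 5 n8299 = n8299 := d30_1 D8299 (iv D8299) (iv D6059) F17360 D6059
theorem F31635 : act 7 n8299 = n8299 := d33_2 F23394 D8299 (iv D8299)
def n8300 : Q := act 8 n6059
theorem D8300 : act 8 n6059 = n8300 := rfl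
theorem F31636 : act 2 n8300 = n8300 := d20_1 D8300 (iv D8300) F23392
theorem F31637 : act 3 n8300 = n6307 := d25_1 D8300 (iv D6307) (iv F23393)
theorem F31638 : act 5 n8300 = n6060 := d32_1 D8300 (iv D6060) D6059
def n8301 : Q := act 7 n6060
theorem D8301 : act 7 n6060 = n8301 := rfl
theorem F31639 : act 2 n8301 = n8301 := d19_1 D8301 (iv D8301) F23395
theorem F31640 : act 4 n8301 = n6061 := d28_1 D8301 (iv D6061) (iv F23397)
theorem F31641 : act 6 n8301 = n8301 := d33_1 D8301 (iv D8301) F23398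
theorem F31642 : act 8 n8301 = n8301 := d35_2 D6060 D8301 (iv D8301) (iv D6060) F17361
def n8302 : Q := act 3 n6062
theorem D8302 : act 3 n6062 = n8302 := rfl
theorem F31646 : act 7 n8302 = n6112 := d24_2 D6062 D8302 (iv D6112) (iv D4472) (iv F17366)
def n8303 : Q := act 8 n6062
theorem D8303 : act 8 n6062 = n8303 := rfl
theorem F31647 : act 1 n8303 = n6068 := d14_1 D8303 (iv D6068) (iv F23403)
theorem F31648 : act 4 n8303 = n8303 := d29_1 D8303 (iv D8303) F23404
theorem F31649 : act 5 n8303 = n6064 := d32_1 D8303 (iv D6064) (iv F23405)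
theorem F31650 : act 6 n8303 = n6310 := d34_1 D8303 (iv D6310) (iv F23406)
theorem F31651 : act 7 n8303 = n7812 := d35_1 D8303 (iv D7812) (iv D5713) (iv F17369) D6062
def n8304 : Q := act 2 n6063
theorem D8304 : act 2 n6063 = n8304 := rfl
theorem F31652 : act 4 n8304 = n8304 := d16_2 F23408 D8304 (iv D8304)
theorem F31653 : act 6 n8304 = n6065 := d18_2 (iv F23409) D8304 (iv D6065)
theorem F31654 : act 7 n8304 = n6114 := d19_2 (iv F23410) D8304 (iv D6114)
def n8305 : Q := act 8 n6063
theorem D8305 : act 8 n6063 = n8305 := rfl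
theorem F31655 : act 1 n8305 = n6070 := d14_1 D8305 (iv D6070) (iv F23407)
theorem F31656 : act 3 n8305 = n6064 := d25_1 D8305 (iv D6064) D6063
theorem F31657 : act 4 n8305 = n8305 := d29_1 D8305 (iv D8305) F23408
theorem F31658 : act 6 n8305 = n6066 := d34_1 D8305 (iv D6066) (iv F23409)
def n8306 : Q := act 1 n6065
theorem D8306 : act 1 n6065 = n8306 := rfl
theorem F31659 : act 2 n8306 = n6071 := d8_2 D6065 D8306 (iv D6071) (iv D4442) (iv F17373)
theorem F31660 : act 4 n8306 = n8306 := d10_2 F23415 D8306 (iv D8306)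
theorem F31661 : act 5 n8306 = n6313 := d11_2 (iv F23416) D8306 (iv D6313)
theorem F31662 : act 7 n8306 = n6116 := d13_2 (iv F23417) D8306 (iv D6116)
def n8307 : Q := act 8 n6065
theorem D8307 : act 8 n6065 = n8307 := rfl
theorem F31663 : act 2 n8307 = n6066 := d20_1 D8307 (iv D6066) D6065
theorem F31664 : act 4 n8307 = n8307 := d29_1 D8307 (iv D8307) F23415
theorem F31665 : act 5 n8307 = n6314 := d32_1 D8307 (iv D6314) (iv F23416)
def n8311 : Q := act 8 n6067
theorem D8311 : act 8 n6067 = n8311 := rfl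
theorem F31678 : act 3 n8311 = n6068 := d25_1 D8311 (iv D6068) D6067
def n8312 : Q := act 1 n6069
theorem D8312 : act 1 n6069 = n8312 := rfl
theorem F31681 : act 4 n8312 = n8312 := d10_2 F23429 D8312 (iv D8312)
theorem F31682 : act 6 n8312 = n6071 := d12_2 (iv F23430) D8312 (iv D6071)
theorem F31683 : act 7 n8312 = n6122 := d13_2 (iv F23431) D8312 (iv D6122)
def n8313 : Q := act 8 n6069
theorem D8313 : act 8 n6069 = n8313 := rfl
theorem F31684 : act 2 n8313 = n6070 := d20_1 D8313 (iv D6070) D6069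
theorem F31685 : act 4 n8313 = n8313 := d29_1 D8313 (iv D8313) F23429
theorem F31686 : act 6 n8313 = n6072 := d34_1 D8313 (iv D6072) (iv F23430)
def n8314 : Q := act 7 n6070
theorem D8314 : act 7 n6070 = n8314 := rfl
theorem F31690 : act 8 n8314 = n6124 := d35_2 D6070 D8314 (iv D6124) (iv D4480) (iv F17391)
def n8315 : Q := act 0 n6071
theorem D8315 : act 0 n6071 = n8315 := rfl
theorem F31691 : act 4 n8315 = n8315 := d3_2 F23435 D8315 (iv D8315)
theorem F31692 : act 5 n8315 = n6322 := d4_2 (iv F23436) D8315 (iv D6322)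
theorem F31693 : act 7 n8315 = n6125 := d6_2 (iv F23437) D8315 (iv D6125)
def n8316 : Q := act 8 n6071
theorem D8316 : act 8 n6071 = n8316 := rfl
theorem F31694 : act 1 n8316 = n6072 := d14_1 D8316 (iv D6072) D6071
theorem F31695 : act 4 n8316 = n8316 := d29_1 D8316 (iv D8316) F23435
theorem F31696 : act 5 n8316 = n6323 := d32_1 D8316 (iv D6323) (iv F23436)
def n8317 : Q := act 7 n6072
theorem D8317 : act 7 n6072 = n8317 := rfl
theorem F31700 : act 8 n8317 = n6127 := d35_2 D6072 D8317 (iv D6127) (iv D4482) (iv F17397)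
def n8318 : Q := act 2 n6074
theorem D8318 : act 2 n6074 = n8318 := rfl
theorem F31701 : act 0 n8318 = n8318 := d1_1 D8318 (iv D8318) F23445
theorem F31702 : act 4 n8318 = n8318 := d16_2 F23447 D8318 (iv D8318)
theorem F31703 : act 5 n8318 = n6383 := d17_2 (iv F23448) D8318 (iv D6383)
theorem F31704 : act 8 n8318 = n7827 := d20_2 (iv F23449) D8318 (iv D7827)
def n8319 : Q := act 6 n6074
theorem D8319 : act 6 n6074 = n8319 := rfl
theorem F31705 : act 0 n8319 = n8319 := d5_1 D8319 (iv D8319) F23445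
theorem F31706 : act 1 n8319 = n6082 := d12_1 D8319 (iv D6082) (iv F23446)
theorem F31707 : act 3 n8319 = n6075 := d23_1 D8319 (iv D6075) D6074
theorem F31708 : act 4 n8319 = n8319 := d27_1 D8319 (iv D8319) F23447
theorem F31709 : act 8 n8319 = n7828 := d34_2 (iv F23449) D8319 (iv D7828)
def n8320 : Q := act 7 n6074
theorem D8320 : act 7 n6074 = n8320 := rfl
theorem F31710 : act 0 n8320 = n8320 := d6_1 D8320 (iv D8320) F23445
theorem F31711 : act 1 n8320 = n6083 := d13_1 D8320 (iv D6083) (iv F23446)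
theorem F31712 : act 4 n8320 = n8320 := d28_1 D8320 (iv D8320) F23447
theorem F31713 : act 5 n8320 = n6385 := d31_1 D8320 (iv D6385) (iv F23448)
def n8321 : Q := act 5 n6075
theorem D8321 : act 5 n6075 = n8321 := rfl
theorem F31714 : act 0 n8321 = n8321 := d4_1 D8321 (iv D8321) F23450
theorem F31715 : act 1 n8321 = n6084 := d11_1 D8321 (iv D6084) (iv F23451)
theorem F31716 : act 4 n8321 = n7207 := d26_1 D8321 (iv D7207) F20421 (iv F17408) (iv F23452)
theorem F31717 : act 6 n8321 = n6386 := d30_2 D6075 D8321 (iv D6386) (iv D4663) (iv F17403)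
theorem F31718 : act 8 n8321 = n7830 := d32_2 (iv F23453) D8321 (iv D7830)
def n8322 : Q := act 7 n6075
theorem D8322 : act 7 n6075 = n8322 := rfl
theorem F31719 : act 0 n8322 = n8322 := d6_1 D8322 (iv D8322) F23450
theorem F31720 : act 1 n8322 = n6085 := d13_1 D8322 (iv D6085) (iv F23451)
theorem F31721 : act 4 n8322 = n6077 := d28_1 D8322 (iv D6077) (iv F23452)
theorem F31722 : act 6 n8322 = n6076 := d33_1 D8322 (iv D6076) D6075
def n8323 : Q := act 3 n6076
theorem D8323 : act 3 n6076 = n8323 := rfl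
theorem F31723 : act 0 n8323 = n8323 := d2_1 D8323 (iv D8323) F23454
theorem F31724 : act 1 n8323 = n6086 := d9_1 D8323 (iv D6086) (iv F23455)
theorem F31725 : act 5 n8323 = n6388 := d22_2 (iv F23457) D8323 (iv D6388)
def n8324 : Q := act 8 n6076
theorem D8324 : act 8 n6076 = n8324 := rfl
theorem F31728 : act 4 n8324 = n6079 := d29_1 D8324 (iv D6079) (iv F23456)
def n8325 : Q := act 3 n6077
theorem D8325 : act 3 n6077 = n8325 := rfl
theorem F31731 : act 0 n8325 = n8325 := d2_1 D8325 (iv D8325) F23458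
theorem F31732 : act 1 n8325 = n6088 := d9_1 D8325 (iv D6088) (iv F23459)
theorem F31733 : act 5 n8325 = n7211 := d22_2 (iv F23460) D8325 (iv D7211)
theorem F31734 : act 6 n8325 = n6078 := d23_2 (iv F23461) D8325 (iv D6078)
theorem F31735 : act 7 n8325 = n8325 := d24_2 D6077 D8325 (iv D8325) (iv D6077) F17407
def n8326 : Q := act 8 n6077
theorem D8326 : act 8 n6077 = n8326 := rfl
theorem F31737 : act 1 n8326 = n6089 := d14_1 D8326 (iv D6089) (iv F23459)
theorem F31739 : act 6 n8326 = n6079 := d34_1 D8326 (iv D6079) (iv F23461)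
def n8327 : Q := act 2 n6078
theorem D8327 : act 2 n6078 = n8327 := rfl
theorem F31741 : act 0 n8327 = n8327 := d1_1 D8327 (iv D8327) F23462
theorem F31742 : act 1 n8327 = n8327 := d8_1 D8327 (iv D8327) F23463 F17440 (iv F23463)
theorem F31743 : act 5 n8327 = n6080 := d17_2 (iv F23464) D8327 (iv D6080)
theorem F31744 : act 7 n8327 = n8327 := d19_2 F23465 D8327 (iv D8327)
def n8328 : Q := act 4 n6078
theorem D8328 : act 4 n6078 = n8328 := rfl
theorem F31745 : act 0 n8328 = n8328 := d3_1 D8328 (iv D8328) F23462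
theorem F31746 : act 1 n8328 = n6090 := d10_1 D8328 (iv D6090) (iv F23463)
theorem F31747 : act 5 n8328 = n8328 := d26_2 (iv F23464) D8328 (iv D8328) F23464 F17415
theorem F31748 : act 7 n8328 = n8328 := d28_2 F23465 D8328 (iv D8328)
def n8329 : Q := act 8 n6078
theorem D8329 : act 8 n6078 = n8329 := rfl
theorem F31749 : act 0 n8329 = n8329 := d7_1 D8329 (iv D8329) F23462
theorem F31750 : act 1 n8329 = n6091 := d14_1 D8329 (iv D6091) (iv F23463)
theorem F31751 : act 3 n8329 = n6079 := d25_1 D8329 (iv D6079) D6078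
theorem F31752 : act 5 n8329 = n6081 := d32_1 D8329 (iv D6081) (iv F23464)
def n8330 : Q := act 8 n6080
theorem D8330 : act 8 n6080 = n8330 := rfl
theorem F31753 : act 0 n8330 = n8330 := d7_1 D8330 (iv D8330) F23470
theorem F31754 : act 1 n8330 = n8330 := d14_1 D8330 (iv D8330) F23471
theorem F31755 : act 2 n8330 = n6081 := d20_1 D8330 (iv D6081) D6080
theorem F31756 : act 4 n8330 = n8330 := d29_1 D8330 (iv D8330) F23472
def n8331 : Q := act 7 n6081
theorem D8331 : act 7 n6081 = n8331 := rfl
def n8332 : Q := act 5 n6082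
theorem D8332 : act 5 n6082 = n8332 := rfl
theorem F31764 : act 0 n8332 = n6098 := d4_1 D8332 (iv D6098) (iv F23480)
theorem F31765 : act 3 n8332 = n6084 := d22_1 D8332 (iv D6084) (iv F23481)
theorem F31766 : act 6 n8332 = n6391 := d30_2 D6082 D8332 (iv D6391) (iv D4667) (iv F17425)
theorem F31767 : act 8 n8332 = n7841 := d32_2 (iv F23483) D8332 (iv D7841)
def n8333 : Q := act 7 n6082
theorem D8333 : act 7 n6082 = n8333 := rfl
theorem F31768 : act 0 n8333 = n6099 := d6_1 D8333 (iv D6099) (iv F23480)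
theorem F31769 : act 4 n8333 = n8333 := d28_1 D8333 (iv D8333) F23482
theorem F31770 : act 6 n8333 = n6083 := d33_1 D8333 (iv D6083) D6082
def n8334 : Q := act 3 n6083
theorem D8334 : act 3 n6083 = n8334 := rfl
theorem F31771 : act 0 n8334 = n6100 := d2_1 D8334 (iv D6100) (iv F23484)
theorem F31772 : act 5 n8334 = n6393 := d22_2 (iv F23486) D8334 (iv D6393)
theorem F31773 : act 7 n8334 = n6086 := d24_2 D6083 D8334 (iv D6086) (iv D4451) D4449
def n8335 : Q := act 8 n6083
theorem D8335 : act 8 n6083 = n8335 := rfl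
theorem F31774 : act 0 n8335 = n6101 := d7_1 D8335 (iv D6101) (iv F23484)
theorem F31775 : act 4 n8335 = n8335 := d29_1 D8335 (iv D8335) F23485
theorem F31776 : act 5 n8335 = n6394 := d32_1 D8335 (iv D6394) (iv F23486)
theorem F31777 : act 7 n8335 = n7844 := d35_1 D8335 (iv D7844) (iv D5734) (iv F17426) D6083
def n8336 : Q := act 7 n6084
theorem D8336 : act 7 n6084 = n8336 := rfl
theorem F31780 : act 4 n8336 = n7222 := d28_1 D8336 (iv D7222) (iv F23489)
def n8337 : Q := act 3 n6085
theorem D8337 : act 3 n6085 = n8337 := rfl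
theorem F31783 : act 0 n8337 = n6103 := d2_1 D8337 (iv D6103) (iv F23492)
theorem F31784 : act 6 n8337 = n6086 := d23_2 (iv F23495) D8337 (iv D6086)
def n8338 : Q := act 8 n6085
theorem D8338 : act 8 n6085 = n8338 := rfl
theorem F31787 : act 4 n8338 = n6089 := d29_1 D8338 (iv D6089) (iv F23494)
def n8339 : Q := act 2 n6086
theorem D8339 : act 2 n6086 = n8339 := rfl
theorem F31790 : act 0 n8339 = n6105 := d1_1 D8339 (iv D6105) (iv F23496)
theorem F31791 : act 3 n8339 = n6096 := d15_2 D6086 D8339 (iv D6096) (iv D4458) (iv F17432)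
theorem F31792 : act 5 n8339 = n6398 := d17_2 (iv F23497) D8339 (iv D6398)
def n8340 : Q := act 4 n6086
theorem D8340 : act 4 n6086 = n8340 := rfl
theorem F31793 : act 0 n8340 = n6106 := d3_1 D8340 (iv D6106) (iv F23496)
theorem F31794 : act 3 n8340 = n6090 := d21_1 D8340 (iv D6090) (iv D4453) (iv F17433) D6086
theorem F31795 : act 5 n8340 = n8340 := d26_2 (iv F23497) D8340 (iv D8340) F23497 F18244
def n8342 : Q := act 4 n6088
theorem D8342 : act 4 n6088 = n8342 := rfl
theorem F31799 : act 0 n8342 = n6108 := d3_1 D8342 (iv D6108) (iv F23503)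
theorem F31800 : act 2 n8342 = n8342 := d16_1 D8342 (iv D8342) F23504
theorem F31801 : act 6 n8342 = n6090 := d27_2 (iv F23506) D8342 (iv D6090)
theorem F31802 : act 7 n8342 = n8342 := d28_2 F23507 D8342 (iv D8342)
def n8343 : Q := act 8 n6088
theorem D8343 : act 8 n6088 = n8343 := rfl
def n8344 : Q := act 8 n6090
theorem D8344 : act 8 n6090 = n8344 := rfl
theorem F31808 : act 0 n8344 = n6110 := d7_1 D8344 (iv D6110) (iv F23513)
theorem F31809 : act 2 n8344 = n8344 := d20_1 D8344 (iv D8344) F23514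
theorem F31810 : act 4 n8344 = n6091 := d29_1 D8344 (iv D6091) D6090
theorem F31811 : act 5 n8344 = n8344 := d32_1 D8344 (iv D8344) F23515
def n8345 : Q := act 7 n6091
theorem D8345 : act 7 n6091 = n8345 := rfl
def n8348 : Q := act 2 n6094
theorem D8348 : act 2 n6094 = n8348 := rfl
theorem F31825 : act 0 n8348 = n6114 := d1_1 D8348 (iv D6114) (iv F23531)
theorem F31826 : act 4 n8348 = n8348 := d16_2 F23532 D8348 (iv D8348)
theorem F31827 : act 6 n8348 = n6096 := d18_2 (iv F23533) D8348 (iv D6096)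
def n8349 : Q := act 8 n6094
theorem D8349 : act 8 n6094 = n8349 := rfl
theorem F31829 : act 3 n8349 = n6095 := d25_1 D8349 (iv D6095) D6094
def n8350 : Q := act 1 n6096
theorem D8350 : act 1 n6096 = n8350 := rfl
theorem F31832 : act 4 n8350 = n8350 := d10_2 F23539 D8350 (iv D8350)
theorem F31833 : act 5 n8350 = n6404 := d11_2 (iv F23540) D8350 (iv D6404)
def n8353 : Q := act 4 n6098
theorem D8353 : act 4 n6098 = n8353 := rfl
theorem F31842 : act 1 n8353 = n8353 := d10_1 D8353 (iv D8353) F23545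
theorem F31844 : act 5 n8353 = n8353 := d26_2 D6098 D8353 (iv D8353) (iv D6098) F17473
theorem F31845 : act 6 n8353 = n6407 := d27_2 (iv F23547) D8353 (iv D6407)
def n8354 : Q := act 7 n6098
theorem D8354 : act 7 n6098 = n8354 := rfl
theorem F31847 : act 1 n8354 = n8354 := d13_1 D8354 (iv D8354) F23545
theorem F31848 : act 5 n8354 = n6099 := d31_1 D8354 (iv D6099) D6098
theorem F31849 : act 6 n8354 = n6408 := d33_1 D8354 (iv D6408) (iv F23547)
def n8355 : Q := act 3 n6099
theorem D8355 : act 3 n6099 = n8355 := rfl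
theorem F31850 : act 1 n8355 = n8355 := d9_1 D8355 (iv D8355) F23549
theorem F31851 : act 6 n8355 = n6100 := d23_2 (iv F23551) D8355 (iv D6100)
theorem F31852 : act 7 n8355 = n6103 := d24_2 D6099 D8355 (iv D6103) (iv D4464) (iv F17472)
def n8356 : Q := act 8 n6099
theorem D8356 : act 8 n6099 = n8356 := rfl
theorem F31853 : act 1 n8356 = n8356 := d14_1 D8356 (iv D8356) F23549
theorem F31854 : act 4 n8356 = n8356 := d29_1 D8356 (iv D8356) F23550
theorem F31855 : act 6 n8356 = n6101 := d34_1 D8356 (iv D6101) (iv F23551)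
theorem F31856 : act 7 n8356 = n7869 := d35_1 D8356 (iv D7869) (iv D5752) (iv F17474) D6099
def n8357 : Q := act 2 n6100
theorem D8357 : act 2 n6100 = n8357 := rfl
theorem F31857 : act 5 n8357 = n6411 := d17_2 (iv F23553) D8357 (iv D6411)
theorem F31858 : act 7 n8357 = n6105 := d19_2 (iv F23554) D8357 (iv D6105)
def n8358 : Q := act 4 n6100
theorem D8358 : act 4 n6100 = n8358 := rfl
theorem F31859 : act 1 n8358 = n8358 := d10_1 D8358 (iv D8358) F23552
theorem F31860 : act 3 n8358 = n8358 := d21_1 D8358 (iv D8358) (iv D6100) F17476 D6100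
theorem F31861 : act 5 n8358 = n8358 := d26_2 (iv F23553) D8358 (iv D8358) F23553 F18273
theorem F31862 : act 7 n8358 = n6106 := d28_2 (iv F23554) D8358 (iv D6106)
def n8359 : Q := act 8 n6100
theorem D8359 : act 8 n6100 = n8359 := rfl
theorem F31863 : act 1 n8359 = n8359 := d14_1 D8359 (iv D8359) F23552
theorem F31864 : act 3 n8359 = n6101 := d25_1 D8359 (iv D6101) D6100
theorem F31865 : act 5 n8359 = n6412 := d32_1 D8359 (iv D6412) (iv F23553)
def n8362 : Q := act 2 n6103
theorem D8362 : act 2 n6103 = n8362 := rfl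
theorem F31875 : act 3 n8362 = n6114 := d15_2 D6103 D8362 (iv D6114) (iv D4473) (iv F17484)
theorem F31876 : act 6 n8362 = n6105 := d18_2 (iv F23565) D8362 (iv D6105)
def n8363 : Q := act 4 n6103
theorem D8363 : act 4 n6103 = n8363 := rfl
theorem F31877 : act 1 n8363 = n8363 := d10_1 D8363 (iv D8363) F23564
theorem F31878 : act 3 n8363 = n6108 := d21_1 D8363 (iv D6108) (iv D4467) (iv F17485) D6103
theorem F31879 : act 6 n8363 = n6106 := d27_2 (iv F23565) D8363 (iv D6106)
def n8364 : Q := act 8 n6103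
theorem D8364 : act 8 n6103 = n8364 := rfl
theorem F31881 : act 3 n8364 = n6104 := d25_1 D8364 (iv D6104) D6103
def n8365 : Q := act 1 n6105
theorem D8365 : act 1 n6105 = n8365 := rfl
theorem F31883 : act 2 n8365 = n8365 := d8_2 D6105 D8365 (iv D8365) (iv D6105) F17487
theorem F31884 : act 3 n8365 = n6116 := d9_2 (iv F23571) D8365 (iv D6116)
theorem F31885 : act 5 n8365 = n6417 := d11_2 (iv F23572) D8365 (iv D6417)
def n8366 : Q := act 4 n6105
theorem D8366 : act 4 n6105 = n8366 := rfl
theorem F31886 : act 2 n8366 = n6106 := d16_1 D8366 (iv D6106) D6105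
theorem F31887 : act 3 n8366 = n8366 := d21_1 D8366 (iv D8366) F23571 F17529 (iv F23571)
theorem F31888 : act 5 n8366 = n8366 := d26_2 (iv F23572) D8366 (iv D8366) F23572 F18289
def n8368 : Q := act 8 n6106
theorem D8368 : act 8 n6106 = n8368 := rfl
theorem F31893 : act 3 n8368 = n6110 := d25_1 D8368 (iv D6110) (iv F23574)
theorem F31894 : act 4 n8368 = n6107 := d29_1 D8368 (iv D6107) D6106
def n8370 : Q := act 5 n6108
theorem D8370 : act 5 n6108 = n8370 := rfl
theorem F31901 : act 4 n8370 = n7256 := d26_1 D8370 (iv D7256) (iv D5301) (iv F17496) D6108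
def n8371 : Q := act 8 n6108
theorem D8371 : act 8 n6108 = n8371 := rfl
def n8373 : Q := act 7 n6110
theorem D8373 : act 7 n6110 = n8373 := rfl
def n8377 : Q := act 1 n6114
theorem D8377 : act 1 n6114 = n8377 := rfl
theorem F31929 : act 2 n8377 = n6122 := d8_2 D6114 D8377 (iv D6122) (iv D4479) (iv F17522)
theorem F31930 : act 4 n8377 = n8377 := d10_2 F23605 D8377 (iv D8377)
theorem F31931 : act 6 n8377 = n6116 := d12_2 (iv F23606) D8377 (iv D6116)
def n8378 : Q := act 8 n6114
theorem D8378 : act 8 n6114 = n8378 := rfl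
theorem F31932 : act 2 n8378 = n6115 := d20_1 D8378 (iv D6115) D6114
def n8380 : Q := act 0 n6116
theorem D8380 : act 0 n6116 = n8380 := rfl
theorem F31939 : act 2 n8380 = n6125 := d1_2 (iv F23611) D8380 (iv D6125)
theorem F31940 : act 4 n8380 = n8380 := d3_2 F23612 D8380 (iv D8380)
theorem F31941 : act 5 n8380 = n6426 := d4_2 (iv F23613) D8380 (iv D6426)
def n8381 : Q := act 8 n6116
theorem D8381 : act 8 n6116 = n8381 := rfl
theorem F31942 : act 1 n8381 = n6117 := d14_1 D8381 (iv D6117) D6116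
def n8388 : Q := act 0 n6122
theorem D8388 : act 0 n6122 = n8388 := rfl
theorem F31966 : act 3 n8388 = n8388 := d2_2 F23630 D8388 (iv D8388)
theorem F31967 : act 4 n8388 = n8388 := d3_2 F23631 D8388 (iv D8388)
theorem F31968 : act 6 n8388 = n6125 := d5_2 (iv F23632) D8388 (iv D6125)
def n8389 : Q := act 8 n6122
theorem D8389 : act 8 n6122 = n8389 := rfl
theorem F31969 : act 1 n8389 = n6123 := d14_1 D8389 (iv D6123) D6122
def n8391 : Q := act 8 n6125
theorem D8391 : act 8 n6125 = n8391 := rfl
theorem F31976 : act 0 n8391 = n6126 := d7_1 D8391 (iv D6126) D6125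
def n8394 : Q := act 5 n6128
theorem D8394 : act 5 n6128 = n8394 := rfl
theorem F31986 : act 0 n8394 = n8394 := d4_1 D8394 (iv D8394) F23650
theorem F31987 : act 1 n8394 = n6129 := d11_1 D8394 (iv D6129) D6128
theorem F31988 : act 2 n8394 = n8185 := d17_1 D8394 (iv D8185) (iv F23651)
theorem F31989 : act 3 n8394 = n6586 := d22_1 D8394 (iv D6586) (iv F23652)
theorem F31990 : act 8 n8394 = n8394 := d32_2 F23655 D8394 (iv D8394)
def n8395 : Q := act 7 n6128
theorem D8395 : act 7 n6128 = n8395 := rfl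
theorem F31991 : act 0 n8395 = n8395 := d6_1 D8395 (iv D8395) F23650
theorem F31992 : act 1 n8395 = n6130 := d13_1 D8395 (iv D6130) D6128
theorem F31993 : act 2 n8395 = n8186 := d19_1 D8395 (iv D8186) (iv F23651)
theorem F31994 : act 4 n8395 = n8395 := d28_1 D8395 (iv D8395) F23653
theorem F31995 : act 6 n8395 = n8395 := d33_1 D8395 (iv D8395) F23654
def n8396 : Q := act 4 n6129
theorem D8396 : act 4 n6129 = n8396 := rfl
theorem F31996 : act 0 n8396 = n6135 := d3_1 D8396 (iv D6135) (iv F23656)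
theorem F31997 : act 2 n8396 = n6131 := d16_1 D8396 (iv D6131) (iv F23657)
theorem F31998 : act 5 n8396 = n8396 := d26_2 D6129 D8396 (iv D8396) (iv D6129) F17560
theorem F31999 : act 8 n8396 = n8396 := d29_2 F23659 D8396 (iv D8396)
def n8397 : Q := act 6 n6129
theorem D8397 : act 6 n6129 = n8397 := rfl
theorem F32001 : act 2 n8397 = n6132 := d18_1 D8397 (iv D6132) (iv F23657)
theorem F32002 : act 3 n8397 = n6589 := d23_1 D8397 (iv D6589) (iv F23658)
def n8398 : Q := act 7 n6129
theorem D8398 : act 7 n6129 = n8398 := rfl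
theorem F32005 : act 0 n8398 = n6137 := d6_1 D8398 (iv D6137) (iv F23656)
theorem F32006 : act 2 n8398 = n6133 := d19_1 D8398 (iv D6133) (iv F23657)
theorem F32007 : act 5 n8398 = n6130 := d31_1 D8398 (iv D6130) D6129
def n8399 : Q := act 3 n6130
theorem D8399 : act 3 n6130 = n8399 := rfl
theorem F32008 : act 0 n8399 = n6138 := d2_1 D8399 (iv D6138) (iv F23660)
theorem F32009 : act 2 n8399 = n6154 := d15_1 D8399 (iv D6154) F17633 (iv F17569) (iv F23661)
theorem F32010 : act 6 n8399 = n8399 := d23_2 F23663 D8399 (iv D8399)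
theorem F32011 : act 7 n8399 = n6591 := d24_2 D6130 D8399 (iv D6591) (iv D4814) (iv F17559)
def n8400 : Q := act 8 n6130
theorem D8400 : act 8 n6130 = n8400 := rfl
theorem F32012 : act 0 n8400 = n6139 := d7_1 D8400 (iv D6139) (iv F23660)
theorem F32013 : act 2 n8400 = n6134 := d20_1 D8400 (iv D6134) (iv F23661)
theorem F32014 : act 4 n8400 = n8400 := d29_1 D8400 (iv D8400) F23662
theorem F32015 : act 6 n8400 = n8400 := d34_1 D8400 (iv D8400) F23663
theorem F32016 : act 7 n8400 = n8400 := d35_1 D8400 (iv D8400) (iv D6130) F17562 D6130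
def n8401 : Q := act 6 n6131
theorem D8401 : act 6 n6131 = n8401 := rfl
theorem F32017 : act 0 n8401 = n6140 := d5_1 D8401 (iv D6140) (iv F23664)
theorem F32018 : act 1 n8401 = n8192 := d12_1 D8401 (iv D8192) (iv F23665)
theorem F32019 : act 3 n8401 = n8401 := d23_1 D8401 (iv D8401) F23666
theorem F32020 : act 4 n8401 = n6132 := d27_1 D8401 (iv D6132) D6131
theorem F32021 : act 8 n8401 = n8401 := d34_2 F23668 D8401 (iv D8401)
def n8402 : Q := act 7 n6131
theorem D8402 : act 7 n6131 = n8402 := rfl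
theorem F32022 : act 0 n8402 = n6141 := d6_1 D8402 (iv D6141) (iv F23664)
theorem F32023 : act 1 n8402 = n8193 := d13_1 D8402 (iv D8193) (iv F23665)
theorem F32024 : act 4 n8402 = n6133 := d28_1 D8402 (iv D6133) D6131
theorem F32025 : act 5 n8402 = n8402 := d31_1 D8402 (iv D8402) F23667
def n8403 : Q := act 7 n6132
theorem D8403 : act 7 n6132 = n8403 := rfl
theorem F32026 : act 0 n8403 = n6142 := d6_1 D8403 (iv D6142) (iv F23669)
theorem F32027 : act 1 n8403 = n8194 := d13_1 D8403 (iv D8194) (iv F23670)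
theorem F32028 : act 3 n8403 = n6158 := d24_1 D8403 (iv D6158) F17643 (iv F17577) (iv F23671)
theorem F32029 : act 5 n8403 = n8403 := d31_1 D8403 (iv D8403) F23672
theorem F32030 : act 6 n8403 = n6133 := d33_1 D8403 (iv D6133) D6132
def n8404 : Q := act 8 n6133
theorem D8404 : act 8 n6133 = n8404 := rfl
theorem F32031 : act 0 n8404 = n6143 := d7_1 D8404 (iv D6143) (iv F23674)
theorem F32032 : act 1 n8404 = n8195 := d14_1 D8404 (iv D8195) (iv F23675)
theorem F32033 : act 3 n8404 = n6159 := d25_1 D8404 (iv D6159) (iv F23676)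
theorem F32034 : act 5 n8404 = n6134 := d32_1 D8404 (iv D6134) (iv F23677)
theorem F32035 : act 7 n8404 = n8404 := d35_1 D8404 (iv D8404) (iv D6133) F17566 D6133
def n8405 : Q := act 3 n6135
theorem D8405 : act 3 n6135 = n8405 := rfl
theorem F32038 : act 4 n8405 = n6597 := d21_2 D6135 D8405 (iv D6597) (iv D4819) (iv F17581)
def n8406 : Q := act 6 n6135
theorem D8406 : act 6 n6135 = n8406 := rfl
theorem F32043 : act 4 n8406 = n6136 := d27_1 D8406 (iv D6136) D6135
def n8407 : Q := act 7 n6135
theorem D8407 : act 7 n6135 = n8407 := rfl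
theorem F32045 : act 1 n8407 = n8407 := d13_1 D8407 (iv D8407) F23684
theorem F32046 : act 2 n8407 = n6141 := d19_1 D8407 (iv D6141) (iv F23685)
theorem F32047 : act 4 n8407 = n6137 := d28_1 D8407 (iv D6137) D6135
theorem F32048 : act 5 n8407 = n8407 := d31_1 D8407 (iv D8407) F23686
def n8408 : Q := act 7 n6136
theorem D8408 : act 7 n6136 = n8408 := rfl
theorem F32052 : act 6 n8408 = n6137 := d33_1 D8408 (iv D6137) D6136
def n8409 : Q := act 3 n6137
theorem D8409 : act 3 n6137 = n8409 := rfl
theorem F32055 : act 5 n8409 = n6138 := d22_2 (iv F23695) D8409 (iv D6138)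
theorem F32056 : act 7 n8409 = n6601 := d24_2 D6137 D8409 (iv D6601) (iv D4821) (iv F17581)
def n8410 : Q := act 8 n6137
theorem D8410 : act 8 n6137 = n8410 := rfl
theorem F32057 : act 1 n8410 = n8410 := d14_1 D8410 (iv D8410) F23693
theorem F32058 : act 2 n8410 = n6143 := d20_1 D8410 (iv D6143) (iv F23694)
theorem F32059 : act 5 n8410 = n6139 := d32_1 D8410 (iv D6139) (iv F23695)
theorem F32060 : act 7 n8410 = n8410 := d35_1 D8410 (iv D8410) (iv D6137) F17582 D6137
def n8411 : Q := act 4 n6138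
theorem D8411 : act 4 n6138 = n8411 := rfl
theorem F32061 : act 1 n8411 = n8411 := d10_1 D8411 (iv D8411) F23696
theorem F32062 : act 2 n8411 = n6166 := d16_1 D8411 (iv D6166) (iv F23697)
theorem F32063 : act 3 n8411 = n8411 := d21_1 D8411 (iv D8411) (iv D6138) F17585 D6138
theorem F32064 : act 6 n8411 = n8411 := d27_2 F23698 D8411 (iv D8411)
theorem F32065 : act 7 n8411 = n6603 := d28_2 (iv F23699) D8411 (iv D6603)
def n8412 : Q := act 8 n6138
theorem D8412 : act 8 n6138 = n8412 := rfl
theorem F32066 : act 1 n8412 = n8412 := d14_1 D8412 (iv D8412) F23696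
theorem F32067 : act 2 n8412 = n6167 := d20_1 D8412 (iv D6167) (iv F23697)
theorem F32068 : act 3 n8412 = n6139 := d25_1 D8412 (iv D6139) D6138
theorem F32069 : act 6 n8412 = n8412 := d34_1 D8412 (iv D8412) F23698
def n8413 : Q := act 5 n6140
theorem D8413 : act 5 n6140 = n8413 := rfl
theorem F32070 : act 1 n8413 = n6144 := d11_1 D8413 (iv D6144) (iv F23705)
theorem F32071 : act 3 n8413 = n8413 := d22_1 D8413 (iv D8413) F23706
theorem F32072 : act 4 n8413 = n8413 := d26_1 D8413 (iv D8413) F23707 F17593 (iv F23707)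
theorem F32073 : act 6 n8413 = n8413 := d30_2 D6140 D8413 (iv D8413) (iv D6140) F17589
theorem F32074 : act 8 n8413 = n8413 := d32_2 F23708 D8413 (iv D8413)
def n8414 : Q := act 7 n6140
theorem D8414 : act 7 n6140 = n8414 := rfl
theorem F32075 : act 1 n8414 = n6145 := d13_1 D8414 (iv D6145) (iv F23705)
theorem F32076 : act 4 n8414 = n6142 := d28_1 D8414 (iv D6142) (iv F23707)
theorem F32077 : act 6 n8414 = n6141 := d33_1 D8414 (iv D6141) D6140
def n8415 : Q := act 3 n6141
theorem D8415 : act 3 n6141 = n8415 := rfl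
theorem F32078 : act 1 n8415 = n6146 := d9_1 D8415 (iv D6146) (iv F23709)
theorem F32079 : act 4 n8415 = n6170 := d21_2 (iv F23710) D8415 (iv D6170) F17679 (iv F17596)
theorem F32080 : act 5 n8415 = n8415 := d22_2 F23711 D8415 (iv D8415)
theorem F32081 : act 7 n8415 = n8415 := d24_2 D6141 D8415 (iv D8415) (iv D6141) F17588
def n8416 : Q := act 8 n6141
theorem D8416 : act 8 n6141 = n8416 := rfl
theorem F32082 : act 1 n8416 = n6147 := d14_1 D8416 (iv D6147) (iv F23709)
theorem F32083 : act 4 n8416 = n6143 := d29_1 D8416 (iv D6143) (iv F23710)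
theorem F32084 : act 5 n8416 = n8416 := d32_1 D8416 (iv D8416) F23711
theorem F32085 : act 7 n8416 = n8416 := d35_1 D8416 (iv D8416) (iv D6141) F17590 D6141
def n8417 : Q := act 8 n6142
theorem D8417 : act 8 n6142 = n8417 := rfl
theorem F32086 : act 1 n8417 = n6148 := d14_1 D8417 (iv D6148) (iv F23712)
theorem F32087 : act 3 n8417 = n6172 := d25_1 D8417 (iv D6172) (iv F23713)
theorem F32088 : act 5 n8417 = n8417 := d32_1 D8417 (iv D8417) F23714
theorem F32089 : act 6 n8417 = n6143 := d34_1 D8417 (iv D6143) (iv F23715)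
theorem F32090 : act 7 n8417 = n8417 := d35_1 D8417 (iv D8417) (iv D6142) F17594 D6142
def n8418 : Q := act 7 n6144
theorem D8418 : act 7 n6144 = n8418 := rfl
theorem F32091 : act 0 n8418 = n8209 := d6_1 D8418 (iv D8209) (iv F23720)
theorem F32092 : act 2 n8418 = n8418 := d19_1 D8418 (iv D8418) F23721
theorem F32093 : act 4 n8418 = n8418 := d28_1 D8418 (iv D8418) F23723
theorem F32094 : act 5 n8418 = n6145 := d31_1 D8418 (iv D6145) D6144
theorem F32095 : act 6 n8418 = n8418 := d33_1 D8418 (iv D8418) F23724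
def n8419 : Q := act 3 n6145
theorem D8419 : act 3 n6145 = n8419 := rfl
theorem F32096 : act 0 n8419 = n8210 := d2_1 D8419 (iv D8210) (iv F23726)
theorem F32097 : act 4 n8419 = n6174 := d21_2 (iv F23728) D8419 (iv D6174) F17695 (iv F17614)
theorem F32098 : act 6 n8419 = n6146 := d23_2 (iv F23729) D8419 (iv D6146)
theorem F32099 : act 7 n8419 = n8419 := d24_2 D6145 D8419 (iv D8419) (iv D6145) F17605
def n8420 : Q := act 8 n6145
theorem D8420 : act 8 n6145 = n8420 := rfl
theorem F32100 : act 0 n8420 = n8211 := d7_1 D8420 (iv D8211) (iv F23726)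
theorem F32101 : act 2 n8420 = n8420 := d20_1 D8420 (iv D8420) F23727
theorem F32102 : act 4 n8420 = n6148 := d29_1 D8420 (iv D6148) (iv F23728)
theorem F32103 : act 6 n8420 = n6147 := d34_1 D8420 (iv D6147) (iv F23729)
theorem F32104 : act 7 n8420 = n8420 := d35_1 D8420 (iv D8420) (iv D6145) F17607 D6145
def n8421 : Q := act 2 n6146
theorem D8421 : act 2 n6146 = n8421 := rfl
theorem F32105 : act 0 n8421 = n8212 := d1_1 D8421 (iv D8212) (iv F23730)
theorem F32106 : act 3 n8421 = n8421 := d15_2 D6146 D8421 (iv D8421) (iv D6146) F17609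
theorem F32107 : act 4 n8421 = n6176 := d16_2 (iv F23731) D8421 (iv D6176)
theorem F32108 : act 5 n8421 = n8421 := d17_2 F23732 D8421 (iv D8421)
theorem F32109 : act 7 n8421 = n8421 := d19_2 F23733 D8421 (iv D8421)
def n8422 : Q := act 8 n6146
theorem D8422 : act 8 n6146 = n8422 := rfl
theorem F32110 : act 0 n8422 = n8213 := d7_1 D8422 (iv D8213) (iv F23730)
theorem F32111 : act 3 n8422 = n6147 := d25_1 D8422 (iv D6147) D6146
theorem F32112 : act 4 n8422 = n6177 := d29_1 D8422 (iv D6177) (iv F23731)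
theorem F32113 : act 5 n8422 = n8422 := d32_1 D8422 (iv D8422) F23732
def n8423 : Q := act 4 n6149
theorem D8423 : act 4 n6149 = n8423 := rfl
theorem F32114 : act 0 n8423 = n6221 := d3_1 D8423 (iv D6221) (iv F23745)
theorem F32115 : act 1 n8423 = n6151 := d10_1 D8423 (iv D6151) (iv F23746)
theorem F32116 : act 2 n8423 = n8214 := d16_1 D8423 (iv D8214) (iv F23747)
theorem F32117 : act 5 n8423 = n7723 := d26_2 D6149 D8423 (iv D7723) (iv D5653) (iv F17625)
theorem F32118 : act 8 n8423 = n6178 := d29_2 (iv F23749) D8423 (iv D6178)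
def n8424 : Q := act 6 n6149
theorem D8424 : act 6 n6149 = n8424 := rfl
theorem F32119 : act 0 n8424 = n6222 := d5_1 D8424 (iv D6222) (iv F23745)
theorem F32120 : act 1 n8424 = n6152 := d12_1 D8424 (iv D6152) (iv F23746)
theorem F32121 : act 2 n8424 = n8215 := d18_1 D8424 (iv D8215) (iv F23747)
theorem F32122 : act 3 n8424 = n6616 := d23_1 D8424 (iv D6616) (iv F23748)
theorem F32123 : act 5 n8424 = n8424 := d30_1 D8424 (iv D8424) (iv D6149) F17626 D6149
theorem F32124 : act 8 n8424 = n6179 := d34_2 (iv F23749) D8424 (iv D6179)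
def n8425 : Q := act 7 n6149
theorem D8425 : act 7 n6149 = n8425 := rfl
theorem F32125 : act 0 n8425 = n6223 := d6_1 D8425 (iv D6223) (iv F23745)
theorem F32126 : act 1 n8425 = n6153 := d13_1 D8425 (iv D6153) (iv F23746)
theorem F32127 : act 2 n8425 = n8216 := d19_1 D8425 (iv D8216) (iv F23747)
theorem F32128 : act 5 n8425 = n6150 := d31_1 D8425 (iv D6150) D6149
def n8426 : Q := act 3 n6150
theorem D8426 : act 3 n6150 = n8426 := rfl
theorem F32129 : act 0 n8426 = n6224 := d2_1 D8426 (iv D6224) (iv F23750)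
theorem F32130 : act 1 n8426 = n6154 := d9_1 D8426 (iv D6154) (iv F23751)
theorem F32131 : act 6 n8426 = n8426 := d23_2 F23754 D8426 (iv D8426)
theorem F32132 : act 7 n8426 = n6618 := d24_2 D6150 D8426 (iv D6618) (iv D4834) (iv F17624)
def n8427 : Q := act 8 n6150
theorem D8427 : act 8 n6150 = n8427 := rfl
theorem F32133 : act 0 n8427 = n6225 := d7_1 D8427 (iv D6225) (iv F23750)
theorem F32134 : act 1 n8427 = n6155 := d14_1 D8427 (iv D6155) (iv F23751)
theorem F32135 : act 2 n8427 = n8218 := d20_1 D8427 (iv D8218) (iv F23752)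
theorem F32136 : act 4 n8427 = n7727 := d29_1 D8427 (iv D7727) (iv F23753)
theorem F32137 : act 6 n8427 = n8427 := d34_1 D8427 (iv D8427) F23754
theorem F32138 : act 7 n8427 = n6182 := d35_1 D8427 (iv D6182) (iv D4520) (iv F17627) D6150
def n8428 : Q := act 3 n6151
theorem D8428 : act 3 n6151 = n8428 := rfl
theorem F32139 : act 0 n8428 = n6160 := d2_1 D8428 (iv D6160) (iv F23755)
theorem F32140 : act 2 n8428 = n8428 := d15_1 D8428 (iv D8428) F23756 F17638 (iv F23756)
theorem F32141 : act 4 n8428 = n6620 := d21_2 D6151 D8428 (iv D6620) (iv D4835) (iv F17630)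
theorem F32142 : act 5 n8428 = n7728 := d22_2 (iv F23757) D8428 (iv D7728)
theorem F32143 : act 8 n8428 = n6183 := d25_2 (iv F23758) D8428 (iv D6183)
def n8429 : Q := act 6 n6151
theorem D8429 : act 6 n6151 = n8429 := rfl
theorem F32144 : act 0 n8429 = n6161 := d5_1 D8429 (iv D6161) (iv F23755)
theorem F32145 : act 2 n8429 = n6156 := d18_1 D8429 (iv D6156) (iv F23756)
theorem F32146 : act 4 n8429 = n6152 := d27_1 D8429 (iv D6152) D6151
theorem F32147 : act 8 n8429 = n6184 := d34_2 (iv F23758) D8429 (iv D6184)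
def n8430 : Q := act 7 n6151
theorem D8430 : act 7 n6151 = n8430 := rfl
theorem F32148 : act 0 n8430 = n6162 := d6_1 D8430 (iv D6162) (iv F23755)
theorem F32149 : act 2 n8430 = n6157 := d19_1 D8430 (iv D6157) (iv F23756)
theorem F32150 : act 4 n8430 = n6153 := d28_1 D8430 (iv D6153) D6151
theorem F32151 : act 5 n8430 = n7730 := d31_1 D8430 (iv D7730) (iv F23757)
def n8431 : Q := act 7 n6152
theorem D8431 : act 7 n6152 = n8431 := rfl
theorem F32152 : act 0 n8431 = n6163 := d6_1 D8431 (iv D6163) (iv F23759)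
theorem F32153 : act 2 n8431 = n6158 := d19_1 D8431 (iv D6158) (iv F23760)
theorem F32154 : act 5 n8431 = n8431 := d31_1 D8431 (iv D8431) F23762
theorem F32155 : act 6 n8431 = n6153 := d33_1 D8431 (iv D6153) D6152
def n8432 : Q := act 3 n6153
theorem D8432 : act 3 n6153 = n8432 := rfl
theorem F32156 : act 0 n8432 = n6164 := d2_1 D8432 (iv D6164) (iv F23764)
theorem F32157 : act 5 n8432 = n6154 := d22_2 (iv F23766) D8432 (iv D6154)
theorem F32158 : act 7 n8432 = n6624 := d24_2 D6153 D8432 (iv D6624) (iv D4837) (iv F17630)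
def n8433 : Q := act 8 n6153
theorem D8433 : act 8 n6153 = n8433 := rfl
theorem F32159 : act 0 n8433 = n6165 := d7_1 D8433 (iv D6165) (iv F23764)
theorem F32160 : act 2 n8433 = n6159 := d20_1 D8433 (iv D6159) (iv F23765)
theorem F32161 : act 5 n8433 = n6155 := d32_1 D8433 (iv D6155) (iv F23766)
theorem F32162 : act 7 n8433 = n6188 := d35_1 D8433 (iv D6188) (iv D4523) (iv F17631) D6153
def n8434 : Q := act 4 n6154
theorem D8434 : act 4 n6154 = n8434 := rfl
theorem F32163 : act 0 n8434 = n6166 := d3_1 D8434 (iv D6166) (iv F23767)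
theorem F32164 : act 3 n8434 = n7734 := d21_1 D8434 (iv D7734) (iv D5658) (iv F17634) D6154
theorem F32165 : act 6 n8434 = n8434 := d27_2 F23768 D8434 (iv D8434)
theorem F32166 : act 7 n8434 = n6626 := d28_2 (iv F23769) D8434 (iv D6626)
def n8435 : Q := act 8 n6154
theorem D8435 : act 8 n6154 = n8435 := rfl
theorem F32167 : act 0 n8435 = n6167 := d7_1 D8435 (iv D6167) (iv F23767)
theorem F32168 : act 3 n8435 = n6155 := d25_1 D8435 (iv D6155) D6154
theorem F32169 : act 6 n8435 = n8435 := d34_1 D8435 (iv D8435) F23768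
def n8436 : Q := act 5 n6156
theorem D8436 : act 5 n6156 = n8436 := rfl
theorem F32170 : act 0 n8436 = n6168 := d4_1 D8436 (iv D6168) (iv F23775)
theorem F32171 : act 1 n8436 = n8227 := d11_1 D8436 (iv D8227) (iv F23776)
theorem F32175 : act 8 n8436 = n6191 := d32_2 (iv F23779) D8436 (iv D6191)
def n8437 : Q := act 7 n6156
theorem D8437 : act 7 n6156 = n8437 := rfl
theorem F32176 : act 0 n8437 = n6169 := d6_1 D8437 (iv D6169) (iv F23775)
theorem F32177 : act 1 n8437 = n8228 := d13_1 D8437 (iv D8228) (iv F23776)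
theorem F32178 : act 4 n8437 = n6158 := d28_1 D8437 (iv D6158) (iv F23778)
theorem F32179 : act 6 n8437 = n6157 := d33_1 D8437 (iv D6157) D6156
def n8438 : Q := act 3 n6157
theorem D8438 : act 3 n6157 = n8438 := rfl
theorem F32180 : act 0 n8438 = n6170 := d2_1 D8438 (iv D6170) (iv F23780)
theorem F32181 : act 1 n8438 = n8229 := d9_1 D8438 (iv D8229) (iv F23781)
theorem F32182 : act 5 n8438 = n7738 := d22_2 (iv F23783) D8438 (iv D7738)
theorem F32183 : act 7 n8438 = n8438 := d24_2 D6157 D8438 (iv D8438) (iv D6157) F17638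
def n8439 : Q := act 8 n6157
theorem D8439 : act 8 n6157 = n8439 := rfl
theorem F32184 : act 0 n8439 = n6171 := d7_1 D8439 (iv D6171) (iv F23780)
theorem F32185 : act 1 n8439 = n8230 := d14_1 D8439 (iv D8230) (iv F23781)
theorem F32186 : act 4 n8439 = n6159 := d29_1 D8439 (iv D6159) (iv F23782)
theorem F32187 : act 5 n8439 = n7739 := d32_1 D8439 (iv D7739) (iv F23783)
theorem F32188 : act 7 n8439 = n6194 := d35_1 D8439 (iv D6194) (iv D4527) (iv F17640) D6157
def n8440 : Q := act 8 n6158
theorem D8440 : act 8 n6158 = n8440 := rfl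
theorem F32189 : act 0 n8440 = n6172 := d7_1 D8440 (iv D6172) (iv F23784)
theorem F32190 : act 1 n8440 = n8231 := d14_1 D8440 (iv D8231) (iv F23785)
theorem F32191 : act 5 n8440 = n8440 := d32_1 D8440 (iv D8440) F23786
theorem F32192 : act 6 n8440 = n6159 := d34_1 D8440 (iv D6159) (iv F23787)
theorem F32193 : act 7 n8440 = n6195 := d35_1 D8440 (iv D6195) (iv D4528) (iv F17645) D6158
def n8441 : Q := act 6 n6160
theorem D8441 : act 6 n6160 = n8441 := rfl
theorem F32194 : act 1 n8441 = n6239 := d12_1 D8441 (iv D6239) (iv F23792)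
theorem F32196 : act 3 n8441 = n6161 := d23_1 D8441 (iv D6161) D6160
theorem F32197 : act 4 n8441 = n6633 := d27_1 D8441 (iv D6633) (iv F23794)
theorem F32198 : act 8 n8441 = n6196 := d34_2 (iv F23796) D8441 (iv D6196)
def n8442 : Q := act 7 n6160
theorem D8442 : act 7 n6160 = n8442 := rfl
theorem F32199 : act 1 n8442 = n6240 := d13_1 D8442 (iv D6240) (iv F23792)
theorem F32200 : act 2 n8442 = n8442 := d19_1 D8442 (iv D8442) F23793
theorem F32202 : act 5 n8442 = n7742 := d31_1 D8442 (iv D7742) (iv F23795)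
def n8443 : Q := act 5 n6161
theorem D8443 : act 5 n6161 = n8443 := rfl
theorem F32203 : act 1 n8443 = n6241 := d11_1 D8443 (iv D6241) (iv F23797)
theorem F32207 : act 8 n8443 = n6198 := d32_2 (iv F23800) D8443 (iv D6198)
def n8444 : Q := act 7 n6161
theorem D8444 : act 7 n6161 = n8444 := rfl
theorem F32208 : act 1 n8444 = n6242 := d13_1 D8444 (iv D6242) (iv F23797)
theorem F32209 : act 2 n8444 = n6169 := d19_1 D8444 (iv D6169) (iv F23798)
theorem F32210 : act 4 n8444 = n6163 := d28_1 D8444 (iv D6163) (iv F23799)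
theorem F32211 : act 6 n8444 = n6162 := d33_1 D8444 (iv D6162) D6161
def n8445 : Q := act 3 n6162
theorem D8445 : act 3 n6162 = n8445 := rfl
theorem F32212 : act 1 n8445 = n6243 := d9_1 D8445 (iv D6243) (iv F23801)
theorem F32213 : act 5 n8445 = n7745 := d22_2 (iv F23804) D8445 (iv D7745)
def n8446 : Q := act 8 n6162
theorem D8446 : act 8 n6162 = n8446 := rfl
theorem F32214 : act 1 n8446 = n6244 := d14_1 D8446 (iv D6244) (iv F23801)
theorem F32215 : act 2 n8446 = n6171 := d20_1 D8446 (iv D6171) (iv F23802)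
theorem F32216 : act 4 n8446 = n6165 := d29_1 D8446 (iv D6165) (iv F23803)
theorem F32217 : act 5 n8446 = n7746 := d32_1 D8446 (iv D7746) (iv F23804)
theorem F32218 : act 7 n8446 = n6201 := d35_1 D8446 (iv D6201) (iv D4532) (iv F17657) D6162
def n8447 : Q := act 3 n6163
theorem D8447 : act 3 n6163 = n8447 := rfl
theorem F32221 : act 6 n8447 = n6164 := d23_2 (iv F23808) D8447 (iv D6164)
theorem F32222 : act 7 n8447 = n6639 := d24_2 D6163 D8447 (iv D6639) (iv D4847) (iv F17660)
def n8448 : Q := act 8 n6163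
theorem D8448 : act 8 n6163 = n8448 := rfl
theorem F32223 : act 1 n8448 = n6246 := d14_1 D8448 (iv D6246) (iv F23805)
theorem F32224 : act 2 n8448 = n6172 := d20_1 D8448 (iv D6172) (iv F23806)
theorem F32225 : act 5 n8448 = n8448 := d32_1 D8448 (iv D8448) F23807
theorem F32226 : act 6 n8448 = n6165 := d34_1 D8448 (iv D6165) (iv F23808)
theorem F32227 : act 7 n8448 = n6203 := d35_1 D8448 (iv D6203) (iv D4533) (iv F17662) D6163
def n8449 : Q := act 4 n6164
theorem D8449 : act 4 n6164 = n8449 := rfl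
theorem F32228 : act 1 n8449 = n6247 := d10_1 D8449 (iv D6247) (iv F23809)
theorem F32229 : act 7 n8449 = n6641 := d28_2 (iv F23811) D8449 (iv D6641)
def n8450 : Q := act 8 n6164
theorem D8450 : act 8 n6164 = n8450 := rfl
theorem F32230 : act 1 n8450 = n6248 := d14_1 D8450 (iv D6248) (iv F23809)
theorem F32231 : act 3 n8450 = n6165 := d25_1 D8450 (iv D6165) D6164
theorem F32232 : act 5 n8450 = n6167 := d32_1 D8450 (iv D6167) (iv F23810)
def n8451 : Q := act 5 n6166
theorem D8451 : act 5 n6166 = n8451 := rfl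
theorem F32233 : act 1 n8451 = n6249 := d11_1 D8451 (iv D6249) (iv F23816)
theorem F32234 : act 3 n8451 = n7751 := d22_1 D8451 (iv D7751) (iv F23817)
theorem F32235 : act 7 n8451 = n6643 := d31_2 (iv F23819) D8451 (iv D6643)
def n8452 : Q := act 8 n6166
theorem D8452 : act 8 n6166 = n8452 := rfl
theorem F32236 : act 1 n8452 = n6250 := d14_1 D8452 (iv D6250) (iv F23816)
theorem F32237 : act 3 n8452 = n7752 := d25_1 D8452 (iv D7752) (iv F23817)
theorem F32238 : act 4 n8452 = n6167 := d29_1 D8452 (iv D6167) D6166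
theorem F32239 : act 6 n8452 = n8452 := d34_1 D8452 (iv D8452) F23818
def n8453 : Q := act 7 n6167
theorem D8453 : act 7 n6167 = n8453 := rfl
theorem F32240 : act 1 n8453 = n6251 := d13_1 D8453 (iv D6251) (iv F23820)
theorem F32241 : act 3 n8453 = n6208 := d24_1 D8453 (iv D6208) F17770 (iv F17673) (iv F23821)
theorem F32242 : act 6 n8453 = n8453 := d33_1 D8453 (iv D8453) F23822
theorem F32243 : act 8 n8453 = n6645 := d35_2 D6167 D8453 (iv D6645) (iv D4851) (iv F17668)
def n8454 : Q := act 7 n6168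
theorem D8454 : act 7 n6168 = n8454 := rfl
theorem F32246 : act 5 n8454 = n6169 := d31_1 D8454 (iv D6169) D6168
def n8455 : Q := act 3 n6169
theorem D8455 : act 3 n6169 = n8455 := rfl
theorem F32248 : act 1 n8455 = n6174 := d9_1 D8455 (iv D6174) (iv F23828)
theorem F32249 : act 6 n8455 = n6170 := d23_2 (iv F23830) D8455 (iv D6170)
theorem F32250 : act 7 n8455 = n8455 := d24_2 D6169 D8455 (iv D8455) (iv D6169) F17675
def n8456 : Q := act 8 n6169
theorem D8456 : act 8 n6169 = n8456 := rfl
theorem F32251 : act 1 n8456 = n6175 := d14_1 D8456 (iv D6175) (iv F23828)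
theorem F32252 : act 4 n8456 = n6172 := d29_1 D8456 (iv D6172) (iv F23829)
theorem F32253 : act 6 n8456 = n6171 := d34_1 D8456 (iv D6171) (iv F23830)
theorem F32254 : act 7 n8456 = n6211 := d35_1 D8456 (iv D6211) (iv D4539) (iv F17677) D6169
def n8457 : Q := act 2 n6170
theorem D8457 : act 2 n6170 = n8457 := rfl
theorem F32255 : act 5 n8457 = n7757 := d17_2 (iv F23832) D8457 (iv D7757)
theorem F32256 : act 7 n8457 = n8457 := d19_2 F23833 D8457 (iv D8457)
def n8458 : Q := act 8 n6170
theorem D8458 : act 8 n6170 = n8458 := rfl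
theorem F32257 : act 1 n8458 = n6177 := d14_1 D8458 (iv D6177) (iv F23831)
theorem F32258 : act 3 n8458 = n6171 := d25_1 D8458 (iv D6171) D6170
theorem F32259 : act 5 n8458 = n7758 := d32_1 D8458 (iv D7758) (iv F23832)
def n8459 : Q := act 3 n6173
theorem D8459 : act 3 n6173 = n8459 := rfl
theorem F32260 : act 0 n8459 = n8250 := d2_1 D8459 (iv D8250) (iv F23842)
theorem F32261 : act 5 n8459 = n6174 := d22_2 (iv F23845) D8459 (iv D6174)
def n8460 : Q := act 8 n6173
theorem D8460 : act 8 n6173 = n8460 := rfl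
theorem F32264 : act 0 n8460 = n8251 := d7_1 D8460 (iv D8251) (iv F23842)
theorem F32267 : act 5 n8460 = n6175 := d32_1 D8460 (iv D6175) (iv F23845)
theorem F32269 : act 7 n8460 = n6215 := d35_1 D8460 (iv D6215) (iv D4543) (iv F17692) D6173
def n8461 : Q := act 2 n6174
theorem D8461 : act 2 n6174 = n8461 := rfl
theorem F32271 : act 3 n8461 = n6259 := d15_2 D6174 D8461 (iv D6259) (iv D4573) (iv F17694)
def n8462 : Q := act 8 n6174
theorem D8462 : act 8 n6174 = n8462 := rfl
theorem F32274 : act 0 n8462 = n8253 := d7_1 D8462 (iv D8253) (iv F23847)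
theorem F32275 : act 3 n8462 = n6175 := d25_1 D8462 (iv D6175) D6174
theorem F32276 : act 6 n8462 = n6177 := d34_1 D8462 (iv D6177) (iv F23848)
def n8463 : Q := act 1 n6176
theorem D8463 : act 1 n6176 = n8463 := rfl
theorem F32277 : act 3 n8463 = n6261 := d9_2 (iv F23856) D8463 (iv D6261)
theorem F32278 : act 5 n8463 = n7763 := d11_2 (iv F23857) D8463 (iv D7763)
theorem F32279 : act 7 n8463 = n8463 := d13_2 F23858 D8463 (iv D8463)
def n8464 : Q := act 8 n6176
theorem D8464 : act 8 n6176 = n8464 := rfl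
theorem F32280 : act 0 n8464 = n8255 := d7_1 D8464 (iv D8255) (iv F23855)
theorem F32281 : act 2 n8464 = n6177 := d20_1 D8464 (iv D6177) D6176
theorem F32283 : act 5 n8464 = n7764 := d32_1 D8464 (iv D7764) (iv F23857)
def n8465 : Q := act 7 n6177
theorem D8465 : act 7 n6177 = n8465 := rfl
theorem F32284 : act 0 n8465 = n8256 := d6_1 D8465 (iv D8256) (iv F23859)
theorem F32285 : act 3 n8465 = n6220 := d24_1 D8465 (iv D6220) F17799 (iv F17704) (iv F23860)
theorem F32286 : act 5 n8465 = n7765 := d31_1 D8465 (iv D7765) (iv F23861)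
theorem F32287 : act 8 n8465 = n8465 := d35_2 D6177 D8465 (iv D8465) (iv D6177) F17699
def n8466 : Q := act 3 n6178
theorem D8466 : act 3 n6178 = n8466 := rfl
theorem F32288 : act 0 n8466 = n6264 := d2_1 D8466 (iv D6264) (iv F23862)
theorem F32289 : act 1 n8466 = n6183 := d9_1 D8466 (iv D6183) (iv F23863)
theorem F32290 : act 4 n8466 = n6658 := d21_2 D6178 D8466 (iv D6658) (iv D4862) (iv F17712)
def n8467 : Q := act 6 n6178
theorem D8467 : act 6 n6178 = n8467 := rfl
theorem F32291 : act 0 n8467 = n6265 := d5_1 D8467 (iv D6265) (iv F23862)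
theorem F32292 : act 1 n8467 = n6184 := d12_1 D8467 (iv D6184) (iv F23863)
theorem F32293 : act 4 n8467 = n6179 := d27_1 D8467 (iv D6179) D6178
def n8468 : Q := act 7 n6178
theorem D8468 : act 7 n6178 = n8468 := rfl
theorem F32294 : act 0 n8468 = n6266 := d6_1 D8468 (iv D6266) (iv F23862)
theorem F32295 : act 1 n8468 = n6185 := d13_1 D8468 (iv D6185) (iv F23863)
theorem F32296 : act 4 n8468 = n6180 := d28_1 D8468 (iv D6180) D6178
def n8469 : Q := act 7 n6179
theorem D8469 : act 7 n6179 = n8469 := rfl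
theorem F32297 : act 0 n8469 = n6267 := d6_1 D8469 (iv D6267) (iv F23864)
theorem F32298 : act 1 n8469 = n6186 := d13_1 D8469 (iv D6186) (iv F23865)
theorem F32299 : act 5 n8469 = n8469 := d31_1 D8469 (iv D8469) F23867
theorem F32300 : act 6 n8469 = n6180 := d33_1 D8469 (iv D6180) D6179
def n8470 : Q := act 3 n6180
theorem D8470 : act 3 n6180 = n8470 := rfl
theorem F32301 : act 0 n8470 = n6268 := d2_1 D8470 (iv D6268) (iv F23868)
theorem F32302 : act 1 n8470 = n6187 := d9_1 D8470 (iv D6187) (iv F23869)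
theorem F32303 : act 5 n8470 = n6181 := d22_2 (iv F23870) D8470 (iv D6181)
theorem F32304 : act 7 n8470 = n6662 := d24_2 D6180 D8470 (iv D6662) (iv D4864) (iv F17712)
def n8471 : Q := act 8 n6180
theorem D8471 : act 8 n6180 = n8471 := rfl
theorem F32305 : act 0 n8471 = n6269 := d7_1 D8471 (iv D6269) (iv F23868)
theorem F32306 : act 1 n8471 = n6188 := d14_1 D8471 (iv D6188) (iv F23869)
theorem F32307 : act 5 n8471 = n6182 := d32_1 D8471 (iv D6182) (iv F23870)
def n8472 : Q := act 2 n6181
theorem D8472 : act 2 n6181 = n8472 := rfl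
theorem F32308 : act 0 n8472 = n6270 := d1_1 D8472 (iv D6270) (iv F23871)
theorem F32309 : act 1 n8472 = n8472 := d8_1 D8472 (iv D8472) F23872 F17726 (iv F23872)
theorem F32310 : act 6 n8472 = n8472 := d18_2 F23873 D8472 (iv D8472)
theorem F32311 : act 7 n8472 = n6664 := d19_2 (iv F23874) D8472 (iv D6664)
def n8473 : Q := act 4 n6181
theorem D8473 : act 4 n6181 = n8473 := rfl
theorem F32312 : act 0 n8473 = n6271 := d3_1 D8473 (iv D6271) (iv F23871)
theorem F32313 : act 1 n8473 = n6189 := d10_1 D8473 (iv D6189) (iv F23872)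
theorem F32314 : act 6 n8473 = n8473 := d27_2 F23873 D8473 (iv D8473)
theorem F32315 : act 7 n8473 = n6665 := d28_2 (iv F23874) D8473 (iv D6665)
def n8474 : Q := act 8 n6181
theorem D8474 : act 8 n6181 = n8474 := rfl
theorem F32316 : act 0 n8474 = n6272 := d7_1 D8474 (iv D6272) (iv F23871)
theorem F32317 : act 1 n8474 = n6190 := d14_1 D8474 (iv D6190) (iv F23872)
theorem F32318 : act 3 n8474 = n6182 := d25_1 D8474 (iv D6182) D6181
theorem F32319 : act 6 n8474 = n8474 := d34_1 D8474 (iv D8474) F23873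
def n8475 : Q := act 6 n6183
theorem D8475 : act 6 n6183 = n8475 := rfl
theorem F32320 : act 0 n8475 = n6196 := d5_1 D8475 (iv D6196) (iv F23878)
theorem F32321 : act 2 n8475 = n8475 := d18_1 D8475 (iv D8475) F23879
theorem F32322 : act 3 n8475 = n6184 := d23_1 D8475 (iv D6184) D6183
theorem F32323 : act 4 n8475 = n6667 := d27_1 D8475 (iv D6667) (iv F23880)
def n8476 : Q := act 7 n6183
theorem D8476 : act 7 n6183 = n8476 := rfl
theorem F32324 : act 0 n8476 = n6197 := d6_1 D8476 (iv D6197) (iv F23878)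
theorem F32325 : act 2 n8476 = n8476 := d19_1 D8476 (iv D8476) F23879
theorem F32326 : act 4 n8476 = n6668 := d28_1 D8476 (iv D6668) (iv F23880)
def n8477 : Q := act 5 n6184
theorem D8477 : act 5 n6184 = n8477 := rfl
theorem F32327 : act 0 n8477 = n6198 := d4_1 D8477 (iv D6198) (iv F23881)
theorem F32328 : act 2 n8477 = n6191 := d17_1 D8477 (iv D6191) (iv F23882)
theorem F32329 : act 4 n8477 = n8477 := d26_1 D8477 (iv D8477) F23883 F17721 (iv F23883)
def n8478 : Q := act 7 n6184
theorem D8478 : act 7 n6184 = n8478 := rfl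
theorem F32330 : act 0 n8478 = n6199 := d6_1 D8478 (iv D6199) (iv F23881)
theorem F32331 : act 2 n8478 = n6192 := d19_1 D8478 (iv D6192) (iv F23882)
theorem F32332 : act 4 n8478 = n6186 := d28_1 D8478 (iv D6186) (iv F23883)
theorem F32333 : act 6 n8478 = n6185 := d33_1 D8478 (iv D6185) D6184
def n8479 : Q := act 3 n6185
theorem D8479 : act 3 n6185 = n8479 := rfl
theorem F32334 : act 0 n8479 = n6200 := d2_1 D8479 (iv D6200) (iv F23884)
def n8480 : Q := act 8 n6185
theorem D8480 : act 8 n6185 = n8480 := rfl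
theorem F32335 : act 0 n8480 = n6201 := d7_1 D8480 (iv D6201) (iv F23884)
theorem F32336 : act 2 n8480 = n6194 := d20_1 D8480 (iv D6194) (iv F23885)
theorem F32337 : act 4 n8480 = n6188 := d29_1 D8480 (iv D6188) (iv F23886)
def n8481 : Q := act 3 n6186
theorem D8481 : act 3 n6186 = n8481 := rfl
theorem F32338 : act 0 n8481 = n6202 := d2_1 D8481 (iv D6202) (iv F23887)
theorem F32339 : act 2 n8481 = n8481 := d15_1 D8481 (iv D8481) F23888 F17738 (iv F23888)
theorem F32340 : act 5 n8481 = n8481 := d22_2 F23889 D8481 (iv D8481)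
theorem F32341 : act 6 n8481 = n6187 := d23_2 (iv F23890) D8481 (iv D6187)
theorem F32342 : act 7 n8481 = n6673 := d24_2 D6186 D8481 (iv D6673) (iv D4870) (iv F17720)
def n8482 : Q := act 8 n6186
theorem D8482 : act 8 n6186 = n8482 := rfl
theorem F32343 : act 0 n8482 = n6203 := d7_1 D8482 (iv D6203) (iv F23887)
theorem F32344 : act 2 n8482 = n6195 := d20_1 D8482 (iv D6195) (iv F23888)
theorem F32345 : act 5 n8482 = n8482 := d32_1 D8482 (iv D8482) F23889
theorem F32346 : act 6 n8482 = n6188 := d34_1 D8482 (iv D6188) (iv F23890)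
def n8483 : Q := act 4 n6187
theorem D8483 : act 4 n6187 = n8483 := rfl
theorem F32347 : act 0 n8483 = n6204 := d3_1 D8483 (iv D6204) (iv F23891)
theorem F32348 : act 2 n8483 = n8483 := d16_1 D8483 (iv D8483) F23892
theorem F32349 : act 7 n8483 = n6675 := d28_2 (iv F23894) D8483 (iv D6675)
def n8484 : Q := act 8 n6187
theorem D8484 : act 8 n6187 = n8484 := rfl
theorem F32350 : act 0 n8484 = n6205 := d7_1 D8484 (iv D6205) (iv F23891)
theorem F32351 : act 2 n8484 = n8484 := d20_1 D8484 (iv D8484) F23892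
theorem F32352 : act 3 n8484 = n6188 := d25_1 D8484 (iv D6188) D6187
theorem F32353 : act 5 n8484 = n6190 := d32_1 D8484 (iv D6190) (iv F23893)
def n8485 : Q := act 5 n6189
theorem D8485 : act 5 n6189 = n8485 := rfl
theorem F32354 : act 0 n8485 = n6206 := d4_1 D8485 (iv D6206) (iv F23898)
theorem F32355 : act 2 n8485 = n8485 := d17_1 D8485 (iv D8485) F23899
theorem F32356 : act 7 n8485 = n6677 := d31_2 (iv F23901) D8485 (iv D6677)
def n8486 : Q := act 8 n6189
theorem D8486 : act 8 n6189 = n8486 := rfl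
theorem F32357 : act 0 n8486 = n6207 := d7_1 D8486 (iv D6207) (iv F23898)
theorem F32358 : act 2 n8486 = n8486 := d20_1 D8486 (iv D8486) F23899
theorem F32359 : act 4 n8486 = n6190 := d29_1 D8486 (iv D6190) D6189
theorem F32360 : act 6 n8486 = n8486 := d34_1 D8486 (iv D8486) F23900
def n8487 : Q := act 7 n6190
theorem D8487 : act 7 n6190 = n8487 := rfl
theorem F32361 : act 0 n8487 = n6208 := d6_1 D8487 (iv D6208) (iv F23902)
theorem F32362 : act 2 n8487 = n8487 := d19_1 D8487 (iv D8487) F23903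
theorem F32363 : act 6 n8487 = n8487 := d33_1 D8487 (iv D8487) F23905
theorem F32364 : act 8 n8487 = n6679 := d35_2 D6190 D8487 (iv D6679) (iv D4874) (iv F17728)
def n8488 : Q := act 7 n6191
theorem D8488 : act 7 n6191 = n8488 := rfl
theorem F32365 : act 0 n8488 = n6209 := d6_1 D8488 (iv D6209) (iv F23906)
theorem F32366 : act 4 n8488 = n8488 := d28_1 D8488 (iv D8488) F23908
theorem F32367 : act 5 n8488 = n6192 := d31_1 D8488 (iv D6192) D6191
def n8489 : Q := act 3 n6192
theorem D8489 : act 3 n6192 = n8489 := rfl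
theorem F32368 : act 0 n8489 = n6210 := d2_1 D8489 (iv D6210) (iv F23909)
theorem F32369 : act 4 n8489 = n8489 := d21_2 (iv F23910) D8489 (iv D8489) F23910 F17738
theorem F32370 : act 6 n8489 = n6193 := d23_2 (iv F23911) D8489 (iv D6193)
theorem F32371 : act 7 n8489 = n8489 := d24_2 D6192 D8489 (iv D8489) (iv D6192) F17733
def n8490 : Q := act 8 n6192
theorem D8490 : act 8 n6192 = n8490 := rfl
theorem F32372 : act 0 n8490 = n6211 := d7_1 D8490 (iv D6211) (iv F23909)
theorem F32373 : act 4 n8490 = n6195 := d29_1 D8490 (iv D6195) (iv F23910)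
theorem F32374 : act 6 n8490 = n6194 := d34_1 D8490 (iv D6194) (iv F23911)
def n8491 : Q := act 2 n6193
theorem D8491 : act 2 n6193 = n8491 := rfl
theorem F32375 : act 0 n8491 = n6212 := d1_1 D8491 (iv D6212) (iv F23912)
theorem F32376 : act 4 n8491 = n8491 := d16_2 F23913 D8491 (iv D8491)
theorem F32377 : act 7 n8491 = n8491 := d19_2 F23914 D8491 (iv D8491)
def n8492 : Q := act 8 n6193
theorem D8492 : act 8 n6193 = n8492 := rfl
theorem F32378 : act 0 n8492 = n6213 := d7_1 D8492 (iv D6213) (iv F23912)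
theorem F32379 : act 3 n8492 = n6194 := d25_1 D8492 (iv D6194) D6193
theorem F32380 : act 4 n8492 = n8492 := d29_1 D8492 (iv D8492) F23913
def n8493 : Q := act 5 n6196
theorem D8493 : act 5 n6196 = n8493 := rfl
theorem F32381 : act 1 n8493 = n6291 := d11_1 D8493 (iv D6291) (iv F23921)
theorem F32382 : act 2 n8493 = n8493 := d17_1 D8493 (iv D8493) F23922
theorem F32383 : act 3 n8493 = n6198 := d22_1 D8493 (iv D6198) (iv F23923)
def n8494 : Q := act 7 n6196
theorem D8494 : act 7 n6196 = n8494 := rfl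
theorem F32384 : act 1 n8494 = n6292 := d13_1 D8494 (iv D6292) (iv F23921)
theorem F32385 : act 2 n8494 = n8494 := d19_1 D8494 (iv D8494) F23922
theorem F32386 : act 4 n8494 = n6686 := d28_1 D8494 (iv D6686) (iv F23924)
theorem F32387 : act 6 n8494 = n6197 := d33_1 D8494 (iv D6197) D6196
def n8495 : Q := act 3 n6197
theorem D8495 : act 3 n6197 = n8495 := rfl
theorem F32388 : act 1 n8495 = n6293 := d9_1 D8495 (iv D6293) (iv F23925)
theorem F32389 : act 7 n8495 = n6200 := d24_2 D6197 D8495 (iv D6200) (iv D4532) D4530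
def n8496 : Q := act 8 n6197
theorem D8496 : act 8 n6197 = n8496 := rfl
theorem F32390 : act 1 n8496 = n6294 := d14_1 D8496 (iv D6294) (iv F23925)
theorem F32391 : act 2 n8496 = n8496 := d20_1 D8496 (iv D8496) F23926
theorem F32392 : act 4 n8496 = n6688 := d29_1 D8496 (iv D6688) (iv F23927)
def n8497 : Q := act 7 n6198
theorem D8497 : act 7 n6198 = n8497 := rfl
theorem F32394 : act 2 n8497 = n6209 := d19_1 D8497 (iv D6209) (iv F23929)
theorem F32395 : act 4 n8497 = n8497 := d28_1 D8497 (iv D8497) F23930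
theorem F32396 : act 5 n8497 = n6199 := d31_1 D8497 (iv D6199) D6198
def n8498 : Q := act 3 n6199
theorem D8498 : act 3 n6199 = n8498 := rfl
theorem F32397 : act 1 n8498 = n6296 := d9_1 D8498 (iv D6296) (iv F23931)
theorem F32398 : act 6 n8498 = n6200 := d23_2 (iv F23934) D8498 (iv D6200)
def n8499 : Q := act 8 n6199
theorem D8499 : act 8 n6199 = n8499 := rfl
theorem F32399 : act 1 n8499 = n6297 := d14_1 D8499 (iv D6297) (iv F23931)
theorem F32400 : act 2 n8499 = n6211 := d20_1 D8499 (iv D6211) (iv F23932)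
theorem F32401 : act 4 n8499 = n6203 := d29_1 D8499 (iv D6203) (iv F23933)
theorem F32402 : act 6 n8499 = n6201 := d34_1 D8499 (iv D6201) (iv F23934)
def n8500 : Q := act 2 n6200
theorem D8500 : act 2 n6200 = n8500 := rfl
theorem F32403 : act 3 n8500 = n6212 := d15_2 D6200 D8500 (iv D6212) (iv D4540) (iv F17751)
def n8501 : Q := act 4 n6200
theorem D8501 : act 4 n6200 = n8501 := rfl
theorem F32404 : act 1 n8501 = n6299 := d10_1 D8501 (iv D6299) (iv F23935)
theorem F32405 : act 3 n8501 = n6204 := d21_1 D8501 (iv D6204) (iv D4534) (iv F17752) D6200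
def n8502 : Q := act 8 n6200
theorem D8502 : act 8 n6200 = n8502 := rfl
theorem F32406 : act 1 n8502 = n6300 := d14_1 D8502 (iv D6300) (iv F23935)
theorem F32407 : act 3 n8502 = n6201 := d25_1 D8502 (iv D6201) D6200
def n8503 : Q := act 4 n6202
theorem D8503 : act 4 n6202 = n8503 := rfl
theorem F32408 : act 1 n8503 = n6301 := d10_1 D8503 (iv D6301) (iv F23939)
theorem F32409 : act 2 n8503 = n8503 := d16_1 D8503 (iv D8503) F23940
theorem F32410 : act 6 n8503 = n6204 := d27_2 (iv F23942) D8503 (iv D6204)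
theorem F32411 : act 7 n8503 = n6695 := d28_2 (iv F23943) D8503 (iv D6695)
def n8504 : Q := act 8 n6202
theorem D8504 : act 8 n6202 = n8504 := rfl
theorem F32412 : act 1 n8504 = n6302 := d14_1 D8504 (iv D6302) (iv F23939)
theorem F32413 : act 2 n8504 = n8504 := d20_1 D8504 (iv D8504) F23940
theorem F32414 : act 3 n8504 = n6203 := d25_1 D8504 (iv D6203) D6202
theorem F32415 : act 5 n8504 = n8504 := d32_1 D8504 (iv D8504) F23941
theorem F32416 : act 6 n8504 = n6205 := d34_1 D8504 (iv D6205) (iv F23942)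
def n8505 : Q := act 5 n6204
theorem D8505 : act 5 n6204 = n8505 := rfl
theorem F32417 : act 1 n8505 = n6303 := d11_1 D8505 (iv D6303) (iv F23948)
theorem F32418 : act 2 n8505 = n8505 := d17_1 D8505 (iv D8505) F23949
theorem F32419 : act 4 n8505 = n6206 := d26_1 D8505 (iv D6206) (iv D4536) (iv F17759) D6204
theorem F32420 : act 7 n8505 = n6697 := d31_2 (iv F23950) D8505 (iv D6697)
def n8506 : Q := act 8 n6204
theorem D8506 : act 8 n6204 = n8506 := rfl
theorem F32421 : act 1 n8506 = n6304 := d14_1 D8506 (iv D6304) (iv F23948)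
theorem F32422 : act 2 n8506 = n8506 := d20_1 D8506 (iv D8506) F23949
theorem F32423 : act 4 n8506 = n6205 := d29_1 D8506 (iv D6205) D6204
def n8507 : Q := act 7 n6205
theorem D8507 : act 7 n6205 = n8507 := rfl
theorem F32424 : act 1 n8507 = n6305 := d13_1 D8507 (iv D6305) (iv F23951)
theorem F32425 : act 2 n8507 = n8507 := d19_1 D8507 (iv D8507) F23952
theorem F32426 : act 5 n8507 = n6208 := d31_1 D8507 (iv D6208) (iv F23954)
theorem F32427 : act 8 n8507 = n6699 := d35_2 D6205 D8507 (iv D6699) (iv D4889) (iv F17760)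
def n8508 : Q := act 6 n6206
theorem D8508 : act 6 n6206 = n8508 := rfl
theorem F32428 : act 1 n8508 = n6306 := d12_1 D8508 (iv D6306) (iv F23955)
theorem F32429 : act 2 n8508 = n8508 := d18_1 D8508 (iv D8508) F23956
theorem F32430 : act 5 n8508 = n8508 := d30_1 D8508 (iv D8508) (iv D6206) F17766 D6206
theorem F32431 : act 7 n8508 = n6700 := d33_2 (iv F23957) D8508 (iv D6700)
def n8509 : Q := act 8 n6206
theorem D8509 : act 8 n6206 = n8509 := rfl
theorem F32432 : act 1 n8509 = n6307 := d14_1 D8509 (iv D6307) (iv F23955)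
theorem F32433 : act 2 n8509 = n8509 := d20_1 D8509 (iv D8509) F23956
theorem F32434 : act 5 n8509 = n6207 := d32_1 D8509 (iv D6207) D6206
def n8510 : Q := act 7 n6207
theorem D8510 : act 7 n6207 = n8510 := rfl
theorem F32435 : act 1 n8510 = n6308 := d13_1 D8510 (iv D6308) (iv F23958)
theorem F32436 : act 2 n8510 = n8510 := d19_1 D8510 (iv D8510) F23959
theorem F32437 : act 4 n8510 = n6208 := d28_1 D8510 (iv D6208) (iv F23960)
theorem F32438 : act 6 n8510 = n8510 := d33_1 D8510 (iv D8510) F23961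
theorem F32439 : act 8 n8510 = n6702 := d35_2 D6207 D8510 (iv D6702) (iv D4891) (iv F17767)
def n8511 : Q := act 3 n6209
theorem D8511 : act 3 n6209 = n8511 := rfl
def n8512 : Q := act 8 n6209
theorem D8512 : act 8 n6209 = n8512 := rfl
theorem F32443 : act 1 n8512 = n6215 := d14_1 D8512 (iv D6215) (iv F23966)
theorem F32444 : act 4 n8512 = n8512 := d29_1 D8512 (iv D8512) F23967
theorem F32445 : act 5 n8512 = n6211 := d32_1 D8512 (iv D6211) (iv F23968)
def n8513 : Q := act 2 n6210
theorem D8513 : act 2 n6210 = n8513 := rfl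
theorem F32446 : act 4 n8513 = n8513 := d16_2 F23970 D8513 (iv D8513)
theorem F32447 : act 6 n8513 = n6212 := d18_2 (iv F23971) D8513 (iv D6212)
theorem F32448 : act 7 n8513 = n8513 := d19_2 F23972 D8513 (iv D8513)
def n8514 : Q := act 8 n6210
theorem D8514 : act 8 n6210 = n8514 := rfl
theorem F32449 : act 1 n8514 = n6217 := d14_1 D8514 (iv D6217) (iv F23969)
theorem F32450 : act 3 n8514 = n6211 := d25_1 D8514 (iv D6211) D6210
theorem F32451 : act 4 n8514 = n8514 := d29_1 D8514 (iv D8514) F23970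
theorem F32452 : act 6 n8514 = n6213 := d34_1 D8514 (iv D6213) (iv F23971)
def n8515 : Q := act 1 n6212
theorem D8515 : act 1 n6212 = n8515 := rfl
theorem F32453 : act 2 n8515 = n6218 := d8_2 D6212 D8515 (iv D6218) (iv D4546) (iv F17778)
theorem F32454 : act 4 n8515 = n8515 := d10_2 F23976 D8515 (iv D8515)
theorem F32455 : act 7 n8515 = n8515 := d13_2 F23977 D8515 (iv D8515)
def n8516 : Q := act 8 n6212
theorem D8516 : act 8 n6212 = n8516 := rfl
theorem F32456 : act 2 n8516 = n6213 := d20_1 D8516 (iv D6213) D6212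
theorem F32457 : act 4 n8516 = n8516 := d29_1 D8516 (iv D8516) F23976
def n8517 : Q := act 7 n6213
theorem D8517 : act 7 n6213 = n8517 := rfl
theorem F32458 : act 1 n8517 = n6220 := d13_1 D8517 (iv D6220) (iv F23978)
theorem F32459 : act 4 n8517 = n8517 := d28_1 D8517 (iv D8517) F23980
theorem F32460 : act 8 n8517 = n8517 := d35_2 D6213 D8517 (iv D8517) (iv D6213) F17780
def n8520 : Q := act 8 n6214
theorem D8520 : act 8 n6214 = n8520 := rfl
theorem F32467 : act 3 n8520 = n6215 := d25_1 D8520 (iv D6215) D6214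
def n8521 : Q := act 1 n6216
theorem D8521 : act 1 n6216 = n8521 := rfl
theorem F32469 : act 3 n8521 = n6319 := d9_2 (iv F23986) D8521 (iv D6319)
theorem F32471 : act 6 n8521 = n6218 := d12_2 (iv F23988) D8521 (iv D6218)
def n8522 : Q := act 8 n6216
theorem D8522 : act 8 n6216 = n8522 := rfl
theorem F32473 : act 2 n8522 = n6217 := d20_1 D8522 (iv D6217) D6216
theorem F32476 : act 6 n8522 = n6219 := d34_1 D8522 (iv D6219) (iv F23988)
def n8523 : Q := act 7 n6217
theorem D8523 : act 7 n6217 = n8523 := rfl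
theorem F32477 : act 4 n8523 = n8523 := d28_1 D8523 (iv D8523) F23991
theorem F32478 : act 6 n8523 = n6220 := d33_1 D8523 (iv D6220) (iv F23992)
theorem F32479 : act 8 n8523 = n8523 := d35_2 D6217 D8523 (iv D8523) (iv D6217) F17792
def n8524 : Q := act 0 n6218
theorem D8524 : act 0 n6218 = n8524 := rfl
theorem F32480 : act 3 n8524 = n6322 := d2_2 (iv F23993) D8524 (iv D6322)
theorem F32481 : act 4 n8524 = n8524 := d3_2 F23994 D8524 (iv D8524)
theorem F32482 : act 7 n8524 = n8524 := d6_2 F23995 D8524 (iv D8524)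
def n8525 : Q := act 8 n6218
theorem D8525 : act 8 n6218 = n8525 := rfl
theorem F32483 : act 1 n8525 = n6219 := d14_1 D8525 (iv D6219) D6218
theorem F32484 : act 3 n8525 = n6323 := d25_1 D8525 (iv D6323) (iv F23993)
theorem F32485 : act 4 n8525 = n8525 := d29_1 D8525 (iv D8525) F23994
def n8526 : Q := act 7 n6219
theorem D8526 : act 7 n6219 = n8526 := rfl
theorem F32486 : act 2 n8526 = n6220 := d19_1 D8526 (iv D6220) (iv F23996)
theorem F32487 : act 4 n8526 = n8526 := d28_1 D8526 (iv D8526) F23998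
theorem F32488 : act 8 n8526 = n8526 := d35_2 D6219 D8526 (iv D8526) (iv D6219) F17798
def n8527 : Q := act 3 n6221
theorem D8527 : act 3 n6221 = n8527 := rfl
theorem F32489 : act 1 n8527 = n6226 := d9_1 D8527 (iv D6226) (iv F24001)
theorem F32490 : act 4 n8527 = n6712 := d21_2 D6221 D8527 (iv D6712) (iv D4902) (iv F17803)
theorem F32491 : act 5 n8527 = n7766 := d22_2 (iv F24003) D8527 (iv D7766)
theorem F32492 : act 8 n8527 = n6264 := d25_2 (iv F24004) D8527 (iv D6264)
def n8528 : Q := act 6 n6221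
theorem D8528 : act 6 n6221 = n8528 := rfl
theorem F32493 : act 1 n8528 = n6227 := d12_1 D8528 (iv D6227) (iv F24001)
theorem F32494 : act 2 n8528 = n8258 := d18_1 D8528 (iv D8258) (iv F24002)
theorem F32495 : act 4 n8528 = n6222 := d27_1 D8528 (iv D6222) D6221
theorem F32496 : act 8 n8528 = n6265 := d34_2 (iv F24004) D8528 (iv D6265)
def n8529 : Q := act 7 n6221
theorem D8529 : act 7 n6221 = n8529 := rfl
theorem F32497 : act 1 n8529 = n6228 := d13_1 D8529 (iv D6228) (iv F24001)
theorem F32498 : act 2 n8529 = n8259 := d19_1 D8529 (iv D8259) (iv F24002)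
theorem F32499 : act 4 n8529 = n6223 := d28_1 D8529 (iv D6223) D6221
theorem F32500 : act 5 n8529 = n7768 := d31_1 D8529 (iv D7768) (iv F24003)
def n8530 : Q := act 7 n6222
theorem D8530 : act 7 n6222 = n8530 := rfl
theorem F32501 : act 1 n8530 = n6229 := d13_1 D8530 (iv D6229) (iv F24005)
theorem F32502 : act 2 n8530 = n8260 := d19_1 D8530 (iv D8260) (iv F24006)
theorem F32503 : act 5 n8530 = n8530 := d31_1 D8530 (iv D8530) F24008
theorem F32504 : act 6 n8530 = n6223 := d33_1 D8530 (iv D6223) D6222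
def n8531 : Q := act 3 n6223
theorem D8531 : act 3 n6223 = n8531 := rfl
theorem F32505 : act 1 n8531 = n6230 := d9_1 D8531 (iv D6230) (iv F24010)
theorem F32506 : act 5 n8531 = n6224 := d22_2 (iv F24012) D8531 (iv D6224)
theorem F32507 : act 7 n8531 = n6716 := d24_2 D6223 D8531 (iv D6716) (iv D4904) (iv F17803)
def n8532 : Q := act 8 n6223
theorem D8532 : act 8 n6223 = n8532 := rfl
theorem F32508 : act 1 n8532 = n6231 := d14_1 D8532 (iv D6231) (iv F24010)
theorem F32509 : act 2 n8532 = n8262 := d20_1 D8532 (iv D8262) (iv F24011)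
theorem F32510 : act 5 n8532 = n6225 := d32_1 D8532 (iv D6225) (iv F24012)
theorem F32511 : act 7 n8532 = n6269 := d35_1 D8532 (iv D6269) (iv D4579) (iv F17804) D6223
def n8533 : Q := act 2 n6224
theorem D8533 : act 2 n6224 = n8533 := rfl
theorem F32512 : act 1 n8533 = n8533 := d8_1 D8533 (iv D8533) F24013 F17822 (iv F24013)
theorem F32513 : act 3 n8533 = n8263 := d15_2 D6224 D8533 (iv D8263) (iv D6034) (iv F17806)
theorem F32514 : act 6 n8533 = n8533 := d18_2 F24014 D8533 (iv D8533)
theorem F32515 : act 7 n8533 = n6718 := d19_2 (iv F24015) D8533 (iv D6718)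
def n8534 : Q := act 4 n6224
theorem D8534 : act 4 n6224 = n8534 := rfl
theorem F32516 : act 1 n8534 = n6232 := d10_1 D8534 (iv D6232) (iv F24013)
theorem F32517 : act 3 n8534 = n7773 := d21_1 D8534 (iv D7773) (iv D5685) (iv F17807) D6224
theorem F32518 : act 6 n8534 = n8534 := d27_2 F24014 D8534 (iv D8534)
theorem F32519 : act 7 n8534 = n6719 := d28_2 (iv F24015) D8534 (iv D6719)
def n8535 : Q := act 8 n6224
theorem D8535 : act 8 n6224 = n8535 := rfl
theorem F32520 : act 1 n8535 = n6233 := d14_1 D8535 (iv D6233) (iv F24013)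
theorem F32521 : act 3 n8535 = n6225 := d25_1 D8535 (iv D6225) D6224
theorem F32522 : act 6 n8535 = n8535 := d34_1 D8535 (iv D8535) F24014
def n8536 : Q := act 6 n6226
theorem D8536 : act 6 n6226 = n8536 := rfl
theorem F32523 : act 0 n8536 = n6239 := d5_1 D8536 (iv D6239) (iv F24021)
theorem F32524 : act 2 n8536 = n6334 := d18_1 D8536 (iv D6334) (iv F24022)
theorem F32525 : act 3 n8536 = n6227 := d23_1 D8536 (iv D6227) D6226
theorem F32526 : act 4 n8536 = n6721 := d27_1 D8536 (iv D6721) (iv F24023)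
theorem F32527 : act 8 n8536 = n6273 := d34_2 (iv F24025) D8536 (iv D6273)
def n8537 : Q := act 7 n6226
theorem D8537 : act 7 n6226 = n8537 := rfl
theorem F32528 : act 0 n8537 = n6240 := d6_1 D8537 (iv D6240) (iv F24021)
theorem F32529 : act 2 n8537 = n6335 := d19_1 D8537 (iv D6335) (iv F24022)
theorem F32530 : act 4 n8537 = n6722 := d28_1 D8537 (iv D6722) (iv F24023)
theorem F32531 : act 5 n8537 = n7776 := d31_1 D8537 (iv D7776) (iv F24024)
def n8538 : Q := act 5 n6227
theorem D8538 : act 5 n6227 = n8538 := rfl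
theorem F32533 : act 2 n8538 = n6234 := d17_1 D8538 (iv D6234) (iv F24027)
theorem F32536 : act 8 n8538 = n6275 := d32_2 (iv F24029) D8538 (iv D6275)
def n8539 : Q := act 7 n6227
theorem D8539 : act 7 n6227 = n8539 := rfl
theorem F32537 : act 0 n8539 = n6242 := d6_1 D8539 (iv D6242) (iv F24026)
theorem F32538 : act 2 n8539 = n6235 := d19_1 D8539 (iv D6235) (iv F24027)
theorem F32539 : act 4 n8539 = n6229 := d28_1 D8539 (iv D6229) (iv F24028)
theorem F32540 : act 6 n8539 = n6228 := d33_1 D8539 (iv D6228) D6227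
def n8540 : Q := act 3 n6228
theorem D8540 : act 3 n6228 = n8540 := rfl
theorem F32541 : act 0 n8540 = n6243 := d2_1 D8540 (iv D6243) (iv F24030)
theorem F32542 : act 5 n8540 = n7779 := d22_2 (iv F24033) D8540 (iv D7779)
def n8541 : Q := act 8 n6228
theorem D8541 : act 8 n6228 = n8541 := rfl
theorem F32543 : act 0 n8541 = n6244 := d7_1 D8541 (iv D6244) (iv F24030)
theorem F32544 : act 2 n8541 = n6237 := d20_1 D8541 (iv D6237) (iv F24031)
theorem F32545 : act 4 n8541 = n6231 := d29_1 D8541 (iv D6231) (iv F24032)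
theorem F32546 : act 5 n8541 = n7780 := d32_1 D8541 (iv D7780) (iv F24033)
theorem F32547 : act 7 n8541 = n6278 := d35_1 D8541 (iv D6278) (iv D4584) (iv F17812) D6228
def n8542 : Q := act 3 n6229
theorem D8542 : act 3 n6229 = n8542 := rfl
theorem F32548 : act 0 n8542 = n6245 := d2_1 D8542 (iv D6245) (iv F24034)
theorem F32549 : act 2 n8542 = n8542 := d15_1 D8542 (iv D8542) F24035 F17841 (iv F24035)
theorem F32550 : act 5 n8542 = n8542 := d22_2 F24036 D8542 (iv D8542)
theorem F32551 : act 6 n8542 = n6230 := d23_2 (iv F24037) D8542 (iv D6230)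
theorem F32552 : act 7 n8542 = n6727 := d24_2 D6229 D8542 (iv D6727) (iv D4910) (iv F17815)
def n8543 : Q := act 8 n6229
theorem D8543 : act 8 n6229 = n8543 := rfl
theorem F32553 : act 0 n8543 = n6246 := d7_1 D8543 (iv D6246) (iv F24034)
theorem F32554 : act 2 n8543 = n6238 := d20_1 D8543 (iv D6238) (iv F24035)
theorem F32555 : act 5 n8543 = n8543 := d32_1 D8543 (iv D8543) F24036
theorem F32556 : act 6 n8543 = n6231 := d34_1 D8543 (iv D6231) (iv F24037)
theorem F32557 : act 7 n8543 = n6280 := d35_1 D8543 (iv D6280) (iv D4585) (iv F17817) D6229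
def n8544 : Q := act 4 n6230
theorem D8544 : act 4 n6230 = n8544 := rfl
theorem F32558 : act 0 n8544 = n6247 := d3_1 D8544 (iv D6247) (iv F24038)
theorem F32559 : act 2 n8544 = n8544 := d16_1 D8544 (iv D8544) F24039
theorem F32560 : act 7 n8544 = n6729 := d28_2 (iv F24041) D8544 (iv D6729)
def n8545 : Q := act 8 n6230
theorem D8545 : act 8 n6230 = n8545 := rfl
theorem F32561 : act 0 n8545 = n6248 := d7_1 D8545 (iv D6248) (iv F24038)
theorem F32562 : act 2 n8545 = n8545 := d20_1 D8545 (iv D8545) F24039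
theorem F32563 : act 3 n8545 = n6231 := d25_1 D8545 (iv D6231) D6230
theorem F32564 : act 5 n8545 = n6233 := d32_1 D8545 (iv D6233) (iv F24040)
def n8546 : Q := act 5 n6232
theorem D8546 : act 5 n6232 = n8546 := rfl
theorem F32565 : act 0 n8546 = n6249 := d4_1 D8546 (iv D6249) (iv F24046)
theorem F32566 : act 2 n8546 = n8546 := d17_1 D8546 (iv D8546) F24047
theorem F32567 : act 3 n8546 = n7785 := d22_1 D8546 (iv D7785) (iv F24048)
theorem F32568 : act 7 n8546 = n6731 := d31_2 (iv F24050) D8546 (iv D6731)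
def n8547 : Q := act 8 n6232
theorem D8547 : act 8 n6232 = n8547 := rfl
theorem F32569 : act 0 n8547 = n6250 := d7_1 D8547 (iv D6250) (iv F24046)
theorem F32570 : act 2 n8547 = n8547 := d20_1 D8547 (iv D8547) F24047
theorem F32571 : act 3 n8547 = n7786 := d25_1 D8547 (iv D7786) (iv F24048)
theorem F32572 : act 4 n8547 = n6233 := d29_1 D8547 (iv D6233) D6232
theorem F32573 : act 6 n8547 = n8547 := d34_1 D8547 (iv D8547) F24049
def n8548 : Q := act 7 n6233
theorem D8548 : act 7 n6233 = n8548 := rfl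
theorem F32574 : act 0 n8548 = n6251 := d6_1 D8548 (iv D6251) (iv F24051)
theorem F32575 : act 2 n8548 = n8548 := d19_1 D8548 (iv D8548) F24052
theorem F32576 : act 3 n8548 = n6285 := d24_1 D8548 (iv D6285) F17953 (iv F17829) (iv F24053)
theorem F32577 : act 6 n8548 = n8548 := d33_1 D8548 (iv D8548) F24054
theorem F32578 : act 8 n8548 = n6733 := d35_2 D6233 D8548 (iv D6733) (iv D4914) (iv F17824)
def n8549 : Q := act 7 n6234
theorem D8549 : act 7 n6234 = n8549 := rfl
theorem F32580 : act 1 n8549 = n8279 := d13_1 D8549 (iv D8279) (iv F24056)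
theorem F32582 : act 5 n8549 = n6235 := d31_1 D8549 (iv D6235) D6234
def n8550 : Q := act 3 n6235
theorem D8550 : act 3 n6235 = n8550 := rfl
theorem F32588 : act 7 n8550 = n6347 := d24_2 D6235 D8550 (iv D6347) (iv D4634) (iv F17832)
def n8551 : Q := act 8 n6235
theorem D8551 : act 8 n6235 = n8551 := rfl
theorem F32589 : act 0 n8551 = n6254 := d7_1 D8551 (iv D6254) (iv F24061)
theorem F32590 : act 1 n8551 = n8281 := d14_1 D8551 (iv D8281) (iv F24062)
theorem F32591 : act 4 n8551 = n6238 := d29_1 D8551 (iv D6238) (iv F24063)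
theorem F32592 : act 6 n8551 = n6237 := d34_1 D8551 (iv D6237) (iv F24064)
theorem F32593 : act 7 n8551 = n6288 := d35_1 D8551 (iv D6288) (iv D4591) (iv F17834) D6235
def n8552 : Q := act 2 n6236
theorem D8552 : act 2 n6236 = n8552 := rfl
theorem F32594 : act 0 n8552 = n6255 := d1_1 D8552 (iv D6255) (iv F24065)
theorem F32595 : act 4 n8552 = n8552 := d16_2 F24067 D8552 (iv D8552)
theorem F32596 : act 5 n8552 = n7791 := d17_2 (iv F24068) D8552 (iv D7791)
theorem F32597 : act 7 n8552 = n6349 := d19_2 (iv F24069) D8552 (iv D6349)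
def n8553 : Q := act 8 n6236
theorem D8553 : act 8 n6236 = n8553 := rfl
theorem F32598 : act 0 n8553 = n6256 := d7_1 D8553 (iv D6256) (iv F24065)
theorem F32599 : act 1 n8553 = n8283 := d14_1 D8553 (iv D8283) (iv F24066)
theorem F32600 : act 3 n8553 = n6237 := d25_1 D8553 (iv D6237) D6236
theorem F32601 : act 4 n8553 = n8553 := d29_1 D8553 (iv D8553) F24067
theorem F32602 : act 5 n8553 = n7792 := d32_1 D8553 (iv D7792) (iv F24068)
def n8554 : Q := act 5 n6239
theorem D8554 : act 5 n6239 = n8554 := rfl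
theorem F32603 : act 2 n8554 = n6351 := d17_1 D8554 (iv D6351) (iv F24081)
theorem F32606 : act 8 n8554 = n6291 := d32_2 (iv F24084) D8554 (iv D6291)
def n8555 : Q := act 7 n6239
theorem D8555 : act 7 n6239 = n8555 := rfl
theorem F32607 : act 2 n8555 = n6352 := d19_1 D8555 (iv D6352) (iv F24081)
theorem F32609 : act 6 n8555 = n6240 := d33_1 D8555 (iv D6240) D6239
def n8556 : Q := act 3 n6240
theorem D8556 : act 3 n6240 = n8556 := rfl
theorem F32610 : act 5 n8556 = n7795 := d22_2 (iv F24087) D8556 (iv D7795)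
theorem F32611 : act 7 n8556 = n6243 := d24_2 D6240 D8556 (iv D6243) (iv D4561) D4559
def n8557 : Q := act 8 n6240
theorem D8557 : act 8 n6240 = n8557 := rfl
theorem F32612 : act 2 n8557 = n6354 := d20_1 D8557 (iv D6354) (iv F24085)
theorem F32613 : act 4 n8557 = n6742 := d29_1 D8557 (iv D6742) (iv F24086)
theorem F32614 : act 5 n8557 = n7796 := d32_1 D8557 (iv D7796) (iv F24087)
theorem F32615 : act 7 n8557 = n6294 := d35_1 D8557 (iv D6294) (iv D4596) (iv F17852) D6240
def n8558 : Q := act 7 n6241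
theorem D8558 : act 7 n6241 = n8558 := rfl
theorem F32618 : act 5 n8558 = n6242 := d31_1 D8558 (iv D6242) D6241
def n8559 : Q := act 3 n6242
theorem D8559 : act 3 n6242 = n8559 := rfl
theorem F32620 : act 6 n8559 = n6243 := d23_2 (iv F24094) D8559 (iv D6243)
def n8560 : Q := act 8 n6242
theorem D8560 : act 8 n6242 = n8560 := rfl
theorem F32621 : act 2 n8560 = n6254 := d20_1 D8560 (iv D6254) (iv F24092)
theorem F32622 : act 4 n8560 = n6246 := d29_1 D8560 (iv D6246) (iv F24093)
theorem F32623 : act 6 n8560 = n6244 := d34_1 D8560 (iv D6244) (iv F24094)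
theorem F32624 : act 7 n8560 = n6297 := d35_1 D8560 (iv D6297) (iv D4598) (iv F17855) D6242
def n8561 : Q := act 2 n6243
theorem D8561 : act 2 n6243 = n8561 := rfl
theorem F32625 : act 3 n8561 = n6255 := d15_2 D6243 D8561 (iv D6255) (iv D4569) (iv F17856)
theorem F32626 : act 5 n8561 = n7800 := d17_2 (iv F24095) D8561 (iv D7800)
def n8562 : Q := act 4 n6243
theorem D8562 : act 4 n6243 = n8562 := rfl
theorem F32627 : act 3 n8562 = n6247 := d21_1 D8562 (iv D6247) (iv D4563) (iv F17857) D6243
def n8563 : Q := act 8 n6243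
theorem D8563 : act 8 n6243 = n8563 := rfl
theorem F32628 : act 3 n8563 = n6244 := d25_1 D8563 (iv D6244) D6243
theorem F32629 : act 5 n8563 = n7802 := d32_1 D8563 (iv D7802) (iv F24095)
def n8564 : Q := act 4 n6245
theorem D8564 : act 4 n6245 = n8564 := rfl
theorem F32631 : act 6 n8564 = n6247 := d27_2 (iv F24102) D8564 (iv D6247)
theorem F32632 : act 7 n8564 = n6749 := d28_2 (iv F24103) D8564 (iv D6749)
def n8565 : Q := act 8 n6245
theorem D8565 : act 8 n6245 = n8565 := rfl
theorem F32633 : act 2 n8565 = n8565 := d20_1 D8565 (iv D8565) F24100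
theorem F32634 : act 3 n8565 = n6246 := d25_1 D8565 (iv D6246) D6245
theorem F32635 : act 5 n8565 = n8565 := d32_1 D8565 (iv D8565) F24101
theorem F32636 : act 6 n8565 = n6248 := d34_1 D8565 (iv D6248) (iv F24102)
def n8566 : Q := act 5 n6247
theorem D8566 : act 5 n6247 = n8566 := rfl
theorem F32637 : act 2 n8566 = n8566 := d17_1 D8566 (iv D8566) F24108
theorem F32638 : act 4 n8566 = n6249 := d26_1 D8566 (iv D6249) (iv D4565) (iv F17863) D6247
theorem F32639 : act 7 n8566 = n6751 := d31_2 (iv F24109) D8566 (iv D6751)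
def n8567 : Q := act 8 n6247
theorem D8567 : act 8 n6247 = n8567 := rfl
theorem F32640 : act 2 n8567 = n8567 := d20_1 D8567 (iv D8567) F24108
theorem F32641 : act 4 n8567 = n6248 := d29_1 D8567 (iv D6248) D6247
def n8568 : Q := act 7 n6248
theorem D8568 : act 7 n6248 = n8568 := rfl
theorem F32642 : act 2 n8568 = n8568 := d19_1 D8568 (iv D8568) F24110
theorem F32643 : act 3 n8568 = n6305 := d24_1 D8568 (iv D6305) F17992 (iv F17867) (iv F24111)
theorem F32644 : act 5 n8568 = n6251 := d31_1 D8568 (iv D6251) (iv F24112)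
theorem F32645 : act 8 n8568 = n6753 := d35_2 D6248 D8568 (iv D6753) (iv D4929) (iv F17864)
def n8569 : Q := act 6 n6249
theorem D8569 : act 6 n6249 = n8569 := rfl
theorem F32646 : act 2 n8569 = n8569 := d18_1 D8569 (iv D8569) F24113
theorem F32647 : act 3 n8569 = n7808 := d23_1 D8569 (iv D7808) (iv F24114)
theorem F32648 : act 5 n8569 = n8569 := d30_1 D8569 (iv D8569) (iv D6249) F17870 D6249
theorem F32649 : act 7 n8569 = n6754 := d33_2 (iv F24115) D8569 (iv D6754)
def n8570 : Q := act 8 n6249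
theorem D8570 : act 8 n6249 = n8570 := rfl
theorem F32650 : act 2 n8570 = n8570 := d20_1 D8570 (iv D8570) F24113
theorem F32651 : act 3 n8570 = n7809 := d25_1 D8570 (iv D7809) (iv F24114)
theorem F32652 : act 5 n8570 = n6250 := d32_1 D8570 (iv D6250) D6249
def n8571 : Q := act 7 n6250
theorem D8571 : act 7 n6250 = n8571 := rfl
theorem F32653 : act 2 n8571 = n8571 := d19_1 D8571 (iv D8571) F24116
theorem F32654 : act 4 n8571 = n6251 := d28_1 D8571 (iv D6251) (iv F24118)
theorem F32655 : act 6 n8571 = n8571 := d33_1 D8571 (iv D8571) F24119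
theorem F32656 : act 8 n8571 = n6756 := d35_2 D6250 D8571 (iv D6756) (iv D4931) (iv F17871)
def n8573 : Q := act 8 n6252
theorem D8573 : act 8 n6252 = n8573 := rfl
theorem F32663 : act 5 n8573 = n6254 := d32_1 D8573 (iv D6254) (iv F24126)
def n8575 : Q := act 8 n6253
theorem D8575 : act 8 n6253 = n8575 := rfl
theorem F32670 : act 3 n8575 = n6254 := d25_1 D8575 (iv D6254) D6253
def n8576 : Q := act 1 n6255
theorem D8576 : act 1 n6255 = n8576 := rfl
theorem F32676 : act 7 n8576 = n6371 := d13_2 (iv F24138) D8576 (iv D6371)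
def n8577 : Q := act 8 n6255
theorem D8577 : act 8 n6255 = n8577 := rfl
theorem F32677 : act 2 n8577 = n6256 := d20_1 D8577 (iv D6256) D6255
theorem F32678 : act 4 n8577 = n8577 := d29_1 D8577 (iv D8577) F24136
theorem F32679 : act 5 n8577 = n7816 := d32_1 D8577 (iv D7816) (iv F24137)
def n8578 : Q := act 7 n6256
theorem D8578 : act 7 n6256 = n8578 := rfl
theorem F32684 : act 8 n8578 = n6373 := d35_2 D6256 D8578 (iv D6373) (iv D4654) (iv F17886)
def n8585 : Q := act 0 n6261
theorem D8585 : act 0 n6261 = n8585 := rfl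
theorem F32710 : act 1 n8585 = n8315 := d0_2 D6261 D8585 (iv D8315) (iv D6071) (iv F17908)
theorem F32713 : act 7 n8585 = n6380 := d6_2 (iv F24162) D8585 (iv D6380)
def n8588 : Q := act 2 n6264
theorem D8588 : act 2 n6264 = n8588 := rfl
theorem F32722 : act 1 n8588 = n6383 := d8_1 D8588 (iv D6383) F18214 (iv F17928) (iv F24172)
theorem F32723 : act 4 n8588 = n6770 := d16_2 (iv F24173) D8588 (iv D6770)
def n8589 : Q := act 6 n6264
theorem D8589 : act 6 n6264 = n8589 := rfl
theorem F32724 : act 1 n8589 = n6273 := d12_1 D8589 (iv D6273) (iv F24172)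
theorem F32725 : act 3 n8589 = n6265 := d23_1 D8589 (iv D6265) D6264
theorem F32726 : act 4 n8589 = n6771 := d27_1 D8589 (iv D6771) (iv F24173)
def n8590 : Q := act 7 n6264
theorem D8590 : act 7 n6264 = n8590 := rfl
theorem F32727 : act 1 n8590 = n6274 := d13_1 D8590 (iv D6274) (iv F24172)
theorem F32728 : act 4 n8590 = n6772 := d28_1 D8590 (iv D6772) (iv F24173)
def n8591 : Q := act 5 n6265
theorem D8591 : act 5 n6265 = n8591 := rfl
theorem F32729 : act 1 n8591 = n6275 := d11_1 D8591 (iv D6275) (iv F24174)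
theorem F32730 : act 4 n8591 = n8591 := d26_1 D8591 (iv D8591) F24175 F17919 (iv F24175)
def n8592 : Q := act 7 n6265
theorem D8592 : act 7 n6265 = n8592 := rfl
theorem F32731 : act 1 n8592 = n6276 := d13_1 D8592 (iv D6276) (iv F24174)
theorem F32732 : act 4 n8592 = n6267 := d28_1 D8592 (iv D6267) (iv F24175)
theorem F32733 : act 6 n8592 = n6266 := d33_1 D8592 (iv D6266) D6265
def n8593 : Q := act 3 n6266
theorem D8593 : act 3 n6266 = n8593 := rfl
theorem F32734 : act 1 n8593 = n6277 := d9_1 D8593 (iv D6277) (iv F24176)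
def n8594 : Q := act 8 n6266
theorem D8594 : act 8 n6266 = n8594 := rfl
theorem F32735 : act 1 n8594 = n6278 := d14_1 D8594 (iv D6278) (iv F24176)
theorem F32736 : act 4 n8594 = n6269 := d29_1 D8594 (iv D6269) (iv F24177)
def n8595 : Q := act 3 n6267
theorem D8595 : act 3 n6267 = n8595 := rfl
theorem F32737 : act 1 n8595 = n6279 := d9_1 D8595 (iv D6279) (iv F24178)
theorem F32738 : act 5 n8595 = n8595 := d22_2 F24179 D8595 (iv D8595)
theorem F32739 : act 6 n8595 = n6268 := d23_2 (iv F24180) D8595 (iv D6268)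
theorem F32740 : act 7 n8595 = n6777 := d24_2 D6267 D8595 (iv D6777) (iv D4947) (iv F17918)
def n8596 : Q := act 8 n6267
theorem D8596 : act 8 n6267 = n8596 := rfl
theorem F32741 : act 1 n8596 = n6280 := d14_1 D8596 (iv D6280) (iv F24178)
theorem F32742 : act 5 n8596 = n8596 := d32_1 D8596 (iv D8596) F24179
theorem F32743 : act 6 n8596 = n6269 := d34_1 D8596 (iv D6269) (iv F24180)
def n8597 : Q := act 2 n6268
theorem D8597 : act 2 n6268 = n8597 := rfl
theorem F32744 : act 1 n8597 = n6446 := d8_1 D8597 (iv D6446) F18346 (iv F17941) (iv F24181)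
theorem F32745 : act 5 n8597 = n6270 := d17_2 (iv F24182) D8597 (iv D6270)
theorem F32746 : act 7 n8597 = n6779 := d19_2 (iv F24183) D8597 (iv D6779)
def n8598 : Q := act 4 n6268
theorem D8598 : act 4 n6268 = n8598 := rfl
theorem F32747 : act 1 n8598 = n6281 := d10_1 D8598 (iv D6281) (iv F24181)
theorem F32748 : act 7 n8598 = n6780 := d28_2 (iv F24183) D8598 (iv D6780)
def n8599 : Q := act 8 n6268
theorem D8599 : act 8 n6268 = n8599 := rfl
theorem F32749 : act 1 n8599 = n6282 := d14_1 D8599 (iv D6282) (iv F24181)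
theorem F32750 : act 3 n8599 = n6269 := d25_1 D8599 (iv D6269) D6268
theorem F32751 : act 5 n8599 = n6272 := d32_1 D8599 (iv D6272) (iv F24182)
def n8600 : Q := act 4 n6270
theorem D8600 : act 4 n6270 = n8600 := rfl
theorem F32752 : act 1 n8600 = n6449 := d10_1 D8600 (iv D6449) (iv F24186)
theorem F32753 : act 2 n8600 = n6271 := d16_1 D8600 (iv D6271) D6270
theorem F32754 : act 6 n8600 = n8600 := d27_2 F24187 D8600 (iv D8600)
theorem F32755 : act 7 n8600 = n6782 := d28_2 (iv F24188) D8600 (iv D6782)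
def n8601 : Q := act 8 n6270
theorem D8601 : act 8 n6270 = n8601 := rfl
theorem F32756 : act 1 n8601 = n6450 := d14_1 D8601 (iv D6450) (iv F24186)
theorem F32757 : act 2 n8601 = n6272 := d20_1 D8601 (iv D6272) D6270
theorem F32758 : act 6 n8601 = n8601 := d34_1 D8601 (iv D8601) F24187
def n8602 : Q := act 5 n6271
theorem D8602 : act 5 n6271 = n8602 := rfl
theorem F32759 : act 1 n8602 = n6283 := d11_1 D8602 (iv D6283) (iv F24189)
theorem F32760 : act 7 n8602 = n6784 := d31_2 (iv F24191) D8602 (iv D6784)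
def n8603 : Q := act 8 n6271
theorem D8603 : act 8 n6271 = n8603 := rfl
theorem F32761 : act 1 n8603 = n6284 := d14_1 D8603 (iv D6284) (iv F24189)
theorem F32762 : act 4 n8603 = n6272 := d29_1 D8603 (iv D6272) D6271
theorem F32763 : act 6 n8603 = n8603 := d34_1 D8603 (iv D8603) F24190
def n8604 : Q := act 7 n6272
theorem D8604 : act 7 n6272 = n8604 := rfl
theorem F32764 : act 1 n8604 = n6285 := d13_1 D8604 (iv D6285) (iv F24192)
theorem F32765 : act 6 n8604 = n8604 := d33_1 D8604 (iv D8604) F24194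
theorem F32766 : act 8 n8604 = n6786 := d35_2 D6272 D8604 (iv D6786) (iv D4952) (iv F17924)
def n8605 : Q := act 5 n6273
theorem D8605 : act 5 n6273 = n8605 := rfl
theorem F32767 : act 0 n8605 = n6291 := d4_1 D8605 (iv D6291) (iv F24195)
theorem F32768 : act 2 n8605 = n6391 := d17_1 D8605 (iv D6391) (iv F24196)
theorem F32769 : act 3 n8605 = n6275 := d22_1 D8605 (iv D6275) (iv F24197)
def n8606 : Q := act 7 n6273
theorem D8606 : act 7 n6273 = n8606 := rfl
theorem F32770 : act 0 n8606 = n6292 := d6_1 D8606 (iv D6292) (iv F24195)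
theorem F32771 : act 2 n8606 = n6392 := d19_1 D8606 (iv D6392) (iv F24196)
theorem F32772 : act 4 n8606 = n6788 := d28_1 D8606 (iv D6788) (iv F24198)
theorem F32773 : act 6 n8606 = n6274 := d33_1 D8606 (iv D6274) D6273
def n8607 : Q := act 3 n6274
theorem D8607 : act 3 n6274 = n8607 := rfl
theorem F32774 : act 0 n8607 = n6293 := d2_1 D8607 (iv D6293) (iv F24199)
theorem F32775 : act 7 n8607 = n6277 := d24_2 D6274 D8607 (iv D6277) (iv D4584) D4582
def n8608 : Q := act 8 n6274
theorem D8608 : act 8 n6274 = n8608 := rfl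
theorem F32776 : act 0 n8608 = n6294 := d7_1 D8608 (iv D6294) (iv F24199)
theorem F32777 : act 2 n8608 = n6394 := d20_1 D8608 (iv D6394) (iv F24200)
theorem F32778 : act 4 n8608 = n6790 := d29_1 D8608 (iv D6790) (iv F24201)
def n8609 : Q := act 7 n6275
theorem D8609 : act 7 n6275 = n8609 := rfl
def n8610 : Q := act 3 n6276
theorem D8610 : act 3 n6276 = n8610 := rfl
theorem F32783 : act 0 n8610 = n6296 := d2_1 D8610 (iv D6296) (iv F24205)
theorem F32784 : act 6 n8610 = n6277 := d23_2 (iv F24208) D8610 (iv D6277)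
def n8611 : Q := act 8 n6276
theorem D8611 : act 8 n6276 = n8611 := rfl
theorem F32785 : act 0 n8611 = n6297 := d7_1 D8611 (iv D6297) (iv F24205)
theorem F32786 : act 2 n8611 = n6288 := d20_1 D8611 (iv D6288) (iv F24206)
theorem F32787 : act 4 n8611 = n6280 := d29_1 D8611 (iv D6280) (iv F24207)
theorem F32788 : act 6 n8611 = n6278 := d34_1 D8611 (iv D6278) (iv F24208)
def n8612 : Q := act 2 n6277
theorem D8612 : act 2 n6277 = n8612 := rfl
theorem F32789 : act 0 n8612 = n6298 := d1_1 D8612 (iv D6298) (iv F24209)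
theorem F32790 : act 3 n8612 = n6289 := d15_2 D6277 D8612 (iv D6289) (iv D4592) (iv F17934)
def n8613 : Q := act 4 n6277
theorem D8613 : act 4 n6277 = n8613 := rfl
theorem F32791 : act 0 n8613 = n6299 := d3_1 D8613 (iv D6299) (iv F24209)
theorem F32792 : act 3 n8613 = n6281 := d21_1 D8613 (iv D6281) (iv D4586) (iv F17935) D6277
def n8614 : Q := act 8 n6277
theorem D8614 : act 8 n6277 = n8614 := rfl
theorem F32793 : act 0 n8614 = n6300 := d7_1 D8614 (iv D6300) (iv F24209)
theorem F32794 : act 3 n8614 = n6278 := d25_1 D8614 (iv D6278) D6277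
def n8615 : Q := act 4 n6279
theorem D8615 : act 4 n6279 = n8615 := rfl
theorem F32795 : act 0 n8615 = n6301 := d3_1 D8615 (iv D6301) (iv F24213)
theorem F32796 : act 2 n8615 = n6460 := d16_1 D8615 (iv D6460) (iv F24214)
theorem F32797 : act 6 n8615 = n6281 := d27_2 (iv F24216) D8615 (iv D6281)
theorem F32798 : act 7 n8615 = n6796 := d28_2 (iv F24217) D8615 (iv D6796)
def n8616 : Q := act 8 n6279
theorem D8616 : act 8 n6279 = n8616 := rfl
theorem F32799 : act 0 n8616 = n6302 := d7_1 D8616 (iv D6302) (iv F24213)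
theorem F32800 : act 2 n8616 = n6461 := d20_1 D8616 (iv D6461) (iv F24214)
theorem F32801 : act 3 n8616 = n6280 := d25_1 D8616 (iv D6280) D6279
theorem F32802 : act 5 n8616 = n8616 := d32_1 D8616 (iv D8616) F24215
theorem F32803 : act 6 n8616 = n6282 := d34_1 D8616 (iv D6282) (iv F24216)
def n8617 : Q := act 5 n6281
theorem D8617 : act 5 n6281 = n8617 := rfl
theorem F32804 : act 0 n8617 = n6303 := d4_1 D8617 (iv D6303) (iv F24222)
theorem F32805 : act 2 n8617 = n6462 := d17_1 D8617 (iv D6462) (iv F24223)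
theorem F32806 : act 4 n8617 = n6283 := d26_1 D8617 (iv D6283) (iv D4588) (iv F17942) D6281
theorem F32807 : act 7 n8617 = n6798 := d31_2 (iv F24224) D8617 (iv D6798)
def n8618 : Q := act 8 n6281
theorem D8618 : act 8 n6281 = n8618 := rfl
theorem F32808 : act 0 n8618 = n6304 := d7_1 D8618 (iv D6304) (iv F24222)
theorem F32809 : act 2 n8618 = n6463 := d20_1 D8618 (iv D6463) (iv F24223)
theorem F32810 : act 4 n8618 = n6282 := d29_1 D8618 (iv D6282) D6281
def n8619 : Q := act 7 n6282
theorem D8619 : act 7 n6282 = n8619 := rfl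
theorem F32811 : act 0 n8619 = n6305 := d6_1 D8619 (iv D6305) (iv F24225)
theorem F32812 : act 2 n8619 = n6464 := d19_1 D8619 (iv D6464) (iv F24226)
theorem F32813 : act 5 n8619 = n6285 := d31_1 D8619 (iv D6285) (iv F24228)
theorem F32814 : act 8 n8619 = n6800 := d35_2 D6282 D8619 (iv D6800) (iv D4962) (iv F17943)
def n8620 : Q := act 6 n6283
theorem D8620 : act 6 n6283 = n8620 := rfl
theorem F32815 : act 0 n8620 = n6306 := d5_1 D8620 (iv D6306) (iv F24229)
theorem F32816 : act 2 n8620 = n6465 := d18_1 D8620 (iv D6465) (iv F24230)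
theorem F32817 : act 5 n8620 = n8620 := d30_1 D8620 (iv D8620) (iv D6283) F17949 D6283
theorem F32818 : act 7 n8620 = n6801 := d33_2 (iv F24231) D8620 (iv D6801)
def n8621 : Q := act 8 n6283
theorem D8621 : act 8 n6283 = n8621 := rfl
theorem F32819 : act 0 n8621 = n6307 := d7_1 D8621 (iv D6307) (iv F24229)
theorem F32820 : act 2 n8621 = n6466 := d20_1 D8621 (iv D6466) (iv F24230)
theorem F32821 : act 5 n8621 = n6284 := d32_1 D8621 (iv D6284) D6283
def n8622 : Q := act 7 n6284
theorem D8622 : act 7 n6284 = n8622 := rfl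
theorem F32822 : act 0 n8622 = n6308 := d6_1 D8622 (iv D6308) (iv F24232)
theorem F32823 : act 2 n8622 = n6467 := d19_1 D8622 (iv D6467) (iv F24233)
theorem F32824 : act 4 n8622 = n6285 := d28_1 D8622 (iv D6285) (iv F24234)
theorem F32825 : act 6 n8622 = n8622 := d33_1 D8622 (iv D8622) F24235
theorem F32826 : act 8 n8622 = n6803 := d35_2 D6284 D8622 (iv D6803) (iv D4964) (iv F17950)
def n8625 : Q := act 2 n6287
theorem D8625 : act 2 n6287 = n8625 := rfl
theorem F32835 : act 6 n8625 = n6289 := d18_2 (iv F24245) D8625 (iv D6289)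
theorem F32836 : act 7 n8625 = n6402 := d19_2 (iv F24246) D8625 (iv D6402)
def n8626 : Q := act 8 n6287
theorem D8626 : act 8 n6287 = n8626 := rfl
theorem F32838 : act 3 n8626 = n6288 := d25_1 D8626 (iv D6288) D6287
theorem F32840 : act 6 n8626 = n6290 := d34_1 D8626 (iv D6290) (iv F24245)
def n8627 : Q := act 1 n6289
theorem D8627 : act 1 n6289 = n8627 := rfl
theorem F32841 : act 4 n8627 = n6472 := d10_2 (iv F24251) D8627 (iv D6472)
theorem F32842 : act 7 n8627 = n6404 := d13_2 (iv F24252) D8627 (iv D6404)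
def n8628 : Q := act 8 n6289
theorem D8628 : act 8 n6289 = n8628 := rfl
theorem F32843 : act 0 n8628 = n6314 := d7_1 D8628 (iv D6314) (iv F24250)
theorem F32844 : act 2 n8628 = n6290 := d20_1 D8628 (iv D6290) D6289
theorem F32845 : act 4 n8628 = n6473 := d29_1 D8628 (iv D6473) (iv F24251)
def n8630 : Q := act 4 n6291
theorem D8630 : act 4 n6291 = n8630 := rfl
theorem F32849 : act 2 n8630 = n6407 := d16_1 D8630 (iv D6407) (iv F24256)
theorem F32850 : act 3 n8630 = n8630 := d21_1 D8630 (iv D8630) F24257 F17976 (iv F24257)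
theorem F32851 : act 5 n8630 = n6805 := d26_2 D6291 D8630 (iv D6805) (iv D4968) (iv F17972)
def n8631 : Q := act 7 n6291
theorem D8631 : act 7 n6291 = n8631 := rfl
theorem F32853 : act 5 n8631 = n6292 := d31_1 D8631 (iv D6292) D6291
def n8632 : Q := act 3 n6292
theorem D8632 : act 3 n6292 = n8632 := rfl
theorem F32854 : act 6 n8632 = n6293 := d23_2 (iv F24260) D8632 (iv D6293)
theorem F32855 : act 7 n8632 = n6296 := d24_2 D6292 D8632 (iv D6296) (iv D4598) (iv F17971)
def n8633 : Q := act 8 n6292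
theorem D8633 : act 8 n6292 = n8633 := rfl
theorem F32856 : act 2 n8633 = n6410 := d20_1 D8633 (iv D6410) (iv F24258)
theorem F32857 : act 4 n8633 = n6808 := d29_1 D8633 (iv D6808) (iv F24259)
theorem F32858 : act 6 n8633 = n6294 := d34_1 D8633 (iv D6294) (iv F24260)
def n8634 : Q := act 2 n6293
theorem D8634 : act 2 n6293 = n8634 := rfl
theorem F32859 : act 3 n8634 = n6411 := d15_2 D6293 D8634 (iv D6411) (iv D4681) (iv F17973)
theorem F32860 : act 7 n8634 = n6298 := d19_2 (iv F24261) D8634 (iv D6298)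
def n8635 : Q := act 4 n6293
theorem D8635 : act 4 n6293 = n8635 := rfl
theorem F32861 : act 3 n8635 = n6809 := d21_1 D8635 (iv D6809) (iv D4970) (iv F17974) D6293
theorem F32862 : act 7 n8635 = n6299 := d28_2 (iv F24261) D8635 (iv D6299)
def n8636 : Q := act 8 n6293
theorem D8636 : act 8 n6293 = n8636 := rfl
theorem F32863 : act 3 n8636 = n6294 := d25_1 D8636 (iv D6294) D6293
def n8639 : Q := act 2 n6296
theorem D8639 : act 2 n6296 = n8639 := rfl
theorem F32868 : act 3 n8639 = n6311 := d15_2 D6296 D8639 (iv D6311) (iv D4609) (iv F17977)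
theorem F32869 : act 6 n8639 = n6298 := d18_2 (iv F24267) D8639 (iv D6298)
def n8640 : Q := act 4 n6296
theorem D8640 : act 4 n6296 = n8640 := rfl
theorem F32870 : act 3 n8640 = n6301 := d21_1 D8640 (iv D6301) (iv D4601) (iv F17978) D6296
theorem F32871 : act 6 n8640 = n6299 := d27_2 (iv F24267) D8640 (iv D6299)
def n8641 : Q := act 8 n6296
theorem D8641 : act 8 n6296 = n8641 := rfl
theorem F32872 : act 3 n8641 = n6297 := d25_1 D8641 (iv D6297) D6296
theorem F32873 : act 6 n8641 = n6300 := d34_1 D8641 (iv D6300) (iv F24267)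
def n8642 : Q := act 1 n6298
theorem D8642 : act 1 n6298 = n8642 := rfl
theorem F32874 : act 3 n8642 = n6313 := d9_2 (iv F24271) D8642 (iv D6313)
def n8643 : Q := act 4 n6298
theorem D8643 : act 4 n6298 = n8643 := rfl
theorem F32875 : act 2 n8643 = n6299 := d16_1 D8643 (iv D6299) D6298
theorem F32876 : act 3 n8643 = n6481 := d21_1 D8643 (iv D6481) F18438 (iv F18012) (iv F24271)
def n8644 : Q := act 8 n6298
theorem D8644 : act 8 n6298 = n8644 := rfl
theorem F32877 : act 2 n8644 = n6300 := d20_1 D8644 (iv D6300) D6298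
theorem F32878 : act 3 n8644 = n6314 := d25_1 D8644 (iv D6314) (iv F24271)
def n8645 : Q := act 5 n6299
theorem D8645 : act 5 n6299 = n8645 := rfl
theorem F32879 : act 3 n8645 = n6303 := d22_1 D8645 (iv D6303) (iv F24272)
def n8646 : Q := act 8 n6299
theorem D8646 : act 8 n6299 = n8646 := rfl
theorem F32880 : act 3 n8646 = n6304 := d25_1 D8646 (iv D6304) (iv F24272)
theorem F32881 : act 4 n8646 = n6300 := d29_1 D8646 (iv D6300) D6299
def n8647 : Q := act 7 n6300
theorem D8647 : act 7 n6300 = n8647 := rfl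
def n8648 : Q := act 5 n6301
theorem D8648 : act 5 n6301 = n8648 := rfl
theorem F32882 : act 2 n8648 = n6486 := d17_1 D8648 (iv D6486) (iv F24274)
theorem F32883 : act 4 n8648 = n8648 := d26_1 D8648 (iv D8648) (iv D6301) F17983 D6301
theorem F32884 : act 7 n8648 = n6818 := d31_2 (iv F24276) D8648 (iv D6818)
def n8649 : Q := act 8 n6301
theorem D8649 : act 8 n6301 = n8649 := rfl
theorem F32885 : act 2 n8649 = n6487 := d20_1 D8649 (iv D6487) (iv F24274)
theorem F32886 : act 4 n8649 = n6302 := d29_1 D8649 (iv D6302) D6301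
theorem F32887 : act 6 n8649 = n6304 := d34_1 D8649 (iv D6304) (iv F24275)
def n8650 : Q := act 7 n6302
theorem D8650 : act 7 n6302 = n8650 := rfl
theorem F32888 : act 2 n8650 = n6488 := d19_1 D8650 (iv D6488) (iv F24277)
theorem F32889 : act 5 n8650 = n8650 := d31_1 D8650 (iv D8650) F24279
theorem F32890 : act 6 n8650 = n6305 := d33_1 D8650 (iv D6305) (iv F24280)
theorem F32891 : act 8 n8650 = n6820 := d35_2 D6302 D8650 (iv D6820) (iv D4978) (iv F17985)
def n8651 : Q := act 6 n6303
theorem D8651 : act 6 n6303 = n8651 := rfl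
theorem F32892 : act 2 n8651 = n6489 := d18_1 D8651 (iv D6489) (iv F24281)
theorem F32893 : act 4 n8651 = n6306 := d27_1 D8651 (iv D6306) (iv F24282)
theorem F32894 : act 7 n8651 = n6821 := d33_2 (iv F24283) D8651 (iv D6821)
def n8652 : Q := act 8 n6303
theorem D8652 : act 8 n6303 = n8652 := rfl
theorem F32895 : act 2 n8652 = n6490 := d20_1 D8652 (iv D6490) (iv F24281)
theorem F32896 : act 4 n8652 = n6307 := d29_1 D8652 (iv D6307) (iv F24282)
theorem F32897 : act 5 n8652 = n6304 := d32_1 D8652 (iv D6304) D6303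
def n8653 : Q := act 7 n6304
theorem D8653 : act 7 n6304 = n8653 := rfl
theorem F32898 : act 2 n8653 = n6491 := d19_1 D8653 (iv D6491) (iv F24284)
theorem F32899 : act 4 n8653 = n6305 := d28_1 D8653 (iv D6305) (iv F24285)
theorem F32900 : act 8 n8653 = n6823 := d35_2 D6304 D8653 (iv D6823) (iv D4980) (iv F17990)
def n8654 : Q := act 8 n6306
theorem D8654 : act 8 n6306 = n8654 := rfl
theorem F32901 : act 2 n8654 = n6492 := d20_1 D8654 (iv D6492) (iv F24289)
theorem F32902 : act 5 n8654 = n8654 := d32_1 D8654 (iv D8654) F24290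
theorem F32903 : act 6 n8654 = n6307 := d34_1 D8654 (iv D6307) D6306
def n8655 : Q := act 7 n6307
theorem D8655 : act 7 n6307 = n8655 := rfl
theorem F32904 : act 2 n8655 = n6493 := d19_1 D8655 (iv D6493) (iv F24292)
theorem F32905 : act 5 n8655 = n6308 := d31_1 D8655 (iv D6308) (iv F24293)
theorem F32906 : act 8 n8655 = n6825 := d35_2 D6307 D8655 (iv D6825) (iv D4983) (iv F17995)
def n8656 : Q := act 3 n6308
theorem D8656 : act 3 n6308 = n8656 := rfl
theorem F32907 : act 6 n8656 = n8656 := d23_2 F24296 D8656 (iv D8656)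
theorem F32908 : act 8 n8656 = n6826 := d25_2 (iv F24297) D8656 (iv D6826)
def n8660 : Q := act 1 n6311
theorem D8660 : act 1 n6311 = n8660 := rfl
theorem F32920 : act 6 n8660 = n6313 := d12_2 (iv F24305) D8660 (iv D6313)
theorem F32921 : act 7 n8660 = n6423 := d13_2 (iv F24306) D8660 (iv D6423)
def n8661 : Q := act 8 n6311
theorem D8661 : act 8 n6311 = n8661 := rfl
theorem F32924 : act 6 n8661 = n6314 := d34_1 D8661 (iv D6314) (iv F24305)
def n8663 : Q := act 0 n6313
theorem D8663 : act 0 n6313 = n8663 := rfl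
theorem F32929 : act 2 n8663 = n6322 := d1_2 (iv F24311) D8663 (iv D6322)
theorem F32930 : act 4 n8663 = n6501 := d3_2 (iv F24312) D8663 (iv D6501)
theorem F32931 : act 7 n8663 = n6426 := d6_2 (iv F24313) D8663 (iv D6426)
def n8664 : Q := act 8 n6313
theorem D8664 : act 8 n6313 = n8664 := rfl
theorem F32932 : act 1 n8664 = n6314 := d14_1 D8664 (iv D6314) D6313
theorem F32933 : act 2 n8664 = n6323 := d20_1 D8664 (iv D6323) (iv F24311)
theorem F32934 : act 4 n8664 = n6502 := d29_1 D8664 (iv D6502) (iv F24312)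
def n8671 : Q := act 0 n6319
theorem D8671 : act 0 n6319 = n8671 := rfl
theorem F32951 : act 6 n8671 = n6322 := d5_2 (iv F24327) D8671 (iv D6322)
theorem F32952 : act 7 n8671 = n6434 := d6_2 (iv F24328) D8671 (iv D6434)
def n8672 : Q := act 8 n6319
theorem D8672 : act 8 n6319 = n8672 := rfl
theorem F32955 : act 6 n8672 = n6323 := d34_1 D8672 (iv D6323) (iv F24327)
def n8674 : Q := act 8 n6322
theorem D8674 : act 8 n6322 = n8674 := rfl
theorem F32960 : act 0 n8674 = n6323 := d7_1 D8674 (iv D6323) D6322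
theorem F32961 : act 4 n8674 = n6512 := d29_1 D8674 (iv D6512) (iv F24335)
def n8677 : Q := act 2 n6325
theorem D8677 : act 2 n6325 = n8677 := rfl
theorem F32966 : act 0 n8677 = n8677 := d1_1 D8677 (iv D8677) F24342
theorem F32967 : act 3 n8677 = n8318 := d15_2 D6325 D8677 (iv D8318) (iv D6074) (iv F18035)
theorem F32968 : act 4 n8677 = n6827 := d16_2 (iv F24344) D8677 (iv D6827)
theorem F32969 : act 5 n8677 = n7827 := d17_2 (iv F24345) D8677 (iv D7827)
theorem F32970 : act 8 n8677 = n6383 := d20_2 (iv F24346) D8677 (iv D6383)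
def n8678 : Q := act 6 n6325
theorem D8678 : act 6 n6325 = n8678 := rfl
theorem F32971 : act 0 n8678 = n8678 := d5_1 D8678 (iv D8678) F24342
theorem F32972 : act 1 n8678 = n6334 := d12_1 D8678 (iv D6334) (iv F24343)
theorem F32973 : act 3 n8678 = n6326 := d23_1 D8678 (iv D6326) D6325
theorem F32974 : act 4 n8678 = n6828 := d27_1 D8678 (iv D6828) (iv F24344)
theorem F32975 : act 8 n8678 = n6384 := d34_2 (iv F24346) D8678 (iv D6384)
def n8679 : Q := act 7 n6325
theorem D8679 : act 7 n6325 = n8679 := rfl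
theorem F32976 : act 0 n8679 = n8679 := d6_1 D8679 (iv D8679) F24342
theorem F32977 : act 1 n8679 = n6335 := d13_1 D8679 (iv D6335) (iv F24343)
theorem F32978 : act 4 n8679 = n6829 := d28_1 D8679 (iv D6829) (iv F24344)
theorem F32979 : act 5 n8679 = n7829 := d31_1 D8679 (iv D7829) (iv F24345)
def n8680 : Q := act 5 n6326
theorem D8680 : act 5 n6326 = n8680 := rfl
theorem F32982 : act 2 n8680 = n8321 := d17_1 D8680 (iv D8321) (iv F24349)
theorem F32983 : act 4 n8680 = n7283 := d26_1 D8680 (iv D7283) F20632 (iv F18042) (iv F24350)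
def n8681 : Q := act 7 n6326
theorem D8681 : act 7 n6326 = n8681 := rfl
theorem F32989 : act 4 n8681 = n6328 := d28_1 D8681 (iv D6328) (iv F24350)
def n8682 : Q := act 3 n6327
theorem D8682 : act 3 n6327 = n8682 := rfl
theorem F32991 : act 0 n8682 = n8682 := d2_1 D8682 (iv D8682) F24352
theorem F32992 : act 1 n8682 = n6338 := d9_1 D8682 (iv D6338) (iv F24353)
theorem F32993 : act 5 n8682 = n7832 := d22_2 (iv F24356) D8682 (iv D7832)
def n8683 : Q := act 8 n6327
theorem D8683 : act 8 n6327 = n8683 := rfl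
theorem F32997 : act 4 n8683 = n6330 := d29_1 D8683 (iv D6330) (iv F24355)
def n8684 : Q := act 3 n6328
theorem D8684 : act 3 n6328 = n8684 := rfl
theorem F33003 : act 6 n8684 = n6329 := d23_2 (iv F24361) D8684 (iv D6329)
theorem F33004 : act 7 n8684 = n6833 := d24_2 D6328 D8684 (iv D6833) (iv D4989) (iv F18041)
def n8686 : Q := act 2 n6329
theorem D8686 : act 2 n6329 = n8686 := rfl
theorem F33011 : act 0 n8686 = n8686 := d1_1 D8686 (iv D8686) F24362
theorem F33012 : act 1 n8686 = n8686 := d8_1 D8686 (iv D8686) F24363 F18075 (iv F24363)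
theorem F33013 : act 3 n8686 = n8327 := d15_2 D6329 D8686 (iv D8327) (iv D6078) (iv F18046)
theorem F33014 : act 5 n8686 = n6331 := d17_2 (iv F24364) D8686 (iv D6331)
theorem F33015 : act 7 n8686 = n6834 := d19_2 (iv F24365) D8686 (iv D6834)
def n8687 : Q := act 4 n6329
theorem D8687 : act 4 n6329 = n8687 := rfl
theorem F33016 : act 0 n8687 = n8687 := d3_1 D8687 (iv D8687) F24362
theorem F33017 : act 1 n8687 = n6342 := d10_1 D8687 (iv D6342) (iv F24363)
theorem F33018 : act 7 n8687 = n6835 := d28_2 (iv F24365) D8687 (iv D6835)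
def n8688 : Q := act 8 n6329
theorem D8688 : act 8 n6329 = n8688 := rfl
theorem F33022 : act 5 n8688 = n6333 := d32_1 D8688 (iv D6333) (iv F24364)
def n8689 : Q := act 4 n6331
theorem D8689 : act 4 n6331 = n8689 := rfl
theorem F33027 : act 3 n8689 = n8689 := d21_1 D8689 (iv D8689) F24373 F23472 (iv F24373)
theorem F33029 : act 7 n8689 = n6836 := d28_2 (iv F24375) D8689 (iv D6836)
def n8690 : Q := act 8 n6331
theorem D8690 : act 8 n6331 = n8690 := rfl
theorem F33030 : act 0 n8690 = n8690 := d7_1 D8690 (iv D8690) F24371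
theorem F33031 : act 1 n8690 = n8690 := d14_1 D8690 (iv D8690) F24372
theorem F33032 : act 2 n8690 = n6333 := d20_1 D8690 (iv D6333) D6331
theorem F33033 : act 3 n8690 = n8330 := d25_1 D8690 (iv D8330) (iv F24373)
theorem F33034 : act 6 n8690 = n7293 := d34_1 D8690 (iv D7293) (iv F24374)
theorem F33035 : act 7 n8690 = n8690 := d35_1 D8690 (iv D8690) F24375 F19391 (iv F24375)
def n8691 : Q := act 5 n6332
theorem D8691 : act 5 n6332 = n8691 := rfl
theorem F33039 : act 7 n8691 = n6837 := d31_2 (iv F24380) D8691 (iv D6837)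
def n8692 : Q := act 8 n6332
theorem D8692 : act 8 n6332 = n8692 := rfl
theorem F33043 : act 4 n8692 = n6333 := d29_1 D8692 (iv D6333) D6332
def n8693 : Q := act 5 n6334
theorem D8693 : act 5 n6334 = n8693 := rfl
theorem F33047 : act 3 n8693 = n6336 := d22_1 D8693 (iv D6336) (iv F24387)
def n8694 : Q := act 7 n6334
theorem D8694 : act 7 n6334 = n8694 := rfl
theorem F33050 : act 0 n8694 = n6352 := d6_1 D8694 (iv D6352) (iv F24386)
theorem F33051 : act 4 n8694 = n6839 := d28_1 D8694 (iv D6839) (iv F24388)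
theorem F33052 : act 6 n8694 = n6335 := d33_1 D8694 (iv D6335) D6334
def n8695 : Q := act 3 n6335
theorem D8695 : act 3 n6335 = n8695 := rfl
theorem F33053 : act 0 n8695 = n6353 := d2_1 D8695 (iv D6353) (iv F24390)
theorem F33054 : act 5 n8695 = n7843 := d22_2 (iv F24392) D8695 (iv D7843)
theorem F33055 : act 7 n8695 = n6338 := d24_2 D6335 D8695 (iv D6338) (iv D4627) D4625
def n8696 : Q := act 8 n6335
theorem D8696 : act 8 n6335 = n8696 := rfl
theorem F33056 : act 0 n8696 = n6354 := d7_1 D8696 (iv D6354) (iv F24390)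
theorem F33057 : act 4 n8696 = n6841 := d29_1 D8696 (iv D6841) (iv F24391)
theorem F33058 : act 5 n8696 = n7844 := d32_1 D8696 (iv D7844) (iv F24392)
theorem F33059 : act 7 n8696 = n6394 := d35_1 D8696 (iv D6394) (iv D4668) (iv F18061) D6335
def n8699 : Q := act 8 n6337
theorem D8699 : act 8 n6337 = n8699 := rfl
theorem F33069 : act 4 n8699 = n6341 := d29_1 D8699 (iv D6341) (iv F24400)
def n8700 : Q := act 2 n6338
theorem D8700 : act 2 n6338 = n8700 := rfl
def n8701 : Q := act 4 n6338
theorem D8701 : act 4 n6338 = n8701 := rfl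
theorem F33075 : act 0 n8701 = n6359 := d3_1 D8701 (iv D6359) (iv F24402)
theorem F33076 : act 3 n8701 = n6342 := d21_1 D8701 (iv D6342) (iv D4629) (iv F18068) D6338
def n8702 : Q := act 8 n6338
theorem D8702 : act 8 n6338 = n8702 := rfl
theorem F33078 : act 3 n8702 = n6339 := d25_1 D8702 (iv D6339) D6338
def n8703 : Q := act 4 n6340
theorem D8703 : act 4 n6340 = n8703 := rfl
theorem F33082 : act 6 n8703 = n6342 := d27_2 (iv F24412) D8703 (iv D6342)
theorem F33083 : act 7 n8703 = n6846 := d28_2 (iv F24413) D8703 (iv D6846)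
def n8705 : Q := act 5 n6342
theorem D8705 : act 5 n6342 = n8705 := rfl
theorem F33093 : act 7 n8705 = n6847 := d31_2 (iv F24421) D8705 (iv D6847)
def n8706 : Q := act 8 n6342
theorem D8706 : act 8 n6342 = n8706 := rfl
theorem F33096 : act 4 n8706 = n6343 := d29_1 D8706 (iv D6343) D6342
def n8707 : Q := act 6 n6344
theorem D8707 : act 6 n6344 = n8707 := rfl
theorem F33101 : act 5 n8707 = n7310 := d30_1 D8707 (iv D7310) (iv D5340) (iv F18085) D6344
theorem F33102 : act 7 n8707 = n6848 := d33_2 (iv F24430) D8707 (iv D6848)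
def n8710 : Q := act 8 n6346
theorem D8710 : act 8 n6346 = n8710 := rfl
theorem F33114 : act 4 n8710 = n7313 := d29_1 D8710 (iv D7313) (iv F24439)
def n8712 : Q := act 8 n6347
theorem D8712 : act 8 n6347 = n8712 := rfl
theorem F33123 : act 3 n8712 = n6348 := d25_1 D8712 (iv D6348) D6347
def n8713 : Q := act 1 n6349
theorem D8713 : act 1 n6349 = n8713 := rfl
theorem F33126 : act 2 n8713 = n8350 := d8_2 D6349 D8713 (iv D8350) (iv D6096) (iv F18102)
def n8716 : Q := act 4 n6351
theorem D8716 : act 4 n6351 = n8716 := rfl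
theorem F33139 : act 3 n8716 = n7319 := d21_1 D8716 (iv D7319) F20738 (iv F18125) (iv F24460)
theorem F33140 : act 5 n8716 = n6852 := d26_2 D6351 D8716 (iv D6852) (iv D5004) (iv F18118)
def n8717 : Q := act 7 n6351
theorem D8717 : act 7 n6351 = n8717 := rfl
theorem F33144 : act 5 n8717 = n6352 := d31_1 D8717 (iv D6352) D6351
def n8718 : Q := act 3 n6352
theorem D8718 : act 3 n6352 = n8718 := rfl
theorem F33148 : act 7 n8718 = n6356 := d24_2 D6352 D8718 (iv D6356) (iv D4641) (iv F18117)
def n8719 : Q := act 8 n6352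
theorem D8719 : act 8 n6352 = n8719 := rfl
theorem F33149 : act 1 n8719 = n8719 := d14_1 D8719 (iv D8719) F24463
theorem F33150 : act 4 n8719 = n6855 := d29_1 D8719 (iv D6855) (iv F24464)
theorem F33151 : act 6 n8719 = n6354 := d34_1 D8719 (iv D6354) (iv F24465)
theorem F33152 : act 7 n8719 = n6410 := d35_1 D8719 (iv D6410) (iv D4680) (iv F18119) D6352
def n8720 : Q := act 2 n6353
theorem D8720 : act 2 n6353 = n8720 := rfl
theorem F33154 : act 7 n8720 = n6358 := d19_2 (iv F24468) D8720 (iv D6358)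
def n8721 : Q := act 4 n6353
theorem D8721 : act 4 n6353 = n8721 := rfl
theorem F33155 : act 1 n8721 = n8721 := d10_1 D8721 (iv D8721) F24466
theorem F33156 : act 3 n8721 = n6857 := d21_1 D8721 (iv D6857) (iv D5006) (iv F18121) D6353
theorem F33157 : act 7 n8721 = n6359 := d28_2 (iv F24468) D8721 (iv D6359)
def n8722 : Q := act 8 n6353
theorem D8722 : act 8 n6353 = n8722 := rfl
theorem F33158 : act 1 n8722 = n8722 := d14_1 D8722 (iv D8722) F24466
theorem F33159 : act 3 n8722 = n6354 := d25_1 D8722 (iv D6354) D6353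
theorem F33160 : act 5 n8722 = n7872 := d32_1 D8722 (iv D7872) (iv F24467)
def n8724 : Q := act 8 n6355
theorem D8724 : act 8 n6355 = n8724 := rfl
theorem F33167 : act 5 n8724 = n6357 := d32_1 D8724 (iv D6357) (iv F24476)
def n8727 : Q := act 8 n6356
theorem D8727 : act 8 n6356 = n8727 := rfl
theorem F33176 : act 3 n8727 = n6357 := d25_1 D8727 (iv D6357) D6356
def n8728 : Q := act 1 n6358
theorem D8728 : act 1 n6358 = n8728 := rfl
theorem F33179 : act 3 n8728 = n6371 := d9_2 (iv F24485) D8728 (iv D6371)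
def n8729 : Q := act 4 n6358
theorem D8729 : act 4 n6358 = n8729 := rfl
theorem F33181 : act 2 n8729 = n6359 := d16_1 D8729 (iv D6359) D6358
def n8731 : Q := act 5 n6359
theorem D8731 : act 5 n6359 = n8731 := rfl
theorem F33187 : act 3 n8731 = n6363 := d22_1 D8731 (iv D6363) (iv F24488)
def n8732 : Q := act 8 n6359
theorem D8732 : act 8 n6359 = n8732 := rfl
theorem F33190 : act 3 n8732 = n6364 := d25_1 D8732 (iv D6364) (iv F24488)
def n8736 : Q := act 6 n6363
theorem D8736 : act 6 n6363 = n8736 := rfl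
theorem F33206 : act 4 n8736 = n6365 := d27_1 D8736 (iv D6365) (iv F24504)
theorem F33207 : act 7 n8736 = n6866 := d33_2 (iv F24505) D8736 (iv D6866)
def n8741 : Q := act 8 n6367
theorem D8741 : act 8 n6367 = n8741 := rfl
theorem F33227 : act 5 n8741 = n6370 := d32_1 D8741 (iv D6370) (iv F24521)
def n8743 : Q := act 8 n6369
theorem D8743 : act 8 n6369 = n8743 := rfl
theorem F33232 : act 2 n8743 = n6370 := d20_1 D8743 (iv D6370) D6369
def n8745 : Q := act 0 n6371
theorem D8745 : act 0 n6371 = n8745 := rfl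
theorem F33239 : act 2 n8745 = n6380 := d1_2 (iv F24534) D8745 (iv D6380)
def n8750 : Q := act 8 n6374
theorem D8750 : act 8 n6374 = n8750 := rfl
theorem F33259 : act 5 n8750 = n6378 := d32_1 D8750 (iv D6378) (iv F24546)
def n8751 : Q := act 8 n6375
theorem D8751 : act 8 n6375 = n8751 := rfl
theorem F33263 : act 4 n8751 = n6376 := d29_1 D8751 (iv D6376) D6375
def n8754 : Q := act 8 n6377
theorem D8754 : act 8 n6377 = n8754 := rfl
theorem F33274 : act 1 n8754 = n6378 := d14_1 D8754 (iv D6378) D6377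
def n8759 : Q := act 6 n6383
theorem D8759 : act 6 n6383 = n8759 := rfl
theorem F33294 : act 0 n8759 = n8759 := d5_1 D8759 (iv D8759) F24580
theorem F33295 : act 2 n8759 = n6384 := d18_1 D8759 (iv D6384) D6383
theorem F33296 : act 4 n8759 = n6874 := d27_1 D8759 (iv D6874) (iv F24581)
def n8760 : Q := act 7 n6383
theorem D8760 : act 7 n6383 = n8760 := rfl
theorem F33297 : act 0 n8760 = n8760 := d6_1 D8760 (iv D8760) F24580
theorem F33298 : act 2 n8760 = n6385 := d19_1 D8760 (iv D6385) D6383
theorem F33299 : act 4 n8760 = n6875 := d28_1 D8760 (iv D6875) (iv F24581)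
def n8762 : Q := act 7 n6384
theorem D8762 : act 7 n6384 = n8762 := rfl
theorem F33303 : act 0 n8762 = n8762 := d6_1 D8762 (iv D8762) F24582
theorem F33304 : act 1 n8762 = n6392 := d13_1 D8762 (iv D6392) (iv F24583)
theorem F33305 : act 4 n8762 = n6877 := d28_1 D8762 (iv D6877) (iv F24585)
theorem F33306 : act 6 n8762 = n6385 := d33_1 D8762 (iv D6385) D6384
def n8763 : Q := act 3 n6385
theorem D8763 : act 3 n6385 = n8763 := rfl
theorem F33307 : act 0 n8763 = n8763 := d2_1 D8763 (iv D8763) F24586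
theorem F33308 : act 1 n8763 = n6393 := d9_1 D8763 (iv D6393) (iv F24587)
theorem F33309 : act 4 n8763 = n8763 := d21_2 (iv F24588) D8763 (iv D8763) F24588 F19520
theorem F33310 : act 7 n8763 = n6388 := d24_2 D6385 D8763 (iv D6388) (iv D4664) D4662
def n8764 : Q := act 8 n6385
theorem D8764 : act 8 n6385 = n8764 := rfl
theorem F33311 : act 0 n8764 = n8764 := d7_1 D8764 (iv D8764) F24586
theorem F33312 : act 1 n8764 = n6394 := d14_1 D8764 (iv D6394) (iv F24587)
theorem F33313 : act 4 n8764 = n6878 := d29_1 D8764 (iv D6878) (iv F24588)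
def n8766 : Q := act 3 n6387
theorem D8766 : act 3 n6387 = n8766 := rfl
theorem F33321 : act 6 n8766 = n6388 := d23_2 (iv F24595) D8766 (iv D6388)
def n8768 : Q := act 2 n6388
theorem D8768 : act 2 n6388 = n8768 := rfl
theorem F33326 : act 0 n8768 = n8768 := d1_1 D8768 (iv D8768) F24596
theorem F33327 : act 4 n8768 = n8768 := d16_2 F24598 D8768 (iv D8768)
def n8770 : Q := act 4 n6391
theorem D8770 : act 4 n6391 = n8770 := rfl
theorem F33333 : act 3 n8770 = n7373 := d21_1 D8770 (iv D7373) F20893 (iv F18238) (iv F24608)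
theorem F33334 : act 5 n8770 = n6879 := d26_2 D6391 D8770 (iv D6879) (iv D5026) (iv F18233)
def n8772 : Q := act 3 n6392
theorem D8772 : act 3 n6392 = n8772 := rfl
theorem F33339 : act 6 n8772 = n6393 := d23_2 (iv F24611) D8772 (iv D6393)
theorem F33340 : act 7 n8772 = n6396 := d24_2 D6392 D8772 (iv D6396) (iv D4670) (iv F18232)
def n8773 : Q := act 8 n6392
theorem D8773 : act 8 n6392 = n8773 := rfl
theorem F33341 : act 0 n8773 = n6410 := d7_1 D8773 (iv D6410) (iv F24609)
theorem F33342 : act 4 n8773 = n6881 := d29_1 D8773 (iv D6881) (iv F24610)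
theorem F33343 : act 6 n8773 = n6394 := d34_1 D8773 (iv D6394) (iv F24611)
def n8774 : Q := act 2 n6393
theorem D8774 : act 2 n6393 = n8774 := rfl
theorem F33344 : act 0 n8774 = n6411 := d1_1 D8774 (iv D6411) (iv F24612)
theorem F33345 : act 4 n8774 = n8774 := d16_2 F24613 D8774 (iv D8774)
theorem F33346 : act 7 n8774 = n6398 := d19_2 (iv F24614) D8774 (iv D6398)
def n8775 : Q := act 8 n6393
theorem D8775 : act 8 n6393 = n8775 := rfl
theorem F33347 : act 0 n8775 = n6412 := d7_1 D8775 (iv D6412) (iv F24612)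
theorem F33348 : act 3 n8775 = n6394 := d25_1 D8775 (iv D6394) D6393
theorem F33349 : act 4 n8775 = n8775 := d29_1 D8775 (iv D8775) F24613
def n8778 : Q := act 2 n6396
theorem D8778 : act 2 n6396 = n8778 := rfl
theorem F33359 : act 6 n8778 = n6398 := d18_2 (iv F24623) D8778 (iv D6398)
def n8780 : Q := act 1 n6398
theorem D8780 : act 1 n6398 = n8780 := rfl
theorem F33364 : act 3 n8780 = n6404 := d9_2 (iv F24629) D8780 (iv D6404)
theorem F33365 : act 4 n8780 = n8780 := d10_2 F24630 D8780 (iv D8780)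
def n8786 : Q := act 1 n6402
theorem D8786 : act 1 n6402 = n8786 := rfl
theorem F33381 : act 6 n8786 = n6404 := d12_2 (iv F24641) D8786 (iv D6404)
def n8789 : Q := act 0 n6404
theorem D8789 : act 0 n6404 = n8789 := rfl
theorem F33389 : act 1 n8789 = n6426 := d0_2 D6404 D8789 (iv D6426) (iv D4692) (iv F18262)
theorem F33390 : act 4 n8789 = n6521 := d3_2 (iv F24646) D8789 (iv D6521)
def n8792 : Q := act 7 n6407
theorem D8792 : act 7 n6407 = n8792 := rfl
theorem F33398 : act 5 n8792 = n6882 := d31_1 D8792 (iv D6882) (iv F24654)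
def n8795 : Q := act 2 n6409
theorem D8795 : act 2 n6409 = n8795 := rfl
theorem F33405 : act 6 n8795 = n6411 := d18_2 (iv F24659) D8795 (iv D6411)
theorem F33406 : act 7 n8795 = n6415 := d19_2 (iv F24660) D8795 (iv D6415)
def n8796 : Q := act 8 n6409
theorem D8796 : act 8 n6409 = n8796 := rfl
theorem F33408 : act 3 n8796 = n6410 := d25_1 D8796 (iv D6410) D6409
theorem F33410 : act 6 n8796 = n6412 := d34_1 D8796 (iv D6412) (iv F24659)
def n8797 : Q := act 1 n6411
theorem D8797 : act 1 n6411 = n8797 := rfl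
theorem F33411 : act 2 n8797 = n8797 := d8_2 D6411 D8797 (iv D8797) (iv D6411) F18272
theorem F33412 : act 4 n8797 = n8797 := d10_2 F24664 D8797 (iv D8797)
theorem F33413 : act 7 n8797 = n6417 := d13_2 (iv F24665) D8797 (iv D6417)
def n8798 : Q := act 8 n6411
theorem D8798 : act 8 n6411 = n8798 := rfl
theorem F33414 : act 2 n8798 = n6412 := d20_1 D8798 (iv D6412) D6411
theorem F33415 : act 4 n8798 = n8798 := d29_1 D8798 (iv D8798) F24664
def n8800 : Q := act 2 n6413
theorem D8800 : act 2 n6413 = n8800 := rfl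
theorem F33420 : act 5 n8800 = n6415 := d17_2 (iv F24670) D8800 (iv D6415)
def n8803 : Q := act 1 n6415
theorem D8803 : act 1 n6415 = n8803 := rfl
theorem F33430 : act 6 n8803 = n6417 := d12_2 (iv F24677) D8803 (iv D6417)
def n8806 : Q := act 0 n6417
theorem D8806 : act 0 n6417 = n8806 := rfl
theorem F33438 : act 2 n8806 = n8806 := d1_2 F24682 D8806 (iv D8806)
theorem F33439 : act 3 n8806 = n6426 := d2_2 (iv F24683) D8806 (iv D6426)
theorem F33440 : act 4 n8806 = n8806 := d3_2 F24684 D8806 (iv D8806)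
def n8809 : Q := act 1 n6420
theorem D8809 : act 1 n6420 = n8809 := rfl
theorem F33448 : act 5 n8809 = n6423 := d11_2 (iv F24690) D8809 (iv D6423)
def n8814 : Q := act 0 n6423
theorem D8814 : act 0 n6423 = n8814 := rfl
theorem F33460 : act 4 n8814 = n6529 := d3_2 (iv F24698) D8814 (iv D6529)
theorem F33461 : act 6 n8814 = n6426 := d5_2 (iv F24699) D8814 (iv D6426)
def n8820 : Q := act 0 n6429
theorem D8820 : act 0 n6429 = n8820 := rfl
theorem F33476 : act 5 n8820 = n6434 := d4_2 (iv F24714) D8820 (iv D6434)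
def n8834 : Q := act 3 n6441
theorem D8834 : act 3 n6441 = n8834 := rfl
theorem F33513 : act 1 n8834 = n6455 := d9_1 D8834 (iv D6455) (iv F24747)
theorem F33514 : act 6 n8834 = n6442 := d23_2 (iv F24749) D8834 (iv D6442)
def n8835 : Q := act 8 n6441
theorem D8835 : act 8 n6441 = n8835 := rfl
theorem F33518 : act 4 n8835 = n6445 := d29_1 D8835 (iv D6445) (iv F24748)
theorem F33519 : act 6 n8835 = n6443 := d34_1 D8835 (iv D6443) (iv F24749)
def n8836 : Q := act 2 n6442
theorem D8836 : act 2 n6442 = n8836 := rfl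
theorem F33521 : act 0 n8836 = n8836 := d1_1 D8836 (iv D8836) F24750
theorem F33522 : act 5 n8836 = n8836 := d17_2 F24752 D8836 (iv D8836)
theorem F33523 : act 7 n8836 = n8836 := d19_2 F24753 D8836 (iv D8836)
def n8837 : Q := act 4 n6442
theorem D8837 : act 4 n6442 = n8837 := rfl
theorem F33524 : act 0 n8837 = n8837 := d3_1 D8837 (iv D8837) F24750
theorem F33525 : act 1 n8837 = n6458 := d10_1 D8837 (iv D6458) (iv F24751)
theorem F33526 : act 3 n8837 = n6447 := d21_1 D8837 (iv D6447) (iv D4707) (iv F18339) D6442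
theorem F33527 : act 7 n8837 = n8837 := d28_2 F24753 D8837 (iv D8837)
def n8838 : Q := act 8 n6442
theorem D8838 : act 8 n6442 = n8838 := rfl
theorem F33528 : act 0 n8838 = n8838 := d7_1 D8838 (iv D8838) F24750
theorem F33529 : act 1 n8838 = n6459 := d14_1 D8838 (iv D6459) (iv F24751)
theorem F33530 : act 3 n8838 = n6443 := d25_1 D8838 (iv D6443) D6442
theorem F33531 : act 5 n8838 = n8838 := d32_1 D8838 (iv D8838) F24752
def n8839 : Q := act 2 n6444
theorem D8839 : act 2 n6444 = n8839 := rfl
theorem F33532 : act 0 n8839 = n8839 := d1_1 D8839 (iv D8839) F24759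
theorem F33533 : act 5 n8839 = n8839 := d17_2 F24761 D8839 (iv D8839)
theorem F33534 : act 6 n8839 = n6446 := d18_2 (iv F24762) D8839 (iv D6446)
theorem F33535 : act 7 n8839 = n6884 := d19_2 (iv F24763) D8839 (iv D6884)
def n8840 : Q := act 4 n6444
theorem D8840 : act 4 n6444 = n8840 := rfl
theorem F33536 : act 0 n8840 = n8840 := d3_1 D8840 (iv D8840) F24759
theorem F33537 : act 1 n8840 = n6460 := d10_1 D8840 (iv D6460) (iv F24760)
theorem F33538 : act 6 n8840 = n6447 := d27_2 (iv F24762) D8840 (iv D6447)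
theorem F33539 : act 7 n8840 = n6885 := d28_2 (iv F24763) D8840 (iv D6885)
def n8841 : Q := act 8 n6444
theorem D8841 : act 8 n6444 = n8841 := rfl
theorem F33540 : act 0 n8841 = n8841 := d7_1 D8841 (iv D8841) F24759
theorem F33541 : act 1 n8841 = n6461 := d14_1 D8841 (iv D6461) (iv F24760)
theorem F33542 : act 3 n8841 = n6445 := d25_1 D8841 (iv D6445) D6444
theorem F33543 : act 5 n8841 = n8841 := d32_1 D8841 (iv D8841) F24761
theorem F33544 : act 6 n8841 = n6448 := d34_1 D8841 (iv D6448) (iv F24762)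
def n8842 : Q := act 4 n6446
theorem D8842 : act 4 n6446 = n8842 := rfl
theorem F33545 : act 0 n8842 = n8842 := d3_1 D8842 (iv D8842) F24769
theorem F33546 : act 2 n8842 = n6447 := d16_1 D8842 (iv D6447) D6446
theorem F33547 : act 7 n8842 = n6887 := d28_2 (iv F24771) D8842 (iv D6887)
def n8843 : Q := act 8 n6446
theorem D8843 : act 8 n6446 = n8843 := rfl
theorem F33548 : act 0 n8843 = n8843 := d7_1 D8843 (iv D8843) F24769
theorem F33549 : act 2 n8843 = n6448 := d20_1 D8843 (iv D6448) D6446
theorem F33550 : act 5 n8843 = n6450 := d32_1 D8843 (iv D6450) (iv F24770)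
def n8844 : Q := act 5 n6447
theorem D8844 : act 5 n6447 = n8844 := rfl
theorem F33551 : act 0 n8844 = n8844 := d4_1 D8844 (iv D8844) F24772
theorem F33552 : act 1 n8844 = n6462 := d11_1 D8844 (iv D6462) (iv F24773)
theorem F33553 : act 4 n8844 = n6451 := d26_1 D8844 (iv D6451) (iv D4710) (iv F18347) D6447
theorem F33554 : act 7 n8844 = n6889 := d31_2 (iv F24774) D8844 (iv D6889)
def n8845 : Q := act 8 n6447
theorem D8845 : act 8 n6447 = n8845 := rfl
theorem F33555 : act 0 n8845 = n8845 := d7_1 D8845 (iv D8845) F24772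
theorem F33556 : act 1 n8845 = n6463 := d14_1 D8845 (iv D6463) (iv F24773)
theorem F33557 : act 4 n8845 = n6448 := d29_1 D8845 (iv D6448) D6447
def n8846 : Q := act 7 n6448
theorem D8846 : act 7 n6448 = n8846 := rfl
theorem F33558 : act 0 n8846 = n8846 := d6_1 D8846 (iv D8846) F24775
theorem F33559 : act 1 n8846 = n6464 := d13_1 D8846 (iv D6464) (iv F24776)
theorem F33560 : act 3 n8846 = n8846 := d24_1 D8846 (iv D8846) F24777 F18352 (iv F24777)
theorem F33561 : act 5 n8846 = n6453 := d31_1 D8846 (iv D6453) (iv F24778)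
theorem F33562 : act 8 n8846 = n6891 := d35_2 D6448 D8846 (iv D6891) (iv D5036) (iv F18348)
def n8847 : Q := act 3 n6449
theorem D8847 : act 3 n6449 = n8847 := rfl
theorem F33563 : act 0 n8847 = n8847 := d2_1 D8847 (iv D8847) F24779
theorem F33564 : act 2 n8847 = n8847 := d15_1 D8847 (iv D8847) F24780 F18358 (iv F24780)
theorem F33565 : act 6 n8847 = n8847 := d23_2 F24781 D8847 (iv D8847)
def n8848 : Q := act 5 n6449
theorem D8848 : act 5 n6449 = n8848 := rfl
theorem F33566 : act 0 n8848 = n8848 := d4_1 D8848 (iv D8848) F24779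
theorem F33567 : act 2 n8848 = n6451 := d17_1 D8848 (iv D6451) (iv F24780)
theorem F33568 : act 7 n8848 = n6893 := d31_2 (iv F24782) D8848 (iv D6893)
def n8849 : Q := act 8 n6449
theorem D8849 : act 8 n6449 = n8849 := rfl
theorem F33569 : act 0 n8849 = n8849 := d7_1 D8849 (iv D8849) F24779
theorem F33570 : act 2 n8849 = n6452 := d20_1 D8849 (iv D6452) (iv F24780)
theorem F33571 : act 4 n8849 = n6450 := d29_1 D8849 (iv D6450) D6449
theorem F33572 : act 6 n8849 = n8849 := d34_1 D8849 (iv D8849) F24781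
def n8850 : Q := act 7 n6450
theorem D8850 : act 7 n6450 = n8850 := rfl
theorem F33573 : act 0 n8850 = n8850 := d6_1 D8850 (iv D8850) F24783
theorem F33574 : act 2 n8850 = n6453 := d19_1 D8850 (iv D6453) (iv F24784)
theorem F33575 : act 6 n8850 = n8850 := d33_1 D8850 (iv D8850) F24785
theorem F33576 : act 8 n8850 = n6895 := d35_2 D6450 D8850 (iv D6895) (iv D5038) (iv F18355)
def n8851 : Q := act 6 n6451
theorem D8851 : act 6 n6451 = n8851 := rfl
theorem F33577 : act 0 n8851 = n8851 := d5_1 D8851 (iv D8851) F24786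
theorem F33578 : act 1 n8851 = n6465 := d12_1 D8851 (iv D6465) (iv F24787)
theorem F33579 : act 3 n8851 = n8851 := d23_1 D8851 (iv D8851) F24788
theorem F33580 : act 5 n8851 = n8851 := d30_1 D8851 (iv D8851) (iv D6451) F18359 D6451
theorem F33581 : act 7 n8851 = n6896 := d33_2 (iv F24789) D8851 (iv D6896)
def n8852 : Q := act 8 n6451
theorem D8852 : act 8 n6451 = n8852 := rfl
theorem F33582 : act 0 n8852 = n8852 := d7_1 D8852 (iv D8852) F24786
theorem F33583 : act 1 n8852 = n6466 := d14_1 D8852 (iv D6466) (iv F24787)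
theorem F33584 : act 3 n8852 = n8852 := d25_1 D8852 (iv D8852) F24788
theorem F33585 : act 5 n8852 = n6452 := d32_1 D8852 (iv D6452) D6451
def n8853 : Q := act 7 n6452
theorem D8853 : act 7 n6452 = n8853 := rfl
theorem F33586 : act 0 n8853 = n8853 := d6_1 D8853 (iv D8853) F24790
theorem F33587 : act 1 n8853 = n6467 := d13_1 D8853 (iv D6467) (iv F24791)
theorem F33588 : act 4 n8853 = n6453 := d28_1 D8853 (iv D6453) (iv F24793)
theorem F33589 : act 6 n8853 = n8853 := d33_1 D8853 (iv D8853) F24794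
theorem F33590 : act 8 n8853 = n6898 := d35_2 D6452 D8853 (iv D6898) (iv D5040) (iv F18360)
def n8856 : Q := act 2 n6455
theorem D8856 : act 2 n6455 = n8856 := rfl
theorem F33602 : act 3 n8856 = n6470 := d15_2 D6455 D8856 (iv D6470) (iv D4724) (iv F18372)
theorem F33603 : act 6 n8856 = n6457 := d18_2 (iv F24806) D8856 (iv D6457)
def n8857 : Q := act 4 n6455
theorem D8857 : act 4 n6455 = n8857 := rfl
theorem F33606 : act 3 n8857 = n6460 := d21_1 D8857 (iv D6460) (iv D4716) (iv F18373) D6455
theorem F33607 : act 6 n8857 = n6458 := d27_2 (iv F24806) D8857 (iv D6458)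
def n8858 : Q := act 8 n6455
theorem D8858 : act 8 n6455 = n8858 := rfl
theorem F33611 : act 6 n8858 = n6459 := d34_1 D8858 (iv D6459) (iv F24806)
def n8859 : Q := act 1 n6457
theorem D8859 : act 1 n6457 = n8859 := rfl
theorem F33612 : act 3 n8859 = n6472 := d9_2 (iv F24814) D8859 (iv D6472)
theorem F33613 : act 5 n8859 = n8859 := d11_2 F24815 D8859 (iv D8859)
theorem F33614 : act 7 n8859 = n8859 := d13_2 F24816 D8859 (iv D8859)
def n8860 : Q := act 4 n6457
theorem D8860 : act 4 n6457 = n8860 := rfl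
theorem F33615 : act 0 n8860 = n6481 := d3_1 D8860 (iv D6481) (iv F24813)
theorem F33616 : act 2 n8860 = n6458 := d16_1 D8860 (iv D6458) D6457
theorem F33617 : act 7 n8860 = n8860 := d28_2 F24816 D8860 (iv D8860)
def n8861 : Q := act 8 n6457
theorem D8861 : act 8 n6457 = n8861 := rfl
theorem F33618 : act 0 n8861 = n6482 := d7_1 D8861 (iv D6482) (iv F24813)
theorem F33619 : act 2 n8861 = n6459 := d20_1 D8861 (iv D6459) D6457
theorem F33620 : act 3 n8861 = n6473 := d25_1 D8861 (iv D6473) (iv F24814)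
theorem F33621 : act 5 n8861 = n8861 := d32_1 D8861 (iv D8861) F24815
def n8862 : Q := act 5 n6458
theorem D8862 : act 5 n6458 = n8862 := rfl
theorem F33622 : act 0 n8862 = n6483 := d4_1 D8862 (iv D6483) (iv F24817)
theorem F33623 : act 3 n8862 = n6462 := d22_1 D8862 (iv D6462) (iv F24818)
theorem F33624 : act 4 n8862 = n8862 := d26_1 D8862 (iv D8862) (iv D6458) F18376 D6458
theorem F33625 : act 7 n8862 = n8862 := d31_2 F24819 D8862 (iv D8862)
def n8863 : Q := act 8 n6458
theorem D8863 : act 8 n6458 = n8863 := rfl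
theorem F33626 : act 0 n8863 = n6484 := d7_1 D8863 (iv D6484) (iv F24817)
theorem F33627 : act 3 n8863 = n6463 := d25_1 D8863 (iv D6463) (iv F24818)
theorem F33628 : act 4 n8863 = n6459 := d29_1 D8863 (iv D6459) D6458
def n8864 : Q := act 7 n6459
theorem D8864 : act 7 n6459 = n8864 := rfl
theorem F33629 : act 0 n8864 = n6485 := d6_1 D8864 (iv D6485) (iv F24820)
theorem F33630 : act 3 n8864 = n8864 := d24_1 D8864 (iv D8864) F24821 F18382 (iv F24821)
theorem F33631 : act 5 n8864 = n8864 := d31_1 D8864 (iv D8864) F24822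
theorem F33632 : act 8 n8864 = n8864 := d35_2 D6459 D8864 (iv D8864) (iv D6459) F18377
def n8865 : Q := act 5 n6460
theorem D8865 : act 5 n6460 = n8865 := rfl
theorem F33633 : act 0 n8865 = n6486 := d4_1 D8865 (iv D6486) (iv F24823)
theorem F33634 : act 4 n8865 = n8865 := d26_1 D8865 (iv D8865) (iv D6460) F18384 D6460
theorem F33635 : act 7 n8865 = n6899 := d31_2 (iv F24825) D8865 (iv D6899)
def n8866 : Q := act 8 n6460
theorem D8866 : act 8 n6460 = n8866 := rfl
theorem F33636 : act 0 n8866 = n6487 := d7_1 D8866 (iv D6487) (iv F24823)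
theorem F33637 : act 4 n8866 = n6461 := d29_1 D8866 (iv D6461) D6460
theorem F33638 : act 6 n8866 = n6463 := d34_1 D8866 (iv D6463) (iv F24824)
def n8867 : Q := act 7 n6461
theorem D8867 : act 7 n6461 = n8867 := rfl
theorem F33639 : act 0 n8867 = n6488 := d6_1 D8867 (iv D6488) (iv F24826)
theorem F33640 : act 3 n8867 = n8867 := d24_1 D8867 (iv D8867) F24827 F18391 (iv F24827)
theorem F33641 : act 5 n8867 = n8867 := d31_1 D8867 (iv D8867) F24828
theorem F33642 : act 6 n8867 = n6464 := d33_1 D8867 (iv D6464) (iv F24829)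
theorem F33643 : act 8 n8867 = n6901 := d35_2 D6461 D8867 (iv D6901) (iv D5043) (iv F18386)
def n8868 : Q := act 6 n6462
theorem D8868 : act 6 n6462 = n8868 := rfl
theorem F33644 : act 0 n8868 = n6489 := d5_1 D8868 (iv D6489) (iv F24830)
theorem F33645 : act 4 n8868 = n6465 := d27_1 D8868 (iv D6465) (iv F24831)
theorem F33646 : act 7 n8868 = n6902 := d33_2 (iv F24832) D8868 (iv D6902)
def n8869 : Q := act 8 n6462
theorem D8869 : act 8 n6462 = n8869 := rfl
theorem F33647 : act 0 n8869 = n6490 := d7_1 D8869 (iv D6490) (iv F24830)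
theorem F33648 : act 4 n8869 = n6466 := d29_1 D8869 (iv D6466) (iv F24831)
theorem F33649 : act 5 n8869 = n6463 := d32_1 D8869 (iv D6463) D6462
def n8870 : Q := act 7 n6463
theorem D8870 : act 7 n6463 = n8870 := rfl
theorem F33650 : act 0 n8870 = n6491 := d6_1 D8870 (iv D6491) (iv F24833)
theorem F33651 : act 4 n8870 = n6464 := d28_1 D8870 (iv D6464) (iv F24834)
theorem F33652 : act 8 n8870 = n6904 := d35_2 D6463 D8870 (iv D6904) (iv D5045) (iv F18393)
def n8871 : Q := act 8 n6465
theorem D8871 : act 8 n6465 = n8871 := rfl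
theorem F33653 : act 0 n8871 = n6492 := d7_1 D8871 (iv D6492) (iv F24839)
theorem F33654 : act 3 n8871 = n8871 := d25_1 D8871 (iv D8871) F24840
theorem F33655 : act 5 n8871 = n8871 := d32_1 D8871 (iv D8871) F24841
theorem F33656 : act 6 n8871 = n6466 := d34_1 D8871 (iv D6466) D6465
def n8872 : Q := act 7 n6466
theorem D8872 : act 7 n6466 = n8872 := rfl
theorem F33657 : act 0 n8872 = n6493 := d6_1 D8872 (iv D6493) (iv F24843)
theorem F33658 : act 5 n8872 = n6467 := d31_1 D8872 (iv D6467) (iv F24845)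
theorem F33659 : act 8 n8872 = n6906 := d35_2 D6466 D8872 (iv D6906) (iv D5048) (iv F18399)
def n8873 : Q := act 3 n6467
theorem D8873 : act 3 n6467 = n8873 := rfl
theorem F33660 : act 0 n8873 = n6494 := d2_1 D8873 (iv D6494) (iv F24846)
theorem F33661 : act 4 n8873 = n8873 := d21_2 (iv F24847) D8873 (iv D8873) F24847 F18405
theorem F33662 : act 6 n8873 = n8873 := d23_2 F24848 D8873 (iv D8873)
theorem F33663 : act 7 n8873 = n8873 := d24_2 D6467 D8873 (iv D8873) (iv D6467) F18401
theorem F33664 : act 8 n8873 = n6907 := d25_2 (iv F24849) D8873 (iv D6907)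
def n8877 : Q := act 1 n6470
theorem D8877 : act 1 n6470 = n8877 := rfl
theorem F33677 : act 6 n8877 = n6472 := d12_2 (iv F24860) D8877 (iv D6472)
theorem F33678 : act 7 n8877 = n6518 := d13_2 (iv F24861) D8877 (iv D6518)
def n8878 : Q := act 8 n6470
theorem D8878 : act 8 n6470 = n8878 := rfl
theorem F33681 : act 6 n8878 = n6473 := d34_1 D8878 (iv D6473) (iv F24860)
def n8880 : Q := act 0 n6472
theorem D8880 : act 0 n6472 = n8880 := rfl
theorem F33686 : act 1 n8880 = n6501 := d0_2 D6472 D8880 (iv D6501) (iv D4746) (iv F18419)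
theorem F33687 : act 5 n8880 = n8880 := d4_2 F24865 D8880 (iv D8880)
theorem F33688 : act 7 n8880 = n6521 := d6_2 (iv F24866) D8880 (iv D6521)
def n8881 : Q := act 8 n6472
theorem D8881 : act 8 n6472 = n8881 := rfl
theorem F33689 : act 1 n8881 = n6473 := d14_1 D8881 (iv D6473) D6472
theorem F33690 : act 5 n8881 = n8881 := d32_1 D8881 (iv D8881) F24865
def n8882 : Q := act 7 n6473
theorem D8882 : act 7 n6473 = n8882 := rfl
theorem F33694 : act 8 n8882 = n6523 := d35_2 D6473 D8882 (iv D6523) (iv D4763) (iv F18421)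
def n8886 : Q := act 1 n6477
theorem D8886 : act 1 n6477 = n8886 := rfl
theorem F33708 : act 3 n8886 = n6498 := d9_2 (iv F24884) D8886 (iv D6498)
theorem F33709 : act 6 n8886 = n6480 := d12_2 (iv F24885) D8886 (iv D6480)
def n8887 : Q := act 4 n6477
theorem D8887 : act 4 n6477 = n8887 := rfl
theorem F33712 : act 6 n8887 = n6481 := d27_2 (iv F24885) D8887 (iv D6481)
def n8888 : Q := act 8 n6477
theorem D8888 : act 8 n6477 = n8888 := rfl
theorem F33716 : act 6 n8888 = n6482 := d34_1 D8888 (iv D6482) (iv F24885)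
def n8889 : Q := act 5 n6478
theorem D8889 : act 5 n6478 = n8889 := rfl
theorem F33718 : act 3 n8889 = n6486 := d22_1 D8889 (iv D6486) (iv F24888)
def n8890 : Q := act 8 n6478
theorem D8890 : act 8 n6478 = n8890 := rfl
theorem F33721 : act 3 n8890 = n6487 := d25_1 D8890 (iv D6487) (iv F24888)
theorem F33723 : act 6 n8890 = n6484 := d34_1 D8890 (iv D6484) (iv F24889)
def n8891 : Q := act 7 n6479
theorem D8891 : act 7 n6479 = n8891 := rfl
theorem F33726 : act 6 n8891 = n6485 := d33_1 D8891 (iv D6485) (iv F24893)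
def n8892 : Q := act 0 n6480
theorem D8892 : act 0 n6480 = n8892 := rfl
theorem F33728 : act 2 n8892 = n8892 := d1_2 F24894 D8892 (iv D8892)
theorem F33729 : act 3 n8892 = n6501 := d2_2 (iv F24895) D8892 (iv D6501)
theorem F33730 : act 5 n8892 = n8892 := d4_2 F24896 D8892 (iv D8892)
theorem F33731 : act 7 n8892 = n8892 := d6_2 F24897 D8892 (iv D8892)
def n8893 : Q := act 4 n6480
theorem D8893 : act 4 n6480 = n8893 := rfl
theorem F33732 : act 1 n8893 = n6481 := d10_1 D8893 (iv D6481) D6480
theorem F33733 : act 2 n8893 = n8893 := d16_1 D8893 (iv D8893) F24894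
theorem F33734 : act 7 n8893 = n8893 := d28_2 F24897 D8893 (iv D8893)
def n8894 : Q := act 8 n6480
theorem D8894 : act 8 n6480 = n8894 := rfl
theorem F33735 : act 1 n8894 = n6482 := d14_1 D8894 (iv D6482) D6480
theorem F33736 : act 2 n8894 = n8894 := d20_1 D8894 (iv D8894) F24894
theorem F33737 : act 3 n8894 = n6502 := d25_1 D8894 (iv D6502) (iv F24895)
theorem F33738 : act 5 n8894 = n8894 := d32_1 D8894 (iv D8894) F24896
def n8895 : Q := act 5 n6481
theorem D8895 : act 5 n6481 = n8895 := rfl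
theorem F33739 : act 2 n8895 = n6483 := d17_1 D8895 (iv D6483) (iv F24898)
theorem F33740 : act 4 n8895 = n8895 := d26_1 D8895 (iv D8895) (iv D6481) F18439 D6481
theorem F33741 : act 7 n8895 = n8895 := d31_2 F24899 D8895 (iv D8895)
def n8896 : Q := act 8 n6481
theorem D8896 : act 8 n6481 = n8896 := rfl
theorem F33742 : act 2 n8896 = n6484 := d20_1 D8896 (iv D6484) (iv F24898)
theorem F33743 : act 4 n8896 = n6482 := d29_1 D8896 (iv D6482) D6481
def n8897 : Q := act 7 n6482
theorem D8897 : act 7 n6482 = n8897 := rfl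
theorem F33744 : act 2 n8897 = n6485 := d19_1 D8897 (iv D6485) (iv F24900)
theorem F33745 : act 5 n8897 = n8897 := d31_1 D8897 (iv D8897) F24902
theorem F33746 : act 8 n8897 = n8897 := d35_2 D6482 D8897 (iv D8897) (iv D6482) F18440
def n8898 : Q := act 6 n6483
theorem D8898 : act 6 n6483 = n8898 := rfl
theorem F33747 : act 1 n8898 = n8898 := d12_1 D8898 (iv D8898) F24903
theorem F33748 : act 3 n8898 = n6489 := d23_1 D8898 (iv D6489) (iv F24904)
theorem F33749 : act 4 n8898 = n8898 := d27_1 D8898 (iv D8898) F24905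
theorem F33750 : act 7 n8898 = n8898 := d33_2 F24906 D8898 (iv D8898)
def n8899 : Q := act 8 n6483
theorem D8899 : act 8 n6483 = n8899 := rfl
theorem F33751 : act 1 n8899 = n8899 := d14_1 D8899 (iv D8899) F24903
theorem F33752 : act 3 n8899 = n6490 := d25_1 D8899 (iv D6490) (iv F24904)
theorem F33753 : act 4 n8899 = n8899 := d29_1 D8899 (iv D8899) F24905
theorem F33754 : act 5 n8899 = n6484 := d32_1 D8899 (iv D6484) D6483
def n8900 : Q := act 7 n6484
theorem D8900 : act 7 n6484 = n8900 := rfl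
theorem F33755 : act 1 n8900 = n8900 := d13_1 D8900 (iv D8900) F24907
theorem F33756 : act 4 n8900 = n6485 := d28_1 D8900 (iv D6485) (iv F24909)
theorem F33757 : act 8 n8900 = n8900 := d35_2 D6484 D8900 (iv D8900) (iv D6484) F18443
def n8901 : Q := act 6 n6486
theorem D8901 : act 6 n6486 = n8901 := rfl
theorem F33758 : act 1 n8901 = n8901 := d12_1 D8901 (iv D8901) F24914
theorem F33759 : act 4 n8901 = n8901 := d27_1 D8901 (iv D8901) F24915
theorem F33760 : act 5 n8901 = n6489 := d30_1 D8901 (iv D6489) (iv D4736) (iv F18448) D6486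
theorem F33761 : act 7 n8901 = n6908 := d33_2 (iv F24916) D8901 (iv D6908)
def n8902 : Q := act 8 n6486
theorem D8902 : act 8 n6486 = n8902 := rfl
theorem F33762 : act 1 n8902 = n8902 := d14_1 D8902 (iv D8902) F24914
theorem F33763 : act 4 n8902 = n8902 := d29_1 D8902 (iv D8902) F24915
theorem F33764 : act 5 n8902 = n6487 := d32_1 D8902 (iv D6487) D6486
def n8903 : Q := act 7 n6487
theorem D8903 : act 7 n6487 = n8903 := rfl
theorem F33765 : act 1 n8903 = n8903 := d13_1 D8903 (iv D8903) F24917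
theorem F33766 : act 4 n8903 = n6488 := d28_1 D8903 (iv D6488) (iv F24918)
theorem F33767 : act 6 n8903 = n6491 := d33_1 D8903 (iv D6491) (iv F24919)
theorem F33768 : act 8 n8903 = n6910 := d35_2 D6487 D8903 (iv D6910) (iv D5051) (iv F18449)
def n8904 : Q := act 8 n6489
theorem D8904 : act 8 n6489 = n8904 := rfl
theorem F33769 : act 1 n8904 = n8904 := d14_1 D8904 (iv D8904) F24925
theorem F33770 : act 4 n8904 = n6492 := d29_1 D8904 (iv D6492) (iv F24926)
theorem F33771 : act 6 n8904 = n6490 := d34_1 D8904 (iv D6490) D6489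
def n8905 : Q := act 7 n6490
theorem D8905 : act 7 n6490 = n8905 := rfl
theorem F33772 : act 1 n8905 = n8905 := d13_1 D8905 (iv D8905) F24928
theorem F33773 : act 4 n8905 = n6493 := d28_1 D8905 (iv D6493) (iv F24929)
theorem F33774 : act 5 n8905 = n6491 := d31_1 D8905 (iv D6491) (iv F24930)
theorem F33775 : act 8 n8905 = n6912 := d35_2 D6490 D8905 (iv D6912) (iv D5054) (iv F18456)
def n8906 : Q := act 3 n6491
theorem D8906 : act 3 n6491 = n8906 := rfl
theorem F33776 : act 1 n8906 = n8906 := d9_1 D8906 (iv D8906) F24931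
theorem F33777 : act 4 n8906 = n8906 := d21_2 (iv F24932) D8906 (iv D8906) F24932 F18460
theorem F33778 : act 8 n8906 = n6913 := d25_2 (iv F24933) D8906 (iv D6913)
def n8907 : Q := act 7 n6492
theorem D8907 : act 7 n6492 = n8907 := rfl
theorem F33779 : act 1 n8907 = n8907 := d13_1 D8907 (iv D8907) F24934
theorem F33780 : act 5 n8907 = n8907 := d31_1 D8907 (iv D8907) F24936
theorem F33781 : act 6 n8907 = n6493 := d33_1 D8907 (iv D6493) (iv F24937)
theorem F33782 : act 8 n8907 = n6914 := d35_2 D6492 D8907 (iv D6914) (iv D5056) (iv F18466)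
def n8908 : Q := act 3 n6493
theorem D8908 : act 3 n6493 = n8908 := rfl
theorem F33783 : act 1 n8908 = n8908 := d9_1 D8908 (iv D8908) F24938
theorem F33784 : act 5 n8908 = n6494 := d22_2 (iv F24939) D8908 (iv D6494)
theorem F33785 : act 7 n8908 = n8908 := d24_2 D6493 D8908 (iv D8908) (iv D6493) F18468
theorem F33786 : act 8 n8908 = n6915 := d25_2 (iv F24940) D8908 (iv D6915)
def n8909 : Q := act 2 n6494
theorem D8909 : act 2 n6494 = n8909 := rfl
theorem F33787 : act 4 n8909 = n8909 := d16_2 F24942 D8909 (iv D8909)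
theorem F33788 : act 6 n8909 = n8909 := d18_2 F24943 D8909 (iv D8909)
theorem F33789 : act 7 n8909 = n8909 := d19_2 F24944 D8909 (iv D8909)
theorem F33790 : act 8 n8909 = n6916 := d20_2 (iv F24945) D8909 (iv D6916)
def n8915 : Q := act 0 n6498
theorem D8915 : act 0 n6498 = n8915 := rfl
theorem F33811 : act 6 n8915 = n6501 := d5_2 (iv F24958) D8915 (iv D6501)
theorem F33812 : act 7 n8915 = n6529 := d6_2 (iv F24959) D8915 (iv D6529)
def n8916 : Q := act 8 n6498
theorem D8916 : act 8 n6498 = n8916 := rfl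
theorem F33815 : act 6 n8916 = n6502 := d34_1 D8916 (iv D6502) (iv F24958)
def n8918 : Q := act 8 n6501
theorem D8918 : act 8 n6501 = n8918 := rfl
theorem F33819 : act 0 n8918 = n6502 := d7_1 D8918 (iv D6502) D6501
theorem F33820 : act 2 n8918 = n6512 := d20_1 D8918 (iv D6512) (iv F24966)
theorem F33821 : act 5 n8918 = n8918 := d32_1 D8918 (iv D8918) F24967
def n8928 : Q := act 8 n6509
theorem D8928 : act 8 n6509 = n8928 := rfl
theorem F33855 : act 6 n8928 = n6512 := d34_1 D8928 (iv D6512) (iv F24994)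
def n8939 : Q := act 0 n6518
theorem D8939 : act 0 n6518 = n8939 := rfl
theorem F33894 : act 6 n8939 = n6521 := d5_2 (iv F25024) D8939 (iv D6521)
def n8942 : Q := act 8 n6521
theorem D8942 : act 8 n6521 = n8942 := rfl
theorem F33901 : act 0 n8942 = n6522 := d7_1 D8942 (iv D6522) D6521
def n8997 : Q := act 5 n6565
theorem D8997 : act 5 n6565 = n8997 := rfl
def n8998 : Q := act 7 n6565
theorem D8998 : act 7 n6565 = n8998 := rfl
theorem F34097 : act 4 n8998 = n6587 := d28_1 D8998 (iv D6587) (iv F25187)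
def n9001 : Q := act 7 n6566
theorem D9001 : act 7 n6566 = n9001 := rfl
theorem F34110 : act 5 n9001 = n6567 := d31_1 D9001 (iv D6567) D6566
def n9006 : Q := act 7 n6569
theorem D9006 : act 7 n6569 = n9006 := rfl
theorem F34133 : act 6 n9006 = n6570 := d33_1 D9006 (iv D6570) D6569
def n9014 : Q := act 4 n6575
theorem D9014 : act 4 n6575 = n9014 := rfl
theorem F34166 : act 3 n9014 = n6603 := d21_1 D9014 (iv D6603) (iv D4822) (iv F18686) D6575
def n9026 : Q := act 4 n6586
theorem D9026 : act 4 n6586 = n9026 := rfl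
def n9027 : Q := act 6 n6586
theorem D9027 : act 6 n6586 = n9027 := rfl
def n9028 : Q := act 7 n6586
theorem D9028 : act 7 n6586 = n9028 := rfl
theorem F34229 : act 5 n9028 = n6587 := d31_1 D9028 (iv D6587) D6586
def n9029 : Q := act 3 n6587
theorem D9029 : act 3 n6587 = n9029 := rfl
theorem F34230 : act 0 n9029 = n9029 := d2_1 D9029 (iv D9029) F25283
theorem F34231 : act 1 n9029 = n6591 := d9_1 D9029 (iv D6591) (iv F25284)
theorem F34232 : act 6 n9029 = n9029 := d23_2 F25286 D9029 (iv D9029)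
def n9030 : Q := act 8 n6587
theorem D9030 : act 8 n6587 = n9030 := rfl
def n9033 : Q := act 7 n6588
theorem D9033 : act 7 n6588 = n9033 := rfl
theorem F34247 : act 4 n9033 = n6590 := d28_1 D9033 (iv D6590) D6588
def n9034 : Q := act 7 n6589
theorem D9034 : act 7 n6589 = n9034 := rfl
theorem F34251 : act 6 n9034 = n6590 := d33_1 D9034 (iv D6590) D6589
def n9035 : Q := act 3 n6590
theorem D9035 : act 3 n6590 = n9035 := rfl
theorem F34254 : act 5 n9035 = n6591 := d22_2 (iv F25296) D9035 (iv D6591)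
def n9037 : Q := act 4 n6591
theorem D9037 : act 4 n6591 = n9037 := rfl
theorem F34259 : act 0 n9037 = n6603 := d3_1 D9037 (iv D6603) (iv F25297)
theorem F34260 : act 2 n9037 = n6626 := d16_1 D9037 (iv D6626) (iv F25298)
theorem F34261 : act 6 n9037 = n9037 := d27_2 F25299 D9037 (iv D9037)
def n9038 : Q := act 8 n6591
theorem D9038 : act 8 n6591 = n9038 := rfl
def n9054 : Q := act 5 n6603
theorem D9054 : act 5 n6603 = n9054 := rfl
theorem F34324 : act 2 n9054 = n6643 := d17_1 D9054 (iv D6643) (iv F25344)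
def n9055 : Q := act 8 n6603
theorem D9055 : act 8 n6603 = n9055 := rfl
def n9069 : Q := act 3 n6615
theorem D9069 : act 3 n6615 = n9069 := rfl
theorem F34377 : act 0 n9069 = n6712 := d2_1 D9069 (iv D6712) (iv F25388)
theorem F34378 : act 1 n9069 = n6620 := d9_1 D9069 (iv D6620) (iv F25389)
theorem F34379 : act 5 n9069 = n9069 := d22_2 F25391 D9069 (iv D9069)
theorem F34380 : act 8 n9069 = n6658 := d25_2 (iv F25392) D9069 (iv D6658)
def n9070 : Q := act 6 n6615
theorem D9070 : act 6 n6615 = n9070 := rfl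
theorem F34381 : act 0 n9070 = n6713 := d5_1 D9070 (iv D6713) (iv F25388)
theorem F34384 : act 4 n9070 = n6616 := d27_1 D9070 (iv D6616) D6615
theorem F34385 : act 8 n9070 = n6659 := d34_2 (iv F25392) D9070 (iv D6659)
def n9071 : Q := act 7 n6615
theorem D9071 : act 7 n6615 = n9071 := rfl
theorem F34389 : act 4 n9071 = n6617 := d28_1 D9071 (iv D6617) D6615
def n9072 : Q := act 7 n6616
theorem D9072 : act 7 n6616 = n9072 := rfl
theorem F34395 : act 6 n9072 = n6617 := d33_1 D9072 (iv D6617) D6616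
def n9073 : Q := act 3 n6617
theorem D9073 : act 3 n6617 = n9073 := rfl
theorem F34396 : act 0 n9073 = n6716 := d2_1 D9073 (iv D6716) (iv F25398)
theorem F34397 : act 1 n9073 = n6624 := d9_1 D9073 (iv D6624) (iv F25399)
theorem F34398 : act 5 n9073 = n6618 := d22_2 (iv F25401) D9073 (iv D6618)
def n9074 : Q := act 8 n6617
theorem D9074 : act 8 n6617 = n9074 := rfl
theorem F34402 : act 5 n9074 = n6619 := d32_1 D9074 (iv D6619) (iv F25401)
theorem F34403 : act 7 n9074 = n6663 := d35_1 D9074 (iv D6663) (iv D4864) (iv F18807) D6617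
def n9075 : Q := act 2 n6618
theorem D9075 : act 2 n6618 = n9075 := rfl
theorem F34404 : act 0 n9075 = n6718 := d1_1 D9075 (iv D6718) (iv F25402)
theorem F34405 : act 3 n9075 = n9075 := d15_2 D6618 D9075 (iv D9075) (iv D6618) F18810
theorem F34406 : act 6 n9075 = n9075 := d18_2 F25404 D9075 (iv D9075)
def n9076 : Q := act 4 n6618
theorem D9076 : act 4 n6618 = n9076 := rfl
theorem F34407 : act 0 n9076 = n6719 := d3_1 D9076 (iv D6719) (iv F25402)
theorem F34408 : act 1 n9076 = n6626 := d10_1 D9076 (iv D6626) (iv F25403)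
theorem F34409 : act 3 n9076 = n9076 := d21_1 D9076 (iv D9076) (iv D6618) F18811 D6618
theorem F34410 : act 6 n9076 = n9076 := d27_2 F25404 D9076 (iv D9076)
def n9077 : Q := act 8 n6618
theorem D9077 : act 8 n6618 = n9077 := rfl
theorem F34411 : act 0 n9077 = n6720 := d7_1 D9077 (iv D6720) (iv F25402)
theorem F34412 : act 1 n9077 = n6627 := d14_1 D9077 (iv D6627) (iv F25403)
theorem F34413 : act 3 n9077 = n6619 := d25_1 D9077 (iv D6619) D6618
theorem F34414 : act 6 n9077 = n9077 := d34_1 D9077 (iv D9077) F25404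
def n9078 : Q := act 6 n6620
theorem D9078 : act 6 n6620 = n9078 := rfl
theorem F34415 : act 0 n9078 = n6633 := d5_1 D9078 (iv D6633) (iv F25411)
theorem F34418 : act 8 n9078 = n6667 := d34_2 (iv F25414) D9078 (iv D6667)
def n9079 : Q := act 7 n6620
theorem D9079 : act 7 n6620 = n9079 := rfl
def n9080 : Q := act 5 n6621
theorem D9080 : act 5 n6621 = n9080 := rfl
theorem F34422 : act 0 n9080 = n6635 := d4_1 D9080 (iv D6635) (iv F25415)
theorem F34423 : act 2 n9080 = n6628 := d17_1 D9080 (iv D6628) (iv F25416)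
def n9083 : Q := act 8 n6622
theorem D9083 : act 8 n6622 = n9083 := rfl
theorem F34437 : act 7 n9083 = n6672 := d35_1 D9083 (iv D6672) (iv D4869) (iv F18816) D6622
def n9084 : Q := act 3 n6623
theorem D9084 : act 3 n6623 = n9084 := rfl
theorem F34440 : act 6 n9084 = n6624 := d23_2 (iv F25426) D9084 (iv D6624)
def n9085 : Q := act 8 n6623
theorem D9085 : act 8 n6623 = n9085 := rfl
theorem F34445 : act 7 n9085 = n6674 := d35_1 D9085 (iv D6674) (iv D4870) (iv F18820) D6623
def n9086 : Q := act 4 n6624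
theorem D9086 : act 4 n6624 = n9086 := rfl
def n9087 : Q := act 8 n6624
theorem D9087 : act 8 n6624 = n9087 := rfl
theorem F34449 : act 5 n9087 = n6627 := d32_1 D9087 (iv D6627) (iv F25428)
def n9088 : Q := act 5 n6626
theorem D9088 : act 5 n6626 = n9088 := rfl
theorem F34450 : act 0 n9088 = n6643 := d4_1 D9088 (iv D6643) (iv F25433)
theorem F34451 : act 3 n9088 = n9088 := d22_1 D9088 (iv D9088) F25434
def n9089 : Q := act 8 n6626
theorem D9089 : act 8 n6626 = n9089 := rfl
theorem F34452 : act 0 n9089 = n6644 := d7_1 D9089 (iv D6644) (iv F25433)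
theorem F34453 : act 3 n9089 = n9089 := d25_1 D9089 (iv D9089) F25434
theorem F34454 : act 4 n9089 = n6627 := d29_1 D9089 (iv D6627) D6626
theorem F34455 : act 6 n9089 = n9089 := d34_1 D9089 (iv D9089) F25435
def n9090 : Q := act 7 n6627
theorem D9090 : act 7 n6627 = n9090 := rfl
theorem F34456 : act 0 n9090 = n6645 := d6_1 D9090 (iv D6645) (iv F25436)
theorem F34457 : act 3 n9090 = n6679 := d24_1 D9090 (iv D6679) F18961 (iv F18830) (iv F25437)
theorem F34458 : act 6 n9090 = n9090 := d33_1 D9090 (iv D9090) F25438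
def n9096 : Q := act 5 n6633
theorem D9096 : act 5 n6633 = n9096 := rfl
theorem F34480 : act 1 n9096 = n6739 := d11_1 D9096 (iv D6739) (iv F25463)
theorem F34482 : act 3 n9096 = n6635 := d22_1 D9096 (iv D6635) (iv F25465)
def n9099 : Q := act 8 n6634
theorem D9099 : act 8 n6634 = n9099 := rfl
theorem F34491 : act 1 n9099 = n6742 := d14_1 D9099 (iv D6742) (iv F25467)
theorem F34494 : act 7 n9099 = n6688 := d35_1 D9099 (iv D6688) (iv D4881) (iv F18851) D6634
def n9108 : Q := act 5 n6641
theorem D9108 : act 5 n6641 = n9108 := rfl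
theorem F34520 : act 1 n9108 = n6751 := d11_1 D9108 (iv D6751) (iv F25494)
theorem F34521 : act 4 n9108 = n6643 := d26_1 D9108 (iv D6643) (iv D4850) (iv F18865) D6641
def n9110 : Q := act 7 n6642
theorem D9110 : act 7 n6642 = n9110 := rfl
theorem F34525 : act 3 n9110 = n6699 := d24_1 D9110 (iv D6699) F19018 (iv F18869) (iv F25496)
theorem F34526 : act 5 n9110 = n6645 := d31_1 D9110 (iv D6645) (iv F25497)
def n9111 : Q := act 6 n6643
theorem D9111 : act 6 n6643 = n9111 := rfl
theorem F34527 : act 1 n9111 = n6754 := d12_1 D9111 (iv D6754) (iv F25498)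
def n9112 : Q := act 8 n6643
theorem D9112 : act 8 n6643 = n9112 := rfl
theorem F34530 : act 1 n9112 = n6755 := d14_1 D9112 (iv D6755) (iv F25498)
theorem F34532 : act 5 n9112 = n6644 := d32_1 D9112 (iv D6644) D6643
def n9113 : Q := act 7 n6644
theorem D9113 : act 7 n6644 = n9113 := rfl
theorem F34533 : act 1 n9113 = n6756 := d13_1 D9113 (iv D6756) (iv F25500)
theorem F34534 : act 4 n9113 = n6645 := d28_1 D9113 (iv D6645) (iv F25502)
theorem F34535 : act 6 n9113 = n9113 := d33_1 D9113 (iv D9113) F25503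
def n9130 : Q := act 2 n6658
theorem D9130 : act 2 n6658 = n9130 := rfl
theorem F34595 : act 0 n9130 = n6770 := d1_1 D9130 (iv D6770) (iv F25551)
theorem F34596 : act 1 n9130 = n9130 := d8_1 D9130 (iv D9130) F25552 F18936 (iv F25552)
theorem F34597 : act 3 n9130 = n9130 := d15_2 D6658 D9130 (iv D9130) (iv D6658) F18917
theorem F34598 : act 5 n9130 = n9130 := d17_2 F25553 D9130 (iv D9130)
def n9131 : Q := act 6 n6658
theorem D9131 : act 6 n6658 = n9131 := rfl
theorem F34599 : act 0 n9131 = n6771 := d5_1 D9131 (iv D6771) (iv F25551)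
theorem F34600 : act 1 n9131 = n6667 := d12_1 D9131 (iv D6667) (iv F25552)
theorem F34601 : act 3 n9131 = n6659 := d23_1 D9131 (iv D6659) D6658
def n9132 : Q := act 7 n6658
theorem D9132 : act 7 n6658 = n9132 := rfl
theorem F34602 : act 0 n9132 = n6772 := d6_1 D9132 (iv D6772) (iv F25551)
theorem F34603 : act 1 n9132 = n6668 := d13_1 D9132 (iv D6668) (iv F25552)
theorem F34604 : act 5 n9132 = n9132 := d31_1 D9132 (iv D9132) F25553
def n9134 : Q := act 7 n6659
theorem D9134 : act 7 n6659 = n9134 := rfl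
def n9135 : Q := act 3 n6660
theorem D9135 : act 3 n6660 = n9135 := rfl
theorem F34615 : act 0 n9135 = n6775 := d2_1 D9135 (iv D6775) (iv F25558)
theorem F34616 : act 1 n9135 = n6671 := d9_1 D9135 (iv D6671) (iv F25559)
theorem F34617 : act 5 n9135 = n9135 := d22_2 F25562 D9135 (iv D9135)
def n9136 : Q := act 8 n6660
theorem D9136 : act 8 n6660 = n9136 := rfl
theorem F34621 : act 4 n9136 = n6663 := d29_1 D9136 (iv D6663) (iv F25561)
def n9137 : Q := act 3 n6661
theorem D9137 : act 3 n6661 = n9137 := rfl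
theorem F34623 : act 0 n9137 = n6777 := d2_1 D9137 (iv D6777) (iv F25563)
theorem F34624 : act 1 n9137 = n6673 := d9_1 D9137 (iv D6673) (iv F25564)
theorem F34625 : act 5 n9137 = n9137 := d22_2 F25566 D9137 (iv D9137)
theorem F34626 : act 6 n9137 = n6662 := d23_2 (iv F25567) D9137 (iv D6662)
def n9138 : Q := act 8 n6661
theorem D9138 : act 8 n6661 = n9138 := rfl
theorem F34631 : act 6 n9138 = n6663 := d34_1 D9138 (iv D6663) (iv F25567)
def n9139 : Q := act 2 n6662
theorem D9139 : act 2 n6662 = n9139 := rfl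
theorem F34632 : act 0 n9139 = n6779 := d1_1 D9139 (iv D6779) (iv F25568)
theorem F34633 : act 1 n9139 = n9139 := d8_1 D9139 (iv D9139) F25569 F18950 (iv F25569)
theorem F34634 : act 3 n9139 = n9139 := d15_2 D6662 D9139 (iv D9139) (iv D6662) F18925
theorem F34635 : act 5 n9139 = n6664 := d17_2 (iv F25570) D9139 (iv D6664)
def n9140 : Q := act 4 n6662
theorem D9140 : act 4 n6662 = n9140 := rfl
theorem F34636 : act 0 n9140 = n6780 := d3_1 D9140 (iv D6780) (iv F25568)
theorem F34637 : act 1 n9140 = n6675 := d10_1 D9140 (iv D6675) (iv F25569)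
def n9141 : Q := act 8 n6662
theorem D9141 : act 8 n6662 = n9141 := rfl
theorem F34638 : act 0 n9141 = n6781 := d7_1 D9141 (iv D6781) (iv F25568)
theorem F34639 : act 1 n9141 = n6676 := d14_1 D9141 (iv D6676) (iv F25569)
theorem F34640 : act 3 n9141 = n6663 := d25_1 D9141 (iv D6663) D6662
theorem F34641 : act 5 n9141 = n6666 := d32_1 D9141 (iv D6666) (iv F25570)
def n9142 : Q := act 4 n6664
theorem D9142 : act 4 n6664 = n9142 := rfl
theorem F34642 : act 0 n9142 = n6782 := d3_1 D9142 (iv D6782) (iv F25575)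
theorem F34643 : act 1 n9142 = n9142 := d10_1 D9142 (iv D9142) F25576
theorem F34644 : act 2 n9142 = n6665 := d16_1 D9142 (iv D6665) D6664
theorem F34645 : act 6 n9142 = n9142 := d27_2 F25578 D9142 (iv D9142)
def n9143 : Q := act 8 n6664
theorem D9143 : act 8 n6664 = n9143 := rfl
theorem F34646 : act 0 n9143 = n6783 := d7_1 D9143 (iv D6783) (iv F25575)
theorem F34647 : act 1 n9143 = n9143 := d14_1 D9143 (iv D9143) F25576
theorem F34648 : act 2 n9143 = n6666 := d20_1 D9143 (iv D6666) D6664
theorem F34649 : act 3 n9143 = n9143 := d25_1 D9143 (iv D9143) F25577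
theorem F34650 : act 6 n9143 = n9143 := d34_1 D9143 (iv D9143) F25578
def n9144 : Q := act 5 n6665
theorem D9144 : act 5 n6665 = n9144 := rfl
theorem F34651 : act 0 n9144 = n6784 := d4_1 D9144 (iv D6784) (iv F25579)
theorem F34652 : act 1 n9144 = n6677 := d11_1 D9144 (iv D6677) (iv F25580)
theorem F34653 : act 3 n9144 = n9144 := d22_1 D9144 (iv D9144) F25581
def n9145 : Q := act 8 n6665
theorem D9145 : act 8 n6665 = n9145 := rfl
theorem F34654 : act 0 n9145 = n6785 := d7_1 D9145 (iv D6785) (iv F25579)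
theorem F34655 : act 1 n9145 = n6678 := d14_1 D9145 (iv D6678) (iv F25580)
theorem F34656 : act 3 n9145 = n9145 := d25_1 D9145 (iv D9145) F25581
theorem F34657 : act 4 n9145 = n6666 := d29_1 D9145 (iv D6666) D6665
theorem F34658 : act 6 n9145 = n9145 := d34_1 D9145 (iv D9145) F25582
def n9146 : Q := act 7 n6666
theorem D9146 : act 7 n6666 = n9146 := rfl
theorem F34659 : act 0 n9146 = n6786 := d6_1 D9146 (iv D6786) (iv F25583)
theorem F34660 : act 1 n9146 = n6679 := d13_1 D9146 (iv D6679) (iv F25584)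
theorem F34661 : act 6 n9146 = n9146 := d33_1 D9146 (iv D9146) F25586
def n9148 : Q := act 7 n6667
theorem D9148 : act 7 n6667 = n9148 := rfl
theorem F34666 : act 0 n9148 = n6686 := d6_1 D9148 (iv D6686) (iv F25587)
theorem F34667 : act 2 n9148 = n9148 := d19_1 D9148 (iv D9148) F25588
theorem F34668 : act 6 n9148 = n6668 := d33_1 D9148 (iv D6668) D6667
def n9149 : Q := act 3 n6668
theorem D9149 : act 3 n6668 = n9149 := rfl
theorem F34669 : act 0 n9149 = n6687 := d2_1 D9149 (iv D6687) (iv F25590)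
theorem F34670 : act 5 n9149 = n9149 := d22_2 F25592 D9149 (iv D9149)
theorem F34671 : act 7 n9149 = n6671 := d24_2 D6668 D9149 (iv D6671) (iv D4869) D4867
def n9150 : Q := act 8 n6668
theorem D9150 : act 8 n6668 = n9150 := rfl
theorem F34672 : act 0 n9150 = n6688 := d7_1 D9150 (iv D6688) (iv F25590)
theorem F34673 : act 2 n9150 = n9150 := d20_1 D9150 (iv D9150) F25591
theorem F34674 : act 5 n9150 = n9150 := d32_1 D9150 (iv D9150) F25592
def n9154 : Q := act 2 n6671
theorem D9154 : act 2 n6671 = n9154 := rfl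
def n9155 : Q := act 4 n6671
theorem D9155 : act 4 n6671 = n9155 := rfl
theorem F34689 : act 0 n9155 = n6693 := d3_1 D9155 (iv D6693) (iv F25601)
theorem F34690 : act 3 n9155 = n6675 := d21_1 D9155 (iv D6675) (iv D4871) (iv F18943) D6671
def n9157 : Q := act 4 n6673
theorem D9157 : act 4 n6673 = n9157 := rfl
theorem F34694 : act 0 n9157 = n6695 := d3_1 D9157 (iv D6695) (iv F25607)
theorem F34695 : act 2 n9157 = n9157 := d16_1 D9157 (iv D9157) F25608
theorem F34696 : act 6 n9157 = n6675 := d27_2 (iv F25610) D9157 (iv D6675)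
def n9158 : Q := act 8 n6673
theorem D9158 : act 8 n6673 = n9158 := rfl
theorem F34699 : act 3 n9158 = n6674 := d25_1 D9158 (iv D6674) D6673
theorem F34701 : act 6 n9158 = n6676 := d34_1 D9158 (iv D6676) (iv F25610)
def n9159 : Q := act 5 n6675
theorem D9159 : act 5 n6675 = n9159 := rfl
theorem F34702 : act 0 n9159 = n6697 := d4_1 D9159 (iv D6697) (iv F25615)
theorem F34703 : act 2 n9159 = n9159 := d17_1 D9159 (iv D9159) F25616
theorem F34704 : act 4 n9159 = n6677 := d26_1 D9159 (iv D6677) (iv D4873) (iv F18951) D6675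
def n9160 : Q := act 8 n6675
theorem D9160 : act 8 n6675 = n9160 := rfl
theorem F34705 : act 0 n9160 = n6698 := d7_1 D9160 (iv D6698) (iv F25615)
theorem F34706 : act 2 n9160 = n9160 := d20_1 D9160 (iv D9160) F25616
theorem F34707 : act 4 n9160 = n6676 := d29_1 D9160 (iv D6676) D6675
def n9161 : Q := act 7 n6676
theorem D9161 : act 7 n6676 = n9161 := rfl
theorem F34708 : act 0 n9161 = n6699 := d6_1 D9161 (iv D6699) (iv F25617)
theorem F34709 : act 2 n9161 = n9161 := d19_1 D9161 (iv D9161) F25618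
theorem F34710 : act 5 n9161 = n6679 := d31_1 D9161 (iv D6679) (iv F25620)
def n9162 : Q := act 6 n6677
theorem D9162 : act 6 n6677 = n9162 := rfl
theorem F34711 : act 0 n9162 = n6700 := d5_1 D9162 (iv D6700) (iv F25621)
theorem F34712 : act 2 n9162 = n9162 := d18_1 D9162 (iv D9162) F25622
theorem F34713 : act 3 n9162 = n9162 := d23_1 D9162 (iv D9162) F25623
theorem F34714 : act 5 n9162 = n9162 := d30_1 D9162 (iv D9162) (iv D6677) F18958 D6677
def n9163 : Q := act 8 n6677
theorem D9163 : act 8 n6677 = n9163 := rfl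
theorem F34715 : act 0 n9163 = n6701 := d7_1 D9163 (iv D6701) (iv F25621)
theorem F34716 : act 2 n9163 = n9163 := d20_1 D9163 (iv D9163) F25622
theorem F34717 : act 3 n9163 = n9163 := d25_1 D9163 (iv D9163) F25623
theorem F34718 : act 5 n9163 = n6678 := d32_1 D9163 (iv D6678) D6677
def n9164 : Q := act 7 n6678
theorem D9164 : act 7 n6678 = n9164 := rfl
theorem F34719 : act 0 n9164 = n6702 := d6_1 D9164 (iv D6702) (iv F25624)
theorem F34720 : act 2 n9164 = n9164 := d19_1 D9164 (iv D9164) F25625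
theorem F34721 : act 4 n9164 = n6679 := d28_1 D9164 (iv D6679) (iv F25627)
theorem F34722 : act 6 n9164 = n9164 := d33_1 D9164 (iv D9164) F25628
def n9174 : Q := act 3 n6686
theorem D9174 : act 3 n6686 = n9174 := rfl
def n9175 : Q := act 8 n6686
theorem D9175 : act 8 n6686 = n9175 := rfl
theorem F34767 : act 1 n9175 = n6808 := d14_1 D9175 (iv D6808) (iv F25659)
theorem F34769 : act 6 n9175 = n6688 := d34_1 D9175 (iv D6688) (iv F25661)
def n9176 : Q := act 2 n6687
theorem D9176 : act 2 n6687 = n9176 := rfl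
def n9177 : Q := act 4 n6687
theorem D9177 : act 4 n6687 = n9177 := rfl
theorem F34774 : act 1 n9177 = n6809 := d10_1 D9177 (iv D6809) (iv F25662)
theorem F34775 : act 7 n9177 = n6693 := d28_2 (iv F25664) D9177 (iv D6693)
def n9178 : Q := act 8 n6687
theorem D9178 : act 8 n6687 = n9178 := rfl
theorem F34776 : act 1 n9178 = n6810 := d14_1 D9178 (iv D6810) (iv F25662)
theorem F34777 : act 3 n9178 = n6688 := d25_1 D9178 (iv D6688) D6687
def n9184 : Q := act 4 n6692
theorem D9184 : act 4 n6692 = n9184 := rfl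
theorem F34797 : act 2 n9184 = n6693 := d16_1 D9184 (iv D6693) D6692
def n9186 : Q := act 5 n6693
theorem D9186 : act 5 n6693 = n9186 := rfl
theorem F34803 : act 1 n9186 = n6815 := d11_1 D9186 (iv D6815) (iv F25682)
theorem F34804 : act 3 n9186 = n6697 := d22_1 D9186 (iv D6697) (iv F25683)
theorem F34805 : act 4 n9186 = n9186 := d26_1 D9186 (iv D9186) (iv D6693) F19001 D6693
def n9187 : Q := act 8 n6693
theorem D9187 : act 8 n6693 = n9187 := rfl
theorem F34807 : act 3 n9187 = n6698 := d25_1 D9187 (iv D6698) (iv F25683)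
theorem F34808 : act 4 n9187 = n6694 := d29_1 D9187 (iv D6694) D6693
def n9189 : Q := act 5 n6695
theorem D9189 : act 5 n6695 = n9189 := rfl
theorem F34811 : act 1 n9189 = n6818 := d11_1 D9189 (iv D6818) (iv F25687)
theorem F34812 : act 2 n9189 = n9189 := d17_1 D9189 (iv D9189) F25688
theorem F34813 : act 4 n9189 = n9189 := d26_1 D9189 (iv D9189) (iv D6695) F19008 D6695
def n9190 : Q := act 8 n6695
theorem D9190 : act 8 n6695 = n9190 := rfl
theorem F34816 : act 4 n9190 = n6696 := d29_1 D9190 (iv D6696) D6695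
theorem F34817 : act 6 n9190 = n6698 := d34_1 D9190 (iv D6698) (iv F25689)
def n9191 : Q := act 7 n6696
theorem D9191 : act 7 n6696 = n9191 := rfl
theorem F34821 : act 6 n9191 = n6699 := d33_1 D9191 (iv D6699) (iv F25694)
def n9192 : Q := act 6 n6697
theorem D9192 : act 6 n6697 = n9192 := rfl
theorem F34822 : act 1 n9192 = n6821 := d12_1 D9192 (iv D6821) (iv F25695)
theorem F34823 : act 2 n9192 = n9192 := d18_1 D9192 (iv D9192) F25696
theorem F34824 : act 4 n9192 = n6700 := d27_1 D9192 (iv D6700) (iv F25697)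
def n9193 : Q := act 8 n6697
theorem D9193 : act 8 n6697 = n9193 := rfl
theorem F34825 : act 1 n9193 = n6822 := d14_1 D9193 (iv D6822) (iv F25695)
theorem F34826 : act 2 n9193 = n9193 := d20_1 D9193 (iv D9193) F25696
theorem F34827 : act 4 n9193 = n6701 := d29_1 D9193 (iv D6701) (iv F25697)
theorem F34828 : act 5 n9193 = n6698 := d32_1 D9193 (iv D6698) D6697
def n9194 : Q := act 7 n6698
theorem D9194 : act 7 n6698 = n9194 := rfl
theorem F34829 : act 1 n9194 = n6823 := d13_1 D9194 (iv D6823) (iv F25698)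
theorem F34830 : act 2 n9194 = n9194 := d19_1 D9194 (iv D9194) F25699
theorem F34831 : act 4 n9194 = n6699 := d28_1 D9194 (iv D6699) (iv F25700)
def n9195 : Q := act 8 n6700
theorem D9195 : act 8 n6700 = n9195 := rfl
theorem F34832 : act 1 n9195 = n6824 := d14_1 D9195 (iv D6824) (iv F25704)
theorem F34833 : act 2 n9195 = n9195 := d20_1 D9195 (iv D9195) F25705
theorem F34834 : act 3 n9195 = n9195 := d25_1 D9195 (iv D9195) F25706
theorem F34835 : act 5 n9195 = n9195 := d32_1 D9195 (iv D9195) F25707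
theorem F34836 : act 6 n9195 = n6701 := d34_1 D9195 (iv D6701) D6700
def n9196 : Q := act 7 n6701
theorem D9196 : act 7 n6701 = n9196 := rfl
theorem F34837 : act 1 n9196 = n6825 := d13_1 D9196 (iv D6825) (iv F25708)
theorem F34838 : act 2 n9196 = n9196 := d19_1 D9196 (iv D9196) F25709
theorem F34839 : act 5 n9196 = n6702 := d31_1 D9196 (iv D6702) (iv F25711)
def n9197 : Q := act 3 n6702
theorem D9197 : act 3 n6702 = n9197 := rfl
theorem F34840 : act 1 n9197 = n6826 := d9_1 D9197 (iv D6826) (iv F25712)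
theorem F34841 : act 6 n9197 = n9197 := d23_2 F25715 D9197 (iv D9197)
theorem F34842 : act 7 n9197 = n9197 := d24_2 D6702 D9197 (iv D9197) (iv D6702) F19025
def n9206 : Q := act 2 n6712
theorem D9206 : act 2 n6712 = n9206 := rfl
theorem F34880 : act 1 n9206 = n6827 := d8_1 D9206 (iv D6827) F19363 (iv F19089) (iv F25756)
theorem F34881 : act 3 n9206 = n9206 := d15_2 D6712 D9206 (iv D9206) (iv D6712) F19071
theorem F34882 : act 5 n9206 = n9206 := d17_2 F25757 D9206 (iv D9206)
theorem F34883 : act 8 n9206 = n6770 := d20_2 (iv F25758) D9206 (iv D6770)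
def n9207 : Q := act 6 n6712
theorem D9207 : act 6 n6712 = n9207 := rfl
theorem F34884 : act 1 n9207 = n6721 := d12_1 D9207 (iv D6721) (iv F25756)
theorem F34886 : act 8 n9207 = n6771 := d34_2 (iv F25758) D9207 (iv D6771)
def n9208 : Q := act 7 n6712
theorem D9208 : act 7 n6712 = n9208 := rfl
theorem F34887 : act 1 n9208 = n6722 := d13_1 D9208 (iv D6722) (iv F25756)
theorem F34888 : act 5 n9208 = n9208 := d31_1 D9208 (iv D9208) F25757
def n9209 : Q := act 5 n6713
theorem D9209 : act 5 n6713 = n9209 := rfl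
theorem F34889 : act 1 n9209 = n6723 := d11_1 D9209 (iv D6723) (iv F25759)
def n9212 : Q := act 8 n6714
theorem D9212 : act 8 n6714 = n9212 := rfl
theorem F34904 : act 7 n9212 = n6776 := d35_1 D9212 (iv D6776) (iv D4946) (iv F19073) D6714
def n9213 : Q := act 3 n6715
theorem D9213 : act 3 n6715 = n9213 := rfl
theorem F34905 : act 1 n9213 = n6727 := d9_1 D9213 (iv D6727) (iv F25767)
theorem F34907 : act 6 n9213 = n6716 := d23_2 (iv F25770) D9213 (iv D6716)
def n9214 : Q := act 8 n6715
theorem D9214 : act 8 n6715 = n9214 := rfl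
theorem F34912 : act 7 n9214 = n6778 := d35_1 D9214 (iv D6778) (iv D4947) (iv F19077) D6715
def n9215 : Q := act 2 n6716
theorem D9215 : act 2 n6716 = n9215 := rfl
theorem F34913 : act 1 n9215 = n9215 := d8_1 D9215 (iv D9215) F25771 F19105 (iv F25771)
theorem F34914 : act 3 n9215 = n9215 := d15_2 D6716 D9215 (iv D9215) (iv D6716) F19079
theorem F34915 : act 5 n9215 = n6718 := d17_2 (iv F25772) D9215 (iv D6718)
def n9216 : Q := act 4 n6716
theorem D9216 : act 4 n6716 = n9216 := rfl
theorem F34916 : act 1 n9216 = n6729 := d10_1 D9216 (iv D6729) (iv F25771)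
def n9217 : Q := act 8 n6716
theorem D9217 : act 8 n6716 = n9217 := rfl
theorem F34917 : act 1 n9217 = n6730 := d14_1 D9217 (iv D6730) (iv F25771)
theorem F34919 : act 5 n9217 = n6720 := d32_1 D9217 (iv D6720) (iv F25772)
def n9218 : Q := act 4 n6718
theorem D9218 : act 4 n6718 = n9218 := rfl
theorem F34920 : act 1 n9218 = n9218 := d10_1 D9218 (iv D9218) F25777
theorem F34921 : act 2 n9218 = n6719 := d16_1 D9218 (iv D6719) D6718
theorem F34922 : act 6 n9218 = n9218 := d27_2 F25779 D9218 (iv D9218)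
def n9219 : Q := act 8 n6718
theorem D9219 : act 8 n6718 = n9219 := rfl
theorem F34923 : act 1 n9219 = n9219 := d14_1 D9219 (iv D9219) F25777
theorem F34924 : act 2 n9219 = n6720 := d20_1 D9219 (iv D6720) D6718
theorem F34925 : act 3 n9219 = n9219 := d25_1 D9219 (iv D9219) F25778
theorem F34926 : act 6 n9219 = n9219 := d34_1 D9219 (iv D9219) F25779
def n9220 : Q := act 5 n6719
theorem D9220 : act 5 n6719 = n9220 := rfl
theorem F34927 : act 1 n9220 = n6731 := d11_1 D9220 (iv D6731) (iv F25780)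
theorem F34928 : act 3 n9220 = n9220 := d22_1 D9220 (iv D9220) F25781
def n9221 : Q := act 8 n6719
theorem D9221 : act 8 n6719 = n9221 := rfl
theorem F34929 : act 1 n9221 = n6732 := d14_1 D9221 (iv D6732) (iv F25780)
theorem F34930 : act 3 n9221 = n9221 := d25_1 D9221 (iv D9221) F25781
theorem F34931 : act 4 n9221 = n6720 := d29_1 D9221 (iv D6720) D6719
theorem F34932 : act 6 n9221 = n9221 := d34_1 D9221 (iv D9221) F25782
def n9222 : Q := act 7 n6720
theorem D9222 : act 7 n6720 = n9222 := rfl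
theorem F34933 : act 1 n9222 = n6733 := d13_1 D9222 (iv D6733) (iv F25783)
theorem F34934 : act 3 n9222 = n6786 := d24_1 D9222 (iv D6786) F19253 (iv F19087) (iv F25784)
theorem F34935 : act 6 n9222 = n9222 := d33_1 D9222 (iv D9222) F25785
def n9223 : Q := act 5 n6721
theorem D9223 : act 5 n6721 = n9223 := rfl
theorem F34937 : act 2 n9223 = n6838 := d17_1 D9223 (iv D6838) (iv F25787)
theorem F34938 : act 3 n9223 = n6723 := d22_1 D9223 (iv D6723) (iv F25788)
theorem F34940 : act 8 n9223 = n6787 := d32_2 (iv F25789) D9223 (iv D6787)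
def n9224 : Q := act 7 n6721
theorem D9224 : act 7 n6721 = n9224 := rfl
theorem F34942 : act 2 n9224 = n6839 := d19_1 D9224 (iv D6839) (iv F25787)
theorem F34943 : act 6 n9224 = n6722 := d33_1 D9224 (iv D6722) D6721
def n9225 : Q := act 3 n6722
theorem D9225 : act 3 n6722 = n9225 := rfl
theorem F34944 : act 0 n9225 = n6741 := d2_1 D9225 (iv D6741) (iv F25790)
def n9226 : Q := act 8 n6722
theorem D9226 : act 8 n6722 = n9226 := rfl
theorem F34947 : act 0 n9226 = n6742 := d7_1 D9226 (iv D6742) (iv F25790)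
theorem F34948 : act 2 n9226 = n6841 := d20_1 D9226 (iv D6841) (iv F25791)
theorem F34949 : act 5 n9226 = n9226 := d32_1 D9226 (iv D9226) F25792
theorem F34950 : act 7 n9226 = n6790 := d35_1 D9226 (iv D6790) (iv D4954) (iv F19091) D6722
def n9231 : Q := act 4 n6725
theorem D9231 : act 4 n6725 = n9231 := rfl
theorem F34966 : act 0 n9231 = n6747 := d3_1 D9231 (iv D6747) (iv F25802)
theorem F34967 : act 3 n9231 = n6729 := d21_1 D9231 (iv D6729) (iv D4911) (iv F19098) D6725
def n9233 : Q := act 4 n6727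
theorem D9233 : act 4 n6727 = n9233 := rfl
theorem F34973 : act 6 n9233 = n6729 := d27_2 (iv F25812) D9233 (iv D6729)
def n9235 : Q := act 5 n6729
theorem D9235 : act 5 n6729 = n9235 := rfl
theorem F34979 : act 0 n9235 = n6751 := d4_1 D9235 (iv D6751) (iv F25818)
theorem F34980 : act 2 n9235 = n9235 := d17_1 D9235 (iv D9235) F25819
theorem F34981 : act 4 n9235 = n6731 := d26_1 D9235 (iv D6731) (iv D4913) (iv F19106) D6729
def n9236 : Q := act 8 n6729
theorem D9236 : act 8 n6729 = n9236 := rfl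
theorem F34984 : act 4 n9236 = n6730 := d29_1 D9236 (iv D6730) D6729
def n9237 : Q := act 7 n6730
theorem D9237 : act 7 n6730 = n9237 := rfl
theorem F34987 : act 3 n9237 = n6800 := d24_1 D9237 (iv D6800) F19288 (iv F19110) (iv F25822)
theorem F34988 : act 5 n9237 = n6733 := d31_1 D9237 (iv D6733) (iv F25823)
def n9238 : Q := act 6 n6731
theorem D9238 : act 6 n6731 = n9238 := rfl
theorem F34989 : act 0 n9238 = n6754 := d5_1 D9238 (iv D6754) (iv F25824)
theorem F34990 : act 2 n9238 = n9238 := d18_1 D9238 (iv D9238) F25825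
theorem F34991 : act 3 n9238 = n9238 := d23_1 D9238 (iv D9238) F25826
theorem F34992 : act 5 n9238 = n9238 := d30_1 D9238 (iv D9238) (iv D6731) F19114 D6731
def n9239 : Q := act 8 n6731
theorem D9239 : act 8 n6731 = n9239 := rfl
theorem F34993 : act 0 n9239 = n6755 := d7_1 D9239 (iv D6755) (iv F25824)
theorem F34994 : act 2 n9239 = n9239 := d20_1 D9239 (iv D9239) F25825
theorem F34995 : act 3 n9239 = n9239 := d25_1 D9239 (iv D9239) F25826
theorem F34996 : act 5 n9239 = n6732 := d32_1 D9239 (iv D6732) D6731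
def n9240 : Q := act 7 n6732
theorem D9240 : act 7 n6732 = n9240 := rfl
theorem F34997 : act 0 n9240 = n6756 := d6_1 D9240 (iv D6756) (iv F25827)
theorem F34998 : act 2 n9240 = n9240 := d19_1 D9240 (iv D9240) F25828
theorem F34999 : act 4 n9240 = n6733 := d28_1 D9240 (iv D6733) (iv F25830)
theorem F35000 : act 6 n9240 = n9240 := d33_1 D9240 (iv D9240) F25831
def n9247 : Q := act 4 n6739
theorem D9247 : act 4 n6739 = n9247 := rfl
theorem F35031 : act 2 n9247 = n6852 := d16_1 D9247 (iv D6852) (iv F25861)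
theorem F35034 : act 8 n9247 = n6805 := d29_2 (iv F25864) D9247 (iv D6805)
def n9250 : Q := act 8 n6740
theorem D9250 : act 8 n6740 = n9250 := rfl
theorem F35040 : act 2 n9250 = n6855 := d20_1 D9250 (iv D6855) (iv F25865)
theorem F35041 : act 6 n9250 = n6742 := d34_1 D9250 (iv D6742) (iv F25866)
theorem F35042 : act 7 n9250 = n6808 := d35_1 D9250 (iv D6808) (iv D4969) (iv F19147) D6740
def n9253 : Q := act 8 n6741
theorem D9253 : act 8 n6741 = n9253 := rfl
theorem F35047 : act 3 n9253 = n6742 := d25_1 D9253 (iv D6742) D6741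
def n9262 : Q := act 5 n6747
theorem D9262 : act 5 n6747 = n9262 := rfl
theorem F35069 : act 3 n9262 = n6751 := d22_1 D9262 (iv D6751) (iv F25883)
def n9264 : Q := act 7 n6748
theorem D9264 : act 7 n6748 = n9264 := rfl
theorem F35073 : act 3 n9264 = n6817 := d24_1 D9264 (iv D6817) F19334 (iv F19161) (iv F25884)
def n9267 : Q := act 7 n6750
theorem D9267 : act 7 n6750 = n9267 := rfl
theorem F35081 : act 3 n9267 = n6820 := d24_1 D9267 (iv D6820) F19339 (iv F19168) (iv F25889)
def n9268 : Q := act 6 n6751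
theorem D9268 : act 6 n6751 = n9268 := rfl
theorem F35085 : act 4 n9268 = n6754 := d27_1 D9268 (iv D6754) (iv F25893)
def n9269 : Q := act 8 n6751
theorem D9269 : act 8 n6751 = n9269 := rfl
theorem F35087 : act 4 n9269 = n6755 := d29_1 D9269 (iv D6755) (iv F25893)
theorem F35088 : act 5 n9269 = n6752 := d32_1 D9269 (iv D6752) D6751
def n9271 : Q := act 8 n6754
theorem D9271 : act 8 n6754 = n9271 := rfl
theorem F35091 : act 2 n9271 = n9271 := d20_1 D9271 (iv D9271) F25899
theorem F35092 : act 3 n9271 = n9271 := d25_1 D9271 (iv D9271) F25900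
theorem F35093 : act 5 n9271 = n9271 := d32_1 D9271 (iv D9271) F25901
theorem F35094 : act 6 n9271 = n6755 := d34_1 D9271 (iv D6755) D6754
def n9272 : Q := act 7 n6755
theorem D9272 : act 7 n6755 = n9272 := rfl
theorem F35095 : act 2 n9272 = n9272 := d19_1 D9272 (iv D9272) F25902
theorem F35096 : act 5 n9272 = n6756 := d31_1 D9272 (iv D6756) (iv F25904)
def n9273 : Q := act 3 n6756
theorem D9273 : act 3 n6756 = n9273 := rfl
theorem F35097 : act 4 n9273 = n6826 := d21_2 (iv F25906) D9273 (iv D6826) F19355 (iv F19180)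
theorem F35098 : act 6 n9273 = n9273 := d23_2 F25907 D9273 (iv D9273)
theorem F35099 : act 7 n9273 = n9273 := d24_2 D6756 D9273 (iv D9273) (iv D6756) F19176
def n9288 : Q := act 6 n6770
theorem D9288 : act 6 n6770 = n9288 := rfl
theorem F35162 : act 1 n9288 = n6874 := d12_1 D9288 (iv D6874) (iv F25963)
theorem F35163 : act 2 n9288 = n6771 := d18_1 D9288 (iv D6771) D6770
theorem F35164 : act 3 n9288 = n9288 := d23_1 D9288 (iv D9288) F25964
def n9289 : Q := act 7 n6770
theorem D9289 : act 7 n6770 = n9289 := rfl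
theorem F35165 : act 1 n9289 = n6875 := d13_1 D9289 (iv D6875) (iv F25963)
theorem F35166 : act 2 n9289 = n6772 := d19_1 D9289 (iv D6772) D6770
theorem F35167 : act 5 n9289 = n9289 := d31_1 D9289 (iv D9289) F25965
def n9290 : Q := act 5 n6771
theorem D9290 : act 5 n6771 = n9290 := rfl
theorem F35168 : act 1 n9290 = n6787 := d11_1 D9290 (iv D6787) (iv F25966)
def n9291 : Q := act 7 n6771
theorem D9291 : act 7 n6771 = n9291 := rfl
theorem F35171 : act 1 n9291 = n6788 := d13_1 D9291 (iv D6788) (iv F25966)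
theorem F35172 : act 6 n9291 = n6772 := d33_1 D9291 (iv D6772) D6771
def n9292 : Q := act 3 n6772
theorem D9292 : act 3 n6772 = n9292 := rfl
theorem F35173 : act 1 n9292 = n6789 := d9_1 D9292 (iv D6789) (iv F25968)
theorem F35174 : act 5 n9292 = n9292 := d22_2 F25969 D9292 (iv D9292)
theorem F35175 : act 7 n9292 = n6775 := d24_2 D6772 D9292 (iv D6775) (iv D4946) D4944
def n9293 : Q := act 8 n6772
theorem D9293 : act 8 n6772 = n9293 := rfl
theorem F35176 : act 1 n9293 = n6790 := d14_1 D9293 (iv D6790) (iv F25968)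
theorem F35177 : act 5 n9293 = n9293 := d32_1 D9293 (iv D9293) F25969
def n9295 : Q := act 3 n6774
theorem D9295 : act 3 n6774 = n9295 := rfl
theorem F35184 : act 6 n9295 = n6775 := d23_2 (iv F25977) D9295 (iv D6775)
def n9297 : Q := act 2 n6775
theorem D9297 : act 2 n6775 = n9297 := rfl
theorem F35189 : act 1 n9297 = n9297 := d8_1 D9297 (iv D9297) F25978 F19270 (iv F25978)
theorem F35190 : act 3 n9297 = n9297 := d15_2 D6775 D9297 (iv D9297) (iv D6775) F19234
theorem F35191 : act 5 n9297 = n9297 := d17_2 F25979 D9297 (iv D9297)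
def n9298 : Q := act 4 n6775
theorem D9298 : act 4 n6775 = n9298 := rfl
theorem F35192 : act 1 n9298 = n6794 := d10_1 D9298 (iv D6794) (iv F25978)
theorem F35193 : act 3 n9298 = n6780 := d21_1 D9298 (iv D6780) (iv D4948) (iv F19235) D6775
def n9299 : Q := act 8 n6775
theorem D9299 : act 8 n6775 = n9299 := rfl
theorem F35195 : act 3 n9299 = n6776 := d25_1 D9299 (iv D6776) D6775
def n9300 : Q := act 2 n6777
theorem D9300 : act 2 n6777 = n9300 := rfl
theorem F35197 : act 1 n9300 = n6884 := d8_1 D9300 (iv D6884) F19548 (iv F19277) (iv F25984)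
theorem F35198 : act 3 n9300 = n9300 := d15_2 D6777 D9300 (iv D9300) (iv D6777) F19238
theorem F35199 : act 5 n9300 = n9300 := d17_2 F25985 D9300 (iv D9300)
theorem F35200 : act 6 n9300 = n6779 := d18_2 (iv F25986) D9300 (iv D6779)
def n9301 : Q := act 4 n6777
theorem D9301 : act 4 n6777 = n9301 := rfl
theorem F35201 : act 1 n9301 = n6796 := d10_1 D9301 (iv D6796) (iv F25984)
theorem F35202 : act 6 n9301 = n6780 := d27_2 (iv F25986) D9301 (iv D6780)
def n9302 : Q := act 8 n6777
theorem D9302 : act 8 n6777 = n9302 := rfl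
theorem F35204 : act 3 n9302 = n6778 := d25_1 D9302 (iv D6778) D6777
theorem F35206 : act 6 n9302 = n6781 := d34_1 D9302 (iv D6781) (iv F25986)
def n9303 : Q := act 4 n6779
theorem D9303 : act 4 n6779 = n9303 := rfl
theorem F35207 : act 1 n9303 = n6887 := d10_1 D9303 (iv D6887) (iv F25991)
theorem F35208 : act 2 n9303 = n6780 := d16_1 D9303 (iv D6780) D6779
def n9304 : Q := act 8 n6779
theorem D9304 : act 8 n6779 = n9304 := rfl
theorem F35209 : act 1 n9304 = n6888 := d14_1 D9304 (iv D6888) (iv F25991)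
theorem F35210 : act 2 n9304 = n6781 := d20_1 D9304 (iv D6781) D6779
theorem F35211 : act 3 n9304 = n9304 := d25_1 D9304 (iv D9304) F25992
theorem F35212 : act 5 n9304 = n6783 := d32_1 D9304 (iv D6783) (iv F25993)
def n9305 : Q := act 5 n6780
theorem D9305 : act 5 n6780 = n9305 := rfl
theorem F35213 : act 1 n9305 = n6798 := d11_1 D9305 (iv D6798) (iv F25994)
theorem F35214 : act 4 n9305 = n6784 := d26_1 D9305 (iv D6784) (iv D4951) (iv F19242) D6780
def n9306 : Q := act 8 n6780
theorem D9306 : act 8 n6780 = n9306 := rfl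
theorem F35215 : act 1 n9306 = n6799 := d14_1 D9306 (iv D6799) (iv F25994)
theorem F35216 : act 4 n9306 = n6781 := d29_1 D9306 (iv D6781) D6780
def n9307 : Q := act 7 n6781
theorem D9307 : act 7 n6781 = n9307 := rfl
theorem F35217 : act 1 n9307 = n6800 := d13_1 D9307 (iv D6800) (iv F25995)
theorem F35218 : act 5 n9307 = n6786 := d31_1 D9307 (iv D6786) (iv F25997)
def n9308 : Q := act 3 n6782
theorem D9308 : act 3 n6782 = n9308 := rfl
theorem F35219 : act 1 n9308 = n6892 := d9_1 D9308 (iv D6892) (iv F25998)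
theorem F35220 : act 2 n9308 = n9308 := d15_1 D9308 (iv D9308) F25999 F19250 (iv F25999)
theorem F35221 : act 4 n9308 = n9308 := d21_2 D6782 D9308 (iv D9308) (iv D6782) F19247
theorem F35222 : act 6 n9308 = n9308 := d23_2 F26000 D9308 (iv D9308)
def n9309 : Q := act 5 n6782
theorem D9309 : act 5 n6782 = n9309 := rfl
theorem F35223 : act 1 n9309 = n6893 := d11_1 D9309 (iv D6893) (iv F25998)
theorem F35224 : act 2 n9309 = n6784 := d17_1 D9309 (iv D6784) (iv F25999)
def n9310 : Q := act 8 n6782
theorem D9310 : act 8 n6782 = n9310 := rfl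
theorem F35225 : act 1 n9310 = n6894 := d14_1 D9310 (iv D6894) (iv F25998)
theorem F35226 : act 2 n9310 = n6785 := d20_1 D9310 (iv D6785) (iv F25999)
theorem F35227 : act 4 n9310 = n6783 := d29_1 D9310 (iv D6783) D6782
theorem F35228 : act 6 n9310 = n9310 := d34_1 D9310 (iv D9310) F26000
def n9311 : Q := act 7 n6783
theorem D9311 : act 7 n6783 = n9311 := rfl
theorem F35229 : act 1 n9311 = n6895 := d13_1 D9311 (iv D6895) (iv F26001)
theorem F35230 : act 2 n9311 = n6786 := d19_1 D9311 (iv D6786) (iv F26002)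
theorem F35231 : act 6 n9311 = n9311 := d33_1 D9311 (iv D9311) F26004
def n9312 : Q := act 6 n6784
theorem D9312 : act 6 n6784 = n9312 := rfl
theorem F35232 : act 1 n9312 = n6801 := d12_1 D9312 (iv D6801) (iv F26005)
theorem F35233 : act 3 n9312 = n9312 := d23_1 D9312 (iv D9312) F26006
theorem F35234 : act 5 n9312 = n9312 := d30_1 D9312 (iv D9312) (iv D6784) F19251 D6784
def n9313 : Q := act 8 n6784
theorem D9313 : act 8 n6784 = n9313 := rfl
theorem F35235 : act 1 n9313 = n6802 := d14_1 D9313 (iv D6802) (iv F26005)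
theorem F35236 : act 3 n9313 = n9313 := d25_1 D9313 (iv D9313) F26006
theorem F35237 : act 5 n9313 = n6785 := d32_1 D9313 (iv D6785) D6784
def n9314 : Q := act 7 n6785
theorem D9314 : act 7 n6785 = n9314 := rfl
theorem F35238 : act 1 n9314 = n6803 := d13_1 D9314 (iv D6803) (iv F26007)
theorem F35239 : act 4 n9314 = n6786 := d28_1 D9314 (iv D6786) (iv F26009)
theorem F35240 : act 6 n9314 = n9314 := d33_1 D9314 (iv D9314) F26010
def n9315 : Q := act 4 n6787
theorem D9315 : act 4 n6787 = n9315 := rfl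
theorem F35241 : act 0 n9315 = n6805 := d3_1 D9315 (iv D6805) (iv F26013)
theorem F35242 : act 2 n9315 = n6879 := d16_1 D9315 (iv D6879) (iv F26014)
def n9316 : Q := act 7 n6787
theorem D9316 : act 7 n6787 = n9316 := rfl
theorem F35246 : act 2 n9316 = n6880 := d19_1 D9316 (iv D6880) (iv F26014)
theorem F35247 : act 5 n9316 = n6788 := d31_1 D9316 (iv D6788) D6787
def n9317 : Q := act 3 n6788
theorem D9317 : act 3 n6788 = n9317 := rfl
theorem F35249 : act 0 n9317 = n6807 := d2_1 D9317 (iv D6807) (iv F26017)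
theorem F35251 : act 6 n9317 = n6789 := d23_2 (iv F26019) D9317 (iv D6789)
def n9318 : Q := act 8 n6788
theorem D9318 : act 8 n6788 = n9318 := rfl
theorem F35253 : act 0 n9318 = n6808 := d7_1 D9318 (iv D6808) (iv F26017)
theorem F35254 : act 2 n9318 = n6881 := d20_1 D9318 (iv D6881) (iv F26018)
theorem F35255 : act 6 n9318 = n6790 := d34_1 D9318 (iv D6790) (iv F26019)
def n9319 : Q := act 4 n6789
theorem D9319 : act 4 n6789 = n9319 := rfl
theorem F35256 : act 0 n9319 = n6809 := d3_1 D9319 (iv D6809) (iv F26020)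
theorem F35257 : act 2 n9319 = n9319 := d16_1 D9319 (iv D9319) F26021
theorem F35258 : act 7 n9319 = n6794 := d28_2 (iv F26023) D9319 (iv D6794)
def n9320 : Q := act 8 n6789
theorem D9320 : act 8 n6789 = n9320 := rfl
theorem F35259 : act 0 n9320 = n6810 := d7_1 D9320 (iv D6810) (iv F26020)
theorem F35260 : act 2 n9320 = n9320 := d20_1 D9320 (iv D9320) F26021
theorem F35261 : act 3 n9320 = n6790 := d25_1 D9320 (iv D6790) D6789
theorem F35262 : act 5 n9320 = n9320 := d32_1 D9320 (iv D9320) F26022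
def n9323 : Q := act 4 n6792
theorem D9323 : act 4 n6792 = n9323 := rfl
theorem F35274 : act 3 n9323 = n6796 := d21_1 D9323 (iv D6796) (iv D4959) (iv F19267) D6792
theorem F35275 : act 6 n9323 = n6794 := d27_2 (iv F26034) D9323 (iv D6794)
def n9325 : Q := act 5 n6794
theorem D9325 : act 5 n6794 = n9325 := rfl
theorem F35280 : act 0 n9325 = n6815 := d4_1 D9325 (iv D6815) (iv F26039)
theorem F35281 : act 2 n9325 = n9325 := d17_1 D9325 (iv D9325) F26040
theorem F35282 : act 3 n9325 = n6798 := d22_1 D9325 (iv D6798) (iv F26041)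
theorem F35283 : act 4 n9325 = n9325 := d26_1 D9325 (iv D9325) (iv D6794) F19271 D6794
def n9326 : Q := act 8 n6794
theorem D9326 : act 8 n6794 = n9326 := rfl
theorem F35286 : act 3 n9326 = n6799 := d25_1 D9326 (iv D6799) (iv F26041)
theorem F35287 : act 4 n9326 = n6795 := d29_1 D9326 (iv D6795) D6794
def n9328 : Q := act 5 n6796
theorem D9328 : act 5 n6796 = n9328 := rfl
theorem F35291 : act 0 n9328 = n6818 := d4_1 D9328 (iv D6818) (iv F26046)
theorem F35292 : act 2 n9328 = n6899 := d17_1 D9328 (iv D6899) (iv F26047)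
theorem F35293 : act 4 n9328 = n9328 := d26_1 D9328 (iv D9328) (iv D6796) F19278 D6796
def n9329 : Q := act 8 n6796
theorem D9329 : act 8 n6796 = n9329 := rfl
theorem F35295 : act 2 n9329 = n6900 := d20_1 D9329 (iv D6900) (iv F26047)
theorem F35296 : act 4 n9329 = n6797 := d29_1 D9329 (iv D6797) D6796
theorem F35297 : act 6 n9329 = n6799 := d34_1 D9329 (iv D6799) (iv F26048)
def n9330 : Q := act 7 n6797
theorem D9330 : act 7 n6797 = n9330 := rfl
theorem F35298 : act 0 n9330 = n6820 := d6_1 D9330 (iv D6820) (iv F26049)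
theorem F35299 : act 2 n9330 = n6901 := d19_1 D9330 (iv D6901) (iv F26050)
theorem F35301 : act 6 n9330 = n6800 := d33_1 D9330 (iv D6800) (iv F26053)
def n9331 : Q := act 6 n6798
theorem D9331 : act 6 n6798 = n9331 := rfl
theorem F35302 : act 0 n9331 = n6821 := d5_1 D9331 (iv D6821) (iv F26054)
theorem F35303 : act 2 n9331 = n6902 := d18_1 D9331 (iv D6902) (iv F26055)
theorem F35304 : act 4 n9331 = n6801 := d27_1 D9331 (iv D6801) (iv F26056)
def n9332 : Q := act 8 n6798
theorem D9332 : act 8 n6798 = n9332 := rfl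
theorem F35305 : act 0 n9332 = n6822 := d7_1 D9332 (iv D6822) (iv F26054)
theorem F35306 : act 2 n9332 = n6903 := d20_1 D9332 (iv D6903) (iv F26055)
theorem F35307 : act 4 n9332 = n6802 := d29_1 D9332 (iv D6802) (iv F26056)
theorem F35308 : act 5 n9332 = n6799 := d32_1 D9332 (iv D6799) D6798
def n9333 : Q := act 7 n6799
theorem D9333 : act 7 n6799 = n9333 := rfl
theorem F35309 : act 0 n9333 = n6823 := d6_1 D9333 (iv D6823) (iv F26057)
theorem F35310 : act 2 n9333 = n6904 := d19_1 D9333 (iv D6904) (iv F26058)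
theorem F35311 : act 4 n9333 = n6800 := d28_1 D9333 (iv D6800) (iv F26059)
def n9334 : Q := act 8 n6801
theorem D9334 : act 8 n6801 = n9334 := rfl
theorem F35312 : act 0 n9334 = n6824 := d7_1 D9334 (iv D6824) (iv F26063)
theorem F35313 : act 2 n9334 = n6905 := d20_1 D9334 (iv D6905) (iv F26064)
theorem F35314 : act 3 n9334 = n9334 := d25_1 D9334 (iv D9334) F26065
theorem F35315 : act 5 n9334 = n9334 := d32_1 D9334 (iv D9334) F26066
theorem F35316 : act 6 n9334 = n6802 := d34_1 D9334 (iv D6802) D6801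
def n9335 : Q := act 7 n6802
theorem D9335 : act 7 n6802 = n9335 := rfl
theorem F35317 : act 0 n9335 = n6825 := d6_1 D9335 (iv D6825) (iv F26067)
theorem F35318 : act 2 n9335 = n6906 := d19_1 D9335 (iv D6906) (iv F26068)
theorem F35319 : act 5 n9335 = n6803 := d31_1 D9335 (iv D6803) (iv F26070)
def n9336 : Q := act 3 n6803
theorem D9336 : act 3 n6803 = n9336 := rfl
theorem F35320 : act 0 n9336 = n6826 := d2_1 D9336 (iv D6826) (iv F26071)
theorem F35321 : act 6 n9336 = n9336 := d23_2 F26074 D9336 (iv D9336)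
theorem F35322 : act 7 n9336 = n9336 := d24_2 D6803 D9336 (iv D9336) (iv D6803) F19295
def n9337 : Q := act 7 n6805
theorem D9337 : act 7 n6805 = n9337 := rfl
theorem F35323 : act 2 n9337 = n6882 := d19_1 D9337 (iv D6882) (iv F26081)
def n9339 : Q := act 8 n6806
theorem D9339 : act 8 n6806 = n9339 := rfl
theorem F35330 : act 2 n9339 = n6883 := d20_1 D9339 (iv D6883) (iv F26084)
theorem F35331 : act 5 n9339 = n6808 := d32_1 D9339 (iv D6808) (iv F26085)
def n9340 : Q := act 4 n6807
theorem D9340 : act 4 n6807 = n9340 := rfl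
theorem F35334 : act 6 n9340 = n6809 := d27_2 (iv F26088) D9340 (iv D6809)
def n9341 : Q := act 8 n6807
theorem D9341 : act 8 n6807 = n9341 := rfl
theorem F35337 : act 3 n9341 = n6808 := d25_1 D9341 (iv D6808) D6807
theorem F35338 : act 6 n9341 = n6810 := d34_1 D9341 (iv D6810) (iv F26088)
def n9342 : Q := act 5 n6809
theorem D9342 : act 5 n6809 = n9342 := rfl
theorem F35339 : act 2 n9342 = n9342 := d17_1 D9342 (iv D9342) F26092
theorem F35340 : act 4 n9342 = n9342 := d26_1 D9342 (iv D9342) (iv D6809) F19318 D6809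
theorem F35341 : act 7 n9342 = n6815 := d31_2 (iv F26093) D9342 (iv D6815)
def n9343 : Q := act 8 n6809
theorem D9343 : act 8 n6809 = n9343 := rfl
theorem F35342 : act 2 n9343 = n9343 := d20_1 D9343 (iv D9343) F26092
theorem F35343 : act 4 n9343 = n6810 := d29_1 D9343 (iv D6810) D6809
def n9344 : Q := act 7 n6810
theorem D9344 : act 7 n6810 = n9344 := rfl
theorem F35346 : act 8 n9344 = n6817 := d35_2 D6810 D9344 (iv D6817) (iv D4976) (iv F19319)
def n9347 : Q := act 5 n6813
theorem D9347 : act 5 n6813 = n9347 := rfl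
theorem F35355 : act 3 n9347 = n6818 := d22_1 D9347 (iv D6818) (iv F26105)
def n9350 : Q := act 6 n6815
theorem D9350 : act 6 n6815 = n9350 := rfl
theorem F35362 : act 2 n9350 = n9350 := d18_1 D9350 (iv D9350) F26110
theorem F35363 : act 3 n9350 = n6821 := d23_1 D9350 (iv D6821) (iv F26111)
theorem F35364 : act 4 n9350 = n9350 := d27_1 D9350 (iv D9350) F26112
def n9351 : Q := act 8 n6815
theorem D9351 : act 8 n6815 = n9351 := rfl
theorem F35366 : act 3 n9351 = n6822 := d25_1 D9351 (iv D6822) (iv F26111)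
theorem F35368 : act 5 n9351 = n6816 := d32_1 D9351 (iv D6816) D6815
def n9353 : Q := act 6 n6818
theorem D9353 : act 6 n6818 = n9353 := rfl
theorem F35371 : act 2 n9353 = n6908 := d18_1 D9353 (iv D6908) (iv F26118)
theorem F35372 : act 4 n9353 = n9353 := d27_1 D9353 (iv D9353) F26119
theorem F35373 : act 5 n9353 = n6821 := d30_1 D9353 (iv D6821) (iv D4979) (iv F19337) D6818
def n9354 : Q := act 8 n6818
theorem D9354 : act 8 n6818 = n9354 := rfl
theorem F35374 : act 2 n9354 = n6909 := d20_1 D9354 (iv D6909) (iv F26118)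
theorem F35376 : act 5 n9354 = n6819 := d32_1 D9354 (iv D6819) D6818
def n9355 : Q := act 7 n6819
theorem D9355 : act 7 n6819 = n9355 := rfl
theorem F35377 : act 2 n9355 = n6910 := d19_1 D9355 (iv D6910) (iv F26120)
theorem F35378 : act 4 n9355 = n6820 := d28_1 D9355 (iv D6820) (iv F26121)
theorem F35379 : act 6 n9355 = n6823 := d33_1 D9355 (iv D6823) (iv F26122)
def n9356 : Q := act 8 n6821
theorem D9356 : act 8 n6821 = n9356 := rfl
theorem F35380 : act 2 n9356 = n6911 := d20_1 D9356 (iv D6911) (iv F26126)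
theorem F35381 : act 4 n9356 = n6824 := d29_1 D9356 (iv D6824) (iv F26127)
theorem F35382 : act 6 n9356 = n6822 := d34_1 D9356 (iv D6822) D6821
def n9357 : Q := act 7 n6822
theorem D9357 : act 7 n6822 = n9357 := rfl
theorem F35383 : act 2 n9357 = n6912 := d19_1 D9357 (iv D6912) (iv F26128)
theorem F35384 : act 4 n9357 = n6825 := d28_1 D9357 (iv D6825) (iv F26129)
theorem F35385 : act 5 n9357 = n6823 := d31_1 D9357 (iv D6823) (iv F26130)
def n9358 : Q := act 3 n6823
theorem D9358 : act 3 n6823 = n9358 := rfl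
def n9359 : Q := act 7 n6824
theorem D9359 : act 7 n6824 = n9359 := rfl
theorem F35386 : act 2 n9359 = n6914 := d19_1 D9359 (iv D6914) (iv F26133)
theorem F35387 : act 5 n9359 = n9359 := d31_1 D9359 (iv D9359) F26135
theorem F35388 : act 6 n9359 = n6825 := d33_1 D9359 (iv D6825) (iv F26136)
def n9360 : Q := act 3 n6825
theorem D9360 : act 3 n6825 = n9360 := rfl
theorem F35389 : act 5 n9360 = n6826 := d22_2 (iv F26138) D9360 (iv D6826)
theorem F35390 : act 7 n9360 = n9360 := d24_2 D6825 D9360 (iv D9360) (iv D6825) F19352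
def n9361 : Q := act 2 n6826
theorem D9361 : act 2 n6826 = n9361 := rfl
theorem F35391 : act 3 n9361 = n6916 := d15_2 D6826 D9361 (iv D6916) (iv D5058) (iv F19354)
theorem F35392 : act 6 n9361 = n9361 := d18_2 F26139 D9361 (iv D9361)
theorem F35393 : act 7 n9361 = n9361 := d19_2 F26140 D9361 (iv D9361)
def n9362 : Q := act 6 n6827
theorem D9362 : act 6 n6827 = n9362 := rfl
theorem F35394 : act 0 n9362 = n9362 := d5_1 D9362 (iv D9362) F26141
theorem F35395 : act 2 n9362 = n6828 := d18_1 D9362 (iv D6828) D6827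
theorem F35396 : act 3 n9362 = n9362 := d23_1 D9362 (iv D9362) F26142
theorem F35397 : act 8 n9362 = n6874 := d34_2 (iv F26144) D9362 (iv D6874)
def n9363 : Q := act 7 n6827
theorem D9363 : act 7 n6827 = n9363 := rfl
theorem F35398 : act 0 n9363 = n9363 := d6_1 D9363 (iv D9363) F26141
theorem F35399 : act 2 n9363 = n6829 := d19_1 D9363 (iv D6829) D6827
theorem F35400 : act 5 n9363 = n9363 := d31_1 D9363 (iv D9363) F26143
def n9364 : Q := act 5 n6828
theorem D9364 : act 5 n6828 = n9364 := rfl
theorem F35402 : act 1 n9364 = n6838 := d11_1 D9364 (iv D6838) (iv F26146)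
theorem F35403 : act 3 n9364 = n6830 := d22_1 D9364 (iv D6830) (iv F26147)
theorem F35405 : act 8 n9364 = n6876 := d32_2 (iv F26148) D9364 (iv D6876)
def n9365 : Q := act 7 n6828
theorem D9365 : act 7 n6828 = n9365 := rfl
theorem F35406 : act 0 n9365 = n9365 := d6_1 D9365 (iv D9365) F26145
theorem F35407 : act 1 n9365 = n6839 := d13_1 D9365 (iv D6839) (iv F26146)
theorem F35408 : act 6 n9365 = n6829 := d33_1 D9365 (iv D6829) D6828
def n9366 : Q := act 3 n6829
theorem D9366 : act 3 n6829 = n9366 := rfl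
theorem F35409 : act 0 n9366 = n9366 := d2_1 D9366 (iv D9366) F26149
theorem F35410 : act 1 n9366 = n6840 := d9_1 D9366 (iv D6840) (iv F26150)
theorem F35411 : act 5 n9366 = n9366 := d22_2 F26151 D9366 (iv D9366)
theorem F35412 : act 7 n9366 = n6832 := d24_2 D6829 D9366 (iv D6832) (iv D4988) D4986
def n9367 : Q := act 8 n6829
theorem D9367 : act 8 n6829 = n9367 := rfl
theorem F35413 : act 0 n9367 = n9367 := d7_1 D9367 (iv D9367) F26149
theorem F35414 : act 1 n9367 = n6841 := d14_1 D9367 (iv D6841) (iv F26150)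
theorem F35415 : act 5 n9367 = n9367 := d32_1 D9367 (iv D9367) F26151
theorem F35416 : act 7 n9367 = n6878 := d35_1 D9367 (iv D6878) (iv D5024) (iv F19365) D6829
def n9369 : Q := act 3 n6831
theorem D9369 : act 3 n6831 = n9369 := rfl
theorem F35426 : act 6 n9369 = n6832 := d23_2 (iv F26162) D9369 (iv D6832)
def n9370 : Q := act 2 n6832
theorem D9370 : act 2 n6832 = n9370 := rfl
theorem F35428 : act 0 n9370 = n9370 := d1_1 D9370 (iv D9370) F26164
theorem F35429 : act 3 n9370 = n9370 := d15_2 D6832 D9370 (iv D9370) (iv D6832) F19373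
theorem F35430 : act 5 n9370 = n9370 := d17_2 F26166 D9370 (iv D9370)
theorem F35431 : act 8 n9370 = n9370 := d20_2 F26167 D9370 (iv D9370)
def n9371 : Q := act 4 n6832
theorem D9371 : act 4 n6832 = n9371 := rfl
theorem F35432 : act 0 n9371 = n9371 := d3_1 D9371 (iv D9371) F26164
theorem F35433 : act 1 n9371 = n6845 := d10_1 D9371 (iv D6845) (iv F26165)
theorem F35434 : act 3 n9371 = n6835 := d21_1 D9371 (iv D6835) (iv D4990) (iv F19374) D6832
theorem F35435 : act 8 n9371 = n9371 := d29_2 F26167 D9371 (iv D9371)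
def n9372 : Q := act 2 n6833
theorem D9372 : act 2 n6833 = n9372 := rfl
theorem F35436 : act 0 n9372 = n9372 := d1_1 D9372 (iv D9372) F26168
theorem F35437 : act 1 n9372 = n9372 := d8_1 D9372 (iv D9372) F26169 F19416 (iv F26169)
theorem F35438 : act 3 n9372 = n9372 := d15_2 D6833 D9372 (iv D9372) (iv D6833) F19379
theorem F35439 : act 5 n9372 = n7509 := d17_2 (iv F26170) D9372 (iv D7509)
theorem F35440 : act 6 n9372 = n6834 := d18_2 (iv F26171) D9372 (iv D6834)
theorem F35441 : act 8 n9372 = n9372 := d20_2 F26172 D9372 (iv D9372)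
def n9373 : Q := act 4 n6833
theorem D9373 : act 4 n6833 = n9373 := rfl
theorem F35442 : act 0 n9373 = n9373 := d3_1 D9373 (iv D9373) F26168
theorem F35443 : act 1 n9373 = n6846 := d10_1 D9373 (iv D6846) (iv F26169)
theorem F35444 : act 6 n9373 = n6835 := d27_2 (iv F26171) D9373 (iv D6835)
theorem F35445 : act 8 n9373 = n9373 := d29_2 F26172 D9373 (iv D9373)
def n9374 : Q := act 4 n6834
theorem D9374 : act 4 n6834 = n9374 := rfl
theorem F35446 : act 0 n9374 = n9374 := d3_1 D9374 (iv D9374) F26173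
theorem F35447 : act 1 n9374 = n9374 := d10_1 D9374 (iv D9374) F26174
theorem F35448 : act 2 n9374 = n6835 := d16_1 D9374 (iv D6835) D6834
theorem F35449 : act 8 n9374 = n9374 := d29_2 F26177 D9374 (iv D9374)
def n9375 : Q := act 5 n6835
theorem D9375 : act 5 n6835 = n9375 := rfl
theorem F35450 : act 0 n9375 = n9375 := d4_1 D9375 (iv D9375) F26178
theorem F35451 : act 1 n9375 = n6847 := d11_1 D9375 (iv D6847) (iv F26179)
theorem F35452 : act 4 n9375 = n6837 := d26_1 D9375 (iv D6837) (iv D4992) (iv F19385) D6835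
theorem F35453 : act 8 n9375 = n9375 := d32_2 F26180 D9375 (iv D9375)
def n9376 : Q := act 3 n6836
theorem D9376 : act 3 n6836 = n9376 := rfl
theorem F35454 : act 0 n9376 = n9376 := d2_1 D9376 (iv D9376) F26181
theorem F35455 : act 1 n9376 = n9376 := d9_1 D9376 (iv D9376) F26182
theorem F35456 : act 2 n9376 = n9376 := d15_1 D9376 (iv D9376) F26183 F19394 (iv F26183)
theorem F35457 : act 4 n9376 = n9376 := d21_2 D6836 D9376 (iv D9376) (iv D6836) F19389
theorem F35458 : act 6 n9376 = n7513 := d23_2 (iv F26184) D9376 (iv D7513)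
theorem F35459 : act 7 n9376 = n9376 := d24_2 F33029 D9376 (iv D9376) (iv F33029) F33027
theorem F35460 : act 8 n9376 = n9376 := d25_2 F26185 D9376 (iv D9376)
def n9377 : Q := act 5 n6836
theorem D9377 : act 5 n6836 = n9377 := rfl
theorem F35461 : act 0 n9377 = n9377 := d4_1 D9377 (iv D9377) F26181
theorem F35462 : act 1 n9377 = n9377 := d11_1 D9377 (iv D9377) F26182
theorem F35463 : act 2 n9377 = n6837 := d17_1 D9377 (iv D6837) (iv F26183)
theorem F35464 : act 8 n9377 = n9377 := d32_2 F26185 D9377 (iv D9377)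
def n9378 : Q := act 6 n6837
theorem D9378 : act 6 n6837 = n9378 := rfl
theorem F35468 : act 5 n9378 = n7515 := d30_1 D9378 (iv D7515) (iv D5496) (iv F19395) D6837
def n9379 : Q := act 4 n6838
theorem D9379 : act 4 n6838 = n9379 := rfl
theorem F35470 : act 0 n9379 = n6852 := d3_1 D9379 (iv D6852) (iv F26190)
theorem F35471 : act 3 n9379 = n7516 := d21_1 D9379 (iv D7516) F21279 (iv F19404) (iv F26191)
theorem F35473 : act 8 n9379 = n6879 := d29_2 (iv F26193) D9379 (iv D6879)
def n9380 : Q := act 7 n6838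
theorem D9380 : act 7 n6838 = n9380 := rfl
theorem F35475 : act 5 n9380 = n6839 := d31_1 D9380 (iv D6839) D6838
def n9381 : Q := act 3 n6839
theorem D9381 : act 3 n6839 = n9381 := rfl
theorem F35477 : act 0 n9381 = n6854 := d2_1 D9381 (iv D6854) (iv F26194)
theorem F35478 : act 6 n9381 = n6840 := d23_2 (iv F26195) D9381 (iv D6840)
def n9382 : Q := act 8 n6839
theorem D9382 : act 8 n6839 = n9382 := rfl
theorem F35480 : act 0 n9382 = n6855 := d7_1 D9382 (iv D6855) (iv F26194)
theorem F35481 : act 6 n9382 = n6841 := d34_1 D9382 (iv D6841) (iv F26195)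
theorem F35482 : act 7 n9382 = n6881 := d35_1 D9382 (iv D6881) (iv D5027) (iv F19399) D6839
def n9383 : Q := act 2 n6840
theorem D9383 : act 2 n6840 = n9383 := rfl
theorem F35483 : act 0 n9383 = n6856 := d1_1 D9383 (iv D6856) (iv F26196)
def n9384 : Q := act 4 n6840
theorem D9384 : act 4 n6840 = n9384 := rfl
theorem F35486 : act 0 n9384 = n6857 := d3_1 D9384 (iv D6857) (iv F26196)
theorem F35487 : act 7 n9384 = n6845 := d28_2 (iv F26198) D9384 (iv D6845)
def n9385 : Q := act 8 n6840
theorem D9385 : act 8 n6840 = n9385 := rfl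
theorem F35488 : act 0 n9385 = n6858 := d7_1 D9385 (iv D6858) (iv F26196)
theorem F35489 : act 3 n9385 = n6841 := d25_1 D9385 (iv D6841) D6840
theorem F35490 : act 5 n9385 = n9385 := d32_1 D9385 (iv D9385) F26197
theorem F35491 : act 7 n9385 = n9385 := d35_1 D9385 (iv D9385) F26198 F19414 (iv F26198)
def n9388 : Q := act 4 n6843
theorem D9388 : act 4 n6843 = n9388 := rfl
theorem F35501 : act 3 n9388 = n6846 := d21_1 D9388 (iv D6846) (iv D4998) (iv F19409) D6843
theorem F35502 : act 6 n9388 = n6845 := d27_2 (iv F26209) D9388 (iv D6845)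
def n9390 : Q := act 4 n6844
theorem D9390 : act 4 n6844 = n9390 := rfl
theorem F35508 : act 2 n9390 = n6845 := d16_1 D9390 (iv D6845) D6844
def n9391 : Q := act 5 n6845
theorem D9391 : act 5 n6845 = n9391 := rfl
theorem F35511 : act 0 n9391 = n6864 := d4_1 D9391 (iv D6864) (iv F26215)
theorem F35512 : act 3 n9391 = n6847 := d22_1 D9391 (iv D6847) (iv F26216)
theorem F35513 : act 4 n9391 = n9391 := d26_1 D9391 (iv D9391) (iv D6845) F19413 D6845
theorem F35514 : act 8 n9391 = n9391 := d32_2 F26217 D9391 (iv D9391)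
def n9392 : Q := act 5 n6846
theorem D9392 : act 5 n6846 = n9392 := rfl
theorem F35517 : act 4 n9392 = n7529 := d26_1 D9392 (iv D7529) (iv D5505) (iv F19417) D6846
def n9393 : Q := act 6 n6847
theorem D9393 : act 6 n6847 = n9393 := rfl
theorem F35521 : act 4 n9393 = n6848 := d27_1 D9393 (iv D6848) (iv F26224)
def n9400 : Q := act 8 n6853
theorem D9400 : act 8 n6853 = n9400 := rfl
theorem F35550 : act 5 n9400 = n6855 := d32_1 D9400 (iv D6855) (iv F26249)
theorem F35552 : act 7 n9400 = n6883 := d35_1 D9400 (iv D6883) (iv D5030) (iv F19445) D6853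
def n9401 : Q := act 2 n6854
theorem D9401 : act 2 n6854 = n9401 := rfl
theorem F35553 : act 6 n9401 = n6856 := d18_2 (iv F26252) D9401 (iv D6856)
def n9402 : Q := act 4 n6854
theorem D9402 : act 4 n6854 = n9402 := rfl
theorem F35556 : act 6 n9402 = n6857 := d27_2 (iv F26252) D9402 (iv D6857)
def n9403 : Q := act 8 n6854
theorem D9403 : act 8 n6854 = n9403 := rfl
theorem F35559 : act 3 n9403 = n6855 := d25_1 D9403 (iv D6855) D6854
theorem F35560 : act 6 n9403 = n6858 := d34_1 D9403 (iv D6858) (iv F26252)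
def n9405 : Q := act 4 n6856
theorem D9405 : act 4 n6856 = n9405 := rfl
theorem F35565 : act 2 n9405 = n6857 := d16_1 D9405 (iv D6857) D6856
def n9406 : Q := act 8 n6856
theorem D9406 : act 8 n6856 = n9406 := rfl
theorem F35567 : act 2 n9406 = n6858 := d20_1 D9406 (iv D6858) D6856
def n9407 : Q := act 5 n6857
theorem D9407 : act 5 n6857 = n9407 := rfl
theorem F35570 : act 1 n9407 = n9407 := d11_1 D9407 (iv D9407) F26259
theorem F35571 : act 4 n9407 = n9407 := d26_1 D9407 (iv D9407) (iv D6857) F19449 D6857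
theorem F35572 : act 7 n9407 = n6864 := d31_2 (iv F26260) D9407 (iv D6864)
def n9408 : Q := act 8 n6857
theorem D9408 : act 8 n6857 = n9408 := rfl
theorem F35573 : act 1 n9408 = n9408 := d14_1 D9408 (iv D9408) F26259
theorem F35574 : act 4 n9408 = n6858 := d29_1 D9408 (iv D6858) D6857
theorem F35575 : act 7 n9408 = n9408 := d35_1 D9408 (iv D9408) F26260 F19468 (iv F26260)
def n9416 : Q := act 5 n6863
theorem D9416 : act 5 n6863 = n9416 := rfl
theorem F35603 : act 2 n9416 = n6864 := d17_1 D9416 (iv D6864) (iv F26280)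
def n9417 : Q := act 6 n6864
theorem D9417 : act 6 n6864 = n9417 := rfl
theorem F35608 : act 3 n9417 = n6866 := d23_1 D9417 (iv D6866) (iv F26284)
def n9425 : Q := act 5 n6874
theorem D9425 : act 5 n6874 = n9425 := rfl
theorem F35643 : act 0 n9425 = n9425 := d4_1 D9425 (iv D9425) F26325
theorem F35644 : act 2 n9425 = n6876 := d17_1 D9425 (iv D6876) (iv F26326)
theorem F35645 : act 3 n9425 = n9425 := d22_1 D9425 (iv D9425) F26327
theorem F35646 : act 6 n9425 = n9425 := d30_2 D6874 D9425 (iv D9425) (iv D6874) F19514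
def n9426 : Q := act 7 n6874
theorem D9426 : act 7 n6874 = n9426 := rfl
theorem F35647 : act 0 n9426 = n9426 := d6_1 D9426 (iv D9426) F26325
theorem F35648 : act 2 n9426 = n6877 := d19_1 D9426 (iv D6877) (iv F26326)
theorem F35649 : act 6 n9426 = n6875 := d33_1 D9426 (iv D6875) D6874
def n9427 : Q := act 3 n6875
theorem D9427 : act 3 n6875 = n9427 := rfl
theorem F35650 : act 0 n9427 = n9427 := d2_1 D9427 (iv D9427) F26328
theorem F35651 : act 2 n9427 = n9427 := d15_1 D9427 (iv D9427) F26329 F19520 (iv F26329)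
theorem F35652 : act 5 n9427 = n9427 := d22_2 F26330 D9427 (iv D9427)
theorem F35653 : act 7 n9427 = n9427 := d24_2 D6875 D9427 (iv D9427) (iv D6875) F19513
def n9428 : Q := act 8 n6875
theorem D9428 : act 8 n6875 = n9428 := rfl
theorem F35654 : act 0 n9428 = n9428 := d7_1 D9428 (iv D9428) F26328
theorem F35655 : act 2 n9428 = n6878 := d20_1 D9428 (iv D6878) (iv F26329)
theorem F35656 : act 5 n9428 = n9428 := d32_1 D9428 (iv D9428) F26330
def n9429 : Q := act 4 n6876
theorem D9429 : act 4 n6876 = n9429 := rfl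
theorem F35657 : act 0 n9429 = n9429 := d3_1 D9429 (iv D9429) F26331
theorem F35658 : act 1 n9429 = n6879 := d10_1 D9429 (iv D6879) (iv F26332)
theorem F35659 : act 3 n9429 = n7566 := d21_1 D9429 (iv D7566) F21434 (iv F19525) (iv F26333)
theorem F35660 : act 6 n9429 = n9429 := d27_2 F26334 D9429 (iv D9429)
def n9430 : Q := act 7 n6876
theorem D9430 : act 7 n6876 = n9430 := rfl
theorem F35661 : act 0 n9430 = n9430 := d6_1 D9430 (iv D9430) F26331
theorem F35662 : act 1 n9430 = n6880 := d13_1 D9430 (iv D6880) (iv F26332)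
theorem F35663 : act 3 n9430 = n9430 := d24_1 D9430 (iv D9430) F26333 F19527 (iv F26333)
theorem F35664 : act 5 n9430 = n6877 := d31_1 D9430 (iv D6877) D6876
theorem F35665 : act 6 n9430 = n9430 := d33_1 D9430 (iv D9430) F26334
def n9431 : Q := act 8 n6877
theorem D9431 : act 8 n6877 = n9431 := rfl
theorem F35666 : act 0 n9431 = n9431 := d7_1 D9431 (iv D9431) F26335
theorem F35667 : act 1 n9431 = n6881 := d14_1 D9431 (iv D6881) (iv F26336)
theorem F35668 : act 3 n9431 = n9431 := d25_1 D9431 (iv D9431) F26337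
theorem F35669 : act 6 n9431 = n6878 := d34_1 D9431 (iv D6878) (iv F26338)
def n9432 : Q := act 7 n6879
theorem D9432 : act 7 n6879 = n9432 := rfl
theorem F35670 : act 0 n9432 = n6882 := d6_1 D9432 (iv D6882) (iv F26343)
theorem F35671 : act 4 n9432 = n6880 := d28_1 D9432 (iv D6880) D6879
theorem F35672 : act 6 n9432 = n9432 := d33_1 D9432 (iv D9432) F26345
def n9433 : Q := act 8 n6880
theorem D9433 : act 8 n6880 = n9433 := rfl
theorem F35673 : act 0 n9433 = n6883 := d7_1 D9433 (iv D6883) (iv F26346)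
theorem F35674 : act 3 n9433 = n9433 := d25_1 D9433 (iv D9433) F26347
theorem F35675 : act 5 n9433 = n6881 := d32_1 D9433 (iv D6881) (iv F26348)
theorem F35676 : act 6 n9433 = n9433 := d34_1 D9433 (iv D9433) F26349
def n9434 : Q := act 3 n6882
theorem D9434 : act 3 n6882 = n9434 := rfl
theorem F35679 : act 6 n9434 = n9434 := d23_2 F26355 D9434 (iv D9434)
theorem F35680 : act 7 n9434 = n7571 := d24_2 D6882 D9434 (iv D7571) (iv D5541) (iv F19538)
def n9435 : Q := act 8 n6882
theorem D9435 : act 8 n6882 = n9435 := rfl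
theorem F35681 : act 1 n9435 = n9435 := d14_1 D9435 (iv D9435) F26353
theorem F35682 : act 4 n9435 = n6883 := d29_1 D9435 (iv D6883) (iv F26354)
theorem F35683 : act 6 n9435 = n9435 := d34_1 D9435 (iv D9435) F26355
def n9436 : Q := act 4 n6884
theorem D9436 : act 4 n6884 = n9436 := rfl
theorem F35684 : act 0 n9436 = n9436 := d3_1 D9436 (iv D9436) F26360
theorem F35685 : act 2 n9436 = n6885 := d16_1 D9436 (iv D6885) D6884
theorem F35686 : act 6 n9436 = n6887 := d27_2 (iv F26363) D9436 (iv D6887)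
def n9437 : Q := act 8 n6884
theorem D9437 : act 8 n6884 = n9437 := rfl
theorem F35687 : act 0 n9437 = n9437 := d7_1 D9437 (iv D9437) F26360
theorem F35688 : act 2 n9437 = n6886 := d20_1 D9437 (iv D6886) D6884
theorem F35689 : act 3 n9437 = n9437 := d25_1 D9437 (iv D9437) F26361
theorem F35690 : act 5 n9437 = n9437 := d32_1 D9437 (iv D9437) F26362
theorem F35691 : act 6 n9437 = n6888 := d34_1 D9437 (iv D6888) (iv F26363)
def n9438 : Q := act 5 n6885
theorem D9438 : act 5 n6885 = n9438 := rfl
theorem F35692 : act 0 n9438 = n9438 := d4_1 D9438 (iv D9438) F26364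
theorem F35693 : act 1 n9438 = n6899 := d11_1 D9438 (iv D6899) (iv F26365)
theorem F35694 : act 3 n9438 = n9438 := d22_1 D9438 (iv D9438) F26366
theorem F35695 : act 4 n9438 = n9438 := d26_1 D9438 (iv D9438) (iv D6885) F19549 D6885
def n9439 : Q := act 8 n6885
theorem D9439 : act 8 n6885 = n9439 := rfl
theorem F35696 : act 0 n9439 = n9439 := d7_1 D9439 (iv D9439) F26364
theorem F35697 : act 1 n9439 = n6900 := d14_1 D9439 (iv D6900) (iv F26365)
theorem F35698 : act 3 n9439 = n9439 := d25_1 D9439 (iv D9439) F26366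
theorem F35699 : act 4 n9439 = n6886 := d29_1 D9439 (iv D6886) D6885
theorem F35700 : act 6 n9439 = n6890 := d34_1 D9439 (iv D6890) (iv F26367)
def n9440 : Q := act 7 n6886
theorem D9440 : act 7 n6886 = n9440 := rfl
theorem F35701 : act 0 n9440 = n9440 := d6_1 D9440 (iv D9440) F26368
theorem F35702 : act 1 n9440 = n6901 := d13_1 D9440 (iv D6901) (iv F26369)
theorem F35703 : act 3 n9440 = n9440 := d24_1 D9440 (iv D9440) F26370 F19557 (iv F26370)
theorem F35704 : act 5 n9440 = n9440 := d31_1 D9440 (iv D9440) F26371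
theorem F35705 : act 6 n9440 = n6891 := d33_1 D9440 (iv D6891) (iv F26372)
def n9441 : Q := act 3 n6887
theorem D9441 : act 3 n6887 = n9441 := rfl
theorem F35706 : act 0 n9441 = n9441 := d2_1 D9441 (iv D9441) F26373
theorem F35707 : act 2 n9441 = n9441 := d15_1 D9441 (iv D9441) F26374 F19563 (iv F26374)
theorem F35708 : act 4 n9441 = n9441 := d21_2 D6887 D9441 (iv D9441) (iv D6887) F19559
def n9442 : Q := act 5 n6887
theorem D9442 : act 5 n6887 = n9442 := rfl
theorem F35709 : act 0 n9442 = n9442 := d4_1 D9442 (iv D9442) F26373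
theorem F35710 : act 2 n9442 = n6889 := d17_1 D9442 (iv D6889) (iv F26374)
theorem F35711 : act 4 n9442 = n6893 := d26_1 D9442 (iv D6893) (iv D5037) (iv F19560) D6887
def n9443 : Q := act 8 n6887
theorem D9443 : act 8 n6887 = n9443 := rfl
theorem F35712 : act 0 n9443 = n9443 := d7_1 D9443 (iv D9443) F26373
theorem F35713 : act 2 n9443 = n6890 := d20_1 D9443 (iv D6890) (iv F26374)
theorem F35714 : act 4 n9443 = n6888 := d29_1 D9443 (iv D6888) D6887
def n9444 : Q := act 7 n6888
theorem D9444 : act 7 n6888 = n9444 := rfl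
theorem F35715 : act 0 n9444 = n9444 := d6_1 D9444 (iv D9444) F26375
theorem F35716 : act 2 n9444 = n6891 := d19_1 D9444 (iv D6891) (iv F26376)
theorem F35717 : act 5 n9444 = n6895 := d31_1 D9444 (iv D6895) (iv F26378)
def n9445 : Q := act 6 n6889
theorem D9445 : act 6 n6889 = n9445 := rfl
theorem F35718 : act 0 n9445 = n9445 := d5_1 D9445 (iv D9445) F26379
theorem F35719 : act 1 n9445 = n6902 := d12_1 D9445 (iv D6902) (iv F26380)
theorem F35720 : act 3 n9445 = n9445 := d23_1 D9445 (iv D9445) F26381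
theorem F35721 : act 4 n9445 = n6896 := d27_1 D9445 (iv D6896) (iv F26382)
def n9446 : Q := act 8 n6889
theorem D9446 : act 8 n6889 = n9446 := rfl
theorem F35722 : act 0 n9446 = n9446 := d7_1 D9446 (iv D9446) F26379
theorem F35723 : act 1 n9446 = n6903 := d14_1 D9446 (iv D6903) (iv F26380)
theorem F35724 : act 3 n9446 = n9446 := d25_1 D9446 (iv D9446) F26381
theorem F35725 : act 4 n9446 = n6897 := d29_1 D9446 (iv D6897) (iv F26382)
theorem F35726 : act 5 n9446 = n6890 := d32_1 D9446 (iv D6890) D6889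
def n9447 : Q := act 7 n6890
theorem D9447 : act 7 n6890 = n9447 := rfl
theorem F35727 : act 0 n9447 = n9447 := d6_1 D9447 (iv D9447) F26383
theorem F35728 : act 1 n9447 = n6904 := d13_1 D9447 (iv D6904) (iv F26384)
theorem F35729 : act 4 n9447 = n6891 := d28_1 D9447 (iv D6891) (iv F26386)
def n9448 : Q := act 5 n6892
theorem D9448 : act 5 n6892 = n9448 := rfl
theorem F35730 : act 0 n9448 = n9448 := d4_1 D9448 (iv D9448) F26391
theorem F35731 : act 2 n9448 = n6917 := d17_1 D9448 (iv D6917) (iv F26392)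
theorem F35732 : act 3 n9448 = n6893 := d22_1 D9448 (iv D6893) D6892
def n9449 : Q := act 7 n6892
theorem D9449 : act 7 n6892 = n9449 := rfl
theorem F35733 : act 0 n9449 = n9449 := d6_1 D9449 (iv D9449) F26391
theorem F35734 : act 2 n9449 = n6918 := d19_1 D9449 (iv D6918) (iv F26392)
theorem F35735 : act 4 n9449 = n9449 := d28_1 D9449 (iv D9449) F26393
theorem F35736 : act 6 n9449 = n9449 := d33_1 D9449 (iv D9449) F26394
def n9450 : Q := act 8 n6892
theorem D9450 : act 8 n6892 = n9450 := rfl
theorem F35737 : act 0 n9450 = n9450 := d7_1 D9450 (iv D9450) F26391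
theorem F35738 : act 2 n9450 = n6919 := d20_1 D9450 (iv D6919) (iv F26392)
theorem F35739 : act 3 n9450 = n6894 := d25_1 D9450 (iv D6894) D6892
theorem F35740 : act 4 n9450 = n9450 := d29_1 D9450 (iv D9450) F26393
theorem F35741 : act 6 n9450 = n9450 := d34_1 D9450 (iv D9450) F26394
def n9451 : Q := act 6 n6893
theorem D9451 : act 6 n6893 = n9451 := rfl
theorem F35742 : act 0 n9451 = n9451 := d5_1 D9451 (iv D9451) F26395
theorem F35743 : act 2 n9451 = n6896 := d18_1 D9451 (iv D6896) (iv F26396)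
theorem F35744 : act 5 n9451 = n9451 := d30_1 D9451 (iv D9451) (iv D6893) F19570 D6893
def n9452 : Q := act 8 n6893
theorem D9452 : act 8 n6893 = n9452 := rfl
theorem F35745 : act 0 n9452 = n9452 := d7_1 D9452 (iv D9452) F26395
theorem F35746 : act 2 n9452 = n6897 := d20_1 D9452 (iv D6897) (iv F26396)
theorem F35747 : act 5 n9452 = n6894 := d32_1 D9452 (iv D6894) D6893
def n9453 : Q := act 7 n6894
theorem D9453 : act 7 n6894 = n9453 := rfl
theorem F35748 : act 0 n9453 = n9453 := d6_1 D9453 (iv D9453) F26397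
theorem F35749 : act 2 n9453 = n6898 := d19_1 D9453 (iv D6898) (iv F26398)
theorem F35750 : act 4 n9453 = n6895 := d28_1 D9453 (iv D6895) (iv F26399)
theorem F35751 : act 6 n9453 = n9453 := d33_1 D9453 (iv D9453) F26400
def n9454 : Q := act 3 n6895
theorem D9454 : act 3 n6895 = n9454 := rfl
theorem F35752 : act 0 n9454 = n9454 := d2_1 D9454 (iv D9454) F26401
theorem F35753 : act 2 n9454 = n9454 := d15_1 D9454 (iv D9454) F26402 F19585 (iv F26402)
theorem F35754 : act 6 n9454 = n9454 := d23_2 F26403 D9454 (iv D9454)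
theorem F35755 : act 7 n9454 = n9454 := d24_2 D6895 D9454 (iv D9454) (iv D6895) F19573
def n9455 : Q := act 8 n6896
theorem D9455 : act 8 n6896 = n9455 := rfl
theorem F35756 : act 0 n9455 = n9455 := d7_1 D9455 (iv D9455) F26404
theorem F35757 : act 1 n9455 = n6905 := d14_1 D9455 (iv D6905) (iv F26405)
theorem F35758 : act 3 n9455 = n6924 := d25_1 D9455 (iv D6924) (iv F26406)
theorem F35759 : act 5 n9455 = n9455 := d32_1 D9455 (iv D9455) F26407
theorem F35760 : act 6 n9455 = n6897 := d34_1 D9455 (iv D6897) D6896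
def n9456 : Q := act 7 n6897
theorem D9456 : act 7 n6897 = n9456 := rfl
theorem F35761 : act 0 n9456 = n9456 := d6_1 D9456 (iv D9456) F26408
theorem F35762 : act 1 n9456 = n6906 := d13_1 D9456 (iv D6906) (iv F26409)
theorem F35763 : act 5 n9456 = n6898 := d31_1 D9456 (iv D6898) (iv F26411)
def n9457 : Q := act 3 n6898
theorem D9457 : act 3 n6898 = n9457 := rfl
theorem F35764 : act 0 n9457 = n9457 := d2_1 D9457 (iv D9457) F26412
theorem F35765 : act 1 n9457 = n6907 := d9_1 D9457 (iv D6907) (iv F26413)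
theorem F35766 : act 4 n9457 = n9457 := d21_2 (iv F26414) D9457 (iv D9457) F26414 F19585
theorem F35767 : act 6 n9457 = n9457 := d23_2 F26415 D9457 (iv D9457)
theorem F35768 : act 7 n9457 = n6926 := d24_2 D6898 D9457 (iv D6926) (iv D5065) (iv F19580)
def n9458 : Q := act 6 n6899
theorem D9458 : act 6 n6899 = n9458 := rfl
theorem F35769 : act 0 n9458 = n6908 := d5_1 D9458 (iv D6908) (iv F26416)
theorem F35770 : act 3 n9458 = n9458 := d23_1 D9458 (iv D9458) F26417
theorem F35771 : act 4 n9458 = n9458 := d27_1 D9458 (iv D9458) F26418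
theorem F35772 : act 5 n9458 = n6902 := d30_1 D9458 (iv D6902) (iv D5044) (iv F19589) D6899
def n9459 : Q := act 8 n6899
theorem D9459 : act 8 n6899 = n9459 := rfl
theorem F35773 : act 0 n9459 = n6909 := d7_1 D9459 (iv D6909) (iv F26416)
theorem F35774 : act 3 n9459 = n9459 := d25_1 D9459 (iv D9459) F26417
theorem F35775 : act 4 n9459 = n9459 := d29_1 D9459 (iv D9459) F26418
theorem F35776 : act 5 n9459 = n6900 := d32_1 D9459 (iv D6900) D6899
def n9460 : Q := act 7 n6900
theorem D9460 : act 7 n6900 = n9460 := rfl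
theorem F35777 : act 0 n9460 = n6910 := d6_1 D9460 (iv D6910) (iv F26419)
theorem F35778 : act 4 n9460 = n6901 := d28_1 D9460 (iv D6901) (iv F26421)
theorem F35779 : act 6 n9460 = n6904 := d33_1 D9460 (iv D6904) (iv F26422)
def n9461 : Q := act 8 n6902
theorem D9461 : act 8 n6902 = n9461 := rfl
theorem F35780 : act 0 n9461 = n6911 := d7_1 D9461 (iv D6911) (iv F26427)
theorem F35781 : act 3 n9461 = n9461 := d25_1 D9461 (iv D9461) F26428
theorem F35782 : act 4 n9461 = n6905 := d29_1 D9461 (iv D6905) (iv F26429)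
theorem F35783 : act 6 n9461 = n6903 := d34_1 D9461 (iv D6903) D6902
def n9462 : Q := act 7 n6903
theorem D9462 : act 7 n6903 = n9462 := rfl
theorem F35784 : act 0 n9462 = n6912 := d6_1 D9462 (iv D6912) (iv F26430)
theorem F35785 : act 4 n9462 = n6906 := d28_1 D9462 (iv D6906) (iv F26432)
theorem F35786 : act 5 n9462 = n6904 := d31_1 D9462 (iv D6904) (iv F26433)
def n9463 : Q := act 3 n6904
theorem D9463 : act 3 n6904 = n9463 := rfl
theorem F35787 : act 0 n9463 = n6913 := d2_1 D9463 (iv D6913) (iv F26434)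
theorem F35788 : act 4 n9463 = n9463 := d21_2 (iv F26435) D9463 (iv D9463) F26435 F19601
theorem F35789 : act 7 n9463 = n9463 := d24_2 D6904 D9463 (iv D9463) (iv D6904) F19598
def n9464 : Q := act 7 n6905
theorem D9464 : act 7 n6905 = n9464 := rfl
theorem F35790 : act 0 n9464 = n6914 := d6_1 D9464 (iv D6914) (iv F26436)
theorem F35791 : act 5 n9464 = n9464 := d31_1 D9464 (iv D9464) F26438
theorem F35792 : act 6 n9464 = n6906 := d33_1 D9464 (iv D6906) (iv F26439)
def n9465 : Q := act 3 n6906
theorem D9465 : act 3 n6906 = n9465 := rfl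
theorem F35793 : act 0 n9465 = n6915 := d2_1 D9465 (iv D6915) (iv F26440)
theorem F35794 : act 5 n9465 = n6907 := d22_2 (iv F26441) D9465 (iv D6907)
theorem F35795 : act 7 n9465 = n6928 := d24_2 D6906 D9465 (iv D6928) (iv D5067) (iv F19607)
def n9466 : Q := act 2 n6907
theorem D9466 : act 2 n6907 = n9466 := rfl
theorem F35796 : act 0 n9466 = n6916 := d1_1 D9466 (iv D6916) (iv F26442)
theorem F35797 : act 4 n9466 = n9466 := d16_2 F26443 D9466 (iv D9466)
theorem F35798 : act 6 n9466 = n9466 := d18_2 F26444 D9466 (iv D9466)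
theorem F35799 : act 7 n9466 = n6929 := d19_2 (iv F26445) D9466 (iv D6929)
def n9467 : Q := act 8 n6908
theorem D9467 : act 8 n6908 = n9467 := rfl
theorem F35800 : act 1 n9467 = n9467 := d14_1 D9467 (iv D9467) F26446
theorem F35801 : act 3 n9467 = n9467 := d25_1 D9467 (iv D9467) F26447
theorem F35802 : act 4 n9467 = n9467 := d29_1 D9467 (iv D9467) F26448
theorem F35803 : act 5 n9467 = n6911 := d32_1 D9467 (iv D6911) (iv F26449)
theorem F35804 : act 6 n9467 = n6909 := d34_1 D9467 (iv D6909) D6908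
def n9468 : Q := act 7 n6909
theorem D9468 : act 7 n6909 = n9468 := rfl
theorem F35805 : act 1 n9468 = n9468 := d13_1 D9468 (iv D9468) F26450
theorem F35806 : act 4 n9468 = n9468 := d28_1 D9468 (iv D9468) F26452
theorem F35807 : act 5 n9468 = n6910 := d31_1 D9468 (iv D6910) (iv F26453)
def n9469 : Q := act 3 n6910
theorem D9469 : act 3 n6910 = n9469 := rfl
theorem F35808 : act 1 n9469 = n9469 := d9_1 D9469 (iv D9469) F26454
theorem F35809 : act 4 n9469 = n9469 := d21_2 (iv F26455) D9469 (iv D9469) F26455 F19620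
theorem F35810 : act 6 n9469 = n6913 := d23_2 (iv F26456) D9469 (iv D6913)
theorem F35811 : act 7 n9469 = n9469 := d24_2 D6910 D9469 (iv D9469) (iv D6910) F19616
def n9470 : Q := act 7 n6911
theorem D9470 : act 7 n6911 = n9470 := rfl
theorem F35812 : act 1 n9470 = n9470 := d13_1 D9470 (iv D9470) F26457
theorem F35813 : act 4 n9470 = n6914 := d28_1 D9470 (iv D6914) (iv F26459)
theorem F35814 : act 6 n9470 = n6912 := d33_1 D9470 (iv D6912) (iv F26460)
def n9471 : Q := act 3 n6912
theorem D9471 : act 3 n6912 = n9471 := rfl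
theorem F35815 : act 1 n9471 = n9471 := d9_1 D9471 (iv D9471) F26461
theorem F35816 : act 5 n9471 = n6913 := d22_2 (iv F26463) D9471 (iv D6913)
theorem F35817 : act 7 n9471 = n9471 := d24_2 D6912 D9471 (iv D9471) (iv D6912) F19627
def n9472 : Q := act 2 n6913
theorem D9472 : act 2 n6913 = n9472 := rfl
theorem F35818 : act 4 n9472 = n9472 := d16_2 F26465 D9472 (iv D9472)
theorem F35819 : act 7 n9472 = n9472 := d19_2 F26466 D9472 (iv D9472)
def n9473 : Q := act 3 n6914
theorem D9473 : act 3 n6914 = n9473 := rfl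
theorem F35822 : act 6 n9473 = n6915 := d23_2 (iv F26469) D9473 (iv D6915)
theorem F35823 : act 7 n9473 = n6930 := d24_2 D6914 D9473 (iv D6930) (iv D5069) (iv F19633)
def n9474 : Q := act 2 n6915
theorem D9474 : act 2 n6915 = n9474 := rfl
theorem F35824 : act 5 n9474 = n6916 := d17_2 (iv F26471) D9474 (iv D6916)
theorem F35825 : act 7 n9474 = n6931 := d19_2 (iv F26472) D9474 (iv D6931)
def n9475 : Q := act 4 n6915
theorem D9475 : act 4 n6915 = n9475 := rfl
theorem F35828 : act 7 n9475 = n6932 := d28_2 (iv F26472) D9475 (iv D6932)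
def n9476 : Q := act 1 n6916
theorem D9476 : act 1 n6916 = n9476 := rfl
theorem F35832 : act 7 n9476 = n6933 := d13_2 (iv F26475) D9476 (iv D6933)
def n9477 : Q := act 4 n6917
theorem D9477 : act 4 n6917 = n9477 := rfl
theorem F35833 : act 0 n9477 = n9477 := d3_1 D9477 (iv D9477) F26476
theorem F35834 : act 1 n9477 = n9477 := d10_1 D9477 (iv D9477) F26477
theorem F35835 : act 3 n9477 = n9477 := d21_1 D9477 (iv D9477) F26478 F19649 (iv F26478)
theorem F35836 : act 5 n9477 = n9477 := d26_2 D6917 D9477 (iv D9477) (iv D6917) F19644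
def n9478 : Q := act 6 n6917
theorem D9478 : act 6 n6917 = n9478 := rfl
theorem F35837 : act 0 n9478 = n9478 := d5_1 D9478 (iv D9478) F26476
theorem F35838 : act 1 n9478 = n9478 := d12_1 D9478 (iv D9478) F26477
theorem F35839 : act 3 n9478 = n6920 := d23_1 D9478 (iv D6920) (iv F26478)
theorem F35840 : act 5 n9478 = n9478 := d30_1 D9478 (iv D9478) (iv D6917) F19645 D6917
def n9479 : Q := act 7 n6917
theorem D9479 : act 7 n6917 = n9479 := rfl
theorem F35841 : act 0 n9479 = n9479 := d6_1 D9479 (iv D9479) F26476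
theorem F35842 : act 1 n9479 = n9479 := d13_1 D9479 (iv D9479) F26477
theorem F35843 : act 3 n9479 = n9479 := d24_1 D9479 (iv D9479) F26478 F19650 (iv F26478)
theorem F35844 : act 5 n9479 = n6918 := d31_1 D9479 (iv D6918) D6917
def n9480 : Q := act 8 n6917
theorem D9480 : act 8 n6917 = n9480 := rfl
theorem F35845 : act 0 n9480 = n9480 := d7_1 D9480 (iv D9480) F26476
theorem F35846 : act 1 n9480 = n9480 := d14_1 D9480 (iv D9480) F26477
theorem F35847 : act 3 n9480 = n6921 := d25_1 D9480 (iv D6921) (iv F26478)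
theorem F35848 : act 5 n9480 = n6919 := d32_1 D9480 (iv D6919) D6917
def n9481 : Q := act 8 n6918
theorem D9481 : act 8 n6918 = n9481 := rfl
theorem F35849 : act 0 n9481 = n9481 := d7_1 D9481 (iv D9481) F26479
theorem F35850 : act 1 n9481 = n9481 := d14_1 D9481 (iv D9481) F26480
theorem F35851 : act 3 n9481 = n9481 := d25_1 D9481 (iv D9481) F26481
theorem F35852 : act 4 n9481 = n9481 := d29_1 D9481 (iv D9481) F26482
theorem F35853 : act 6 n9481 = n9481 := d34_1 D9481 (iv D9481) F26483
def n9482 : Q := act 7 n6919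
theorem D9482 : act 7 n6919 = n9482 := rfl
theorem F35854 : act 0 n9482 = n9482 := d6_1 D9482 (iv D9482) F26484
theorem F35855 : act 1 n9482 = n9482 := d13_1 D9482 (iv D9482) F26485
theorem F35856 : act 4 n9482 = n9482 := d28_1 D9482 (iv D9482) F26487
theorem F35857 : act 6 n9482 = n9482 := d33_1 D9482 (iv D9482) F26488
def n9483 : Q := act 8 n6920
theorem D9483 : act 8 n6920 = n9483 := rfl
theorem F35858 : act 0 n9483 = n9483 := d7_1 D9483 (iv D9483) F26489
theorem F35859 : act 1 n9483 = n9483 := d14_1 D9483 (iv D9483) F26490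
theorem F35860 : act 2 n9483 = n6924 := d20_1 D9483 (iv D6924) (iv F26491)
theorem F35861 : act 4 n9483 = n9483 := d29_1 D9483 (iv D9483) F26492
theorem F35862 : act 5 n9483 = n9483 := d32_1 D9483 (iv D9483) F26493
theorem F35863 : act 6 n9483 = n6921 := d34_1 D9483 (iv D6921) D6920
def n9484 : Q := act 7 n6921
theorem D9484 : act 7 n6921 = n9484 := rfl
theorem F35864 : act 0 n9484 = n9484 := d6_1 D9484 (iv D9484) F26495
theorem F35865 : act 1 n9484 = n9484 := d13_1 D9484 (iv D9484) F26496
theorem F35866 : act 2 n9484 = n6925 := d19_1 D9484 (iv D6925) (iv F26497)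
theorem F35867 : act 4 n9484 = n9484 := d28_1 D9484 (iv D9484) F26498
theorem F35868 : act 5 n9484 = n6922 := d31_1 D9484 (iv D6922) (iv F26499)
theorem F35869 : act 8 n9484 = n9484 := d35_2 D6921 D9484 (iv D9484) (iv D6921) F19650
def n9485 : Q := act 3 n6922
theorem D9485 : act 3 n6922 = n9485 := rfl
theorem F35870 : act 0 n9485 = n9485 := d2_1 D9485 (iv D9485) F26500
theorem F35871 : act 1 n9485 = n9485 := d9_1 D9485 (iv D9485) F26501
theorem F35872 : act 6 n9485 = n9485 := d23_2 F26504 D9485 (iv D9485)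
theorem F35873 : act 8 n9485 = n9485 := d25_2 F26505 D9485 (iv D9485)
def n9486 : Q := act 4 n6923
theorem D9486 : act 4 n6923 = n9486 := rfl
theorem F35874 : act 0 n9486 = n9486 := d3_1 D9486 (iv D9486) F26506
theorem F35875 : act 1 n9486 = n9486 := d10_1 D9486 (iv D9486) F26507
theorem F35876 : act 2 n9486 = n9486 := d16_1 D9486 (iv D9486) F26508
theorem F35877 : act 6 n9486 = n9486 := d27_2 F26510 D9486 (iv D9486)
theorem F35878 : act 7 n9486 = n9486 := d28_2 F26511 D9486 (iv D9486)
theorem F35879 : act 8 n9486 = n9486 := d29_2 F26512 D9486 (iv D9486)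
def n9487 : Q := act 7 n6924
theorem D9487 : act 7 n6924 = n9487 := rfl
theorem F35880 : act 0 n9487 = n9487 := d6_1 D9487 (iv D9487) F26513
theorem F35881 : act 1 n9487 = n6927 := d13_1 D9487 (iv D6927) (iv F26514)
theorem F35882 : act 4 n9487 = n9487 := d28_1 D9487 (iv D9487) F26515
theorem F35883 : act 5 n9487 = n9487 := d31_1 D9487 (iv D9487) F26516
theorem F35884 : act 6 n9487 = n6925 := d33_1 D9487 (iv D6925) (iv F26517)
theorem F35885 : act 8 n9487 = n9487 := d35_2 D6924 D9487 (iv D9487) (iv D6924) F19666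
def n9488 : Q := act 3 n6925
theorem D9488 : act 3 n6925 = n9488 := rfl
theorem F35886 : act 0 n9488 = n9488 := d2_1 D9488 (iv D9488) F26518
theorem F35887 : act 1 n9488 = n6928 := d9_1 D9488 (iv D6928) (iv F26519)
theorem F35888 : act 5 n9488 = n6926 := d22_2 (iv F26521) D9488 (iv D6926)
theorem F35889 : act 8 n9488 = n9488 := d25_2 F26522 D9488 (iv D9488)
def n9489 : Q := act 2 n6926
theorem D9489 : act 2 n6926 = n9489 := rfl
theorem F35890 : act 0 n9489 = n9489 := d1_1 D9489 (iv D9489) F26523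
theorem F35891 : act 4 n9489 = n9489 := d16_2 F26525 D9489 (iv D9489)
theorem F35892 : act 6 n9489 = n9489 := d18_2 F26526 D9489 (iv D9489)
theorem F35893 : act 8 n9489 = n9489 := d20_2 F26527 D9489 (iv D9489)
def n9490 : Q := act 3 n6927
theorem D9490 : act 3 n6927 = n9490 := rfl
theorem F35894 : act 0 n9490 = n6930 := d2_1 D9490 (iv D6930) (iv F26528)
theorem F35896 : act 6 n9490 = n6928 := d23_2 (iv F26532) D9490 (iv D6928)
def n9491 : Q := act 2 n6928
theorem D9491 : act 2 n6928 = n9491 := rfl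
theorem F35898 : act 0 n9491 = n6931 := d1_1 D9491 (iv D6931) (iv F26534)
theorem F35900 : act 5 n9491 = n6929 := d17_2 (iv F26535) D9491 (iv D6929)
def n9492 : Q := act 4 n6928
theorem D9492 : act 4 n6928 = n9492 := rfl
theorem F35902 : act 0 n9492 = n6932 := d3_1 D9492 (iv D6932) (iv F26534)
def n9493 : Q := act 1 n6929
theorem D9493 : act 1 n6929 = n9493 := rfl
theorem F35906 : act 3 n9493 = n9493 := d9_2 F26538 D9493 (iv D9493)
theorem F35907 : act 4 n9493 = n9493 := d10_2 F26539 D9493 (iv D9493)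
theorem F35908 : act 6 n9493 = n9493 := d12_2 F26540 D9493 (iv D9493)
theorem F35909 : act 8 n9493 = n9493 := d14_2 F26541 D9493 (iv D9493)
def n9496 : Q := act 1 n6931
theorem D9496 : act 1 n6931 = n9496 := rfl
theorem F35920 : act 5 n9496 = n6933 := d11_2 (iv F26547) D9496 (iv D6933)
def n9499 : Q := act 6 n6934
theorem D9499 : act 6 n6934 = n9499 := rfl
def n9500 : Q := act 7 n6934
theorem D9500 : act 7 n6934 = n9500 := rfl
theorem F35937 : act 2 n9500 = n6936 := d19_1 D9500 (iv D6936) D6934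
def n9503 : Q := act 3 n6936
theorem D9503 : act 3 n6936 = n9503 := rfl
theorem F35948 : act 7 n9503 = n6939 := d24_2 D6936 D9503 (iv D6939) (iv D5074) D5072
def n9509 : Q := act 4 n6939
theorem D9509 : act 4 n6939 = n9509 := rfl
theorem F35968 : act 3 n9509 = n6943 := d21_1 D9509 (iv D6943) (iv D5076) (iv F19713) D6939
def n9513 : Q := act 5 n6943
theorem D9513 : act 5 n6943 = n9513 := rfl
theorem F35985 : act 4 n9513 = n6945 := d26_1 D9513 (iv D6945) (iv D5078) (iv F19721) D6943
def n9524 : Q := act 4 n6950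
theorem D9524 : act 4 n6950 = n9524 := rfl
theorem F36028 : act 7 n9524 = n6956 := d28_2 (iv F26621) D9524 (iv D6956)
def n9563 : Q := act 5 n6978
theorem D9563 : act 5 n6978 = n9563 := rfl
theorem F36153 : act 7 n9563 = n6988 := d31_2 (iv F26713) D9563 (iv D6988)
def n9869 : Q := act 6 n7204
theorem D9869 : act 6 n7204 = n9869 := rfl
theorem F37271 : act 8 n9869 = n9499 := d34_2 (iv F27541) D9869 (iv D9499)
def n9870 : Q := act 7 n7204
theorem D9870 : act 7 n7204 = n9870 := rfl
theorem F37274 : act 2 n9870 = n7206 := d19_1 D9870 (iv D7206) D7204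
theorem F37275 : act 4 n9870 = n9870 := d28_1 D9870 (iv D9870) F27539
theorem F37276 : act 5 n9870 = n7363 := d31_1 D9870 (iv D7363) (iv F27540)
theorem F37277 : act 3 n9870 = n7511 := d37_3 D7363 (iv F37276) F37275 F28699 F21267 F15826 (iv F15430) D5359 F20782 F15438 F14738 F11139 F8404 F8407 (iv D2058) (iv D1511) (iv D1108) F3583 F2708 F2066 (iv D345) D344 D466 F2136 F1694 F1693 (iv F2218) D658 F2929 F2928 F2229 F2228 (iv F2913) F2912 (iv D655) (iv D483) F1671 (iv D358) F1265 F1264 F962 F725 D200 (iv F1221) (iv F1615) (iv F2127) (iv F2800) (iv F3689) D1155 F4906 F3695 (iv F4864) (iv F6476) (iv F8632) F8631 (iv D2116) D2115 D2884 D3937 D5379 F20866 F20865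
theorem F37278 : act 8 n9870 = n9870 := d25_0 F37277 F28700 (iv F37277)
theorem E1 : n9500 = n6934 := (c35_4 F37278 (iv D9870) F27541 D9500 (iv F27541) D9870)
theorem E2 : n6936 = n5072 := ((((iv D6934)).symm.trans (sb E1 F35937))).symm
theorem E3 : n5081 = n3718 := (((F19704).symm.trans (sb E2 F26567))).symm
theorem E4 : n9503 = n3713 := ((((iv D5072)).symm.trans (sb E2 D9503))).symm
theorem E5 : n7282 = n5321 := ((((iv F20627)).symm.trans (sb E2 (iv F27847)))).symm
theorem E8 : n3732 = n2737 := (((F14663).symm.trans (sb E3 F19739))).symm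
theorem E9 : n6950 = n2728 := ((((iv D3718)).symm.trans (sb E3 D6950))).symm
theorem E10 : n5331 = n3900 := ((((iv F15343)).symm.trans (sb E3 (iv F20672)))).symm
theorem E13 : n6939 = n5074 := (((D5074).symm.trans (sb E4 F35948))).symm
theorem E14 : n5488 = n4019 := (((F20626).symm.trans (sb E5 F27846))).symm
theorem E15 : n5100 = n2007 := ((((iv D2737)).symm.trans (sb E8 D5100))).symm
theorem E16 : n3914 = n2866 := ((((iv F11479)).symm.trans (sb E8 (iv F15404)))).symm
theorem E20 : n9524 = n2001 := ((((iv D2728)).symm.trans (sb E9 D9524))).symm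
theorem E21 : n7298 = n2857 := ((((iv F11442)).symm.trans (sb E9 (iv F27918)))).symm
theorem E25 : n4027 = n2953 := (((F15342).symm.trans (sb E10 F20671))).symm
theorem E32 : n9509 = n3715 := (((F19713).symm.trans (sb E13 D9509))).symm
theorem E36 : n7500 = n5486 := (((D5486).symm.trans (sb E14 (iv F28652)))).symm
theorem E37 : n7503 = n2949 := ((((iv D4019)).symm.trans (sb E14 D7503))).symm
theorem E38 : n7502 = n5487 := (((D5487).symm.trans (sb E14 (iv F28661)))).symm
theorem F37290 : act 7 n4019 = n4019 := (sb E14 (iv D5488))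
theorem E41 : n6978 = n1475 := ((((iv D2007)).symm.trans (sb E15 D6978))).symm
theorem E42 : n5349 = n2101 := ((((iv F8575)).symm.trans (sb E15 (iv F20746)))).symm
theorem E46 : n2963 = n2175 := (((F11478).symm.trans (sb E16 F15403))).symm
theorem E53 : n6956 = n2730 := (((D2730).symm.trans (sb E20 F36028))).symm
theorem E54 : n5334 = n3902 := (((D3902).symm.trans (sb E21 F27919))).symm
theorem E57 : n5499 = n2168 := ((((iv D2953)).symm.trans (sb E25 D5499))).symm
theorem E58 : n5498 = n4026 := (((D4026).symm.trans (sb E25 (iv F21284)))).symm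
theorem F37294 : act 7 n2953 = n2953 := (sb E25 (iv D4027))
theorem E62 : n6943 = n5076 := (((D5076).symm.trans (sb E32 F35968))).symm
theorem F37301 : act 7 n5486 = n5486 := (sb E36 (iv D7500))
theorem E63 : n5491 = n4021 := (((D4021).symm.trans (sb E37 F28665))).symm
theorem F37302 : act 7 n5487 = n5487 := (sb E38 (iv D7502))
theorem E71 : n9563 = n1083 := ((((iv D1475)).symm.trans (sb E41 D9563))).symm
theorem E75 : n7324 = n1541 := ((((iv D2101)).symm.trans (sb E42 D7324))).symm
theorem E84 : n4039 = n1598 := ((((iv D2175)).symm.trans (sb E46 D4039))).symm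
theorem E85 : n4038 = n2962 := (((D2962).symm.trans (sb E46 (iv F15856)))).symm
theorem F37304 : act 7 n2175 = n2175 := (sb E46 (iv D2963))
theorem E100 : n5088 = n3722 := (((D3722).symm.trans (sb E53 F26637))).symm
theorem E104 : n7304 = n2859 := (((F15351).symm.trans (sb E54 D7304))).symm
theorem E110 : n7520 = n1595 := (((F8805).symm.trans (sb E57 D7520))).symm
theorem E112 : n7518 = n2954 := (((D2954).symm.trans (sb E57 (iv F28728)))).symm
theorem E113 : n4030 = n2955 := (((D2955).symm.trans (sb E57 F21287))).symm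
theorem E115 : n7517 = n5497 := (((D5497).symm.trans (sb E58 (iv F28725)))).symm
theorem F37311 : act 7 n4026 = n4026 := (sb E58 (iv D5498))
theorem E121 : n9513 = n3716 := (((F19721).symm.trans (sb E62 D9513))).symm
theorem F37315 : act 3 n4021 = n4021 := (sb E63 (iv D5491))
theorem E125 : n7508 = n2951 := (((F15783).symm.trans (sb E63 D7508))).symm
theorem E126 : n7506 = n5490 := ((((iv F21251)).symm.trans (sb E63 (iv F28678)))).symm
theorem E135 : n6988 = n1476 := (((D1476).symm.trans (sb E71 F36153))).symm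
theorem E139 : n5516 = n1175 := (((F6433).symm.trans (sb E75 F28024))).symm
theorem E146 : n5515 = n1177 := (((F6626).symm.trans (sb E84 D5515))).symm
theorem E147 : n5513 = n2176 := (((D2176).symm.trans (sb E84 (iv F21344)))).symm
theorem E148 : n2966 = n2177 := (((D2177).symm.trans (sb E84 F15859))).symm
theorem E150 : n5512 = n4037 := (((D4037).symm.trans (sb E85 (iv F21341)))).symm
theorem F37320 : act 7 n2962 = n2962 := (sb E85 (iv D4038))
theorem E162 : n6960 = n2731 := (((F14677).symm.trans (sb E100 D6960))).symm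
theorem E165 : n5338 = n3904 := (((D3904).symm.trans (sb E104 F27940))).symm
theorem E166 : n5503 = n2173 := (((D2173).symm.trans (sb E110 F28737))).symm
theorem E168 : n5502 = n4029 := (((D4029).symm.trans (sb E112 F28729))).symm
theorem F37332 : act 3 n2955 = n2955 := (sb E113 (iv D4030))
theorem F37333 : act 7 n5497 = n5497 := (sb E115 (iv D7517))
theorem E170 : n6945 = n5078 := (((D5078).symm.trans (sb E121 F35985))).symm
theorem E171 : n5494 = n4023 := (((D4023).symm.trans (sb E125 F28686))).symm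
theorem F37340 : act 3 n5490 = n5490 := (sb E126 (iv D7506))
theorem E192 : n5110 = n2010 := (((D2010).symm.trans (sb E135 F26736))).symm
theorem E204 : n7539 = n1599 := (((D1599).symm.trans (sb E139 (iv F28813)))).symm
theorem E205 : n4044 = n1600 := (((D1600).symm.trans (sb E139 F21354))).symm
theorem E219 : n4043 = n1603 := (((D1603).symm.trans (sb E146 F21352))).symm
theorem E222 : n4042 = n2965 := (((D2965).symm.trans (sb E147 F21345))).symm
theorem F37349 : act 3 n2177 = n2177 := (sb E148 (iv D2966))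
theorem E224 : n7535 = n5511 := (((D5511).symm.trans (sb E150 (iv F28798)))).symm
theorem F37350 : act 7 n4037 = n4037 := (sb E150 (iv D5512))
theorem E254 : n5090 = n3724 := (((D3724).symm.trans (sb E162 F26650))).symm
theorem E262 : n7306 = n5336 := ((((iv F20690)).symm.trans (sb E165 (iv F27946)))).symm
theorem E263 : n4032 = n2957 := (((F15359).symm.trans (sb E165 F20698))).symm
theorem E266 : n4036 = n2961 := (((D2961).symm.trans (sb E166 F21301))).symm
theorem F37362 : act 3 n4029 = n4029 := (sb E168 (iv D5502))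
theorem E273 : n7294 = n5328 := ((((iv F20658)).symm.trans (sb E170 (iv F27901)))).symm
theorem E276 : n7511 = n5493 := (((D5493).symm.trans (sb E171 (iv F28699)))).symm
theorem F37365 : act 4 n4023 = n4023 := (sb E171 (iv D5494))
theorem E278 : n7510 = n5492 := ((((iv F21259)).symm.trans (sb E171 (iv F28695)))).symm
theorem E300 : n3741 = n2743 := (((D2743).symm.trans (sb E192 F19830))).symm
theorem E312 : n5520 = n2178 := (((D2178).symm.trans (sb E204 F28814))).symm
theorem E313 : n2968 = n2179 := (((D2179).symm.trans (sb E205 F15876))).symm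
theorem E319 : n2972 = n2183 := (((D2183).symm.trans (sb E219 F15872))).symm
theorem F37378 : act 3 n2965 = n2965 := (sb E222 (iv D4042))
theorem F37379 : act 7 n5511 = n5511 := (sb E224 (iv D7535))
theorem E349 : n5340 = n3906 := ((((iv F15366)).symm.trans (sb E254 (iv F20706)))).symm
theorem E353 : n5505 = n4031 := (((F20691).symm.trans (sb E262 F27947))).symm
theorem F37399 : act 4 n2957 = n2957 := (sb E263 (iv D4032))
theorem F37401 : act 2 n2961 = n2961 := (sb E266 (iv D4036))
theorem E356 : n5496 = n4025 := (((F20659).symm.trans (sb E273 F27902))).symm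
theorem E357 : n9870 = n5493 := (((F21263).symm.trans (sb E276 (iv F37277)))).symm
theorem F37406 : act 4 n5493 = n5493 := (sb E276 (iv D7511))
theorem F37407 : act 4 n5492 = n5492 := (sb E278 (iv D7510))
theorem E413 : n3923 = n2872 := ((((iv F11502)).symm.trans (sb E300 (iv F15438)))).symm
theorem E435 : n4045 = n2967 := (((D2967).symm.trans (sb E312 F21367))).symm
theorem F37422 : act 4 n2179 = n2179 := (sb E313 (iv D2968))
theorem F37426 : act 2 n2183 = n2183 := (sb E319 (iv D2972))
theorem E491 : n7310 = n4631 := ((((iv F18085)).symm.trans (sb E349 D7310))).symm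
theorem E492 : n4033 = n2958 := (((F15367).symm.trans (sb E349 F20707))).symm
theorem F37443 : act 4 n4031 = n4031 := (sb E353 (iv D5505))
theorem E498 : n7529 = n4998 := ((((iv F19417)).symm.trans (sb E353 D7529))).symm
theorem E502 : n7514 = n5495 := ((((iv F21271)).symm.trans (sb E356 (iv F28713)))).symm
theorem F37445 : act 5 n4025 = n4025 := (sb E356 (iv D5496))
theorem E503 : n7515 = n4992 := ((((iv F19395)).symm.trans (sb E356 D7515))).symm
theorem E504 : n7206 = n4023 := ((((iv D5493)).symm.trans (sb E357 F37274))).symm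
theorem E505 : n7363 = n4024 := (((F21264).symm.trans (sb E357 F37276))).symm
theorem E506 : n7289 = n7204 := (((iv F27880)).symm.trans (sb E357 (iv D9870)))
theorem E569 : n5361 = n3394 := ((((iv F13463)).symm.trans (sb E413 D5361))).symm
theorem E570 : n2969 = n2180 := (((F11503).symm.trans (sb E413 F15439))).symm
theorem F37469 : act 4 n2967 = n2967 := (sb E435 (iv D4045))
theorem E583 : n5524 = n3664 := ((((iv F14456)).symm.trans (sb E435 D5524))).symm
theorem E609 : n8707 = n6344 := (((D6344).symm.trans (sb E491 (iv F33101)))).symm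
theorem F37487 : act 5 n2958 = n2958 := (sb E492 (iv D4033))
theorem E611 : n9392 = n6846 := (((D6846).symm.trans (sb E498 (iv F35517)))).symm
theorem F37492 : act 5 n5495 = n5495 := (sb E502 (iv D7514))
theorem E612 : n9378 = n6837 := (((D6837).symm.trans (sb E503 (iv F35468)))).symm
theorem E613 : n5276 = n2957 := (((F15792).symm.trans (sb E504 F27548))).symm
theorem E614 : n5381 = n2952 := (((F15793).symm.trans (sb E504 F27550))).symm
theorem E615 : n5325 = n5267 := (((iv F20646)).symm.trans (sb E504 (iv D7206)))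
theorem E616 : n5534 = n5495 := (((D5495).symm.trans (sb E505 F28177))).symm
theorem E617 : n5379 = n5327 := ((((iv F20655)).symm.trans (sb E505 (iv D7363)))).symm
theorem E618 : n7280 = n7213 := (((iv F27835)).symm.trans (sb E506 F27878))
theorem F37493 : act 7 n7204 = n5493 := (sb E506 F27880)
theorem E735 : n6365 = n4648 := (((D4648).symm.trans (sb E569 (iv F24513)))).symm
theorem F37511 : act 5 n2180 = n2180 := (sb E570 (iv D2969))
theorem E751 : n6865 = n5012 := (((D5012).symm.trans (sb E583 (iv F26289)))).symm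
theorem E771 : n6848 = n5000 := (((F24430).symm.trans (sb E609 F33102))).symm
theorem F37537 : act 5 n6846 = n6846 := (sb E611 (iv D9392))
theorem F37538 : act 6 n6837 = n6837 := (sb E612 (iv D9378))
theorem E772 : n3873 = n2179 := (((F11796).symm.trans (sb E613 F20451))).symm
theorem E773 : n7220 = n2170 := ((((iv D2957)).symm.trans (sb E613 D7220))).symm
theorem E774 : n3943 = n2171 := (((F11798).symm.trans (sb E613 F20454))).symm
theorem E775 : n7219 = n4031 := ((((iv F15824)).symm.trans (sb E613 (iv F27604)))).symm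
theorem E776 : n3904 = n3860 := (((iv F15359)).symm.trans (sb E613 (iv D5276)))
theorem E777 : n7366 = n2167 := ((((iv D2952)).symm.trans (sb E614 D7366))).symm
theorem E778 : n4057 = n4025 := (((D4025).symm.trans (sb E614 F20874))).symm
theorem E779 : n7365 = n3649 := ((((iv F14393)).symm.trans (sb E614 (iv F28184)))).symm
theorem E780 : n3937 = n3898 := ((((iv F15334)).symm.trans (sb E614 (iv D5381)))).symm
theorem E781 : n3897 = n3855 := ((((iv D5267)).symm.trans (sb E615 (iv D5325)))).symm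
theorem E782 : n7287 = n7205 := (((D7205).symm.trans (sb E615 (iv F27869)))).symm
theorem F37539 : act 7 n5267 = n4023 := (sb E615 F20646)
theorem E784 : n7564 = n7513 := (((D7513).symm.trans (sb E616 D7564))).symm
theorem E785 : n7563 = n6836 := ((((iv F26184)).symm.trans (sb E616 (iv F28912)))).symm
theorem E786 : n7292 = n4055 := (((iv F27893)).symm.trans (sb E616 (iv D5534)))
theorem E787 : n6934 = n5273 := (((F20654).symm.trans (sb E617 (iv F26560)))).symm
theorem F37540 : act 5 n5327 = n7204 := (sb E617 (iv F27540))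
theorem E789 : n7293 = n7213 := ((D7293).symm.trans (sb E617 (tr (iv F27838) E618)))
theorem E790 : n5321 = n5271 := ((((iv D7213)).symm.trans (sb E618 (iv D7280)))).symm
theorem F37541 : act 3 n7213 = n7204 := (sb E618 F27835)
theorem F37542 : act 4 n7213 = n5486 := (sb E618 F27836)
theorem E878 : n8736 = n6363 := ((((iv F24504)).symm.trans (sb E735 (iv F33206)))).symm
theorem E879 : n5014 = n3666 := (((F18160).symm.trans (sb E735 F24514))).symm
theorem F37577 : act 5 n5012 = n5012 := (sb E751 (iv D6865))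
theorem E895 : n9393 = n6847 := ((((iv F26224)).symm.trans (sb E771 (iv F35521)))).symm
theorem F37587 : act 6 n5000 = n5000 := (sb E771 (iv D6848))
theorem E896 : n5293 = n1600 := ((((iv D2179)).symm.trans (sb E772 D5293))).symm
theorem E897 : n2899 = n1601 := (((F8852).symm.trans (sb E772 F15237))).symm
theorem E898 : n5292 = n2967 := ((((iv F11841)).symm.trans (sb E772 (iv F20518)))).symm
theorem E899 : n2870 = n2838 := (((iv F11495)).symm.trans (sb E772 (iv D3873)))
theorem E900 : n5389 = n1594 := (((F8813).symm.trans (sb E773 F27606))).symm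
theorem E901 : n5279 = n1593 := ((((iv D2170)).symm.trans (sb E773 F27607))).symm
theorem E902 : n2979 = n2958 := (((D2958).symm.trans (sb E774 F15518))).symm
theorem E903 : n5388 = n2676 := ((((iv F10743)).symm.trans (sb E774 (iv F20897)))).symm
theorem E904 : n2888 = n2860 := ((((iv F11453)).symm.trans (sb E774 (iv D3943)))).symm
theorem E905 : n5336 = n5275 := (((iv F20691)).symm.trans (sb E775 (iv D7219)))
theorem E906 : n2859 = n2829 := ((((iv D3860)).symm.trans (sb E776 (iv D3904)))).symm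
theorem F37588 : act 7 n3860 = n2957 := (sb E776 F15359)
theorem E908 : n5384 = n1592 := ((((iv D2167)).symm.trans (sb E777 F28188))).symm
theorem E909 : n5536 = n4992 := ((((iv F19395)).symm.trans (sb E778 (iv F21439)))).symm
theorem E910 : n5328 = n2976 := (((iv F20659)).symm.trans (sb E778 (iv D4057)))
theorem E911 : n5380 = n4623 := ((((iv F18051)).symm.trans (sb E779 (iv D7365)))).symm
theorem E912 : n2884 = n2856 := ((((iv D3898)).symm.trans (sb E780 (iv D3937)))).symm
theorem F37589 : act 5 n3898 = n5267 := (sb E780 (iv F20417))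
theorem E913 : n5329 = n5271 := ((D5329).symm.trans (sb E780 (tr (iv F20628) E790)))
theorem E914 : n3895 = n3857 := (((iv F15320)).symm.trans (sb E781 F15330))
theorem E915 : n5323 = n2827 := ((((iv D3855)).symm.trans (sb E781 (iv F20637)))).symm
theorem E916 : n5324 = n5268 := (((D5268).symm.trans (sb E781 (iv F20642)))).symm
theorem E917 : n5269 = n2855 := ((D5269).symm.trans (sb E781 (iv D3897)))
theorem E918 : n5326 = n3713 := (((F15166).symm.trans (sb E781 D5326))).symm
theorem F37591 : act 7 n7205 = n5492 := (sb E782 F27870)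
theorem F37592 : act 5 n7513 = n7513 := (sb E784 (tr F28916 E784))
theorem E919 : n8689 = n5533 := (((iv F33029)).symm.trans (sb E785 (iv D7563)))
theorem F37593 : act 4 n4055 = n5327 := (sb E786 (iv D7292))
theorem F37594 : act 7 n4055 = n5495 := (sb E786 F27893)
theorem E920 : n5072 = n3858 := ((((iv D5273)).symm.trans (sb E787 (iv D6934)))).symm
theorem E921 : n9499 = n6080 := ((((iv F23473)).symm.trans (sb E787 D9499))).symm
theorem E922 : n7216 = n7204 := ((D7216).symm.trans (sb E787 (iv F27541)))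
theorem F37595 : act 6 n7213 = n8690 := (sb E789 (iv F33034))
theorem F37596 : act 8 n7213 = n5327 := (sb E789 (iv D7293))
theorem E923 : n3900 = n3864 := (((F20431).symm.trans (sb E790 F20625))).symm
theorem E924 : n7214 = n4019 := ((D7214).symm.trans (sb E790 F20626))
theorem E925 : n7281 = n7211 := ((((iv F27569)).symm.trans (sb E790 D7281))).symm
theorem E1052 : n6866 = n5013 := (((F24505).symm.trans (sb E878 F33207))).symm
theorem F37626 : act 6 n3666 = n3666 := (sb E879 (iv D5014))
theorem F37636 : act 6 n6847 = n6847 := (sb E895 (iv D9393))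
theorem E1064 : n7243 = n1179 := (((F6633).symm.trans (sb E896 D7243))).symm
theorem E1066 : n3956 = n1176 := (((F6634).symm.trans (sb E896 F20520))).symm
theorem E1067 : n7241 = n2178 := ((((iv F8848)).symm.trans (sb E896 (iv F27688)))).symm
theorem E1068 : n3876 = n1175 := ((((iv D1600)).symm.trans (sb E896 F20521))).symm
theorem E1069 : n2193 = n2180 := (((D2180).symm.trans (sb E897 F11597))).symm
theorem E1070 : n3955 = n1965 := ((((iv F8054)).symm.trans (sb E897 (iv F15555)))).symm
theorem E1071 : n2125 = n2104 := ((((iv F8586)).symm.trans (sb E897 (iv D2899)))).symm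
theorem E1072 : n7240 = n3664 := ((((iv F14456)).symm.trans (sb E898 (iv F27685)))).symm
theorem E1073 : n3919 = n3872 := (((iv F15423)).symm.trans (sb E898 (iv D5292)))
theorem E1074 : n2103 = n2080 := ((((iv D2838)).symm.trans (sb E899 (iv D2870)))).symm
theorem F37637 : act 7 n2838 = n2179 := (sb E899 F11495)
theorem E1077 : n7375 = n1958 := ((((iv F8024)).symm.trans (sb E900 (iv F28217)))).symm
theorem E1078 : n3946 = n1171 := ((((iv D1594)).symm.trans (sb E900 F20900))).symm
theorem E1081 : n3862 = n2095 := ((((iv F8550)).symm.trans (sb E901 (iv D5279)))).symm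
theorem E1085 : n4060 = n3655 := ((((iv F14419)).symm.trans (sb E902 (iv F15949)))).symm
theorem E1086 : n3906 = n2189 := (((iv F15367)).symm.trans (sb E902 (iv D2979)))
theorem E1087 : n7374 = n3654 := ((((iv F14414)).symm.trans (sb E903 (iv F28214)))).symm
theorem E1088 : n3942 = n3382 := ((((iv F13412)).symm.trans (sb E903 (iv D5388)))).symm
theorem E1089 : n2117 = n2096 := ((((iv D2860)).symm.trans (sb E904 (iv D2888)))).symm
theorem F37638 : act 5 n2860 = n3860 := (sb E904 (iv F15185))
theorem E1090 : n3907 = n3864 := ((D3907).symm.trans (sb E904 (tr (iv F15344) E923)))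
theorem E1091 : n3903 = n3861 := (((F20448).symm.trans (sb E905 (iv D5336)))).symm
theorem F37639 : act 7 n5275 = n4031 := (sb E905 F20691)
theorem E1094 : n2099 = n2076 := (((F11335).symm.trans (sb E906 F11449))).symm
theorem E1095 : n3902 = n2074 := ((((iv D2829)).symm.trans (sb E906 (iv F15351)))).symm
theorem E1096 : n3905 = n2728 := (((F11337).symm.trans (sb E906 D3905))).symm
theorem E1097 : n3939 = n2094 := ((((iv F8545)).symm.trans (sb E908 (iv D5384)))).symm
theorem E1100 : n7567 = n6837 := (((D6837).symm.trans (sb E909 (iv F28928)))).symm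
theorem E1101 : n6332 = n4056 := (((iv F24380)).symm.trans (sb E909 (iv D5536)))
theorem F37640 : act 4 n2976 = n3898 := (sb E910 (iv D5328))
theorem F37641 : act 7 n2976 = n4025 := (sb E910 F20659)
theorem E1104 : n3938 = n3378 := ((((iv D4623)).symm.trans (sb E911 F20870))).symm
theorem E1106 : n7211 = n6333 := (((D6333).symm.trans (sb E911 (tr (iv F27843) E925)))).symm
theorem E1107 : n3713 = n2828 := (((F11438).symm.trans (sb E912 (iv F14647)))).symm
theorem E1108 : n2727 = n2115 := ((F11439).symm.trans (sb E912 (iv D2884)))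
theorem F37642 : act 5 n2856 = n3855 := (sb E912 (iv F15165))
theorem E1109 : n3899 = n3857 := ((D3899).symm.trans (sb E912 (tr (iv F15322) E914)))
theorem E1110 : n7215 = n3898 := ((D7215).symm.trans (sb E913 (iv D5329)))
theorem E1111 : n2857 = n2831 := (((F15172).symm.trans (sb E914 F15319))).symm
theorem F37643 : act 2 n3857 = n3855 := (sb E914 F15320)
theorem E1112 : n5322 = n5270 := ((((iv F20429)).symm.trans (sb E914 D5322))).symm
theorem E1114 : n7284 = n3856 := (((D3856).symm.trans (sb E915 (iv F27857)))).symm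
theorem E1115 : n7286 = n2726 := (((F11330).symm.trans (sb E915 D7286))).symm
theorem E1116 : n7207 = n6328 := ((D7207).symm.trans (sb E916 (iv F24360)))
theorem F37644 : act 4 n2855 = n3857 := (sb E917 F20425)
theorem F37645 : act 7 n2855 = n3855 := (sb E917 (iv D5269))
theorem E1120 : n5326 = n2828 := (E918).trans E1107
theorem E1121 : n2728 = n2075 := (((F11332).symm.trans (sb E1120 (tr F20648 E1096)))).symm
theorem E1122 : n5272 = n2856 := ((((iv F11438)).symm.trans (sb E1120 F20649))).symm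
theorem E1123 : n2726 = n2116 := (((F11333).symm.trans (sb E1120 (tr (iv F27864) E1115)))).symm
theorem F37646 : act 4 n5533 = n6331 := (sb E919 (iv D8689))
theorem F37647 : act 7 n5533 = n6836 := (sb E919 F33029)
theorem E1126 : n3718 = n2832 := (((F15175).symm.trans (sb E920 F19704))).symm
theorem E1127 : n6935 = n4447 := ((((iv F17416)).symm.trans (sb E920 D6935))).symm
theorem E1128 : n5274 = n5267 := ((D5274).symm.trans (sb E920 (iv F20418)))
theorem E1129 : n9869 = n8330 := (((D8330).symm.trans (sb E921 (iv F37271)))).symm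
theorem F37648 : act 8 n7204 = n5273 := (sb E922 (iv D7216))
theorem E1130 : n2866 = n2842 := (((F15198).symm.trans (sb E923 F15340))).symm
theorem E1131 : n5283 = n2953 := ((D5283).symm.trans (sb E923 F15342))
theorem E1132 : n5330 = n5281 := ((((iv F20472)).symm.trans (sb E923 D5330))).symm
theorem F37649 : act 4 n4019 = n5271 := (sb E924 (iv D7214))
theorem E1133 : n7281 = n6333 := (E925).trans E1106
theorem E1134 : n5281 = n4632 := (((F24382).symm.trans (sb E1133 (tr F27840 E1132)))).symm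
theorem E1135 : n5270 = n4624 := (((F24383).symm.trans (sb E1133 (tr F27841 E1112)))).symm
theorem E1136 : n8692 = n5487 := (((iv F33043)).symm.trans (sb E1133 F27842))
theorem E1226 : n9417 = n6864 := ((((iv F26284)).symm.trans (sb E1052 (iv F35608)))).symm
theorem F37682 : act 6 n5013 = n5013 := (sb E1052 (iv D6866))
theorem E1228 : n5298 = n866 := ((((iv D1179)).symm.trans (sb E1064 F27697))).symm
theorem E1230 : n5405 = n1438 := ((((iv F6029)).symm.trans (sb E1066 (iv F20949)))).symm
theorem E1231 : n2902 = n865 := ((((iv D1176)).symm.trans (sb E1066 F15558))).symm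
theorem E1232 : n5296 = n1599 := ((((iv D2178)).symm.trans (sb E1067 F27689))).symm
theorem E1233 : n2840 = n1541 := ((((iv F6433)).symm.trans (sb E1068 (iv D3876)))).symm
theorem E1235 : n2982 = n2685 := ((((iv F10784)).symm.trans (sb E1069 (iv F11905)))).symm
theorem E1236 : n2872 = n1612 := (((iv F11503)).symm.trans (sb E1069 (iv D2193)))
theorem E1237 : n5404 = n2684 := ((((iv F10779)).symm.trans (sb E1070 (iv F20946)))).symm
theorem E1238 : n2898 = n2484 := ((((iv F10036)).symm.trans (sb E1070 (iv D3955)))).symm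
theorem E1239 : n1558 = n1542 := ((((iv D2104)).symm.trans (sb E1071 (iv D2125)))).symm
theorem F37689 : act 5 n2104 = n2838 := (sb E1071 (iv F11370))
theorem E1240 : n2873 = n2842 := ((D2873).symm.trans (sb E1071 (tr (iv F11480) E1130)))
theorem E1241 : n5291 = n4644 := ((((iv F18143)).symm.trans (sb E1072 (iv D7240)))).symm
theorem E1242 : n2869 = n2839 := (((F15231).symm.trans (sb E1073 (iv D3919)))).symm
theorem F37690 : act 7 n3872 = n2967 := (sb E1073 F15423)
theorem E1244 : n1545 = n1529 := (((F8493).symm.trans (sb E1074 F8582))).symm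
theorem E1246 : n2871 = n2007 := (((F8495).symm.trans (sb E1074 D2871))).symm
theorem E1248 : n5392 = n1433 := ((((iv D1958)).symm.trans (sb E1077 F28218))).symm
theorem E1249 : n2890 = n1537 := ((((iv F6414)).symm.trans (sb E1078 (iv D3946)))).symm
theorem E1252 : n2835 = n1538 := (((F8549).symm.trans (sb E1081 F15192))).symm
theorem E1253 : n5278 = n2858 := (((D2858).symm.trans (sb E1081 (iv F20462)))).symm
theorem F37691 : act 7 n2095 = n2829 := (sb E1081 (iv D3862))
theorem E1255 : n5539 = n5000 := (((D5000).symm.trans (sb E1085 (iv F21450)))).symm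
theorem E1256 : n4631 = n2978 := (((iv F18086)).symm.trans (sb E1085 (iv D4060)))
theorem F37692 : act 4 n2189 = n2860 := (sb E1086 (iv D3906))
theorem F37693 : act 7 n2189 = n2958 := (sb E1086 F15367)
theorem E1259 : n5387 = n4629 := ((((iv F18077)).symm.trans (sb E1087 (iv D7374)))).symm
theorem E1260 : n2889 = n2476 := ((((iv D3382)).symm.trans (sb E1088 F15514))).symm
theorem E1261 : n5330 = n4632 := (E1132).trans E1134
theorem E1262 : n1554 = n1539 := (((F8553).symm.trans (sb E1089 F8635))).symm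
theorem E1263 : n2002 = n1552 := ((F8554).symm.trans (sb E1089 (iv D2117)))
theorem F37694 : act 5 n2096 = n2829 := (sb E1089 (iv F11336))
theorem E1264 : n2861 = n2831 := ((D2861).symm.trans (sb E1089 (tr (iv F11443) E1111)))
theorem E1265 : n5284 = n2860 := ((D5284).symm.trans (sb E1090 (iv D3907)))
theorem E1266 : n2864 = n2834 := (((F15188).symm.trans (sb E1091 F15354))).symm
theorem E1267 : n5333 = n2830 := (((F15189).symm.trans (sb E1091 (iv F20679)))).symm
theorem E1268 : n5277 = n4628 := ((D5277).symm.trans (sb E1091 (iv F18072)))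
theorem E1269 : n5337 = n3719 := (((F15190).symm.trans (sb E1091 D5337))).symm
theorem E1271 : n2097 = n2078 := (((iv F8556)).symm.trans (sb E1094 F8565))
theorem E1272 : n2863 = n1524 := ((((iv D2076)).symm.trans (sb E1094 (iv F11465)))).symm
theorem E1273 : n2865 = n2003 := (((F8481).symm.trans (sb E1094 D2865))).symm
theorem E1275 : n5335 = n2001 := (((F8474).symm.trans (sb E1095 D5335))).symm
theorem E1276 : n3905 = n2075 := (E1096).trans E1121
theorem E1277 : n2007 = n1528 := (((F8475).symm.trans (sb E1276 (tr F15360 E1246)))).symm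
theorem E1278 : n2003 = n1525 := (((F8476).symm.trans (sb E1276 (tr F15361 E1273)))).symm
theorem E1279 : n2001 = n1553 := (((F8477).symm.trans (sb E1276 (tr (iv F20685) E1275)))).symm
theorem E1280 : n3719 = n2390 := ((((iv F9692)).symm.trans (sb E1276 (tr (iv F20694) E1269)))).symm
theorem E1282 : n2886 = n2000 := (((F8546).symm.trans (sb E1097 F15503))).symm
theorem E1285 : n8691 = n5535 := (((iv F33039)).symm.trans (sb E1100 (iv D7567)))
theorem F37696 : act 4 n4056 = n4623 := (sb E1101 (iv D6332))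
theorem F37697 : act 7 n4056 = n4992 := (sb E1101 F24380)
theorem E1289 : n3080 = n2885 := ((F13395).symm.trans (sb E1104 F15500))
theorem E1290 : n5382 = n4622 := ((((iv F18047)).symm.trans (sb E1104 D5382))).symm
theorem E1291 : n5322 = n4624 := (E1112).trans E1135
theorem E1292 : n8688 = n8325 := (((iv F33022)).symm.trans (sb E1106 (iv F31733)))
theorem F37698 : act 6 n6333 = n5271 := (sb E1106 F27569)
theorem E1293 : n3859 = n3855 := ((D3859).symm.trans (sb E1107 (iv F15166)))
theorem F37699 : act 4 n2115 = n2856 := (sb E1108 (iv F11439))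
theorem E1296 : n2887 = n2827 := ((((iv D3857)).symm.trans (sb E1109 F15339))).symm
theorem F37700 : act 8 n3898 = n5271 := (sb E1110 (iv D7215))
theorem E1297 : n2101 = n2082 := (((F11342).symm.trans (sb E1111 F11440))).symm
theorem F37701 : act 4 n2831 = n2095 := (sb E1111 (iv D2857))
theorem E1298 : n3901 = n3863 := ((((iv F15197)).symm.trans (sb E1111 D3901))).symm
theorem E1299 : n3863 = n3383 := (((F18053).symm.trans (sb E1291 (tr F20630 E1298)))).symm
theorem E1300 : n5268 = n4448 := (((F18054).symm.trans (sb E1291 F20631))).symm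
theorem E1301 : n4199 = n3896 := ((F18055).symm.trans (sb E1291 F20632))
theorem E1302 : n7283 = n6330 := ((((iv F24369)).symm.trans (sb E1291 D7283))).symm
theorem E1303 : n3856 = n3409 := (((F18057).symm.trans (sb E1291 (tr D7284 E1114)))).symm
theorem E1306 : n7284 = n3409 := (E1114).trans E1303
theorem E1307 : n2830 = n2500 := (((F13521).symm.trans (sb E1306 (tr F27854 E1267)))).symm
theorem E1310 : n6330 = n6077 := (((F24359).symm.trans (sb E1116 (tr (iv F27850) E1302)))).symm
theorem E1311 : n8681 = n8321 := (((iv F32989)).symm.trans (sb E1116 (iv F31716)))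
theorem E1312 : n6328 = n6079 := ((((iv F23468)).symm.trans (iv (sb E1116 (tr (iv D7207) E1300))))).symm
theorem E1313 : n7207 = n6079 := (E1116).trans E1312
theorem E1314 : n8326 = n4622 := (((iv F31739)).symm.trans (sb E1313 (tr F27553 E1290)))
theorem E1315 : n6937 = n4446 := ((((iv D6079)).symm.trans (sb E1313 F27554))).symm
theorem E1317 : n5337 = n2390 := (E1269).trans E1280
theorem E1321 : n2833 = n2829 := ((D2833).symm.trans (sb E1121 (iv F11337)))
theorem E1322 : n3865 = n2096 := (((F11437).symm.trans (sb E1122 F20435))).symm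
theorem F37702 : act 8 n2856 = n3857 := (sb E1122 (iv D5272))
theorem F37703 : act 2 n2116 = n2115 := (sb E1123 F10956)
theorem E1324 : n3714 = n2496 := ((((iv F10085)).symm.trans (sb E1123 D3714))).symm
theorem E1325 : n2737 = n2083 := (((F11345).symm.trans (sb E1126 F14663))).symm
theorem E1326 : n5080 = n3259 := ((((iv F12970)).symm.trans (sb E1126 D5080))).symm
theorem E1327 : n3866 = n3860 := ((D3866).symm.trans (sb E1126 (iv F15186)))
theorem E1329 : n7205 = n6081 := (((D6081).symm.trans (sb E1127 (iv F27546)))).symm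
theorem F37704 : act 8 n5267 = n3858 := (sb E1128 (iv D5274))
theorem F37705 : act 6 n8330 = n7204 := (sb E1129 (iv D9869))
theorem E1331 : n3880 = n2175 := ((D3880).symm.trans (sb E1130 F11478))
theorem E1332 : n3913 = n3878 := ((((iv F15255)).symm.trans (sb E1130 D3913))).symm
theorem F37706 : act 4 n2953 = n3864 := (sb E1131 (iv D5283))
theorem E1335 : n3878 = n3395 := (((F18087).symm.trans (sb E1261 (tr F20664 E1332)))).symm
theorem E1336 : n3901 = n3383 := (E1298).trans E1299
theorem E1337 : n6345 = n4026 := (((iv F24434)).symm.trans (sb E1261 F20667))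
theorem E1339 : n6343 = n6088 := (((iv F24425)).symm.trans (sb E1134 (iv F23505)))
theorem F37707 : act 6 n4632 = n3864 := (sb E1134 F20472)
theorem F37708 : act 6 n4624 = n3857 := (sb E1135 F20429)
theorem F37709 : act 4 n5487 = n6333 := (sb E1136 F33043)
theorem F37741 : act 6 n6864 = n6864 := (sb E1226 (iv D9417))
theorem E1453 : n7251 = n640 := (((F3759).symm.trans (sb E1228 D7251))).symm
theorem E1454 : n3886 = n639 := (((F3760).symm.trans (sb E1228 F20538))).symm
theorem E1460 : n7396 = n1964 := ((((iv F8050)).symm.trans (sb E1230 (iv F28285)))).symm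
theorem E1461 : n3959 = n1051 := ((((iv D1438)).symm.trans (sb E1230 F20950))).symm
theorem E1462 : n2127 = n1131 := ((((iv F4827)).symm.trans (sb E1231 (iv D2902)))).symm
theorem E1464 : n3875 = n2102 := ((((iv F8579)).symm.trans (sb E1232 (iv D5296)))).symm
theorem E1467 : n2086 = n1132 := (((F6432).symm.trans (sb E1233 F11377))).symm
theorem F37742 : act 7 n1541 = n2080 := (sb E1233 (iv D2840))
theorem E1469 : n4063 = n3666 := (((D3666).symm.trans (sb E1235 (iv F15960)))).symm
theorem E1470 : n3394 = n2192 := (((iv F13464)).symm.trans (sb E1235 (iv D2982)))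
theorem F37743 : act 4 n1612 = n2104 := (sb E1236 (iv D2872))
theorem F37744 : act 7 n1612 = n2180 := (sb E1236 F11503)
theorem E1473 : n7395 = n3665 := (((D3665).symm.trans (sb E1237 (iv F28282)))).symm
theorem E1474 : n3954 = n3392 := ((((iv F13455)).symm.trans (sb E1237 (iv D5404)))).symm
theorem E1475 : n2126 = n1816 := ((((iv D2484)).symm.trans (sb E1238 F11593))).symm
theorem E1476 : n3913 = n3395 := (E1332).trans E1335
theorem E1477 : n1145 = n1133 := (((F6436).symm.trans (sb E1239 F6488))).symm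
theorem E1478 : n1476 = n1143 := ((F6437).symm.trans (sb E1239 (iv D1558)))
theorem F37745 : act 5 n1542 = n2080 := (sb E1239 (iv F8494))
theorem E1479 : n2105 = n2082 := ((D2105).symm.trans (sb E1239 (tr (iv F8576) E1297)))
theorem E1480 : n3881 = n2104 := ((D3881).symm.trans (sb E1240 (iv D2873)))
theorem E1481 : n3874 = n3391 := ((((iv D4644)).symm.trans (sb E1241 F20512))).symm
theorem E1484 : n2108 = n2085 := (((F11373).symm.trans (sb E1242 F11490))).symm
theorem E1485 : n3916 = n2081 := (((F11374).symm.trans (sb E1242 (iv F15411)))).symm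
theorem E1486 : n3920 = n2738 := (((F11375).symm.trans (sb E1242 D3920))).symm
theorem E1487 : n1137 = n1125 := (((F6385).symm.trans (sb E1244 F6445))).symm
theorem E1489 : n2109 = n1477 := (((F6388).symm.trans (sb E1244 D2109))).symm
theorem E1492 : n2871 = n1528 := (E1246).trans E1277
theorem E1493 : n1477 = n1123 := (((F6383).symm.trans (sb E1492 (tr F11497 E1489)))).symm
theorem E1495 : n2738 = n1757 := ((((iv F7273)).symm.trans (sb E1492 (tr (iv F15426) E1486)))).symm
theorem E1500 : n3945 = n1811 := ((((iv F7469)).symm.trans (sb E1248 (iv D5392)))).symm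
theorem E1503 : n2122 = n1129 := ((((iv D1537)).symm.trans (sb E1249 F11568))).symm
theorem E1504 : n2119 = n1471 := (((F6415).symm.trans (sb E1249 F11569))).symm
theorem E1509 : n3868 = n2098 := (((D2098).symm.trans (sb E1252 (iv F15216)))).symm
theorem F37747 : act 7 n1538 = n2076 := (sb E1252 (iv D2835))
theorem E1511 : n7222 = n3380 := ((((iv F13404)).symm.trans (sb E1253 (iv F27615)))).symm
theorem E1514 : n7569 = n6847 := ((((iv F26224)).symm.trans (sb E1255 (iv F28936)))).symm
theorem E1515 : n6344 = n4059 := (((iv F24430)).symm.trans (sb E1255 (iv D5539)))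
theorem F37749 : act 4 n2978 = n3382 := (sb E1256 (iv D4631))
theorem F37750 : act 7 n2978 = n3655 := (sb E1256 F18086)
theorem E1520 : n3944 = n3381 := ((((iv D4629)).symm.trans (sb E1259 F20893))).symm
theorem E1521 : n7373 = n6342 := (((D6342).symm.trans (sb E1259 D7373))).symm
theorem E1523 : n2121 = n1813 := (((F9999).symm.trans (sb E1260 F11565))).symm
theorem E1524 : n2266 = n2118 := ((F10000).symm.trans (sb E1260 F11566))
theorem E1525 : n1473 = n1140 := ((F6424).symm.trans (sb E1262 (iv D1554)))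
theorem F37751 : act 5 n1539 = n2076 := (sb E1262 (iv F8480))
theorem E1526 : n2100 = n2078 := ((D2100).symm.trans (sb E1262 (tr (iv F8559) E1271)))
theorem F37752 : act 4 n1552 = n2096 := (sb E1263 (iv F8554))
theorem E1529 : n2120 = n2074 := ((((iv D2831)).symm.trans (sb E1264 F11457))).symm
theorem F37753 : act 8 n2860 = n3864 := (sb E1265 (iv D5284))
theorem E1531 : n2862 = n2836 := (((iv F11459)).symm.trans (sb E1266 F11468))
theorem E1532 : n3909 = n2077 := (((F11355).symm.trans (sb E1266 (iv F15379)))).symm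
theorem E1533 : n3867 = n3386 := ((D3867).symm.trans (sb E1266 (iv F13429)))
theorem E1535 : n5333 = n2500 := (E1267).trans E1307
theorem E1536 : n2081 = n1835 := (((F10096).symm.trans (sb E1535 (tr F20677 E1485)))).symm
theorem E1537 : n2077 = n1831 := (((F10097).symm.trans (sb E1535 (tr F20678 E1532)))).symm
theorem E1540 : n6337 = n6084 := (((iv F24400)).symm.trans (sb E1268 (iv F23489)))
theorem E1541 : n6341 = n5082 := ((D6341).symm.trans (sb E1268 F20458))
theorem E1542 : n3920 = n1757 := (E1486).trans E1495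
theorem E1544 : n5082 = n3258 := ((((iv F12966)).symm.trans (sb E1317 (tr (iv F24416) E1541)))).symm
theorem E1546 : n6341 = n3258 := (E1541).trans E1544
theorem E1547 : n1543 = n1531 := (((F8485).symm.trans (sb E1271 F8555))).symm
theorem F37756 : act 1 n2078 = n2076 := (sb E1271 F8556)
theorem F37757 : act 4 n2078 = n1538 := (sb E1271 (iv D2097))
theorem E1548 : n3910 = n1120 := (((F6368).symm.trans (sb E1272 D3910))).symm
theorem E1550 : n3909 = n1831 := (E1532).trans E1537
theorem E1551 : n3911 = n1472 := (((F6369).symm.trans (sb E1272 D3911))).symm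
theorem E1552 : n2865 = n1525 := (E1273).trans E1278
theorem E1553 : n2109 = n1123 := (E1489).trans E1493
theorem E1554 : n2837 = n1539 := ((((iv F6422)).symm.trans (sb E1552 F11472))).symm
theorem E1555 : n1472 = n1141 := (((F6372).symm.trans (sb E1552 (tr (iv F15388) E1551)))).symm
theorem E1560 : n3911 = n1141 := (E1551).trans E1555
theorem E1561 : n2084 = n2080 := ((D2084).symm.trans (sb E1277 (iv F8495)))
theorem E1562 : n2079 = n2076 := ((D2079).symm.trans (sb E1278 (iv F8481)))
theorem E1563 : n2729 = n1827 := ((((iv F7538)).symm.trans (sb E1279 D2729))).symm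
theorem E1564 : n3861 = n3260 := (((D3260).symm.trans (sb E1280 (iv F15190)))).symm
theorem F37758 : act 5 n2000 = n2116 := (sb E1282 F11557)
theorem E1565 : n3940 = n2264 := ((((iv F9197)).symm.trans (sb E1282 (iv F15507)))).symm
theorem F37759 : act 7 n2000 = n2115 := (sb E1282 (iv D2886))
theorem F37760 : act 7 n5535 = n6837 := (sb E1285 F33039)
theorem F37761 : act 4 n2885 = n3378 := (sb E1289 (iv F13395))
theorem E1573 : n4197 = n3407 := ((((iv F13515)).symm.trans (sb E1289 (iv F16474)))).symm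
theorem E1574 : n6386 = n6327 := ((((iv F24355)).symm.trans (sb E1290 (iv F24591)))).symm
theorem E1575 : n7283 = n6077 := (E1302).trans E1310
theorem F37762 : act 5 n8325 = n6333 := (sb E1292 F33022)
theorem F37763 : act 8 n8325 = n6329 := (sb E1292 (iv D8688))
theorem F37764 : act 8 n3855 = n2828 := (sb E1293 (iv D3859))
theorem F37765 : act 8 n2827 = n2116 := (sb E1296 (iv D2887))
theorem F37766 : act 4 n2082 = n1541 := (sb E1297 (iv D2101))
theorem E1577 : n2867 = n2841 := ((((iv F11382)).symm.trans (sb E1297 D2867))).symm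
theorem E1578 : n2841 = n2485 := (((F13413).symm.trans (sb E1336 (tr F15345 E1577)))).symm
theorem E1579 : n2836 = n2480 := (((F13414).symm.trans (sb E1336 (tr F15346 E1531)))).symm
theorem E1580 : n3085 = n2858 := ((F13415).symm.trans (sb E1336 F15347))
theorem E1581 : n5332 = n4630 := ((((iv F18080)).symm.trans (sb E1336 D5332))).symm
theorem E1582 : n4630 = n4452 := (((iv F18080)).symm.trans (sb E1299 (iv F17437)))
theorem F37767 : act 6 n3383 = n2831 := (sb E1299 F15197)
theorem F37768 : act 6 n4448 = n3855 := (sb E1300 (iv D5268))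
theorem F37769 : act 4 n3896 = n4624 := (sb E1301 (iv F18055))
theorem E1585 : n5730 = n4621 := ((((iv F18042)).symm.trans (sb E1301 (iv F22182)))).symm
theorem F37770 : act 7 n3896 = n4448 := (sb E1301 (iv F17422))
theorem E1586 : n5332 = n4452 := (E1581).trans E1582
theorem E1587 : n8680 = n8322 := ((((iv F31721)).symm.trans (sb E1575 (iv F32983)))).symm
theorem F37771 : act 2 n3409 = n3896 := (sb E1303 (iv F15325))
theorem E1588 : n4666 = n4445 := (((iv F18230)).symm.trans (sb E1303 (iv F17408)))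
theorem F37772 : act 6 n3409 = n2827 := (sb E1303 (iv D3856))
theorem E1591 : n3414 = n3257 := (((iv F13540)).symm.trans (sb E1307 (iv F12962)))
theorem E1592 : n8683 = n8322 := ((((iv F31721)).symm.trans (sb E1310 (iv F32997)))).symm
theorem F37773 : act 5 n6077 = n4624 := (sb E1310 F24369)
theorem E1593 : n8324 = n8321 := (((iv F31728)).symm.trans (iv (sb E1311 (tr F32989 E1312))))
theorem F37774 : act 7 n8321 = n6326 := (sb E1311 (iv D8681))
theorem E1594 : n4628 = n4454 := (((F23467).symm.trans (sb E1312 F24358))).symm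
theorem F37775 : act 2 n6079 = n6077 := (sb E1312 F24359)
theorem E1595 : n8684 = n8329 := ((((iv F31751)).symm.trans (sb E1312 D8684))).symm
theorem E1596 : n6089 = n3381 := (((F18045).symm.trans (sb E1314 F31737))).symm
theorem F37776 : act 6 n4622 = n6079 := (sb E1314 F31739)
theorem F37777 : act 8 n4622 = n6077 := (sb E1314 (iv D8326))
theorem E1598 : n7830 = n6076 := ((((iv F23456)).symm.trans (sb E1315 (iv F29924)))).symm
theorem F37778 : act 8 n2829 = n2075 := (sb E1321 (iv D2833))
theorem E1601 : n2843 = n1542 := (((F8552).symm.trans (sb E1322 F15202))).symm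
theorem F37779 : act 8 n2096 = n2831 := (sb E1322 (iv D3865))
theorem F37780 : act 2 n2496 = n2885 := (sb E1324 F14650)
theorem E1604 : n4196 = n3408 := ((((iv F13519)).symm.trans (sb E1324 (iv F16470)))).symm
theorem E1605 : n3731 = n2398 := ((((iv F9723)).symm.trans (sb E1325 D3731))).symm
theorem E1606 : n2844 = n2838 := ((D2844).symm.trans (sb E1325 (iv F11371)))
theorem E1608 : n5275 = n4455 := (((D4455).symm.trans (sb E1326 (iv F20450)))).symm
theorem F37781 : act 8 n3860 = n2832 := (sb E1327 (iv D3866))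
theorem F37782 : act 6 n6081 = n5267 := (sb E1329 (iv D7205))
theorem E1610 : n8331 = n5492 := ((D8331).symm.trans (sb E1329 F37591))
theorem F37783 : act 4 n2175 = n2842 := (sb E1331 (iv D3880))
theorem E1612 : n5301 = n2962 := (((D2962).symm.trans (sb E1331 (iv F20548)))).symm
theorem E1614 : n2867 = n2485 := (E1577).trans E1578
theorem E1615 : n4649 = n2962 := (((iv F18164)).symm.trans (sb E1476 F15399))
theorem E1616 : n5347 = n4647 := ((((iv F18155)).symm.trans (sb E1476 D5347))).symm
theorem E1617 : n4647 = n4467 := (((iv F18155)).symm.trans (sb E1335 (iv F17496)))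
theorem F37784 : act 6 n3395 = n2842 := (sb E1335 F15255)
theorem F37785 : act 4 n4026 = n4632 := (sb E1337 F24434)
theorem E1621 : n5347 = n4467 := (E1616).trans E1617
theorem E1622 : n8706 = n8342 := (((D8342).symm.trans (sb E1339 (iv F33096)))).symm
theorem F37786 : act 5 n6088 = n4632 := (sb E1339 F24425)
theorem E1623 : n8343 = n4629 := ((D8343).symm.trans (sb E1339 (iv D6343)))
theorem E1715 : n5309 = n473 := (((F2850).symm.trans (sb E1453 F27722))).symm
theorem E1716 : n2847 = n833 := ((((iv F3648)).symm.trans (sb E1454 (iv D3886)))).symm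
theorem E1719 : n5409 = n1437 := ((((iv D1964)).symm.trans (sb E1460 F28286))).symm
theorem E1720 : n2901 = n1331 := ((((iv F5619)).symm.trans (sb E1461 (iv D3959)))).symm
theorem E1722 : n1563 = n832 := ((((iv D1131)).symm.trans (sb E1462 F8664))).symm
theorem E1723 : n1560 = n1083 := (((F4828).symm.trans (sb E1462 F8665))).symm
theorem E1725 : n2846 = n1544 := (((F8578).symm.trans (sb E1464 F15243))).symm
theorem E1726 : n5295 = n2482 := ((((iv F10028)).symm.trans (sb E1464 (iv F20529)))).symm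
theorem E1728 : n1534 = n834 := (((F4830).symm.trans (sb E1467 F8515))).symm
theorem F37823 : act 7 n1132 = n1529 := (sb E1467 (iv D2086))
theorem E1731 : n5541 = n5013 := ((((iv F19475)).symm.trans (sb E1469 (iv F21458)))).symm
theorem E1732 : n4648 = n2981 := (((iv F18160)).symm.trans (sb E1469 (iv D4063)))
theorem F37824 : act 4 n2192 = n2484 := (sb E1470 (iv D3394))
theorem F37825 : act 7 n2192 = n2685 := (sb E1470 F13464)
theorem E1737 : n5403 = n4646 := ((((iv F18151)).symm.trans (sb E1473 (iv D7395)))).symm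
theorem E1738 : n2900 = n2483 := ((((iv D3392)).symm.trans (sb E1474 F15551))).symm
theorem E1739 : n1562 = n1333 := (((F7493).symm.trans (sb E1475 F8661))).symm
theorem E1740 : n1670 = n1559 := ((F7494).symm.trans (sb E1475 F8662))
theorem E1741 : n843 = n835 := (((F4833).symm.trans (sb E1477 F4875))).symm
theorem E1742 : n1085 = n840 := ((F4835).symm.trans (sb E1477 (iv D1145)))
theorem F37826 : act 5 n1133 = n1529 := (sb E1477 (iv F6387))
theorem E1743 : n1546 = n1531 := ((D1546).symm.trans (sb E1477 (tr (iv F6441) E1547)))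
theorem F37827 : act 4 n1143 = n1542 := (sb E1478 (iv F6437))
theorem E1746 : n1561 = n1527 := ((((iv D2082)).symm.trans (sb E1479 F8590))).symm
theorem F37828 : act 8 n2104 = n2842 := (sb E1480 (iv D3881))
theorem E1748 : n2845 = n2488 := (((F13449).symm.trans (sb E1481 F15239))).symm
theorem E1749 : n4641 = n4463 := (((iv F18130)).symm.trans (sb E1481 (iv F17480)))
theorem E1750 : n4645 = n3733 := ((D4645).symm.trans (sb E1481 F15241))
theorem E1753 : n1549 = n1533 := (((F8511).symm.trans (sb E1484 F8598))).symm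
theorem E1754 : n2875 = n1530 := (((F8513).symm.trans (sb E1484 (iv F11513)))).symm
theorem E1756 : n3916 = n1835 := (E1485).trans E1536
theorem E1757 : n1530 = n1348 := (((F7560).symm.trans (sb E1756 (tr F15410 E1754)))).symm
theorem E1758 : n5351 = n2509 := ((((iv F10127)).symm.trans (sb E1756 (iv F20755)))).symm
theorem E1759 : n5353 = n1344 := ((((iv D1835)).symm.trans (sb E1756 D5353))).symm
theorem E1761 : n3733 = n2397 := ((((iv F9719)).symm.trans (sb E1542 (tr (iv F18146) E1750)))).symm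
theorem E1763 : n1135 = n1127 := (((iv F4841)).symm.trans (sb E1487 F4850))
theorem E1764 : n1548 = n828 := ((((iv D1125)).symm.trans (sb E1487 (iv F6459)))).symm
theorem E1765 : n1550 = n1087 := (((F4805).symm.trans (sb E1487 D1550))).symm
theorem E1768 : n2875 = n1348 := (E1754).trans E1757
theorem E1770 : n1087 = n829 := (((F4794).symm.trans (sb E1553 (tr F8601 E1765)))).symm
theorem E1776 : n1532 = n1529 := ((D1532).symm.trans (sb E1493 (iv F6388)))
theorem E1778 : n2839 = n2399 := (((D2399).symm.trans (sb E1495 (iv F11375)))).symm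
theorem E1783 : n2894 = n1329 := ((((iv D1811)).symm.trans (sb E1500 F15522))).symm
theorem E1784 : n2891 = n1665 := (((F7470).symm.trans (sb E1500 F15523))).symm
theorem E1787 : n1556 = n1081 := (((F4818).symm.trans (sb E1503 F8650))).symm
theorem F37831 : act 5 n1471 = n1553 := (sb E1504 F8642)
theorem F37832 : act 7 n1471 = n1552 := (sb E1504 (iv D2119))
theorem E1791 : n2862 = n2480 := (E1531).trans E1579
theorem E1792 : n5286 = n2478 := ((((iv F10009)).symm.trans (sb E1509 (iv F20492)))).symm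
theorem E1795 : n8336 = n4626 := ((((iv F18064)).symm.trans (sb E1511 (iv F31780)))).symm
theorem E1797 : n8705 = n5538 := (((iv F33093)).symm.trans (sb E1514 (iv D7569)))
theorem F37834 : act 7 n4059 = n5000 := (sb E1515 F24430)
theorem E1806 : n2893 = n2479 := (((F13407).symm.trans (sb E1520 F15520))).symm
theorem E1807 : n4669 = n4627 := ((((iv F18068)).symm.trans (sb E1520 (iv F18238)))).symm
theorem E1808 : n8770 = n8701 := ((((iv F33076)).symm.trans (sb E1521 (iv F33333)))).symm
theorem E1809 : n1667 = n1555 := ((F7480).symm.trans (sb E1523 F8648))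
theorem F37835 : act 4 n2118 = n2476 := (sb E1524 (iv F10000))
theorem F37836 : act 4 n1140 = n1539 := (sb E1525 (iv F6424))
theorem E1814 : n1557 = n1524 := ((((iv D2078)).symm.trans (sb E1526 F8572))).symm
theorem F37837 : act 6 n2074 = n2500 := (sb E1529 (iv F10099))
theorem F37838 : act 8 n2074 = n1553 := (sb E1529 (iv D2120))
theorem E1817 : n2106 = n1820 := (((F10015).symm.trans (sb E1791 F11458))).symm
theorem E1818 : n2834 = n2394 := (((F10016).symm.trans (sb E1791 F11459))).symm
theorem E1819 : n2270 = n2098 := ((F10018).symm.trans (sb E1791 F11461))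
theorem E1820 : n3908 = n3387 := ((((iv F13434)).symm.trans (sb E1791 D3908))).symm
theorem E1821 : n5343 = n1370 := (((F7547).symm.trans (sb E1550 D5343))).symm
theorem E1822 : n5342 = n2504 := ((((iv F10110)).symm.trans (sb E1550 (iv F20715)))).symm
theorem E1823 : n5344 = n1341 := ((((iv D1831)).symm.trans (sb E1550 D5344))).symm
theorem E1824 : n3387 = n3263 := (((F13427).symm.trans (sb E1533 (tr (iv F15373) E1820)))).symm
theorem E1825 : n4634 = n4456 := (((iv F18099)).symm.trans (sb E1533 (iv F17453)))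
theorem E1826 : n3386 = n3264 := ((((iv F12989)).symm.trans (iv (sb E1533 (tr (iv D3867) E1818))))).symm
theorem E1827 : n3867 = n3264 := (E1533).trans E1826
theorem E1828 : n4460 = n2479 := (((iv F17469)).symm.trans (sb E1827 (tr F15212 E1806)))
theorem E1829 : n3089 = n2478 := ((F12990).symm.trans (sb E1827 (tr D5286 E1792)))
theorem E1830 : n3726 = n2393 := ((((iv D3264)).symm.trans (sb E1827 F15213))).symm
theorem E1834 : n2509 = n2396 := (((iv F10127)).symm.trans (sb E1536 (iv F9715)))
theorem E1835 : n1526 = n1370 := (((F7547).symm.trans (sb E1537 F8483))).symm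
theorem E1836 : n2504 = n2392 := (((iv F10110)).symm.trans (sb E1537 (iv F9698)))
theorem E1837 : n2004 = n1341 := ((((iv D1831)).symm.trans (sb E1537 F8484))).symm
theorem E1839 : n5351 = n2396 := (E1758).trans E1834
theorem E1840 : n5342 = n2392 := (E1822).trans E1836
theorem E1844 : n6087 = n6084 := (((iv F23500)).symm.trans (iv (sb E1540 (tr F24400 E1594))))
theorem E1845 : n8699 = n5735 := (((F23491).symm.trans (sb E1540 D8699))).symm
theorem E1846 : n4645 = n2397 := (E1750).trans E1761
theorem E1847 : n5735 = n4451 := ((((iv F17433)).symm.trans (sb E1546 (tr (iv F33069) E1845)))).symm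
theorem F37839 : act 4 n1531 = n1132 := (sb E1547 (iv D1543))
theorem E1850 : n2087 = n1820 := (((iv F8520)).symm.trans (sb E1547 (tr D2106 E1817)))
theorem E1852 : n5346 = n1082 := (((F4786).symm.trans (sb E1548 D5346))).symm
theorem E1853 : n1082 = n848 := (((F4864).symm.trans (sb E1560 (tr (iv F20733) E1852)))).symm
theorem E1854 : n2088 = n1133 := (((F6421).symm.trans (sb E1554 F11363))).symm
theorem F37840 : act 8 n1539 = n2078 := (sb E1554 (iv D2837))
theorem F37841 : act 1 n1141 = n1140 := (sb E1555 F6175)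
theorem F37842 : act 8 n2080 = n1528 := (sb E1561 (iv D2084))
theorem F37843 : act 8 n2076 = n1525 := (sb E1562 (iv D2079))
theorem E1857 : n3082 = n2499 := ((((iv F10095)).symm.trans (sb E1563 (iv F12289)))).symm
theorem F37844 : act 6 n3260 = n2829 := (sb E1564 (iv D3861))
theorem E1858 : n4665 = n3079 := (((D3079).symm.trans (sb E1565 (iv F18225)))).symm
theorem F37845 : act 7 n2264 = n2885 := (sb E1565 (iv D3940))
theorem E1862 : n5727 = n4663 := ((((iv F18218)).symm.trans (sb E1573 (iv F22168)))).symm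
theorem F37846 : act 6 n6327 = n8321 := (sb E1574 (iv F31717))
theorem E1865 : n2275 = n2102 := ((F10039).symm.trans (sb E1614 F11483))
theorem E1866 : n3915 = n3393 := ((((iv F13458)).symm.trans (sb E1614 D3915))).symm
theorem E1867 : n3393 = n3268 := (((iv F13458)).symm.trans (sb E1578 (iv F13005)))
theorem F37847 : act 6 n2485 = n2082 := (sb E1578 F11382)
theorem F37848 : act 6 n2480 = n2078 := (sb E1579 F11362)
theorem F37849 : act 4 n2858 = n3383 := (sb E1580 (iv F13415))
theorem E1870 : n4205 = n3380 := ((((iv F13404)).symm.trans (sb E1580 (iv F16502)))).symm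
theorem F37850 : act 7 n2858 = n3260 := (sb E1580 (iv F12976))
theorem E1871 : n3915 = n3268 := (E1866).trans E1867
theorem E1872 : n3908 = n3263 := (E1820).trans E1824
theorem E1873 : n6336 = n6085 := ((((iv F23494)).symm.trans (sb E1586 (iv F24395)))).symm
theorem E1874 : n6339 = n6085 := ((((iv F23494)).symm.trans (sb E1582 (iv F24406)))).symm
theorem F37851 : act 5 n4452 = n3383 := (sb E1582 F18080)
theorem F37852 : act 7 n4621 = n6079 := (sb E1585 (iv F23469))
theorem F37853 : act 2 n8322 = n8321 := (sb E1587 F32982)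
theorem F37854 : act 5 n8322 = n6326 := (sb E1587 (iv D8680))
theorem F37855 : act 5 n4445 = n3409 := (sb E1588 F18230)
theorem F37856 : act 5 n3257 = n2500 := (sb E1591 F13540)
theorem F37857 : act 8 n8322 = n6327 := (sb E1592 (iv D8683))
theorem F37858 : act 4 n8321 = n6079 := (sb E1593 F31728)
theorem E1881 : n3391 = n3270 := (((F17443).symm.trans (sb E1594 F18070))).symm
theorem E1882 : n6340 = n6091 := ((((iv F23519)).symm.trans (sb E1594 D6340))).symm
theorem F37859 : act 6 n8329 = n6329 := (sb E1595 F33003)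
theorem F37860 : act 7 n8329 = n6833 := (sb E1595 F33004)
theorem E1883 : n4468 = n2483 := (((F13406).symm.trans (sb E1596 F23508))).symm
theorem E1884 : n8338 = n4627 := ((((iv F18068)).symm.trans (sb E1596 (iv F31787)))).symm
theorem F37861 : act 6 n3381 = n4454 := (sb E1596 F23511)
theorem F37862 : act 8 n3381 = n4452 := (sb E1596 (iv D6089))
theorem E1886 : n5726 = n4664 := (((F23457).symm.trans (sb E1598 (iv D7830)))).symm
theorem F37863 : act 8 n6076 = n8321 := (sb E1598 (iv F31718))
theorem F37864 : act 8 n1542 = n2082 := (sb E1601 (iv D2843))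
theorem F37865 : act 2 n3408 = n3407 := (sb E1604 F16468)
theorem F37866 : act 8 n3408 = n4445 := (sb E1604 (iv F17409))
theorem E1893 : n3872 = n3271 := (((D3271).symm.trans (sb E1605 (iv F15233)))).symm
theorem F37867 : act 8 n2838 = n2083 := (sb E1606 (iv D2844))
theorem F37868 : act 6 n4455 = n3860 := (sb E1608 (iv D5275))
theorem E1896 : n6092 = n4031 := ((D6092).symm.trans (sb E1608 F37639))
theorem F37869 : act 7 n5492 = n6081 := (sb E1610 (iv D8331))
theorem E1898 : n7256 = n4037 := (((D4037).symm.trans (sb E1612 D7256))).symm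
theorem F37870 : act 4 n2962 = n3395 := (sb E1615 F18164)
theorem E1903 : n7319 = n6108 := (((D6108).symm.trans (sb E1621 D7319))).symm
theorem E1904 : n6364 = n6108 := (((D6108).symm.trans (sb E1617 (iv F24508)))).symm
theorem F37871 : act 5 n4467 = n3395 := (sb E1617 F18155)
theorem E1905 : n6109 = n3392 := ((D6109).symm.trans (sb E1617 (iv D4647)))
theorem F37872 : act 8 n8342 = n6342 := (sb E1622 (iv D8706))
theorem F37873 : act 8 n4629 = n6088 := (sb E1623 (iv D8343))
theorem E1966 : n3892 = n349 := (((F2162).symm.trans (sb E1715 F20578))).symm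
theorem E1969 : n2091 = n616 := (((F3647).symm.trans (sb E1716 F11402))).symm
theorem E1970 : n3884 = n1134 := (((D1134).symm.trans (sb E1716 (iv F15279)))).symm
theorem E1971 : n3887 = n620 := (((F3651).symm.trans (sb E1716 D3887))).symm
theorem E1975 : n3958 = n1815 := ((((iv F7490)).symm.trans (sb E1719 (iv D5409)))).symm
theorem E1978 : n2131 = n976 := ((((iv D1331)).symm.trans (sb E1720 F11601))).symm
theorem E1979 : n2128 = n1229 := (((F5620).symm.trans (sb E1720 F11602))).symm
theorem E1981 : n1150 = n615 := (((F3644).symm.trans (sb E1722 F6502))).symm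
theorem E1982 : n1147 = n800 := (((F3645).symm.trans (sb E1722 F6503))).symm
theorem F37898 : act 5 n1083 = n1144 := (sb E1723 F6495)
theorem F37899 : act 7 n1083 = n1143 := (sb E1723 (iv D1560))
theorem E1984 : n2090 = n1136 := (((F6442).symm.trans (sb E1725 F11399))).symm
theorem E1985 : n3883 = n1818 := ((((iv F7501)).symm.trans (sb E1725 (iv F15275)))).symm
theorem E1987 : n6102 = n3389 := ((((iv F13442)).symm.trans (sb E1726 (iv F23561)))).symm
theorem F37901 : act 7 n834 = n1125 := (sb E1728 (iv D1534))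
theorem E1992 : n7571 = n6864 := ((((iv F26284)).symm.trans (sb E1731 D7571))).symm
theorem E1993 : n6363 = n4062 := (((iv F24505)).symm.trans (sb E1731 (iv D5541)))
theorem F37902 : act 7 n2981 = n3666 := (sb E1732 F18160)
theorem E2003 : n6407 = n6359 := ((((iv F24488)).symm.trans (sb E1737 (iv F24653)))).symm
theorem E2004 : n2130 = n1819 := (((F10031).symm.trans (sb E1738 F11599))).symm
theorem E2005 : n3422 = n3390 := ((((iv F13446)).symm.trans (sb E1738 (iv F13561)))).symm
theorem E2006 : n1149 = n979 := (((F5626).symm.trans (sb E1739 F6499))).symm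
theorem E2007 : n1231 = n1146 := ((F5628).symm.trans (sb E1739 F6501))
theorem F37903 : act 4 n1559 = n1816 := (sb E1740 (iv F7494))
theorem E2009 : n803 = n621 := ((F3659).symm.trans (sb E1741 (iv D843)))
theorem F37904 : act 5 n835 = n1125 := (sb E1741 (iv F4804))
theorem E2010 : n1138 = n1127 := ((D1138).symm.trans (sb E1741 (tr (iv F4845) E1763)))
theorem F37905 : act 4 n840 = n1133 := (sb E1742 (iv F4835))
theorem E2014 : n1148 = n1122 := ((((iv D1531)).symm.trans (sb E1743 F6451))).symm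
theorem F37906 : act 6 n1527 = n1835 := (sb E1746 (iv F7562))
theorem F37907 : act 8 n1527 = n1144 := (sb E1746 (iv D1561))
theorem E2017 : n2089 = n1823 := (((F10048).symm.trans (sb E1748 F11395))).symm
theorem E2018 : n3397 = n3272 := (((iv F13475)).symm.trans (sb E1748 (iv F13021)))
theorem E2019 : n3400 = n2745 := ((D3400).symm.trans (sb E1748 F11398))
theorem E2020 : n6356 = n6098 := ((((iv F23546)).symm.trans (sb E1749 D6356))).symm
theorem E2021 : n4466 = n4463 := (((iv F17491)).symm.trans (iv (sb E1749 (tr F18130 E1881))))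
theorem E2022 : n6355 = n3266 := ((((iv D4463)).symm.trans (sb E1749 (iv F24476)))).symm
theorem E2023 : n6357 = n4215 := (((F17482).symm.trans (sb E1749 D6357))).symm
theorem E2024 : n2745 = n1760 := (((F9718).symm.trans (sb E1846 (tr F18145 E2019)))).symm
theorem E2025 : n4215 = n3267 := ((((iv F13001)).symm.trans (sb E1846 (tr (iv F24482) E2023)))).symm
theorem E2027 : n1547 = n1535 := (((iv F6452)).symm.trans (sb E1753 F6461))
theorem E2028 : n2111 = n1126 := (((F6401).symm.trans (sb E1753 (iv F8612)))).symm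
theorem E2030 : n1126 = n990 := (((F5680).symm.trans (sb E1768 (tr F11512 E2028)))).symm
theorem E2031 : n3926 = n1007 := (((F5681).symm.trans (sb E1768 D3926))).symm
theorem E2032 : n3925 = n1839 := ((((iv F7573)).symm.trans (sb E1768 (iv F15446)))).symm
theorem E2033 : n3927 = n985 := ((((iv D1348)).symm.trans (sb E1768 D3927))).symm
theorem E2035 : n3400 = n1760 := (E2019).trans E2024
theorem E2038 : n2085 = n1761 := ((((iv F7286)).symm.trans (sb E1757 (iv F8513)))).symm
theorem E2039 : n1839 = n1759 := (((iv F7573)).symm.trans (sb E1757 (iv F7279)))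
theorem E2041 : n3925 = n1759 := (E2032).trans E2039
theorem E2043 : n7327 = n2272 := (((F9716).symm.trans (sb E1839 D7327))).symm
theorem E2044 : n2272 = n1834 := ((((iv F7558)).symm.trans (sb E1759 (tr (iv F28034) E2043)))).symm
theorem F37911 : act 0 n1127 = n1125 := (sb E1763 F4841)
theorem F37912 : act 4 n1127 = n834 := (sb E1763 (iv D1135))
theorem E2046 : n2112 = n611 := (((F3630).symm.trans (sb E1764 D2112))).symm
theorem E2048 : n2111 = n990 := (E2028).trans E2030
theorem E2049 : n2113 = n802 := (((F3631).symm.trans (sb E1764 D2113))).symm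
theorem E2050 : n1550 = n829 := (E1765).trans E1770
theorem E2051 : n1536 = n835 := ((((iv F3656)).symm.trans (sb E2050 F6465))).symm
theorem E2052 : n802 = n622 := (((F3634).symm.trans (sb E2050 (tr (iv F8620) E2049)))).symm
theorem E2057 : n2113 = n622 := (E2049).trans E2052
theorem E2059 : n1128 = n1125 := ((D1128).symm.trans (sb E1770 (iv F4805)))
theorem F37913 : act 8 n1529 = n1123 := (sb E1776 (iv D1532))
theorem F37914 : act 6 n2399 = n2080 := (sb E1778 (iv D2839))
theorem E2069 : n2123 = n1227 := (((F5610).symm.trans (sb E1783 F11581))).symm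
theorem E2072 : n3413 = n2265 := (((D2265).symm.trans (sb E1784 (iv F13535)))).symm
theorem F37915 : act 7 n1665 = n2118 := (sb E1784 (iv D2891))
theorem E2075 : n1155 = n799 := ((((iv D1081)).symm.trans (sb E1787 F6483))).symm
theorem F37916 : act 5 n1081 = n1141 := (sb E1787 F6484)
theorem F37917 : act 7 n1081 = n1140 := (sb E1787 (iv D1556))
theorem E2080 : n6093 = n3384 := ((((iv F13420)).symm.trans (sb E1792 (iv F23528)))).symm
theorem F37918 : act 7 n4626 = n6084 := (sb E1795 (iv D8336))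
theorem F37919 : act 5 n5538 = n6342 := (sb E1797 (iv D8705))
theorem F37920 : act 7 n5538 = n6847 := (sb E1797 F33093)
theorem E2094 : n3415 = n3385 := ((((iv F13424)).symm.trans (sb E1806 (iv F13542)))).symm
theorem E2095 : n6391 = n6338 := (((D6338).symm.trans (sb E1807 (iv F24608)))).symm
theorem E2096 : n4202 = n3411 := ((F18069).symm.trans (sb E1807 (iv D4669)))
theorem F37921 : act 6 n4627 = n6084 := (sb E1807 (iv F23490))
theorem F37922 : act 5 n8701 = n6879 := (sb E1808 F33334)
theorem F37923 : act 4 n1555 = n1813 := (sb E1809 (iv F7480))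
theorem E2104 : n1156 = n1120 := (((F6368).symm.trans (sb E1814 F6486))).symm
theorem F37924 : act 6 n1524 = n1831 := (sb E1814 (iv F7548))
theorem F37925 : act 8 n1524 = n1141 := (sb E1814 (iv D1557))
theorem E2107 : n1535 = n1338 := (((F7506).symm.trans (sb E1817 (tr F8591 E2027)))).symm
theorem E2108 : n1674 = n1544 := ((F7508).symm.trans (sb E1817 F8593))
theorem E2109 : n2874 = n2489 := ((((iv F10054)).symm.trans (sb E1817 D2874))).symm
theorem F37926 : act 6 n2394 = n2076 := (sb E1818 (iv D2834))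
theorem F37927 : act 1 n2098 = n1831 := (sb E1819 F9215)
theorem E2110 : n1698 = n1540 := (((F8562).symm.trans (sb E1819 F9216))).symm
theorem F37928 : act 4 n2098 = n2480 := (sb E1819 (iv F10018))
theorem F37929 : act 7 n2098 = n2394 := (sb E1819 (iv F9707))
theorem E2111 : n2489 = n2402 := (((F12983).symm.trans (sb E1872 (tr F15372 E2109)))).symm
theorem E2112 : n4633 = n4457 := ((((iv F17457)).symm.trans (sb E1872 (iv F18094)))).symm
theorem E2113 : n7312 = n1869 := ((((iv F7679)).symm.trans (sb E1821 (iv F27972)))).symm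
theorem E2115 : n1869 = n1755 := (((F9697).symm.trans (sb E1840 (tr D7312 E2113)))).symm
theorem E2116 : n6346 = n3261 := ((((iv F12978)).symm.trans (sb E1840 (iv F24439)))).symm
theorem E2118 : n7313 = n2268 := (((F9699).symm.trans (sb E1840 D7313))).symm
theorem E2119 : n2268 = n1830 := ((((iv F7545)).symm.trans (sb E1823 (tr (iv F27977) E2118)))).symm
theorem F37930 : act 5 n3263 = n2480 := (sb E1824 F13434)
theorem E2121 : n6347 = n6044 := ((((iv F23340)).symm.trans (sb E1825 D6347))).symm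
theorem E2122 : n4459 = n4456 := (((iv F17463)).symm.trans (iv (sb E1825 (tr F18099 E1826))))
theorem E2123 : n6348 = n4208 := (((F17455).symm.trans (sb E1825 D6348))).symm
theorem E2124 : n2488 = n2403 := (((F12987).symm.trans (sb E1826 F13426))).symm
theorem F37931 : act 1 n3264 = n3263 := (sb E1826 F13427)
theorem E2125 : n3276 = n1819 := (((F10011).symm.trans (sb E1828 F17466))).symm
theorem E2126 : n6095 = n3385 := ((((iv F13424)).symm.trans (sb E1828 (iv F23535)))).symm
theorem F37932 : act 6 n2479 = n3264 := (sb E1828 F17469)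
theorem F37933 : act 8 n2479 = n3263 := (sb E1828 (iv D4460))
theorem E2128 : n2279 = n1818 := (((F10006).symm.trans (sb E1829 F12311))).symm
theorem F37934 : act 7 n2478 = n3264 := (sb E1829 (iv F12990))
theorem E2131 : n4208 = n3262 := ((((iv F12981)).symm.trans (sb E1830 (iv F16513)))).symm
theorem E2134 : n6348 = n3262 := (E2123).trans E2131
theorem F37935 : act 5 n2396 = n1835 := (sb E1834 F10127)
theorem E2138 : n1474 = n1002 := ((((iv D1370)).symm.trans (sb E1835 F6377))).symm
theorem F37936 : act 5 n2392 = n1831 := (sb E1836 F10110)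
theorem F37937 : act 1 n1341 = n1555 := (sb E1837 F8213)
theorem F37938 : act 4 n6084 = n4454 := (sb E1844 F23500)
theorem E2144 : n6357 = n3267 := (E2023).trans E2025
theorem E2146 : n7841 = n6086 := (((D6086).symm.trans (sb E1847 (iv F29971)))).symm
theorem E2147 : n4201 = n3412 := (((F17434).symm.trans (sb E1847 (iv D5735)))).symm
theorem F37939 : act 8 n4451 = n6084 := (sb E1847 (iv F23491))
theorem F37940 : act 6 n1820 = n1531 := (sb E1850 F8520)
theorem F37941 : act 1 n848 = n838 := (sb E1853 F4645)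
theorem E2152 : n806 = n624 := ((((iv D848)).symm.trans (sb E1853 F4648))).symm
theorem F37942 : act 8 n1133 = n1531 := (sb E1854 (iv D2088))
theorem F37943 : act 8 n2499 = n3257 := (sb E1857 (iv F12963))
theorem E2156 : n6387 = n4195 := (((D4195).symm.trans (sb E1858 (iv F24594)))).symm
theorem F37944 : act 6 n3079 = n3408 := (sb E1858 F18226)
theorem F37945 : act 7 n3079 = n3407 := (sb E1858 (iv D4665))
theorem E2159 : n7832 = n6384 := ((((iv F24584)).symm.trans (sb E1862 D7832))).symm
theorem F37946 : act 5 n4663 = n6327 := (sb E1862 (iv F24356))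
theorem F37947 : act 4 n2102 = n2485 := (sb E1865 (iv F10039))
theorem E2162 : n3095 = n2482 := ((((iv F10028)).symm.trans (sb E1865 (iv F12333)))).symm
theorem F37948 : act 7 n2102 = n2399 := (sb E1865 (iv F9729))
theorem E2163 : n2874 = n2402 := (E2109).trans E2111
theorem E2164 : n4640 = n4464 := ((((iv F17485)).symm.trans (sb E1871 (iv F18125)))).symm
theorem F37949 : act 5 n3268 = n2485 := (sb E1867 F13458)
theorem F37950 : act 7 n3380 = n4454 := (sb E1870 (iv F17446))
theorem E2170 : n8693 = n8337 := (((D8337).symm.trans (sb E1873 (iv F33047)))).symm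
theorem F37951 : act 5 n6085 = n4626 := (sb E1873 (iv D6336))
theorem E2171 : n8702 = n8337 := (((D8337).symm.trans (sb E1874 (iv F33078)))).symm
theorem E2175 : n4644 = n4470 := ((((iv F17510)).symm.trans (sb E1881 D4644))).symm
theorem E2176 : n8703 = n8344 := ((((iv F31810)).symm.trans (sb E1882 D8703))).symm
theorem F37952 : act 6 n6091 = n4629 := (sb E1882 F24412)
theorem E2177 : n8345 = n4998 := ((D8345).symm.trans (sb E1882 F24413))
theorem E2178 : n6104 = n3390 := ((((iv F13446)).symm.trans (sb E1883 (iv F23568)))).symm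
theorem F37953 : act 6 n2483 = n3270 := (sb E1883 F17502)
theorem F37954 : act 8 n2483 = n3268 := (sb E1883 (iv D4468))
theorem F37955 : act 8 n4627 = n6085 := (sb E1884 (iv D8338))
theorem F37956 : act 2 n4664 = n4663 := (sb E1886 F22163)
theorem E2182 : n7828 = n6388 := (((D6388).symm.trans (sb E1886 (iv F29916)))).symm
theorem F37957 : act 8 n4664 = n6075 := (sb E1886 (iv F23453))
theorem F37958 : act 6 n3271 = n2838 := (sb E1893 (iv D3872))
theorem E2186 : n4471 = n2967 := ((D4471).symm.trans (sb E1893 F37690))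
theorem F37959 : act 7 n4031 = n4455 := (sb E1896 (iv D6092))
theorem E2189 : n8370 = n5511 := (((D5511).symm.trans (sb E1898 (iv F31901)))).symm
theorem E2194 : n8716 = n8363 := ((((iv F31878)).symm.trans (sb E1903 (iv F33139)))).symm
theorem E2195 : n8732 = n8363 := ((((iv F31878)).symm.trans (sb E1904 (iv F33190)))).symm
theorem E2196 : n8371 = n4646 := ((D8371).symm.trans (sb E1904 (iv D6364)))
theorem F37960 : act 8 n3392 = n4467 := (sb E1905 (iv D6109))
theorem E2265 : n2853 = n454 := ((((iv F2097)).symm.trans (sb E1966 (iv D3892)))).symm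
theorem E2268 : n2851 = n836 := (((D836).symm.trans (sb E1969 (iv F11418)))).symm
theorem E2269 : n2854 = n458 := (((F2770).symm.trans (sb E1969 D2854))).symm
theorem E2271 : n5308 = n842 := (((F4840).symm.trans (sb E1970 D5308))).symm
theorem E2272 : n5311 = n462 := (((F2784).symm.trans (sb E1971 D5311))).symm
theorem E2273 : n2905 = n1332 := (((F7489).symm.trans (sb E1975 F15563))).symm
theorem E2274 : n4683 = n2481 := (((D2481).symm.trans (sb E1975 (iv F18279)))).symm
theorem E2277 : n1567 = n722 := (((F4224).symm.trans (sb E1978 F8676))).symm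
theorem E2278 : n1564 = n907 := (((F4225).symm.trans (sb E1978 F8677))).symm
theorem E2280 : n2508 = n1669 := (((D1669).symm.trans (sb E1979 (iv F10122)))).symm
theorem F37975 : act 7 n1229 = n1559 := (sb E1979 (iv D2128))
theorem E2281 : n845 = n591 := (((F2764).symm.trans (sb E1981 F4888))).symm
theorem E2283 : n852 = n590 := ((((iv D800)).symm.trans (sb E1982 F4880))).symm
theorem F37976 : act 5 n800 = n841 := (sb E1982 F4881)
theorem F37977 : act 7 n800 = n840 := (sb E1982 (iv D1147))
theorem E2284 : n1547 = n1338 := (E2027).trans E2107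
theorem E2285 : n2850 = n1336 := ((((iv F5642)).symm.trans (sb E1984 (iv F11415)))).symm
theorem E2287 : n4472 = n2486 := ((((iv F10043)).symm.trans (sb E1985 (iv F17519)))).symm
theorem F37979 : act 7 n3389 = n4463 := (sb E1987 (iv D6102))
theorem E2295 : n9434 = n9407 := ((((iv F35572)).symm.trans (sb E1992 (iv F35680)))).symm
theorem E2296 : n8731 = n5029 := ((((iv F19538)).symm.trans (sb E1993 (iv F33187)))).symm
theorem F37980 : act 5 n4062 = n4646 := (sb E1993 (iv D6363))
theorem F37981 : act 7 n4062 = n5013 := (sb E1993 F24505)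
theorem E2309 : n8729 = n8630 := (((iv F33181)).symm.trans (sb E2003 (iv F32849)))
theorem E2310 : n4679 = n4642 := ((((iv D6359)).symm.trans (sb E2003 (iv D6407)))).symm
theorem F37982 : act 6 n6359 = n8353 := (sb E2003 (iv F31845))
theorem E2311 : n8792 = n8721 := ((((iv F33157)).symm.trans (sb E2003 D8792))).symm
theorem E2312 : n1566 = n1337 := (((F7503).symm.trans (sb E2004 F8674))).symm
theorem E2313 : n2510 = n2487 := ((((iv F10046)).symm.trans (sb E2004 (iv F10129)))).symm
theorem E2314 : n3092 = n2506 := ((F13447).symm.trans (sb E2005 (iv D3422)))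
theorem F37983 : act 6 n3390 = n4463 := (sb E2005 (iv F17481))
theorem E2315 : n910 = n844 := ((F4239).symm.trans (sb E2006 F4886))
theorem F37984 : act 4 n1146 = n1333 := (sb E2007 (iv F5628))
theorem F37985 : act 4 n621 = n835 := (sb E2009 (iv F3659))
theorem E2322 : n846 = n828 := ((((iv D1127)).symm.trans (sb E2010 F4858))).symm
theorem E2327 : n853 = n827 := (((F4792).symm.trans (sb E2014 F4883))).symm
theorem F37986 : act 6 n1122 = n1348 := (sb E2014 (iv F5682))
theorem F37987 : act 8 n1122 = n841 := (sb E2014 (iv D1148))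
theorem E2329 : n2110 = n1764 := (((F7519).symm.trans (sb E2017 (iv F8605)))).symm
theorem E2330 : n2491 = n2404 := (((iv F10063)).symm.trans (sb E2017 (iv F9745)))
theorem E2331 : n2494 = n2016 := ((D2494).symm.trans (sb E2017 F8528))
theorem E2332 : n4651 = n4434 := ((((iv F17366)).symm.trans (sb E2018 D4651))).symm
theorem E2333 : n3275 = n3272 := (((iv F13031)).symm.trans (iv (sb E2018 (tr F13475 E2124))))
theorem E2334 : n4650 = n2400 := ((((iv D3272)).symm.trans (sb E2018 (iv F18169)))).symm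
theorem E2335 : n4652 = n3098 := (((F13023).symm.trans (sb E2018 D4652))).symm
theorem E2336 : n2016 = n1297 := (((F7281).symm.trans (sb E2035 (tr F13484 E2331)))).symm
theorem E2337 : n3098 = n2401 := ((((iv F9734)).symm.trans (sb E2035 (tr (iv F18175) E2335)))).symm
theorem E2341 : n8718 = n8354 := (((D8354).symm.trans (sb E2020 (iv F33148)))).symm
theorem E2342 : n8727 = n5751 := (((F23548).symm.trans (sb E2020 D8727))).symm
theorem E2343 : n6107 = n6098 := ((((iv F23546)).symm.trans (sb E2021 (iv F23577)))).symm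
theorem F37989 : act 4 n4463 = n3270 := (sb E2021 F17491)
theorem E2346 : n8724 = n3091 := (((F12998).symm.trans (sb E2022 D8724))).symm
theorem E2347 : n4652 = n2401 := (E2335).trans E2337
theorem E2348 : n5751 = n4465 := (((D4465).symm.trans (sb E2144 (tr (iv F33176) E2342)))).symm
theorem E2349 : n3091 = n2507 := (((F13002).symm.trans (sb E2144 (tr (iv F33167) E2346)))).symm
theorem F37990 : act 8 n3267 = n4463 := (sb E2025 (iv F17482))
theorem E2352 : n1533 = n1298 := (((F5648).symm.trans (sb E2284 F6452))).symm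
theorem E2353 : n1236 = n1136 := ((F5651).symm.trans (sb E2284 F6455))
theorem E2354 : n1824 = n1764 := (((iv F7527)).symm.trans (sb E2284 (tr D2110 E2329)))
theorem E2355 : n2880 = n745 := (((F4271).symm.trans (sb E2048 D2880))).symm
theorem E2356 : n2879 = n1352 := ((((iv F5693)).symm.trans (sb E2048 (iv F11529)))).symm
theorem E2357 : n2881 = n729 := ((((iv D990)).symm.trans (sb E2048 D2881))).symm
theorem E2359 : n2494 = n1297 := (E2331).trans E2336
theorem E2361 : n830 = n745 := (((F4271).symm.trans (sb E2030 F4807))).symm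
theorem E2362 : n1352 = n1296 := (((iv F5693)).symm.trans (sb E2030 (iv F5484)))
theorem E2363 : n1088 = n729 := ((((iv D990)).symm.trans (sb E2030 F4808))).symm
theorem E2364 : n5363 = n1374 := ((((iv F5776)).symm.trans (sb E2031 (iv F20798)))).symm
theorem E2365 : n5366 = n740 := ((((iv D1007)).symm.trans (sb E2031 D5366))).symm
theorem E2366 : n2879 = n1296 := (E2356).trans E2362
theorem E2367 : n1374 = n1294 := (((F7278).symm.trans (sb E2041 (tr D5363 E2364)))).symm
theorem E2368 : n5364 = n1672 := (((F7280).symm.trans (sb E2041 D5364))).symm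
theorem E2369 : n1672 = n1347 := ((((iv F5679)).symm.trans (sb E2033 (tr (iv F20802) E2368)))).symm
theorem F37991 : act 6 n1761 = n1529 := (sb E2038 (iv D2085))
theorem F37992 : act 5 n1759 = n1348 := (sb E2039 F7573)
theorem F37993 : act 8 n1834 = n2396 := (sb E2044 (iv F9716))
theorem E2378 : n2882 = n451 := (((F2743).symm.trans (sb E2046 D2882))).symm
theorem E2380 : n2883 = n592 := (((F2746).symm.trans (sb E2046 D2883))).symm
theorem E2381 : n592 = n464 := (((F2788).symm.trans (sb E2057 (tr (iv F11546) E2380)))).symm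
theorem F37994 : act 8 n835 = n1127 := (sb E2051 (iv D1536))
theorem F37995 : act 0 n622 = n621 := (sb E2052 F3530)
theorem E2385 : n2883 = n464 := (E2380).trans E2381
theorem F37996 : act 8 n1125 = n829 := (sb E2059 (iv D1128))
theorem E2398 : n1573 = n906 := ((((iv D1227)).symm.trans (sb E2069 F8652))).symm
theorem E2399 : n2503 = n1666 := (((D1666).symm.trans (sb E2069 (iv F10106)))).symm
theorem F37997 : act 7 n1227 = n1555 := (sb E2069 (iv D2123))
theorem E2402 : n4670 = n3081 := (((D3081).symm.trans (sb E2072 (iv F18241)))).symm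
theorem F37998 : act 6 n2265 = n2499 := (sb E2072 F13536)
theorem F37999 : act 7 n2265 = n2498 := (sb E2072 (iv D3413))
theorem F38000 : act 5 n799 = n848 := (sb E2075 F4906)
theorem E2405 : n847 = n594 := (((F3524).symm.trans (sb E2075 (iv D1155)))).symm
theorem F38001 : act 7 n3384 = n4456 := (sb E2080 (iv D6093))
theorem E2410 : n7313 = n1830 := (E2118).trans E2119
theorem E2424 : n4635 = n4590 := ((D4635).symm.trans (sb E2094 (iv F17956)))
theorem E2425 : n3087 = n2501 := ((F13425).symm.trans (sb E2094 (iv D3415)))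
theorem F38002 : act 6 n3385 = n4456 := (sb E2094 (iv F17454))
theorem E2426 : n8700 = n8605 := ((D8700).symm.trans (sb E2095 (iv F32768)))
theorem E2427 : n5737 = n4667 := ((F24403).symm.trans (sb E2095 (iv D6391)))
theorem F38003 : act 6 n6338 = n8332 := (sb E2095 (iv F31766))
theorem F38004 : act 5 n3411 = n4627 := (sb E2096 (iv F18069))
theorem F38005 : act 6 n1120 = n1370 := (sb E2104 (iv F5760))
theorem F38006 : act 8 n1120 = n848 := (sb E2104 (iv D1156))
theorem F38007 : act 6 n1338 = n1127 := (sb E2107 F6408)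
theorem F38008 : act 4 n1544 = n1820 := (sb E2108 (iv F7508))
theorem F38009 : act 7 n1544 = n1761 := (sb E2108 (iv F7288))
theorem E2438 : n3396 = n3273 := ((((iv F13025)).symm.trans (sb E2163 (iv F13471)))).symm
theorem F38010 : act 1 n1540 = n1370 := (sb E2110 F7027)
theorem E2440 : n3399 = n3273 := ((((iv F13025)).symm.trans (sb E2111 (iv F13481)))).symm
theorem F38011 : act 5 n2402 = n1820 := (sb E2111 F10054)
theorem F38012 : act 1 n4457 = n4456 := (sb E2112 F18093)
theorem E2441 : n6234 = n6094 := (((D6094).symm.trans (sb E2112 (iv F24057)))).symm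
theorem F38013 : act 5 n4457 = n3384 := (sb E2112 (iv D4633))
theorem E2442 : n5363 = n1294 := (E2364).trans E2367
theorem E2444 : n2551 = n2377 := ((((iv F9643)).symm.trans (sb E2115 (iv F10269)))).symm
theorem F38014 : act 5 n1755 = n1370 := (sb E2115 F7679)
theorem E2446 : n1668 = n1369 := ((F7265).symm.trans (sb E2115 (iv D1869)))
theorem E2449 : n8710 = n3086 := (((F12979).symm.trans (sb E2116 D8710))).symm
theorem E2450 : n3086 = n2502 := ((((iv F10103)).symm.trans (sb E2410 (tr (iv F33114) E2449)))).symm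
theorem F38015 : act 1 n1830 = n1829 := (sb E2119 F9207)
theorem F38016 : act 8 n1830 = n2392 := (sb E2119 (iv F9699))
theorem E2453 : n8550 = n8279 := (((D8279).symm.trans (sb E2121 (iv F32588)))).symm
theorem E2454 : n8712 = n5695 := (((F23343).symm.trans (sb E2121 D8712))).symm
theorem F38017 : act 4 n4456 = n3264 := (sb E2122 F17463)
theorem E2456 : n5695 = n4458 := (((D4458).symm.trans (sb E2134 (tr (iv F33123) E2454)))).symm
theorem E2459 : n1823 = n1765 := (((F9740).symm.trans (sb E2124 F10048))).symm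
theorem E2460 : n2408 = n1337 := (((F7503).symm.trans (sb E2125 F13034))).symm
theorem E2461 : n4474 = n2487 := ((((iv F10046)).symm.trans (sb E2125 (iv F17526)))).symm
theorem F38018 : act 6 n1819 = n2403 := (sb E2125 F13037)
theorem F38019 : act 8 n1819 = n2402 := (sb E2125 (iv D3276))
theorem E2463 : n8349 = n4590 := (((E2424).symm.trans ((D4635).symm.trans (sb E2126 (iv F31829))))).symm
theorem F38020 : act 8 n3385 = n4457 := (sb E2126 (iv D6095))
theorem E2466 : n1678 = n1336 := (((F7499).symm.trans (sb E2128 F9242))).symm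
theorem F38021 : act 7 n1818 = n2403 := (sb E2128 (iv F9743))
theorem F38022 : act 8 n3262 = n4456 := (sb E2131 (iv F17455))
theorem F38023 : act 1 n1002 = n1142 := (sb E2138 F6181)
theorem E2476 : n1094 = n737 := ((((iv D1002)).symm.trans (sb E2138 F6184))).symm
theorem E2480 : n5733 = n4671 := (((F23497).symm.trans (sb E2146 (iv D7841)))).symm
theorem F38024 : act 8 n6086 = n8332 := (sb E2146 (iv F31767))
theorem F38025 : act 8 n3412 = n4450 := (sb E2147 (iv F17430))
theorem F38026 : act 1 n624 = n625 := (sb E2152 F3545)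
theorem E2485 : n8766 = n5725 := (((D5725).symm.trans (sb E2156 D8766))).symm
theorem F38027 : act 6 n4195 = n4664 := (sb E2156 F24595)
theorem F38028 : act 7 n4195 = n4663 := (sb E2156 (iv D6387))
theorem F38029 : act 5 n6384 = n8682 := (sb E2159 (iv F32993))
theorem F38030 : act 7 n2482 = n3270 := (sb E2162 (iv F13014))
theorem E2489 : n6351 = n6103 := (((D6103).symm.trans (sb E2164 (iv F24460)))).symm
theorem F38031 : act 5 n4464 = n3389 := (sb E2164 (iv D4640))
theorem F38032 : act 5 n8337 = n6334 := (sb E2170 (iv D8693))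
theorem F38033 : act 8 n8337 = n6338 := (sb E2171 (iv D8702))
theorem E2499 : n6361 = n6110 := ((((iv F23590)).symm.trans (sb E2175 D6361))).symm
theorem F38034 : act 6 n4470 = n3392 := (sb E2175 F18142)
theorem E2500 : n6111 = n3664 := ((D6111).symm.trans (sb E2175 F18143))
theorem F38035 : act 6 n8344 = n6342 := (sb E2176 F33082)
theorem F38036 : act 7 n8344 = n6846 := (sb E2176 F33083)
theorem F38037 : act 7 n4998 = n6091 := (sb E2177 (iv D8345))
theorem E2501 : n8364 = n4642 := (((D4642).symm.trans (sb E2178 (iv F31881)))).symm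
theorem F38038 : act 8 n3390 = n4464 := (sb E2178 (iv D6104))
theorem F38039 : act 8 n6388 = n8319 := (sb E2182 (iv F31709))
theorem F38040 : act 7 n2967 = n3271 := (sb E2186 (iv D4471))
theorem F38041 : act 5 n5511 = n6108 := (sb E2189 (iv D8370))
theorem F38042 : act 5 n8363 = n6852 := (sb E2194 F33140)
theorem F38043 : act 8 n8363 = n6359 := (sb E2195 (iv D8732))
theorem F38044 : act 8 n4646 = n6108 := (sb E2196 (iv D8371))
theorem E2559 : n3893 = n338 := (((F2101).symm.trans (sb E2265 D3893))).symm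
theorem E2563 : n3888 = n980 := ((((iv F4243)).symm.trans (sb E2268 (iv F15292)))).symm
theorem E2564 : n3891 = n623 := (((F3664).symm.trans (sb E2268 D3891))).symm
theorem E2565 : n3894 = n342 := (((F2111).symm.trans (sb E2269 D3894))).symm
theorem E2568 : n7265 = n628 := (((F3679).symm.trans (sb E2271 D7265))).symm
theorem E2569 : n5122 = n626 := ((((iv F2802)).symm.trans (sb E2272 F20586))).symm
theorem E2570 : n2135 = n978 := (((F5623).symm.trans (sb E2273 F11613))).symm
theorem E2571 : n3427 = n1817 := (((D1817).symm.trans (sb E2273 (iv F13577)))).symm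
theorem E2573 : n6413 = n3388 := (((D3388).symm.trans (sb E2274 D6413))).symm
theorem E2574 : n3423 = n2271 := (((F10023).symm.trans (sb E2274 F18280))).symm
theorem E2576 : n1151 = n673 := (((F3210).symm.trans (sb E2277 F6513))).symm
theorem E2578 : n1159 = n672 := ((((iv D907)).symm.trans (sb E2278 F6505))).symm
theorem E2579 : n1838 = n1230 := (((D1230).symm.trans (sb E2278 (iv F7569)))).symm
theorem F38058 : act 7 n907 = n1146 := (sb E2278 (iv D1564))
theorem F38059 : act 6 n1669 = n1834 := (sb E2280 F10123)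
theorem F38060 : act 7 n1669 = n1833 := (sb E2280 (iv D2508))
theorem E2580 : n631 = n437 := ((((iv D591)).symm.trans (sb E2281 F3685))).symm
theorem F38061 : act 5 n591 = n622 := (sb E2281 F3686)
theorem F38062 : act 7 n591 = n621 := (sb E2281 (iv D845))
theorem F38063 : act 5 n590 = n627 := (sb E2283 F3711)
theorem E2581 : n626 = n440 := (((F2665).symm.trans (sb E2283 (iv D852)))).symm
theorem E2582 : n3277 = n1821 := ((((iv F7513)).symm.trans (sb E2285 (iv F13040)))).symm
theorem E2585 : n6112 = n3339 := ((((iv F13274)).symm.trans (sb E2287 D6112))).symm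
theorem F38064 : act 7 n2486 = n3272 := (sb E2287 (iv D4472))
theorem E2592 : n5122 = n440 := (E2569).trans E2581
theorem F38065 : act 3 n9407 = n6882 := (sb E2295 (iv D9434))
theorem F38066 : act 6 n9407 = n9407 := (sb E2295 (tr F35679 E2295))
theorem F38067 : act 5 n5029 = n6359 := (sb E2296 (iv D8731))
theorem F38068 : act 2 n8630 = n6359 := (sb E2309 F33181)
theorem E2610 : n6358 = n6291 := ((((iv D8630)).symm.trans (sb E2309 (iv D8729)))).symm
theorem E2611 : n4217 = n3420 := ((F18133).symm.trans (sb E2310 (iv D4679)))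
theorem F38069 : act 6 n4642 = n6098 := (sb E2310 (iv F23547))
theorem E2612 : n6408 = n6353 := ((((iv F24468)).symm.trans (sb E2310 D6408))).symm
theorem F38070 : act 5 n8721 = n6882 := (sb E2311 F33398)
theorem E2613 : n1840 = n1822 := ((((iv F7517)).symm.trans (sb E2312 (iv F7575)))).symm
theorem E2614 : n3398 = n3367 := ((D3398).symm.trans (sb E2313 (iv F13362)))
theorem E2615 : n2277 = n1836 := ((F10047).symm.trans (sb E2313 (iv D2510)))
theorem F38071 : act 6 n2487 = n3272 := (sb E2313 (iv F13022))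
theorem F38072 : act 5 n2506 = n3390 := (sb E2314 (iv F13447))
theorem F38073 : act 4 n844 = n979 := (sb E2315 (iv F4239))
theorem E2627 : n632 = n611 := (((F3630).symm.trans (sb E2322 F3688))).symm
theorem F38074 : act 6 n828 = n990 := (sb E2322 (iv F4272))
theorem F38075 : act 8 n828 = n622 := (sb E2322 (iv D846))
theorem F38076 : act 6 n827 = n1007 := (sb E2327 (iv F4338))
theorem F38077 : act 8 n827 = n627 := (sb E2327 (iv D853))
theorem E2632 : n2490 = n2405 := ((((iv F9749)).symm.trans (sb E2329 (iv F10058)))).symm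
theorem E2633 : n3402 = n3249 := ((((iv F12931)).symm.trans (sb E2330 D3402))).symm
theorem E2634 : n2407 = n2404 := (((iv F9754)).symm.trans (iv (sb E2330 (tr F10063 E2459))))
theorem E2635 : n3401 = n1762 := ((((iv D2404)).symm.trans (sb E2330 (iv F13492)))).symm
theorem E2636 : n3403 = n2280 := (((F9747).symm.trans (sb E2330 D3403))).symm
theorem E2637 : n2280 = n1763 := ((((iv F7293)).symm.trans (sb E2359 (tr (iv F13499) E2636)))).symm
theorem E2639 : n6369 = n6051 := ((((iv F23367)).symm.trans (sb E2332 D6369))).symm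
theorem E2640 : n6367 = n3245 := ((((iv D4434)).symm.trans (sb E2332 (iv F24521)))).symm
theorem E2641 : n6253 = n6062 := (((D6062).symm.trans (sb E2332 (iv F24131)))).symm
theorem E2642 : n6370 = n4185 := (((F17369).symm.trans (sb E2332 D6370))).symm
theorem E2643 : n4476 = n4434 := ((((iv F17366)).symm.trans (sb E2333 (iv F17532)))).symm
theorem F38078 : act 4 n3272 = n2403 := (sb E2333 F13031)
theorem E2645 : n6368 = n2276 := (((F9732).symm.trans (sb E2334 D6368))).symm
theorem E2646 : n3403 = n1763 := (E2636).trans E2637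
theorem E2647 : n4185 = n3274 := (((D3274).symm.trans (sb E2347 (tr (iv F24531) E2642)))).symm
theorem E2648 : n2276 = n1837 := (((F9735).symm.trans (sb E2347 (tr (iv F24525) E2645)))).symm
theorem F38079 : act 8 n2401 = n3272 := (sb E2337 (iv F13023))
theorem F38080 : act 3 n8354 = n6352 := (sb E2341 (iv D8718))
theorem E2655 : n8368 = n8353 := (((D8353).symm.trans (sb E2343 (iv F31894)))).symm
theorem E2659 : n7793 = n6105 := (((D6105).symm.trans (sb E2348 (iv F29818)))).symm
theorem E2660 : n4213 = n3424 := (((F17488).symm.trans (sb E2348 (iv D5751)))).symm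
theorem F38081 : act 8 n4465 = n6098 := (sb E2348 (iv F23548))
theorem F38082 : act 8 n2507 = n3266 := (sb E2349 (iv F12998))
theorem F38083 : act 6 n1298 = n1125 := (sb E2352 (iv D1533))
theorem F38084 : act 0 n1136 = n990 := (sb E2353 F5229)
theorem E2664 : n927 = n836 := (((F4848).symm.trans (sb E2353 F5231))).symm
theorem F38085 : act 4 n1136 = n1338 := (sb E2353 (iv F5651))
theorem F38086 : act 7 n1136 = n1298 := (sb E2353 (iv F5493))
theorem F38087 : act 5 n1764 = n1338 := (sb E2354 F7527)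
theorem E2666 : n3932 = n551 := (((F3291).symm.trans (sb E2355 D3932))).symm
theorem E2667 : n3930 = n1011 := ((((iv F4350)).symm.trans (sb E2355 (iv F15464)))).symm
theorem E2668 : n3933 = n546 := ((((iv D745)).symm.trans (sb E2355 D3933))).symm
theorem E2669 : n1011 = n953 := (((F5483).symm.trans (sb E2366 (tr D3930 E2667)))).symm
theorem E2670 : n3931 = n1234 := (((F5485).symm.trans (sb E2366 D3931))).symm
theorem E2671 : n1234 = n989 := ((((iv F4269)).symm.trans (sb E2357 (tr (iv F15469) E2670)))).symm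
theorem E2674 : n612 = n551 := (((F3291).symm.trans (sb E2361 F3635))).symm
theorem E2675 : n804 = n546 := ((((iv D745)).symm.trans (sb E2361 F3638))).symm
theorem F38088 : act 5 n1296 = n990 := (sb E2362 F5693)
theorem F38089 : act 0 n729 = n844 := (sb E2363 F4662)
theorem E2677 : n3930 = n953 := (E2667).trans E2669
theorem E2679 : n7344 = n1232 := (((F5478).symm.trans (sb E2442 D7344))).symm
theorem E2680 : n1232 = n1006 := ((((iv F4334)).symm.trans (sb E2365 (tr (iv F28093) E2679)))).symm
theorem F38090 : act 5 n1294 = n1007 := (sb E2367 F5776)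
theorem F38091 : act 8 n1347 = n1759 := (sb E2369 (iv F7280))
theorem E2691 : n3935 = n438 := (((F2086).symm.trans (sb E2378 D3935))).symm
theorem E2693 : n438 = n345 := (((F2130).symm.trans (sb E2385 (tr (iv F15486) E2691)))).symm
theorem F38092 : act 0 n464 = n458 := (sb E2381 F2668)
theorem E2695 : n442 = n341 := ((((iv D464)).symm.trans (sb E2381 F2671))).symm
theorem E2711 : n1868 = n1228 := (((D1228).symm.trans (sb E2398 (iv F7675)))).symm
theorem E2712 : n1154 = n681 := (((F3934).symm.trans (sb E2398 (iv D1573)))).symm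
theorem E2713 : n3416 = n2267 := (((D2267).symm.trans (sb E2399 (iv F13544)))).symm
theorem F38093 : act 6 n1666 = n1830 := (sb E2399 F10107)
theorem F38094 : act 7 n1666 = n1829 := (sb E2399 (iv D2503))
theorem E2716 : n6396 = n4200 := (((D4200).symm.trans (sb E2402 D6396))).symm
theorem F38095 : act 6 n3081 = n3412 := (sb E2402 F18242)
theorem F38096 : act 7 n3081 = n3411 := (sb E2402 (iv D4670))
theorem F38097 : act 3 n594 = n625 := (sb E2405 F3691)
theorem F38098 : act 5 n594 = n624 := (sb E2405 (iv D847))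
theorem E2732 : n6349 = n6275 := ((((iv F24203)).symm.trans (sb E2424 D6349))).symm
theorem F38099 : act 3 n4590 = n3385 := (sb E2424 (iv D4635))
theorem E2733 : n4210 = n3355 := ((((iv D4590)).symm.trans (sb E2424 F18104))).symm
theorem E2734 : n6286 = n6236 := ((D6286).symm.trans (sb E2424 (iv F24069)))
theorem F38100 : act 5 n2501 = n3385 := (sb E2425 (iv F13425))
theorem F38101 : act 2 n8605 = n6338 := (sb E2426 (iv D8700))
theorem F38102 : act 5 n4667 = n6338 := (sb E2427 (iv F24403))
theorem E2738 : n7843 = n6392 := (((D6392).symm.trans (sb E2427 (iv F29976)))).symm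
theorem E2747 : n4567 = n4473 := (((D4473).symm.trans (sb E2438 (iv F17876)))).symm
theorem F38103 : act 5 n3273 = n2486 := (sb E2438 (iv D3396))
theorem E2748 : n4654 = n4473 := (((D4473).symm.trans (sb E2440 (iv F18181)))).symm
theorem F38104 : act 1 n6094 = n6044 := (sb E2441 F24056)
theorem E2749 : n8538 = n8348 := (((D8348).symm.trans (sb E2441 (iv F32533)))).symm
theorem F38105 : act 5 n6094 = n4555 := (sb E2441 (iv D6234))
theorem E2750 : n8549 = n8280 := ((((iv F31576)).symm.trans (sb E2441 D8549))).symm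
theorem E2752 : n3483 = n3237 := ((((iv F12889)).symm.trans (sb E2444 (iv F13770)))).symm
theorem E2754 : n2253 = n1867 := ((F9646).symm.trans (sb E2444 (iv D2551)))
theorem F38106 : act 1 n1369 = n1342 := (sb E2446 F6911)
theorem E2755 : n1250 = n1001 := ((((iv D1369)).symm.trans (sb E2446 F6914))).symm
theorem F38107 : act 8 n1369 = n1755 := (sb E2446 (iv F7265))
theorem F38108 : act 1 n2502 = n2501 := (sb E2450 F12301)
theorem E2757 : n4173 = n3417 := (((D3417).symm.trans (sb E2450 (iv F16398)))).symm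
theorem F38109 : act 8 n2502 = n3261 := (sb E2450 (iv F12979))
theorem F38110 : act 3 n8279 = n6235 := (sb E2453 (iv D8550))
theorem E2761 : n6370 = n3274 := (E2642).trans E2647
theorem F38111 : act 1 n4458 = n4590 := (sb E2456 F22070)
theorem E2764 : n7777 = n6096 := (((D6096).symm.trans (sb E2456 (iv F29761)))).symm
theorem F38112 : act 8 n4458 = n6044 := (sb E2456 (iv F23343))
theorem F38113 : act 0 n1765 = n1764 := (sb E2459 F7519)
theorem E2767 : n3279 = n1822 := ((((iv F7517)).symm.trans (sb E2460 (iv F13046)))).symm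
theorem F38114 : act 6 n1337 = n1765 := (sb E2460 F9760)
theorem F38115 : act 8 n1337 = n1764 := (sb E2460 (iv D2408))
theorem E2769 : n6115 = n3367 := (((E2614).symm.trans ((D3398).symm.trans (sb E2461 (iv F23608))))).symm
theorem F38116 : act 8 n2487 = n3273 := (sb E2461 (iv D4474))
theorem F38117 : act 8 n4590 = n6094 := (sb E2463 (iv D8349))
theorem F38118 : act 7 n1336 = n1765 := (sb E2466 (iv F7302))
theorem F38119 : act 1 n737 = n849 := (sb E2476 F4685)
theorem E2792 : n7775 = n6398 := (((D6398).symm.trans (sb E2480 (iv F29754)))).symm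
theorem F38120 : act 8 n4671 = n6082 := (sb E2480 (iv F23483))
theorem F38121 : act 6 n5725 = n6388 := (sb E2485 F33321)
theorem E2803 : n8554 = n8362 := (((D8362).symm.trans (sb E2489 (iv F32603)))).symm
theorem F38122 : act 5 n6103 = n4638 := (sb E2489 (iv D6351))
theorem E2804 : n8717 = n8355 := ((((iv F31852)).symm.trans (sb E2489 D8717))).symm
theorem F38123 : act 6 n6110 = n4646 := (sb E2499 F24494)
theorem E2810 : n8373 = n5012 := ((D8373).symm.trans (sb E2499 F24495))
theorem F38124 : act 7 n3664 = n4470 := (sb E2500 (iv D6111))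
theorem F38125 : act 8 n4642 = n6103 := (sb E2501 (iv D8364))
theorem E2874 : n5320 = n252 := (((F1596).symm.trans (sb E2559 D5320))).symm
theorem E2876 : n5314 = n730 := (((F4245).symm.trans (sb E2563 D5314))).symm
theorem E2877 : n5317 = n465 := (((F2791).symm.trans (sb E2564 D5317))).symm
theorem E2878 : n3755 = n463 := ((((iv F2128)).symm.trans (sb E2565 F15314))).symm
theorem E2880 : n7004 = n851 := ((((iv F3707)).symm.trans (sb E2568 F27774))).symm
theorem E2881 : n463 = n326 := (((F2037).symm.trans (sb E2592 (tr F19867 E2878)))).symm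
theorem E2883 : n851 = n504 := ((((iv F2300)).symm.trans (sb E2592 (tr (iv F26789) E2880)))).symm
theorem E2884 : n2515 = n1335 := (((D1335).symm.trans (sb E2570 (iv F10142)))).symm
theorem E2886 : n4688 = n2445 := ((((iv F9906)).symm.trans (sb E2571 D4688))).symm
theorem E2887 : n2511 = n1671 := (((F7497).symm.trans (sb E2571 F13578))).symm
theorem E2889 : n8800 = n4559 := ((((iv F17849)).symm.trans (sb E2573 D8800))).symm
theorem E2890 : n4684 = n3090 := (((F13438).symm.trans (sb E2573 F24670))).symm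
theorem F38129 : act 6 n2271 = n2507 := (sb E2574 F13565)
theorem F38130 : act 7 n2271 = n2506 := (sb E2574 (iv D3423))
theorem E2893 : n856 = n498 := ((((iv D673)).symm.trans (sb E2576 F4890))).symm
theorem E2894 : n1351 = n909 := (((D909).symm.trans (sb E2576 (iv F5689)))).symm
theorem F38131 : act 7 n673 = n844 := (sb E2576 (iv D1151))
theorem E2895 : n1373 = n908 := (((D908).symm.trans (sb E2578 (iv F5772)))).symm
theorem F38132 : act 6 n1230 = n1347 := (sb E2579 F7570)
theorem F38133 : act 7 n1230 = n1346 := (sb E2579 (iv D1838))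
theorem E2896 : n468 = n324 := (((F2025).symm.trans (sb E2580 F2818))).symm
theorem F38134 : act 5 n437 = n464 := (sb E2580 F2819)
theorem F38135 : act 3 n440 = n462 := (sb E2581 F2802)
theorem F38136 : act 5 n440 = n461 := (sb E2581 (iv D626))
theorem E2897 : n4477 = n2449 := ((((iv F9922)).symm.trans (sb E2582 D4477))).symm
theorem F38137 : act 7 n1821 = n2404 := (sb E2582 (iv D3277))
theorem E2902 : n8302 = n4568 := (((D4568).symm.trans (sb E2585 (iv F31646)))).symm
theorem E2910 : n3755 = n326 := (E2878).trans E2881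
theorem E2930 : n8728 = n8493 := ((((iv F32381)).symm.trans (sb E2610 D8728))).symm
theorem F38138 : act 2 n6291 = n4642 := (sb E2610 (iv D6358))
theorem E2931 : n4653 = n4597 := (((F24257).symm.trans (sb E2610 F24485))).symm
theorem E2933 : n8720 = n8631 := (((D8631).symm.trans (sb E2610 (iv F33154)))).symm
theorem F38139 : act 5 n3420 = n4642 := (sb E2611 (iv F18133))
theorem E2935 : n5753 = n4680 := (((D4680).symm.trans (sb E2611 (iv F22260)))).symm
theorem F38140 : act 6 n6353 = n8354 := (sb E2612 (iv F31849))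
theorem E2937 : n2492 = n2469 := ((D2492).symm.trans (sb E2613 (iv F9978)))
theorem E2938 : n1676 = n1349 := ((F7518).symm.trans (sb E2613 (iv D1840)))
theorem F38141 : act 6 n1822 = n2404 := (sb E2613 (iv F9746))
theorem F38142 : act 3 n3367 = n2487 := (sb E2614 (iv D3398))
theorem E2939 : n3100 = n2465 := ((((iv D3367)).symm.trans (sb E2614 F13479))).symm
theorem E2940 : n4608 = n4569 := ((D4608).symm.trans (sb E2614 (iv F17886)))
theorem F38143 : act 5 n1836 = n2487 := (sb E2615 (iv F10047))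
theorem E2955 : n469 = n451 := (((F2743).symm.trans (sb E2627 F2820))).symm
theorem F38144 : act 6 n611 = n745 := (sb E2627 (iv F3293))
theorem F38145 : act 8 n611 = n464 := (sb E2627 (iv D632))
theorem F38146 : act 0 n2405 = n2404 := (sb E2632 F10056)
theorem E2959 : n3343 = n3278 := (((D3278).symm.trans (sb E2632 (iv F13289)))).symm
theorem F38147 : act 5 n2405 = n1821 := (sb E2632 (iv D2490))
theorem E2960 : n4657 = n4410 := ((((iv F17279)).symm.trans (sb E2633 D4657))).symm
theorem E2961 : n4655 = n2384 := ((((iv D3249)).symm.trans (sb E2633 (iv F18185)))).symm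
theorem E2963 : n4658 = n3074 := (((F12934).symm.trans (sb E2633 D4658))).symm
theorem E2964 : n3281 = n3249 := ((((iv F12931)).symm.trans (sb E2634 (iv F13052)))).symm
theorem F38148 : act 4 n2404 = n1765 := (sb E2634 F9754)
theorem E2966 : n4656 = n1675 := (((F7291).symm.trans (sb E2635 D4656))).symm
theorem E2967 : n3074 = n2406 := (((D2406).symm.trans (sb E2646 (tr (iv F18198) E2963)))).symm
theorem E2968 : n1675 = n1350 := (((F7294).symm.trans (sb E2646 (tr (iv F18190) E2966)))).symm
theorem F38149 : act 8 n1763 = n2404 := (sb E2637 (iv F9747))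
theorem E2974 : n8743 = n5702 := (((F23370).symm.trans (sb E2639 D8743))).symm
theorem E2978 : n8741 = n3070 := (((F12919).symm.trans (sb E2640 D8741))).symm
theorem E2979 : n8575 = n8303 := (((D8303).symm.trans (sb E2641 D8575))).symm
theorem E2980 : n4658 = n2406 := (E2963).trans E2967
theorem E2981 : n5702 = n4475 := (((D4475).symm.trans (sb E2761 (tr (iv F33232) E2974)))).symm
theorem E2982 : n3070 = n2512 := (((F13029).symm.trans (sb E2761 (tr (iv F33227) E2978)))).symm
theorem E2984 : n6117 = n6051 := ((((iv F23367)).symm.trans (sb E2643 (iv F23614)))).symm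
theorem E2988 : n5713 = n4436 := ((((iv F17376)).symm.trans (sb E2647 D5713))).symm
theorem F38150 : act 8 n3274 = n4434 := (sb E2647 (iv F17369))
theorem F38151 : act 8 n1837 = n2400 := (sb E2648 (iv F9732))
theorem F38152 : act 3 n8353 = n6110 := (sb E2655 F31893)
theorem F38153 : act 8 n8353 = n6106 := (sb E2655 (iv D8368))
theorem E2995 : n5700 = n4686 := (((F23572).symm.trans (sb E2659 (iv D7793)))).symm
theorem F38154 : act 8 n6105 = n8284 := (sb E2659 (iv F31592))
theorem E2996 : n5752 = n4681 := ((((iv F18274)).symm.trans (sb E2660 D5752))).symm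
theorem F38155 : act 8 n3424 = n4461 := (sb E2660 (iv F17474))
theorem F38156 : act 0 n836 = n745 := (sb E2664 F4013)
theorem E3000 : n694 = n617 := (((F3661).symm.trans (sb E2664 F4014))).symm
theorem E3002 : n5370 = n749 := ((((iv F3308)).symm.trans (sb E2666 (iv F20826)))).symm
theorem E3003 : n5374 = n405 := ((((iv D551)).symm.trans (sb E2666 D5374))).symm
theorem E3004 : n749 = n705 := (((F4126).symm.trans (sb E2677 (tr D5370 E3002)))).symm
theorem E3005 : n5371 = n1288 := ((((iv F5450)).symm.trans (sb E2677 D5371))).symm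
theorem E3006 : n5372 = n911 := (((F4129).symm.trans (sb E2677 D5372))).symm
theorem E3007 : n911 = n744 := ((((iv F3290)).symm.trans (sb E2668 (tr (iv F20835) E3006)))).symm
theorem F38157 : act 5 n953 = n745 := (sb E2669 F4350)
theorem E3010 : n5372 = n744 := (E3006).trans E3007
theorem F38158 : act 0 n989 = n988 := (sb E2671 F5221)
theorem F38159 : act 8 n989 = n1296 := (sb E2671 (iv F5485))
theorem E3014 : n593 = n405 := ((((iv D551)).symm.trans (sb E2674 F2751))).symm
theorem F38160 : act 0 n546 = n623 := (sb E2675 F3536)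
theorem E3015 : n599 = n401 := ((((iv D546)).symm.trans (sb E2675 F3539))).symm
theorem E3017 : n1660 = n1372 := ((((iv F5768)).symm.trans (sb E2680 (iv F6886)))).symm
theorem F38161 : act 8 n1006 = n1294 := (sb E2680 (iv F5478))
theorem F38162 : act 0 n345 = n338 := (sb E2693 F2027)
theorem E3028 : n327 = n253 := ((((iv D345)).symm.trans (sb E2693 F2031))).symm
theorem F38163 : act 0 n341 = n342 := (sb E2695 F2044)
theorem E3038 : n2549 = n1656 := ((((iv F6875)).symm.trans (sb E2711 (iv F10263)))).symm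
theorem F38164 : act 6 n1228 = n1369 := (sb E2711 F7676)
theorem E3039 : n1368 = n919 := (((F5206).symm.trans (sb E2711 (iv D1868)))).symm
theorem F38165 : act 3 n681 = n849 := (sb E2712 F4902)
theorem E3040 : n4675 = n3061 := ((((iv F12225)).symm.trans (sb E2713 D4675))).symm
theorem F38166 : act 6 n2267 = n2502 := (sb E2713 F13545)
theorem F38167 : act 7 n2267 = n2501 := (sb E2713 (iv D3416))
theorem E3044 : n8778 = n5687 := ((((iv F22042)).symm.trans (sb E2716 D8778))).symm
theorem F38168 : act 6 n4200 = n4671 := (sb E2716 F24623)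
theorem E3045 : n8772 = n5734 := (((D5734).symm.trans (sb E2716 (iv F33340)))).symm
theorem E3056 : n8713 = n8591 := ((((iv F32729)).symm.trans (sb E2732 D8713))).symm
theorem E3057 : n5749 = n4583 := ((((iv D6275)).symm.trans (sb E2732 F24453))).symm
theorem E3058 : n8609 = n8552 := ((D8609).symm.trans (sb E2732 (iv F32597)))
theorem E3061 : n5697 = n4591 := (((D4591).symm.trans (sb E2733 (iv F22080)))).symm
theorem F38169 : act 6 n6236 = n8279 := (sb E2734 (iv F31572))
theorem F38170 : act 7 n6236 = n4590 := (sb E2734 (iv D6286))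
theorem F38171 : act 5 n6392 = n8695 := (sb E2738 (iv F33054))
theorem E3069 : n6241 = n6114 := (((D6114).symm.trans (sb E2747 (iv F24088)))).symm
theorem F38172 : act 5 n4473 = n3339 := (sb E2747 (iv D4567))
theorem E3070 : n6252 = n6063 := ((((iv F23410)).symm.trans (sb E2747 D6252))).symm
theorem E3072 : n6373 = n6063 := ((((iv F23410)).symm.trans (sb E2748 D6373))).symm
theorem F38173 : act 5 n8348 = n6227 := (sb E2749 (iv D8538))
theorem F38174 : act 8 n8348 = n6275 := (sb E2749 F32536)
theorem F38175 : act 1 n8280 = n8279 := (sb E2750 F32580)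
theorem F38176 : act 5 n8280 = n6235 := (sb E2750 F32582)
theorem E3074 : n4763 = n4418 := ((((iv F17308)).symm.trans (sb E2752 (iv F18543)))).symm
theorem E3076 : n4764 = n4424 := (((D4424).symm.trans (sb E2752 D4764))).symm
theorem E3077 : n3062 = n2550 := ((F12891).symm.trans (sb E2752 (iv D3483)))
theorem F38177 : act 1 n1867 = n1800 := (sb E2754 F9162)
theorem E3079 : n1682 = n1367 := ((((iv D1867)).symm.trans (sb E2754 F9166))).symm
theorem F38178 : act 8 n1867 = n2377 := (sb E2754 (iv F9646))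
theorem F38179 : act 1 n1001 = n1003 := (sb E2755 F5292)
theorem F38180 : act 1 n3417 = n3355 := (sb E2757 F16397)
theorem E3080 : n5688 = n4677 := (((D4677).symm.trans (sb E2757 (iv F22045)))).symm
theorem E3081 : n5696 = n4592 := ((((iv F17963)).symm.trans (sb E2757 D5696))).symm
theorem F38181 : act 8 n3417 = n4422 := (sb E2757 (iv F17327))
theorem F38182 : act 8 n6096 = n8268 := (sb E2764 (iv F31526))
theorem E3084 : n4480 = n2469 := (((E2937).symm.trans ((D2492).symm.trans (sb E2767 (iv F17545))))).symm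
theorem F38183 : act 8 n1822 = n2405 := (sb E2767 (iv D3279))
theorem E3087 : n8378 = n4597 := ((((iv F17975)).symm.trans (sb E2769 (iv F31932)))).symm
theorem F38184 : act 8 n3367 = n4473 := (sb E2769 (iv D6115))
theorem F38185 : act 8 n6398 = n8266 := (sb E2792 (iv F31517))
theorem F38186 : act 5 n8362 = n6239 := (sb E2803 (iv D8554))
theorem F38187 : act 8 n8362 = n6291 := (sb E2803 F32606)
theorem F38188 : act 5 n8355 = n6352 := (sb E2804 F33144)
theorem F38189 : act 7 n5012 = n6110 := (sb E2810 (iv D8373))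
theorem E3186 : n5370 = n705 := (E3002).trans E3004
theorem E3190 : n7279 = n187 := (((F1213).symm.trans (sb E2874 D7279))).symm
theorem E3193 : n7273 = n547 := (((F3239).symm.trans (sb E2876 D7273))).symm
theorem E3194 : n5128 = n630 := ((((iv F2816)).symm.trans (sb E2877 F20608))).symm
theorem E3195 : n5131 = n242 := (((F1545).symm.trans (sb E2910 (iv F19901)))).symm
theorem E3197 : n630 = n374 := ((((iv F1746)).symm.trans (sb E2910 (tr (iv F19891) E3194)))).symm
theorem E3198 : n5128 = n374 := (E3194).trans E3197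
theorem E3201 : n344 = n242 := (((F1545).symm.trans (sb E2881 F2127))).symm
theorem F38192 : act 3 n326 = n342 := (sb E2881 F2128)
theorem F38193 : act 5 n326 = n341 := (sb E2881 (iv D463))
theorem F38194 : act 3 n504 = n628 := (sb E2883 F3707)
theorem E3202 : n1005 = n683 := (((D683).symm.trans (sb E2883 (iv F4330)))).symm
theorem E3203 : n3432 = n1793 := ((((iv F7417)).symm.trans (sb E2884 D3432))).symm
theorem E3204 : n1841 = n1233 := (((F5637).symm.trans (sb E2884 F10143))).symm
theorem E3206 : n6420 = n3334 := ((((iv F13257)).symm.trans (sb E2886 D6420))).symm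
theorem E3207 : n3428 = n2256 := (((F9907).symm.trans (sb E2886 F18294))).symm
theorem F38195 : act 6 n1671 = n1837 := (sb E2887 F10132)
theorem F38196 : act 7 n1671 = n1836 := (sb E2887 (iv D2511))
theorem E3210 : n6415 = n4177 := (((F17851).symm.trans (sb E2889 F33420))).symm
theorem F38197 : act 6 n3090 = n3424 := (sb E2890 F18283)
theorem E3211 : n6409 = n4214 := (((D4214).symm.trans (sb E2890 (iv F24660)))).symm
theorem E3212 : n635 = n370 := (((F2272).symm.trans (sb E2893 F3723))).symm
theorem E3213 : n1010 = n674 := (((D674).symm.trans (sb E2893 (iv F4347)))).symm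
theorem F38198 : act 6 n909 = n989 := (sb E2894 F5690)
theorem F38199 : act 7 n909 = n988 := (sb E2894 (iv D1351))
theorem E3214 : n1871 = n1223 := ((((iv F5188)).symm.trans (sb E2895 (iv F7688)))).symm
theorem F38200 : act 6 n908 = n1006 := (sb E2895 F5773)
theorem F38201 : act 5 n324 = n345 := (sb E2896 F2144)
theorem E3216 : n6067 = n3344 := (((D3344).symm.trans (sb E2897 (iv F23424)))).symm
theorem F38202 : act 3 n4568 = n6062 := (sb E2902 (iv D8302))
theorem E3252 : n6371 = n6198 := (((F32383).symm.trans (sb E2930 F33179))).symm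
theorem E3254 : n4229 = n3360 := ((((iv D4597)).symm.trans (sb E2931 F18179))).symm
theorem E3255 : n6295 = n6255 := ((D6295).symm.trans (sb E2931 (iv F24138)))
theorem F38203 : act 2 n8631 = n6353 := (sb E2933 (iv D8720))
theorem F38204 : act 5 n4680 = n6353 := (sb E2935 (iv F24467))
theorem E3259 : n7872 = n6410 := (((D6410).symm.trans (sb E2935 D7872))).symm
theorem E3260 : n3404 = n3322 := ((((iv F13210)).symm.trans (sb E2937 D3404))).symm
theorem F38205 : act 3 n2469 = n1822 := (sb E2937 (iv D2492))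
theorem E3261 : n2282 = n1807 := ((((iv D2469)).symm.trans (sb E2937 F10067))).symm
theorem E3262 : n3372 = n3345 := ((D3372).symm.trans (sb E2937 (iv F13299)))
theorem F38206 : act 5 n1349 = n1822 := (sb E2938 (iv F7518))
theorem E3266 : n4187 = n3368 := (((D3368).symm.trans (sb E2939 (iv F16440)))).symm
theorem F38207 : act 6 n4569 = n6062 := (sb E2940 (iv F23406))
theorem F38208 : act 7 n4569 = n3367 := (sb E2940 (iv D4608))
theorem E3267 : n6310 = n6256 := (((D6256).symm.trans (sb E2940 D6310))).symm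
theorem F38209 : act 6 n451 = n551 := (sb E2955 (iv F2497))
theorem F38210 : act 8 n451 = n345 := (sb E2955 (iv D469))
theorem F38211 : act 0 n3278 = n3249 := (sb E2959 F13288)
theorem E3285 : n4514 = n4479 := (((D4479).symm.trans (sb E2959 (iv F17688)))).symm
theorem F38212 : act 5 n3278 = n2449 := (sb E2959 (iv D3343))
theorem E3286 : n4572 = n4440 := ((((iv F17391)).symm.trans (sb E2959 D4572))).symm
theorem E3287 : n6377 = n6021 := ((((iv F23255)).symm.trans (sb E2960 D6377))).symm
theorem E3288 : n6374 = n3229 := ((((iv D4410)).symm.trans (sb E2960 (iv F24546)))).symm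
theorem E3289 : n6259 = n6026 := (((D6026).symm.trans (sb E2960 (iv F24155)))).symm
theorem E3290 : n6378 = n4161 := (((F17283).symm.trans (sb E2960 D6378))).symm
theorem E3291 : n6375 = n1749 := (((F9670).symm.trans (sb E2961 D6375))).symm
theorem E3294 : n6376 = n2260 := (((F9671).symm.trans (sb E2961 D6376))).symm
theorem E3296 : n4161 = n3280 := (((D3280).symm.trans (sb E2980 (tr (iv F24560) E3290)))).symm
theorem E3297 : n2260 = n1842 := (((F9752).symm.trans (sb E2980 (tr (iv F24554) E3294)))).symm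
theorem E3299 : n4482 = n4410 := ((((iv F17279)).symm.trans (sb E2964 (iv F17551)))).symm
theorem E3300 : n4483 = n4439 := (((D4439).symm.trans (sb E2964 D4483))).symm
theorem E3301 : n6376 = n1842 := (E3294).trans E3297
theorem F38213 : act 0 n2406 = n2469 := (sb E2967 F12261)
theorem F38214 : act 8 n2406 = n3249 := (sb E2967 (iv F12934))
theorem F38215 : act 0 n1350 = n1349 := (sb E2968 F6931)
theorem F38216 : act 8 n1350 = n1762 := (sb E2968 (iv F7291))
theorem F38217 : act 3 n8303 = n6254 := (sb E2979 F32670)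
theorem E3310 : n7743 = n6116 := (((D6116).symm.trans (sb E2981 (iv F29646)))).symm
theorem E3311 : n4178 = n3430 := (((F17530).symm.trans (sb E2981 (iv D5702)))).symm
theorem E3313 : n2257 = n1872 := (((F10134).symm.trans (sb E2982 F12251))).symm
theorem E3314 : n4186 = n3369 := ((((iv F13369)).symm.trans (sb E2982 D4186))).symm
theorem F38218 : act 8 n2512 = n3245 := (sb E2982 (iv F12919))
theorem E3316 : n8381 = n8234 := ((((iv F31405)).symm.trans (sb E2984 (iv F31942)))).symm
theorem F38219 : act 8 n6051 = n4475 := (sb E2984 (iv D6117))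
theorem E3319 : n7812 = n6066 := (((D6066).symm.trans (sb E2988 D7812))).symm
theorem E3325 : n7741 = n6417 := (((D6417).symm.trans (sb E2995 (iv F29639)))).symm
theorem F38220 : act 8 n4686 = n6049 := (sb E2995 (iv F23363))
theorem E3327 : n7869 = n6412 := (((D6412).symm.trans (sb E2996 D7869))).symm
theorem F38221 : act 0 n617 = n551 := (sb E3000 F3084)
theorem E3333 : n7353 = n675 := (((F3137).symm.trans (sb E3186 D7353))).symm
theorem E3334 : n675 = n550 := ((((iv F2493)).symm.trans (sb E3003 (tr (iv F28131) E3333)))).symm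
theorem F38222 : act 5 n705 = n551 := (sb E3004 F3308)
theorem E3337 : n7354 = n1226 := (((F5453).symm.trans (sb E3005 D7354))).symm
theorem E3339 : n1226 = n1009 := ((((iv F4344)).symm.trans (sb E3010 (tr (iv F28134) E3337)))).symm
theorem F38223 : act 0 n744 = n730 := (sb E3007 F3947)
theorem E3341 : n686 = n545 := ((((iv D744)).symm.trans (sb E3007 F3950))).symm
theorem F38224 : act 8 n744 = n953 := (sb E3007 (iv F4129))
theorem F38225 : act 0 n405 = n459 := (sb E3014 F2672)
theorem E3347 : n443 = n298 := ((((iv D405)).symm.trans (sb E3014 F2676))).symm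
theorem F38226 : act 0 n401 = n465 := (sb E3015 F2695)
theorem F38227 : act 8 n1372 = n1747 := (sb E3017 (iv F7236))
theorem F38228 : act 0 n253 = n252 := (sb E3028 F1547)
theorem E3360 : n245 = n186 := ((((iv D253)).symm.trans (sb E3028 F1549))).symm
theorem E3369 : n3480 = n2251 := ((((iv F9156)).symm.trans (sb E3038 D3480))).symm
theorem F38229 : act 6 n1656 = n1867 := (sb E3038 F10264)
theorem E3370 : n1866 = n1238 := (((F6876).symm.trans (sb E3038 (iv D2549)))).symm
theorem F38230 : act 3 n919 = n1003 := (sb E3039 F5751)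
theorem F38231 : act 6 n919 = n1001 := (sb E3039 (iv D1368))
theorem E3371 : n6402 = n4168 := ((((iv F16381)).symm.trans (sb E3040 D6402))).symm
theorem F38232 : act 6 n3061 = n3417 := (sb E3040 F18258)
theorem E3372 : n6287 = n4174 := (((D4174).symm.trans (sb E3040 (iv F24246)))).symm
theorem F38233 : act 6 n5687 = n6398 := (sb E3044 F33359)
theorem F38234 : act 3 n5734 = n6392 := (sb E3045 (iv D8772))
theorem F38235 : act 6 n5734 = n6393 := (sb E3045 F33339)
theorem F38236 : act 2 n8591 = n8350 := (sb E3056 F33126)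
theorem E3388 : n7791 = n6276 := (((D6276).symm.trans (sb E3057 (iv F29813)))).symm
theorem F38237 : act 7 n8552 = n6275 := (sb E3058 (iv D8609))
theorem F38238 : act 5 n4591 = n6236 := (sb E3061 (iv F24068))
theorem E3392 : n7792 = n6288 := (((D6288).symm.trans (sb E3061 D7792))).symm
theorem E3397 : n8443 = n8377 := (((D8377).symm.trans (sb E3069 (iv F32203)))).symm
theorem F38239 : act 5 n6114 = n4560 := (sb E3069 (iv D6241))
theorem E3398 : n8558 = n8304 := ((((iv F31654)).symm.trans (sb E3069 D8558))).symm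
theorem F38240 : act 5 n6063 = n4568 := (sb E3070 F24126)
theorem E3399 : n8573 = n8305 := (((D8305).symm.trans (sb E3070 D8573))).symm
theorem E3402 : n8578 = n8305 := (((D8305).symm.trans (sb E3072 (iv F32684)))).symm
theorem E3404 : n6522 = n6032 := ((((iv F23292)).symm.trans (sb E3074 (iv F25035)))).symm
theorem E3406 : n6523 = n6039 := (((D6039).symm.trans (sb E3074 D6523))).symm
theorem E3407 : n4169 = n3482 := ((F17311).symm.trans (sb E3074 (iv D4763)))
theorem E3410 : n6474 = n6048 := (((D6048).symm.trans (sb E3076 (iv F24873)))).symm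
theorem F38241 : act 1 n2550 = n2457 := (sb E3077 F12227)
theorem E3411 : n4175 = n3453 := ((((iv F13664)).symm.trans (sb E3077 D4175))).symm
theorem F38242 : act 8 n2550 = n3237 := (sb E3077 (iv F12891))
theorem F38243 : act 1 n1367 = n1356 := (sb E3079 F6960)
theorem E3412 : n2289 = n1848 := ((((iv F7600)).symm.trans (sb E3079 (iv F9283)))).symm
theorem E3413 : n7767 = n6404 := (((D6404).symm.trans (sb E3080 (iv F29727)))).symm
theorem F38244 : act 8 n4677 = n6037 := (sb E3080 (iv F23313))
theorem F38245 : act 1 n4592 = n4591 := (sb E3081 F22074)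
theorem E3415 : n7790 = n6290 := (((D6290).symm.trans (sb E3081 D7790))).symm
theorem E3416 : n6123 = n3322 := ((((iv F13210)).symm.trans (sb E3084 (iv F23633)))).symm
theorem E3417 : n6124 = n3345 := (((E3262).symm.trans ((D3372).symm.trans (sb E3084 D6124)))).symm
theorem F38246 : act 8 n2469 = n3278 := (sb E3084 (iv D4480))
theorem F38247 : act 8 n4597 = n6114 := (sb E3087 (iv D8378))
theorem E3513 : n7018 = n254 := ((((iv F1220)).symm.trans (sb E3190 F27829))).symm
theorem E3518 : n7012 = n743 := ((((iv F3286)).symm.trans (sb E3193 F27805))).symm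
theorem E3521 : n743 = n506 := (((D506).symm.trans (sb E3198 (tr (iv F26815) E3518)))).symm
theorem E3522 : n254 = n180 := (((F1175).symm.trans (sb E3195 (tr D7018 E3513)))).symm
theorem F38249 : act 3 n374 = n465 := (sb E3197 F2816)
theorem F38250 : act 5 n242 = n253 := (sb E3201 (iv D344))
theorem F38251 : act 3 n683 = n741 := (sb E3202 F4329)
theorem E3527 : n1371 = n914 := ((((iv F3962)).symm.trans (sb E3202 (iv F5764)))).symm
theorem F38252 : act 6 n683 = n739 := (sb E3202 (iv D1005))
theorem E3528 : n4695 = n2421 := ((((iv F9819)).symm.trans (sb E3203 D4695))).symm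
theorem E3529 : n2516 = n1661 := (((F7418).symm.trans (sb E3203 F13589))).symm
theorem F38253 : act 6 n1233 = n1350 := (sb E3204 F7578)
theorem F38254 : act 7 n1233 = n1349 := (sb E3204 (iv D1841))
theorem E3532 : n8809 = n4505 := ((((iv F17654)).symm.trans (sb E3206 D8809))).symm
theorem E3533 : n4690 = n3065 := (((F13258).symm.trans (sb E3206 F24690))).symm
theorem E3536 : n2554 = n1658 := ((((iv D2256)).symm.trans (sb E3207 F13580))).symm
theorem F38255 : act 6 n2256 = n2512 := (sb E3207 F13581)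
theorem E3537 : n4609 = n3071 := (((D3071).symm.trans (sb E3207 (iv F18008)))).symm
theorem E3540 : n8803 = n5664 := ((((iv F21964)).symm.trans (sb E3210 D8803))).symm
theorem F38256 : act 6 n4177 = n4686 := (sb E3210 F24677)
theorem E3541 : n8795 = n5701 := (((D5701).symm.trans (sb E3210 (iv F33406)))).symm
theorem F38257 : act 3 n4214 = n4680 := (sb E3211 (iv D6409))
theorem F38258 : act 6 n4214 = n4681 := (sb E3211 F24659)
theorem E3542 : n8796 = n5754 := (((D5754).symm.trans (sb E3211 D8796))).symm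
theorem E3543 : n748 = n499 := (((D499).symm.trans (sb E3212 (iv F3304)))).symm
theorem E3544 : n1376 = n904 := ((((iv F3923)).symm.trans (sb E3213 (iv F5783)))).symm
theorem F38259 : act 6 n674 = n744 := (sb E3213 F4348)
theorem F38260 : act 6 n1223 = n1372 := (sb E3214 F7689)
theorem F38261 : act 3 n3344 = n4439 := (sb E3216 (iv D6067))
theorem E3548 : n8311 = n4574 := (((D4574).symm.trans (sb E3216 D8311))).symm
theorem E3583 : n8745 = n8477 := ((((iv F32327)).symm.trans (sb E3252 D8745))).symm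
theorem E3584 : n4659 = n4538 := (((F23929).symm.trans (sb E3252 F24534))).symm
theorem E3586 : n8576 = n8497 := (((D8497).symm.trans (sb E3252 (iv F32676)))).symm
theorem E3589 : n5716 = n4598 := (((D4598).symm.trans (sb E3254 (iv F22132)))).symm
theorem F38262 : act 6 n6255 = n8288 := (sb E3255 (iv F31605))
theorem F38263 : act 7 n6255 = n4597 := (sb E3255 (iv D6295))
theorem F38264 : act 5 n6410 = n8722 := (sb E3259 (iv F33160))
theorem E3592 : n3106 = n2435 := ((((iv D3322)).symm.trans (sb E3260 F13505))).symm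
theorem E3593 : n4575 = n4543 := (((D4543).symm.trans (sb E3260 (iv F17911)))).symm
theorem E3596 : n3076 = n2470 := (((D2470).symm.trans (sb E3261 (iv F12269)))).symm
theorem F38265 : act 6 n3345 = n4439 := (sb E3262 (iv F17388))
theorem F38266 : act 7 n3345 = n2469 := (sb E3262 (iv D3372))
theorem E3597 : n4614 = n4576 := (((D4576).symm.trans (sb E3262 D4614))).symm
theorem F38267 : act 5 n3368 = n4569 := (sb E3266 (iv F17885))
theorem E3601 : n5717 = n4610 := (((D4610).symm.trans (sb E3266 D5717))).symm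
theorem F38268 : act 6 n6256 = n8303 := (sb E3267 (iv F31650))
theorem F38269 : act 0 n4479 = n4410 := (sb E3285 F17687)
theorem E3621 : n6168 = n6122 := (((D6122).symm.trans (sb E3285 (iv F23823)))).symm
theorem F38270 : act 5 n4479 = n3302 := (sb E3285 (iv D4514))
theorem E3622 : n6173 = n6069 := ((((iv F23431)).symm.trans (sb E3285 D6173))).symm
theorem F38271 : act 0 n4440 = n4439 := (sb E3286 F17896)
theorem F38272 : act 5 n4440 = n3344 := (sb E3286 F17898)
theorem E3623 : n6258 = n6070 := (((D6070).symm.trans (sb E3286 D6258))).symm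
theorem E3627 : n8754 = n5672 := (((F23259).symm.trans (sb E3287 D8754))).symm
theorem E3631 : n8750 = n3054 := (((F12862).symm.trans (sb E3288 D8750))).symm
theorem E3632 : n8461 = n8250 := (((D8250).symm.trans (sb E3289 (iv F32271)))).symm
theorem E3634 : n6378 = n3280 := (E3290).trans E3296
theorem E3635 : n5672 = n4481 := (((D4481).symm.trans (sb E3634 (tr (iv F33274) E3627)))).symm
theorem E3636 : n3054 = n2518 := (((F13051).symm.trans (sb E3634 (tr (iv F33259) E3631)))).symm
theorem E3640 : n8751 = n1662 := (((F7242).symm.trans (sb E3291 D8751))).symm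
theorem E3644 : n1662 = n1377 := (((F7579).symm.trans (sb E3301 (tr (iv F33263) E3640)))).symm
theorem F38273 : act 0 n3280 = n3322 := (sb E3296 F16355)
theorem E3647 : n5677 = n4442 := ((((iv F17397)).symm.trans (sb E3296 D5677))).symm
theorem F38274 : act 0 n1842 = n1807 := (sb E3297 F9182)
theorem E3648 : n3075 = n2471 := ((((iv F9983)).symm.trans (sb E3297 D3075))).symm
theorem F38275 : act 8 n1842 = n2384 := (sb E3297 (iv F9671))
theorem E3651 : n6126 = n6021 := ((((iv F23255)).symm.trans (sb E3299 (iv F23643)))).symm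
theorem E3652 : n6127 = n6026 := (((D6026).symm.trans (sb E3299 D6127))).symm
theorem F38276 : act 8 n4410 = n3280 := (sb E3299 (iv D4482))
theorem E3653 : n6073 = n6068 := (((D6068).symm.trans (sb E3300 (iv F23444)))).symm
theorem E3659 : n5665 = n4692 := (((F23613).symm.trans (sb E3310 (iv D7743)))).symm
theorem E3660 : n3066 = n2556 := (((F13585).symm.trans (sb E3311 F16415))).symm
theorem E3661 : n5703 = n4611 := ((((iv F18013)).symm.trans (sb E3311 D5703))).symm
theorem F38277 : act 8 n3430 = n4427 := (sb E3311 (iv F17345))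
theorem E3662 : n3072 = n2540 := ((((iv F10232)).symm.trans (sb E3313 D3072))).symm
theorem F38278 : act 8 n1872 = n2381 := (sb E3313 (iv F9660))
theorem E3663 : n5715 = n4612 := (((D4612).symm.trans (sb E3314 D5715))).symm
theorem F38279 : act 8 n8234 = n6116 := (sb E3316 (iv D8381))
theorem F38280 : act 7 n6066 = n8303 := (sb E3319 (iv F31651))
theorem F38281 : act 8 n6417 = n8232 := (sb E3325 (iv F31400))
theorem F38282 : act 7 n6412 = n8356 := (sb E3327 (iv F31856))
theorem F38283 : act 0 n550 = n536 := (sb E3334 F2998)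
theorem E3675 : n905 = n747 := ((((iv F3300)).symm.trans (sb E3334 (iv F3927)))).symm
theorem E3676 : n507 = n404 := ((((iv D550)).symm.trans (sb E3334 F3002))).symm
theorem F38284 : act 8 n550 = n705 := (sb E3334 (iv F3137))
theorem F38285 : act 0 n1009 = n974 := (sb E3339 F5195)
theorem E3679 : n917 = n742 := ((((iv D1009)).symm.trans (sb E3339 F5199))).symm
theorem F38286 : act 8 n1009 = n1288 := (sb E3339 (iv F5453))
theorem F38287 : act 0 n545 = n547 := (sb E3341 F3048)
theorem F38288 : act 0 n298 = n343 := (sb E3347 F2048)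
theorem E3687 : n331 = n221 := ((((iv D298)).symm.trans (sb E3347 F2050))).symm
theorem F38289 : act 0 n186 = n187 := (sb E3360 F1187)
theorem E3703 : n198 = n135 := ((((iv D186)).symm.trans (sb E3360 F1189))).symm
theorem E3712 : n4760 = n3059 := ((((iv F12218)).symm.trans (sb E3369 D4760))).symm
theorem F38290 : act 6 n2251 = n2550 := (sb E3369 F13760)
theorem E3713 : n4724 = n3063 := (((D3063).symm.trans (sb E3369 (iv F18414)))).symm
theorem E3714 : n2527 = n1680 := ((((iv F6953)).symm.trans (sb E3370 (iv F10183)))).symm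
theorem F38291 : act 6 n1238 = n1367 := (sb E3370 (iv D1866))
theorem E3715 : n8786 = n5682 := ((((iv F22026)).symm.trans (sb E3371 D8786))).symm
theorem F38292 : act 6 n4168 = n4677 := (sb E3371 F24641)
theorem E3716 : n8625 = n5689 := (((D5689).symm.trans (sb E3371 (iv F32836)))).symm
theorem F38293 : act 3 n4174 = n4591 := (sb E3372 (iv D6287))
theorem F38294 : act 6 n4174 = n4592 := (sb E3372 F24245)
theorem E3717 : n8626 = n5698 := (((D5698).symm.trans (sb E3372 D8626))).symm
theorem F38295 : act 5 n6276 = n8552 := (sb E3388 (iv F32596))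
theorem F38296 : act 5 n6288 = n8553 := (sb E3392 (iv F32602))
theorem F38297 : act 5 n8377 = n6161 := (sb E3397 (iv D8443))
theorem F38298 : act 8 n8377 = n6198 := (sb E3397 F32207)
theorem F38299 : act 5 n8304 = n6242 := (sb E3398 F32618)
theorem F38300 : act 5 n8305 = n6254 := (sb E3399 F32663)
theorem F38301 : act 7 n8305 = n6256 := (sb E3402 (iv D8578))
theorem E3736 : n8942 = n8215 := ((((iv F31329)).symm.trans (sb E3404 (iv F33901)))).symm
theorem E3739 : n5683 = n4762 := ((F23295).symm.trans (sb E3404 (iv D6522)))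
theorem E3743 : n8882 = n8273 := (((D8273).symm.trans (sb E3406 (iv F33694)))).symm
theorem F38302 : act 8 n3482 = n4418 := (sb E3407 (iv F17311))
theorem E3747 : n5699 = n4727 := ((F23359).symm.trans (sb E3410 (iv D6474)))
theorem F38303 : act 1 n3453 = n3357 := (sb E3411 F16404)
theorem E3748 : n3117 = n2528 := ((((iv D3453)).symm.trans (sb E3411 F16405))).symm
theorem F38304 : act 1 n1848 = n1849 := (sb E3412 F9282)
theorem E3749 : n3111 = n2522 := ((((iv F10162)).symm.trans (sb E3412 (iv F12387)))).symm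
theorem F38305 : act 2 n6404 = n6265 := (sb E3413 F29728)
theorem F38306 : act 8 n6404 = n8258 := (sb E3413 (iv F31490))
theorem F38307 : act 1 n6290 = n6288 := (sb E3415 F29808)
theorem F38308 : act 7 n6290 = n8281 := (sb E3415 (iv F31580))
theorem E3750 : n8389 = n4538 := ((((iv F17772)).symm.trans (sb E3416 (iv F31969)))).symm
theorem F38309 : act 8 n3322 = n4479 := (sb E3416 (iv D6123))
theorem E3753 : n8314 = n4576 := (((D4576).symm.trans (sb E3417 (iv F31690)))).symm
theorem E3848 : n549 = n375 := (((F2308).symm.trans (sb E3521 F3285))).symm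
theorem F38311 : act 3 n506 = n547 := (sb E3521 F3286)
theorem E3849 : n1008 = n679 := ((((iv F3020)).symm.trans (sb E3521 (iv F4341)))).symm
theorem F38312 : act 6 n506 = n545 := (sb E3521 (iv D743))
theorem F38313 : act 2 n180 = n187 := (sb E3522 F1220)
theorem E3850 : n200 = n130 := ((((iv D180)).symm.trans (sb E3522 F1221))).symm
theorem F38314 : act 5 n180 = n186 := (sb E3522 (iv D254))
theorem E3851 : n346 = n208 := ((((iv F1019)).symm.trans (sb E3522 D346))).symm
theorem E3854 : n1857 = n1240 := ((((iv F5249)).symm.trans (sb E3527 (iv F7635)))).symm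
theorem F38315 : act 6 n914 = n1004 := (sb E3527 (iv D1371))
theorem E3855 : n6429 = n3298 := ((((iv F13131)).symm.trans (sb E3528 D6429))).symm
theorem E3856 : n3434 = n2246 := (((F9821).symm.trans (sb E3528 F18311))).symm
theorem E3859 : n1876 = n1224 := ((((iv D1661)).symm.trans (sb E3529 F10144))).symm
theorem F38316 : act 6 n1661 = n1842 := (sb E3529 F10145)
theorem E3860 : n3373 = n2261 := (((D2261).symm.trans (sb E3529 (iv F13380)))).symm
theorem E3863 : n6423 = n4152 := (((F17656).symm.trans (sb E3532 F33448))).symm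
theorem E3864 : n3486 = n2254 := ((((iv D3065)).symm.trans (sb E3533 F18298))).symm
theorem F38317 : act 6 n3065 = n3430 := (sb E3533 F18299)
theorem E3865 : n6311 = n4179 := (((D4179).symm.trans (sb E3533 (iv F24306)))).symm
theorem F38318 : act 6 n1658 = n1872 := (sb E3536 F10283)
theorem E3866 : n3468 = n2258 := (((D2258).symm.trans (sb E3536 (iv F13722)))).symm
theorem F38319 : act 3 n3071 = n3368 := (sb E3537 (iv D4609))
theorem F38320 : act 6 n3071 = n3369 := (sb E3537 F18007)
theorem E3867 : n6312 = n4188 := (((D4188).symm.trans (sb E3537 D6312))).symm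
theorem F38321 : act 6 n5664 = n6417 := (sb E3540 F33430)
theorem F38322 : act 6 n5701 = n6411 := (sb E3541 F33405)
theorem F38323 : act 3 n5754 = n6410 := (sb E3542 F33408)
theorem F38324 : act 6 n5754 = n6412 := (sb E3542 F33410)
theorem E3868 : n1013 = n670 := ((((iv F2982)).symm.trans (sb E3543 (iv F4358)))).symm
theorem F38325 : act 6 n499 = n550 := (sb E3543 F3305)
theorem F38326 : act 6 n904 = n1009 := (sb E3544 F5784)
theorem F38327 : act 3 n4574 = n6068 := (sb E3548 F31678)
theorem E3914 : n6380 = n6191 := (((F32328).symm.trans (sb E3583 F33239))).symm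
theorem E3916 : n4235 = n3318 := ((((iv D4538)).symm.trans (sb E3584 F18203))).symm
theorem E3917 : n6261 = n6209 := (((D6209).symm.trans (sb E3584 (iv F24162)))).symm
theorem F38328 : act 1 n8497 = n6255 := (sb E3586 (iv D8576))
theorem E3924 : n7800 = n6296 := (((D6296).symm.trans (sb E3589 (iv F29833)))).symm
theorem F38329 : act 5 n4598 = n6255 := (sb E3589 (iv F24137))
theorem E3925 : n7816 = n6297 := (((D6297).symm.trans (sb E3589 D7816))).symm
theorem E3928 : n4193 = n3323 := (((D3323).symm.trans (sb E3592 (iv F16459)))).symm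
theorem F38330 : act 2 n4543 = n3345 := (sb E3593 (iv D4575))
theorem E3929 : n6214 = n6176 := ((D6214).symm.trans (sb E3593 (iv F23856)))
theorem E3930 : n6262 = n6215 := (((D6215).symm.trans (sb E3593 D6262))).symm
theorem F38331 : act 5 n2470 = n3345 := (sb E3596 (iv F13298))
theorem E3934 : n4194 = n3374 := (((D3374).symm.trans (sb E3596 D4194))).symm
theorem F38332 : act 6 n4576 = n6068 := (sb E3597 (iv F23427))
theorem F38333 : act 5 n4610 = n6256 := (sb E3601 (iv F24142))
theorem E3961 : n8436 = n8388 := (((D8388).symm.trans (sb E3621 (iv F32170)))).symm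
theorem F38334 : act 5 n6122 = n4510 := (sb E3621 (iv D6168))
theorem E3962 : n8454 = n8312 := ((((iv F31683)).symm.trans (sb E3621 D8454))).symm
theorem F38335 : act 0 n6069 = n6026 := (sb E3622 F23842)
theorem E3963 : n8459 = n8252 := ((((iv F31470)).symm.trans (sb E3622 D8459))).symm
theorem F38336 : act 5 n6069 = n4515 := (sb E3622 F23845)
theorem E3964 : n8460 = n8313 := (((D8313).symm.trans (sb E3622 D8460))).symm
theorem F38337 : act 0 n6070 = n6068 := (sb E3623 F24147)
theorem F38338 : act 5 n6070 = n4574 := (sb E3623 F24149)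
theorem F38339 : act 2 n8250 = n6174 := (sb E3632 (iv D8461))
theorem E3969 : n7736 = n6125 := (((D6125).symm.trans (sb E3635 (iv F29619)))).symm
theorem E3970 : n4157 = n3436 := (((F17550).symm.trans (sb E3635 (iv D5672)))).symm
theorem F38340 : act 0 n2518 = n2435 := (sb E3636 F12198)
theorem E3972 : n2247 = n1878 := (((F10150).symm.trans (sb E3636 F12201))).symm
theorem E3973 : n4162 = n3375 := ((((iv F13384)).symm.trans (sb E3636 D4162))).symm
theorem F38341 : act 8 n2518 = n3229 := (sb E3636 (iv F12862))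
theorem F38342 : act 0 n1377 = n1326 := (sb E3644 F6891)
theorem E3977 : n2262 = n1863 := ((((iv F7656)).symm.trans (sb E3644 D2262))).symm
theorem F38343 : act 8 n1377 = n1749 := (sb E3644 (iv F7242))
theorem F38344 : act 0 n4442 = n4543 := (sb E3647 F22007)
theorem E3981 : n7760 = n6072 := (((D6072).symm.trans (sb E3647 D7760))).symm
theorem F38345 : act 0 n2471 = n2470 := (sb E3648 F12264)
theorem E3982 : n4192 = n3376 := (((D3376).symm.trans (sb E3648 D4192))).symm
theorem E3985 : n8391 = n8227 := ((((iv F31377)).symm.trans (sb E3651 (iv F31976)))).symm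
theorem F38346 : act 8 n6021 = n4481 := (sb E3651 (iv D6126))
theorem E3988 : n8317 = n8251 := (((D8251).symm.trans (sb E3652 (iv F31700)))).symm
theorem F38347 : act 7 n6068 = n4443 := (sb E3653 (iv D6073))
theorem E3996 : n7729 = n6426 := (((D6426).symm.trans (sb E3659 (iv F29594)))).symm
theorem E3997 : n4153 = n3488 := (((F18305).symm.trans (sb E3659 F21969))).symm
theorem F38348 : act 8 n4692 = n6014 := (sb E3659 (iv F23232))
theorem E3999 : n4180 = n3470 := ((((iv F13728)).symm.trans (sb E3660 D4180))).symm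
theorem F38349 : act 8 n2556 = n3241 := (sb E3660 (iv F12906))
theorem E4001 : n7799 = n6314 := (((D6314).symm.trans (sb E3661 D7799))).symm
theorem E4003 : n4189 = n3471 := (((D3471).symm.trans (sb E3662 D4189))).symm
theorem F38350 : act 7 n4612 = n6064 := (sb E3663 (iv F23414))
theorem F38351 : act 0 n747 = n719 := (sb E3675 F3925)
theorem E4015 : n1220 = n1014 := (((D1014).symm.trans (sb E3675 (iv F5175)))).symm
theorem E4016 : n680 = n548 := ((((iv D747)).symm.trans (sb E3675 F3929))).symm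
theorem F38352 : act 8 n747 = n947 := (sb E3675 (iv F4105))
theorem F38353 : act 0 n404 = n403 := (sb E3676 F2310)
theorem E4017 : n379 = n299 := (((F1880).symm.trans (sb E3676 F2312))).symm
theorem F38354 : act 0 n742 = n736 := (sb E3679 F3972)
theorem E4020 : n1244 = n997 := ((((iv F4298)).symm.trans (sb E3679 (iv F5266)))).symm
theorem F38355 : act 0 n221 = n255 := (sb E3687 F1565)
theorem E4029 : n268 = n162 := ((((iv D221)).symm.trans (sb E3687 F1567))).symm
theorem F38356 : act 0 n135 = n146 := (sb E3703 F967)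
theorem E4042 : n144 = n104 := (((F680).symm.trans (sb E3703 (iv D198)))).symm
theorem E4049 : n6518 = n4166 := ((((iv F16374)).symm.trans (sb E3712 D6518))).symm
theorem F38357 : act 6 n3059 = n3482 := (sb E3712 F18536)
theorem E4050 : n6470 = n4170 := (((D4170).symm.trans (sb E3712 (iv F24861)))).symm
theorem E4051 : n3452 = n2290 := (((F12232).symm.trans (sb E3713 (iv D4724)))).symm
theorem F38358 : act 6 n3063 = n3453 := (sb E3713 F18413)
theorem E4052 : n6471 = n4176 := (((D4176).symm.trans (sb E3713 D6471))).symm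
theorem E4053 : n3444 = n2286 := ((((iv F9269)).symm.trans (sb E3714 (iv F13628)))).symm
theorem F38359 : act 4 n1680 = n1849 := (sb E3714 F10184)
theorem F38360 : act 6 n1680 = n1848 := (sb E3714 (iv D2527))
theorem F38361 : act 6 n5682 = n6404 := (sb E3715 F33381)
theorem F38362 : act 6 n5689 = n6289 := (sb E3716 F32835)
theorem F38363 : act 3 n5698 = n6288 := (sb E3717 F32838)
theorem F38364 : act 6 n5698 = n6290 := (sb E3717 F32840)
theorem E4080 : n7724 = n6521 := ((F31333).symm.trans (sb E3736 (iv D8942)))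
theorem F38365 : act 2 n4762 = n4578 := (sb E3739 F22029)
theorem E4081 : n7769 = n6472 := ((((iv F24866)).symm.trans (sb E3739 D7769))).symm
theorem F38366 : act 8 n4762 = n6032 := (sb E3739 (iv F23295))
theorem E4082 : n7782 = n6473 := ((F31547).symm.trans (sb E3743 (iv D8882)))
theorem F38367 : act 1 n4727 = n4594 := (sb E3747 F22085)
theorem E4084 : n4255 = n3454 := (((F18423).symm.trans (sb E3747 F22086))).symm
theorem F38368 : act 7 n4727 = n6048 := (sb E3747 (iv F23359))
theorem F38369 : act 1 n2528 = n2529 := (sb E3748 F12412)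
theorem E4085 : n4246 = n3445 := ((((iv F13633)).symm.trans (sb E3748 (iv F16646)))).symm
theorem E4086 : n4239 = n3439 := ((((iv F13606)).symm.trans (sb E3749 (iv F16613)))).symm
theorem F38370 : act 8 n4538 = n6122 := (sb E3750 (iv D8389))
theorem F38371 : act 7 n4576 = n6070 := (sb E3753 (iv D8314))
theorem E4189 : n406 = n280 := (((F1750).symm.trans (sb E3848 F2488))).symm
theorem E4190 : n746 = n502 := ((((iv F2291)).symm.trans (sb E3848 (iv F3297)))).symm
theorem F38373 : act 6 n375 = n404 := (sb E3848 (iv D549))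
theorem E4191 : n1363 = n915 := ((((iv F3966)).symm.trans (sb E3849 (iv F5733)))).symm
theorem F38374 : act 6 n679 = n742 := (sb E3849 (iv D1008))
theorem F38375 : act 2 n130 = n146 := (sb E3850 F978)
theorem E4192 : n145 = n103 := (((F658).symm.trans (sb E3850 (iv D200)))).symm
theorem E4193 : n271 = n152 := ((((iv F761)).symm.trans (sb E3850 D271))).symm
theorem F38376 : act 2 n208 = n255 := (sb E3851 F1621)
theorem E4195 : n2531 = n1683 := ((((iv F6966)).symm.trans (sb E3854 (iv F10196)))).symm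
theorem F38377 : act 4 n1240 = n1360 := (sb E3854 F7636)
theorem F38378 : act 6 n1240 = n1359 := (sb E3854 (iv D1857))
theorem E4196 : n2539 = n1687 := (((D1687).symm.trans (sb E3854 D2539))).symm
theorem E4197 : n8820 = n4501 := ((((iv F17636)).symm.trans (sb E3855 D8820))).symm
theorem E4198 : n4698 = n3050 := (((F13133).symm.trans (sb E3855 F24714))).symm
theorem E4201 : n2560 = n1652 := ((((iv D2246)).symm.trans (sb E3856 F13594))).symm
theorem F38379 : act 6 n2246 = n2518 := (sb E3856 F13595)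
theorem E4202 : n4615 = n3055 := (((D3055).symm.trans (sb E3856 (iv F18023)))).symm
theorem F38380 : act 6 n1224 = n1377 := (sb E3859 F7706)
theorem E4206 : n2544 = n1663 := (((D1663).symm.trans (sb E3859 (iv F10246)))).symm
theorem F38381 : act 3 n2261 = n2470 := (sb E3860 (iv D3373))
theorem F38382 : act 6 n2261 = n2471 := (sb E3860 F13379)
theorem E4207 : n4616 = n3077 := (((D3077).symm.trans (sb E3860 D4616))).symm
theorem E4209 : n8814 = n5655 := ((((iv F21932)).symm.trans (sb E3863 D8814))).symm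
theorem E4210 : n4768 = n3048 := ((((iv D4152)).symm.trans (sb E3863 F24698))).symm
theorem F38383 : act 6 n4152 = n4692 := (sb E3863 F24699)
theorem E4211 : n8660 = n5666 := (((D5666).symm.trans (sb E3863 (iv F32921)))).symm
theorem F38384 : act 6 n2254 = n2556 := (sb E3864 F13782)
theorem E4212 : n4744 = n3067 := (((D3067).symm.trans (sb E3864 (iv F18484)))).symm
theorem E4213 : n8639 = n5704 := (((D5704).symm.trans (sb E3865 (iv F32868)))).symm
theorem F38385 : act 6 n4179 = n4611 := (sb E3865 F24305)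
theorem E4214 : n8661 = n5705 := (((D5705).symm.trans (sb E3865 D8661))).symm
theorem F38386 : act 6 n2258 = n2540 := (sb E3866 F13721)
theorem E4215 : n4745 = n3073 := (((D3073).symm.trans (sb E3866 D4745))).symm
theorem F38387 : act 3 n4188 = n4610 := (sb E3867 F24308)
theorem F38388 : act 6 n4188 = n4612 := (sb E3867 F24310)
theorem E4216 : n1381 = n900 := ((((iv F3907)).symm.trans (sb E3868 D1381))).symm
theorem F38389 : act 6 n670 = n747 := (sb E3868 F4359)
theorem E4262 : n8585 = n8488 := (((D8488).symm.trans (sb E3914 (iv F32713)))).symm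
theorem E4266 : n5722 = n4539 := (((D4539).symm.trans (sb E3916 (iv F22151)))).symm
theorem E4267 : n8511 = n8463 := ((D8511).symm.trans (sb E3917 (iv F32277)))
theorem F38390 : act 5 n6296 = n8561 := (sb E3924 (iv F32626))
theorem F38391 : act 5 n6297 = n8577 := (sb E3925 (iv F32679))
theorem E4279 : n5680 = n4544 := (((D4544).symm.trans (sb E3928 (iv F22020)))).symm
theorem F38392 : act 3 n6176 = n4543 := (sb E3929 (iv D6214))
theorem F38393 : act 6 n6176 = n8250 := (sb E3929 (iv F31463))
theorem E4282 : n8520 = n8464 := (((D8464).symm.trans (sb E3929 D8520))).symm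
theorem F38394 : act 2 n6215 = n4576 := (sb E3930 F24164)
theorem F38395 : act 5 n3374 = n4576 := (sb E3934 (iv F17915))
theorem F38396 : act 1 n8388 = n8227 := (sb E3961 F32171)
theorem F38397 : act 5 n8388 = n6156 := (sb E3961 (iv D8436))
theorem F38398 : act 8 n8388 = n6191 := (sb E3961 F32175)
theorem F38399 : act 5 n8312 = n6169 := (sb E3962 F32246)
theorem F38400 : act 0 n8252 = n8250 := (sb E3963 F32260)
theorem F38401 : act 5 n8252 = n6174 := (sb E3963 F32261)
theorem F38402 : act 0 n8313 = n8251 := (sb E3964 F32264)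
theorem F38403 : act 5 n8313 = n6175 := (sb E3964 F32267)
theorem F38404 : act 7 n8313 = n6215 := (sb E3964 F32269)
theorem F38405 : act 1 n6125 = n6191 := (sb E3969 F29620)
theorem E4311 : n5660 = n4701 := (((F23642).symm.trans (sb E3969 (iv D7736)))).symm
theorem E4312 : n3051 = n2562 := (((F13600).symm.trans (sb E3970 F16345))).symm
theorem E4313 : n5673 = n4617 := ((((iv F18028)).symm.trans (sb E3970 D5673))).symm
theorem F38406 : act 8 n3436 = n4406 := (sb E3970 (iv F17269))
theorem F38407 : act 0 n1878 = n1784 := (sb E3972 F9139)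
theorem E4314 : n1654 = n1383 := (((F7711).symm.trans (sb E3972 F9141))).symm
theorem E4315 : n3056 = n2546 := ((((iv F10253)).symm.trans (sb E3972 D3056))).symm
theorem F38408 : act 8 n1878 = n2371 := (sb E3972 (iv F9622))
theorem F38409 : act 0 n3375 = n3323 := (sb E3973 F16359)
theorem E4316 : n5678 = n4546 := ((((iv F17796)).symm.trans (sb E3973 D5678))).symm
theorem E4317 : n5679 = n4618 := (((D4618).symm.trans (sb E3973 D5679))).symm
theorem F38410 : act 0 n1863 = n1809 := (sb E3977 F9187)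
theorem E4319 : n1691 = n1364 := ((((iv D1863)).symm.trans (sb E3977 F9188))).symm
theorem E4320 : n3078 = n2547 := (((D2547).symm.trans (sb E3977 D3078))).symm
theorem F38411 : act 0 n6072 = n6215 := (sb E3981 F29702)
theorem F38412 : act 0 n3376 = n3374 := (sb E3982 F16454)
theorem F38413 : act 7 n3376 = n4441 := (sb E3982 (iv F17394))
theorem F38414 : act 8 n8227 = n6125 := (sb E3985 (iv D8391))
theorem F38415 : act 7 n8251 = n6072 := (sb E3988 (iv D8317))
theorem E4333 : n5656 = n4771 := (((F24707).symm.trans (sb E3996 F29596))).symm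
theorem F38416 : act 8 n6426 = n8220 := (sb E3996 (iv F31354))
theorem E4334 : n5667 = n4746 := ((((iv F18490)).symm.trans (sb E3997 D5667))).symm
theorem F38417 : act 8 n3488 = n4402 := (sb E3997 (iv F17254))
theorem E4336 : n5707 = n4747 := (((D4747).symm.trans (sb E3999 D5707))).symm
theorem F38418 : act 7 n6314 = n8290 := (sb E4001 (iv F31610))
theorem F38419 : act 7 n3471 = n4438 := (sb E4003 (iv F17385))
theorem F38420 : act 0 n1014 = n963 := (sb E4015 F5173)
theorem F38421 : act 8 n1014 = n1282 := (sb E4015 (iv F5429))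
theorem F38422 : act 0 n548 = n541 := (sb E4016 F3022)
theorem F38423 : act 0 n299 = n300 := (sb E4017 F1767)
theorem F38424 : act 0 n997 = n998 := (sb E4020 F5264)
theorem F38425 : act 0 n162 = n201 := (sb E4029 F1278)
theorem F38426 : act 0 n104 = n105 := (sb E4042 F716)
theorem E4380 : n8939 = n5653 := ((((iv F21924)).symm.trans (sb E4049 D8939))).symm
theorem F38427 : act 6 n4166 = n4762 := (sb E4049 F25024)
theorem E4381 : n8877 = n5684 := (((D5684).symm.trans (sb E4049 (iv F33678)))).symm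
theorem E4382 : n8856 = n5691 := (((D5691).symm.trans (sb E4050 (iv F33602)))).symm
theorem F38428 : act 6 n4170 = n4726 := (sb E4050 F24860)
theorem E4383 : n8878 = n5692 := (((D5692).symm.trans (sb E4050 D8878))).symm
theorem E4384 : n4713 = n3112 := ((((iv F12392)).symm.trans (sb E4051 (iv F18372)))).symm
theorem F38429 : act 4 n2290 = n2529 := (sb E4051 F13660)
theorem F38430 : act 6 n2290 = n2528 := (sb E4051 F13661)
theorem E4385 : n4725 = n3118 := (((D3118).symm.trans (sb E4051 D4725))).symm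
theorem F38431 : act 6 n4176 = n4727 := (sb E4052 F24864)
theorem E4386 : n4704 = n3108 := ((((iv F12373)).symm.trans (sb E4053 (iv F18333)))).symm
theorem F38432 : act 4 n2286 = n2523 := (sb E4053 F13630)
theorem F38433 : act 6 n2286 = n2522 := (sb E4053 (iv D3444))
theorem F38434 : act 2 n6521 = n6179 := (sb E4080 F29576)
theorem F38435 : act 8 n6521 = n8215 := (sb E4080 (iv F31333))
theorem F38436 : act 2 n6472 = n6267 := (sb E4081 F29734)
theorem F38437 : act 7 n6473 = n8273 := (sb E4082 (iv F31547))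
theorem F38438 : act 1 n3454 = n3455 := (sb E4084 F16683)
theorem E4403 : n5801 = n4715 := ((((iv F18379)).symm.trans (sb E4084 (iv F22430)))).symm
theorem E4404 : n5788 = n4705 := ((((iv F18338)).symm.trans (sb E4085 (iv F22374)))).symm
theorem F38439 : act 2 n3439 = n3440 := (sb E4086 F16614)
theorem F38441 : act 2 n280 = n300 := (sb E4189 F1887)
theorem F38442 : act 6 n280 = n299 := (sb E4189 (iv D406))
theorem F38443 : act 6 n502 = n548 := (sb E4190 (iv D746))
theorem F38444 : act 4 n915 = n998 := (sb E4191 F5734)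
theorem F38445 : act 6 n915 = n997 := (sb E4191 (iv D1363))
theorem E4497 : n1862 = n1245 := (((D1245).symm.trans (sb E4191 D1862))).symm
theorem F38446 : act 2 n103 = n105 := (sb E4192 F723)
theorem F38447 : act 4 n103 = n104 := (sb E4192 (iv D145))
theorem F38448 : act 2 n152 = n201 := (sb E4193 F1294)
theorem F38449 : act 4 n1683 = n1853 := (sb E4195 F10198)
theorem F38450 : act 6 n1683 = n1852 := (sb E4195 (iv D2531))
theorem E4499 : n3457 = n2294 := (((D2294).symm.trans (sb E4195 D3457))).symm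
theorem F38451 : act 4 n1687 = n1859 := (sb E4196 F10228)
theorem F38452 : act 6 n1687 = n1858 := (sb E4196 F10229)
theorem E4500 : n3469 = n2300 := (((D2300).symm.trans (sb E4196 D3469))).symm
theorem E4501 : n6434 = n4148 := (((F17639).symm.trans (sb E4197 F33476))).symm
theorem E4502 : n3494 = n2243 := ((((iv D3050)).symm.trans (sb E4198 F18317))).symm
theorem F38453 : act 6 n3050 = n3436 := (sb E4198 F18318)
theorem E4503 : n6319 = n4158 := (((D4158).symm.trans (sb E4198 (iv F24328)))).symm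
theorem E4504 : n1882 = n1219 := (((F6859).symm.trans (sb E4201 F10301))).symm
theorem F38454 : act 6 n1652 = n1878 := (sb E4201 F10302)
theorem E4505 : n3474 = n2248 := (((D2248).symm.trans (sb E4201 (iv F13742)))).symm
theorem E4506 : n6216 = n4163 := (((D4163).symm.trans (sb E4202 (iv F23986)))).symm
theorem F38455 : act 6 n3055 = n3375 := (sb E4202 F18022)
theorem E4507 : n6320 = n4164 := (((D4164).symm.trans (sb E4202 D6320))).symm
theorem F38456 : act 6 n1663 = n1863 := (sb E4206 F10245)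
theorem E4508 : n3475 = n2263 := (((D2263).symm.trans (sb E4206 D3475))).symm
theorem F38457 : act 3 n3077 = n3374 := (sb E4207 F18024)
theorem F38458 : act 6 n3077 = n3376 := (sb E4207 F18026)
theorem E4509 : n6529 = n4146 := ((((iv D5655)).symm.trans (sb E4209 F33460))).symm
theorem F38459 : act 6 n5655 = n6426 := (sb E4209 F33461)
theorem F38460 : act 6 n3048 = n3488 := (sb E4210 F18561)
theorem E4510 : n6498 = n4154 := (((D4154).symm.trans (sb E4210 (iv F24959)))).symm
theorem F38461 : act 6 n5666 = n6313 := (sb E4211 F32920)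
theorem E4511 : n6477 = n4181 := (((D4181).symm.trans (sb E4212 (iv F24884)))).symm
theorem F38462 : act 6 n3067 = n3470 := (sb E4212 F18483)
theorem E4512 : n6499 = n4182 := (((D4182).symm.trans (sb E4212 D6499))).symm
theorem F38463 : act 2 n5704 = n6296 := (sb E4213 (iv D8639))
theorem F38464 : act 6 n5704 = n6298 := (sb E4213 F32869)
theorem F38465 : act 6 n5705 = n6314 := (sb E4214 F32924)
theorem F38466 : act 6 n3073 = n3471 := (sb E4215 F18487)
theorem F38467 : act 6 n900 = n1014 := (sb E4216 F5800)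
theorem F38468 : act 1 n8488 = n8315 := (sb E4262 F32710)
theorem E4576 : n7763 = n6210 := (((D6210).symm.trans (sb E4266 (iv F29715)))).symm
theorem F38469 : act 3 n8463 = n6209 := (sb E4267 (iv D8511))
theorem F38470 : act 5 n4544 = n6176 := (sb E4279 (iv F23857))
theorem E4594 : n7764 = n6217 := (((D6217).symm.trans (sb E4279 D7764))).symm
theorem F38471 : act 3 n8464 = n6215 := (sb E4282 F32467)
theorem F38472 : act 1 n4701 = n4526 := (sb E4311 F21949)
theorem E4620 : n4149 = n3497 := (((F18326).symm.trans (sb E4311 F21951))).symm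
theorem E4621 : n7737 = n6322 := ((((iv F24336)).symm.trans (sb E4311 D7737))).symm
theorem F38473 : act 8 n4701 = n6009 := (sb E4311 (iv F23214))
theorem E4622 : n2245 = n1884 := (((F10305).symm.trans (sb E4312 F12190))).symm
theorem E4623 : n4159 = n3476 := ((((iv F13747)).symm.trans (sb E4312 D4159))).symm
theorem F38474 : act 8 n2562 = n3226 := (sb E4312 (iv F12852))
theorem E4625 : n7756 = n6323 := (((D6323).symm.trans (sb E4313 D7756))).symm
theorem F38475 : act 0 n1383 = n1312 := (sb E4314 F6864)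
theorem F38476 : act 8 n1383 = n1741 := (sb E4314 (iv F7210))
theorem F38477 : act 0 n2546 = n2437 := (sb E4315 F12205)
theorem E4626 : n4165 = n3477 := (((D3477).symm.trans (sb E4315 D4165))).symm
theorem F38478 : act 0 n4546 = n4544 := (sb E4316 F22011)
theorem E4627 : n7762 = n6219 := (((D6219).symm.trans (sb E4316 D7762))).symm
theorem F38479 : act 0 n4618 = n4545 := (sb E4317 F22015)
theorem F38480 : act 7 n4618 = n6028 := (sb E4317 (iv F23283))
theorem F38481 : act 0 n1364 = n1365 := (sb E4319 F6996)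
theorem E4629 : n2305 = n1864 := (((D1864).symm.trans (sb E4319 D2305))).symm
theorem F38482 : act 0 n2547 = n2473 := (sb E4320 F12272)
theorem F38483 : act 7 n2547 = n3253 := (sb E4320 (iv F12946))
theorem F38484 : act 8 n4771 = n6005 := (sb E4333 (iv F23199))
theorem E4644 : n7748 = n6502 := (((D6502).symm.trans (sb E4334 D7748))).symm
theorem F38485 : act 7 n4747 = n6056 := (sb E4336 (iv F23386))
theorem F38486 : act 6 n5653 = n6521 := (sb E4380 F33894)
theorem F38487 : act 6 n5684 = n6472 := (sb E4381 F33677)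
theorem E4672 : n6455 = n4247 := (((F22055).symm.trans (sb E4382 (iv D8856)))).symm
theorem F38488 : act 6 n5691 = n6457 := (sb E4382 F33603)
theorem F38489 : act 6 n5692 = n6473 := (sb E4383 F33681)
theorem E4673 : n6441 = n4240 := ((((iv F16619)).symm.trans (sb E4384 (iv F24747)))).symm
theorem F38490 : act 4 n3112 = n3446 := (sb E4384 F18373)
theorem F38491 : act 6 n3112 = n3445 := (sb E4384 F18374)
theorem E4674 : n6456 = n4248 := (((D4248).symm.trans (sb E4384 D6456))).symm
theorem F38492 : act 4 n3118 = n3455 := (sb E4385 F18416)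
theorem F38493 : act 6 n3118 = n3454 := (sb E4385 F18417)
theorem F38494 : act 4 n3108 = n3440 := (sb E4386 F18335)
theorem F38495 : act 6 n3108 = n3439 := (sb E4386 (iv D4704))
theorem E4697 : n7919 = n6443 := ((((iv F24755)).symm.trans (sb E4403 (iv F30223)))).symm
theorem F38496 : act 2 n4705 = n4706 := (sb E4404 F22375)
theorem F38497 : act 4 n1245 = n1365 := (sb E4497 F7653)
theorem F38498 : act 6 n1245 = n1364 := (sb E4497 F7654)
theorem E4789 : n2545 = n1692 := (((D1692).symm.trans (sb E4497 D2545))).symm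
theorem E4790 : n4729 = n3123 := (((D3123).symm.trans (sb E4499 D4729))).symm
theorem F38499 : act 4 n2294 = n2533 := (sb E4499 F13681)

end Cfsg.Agent.Helper17.Fi22bTC
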