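import Cfsg.Agent.Helper17.Fi22bTC.Facts2

set_option autoImplicit false
set_option linter.all false

noncomputable section

namespace Cfsg.Agent.Helper17.Fi22bTC

theorem F38500 : act 6 n2294 = n2532 := (sb E4499 F13682)
theorem E4791 : n4730 = n3124 := (((D3124).symm.trans (sb E4499 D4730))).symm
theorem F38501 : act 4 n2300 = n2542 := (sb E4500 F13724)
theorem F38502 : act 6 n2300 = n2541 := (sb E4500 F13725)
theorem E4792 : n4779 = n3045 := ((((iv D4148)).symm.trans (sb E4501 F24725))).symm
theorem F38503 : act 6 n4148 = n4701 := (sb E4501 F24726)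
theorem E4793 : n8671 = n5661 := (((D5661).symm.trans (sb E4501 (iv F32952)))).symm
theorem E4794 : n2568 = n1651 := (((F9127).symm.trans (sb E4502 F13803))).symm
theorem F38504 : act 6 n2243 = n2562 := (sb E4502 F13804)
theorem E4795 : n4752 = n3052 := (((D3052).symm.trans (sb E4502 (iv F18509)))).symm
theorem E4796 : n8521 = n5674 := (((D5674).symm.trans (sb E4503 (iv F32469)))).symm
theorem F38505 : act 6 n4158 = n4617 := (sb E4503 F24327)
theorem E4797 : n8672 = n5675 := (((D5675).symm.trans (sb E4503 D8672))).symm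
theorem F38506 : act 6 n1219 = n1383 := (sb E4504 F7725)
theorem F38507 : act 6 n2248 = n2546 := (sb E4505 F13741)
theorem E4798 : n4753 = n3057 := (((D3057).symm.trans (sb E4505 D4753))).symm
theorem F38508 : act 2 n4163 = n4544 := (sb E4506 (iv D6216))
theorem F38509 : act 6 n4163 = n4546 := (sb E4506 F23988)
theorem E4799 : n8522 = n5681 := (((D5681).symm.trans (sb E4506 D8522))).symm
theorem F38510 : act 6 n4164 = n4618 := (sb E4507 F24331)
theorem F38511 : act 6 n2263 = n2547 := (sb E4508 F13744)
theorem F38512 : act 6 n4146 = n4771 := (sb E4509 F25061)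
theorem E4800 : n8915 = n5657 := (((D5657).symm.trans (sb E4509 (iv F33812)))).symm
theorem E4801 : n8886 = n5668 := (((D5668).symm.trans (sb E4510 (iv F33708)))).symm
theorem F38513 : act 6 n4154 = n4746 := (sb E4510 F24958)
theorem E4802 : n8916 = n5669 := (((D5669).symm.trans (sb E4510 D8916))).symm
theorem E4803 : n8887 = n5708 := (((D5708).symm.trans (sb E4511 D8887))).symm
theorem F38514 : act 6 n4181 = n4731 := (sb E4511 F24885)
theorem E4804 : n8888 = n5709 := (((D5709).symm.trans (sb E4511 D8888))).symm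
theorem F38515 : act 6 n4182 = n4747 := (sb E4512 F24961)
theorem F38516 : act 5 n6210 = n8463 := (sb E4576 (iv F32278))
theorem F38517 : act 5 n6217 = n8464 := (sb E4594 (iv F32283))
theorem F38518 : act 1 n3497 = n3310 := (sb E4620 F16316)
theorem E4872 : n3047 = n2571 := (((F13810).symm.trans (sb E4620 F16317))).symm
theorem E4873 : n5662 = n4755 := ((((iv F18518)).symm.trans (sb E4620 D5662))).symm
theorem F38519 : act 8 n3497 = n4398 := (sb E4620 (iv F17239))
theorem F38520 : act 1 n6322 = n6192 := (sb E4621 F29624)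
theorem F38521 : act 8 n1884 = n2369 := (sb E4622 (iv F9614))
theorem E4874 : n5676 = n4756 := (((D4756).symm.trans (sb E4623 D5676))).symm
theorem F38522 : act 7 n6323 = n8247 := (sb E4625 (iv F31456))
theorem F38523 : act 0 n3477 = n3326 := (sb E4626 F16369)
theorem F38524 : act 7 n3477 = n4414 := (sb E4626 (iv F17296))
theorem F38525 : act 0 n6219 = n6217 := (sb E4627 F29711)
theorem F38526 : act 0 n1864 = n1865 := (sb E4629 F9345)
theorem F38527 : act 7 n6502 = n8239 := (sb E4644 (iv F31429))
theorem E4916 : n8834 = n5789 := ((((iv F22379)).symm.trans (sb E4672 (iv F33513)))).symm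
theorem E4917 : n8857 = n5802 := (((D5802).symm.trans (sb E4672 D8857))).symm
theorem F38528 : act 6 n4247 = n4714 := (sb E4672 F24806)
theorem E4918 : n8858 = n5803 := (((D5803).symm.trans (sb E4672 D8858))).symm
theorem F38529 : act 4 n4240 = n4706 := (sb E4673 F24748)
theorem F38530 : act 6 n4240 = n4705 := (sb E4673 F24749)
theorem E4919 : n8835 = n5790 := (((D5790).symm.trans (sb E4673 D8835))).symm
theorem F38531 : act 4 n4248 = n4717 := (sb E4674 F24810)
theorem F38532 : act 6 n4248 = n4715 := (sb E4674 F24811)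
theorem F38533 : act 2 n6443 = n6445 := (sb E4697 F30224)
theorem F38534 : act 4 n1692 = n1865 := (sb E4789 F10248)
theorem F38535 : act 6 n1692 = n1864 := (sb E4789 F10249)
theorem E4983 : n6478 = n4264 := (((D4264).symm.trans (sb E4790 D6478))).symm
theorem F38536 : act 6 n3123 = n3458 := (sb E4790 F18431)
theorem E4984 : n6479 = n4265 := (((D4265).symm.trans (sb E4790 D6479))).symm
theorem F38537 : act 4 n3124 = n3461 := (sb E4791 F18435)
theorem F38538 : act 6 n3124 = n3459 := (sb E4791 F18436)
theorem E4985 : n3505 = n2241 := (((F12170).symm.trans (sb E4792 F18592))).symm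
theorem F38539 : act 6 n3045 = n3497 := (sb E4792 F18593)
theorem E4986 : n6509 = n4150 := (((D4150).symm.trans (sb E4792 (iv F24995)))).symm
theorem F38540 : act 6 n5661 = n6322 := (sb E4793 F32951)
theorem F38541 : act 6 n1651 = n1884 := (sb E4794 F10326)
theorem F38542 : act 6 n3052 = n3476 := (sb E4795 F18508)
theorem E4987 : n6510 = n4160 := (((D4160).symm.trans (sb E4795 D6510))).symm
theorem F38543 : act 6 n5674 = n6218 := (sb E4796 F32471)
theorem F38544 : act 6 n5675 = n6323 := (sb E4797 F32955)
theorem F38545 : act 6 n3057 = n3477 := (sb E4798 F18512)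
theorem F38546 : act 2 n5681 = n6217 := (sb E4799 F32473)
theorem F38547 : act 6 n5681 = n6219 := (sb E4799 F32476)
theorem F38548 : act 6 n5657 = n6501 := (sb E4800 F33811)
theorem F38549 : act 6 n5668 = n6480 := (sb E4801 F33709)
theorem F38550 : act 6 n5669 = n6502 := (sb E4802 F33815)
theorem F38551 : act 6 n5708 = n6481 := (sb E4803 F33712)
theorem F38552 : act 6 n5709 = n6482 := (sb E4804 F33716)
theorem F38553 : act 1 n2571 = n2428 := (sb E4872 F12176)
theorem F38554 : act 8 n2571 = n3222 := (sb E4872 (iv F12836))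
theorem F38555 : act 1 n4755 = n4528 := (sb E4873 F21956)
theorem E5052 : n7740 = n6512 := (((D6512).symm.trans (sb E4873 D7740))).symm
theorem F38556 : act 7 n4756 = n6025 := (sb E4874 (iv F23273))
theorem F38557 : act 6 n5789 = n6442 := (sb E4916 F33514)
theorem F38558 : act 3 n5802 = n6460 := (sb E4917 F33606)
theorem F38559 : act 6 n5802 = n6458 := (sb E4917 F33607)
theorem F38560 : act 6 n5803 = n6459 := (sb E4918 F33611)
theorem F38561 : act 4 n5790 = n6445 := (sb E4919 F33518)
theorem F38562 : act 6 n5790 = n6443 := (sb E4919 F33519)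
theorem F38563 : act 3 n4264 = n4734 := (sb E4983 F24888)
theorem E5121 : n8889 = n5824 := (((D5824).symm.trans (sb E4983 D8889))).symm
theorem F38564 : act 6 n4264 = n4732 := (sb E4983 F24889)
theorem E5122 : n8890 = n5825 := (((D5825).symm.trans (sb E4983 D8890))).symm
theorem F38565 : act 6 n4265 = n4733 := (sb E4984 F24893)
theorem E5123 : n8891 = n5826 := (((D5826).symm.trans (sb E4984 D8891))).symm
theorem F38566 : act 6 n2241 = n2571 := (sb E4985 F13840)
theorem F38567 : act 6 n4150 = n4755 := (sb E4986 F24994)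
theorem E5124 : n8928 = n5663 := (((D5663).symm.trans (sb E4986 D8928))).symm
theorem F38568 : act 6 n4160 = n4756 := (sb E4987 F24998)
theorem F38569 : act 1 n6512 = n6195 := (sb E5052 F29635)
theorem F38570 : act 7 n6512 = n8231 := (sb E5052 (iv F31395))
theorem F38571 : act 3 n5824 = n6486 := (sb E5121 F33718)
theorem F38572 : act 3 n5825 = n6487 := (sb E5122 F33721)
theorem F38573 : act 6 n5825 = n6484 := (sb E5122 F33723)
theorem F38574 : act 6 n5826 = n6485 := (sb E5123 F33726)
theorem F38575 : act 6 n5663 = n6512 := (sb E5124 F33855)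
theorem F38576 : act 6 n8918 = n7733 := d18_2 F38575 (iv F33820) F29609
theorem F38577 : act 6 n8674 = n7739 := d27_2 F38575 (iv F32961) F29633
theorem F38578 : act 1 n8490 = n8674 := d12_3 F38577 F29632 (iv F32374)
theorem F38579 : act 6 n8864 = n7942 := d5_2 F38574 (iv F33629) F30310
theorem F38580 : act 6 n8897 = n7807 := d18_2 F38574 (iv F33744) F29848
theorem F38581 : act 6 n8900 = n7976 := d27_2 F38574 (iv F33756) F30432
theorem F38582 : act 6 n8863 = n7941 := d5_2 F38573 (iv F33626) F30308
theorem F38583 : act 6 n8896 = n7806 := d18_2 F38573 (iv F33742) F29846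
theorem F38584 : act 3 n7941 = n8866 := d23_1 F38582 F33638 (iv F33627)
theorem F38585 : act 3 n8902 = n7975 := d22_3 F30430 F38572 (iv F33764)
theorem F38586 : act 3 n8865 = n7940 := d2_2 F38571 (iv F33633) F30305
theorem F38587 : act 3 n8901 = n7974 := d23_3 (iv D7974) F38571 D8901
theorem F38588 : act 5 n7974 = n8898 := d22_2 (iv F33760) F38587 F33748
theorem F38589 : act 2 n8640 = n7801 := d15_3 F38563 (iv F24274) (iv F32870) F29834 F22108
theorem F38590 : act 6 n7801 = n8643 := d18_2 (iv F32871) F38589 F32875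
theorem F38591 : act 6 n8838 = n7922 := d23_2 F38562 (iv F33530) F30237
theorem F38592 : act 6 n8861 = n7784 := d18_2 F38560 (iv F33619) F29784
theorem F38593 : act 6 n8837 = n7921 := d12_2 F38559 (iv F33525) F30233
theorem F38594 : act 6 n8860 = n7783 := d18_2 F38559 (iv F33616) F29781
theorem F38595 : act 3 n7921 = n8840 := d23_1 F38593 F33538 (iv F33526)
theorem F38596 : act 6 n8836 = n7920 := d18_2 F38557 D8836 (iv D7920)
theorem F38597 : act 3 n8839 = n8836 := d23_3 F38596 F30229 (iv F33534)
theorem F38598 : act 2 n8469 = n8880 := d8_4 F24966 F38555 (iv F23888) (iv F32298) F33686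
theorem F38599 : act 6 n8880 = n7725 := d18_2 (iv F32300) F38598 F29581
theorem F38600 : act 6 n8894 = n7750 := d12_2 F38552 (iv F33735) F29669
theorem F38601 : act 6 n8893 = n7749 := d12_2 F38551 (iv F33732) F29666
theorem F38602 : act 6 n8664 = n7746 := d27_2 F38550 (iv F32934) F29656
theorem F38603 : act 6 n8892 = n7732 := d5_2 F38549 D8892 F29604
theorem E5198 : n9054 = n8363 := (c38_10 F24897 (iv F38549) F21979 D5670 (iv F23817) (iv F32062) F32061 F32065 F25345 D9054 (iv D8363) (iv D6103) F17484 F13024 (iv D2405) (iv D1762) F5480 (iv D987) F3233 F2435 F1846 F1487 D319 F1514 F1261 F1260 F946 (iv F1224) F1226 (iv D255) (iv D187) (iv D136) (iv D97) F348 F347 (iv D49) (iv F222) F221 (iv F312) (iv F432) F431 (iv F577) D159 F796 F674 F673 D183 D248 D336 F1590 (iv F1411) (iv F1851) D538 D732 D993 F4281 D1358 F5717 (iv F7625) (iv F10202) D3458 D4731 D6480)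
theorem F38604 : act 2 n8363 = n6643 := (sb E5198 F34324)
theorem E5199 : n6852 = n6603 := ((F38042).symm.trans (sb E5198 (iv D9054)))
theorem E5200 : n9379 = n9037 := ((((iv F34259)).symm.trans (sb E5199 (iv F35470)))).symm
theorem E5201 : n9247 = n4850 := (((F25344).symm.trans (sb E5199 (iv F35031)))).symm
theorem E5202 : n9014 = n5511 := (((iv F34166)).symm.trans (sb E5199 F26245))
theorem E5203 : n5004 = n4822 := ((((iv D6603)).symm.trans (sb E5199 (iv D6852)))).symm
theorem F38605 : act 5 n6603 = n8363 := (sb E5199 (iv F38042))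
theorem E5205 : n9055 = n5029 := ((D9055).symm.trans (sb E5199 F26247))
theorem F38606 : act 3 n9037 = n7516 := (sb E5200 F35471)
theorem E5206 : n6838 = n6591 := ((((iv D9037)).symm.trans (sb E5200 (iv D9379)))).symm
theorem F38607 : act 8 n9037 = n6879 := (sb E5200 F35473)
theorem E5207 : n6739 = n3545 := ((((iv D4850)).symm.trans (sb E5201 (iv D9247)))).symm
theorem E5208 : n6805 = n6644 := (((D6644).symm.trans (sb E5201 F35034))).symm
theorem F38608 : act 3 n5511 = n6603 := (sb E5202 F34166)
theorem E5209 : n6575 = n4037 := ((((iv D5511)).symm.trans (sb E5202 (iv D9014)))).symm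
theorem E5210 : n3661 = n3526 := ((((iv D4822)).symm.trans (sb E5203 F19443))).symm
theorem E5211 : n6601 = n3659 := (((iv F25338)).symm.trans (sb E5203 (iv D5004)))
theorem E5212 : n6853 = n6138 := ((((iv F23699)).symm.trans (sb E5203 D6853))).symm
theorem E5213 : n6604 = n3678 := ((D6604).symm.trans (sb E5203 F19445))
theorem F38609 : act 8 n5029 = n6603 := (sb E5205 (iv D9055))
theorem E5214 : n9364 = n9029 := ((((iv F34231)).symm.trans (sb E5206 (iv F35402)))).symm
theorem E5215 : n9223 = n4838 := (((F25298).symm.trans (sb E5206 (iv F34937)))).symm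
theorem E5216 : n4995 = n4814 := ((((iv D6591)).symm.trans (sb E5206 F26191))).symm
theorem E5217 : n9035 = n4993 := (((iv F34254)).symm.trans (sb E5206 (iv D6838)))
theorem E5218 : n9380 = n8399 := ((((iv F32011)).symm.trans (sb E5206 D9380))).symm
theorem E5219 : n9038 = n5026 := ((D9038).symm.trans (sb E5206 F26193))
theorem E5220 : n9096 = n2635 := (((F14007).symm.trans (sb E5207 (iv F34480)))).symm
theorem E5221 : n4922 = n2595 := ((((iv D3545)).symm.trans (sb E5207 F25862))).symm
theorem E5222 : n4920 = n4848 := ((((iv F18865)).symm.trans (sb E5207 (iv D6739)))).symm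
theorem E5224 : n4968 = n4851 := (((D4851).symm.trans (sb E5207 F25864))).symm
theorem E5225 : n9315 = n9089 := ((((iv F34452)).symm.trans (sb E5208 (iv F35241)))).symm
theorem F38610 : act 2 n6644 = n5029 := (sb E5208 F26081)
theorem E5227 : n9112 = n8630 := (((iv F34532)).symm.trans (sb E5208 (iv F32851)))
theorem E5228 : n9337 = n9113 := (((D9113).symm.trans (sb E5208 D9337))).symm
theorem E5230 : n4803 = n2964 := (((F15851).symm.trans (sb E5209 (iv D6575)))).symm
theorem E5233 : n2686 = n2584 := (((F13932).symm.trans (sb E5210 F14442))).symm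
theorem E5234 : n4821 = n2681 := (((iv F18760)).symm.trans (sb E5210 (iv D3661)))
theorem E5236 : n4823 = n2699 := ((D4823).symm.trans (sb E5210 F14445))
theorem F38611 : act 5 n3659 = n4822 := (sb E5211 F25338)
theorem E5239 : n8409 = n5005 := (((D5005).symm.trans (sb E5211 (iv F32056)))).symm
theorem E5242 : n9400 = n8412 := (((D8412).symm.trans (sb E5212 D9400))).symm
theorem F38612 : act 8 n3678 = n4822 := (sb E5213 (iv D6604))
theorem E5244 : n6830 = n6587 := ((((iv D9029)).symm.trans (sb E5214 F35403))).symm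
theorem F38613 : act 5 n9029 = n6828 := (sb E5214 (iv D9364))
theorem F38614 : act 8 n9029 = n6876 := (sb E5214 F35405)
theorem E5245 : n6723 = n3537 := ((((iv D4838)).symm.trans (sb E5215 F34938))).symm
theorem E5246 : n6721 = n6624 := ((((iv F25428)).symm.trans (sb E5215 (iv D9223)))).symm
theorem E5247 : n6787 = n6627 := (((D6627).symm.trans (sb E5215 F34940))).symm
theorem E5248 : n3656 = n3523 := (((F18731).symm.trans (sb E5216 F19403))).symm
theorem E5249 : n6567 = n4028 := (((iv F25196)).symm.trans (sb E5216 F19404))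
theorem E5250 : n6590 = n3651 := (((iv F25296)).symm.trans (sb E5216 (iv D4995)))
theorem E5252 : n6592 = n3677 := ((D6592).symm.trans (sb E5216 F19406))
theorem F38615 : act 5 n4993 = n6591 := (sb E5217 F34254)
theorem F38616 : act 5 n8399 = n6839 := (sb E5218 F35475)
theorem F38617 : act 8 n5026 = n6591 := (sb E5219 (iv D9038))
theorem E5253 : n6635 = n1927 := ((((iv D2635)).symm.trans (sb E5220 F34482))).symm
theorem E5254 : n6633 = n3599 := ((((iv F14214)).symm.trans (sb E5220 (iv D9096)))).symm
theorem E5256 : n3603 = n1902 := (((F10440).symm.trans (sb E5221 F19150))).symm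
theorem E5257 : n3596 = n3544 := ((((iv F14006)).symm.trans (sb E5221 (iv D4922)))).symm
theorem F38618 : act 2 n4848 = n3659 := (sb E5222 F19145)
theorem E5260 : n6641 = n6239 := ((D6641).symm.trans (sb E5222 (iv F24083)))
theorem E5261 : n6639 = n3595 := (((iv F25488)).symm.trans (sb E5222 (iv D4920)))
theorem E5262 : n6740 = n6164 := ((((iv F23811)).symm.trans (sb E5222 D6740))).symm
theorem E5263 : n6642 = n3630 := ((D6642).symm.trans (sb E5222 F19147))
theorem F38619 : act 2 n4851 = n3678 := (sb E5224 F19312)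
theorem E5264 : n6806 = n6645 := (((D6645).symm.trans (sb E5224 D6806))).symm
theorem F38620 : act 2 n9089 = n6879 := (sb E5225 F35242)
theorem F38621 : act 1 n8630 = n6755 := (sb E5227 F34530)
theorem F38622 : act 5 n8630 = n6644 := (sb E5227 F34532)
theorem F38623 : act 8 n8630 = n6643 := (sb E5227 (iv D9112))
theorem F38624 : act 2 n9113 = n6882 := (sb E5228 F35323)
theorem E5265 : n3515 = n2181 := (((F11828).symm.trans (sb E5230 F18685))).symm
theorem F38625 : act 4 n2964 = n3526 := (sb E5230 F18686)
theorem E5266 : n6574 = n2176 := ((((iv D2964)).symm.trans (sb E5230 (iv F25229)))).symm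
theorem E5267 : n4041 = n3513 := ((D4041).symm.trans (sb E5230 (iv D4803)))
theorem E5269 : n1969 = n1896 := (((F10393).symm.trans (sb E5233 F10786))).symm
theorem E5270 : n3529 = n1966 := (((iv F13943)).symm.trans (sb E5233 (iv D2686)))
theorem E5272 : n3530 = n1978 := ((D3530).symm.trans (sb E5233 F10789))
theorem E5273 : n6599 = n1963 := (((F10765).symm.trans (sb E5234 (iv F25331)))).symm
theorem F38626 : act 5 n2681 = n3526 := (sb E5234 F18760)
theorem E5274 : n6600 = n1962 := ((((iv D2681)).symm.trans (sb E5234 (iv F25335)))).symm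
theorem E5275 : n3662 = n3525 := ((D3662).symm.trans (sb E5234 (iv D4821)))
theorem F38627 : act 8 n2699 = n3526 := (sb E5236 (iv D4823))
theorem E5278 : n6854 = n6137 := ((D6854).symm.trans (sb E5239 (iv D8409)))
theorem F38628 : act 5 n5005 = n6138 := (sb E5239 F32055)
theorem F38629 : act 5 n8412 = n6855 := (sb E5242 F35550)
theorem F38630 : act 7 n8412 = n6883 := (sb E5242 F35552)
theorem E5279 : n8998 = n5489 := (((iv F34097)).symm.trans (sb E5244 F26155))
theorem E5280 : n9028 = n4987 := (((iv F34229)).symm.trans (sb E5244 (iv D6830)))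
theorem E5282 : n9030 = n5025 := ((D9030).symm.trans (sb E5244 F26157))
theorem E5283 : n9209 = n4834 := ((((iv F18809)).symm.trans (sb E5245 (iv F34889)))).symm
theorem E5284 : n4915 = n2592 := (((F13975).symm.trans (sb E5245 F25794))).symm
theorem E5285 : n4908 = n4837 := ((((iv F18823)).symm.trans (sb E5245 (iv D6723)))).symm
theorem E5288 : n9207 = n9073 := ((((iv F34397)).symm.trans (sb E5246 (iv F34884)))).symm
theorem F38631 : act 2 n6624 = n4993 := (sb E5246 F25787)
theorem E5289 : n9086 = n8536 := ((D9086).symm.trans (sb E5246 (iv F32526)))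
theorem E5290 : n9084 = n4907 := (((iv F34440)).symm.trans (sb E5246 (iv D6721)))
theorem E5291 : n9224 = n8432 := ((((iv F32158)).symm.trans (sb E5246 D9224))).symm
theorem E5292 : n9087 = n4953 := ((D9087).symm.trans (sb E5246 F25789))
theorem E5293 : n9290 = n9077 := ((((iv F34412)).symm.trans (sb E5247 (iv F35168)))).symm
theorem F38632 : act 2 n6627 = n5026 := (sb E5247 F26014)
theorem E5294 : n9316 = n9090 := (((D9090).symm.trans (sb E5247 D9316))).symm
theorem E5295 : n4800 = n2959 := (((iv F18671)).symm.trans (sb E5248 F14423))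
theorem E5296 : n4817 = n2677 := (((iv F18745)).symm.trans (sb E5248 (iv D3656)))
theorem E5298 : n4818 = n2696 := ((D4818).symm.trans (sb E5248 F14425))
theorem F38633 : act 4 n4028 = n4814 := (sb E5249 F25196)
theorem E5299 : n9001 = n2954 := ((((iv D4028)).symm.trans (sb E5249 (iv F34110)))).symm
theorem E5300 : n5501 = n4798 := ((D5501).symm.trans (sb E5249 (iv D6567)))
theorem E5302 : n9033 = n2674 := (((F14400).symm.trans (sb E5250 (iv F34247)))).symm
theorem F38634 : act 5 n3651 = n4814 := (sb E5250 F25296)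
theorem E5303 : n9034 = n2673 := ((((iv D3651)).symm.trans (sb E5250 (iv F34251)))).symm
theorem E5304 : n4996 = n4813 := ((D4996).symm.trans (sb E5250 (iv D6590)))
theorem F38635 : act 8 n3677 = n4814 := (sb E5252 (iv D6592))
theorem E5307 : n9080 = n2627 := ((((iv F10560)).symm.trans (sb E5253 (iv F34422)))).symm
theorem E5308 : n4852 = n1413 := (((F7912).symm.trans (sb E5253 F25471))).symm
theorem E5309 : n4845 = n2634 := ((((iv F10591)).symm.trans (sb E5253 (iv D6635)))).symm
theorem E5312 : n9078 = n4911 := ((((iv F19104)).symm.trans (sb E5254 (iv F34415)))).symm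
theorem E5313 : n8441 = n4928 := (((D4928).symm.trans (sb E5254 (iv F32197)))).symm
theorem E5314 : n4926 = n4844 := (((iv F19164)).symm.trans (sb E5254 (iv D6633)))
theorem E5316 : n4929 = n4880 := ((D4929).symm.trans (sb E5254 F25466))
theorem E5319 : n2641 = n1397 := (((F7814).symm.trans (sb E5256 F14224))).symm
theorem E5320 : n2637 = n2598 := ((((iv F10452)).symm.trans (sb E5256 (iv D3603)))).symm
theorem E5322 : n2665 = n2599 := (((D2599).symm.trans (sb E5256 F14228))).symm
theorem E5323 : n4846 = n2633 := (((iv F18858)).symm.trans (sb E5257 F14205))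
theorem E5324 : n4847 = n2632 := (((iv F18863)).symm.trans (sb E5257 (iv D3596)))
theorem E5326 : n4849 = n2658 := ((D4849).symm.trans (sb E5257 F14206))
theorem F38636 : act 4 n6239 = n4848 := (sb E5260 (iv D6641))
theorem E5331 : n9108 = n8362 := ((((iv F38186)).symm.trans (sb E5260 D9108))).symm
theorem E5333 : n8555 = n8449 := ((D8555).symm.trans (sb E5260 (iv F32229)))
theorem F38637 : act 6 n3595 = n4848 := (sb E5261 F25488)
theorem E5335 : n8447 = n4921 := (((D4921).symm.trans (sb E5261 (iv F32222)))).symm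
theorem F38638 : act 2 n6164 = n5005 := (sb E5262 F25865)
theorem E5338 : n9250 = n8450 := (((D8450).symm.trans (sb E5262 D9250))).symm
theorem F38639 : act 5 n3630 = n4851 := (sb E5263 F25497)
theorem E5339 : n9110 = n4969 := (((D4969).symm.trans (sb E5263 D9110))).symm
theorem F38640 : act 8 n3630 = n4848 := (sb E5263 (iv D6642))
theorem F38641 : act 2 n6645 = n5030 := (sb E5264 F26084)
theorem E5341 : n9339 = n8453 := ((((iv F32243)).symm.trans (sb E5264 D9339))).symm
theorem E5342 : n2578 = n1605 := (((F8858).symm.trans (sb E5265 F13881))).symm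
theorem F38642 : act 4 n2181 = n2584 := (sb E5265 F13883)
theorem E5343 : n4806 = n1602 := ((((iv D2181)).symm.trans (sb E5265 (iv F18698)))).symm
theorem E5344 : n2970 = n2575 := ((D2970).symm.trans (sb E5265 (iv D3515)))
theorem E5348 : n4802 = n2965 := (((D2965).symm.trans (sb E5266 (iv D6574)))).symm
theorem F38643 : act 7 n3513 = n2964 := (sb E5267 (iv D4041))
theorem E5350 : n2588 = n1442 := (((iv F10413)).symm.trans (sb E5269 (iv D1969)))
theorem E5352 : n2589 = n1452 := ((D2589).symm.trans (sb E5269 F8072))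
theorem E5353 : n4825 = n1440 := (((F8057).symm.trans (sb E5270 (iv F18773)))).symm
theorem F38644 : act 5 n1966 = n2584 := (sb E5270 F13943)
theorem E5354 : n4826 = n1439 := ((((iv D1966)).symm.trans (sb E5270 (iv F18777)))).symm
theorem E5355 : n2687 = n2583 := ((D2687).symm.trans (sb E5270 (iv D3529)))
theorem F38645 : act 8 n1978 = n2584 := (sb E5272 (iv D3530))
theorem E5360 : n4819 = n2683 := (((D2683).symm.trans (sb E5273 (iv D6599)))).symm
theorem E5362 : n4820 = n2682 := (((D2682).symm.trans (sb E5274 (iv D6600)))).symm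
theorem F38646 : act 7 n3525 = n2681 := (sb E5275 (iv D3662))
theorem E5366 : n9381 = n8398 := ((((iv F32005)).symm.trans (sb E5278 (iv F35477)))).symm
theorem E5367 : n9401 = n4492 := (((F23694).symm.trans (sb E5278 D9401))).symm
theorem F38647 : act 3 n6137 = n5005 := (sb E5278 (iv D6854))
theorem E5368 : n9402 = n8407 := ((((iv F32047)).symm.trans (sb E5278 D9402))).symm
theorem E5369 : n8408 = n5006 := (((iv F32052)).symm.trans (sb E5278 F26252))
theorem E5370 : n9403 = n8410 := (((D8410).symm.trans (sb E5278 D9403))).symm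
theorem F38648 : act 4 n5489 = n6587 := (sb E5279 F34097)
theorem E5371 : n7505 = n6565 := ((D7505).symm.trans (sb E5279 (iv D8998)))
theorem F38649 : act 5 n4987 = n6587 := (sb E5280 F34229)
theorem E5372 : n6831 = n6586 := ((D6831).symm.trans (sb E5280 (iv D9028)))
theorem F38650 : act 8 n5025 = n6587 := (sb E5282 (iv D9030))
theorem E5373 : n6713 = n6617 := ((((iv F25401)).symm.trans (sb E5283 (iv D9209)))).symm
theorem E5375 : n3591 = n3540 := ((((iv F13990)).symm.trans (sb E5284 (iv D4915)))).symm
theorem E5377 : n3626 = n3541 := (((D3541).symm.trans (sb E5284 F19124))).symm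
theorem E5378 : n6622 = n3587 := (((iv F25421)).symm.trans (sb E5285 F19094))
theorem E5379 : n6623 = n3586 := (((iv F25426)).symm.trans (sb E5285 (iv D4908)))
theorem E5381 : n6625 = n3619 := ((D6625).symm.trans (sb E5285 F19095))
theorem F38651 : act 6 n9073 = n6712 := (sb E5288 (iv D9207))
theorem F38652 : act 8 n9073 = n6771 := (sb E5288 F34886)
theorem F38653 : act 4 n8536 = n6624 := (sb E5289 (iv D9086))
theorem F38654 : act 6 n4907 = n6624 := (sb E5290 F34440)
theorem F38655 : act 2 n8432 = n6839 := (sb E5291 F34942)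
theorem F38656 : act 6 n8432 = n6722 := (sb E5291 F34943)
theorem F38657 : act 5 n4953 = n6627 := (sb E5292 F34449)
theorem F38658 : act 8 n4953 = n6624 := (sb E5292 (iv D9087))
theorem F38659 : act 5 n9077 = n6771 := (sb E5293 (iv D9290))
theorem F38660 : act 2 n9090 = n6880 := (sb E5294 F35246)
theorem F38661 : act 5 n9090 = n6788 := (sb E5294 F35247)
theorem F38662 : act 4 n2959 = n3523 := (sb E5295 F18671)
theorem E5383 : n6570 = n2172 := ((((iv D2959)).symm.trans (sb E5295 (iv F25211)))).symm
theorem E5384 : n4034 = n3511 := ((D4034).symm.trans (sb E5295 (iv D4800)))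
theorem E5386 : n6594 = n1960 := (((F10747).symm.trans (sb E5296 (iv F25311)))).symm
theorem F38663 : act 5 n2677 = n3523 := (sb E5296 F18745)
theorem E5387 : n6595 = n1959 := ((((iv D2677)).symm.trans (sb E5296 (iv F25316)))).symm
theorem E5388 : n3657 = n3522 := ((D3657).symm.trans (sb E5296 (iv D4817)))
theorem F38664 : act 8 n2696 = n3523 := (sb E5298 (iv D4818))
theorem E5391 : n6566 = n4029 := (((D4029).symm.trans (sb E5299 (iv D9001)))).symm
theorem F38665 : act 7 n4798 = n4028 := (sb E5300 (iv D5501))
theorem E5392 : n6588 = n3653 := (((D3653).symm.trans (sb E5302 (iv D9033)))).symm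
theorem E5393 : n6589 = n3652 := (((D3652).symm.trans (sb E5303 (iv D9034)))).symm
theorem E5394 : n6843 = n6129 := ((((iv F23658)).symm.trans (sb E5304 D6843))).symm
theorem F38666 : act 7 n4813 = n3651 := (sb E5304 (iv D4996))
theorem E5395 : n6628 = n1924 := (((F10561).symm.trans (sb E5307 F34423))).symm
theorem E5396 : n6621 = n3588 := ((((iv F14173)).symm.trans (sb E5307 (iv D9080)))).symm
theorem E5398 : n3551 = n1037 := (((F5932).symm.trans (sb E5308 F18876))).symm
theorem E5399 : n3547 = n1930 := ((((iv F7925)).symm.trans (sb E5308 (iv D4852)))).symm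
theorem E5402 : n3597 = n3543 := (((iv F14208)).symm.trans (sb E5309 F18854))
theorem E5403 : n3598 = n3542 := (((iv F14212)).symm.trans (sb E5309 (iv D4845)))
theorem E5405 : n3600 = n3568 := ((D3600).symm.trans (sb E5309 F18855))
theorem E5407 : n6727 = n6620 := (((iv F25812)).symm.trans (sb E5312 (iv D9078)))
theorem E5408 : n6730 = n6667 := ((D6730).symm.trans (sb E5312 F34418))
theorem F38667 : act 1 n4928 = n6239 := (sb E5313 F32194)
theorem E5409 : n6747 = n6161 := (((iv F25883)).symm.trans (sb E5313 F32196))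
theorem E5410 : n6749 = n6160 := (((iv F25887)).symm.trans (sb E5313 (iv D8441)))
theorem E5411 : n6752 = n6196 := ((D6752).symm.trans (sb E5313 F32198))
theorem F38668 : act 6 n4844 = n3599 := (sb E5314 F19164)
theorem E5412 : n6634 = n6245 := ((D6634).symm.trans (sb E5314 (iv F24103)))
theorem E5413 : n6750 = n3567 := (((F18851).symm.trans (sb E5314 D6750))).symm
theorem F38669 : act 5 n4880 = n3602 := (sb E5316 F19172)
theorem E5414 : n6753 = n6686 := (((D6686).symm.trans (sb E5316 D6753))).symm
theorem F38670 : act 8 n4880 = n3599 := (sb E5316 (iv D4929))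
theorem E5415 : n1932 = n1906 := ((((iv F7833)).symm.trans (sb E5319 (iv D2641)))).symm
theorem E5417 : n1952 = n1907 := (((D1907).symm.trans (sb E5319 F10617))).symm
theorem F38671 : act 3 n2598 = n1966 := (sb E5320 F10599)
theorem E5418 : n3548 = n1929 := (((iv F14019)).symm.trans (sb E5320 F10600))
theorem E5419 : n3549 = n1928 := (((iv F14023)).symm.trans (sb E5320 (iv D2637)))
theorem E5421 : n3550 = n1948 := ((D3550).symm.trans (sb E5320 F10601))
theorem F38672 : act 3 n2599 = n1978 := (sb E5322 F10695)
theorem F38673 : act 4 n2633 = n3544 := (sb E5323 F18858)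
theorem E5426 : n6638 = n1944 := (((F10589).symm.trans (sb E5323 D6638))).symm
theorem F38674 : act 6 n2632 = n3544 := (sb E5324 F18863)
theorem E5427 : n6640 = n1943 := (((F10586).symm.trans (sb E5324 D6640))).symm
theorem F38675 : act 5 n2658 = n3546 := (sb E5326 F18868)
theorem E5430 : n3633 = n3572 := ((D3633).symm.trans (sb E5326 F18869))
theorem F38676 : act 8 n2658 = n3544 := (sb E5326 (iv D4849))
theorem F38677 : act 1 n8362 = n6751 := (sb E5331 F34520)
theorem F38678 : act 4 n8362 = n6643 := (sb E5331 F34521)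
theorem F38679 : act 2 n8449 = n6352 := (sb E5333 F32607)
theorem F38680 : act 6 n8449 = n6240 := (sb E5333 F32609)
theorem F38681 : act 7 n8449 = n6239 := (sb E5333 (iv D8555))
theorem E5433 : n6741 = n6163 := ((D6741).symm.trans (sb E5335 (iv D8447)))
theorem F38682 : act 6 n4921 = n6164 := (sb E5335 F32221)
theorem F38683 : act 2 n8450 = n6855 := (sb E5338 F35040)
theorem F38684 : act 6 n8450 = n6742 := (sb E5338 F35041)
theorem F38685 : act 7 n8450 = n6808 := (sb E5338 F35042)
theorem E5434 : n6807 = n6699 := ((D6807).symm.trans (sb E5339 F34525))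
theorem F38686 : act 5 n4969 = n6645 := (sb E5339 F34526)
theorem F38687 : act 2 n8453 = n6883 := (sb E5341 F35330)
theorem F38688 : act 5 n8453 = n6808 := (sb E5341 F35331)
theorem F38689 : act 4 n1605 = n1896 := (sb E5342 F10370)
theorem E5435 : n3519 = n1180 := ((((iv D1605)).symm.trans (sb E5342 (iv F13904)))).symm
theorem E5436 : n2184 = n1889 := ((D2184).symm.trans (sb E5342 (iv D2578)))
theorem E5439 : n6579 = n1177 := ((((iv D1602)).symm.trans (sb E5343 (iv F25249)))).symm
theorem E5440 : n3514 = n2182 := (((D2182).symm.trans (sb E5343 (iv D4806)))).symm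
theorem F38690 : act 7 n2575 = n2181 := (sb E5344 (iv D2970))
theorem F38691 : act 5 n2965 = n3513 := (sb E5348 (iv D4802))
theorem E5445 : n3532 = n1056 := (((F6044).symm.trans (sb E5350 (iv F13955)))).symm
theorem F38692 : act 5 n1442 = n1896 := (sb E5350 F10413)
theorem E5446 : n3533 = n1055 := ((((iv D1442)).symm.trans (sb E5350 (iv F13960)))).symm
theorem E5447 : n1970 = n1895 := ((D1970).symm.trans (sb E5350 (iv D2588)))
theorem F38693 : act 8 n1452 = n1896 := (sb E5352 (iv D2589))
theorem E5452 : n3527 = n1968 := (((D1968).symm.trans (sb E5353 (iv D4825)))).symm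
theorem E5454 : n3528 = n1967 := (((D1967).symm.trans (sb E5354 (iv D4826)))).symm
theorem F38694 : act 7 n2583 = n1966 := (sb E5355 (iv D2687))
theorem E5460 : n6597 = n3664 := (((D3664).symm.trans (sb E5360 D6597))).symm
theorem F38695 : act 4 n2683 = n3525 := (sb E5360 (iv D4819))
theorem E5461 : n6136 = n3663 := (((D3663).symm.trans (sb E5362 (iv F23690)))).symm
theorem F38696 : act 6 n2682 = n3525 := (sb E5362 (iv D4820))
theorem F38697 : act 3 n8398 = n6839 := (sb E5366 (iv D9381))
theorem F38698 : act 6 n8398 = n6840 := (sb E5366 F35478)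
theorem E5464 : n6856 = n6142 := ((((iv F23715)).symm.trans (sb E5367 F35553))).symm
theorem F38699 : act 6 n8407 = n6857 := (sb E5368 F35556)
theorem F38700 : act 6 n5006 = n6137 := (sb E5369 F32052)
theorem F38701 : act 3 n8410 = n6855 := (sb E5370 F35559)
theorem F38702 : act 6 n8410 = n6858 := (sb E5370 F35560)
theorem E5465 : n8997 = n5490 := ((D8997).symm.trans (sb E5371 F28673))
theorem F38703 : act 7 n6565 = n5489 := (sb E5371 (iv D7505))
theorem E5466 : n9369 = n8394 := ((((iv F31989)).symm.trans (sb E5372 D9369))).symm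
theorem E5467 : n9026 = n4989 := ((D9026).symm.trans (sb E5372 F26161))
theorem E5468 : n9027 = n4988 := ((D9027).symm.trans (sb E5372 F26162))
theorem F38704 : act 7 n6586 = n4987 := (sb E5372 (iv D6831))
theorem E5469 : n9070 = n4904 := (((F25398).symm.trans (sb E5373 (iv F34381)))).symm
theorem E5470 : n9071 = n4903 := (((iv F34389)).symm.trans (sb E5373 F25761))
theorem E5471 : n9072 = n4902 := (((iv F34395)).symm.trans (sb E5373 (iv D6713)))
theorem E5473 : n9074 = n4945 := ((D9074).symm.trans (sb E5373 F25762))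
theorem F38705 : act 3 n3540 = n2677 := (sb E5375 F14184)
theorem E5476 : n4841 = n2629 := (((iv F18838)).symm.trans (sb E5375 F14185))
theorem E5477 : n4842 = n2628 := (((iv F18843)).symm.trans (sb E5375 (iv D3591)))
theorem E5479 : n4843 = n2653 := ((D4843).symm.trans (sb E5375 F14186))
theorem F38706 : act 3 n3541 = n2696 := (sb E5377 F14311)
theorem F38707 : act 4 n3587 = n4837 := (sb E5378 F25421)
theorem E5485 : n4910 = n4835 := ((D4910).symm.trans (sb E5378 (iv D6622)))
theorem E5486 : n9083 = n2649 := (((F14170).symm.trans (sb E5378 D9083))).symm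
theorem F38708 : act 6 n3586 = n4837 := (sb E5379 F25426)
theorem E5487 : n4909 = n4836 := ((D4909).symm.trans (sb E5379 (iv D6623)))
theorem E5488 : n9085 = n2648 := (((F14166).symm.trans (sb E5379 D9085))).symm
theorem F38709 : act 5 n3619 = n4839 := (sb E5381 F25431)
theorem E5491 : n4956 = n4872 := ((D4956).symm.trans (sb E5381 F25432))
theorem F38710 : act 8 n3619 = n4837 := (sb E5381 (iv D6625))
theorem E5495 : n9006 = n1595 := ((((iv D2172)).symm.trans (sb E5383 (iv F34133)))).symm
theorem E5496 : n4799 = n2960 := (((D2960).symm.trans (sb E5383 (iv D6570)))).symm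
theorem F38711 : act 7 n3511 = n2959 := (sb E5384 (iv D4034))
theorem E5501 : n4815 = n2679 := (((D2679).symm.trans (sb E5386 (iv D6594)))).symm
theorem E5503 : n4816 = n2678 := (((D2678).symm.trans (sb E5387 (iv D6595)))).symm
theorem F38712 : act 7 n3522 = n2677 := (sb E5388 (iv D3657))
theorem F38713 : act 5 n4029 = n4798 := (sb E5391 (iv D6566))
theorem F38714 : act 4 n3653 = n4813 := (sb E5392 (iv D6588))
theorem E5512 : n8397 = n4997 := (((D4997).symm.trans (sb E5393 (iv F32002)))).symm
theorem F38715 : act 6 n3652 = n4813 := (sb E5393 (iv D6589))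
theorem E5514 : n9388 = n8396 := (((D8396).symm.trans (sb E5394 D9388))).symm
theorem E5515 : n4840 = n2630 := ((((iv F10577)).symm.trans (sb E5395 (iv D6628)))).symm
theorem E5518 : n4912 = n4868 := ((D4912).symm.trans (sb E5396 F25418))
theorem E5520 : n2600 = n1417 := ((((iv F5951)).symm.trans (sb E5398 (iv D3551)))).symm
theorem E5523 : n2638 = n2597 := (((iv F10603)).symm.trans (sb E5399 F14016))
theorem E5524 : n2639 = n2596 := (((iv F10608)).symm.trans (sb E5399 (iv D3547)))
theorem E5526 : n2640 = n2616 := ((D2640).symm.trans (sb E5399 F14017))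
theorem E5530 : n4924 = n4506 := ((((iv F17660)).symm.trans (sb E5402 D4924))).symm
theorem F38716 : act 4 n3543 = n2634 := (sb E5402 F14208)
theorem F38717 : act 7 n3543 = n2632 := (sb E5402 (iv D3597))
theorem E5531 : n4925 = n2612 := (((F14003).symm.trans (sb E5402 D4925))).symm
theorem F38718 : act 6 n3542 = n2634 := (sb E5403 F14212)
theorem F38719 : act 7 n3542 = n2633 := (sb E5403 (iv D3598))
theorem E5532 : n4927 = n2611 := (((F13999).symm.trans (sb E5403 D4927))).symm
theorem F38720 : act 5 n3568 = n2636 := (sb E5405 F14216)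
theorem E5535 : n4883 = n2662 := ((D4883).symm.trans (sb E5405 F14217))
theorem F38721 : act 8 n3568 = n2634 := (sb E5405 (iv D3600))
theorem E5538 : n9213 = n9069 := ((((iv F34378)).symm.trans (sb E5407 (iv F34905)))).symm
theorem E5539 : n9233 = n8428 := ((((iv F32141)).symm.trans (sb E5407 D9233))).symm
theorem F38722 : act 6 n6620 = n4911 := (sb E5407 F25812)
theorem E5540 : n9079 = n8542 := ((D9079).symm.trans (sb E5407 (iv F32552)))
theorem E5542 : n9217 = n9131 := ((((iv F34600)).symm.trans (sb E5408 (iv F34917)))).symm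
theorem E5543 : n9236 = n8475 := ((((iv F32323)).symm.trans (sb E5408 (iv F34984)))).symm
theorem F38723 : act 5 n6667 = n4914 := (sb E5408 F25823)
theorem E5544 : n9237 = n9148 := (((D9148).symm.trans (sb E5408 D9237))).symm
theorem F38724 : act 8 n6667 = n4911 := (sb E5408 (iv D6730))
theorem E5545 : n9231 = n8429 := ((((iv F32144)).symm.trans (sb E5409 (iv F34966)))).symm
theorem F38725 : act 3 n6161 = n4928 := (sb E5409 F25883)
theorem E5547 : n9262 = n8377 := ((((iv F38297)).symm.trans (sb E5409 D9262))).symm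
theorem F38726 : act 6 n6160 = n4928 := (sb E5410 F25887)
theorem E5552 : n8564 = n8442 := (((D8442).symm.trans (sb E5410 (iv F32632)))).symm
theorem E5554 : n9269 = n8493 := (((D8493).symm.trans (sb E5411 (iv F35088)))).symm
theorem F38727 : act 8 n6196 = n4928 := (sb E5411 (iv D6752))
theorem F38728 : act 1 n6245 = n4921 := (sb E5412 F25467)
theorem F38729 : act 7 n6245 = n4844 := (sb E5412 (iv D6634))
theorem E5557 : n9099 = n8565 := (((D8565).symm.trans (sb E5412 D9099))).symm
theorem E5558 : n9267 = n4881 := (((D4881).symm.trans (sb E5413 D9267))).symm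
theorem E5559 : n9174 = n4981 := ((D9174).symm.trans (sb E5414 F25897))
theorem F38730 : act 5 n6686 = n4932 := (sb E5414 F25898)
theorem E5560 : n9175 = n8568 := ((D9175).symm.trans (sb E5414 (iv F32645)))
theorem F38731 : act 3 n1906 = n1442 := (sb E5415 F7932)
theorem E5561 : n2601 = n1416 := (((iv F10464)).symm.trans (sb E5415 F7933))
theorem E5562 : n2602 = n1415 := (((iv F10469)).symm.trans (sb E5415 (iv D1932)))
theorem E5564 : n2603 = n1429 := ((D2603).symm.trans (sb E5415 F7934))
theorem F38732 : act 3 n1907 = n1452 := (sb E5417 F7998)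
theorem F38733 : act 4 n1929 = n2598 := (sb E5418 F14019)
theorem E5569 : n4855 = n1426 := (((F7922).symm.trans (sb E5418 D4855))).symm
theorem F38734 : act 6 n1928 = n2598 := (sb E5419 F14023)
theorem E5570 : n4856 = n1425 := (((F7918).symm.trans (sb E5419 D4856))).symm
theorem F38735 : act 5 n1948 = n2599 := (sb E5421 F14025)
theorem E5573 : n2666 = n2619 := ((D2666).symm.trans (sb E5421 F14026))
theorem F38736 : act 8 n1948 = n2598 := (sb E5421 (iv D3550))
theorem E5580 : n4885 = n2660 := (((D2660).symm.trans (sb E5426 F25485))).symm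
theorem E5581 : n4887 = n2659 := (((D2659).symm.trans (sb E5427 F25493))).symm
theorem E5585 : n4973 = n4889 := ((((iv F19018)).symm.trans (sb E5430 D4973))).symm
theorem F38737 : act 7 n3572 = n2658 := (sb E5430 (iv D3633))
theorem E5588 : n9225 = n8431 := ((((iv F32152)).symm.trans (sb E5433 (iv F34944)))).symm
theorem F38738 : act 3 n6163 = n4921 := (sb E5433 (iv D6741))
theorem E5590 : n9253 = n8448 := (((D8448).symm.trans (sb E5433 D9253))).symm
theorem E5591 : n9317 = n9161 := ((((iv F34708)).symm.trans (sb E5434 (iv F35249)))).symm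
theorem F38739 : act 3 n6699 = n4969 := (sb E5434 (iv D6807))
theorem E5592 : n9340 = n9194 := ((((iv F34831)).symm.trans (sb E5434 D9340))).symm
theorem E5593 : n9191 = n4970 := (((iv F34821)).symm.trans (sb E5434 F26088))
theorem E5594 : n9341 = n8507 := ((((iv F32427)).symm.trans (sb E5434 D9341))).symm
theorem E5596 : n4810 = n869 := ((((iv D1180)).symm.trans (sb E5435 (iv F18717)))).symm
theorem E5597 : n2577 = n1606 := (((D1606).symm.trans (sb E5435 (iv D3519)))).symm
theorem F38740 : act 7 n1889 = n1605 := (sb E5436 (iv D2184))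
theorem E5604 : n4805 = n1603 := (((D1603).symm.trans (sb E5439 (iv D6579)))).symm
theorem E5606 : n2971 = n2576 := ((D2971).symm.trans (sb E5440 F13879))
theorem F38741 : act 5 n2182 = n2575 := (sb E5440 (iv D3514))
theorem E5612 : n2586 = n1444 := (((D1444).symm.trans (sb E5445 (iv D3532)))).symm
theorem E5614 : n2587 = n1443 := (((D1443).symm.trans (sb E5446 (iv D3533)))).symm
theorem F38742 : act 7 n1895 = n1442 := (sb E5447 (iv D1970))
theorem F38743 : act 4 n1968 = n2583 := (sb E5452 (iv D3527))
theorem E5625 : n2688 = n2585 := ((D2688).symm.trans (sb E5454 F13938))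
theorem F38744 : act 6 n1967 = n2583 := (sb E5454 (iv D3528))
theorem E5631 : n8405 = n5012 := (((D5012).symm.trans (sb E5460 (iv F32038)))).symm
theorem E5633 : n5010 = n4491 := ((D5010).symm.trans (sb E5461 F23689))
theorem E5634 : n8406 = n5011 := (((D5011).symm.trans (sb E5461 (iv F32043)))).symm
theorem F38745 : act 6 n3663 = n4488 := (sb E5461 (iv D6136))
theorem E5637 : n9383 = n8403 := ((((iv F32026)).symm.trans (sb E5464 (iv F35483)))).symm
theorem F38746 : act 2 n6142 = n5006 := (sb E5464 (iv D6856))
theorem E5639 : n9405 = n8414 := ((((iv F32076)).symm.trans (sb E5464 D9405))).symm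
theorem E5640 : n9406 = n8417 := (((D8417).symm.trans (sb E5464 D9406))).symm
theorem F38747 : act 5 n5490 = n6565 := (sb E5465 (iv D8997))
theorem F38748 : act 6 n8394 = n6832 := (sb E5466 F35426)
theorem F38749 : act 4 n4989 = n6586 := (sb E5467 (iv D9026))
theorem F38750 : act 6 n4988 = n6586 := (sb E5468 (iv D9027))
theorem E5641 : n6714 = n6616 := (((iv F25765)).symm.trans (sb E5469 F34384))
theorem E5642 : n6715 = n6615 := (((iv F25770)).symm.trans (sb E5469 (iv D9070)))
theorem E5643 : n6717 = n6659 := ((D6717).symm.trans (sb E5469 F34385))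
theorem F38751 : act 4 n4903 = n6617 := (sb E5470 F34389)
theorem F38752 : act 6 n4902 = n6617 := (sb E5471 F34395)
theorem F38753 : act 5 n4945 = n6619 := (sb E5473 F34402)
theorem E5644 : n6774 = n6663 := ((D6774).symm.trans (sb E5473 F34403))
theorem F38754 : act 8 n4945 = n6617 := (sb E5473 (iv D9074))
theorem F38755 : act 4 n2629 = n3540 := (sb E5476 F18838)
theorem E5647 : n3593 = n3538 := ((D3593).symm.trans (sb E5476 (iv D4841)))
theorem E5648 : n6631 = n1940 := (((F10573).symm.trans (sb E5476 D6631))).symm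
theorem F38756 : act 6 n2628 = n3540 := (sb E5477 F18843)
theorem E5649 : n3592 = n3539 := ((D3592).symm.trans (sb E5477 (iv D4842)))
theorem E5650 : n6632 = n1939 := (((F10568).symm.trans (sb E5477 D6632))).symm
theorem F38757 : act 5 n2653 = n3541 := (sb E5479 F18846)
theorem E5653 : n3627 = n3566 := ((D3627).symm.trans (sb E5479 F18847))
theorem F38758 : act 8 n2653 = n3540 := (sb E5479 (iv D4843))
theorem F38759 : act 6 n4835 = n3588 := (sb E5485 F19103)
theorem F38760 : act 7 n4835 = n3587 := (sb E5485 (iv D4910))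
theorem E5655 : n6728 = n3558 := (((F18816).symm.trans (sb E5485 D6728))).symm
theorem E5656 : n6672 = n3621 := (((D3621).symm.trans (sb E5486 F34437))).symm
theorem F38761 : act 4 n4836 = n3588 := (sb E5487 F19098)
theorem F38762 : act 7 n4836 = n3586 := (sb E5487 (iv D4909))
theorem E5658 : n6726 = n3559 := (((F18820).symm.trans (sb E5487 D6726))).symm
theorem E5659 : n6674 = n3620 := (((D3620).symm.trans (sb E5488 F34445))).symm
theorem E5661 : n6792 = n6676 := ((((iv F25619)).symm.trans (sb E5491 D6792))).symm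
theorem F38763 : act 7 n4872 = n3619 := (sb E5491 (iv D4956))
theorem E5663 : n6569 = n2173 := (((D2173).symm.trans (sb E5495 (iv D9006)))).symm
theorem E5664 : n4035 = n3512 := ((D4035).symm.trans (sb E5496 F18666))
theorem F38764 : act 5 n2960 = n3511 := (sb E5496 (iv D4799))
theorem F38765 : act 4 n2679 = n3522 := (sb E5501 (iv D4815))
theorem E5667 : n3658 = n3524 := ((D3658).symm.trans (sb E5503 F18739))
theorem F38766 : act 6 n2678 = n3522 := (sb E5503 (iv D4816))
theorem E5669 : n6844 = n6132 := ((D6844).symm.trans (sb E5512 F32001))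
theorem F38767 : act 6 n4997 = n6129 := (sb E5512 (iv D8397))
theorem F38768 : act 3 n8396 = n6846 := (sb E5514 F35501)
theorem F38769 : act 6 n8396 = n6845 := (sb E5514 F35502)
theorem E5670 : n3594 = n3563 := ((D3594).symm.trans (sb E5515 F18835))
theorem F38770 : act 5 n4868 = n3590 := (sb E5518 F19109)
theorem E5672 : n6670 = n3623 := ((D6670).symm.trans (sb E5518 F19110))
theorem F38771 : act 8 n4868 = n3588 := (sb E5518 (iv D4912))
theorem E5673 : n1933 = n1905 := (((iv F7936)).symm.trans (sb E5520 F10460))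
theorem E5674 : n1934 = n1904 := (((iv F7941)).symm.trans (sb E5520 (iv D2600)))
theorem E5676 : n1935 = n1918 := ((D1935).symm.trans (sb E5520 F10461))
theorem F38772 : act 4 n2597 = n1930 := (sb E5523 F10603)
theorem F38773 : act 7 n2597 = n1928 := (sb E5523 (iv D2638))
theorem E5681 : n3606 = n1915 := (((F10450).symm.trans (sb E5523 D3606))).symm
theorem F38774 : act 6 n2596 = n1930 := (sb E5524 F10608)
theorem F38775 : act 7 n2596 = n1929 := (sb E5524 (iv D2639))
theorem E5682 : n3607 = n1914 := (((F10446).symm.trans (sb E5524 D3607))).symm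
theorem F38776 : act 5 n2616 = n1931 := (sb E5526 F10611)
theorem E5685 : n3576 = n1951 := ((D3576).symm.trans (sb E5526 F10612))
theorem F38777 : act 8 n2616 = n1930 := (sb E5526 (iv D2640))
theorem E5689 : n6748 = n3314 := (((F17662).symm.trans (sb E5530 D6748))).symm
theorem E5690 : n3635 = n3570 := (((D3570).symm.trans (sb E5531 F19161))).symm
theorem E5691 : n3637 = n3569 := (((D3569).symm.trans (sb E5532 F19168))).symm
theorem F38778 : act 7 n2662 = n3568 := (sb E5535 (iv D4883))
theorem F38779 : act 6 n9069 = n6716 := (sb E5538 F34907)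
theorem F38780 : act 6 n8428 = n6729 := (sb E5539 F34973)
theorem F38781 : act 7 n8542 = n6620 := (sb E5540 (iv D9079))
theorem F38782 : act 5 n9131 = n6720 := (sb E5542 F34919)
theorem F38783 : act 8 n9131 = n6716 := (sb E5542 (iv D9217))
theorem F38784 : act 8 n8475 = n6729 := (sb E5543 (iv D9236))
theorem F38785 : act 3 n9148 = n6800 := (sb E5544 F34987)
theorem F38786 : act 5 n9148 = n6733 := (sb E5544 F34988)
theorem F38787 : act 3 n8429 = n6729 := (sb E5545 F34967)
theorem F38788 : act 3 n8377 = n6751 := (sb E5547 F35069)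
theorem F38789 : act 4 n8442 = n6245 := (sb E5552 (iv D8564))
theorem F38790 : act 6 n8442 = n6247 := (sb E5552 F32631)
theorem F38791 : act 4 n8493 = n6755 := (sb E5554 F35087)
theorem F38792 : act 8 n8493 = n6751 := (sb E5554 (iv D9269))
theorem F38793 : act 1 n8565 = n6742 := (sb E5557 F34491)
theorem F38794 : act 7 n8565 = n6688 := (sb E5557 F34494)
theorem E5694 : n6820 = n6687 := (((D6687).symm.trans (sb E5558 F35081))).symm
theorem F38795 : act 3 n4981 = n6686 := (sb E5559 (iv D9174))
theorem F38796 : act 1 n8568 = n6808 := (sb E5560 F34767)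
theorem F38797 : act 6 n8568 = n6688 := (sb E5560 F34769)
theorem F38798 : act 8 n8568 = n6686 := (sb E5560 (iv D9175))
theorem F38799 : act 4 n1416 = n1906 := (sb E5561 F10464)
theorem E5696 : n3554 = n1046 := (((F5948).symm.trans (sb E5561 D3554))).symm
theorem F38800 : act 6 n1415 = n1906 := (sb E5562 F10469)
theorem E5697 : n3555 = n1045 := (((F5944).symm.trans (sb E5562 D3555))).symm
theorem F38801 : act 5 n1429 = n1907 := (sb E5564 F10472)
theorem E5700 : n1953 = n1921 := ((D1953).symm.trans (sb E5564 F10473))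
theorem F38802 : act 8 n1429 = n1906 := (sb E5564 (iv D2603))
theorem E5707 : n3578 = n1950 := (((D1950).symm.trans (sb E5569 F18890))).symm
theorem E5708 : n3579 = n1949 := (((D1949).symm.trans (sb E5570 F18894))).symm
theorem F38803 : act 7 n2619 = n1948 := (sb E5573 (iv D2666))
theorem E5712 : n6694 = n3636 := (((D3636).symm.trans (sb E5580 (iv F25685)))).symm
theorem F38804 : act 4 n2660 = n3572 := (sb E5580 F19004)
theorem E5713 : n6696 = n3634 := (((D3634).symm.trans (sb E5581 (iv F25692)))).symm
theorem F38805 : act 6 n2659 = n3572 := (sb E5581 F19013)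
theorem E5715 : n6813 = n6698 := ((((iv F25700)).symm.trans (sb E5585 D6813))).symm
theorem F38806 : act 3 n8431 = n6722 := (sb E5588 (iv D9225))
theorem F38807 : act 3 n8448 = n6742 := (sb E5590 F35047)
theorem F38808 : act 3 n9161 = n6788 := (sb E5591 (iv D9317))
theorem F38809 : act 6 n9161 = n6789 := (sb E5591 F35251)
theorem F38810 : act 6 n9194 = n6809 := (sb E5592 F35334)
theorem F38811 : act 6 n4970 = n6699 := (sb E5593 F34821)
theorem F38812 : act 3 n8507 = n6808 := (sb E5594 F35337)
theorem F38813 : act 6 n8507 = n6810 := (sb E5594 F35338)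
theorem E5720 : n3518 = n1181 := (((D1181).symm.trans (sb E5596 (iv D4810)))).symm
theorem E5722 : n2185 = n1890 := ((D2185).symm.trans (sb E5597 F10365))
theorem F38814 : act 5 n1606 = n1889 := (sb E5597 (iv D2577))
theorem E5726 : n3516 = n2183 := (((D2183).symm.trans (sb E5604 F18693))).symm
theorem F38815 : act 3 n2576 = n2182 := (sb E5606 (iv D2971))
theorem F38816 : act 4 n1444 = n1895 := (sb E5612 (iv D2586))
theorem E5733 : n1971 = n1897 := ((D1971).symm.trans (sb E5614 F10407))
theorem F38817 : act 6 n1443 = n1895 := (sb E5614 (iv D2587))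
theorem F38818 : act 3 n2585 = n1967 := (sb E5625 (iv D2688))
theorem F38819 : act 3 n5012 = n6135 := (sb E5631 (iv D8405))
theorem F38820 : act 2 n4491 = n3663 := (sb E5633 (iv D5010))
theorem E5741 : n6863 = n6140 := ((((iv F23707)).symm.trans (sb E5633 D6863))).symm
theorem F38821 : act 6 n5011 = n6135 := (sb E5634 (iv D8406))
theorem F38822 : act 2 n8403 = n6840 := (sb E5637 (iv D9383))
theorem F38823 : act 2 n8414 = n6857 := (sb E5639 F35565)
theorem F38824 : act 2 n8417 = n6858 := (sb E5640 F35567)
theorem F38825 : act 4 n6616 = n4904 := (sb E5641 F25765)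
theorem F38826 : act 7 n6616 = n4902 := (sb E5641 (iv D6714))
theorem E5743 : n9212 = n4863 := (((F25397).symm.trans (sb E5641 D9212))).symm
theorem F38827 : act 6 n6615 = n4904 := (sb E5642 F25770)
theorem F38828 : act 7 n6615 = n4903 := (sb E5642 (iv D6715))
theorem E5744 : n9214 = n4862 := (((F25392).symm.trans (sb E5642 D9214))).symm
theorem F38829 : act 5 n6659 = n4906 := (sb E5643 F25775)
theorem E5745 : n9134 = n4949 := ((D9134).symm.trans (sb E5643 F25776))
theorem F38830 : act 8 n6659 = n4904 := (sb E5643 (iv D6717))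
theorem E5746 : n9295 = n9141 := ((((iv F34640)).symm.trans (sb E5644 D9295))).symm
theorem E5747 : n9136 = n4947 := (((iv F34621)).symm.trans (sb E5644 F25976))
theorem E5748 : n9138 = n4946 := (((iv F34631)).symm.trans (sb E5644 F25977))
theorem F38831 : act 7 n6663 = n4945 := (sb E5644 (iv D6774))
theorem F38832 : act 6 n3538 = n2630 := (sb E5647 F14195)
theorem F38833 : act 7 n3538 = n2629 := (sb E5647 (iv D3593))
theorem E5754 : n4919 = n2607 := (((F13982).symm.trans (sb E5647 D4919))).symm
theorem E5755 : n4878 = n2655 := (((D2655).symm.trans (sb E5648 F25457))).symm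
theorem F38834 : act 4 n3539 = n2630 := (sb E5649 F14189)
theorem F38835 : act 7 n3539 = n2628 := (sb E5649 (iv D3592))
theorem E5757 : n4918 = n2608 := (((F13987).symm.trans (sb E5649 D4918))).symm
theorem E5758 : n4879 = n2654 := (((D2654).symm.trans (sb E5650 F25462))).symm
theorem F38836 : act 7 n3566 = n2653 := (sb E5653 (iv D3627))
theorem E5762 : n4960 = n4869 := (((D4869).symm.trans (sb E5655 F25817))).symm
theorem F38837 : act 4 n3621 = n4872 := (sb E5656 F25605)
theorem E5767 : n4958 = n4870 := (((D4870).symm.trans (sb E5658 F25808))).symm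
theorem E5768 : n9158 = n4957 := (((D4957).symm.trans (sb E5659 (iv F34699)))).symm
theorem F38838 : act 6 n3620 = n4872 := (sb E5659 F25614)
theorem E5770 : n9323 = n9160 := ((((iv F34707)).symm.trans (sb E5661 D9323))).symm
theorem E5772 : n4801 = n2961 := (((D2961).symm.trans (sb E5663 F25205))).symm
theorem F38839 : act 3 n3512 = n2960 := (sb E5664 (iv D4035))
theorem F38840 : act 3 n3524 = n2678 := (sb E5667 (iv D3658))
theorem F38841 : act 2 n6132 = n4997 := (sb E5669 (iv D6844))
theorem E5777 : n9390 = n8401 := ((((iv F32020)).symm.trans (sb E5669 D9390))).symm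
theorem F38842 : act 5 n3563 = n2631 := (sb E5670 F14199)
theorem E5778 : n4876 = n2656 := ((D4876).symm.trans (sb E5670 F14200))
theorem F38843 : act 8 n3563 = n2630 := (sb E5670 (iv D3594))
theorem F38844 : act 7 n3623 = n4868 := (sb E5672 (iv D6670))
theorem F38845 : act 4 n1905 = n1417 := (sb E5673 F7936)
theorem F38846 : act 7 n1905 = n1415 := (sb E5673 (iv D1933))
theorem E5783 : n2644 = n1406 := (((F7830).symm.trans (sb E5673 D2644))).symm
theorem F38847 : act 6 n1904 = n1417 := (sb E5674 F7941)
theorem F38848 : act 7 n1904 = n1416 := (sb E5674 (iv D1934))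
theorem E5784 : n2645 = n1405 := (((F7825).symm.trans (sb E5674 D2645))).symm
theorem F38849 : act 5 n1918 = n1418 := (sb E5676 F7944)
theorem E5787 : n2621 = n1432 := ((D2621).symm.trans (sb E5676 F7945))
theorem F38850 : act 8 n1918 = n1417 := (sb E5676 (iv D1935))
theorem E5795 : n2667 = n2618 := (((D2618).symm.trans (sb E5681 F14239))).symm
theorem E5796 : n2668 = n2617 := (((D2617).symm.trans (sb E5682 F14244))).symm
theorem F38851 : act 7 n1951 = n2616 := (sb E5685 (iv D3576))
theorem E5806 : n9264 = n4533 := (((D4533).symm.trans (sb E5689 D9264))).symm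
theorem E5807 : n4976 = n4886 := (((D4886).symm.trans (sb E5690 (iv F19334)))).symm
theorem F38852 : act 4 n3570 = n2662 := (sb E5690 F14342)
theorem F38853 : act 8 n3570 = n2659 := (sb E5690 (iv D3635))
theorem E5808 : n4978 = n4884 := (((D4884).symm.trans (sb E5691 (iv F19339)))).symm
theorem F38854 : act 6 n3569 = n2662 := (sb E5691 F14349)
theorem F38855 : act 8 n3569 = n2660 := (sb E5691 (iv D3637))
theorem E5812 : n9330 = n9149 := ((((iv F34669)).symm.trans (sb E5694 (iv F35298)))).symm
theorem E5813 : n9176 = n5052 := ((D9176).symm.trans (sb E5694 F26123))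
theorem E5814 : n9355 = n9177 := (((D9177).symm.trans (sb E5694 (iv F35378)))).symm
theorem F38856 : act 6 n6687 = n4981 := (sb E5694 F26125)
theorem E5815 : n9178 = n8650 := ((D9178).symm.trans (sb E5694 (iv F32891)))
theorem E5818 : n2623 = n1431 := (((D1431).symm.trans (sb E5696 F14044))).symm
theorem E5819 : n2624 = n1430 := (((D1430).symm.trans (sb E5697 F14049))).symm
theorem F38857 : act 7 n1921 = n1429 := (sb E5700 (iv D1953))
theorem F38858 : act 4 n1950 = n2619 := (sb E5707 F14131)
theorem F38859 : act 6 n1949 = n2619 := (sb E5708 F14136)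
theorem E5834 : n9187 = n4977 := (((D4977).symm.trans (sb E5712 (iv F34808)))).symm
theorem E5836 : n9190 = n4975 := (((D4975).symm.trans (sb E5713 (iv F34816)))).symm
theorem F38860 : act 6 n3634 = n4889 := (sb E5713 F25694)
theorem E5839 : n9347 = n9193 := ((((iv F34828)).symm.trans (sb E5715 D9347))).symm
theorem E5846 : n2579 = n1607 := (((D1607).symm.trans (sb E5720 F13898))).symm
theorem F38861 : act 3 n1890 = n1606 := (sb E5722 (iv D2185))
theorem F38862 : act 6 n2183 = n2576 := (sb E5726 (iv D3516))
theorem F38863 : act 3 n1897 = n1443 := (sb E5733 (iv D1971))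
theorem F38864 : act 2 n6140 = n5011 := (sb E5741 F26280)
theorem E5867 : n9416 = n8413 := (((D8413).symm.trans (sb E5741 D9416))).symm
theorem E5868 : n6776 = n6661 := (((D6661).symm.trans (sb E5743 F34904))).symm
theorem E5869 : n6778 = n6660 := (((D6660).symm.trans (sb E5744 F34912))).symm
theorem F38865 : act 7 n4949 = n6659 := (sb E5745 (iv D9134))
theorem F38866 : act 6 n9141 = n6775 := (sb E5746 F35184)
theorem F38867 : act 4 n4947 = n6663 := (sb E5747 F34621)
theorem F38868 : act 6 n4946 = n6663 := (sb E5748 F34631)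
theorem E5871 : n3629 = n3564 := (((D3564).symm.trans (sb E5754 F19144))).symm
theorem F38869 : act 4 n2655 = n3566 := (sb E5755 F18979)
theorem E5875 : n3628 = n3565 := (((D3565).symm.trans (sb E5757 F19138))).symm
theorem F38870 : act 6 n2654 = n3566 := (sb E5758 F18985)
theorem E5876 : n6797 = n6671 := (((D6671).symm.trans (sb E5762 (iv F26051)))).symm
theorem F38871 : act 6 n4869 = n3623 := (sb E5762 F19283)
theorem F38872 : act 8 n4869 = n3621 := (sb E5762 (iv D4960))
theorem E5877 : n6795 = n6673 := (((D6673).symm.trans (sb E5767 (iv F26044)))).symm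
theorem F38873 : act 4 n4870 = n3623 := (sb E5767 F19274)
theorem F38874 : act 8 n4870 = n3620 := (sb E5767 (iv D4958))
theorem F38875 : act 6 n4957 = n6676 := (sb E5768 F34701)
theorem F38876 : act 3 n9160 = n6796 := (sb E5770 F35274)
theorem F38877 : act 6 n9160 = n6794 := (sb E5770 F35275)
theorem F38878 : act 6 n2961 = n3512 := (sb E5772 (iv D4801))
theorem F38879 : act 2 n8401 = n6845 := (sb E5777 F35508)
theorem F38880 : act 7 n2656 = n3563 := (sb E5778 (iv D4876))
theorem E5882 : n1954 = n1920 := (((D1920).symm.trans (sb E5783 F10628))).symm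
theorem E5883 : n1955 = n1919 := (((D1919).symm.trans (sb E5784 F10633))).symm
theorem F38881 : act 7 n1432 = n1918 := (sb E5787 (iv D2621))
theorem F38882 : act 4 n2618 = n1951 := (sb E5795 F10704)
theorem F38883 : act 8 n2618 = n1949 := (sb E5795 (iv D2667))
theorem E5892 : n3577 = n1992 := ((D3577).symm.trans (sb E5796 F10707))
theorem F38884 : act 6 n2617 = n1951 := (sb E5796 F10709)
theorem F38885 : act 8 n2617 = n1950 := (sb E5796 (iv D2668))
theorem E5895 : n6817 = n6202 := (((D6202).symm.trans (sb E5806 F35073))).symm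
theorem E5896 : n6816 = n6695 := (((D6695).symm.trans (sb E5807 (iv F26115)))).symm
theorem F38886 : act 8 n4886 = n3634 := (sb E5807 (iv D4976))
theorem E5897 : n6692 = n3695 := ((D6692).symm.trans (sb E5808 F19338))
theorem E5898 : n6819 = n6693 := (((D6693).symm.trans (sb E5808 (iv F26121)))).symm
theorem F38887 : act 6 n4884 = n3639 := (sb E5808 F19341)
theorem F38888 : act 8 n4884 = n3636 := (sb E5808 (iv D4978))
theorem F38889 : act 2 n9149 = n6901 := (sb E5812 F35299)
theorem F38890 : act 6 n9149 = n6800 := (sb E5812 F35301)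
theorem F38891 : act 2 n5052 = n6687 := (sb E5813 (iv D9176))
theorem F38892 : act 2 n9177 = n6910 := (sb E5814 F35377)
theorem F38893 : act 6 n9177 = n6823 := (sb E5814 F35379)
theorem F38894 : act 1 n8650 = n6810 := (sb E5815 F34776)
theorem F38895 : act 3 n8650 = n6688 := (sb E5815 F34777)
theorem F38896 : act 8 n8650 = n6687 := (sb E5815 (iv D9178))
theorem F38897 : act 4 n1431 = n1921 := (sb E5818 F10546)
theorem F38898 : act 6 n1430 = n1921 := (sb E5819 F10552)
theorem F38899 : act 3 n4977 = n6698 := (sb E5834 F34807)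
theorem F38900 : act 6 n4975 = n6698 := (sb E5836 F34817)
theorem F38901 : act 3 n9193 = n6818 := (sb E5839 F35355)
theorem E5908 : n2186 = n1891 := ((D2186).symm.trans (sb E5846 F10373))
theorem F38902 : act 6 n1607 = n1890 := (sb E5846 (iv D2579))
theorem F38903 : act 2 n8413 = n6864 := (sb E5867 F35603)
theorem E5913 : n9299 = n9137 := (((D9137).symm.trans (sb E5868 (iv F35195)))).symm
theorem F38904 : act 4 n6661 = n4949 := (sb E5868 F25982)
theorem F38905 : act 8 n6661 = n4946 := (sb E5868 (iv D6776))
theorem E5914 : n9302 = n9135 := (((D9135).symm.trans (sb E5869 (iv F35204)))).symm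
theorem F38906 : act 6 n6660 = n4949 := (sb E5869 F25990)
theorem F38907 : act 8 n6660 = n4947 := (sb E5869 (iv D6778))
theorem E5916 : n4877 = n2709 := ((D4877).symm.trans (sb E5871 F14326))
theorem F38908 : act 6 n3564 = n2656 := (sb E5871 F14328)
theorem F38909 : act 8 n3564 = n2655 := (sb E5871 (iv D3629))
theorem F38910 : act 4 n3565 = n2656 := (sb E5875 F14322)
theorem F38911 : act 8 n3565 = n2654 := (sb E5875 (iv D3628))
theorem E5921 : n9154 = n5043 := ((D9154).symm.trans (sb E5876 F26050))
theorem E5922 : n9329 = n9155 := (((D9155).symm.trans (sb E5876 (iv F35296)))).symm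
theorem F38912 : act 6 n6671 = n4962 := (sb E5876 F26053)
theorem F38913 : act 8 n6671 = n4959 := (sb E5876 (iv D6797))
theorem E5923 : n9326 = n9157 := (((D9157).symm.trans (sb E5877 (iv F35287)))).symm
theorem F38914 : act 8 n6673 = n4957 := (sb E5877 (iv D6795))
theorem F38915 : act 4 n1920 = n1432 := (sb E5882 F8007)
theorem F38916 : act 8 n1920 = n1430 := (sb E5882 (iv D1954))
theorem E5929 : n2622 = n1465 := ((D2622).symm.trans (sb E5883 F8010))
theorem F38917 : act 6 n1919 = n1432 := (sb E5883 F8012)
theorem F38918 : act 8 n1919 = n1431 := (sb E5883 (iv D1955))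
theorem F38919 : act 3 n1992 = n2617 := (sb E5892 (iv D3577))
theorem E5942 : n9344 = n8504 := (((D8504).symm.trans (sb E5895 (iv F35346)))).symm
theorem F38920 : act 3 n6695 = n4980 := (sb E5896 F26114)
theorem E5943 : n9351 = n9189 := (((D9189).symm.trans (sb E5896 (iv F35368)))).symm
theorem F38921 : act 8 n6695 = n4975 := (sb E5896 (iv D6816))
theorem F38922 : act 2 n3695 = n4884 := (sb E5897 (iv D6692))
theorem E5944 : n9184 = n5051 := ((((iv F19617)).symm.trans (sb E5897 D9184))).symm
theorem E5945 : n9354 = n9186 := (((D9186).symm.trans (sb E5898 (iv F35376)))).symm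
theorem F38923 : act 6 n6693 = n4980 := (sb E5898 F26122)
theorem F38924 : act 8 n6693 = n4977 := (sb E5898 (iv D6819))
theorem F38925 : act 2 n1891 = n1607 := (sb E5908 (iv D2186))
theorem F38926 : act 8 n9137 = n6775 := (sb E5913 (iv D9299))
theorem F38927 : act 6 n9135 = n6781 := (sb E5914 F35206)
theorem F38928 : act 8 n9135 = n6777 := (sb E5914 (iv D9302))
theorem F38929 : act 3 n2709 = n3564 := (sb E5916 (iv D4877))
theorem F38930 : act 2 n5043 = n6671 := (sb E5921 (iv D9154))
theorem F38931 : act 2 n9155 = n6900 := (sb E5922 F35295)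
theorem F38932 : act 6 n9155 = n6799 := (sb E5922 F35297)
theorem F38933 : act 8 n9155 = n6796 := (sb E5922 (iv D9329))
theorem F38934 : act 3 n9157 = n6799 := (sb E5923 F35286)
theorem F38935 : act 8 n9157 = n6794 := (sb E5923 (iv D9326))
theorem F38936 : act 3 n1465 = n1919 := (sb E5929 (iv D2622))
theorem F38937 : act 7 n8504 = n6810 := (sb E5942 (iv D9344))
theorem F38938 : act 3 n9189 = n6822 := (sb E5943 F35366)
theorem F38939 : act 8 n9189 = n6815 := (sb E5943 (iv D9351))
theorem F38940 : act 2 n5051 = n6693 := (sb E5944 F34797)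
theorem F38941 : act 2 n9186 = n6909 := (sb E5945 F35374)
theorem F38942 : act 8 n9186 = n6818 := (sb E5945 (iv D9354))
theorem E5960 : n9474 = n8205 := (c38_13 F13194 F10512 (iv F14107) D4888 (iv F25683) (iv F38940) F19615 D6910 F26456 (iv F26463) F26462 D6915 D9474 F31291 (iv D5998) (iv D4390) F12807 (iv D3215) F9580 F7179 F5404 F5407 D1282 F5428 F5427 F5426 (iv F5449) (iv F7231) F7235 (iv D1747) (iv D1285) (iv D944) F3103 F2401 (iv D414) F1464 F1125 F1124 D234 F1136 F1135 (iv F1073) (iv F1400) F1399 D338 F1595 F1594 (iv F2109) (iv F2781) F2784 D628 (iv F3280) (iv F4294) (iv F5723) (iv F7619) F7618 D2533 F10207 F7625 F5716 D1855 (iv F9961) (iv F13191))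
theorem F38943 : act 2 n8205 = n6915 := (sb E5960 (iv D9474))
theorem F38944 : act 5 n8205 = n6916 := (sb E5960 F35824)
theorem E5961 : n6931 = n5993 := ((((iv D8205)).symm.trans (sb E5960 F35825))).symm
theorem E5962 : n9491 = n8192 := ((((iv F31237)).symm.trans (sb E5961 (iv F35898)))).symm
theorem E5963 : n9496 = n4390 := (((F23148).symm.trans (sb E5961 D9496))).symm
theorem E5964 : n8197 = n5070 := (((iv F31258)).symm.trans (sb E5961 (iv D6931)))
theorem E5966 : n8204 = n5071 := ((D8204).symm.trans (sb E5961 F26547))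
theorem F38945 : act 2 n8192 = n6928 := (sb E5962 (iv D9491))
theorem F38946 : act 5 n8192 = n6929 := (sb E5962 F35900)
theorem E5968 : n6933 = n5997 := (((D5997).symm.trans (sb E5963 F35920))).symm
theorem F38947 : act 2 n5070 = n5993 := (sb E5964 F31258)
theorem E5969 : n6932 = n5989 := ((D6932).symm.trans (sb E5964 F31259))
theorem E5970 : n6930 = n5988 := (((iv F26544)).symm.trans (sb E5964 (iv D8197)))
theorem F38948 : act 5 n5071 = n5993 := (sb E5966 (iv D8204))
theorem F38949 : act 1 n5997 = n5071 := (sb E5968 (iv D6933))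
theorem E5972 : n9476 = n8209 := (((D8209).symm.trans (sb E5968 (iv F35832)))).symm
theorem E5973 : n9492 = n8188 := ((((iv F31220)).symm.trans (sb E5969 (iv F35902)))).symm
theorem F38950 : act 4 n5989 = n5070 := (sb E5969 (iv D6932))
theorem E5975 : n9475 = n8199 := (((D8199).symm.trans (sb E5969 (iv F35828)))).symm
theorem E5976 : n9490 = n8187 := ((((iv F31216)).symm.trans (sb E5970 (iv F35894)))).symm
theorem E5977 : n8196 = n5069 := ((D8196).symm.trans (sb E5970 (iv D6930)))
theorem F38951 : act 6 n5988 = n5070 := (sb E5970 F26544)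
theorem E5978 : n9473 = n8198 := (((D8198).symm.trans (sb E5970 (iv F35823)))).symm
theorem F38952 : act 1 n8209 = n6916 := (sb E5972 (iv D9476))
theorem F38953 : act 4 n8188 = n6928 := (sb E5973 (iv D9492))
theorem F38954 : act 4 n8199 = n6915 := (sb E5975 (iv D9475))
theorem F38955 : act 3 n8187 = n6927 := (sb E5976 (iv D9490))
theorem F38956 : act 6 n8187 = n6928 := (sb E5976 F35896)
theorem F38957 : act 3 n5069 = n5988 := (sb E5977 (iv D8196))
theorem F38958 : act 3 n8198 = n6914 := (sb E5978 (iv D9473))
theorem F38959 : act 6 n8198 = n6915 := (sb E5978 F35822)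
theorem F38960 : act 0 n9493 = n8413 := d0_3 F38949 (iv F26537) D9493 F32070 F23720
theorem F38961 : act 2 n9391 = n9493 := d1_0 F38960 F38903 (iv F35511)
theorem F38962 : act 5 n8401 = n9493 := d4_0 F38960 (iv D8413) (iv F32017)
theorem F38963 : act 1 n9489 = n9391 := d8_5 F38961 (iv D9493) (iv D6929) (iv F26524) D9489
theorem F38964 : act 6 n9391 = n9391 := d18_0 F38961 F35908 (iv F38961)
theorem F38965 : act 3 n9375 = n9489 := d9_0 F38963 F35512 (iv F35451)
theorem F38966 : act 5 n9371 = n9489 := d11_0 F38963 (iv D9391) (iv F35433)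
theorem F38967 : act 2 n9488 = n9371 := d17_3 F38966 (iv D9489) (iv F35888)
theorem F38968 : act 3 n9374 = n9484 := d15_4 D9488 F38967 F35434 (iv F35448) F35866
theorem F38969 : act 4 n9370 = n9488 := d16_0 F38967 (iv D9371) D9370
theorem F38970 : act 1 n8188 = n9370 := d10_3 F38969 F35887 (iv F38953)
theorem F38971 : act 6 n9370 = n8185 := d12_2 D8188 F38970 F31209
theorem F38972 : act 5 n9485 = n9374 := d22_0 F38968 F35868 D9485
theorem F38973 : act 2 n9375 = n9485 := d17_3 F38972 F35448 D9375
theorem F38974 : act 4 n9377 = n9485 := d26_5 F38972 (iv D9374) F26176 D6836 D9377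
theorem F38975 : act 3 n9486 = n9377 := d21_5 F38974 (iv D9485) F26503 D6923 D9486
theorem F38976 : act 6 n9377 = n9377 := d27_0 F38974 F35872 (iv F38974)
theorem F38977 : act 5 n9376 = n9486 := d22_0 F38975 (iv D9377) D9376
theorem F38978 : act 6 n9375 = n9375 := d18_0 F38973 F35872 (iv F38973)
theorem F38979 : act 5 n9373 = n9373 := d30_3 F38978 (iv D9375) (iv F35444) F35444 D9375
theorem F38980 : act 6 n8797 = n7742 := d38_1 (iv F33413) (iv F32202) F38789 (iv D6245) F17859 F13280 (iv D2451) (iv D1794) (iv D1316) F4187 (iv D903) F2977 F2265 F2267 F1738 D502 F2291 F1750 F38441 F1428 F1146 (iv D236) (iv D173) (iv D125) (iv D87) F315 F235 (iv D43) F170 F139 F113 F112 F85 F84 F88 F87 (iv F103) F102 (iv F138) (iv F180) (iv F249) D67 (iv F419) F418 (iv F588) D161 D219 D295 (iv F1842) F1841 F1589 D456 D619 D839 F3670 D1144 (iv F5672) (iv F7558) (iv F10118) D3424 D4686 D6417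
theorem E5979 : n9268 = n8365 := (c23_3 (iv F31931) F38788 D9268 F31884)
theorem F38981 : act 4 n8365 = n6754 := (sb E5979 F35085)
theorem F38982 : act 6 n8365 = n6751 := (sb E5979 (iv D9268))
theorem E5980 : n9111 = n8366 := (c10_2 F38981 (iv F34527) (iv D8366) D8365)
theorem F38983 : act 1 n8366 = n6754 := (sb E5980 F34527)
theorem F38984 : act 6 n8366 = n6643 := (sb E5980 (iv D9111))
theorem F38985 : act 7 n7501 = n7501 := d24_2 F38703 (iv F28656) F28656 (iv F38703) F25186
theorem F38986 : act 6 n8663 = n7730 := d27_2 F38548 (iv F32930) F29599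
theorem F38987 : act 6 n8525 = n7758 := d12_2 F38547 (iv F32483) F29696
theorem F38988 : act 6 n8526 = n7765 := d33_3 (iv D7765) F38547 D8526
theorem F38989 : act 0 n8523 = n8526 := d5_3 F38988 F29722 (iv F32478)
theorem F38990 : act 2 n7765 = n8523 := d18_1 F38988 F32478 (iv F32486)
theorem F38991 : act 6 n8524 = n7738 := d5_2 F38543 D8524 F29627
theorem F38992 : act 6 n8515 = n7757 := d18_2 F38543 (iv F32453) (iv D7757)
theorem F38993 : act 1 n7757 = n8513 := d12_1 F38992 F32447 D8515
theorem F38994 : act 1 n8489 = n8524 := d12_3 F38991 F29628 (iv F32370)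
theorem F38995 : act 6 n8881 = n7771 := d12_2 F38489 (iv F33689) F29740
theorem F38996 : act 6 n8628 = n7780 := d27_2 F38489 (iv F32845) F29770
theorem F38997 : act 2 n8596 = n8881 := d18_3 F38995 F29741 (iv F32743)
theorem F38998 : act 6 n8859 = n7770 := d12_2 F38488 D8859 F29737
theorem F38999 : act 6 n8627 = n7768 := d27_2 F38487 (iv F32841) F29732
theorem F39000 : act 2 n8592 = n8627 := d18_3 F38999 F29731 (iv F32733)
theorem F39001 : act 6 n8789 = n7723 := d27_2 F38486 (iv F33390) (iv D7723)
theorem F39002 : act 2 n8467 = n8789 := d18_3 F39001 F29573 D8467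
theorem F39003 : act 6 n8644 = n7802 := d23_2 F38465 (iv F32878) F29835
theorem F39004 : act 2 n7802 = n8641 := d18_1 F39003 F32873 (iv F32877)
theorem F39005 : act 6 n8612 = n7779 := d5_2 F38464 (iv F32789) F29767
theorem F39006 : act 6 n8642 = n7745 := d12_2 F38464 D8642 F29653
theorem F39007 : act 6 n8634 = n7795 := d33_3 F29823 F38464 (iv F32860)
theorem F39008 : act 2 n7795 = n8632 := d18_1 F39007 F32854 D8634
theorem F39009 : act 2 n7779 = n8610 := d18_1 F39005 F32784 D8612
theorem F39010 : act 6 n8806 = n7728 := d23_2 F38459 (iv F33439) (iv D7728)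
theorem F39011 : act 6 n8780 = n7766 := d23_2 F38361 (iv F33364) (iv D7766)
theorem F39012 : act 6 n8775 = n7844 := d5_2 F38324 (iv F33347) F29977
theorem F39013 : act 6 n8798 = n7796 := d18_2 F38324 (iv F33414) F29824
theorem F39014 : act 3 n7844 = n8773 := d23_1 F39012 F33343 (iv F33348)
theorem F39015 : act 6 n8774 = n7776 := d5_2 F38322 (iv F33344) F29757
theorem F39016 : act 6 n8763 = n7829 := d12_2 F38235 (iv F33308) F29919
theorem F39017 : act 3 n7829 = n8762 := d23_1 F39016 F33306 D8763
theorem F39018 : act 6 n8768 = n7827 := d18_2 F38121 D8768 (iv D7827)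
theorem F39019 : act 3 n8759 = n8768 := d23_3 F39018 F29912 D8759
theorem F39020 : act 5 n8342 = n7516 := d4_2 F38041 (iv F31799) F28719
theorem F39021 : act 7 n7516 = n7516 := d31_2 F31802 F39020 (iv F39020)
theorem F39022 : act 7 n9375 = n7566 := d13_2 F37920 (iv F35451) F28923
theorem F39023 : act 5 n7566 = n8687 := d31_1 F39022 F33018 D9375
theorem F39024 : act 7 n8330 = n7509 := d19_2 F37869 (iv F31755) (iv D7509)
theorem F39025 : act 4 n7509 = n7509 := d28_1 F39024 (iv F39024) F31756
theorem F39026 : act 7 n9377 = n7562 := d19_2 F37760 (iv F35463) F28906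
theorem F39027 : act 4 n8690 = n7499 := d16_2 F37709 (iv F33032) F28647
theorem F39028 : act 7 n7499 = n7499 := d28_2 F33035 F39027 (iv F39027)
def n9871 : Q := act 5 n7499
theorem D9871 : act 5 n7499 = n9871 := rfl
theorem F39029 : act 0 n9871 = n9871 := d4_1 D9871 (iv D9871) F28645
theorem F39030 : act 1 n9871 = n9871 := d11_1 D9871 (iv D9871) F28646
theorem F39031 : act 2 n9871 = n7501 := d17_1 D9871 (iv D7501) (iv F28647)
theorem F39032 : act 3 n9871 = n9871 := d22_1 D9871 (iv D9871) F28648
theorem F39033 : act 6 n9871 = n9871 := d30_2 D7499 D9871 (iv D9871) (iv D7499) F21233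
theorem F39034 : act 7 n9871 = n9871 := d31_2 F39028 D9871 (iv D9871)
theorem F39035 : act 8 n9871 = n7562 := d32_2 (iv F28649) D9871 (iv D7562)
def n9872 : Q := act 4 n7501
theorem D9872 : act 4 n7501 = n9872 := rfl
theorem F39036 : act 0 n9872 = n9872 := d3_1 D9872 (iv D9872) F28654
theorem F39037 : act 1 n9872 = n7516 := d10_1 D9872 (iv D7516) (iv F28655)
theorem F39038 : act 6 n9872 = n9872 := d27_2 F28657 D9872 (iv D9872)
theorem F39039 : act 7 n9872 = n9872 := d28_2 F38985 D9872 (iv D9872)
theorem F39040 : act 8 n9872 = n7566 := d29_2 (iv F28658) D9872 (iv D7566)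
def n9873 : Q := act 4 n7562
theorem D9873 : act 4 n7562 = n9873 := rfl
theorem F39041 : act 0 n9873 = n9873 := d3_1 D9873 (iv D9873) F28904
theorem F39042 : act 1 n9873 = n9873 := d10_1 D9873 (iv D9873) F28905
theorem F39043 : act 2 n9873 = n7566 := d16_1 D9873 (iv D7566) (iv F28906)
theorem F39044 : act 6 n9873 = n9873 := d27_2 F28908 D9873 (iv D9873)
theorem F39045 : act 7 n9873 = n9485 := d28_2 F39026 D9873 (iv F38974)
theorem F39046 : act 3 n9482 = n9873 := d24_5 F39045 (iv D9485) (iv D6922) (iv F26486) D9482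
def n9874 : Q := act 3 n7723
theorem D9874 : act 3 n7723 = n9874 := rfl
theorem F39047 : act 0 n9874 = n7766 := d2_1 D9874 (iv D7766) (iv F29571)
theorem F39048 : act 1 n9874 = n7728 := d9_1 D9874 (iv D7728) (iv F29572)
theorem F39049 : act 4 n9874 = n9874 := d21_2 D7723 D9874 (iv D9874) (iv D7723) F21927
def n9875 : Q := act 7 n7723
theorem D9875 : act 7 n7723 = n9875 := rfl
theorem F39050 : act 0 n9875 = n7768 := d6_1 D9875 (iv D7768) (iv F29571)
theorem F39051 : act 1 n9875 = n7730 := d13_1 D9875 (iv D7730) (iv F29572)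
theorem F39052 : act 2 n9875 = n8468 := d19_1 D9875 (iv D8468) (iv F29573)
theorem F39053 : act 4 n9875 = n7725 := d28_1 D9875 (iv D7725) D7723
def n9876 : Q := act 3 n7725
theorem D9876 : act 3 n7725 = n9876 := rfl
theorem F39054 : act 0 n9876 = n7770 := d2_1 D9876 (iv D7770) (iv F29579)
theorem F39055 : act 1 n9876 = n7732 := d9_1 D9876 (iv D7732) (iv F29580)
theorem F39056 : act 5 n9876 = n7726 := d22_2 (iv F29582) D9876 (iv D7726)
theorem F39057 : act 7 n9876 = n9876 := d24_2 D7725 D9876 (iv D9876) (iv D7725) F21927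
def n9877 : Q := act 8 n7725
theorem D9877 : act 8 n7725 = n9877 := rfl
theorem F39058 : act 0 n9877 = n7771 := d7_1 D9877 (iv D7771) (iv F29579)
theorem F39059 : act 1 n9877 = n7733 := d14_1 D9877 (iv D7733) (iv F29580)
theorem F39060 : act 2 n9877 = n8471 := d20_1 D9877 (iv D8471) (iv F29581)
theorem F39061 : act 5 n9877 = n7727 := d32_1 D9877 (iv D7727) (iv F29582)
def n9878 : Q := act 2 n7726
theorem D9878 : act 2 n7726 = n9878 := rfl
theorem F39062 : act 0 n9878 = n7772 := d1_1 D9878 (iv D7772) (iv F29583)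
theorem F39063 : act 1 n9878 = n9878 := d8_1 D9878 (iv D9878) F29584 F21942 (iv F29584)
theorem F39064 : act 3 n9878 = n8472 := d15_2 D7726 D9878 (iv D8472) (iv D6181) (iv F21930)
theorem F39065 : act 6 n9878 = n9878 := d18_2 F29585 D9878 (iv D9878)
theorem F39066 : act 7 n9878 = n9878 := d19_2 F29586 D9878 (iv D9878)
def n9879 : Q := act 4 n7726
theorem D9879 : act 4 n7726 = n9879 := rfl
theorem F39067 : act 0 n9879 = n7773 := d3_1 D9879 (iv D7773) (iv F29583)
theorem F39068 : act 1 n9879 = n7734 := d10_1 D9879 (iv D7734) (iv F29584)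
theorem F39069 : act 6 n9879 = n9879 := d27_2 F29585 D9879 (iv D9879)
theorem F39070 : act 7 n9879 = n9879 := d28_2 F29586 D9879 (iv D9879)
def n9880 : Q := act 8 n7726
theorem D9880 : act 8 n7726 = n9880 := rfl
theorem F39071 : act 0 n9880 = n7774 := d7_1 D9880 (iv D7774) (iv F29583)
theorem F39072 : act 1 n9880 = n7735 := d14_1 D9880 (iv D7735) (iv F29584)
theorem F39073 : act 3 n9880 = n7727 := d25_1 D9880 (iv D7727) D7726
theorem F39074 : act 6 n9880 = n9880 := d34_1 D9880 (iv D9880) F29585
def n9881 : Q := act 7 n7728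
theorem D9881 : act 7 n7728 = n9881 := rfl
theorem F39075 : act 0 n9881 = n7742 := d6_1 D9881 (iv D7742) (iv F29591)
theorem F39076 : act 2 n9881 = n9881 := d19_1 D9881 (iv D9881) F29592
theorem F39077 : act 4 n9881 = n9881 := d28_1 D9881 (iv D9881) F29593
def n9882 : Q := act 3 n7730
theorem D9882 : act 3 n7730 = n9882 := rfl
theorem F39078 : act 0 n9882 = n7745 := d2_1 D9882 (iv D7745) (iv F29597)
def n9883 : Q := act 8 n7730
theorem D9883 : act 8 n7730 = n9883 := rfl
theorem F39079 : act 0 n9883 = n7746 := d7_1 D9883 (iv D7746) (iv F29597)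
theorem F39080 : act 2 n9883 = n7739 := d20_1 D9883 (iv D7739) (iv F29598)
theorem F39081 : act 4 n9883 = n7733 := d29_1 D9883 (iv D7733) (iv F29599)
def n9884 : Q := act 4 n7732
theorem D9884 : act 4 n7732 = n9884 := rfl
theorem F39082 : act 0 n9884 = n7749 := d3_1 D9884 (iv D7749) (iv F29604)
theorem F39083 : act 2 n9884 = n9884 := d16_1 D9884 (iv D9884) F29605
theorem F39084 : act 7 n9884 = n9884 := d28_2 F29607 D9884 (iv D9884)
def n9885 : Q := act 8 n7732
theorem D9885 : act 8 n7732 = n9885 := rfl
theorem F39085 : act 0 n9885 = n7750 := d7_1 D9885 (iv D7750) (iv F29604)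
theorem F39086 : act 2 n9885 = n9885 := d20_1 D9885 (iv D9885) F29605
theorem F39087 : act 3 n9885 = n7733 := d25_1 D9885 (iv D7733) D7732
theorem F39088 : act 5 n9885 = n7735 := d32_1 D9885 (iv D7735) (iv F29606)
def n9886 : Q := act 5 n7734
theorem D9886 : act 5 n7734 = n9886 := rfl
theorem F39089 : act 0 n9886 = n7751 := d4_1 D9886 (iv D7751) (iv F29611)
theorem F39090 : act 2 n9886 = n9886 := d17_1 D9886 (iv D9886) F29612
theorem F39091 : act 7 n9886 = n9886 := d31_2 F29614 D9886 (iv D9886)
def n9887 : Q := act 8 n7734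
theorem D9887 : act 8 n7734 = n9887 := rfl
theorem F39092 : act 0 n9887 = n7752 := d7_1 D9887 (iv D7752) (iv F29611)
theorem F39093 : act 2 n9887 = n9887 := d20_1 D9887 (iv D9887) F29612
theorem F39094 : act 4 n9887 = n7735 := d29_1 D9887 (iv D7735) D7734
theorem F39095 : act 6 n9887 = n9887 := d34_1 D9887 (iv D9887) F29613
def n9888 : Q := act 7 n7735
theorem D9888 : act 7 n7735 = n9888 := rfl
theorem F39096 : act 0 n9888 = n7753 := d6_1 D9888 (iv D7753) (iv F29615)
theorem F39097 : act 2 n9888 = n9888 := d19_1 D9888 (iv D9888) F29616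
theorem F39098 : act 6 n9888 = n9888 := d33_1 D9888 (iv D9888) F29618
theorem F39099 : act 8 n9888 = n9888 := d35_2 D7735 D9888 (iv D9888) (iv D7735) F21944
def n9889 : Q := act 2 n7738
theorem D9889 : act 2 n7738 = n9889 := rfl
theorem F39100 : act 0 n9889 = n7757 := d1_1 D9889 (iv D7757) (iv F29627)
theorem F39101 : act 4 n9889 = n9889 := d16_2 F29629 D9889 (iv D9889)
theorem F39102 : act 7 n9889 = n9889 := d19_2 F29630 D9889 (iv D9889)
def n9890 : Q := act 8 n7738
theorem D9890 : act 8 n7738 = n9890 := rfl
theorem F39103 : act 0 n9890 = n7758 := d7_1 D9890 (iv D7758) (iv F29627)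
theorem F39104 : act 1 n9890 = n8492 := d14_1 D9890 (iv D8492) (iv F29628)
theorem F39105 : act 3 n9890 = n7739 := d25_1 D9890 (iv D7739) D7738
theorem F39106 : act 4 n9890 = n9890 := d29_1 D9890 (iv D9890) F29629
def n9891 : Q := act 3 n7742
theorem D9891 : act 3 n7742 = n9891 := rfl
theorem F39107 : act 1 n9891 = n7795 := d9_1 D9891 (iv D7795) (iv F29643)
theorem F39108 : act 7 n9891 = n7745 := d24_2 D7742 D9891 (iv D7745) (iv D5666) D5664
def n9892 : Q := act 8 n7742
theorem D9892 : act 8 n7742 = n9892 := rfl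
theorem F39109 : act 1 n9892 = n7796 := d14_1 D9892 (iv D7796) (iv F29643)
theorem F39110 : act 2 n9892 = n9892 := d20_1 D9892 (iv D9892) F29644
theorem F39111 : act 4 n9892 = n9892 := d29_1 D9892 (iv D9892) F29645
def n9893 : Q := act 2 n7745
theorem D9893 : act 2 n7745 = n9893 := rfl
theorem F39112 : act 3 n9893 = n7757 := d15_2 D7745 D9893 (iv D7757) (iv D5674) (iv F21971)
def n9894 : Q := act 4 n7745
theorem D9894 : act 4 n7745 = n9894 := rfl
theorem F39113 : act 1 n9894 = n7801 := d10_1 D9894 (iv D7801) (iv F29653)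
theorem F39114 : act 3 n9894 = n7749 := d21_1 D9894 (iv D7749) (iv D5668) (iv F21972) D7745
def n9895 : Q := act 8 n7745
theorem D9895 : act 8 n7745 = n9895 := rfl
theorem F39115 : act 1 n9895 = n7802 := d14_1 D9895 (iv D7802) (iv F29653)
theorem F39116 : act 3 n9895 = n7746 := d25_1 D9895 (iv D7746) D7745
def n9896 : Q := act 5 n7749
theorem D9896 : act 5 n7749 = n9896 := rfl
theorem F39117 : act 1 n9896 = n7805 := d11_1 D9896 (iv D7805) (iv F29666)
theorem F39118 : act 2 n9896 = n9896 := d17_1 D9896 (iv D9896) F29667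
theorem F39119 : act 4 n9896 = n7751 := d26_1 D9896 (iv D7751) (iv D5670) (iv F21979) D7749
theorem F39120 : act 7 n9896 = n9896 := d31_2 F29668 D9896 (iv D9896)
def n9897 : Q := act 8 n7749
theorem D9897 : act 8 n7749 = n9897 := rfl
theorem F39121 : act 1 n9897 = n7806 := d14_1 D9897 (iv D7806) (iv F29666)
theorem F39122 : act 2 n9897 = n9897 := d20_1 D9897 (iv D9897) F29667
theorem F39123 : act 4 n9897 = n7750 := d29_1 D9897 (iv D7750) D7749
def n9898 : Q := act 7 n7750
theorem D9898 : act 7 n7750 = n9898 := rfl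
theorem F39124 : act 1 n9898 = n7807 := d13_1 D9898 (iv D7807) (iv F29669)
theorem F39125 : act 2 n9898 = n9898 := d19_1 D9898 (iv D9898) F29670
theorem F39126 : act 5 n9898 = n7753 := d31_1 D9898 (iv D7753) (iv F29672)
theorem F39127 : act 8 n9898 = n9898 := d35_2 D7750 D9898 (iv D9898) (iv D7750) F21980
def n9899 : Q := act 6 n7751
theorem D9899 : act 6 n7751 = n9899 := rfl
theorem F39128 : act 1 n9899 = n7808 := d12_1 D9899 (iv D7808) (iv F29673)
theorem F39129 : act 2 n9899 = n9899 := d18_1 D9899 (iv D9899) F29674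
theorem F39130 : act 5 n9899 = n9899 := d30_1 D9899 (iv D9899) (iv D7751) F21986 D7751
theorem F39131 : act 7 n9899 = n9899 := d33_2 F29675 D9899 (iv D9899)
def n9900 : Q := act 8 n7751
theorem D9900 : act 8 n7751 = n9900 := rfl
theorem F39132 : act 1 n9900 = n7809 := d14_1 D9900 (iv D7809) (iv F29673)
theorem F39133 : act 2 n9900 = n9900 := d20_1 D9900 (iv D9900) F29674
theorem F39134 : act 5 n9900 = n7752 := d32_1 D9900 (iv D7752) D7751
def n9901 : Q := act 7 n7752
theorem D9901 : act 7 n7752 = n9901 := rfl
theorem F39135 : act 1 n9901 = n7810 := d13_1 D9901 (iv D7810) (iv F29676)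
theorem F39136 : act 2 n9901 = n9901 := d19_1 D9901 (iv D9901) F29677
theorem F39137 : act 4 n9901 = n7753 := d28_1 D9901 (iv D7753) (iv F29678)
theorem F39138 : act 6 n9901 = n9901 := d33_1 D9901 (iv D9901) F29679
theorem F39139 : act 8 n9901 = n9901 := d35_2 D7752 D9901 (iv D9901) (iv D7752) F21987
def n9902 : Q := act 8 n7757
theorem D9902 : act 8 n7757 = n9902 := rfl
theorem F39140 : act 2 n9902 = n7758 := d20_1 D9902 (iv D7758) D7757
theorem F39141 : act 4 n9902 = n9902 := d29_1 D9902 (iv D9902) F29694
def n9903 : Q := act 7 n7758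
theorem D9903 : act 7 n7758 = n9903 := rfl
theorem F39142 : act 1 n9903 = n7765 := d13_1 D9903 (iv D7765) (iv F29696)
theorem F39143 : act 4 n9903 = n9903 := d28_1 D9903 (iv D9903) F29698
theorem F39144 : act 8 n9903 = n9903 := d35_2 D7758 D9903 (iv D9903) (iv D7758) F22000
def n9904 : Q := act 2 n7766
theorem D9904 : act 2 n7766 = n9904 := rfl
theorem F39145 : act 1 n9904 = n7827 := d8_1 D9904 (iv D7827) F22159 (iv F22042) (iv F29725)
theorem F39146 : act 3 n9904 = n8588 := d15_2 D7766 D9904 (iv D8588) (iv D6264) (iv F22027)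
theorem F39147 : act 4 n9904 = n9904 := d16_2 F29726 D9904 (iv D9904)
def n9905 : Q := act 7 n7766
theorem D9905 : act 7 n7766 = n9905 := rfl
theorem F39148 : act 1 n9905 = n7776 := d13_1 D9905 (iv D7776) (iv F29725)
theorem F39149 : act 4 n9905 = n9905 := d28_1 D9905 (iv D9905) F29726
def n9906 : Q := act 3 n7768
theorem D9906 : act 3 n7768 = n9906 := rfl
theorem F39150 : act 1 n9906 = n7779 := d9_1 D9906 (iv D7779) (iv F29730)
def n9907 : Q := act 8 n7768
theorem D9907 : act 8 n7768 = n9907 := rfl
theorem F39151 : act 1 n9907 = n7780 := d14_1 D9907 (iv D7780) (iv F29730)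
theorem F39152 : act 2 n9907 = n8594 := d20_1 D9907 (iv D8594) (iv F29731)
theorem F39153 : act 4 n9907 = n7771 := d29_1 D9907 (iv D7771) (iv F29732)
def n9908 : Q := act 2 n7770
theorem D9908 : act 2 n7770 = n9908 := rfl
theorem F39154 : act 1 n9908 = n7920 := d8_1 D9908 (iv D7920) F22379 (iv F22055) (iv F29737)
theorem F39155 : act 3 n9908 = n8597 := d15_2 D7770 D9908 (iv D8597) (iv D6268) (iv F22033)
theorem F39156 : act 5 n9908 = n7772 := d17_2 (iv F29738) D9908 (iv D7772)
theorem F39157 : act 7 n9908 = n9908 := d19_2 F29739 D9908 (iv D9908)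
def n9909 : Q := act 4 n7770
theorem D9909 : act 4 n7770 = n9909 := rfl
theorem F39158 : act 1 n9909 = n7783 := d10_1 D9909 (iv D7783) (iv F29737)
theorem F39159 : act 7 n9909 = n9909 := d28_2 F29739 D9909 (iv D9909)
def n9910 : Q := act 8 n7770
theorem D9910 : act 8 n7770 = n9910 := rfl
theorem F39160 : act 1 n9910 = n7784 := d14_1 D9910 (iv D7784) (iv F29737)
theorem F39161 : act 3 n9910 = n7771 := d25_1 D9910 (iv D7771) D7770
theorem F39162 : act 5 n9910 = n7774 := d32_1 D9910 (iv D7774) (iv F29738)
def n9911 : Q := act 4 n7772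
theorem D9911 : act 4 n7772 = n9911 := rfl
theorem F39163 : act 1 n9911 = n7923 := d10_1 D9911 (iv D7923) (iv F29743)
theorem F39164 : act 2 n9911 = n7773 := d16_1 D9911 (iv D7773) D7772
theorem F39165 : act 6 n9911 = n9911 := d27_2 F29745 D9911 (iv D9911)
theorem F39166 : act 7 n9911 = n9911 := d28_2 F29746 D9911 (iv D9911)
def n9912 : Q := act 8 n7772
theorem D9912 : act 8 n7772 = n9912 := rfl
theorem F39167 : act 1 n9912 = n7924 := d14_1 D9912 (iv D7924) (iv F29743)
theorem F39168 : act 2 n9912 = n7774 := d20_1 D9912 (iv D7774) D7772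
theorem F39169 : act 3 n9912 = n8601 := d25_1 D9912 (iv D8601) (iv F29744)
theorem F39170 : act 6 n9912 = n9912 := d34_1 D9912 (iv D9912) F29745
def n9913 : Q := act 5 n7773
theorem D9913 : act 5 n7773 = n9913 := rfl
theorem F39171 : act 1 n9913 = n7785 := d11_1 D9913 (iv D7785) (iv F29747)
theorem F39172 : act 7 n9913 = n9913 := d31_2 F29749 D9913 (iv D9913)
def n9914 : Q := act 8 n7773
theorem D9914 : act 8 n7773 = n9914 := rfl
theorem F39173 : act 1 n9914 = n7786 := d14_1 D9914 (iv D7786) (iv F29747)
theorem F39174 : act 4 n9914 = n7774 := d29_1 D9914 (iv D7774) D7773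
theorem F39175 : act 6 n9914 = n9914 := d34_1 D9914 (iv D9914) F29748
def n9915 : Q := act 7 n7774
theorem D9915 : act 7 n7774 = n9915 := rfl
theorem F39176 : act 1 n9915 = n7787 := d13_1 D9915 (iv D7787) (iv F29750)
theorem F39177 : act 6 n9915 = n9915 := d33_1 D9915 (iv D9915) F29752
theorem F39178 : act 8 n9915 = n9915 := d35_2 D7774 D9915 (iv D9915) (iv D7774) F22037
def n9916 : Q := act 3 n7776
theorem D9916 : act 3 n7776 = n9916 := rfl
theorem F39179 : act 0 n9916 = n7795 := d2_1 D9916 (iv D7795) (iv F29757)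
theorem F39180 : act 7 n9916 = n7779 := d24_2 D7776 D9916 (iv D7779) (iv D5689) D5687
def n9917 : Q := act 8 n7776
theorem D9917 : act 8 n7776 = n9917 := rfl
theorem F39181 : act 0 n9917 = n7796 := d7_1 D9917 (iv D7796) (iv F29757)
theorem F39182 : act 2 n9917 = n7844 := d20_1 D9917 (iv D7844) (iv F29758)
theorem F39183 : act 4 n9917 = n9917 := d29_1 D9917 (iv D9917) F29759
def n9918 : Q := act 4 n7779
theorem D9918 : act 4 n7779 = n9918 := rfl
theorem F39184 : act 0 n9918 = n7801 := d3_1 D9918 (iv D7801) (iv F29767)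
theorem F39185 : act 3 n9918 = n7783 := d21_1 D9918 (iv D7783) (iv D5691) (iv F22049) D7779
def n9919 : Q := act 8 n7779
theorem D9919 : act 8 n7779 = n9919 := rfl
theorem F39186 : act 0 n9919 = n7802 := d7_1 D9919 (iv D7802) (iv F29767)
theorem F39187 : act 3 n9919 = n7780 := d25_1 D9919 (iv D7780) D7779
def n9920 : Q := act 5 n7783
theorem D9920 : act 5 n7783 = n9920 := rfl
theorem F39188 : act 0 n9920 = n7805 := d4_1 D9920 (iv D7805) (iv F29780)
theorem F39189 : act 2 n9920 = n7940 := d17_1 D9920 (iv D7940) (iv F29781)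
theorem F39190 : act 4 n9920 = n7785 := d26_1 D9920 (iv D7785) (iv D5693) (iv F22056) D7783
theorem F39191 : act 7 n9920 = n9920 := d31_2 F29782 D9920 (iv D9920)
def n9921 : Q := act 8 n7783
theorem D9921 : act 8 n7783 = n9921 := rfl
theorem F39192 : act 0 n9921 = n7806 := d7_1 D9921 (iv D7806) (iv F29780)
theorem F39193 : act 2 n9921 = n7941 := d20_1 D9921 (iv D7941) (iv F29781)
theorem F39194 : act 4 n9921 = n7784 := d29_1 D9921 (iv D7784) D7783
def n9922 : Q := act 7 n7784
theorem D9922 : act 7 n7784 = n9922 := rfl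
theorem F39195 : act 0 n9922 = n7807 := d6_1 D9922 (iv D7807) (iv F29783)
theorem F39196 : act 2 n9922 = n7942 := d19_1 D9922 (iv D7942) (iv F29784)
theorem F39197 : act 5 n9922 = n7787 := d31_1 D9922 (iv D7787) (iv F29786)
theorem F39198 : act 8 n9922 = n9922 := d35_2 D7784 D9922 (iv D9922) (iv D7784) F22057
def n9923 : Q := act 6 n7785
theorem D9923 : act 6 n7785 = n9923 := rfl
theorem F39199 : act 0 n9923 = n7808 := d5_1 D9923 (iv D7808) (iv F29787)
theorem F39200 : act 2 n9923 = n7943 := d18_1 D9923 (iv D7943) (iv F29788)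
theorem F39201 : act 5 n9923 = n9923 := d30_1 D9923 (iv D9923) (iv D7785) F22063 D7785
theorem F39202 : act 7 n9923 = n9923 := d33_2 F29789 D9923 (iv D9923)
def n9924 : Q := act 8 n7785
theorem D9924 : act 8 n7785 = n9924 := rfl
theorem F39203 : act 0 n9924 = n7809 := d7_1 D9924 (iv D7809) (iv F29787)
theorem F39204 : act 2 n9924 = n7944 := d20_1 D9924 (iv D7944) (iv F29788)
theorem F39205 : act 5 n9924 = n7786 := d32_1 D9924 (iv D7786) D7785
def n9925 : Q := act 7 n7786
theorem D9925 : act 7 n7786 = n9925 := rfl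
theorem F39206 : act 0 n9925 = n7810 := d6_1 D9925 (iv D7810) (iv F29790)
theorem F39207 : act 2 n9925 = n7945 := d19_1 D9925 (iv D7945) (iv F29791)
theorem F39208 : act 4 n9925 = n7787 := d28_1 D9925 (iv D7787) (iv F29792)
theorem F39209 : act 6 n9925 = n9925 := d33_1 D9925 (iv D9925) F29793
theorem F39210 : act 8 n9925 = n9925 := d35_2 D7786 D9925 (iv D9925) (iv D7786) F22064
def n9926 : Q := act 4 n7795
theorem D9926 : act 4 n7795 = n9926 := rfl
theorem F39211 : act 3 n9926 = n9926 := d21_1 D9926 (iv D9926) (iv D7795) F22093 D7795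
theorem F39212 : act 7 n9926 = n7801 := d28_2 (iv F29823) D9926 (iv D7801)
def n9927 : Q := act 8 n7795
theorem D9927 : act 8 n7795 = n9927 := rfl
theorem F39213 : act 3 n9927 = n7796 := d25_1 D9927 (iv D7796) D7795
def n9928 : Q := act 5 n7801
theorem D9928 : act 5 n7801 = n9928 := rfl
theorem F39214 : act 3 n9928 = n7805 := d22_1 D9928 (iv D7805) (iv F29834)
def n9929 : Q := act 8 n7801
theorem D9929 : act 8 n7801 = n9929 := rfl
theorem F39215 : act 3 n9929 = n7806 := d25_1 D9929 (iv D7806) (iv F29834)
theorem F39216 : act 4 n9929 = n7802 := d29_1 D9929 (iv D7802) D7801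
def n9930 : Q := act 7 n7802
theorem D9930 : act 7 n7802 = n9930 := rfl
def n9931 : Q := act 6 n7805
theorem D9931 : act 6 n7805 = n9931 := rfl
theorem F39217 : act 2 n9931 = n7974 := d18_1 D9931 (iv D7974) (iv F29843)
theorem F39218 : act 4 n9931 = n7808 := d27_1 D9931 (iv D7808) (iv F29844)
theorem F39219 : act 7 n9931 = n9931 := d33_2 F29845 D9931 (iv D9931)
def n9932 : Q := act 8 n7805
theorem D9932 : act 8 n7805 = n9932 := rfl
theorem F39220 : act 2 n9932 = n7975 := d20_1 D9932 (iv D7975) (iv F29843)
theorem F39221 : act 4 n9932 = n7809 := d29_1 D9932 (iv D7809) (iv F29844)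
theorem F39222 : act 5 n9932 = n7806 := d32_1 D9932 (iv D7806) D7805
def n9933 : Q := act 7 n7806
theorem D9933 : act 7 n7806 = n9933 := rfl
theorem F39223 : act 2 n9933 = n7976 := d19_1 D9933 (iv D7976) (iv F29846)
theorem F39224 : act 4 n9933 = n7807 := d28_1 D9933 (iv D7807) (iv F29847)
theorem F39225 : act 8 n9933 = n9933 := d35_2 D7806 D9933 (iv D9933) (iv D7806) F22109
def n9934 : Q := act 8 n7808
theorem D9934 : act 8 n7808 = n9934 := rfl
theorem F39226 : act 2 n9934 = n7977 := d20_1 D9934 (iv D7977) (iv F29851)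
theorem F39227 : act 5 n9934 = n9934 := d32_1 D9934 (iv D9934) F29852
theorem F39228 : act 6 n9934 = n7809 := d34_1 D9934 (iv D7809) D7808
def n9935 : Q := act 7 n7809
theorem D9935 : act 7 n7809 = n9935 := rfl
theorem F39229 : act 2 n9935 = n7978 := d19_1 D9935 (iv D7978) (iv F29854)
theorem F39230 : act 5 n9935 = n7810 := d31_1 D9935 (iv D7810) (iv F29855)
theorem F39231 : act 8 n9935 = n9935 := d35_2 D7809 D9935 (iv D9935) (iv D7809) F22114
def n9936 : Q := act 3 n7810
theorem D9936 : act 3 n7810 = n9936 := rfl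
theorem F39232 : act 6 n9936 = n9936 := d23_2 F29858 D9936 (iv D9936)
theorem F39233 : act 8 n9936 = n9936 := d25_2 F29859 D9936 (iv D9936)
def n9937 : Q := act 7 n7827
theorem D9937 : act 7 n7827 = n9937 := rfl
theorem F39234 : act 0 n9937 = n9937 := d6_1 D9937 (iv D9937) F29911
theorem F39235 : act 2 n9937 = n7829 := d19_1 D9937 (iv D7829) D7827
theorem F39236 : act 4 n9937 = n9937 := d28_1 D9937 (iv D9937) F29913
def n9938 : Q := act 8 n7829
theorem D9938 : act 8 n7829 = n9938 := rfl
theorem F39237 : act 0 n9938 = n9938 := d7_1 D9938 (iv D9938) F29918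
theorem F39238 : act 1 n9938 = n7844 := d14_1 D9938 (iv D7844) (iv F29919)
theorem F39239 : act 4 n9938 = n9938 := d29_1 D9938 (iv D9938) F29920
def n9939 : Q := act 4 n7920
theorem D9939 : act 4 n7920 = n9939 := rfl
theorem F39240 : act 0 n9939 = n9939 := d3_1 D9939 (iv D9939) F30228
theorem F39241 : act 2 n9939 = n7921 := d16_1 D9939 (iv D7921) D7920
theorem F39242 : act 7 n9939 = n9939 := d28_2 F30231 D9939 (iv D9939)
def n9940 : Q := act 8 n7920
theorem D9940 : act 8 n7920 = n9940 := rfl
theorem F39243 : act 0 n9940 = n9940 := d7_1 D9940 (iv D9940) F30228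
theorem F39244 : act 2 n9940 = n7922 := d20_1 D9940 (iv D7922) D7920
theorem F39245 : act 3 n9940 = n8843 := d25_1 D9940 (iv D8843) (iv F30229)
theorem F39246 : act 5 n9940 = n7924 := d32_1 D9940 (iv D7924) (iv F30230)
def n9941 : Q := act 5 n7921
theorem D9941 : act 5 n7921 = n9941 := rfl
theorem F39247 : act 0 n9941 = n9941 := d4_1 D9941 (iv D9941) F30232
theorem F39248 : act 1 n9941 = n7940 := d11_1 D9941 (iv D7940) (iv F30233)
theorem F39249 : act 4 n9941 = n7925 := d26_1 D9941 (iv D7925) (iv D5792) (iv F22380) D7921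
theorem F39250 : act 7 n9941 = n9941 := d31_2 F30234 D9941 (iv D9941)
def n9942 : Q := act 8 n7921
theorem D9942 : act 8 n7921 = n9942 := rfl
theorem F39251 : act 0 n9942 = n9942 := d7_1 D9942 (iv D9942) F30232
theorem F39252 : act 1 n9942 = n7941 := d14_1 D9942 (iv D7941) (iv F30233)
theorem F39253 : act 4 n9942 = n7922 := d29_1 D9942 (iv D7922) D7921
def n9943 : Q := act 7 n7922
theorem D9943 : act 7 n7922 = n9943 := rfl
theorem F39254 : act 0 n9943 = n9943 := d6_1 D9943 (iv D9943) F30235
theorem F39255 : act 1 n9943 = n7942 := d13_1 D9943 (iv D7942) (iv F30236)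
theorem F39256 : act 3 n9943 = n9943 := d24_1 D9943 (iv D9943) F30237 F22386 (iv F30237)
theorem F39257 : act 5 n9943 = n7927 := d31_1 D9943 (iv D7927) (iv F30238)
theorem F39258 : act 8 n9943 = n9943 := d35_2 D7922 D9943 (iv D9943) (iv D7922) F22381
def n9944 : Q := act 3 n7923
theorem D9944 : act 3 n7923 = n9944 := rfl
theorem F39259 : act 0 n9944 = n9944 := d2_1 D9944 (iv D9944) F30239
theorem F39260 : act 2 n9944 = n9944 := d15_1 D9944 (iv D9944) F30240 F22393 (iv F30240)
theorem F39261 : act 4 n9944 = n8847 := d21_2 D7923 D9944 (iv D8847) (iv D6449) (iv F22388)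
theorem F39262 : act 6 n9944 = n9944 := d23_2 F30241 D9944 (iv D9944)
def n9945 : Q := act 5 n7923
theorem D9945 : act 5 n7923 = n9945 := rfl
theorem F39263 : act 0 n9945 = n9945 := d4_1 D9945 (iv D9945) F30239
theorem F39264 : act 2 n9945 = n7925 := d17_1 D9945 (iv D7925) (iv F30240)
theorem F39265 : act 7 n9945 = n9945 := d31_2 F30242 D9945 (iv D9945)
def n9946 : Q := act 8 n7923
theorem D9946 : act 8 n7923 = n9946 := rfl
theorem F39266 : act 0 n9946 = n9946 := d7_1 D9946 (iv D9946) F30239
theorem F39267 : act 2 n9946 = n7926 := d20_1 D9946 (iv D7926) (iv F30240)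
theorem F39268 : act 4 n9946 = n7924 := d29_1 D9946 (iv D7924) D7923
theorem F39269 : act 6 n9946 = n9946 := d34_1 D9946 (iv D9946) F30241
def n9947 : Q := act 7 n7924
theorem D9947 : act 7 n7924 = n9947 := rfl
theorem F39270 : act 0 n9947 = n9947 := d6_1 D9947 (iv D9947) F30243
theorem F39271 : act 2 n9947 = n7927 := d19_1 D9947 (iv D7927) (iv F30244)
theorem F39272 : act 6 n9947 = n9947 := d33_1 D9947 (iv D9947) F30246
theorem F39273 : act 8 n9947 = n9947 := d35_2 D7924 D9947 (iv D9947) (iv D7924) F22390
def n9948 : Q := act 6 n7925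
theorem D9948 : act 6 n7925 = n9948 := rfl
theorem F39274 : act 0 n9948 = n9948 := d5_1 D9948 (iv D9948) F30247
theorem F39275 : act 1 n9948 = n7943 := d12_1 D9948 (iv D7943) (iv F30248)
theorem F39276 : act 3 n9948 = n9948 := d23_1 D9948 (iv D9948) F30249
theorem F39277 : act 5 n9948 = n9948 := d30_1 D9948 (iv D9948) (iv D7925) F22394 D7925
theorem F39278 : act 7 n9948 = n9948 := d33_2 F30250 D9948 (iv D9948)
def n9949 : Q := act 8 n7925
theorem D9949 : act 8 n7925 = n9949 := rfl
theorem F39279 : act 0 n9949 = n9949 := d7_1 D9949 (iv D9949) F30247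
theorem F39280 : act 1 n9949 = n7944 := d14_1 D9949 (iv D7944) (iv F30248)
theorem F39281 : act 3 n9949 = n9949 := d25_1 D9949 (iv D9949) F30249
theorem F39282 : act 5 n9949 = n7926 := d32_1 D9949 (iv D7926) D7925
def n9950 : Q := act 7 n7926
theorem D9950 : act 7 n7926 = n9950 := rfl
theorem F39283 : act 0 n9950 = n9950 := d6_1 D9950 (iv D9950) F30251
theorem F39284 : act 1 n9950 = n7945 := d13_1 D9950 (iv D7945) (iv F30252)
theorem F39285 : act 4 n9950 = n7927 := d28_1 D9950 (iv D7927) (iv F30254)
theorem F39286 : act 6 n9950 = n9950 := d33_1 D9950 (iv D9950) F30255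
theorem F39287 : act 8 n9950 = n9950 := d35_2 D7926 D9950 (iv D9950) (iv D7926) F22395
def n9951 : Q := act 6 n7940
theorem D9951 : act 6 n7940 = n9951 := rfl
theorem F39288 : act 0 n9951 = n7974 := d5_1 D9951 (iv D7974) (iv F30305)
theorem F39289 : act 4 n9951 = n7943 := d27_1 D9951 (iv D7943) (iv F30306)
theorem F39290 : act 7 n9951 = n9951 := d33_2 F30307 D9951 (iv D9951)
def n9952 : Q := act 8 n7940
theorem D9952 : act 8 n7940 = n9952 := rfl
theorem F39291 : act 0 n9952 = n7975 := d7_1 D9952 (iv D7975) (iv F30305)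
theorem F39292 : act 4 n9952 = n7944 := d29_1 D9952 (iv D7944) (iv F30306)
theorem F39293 : act 5 n9952 = n7941 := d32_1 D9952 (iv D7941) D7940
def n9953 : Q := act 7 n7941
theorem D9953 : act 7 n7941 = n9953 := rfl
theorem F39294 : act 0 n9953 = n7976 := d6_1 D9953 (iv D7976) (iv F30308)
theorem F39295 : act 4 n9953 = n7942 := d28_1 D9953 (iv D7942) (iv F30309)
theorem F39296 : act 8 n9953 = n9953 := d35_2 D7941 D9953 (iv D9953) (iv D7941) F22435
def n9954 : Q := act 8 n7943
theorem D9954 : act 8 n7943 = n9954 := rfl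
theorem F39297 : act 0 n9954 = n7977 := d7_1 D9954 (iv D7977) (iv F30314)
theorem F39298 : act 3 n9954 = n9954 := d25_1 D9954 (iv D9954) F30315
theorem F39299 : act 5 n9954 = n9954 := d32_1 D9954 (iv D9954) F30316
theorem F39300 : act 6 n9954 = n7944 := d34_1 D9954 (iv D7944) D7943
def n9955 : Q := act 7 n7944
theorem D9955 : act 7 n7944 = n9955 := rfl
theorem F39301 : act 0 n9955 = n7978 := d6_1 D9955 (iv D7978) (iv F30318)
theorem F39302 : act 5 n9955 = n7945 := d31_1 D9955 (iv D7945) (iv F30320)
theorem F39303 : act 8 n9955 = n9955 := d35_2 D7944 D9955 (iv D9955) (iv D7944) F22441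
def n9956 : Q := act 3 n7945
theorem D9956 : act 3 n7945 = n9956 := rfl
theorem F39304 : act 0 n9956 = n7979 := d2_1 D9956 (iv D7979) (iv F30321)
theorem F39305 : act 4 n9956 = n9956 := d21_2 (iv F30322) D9956 (iv D9956) F30322 F22447
theorem F39306 : act 6 n9956 = n9956 := d23_2 F30323 D9956 (iv D9956)
theorem F39307 : act 7 n9956 = n9956 := d24_2 D7945 D9956 (iv D9956) (iv D7945) F22443
theorem F39308 : act 8 n9956 = n9956 := d25_2 F30324 D9956 (iv D9956)
def n9957 : Q := act 8 n7974
theorem D9957 : act 8 n7974 = n9957 := rfl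
theorem F39309 : act 1 n9957 = n9957 := d14_1 D9957 (iv D9957) F30425
theorem F39310 : act 4 n9957 = n7977 := d29_1 D9957 (iv D7977) (iv F30426)
theorem F39311 : act 6 n9957 = n7975 := d34_1 D9957 (iv D7975) D7974
def n9958 : Q := act 7 n7975
theorem D9958 : act 7 n7975 = n9958 := rfl
theorem F39312 : act 1 n9958 = n9958 := d13_1 D9958 (iv D9958) F30428
theorem F39313 : act 4 n9958 = n7978 := d28_1 D9958 (iv D7978) (iv F30429)
theorem F39314 : act 5 n9958 = n7976 := d31_1 D9958 (iv D7976) (iv F30430)
theorem F39315 : act 8 n9958 = n9958 := d35_2 D7975 D9958 (iv D9958) (iv D7975) F22516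
def n9959 : Q := act 3 n7976
theorem D9959 : act 3 n7976 = n9959 := rfl
theorem F39316 : act 1 n9959 = n9959 := d9_1 D9959 (iv D9959) F30431
theorem F39317 : act 4 n9959 = n9959 := d21_2 (iv F30432) D9959 (iv D9959) F30432 F22520
theorem F39318 : act 8 n9959 = n9959 := d25_2 F30433 D9959 (iv D9959)
def n9960 : Q := act 7 n7977
theorem D9960 : act 7 n7977 = n9960 := rfl
theorem F39319 : act 1 n9960 = n9960 := d13_1 D9960 (iv D9960) F30434
theorem F39320 : act 5 n9960 = n9960 := d31_1 D9960 (iv D9960) F30436
theorem F39321 : act 6 n9960 = n7978 := d33_1 D9960 (iv D7978) (iv F30437)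
theorem F39322 : act 8 n9960 = n9960 := d35_2 D7977 D9960 (iv D9960) (iv D7977) F22526
def n9961 : Q := act 3 n7978
theorem D9961 : act 3 n7978 = n9961 := rfl
theorem F39323 : act 1 n9961 = n9961 := d9_1 D9961 (iv D9961) F30438
theorem F39324 : act 5 n9961 = n7979 := d22_2 (iv F30439) D9961 (iv D7979)
theorem F39325 : act 7 n9961 = n9961 := d24_2 D7978 D9961 (iv D9961) (iv D7978) F22528
theorem F39326 : act 8 n9961 = n9961 := d25_2 F30440 D9961 (iv D9961)
def n9962 : Q := act 2 n7979
theorem D9962 : act 2 n7979 = n9962 := rfl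
theorem F39327 : act 4 n9962 = n9962 := d16_2 F30442 D9962 (iv D9962)
theorem F39328 : act 6 n9962 = n9962 := d18_2 F30443 D9962 (iv D9962)
theorem F39329 : act 7 n9962 = n9962 := d19_2 F30444 D9962 (iv D9962)
theorem F39330 : act 8 n9962 = n9962 := d20_2 F30445 D9962 (iv D9962)
def n9963 : Q := act 4 n8185
theorem D9963 : act 4 n8185 = n9963 := rfl
theorem F39331 : act 0 n9963 = n9963 := d3_1 D9963 (iv D9963) F31208
theorem F39332 : act 1 n9963 = n8187 := d10_1 D9963 (iv D8187) (iv F31209)
theorem F39333 : act 5 n9963 = n9963 := d26_2 D8185 D9963 (iv D9963) (iv D8185) F23100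
theorem F39334 : act 6 n9963 = n9488 := d27_2 F38971 D9963 (iv F38969)
theorem F39335 : act 8 n9963 = n9963 := d29_2 F31211 D9963 (iv D9963)
theorem F39336 : act 3 n9487 = n9963 := d23_3 F39334 (iv D9488) (iv F35884)
def n9964 : Q := act 7 n8185
theorem D9964 : act 7 n8185 = n9964 := rfl
theorem F39337 : act 0 n9964 = n9964 := d6_1 D9964 (iv D9964) F31208
theorem F39338 : act 1 n9964 = n8189 := d13_1 D9964 (iv D8189) (iv F31209)
theorem F39339 : act 5 n9964 = n8186 := d31_1 D9964 (iv D8186) D8185
def n9965 : Q := act 3 n8186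
theorem D9965 : act 3 n8186 = n9965 := rfl
theorem F39340 : act 0 n9965 = n9965 := d2_1 D9965 (iv D9965) F31212
theorem F39341 : act 1 n9965 = n8190 := d9_1 D9965 (iv D8190) (iv F31213)
theorem F39342 : act 6 n9965 = n9965 := d23_2 F31215 D9965 (iv D9965)
theorem F39343 : act 7 n9965 = n9965 := d24_2 D8186 D9965 (iv D9965) (iv D8186) F23099
def n9966 : Q := act 8 n8186
theorem D9966 : act 8 n8186 = n9966 := rfl
theorem F39344 : act 0 n9966 = n9966 := d7_1 D9966 (iv D9966) F31212
theorem F39345 : act 1 n9966 = n8191 := d14_1 D9966 (iv D8191) (iv F31213)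
theorem F39346 : act 4 n9966 = n9966 := d29_1 D9966 (iv D9966) F31214
theorem F39347 : act 6 n9966 = n9966 := d34_1 D9966 (iv D9966) F31215
theorem F39348 : act 7 n9966 = n9966 := d35_1 D9966 (iv D9966) (iv D8186) F23102 D8186
def n9967 : Q := act 7 n8187
theorem D9967 : act 7 n8187 = n9967 := rfl
theorem F39349 : act 0 n9967 = n8198 := d6_1 D9967 (iv D8198) (iv F31216)
theorem F39350 : act 2 n9967 = n8193 := d19_1 D9967 (iv D8193) (iv F31217)
theorem F39351 : act 3 n9967 = n9464 := d24_1 D9967 (iv D9464) F26437 D6927 (iv F38955)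
theorem F39352 : act 4 n9967 = n8189 := d28_1 D9967 (iv D8189) D8187
theorem F39353 : act 5 n9967 = n9967 := d31_1 D9967 (iv D9967) F31218
theorem F39354 : act 6 n9967 = n9465 := d33_1 D9967 F35795 (iv F38956)
def n9968 : Q := act 7 n8188
theorem D9968 : act 7 n8188 = n9968 := rfl
theorem F39355 : act 0 n9968 = n8199 := d6_1 D9968 (iv D8199) (iv F31220)
theorem F39356 : act 2 n9968 = n8194 := d19_1 D9968 (iv D8194) (iv F31221)
theorem F39357 : act 4 n9968 = n9465 := d28_1 D9968 F35795 (iv F38953)
theorem F39358 : act 5 n9968 = n9968 := d31_1 D9968 (iv D9968) F31223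
theorem F39359 : act 6 n9968 = n8189 := d33_1 D9968 (iv D8189) D8188
def n9969 : Q := act 3 n8189
theorem D9969 : act 3 n8189 = n9969 := rfl
theorem F39360 : act 0 n9969 = n8200 := d2_1 D9969 (iv D8200) (iv F31225)
theorem F39361 : act 2 n9969 = n8223 := d15_1 D9969 (iv D8223) F23201 (iv F23120) (iv F31226)
theorem F39362 : act 5 n9969 = n8190 := d22_2 (iv F31227) D9969 (iv D8190)
theorem F39363 : act 7 n9969 = n9969 := d24_2 D8189 D9969 (iv D9969) (iv D8189) F23105
def n9970 : Q := act 8 n8189
theorem D9970 : act 8 n8189 = n9970 := rfl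
theorem F39364 : act 0 n9970 = n8201 := d7_1 D9970 (iv D8201) (iv F31225)
theorem F39365 : act 2 n9970 = n8195 := d20_1 D9970 (iv D8195) (iv F31226)
theorem F39366 : act 5 n9970 = n8191 := d32_1 D9970 (iv D8191) (iv F31227)
theorem F39367 : act 7 n9970 = n9970 := d35_1 D9970 (iv D9970) (iv D8189) F23106 D8189
def n9971 : Q := act 4 n8190
theorem D9971 : act 4 n8190 = n9971 := rfl
theorem F39368 : act 0 n9971 = n8202 := d3_1 D9971 (iv D8202) (iv F31228)
theorem F39369 : act 2 n9971 = n8225 := d16_1 D9971 (iv D8225) (iv F31229)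
theorem F39370 : act 3 n9971 = n9971 := d21_1 D9971 (iv D9971) (iv D8190) F23109 D8190
theorem F39371 : act 6 n9971 = n9971 := d27_2 F31230 D9971 (iv D9971)
theorem F39372 : act 7 n9971 = n9971 := d28_2 F31231 D9971 (iv D9971)
def n9972 : Q := act 8 n8190
theorem D9972 : act 8 n8190 = n9972 := rfl
theorem F39373 : act 0 n9972 = n8203 := d7_1 D9972 (iv D8203) (iv F31228)
theorem F39374 : act 2 n9972 = n8226 := d20_1 D9972 (iv D8226) (iv F31229)
theorem F39375 : act 3 n9972 = n8191 := d25_1 D9972 (iv D8191) D8190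
theorem F39376 : act 6 n9972 = n9972 := d34_1 D9972 (iv D9972) F31230
def n9973 : Q := act 7 n8192
theorem D9973 : act 7 n8192 = n9973 := rfl
theorem F39377 : act 0 n9973 = n8205 := d6_1 D9973 (iv D8205) (iv F31237)
theorem F39378 : act 2 n9973 = n9465 := d19_1 D9973 F35795 (iv F38945)
theorem F39379 : act 4 n9973 = n8194 := d28_1 D9973 (iv D8194) (iv F31239)
theorem F39380 : act 5 n9973 = n9466 := d31_1 D9973 F35799 (iv F38946)
theorem F39381 : act 6 n9973 = n8193 := d33_1 D9973 (iv D8193) D8192
def n9974 : Q := act 3 n8193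
theorem D9974 : act 3 n8193 = n9974 := rfl
theorem F39382 : act 0 n9974 = n8206 := d2_1 D9974 (iv D8206) (iv F31241)
theorem F39383 : act 4 n9974 = n8229 := d21_2 (iv F31242) D9974 (iv D8229) F23216 (iv F23120)
theorem F39384 : act 5 n9974 = n9974 := d22_2 F31243 D9974 (iv D9974)
theorem F39385 : act 7 n9974 = n9974 := d24_2 D8193 D9974 (iv D9974) (iv D8193) F23112
def n9975 : Q := act 8 n8193
theorem D9975 : act 8 n8193 = n9975 := rfl
theorem F39386 : act 0 n9975 = n8207 := d7_1 D9975 (iv D8207) (iv F31241)
theorem F39387 : act 4 n9975 = n8195 := d29_1 D9975 (iv D8195) (iv F31242)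
theorem F39388 : act 5 n9975 = n9975 := d32_1 D9975 (iv D9975) F31243
theorem F39389 : act 7 n9975 = n9975 := d35_1 D9975 (iv D9975) (iv D8193) F23114 D8193
def n9976 : Q := act 8 n8194
theorem D9976 : act 8 n8194 = n9976 := rfl
theorem F39390 : act 0 n9976 = n8208 := d7_1 D9976 (iv D8208) (iv F31244)
theorem F39391 : act 3 n9976 = n8231 := d25_1 D9976 (iv D8231) (iv F31245)
theorem F39392 : act 5 n9976 = n9976 := d32_1 D9976 (iv D9976) F31246
theorem F39393 : act 6 n9976 = n8195 := d34_1 D9976 (iv D8195) (iv F31247)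
theorem F39394 : act 7 n9976 = n9976 := d35_1 D9976 (iv D9976) (iv D8194) F23118 D8194
def n9977 : Q := act 8 n8198
theorem D9977 : act 8 n8198 = n9977 := rfl
theorem F39395 : act 1 n9977 = n9977 := d14_1 D9977 (iv D9977) F31261
theorem F39396 : act 2 n9977 = n8207 := d20_1 D9977 (iv D8207) (iv F31262)
theorem F39397 : act 3 n9977 = n8907 := d25_1 D9977 F33782 (iv F38958)
theorem F39398 : act 4 n9977 = n8201 := d29_1 D9977 (iv D8201) (iv F31263)
theorem F39399 : act 5 n9977 = n9977 := d32_1 D9977 (iv D9977) F31264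
theorem F39400 : act 6 n9977 = n8908 := d34_1 D9977 F33786 (iv F38959)
theorem F39401 : act 7 n9977 = n9977 := d35_1 D9977 (iv D9977) (iv D8198) F23130 D8198
def n9978 : Q := act 3 n8199
theorem D9978 : act 3 n8199 = n9978 := rfl
theorem F39402 : act 1 n9978 = n9978 := d9_1 D9978 (iv D9978) F31265
theorem F39403 : act 2 n9978 = n8238 := d15_1 D9978 (iv D8238) F23238 (iv F23156) (iv F31266)
theorem F39404 : act 4 n9978 = n9471 := d21_2 (iv F38954) D9978 (iv D9471) F26462 D6915
theorem F39405 : act 5 n9978 = n9978 := d22_2 F31267 D9978 (iv D9978)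
theorem F39406 : act 6 n9978 = n8200 := d23_2 (iv F31268) D9978 (iv D8200)
theorem F39407 : act 7 n9978 = n9978 := d24_2 D8199 D9978 (iv D9978) (iv D8199) F23133
def n9979 : Q := act 8 n8199
theorem D9979 : act 8 n8199 = n9979 := rfl
theorem F39408 : act 1 n9979 = n9979 := d14_1 D9979 (iv D9979) F31265
theorem F39409 : act 2 n9979 = n8208 := d20_1 D9979 (iv D8208) (iv F31266)
theorem F39410 : act 4 n9979 = n8908 := d29_1 D9979 F33786 (iv F38954)
theorem F39411 : act 5 n9979 = n9979 := d32_1 D9979 (iv D9979) F31267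
theorem F39412 : act 6 n9979 = n8201 := d34_1 D9979 (iv D8201) (iv F31268)
theorem F39413 : act 7 n9979 = n9979 := d35_1 D9979 (iv D9979) (iv D8199) F23135 D8199
def n9980 : Q := act 4 n8200
theorem D9980 : act 4 n8200 = n9980 := rfl
theorem F39414 : act 1 n9980 = n9980 := d10_1 D9980 (iv D9980) F31269
theorem F39415 : act 2 n9980 = n8240 := d16_1 D9980 (iv D8240) (iv F31270)
theorem F39416 : act 3 n9980 = n9470 := d21_1 D9980 F35813 (iv F38958) F31263 D8200
theorem F39417 : act 6 n9980 = n9471 := d27_2 F39406 D9980 (iv F39404)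
theorem F39418 : act 7 n9980 = n9980 := d28_2 F31272 D9980 (iv D9980)
def n9981 : Q := act 8 n8200
theorem D9981 : act 8 n8200 = n9981 := rfl
theorem F39419 : act 1 n9981 = n9981 := d14_1 D9981 (iv D9981) F31269
theorem F39420 : act 2 n9981 = n8241 := d20_1 D9981 (iv D8241) (iv F31270)
theorem F39421 : act 3 n9981 = n8201 := d25_1 D9981 (iv D8201) D8200
theorem F39422 : act 5 n9981 = n8203 := d32_1 D9981 (iv D8203) (iv F31271)
def n9982 : Q := act 5 n8202
theorem D9982 : act 5 n8202 = n9982 := rfl
theorem F39423 : act 1 n9982 = n9982 := d11_1 D9982 (iv D9982) F31277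
theorem F39424 : act 2 n9982 = n8242 := d17_1 D9982 (iv D8242) (iv F31278)
theorem F39425 : act 3 n9982 = n9982 := d22_1 D9982 (iv D9982) F31279
theorem F39426 : act 7 n9982 = n9982 := d31_2 F31281 D9982 (iv D9982)
def n9983 : Q := act 8 n8202
theorem D9983 : act 8 n8202 = n9983 := rfl
theorem F39427 : act 1 n9983 = n9983 := d14_1 D9983 (iv D9983) F31277
theorem F39428 : act 2 n9983 = n8243 := d20_1 D9983 (iv D8243) (iv F31278)
theorem F39429 : act 3 n9983 = n9983 := d25_1 D9983 (iv D9983) F31279
theorem F39430 : act 4 n9983 = n8203 := d29_1 D9983 (iv D8203) D8202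
theorem F39431 : act 6 n9983 = n9983 := d34_1 D9983 (iv D9983) F31280
def n9984 : Q := act 7 n8203
theorem D9984 : act 7 n8203 = n9984 := rfl
theorem F39432 : act 1 n9984 = n9984 := d13_1 D9984 (iv D9984) F31282
theorem F39433 : act 2 n9984 = n8244 := d19_1 D9984 (iv D8244) (iv F31283)
theorem F39434 : act 3 n9984 = n9984 := d24_1 D9984 (iv D9984) F31284 F23147 (iv F31284)
theorem F39435 : act 6 n9984 = n9984 := d33_1 D9984 (iv D9984) F31285
theorem F39436 : act 8 n9984 = n9984 := d35_2 D8203 D9984 (iv D9984) (iv D8203) F23142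
def n9985 : Q := act 3 n8205
theorem D9985 : act 3 n8205 = n9985 := rfl
theorem F39437 : act 1 n9985 = n8210 := d9_1 D9985 (iv D8210) (iv F31291)
theorem F39438 : act 2 n9985 = n9360 := d15_1 D9985 (iv D9360) F26137 D6915 (iv F38943)
theorem F39439 : act 4 n9985 = n8246 := d21_2 (iv F31292) D9985 (iv D8246) F23261 (iv F23156)
theorem F39440 : act 5 n9985 = n9361 := d22_2 (iv F38944) D9985 F35391
theorem F39441 : act 6 n9985 = n8206 := d23_2 (iv F31293) D9985 (iv D8206)
theorem F39442 : act 7 n9985 = n9985 := d24_2 D8205 D9985 (iv D9985) (iv D8205) F23149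
def n9986 : Q := act 8 n8205
theorem D9986 : act 8 n8205 = n9986 := rfl
theorem F39443 : act 1 n9986 = n8211 := d14_1 D9986 (iv D8211) (iv F31291)
theorem F39444 : act 2 n9986 = n8908 := d20_1 D9986 F33786 (iv F38943)
theorem F39445 : act 4 n9986 = n8208 := d29_1 D9986 (iv D8208) (iv F31292)
theorem F39446 : act 5 n9986 = n8909 := d32_1 D9986 F33790 (iv F38944)
theorem F39447 : act 6 n9986 = n8207 := d34_1 D9986 (iv D8207) (iv F31293)
theorem F39448 : act 7 n9986 = n9986 := d35_1 D9986 (iv D9986) (iv D8205) F23151 D8205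
def n9987 : Q := act 2 n8206
theorem D9987 : act 2 n8206 = n9987 := rfl
theorem F39449 : act 3 n9987 = n9359 := d15_2 D8206 D9987 F35386 (iv F38958) F31262
theorem F39450 : act 4 n9987 = n8248 := d16_2 (iv F31295) D9987 (iv D8248)
theorem F39451 : act 5 n9987 = n9987 := d17_2 F31296 D9987 (iv D9987)
theorem F39452 : act 6 n9987 = n9360 := d18_2 F39441 D9987 (iv F39438)
theorem F39453 : act 7 n9987 = n9987 := d19_2 F31297 D9987 (iv D9987)
def n9988 : Q := act 8 n8206
theorem D9988 : act 8 n8206 = n9988 := rfl
theorem F39454 : act 1 n9988 = n8213 := d14_1 D9988 (iv D8213) (iv F31294)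
theorem F39455 : act 3 n9988 = n8207 := d25_1 D9988 (iv D8207) D8206
theorem F39456 : act 4 n9988 = n8249 := d29_1 D9988 (iv D8249) (iv F31295)
theorem F39457 : act 5 n9988 = n9988 := d32_1 D9988 (iv D9988) F31296
def n9989 : Q := act 3 n8209
theorem D9989 : act 3 n8209 = n9989 := rfl
theorem F39458 : act 1 n9989 = n9361 := d9_1 D9989 F35391 (iv F38952)
theorem F39459 : act 5 n9989 = n8210 := d22_2 (iv F31309) D9989 (iv D8210)
theorem F39460 : act 6 n9989 = n9989 := d23_2 F31310 D9989 (iv D9989)
theorem F39461 : act 7 n9989 = n9989 := d24_2 D8209 D9989 (iv D9989) (iv D8209) F23164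
def n9990 : Q := act 8 n8209
theorem D9990 : act 8 n8209 = n9990 := rfl
theorem F39462 : act 1 n9990 = n8909 := d14_1 D9990 F33790 (iv F38952)
theorem F39463 : act 2 n9990 = n9990 := d20_1 D9990 (iv D9990) F31307
theorem F39464 : act 4 n9990 = n9990 := d29_1 D9990 (iv D9990) F31308
theorem F39465 : act 5 n9990 = n8211 := d32_1 D9990 (iv D8211) (iv F31309)
theorem F39466 : act 6 n9990 = n9990 := d34_1 D9990 (iv D9990) F31310
theorem F39467 : act 7 n9990 = n9990 := d35_1 D9990 (iv D9990) (iv D8209) F23167 D8209
def n9991 : Q := act 2 n8210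
theorem D9991 : act 2 n8210 = n9991 := rfl
theorem F39468 : act 3 n9991 = n9991 := d15_2 D8210 D9991 (iv D9991) (iv D8210) F23168
theorem F39469 : act 4 n9991 = n8252 := d16_2 (iv F31311) D9991 (iv D8252)
theorem F39470 : act 6 n9991 = n8212 := d18_2 (iv F31312) D9991 (iv D8212)
theorem F39471 : act 7 n9991 = n9991 := d19_2 F31313 D9991 (iv D9991)
def n9992 : Q := act 8 n8210
theorem D9992 : act 8 n8210 = n9992 := rfl
theorem F39472 : act 3 n9992 = n8211 := d25_1 D9992 (iv D8211) D8210
theorem F39473 : act 4 n9992 = n8253 := d29_1 D9992 (iv D8253) (iv F31311)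
theorem F39474 : act 6 n9992 = n8213 := d34_1 D9992 (iv D8213) (iv F31312)
def n9993 : Q := act 1 n8212
theorem D9993 : act 1 n8212 = n9993 := rfl
theorem F39475 : act 3 n9993 = n9993 := d9_2 F31318 D9993 (iv D9993)
theorem F39476 : act 4 n9993 = n8254 := d10_2 (iv F31319) D9993 (iv D8254)
theorem F39477 : act 5 n9993 = n9993 := d11_2 F31320 D9993 (iv D9993)
theorem F39478 : act 7 n9993 = n9993 := d13_2 F31321 D9993 (iv D9993)
def n9994 : Q := act 8 n8212
theorem D9994 : act 8 n8212 = n9994 := rfl
theorem F39479 : act 2 n9994 = n8213 := d20_1 D9994 (iv D8213) D8212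
theorem F39480 : act 3 n9994 = n9994 := d25_1 D9994 (iv D9994) F31318
theorem F39481 : act 4 n9994 = n8255 := d29_1 D9994 (iv D8255) (iv F31319)
theorem F39482 : act 5 n9994 = n9994 := d32_1 D9994 (iv D9994) F31320
def n9995 : Q := act 7 n8213
theorem D9995 : act 7 n8213 = n9995 := rfl
theorem F39483 : act 3 n9995 = n9995 := d24_1 D9995 (iv D9995) F31322 F23177 (iv F31322)
theorem F39484 : act 4 n9995 = n8256 := d28_1 D9995 (iv D8256) (iv F31323)
theorem F39485 : act 5 n9995 = n9995 := d31_1 D9995 (iv D9995) F31324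
theorem F39486 : act 8 n9995 = n9995 := d35_2 D8213 D9995 (iv D9995) (iv D8213) F23173
def n9996 : Q := act 3 n8214
theorem D9996 : act 3 n8214 = n9996 := rfl
theorem F39487 : act 0 n9996 = n8257 := d2_1 D9996 (iv D8257) (iv F31325)
theorem F39488 : act 1 n9996 = n8219 := d9_1 D9996 (iv D8219) (iv F31326)
theorem F39489 : act 4 n9996 = n9996 := d21_2 D8214 D9996 (iv D9996) (iv D8214) F23185
theorem F39490 : act 5 n9996 = n8466 := d22_2 (iv F31327) D9996 (iv D8466)
theorem F39491 : act 8 n9996 = n9874 := d25_2 (iv F31328) D9996 (iv D9874)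
def n9997 : Q := act 6 n8214
theorem D9997 : act 6 n8214 = n9997 := rfl
theorem F39492 : act 0 n9997 = n8258 := d5_1 D9997 (iv D8258) (iv F31325)
theorem F39493 : act 1 n9997 = n8220 := d12_1 D9997 (iv D8220) (iv F31326)
theorem F39494 : act 4 n9997 = n8215 := d27_1 D9997 (iv D8215) D8214
theorem F39495 : act 8 n9997 = n8789 := d34_2 (iv F31328) D9997 F39001
def n9998 : Q := act 7 n8214
theorem D9998 : act 7 n8214 = n9998 := rfl
theorem F39496 : act 0 n9998 = n8259 := d6_1 D9998 (iv D8259) (iv F31325)
theorem F39497 : act 1 n9998 = n8221 := d13_1 D9998 (iv D8221) (iv F31326)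
theorem F39498 : act 4 n9998 = n8216 := d28_1 D9998 (iv D8216) D8214
theorem F39499 : act 5 n9998 = n8468 := d31_1 D9998 (iv D8468) (iv F31327)
def n9999 : Q := act 7 n8215
theorem D9999 : act 7 n8215 = n9999 := rfl
theorem F39500 : act 0 n9999 = n8260 := d6_1 D9999 (iv D8260) (iv F31329)
theorem F39501 : act 1 n9999 = n8222 := d13_1 D9999 (iv D8222) (iv F31330)
theorem F39502 : act 5 n9999 = n9999 := d31_1 D9999 (iv D9999) F31332
theorem F39503 : act 6 n9999 = n8216 := d33_1 D9999 (iv D8216) D8215
def n10000 : Q := act 3 n8216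
theorem D10000 : act 3 n8216 = n10000 := rfl
theorem F39504 : act 0 n10000 = n8261 := d2_1 D10000 (iv D8261) (iv F31334)
theorem F39505 : act 1 n10000 = n8223 := d9_1 D10000 (iv D8223) (iv F31335)
theorem F39506 : act 5 n10000 = n8217 := d22_2 (iv F31336) D10000 (iv D8217)
theorem F39507 : act 7 n10000 = n10000 := d24_2 D8216 D10000 (iv D10000) (iv D8216) F23185
def n10001 : Q := act 8 n8216
theorem D10001 : act 8 n8216 = n10001 := rfl
theorem F39508 : act 0 n10001 = n8262 := d7_1 D10001 (iv D8262) (iv F31334)
theorem F39509 : act 1 n10001 = n8224 := d14_1 D10001 (iv D8224) (iv F31335)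
theorem F39510 : act 5 n10001 = n8218 := d32_1 D10001 (iv D8218) (iv F31336)
theorem F39511 : act 7 n10001 = n9877 := d35_1 D10001 (iv D9877) (iv D7725) (iv F23186) D8216
def n10002 : Q := act 2 n8217
theorem D10002 : act 2 n8217 = n10002 := rfl
theorem F39512 : act 0 n10002 = n8263 := d1_1 D10002 (iv D8263) (iv F31337)
theorem F39513 : act 6 n10002 = n10002 := d18_2 F31339 D10002 (iv D10002)
theorem F39514 : act 7 n10002 = n10002 := d19_2 F31340 D10002 (iv D10002)
def n10003 : Q := act 4 n8217
theorem D10003 : act 4 n8217 = n10003 := rfl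
theorem F39515 : act 0 n10003 = n8264 := d3_1 D10003 (iv D8264) (iv F31337)
theorem F39516 : act 1 n10003 = n8225 := d10_1 D10003 (iv D8225) (iv F31338)
theorem F39517 : act 3 n10003 = n8473 := d21_1 D10003 (iv D8473) (iv D6181) (iv F23189) D8217
theorem F39518 : act 6 n10003 = n10003 := d27_2 F31339 D10003 (iv D10003)
theorem F39519 : act 7 n10003 = n10003 := d28_2 F31340 D10003 (iv D10003)
def n10004 : Q := act 8 n8217
theorem D10004 : act 8 n8217 = n10004 := rfl
theorem F39520 : act 0 n10004 = n8265 := d7_1 D10004 (iv D8265) (iv F31337)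
theorem F39521 : act 1 n10004 = n8226 := d14_1 D10004 (iv D8226) (iv F31338)
theorem F39522 : act 3 n10004 = n8218 := d25_1 D10004 (iv D8218) D8217
theorem F39523 : act 6 n10004 = n10004 := d34_1 D10004 (iv D10004) F31339
def n10005 : Q := act 6 n8219
theorem D10005 : act 6 n8219 = n10005 := rfl
theorem F39524 : act 0 n10005 = n8232 := d5_1 D10005 (iv D8232) (iv F31346)
theorem F39525 : act 2 n10005 = n10005 := d18_1 D10005 (iv D10005) F31347
theorem F39526 : act 3 n10005 = n8220 := d23_1 D10005 (iv D8220) D8219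
theorem F39527 : act 4 n10005 = n10005 := d27_1 D10005 (iv D10005) F31348
theorem F39528 : act 8 n10005 = n8806 := d34_2 (iv F31350) D10005 F39010
def n10006 : Q := act 7 n8219
theorem D10006 : act 7 n8219 = n10006 := rfl
theorem F39529 : act 0 n10006 = n8233 := d6_1 D10006 (iv D8233) (iv F31346)
theorem F39530 : act 2 n10006 = n10006 := d19_1 D10006 (iv D10006) F31347
theorem F39531 : act 4 n10006 = n10006 := d28_1 D10006 (iv D10006) F31348
theorem F39532 : act 5 n10006 = n8476 := d31_1 D10006 (iv D8476) (iv F31349)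
def n10007 : Q := act 5 n8220
theorem D10007 : act 5 n8220 = n10007 := rfl
theorem F39533 : act 0 n10007 = n8234 := d4_1 D10007 (iv D8234) (iv F31351)
theorem F39534 : act 2 n10007 = n8227 := d17_1 D10007 (iv D8227) (iv F31352)
theorem F39535 : act 4 n10007 = n10007 := d26_1 D10007 (iv D10007) F31353 F23198 (iv F31353)
theorem F39536 : act 6 n10007 = n8477 := d30_2 D8220 D10007 (iv D8477) (iv D6184) (iv F23193)
theorem F39537 : act 8 n10007 = n8380 := d32_2 F38416 D10007 F31941
def n10008 : Q := act 7 n8220
theorem D10008 : act 7 n8220 = n10008 := rfl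
theorem F39538 : act 0 n10008 = n8235 := d6_1 D10008 (iv D8235) (iv F31351)
theorem F39539 : act 2 n10008 = n8228 := d19_1 D10008 (iv D8228) (iv F31352)
theorem F39540 : act 4 n10008 = n8222 := d28_1 D10008 (iv D8222) (iv F31353)
theorem F39541 : act 6 n10008 = n8221 := d33_1 D10008 (iv D8221) D8220
def n10009 : Q := act 3 n8221
theorem D10009 : act 3 n8221 = n10009 := rfl
theorem F39542 : act 0 n10009 = n8236 := d2_1 D10009 (iv D8236) (iv F31355)
theorem F39543 : act 5 n10009 = n8479 := d22_2 (iv F31358) D10009 (iv D8479)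
def n10010 : Q := act 8 n8221
theorem D10010 : act 8 n8221 = n10010 := rfl
theorem F39544 : act 0 n10010 = n8237 := d7_1 D10010 (iv D8237) (iv F31355)
theorem F39545 : act 2 n10010 = n8230 := d20_1 D10010 (iv D8230) (iv F31356)
theorem F39546 : act 4 n10010 = n8224 := d29_1 D10010 (iv D8224) (iv F31357)
theorem F39547 : act 5 n10010 = n8480 := d32_1 D10010 (iv D8480) (iv F31358)
theorem F39548 : act 7 n10010 = n9883 := d35_1 D10010 (iv D9883) (iv D7730) (iv F23194) D8221
def n10011 : Q := act 3 n8222
theorem D10011 : act 3 n8222 = n10011 := rfl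
theorem F39549 : act 0 n10011 = n8238 := d2_1 D10011 (iv D8238) (iv F31359)
theorem F39550 : act 5 n10011 = n10011 := d22_2 F31361 D10011 (iv D10011)
theorem F39551 : act 6 n10011 = n8223 := d23_2 (iv F31362) D10011 (iv D8223)
theorem F39552 : act 7 n10011 = n10011 := d24_2 D8222 D10011 (iv D10011) (iv D8222) F23197
def n10012 : Q := act 8 n8222
theorem D10012 : act 8 n8222 = n10012 := rfl
theorem F39553 : act 0 n10012 = n8239 := d7_1 D10012 (iv D8239) (iv F31359)
theorem F39554 : act 2 n10012 = n8231 := d20_1 D10012 (iv D8231) (iv F31360)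
theorem F39555 : act 5 n10012 = n10012 := d32_1 D10012 (iv D10012) F31361
theorem F39556 : act 6 n10012 = n8224 := d34_1 D10012 (iv D8224) (iv F31362)
theorem F39557 : act 7 n10012 = n8918 := d35_1 D10012 (iv D8918) F24968 F38484 D8222
def n10013 : Q := act 4 n8223
theorem D10013 : act 4 n8223 = n10013 := rfl
theorem F39558 : act 0 n10013 = n8240 := d3_1 D10013 (iv D8240) (iv F31363)
theorem F39559 : act 7 n10013 = n10013 := d28_2 F31365 D10013 (iv D10013)
def n10014 : Q := act 8 n8223
theorem D10014 : act 8 n8223 = n10014 := rfl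
theorem F39560 : act 0 n10014 = n8241 := d7_1 D10014 (iv D8241) (iv F31363)
theorem F39561 : act 3 n10014 = n8224 := d25_1 D10014 (iv D8224) D8223
theorem F39562 : act 5 n10014 = n8226 := d32_1 D10014 (iv D8226) (iv F31364)
def n10015 : Q := act 5 n8225
theorem D10015 : act 5 n8225 = n10015 := rfl
theorem F39563 : act 0 n10015 = n8242 := d4_1 D10015 (iv D8242) (iv F31370)
theorem F39564 : act 3 n10015 = n8485 := d22_1 D10015 (iv D8485) (iv F31371)
theorem F39565 : act 7 n10015 = n10015 := d31_2 F31373 D10015 (iv D10015)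
def n10016 : Q := act 8 n8225
theorem D10016 : act 8 n8225 = n10016 := rfl
theorem F39566 : act 0 n10016 = n8243 := d7_1 D10016 (iv D8243) (iv F31370)
theorem F39567 : act 3 n10016 = n8486 := d25_1 D10016 (iv D8486) (iv F31371)
theorem F39568 : act 4 n10016 = n8226 := d29_1 D10016 (iv D8226) D8225
theorem F39569 : act 6 n10016 = n10016 := d34_1 D10016 (iv D10016) F31372
def n10017 : Q := act 7 n8226
theorem D10017 : act 7 n8226 = n10017 := rfl
theorem F39570 : act 0 n10017 = n8244 := d6_1 D10017 (iv D8244) (iv F31374)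
theorem F39571 : act 3 n10017 = n9888 := d24_1 D10017 (iv D9888) F29617 (iv F23210) (iv F31375)
theorem F39572 : act 6 n10017 = n10017 := d33_1 D10017 (iv D10017) F31376
theorem F39573 : act 8 n10017 = n10017 := d35_2 D8226 D10017 (iv D10017) (iv D8226) F23205
def n10018 : Q := act 7 n8227
theorem D10018 : act 7 n8227 = n10018 := rfl
theorem F39574 : act 0 n10018 = n8245 := d6_1 D10018 (iv D8245) (iv F31377)
theorem F39575 : act 4 n10018 = n10018 := d28_1 D10018 (iv D10018) F31379
theorem F39576 : act 5 n10018 = n8228 := d31_1 D10018 (iv D8228) D8227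
theorem F39577 : act 6 n10018 = n8488 := d33_1 D10018 (iv D8488) (iv F31380)
def n10019 : Q := act 3 n8228
theorem D10019 : act 3 n8228 = n10019 := rfl
theorem F39578 : act 0 n10019 = n8246 := d2_1 D10019 (iv D8246) (iv F31382)
theorem F39579 : act 6 n10019 = n8229 := d23_2 (iv F31384) D10019 (iv D8229)
theorem F39580 : act 7 n10019 = n10019 := d24_2 D8228 D10019 (iv D10019) (iv D8228) F23212
def n10020 : Q := act 8 n8228
theorem D10020 : act 8 n8228 = n10020 := rfl
theorem F39581 : act 0 n10020 = n8247 := d7_1 D10020 (iv D8247) (iv F31382)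
theorem F39582 : act 4 n10020 = n8231 := d29_1 D10020 (iv D8231) (iv F31383)
theorem F39583 : act 6 n10020 = n8230 := d34_1 D10020 (iv D8230) (iv F31384)
theorem F39584 : act 7 n10020 = n8674 := d35_1 D10020 (iv D8674) F24336 F38473 D8228
def n10021 : Q := act 2 n8229
theorem D10021 : act 2 n8229 = n10021 := rfl
theorem F39585 : act 0 n10021 = n8248 := d1_1 D10021 (iv D8248) (iv F31385)
theorem F39586 : act 5 n10021 = n8491 := d17_2 (iv F31386) D10021 (iv D8491)
theorem F39587 : act 7 n10021 = n10021 := d19_2 F31387 D10021 (iv D10021)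
def n10022 : Q := act 8 n8229
theorem D10022 : act 8 n8229 = n10022 := rfl
theorem F39588 : act 0 n10022 = n8249 := d7_1 D10022 (iv D8249) (iv F31385)
theorem F39589 : act 3 n10022 = n8230 := d25_1 D10022 (iv D8230) D8229
theorem F39590 : act 5 n10022 = n8492 := d32_1 D10022 (iv D8492) (iv F31386)
def n10023 : Q := act 5 n8232
theorem D10023 : act 5 n8232 = n10023 := rfl
theorem F39591 : act 1 n10023 = n8284 := d11_1 D10023 (iv D8284) (iv F31396)
theorem F39592 : act 2 n10023 = n10023 := d17_1 D10023 (iv D10023) F31397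
theorem F39593 : act 3 n10023 = n8234 := d22_1 D10023 (iv D8234) (iv F31398)
theorem F39594 : act 6 n10023 = n8493 := d30_2 D8232 D10023 (iv D8493) (iv D6196) (iv F23227)
theorem F39595 : act 8 n10023 = n8365 := d32_2 F38281 D10023 F31885
theorem F39596 : act 4 n9271 = n10023 := d29_3 F39595 F38981 D9271
def n10024 : Q := act 7 n8232
theorem D10024 : act 7 n8232 = n10024 := rfl
theorem F39597 : act 1 n10024 = n8285 := d13_1 D10024 (iv D8285) (iv F31396)
theorem F39598 : act 2 n10024 = n10024 := d19_1 D10024 (iv D10024) F31397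
theorem F39599 : act 4 n10024 = n10024 := d28_1 D10024 (iv D10024) F31399
theorem F39600 : act 6 n10024 = n8233 := d33_1 D10024 (iv D8233) D8232
def n10025 : Q := act 3 n8233
theorem D10025 : act 3 n8233 = n10025 := rfl
theorem F39601 : act 1 n10025 = n8286 := d9_1 D10025 (iv D8286) (iv F31401)
theorem F39602 : act 5 n10025 = n8495 := d22_2 (iv F31404) D10025 (iv D8495)
theorem F39603 : act 7 n10025 = n8236 := d24_2 D8233 D10025 (iv D8236) (iv D6015) D6013
def n10026 : Q := act 8 n8233
theorem D10026 : act 8 n8233 = n10026 := rfl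
theorem F39604 : act 1 n10026 = n8287 := d14_1 D10026 (iv D8287) (iv F31401)
theorem F39605 : act 2 n10026 = n10026 := d20_1 D10026 (iv D10026) F31402
theorem F39606 : act 4 n10026 = n10026 := d29_1 D10026 (iv D10026) F31403
theorem F39607 : act 5 n10026 = n8496 := d32_1 D10026 (iv D8496) (iv F31404)
theorem F39608 : act 7 n10026 = n9892 := d35_1 D10026 (iv D9892) (iv D7742) (iv F23228) D8233
def n10027 : Q := act 7 n8234
theorem D10027 : act 7 n8234 = n10027 := rfl
theorem F39609 : act 1 n10027 = n8288 := d13_1 D10027 (iv D8288) (iv F31405)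
theorem F39610 : act 2 n10027 = n8245 := d19_1 D10027 (iv D8245) (iv F31406)
theorem F39611 : act 4 n10027 = n10027 := d28_1 D10027 (iv D10027) F31407
theorem F39612 : act 5 n10027 = n8235 := d31_1 D10027 (iv D8235) D8234
theorem F39613 : act 6 n10027 = n8497 := d33_1 D10027 (iv D8497) (iv F31408)
def n10028 : Q := act 3 n8235
theorem D10028 : act 3 n8235 = n10028 := rfl
theorem F39614 : act 1 n10028 = n8289 := d9_1 D10028 (iv D8289) (iv F31410)
theorem F39615 : act 6 n10028 = n8236 := d23_2 (iv F31413) D10028 (iv D8236)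
def n10029 : Q := act 8 n8235
theorem D10029 : act 8 n8235 = n10029 := rfl
theorem F39616 : act 1 n10029 = n8290 := d14_1 D10029 (iv D8290) (iv F31410)
theorem F39617 : act 2 n10029 = n8247 := d20_1 D10029 (iv D8247) (iv F31411)
theorem F39618 : act 4 n10029 = n8239 := d29_1 D10029 (iv D8239) (iv F31412)
theorem F39619 : act 6 n10029 = n8237 := d34_1 D10029 (iv D8237) (iv F31413)
theorem F39620 : act 7 n10029 = n8664 := d35_1 D10029 (iv D8664) F24313 F38348 D8235
def n10030 : Q := act 2 n8236
theorem D10030 : act 2 n8236 = n10030 := rfl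
theorem F39621 : act 3 n10030 = n8248 := d15_2 D8236 D10030 (iv D8248) (iv D6023) (iv F23234)
theorem F39622 : act 5 n10030 = n8500 := d17_2 (iv F31415) D10030 (iv D8500)
def n10031 : Q := act 4 n8236
theorem D10031 : act 4 n8236 = n10031 := rfl
theorem F39623 : act 1 n10031 = n8292 := d10_1 D10031 (iv D8292) (iv F31414)
theorem F39624 : act 3 n10031 = n8240 := d21_1 D10031 (iv D8240) (iv D6017) (iv F23235) D8236
def n10032 : Q := act 8 n8236
theorem D10032 : act 8 n8236 = n10032 := rfl
theorem F39625 : act 1 n10032 = n8293 := d14_1 D10032 (iv D8293) (iv F31414)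
theorem F39626 : act 3 n10032 = n8237 := d25_1 D10032 (iv D8237) D8236
theorem F39627 : act 5 n10032 = n8502 := d32_1 D10032 (iv D8502) (iv F31415)
def n10033 : Q := act 4 n8238
theorem D10033 : act 4 n8238 = n10033 := rfl
theorem F39628 : act 1 n10033 = n8294 := d10_1 D10033 (iv D8294) (iv F31421)
theorem F39629 : act 2 n10033 = n9471 := d16_1 D10033 (iv F39404) F39403
theorem F39630 : act 6 n10033 = n8240 := d27_2 (iv F31423) D10033 (iv D8240)
theorem F39631 : act 7 n10033 = n10033 := d28_2 F31424 D10033 (iv D10033)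
theorem F39632 : act 5 n9472 = n10033 := d17_0 F39629 F35816 D9472
def n10034 : Q := act 8 n8238
theorem D10034 : act 8 n8238 = n10034 := rfl
theorem F39633 : act 1 n10034 = n8295 := d14_1 D10034 (iv D8295) (iv F31421)
theorem F39634 : act 3 n10034 = n8239 := d25_1 D10034 (iv D8239) D8238
theorem F39635 : act 5 n10034 = n10034 := d32_1 D10034 (iv D10034) F31422
theorem F39636 : act 6 n10034 = n8241 := d34_1 D10034 (iv D8241) (iv F31423)
def n10035 : Q := act 5 n8240
theorem D10035 : act 5 n8240 = n10035 := rfl
theorem F39637 : act 1 n10035 = n8296 := d11_1 D10035 (iv D8296) (iv F31430)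
theorem F39638 : act 4 n10035 = n8242 := d26_1 D10035 (iv D8242) (iv D6019) (iv F23242) D8240
theorem F39639 : act 7 n10035 = n10035 := d31_2 F31431 D10035 (iv D10035)
def n10036 : Q := act 8 n8240
theorem D10036 : act 8 n8240 = n10036 := rfl
theorem F39640 : act 1 n10036 = n8297 := d14_1 D10036 (iv D8297) (iv F31430)
theorem F39641 : act 4 n10036 = n8241 := d29_1 D10036 (iv D8241) D8240
def n10037 : Q := act 7 n8241
theorem D10037 : act 7 n8241 = n10037 := rfl
theorem F39642 : act 1 n10037 = n8298 := d13_1 D10037 (iv D8298) (iv F31432)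
theorem F39643 : act 3 n10037 = n9898 := d24_1 D10037 (iv D9898) F29671 (iv F23247) (iv F31433)
theorem F39644 : act 5 n10037 = n8244 := d31_1 D10037 (iv D8244) (iv F31434)
theorem F39645 : act 8 n10037 = n10037 := d35_2 D8241 D10037 (iv D10037) (iv D8241) F23243
def n10038 : Q := act 6 n8242
theorem D10038 : act 6 n8242 = n10038 := rfl
theorem F39646 : act 1 n10038 = n8299 := d12_1 D10038 (iv D8299) (iv F31435)
theorem F39647 : act 3 n10038 = n8508 := d23_1 D10038 (iv D8508) (iv F31436)
theorem F39648 : act 5 n10038 = n10038 := d30_1 D10038 (iv D10038) (iv D8242) F23250 D8242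
theorem F39649 : act 7 n10038 = n10038 := d33_2 F31437 D10038 (iv D10038)
def n10039 : Q := act 8 n8242
theorem D10039 : act 8 n8242 = n10039 := rfl
theorem F39650 : act 1 n10039 = n8300 := d14_1 D10039 (iv D8300) (iv F31435)
theorem F39651 : act 3 n10039 = n8509 := d25_1 D10039 (iv D8509) (iv F31436)
theorem F39652 : act 5 n10039 = n8243 := d32_1 D10039 (iv D8243) D8242
def n10040 : Q := act 7 n8243
theorem D10040 : act 7 n8243 = n10040 := rfl
theorem F39653 : act 1 n10040 = n8301 := d13_1 D10040 (iv D8301) (iv F31438)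
theorem F39654 : act 4 n10040 = n8244 := d28_1 D10040 (iv D8244) (iv F31440)
theorem F39655 : act 6 n10040 = n10040 := d33_1 D10040 (iv D10040) F31441
theorem F39656 : act 8 n10040 = n10040 := d35_2 D8243 D10040 (iv D10040) (iv D8243) F23251
def n10041 : Q := act 3 n8245
theorem D10041 : act 3 n8245 = n10041 := rfl
theorem F39657 : act 1 n10041 = n8250 := d9_1 D10041 (iv D8250) (iv F31446)
theorem F39658 : act 5 n10041 = n8246 := d22_2 (iv F31448) D10041 (iv D8246)
theorem F39659 : act 6 n10041 = n8463 := d23_2 (iv F31449) D10041 F38469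
theorem F39660 : act 7 n10041 = n10041 := d24_2 D8245 D10041 (iv D10041) (iv D8245) F23256
def n10042 : Q := act 8 n8245
theorem D10042 : act 8 n8245 = n10042 := rfl
theorem F39661 : act 1 n10042 = n8251 := d14_1 D10042 (iv D8251) (iv F31446)
theorem F39662 : act 4 n10042 = n10042 := d29_1 D10042 (iv D10042) F31447
theorem F39663 : act 5 n10042 = n8247 := d32_1 D10042 (iv D8247) (iv F31448)
theorem F39664 : act 6 n10042 = n8512 := d34_1 D10042 (iv D8512) (iv F31449)
theorem F39665 : act 7 n10042 = n8316 := d35_1 D10042 (iv D8316) F23437 (iv F38346) D8245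
def n10043 : Q := act 2 n8246
theorem D10043 : act 2 n8246 = n10043 := rfl
theorem F39666 : act 4 n10043 = n9360 := d16_2 F39439 D10043 (iv F39438)
theorem F39667 : act 6 n10043 = n8248 := d18_2 (iv F31451) D10043 (iv D8248)
theorem F39668 : act 7 n10043 = n10043 := d19_2 F31452 D10043 (iv D10043)
def n10044 : Q := act 8 n8246
theorem D10044 : act 8 n8246 = n10044 := rfl
theorem F39669 : act 1 n10044 = n8253 := d14_1 D10044 (iv D8253) (iv F31450)
theorem F39670 : act 3 n10044 = n8247 := d25_1 D10044 (iv D8247) D8246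
theorem F39671 : act 6 n10044 = n8249 := d34_1 D10044 (iv D8249) (iv F31451)
def n10045 : Q := act 1 n8248
theorem D10045 : act 1 n8248 = n10045 := rfl
theorem F39672 : act 2 n10045 = n8254 := d8_2 D8248 D10045 (iv D8254) (iv D6029) (iv F23263)
theorem F39673 : act 5 n10045 = n8515 := d11_2 (iv F31457) D10045 (iv D8515)
theorem F39674 : act 7 n10045 = n10045 := d13_2 F31458 D10045 (iv D10045)
def n10046 : Q := act 8 n8248
theorem D10046 : act 8 n8248 = n10046 := rfl
theorem F39675 : act 2 n10046 = n8249 := d20_1 D10046 (iv D8249) D8248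
theorem F39676 : act 5 n10046 = n8516 := d32_1 D10046 (iv D8516) (iv F31457)
def n10047 : Q := act 7 n8249
theorem D10047 : act 7 n8249 = n10047 := rfl
theorem F39677 : act 1 n10047 = n8256 := d13_1 D10047 (iv D8256) (iv F31459)
theorem F39678 : act 3 n10047 = n9903 := d24_1 D10047 (iv D9903) F29697 (iv F23269) (iv F31460)
theorem F39679 : act 5 n10047 = n8517 := d31_1 D10047 (iv D8517) (iv F31461)
theorem F39680 : act 8 n10047 = n10047 := d35_2 D8249 D10047 (iv D10047) (iv D8249) F23265
def n10048 : Q := act 4 n8250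
theorem D10048 : act 4 n8250 = n10048 := rfl
theorem F39681 : act 0 n10048 = n9991 := d3_1 D10048 F39469 F38400
theorem F39682 : act 2 n10048 = n8419 := d16_1 D10048 F32097 (iv F38339)
theorem F39683 : act 3 n10048 = n10048 := d21_1 D10048 (iv D10048) (iv D8250) F23275 D8250
theorem F39684 : act 6 n10048 = n8421 := d27_2 F38393 D10048 F32107
theorem F39685 : act 7 n10048 = n10048 := d28_2 F31464 D10048 (iv D10048)
def n10049 : Q := act 8 n8250
theorem D10049 : act 8 n8250 = n10049 := rfl
theorem F39686 : act 2 n10049 = n8462 := d20_1 D10049 (iv D8462) (iv F38339)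
theorem F39687 : act 3 n10049 = n8251 := d25_1 D10049 (iv D8251) D8250
theorem F39688 : act 5 n10049 = n8253 := d32_1 D10049 (iv D8253) (iv F31462)
theorem F39689 : act 6 n10049 = n8464 := d34_1 D10049 (iv D8464) F38393
def n10050 : Q := act 1 n8252
theorem D10050 : act 1 n8252 = n10050 := rfl
theorem F39690 : act 3 n10050 = n8312 := d9_2 (iv F31470) D10050 (iv D8312)
theorem F39691 : act 5 n10050 = n8455 := d11_2 (iv F38401) D10050 F32248
theorem F39692 : act 6 n10050 = n8254 := d12_2 (iv F31471) D10050 (iv D8254)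
theorem F39693 : act 7 n10050 = n10050 := d13_2 F31472 D10050 (iv D10050)
def n10051 : Q := act 8 n8252
theorem D10051 : act 8 n8252 = n10051 := rfl
theorem F39694 : act 0 n10051 = n10049 := d7_1 D10051 (iv D10049) (iv F38400)
theorem F39695 : act 2 n10051 = n8253 := d20_1 D10051 (iv D8253) D8252
theorem F39696 : act 3 n10051 = n8313 := d25_1 D10051 (iv D8313) (iv F31470)
theorem F39697 : act 5 n10051 = n8462 := d32_1 D10051 (iv D8462) (iv F38401)
theorem F39698 : act 6 n10051 = n8255 := d34_1 D10051 (iv D8255) (iv F31471)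
def n10052 : Q := act 7 n8253
theorem D10052 : act 7 n8253 = n10052 := rfl
theorem F39699 : act 3 n10052 = n8526 := d24_1 D10052 (iv D8526) F23997 F38480 (iv F31473)
theorem F39700 : act 6 n10052 = n8256 := d33_1 D10052 (iv D8256) (iv F31474)
theorem F39701 : act 8 n10052 = n10052 := d35_2 D8253 D10052 (iv D10052) (iv D8253) F23279
def n10053 : Q := act 0 n8254
theorem D10053 : act 0 n8254 = n10053 := rfl
theorem F39702 : act 3 n10053 = n8315 := d2_2 (iv F31475) D10053 (iv D8315)
theorem F39703 : act 5 n10053 = n8524 := d4_2 (iv F31476) D10053 (iv D8524)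
theorem F39704 : act 7 n10053 = n10053 := d6_2 F31477 D10053 (iv D10053)
def n10054 : Q := act 8 n8254
theorem D10054 : act 8 n8254 = n10054 := rfl
theorem F39705 : act 1 n10054 = n8255 := d14_1 D10054 (iv D8255) D8254
theorem F39706 : act 3 n10054 = n8316 := d25_1 D10054 (iv D8316) (iv F31475)
theorem F39707 : act 5 n10054 = n8525 := d32_1 D10054 (iv D8525) (iv F31476)
def n10055 : Q := act 7 n8255
theorem D10055 : act 7 n8255 = n10055 := rfl
theorem F39708 : act 2 n10055 = n8256 := d19_1 D10055 (iv D8256) (iv F31478)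
theorem F39709 : act 5 n10055 = n8526 := d31_1 D10055 (iv D8526) (iv F31480)
theorem F39710 : act 8 n10055 = n10055 := d35_2 D8255 D10055 (iv D10055) (iv D8255) F23286
def n10056 : Q := act 2 n8257
theorem D10056 : act 2 n8257 = n10056 := rfl
theorem F39711 : act 1 n10056 = n8318 := d8_1 D10056 (iv D8318) F23446 (iv F23306) (iv F31484)
theorem F39712 : act 4 n10056 = n10056 := d16_2 F31485 D10056 (iv D10056)
theorem F39713 : act 5 n10056 = n8588 := d17_2 (iv F31486) D10056 (iv D8588)
theorem F39714 : act 8 n10056 = n9904 := d20_2 (iv F31487) D10056 (iv D9904)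
def n10057 : Q := act 6 n8257
theorem D10057 : act 6 n8257 = n10057 := rfl
theorem F39715 : act 1 n10057 = n8266 := d12_1 D10057 (iv D8266) (iv F31484)
theorem F39716 : act 3 n10057 = n8258 := d23_1 D10057 (iv D8258) D8257
theorem F39717 : act 4 n10057 = n10057 := d27_1 D10057 (iv D10057) F31485
theorem F39718 : act 8 n10057 = n8780 := d34_2 (iv F31487) D10057 F39011
def n10058 : Q := act 7 n8257
theorem D10058 : act 7 n8257 = n10058 := rfl
theorem F39719 : act 1 n10058 = n8267 := d13_1 D10058 (iv D8267) (iv F31484)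
theorem F39720 : act 4 n10058 = n10058 := d28_1 D10058 (iv D10058) F31485
theorem F39721 : act 5 n10058 = n8590 := d31_1 D10058 (iv D8590) (iv F31486)
def n10059 : Q := act 5 n8258
theorem D10059 : act 5 n8258 = n10059 := rfl
theorem F39722 : act 1 n10059 = n8268 := d11_1 D10059 (iv D8268) (iv F31488)
theorem F39723 : act 4 n10059 = n10059 := d26_1 D10059 (iv D10059) F31489 F23294 (iv F31489)
theorem F39724 : act 6 n10059 = n8591 := d30_2 D8258 D10059 (iv D8591) (iv D6265) (iv F23290)
theorem F39725 : act 8 n10059 = n8350 := d32_2 F38306 D10059 F31833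
def n10060 : Q := act 7 n8258
theorem D10060 : act 7 n8258 = n10060 := rfl
theorem F39726 : act 1 n10060 = n8269 := d13_1 D10060 (iv D8269) (iv F31488)
theorem F39727 : act 4 n10060 = n8260 := d28_1 D10060 (iv D8260) (iv F31489)
theorem F39728 : act 6 n10060 = n8259 := d33_1 D10060 (iv D8259) D8258
def n10061 : Q := act 3 n8259
theorem D10061 : act 3 n8259 = n10061 := rfl
theorem F39729 : act 1 n10061 = n8270 := d9_1 D10061 (iv D8270) (iv F31491)
theorem F39730 : act 5 n10061 = n8593 := d22_2 (iv F31493) D10061 (iv D8593)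
def n10062 : Q := act 8 n8259
theorem D10062 : act 8 n8259 = n10062 := rfl
theorem F39731 : act 1 n10062 = n8271 := d14_1 D10062 (iv D8271) (iv F31491)
theorem F39732 : act 4 n10062 = n8262 := d29_1 D10062 (iv D8262) (iv F31492)
theorem F39733 : act 5 n10062 = n8594 := d32_1 D10062 (iv D8594) (iv F31493)
theorem F39734 : act 7 n10062 = n9907 := d35_1 D10062 (iv D9907) (iv D7768) (iv F23291) D8259
def n10063 : Q := act 3 n8260
theorem D10063 : act 3 n8260 = n10063 := rfl
theorem F39735 : act 1 n10063 = n8272 := d9_1 D10063 (iv D8272) (iv F31494)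
theorem F39736 : act 5 n10063 = n10063 := d22_2 F31495 D10063 (iv D10063)
theorem F39737 : act 6 n10063 = n8261 := d23_2 (iv F31496) D10063 (iv D8261)
theorem F39738 : act 7 n10063 = n10063 := d24_2 D8260 D10063 (iv D10063) (iv D8260) F23293
def n10064 : Q := act 8 n8260
theorem D10064 : act 8 n8260 = n10064 := rfl
theorem F39739 : act 1 n10064 = n8273 := d14_1 D10064 (iv D8273) (iv F31494)
theorem F39740 : act 5 n10064 = n10064 := d32_1 D10064 (iv D10064) F31495
theorem F39741 : act 6 n10064 = n8262 := d34_1 D10064 (iv D8262) (iv F31496)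
theorem F39742 : act 7 n10064 = n8881 := d35_1 D10064 (iv D8881) F24866 F38366 D8260
def n10065 : Q := act 2 n8261
theorem D10065 : act 2 n8261 = n10065 := rfl
theorem F39743 : act 1 n10065 = n10065 := d8_1 D10065 (iv D10065) F31497 F23323 (iv F31497)
theorem F39744 : act 5 n10065 = n8263 := d17_2 (iv F31498) D10065 (iv D8263)
theorem F39745 : act 7 n10065 = n10065 := d19_2 F31499 D10065 (iv D10065)
def n10066 : Q := act 4 n8261
theorem D10066 : act 4 n8261 = n10066 := rfl
theorem F39746 : act 1 n10066 = n8274 := d10_1 D10066 (iv D8274) (iv F31497)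
theorem F39747 : act 7 n10066 = n10066 := d28_2 F31499 D10066 (iv D10066)
def n10067 : Q := act 8 n8261
theorem D10067 : act 8 n8261 = n10067 := rfl
theorem F39748 : act 1 n10067 = n8275 := d14_1 D10067 (iv D8275) (iv F31497)
theorem F39749 : act 3 n10067 = n8262 := d25_1 D10067 (iv D8262) D8261
theorem F39750 : act 5 n10067 = n8265 := d32_1 D10067 (iv D8265) (iv F31498)
def n10068 : Q := act 4 n8263
theorem D10068 : act 4 n8263 = n10068 := rfl
theorem F39751 : act 1 n10068 = n10068 := d10_1 D10068 (iv D10068) F31503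
theorem F39752 : act 2 n10068 = n8264 := d16_1 D10068 (iv D8264) D8263
theorem F39753 : act 6 n10068 = n10068 := d27_2 F31504 D10068 (iv D10068)
theorem F39754 : act 7 n10068 = n10068 := d28_2 F31505 D10068 (iv D10068)
def n10069 : Q := act 8 n8263
theorem D10069 : act 8 n8263 = n10069 := rfl
theorem F39755 : act 1 n10069 = n10069 := d14_1 D10069 (iv D10069) F31503
theorem F39756 : act 2 n10069 = n8265 := d20_1 D10069 (iv D8265) D8263
theorem F39757 : act 6 n10069 = n10069 := d34_1 D10069 (iv D10069) F31504
def n10070 : Q := act 5 n8264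
theorem D10070 : act 5 n8264 = n10070 := rfl
theorem F39758 : act 1 n10070 = n8276 := d11_1 D10070 (iv D8276) (iv F31506)
theorem F39759 : act 3 n10070 = n8602 := d22_1 D10070 (iv D8602) (iv F31507)
theorem F39760 : act 7 n10070 = n10070 := d31_2 F31509 D10070 (iv D10070)
def n10071 : Q := act 8 n8264
theorem D10071 : act 8 n8264 = n10071 := rfl
theorem F39761 : act 1 n10071 = n8277 := d14_1 D10071 (iv D8277) (iv F31506)
theorem F39762 : act 3 n10071 = n8603 := d25_1 D10071 (iv D8603) (iv F31507)
theorem F39763 : act 4 n10071 = n8265 := d29_1 D10071 (iv D8265) D8264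
theorem F39764 : act 6 n10071 = n10071 := d34_1 D10071 (iv D10071) F31508
def n10072 : Q := act 7 n8265
theorem D10072 : act 7 n8265 = n10072 := rfl
theorem F39765 : act 1 n10072 = n8278 := d13_1 D10072 (iv D8278) (iv F31510)
theorem F39766 : act 3 n10072 = n9915 := d24_1 D10072 (iv D9915) F29751 (iv F23304) (iv F31511)
theorem F39767 : act 6 n10072 = n10072 := d33_1 D10072 (iv D10072) F31512
theorem F39768 : act 8 n10072 = n10072 := d35_2 D8265 D10072 (iv D10072) (iv D8265) F23300
def n10073 : Q := act 5 n8266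
theorem D10073 : act 5 n8266 = n10073 := rfl
theorem F39769 : act 0 n10073 = n8284 := d4_1 D10073 (iv D8284) (iv F31513)
theorem F39770 : act 2 n10073 = n8332 := d17_1 D10073 (iv D8332) (iv F31514)
theorem F39771 : act 3 n10073 = n8268 := d22_1 D10073 (iv D8268) (iv F31515)
theorem F39772 : act 6 n10073 = n8605 := d30_2 D8266 D10073 (iv D8605) (iv D6273) (iv F23308)
theorem F39773 : act 8 n10073 = n8339 := d32_2 F38185 D10073 F31792
def n10074 : Q := act 7 n8266
theorem D10074 : act 7 n8266 = n10074 := rfl
theorem F39774 : act 0 n10074 = n8285 := d6_1 D10074 (iv D8285) (iv F31513)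
theorem F39775 : act 2 n10074 = n8333 := d19_1 D10074 (iv D8333) (iv F31514)
theorem F39776 : act 4 n10074 = n10074 := d28_1 D10074 (iv D10074) F31516
theorem F39777 : act 6 n10074 = n8267 := d33_1 D10074 (iv D8267) D8266
def n10075 : Q := act 3 n8267
theorem D10075 : act 3 n8267 = n10075 := rfl
theorem F39778 : act 0 n10075 = n8286 := d2_1 D10075 (iv D8286) (iv F31518)
theorem F39779 : act 5 n10075 = n8607 := d22_2 (iv F31521) D10075 (iv D8607)
theorem F39780 : act 7 n10075 = n8270 := d24_2 D8267 D10075 (iv D8270) (iv D6038) D6036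
def n10076 : Q := act 8 n8267
theorem D10076 : act 8 n8267 = n10076 := rfl
theorem F39781 : act 0 n10076 = n8287 := d7_1 D10076 (iv D8287) (iv F31518)
theorem F39782 : act 2 n10076 = n8335 := d20_1 D10076 (iv D8335) (iv F31519)
theorem F39783 : act 4 n10076 = n10076 := d29_1 D10076 (iv D10076) F31520
theorem F39784 : act 5 n10076 = n8608 := d32_1 D10076 (iv D8608) (iv F31521)
theorem F39785 : act 7 n10076 = n9917 := d35_1 D10076 (iv D9917) (iv D7776) (iv F23309) D8267
def n10077 : Q := act 7 n8268
theorem D10077 : act 7 n8268 = n10077 := rfl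
theorem F39786 : act 0 n10077 = n8288 := d6_1 D10077 (iv D8288) (iv F31522)
theorem F39787 : act 2 n10077 = n8279 := d19_1 D10077 (iv D8279) (iv F31523)
theorem F39788 : act 4 n10077 = n10077 := d28_1 D10077 (iv D10077) F31524
theorem F39789 : act 5 n10077 = n8269 := d31_1 D10077 (iv D8269) D8268
theorem F39790 : act 6 n10077 = n8552 := d33_1 D10077 F38237 (iv F31525)
def n10078 : Q := act 3 n8269
theorem D10078 : act 3 n8269 = n10078 := rfl
theorem F39791 : act 0 n10078 = n8289 := d2_1 D10078 (iv D8289) (iv F31527)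
theorem F39792 : act 6 n10078 = n8270 := d23_2 (iv F31530) D10078 (iv D8270)
def n10079 : Q := act 8 n8269
theorem D10079 : act 8 n8269 = n10079 := rfl
theorem F39793 : act 0 n10079 = n8290 := d7_1 D10079 (iv D8290) (iv F31527)
theorem F39794 : act 2 n10079 = n8281 := d20_1 D10079 (iv D8281) (iv F31528)
theorem F39795 : act 4 n10079 = n8273 := d29_1 D10079 (iv D8273) (iv F31529)
theorem F39796 : act 6 n10079 = n8271 := d34_1 D10079 (iv D8271) (iv F31530)
theorem F39797 : act 7 n10079 = n8628 := d35_1 D10079 (iv D8628) F24252 F38244 D8269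
def n10080 : Q := act 2 n8270
theorem D10080 : act 2 n8270 = n10080 := rfl
theorem F39798 : act 0 n10080 = n8291 := d1_1 D10080 (iv D8291) (iv F31531)
theorem F39799 : act 3 n10080 = n8282 := d15_2 D8270 D10080 (iv D8282) (iv D6046) (iv F23315)
theorem F39800 : act 5 n10080 = n8612 := d17_2 (iv F31532) D10080 (iv D8612)
def n10081 : Q := act 4 n8270
theorem D10081 : act 4 n8270 = n10081 := rfl
theorem F39801 : act 0 n10081 = n8292 := d3_1 D10081 (iv D8292) (iv F31531)
theorem F39802 : act 3 n10081 = n8274 := d21_1 D10081 (iv D8274) (iv D6040) (iv F23316) D8270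
def n10082 : Q := act 8 n8270
theorem D10082 : act 8 n8270 = n10082 := rfl
theorem F39803 : act 0 n10082 = n8293 := d7_1 D10082 (iv D8293) (iv F31531)
theorem F39804 : act 3 n10082 = n8271 := d25_1 D10082 (iv D8271) D8270
theorem F39805 : act 5 n10082 = n8614 := d32_1 D10082 (iv D8614) (iv F31532)
def n10083 : Q := act 4 n8272
theorem D10083 : act 4 n8272 = n10083 := rfl
theorem F39806 : act 0 n10083 = n8294 := d3_1 D10083 (iv D8294) (iv F31538)
theorem F39807 : act 2 n10083 = n10083 := d16_1 D10083 (iv D10083) F31539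
theorem F39808 : act 6 n10083 = n8274 := d27_2 (iv F31541) D10083 (iv D8274)
theorem F39809 : act 7 n10083 = n10083 := d28_2 F31542 D10083 (iv D10083)
def n10084 : Q := act 8 n8272
theorem D10084 : act 8 n8272 = n10084 := rfl
theorem F39810 : act 0 n10084 = n8295 := d7_1 D10084 (iv D8295) (iv F31538)
theorem F39811 : act 2 n10084 = n10084 := d20_1 D10084 (iv D10084) F31539
theorem F39812 : act 3 n10084 = n8273 := d25_1 D10084 (iv D8273) D8272
theorem F39813 : act 5 n10084 = n10084 := d32_1 D10084 (iv D10084) F31540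
theorem F39814 : act 6 n10084 = n8275 := d34_1 D10084 (iv D8275) (iv F31541)
def n10085 : Q := act 5 n8274
theorem D10085 : act 5 n8274 = n10085 := rfl
theorem F39815 : act 0 n10085 = n8296 := d4_1 D10085 (iv D8296) (iv F31548)
theorem F39816 : act 2 n10085 = n10085 := d17_1 D10085 (iv D10085) F31549
theorem F39817 : act 4 n10085 = n8276 := d26_1 D10085 (iv D8276) (iv D6042) (iv F23324) D8274
theorem F39818 : act 7 n10085 = n10085 := d31_2 F31550 D10085 (iv D10085)
def n10086 : Q := act 8 n8274
theorem D10086 : act 8 n8274 = n10086 := rfl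
theorem F39819 : act 0 n10086 = n8297 := d7_1 D10086 (iv D8297) (iv F31548)
theorem F39820 : act 2 n10086 = n10086 := d20_1 D10086 (iv D10086) F31549
theorem F39821 : act 4 n10086 = n8275 := d29_1 D10086 (iv D8275) D8274
def n10087 : Q := act 7 n8275
theorem D10087 : act 7 n8275 = n10087 := rfl
theorem F39822 : act 0 n10087 = n8298 := d6_1 D10087 (iv D8298) (iv F31551)
theorem F39823 : act 2 n10087 = n10087 := d19_1 D10087 (iv D10087) F31552
theorem F39824 : act 3 n10087 = n9922 := d24_1 D10087 (iv D9922) F29785 (iv F23329) (iv F31553)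
theorem F39825 : act 5 n10087 = n8278 := d31_1 D10087 (iv D8278) (iv F31554)
theorem F39826 : act 8 n10087 = n10087 := d35_2 D8275 D10087 (iv D10087) (iv D8275) F23325
def n10088 : Q := act 6 n8276
theorem D10088 : act 6 n8276 = n10088 := rfl
theorem F39827 : act 0 n10088 = n8299 := d5_1 D10088 (iv D8299) (iv F31555)
theorem F39828 : act 2 n10088 = n10088 := d18_1 D10088 (iv D10088) F31556
theorem F39829 : act 3 n10088 = n8620 := d23_1 D10088 (iv D8620) (iv F31557)
theorem F39830 : act 5 n10088 = n10088 := d30_1 D10088 (iv D10088) (iv D8276) F23333 D8276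
theorem F39831 : act 7 n10088 = n10088 := d33_2 F31558 D10088 (iv D10088)
def n10089 : Q := act 8 n8276
theorem D10089 : act 8 n8276 = n10089 := rfl
theorem F39832 : act 0 n10089 = n8300 := d7_1 D10089 (iv D8300) (iv F31555)
theorem F39833 : act 2 n10089 = n10089 := d20_1 D10089 (iv D10089) F31556
theorem F39834 : act 3 n10089 = n8621 := d25_1 D10089 (iv D8621) (iv F31557)
theorem F39835 : act 5 n10089 = n8277 := d32_1 D10089 (iv D8277) D8276
def n10090 : Q := act 7 n8277
theorem D10090 : act 7 n8277 = n10090 := rfl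
theorem F39836 : act 0 n10090 = n8301 := d6_1 D10090 (iv D8301) (iv F31559)
theorem F39837 : act 2 n10090 = n10090 := d19_1 D10090 (iv D10090) F31560
theorem F39838 : act 4 n10090 = n8278 := d28_1 D10090 (iv D8278) (iv F31562)
theorem F39839 : act 6 n10090 = n10090 := d33_1 D10090 (iv D10090) F31563
theorem F39840 : act 8 n10090 = n10090 := d35_2 D8277 D10090 (iv D10090) (iv D8277) F23334
def n10091 : Q := act 8 n8279
theorem D10091 : act 8 n8279 = n10091 := rfl
theorem F39841 : act 0 n10091 = n8303 := d7_1 D10091 (iv D8303) (iv F31569)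
theorem F39842 : act 3 n10091 = n8551 := d25_1 D10091 (iv D8551) (iv F38110)
theorem F39843 : act 4 n10091 = n10091 := d29_1 D10091 (iv D10091) F31570
theorem F39844 : act 5 n10091 = n8281 := d32_1 D10091 (iv D8281) (iv F31571)
theorem F39845 : act 6 n10091 = n8553 := d34_1 D10091 (iv D8553) F38169
theorem F39846 : act 7 n10091 = n8283 := d35_1 D10091 (iv D8283) F23350 F38112 D8279
def n10092 : Q := act 2 n8280
theorem D10092 : act 2 n8280 = n10092 := rfl
theorem F39847 : act 0 n10092 = n8304 := d1_1 D10092 (iv D8304) (iv F31573)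
theorem F39848 : act 4 n10092 = n10092 := d16_2 F31574 D10092 (iv D10092)
theorem F39849 : act 5 n10092 = n8539 := d17_2 (iv F38176) D10092 F32538
theorem F39850 : act 6 n10092 = n8282 := d18_2 (iv F31575) D10092 (iv D8282)
theorem F39851 : act 7 n10092 = n8348 := d19_2 (iv F31576) D10092 (iv D8348)
def n10093 : Q := act 8 n8280
theorem D10093 : act 8 n8280 = n10093 := rfl
theorem F39852 : act 0 n10093 = n8305 := d7_1 D10093 (iv D8305) (iv F31573)
theorem F39853 : act 1 n10093 = n10091 := d14_1 D10093 (iv D10091) (iv F38175)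
theorem F39854 : act 3 n10093 = n8281 := d25_1 D10093 (iv D8281) D8280
theorem F39855 : act 4 n10093 = n10093 := d29_1 D10093 (iv D10093) F31574
theorem F39856 : act 5 n10093 = n8551 := d32_1 D10093 (iv D8551) (iv F38176)
theorem F39857 : act 6 n10093 = n8283 := d34_1 D10093 (iv D8283) (iv F31575)
theorem F39858 : act 7 n10093 = n8553 := d35_1 D10093 (iv D8553) F38170 F38117 (iv F31576)
def n10094 : Q := act 1 n8282
theorem D10094 : act 1 n8282 = n10094 := rfl
theorem F39859 : act 4 n10094 = n10094 := d10_2 F31582 D10094 (iv D10094)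
theorem F39860 : act 5 n10094 = n8627 := d11_2 (iv F31583) D10094 (iv D8627)
theorem F39861 : act 7 n10094 = n8350 := d13_2 (iv F31584) D10094 (iv D8350)
def n10095 : Q := act 8 n8282
theorem D10095 : act 8 n8282 = n10095 := rfl
theorem F39862 : act 0 n10095 = n8307 := d7_1 D10095 (iv D8307) (iv F31581)
theorem F39863 : act 2 n10095 = n8283 := d20_1 D10095 (iv D8283) D8282
theorem F39864 : act 4 n10095 = n10095 := d29_1 D10095 (iv D10095) F31582
theorem F39865 : act 5 n10095 = n8628 := d32_1 D10095 (iv D8628) (iv F31583)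
def n10096 : Q := act 4 n8284
theorem D10096 : act 4 n8284 = n10096 := rfl
theorem F39866 : act 1 n10096 = n9271 := d10_1 D10096 F39596 F39591
theorem F39867 : act 2 n10096 = n8353 := d16_1 D10096 (iv D8353) (iv F31589)
theorem F39868 : act 3 n10096 = n10096 := d21_1 D10096 (iv D10096) F31590 F23368 (iv F31590)
theorem F39869 : act 5 n10096 = n10096 := d26_2 D8284 D10096 (iv D10096) (iv D8284) F23362
theorem F39870 : act 6 n10096 = n8630 := d27_2 (iv F31591) D10096 (iv D8630)
theorem F39871 : act 8 n10096 = n8366 := d29_2 F38154 D10096 (iv D8366)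
def n10097 : Q := act 7 n8284
theorem D10097 : act 7 n8284 = n10097 := rfl
theorem F39872 : act 2 n10097 = n8354 := d19_1 D10097 (iv D8354) (iv F31589)
theorem F39873 : act 5 n10097 = n8285 := d31_1 D10097 (iv D8285) D8284
theorem F39874 : act 6 n10097 = n8631 := d33_1 D10097 (iv D8631) (iv F31591)
def n10098 : Q := act 3 n8285
theorem D10098 : act 3 n8285 = n10098 := rfl
theorem F39875 : act 6 n10098 = n8286 := d23_2 (iv F31595) D10098 (iv D8286)
theorem F39876 : act 7 n10098 = n8289 := d24_2 D8285 D10098 (iv D8289) (iv D6052) (iv F23361)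
def n10099 : Q := act 8 n8285
theorem D10099 : act 8 n8285 = n10099 := rfl
theorem F39877 : act 2 n10099 = n8356 := d20_1 D10099 (iv D8356) (iv F31593)
theorem F39878 : act 4 n10099 = n10099 := d29_1 D10099 (iv D10099) F31594
theorem F39879 : act 6 n10099 = n8287 := d34_1 D10099 (iv D8287) (iv F31595)
theorem F39880 : act 7 n10099 = n8798 := d35_1 D10099 (iv D8798) F24665 F38220 D8285
def n10100 : Q := act 2 n8286
theorem D10100 : act 2 n8286 = n10100 := rfl
theorem F39881 : act 3 n10100 = n8357 := d15_2 D8286 D10100 (iv D8357) (iv D6100) (iv F23364)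
theorem F39882 : act 5 n10100 = n8634 := d17_2 (iv F31596) D10100 (iv D8634)
theorem F39883 : act 7 n10100 = n8291 := d19_2 (iv F31597) D10100 (iv D8291)
def n10101 : Q := act 4 n8286
theorem D10101 : act 4 n8286 = n10101 := rfl
theorem F39884 : act 3 n10101 = n10101 := d21_1 D10101 (iv D10101) (iv D8286) F23365 D8286
theorem F39885 : act 7 n10101 = n8292 := d28_2 (iv F31597) D10101 (iv D8292)
def n10102 : Q := act 8 n8286
theorem D10102 : act 8 n8286 = n10102 := rfl
theorem F39886 : act 3 n10102 = n8287 := d25_1 D10102 (iv D8287) D8286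
theorem F39887 : act 5 n10102 = n8636 := d32_1 D10102 (iv D8636) (iv F31596)
def n10103 : Q := act 3 n8288
theorem D10103 : act 3 n8288 = n10103 := rfl
theorem F39888 : act 2 n10103 = n8559 := d15_1 D10103 (iv D8559) F24092 F38202 (iv F31602)
theorem F39889 : act 5 n10103 = n8289 := d22_2 (iv F31604) D10103 (iv D8289)
theorem F39890 : act 6 n10103 = n8561 := d23_2 F38262 D10103 F32625
def n10104 : Q := act 8 n8288
theorem D10104 : act 8 n8288 = n10104 := rfl
theorem F39891 : act 2 n10104 = n8303 := d20_1 D10104 (iv D8303) (iv F31602)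
theorem F39892 : act 4 n10104 = n10104 := d29_1 D10104 (iv D10104) F31603
theorem F39893 : act 5 n10104 = n8290 := d32_1 D10104 (iv D8290) (iv F31604)
theorem F39894 : act 6 n10104 = n8577 := d34_1 D10104 (iv D8577) F38262
theorem F39895 : act 7 n10104 = n8307 := d35_1 D10104 (iv D8307) F23417 (iv F38219) D8288
def n10105 : Q := act 2 n8289
theorem D10105 : act 2 n8289 = n10105 := rfl
theorem F39896 : act 3 n10105 = n8304 := d15_2 D8289 D10105 (iv D8304) (iv D6063) (iv F23371)
theorem F39897 : act 5 n10105 = n8559 := d17_2 F39889 D10105 (iv F39888)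
theorem F39898 : act 6 n10105 = n8291 := d18_2 (iv F31606) D10105 (iv D8291)
def n10106 : Q := act 4 n8289
theorem D10106 : act 4 n8289 = n10106 := rfl
theorem F39899 : act 3 n10106 = n8294 := d21_1 D10106 (iv D8294) (iv D6055) (iv F23372) D8289
theorem F39900 : act 6 n10106 = n8292 := d27_2 (iv F31606) D10106 (iv D8292)
def n10107 : Q := act 8 n8289
theorem D10107 : act 8 n8289 = n10107 := rfl
theorem F39901 : act 3 n10107 = n8290 := d25_1 D10107 (iv D8290) D8289
theorem F39902 : act 6 n10107 = n8293 := d34_1 D10107 (iv D8293) (iv F31606)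
def n10108 : Q := act 1 n8291
theorem D10108 : act 1 n8291 = n10108 := rfl
theorem F39903 : act 3 n10108 = n8306 := d9_2 (iv F31611) D10108 (iv D8306)
theorem F39904 : act 5 n10108 = n8642 := d11_2 (iv F31612) D10108 (iv D8642)
def n10109 : Q := act 4 n8291
theorem D10109 : act 4 n8291 = n10109 := rfl
theorem F39905 : act 2 n10109 = n8292 := d16_1 D10109 (iv D8292) D8291
theorem F39906 : act 3 n10109 = n10109 := d21_1 D10109 (iv D10109) F31611 F23415 (iv F31611)
def n10110 : Q := act 8 n8291
theorem D10110 : act 8 n8291 = n10110 := rfl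
theorem F39907 : act 2 n10110 = n8293 := d20_1 D10110 (iv D8293) D8291
theorem F39908 : act 3 n10110 = n8307 := d25_1 D10110 (iv D8307) (iv F31611)
theorem F39909 : act 5 n10110 = n8644 := d32_1 D10110 (iv D8644) (iv F31612)
def n10111 : Q := act 5 n8292
theorem D10111 : act 5 n8292 = n10111 := rfl
theorem F39910 : act 3 n10111 = n8296 := d22_1 D10111 (iv D8296) (iv F31613)
theorem F39911 : act 4 n10111 = n8645 := d26_1 D10111 (iv D8645) (iv D6299) (iv F23374) D8292
def n10112 : Q := act 8 n8292
theorem D10112 : act 8 n8292 = n10112 := rfl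
theorem F39912 : act 3 n10112 = n8297 := d25_1 D10112 (iv D8297) (iv F31613)
theorem F39913 : act 4 n10112 = n8293 := d29_1 D10112 (iv D8293) D8292
def n10113 : Q := act 7 n8293
theorem D10113 : act 7 n8293 = n10113 := rfl
theorem F39914 : act 3 n10113 = n9930 := d24_1 D10113 (iv D9930) F29835 (iv F23378) (iv F31614)
theorem F39915 : act 5 n10113 = n8647 := d31_1 D10113 (iv D8647) (iv F31615)
def n10114 : Q := act 5 n8294
theorem D10114 : act 5 n8294 = n10114 := rfl
theorem F39916 : act 1 n10114 = n9472 := d11_1 D10114 F39632 F39628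
theorem F39917 : act 2 n10114 = n10114 := d17_1 D10114 (iv D10114) F31616
theorem F39918 : act 4 n10114 = n10114 := d26_1 D10114 (iv D10114) (iv D8294) F23380 D8294
theorem F39919 : act 7 n10114 = n10114 := d31_2 F31618 D10114 (iv D10114)
def n10115 : Q := act 8 n8294
theorem D10115 : act 8 n8294 = n10115 := rfl
theorem F39920 : act 2 n10115 = n10115 := d20_1 D10115 (iv D10115) F31616
theorem F39921 : act 4 n10115 = n8295 := d29_1 D10115 (iv D8295) D8294
theorem F39922 : act 6 n10115 = n8297 := d34_1 D10115 (iv D8297) (iv F31617)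
def n10116 : Q := act 7 n8295
theorem D10116 : act 7 n8295 = n10116 := rfl
theorem F39923 : act 2 n10116 = n10116 := d19_1 D10116 (iv D10116) F31619
theorem F39924 : act 3 n10116 = n8897 := d24_1 D10116 (iv D8897) F24901 F38485 (iv F31620)
theorem F39925 : act 5 n10116 = n10116 := d31_1 D10116 (iv D10116) F31621
theorem F39926 : act 6 n10116 = n8298 := d33_1 D10116 (iv D8298) (iv F31622)
theorem F39927 : act 8 n10116 = n10116 := d35_2 D8295 D10116 (iv D10116) (iv D8295) F23382
def n10117 : Q := act 6 n8296
theorem D10117 : act 6 n8296 = n10117 := rfl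
theorem F39928 : act 2 n10117 = n10117 := d18_1 D10117 (iv D10117) F31623
theorem F39929 : act 4 n10117 = n8299 := d27_1 D10117 (iv D8299) (iv F31624)
theorem F39930 : act 7 n10117 = n10117 := d33_2 F31625 D10117 (iv D10117)
def n10118 : Q := act 8 n8296
theorem D10118 : act 8 n8296 = n10118 := rfl
theorem F39931 : act 2 n10118 = n10118 := d20_1 D10118 (iv D10118) F31623
theorem F39932 : act 4 n10118 = n8300 := d29_1 D10118 (iv D8300) (iv F31624)
theorem F39933 : act 5 n10118 = n8297 := d32_1 D10118 (iv D8297) D8296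
def n10119 : Q := act 7 n8297
theorem D10119 : act 7 n8297 = n10119 := rfl
theorem F39934 : act 2 n10119 = n10119 := d19_1 D10119 (iv D10119) F31626
theorem F39935 : act 4 n10119 = n8298 := d28_1 D10119 (iv D8298) (iv F31627)
theorem F39936 : act 8 n10119 = n10119 := d35_2 D8297 D10119 (iv D10119) (iv D8297) F23388
def n10120 : Q := act 8 n8299
theorem D10120 : act 8 n8299 = n10120 := rfl
theorem F39937 : act 2 n10120 = n10120 := d20_1 D10120 (iv D10120) F31632
theorem F39938 : act 3 n10120 = n8654 := d25_1 D10120 (iv D8654) (iv F31633)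
theorem F39939 : act 5 n10120 = n10120 := d32_1 D10120 (iv D10120) F31634
theorem F39940 : act 6 n10120 = n8300 := d34_1 D10120 (iv D8300) D8299
def n10121 : Q := act 7 n8300
theorem D10121 : act 7 n8300 = n10121 := rfl
theorem F39941 : act 2 n10121 = n10121 := d19_1 D10121 (iv D10121) F31636
theorem F39942 : act 5 n10121 = n8301 := d31_1 D10121 (iv D8301) (iv F31638)
theorem F39943 : act 8 n10121 = n10121 := d35_2 D8300 D10121 (iv D10121) (iv D8300) F23394
def n10122 : Q := act 3 n8301
theorem D10122 : act 3 n8301 = n10122 := rfl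
theorem F39944 : act 4 n10122 = n9936 := d21_2 (iv F31640) D10122 (iv D9936) F29857 (iv F23400)
theorem F39945 : act 6 n10122 = n10122 := d23_2 F31641 D10122 (iv D10122)
theorem F39946 : act 7 n10122 = n8656 := d24_2 D8301 D10122 (iv D8656) (iv D6308) (iv F23396)
theorem F39947 : act 8 n10122 = n10122 := d25_2 F31642 D10122 (iv D10122)
def n10123 : Q := act 1 n8304
theorem D10123 : act 1 n8304 = n10123 := rfl
theorem F39948 : act 2 n10123 = n8312 := d8_2 D8304 D10123 (iv D8312) (iv D6069) (iv F23407)
theorem F39949 : act 4 n10123 = n10123 := d10_2 F31652 D10123 (iv D10123)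
theorem F39950 : act 5 n10123 = n8444 := d11_2 (iv F38299) D10123 F32208
theorem F39951 : act 6 n10123 = n8306 := d12_2 (iv F31653) D10123 (iv D8306)
theorem F39952 : act 7 n10123 = n8377 := d13_2 (iv F31654) D10123 (iv D8377)
def n10124 : Q := act 8 n8304
theorem D10124 : act 8 n8304 = n10124 := rfl
theorem F39953 : act 2 n10124 = n8305 := d20_1 D10124 (iv D8305) D8304
theorem F39954 : act 4 n10124 = n10124 := d29_1 D10124 (iv D10124) F31652
theorem F39955 : act 5 n10124 = n8560 := d32_1 D10124 (iv D8560) (iv F38299)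
theorem F39956 : act 6 n10124 = n8307 := d34_1 D10124 (iv D8307) (iv F31653)
theorem F39957 : act 7 n10124 = n8577 := d35_1 D10124 (iv D8577) F38263 F38247 (iv F31654)
def n10125 : Q := act 0 n8306
theorem D10125 : act 0 n8306 = n10125 := rfl
theorem F39958 : act 2 n10125 = n8315 := d1_2 (iv F31659) D10125 (iv D8315)
theorem F39959 : act 4 n10125 = n10125 := d3_2 F31660 D10125 (iv D10125)
theorem F39960 : act 5 n10125 = n8663 := d4_2 (iv F31661) D10125 (iv D8663)
theorem F39961 : act 7 n10125 = n8380 := d6_2 (iv F31662) D10125 (iv D8380)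
def n10126 : Q := act 8 n8306
theorem D10126 : act 8 n8306 = n10126 := rfl
theorem F39962 : act 1 n10126 = n8307 := d14_1 D10126 (iv D8307) D8306
theorem F39963 : act 2 n10126 = n8316 := d20_1 D10126 (iv D8316) (iv F31659)
theorem F39964 : act 4 n10126 = n10126 := d29_1 D10126 (iv D10126) F31660
theorem F39965 : act 5 n10126 = n8664 := d32_1 D10126 (iv D8664) (iv F31661)
def n10127 : Q := act 0 n8312
theorem D10127 : act 0 n8312 = n10127 := rfl
theorem F39966 : act 1 n10127 = n10018 := d0_2 D8312 D10127 F39574 F31446 (iv F38335)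
theorem F39967 : act 4 n10127 = n10127 := d3_2 F31681 D10127 (iv D10127)
theorem F39968 : act 5 n10127 = n8437 := d4_2 (iv F38399) D10127 F32176
theorem F39969 : act 6 n10127 = n8315 := d5_2 (iv F31682) D10127 (iv D8315)
theorem F39970 : act 7 n10127 = n8388 := d6_2 (iv F31683) D10127 (iv D8388)
def n10128 : Q := act 8 n8312
theorem D10128 : act 8 n8312 = n10128 := rfl
theorem F39971 : act 1 n10128 = n8313 := d14_1 D10128 (iv D8313) D8312
theorem F39972 : act 4 n10128 = n10128 := d29_1 D10128 (iv D10128) F31681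
theorem F39973 : act 5 n10128 = n8456 := d32_1 D10128 (iv D8456) (iv F38399)
theorem F39974 : act 6 n10128 = n8316 := d34_1 D10128 (iv D8316) (iv F31682)
theorem F39975 : act 7 n10128 = n8512 := d35_1 D10128 (iv D8512) (iv D6209) F38370 (iv F31683)
def n10129 : Q := act 8 n8315
theorem D10129 : act 8 n8315 = n10129 := rfl
theorem F39976 : act 0 n10129 = n8316 := d7_1 D10129 (iv D8316) D8315
theorem F39977 : act 4 n10129 = n10129 := d29_1 D10129 (iv D10129) F31691
theorem F39978 : act 5 n10129 = n8674 := d32_1 D10129 (iv D8674) (iv F31692)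
def n10130 : Q := act 6 n8318
theorem D10130 : act 6 n8318 = n10130 := rfl
theorem F39979 : act 0 n10130 = n10130 := d5_1 D10130 (iv D10130) F31701
theorem F39980 : act 2 n10130 = n8319 := d18_1 D10130 (iv D8319) D8318
theorem F39981 : act 4 n10130 = n10130 := d27_1 D10130 (iv D10130) F31702
theorem F39982 : act 8 n10130 = n8768 := d34_2 (iv F31704) D10130 F39018
def n10131 : Q := act 7 n8318
theorem D10131 : act 7 n8318 = n10131 := rfl
theorem F39983 : act 0 n10131 = n10131 := d6_1 D10131 (iv D10131) F31701
theorem F39984 : act 2 n10131 = n8320 := d19_1 D10131 (iv D8320) D8318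
theorem F39985 : act 4 n10131 = n10131 := d28_1 D10131 (iv D10131) F31702
theorem F39986 : act 5 n10131 = n8760 := d31_1 D10131 (iv D8760) (iv F31703)
def n10132 : Q := act 5 n8319
theorem D10132 : act 5 n8319 = n10132 := rfl
theorem F39987 : act 0 n10132 = n10132 := d4_1 D10132 (iv D10132) F31705
theorem F39988 : act 1 n10132 = n8332 := d11_1 D10132 (iv D8332) (iv F31706)
theorem F39989 : act 3 n10132 = n8321 := d22_1 D10132 (iv D8321) (iv F31707)
theorem F39990 : act 6 n10132 = n8682 := d30_2 D8319 D10132 (iv F38029) (iv D6384) (iv F23448)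
theorem F39991 : act 8 n10132 = n8323 := d32_2 F38039 D10132 F31725
def n10133 : Q := act 7 n8319
theorem D10133 : act 7 n8319 = n10133 := rfl
theorem F39992 : act 0 n10133 = n10133 := d6_1 D10133 (iv D10133) F31705
theorem F39993 : act 1 n10133 = n8333 := d13_1 D10133 (iv D8333) (iv F31706)
theorem F39994 : act 4 n10133 = n10133 := d28_1 D10133 (iv D10133) F31708
theorem F39995 : act 6 n10133 = n8320 := d33_1 D10133 (iv D8320) D8319
def n10134 : Q := act 3 n8320
theorem D10134 : act 3 n8320 = n10134 := rfl
theorem F39996 : act 0 n10134 = n10134 := d2_1 D10134 (iv D10134) F31710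
theorem F39997 : act 1 n10134 = n8334 := d9_1 D10134 (iv D8334) (iv F31711)
theorem F39998 : act 5 n10134 = n8763 := d22_2 (iv F31713) D10134 (iv D8763)
theorem F39999 : act 7 n10134 = n8323 := d24_2 D8320 D10134 (iv D8323) (iv D6076) D6074
def n10135 : Q := act 8 n8320
theorem D10135 : act 8 n8320 = n10135 := rfl
theorem F40000 : act 0 n10135 = n10135 := d7_1 D10135 (iv D10135) F31710
theorem F40001 : act 1 n10135 = n8335 := d14_1 D10135 (iv D8335) (iv F31711)
theorem F40002 : act 4 n10135 = n10135 := d29_1 D10135 (iv D10135) F31712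
theorem F40003 : act 5 n10135 = n8764 := d32_1 D10135 (iv D8764) (iv F31713)
theorem F40004 : act 7 n10135 = n9938 := d35_1 D10135 (iv D9938) (iv D7829) (iv F23449) D8320
def n10136 : Q := act 3 n8322
theorem D10136 : act 3 n8322 = n10136 := rfl
theorem F40005 : act 0 n10136 = n10136 := d2_1 D10136 (iv D10136) F31719
theorem F40006 : act 1 n10136 = n8337 := d9_1 D10136 (iv D8337) (iv F31720)
theorem F40007 : act 5 n10136 = n8678 := d22_2 (iv F37854) D10136 F32973
theorem F40008 : act 6 n10136 = n8323 := d23_2 (iv F31722) D10136 (iv D8323)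
theorem F40009 : act 8 n10136 = n8682 := d25_2 (iv F37857) D10136 (iv D8682)
def n10137 : Q := act 2 n8323
theorem D10137 : act 2 n8323 = n10137 := rfl
theorem F40010 : act 0 n10137 = n10137 := d1_1 D10137 (iv D10137) F31723
theorem F40011 : act 5 n10137 = n8768 := d17_2 (iv F31725) D10137 (iv D8768)
def n10138 : Q := act 4 n8323
theorem D10138 : act 4 n8323 = n10138 := rfl
theorem F40012 : act 0 n10138 = n10138 := d3_1 D10138 (iv D10138) F31723
theorem F40013 : act 1 n10138 = n8340 := d10_1 D10138 (iv D8340) (iv F31724)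
theorem F40014 : act 3 n10138 = n8328 := d21_1 D10138 (iv D8328) (iv D6078) (iv F23456) D8323
theorem F40015 : act 5 n10138 = n10138 := d26_2 (iv F31725) D10138 (iv D10138) F31725 F24598
def n10139 : Q := act 2 n8325
theorem D10139 : act 2 n8325 = n10139 := rfl
theorem F40016 : act 0 n10139 = n10139 := d1_1 D10139 (iv D10139) F31731
theorem F40017 : act 1 n10139 = n10139 := d8_1 D10139 (iv D10139) F31732 F23504 (iv F31732)
theorem F40018 : act 5 n10139 = n8690 := d17_2 (iv F37762) D10139 F33032
theorem F40019 : act 6 n10139 = n8327 := d18_2 (iv F31734) D10139 (iv D8327)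
theorem F40020 : act 7 n10139 = n10139 := d19_2 F31735 D10139 (iv D10139)
theorem F40021 : act 8 n10139 = n8686 := d20_2 (iv F37763) D10139 (iv D8686)
def n10140 : Q := act 4 n8325
theorem D10140 : act 4 n8325 = n10140 := rfl
theorem F40022 : act 0 n10140 = n10140 := d3_1 D10140 (iv D10140) F31731
theorem F40023 : act 1 n10140 = n8342 := d10_1 D10140 (iv D8342) (iv F31732)
theorem F40024 : act 5 n10140 = n9872 := d26_2 (iv F37762) D10140 (iv D9872) (iv D7501) F37709
theorem F40025 : act 6 n10140 = n8328 := d27_2 (iv F31734) D10140 (iv D8328)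
theorem F40026 : act 7 n10140 = n10140 := d28_2 F31735 D10140 (iv D10140)
theorem F40027 : act 8 n10140 = n8687 := d29_2 (iv F37763) D10140 (iv D8687)
def n10141 : Q := act 4 n8327
theorem D10141 : act 4 n8327 = n10141 := rfl
theorem F40028 : act 0 n10141 = n10141 := d3_1 D10141 (iv D10141) F31741
theorem F40029 : act 1 n10141 = n10141 := d10_1 D10141 (iv D10141) F31742
theorem F40030 : act 2 n10141 = n8328 := d16_1 D10141 (iv D8328) D8327
theorem F40031 : act 5 n10141 = n10141 := d26_2 (iv F31743) D10141 (iv D10141) F31743 F23472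
theorem F40032 : act 7 n10141 = n10141 := d28_2 F31744 D10141 (iv D10141)
def n10142 : Q := act 8 n8327
theorem D10142 : act 8 n8327 = n10142 := rfl
theorem F40033 : act 0 n10142 = n10142 := d7_1 D10142 (iv D10142) F31741
theorem F40034 : act 1 n10142 = n10142 := d14_1 D10142 (iv D10142) F31742
theorem F40035 : act 2 n10142 = n8329 := d20_1 D10142 (iv D8329) D8327
theorem F40036 : act 3 n10142 = n10139 := d25_1 D10142 F40021 F33013
theorem F40037 : act 5 n10142 = n8330 := d32_1 D10142 (iv D8330) (iv F31743)
theorem F40038 : act 6 n10142 = n8686 := d34_1 D10142 (iv F40021) F40019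
theorem F40039 : act 7 n9372 = n10142 := d33_0 F40038 F33015 (iv F35440)
def n10143 : Q := act 8 n8328
theorem D10143 : act 8 n8328 = n10143 := rfl
theorem F40040 : act 0 n10143 = n10143 := d7_1 D10143 (iv D10143) F31745
theorem F40041 : act 1 n10143 = n8344 := d14_1 D10143 (iv D8344) (iv F31746)
theorem F40042 : act 4 n10143 = n8329 := d29_1 D10143 (iv D8329) D8328
theorem F40043 : act 5 n10143 = n10143 := d32_1 D10143 (iv D10143) F31747
theorem F40044 : act 6 n10143 = n8687 := d34_1 D10143 (iv F40027) F40025
theorem F40045 : act 7 n9373 = n10143 := d33_0 F40044 F33018 (iv F35444)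
def n10144 : Q := act 4 n8332
theorem D10144 : act 4 n8332 = n10144 := rfl
theorem F40046 : act 0 n10144 = n8353 := d3_1 D10144 (iv D8353) (iv F31764)
theorem F40047 : act 3 n10144 = n8344 := d21_1 D10144 F31810 F23519 (iv F37938) (iv F31765)
theorem F40048 : act 5 n10144 = n10144 := d26_2 D8332 D10144 (iv D10144) (iv D8332) F23482
theorem F40049 : act 6 n10144 = n8701 := d27_2 F38003 D10144 (iv D8701)
theorem F40050 : act 8 n10144 = n8340 := d29_2 F38024 D10144 (iv D8340)
def n10145 : Q := act 7 n8332
theorem D10145 : act 7 n8332 = n10145 := rfl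
theorem F40051 : act 0 n10145 = n8354 := d6_1 D10145 (iv D8354) (iv F31764)
theorem F40052 : act 3 n10145 = n8694 := d24_1 D10145 (iv D8694) F24387 F37918 (iv F31765)
theorem F40053 : act 5 n10145 = n8333 := d31_1 D10145 (iv D8333) D8332
theorem F40054 : act 6 n10145 = n8695 := d33_1 D10145 F33055 F38003
def n10146 : Q := act 3 n8333
theorem D10146 : act 3 n8333 = n10146 := rfl
theorem F40055 : act 0 n10146 = n8355 := d2_1 D10146 (iv D8355) (iv F31768)
theorem F40056 : act 5 n10146 = n8694 := d22_2 F40053 D10146 (iv F40052)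
theorem F40057 : act 6 n10146 = n8334 := d23_2 (iv F31770) D10146 (iv D8334)
theorem F40058 : act 7 n10146 = n8337 := d24_2 D8333 D10146 (iv D8337) (iv D6085) (iv F23481)
def n10147 : Q := act 8 n8333
theorem D10147 : act 8 n8333 = n10147 := rfl
theorem F40059 : act 0 n10147 = n8356 := d7_1 D10147 (iv D8356) (iv F31768)
theorem F40060 : act 4 n10147 = n10147 := d29_1 D10147 (iv D10147) F31769
theorem F40061 : act 6 n10147 = n8335 := d34_1 D10147 (iv D8335) (iv F31770)
theorem F40062 : act 7 n10147 = n8775 := d35_1 D10147 (iv D8775) F24614 F38120 D8333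
def n10148 : Q := act 2 n8334
theorem D10148 : act 2 n8334 = n10148 := rfl
theorem F40063 : act 0 n10148 = n8357 := d1_1 D10148 (iv D8357) (iv F31771)
theorem F40064 : act 5 n10148 = n8774 := d17_2 (iv F31772) D10148 (iv D8774)
theorem F40065 : act 7 n10148 = n8339 := d19_2 (iv F31773) D10148 (iv D8339)
def n10149 : Q := act 4 n8334
theorem D10149 : act 4 n8334 = n10149 := rfl
theorem F40066 : act 0 n10149 = n8358 := d3_1 D10149 (iv D8358) (iv F31771)
theorem F40067 : act 3 n10149 = n10149 := d21_1 D10149 (iv D10149) (iv D8334) F23485 D8334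
theorem F40068 : act 5 n10149 = n10149 := d26_2 (iv F31772) D10149 (iv D10149) F31772 F24613
theorem F40069 : act 7 n10149 = n8340 := d28_2 (iv F31773) D10149 (iv D8340)
def n10150 : Q := act 8 n8334
theorem D10150 : act 8 n8334 = n10150 := rfl
theorem F40070 : act 0 n10150 = n8359 := d7_1 D10150 (iv D8359) (iv F31771)
theorem F40071 : act 3 n10150 = n8335 := d25_1 D10150 (iv D8335) D8334
theorem F40072 : act 5 n10150 = n8775 := d32_1 D10150 (iv D8775) (iv F31772)
def n10151 : Q := act 2 n8337
theorem D10151 : act 2 n8337 = n10151 := rfl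
theorem F40073 : act 0 n10151 = n8362 := d1_1 D10151 (iv D8362) (iv F31783)
theorem F40074 : act 3 n10151 = n8348 := d15_2 D8337 D10151 (iv D8348) (iv D6094) (iv F23493)
theorem F40075 : act 5 n10151 = n8536 := d17_2 (iv F38032) D10151 F32524
theorem F40076 : act 6 n10151 = n8339 := d18_2 (iv F31784) D10151 (iv D8339)
theorem F40077 : act 8 n10151 = n8605 := d20_2 (iv F38033) D10151 F38101
theorem F40078 : act 4 n9088 = n10151 := d26_5 F40075 F38653 F25428 D6626 D9088
def n10152 : Q := act 4 n8337
theorem D10152 : act 4 n8337 = n10152 := rfl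
theorem F40079 : act 0 n10152 = n8363 := d3_1 D10152 (iv D8363) (iv F31783)
theorem F40080 : act 2 n10152 = n9088 := d16_1 D10152 F40078 (iv D10151)
theorem F40081 : act 3 n10152 = n8342 := d21_1 D10152 (iv D8342) (iv D6088) (iv F23494) D8337
theorem F40082 : act 5 n10152 = n9037 := d26_2 (iv F38032) D10152 (iv D9037) (iv F38615) (iv F24388)
theorem F40083 : act 6 n10152 = n8340 := d27_2 (iv F31784) D10152 (iv D8340)
theorem F40084 : act 8 n10152 = n8701 := d29_2 (iv F38033) D10152 (iv D8701)
def n10153 : Q := act 1 n8339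
theorem D10153 : act 1 n8339 = n10153 := rfl
theorem F40085 : act 3 n10153 = n8350 := d9_2 (iv F31791) D10153 (iv D8350)
theorem F40086 : act 5 n10153 = n8780 := d11_2 (iv F31792) D10153 (iv D8780)
def n10154 : Q := act 4 n8339
theorem D10154 : act 4 n8339 = n10154 := rfl
theorem F40087 : act 0 n10154 = n8366 := d3_1 D10154 (iv D8366) (iv F31790)
theorem F40088 : act 2 n10154 = n8340 := d16_1 D10154 (iv D8340) D8339
theorem F40089 : act 3 n10154 = n10154 := d21_1 D10154 (iv D10154) F31791 F23539 (iv F31791)
theorem F40090 : act 5 n10154 = n10154 := d26_2 (iv F31792) D10154 (iv D10154) F31792 F24630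
theorem F40091 : act 6 n10154 = n9088 := d27_2 F40076 D10154 F40078
def n10155 : Q := act 1 n8348
theorem D10155 : act 1 n8348 = n10155 := rfl
theorem F40092 : act 2 n10155 = n10059 := d8_2 D8348 D10155 F39722 F31523 (iv F38104)
theorem F40093 : act 4 n10155 = n10155 := d10_2 F31826 D10155 (iv D10155)
theorem F40094 : act 5 n10155 = n8528 := d11_2 (iv F38173) D10155 F32493
theorem F40095 : act 6 n10155 = n8350 := d12_2 (iv F31827) D10155 (iv D8350)
theorem F40096 : act 8 n10155 = n8591 := d14_2 (iv F38174) D10155 F32729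
def n10156 : Q := act 0 n8350
theorem D10156 : act 0 n8350 = n10156 := rfl
theorem F40097 : act 1 n10156 = n8380 := d0_2 D8350 D10156 (iv D8380) (iv D6116) (iv F23538)
theorem F40098 : act 4 n10156 = n10156 := d3_2 F31832 D10156 (iv D10156)
theorem F40099 : act 5 n10156 = n8789 := d4_2 (iv F31833) D10156 (iv D8789)
def n10157 : Q := act 7 n8353
theorem D10157 : act 7 n8353 = n10157 := rfl
theorem F40100 : act 1 n10157 = n10157 := d13_1 D10157 (iv D10157) F31842
theorem F40101 : act 3 n10157 = n8407 := d24_1 D10157 (iv D8407) (iv F38819) F38189 (iv F38152)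
theorem F40102 : act 4 n10157 = n8354 := d28_1 D10157 (iv D8354) D8353
theorem F40103 : act 5 n10157 = n10157 := d31_1 D10157 (iv D10157) F31844
theorem F40104 : act 6 n10157 = n8721 := d33_1 D10157 F33157 F37982
def n10158 : Q := act 8 n8354
theorem D10158 : act 8 n8354 = n10158 := rfl
theorem F40105 : act 1 n10158 = n10158 := d14_1 D10158 (iv D10158) F31847
theorem F40106 : act 3 n10158 = n8719 := d25_1 D10158 (iv D8719) (iv F38080)
theorem F40107 : act 5 n10158 = n8356 := d32_1 D10158 (iv D8356) (iv F31848)
theorem F40108 : act 6 n10158 = n8722 := d34_1 D10158 (iv D8722) F38140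
theorem F40109 : act 7 n10158 = n8359 := d35_1 D10158 (iv D8359) F23554 F38081 D8354
def n10159 : Q := act 2 n8355
theorem D10159 : act 2 n8355 = n10159 := rfl
theorem F40110 : act 5 n10159 = n8449 := d17_2 (iv F38188) D10159 F38679
theorem F40111 : act 6 n10159 = n8357 := d18_2 (iv F31851) D10159 (iv D8357)
theorem F40112 : act 7 n10159 = n8362 := d19_2 (iv F31852) D10159 (iv D8362)
theorem F40113 : act 1 n10159 = n8566 := d38_6 (iv F24468) F38140 F31848 F23550 D8355 D10159 F32639 (iv F38982) F31885 F24684 F24683 F18304 (iv D3436) (iv F13384) (iv F38455) (iv F13153) F13152 (iv F13096) F13095 (iv F17595) (iv D4492) D4491 F17593 (iv F23707) F23706 F38864 F19466 (iv F26260) (iv F38699) F32048 F32047 F38647 (iv F38638) F23809 F17864 (iv F38668) F18850 (iv F23794) (iv D6160) F17655 F13131 D3303 (iv F17696) (iv F38336) F23429 (iv F31470) (iv D8252) (iv F31450) F31452 F31451 F23264 F17779 (iv D4540) (iv F17751) F17750 (iv D3361) D3360 D4597 F17976 (iv F24257) F38138 F18132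
theorem F40114 : act 4 n8451 = n10159 := d10_0 F40113 F32638 (iv F32233)
def n10160 : Q := act 4 n8355
theorem D10160 : act 4 n8355 = n10160 := rfl
theorem F40115 : act 1 n10160 = n10160 := d10_1 D10160 (iv D10160) F31850
theorem F40116 : act 2 n10160 = n8451 := d16_1 D10160 F40114 (iv D10159)
theorem F40117 : act 3 n10160 = n10160 := d21_1 D10160 (iv D10160) (iv D8355) F23550 D8355
theorem F40118 : act 5 n10160 = n8411 := d26_2 (iv F38188) D10160 (iv D8411) (iv F38628) (iv F24464)
theorem F40119 : act 6 n10160 = n8358 := d27_2 (iv F31851) D10160 (iv D8358)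
theorem F40120 : act 7 n10160 = n8363 := d28_2 (iv F31852) D10160 (iv D8363)
def n10161 : Q := act 8 n8355
theorem D10161 : act 8 n8355 = n10161 := rfl
theorem F40121 : act 1 n10161 = n10161 := d14_1 D10161 (iv D10161) F31850
theorem F40122 : act 3 n10161 = n8356 := d25_1 D10161 (iv D8356) D8355
theorem F40123 : act 5 n10161 = n8719 := d32_1 D10161 (iv D8719) (iv F38188)
theorem F40124 : act 6 n10161 = n8359 := d34_1 D10161 (iv D8359) (iv F31851)
theorem F40125 : act 7 n10161 = n8722 := d35_1 D10161 (iv D8722) F24468 F38125 (iv F31852)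
def n10162 : Q := act 1 n8357
theorem D10162 : act 1 n8357 = n10162 := rfl
theorem F40126 : act 2 n10162 = n10162 := d8_2 D8357 D10162 (iv D10162) (iv D8357) F23552
theorem F40127 : act 5 n10162 = n8797 := d11_2 (iv F31857) D10162 (iv D8797)
theorem F40128 : act 6 n10162 = n8566 := d12_2 F40111 D10162 (iv F40113)
theorem F40129 : act 7 n10162 = n8365 := d13_2 (iv F31858) D10162 (iv D8365)
theorem F40130 : act 4 n8569 = n10162 := d28_3 F40129 F38981 (iv F32649)
def n10163 : Q := act 4 n8357
theorem D10163 : act 4 n8357 = n10163 := rfl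
theorem F40131 : act 1 n10163 = n8569 := d10_1 D10163 F40130 (iv D10162)
theorem F40132 : act 2 n10163 = n8358 := d16_1 D10163 (iv D8358) D8357
theorem F40133 : act 5 n10163 = n10163 := d26_2 (iv F31857) D10163 (iv D10163) F31857 F24664
theorem F40134 : act 6 n10163 = n8451 := d27_2 F40111 D10163 F40114
theorem F40135 : act 7 n10163 = n8366 := d28_2 (iv F31858) D10163 (iv D8366)
theorem F40136 : act 3 n10163 = n9899 := d38_4 D5701 F38322 (iv F31857) D10163 F39129 F39128 F29853 (iv D7808) (iv D5710) (iv D4183) (iv D3068) F9169 F6881 (iv D1225) F3920 D1224 D1661 F6890 F5220 (iv F6921) F38196 (iv D1836) (iv F7275) (iv D1758) F5468 F4116 F4115 F3131 D953 F38157 F3292 (iv F4271) F4270 (iv F5680) (iv F7510) F37940 F6394 F4796 F3675 F2805 F2804 (iv D464) (iv F1871) D545 D742 (iv F4298) F4297 (iv F5718) D1858 (iv F38452) F6982 F5252 (iv F6882) (iv F9169) (iv F12184) (iv D3049) F9125 D3048 D4152 D5664 F21965 F21964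
def n10164 : Q := act 8 n8357
theorem D10164 : act 8 n8357 = n10164 := rfl
theorem F40137 : act 2 n10164 = n8359 := d20_1 D10164 (iv D8359) D8357
theorem F40138 : act 5 n10164 = n8798 := d32_1 D10164 (iv D8798) (iv F31857)
def n10165 : Q := act 8 n8358
theorem D10165 : act 8 n8358 = n10165 := rfl
theorem F40139 : act 1 n10165 = n10165 := d14_1 D10165 (iv D10165) F31859
theorem F40140 : act 3 n10165 = n10165 := d25_1 D10165 (iv D10165) F31860
theorem F40141 : act 4 n10165 = n8359 := d29_1 D10165 (iv D8359) D8358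
theorem F40142 : act 5 n10165 = n10165 := d32_1 D10165 (iv D10165) F31861
def n10166 : Q := act 0 n8365
theorem D10166 : act 0 n8365 = n10166 := rfl
theorem F40143 : act 2 n10166 = n10166 := d1_2 F31883 D10166 (iv D10166)
theorem F40144 : act 3 n10166 = n8380 := d2_2 (iv F31884) D10166 (iv D8380)
theorem F40145 : act 4 n10166 = n9238 := d3_2 (iv F38981) D10166 F34989
theorem F40146 : act 5 n10166 = n8806 := d4_2 (iv F31885) D10166 (iv D8806)
theorem F40147 : act 6 n10166 = n9235 := d5_2 (iv F38982) D10166 F34979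
def n10167 : Q := act 0 n8377
theorem D10167 : act 0 n8377 = n10167 := rfl
theorem F40148 : act 2 n10167 = n8388 := d1_2 (iv F31929) D10167 (iv D8388)
theorem F40149 : act 3 n10167 = n9235 := d2_2 (iv F38788) D10167 F34979
theorem F40150 : act 4 n10167 = n10167 := d3_2 F31930 D10167 (iv D10167)
theorem F40151 : act 5 n10167 = n8429 := d4_2 (iv F38297) D10167 F32144
theorem F40152 : act 6 n10167 = n8380 := d5_2 (iv F31931) D10167 (iv D8380)
theorem F40153 : act 8 n10167 = n8477 := d7_2 (iv F38298) D10167 F32327
def n10168 : Q := act 4 n8394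
theorem D10168 : act 4 n8394 = n10168 := rfl
theorem F40154 : act 0 n10168 = n10168 := d3_1 D10168 (iv D10168) F31986
theorem F40155 : act 1 n10168 = n8396 := d10_1 D10168 (iv D8396) (iv F31987)
theorem F40156 : act 2 n10168 = n9963 := d16_1 D10168 (iv D9963) (iv F31988)
theorem F40157 : act 3 n10168 = n9373 := d21_1 D10168 (iv D9373) (iv D6833) F38749 (iv F31989)
theorem F40158 : act 5 n10168 = n10168 := d26_2 D8394 D10168 (iv D10168) (iv D8394) F23653
theorem F40159 : act 6 n10168 = n9371 := d27_2 (iv F38748) D10168 (iv D9371)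
theorem F40160 : act 8 n10168 = n10168 := d29_2 F31990 D10168 (iv D10168)
def n10169 : Q := act 7 n8394
theorem D10169 : act 7 n8394 = n10169 := rfl
theorem F40161 : act 0 n10169 = n10169 := d6_1 D10169 (iv D10169) F31986
theorem F40162 : act 1 n10169 = n8398 := d13_1 D10169 (iv D8398) (iv F31987)
theorem F40163 : act 2 n10169 = n9964 := d19_1 D10169 (iv D9964) (iv F31988)
theorem F40164 : act 3 n10169 = n9365 := d24_1 D10169 (iv D9365) F26147 (iv F38704) (iv F31989)
theorem F40165 : act 5 n10169 = n8395 := d31_1 D10169 (iv D8395) D8394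
theorem F40166 : act 6 n10169 = n9366 := d33_1 D10169 F35412 (iv F38748)
def n10170 : Q := act 3 n8395
theorem D10170 : act 3 n8395 = n10170 := rfl
theorem F40167 : act 0 n10170 = n10170 := d2_1 D10170 (iv D10170) F31991
theorem F40168 : act 1 n10170 = n8399 := d9_1 D10170 (iv D8399) (iv F31992)
theorem F40169 : act 5 n10170 = n9365 := d22_2 F40165 D10170 (iv F40164)
theorem F40170 : act 6 n10170 = n10170 := d23_2 F31995 D10170 (iv D10170)
theorem F40171 : act 7 n10170 = n9029 := d24_2 D8395 D10170 (iv D9029) (iv D6587) (iv F23652)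
def n10171 : Q := act 8 n8395
theorem D10171 : act 8 n8395 = n10171 := rfl
theorem F40172 : act 0 n10171 = n10171 := d7_1 D10171 (iv D10171) F31991
theorem F40173 : act 1 n10171 = n8400 := d14_1 D10171 (iv D8400) (iv F31992)
theorem F40174 : act 2 n10171 = n9966 := d20_1 D10171 (iv D9966) (iv F31993)
theorem F40175 : act 4 n10171 = n10171 := d29_1 D10171 (iv D10171) F31994
theorem F40176 : act 6 n10171 = n10171 := d34_1 D10171 (iv D10171) F31995
theorem F40177 : act 7 n10171 = n10171 := d35_1 D10171 (iv D10171) (iv D8395) F23655 D8395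
def n10172 : Q := act 7 n8396
theorem D10172 : act 7 n8396 = n10172 := rfl
theorem F40178 : act 0 n10172 = n8407 := d6_1 D10172 (iv D8407) (iv F31996)
theorem F40179 : act 2 n10172 = n8402 := d19_1 D10172 (iv D8402) (iv F31997)
theorem F40180 : act 4 n10172 = n8398 := d28_1 D10172 (iv D8398) D8396
theorem F40181 : act 5 n10172 = n10172 := d31_1 D10172 (iv D10172) F31998
theorem F40182 : act 6 n10172 = n9384 := d33_1 D10172 F35487 (iv F38769)
def n10173 : Q := act 8 n8398
theorem D10173 : act 8 n8398 = n10173 := rfl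
theorem F40183 : act 0 n10173 = n8410 := d7_1 D10173 (iv D8410) (iv F32005)
theorem F40184 : act 2 n10173 = n8404 := d20_1 D10173 (iv D8404) (iv F32006)
theorem F40185 : act 3 n10173 = n9382 := d25_1 D10173 (iv D9382) (iv F38697)
theorem F40186 : act 5 n10173 = n8400 := d32_1 D10173 (iv D8400) (iv F32007)
theorem F40187 : act 6 n10173 = n9385 := d34_1 D10173 (iv D9385) (iv F38698)
theorem F40188 : act 7 n10173 = n10173 := d35_1 D10173 (iv D10173) (iv D8398) F23659 D8398
def n10174 : Q := act 4 n8399
theorem D10174 : act 4 n8399 = n10174 := rfl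
theorem F40189 : act 0 n10174 = n8411 := d3_1 D10174 (iv D8411) (iv F32008)
theorem F40190 : act 2 n10174 = n8434 := d16_1 D10174 (iv D8434) (iv F32009)
theorem F40191 : act 3 n10174 = n10174 := d21_1 D10174 (iv D10174) (iv D8399) F23662 D8399
theorem F40192 : act 6 n10174 = n10174 := d27_2 F32010 D10174 (iv D10174)
theorem F40193 : act 7 n10174 = n9037 := d28_2 (iv F32011) D10174 (iv D9037)
def n10175 : Q := act 8 n8399
theorem D10175 : act 8 n8399 = n10175 := rfl
theorem F40194 : act 0 n10175 = n8412 := d7_1 D10175 (iv D8412) (iv F32008)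
theorem F40195 : act 2 n10175 = n8435 := d20_1 D10175 (iv D8435) (iv F32009)
theorem F40196 : act 3 n10175 = n8400 := d25_1 D10175 (iv D8400) D8399
theorem F40197 : act 5 n10175 = n9382 := d32_1 D10175 (iv D9382) (iv F38616)
theorem F40198 : act 6 n10175 = n10175 := d34_1 D10175 (iv D10175) F32010
theorem F40199 : act 7 n10175 = n9433 := d35_1 D10175 (iv D9433) (iv D6880) F38617 (iv F32011)
def n10176 : Q := act 7 n8401
theorem D10176 : act 7 n8401 = n10176 := rfl
theorem F40200 : act 0 n10176 = n8414 := d6_1 D10176 (iv D8414) (iv F32017)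
theorem F40201 : act 1 n10176 = n9973 := d13_1 D10176 (iv D9973) (iv F32018)
theorem F40202 : act 2 n10176 = n9384 := d19_1 D10176 F35487 (iv F38879)
theorem F40203 : act 4 n10176 = n8403 := d28_1 D10176 (iv D8403) (iv F32020)
theorem F40204 : act 6 n10176 = n8402 := d33_1 D10176 (iv D8402) D8401
def n10177 : Q := act 3 n8402
theorem D10177 : act 3 n8402 = n10177 := rfl
theorem F40205 : act 0 n10177 = n8415 := d2_1 D10177 (iv D8415) (iv F32022)
theorem F40206 : act 1 n10177 = n9974 := d9_1 D10177 (iv D9974) (iv F32023)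
theorem F40207 : act 4 n10177 = n8438 := d21_2 (iv F32024) D10177 (iv D8438) F23782 (iv F23676)
theorem F40208 : act 5 n10177 = n10177 := d22_2 F32025 D10177 (iv D10177)
theorem F40209 : act 7 n10177 = n10177 := d24_2 D8402 D10177 (iv D10177) (iv D8402) F23666
def n10178 : Q := act 8 n8402
theorem D10178 : act 8 n8402 = n10178 := rfl
theorem F40210 : act 0 n10178 = n8416 := d7_1 D10178 (iv D8416) (iv F32022)
theorem F40211 : act 1 n10178 = n9975 := d14_1 D10178 (iv D9975) (iv F32023)
theorem F40212 : act 4 n10178 = n8404 := d29_1 D10178 (iv D8404) (iv F32024)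
theorem F40213 : act 5 n10178 = n10178 := d32_1 D10178 (iv D10178) F32025
theorem F40214 : act 7 n10178 = n10178 := d35_1 D10178 (iv D10178) (iv D8402) F23668 D8402
def n10179 : Q := act 8 n8403
theorem D10179 : act 8 n8403 = n10179 := rfl
theorem F40215 : act 0 n10179 = n8417 := d7_1 D10179 (iv D8417) (iv F32026)
theorem F40216 : act 1 n10179 = n9976 := d14_1 D10179 (iv D9976) (iv F32027)
theorem F40217 : act 2 n10179 = n9385 := d20_1 D10179 (iv D9385) (iv F38822)
theorem F40218 : act 3 n10179 = n8440 := d25_1 D10179 (iv D8440) (iv F32028)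
theorem F40219 : act 5 n10179 = n10179 := d32_1 D10179 (iv D10179) F32029
theorem F40220 : act 6 n10179 = n8404 := d34_1 D10179 (iv D8404) (iv F32030)
theorem F40221 : act 7 n10179 = n10179 := d35_1 D10179 (iv D10179) (iv D8403) F23673 D8403
def n10180 : Q := act 8 n8407
theorem D10180 : act 8 n8407 = n10180 := rfl
theorem F40222 : act 1 n10180 = n10180 := d14_1 D10180 (iv D10180) F32045
theorem F40223 : act 2 n10180 = n8416 := d20_1 D10180 (iv D8416) (iv F32046)
theorem F40224 : act 4 n10180 = n8410 := d29_1 D10180 (iv D8410) (iv F32047)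
theorem F40225 : act 5 n10180 = n10180 := d32_1 D10180 (iv D10180) F32048
theorem F40226 : act 6 n10180 = n9408 := d34_1 D10180 (iv D9408) (iv F38699)
theorem F40227 : act 7 n10180 = n10180 := d35_1 D10180 (iv D10180) (iv D8407) F23687 D8407
def n10181 : Q := act 8 n8411
theorem D10181 : act 8 n8411 = n10181 := rfl
theorem F40228 : act 1 n10181 = n10181 := d14_1 D10181 (iv D10181) F32061
theorem F40229 : act 2 n10181 = n8452 := d20_1 D10181 (iv D8452) (iv F32062)
theorem F40230 : act 3 n10181 = n10181 := d25_1 D10181 (iv D10181) F32063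
theorem F40231 : act 4 n10181 = n8412 := d29_1 D10181 (iv D8412) D8411
theorem F40232 : act 6 n10181 = n10181 := d34_1 D10181 (iv D10181) F32064
theorem F40233 : act 7 n10181 = n9435 := d35_1 D10181 (iv D9435) (iv D6882) F38609 (iv F32065)
def n10182 : Q := act 7 n8413
theorem D10182 : act 7 n8413 = n10182 := rfl
theorem F40234 : act 1 n10182 = n8418 := d13_1 D10182 (iv D8418) (iv F32070)
theorem F40235 : act 2 n10182 = n9407 := d19_1 D10182 F35572 (iv F38903)
theorem F40236 : act 4 n10182 = n10182 := d28_1 D10182 (iv D10182) F32072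
theorem F40237 : act 5 n10182 = n8414 := d31_1 D10182 (iv D8414) D8413
theorem F40238 : act 6 n10182 = n10182 := d33_1 D10182 (iv D10182) F32073
def n10183 : Q := act 3 n8414
theorem D10183 : act 3 n8414 = n10183 := rfl
theorem F40239 : act 1 n10183 = n8419 := d9_1 D10183 (iv D8419) (iv F32075)
theorem F40240 : act 4 n10183 = n8455 := d21_2 (iv F32076) D10183 (iv D8455) F23829 (iv F23713)
theorem F40241 : act 6 n10183 = n8415 := d23_2 (iv F32077) D10183 (iv D8415)
theorem F40242 : act 7 n10183 = n10183 := d24_2 D8414 D10183 (iv D10183) (iv D8414) F23706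
def n10184 : Q := act 8 n8414
theorem D10184 : act 8 n8414 = n10184 := rfl
theorem F40243 : act 1 n10184 = n8420 := d14_1 D10184 (iv D8420) (iv F32075)
theorem F40244 : act 2 n10184 = n9408 := d20_1 D10184 (iv D9408) (iv F38823)
theorem F40245 : act 4 n10184 = n8417 := d29_1 D10184 (iv D8417) (iv F32076)
theorem F40246 : act 6 n10184 = n8416 := d34_1 D10184 (iv D8416) (iv F32077)
theorem F40247 : act 7 n10184 = n10184 := d35_1 D10184 (iv D10184) (iv D8414) F23708 D8414
def n10185 : Q := act 2 n8415
theorem D10185 : act 2 n8415 = n10185 := rfl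
theorem F40248 : act 4 n10185 = n8457 := d16_2 (iv F32079) D10185 (iv D8457)
theorem F40249 : act 5 n10185 = n10185 := d17_2 F32080 D10185 (iv D10185)
theorem F40250 : act 7 n10185 = n10185 := d19_2 F32081 D10185 (iv D10185)
def n10186 : Q := act 8 n8415
theorem D10186 : act 8 n8415 = n10186 := rfl
theorem F40251 : act 1 n10186 = n8422 := d14_1 D10186 (iv D8422) (iv F32078)
theorem F40252 : act 3 n10186 = n8416 := d25_1 D10186 (iv D8416) D8415
theorem F40253 : act 4 n10186 = n8458 := d29_1 D10186 (iv D8458) (iv F32079)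
theorem F40254 : act 5 n10186 = n10186 := d32_1 D10186 (iv D10186) F32080
def n10187 : Q := act 3 n8418
theorem D10187 : act 3 n8418 = n10187 := rfl
theorem F40255 : act 0 n10187 = n9989 := d2_1 D10187 (iv D9989) (iv F32091)
theorem F40256 : act 5 n10187 = n8419 := d22_2 (iv F32094) D10187 (iv D8419)
theorem F40257 : act 6 n10187 = n10187 := d23_2 F32095 D10187 (iv D10187)
theorem F40258 : act 7 n10187 = n10187 := d24_2 D8418 D10187 (iv D10187) (iv D8418) F23722
def n10188 : Q := act 8 n8418
theorem D10188 : act 8 n8418 = n10188 := rfl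
theorem F40259 : act 0 n10188 = n9990 := d7_1 D10188 (iv D9990) (iv F32091)
theorem F40260 : act 2 n10188 = n10188 := d20_1 D10188 (iv D10188) F32092
theorem F40261 : act 4 n10188 = n10188 := d29_1 D10188 (iv D10188) F32093
theorem F40262 : act 5 n10188 = n8420 := d32_1 D10188 (iv D8420) (iv F32094)
theorem F40263 : act 6 n10188 = n10188 := d34_1 D10188 (iv D10188) F32095
theorem F40264 : act 7 n10188 = n10188 := d35_1 D10188 (iv D10188) (iv D8418) F23725 D8418
def n10189 : Q := act 8 n8419
theorem D10189 : act 8 n8419 = n10189 := rfl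
theorem F40265 : act 0 n10189 = n9992 := d7_1 D10189 (iv D9992) (iv F32096)
theorem F40266 : act 3 n10189 = n8420 := d25_1 D10189 (iv D8420) D8419
theorem F40267 : act 4 n10189 = n8462 := d29_1 D10189 (iv D8462) (iv F32097)
theorem F40268 : act 6 n10189 = n8422 := d34_1 D10189 (iv D8422) (iv F32098)
def n10190 : Q := act 1 n8421
theorem D10190 : act 1 n8421 = n10190 := rfl
theorem F40269 : act 3 n10190 = n10190 := d9_2 F32106 D10190 (iv D10190)
theorem F40270 : act 4 n10190 = n8463 := d10_2 (iv F32107) D10190 (iv D8463)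
theorem F40271 : act 5 n10190 = n10190 := d11_2 F32108 D10190 (iv D10190)
theorem F40272 : act 7 n10190 = n10190 := d13_2 F32109 D10190 (iv D10190)
def n10191 : Q := act 8 n8421
theorem D10191 : act 8 n8421 = n10191 := rfl
theorem F40273 : act 0 n10191 = n9994 := d7_1 D10191 (iv D9994) (iv F32105)
theorem F40274 : act 2 n10191 = n8422 := d20_1 D10191 (iv D8422) D8421
theorem F40275 : act 3 n10191 = n10191 := d25_1 D10191 (iv D10191) F32106
theorem F40276 : act 4 n10191 = n8464 := d29_1 D10191 (iv D8464) (iv F32107)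
theorem F40277 : act 5 n10191 = n10191 := d32_1 D10191 (iv D10191) F32108
def n10192 : Q := act 7 n8422
theorem D10192 : act 7 n8422 = n10192 := rfl
theorem F40278 : act 0 n10192 = n9995 := d6_1 D10192 (iv D9995) (iv F32110)
theorem F40279 : act 3 n10192 = n10192 := d24_1 D10192 (iv D10192) F32111 F23738 (iv F32111)
theorem F40280 : act 4 n10192 = n8465 := d28_1 D10192 (iv D8465) (iv F32112)
theorem F40281 : act 5 n10192 = n10192 := d31_1 D10192 (iv D10192) F32113
theorem F40282 : act 8 n10192 = n10192 := d35_2 D8422 D10192 (iv D10192) (iv D8422) F23733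
def n10193 : Q := act 3 n8423
theorem D10193 : act 3 n8423 = n10193 := rfl
theorem F40283 : act 0 n10193 = n8527 := d2_1 D10193 (iv D8527) (iv F32114)
theorem F40284 : act 1 n10193 = n8428 := d9_1 D10193 (iv D8428) (iv F32115)
theorem F40285 : act 4 n10193 = n9069 := d21_2 D8423 D10193 (iv D9069) (iv D6615) (iv F23748)
theorem F40286 : act 5 n10193 = n9874 := d22_2 (iv F32117) D10193 (iv D9874)
theorem F40287 : act 8 n10193 = n8466 := d25_2 (iv F32118) D10193 (iv D8466)
theorem F40288 : act 6 n9216 = n10193 := d27_0 F40285 F38779 D9216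
def n10194 : Q := act 6 n8423
theorem D10194 : act 6 n8423 = n10194 := rfl
theorem F40289 : act 0 n10194 = n8528 := d5_1 D10194 (iv D8528) (iv F32114)
theorem F40290 : act 1 n10194 = n8429 := d12_1 D10194 (iv D8429) (iv F32115)
theorem F40291 : act 2 n10194 = n9997 := d18_1 D10194 (iv D9997) (iv F32116)
theorem F40292 : act 3 n10194 = n9216 := d23_1 D10194 F40288 (iv D10193)
theorem F40293 : act 4 n10194 = n8424 := d27_1 D10194 (iv D8424) D8423
theorem F40294 : act 8 n10194 = n8467 := d34_2 (iv F32118) D10194 (iv D8467)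
def n10195 : Q := act 7 n8423
theorem D10195 : act 7 n8423 = n10195 := rfl
theorem F40295 : act 0 n10195 = n8529 := d6_1 D10195 (iv D8529) (iv F32114)
theorem F40296 : act 1 n10195 = n8430 := d13_1 D10195 (iv D8430) (iv F32115)
theorem F40297 : act 2 n10195 = n9998 := d19_1 D10195 (iv D9998) (iv F32116)
theorem F40298 : act 4 n10195 = n8425 := d28_1 D10195 (iv D8425) D8423
theorem F40299 : act 5 n10195 = n9875 := d31_1 D10195 (iv D9875) (iv F32117)
def n10196 : Q := act 7 n8424
theorem D10196 : act 7 n8424 = n10196 := rfl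
theorem F40300 : act 0 n10196 = n8530 := d6_1 D10196 (iv D8530) (iv F32119)
theorem F40301 : act 1 n10196 = n8431 := d13_1 D10196 (iv D8431) (iv F32120)
theorem F40302 : act 2 n10196 = n9999 := d19_1 D10196 (iv D9999) (iv F32121)
theorem F40303 : act 3 n10196 = n9208 := d24_1 D10196 (iv D9208) (iv D6712) (iv F38826) (iv F32122)
theorem F40304 : act 5 n10196 = n10196 := d31_1 D10196 (iv D10196) F32123
theorem F40305 : act 6 n10196 = n8425 := d33_1 D10196 (iv D8425) D8424
def n10197 : Q := act 3 n8425
theorem D10197 : act 3 n8425 = n10197 := rfl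
theorem F40306 : act 0 n10197 = n8531 := d2_1 D10197 (iv D8531) (iv F32125)
theorem F40307 : act 1 n10197 = n8432 := d9_1 D10197 (iv D8432) (iv F32126)
theorem F40308 : act 5 n10197 = n8426 := d22_2 (iv F32128) D10197 (iv D8426)
theorem F40309 : act 6 n10197 = n9208 := d23_2 F40305 D10197 (iv F40303)
theorem F40310 : act 7 n10197 = n9073 := d24_2 D8425 D10197 (iv D9073) (iv D6617) (iv F23748)
def n10198 : Q := act 8 n8425
theorem D10198 : act 8 n8425 = n10198 := rfl
theorem F40311 : act 0 n10198 = n8532 := d7_1 D10198 (iv D8532) (iv F32125)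
theorem F40312 : act 1 n10198 = n8433 := d14_1 D10198 (iv D8433) (iv F32126)
theorem F40313 : act 2 n10198 = n10001 := d20_1 D10198 (iv D10001) (iv F32127)
theorem F40314 : act 5 n10198 = n8427 := d32_1 D10198 (iv D8427) (iv F32128)
theorem F40315 : act 7 n10198 = n8471 := d35_1 D10198 (iv D8471) (iv D6180) (iv F23749) D8425
def n10199 : Q := act 2 n8426
theorem D10199 : act 2 n8426 = n10199 := rfl
theorem F40316 : act 0 n10199 = n8533 := d1_1 D10199 (iv D8533) (iv F32129)
theorem F40317 : act 3 n10199 = n10002 := d15_2 D8426 D10199 (iv D10002) (iv D8217) (iv F23752)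
theorem F40318 : act 6 n10199 = n10199 := d18_2 F32131 D10199 (iv D10199)
theorem F40319 : act 7 n10199 = n9075 := d19_2 (iv F32132) D10199 (iv D9075)
def n10200 : Q := act 4 n8426
theorem D10200 : act 4 n8426 = n10200 := rfl
theorem F40320 : act 0 n10200 = n8534 := d3_1 D10200 (iv D8534) (iv F32129)
theorem F40321 : act 1 n10200 = n8434 := d10_1 D10200 (iv D8434) (iv F32130)
theorem F40322 : act 3 n10200 = n9879 := d21_1 D10200 (iv D9879) (iv D7726) (iv F23753) D8426
theorem F40323 : act 6 n10200 = n10200 := d27_2 F32131 D10200 (iv D10200)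
theorem F40324 : act 7 n10200 = n9076 := d28_2 (iv F32132) D10200 (iv D9076)
def n10201 : Q := act 8 n8426
theorem D10201 : act 8 n8426 = n10201 := rfl
theorem F40325 : act 0 n10201 = n8535 := d7_1 D10201 (iv D8535) (iv F32129)
theorem F40326 : act 1 n10201 = n8435 := d14_1 D10201 (iv D8435) (iv F32130)
theorem F40327 : act 3 n10201 = n8427 := d25_1 D10201 (iv D8427) D8426
theorem F40328 : act 6 n10201 = n10201 := d34_1 D10201 (iv D10201) F32131
def n10202 : Q := act 7 n8428
theorem D10202 : act 7 n8428 = n10202 := rfl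
theorem F40329 : act 0 n10202 = n8442 := d6_1 D10202 (iv D8442) (iv F32139)
theorem F40330 : act 2 n10202 = n10202 := d19_1 D10202 (iv D10202) F32140
theorem F40331 : act 4 n10202 = n8542 := d28_1 D10202 F38781 (iv F32141)
theorem F40332 : act 5 n10202 = n9881 := d31_1 D10202 (iv D9881) (iv F32142)
theorem F40333 : act 6 n10202 = n8544 := d33_1 D10202 F32560 (iv F38780)
def n10203 : Q := act 7 n8429
theorem D10203 : act 7 n8429 = n10203 := rfl
theorem F40334 : act 0 n10203 = n8444 := d6_1 D10203 (iv D8444) (iv F32144)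
theorem F40335 : act 2 n10203 = n8437 := d19_1 D10203 (iv D8437) (iv F32145)
theorem F40336 : act 4 n10203 = n8431 := d28_1 D10203 (iv D8431) (iv F32146)
theorem F40337 : act 6 n10203 = n8430 := d33_1 D10203 (iv D8430) D8429
def n10204 : Q := act 3 n8430
theorem D10204 : act 3 n8430 = n10204 := rfl
theorem F40338 : act 0 n10204 = n8445 := d2_1 D10204 (iv D8445) (iv F32148)
theorem F40339 : act 5 n10204 = n9882 := d22_2 (iv F32151) D10204 (iv D9882)
def n10205 : Q := act 8 n8430
theorem D10205 : act 8 n8430 = n10205 := rfl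
theorem F40340 : act 0 n10205 = n8446 := d7_1 D10205 (iv D8446) (iv F32148)
theorem F40341 : act 2 n10205 = n8439 := d20_1 D10205 (iv D8439) (iv F32149)
theorem F40342 : act 4 n10205 = n8433 := d29_1 D10205 (iv D8433) (iv F32150)
theorem F40343 : act 5 n10205 = n9883 := d32_1 D10205 (iv D9883) (iv F32151)
theorem F40344 : act 7 n10205 = n8480 := d35_1 D10205 (iv D8480) (iv D6185) (iv F23758) D8430
def n10206 : Q := act 8 n8431
theorem D10206 : act 8 n8431 = n10206 := rfl
theorem F40345 : act 0 n10206 = n8448 := d7_1 D10206 (iv D8448) (iv F32152)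
theorem F40346 : act 2 n10206 = n8440 := d20_1 D10206 (iv D8440) (iv F32153)
theorem F40347 : act 3 n10206 = n9226 := d25_1 D10206 (iv D9226) (iv F38806)
theorem F40348 : act 5 n10206 = n10206 := d32_1 D10206 (iv D10206) F32154
theorem F40349 : act 6 n10206 = n8433 := d34_1 D10206 (iv D8433) (iv F32155)
theorem F40350 : act 7 n10206 = n8482 := d35_1 D10206 (iv D8482) (iv D6186) (iv F23763) D8431
def n10207 : Q := act 4 n8432
theorem D10207 : act 4 n8432 = n10207 := rfl
theorem F40351 : act 0 n10207 = n8449 := d3_1 D10207 (iv D8449) (iv F32156)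
theorem F40352 : act 2 n10207 = n8694 := d16_1 D10207 F33051 (iv F38655)
theorem F40353 : act 6 n10207 = n8537 := d27_2 (iv F38656) D10207 F32530
theorem F40354 : act 7 n10207 = n8536 := d28_2 (iv F32158) D10207 F38653
def n10208 : Q := act 8 n8432
theorem D10208 : act 8 n8432 = n10208 := rfl
theorem F40355 : act 0 n10208 = n8450 := d7_1 D10208 (iv D8450) (iv F32156)
theorem F40356 : act 2 n10208 = n9382 := d20_1 D10208 (iv D9382) (iv F38655)
theorem F40357 : act 3 n10208 = n8433 := d25_1 D10208 (iv D8433) D8432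
theorem F40358 : act 5 n10208 = n8435 := d32_1 D10208 (iv D8435) (iv F32157)
theorem F40359 : act 6 n10208 = n9226 := d34_1 D10208 (iv D9226) (iv F38656)
theorem F40360 : act 7 n10208 = n9318 := d35_1 D10208 (iv D9318) (iv D6788) F38658 (iv F32158)
def n10209 : Q := act 5 n8434
theorem D10209 : act 5 n8434 = n10209 := rfl
theorem F40361 : act 0 n10209 = n8451 := d4_1 D10209 (iv D8451) (iv F32163)
theorem F40362 : act 3 n10209 = n9886 := d22_1 D10209 (iv D9886) (iv F32164)
theorem F40363 : act 7 n10209 = n9088 := d31_2 (iv F32166) D10209 (iv D9088)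
def n10210 : Q := act 8 n8434
theorem D10210 : act 8 n8434 = n10210 := rfl
theorem F40364 : act 0 n10210 = n8452 := d7_1 D10210 (iv D8452) (iv F32163)
theorem F40365 : act 3 n10210 = n9887 := d25_1 D10210 (iv D9887) (iv F32164)
theorem F40366 : act 4 n10210 = n8435 := d29_1 D10210 (iv D8435) D8434
theorem F40367 : act 6 n10210 = n10210 := d34_1 D10210 (iv D10210) F32165
def n10211 : Q := act 7 n8435
theorem D10211 : act 7 n8435 = n10211 := rfl
theorem F40368 : act 0 n10211 = n8453 := d6_1 D10211 (iv D8453) (iv F32167)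
theorem F40369 : act 2 n10211 = n9433 := d19_1 D10211 (iv F40199) F40195
theorem F40370 : act 3 n10211 = n8487 := d24_1 D10211 (iv D8487) F23904 (iv F23774) (iv F32168)
theorem F40371 : act 5 n10211 = n9318 := d31_1 D10211 (iv F40360) F40358
theorem F40372 : act 6 n10211 = n10211 := d33_1 D10211 (iv D10211) F32169
theorem F40373 : act 8 n10211 = n9090 := d35_2 D8435 D10211 (iv D9090) (iv D6627) (iv F23769)
def n10212 : Q := act 3 n8437
theorem D10212 : act 3 n8437 = n10212 := rfl
theorem F40374 : act 0 n10212 = n8455 := d2_1 D10212 (iv D8455) (iv F32176)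
theorem F40375 : act 1 n10212 = n10019 := d9_1 D10212 (iv D10019) (iv F32177)
theorem F40376 : act 6 n10212 = n8438 := d23_2 (iv F32179) D10212 (iv D8438)
theorem F40377 : act 7 n10212 = n10212 := d24_2 D8437 D10212 (iv D10212) (iv D8437) F23777
def n10213 : Q := act 8 n8437
theorem D10213 : act 8 n8437 = n10213 := rfl
theorem F40378 : act 0 n10213 = n8456 := d7_1 D10213 (iv D8456) (iv F32176)
theorem F40379 : act 1 n10213 = n10020 := d14_1 D10213 (iv D10020) (iv F32177)
theorem F40380 : act 4 n10213 = n8440 := d29_1 D10213 (iv D8440) (iv F32178)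
theorem F40381 : act 6 n10213 = n8439 := d34_1 D10213 (iv D8439) (iv F32179)
theorem F40382 : act 7 n10213 = n8490 := d35_1 D10213 (iv D8490) (iv D6192) (iv F23779) D8437
def n10214 : Q := act 2 n8438
theorem D10214 : act 2 n8438 = n10214 := rfl
theorem F40383 : act 0 n10214 = n8457 := d1_1 D10214 (iv D8457) (iv F32180)
theorem F40384 : act 5 n10214 = n9889 := d17_2 (iv F32182) D10214 (iv D9889)
theorem F40385 : act 7 n10214 = n10214 := d19_2 F32183 D10214 (iv D10214)
def n10215 : Q := act 8 n8438
theorem D10215 : act 8 n8438 = n10215 := rfl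
theorem F40386 : act 0 n10215 = n8458 := d7_1 D10215 (iv D8458) (iv F32180)
theorem F40387 : act 1 n10215 = n10022 := d14_1 D10215 (iv D10022) (iv F32181)
theorem F40388 : act 3 n10215 = n8439 := d25_1 D10215 (iv D8439) D8438
theorem F40389 : act 5 n10215 = n9890 := d32_1 D10215 (iv D9890) (iv F32182)
def n10216 : Q := act 3 n8442
theorem D10216 : act 3 n8442 = n10216 := rfl
theorem F40390 : act 1 n10216 = n8556 := d9_1 D10216 (iv D8556) (iv F32199)
theorem F40391 : act 4 n10216 = n8559 := d21_2 (iv F38789) D10216 (iv D8559) F24093 D6245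
theorem F40392 : act 5 n10216 = n9891 := d22_2 (iv F32202) D10216 (iv D9891)
theorem F40393 : act 6 n10216 = n8562 := d23_2 (iv F38790) D10216 F32627
theorem F40394 : act 7 n10216 = n8445 := d24_2 D8442 D10216 (iv D8445) (iv D6162) D6160
def n10217 : Q := act 8 n8442
theorem D10217 : act 8 n8442 = n10217 := rfl
theorem F40395 : act 1 n10217 = n8557 := d14_1 D10217 (iv D8557) (iv F32199)
theorem F40396 : act 2 n10217 = n10217 := d20_1 D10217 (iv D10217) F32200
theorem F40397 : act 4 n10217 = n8565 := d29_1 D10217 (iv D8565) (iv F38789)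
theorem F40398 : act 5 n10217 = n9892 := d32_1 D10217 (iv D9892) (iv F32202)
theorem F40399 : act 6 n10217 = n8567 := d34_1 D10217 (iv D8567) (iv F38790)
theorem F40400 : act 7 n10217 = n8496 := d35_1 D10217 (iv D8496) (iv D6197) (iv F23796) D8442
def n10218 : Q := act 3 n8444
theorem D10218 : act 3 n8444 = n10218 := rfl
theorem F40401 : act 1 n10218 = n8559 := d9_1 D10218 (iv D8559) (iv F32208)
theorem F40402 : act 4 n10218 = n8556 := d21_2 (iv F32210) D10218 (iv D8556) F24086 (iv F38738)
theorem F40403 : act 6 n10218 = n8445 := d23_2 (iv F32211) D10218 (iv D8445)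
theorem F40404 : act 7 n10218 = n8562 := d24_2 D8444 D10218 F32627 F24109 (iv F38725)
def n10219 : Q := act 8 n8444
theorem D10219 : act 8 n8444 = n10219 := rfl
theorem F40405 : act 1 n10219 = n8560 := d14_1 D10219 (iv D8560) (iv F32208)
theorem F40406 : act 2 n10219 = n8456 := d20_1 D10219 (iv D8456) (iv F32209)
theorem F40407 : act 4 n10219 = n8448 := d29_1 D10219 (iv D8448) (iv F32210)
theorem F40408 : act 6 n10219 = n8446 := d34_1 D10219 (iv D8446) (iv F32211)
theorem F40409 : act 7 n10219 = n8499 := d35_1 D10219 (iv D8499) (iv D6199) (iv F23800) D8444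
def n10220 : Q := act 2 n8445
theorem D10220 : act 2 n8445 = n10220 := rfl
theorem F40410 : act 3 n10220 = n8457 := d15_2 D8445 D10220 (iv D8457) (iv D6170) (iv F23802)
theorem F40411 : act 5 n10220 = n9893 := d17_2 (iv F32213) D10220 (iv D9893)
def n10221 : Q := act 4 n8445
theorem D10221 : act 4 n8445 = n10221 := rfl
theorem F40412 : act 1 n10221 = n8562 := d10_1 D10221 (iv D8562) (iv F32212)
theorem F40413 : act 3 n10221 = n8449 := d21_1 D10221 (iv D8449) (iv D6164) (iv F23803) D8445
theorem F40414 : act 6 n10221 = n8556 := d27_2 F40403 D10221 (iv F40402)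
theorem F40415 : act 7 n10221 = n8559 := d28_2 F40394 D10221 (iv F40391)
def n10222 : Q := act 8 n8445
theorem D10222 : act 8 n8445 = n10222 := rfl
theorem F40416 : act 1 n10222 = n8563 := d14_1 D10222 (iv D8563) (iv F32212)
theorem F40417 : act 3 n10222 = n8446 := d25_1 D10222 (iv D8446) D8445
theorem F40418 : act 5 n10222 = n9895 := d32_1 D10222 (iv D9895) (iv F32213)
def n10223 : Q := act 8 n8449
theorem D10223 : act 8 n8449 = n10223 := rfl
theorem F40419 : act 1 n10223 = n8567 := d14_1 D10223 (iv D8567) (iv F32228)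
theorem F40420 : act 2 n10223 = n8719 := d20_1 D10223 (iv D8719) (iv F38679)
theorem F40421 : act 4 n10223 = n8450 := d29_1 D10223 (iv D8450) D8449
theorem F40422 : act 6 n10223 = n8557 := d34_1 D10223 (iv D8557) (iv F38680)
theorem F40423 : act 7 n10223 = n8633 := d35_1 D10223 (iv D8633) (iv D6292) (iv F24084) (iv F38681)
def n10224 : Q := act 8 n8451
theorem D10224 : act 8 n8451 = n10224 := rfl
theorem F40424 : act 1 n10224 = n8570 := d14_1 D10224 (iv D8570) (iv F32233)
theorem F40425 : act 3 n10224 = n9900 := d25_1 D10224 (iv D9900) (iv F32234)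
theorem F40426 : act 5 n10224 = n8452 := d32_1 D10224 (iv D8452) D8451
def n10225 : Q := act 7 n8452
theorem D10225 : act 7 n8452 = n10225 := rfl
theorem F40427 : act 1 n10225 = n8571 := d13_1 D10225 (iv D8571) (iv F32236)
theorem F40428 : act 2 n10225 = n9435 := d19_1 D10225 (iv F40233) F40229
theorem F40429 : act 4 n10225 = n8453 := d28_1 D10225 (iv D8453) (iv F32238)
theorem F40430 : act 6 n10225 = n10225 := d33_1 D10225 (iv D10225) F32239
theorem F40431 : act 8 n10225 = n9113 := d35_2 D8452 D10225 (iv D9113) (iv D6644) (iv F23819)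
def n10226 : Q := act 2 n8455
theorem D10226 : act 2 n8455 = n10226 := rfl
theorem F40432 : act 6 n10226 = n8457 := d18_2 (iv F32249) D10226 (iv D8457)
theorem F40433 : act 7 n10226 = n10226 := d19_2 F32250 D10226 (iv D10226)
def n10227 : Q := act 8 n8455
theorem D10227 : act 8 n8455 = n10227 := rfl
theorem F40434 : act 1 n10227 = n8462 := d14_1 D10227 (iv D8462) (iv F32248)
theorem F40435 : act 3 n10227 = n8456 := d25_1 D10227 (iv D8456) D8455
theorem F40436 : act 6 n10227 = n8458 := d34_1 D10227 (iv D8458) (iv F32249)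
def n10228 : Q := act 1 n8457
theorem D10228 : act 1 n8457 = n10228 := rfl
theorem F40437 : act 2 n10228 = n8463 := d8_2 D8457 D10228 (iv D8463) (iv D6176) (iv F23831)
theorem F40438 : act 5 n10228 = n8513 := d11_2 (iv F32255) D10228 (iv F38993)
theorem F40439 : act 7 n10228 = n10228 := d13_2 F32256 D10228 (iv D10228)
def n10229 : Q := act 8 n8457
theorem D10229 : act 8 n8457 = n10229 := rfl
theorem F40440 : act 2 n10229 = n8458 := d20_1 D10229 (iv D8458) D8457
theorem F40441 : act 5 n10229 = n9902 := d32_1 D10229 (iv D9902) (iv F32255)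
def n10230 : Q := act 7 n8458
theorem D10230 : act 7 n8458 = n10230 := rfl
theorem F40442 : act 1 n10230 = n8465 := d13_1 D10230 (iv D8465) (iv F32257)
theorem F40443 : act 3 n10230 = n8517 := d24_1 D10230 (iv D8517) F23979 (iv F23837) (iv F32258)
theorem F40444 : act 5 n10230 = n9903 := d31_1 D10230 (iv D9903) (iv F32259)
theorem F40445 : act 8 n10230 = n10230 := d35_2 D8458 D10230 (iv D10230) (iv D8458) F23833
def n10231 : Q := act 7 n8462
theorem D10231 : act 7 n8462 = n10231 := rfl
theorem F40446 : act 0 n10231 = n10052 := d6_1 D10231 (iv D10052) (iv F32274)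
theorem F40447 : act 3 n10231 = n8523 := d24_1 D10231 (iv D8523) F23990 (iv F23854) (iv F32275)
theorem F40448 : act 6 n10231 = n8465 := d33_1 D10231 (iv D8465) (iv F32276)
theorem F40449 : act 8 n10231 = n10231 := d35_2 D8462 D10231 (iv D10231) (iv D8462) F23849
def n10232 : Q := act 0 n8463
theorem D10232 : act 0 n8463 = n10232 := rfl
theorem F40450 : act 1 n10232 = n10053 := d0_2 D8463 D10232 (iv D10053) (iv D8254) (iv F23855)
theorem F40451 : act 3 n10232 = n8488 := d2_2 (iv F38469) D10232 F32365
theorem F40452 : act 5 n10232 = n8489 := d4_2 F38516 D10232 F32368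
theorem F40453 : act 7 n10232 = n10232 := d6_2 F32279 D10232 (iv D10232)
def n10233 : Q := act 8 n8463
theorem D10233 : act 8 n8463 = n10233 := rfl
theorem F40454 : act 1 n10233 = n8464 := d14_1 D10233 (iv D8464) D8463
theorem F40455 : act 3 n10233 = n8512 := d25_1 D10233 (iv D8512) (iv F38469)
theorem F40456 : act 5 n10233 = n8514 := d32_1 D10233 (iv D8514) F38516
def n10234 : Q := act 7 n8464
theorem D10234 : act 7 n8464 = n10234 := rfl
theorem F40457 : act 0 n10234 = n10055 := d6_1 D10234 (iv D10055) (iv F32280)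
theorem F40458 : act 2 n10234 = n8465 := d19_1 D10234 (iv D8465) (iv F32281)
theorem F40459 : act 5 n10234 = n8523 := d31_1 D10234 (iv D8523) F38517
theorem F40460 : act 8 n10234 = n10234 := d35_2 D8464 D10234 (iv D10234) (iv D8464) F23858
def n10235 : Q := act 2 n8466
theorem D10235 : act 2 n8466 = n10235 := rfl
theorem F40461 : act 0 n10235 = n8588 := d1_1 D10235 (iv D8588) (iv F32288)
theorem F40462 : act 1 n10235 = n10235 := d8_1 D10235 (iv D10235) F32289 F23879 (iv F32289)
theorem F40463 : act 4 n10235 = n9130 := d16_2 (iv F32290) D10235 (iv D9130)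
def n10236 : Q := act 6 n8466
theorem D10236 : act 6 n8466 = n10236 := rfl
theorem F40464 : act 0 n10236 = n8589 := d5_1 D10236 (iv D8589) (iv F32288)
theorem F40465 : act 1 n10236 = n8475 := d12_1 D10236 (iv D8475) (iv F32289)
theorem F40466 : act 3 n10236 = n8467 := d23_1 D10236 (iv D8467) D8466
theorem F40467 : act 4 n10236 = n9131 := d27_1 D10236 (iv D9131) (iv F32290)
theorem F40468 : act 8 n10236 = n9216 := d34_2 F40287 D10236 F40288
def n10237 : Q := act 7 n8466
theorem D10237 : act 7 n8466 = n10237 := rfl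
theorem F40469 : act 0 n10237 = n8590 := d6_1 D10237 (iv D8590) (iv F32288)
theorem F40470 : act 1 n10237 = n8476 := d13_1 D10237 (iv D8476) (iv F32289)
theorem F40471 : act 4 n10237 = n9132 := d28_1 D10237 (iv D9132) (iv F32290)
def n10238 : Q := act 5 n8467
theorem D10238 : act 5 n8467 = n10238 := rfl
theorem F40472 : act 0 n10238 = n8591 := d4_1 D10238 (iv D8591) (iv F32291)
theorem F40473 : act 1 n10238 = n8477 := d11_1 D10238 (iv D8477) (iv F32292)
theorem F40474 : act 2 n10238 = n10156 := d17_1 D10238 F40099 (iv F39002)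
theorem F40475 : act 4 n10238 = n10238 := d26_1 D10238 (iv D10238) F32293 F23867 (iv F32293)
def n10239 : Q := act 7 n8467
theorem D10239 : act 7 n8467 = n10239 := rfl
theorem F40476 : act 0 n10239 = n8592 := d6_1 D10239 (iv D8592) (iv F32291)
theorem F40477 : act 1 n10239 = n8478 := d13_1 D10239 (iv D8478) (iv F32292)
theorem F40478 : act 4 n10239 = n8469 := d28_1 D10239 (iv D8469) (iv F32293)
theorem F40479 : act 6 n10239 = n8468 := d33_1 D10239 (iv D8468) D8467
def n10240 : Q := act 3 n8468
theorem D10240 : act 3 n8468 = n10240 := rfl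
theorem F40480 : act 0 n10240 = n8593 := d2_1 D10240 (iv D8593) (iv F32294)
theorem F40481 : act 1 n10240 = n8479 := d9_1 D10240 (iv D8479) (iv F32295)
def n10241 : Q := act 8 n8468
theorem D10241 : act 8 n8468 = n10241 := rfl
theorem F40482 : act 0 n10241 = n8594 := d7_1 D10241 (iv D8594) (iv F32294)
theorem F40483 : act 1 n10241 = n8480 := d14_1 D10241 (iv D8480) (iv F32295)
theorem F40484 : act 4 n10241 = n8471 := d29_1 D10241 (iv D8471) (iv F32296)
def n10242 : Q := act 3 n8469
theorem D10242 : act 3 n8469 = n10242 := rfl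
theorem F40485 : act 0 n10242 = n8595 := d2_1 D10242 (iv D8595) (iv F32297)
theorem F40486 : act 1 n10242 = n8481 := d9_1 D10242 (iv D8481) (iv F32298)
theorem F40487 : act 5 n10242 = n10242 := d22_2 F32299 D10242 (iv D10242)
theorem F40488 : act 6 n10242 = n8470 := d23_2 (iv F32300) D10242 (iv D8470)
theorem F40489 : act 7 n10242 = n9137 := d24_2 D8469 D10242 (iv D9137) (iv D6661) (iv F23866)
def n10243 : Q := act 8 n8469
theorem D10243 : act 8 n8469 = n10243 := rfl
theorem F40490 : act 0 n10243 = n8596 := d7_1 D10243 (iv D8596) (iv F32297)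
theorem F40491 : act 1 n10243 = n8482 := d14_1 D10243 (iv D8482) (iv F32298)
theorem F40492 : act 5 n10243 = n10243 := d32_1 D10243 (iv D10243) F32299
theorem F40493 : act 6 n10243 = n8471 := d34_1 D10243 (iv D8471) (iv F32300)
def n10244 : Q := act 2 n8470
theorem D10244 : act 2 n8470 = n10244 := rfl
theorem F40494 : act 0 n10244 = n8597 := d1_1 D10244 (iv D8597) (iv F32301)
theorem F40495 : act 1 n10244 = n10244 := d8_1 D10244 (iv D10244) F32302 F23892 (iv F32302)
theorem F40496 : act 5 n10244 = n8472 := d17_2 (iv F32303) D10244 (iv D8472)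
theorem F40497 : act 7 n10244 = n9139 := d19_2 (iv F32304) D10244 (iv D9139)
def n10245 : Q := act 4 n8470
theorem D10245 : act 4 n8470 = n10245 := rfl
theorem F40498 : act 0 n10245 = n8598 := d3_1 D10245 (iv D8598) (iv F32301)
theorem F40499 : act 1 n10245 = n8483 := d10_1 D10245 (iv D8483) (iv F32302)
theorem F40500 : act 7 n10245 = n9140 := d28_2 (iv F32304) D10245 (iv D9140)
def n10246 : Q := act 8 n8470
theorem D10246 : act 8 n8470 = n10246 := rfl
theorem F40501 : act 0 n10246 = n8599 := d7_1 D10246 (iv D8599) (iv F32301)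
theorem F40502 : act 1 n10246 = n8484 := d14_1 D10246 (iv D8484) (iv F32302)
theorem F40503 : act 3 n10246 = n8471 := d25_1 D10246 (iv D8471) D8470
theorem F40504 : act 5 n10246 = n8474 := d32_1 D10246 (iv D8474) (iv F32303)
def n10247 : Q := act 4 n8472
theorem D10247 : act 4 n8472 = n10247 := rfl
theorem F40505 : act 0 n10247 = n8600 := d3_1 D10247 (iv D8600) (iv F32308)
theorem F40506 : act 1 n10247 = n10247 := d10_1 D10247 (iv D10247) F32309
theorem F40507 : act 2 n10247 = n8473 := d16_1 D10247 (iv D8473) D8472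
theorem F40508 : act 6 n10247 = n10247 := d27_2 F32310 D10247 (iv D10247)
theorem F40509 : act 7 n10247 = n9142 := d28_2 (iv F32311) D10247 (iv D9142)
def n10248 : Q := act 8 n8472
theorem D10248 : act 8 n8472 = n10248 := rfl
theorem F40510 : act 0 n10248 = n8601 := d7_1 D10248 (iv D8601) (iv F32308)
theorem F40511 : act 1 n10248 = n10248 := d14_1 D10248 (iv D10248) F32309
theorem F40512 : act 2 n10248 = n8474 := d20_1 D10248 (iv D8474) D8472
theorem F40513 : act 6 n10248 = n10248 := d34_1 D10248 (iv D10248) F32310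
def n10249 : Q := act 5 n8473
theorem D10249 : act 5 n8473 = n10249 := rfl
theorem F40514 : act 0 n10249 = n8602 := d4_1 D10249 (iv D8602) (iv F32312)
theorem F40515 : act 1 n10249 = n8485 := d11_1 D10249 (iv D8485) (iv F32313)
theorem F40516 : act 7 n10249 = n9144 := d31_2 (iv F32315) D10249 (iv D9144)
def n10250 : Q := act 8 n8473
theorem D10250 : act 8 n8473 = n10250 := rfl
theorem F40517 : act 0 n10250 = n8603 := d7_1 D10250 (iv D8603) (iv F32312)
theorem F40518 : act 1 n10250 = n8486 := d14_1 D10250 (iv D8486) (iv F32313)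
theorem F40519 : act 4 n10250 = n8474 := d29_1 D10250 (iv D8474) D8473
theorem F40520 : act 6 n10250 = n10250 := d34_1 D10250 (iv D10250) F32314
def n10251 : Q := act 7 n8474
theorem D10251 : act 7 n8474 = n10251 := rfl
theorem F40521 : act 0 n10251 = n8604 := d6_1 D10251 (iv D8604) (iv F32316)
theorem F40522 : act 1 n10251 = n8487 := d13_1 D10251 (iv D8487) (iv F32317)
theorem F40523 : act 6 n10251 = n10251 := d33_1 D10251 (iv D10251) F32319
theorem F40524 : act 8 n10251 = n9146 := d35_2 D8474 D10251 (iv D9146) (iv D6666) (iv F23874)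
def n10252 : Q := act 5 n8475
theorem D10252 : act 5 n8475 = n10252 := rfl
theorem F40525 : act 0 n10252 = n8493 := d4_1 D10252 (iv D8493) (iv F32320)
theorem F40526 : act 2 n10252 = n10252 := d17_1 D10252 (iv D10252) F32321
theorem F40527 : act 3 n10252 = n8477 := d22_1 D10252 (iv D8477) (iv F32322)
theorem F40528 : act 4 n10252 = n9239 := d26_1 D10252 F34996 F25830 (iv F38723) (iv F32323)
theorem F40529 : act 8 n10252 = n9235 := d32_2 (iv F38784) D10252 (iv D9235)
def n10253 : Q := act 7 n8475
theorem D10253 : act 7 n8475 = n10253 := rfl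
theorem F40530 : act 0 n10253 = n8494 := d6_1 D10253 (iv D8494) (iv F32320)
theorem F40531 : act 2 n10253 = n10253 := d19_1 D10253 (iv D10253) F32321
theorem F40532 : act 4 n10253 = n9148 := d28_1 D10253 (iv D9148) (iv F32323)
theorem F40533 : act 6 n10253 = n8476 := d33_1 D10253 (iv D8476) D8475
def n10254 : Q := act 3 n8476
theorem D10254 : act 3 n8476 = n10254 := rfl
theorem F40534 : act 0 n10254 = n8495 := d2_1 D10254 (iv D8495) (iv F32324)
theorem F40535 : act 7 n10254 = n8479 := d24_2 D8476 D10254 (iv D8479) (iv D6185) D6183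
def n10255 : Q := act 8 n8476
theorem D10255 : act 8 n8476 = n10255 := rfl
theorem F40536 : act 0 n10255 = n8496 := d7_1 D10255 (iv D8496) (iv F32324)
theorem F40537 : act 2 n10255 = n10255 := d20_1 D10255 (iv D10255) F32325
theorem F40538 : act 4 n10255 = n9150 := d29_1 D10255 (iv D9150) (iv F32326)
def n10256 : Q := act 7 n8477
theorem D10256 : act 7 n8477 = n10256 := rfl
theorem F40539 : act 0 n10256 = n8497 := d6_1 D10256 (iv D8497) (iv F32327)
theorem F40540 : act 2 n10256 = n8488 := d19_1 D10256 (iv D8488) (iv F32328)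
theorem F40541 : act 4 n10256 = n10256 := d28_1 D10256 (iv D10256) F32329
theorem F40542 : act 5 n10256 = n8478 := d31_1 D10256 (iv D8478) D8477
def n10257 : Q := act 3 n8478
theorem D10257 : act 3 n8478 = n10257 := rfl
theorem F40543 : act 0 n10257 = n8498 := d2_1 D10257 (iv D8498) (iv F32330)
theorem F40544 : act 6 n10257 = n8479 := d23_2 (iv F32333) D10257 (iv D8479)
def n10258 : Q := act 8 n8478
theorem D10258 : act 8 n8478 = n10258 := rfl
theorem F40545 : act 0 n10258 = n8499 := d7_1 D10258 (iv D8499) (iv F32330)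
theorem F40546 : act 2 n10258 = n8490 := d20_1 D10258 (iv D8490) (iv F32331)
theorem F40547 : act 4 n10258 = n8482 := d29_1 D10258 (iv D8482) (iv F32332)
theorem F40548 : act 6 n10258 = n8480 := d34_1 D10258 (iv D8480) (iv F32333)
def n10259 : Q := act 2 n8479
theorem D10259 : act 2 n8479 = n10259 := rfl
theorem F40549 : act 0 n10259 = n8500 := d1_1 D10259 (iv D8500) (iv F32334)
theorem F40550 : act 3 n10259 = n8491 := d15_2 D8479 D10259 (iv D8491) (iv D6193) (iv F23885)
def n10260 : Q := act 4 n8479
theorem D10260 : act 4 n8479 = n10260 := rfl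
theorem F40551 : act 0 n10260 = n8501 := d3_1 D10260 (iv D8501) (iv F32334)
theorem F40552 : act 3 n10260 = n8483 := d21_1 D10260 (iv D8483) (iv D6187) (iv F23886) D8479
def n10261 : Q := act 8 n8479
theorem D10261 : act 8 n8479 = n10261 := rfl
theorem F40553 : act 0 n10261 = n8502 := d7_1 D10261 (iv D8502) (iv F32334)
theorem F40554 : act 3 n10261 = n8480 := d25_1 D10261 (iv D8480) D8479
def n10262 : Q := act 4 n8481
theorem D10262 : act 4 n8481 = n10262 := rfl
theorem F40555 : act 0 n10262 = n8503 := d3_1 D10262 (iv D8503) (iv F32338)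
theorem F40556 : act 2 n10262 = n10262 := d16_1 D10262 (iv D10262) F32339
theorem F40557 : act 6 n10262 = n8483 := d27_2 (iv F32341) D10262 (iv D8483)
theorem F40558 : act 7 n10262 = n9157 := d28_2 (iv F32342) D10262 (iv D9157)
def n10263 : Q := act 8 n8481
theorem D10263 : act 8 n8481 = n10263 := rfl
theorem F40559 : act 0 n10263 = n8504 := d7_1 D10263 (iv D8504) (iv F32338)
theorem F40560 : act 2 n10263 = n10263 := d20_1 D10263 (iv D10263) F32339
theorem F40561 : act 3 n10263 = n8482 := d25_1 D10263 (iv D8482) D8481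
theorem F40562 : act 5 n10263 = n10263 := d32_1 D10263 (iv D10263) F32340
theorem F40563 : act 6 n10263 = n8484 := d34_1 D10263 (iv D8484) (iv F32341)
theorem F40564 : act 7 n10263 = n9320 := d35_1 D10263 (iv D9320) F26023 (iv F38914) (iv F32342)
def n10264 : Q := act 5 n8483
theorem D10264 : act 5 n8483 = n10264 := rfl
theorem F40565 : act 0 n10264 = n8505 := d4_1 D10264 (iv D8505) (iv F32347)
theorem F40566 : act 2 n10264 = n10264 := d17_1 D10264 (iv D10264) F32348
theorem F40567 : act 4 n10264 = n8485 := d26_1 D10264 (iv D8485) (iv D6189) (iv F23893) D8483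
theorem F40568 : act 7 n10264 = n9159 := d31_2 (iv F32349) D10264 (iv D9159)
def n10265 : Q := act 8 n8483
theorem D10265 : act 8 n8483 = n10265 := rfl
theorem F40569 : act 0 n10265 = n8506 := d7_1 D10265 (iv D8506) (iv F32347)
theorem F40570 : act 2 n10265 = n10265 := d20_1 D10265 (iv D10265) F32348
theorem F40571 : act 4 n10265 = n8484 := d29_1 D10265 (iv D8484) D8483
def n10266 : Q := act 7 n8484
theorem D10266 : act 7 n8484 = n10266 := rfl
theorem F40572 : act 0 n10266 = n8507 := d6_1 D10266 (iv D8507) (iv F32350)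
theorem F40573 : act 2 n10266 = n10266 := d19_1 D10266 (iv D10266) F32351
theorem F40574 : act 3 n10266 = n9318 := d24_1 D10266 (iv F40360) F40357 F32162 (iv F32352)
theorem F40575 : act 5 n10266 = n8487 := d31_1 D10266 (iv D8487) (iv F32353)
theorem F40576 : act 6 n10266 = n9320 := d33_1 D10266 (iv F40564) F40563
theorem F40577 : act 8 n10266 = n9161 := d35_2 D8484 D10266 (iv D9161) (iv D6676) (iv F23894)
def n10267 : Q := act 6 n8485
theorem D10267 : act 6 n8485 = n10267 := rfl
theorem F40578 : act 0 n10267 = n8508 := d5_1 D10267 (iv D8508) (iv F32354)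
theorem F40579 : act 2 n10267 = n10267 := d18_1 D10267 (iv D10267) F32355
theorem F40580 : act 5 n10267 = n10267 := d30_1 D10267 (iv D10267) (iv D8485) F23900 D8485
theorem F40581 : act 7 n10267 = n9162 := d33_2 (iv F32356) D10267 (iv D9162)
def n10268 : Q := act 8 n8485
theorem D10268 : act 8 n8485 = n10268 := rfl
theorem F40582 : act 0 n10268 = n8509 := d7_1 D10268 (iv D8509) (iv F32354)
theorem F40583 : act 2 n10268 = n10268 := d20_1 D10268 (iv D10268) F32355
theorem F40584 : act 5 n10268 = n8486 := d32_1 D10268 (iv D8486) D8485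
def n10269 : Q := act 7 n8486
theorem D10269 : act 7 n8486 = n10269 := rfl
theorem F40585 : act 0 n10269 = n8510 := d6_1 D10269 (iv D8510) (iv F32357)
theorem F40586 : act 2 n10269 = n10269 := d19_1 D10269 (iv D10269) F32358
theorem F40587 : act 4 n10269 = n8487 := d28_1 D10269 (iv D8487) (iv F32359)
theorem F40588 : act 6 n10269 = n10269 := d33_1 D10269 (iv D10269) F32360
theorem F40589 : act 8 n10269 = n9164 := d35_2 D8486 D10269 (iv D9164) (iv D6678) (iv F23901)
def n10270 : Q := act 8 n8488
theorem D10270 : act 8 n8488 = n10270 := rfl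
theorem F40590 : act 0 n10270 = n8512 := d7_1 D10270 (iv D8512) (iv F32365)
theorem F40591 : act 1 n10270 = n10129 := d14_1 D10270 (iv D10129) (iv F38468)
theorem F40592 : act 4 n10270 = n10270 := d29_1 D10270 (iv D10270) F32366
theorem F40593 : act 5 n10270 = n8490 := d32_1 D10270 (iv D8490) (iv F32367)
def n10271 : Q := act 2 n8489
theorem D10271 : act 2 n8489 = n10271 := rfl
theorem F40594 : act 0 n10271 = n8513 := d1_1 D10271 (iv D8513) (iv F32368)
theorem F40595 : act 4 n10271 = n10271 := d16_2 F32369 D10271 (iv D10271)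
theorem F40596 : act 6 n10271 = n8491 := d18_2 (iv F32370) D10271 (iv D8491)
theorem F40597 : act 7 n10271 = n10271 := d19_2 F32371 D10271 (iv D10271)
def n10272 : Q := act 8 n8489
theorem D10272 : act 8 n8489 = n10272 := rfl
theorem F40598 : act 0 n10272 = n8514 := d7_1 D10272 (iv D8514) (iv F32368)
theorem F40599 : act 3 n10272 = n8490 := d25_1 D10272 (iv D8490) D8489
theorem F40600 : act 4 n10272 = n10272 := d29_1 D10272 (iv D10272) F32369
theorem F40601 : act 6 n10272 = n8492 := d34_1 D10272 (iv D8492) (iv F32370)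
def n10273 : Q := act 1 n8491
theorem D10273 : act 1 n8491 = n10273 := rfl
theorem F40602 : act 4 n10273 = n10273 := d10_2 F32376 D10273 (iv D10273)
theorem F40603 : act 7 n10273 = n10273 := d13_2 F32377 D10273 (iv D10273)
def n10274 : Q := act 8 n8491
theorem D10274 : act 8 n8491 = n10274 := rfl
theorem F40604 : act 0 n10274 = n8516 := d7_1 D10274 (iv D8516) (iv F32375)
theorem F40605 : act 2 n10274 = n8492 := d20_1 D10274 (iv D8492) D8491
theorem F40606 : act 4 n10274 = n10274 := d29_1 D10274 (iv D10274) F32376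
def n10275 : Q := act 7 n8492
theorem D10275 : act 7 n8492 = n10275 := rfl
theorem F40607 : act 0 n10275 = n8517 := d6_1 D10275 (iv D8517) (iv F32378)
theorem F40608 : act 4 n10275 = n10275 := d28_1 D10275 (iv D10275) F32380
theorem F40609 : act 8 n10275 = n10275 := d35_2 D8492 D10275 (iv D10275) (iv D8492) F23914
def n10276 : Q := act 7 n8493
theorem D10276 : act 7 n8493 = n10276 := rfl
theorem F40610 : act 1 n10276 = n8631 := d13_1 D10276 (iv D8631) (iv F32381)
theorem F40611 : act 2 n10276 = n10276 := d19_1 D10276 (iv D10276) F32382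
theorem F40612 : act 4 n10276 = n9272 := d28_1 D10276 (iv D9272) (iv F38791)
theorem F40613 : act 5 n10276 = n8494 := d31_1 D10276 (iv D8494) D8493
def n10277 : Q := act 3 n8494
theorem D10277 : act 3 n8494 = n10277 := rfl
theorem F40614 : act 1 n10277 = n8632 := d9_1 D10277 (iv D8632) (iv F32384)
theorem F40615 : act 4 n10277 = n9358 := d21_2 (iv F32386) D10277 (iv D9358) F26132 F38795
theorem F40616 : act 6 n10277 = n8495 := d23_2 (iv F32387) D10277 (iv D8495)
theorem F40617 : act 7 n10277 = n8498 := d24_2 D8494 D10277 (iv D8498) (iv D6199) (iv F23923)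
def n10278 : Q := act 8 n8494
theorem D10278 : act 8 n8494 = n10278 := rfl
theorem F40618 : act 1 n10278 = n8633 := d14_1 D10278 (iv D8633) (iv F32384)
theorem F40619 : act 2 n10278 = n10278 := d20_1 D10278 (iv D10278) F32385
theorem F40620 : act 4 n10278 = n8568 := d29_1 D10278 F38798 (iv F32386)
theorem F40621 : act 6 n10278 = n8496 := d34_1 D10278 (iv D8496) (iv F32387)
theorem F40622 : act 7 n10278 = n8567 := d35_1 D10278 (iv D8567) F24109 (iv F38727) D8494
def n10279 : Q := act 2 n8495
theorem D10279 : act 2 n8495 = n10279 := rfl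
theorem F40623 : act 3 n10279 = n10279 := d15_2 D8495 D10279 (iv D10279) (iv D8495) F23926
theorem F40624 : act 7 n10279 = n8500 := d19_2 (iv F32389) D10279 (iv D8500)
def n10280 : Q := act 4 n8495
theorem D10280 : act 4 n8495 = n10280 := rfl
theorem F40625 : act 1 n10280 = n8635 := d10_1 D10280 (iv D8635) (iv F32388)
theorem F40626 : act 3 n10280 = n9177 := d21_1 D10280 (iv D9177) (iv D6687) (iv F23927) D8495
theorem F40627 : act 6 n10280 = n9358 := d27_2 F40616 D10280 (iv F40615)
theorem F40628 : act 7 n10280 = n8501 := d28_2 (iv F32389) D10280 (iv D8501)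
def n10281 : Q := act 8 n8495
theorem D10281 : act 8 n8495 = n10281 := rfl
theorem F40629 : act 1 n10281 = n8636 := d14_1 D10281 (iv D8636) (iv F32388)
theorem F40630 : act 3 n10281 = n8496 := d25_1 D10281 (iv D8496) D8495
def n10282 : Q := act 3 n8497
theorem D10282 : act 3 n8497 = n10282 := rfl
theorem F40631 : act 1 n10282 = n8561 := d9_1 D10282 F32625 (iv F38328)
theorem F40632 : act 5 n10282 = n8498 := d22_2 (iv F32396) D10282 (iv D8498)
def n10283 : Q := act 8 n8497
theorem D10283 : act 8 n8497 = n10283 := rfl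
theorem F40633 : act 1 n10283 = n8577 := d14_1 D10283 (iv D8577) (iv F38328)
theorem F40634 : act 2 n10283 = n8512 := d20_1 D10283 (iv D8512) (iv F32394)
theorem F40635 : act 4 n10283 = n10283 := d29_1 D10283 (iv D10283) F32395
theorem F40636 : act 5 n10283 = n8499 := d32_1 D10283 (iv D8499) (iv F32396)
def n10284 : Q := act 2 n8498
theorem D10284 : act 2 n8498 = n10284 := rfl
theorem F40637 : act 1 n10284 = n9893 := d8_1 D10284 (iv D9893) F29653 F38463 (iv F32397)
theorem F40638 : act 3 n10284 = n8513 := d15_2 D8498 D10284 (iv D8513) (iv D6210) (iv F23932)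
theorem F40639 : act 6 n10284 = n8500 := d18_2 (iv F32398) D10284 (iv D8500)
def n10285 : Q := act 4 n8498
theorem D10285 : act 4 n8498 = n10285 := rfl
theorem F40640 : act 1 n10285 = n8640 := d10_1 D10285 (iv D8640) (iv F32397)
theorem F40641 : act 3 n10285 = n8503 := d21_1 D10285 (iv D8503) (iv D6202) (iv F23933) D8498
theorem F40642 : act 6 n10285 = n8501 := d27_2 (iv F32398) D10285 (iv D8501)
theorem F40643 : act 7 n10285 = n9358 := d28_2 F40617 D10285 (iv F40615)
def n10286 : Q := act 8 n8498
theorem D10286 : act 8 n8498 = n10286 := rfl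
theorem F40644 : act 1 n10286 = n8641 := d14_1 D10286 (iv D8641) (iv F32397)
theorem F40645 : act 3 n10286 = n8499 := d25_1 D10286 (iv D8499) D8498
theorem F40646 : act 6 n10286 = n8502 := d34_1 D10286 (iv D8502) (iv F32398)
def n10287 : Q := act 1 n8500
theorem D10287 : act 1 n8500 = n10287 := rfl
theorem F40647 : act 2 n10287 = n8642 := d8_2 D8500 D10287 (iv D8642) (iv D6298) (iv F23935)
theorem F40648 : act 3 n10287 = n8515 := d9_2 (iv F32403) D10287 (iv D8515)
theorem F40649 : act 6 n10287 = n9893 := d12_2 F40639 D10287 (iv F40637)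
def n10288 : Q := act 4 n8500
theorem D10288 : act 4 n8500 = n10288 := rfl
theorem F40650 : act 2 n10288 = n8501 := d16_1 D10288 (iv D8501) D8500
theorem F40651 : act 3 n10288 = n10288 := d21_1 D10288 (iv D10288) F32403 F23976 (iv F32403)
def n10289 : Q := act 8 n8500
theorem D10289 : act 8 n8500 = n10289 := rfl
theorem F40652 : act 2 n10289 = n8502 := d20_1 D10289 (iv D8502) D8500
theorem F40653 : act 3 n10289 = n8516 := d25_1 D10289 (iv D8516) (iv F32403)
def n10290 : Q := act 5 n8501
theorem D10290 : act 5 n8501 = n10290 := rfl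
theorem F40654 : act 1 n10290 = n8645 := d11_1 D10290 (iv D8645) (iv F32404)
theorem F40655 : act 3 n10290 = n8505 := d22_1 D10290 (iv D8505) (iv F32405)
def n10291 : Q := act 8 n8501
theorem D10291 : act 8 n8501 = n10291 := rfl
theorem F40656 : act 1 n10291 = n8646 := d14_1 D10291 (iv D8646) (iv F32404)
theorem F40657 : act 3 n10291 = n8506 := d25_1 D10291 (iv D8506) (iv F32405)
theorem F40658 : act 4 n10291 = n8502 := d29_1 D10291 (iv D8502) D8501
def n10292 : Q := act 7 n8502
theorem D10292 : act 7 n8502 = n10292 := rfl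
theorem F40659 : act 1 n10292 = n8647 := d13_1 D10292 (iv D8647) (iv F32406)
def n10293 : Q := act 5 n8503
theorem D10293 : act 5 n8503 = n10293 := rfl
theorem F40660 : act 1 n10293 = n8648 := d11_1 D10293 (iv D8648) (iv F32408)
theorem F40661 : act 2 n10293 = n10293 := d17_1 D10293 (iv D10293) F32409
theorem F40662 : act 4 n10293 = n10293 := d26_1 D10293 (iv D10293) (iv D8503) F23941 D8503
theorem F40663 : act 7 n10293 = n9189 := d31_2 (iv F32411) D10293 (iv D9189)
def n10294 : Q := act 8 n8503
theorem D10294 : act 8 n8503 = n10294 := rfl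
theorem F40664 : act 1 n10294 = n8649 := d14_1 D10294 (iv D8649) (iv F32408)
theorem F40665 : act 2 n10294 = n10294 := d20_1 D10294 (iv D10294) F32409
theorem F40666 : act 4 n10294 = n8504 := d29_1 D10294 (iv D8504) D8503
theorem F40667 : act 6 n10294 = n8506 := d34_1 D10294 (iv D8506) (iv F32410)
theorem F40668 : act 7 n10294 = n9343 := d35_1 D10294 (iv D9343) F26093 (iv F38921) (iv F32411)
def n10295 : Q := act 6 n8505
theorem D10295 : act 6 n8505 = n10295 := rfl
theorem F40669 : act 1 n10295 = n8651 := d12_1 D10295 (iv D8651) (iv F32417)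
theorem F40670 : act 2 n10295 = n10295 := d18_1 D10295 (iv D10295) F32418
theorem F40671 : act 4 n10295 = n8508 := d27_1 D10295 (iv D8508) (iv F32419)
theorem F40672 : act 7 n10295 = n9192 := d33_2 (iv F32420) D10295 (iv D9192)
def n10296 : Q := act 8 n8505
theorem D10296 : act 8 n8505 = n10296 := rfl
theorem F40673 : act 1 n10296 = n8652 := d14_1 D10296 (iv D8652) (iv F32417)
theorem F40674 : act 2 n10296 = n10296 := d20_1 D10296 (iv D10296) F32418
theorem F40675 : act 4 n10296 = n8509 := d29_1 D10296 (iv D8509) (iv F32419)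
theorem F40676 : act 5 n10296 = n8506 := d32_1 D10296 (iv D8506) D8505
def n10297 : Q := act 7 n8506
theorem D10297 : act 7 n8506 = n10297 := rfl
theorem F40677 : act 1 n10297 = n8653 := d13_1 D10297 (iv D8653) (iv F32421)
theorem F40678 : act 2 n10297 = n10297 := d19_1 D10297 (iv D10297) F32422
theorem F40679 : act 4 n10297 = n8507 := d28_1 D10297 (iv D8507) (iv F32423)
theorem F40680 : act 6 n10297 = n9343 := d33_1 D10297 (iv F40668) F40667
theorem F40681 : act 8 n10297 = n9194 := d35_2 D8506 D10297 (iv D9194) (iv D6698) (iv F23950)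
def n10298 : Q := act 8 n8508
theorem D10298 : act 8 n8508 = n10298 := rfl
theorem F40682 : act 1 n10298 = n8654 := d14_1 D10298 (iv D8654) (iv F32428)
theorem F40683 : act 2 n10298 = n10298 := d20_1 D10298 (iv D10298) F32429
theorem F40684 : act 5 n10298 = n10298 := d32_1 D10298 (iv D10298) F32430
theorem F40685 : act 6 n10298 = n8509 := d34_1 D10298 (iv D8509) D8508
def n10299 : Q := act 7 n8509
theorem D10299 : act 7 n8509 = n10299 := rfl
theorem F40686 : act 1 n10299 = n8655 := d13_1 D10299 (iv D8655) (iv F32432)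
theorem F40687 : act 2 n10299 = n10299 := d19_1 D10299 (iv D10299) F32433
theorem F40688 : act 5 n10299 = n8510 := d31_1 D10299 (iv D8510) (iv F32434)
theorem F40689 : act 8 n10299 = n9196 := d35_2 D8509 D10299 (iv D9196) (iv D6701) (iv F23957)
def n10300 : Q := act 3 n8510
theorem D10300 : act 3 n8510 = n10300 := rfl
theorem F40690 : act 1 n10300 = n8656 := d9_1 D10300 (iv D8656) (iv F32435)
theorem F40691 : act 6 n10300 = n10300 := d23_2 F32438 D10300 (iv D10300)
theorem F40692 : act 8 n10300 = n9197 := d25_2 (iv F32439) D10300 (iv D9197)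
def n10301 : Q := act 8 n8513
theorem D10301 : act 8 n8513 = n10301 := rfl
theorem F40693 : act 1 n10301 = n9902 := d14_1 D10301 (iv D9902) F38993
theorem F40694 : act 2 n10301 = n8514 := d20_1 D10301 (iv D8514) D8513
theorem F40695 : act 4 n10301 = n10301 := d29_1 D10301 (iv D10301) F32446
theorem F40696 : act 6 n10301 = n8516 := d34_1 D10301 (iv D8516) (iv F32447)
def n10302 : Q := act 7 n8514
theorem D10302 : act 7 n8514 = n10302 := rfl
theorem F40697 : act 1 n10302 = n8523 := d13_1 D10302 (iv D8523) (iv F32449)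
theorem F40698 : act 4 n10302 = n10302 := d28_1 D10302 (iv D10302) F32451
theorem F40699 : act 6 n10302 = n8517 := d33_1 D10302 (iv D8517) (iv F32452)
theorem F40700 : act 8 n10302 = n10302 := d35_2 D8514 D10302 (iv D10302) (iv D8514) F23972
def n10303 : Q := act 0 n8515
theorem D10303 : act 0 n8515 = n10303 := rfl
theorem F40701 : act 2 n10303 = n8524 := d1_2 (iv F32453) D10303 (iv D8524)
theorem F40702 : act 4 n10303 = n10303 := d3_2 F32454 D10303 (iv D10303)
theorem F40703 : act 6 n10303 = n9889 := d5_2 (iv F38992) D10303 F39100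
theorem F40704 : act 7 n10303 = n10303 := d6_2 F32455 D10303 (iv D10303)
def n10304 : Q := act 8 n8515
theorem D10304 : act 8 n8515 = n10304 := rfl
theorem F40705 : act 1 n10304 = n8516 := d14_1 D10304 (iv D8516) D8515
theorem F40706 : act 2 n10304 = n8525 := d20_1 D10304 (iv D8525) (iv F32453)
theorem F40707 : act 4 n10304 = n10304 := d29_1 D10304 (iv D10304) F32454
theorem F40708 : act 6 n10304 = n9902 := d34_1 D10304 (iv D9902) (iv F38992)
def n10305 : Q := act 7 n8516
theorem D10305 : act 7 n8516 = n10305 := rfl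
theorem F40709 : act 2 n10305 = n8517 := d19_1 D10305 (iv D8517) (iv F32456)
theorem F40710 : act 4 n10305 = n10305 := d28_1 D10305 (iv D10305) F32457
theorem F40711 : act 8 n10305 = n10305 := d35_2 D8516 D10305 (iv D10305) (iv D8516) F23977
def n10306 : Q := act 8 n8524
theorem D10306 : act 8 n8524 = n10306 := rfl
theorem F40712 : act 0 n10306 = n8525 := d7_1 D10306 (iv D8525) D8524
theorem F40713 : act 1 n10306 = n10272 := d14_1 D10306 (iv D10272) F38994
theorem F40714 : act 3 n10306 = n8674 := d25_1 D10306 (iv D8674) (iv F32480)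
theorem F40715 : act 4 n10306 = n10306 := d29_1 D10306 (iv D10306) F32481
theorem F40716 : act 6 n10306 = n9890 := d34_1 D10306 (iv D9890) (iv F38991)
def n10307 : Q := act 7 n8525
theorem D10307 : act 7 n8525 = n10307 := rfl
theorem F40717 : act 1 n10307 = n8526 := d13_1 D10307 (iv D8526) (iv F32483)
theorem F40718 : act 4 n10307 = n10307 := d28_1 D10307 (iv D10307) F32485
theorem F40719 : act 6 n10307 = n9903 := d33_1 D10307 (iv D9903) (iv F38987)
theorem F40720 : act 8 n10307 = n10307 := d35_2 D8525 D10307 (iv D10307) (iv D8525) F23995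
def n10308 : Q := act 2 n8527
theorem D10308 : act 2 n8527 = n10308 := rfl
theorem F40721 : act 1 n10308 = n8677 := d8_1 D10308 (iv D8677) F24343 (iv F24022) (iv F32489)
theorem F40722 : act 3 n10308 = n10056 := d15_2 D8527 D10308 (iv D10056) (iv D8257) (iv F24002)
theorem F40723 : act 4 n10308 = n9206 := d16_2 (iv F32490) D10308 (iv D9206)
theorem F40724 : act 5 n10308 = n9904 := d17_2 (iv F32491) D10308 (iv D9904)
theorem F40725 : act 8 n10308 = n8588 := d20_2 (iv F32492) D10308 (iv D8588)
def n10309 : Q := act 6 n8527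
theorem D10309 : act 6 n8527 = n10309 := rfl
theorem F40726 : act 0 n10309 = n9216 := d5_1 D10309 F40288 F40283
theorem F40727 : act 1 n10309 = n8536 := d12_1 D10309 (iv D8536) (iv F32489)
theorem F40728 : act 3 n10309 = n8528 := d23_1 D10309 (iv D8528) D8527
theorem F40729 : act 4 n10309 = n9073 := d27_1 D10309 F38651 (iv F32490)
theorem F40730 : act 8 n10309 = n8589 := d34_2 (iv F32492) D10309 (iv D8589)
def n10310 : Q := act 7 n8527
theorem D10310 : act 7 n8527 = n10310 := rfl
theorem F40731 : act 1 n10310 = n8537 := d13_1 D10310 (iv D8537) (iv F32489)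
theorem F40732 : act 4 n10310 = n9208 := d28_1 D10310 (iv D9208) (iv F32490)
theorem F40733 : act 5 n10310 = n9905 := d31_1 D10310 (iv D9905) (iv F32491)
def n10311 : Q := act 7 n8528
theorem D10311 : act 7 n8528 = n10311 := rfl
theorem F40734 : act 1 n10311 = n8539 := d13_1 D10311 (iv D8539) (iv F32493)
theorem F40735 : act 2 n10311 = n10060 := d19_1 D10311 (iv D10060) (iv F32494)
theorem F40736 : act 4 n10311 = n8530 := d28_1 D10311 (iv D8530) (iv F32495)
theorem F40737 : act 6 n10311 = n8529 := d33_1 D10311 (iv D8529) D8528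
def n10312 : Q := act 3 n8529
theorem D10312 : act 3 n8529 = n10312 := rfl
theorem F40738 : act 1 n10312 = n8540 := d9_1 D10312 (iv D8540) (iv F32497)
theorem F40739 : act 5 n10312 = n9906 := d22_2 (iv F32500) D10312 (iv D9906)
def n10313 : Q := act 8 n8529
theorem D10313 : act 8 n8529 = n10313 := rfl
theorem F40740 : act 1 n10313 = n8541 := d14_1 D10313 (iv D8541) (iv F32497)
theorem F40741 : act 2 n10313 = n10062 := d20_1 D10313 (iv D10062) (iv F32498)
theorem F40742 : act 4 n10313 = n8532 := d29_1 D10313 (iv D8532) (iv F32499)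
theorem F40743 : act 5 n10313 = n9907 := d32_1 D10313 (iv D9907) (iv F32500)
theorem F40744 : act 7 n10313 = n8594 := d35_1 D10313 (iv D8594) (iv D6266) (iv F24004) D8529
def n10314 : Q := act 3 n8530
theorem D10314 : act 3 n8530 = n10314 := rfl
theorem F40745 : act 0 n10314 = n9208 := d2_1 D10314 (iv F40303) F40300
theorem F40746 : act 1 n10314 = n8542 := d9_1 D10314 (iv D8542) (iv F32501)
theorem F40747 : act 5 n10314 = n10314 := d22_2 F32503 D10314 (iv D10314)
theorem F40748 : act 6 n10314 = n8531 := d23_2 (iv F32504) D10314 (iv D8531)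
theorem F40749 : act 7 n10314 = n9069 := d24_2 D8530 D10314 (iv D9069) F38828 (iv F24007)
def n10315 : Q := act 8 n8530
theorem D10315 : act 8 n8530 = n10315 := rfl
theorem F40750 : act 1 n10315 = n8543 := d14_1 D10315 (iv D8543) (iv F32501)
theorem F40751 : act 2 n10315 = n10064 := d20_1 D10315 (iv D10064) (iv F32502)
theorem F40752 : act 5 n10315 = n10315 := d32_1 D10315 (iv D10315) F32503
theorem F40753 : act 6 n10315 = n8532 := d34_1 D10315 (iv D8532) (iv F32504)
theorem F40754 : act 7 n10315 = n8596 := d35_1 D10315 (iv D8596) (iv D6267) (iv F24009) D8530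
def n10316 : Q := act 2 n8531
theorem D10316 : act 2 n8531 = n10316 := rfl
theorem F40755 : act 1 n10316 = n10316 := d8_1 D10316 (iv D10316) F32505 F24039 (iv F32505)
theorem F40756 : act 3 n10316 = n10065 := d15_2 D8531 D10316 (iv D10065) (iv D8261) (iv F24011)
theorem F40757 : act 5 n10316 = n8533 := d17_2 (iv F32506) D10316 (iv D8533)
theorem F40758 : act 7 n10316 = n9215 := d19_2 (iv F32507) D10316 (iv D9215)
def n10317 : Q := act 4 n8531
theorem D10317 : act 4 n8531 = n10317 := rfl
theorem F40759 : act 1 n10317 = n8544 := d10_1 D10317 (iv D8544) (iv F32505)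
theorem F40760 : act 7 n10317 = n9216 := d28_2 (iv F32507) D10317 (iv D9216)
def n10318 : Q := act 8 n8531
theorem D10318 : act 8 n8531 = n10318 := rfl
theorem F40761 : act 1 n10318 = n8545 := d14_1 D10318 (iv D8545) (iv F32505)
theorem F40762 : act 3 n10318 = n8532 := d25_1 D10318 (iv D8532) D8531
theorem F40763 : act 5 n10318 = n8535 := d32_1 D10318 (iv D8535) (iv F32506)
def n10319 : Q := act 4 n8533
theorem D10319 : act 4 n8533 = n10319 := rfl
theorem F40764 : act 1 n10319 = n10319 := d10_1 D10319 (iv D10319) F32512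
theorem F40765 : act 2 n10319 = n8534 := d16_1 D10319 (iv D8534) D8533
theorem F40766 : act 6 n10319 = n10319 := d27_2 F32514 D10319 (iv D10319)
theorem F40767 : act 7 n10319 = n9218 := d28_2 (iv F32515) D10319 (iv D9218)
def n10320 : Q := act 8 n8533
theorem D10320 : act 8 n8533 = n10320 := rfl
theorem F40768 : act 1 n10320 = n10320 := d14_1 D10320 (iv D10320) F32512
theorem F40769 : act 2 n10320 = n8535 := d20_1 D10320 (iv D8535) D8533
theorem F40770 : act 3 n10320 = n10069 := d25_1 D10320 (iv D10069) (iv F32513)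
theorem F40771 : act 6 n10320 = n10320 := d34_1 D10320 (iv D10320) F32514
def n10321 : Q := act 5 n8534
theorem D10321 : act 5 n8534 = n10321 := rfl
theorem F40772 : act 1 n10321 = n8546 := d11_1 D10321 (iv D8546) (iv F32516)
theorem F40773 : act 3 n10321 = n9913 := d22_1 D10321 (iv D9913) (iv F32517)
theorem F40774 : act 7 n10321 = n9220 := d31_2 (iv F32519) D10321 (iv D9220)
def n10322 : Q := act 8 n8534
theorem D10322 : act 8 n8534 = n10322 := rfl
theorem F40775 : act 1 n10322 = n8547 := d14_1 D10322 (iv D8547) (iv F32516)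
theorem F40776 : act 3 n10322 = n9914 := d25_1 D10322 (iv D9914) (iv F32517)
theorem F40777 : act 4 n10322 = n8535 := d29_1 D10322 (iv D8535) D8534
theorem F40778 : act 6 n10322 = n10322 := d34_1 D10322 (iv D10322) F32518
def n10323 : Q := act 7 n8535
theorem D10323 : act 7 n8535 = n10323 := rfl
theorem F40779 : act 1 n10323 = n8548 := d13_1 D10323 (iv D8548) (iv F32520)
theorem F40780 : act 3 n10323 = n8604 := d24_1 D10323 (iv D8604) F24193 (iv F24020) (iv F32521)
theorem F40781 : act 6 n10323 = n10323 := d33_1 D10323 (iv D10323) F32522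
theorem F40782 : act 8 n10323 = n9222 := d35_2 D8535 D10323 (iv D9222) (iv D6720) (iv F24015)
def n10324 : Q := act 3 n8537
theorem D10324 : act 3 n8537 = n10324 := rfl
theorem F40783 : act 0 n10324 = n8556 := d2_1 D10324 (iv D8556) (iv F32528)
theorem F40784 : act 5 n10324 = n9916 := d22_2 (iv F32531) D10324 (iv D9916)
theorem F40785 : act 7 n10324 = n8540 := d24_2 D8537 D10324 (iv D8540) (iv D6228) D6226
def n10325 : Q := act 8 n8537
theorem D10325 : act 8 n8537 = n10325 := rfl
theorem F40786 : act 0 n10325 = n8557 := d7_1 D10325 (iv D8557) (iv F32528)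
theorem F40787 : act 2 n10325 = n8696 := d20_1 D10325 (iv D8696) (iv F32529)
theorem F40788 : act 4 n10325 = n9226 := d29_1 D10325 (iv D9226) (iv F32530)
theorem F40789 : act 5 n10325 = n9917 := d32_1 D10325 (iv D9917) (iv F32531)
theorem F40790 : act 7 n10325 = n8608 := d35_1 D10325 (iv D8608) (iv D6274) (iv F24025) D8537
def n10326 : Q := act 3 n8539
theorem D10326 : act 3 n8539 = n10326 := rfl
theorem F40791 : act 0 n10326 = n8559 := d2_1 D10326 (iv D8559) (iv F32537)
theorem F40792 : act 6 n10326 = n8540 := d23_2 (iv F32540) D10326 (iv D8540)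
def n10327 : Q := act 8 n8539
theorem D10327 : act 8 n8539 = n10327 := rfl
theorem F40793 : act 0 n10327 = n8560 := d7_1 D10327 (iv D8560) (iv F32537)
theorem F40794 : act 2 n10327 = n8551 := d20_1 D10327 (iv D8551) (iv F32538)
theorem F40795 : act 4 n10327 = n8543 := d29_1 D10327 (iv D8543) (iv F32539)
theorem F40796 : act 6 n10327 = n8541 := d34_1 D10327 (iv D8541) (iv F32540)
theorem F40797 : act 7 n10327 = n8611 := d35_1 D10327 (iv D8611) (iv D6276) (iv F24029) D8539
def n10328 : Q := act 2 n8540
theorem D10328 : act 2 n8540 = n10328 := rfl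
theorem F40798 : act 0 n10328 = n8561 := d1_1 D10328 (iv D8561) (iv F32541)
theorem F40799 : act 3 n10328 = n8552 := d15_2 D8540 D10328 (iv D8552) (iv D6236) (iv F24031)
theorem F40800 : act 5 n10328 = n8610 := d17_2 (iv F32542) D10328 (iv F39009)
def n10329 : Q := act 4 n8540
theorem D10329 : act 4 n8540 = n10329 := rfl
theorem F40801 : act 0 n10329 = n8562 := d3_1 D10329 (iv D8562) (iv F32541)
theorem F40802 : act 3 n10329 = n8544 := d21_1 D10329 (iv D8544) (iv D6230) (iv F24032) D8540
def n10330 : Q := act 8 n8540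
theorem D10330 : act 8 n8540 = n10330 := rfl
theorem F40803 : act 0 n10330 = n8563 := d7_1 D10330 (iv D8563) (iv F32541)
theorem F40804 : act 3 n10330 = n8541 := d25_1 D10330 (iv D8541) D8540
theorem F40805 : act 5 n10330 = n9919 := d32_1 D10330 (iv D9919) (iv F32542)
def n10331 : Q := act 8 n8542
theorem D10331 : act 8 n8542 = n10331 := rfl
theorem F40806 : act 0 n10331 = n8565 := d7_1 D10331 (iv D8565) (iv F32548)
theorem F40807 : act 2 n10331 = n10331 := d20_1 D10331 (iv D10331) F32549
theorem F40808 : act 3 n10331 = n8543 := d25_1 D10331 (iv D8543) D8542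
theorem F40809 : act 5 n10331 = n10331 := d32_1 D10331 (iv D10331) F32550
theorem F40810 : act 6 n10331 = n8545 := d34_1 D10331 (iv D8545) (iv F32551)
theorem F40811 : act 7 n10331 = n9150 := d35_1 D10331 (iv D9150) (iv D6668) (iv F25414) (iv F38781)
def n10332 : Q := act 5 n8544
theorem D10332 : act 5 n8544 = n10332 := rfl
theorem F40812 : act 0 n10332 = n8566 := d4_1 D10332 (iv D8566) (iv F32558)
theorem F40813 : act 2 n10332 = n10332 := d17_1 D10332 (iv D10332) F32559
theorem F40814 : act 4 n10332 = n8546 := d26_1 D10332 (iv D8546) (iv D6232) (iv F24040) D8544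
theorem F40815 : act 7 n10332 = n9235 := d31_2 (iv F32560) D10332 (iv D9235)
def n10333 : Q := act 8 n8544
theorem D10333 : act 8 n8544 = n10333 := rfl
theorem F40816 : act 0 n10333 = n8567 := d7_1 D10333 (iv D8567) (iv F32558)
theorem F40817 : act 2 n10333 = n10333 := d20_1 D10333 (iv D10333) F32559
theorem F40818 : act 4 n10333 = n8545 := d29_1 D10333 (iv D8545) D8544
def n10334 : Q := act 7 n8545
theorem D10334 : act 7 n8545 = n10334 := rfl
theorem F40819 : act 0 n10334 = n8568 := d6_1 D10334 (iv D8568) (iv F32561)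
theorem F40820 : act 2 n10334 = n10334 := d19_1 D10334 (iv D10334) F32562
theorem F40821 : act 3 n10334 = n8619 := d24_1 D10334 (iv D8619) F24227 (iv F24045) (iv F32563)
theorem F40822 : act 5 n10334 = n8548 := d31_1 D10334 (iv D8548) (iv F32564)
theorem F40823 : act 6 n10334 = n9150 := d33_1 D10334 (iv F40811) F40810
theorem F40824 : act 8 n10334 = n9148 := d35_2 D8545 D10334 (iv D9148) F38724 (iv F24041)
def n10335 : Q := act 6 n8546
theorem D10335 : act 6 n8546 = n10335 := rfl
theorem F40825 : act 0 n10335 = n8569 := d5_1 D10335 (iv D8569) (iv F32565)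
theorem F40826 : act 2 n10335 = n10335 := d18_1 D10335 (iv D10335) F32566
theorem F40827 : act 3 n10335 = n9923 := d23_1 D10335 (iv D9923) (iv F32567)
theorem F40828 : act 5 n10335 = n10335 := d30_1 D10335 (iv D10335) (iv D8546) F24049 D8546
theorem F40829 : act 7 n10335 = n9238 := d33_2 (iv F32568) D10335 (iv D9238)
def n10336 : Q := act 8 n8546
theorem D10336 : act 8 n8546 = n10336 := rfl
theorem F40830 : act 0 n10336 = n8570 := d7_1 D10336 (iv D8570) (iv F32565)
theorem F40831 : act 2 n10336 = n10336 := d20_1 D10336 (iv D10336) F32566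
theorem F40832 : act 3 n10336 = n9924 := d25_1 D10336 (iv D9924) (iv F32567)
theorem F40833 : act 5 n10336 = n8547 := d32_1 D10336 (iv D8547) D8546
def n10337 : Q := act 7 n8547
theorem D10337 : act 7 n8547 = n10337 := rfl
theorem F40834 : act 0 n10337 = n8571 := d6_1 D10337 (iv D8571) (iv F32569)
theorem F40835 : act 2 n10337 = n10337 := d19_1 D10337 (iv D10337) F32570
theorem F40836 : act 4 n10337 = n8548 := d28_1 D10337 (iv D8548) (iv F32572)
theorem F40837 : act 6 n10337 = n10337 := d33_1 D10337 (iv D10337) F32573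
theorem F40838 : act 8 n10337 = n9240 := d35_2 D8547 D10337 (iv D9240) (iv D6732) (iv F24050)
def n10338 : Q := act 1 n8552
theorem D10338 : act 1 n8552 = n10338 := rfl
theorem F40839 : act 2 n10338 = n10094 := d8_2 D8552 D10338 (iv D10094) (iv D8282) (iv F24066)
theorem F40840 : act 4 n10338 = n10338 := d10_2 F32595 D10338 (iv D10338)
theorem F40841 : act 5 n10338 = n8592 := d11_2 F38295 D10338 F32731
theorem F40842 : act 7 n10338 = n8591 := d13_2 (iv F38237) D10338 F32729
def n10339 : Q := act 8 n8552
theorem D10339 : act 8 n8552 = n10339 := rfl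
theorem F40843 : act 0 n10339 = n8577 := d7_1 D10339 (iv D8577) (iv F32594)
theorem F40844 : act 2 n10339 = n8553 := d20_1 D10339 (iv D8553) D8552
theorem F40845 : act 4 n10339 = n10339 := d29_1 D10339 (iv D10339) F32595
theorem F40846 : act 5 n10339 = n8611 := d32_1 D10339 (iv D8611) F38295
def n10340 : Q := act 2 n8556
theorem D10340 : act 2 n8556 = n10340 := rfl
theorem F40847 : act 3 n10340 = n8631 := d15_2 D8556 D10340 F38203 (iv D6353) (iv F24085)
theorem F40848 : act 5 n10340 = n8632 := d17_2 (iv F32610) D10340 (iv F39008)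
theorem F40849 : act 7 n10340 = n8561 := d19_2 (iv F32611) D10340 (iv D8561)
def n10341 : Q := act 8 n8556
theorem D10341 : act 8 n8556 = n10341 := rfl
theorem F40850 : act 3 n10341 = n8557 := d25_1 D10341 (iv D8557) D8556
theorem F40851 : act 5 n10341 = n9927 := d32_1 D10341 (iv D9927) (iv F32610)
def n10342 : Q := act 8 n8559
theorem D10342 : act 8 n8559 = n10342 := rfl
theorem F40852 : act 3 n10342 = n8560 := d25_1 D10342 (iv D8560) D8559
theorem F40853 : act 6 n10342 = n8563 := d34_1 D10342 (iv D8563) (iv F32620)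
def n10343 : Q := act 4 n8561
theorem D10343 : act 4 n8561 = n10343 := rfl
theorem F40854 : act 2 n10343 = n8562 := d16_1 D10343 (iv D8562) D8561
theorem F40855 : act 3 n10343 = n10343 := d21_1 D10343 (iv D10343) F32625 F24136 (iv F32625)
def n10344 : Q := act 8 n8561
theorem D10344 : act 8 n8561 = n10344 := rfl
theorem F40856 : act 2 n10344 = n8563 := d20_1 D10344 (iv D8563) D8561
theorem F40857 : act 3 n10344 = n8577 := d25_1 D10344 (iv D8577) (iv F32625)
theorem F40858 : act 5 n10344 = n8641 := d32_1 D10344 (iv D8641) F38390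
def n10345 : Q := act 5 n8562
theorem D10345 : act 5 n8562 = n10345 := rfl
theorem F40859 : act 3 n10345 = n8566 := d22_1 D10345 (iv D8566) (iv F32627)
theorem F40860 : act 4 n10345 = n9928 := d26_1 D10345 (iv D9928) (iv D7801) (iv F24095) D8562
def n10346 : Q := act 8 n8562
theorem D10346 : act 8 n8562 = n10346 := rfl
theorem F40861 : act 3 n10346 = n8567 := d25_1 D10346 (iv D8567) (iv F32627)
theorem F40862 : act 4 n10346 = n8563 := d29_1 D10346 (iv D8563) D8562
def n10347 : Q := act 7 n8563
theorem D10347 : act 7 n8563 = n10347 := rfl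
theorem F40863 : act 3 n10347 = n8647 := d24_1 D10347 (iv D8647) F24273 (iv F24099) (iv F32628)
theorem F40864 : act 5 n10347 = n9930 := d31_1 D10347 (iv D9930) (iv F32629)
def n10348 : Q := act 8 n8566
theorem D10348 : act 8 n8566 = n10348 := rfl
theorem F40865 : act 2 n10348 = n10348 := d20_1 D10348 (iv D10348) F32637
theorem F40866 : act 4 n10348 = n8570 := d29_1 D10348 (iv D8570) (iv F32638)
theorem F40867 : act 5 n10348 = n8567 := d32_1 D10348 (iv D8567) D8566
def n10349 : Q := act 8 n8569
theorem D10349 : act 8 n8569 = n10349 := rfl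
theorem F40868 : act 2 n10349 = n10349 := d20_1 D10349 (iv D10349) F32646
theorem F40869 : act 3 n10349 = n9934 := d25_1 D10349 (iv D9934) (iv F32647)
theorem F40870 : act 5 n10349 = n10349 := d32_1 D10349 (iv D10349) F32648
theorem F40871 : act 6 n10349 = n8570 := d34_1 D10349 (iv D8570) D8569
def n10350 : Q := act 7 n8570
theorem D10350 : act 7 n8570 = n10350 := rfl
theorem F40872 : act 2 n10350 = n10350 := d19_1 D10350 (iv D10350) F32650
theorem F40873 : act 5 n10350 = n8571 := d31_1 D10350 (iv D8571) (iv F32652)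
theorem F40874 : act 8 n10350 = n9272 := d35_2 D8570 D10350 (iv D9272) (iv D6755) (iv F24115)
def n10351 : Q := act 3 n8571
theorem D10351 : act 3 n8571 = n10351 := rfl
theorem F40875 : act 4 n10351 = n8656 := d21_2 (iv F32654) D10351 (iv D8656) F24295 (iv F24121)
theorem F40876 : act 6 n10351 = n10351 := d23_2 F32655 D10351 (iv D10351)
theorem F40877 : act 7 n10351 = n9936 := d24_2 D8571 D10351 (iv D9936) (iv D7810) (iv F24117)
theorem F40878 : act 8 n10351 = n9273 := d25_2 (iv F32656) D10351 (iv D9273)
def n10352 : Q := act 6 n8588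
theorem D10352 : act 6 n8588 = n10352 := rfl
theorem F40879 : act 1 n10352 = n8759 := d12_1 D10352 (iv D8759) (iv F32722)
theorem F40880 : act 2 n10352 = n8589 := d18_1 D10352 (iv D8589) D8588
theorem F40881 : act 4 n10352 = n9288 := d27_1 D10352 (iv D9288) (iv F32723)
def n10353 : Q := act 7 n8588
theorem D10353 : act 7 n8588 = n10353 := rfl
theorem F40882 : act 1 n10353 = n8760 := d13_1 D10353 (iv D8760) (iv F32722)
theorem F40883 : act 2 n10353 = n8590 := d19_1 D10353 (iv D8590) D8588
theorem F40884 : act 4 n10353 = n9289 := d28_1 D10353 (iv D9289) (iv F32723)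
def n10354 : Q := act 5 n8589
theorem D10354 : act 5 n8589 = n10354 := rfl
theorem F40885 : act 1 n10354 = n8605 := d11_1 D10354 (iv D8605) (iv F32724)
theorem F40886 : act 3 n10354 = n8591 := d22_1 D10354 (iv D8591) (iv F32725)
def n10355 : Q := act 7 n8589
theorem D10355 : act 7 n8589 = n10355 := rfl
theorem F40887 : act 1 n10355 = n8606 := d13_1 D10355 (iv D8606) (iv F32724)
theorem F40888 : act 4 n10355 = n9291 := d28_1 D10355 (iv D9291) (iv F32726)
theorem F40889 : act 6 n10355 = n8590 := d33_1 D10355 (iv D8590) D8589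
def n10356 : Q := act 3 n8590
theorem D10356 : act 3 n8590 = n10356 := rfl
theorem F40890 : act 1 n10356 = n8607 := d9_1 D10356 (iv D8607) (iv F32727)
theorem F40891 : act 7 n10356 = n8593 := d24_2 D8590 D10356 (iv D8593) (iv D6266) D6264
def n10357 : Q := act 8 n8590
theorem D10357 : act 8 n8590 = n10357 := rfl
theorem F40892 : act 1 n10357 = n8608 := d14_1 D10357 (iv D8608) (iv F32727)
theorem F40893 : act 4 n10357 = n9293 := d29_1 D10357 (iv D9293) (iv F32728)
def n10358 : Q := act 3 n8592
theorem D10358 : act 3 n8592 = n10358 := rfl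
theorem F40894 : act 1 n10358 = n8610 := d9_1 D10358 (iv D8610) (iv F32731)
theorem F40895 : act 6 n10358 = n8593 := d23_2 (iv F32733) D10358 (iv D8593)
def n10359 : Q := act 8 n8592
theorem D10359 : act 8 n8592 = n10359 := rfl
theorem F40896 : act 1 n10359 = n8611 := d14_1 D10359 (iv D8611) (iv F32731)
theorem F40897 : act 4 n10359 = n8596 := d29_1 D10359 (iv D8596) (iv F32732)
theorem F40898 : act 6 n10359 = n8594 := d34_1 D10359 (iv D8594) (iv F32733)
def n10360 : Q := act 2 n8593
theorem D10360 : act 2 n8593 = n10360 := rfl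
def n10361 : Q := act 4 n8593
theorem D10361 : act 4 n8593 = n10361 := rfl
theorem F40899 : act 1 n10361 = n8613 := d10_1 D10361 (iv D8613) (iv F32734)
theorem F40900 : act 3 n10361 = n8598 := d21_1 D10361 (iv D8598) (iv D6268) (iv F24177) D8593
def n10362 : Q := act 8 n8593
theorem D10362 : act 8 n8593 = n10362 := rfl
theorem F40901 : act 1 n10362 = n8614 := d14_1 D10362 (iv D8614) (iv F32734)
theorem F40902 : act 3 n10362 = n8594 := d25_1 D10362 (iv D8594) D8593
def n10363 : Q := act 2 n8595
theorem D10363 : act 2 n8595 = n10363 := rfl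
theorem F40903 : act 1 n10363 = n8839 := d8_1 D10363 (iv D8839) F24760 (iv F24214) (iv F32737)
theorem F40904 : act 5 n10363 = n10363 := d17_2 F32738 D10363 (iv D10363)
theorem F40905 : act 6 n10363 = n8597 := d18_2 (iv F32739) D10363 (iv D8597)
theorem F40906 : act 7 n10363 = n9300 := d19_2 (iv F32740) D10363 (iv D9300)
def n10364 : Q := act 4 n8595
theorem D10364 : act 4 n8595 = n10364 := rfl
theorem F40907 : act 1 n10364 = n8615 := d10_1 D10364 (iv D8615) (iv F32737)
theorem F40908 : act 6 n10364 = n8598 := d27_2 (iv F32739) D10364 (iv D8598)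
theorem F40909 : act 7 n10364 = n9301 := d28_2 (iv F32740) D10364 (iv D9301)
def n10365 : Q := act 8 n8595
theorem D10365 : act 8 n8595 = n10365 := rfl
theorem F40910 : act 1 n10365 = n8616 := d14_1 D10365 (iv D8616) (iv F32737)
theorem F40911 : act 3 n10365 = n8596 := d25_1 D10365 (iv D8596) D8595
theorem F40912 : act 5 n10365 = n10365 := d32_1 D10365 (iv D10365) F32738
theorem F40913 : act 6 n10365 = n8599 := d34_1 D10365 (iv D8599) (iv F32739)
def n10366 : Q := act 4 n8597
theorem D10366 : act 4 n8597 = n10366 := rfl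
theorem F40914 : act 1 n10366 = n8842 := d10_1 D10366 (iv D8842) (iv F32744)
theorem F40915 : act 2 n10366 = n8598 := d16_1 D10366 (iv D8598) D8597
theorem F40916 : act 7 n10366 = n9303 := d28_2 (iv F32746) D10366 (iv D9303)
def n10367 : Q := act 8 n8597
theorem D10367 : act 8 n8597 = n10367 := rfl
theorem F40917 : act 1 n10367 = n8843 := d14_1 D10367 (iv D8843) (iv F32744)
theorem F40918 : act 2 n10367 = n8599 := d20_1 D10367 (iv D8599) D8597
theorem F40919 : act 5 n10367 = n8601 := d32_1 D10367 (iv D8601) (iv F32745)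
def n10368 : Q := act 5 n8598
theorem D10368 : act 5 n8598 = n10368 := rfl
theorem F40920 : act 1 n10368 = n8617 := d11_1 D10368 (iv D8617) (iv F32747)
theorem F40921 : act 4 n10368 = n8602 := d26_1 D10368 (iv D8602) (iv D6271) (iv F24182) D8598
theorem F40922 : act 7 n10368 = n9305 := d31_2 (iv F32748) D10368 (iv D9305)
def n10369 : Q := act 8 n8598
theorem D10369 : act 8 n8598 = n10369 := rfl
theorem F40923 : act 1 n10369 = n8618 := d14_1 D10369 (iv D8618) (iv F32747)
theorem F40924 : act 4 n10369 = n8599 := d29_1 D10369 (iv D8599) D8598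
def n10370 : Q := act 7 n8599
theorem D10370 : act 7 n8599 = n10370 := rfl
theorem F40925 : act 1 n10370 = n8619 := d13_1 D10370 (iv D8619) (iv F32749)
theorem F40926 : act 5 n10370 = n8604 := d31_1 D10370 (iv D8604) (iv F32751)
theorem F40927 : act 8 n10370 = n9307 := d35_2 D8599 D10370 (iv D9307) (iv D6781) (iv F24183)
def n10371 : Q := act 3 n8600
theorem D10371 : act 3 n8600 = n10371 := rfl
theorem F40928 : act 1 n10371 = n8847 := d9_1 D10371 (iv D8847) (iv F32752)
theorem F40929 : act 6 n10371 = n10371 := d23_2 F32754 D10371 (iv D10371)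
def n10372 : Q := act 5 n8600
theorem D10372 : act 5 n8600 = n10372 := rfl
theorem F40930 : act 1 n10372 = n8848 := d11_1 D10372 (iv D8848) (iv F32752)
theorem F40931 : act 2 n10372 = n8602 := d17_1 D10372 (iv D8602) (iv F32753)
theorem F40932 : act 7 n10372 = n9309 := d31_2 (iv F32755) D10372 (iv D9309)
def n10373 : Q := act 8 n8600
theorem D10373 : act 8 n8600 = n10373 := rfl
theorem F40933 : act 1 n10373 = n8849 := d14_1 D10373 (iv D8849) (iv F32752)
theorem F40934 : act 2 n10373 = n8603 := d20_1 D10373 (iv D8603) (iv F32753)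
theorem F40935 : act 4 n10373 = n8601 := d29_1 D10373 (iv D8601) D8600
theorem F40936 : act 6 n10373 = n10373 := d34_1 D10373 (iv D10373) F32754
def n10374 : Q := act 7 n8601
theorem D10374 : act 7 n8601 = n10374 := rfl
theorem F40937 : act 1 n10374 = n8850 := d13_1 D10374 (iv D8850) (iv F32756)
theorem F40938 : act 2 n10374 = n8604 := d19_1 D10374 (iv D8604) (iv F32757)
theorem F40939 : act 6 n10374 = n10374 := d33_1 D10374 (iv D10374) F32758
theorem F40940 : act 8 n10374 = n9311 := d35_2 D8601 D10374 (iv D9311) (iv D6783) (iv F24188)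
def n10375 : Q := act 6 n8602
theorem D10375 : act 6 n8602 = n10375 := rfl
theorem F40941 : act 1 n10375 = n8620 := d12_1 D10375 (iv D8620) (iv F32759)
theorem F40942 : act 5 n10375 = n10375 := d30_1 D10375 (iv D10375) (iv D8602) F24190 D8602
theorem F40943 : act 7 n10375 = n9312 := d33_2 (iv F32760) D10375 (iv D9312)
def n10376 : Q := act 8 n8602
theorem D10376 : act 8 n8602 = n10376 := rfl
theorem F40944 : act 1 n10376 = n8621 := d14_1 D10376 (iv D8621) (iv F32759)
theorem F40945 : act 5 n10376 = n8603 := d32_1 D10376 (iv D8603) D8602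
def n10377 : Q := act 7 n8603
theorem D10377 : act 7 n8603 = n10377 := rfl
theorem F40946 : act 1 n10377 = n8622 := d13_1 D10377 (iv D8622) (iv F32761)
theorem F40947 : act 4 n10377 = n8604 := d28_1 D10377 (iv D8604) (iv F32762)
theorem F40948 : act 6 n10377 = n10377 := d33_1 D10377 (iv D10377) F32763
theorem F40949 : act 8 n10377 = n9314 := d35_2 D8603 D10377 (iv D9314) (iv D6785) (iv F24191)
def n10378 : Q := act 4 n8605
theorem D10378 : act 4 n8605 = n10378 := rfl
theorem F40950 : act 0 n10378 = n8630 := d3_1 D10378 (iv D8630) (iv F32767)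
theorem F40951 : act 2 n10378 = n8701 := d16_1 D10378 (iv D8701) (iv F38101)
theorem F40952 : act 3 n10378 = n10378 := d21_1 D10378 (iv D10378) F32769 F24204 (iv F32769)
theorem F40953 : act 5 n10378 = n9089 := d26_2 D8605 D10378 F34454 (iv F38657) (iv F24198)
theorem F40954 : act 8 n10378 = n9088 := d29_2 F40077 D10378 F40078
def n10379 : Q := act 7 n8605
theorem D10379 : act 7 n8605 = n10379 := rfl
theorem F40955 : act 0 n10379 = n8631 := d6_1 D10379 (iv D8631) (iv F32767)
theorem F40956 : act 2 n10379 = n8695 := d19_1 D10379 F33055 (iv F38101)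
theorem F40957 : act 5 n10379 = n8606 := d31_1 D10379 (iv D8606) D8605
def n10380 : Q := act 3 n8606
theorem D10380 : act 3 n8606 = n10380 := rfl
theorem F40958 : act 0 n10380 = n8632 := d2_1 D10380 (iv D8632) (iv F32770)
theorem F40959 : act 2 n10380 = n9916 := d15_1 D10380 (iv D9916) F29758 F38234 (iv F32771)
theorem F40960 : act 6 n10380 = n8607 := d23_2 (iv F32773) D10380 (iv D8607)
theorem F40961 : act 7 n10380 = n8610 := d24_2 D8606 D10380 (iv D8610) (iv D6276) (iv F24197)
def n10381 : Q := act 8 n8606
theorem D10381 : act 8 n8606 = n10381 := rfl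
theorem F40962 : act 0 n10381 = n8633 := d7_1 D10381 (iv D8633) (iv F32770)
theorem F40963 : act 2 n10381 = n8773 := d20_1 D10381 (iv D8773) (iv F32771)
theorem F40964 : act 4 n10381 = n9318 := d29_1 D10381 (iv D9318) (iv F32772)
theorem F40965 : act 6 n10381 = n8608 := d34_1 D10381 (iv D8608) (iv F32773)
def n10382 : Q := act 2 n8607
theorem D10382 : act 2 n8607 = n10382 := rfl
theorem F40966 : act 0 n10382 = n8634 := d1_1 D10382 (iv D8634) (iv F32774)
theorem F40967 : act 3 n10382 = n8774 := d15_2 D8607 D10382 (iv D8774) (iv D6393) (iv F24200)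
theorem F40968 : act 6 n10382 = n9916 := d18_2 F40960 D10382 (iv F40959)
theorem F40969 : act 7 n10382 = n8612 := d19_2 (iv F32775) D10382 (iv D8612)
def n10383 : Q := act 4 n8607
theorem D10383 : act 4 n8607 = n10383 := rfl
theorem F40970 : act 0 n10383 = n8635 := d3_1 D10383 (iv D8635) (iv F32774)
theorem F40971 : act 3 n10383 = n9319 := d21_1 D10383 (iv D9319) (iv D6789) (iv F24201) D8607
theorem F40972 : act 7 n10383 = n8613 := d28_2 (iv F32775) D10383 (iv D8613)
def n10384 : Q := act 8 n8607
theorem D10384 : act 8 n8607 = n10384 := rfl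
theorem F40973 : act 0 n10384 = n8636 := d7_1 D10384 (iv D8636) (iv F32774)
theorem F40974 : act 3 n10384 = n8608 := d25_1 D10384 (iv D8608) D8607
def n10385 : Q := act 4 n8610
theorem D10385 : act 4 n8610 = n10385 := rfl
theorem F40975 : act 0 n10385 = n8640 := d3_1 D10385 (iv D8640) (iv F32783)
theorem F40976 : act 2 n10385 = n9918 := d16_1 D10385 (iv D9918) F39009
theorem F40977 : act 3 n10385 = n8615 := d21_1 D10385 (iv D8615) (iv D6279) (iv F24207) D8610
theorem F40978 : act 6 n10385 = n8613 := d27_2 (iv F32784) D10385 (iv D8613)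
def n10386 : Q := act 8 n8610
theorem D10386 : act 8 n8610 = n10386 := rfl
theorem F40979 : act 0 n10386 = n8641 := d7_1 D10386 (iv D8641) (iv F32783)
theorem F40980 : act 2 n10386 = n9919 := d20_1 D10386 (iv D9919) F39009
theorem F40981 : act 3 n10386 = n8611 := d25_1 D10386 (iv D8611) D8610
theorem F40982 : act 6 n10386 = n8614 := d34_1 D10386 (iv D8614) (iv F32784)
def n10387 : Q := act 1 n8612
theorem D10387 : act 1 n8612 = n10387 := rfl
theorem F40983 : act 3 n10387 = n8627 := d9_2 (iv F32790) D10387 (iv D8627)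
theorem F40984 : act 6 n10387 = n9906 := d12_2 (iv F39005) D10387 F39150
def n10388 : Q := act 4 n8612
theorem D10388 : act 4 n8612 = n10388 := rfl
theorem F40985 : act 0 n10388 = n8643 := d3_1 D10388 (iv D8643) (iv F32789)
theorem F40986 : act 2 n10388 = n8613 := d16_1 D10388 (iv D8613) D8612
theorem F40987 : act 3 n10388 = n8860 := d21_1 D10388 (iv D8860) F24814 (iv F24251) (iv F32790)
theorem F40988 : act 6 n10388 = n9918 := d27_2 (iv F39005) D10388 (iv D9918)
def n10389 : Q := act 8 n8612
theorem D10389 : act 8 n8612 = n10389 := rfl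
theorem F40989 : act 0 n10389 = n8644 := d7_1 D10389 (iv D8644) (iv F32789)
theorem F40990 : act 2 n10389 = n8614 := d20_1 D10389 (iv D8614) D8612
theorem F40991 : act 3 n10389 = n8628 := d25_1 D10389 (iv D8628) (iv F32790)
theorem F40992 : act 6 n10389 = n9919 := d34_1 D10389 (iv D9919) (iv F39005)
def n10390 : Q := act 5 n8613
theorem D10390 : act 5 n8613 = n10390 := rfl
theorem F40993 : act 0 n10390 = n8645 := d4_1 D10390 (iv D8645) (iv F32791)
theorem F40994 : act 3 n10390 = n8617 := d22_1 D10390 (iv D8617) (iv F32792)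
def n10391 : Q := act 8 n8613
theorem D10391 : act 8 n8613 = n10391 := rfl
theorem F40995 : act 0 n10391 = n8646 := d7_1 D10391 (iv D8646) (iv F32791)
theorem F40996 : act 3 n10391 = n8618 := d25_1 D10391 (iv D8618) (iv F32792)
theorem F40997 : act 4 n10391 = n8614 := d29_1 D10391 (iv D8614) D8613
def n10392 : Q := act 7 n8614
theorem D10392 : act 7 n8614 = n10392 := rfl
theorem F40998 : act 0 n10392 = n8647 := d6_1 D10392 (iv D8647) (iv F32793)
def n10393 : Q := act 5 n8615
theorem D10393 : act 5 n8615 = n10393 := rfl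
theorem F40999 : act 0 n10393 = n8648 := d4_1 D10393 (iv D8648) (iv F32795)
theorem F41000 : act 2 n10393 = n8865 := d17_1 D10393 (iv D8865) (iv F32796)
theorem F41001 : act 4 n10393 = n10393 := d26_1 D10393 (iv D10393) (iv D8615) F24215 D8615
theorem F41002 : act 7 n10393 = n9328 := d31_2 (iv F32798) D10393 (iv D9328)
def n10394 : Q := act 8 n8615
theorem D10394 : act 8 n8615 = n10394 := rfl
theorem F41003 : act 0 n10394 = n8649 := d7_1 D10394 (iv D8649) (iv F32795)
theorem F41004 : act 2 n10394 = n8866 := d20_1 D10394 (iv D8866) (iv F32796)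
theorem F41005 : act 4 n10394 = n8616 := d29_1 D10394 (iv D8616) D8615
theorem F41006 : act 6 n10394 = n8618 := d34_1 D10394 (iv D8618) (iv F32797)
def n10395 : Q := act 7 n8616
theorem D10395 : act 7 n8616 = n10395 := rfl
theorem F41007 : act 0 n10395 = n8650 := d6_1 D10395 (iv D8650) (iv F32799)
theorem F41008 : act 2 n10395 = n8867 := d19_1 D10395 (iv D8867) (iv F32800)
theorem F41009 : act 3 n10395 = n9150 := d24_1 D10395 (iv F40811) F40808 F32557 (iv F32801)
theorem F41010 : act 5 n10395 = n10395 := d31_1 D10395 (iv D10395) F32802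
theorem F41011 : act 6 n10395 = n8619 := d33_1 D10395 (iv D8619) (iv F32803)
theorem F41012 : act 8 n10395 = n9149 := d35_2 D8616 D10395 F34671 F38913 (iv F24217)
def n10396 : Q := act 6 n8617
theorem D10396 : act 6 n8617 = n10396 := rfl
theorem F41013 : act 0 n10396 = n8651 := d5_1 D10396 (iv D8651) (iv F32804)
theorem F41014 : act 2 n10396 = n8868 := d18_1 D10396 (iv D8868) (iv F32805)
theorem F41015 : act 4 n10396 = n8620 := d27_1 D10396 (iv D8620) (iv F32806)
theorem F41016 : act 7 n10396 = n9331 := d33_2 (iv F32807) D10396 (iv D9331)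
def n10397 : Q := act 8 n8617
theorem D10397 : act 8 n8617 = n10397 := rfl
theorem F41017 : act 0 n10397 = n8652 := d7_1 D10397 (iv D8652) (iv F32804)
theorem F41018 : act 2 n10397 = n8869 := d20_1 D10397 (iv D8869) (iv F32805)
theorem F41019 : act 4 n10397 = n8621 := d29_1 D10397 (iv D8621) (iv F32806)
theorem F41020 : act 5 n10397 = n8618 := d32_1 D10397 (iv D8618) D8617
def n10398 : Q := act 7 n8618
theorem D10398 : act 7 n8618 = n10398 := rfl
theorem F41021 : act 0 n10398 = n8653 := d6_1 D10398 (iv D8653) (iv F32808)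
theorem F41022 : act 2 n10398 = n8870 := d19_1 D10398 (iv D8870) (iv F32809)
theorem F41023 : act 4 n10398 = n8619 := d28_1 D10398 (iv D8619) (iv F32810)
theorem F41024 : act 8 n10398 = n9333 := d35_2 D8618 D10398 (iv D9333) (iv D6799) (iv F24224)
def n10399 : Q := act 8 n8620
theorem D10399 : act 8 n8620 = n10399 := rfl
theorem F41025 : act 0 n10399 = n8654 := d7_1 D10399 (iv D8654) (iv F32815)
theorem F41026 : act 2 n10399 = n8871 := d20_1 D10399 (iv D8871) (iv F32816)
theorem F41027 : act 5 n10399 = n10399 := d32_1 D10399 (iv D10399) F32817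
theorem F41028 : act 6 n10399 = n8621 := d34_1 D10399 (iv D8621) D8620
def n10400 : Q := act 7 n8621
theorem D10400 : act 7 n8621 = n10400 := rfl
theorem F41029 : act 0 n10400 = n8655 := d6_1 D10400 (iv D8655) (iv F32819)
theorem F41030 : act 2 n10400 = n8872 := d19_1 D10400 (iv D8872) (iv F32820)
theorem F41031 : act 5 n10400 = n8622 := d31_1 D10400 (iv D8622) (iv F32821)
theorem F41032 : act 8 n10400 = n9335 := d35_2 D8621 D10400 (iv D9335) (iv D6802) (iv F24231)
def n10401 : Q := act 3 n8622
theorem D10401 : act 3 n8622 = n10401 := rfl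
theorem F41033 : act 0 n10401 = n8656 := d2_1 D10401 (iv D8656) (iv F32822)
theorem F41034 : act 6 n10401 = n10401 := d23_2 F32825 D10401 (iv D10401)
theorem F41035 : act 8 n10401 = n9336 := d25_2 (iv F32826) D10401 (iv D9336)
def n10402 : Q := act 0 n8627
theorem D10402 : act 0 n8627 = n10402 := rfl
theorem F41036 : act 1 n10402 = n8663 := d0_2 D8627 D10402 (iv D8663) (iv D6313) (iv F24250)
theorem F41037 : act 2 n10402 = n10239 := d1_2 F39000 D10402 F40476
theorem F41038 : act 4 n10402 = n8880 := d3_2 (iv F32841) D10402 (iv D8880)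
theorem F41039 : act 6 n10402 = n9875 := d5_2 (iv F38999) D10402 F39050
theorem F41040 : act 7 n10402 = n8789 := d6_2 (iv F32842) D10402 (iv D8789)
def n10403 : Q := act 8 n8627
theorem D10403 : act 8 n8627 = n10403 := rfl
theorem F41041 : act 1 n10403 = n8628 := d14_1 D10403 (iv D8628) D8627
theorem F41042 : act 2 n10403 = n10359 := d20_1 D10403 (iv D10359) F39000
theorem F41043 : act 4 n10403 = n8881 := d29_1 D10403 (iv D8881) (iv F32841)
theorem F41044 : act 6 n10403 = n9907 := d34_1 D10403 (iv D9907) (iv F38999)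
def n10404 : Q := act 7 n8630
theorem D10404 : act 7 n8630 = n10404 := rfl
theorem F41045 : act 1 n10404 = n9272 := d13_1 D10404 (iv D9272) (iv F38621)
theorem F41046 : act 2 n10404 = n8721 := d19_1 D10404 F33157 (iv F38068)
theorem F41047 : act 4 n10404 = n8631 := d28_1 D10404 (iv D8631) D8630
theorem F41048 : act 5 n10404 = n9113 := d31_1 D10404 (iv D9113) (iv F38622)
def n10405 : Q := act 8 n8631
theorem D10405 : act 8 n8631 = n10405 := rfl
theorem F41049 : act 2 n10405 = n8722 := d20_1 D10405 (iv D8722) (iv F38203)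
theorem F41050 : act 5 n10405 = n8633 := d32_1 D10405 (iv D8633) (iv F32853)
def n10406 : Q := act 4 n8632
theorem D10406 : act 4 n8632 = n10406 := rfl
theorem F41051 : act 1 n10406 = n9358 := d10_1 D10406 (iv F40615) F40614
theorem F41052 : act 2 n10406 = n9926 := d16_1 D10406 (iv D9926) F39008
theorem F41053 : act 3 n10406 = n9194 := d21_1 D10406 F34831 F38739 (iv F24259) D8632
theorem F41054 : act 6 n10406 = n8635 := d27_2 (iv F32854) D10406 (iv D8635)
theorem F41055 : act 7 n10406 = n8640 := d28_2 (iv F32855) D10406 (iv D8640)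
def n10407 : Q := act 8 n8632
theorem D10407 : act 8 n8632 = n10407 := rfl
theorem F41056 : act 2 n10407 = n9927 := d20_1 D10407 (iv D9927) F39008
theorem F41057 : act 3 n10407 = n8633 := d25_1 D10407 (iv D8633) D8632
theorem F41058 : act 6 n10407 = n8636 := d34_1 D10407 (iv D8636) (iv F32854)
def n10408 : Q := act 1 n8634
theorem D10408 : act 1 n8634 = n10408 := rfl
theorem F41059 : act 3 n10408 = n8797 := d9_2 (iv F32859) D10408 (iv D8797)
theorem F41060 : act 6 n10408 = n9891 := d12_2 (iv F39007) D10408 F39107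
theorem F41061 : act 7 n10408 = n8642 := d13_2 (iv F32860) D10408 (iv D8642)
def n10409 : Q := act 4 n8634
theorem D10409 : act 4 n8634 = n10409 := rfl
theorem F41062 : act 2 n10409 = n8635 := d16_1 D10409 (iv D8635) D8634
theorem F41063 : act 3 n10409 = n10409 := d21_1 D10409 (iv D10409) F32859 F24664 (iv F32859)
theorem F41064 : act 6 n10409 = n9926 := d27_2 (iv F39007) D10409 (iv D9926)
theorem F41065 : act 7 n10409 = n8643 := d28_2 (iv F32860) D10409 (iv D8643)
def n10410 : Q := act 8 n8634
theorem D10410 : act 8 n8634 = n10410 := rfl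
theorem F41066 : act 2 n10410 = n8636 := d20_1 D10410 (iv D8636) D8634
theorem F41067 : act 3 n10410 = n8798 := d25_1 D10410 (iv D8798) (iv F32859)
theorem F41068 : act 6 n10410 = n9927 := d34_1 D10410 (iv D9927) (iv F39007)
def n10411 : Q := act 5 n8635
theorem D10411 : act 5 n8635 = n10411 := rfl
theorem F41069 : act 3 n10411 = n9342 := d22_1 D10411 (iv D9342) (iv F32861)
theorem F41070 : act 7 n10411 = n8645 := d31_2 (iv F32862) D10411 (iv D8645)
def n10412 : Q := act 8 n8635
theorem D10412 : act 8 n8635 = n10412 := rfl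
theorem F41071 : act 3 n10412 = n9343 := d25_1 D10412 (iv D9343) (iv F32861)
theorem F41072 : act 4 n10412 = n8636 := d29_1 D10412 (iv D8636) D8635
def n10413 : Q := act 7 n8636
theorem D10413 : act 7 n8636 = n10413 := rfl
theorem F41073 : act 8 n10413 = n8647 := d35_2 D8636 D10413 (iv D8647) (iv D6300) (iv F24261)
def n10414 : Q := act 5 n8640
theorem D10414 : act 5 n8640 = n10414 := rfl
theorem F41074 : act 2 n10414 = n9928 := d17_1 D10414 (iv D9928) (iv F38589)
theorem F41075 : act 3 n10414 = n8648 := d22_1 D10414 (iv D8648) (iv F32870)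
def n10415 : Q := act 8 n8640
theorem D10415 : act 8 n8640 = n10415 := rfl
theorem F41076 : act 2 n10415 = n9929 := d20_1 D10415 (iv D9929) (iv F38589)
theorem F41077 : act 3 n10415 = n8649 := d25_1 D10415 (iv D8649) (iv F32870)
theorem F41078 : act 4 n10415 = n8641 := d29_1 D10415 (iv D8641) D8640
theorem F41079 : act 6 n10415 = n8646 := d34_1 D10415 (iv D8646) (iv F32871)
def n10416 : Q := act 7 n8641
theorem D10416 : act 7 n8641 = n10416 := rfl
theorem F41080 : act 2 n10416 = n9930 := d19_1 D10416 (iv D9930) F39004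
theorem F41081 : act 6 n10416 = n8647 := d33_1 D10416 (iv D8647) (iv F32873)
def n10417 : Q := act 0 n8642
theorem D10417 : act 0 n8642 = n10417 := rfl
theorem F41082 : act 3 n10417 = n8663 := d2_2 (iv F32874) D10417 (iv D8663)
theorem F41083 : act 6 n10417 = n9882 := d5_2 (iv F39006) D10417 F39078
def n10418 : Q := act 4 n8642
theorem D10418 : act 4 n8642 = n10418 := rfl
theorem F41084 : act 1 n10418 = n8643 := d10_1 D10418 (iv D8643) D8642
theorem F41085 : act 3 n10418 = n8893 := d21_1 D10418 (iv D8893) F24895 (iv F24312) (iv F32874)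
theorem F41086 : act 6 n10418 = n9894 := d27_2 (iv F39006) D10418 (iv D9894)
def n10419 : Q := act 8 n8642
theorem D10419 : act 8 n8642 = n10419 := rfl
theorem F41087 : act 1 n10419 = n8644 := d14_1 D10419 (iv D8644) D8642
theorem F41088 : act 3 n10419 = n8664 := d25_1 D10419 (iv D8664) (iv F32874)
theorem F41089 : act 6 n10419 = n9895 := d34_1 D10419 (iv D9895) (iv F39006)
def n10420 : Q := act 5 n8643
theorem D10420 : act 5 n8643 = n10420 := rfl
theorem F41090 : act 2 n10420 = n8645 := d17_1 D10420 (iv D8645) (iv F32875)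
theorem F41091 : act 3 n10420 = n8895 := d22_1 D10420 (iv D8895) (iv F32876)
def n10421 : Q := act 8 n8643
theorem D10421 : act 8 n8643 = n10421 := rfl
theorem F41092 : act 2 n10421 = n8646 := d20_1 D10421 (iv D8646) (iv F32875)
theorem F41093 : act 3 n10421 = n8896 := d25_1 D10421 (iv D8896) (iv F32876)
theorem F41094 : act 4 n10421 = n8644 := d29_1 D10421 (iv D8644) D8643
theorem F41095 : act 6 n10421 = n9929 := d34_1 D10421 (iv D9929) F38590
def n10422 : Q := act 7 n8644
theorem D10422 : act 7 n8644 = n10422 := rfl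
theorem F41096 : act 2 n10422 = n8647 := d19_1 D10422 (iv D8647) (iv F32877)
theorem F41097 : act 6 n10422 = n9930 := d33_1 D10422 (iv D9930) (iv F39003)
def n10423 : Q := act 6 n8645
theorem D10423 : act 6 n8645 = n10423 := rfl
theorem F41098 : act 3 n10423 = n8651 := d23_1 D10423 (iv D8651) (iv F32879)
def n10424 : Q := act 8 n8645
theorem D10424 : act 8 n8645 = n10424 := rfl
theorem F41099 : act 3 n10424 = n8652 := d25_1 D10424 (iv D8652) (iv F32879)
theorem F41100 : act 5 n10424 = n8646 := d32_1 D10424 (iv D8646) D8645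
def n10425 : Q := act 7 n8646
theorem D10425 : act 7 n8646 = n10425 := rfl
theorem F41101 : act 4 n10425 = n8647 := d28_1 D10425 (iv D8647) (iv F32881)
def n10426 : Q := act 6 n8648
theorem D10426 : act 6 n8648 = n10426 := rfl
theorem F41102 : act 2 n10426 = n8901 := d18_1 D10426 (iv D8901) (iv F32882)
theorem F41103 : act 4 n10426 = n10426 := d27_1 D10426 (iv D10426) F32883
theorem F41104 : act 5 n10426 = n8651 := d30_1 D10426 (iv D8651) (iv D6303) (iv F24275) D8648
theorem F41105 : act 7 n10426 = n9353 := d33_2 (iv F32884) D10426 (iv D9353)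
def n10427 : Q := act 8 n8648
theorem D10427 : act 8 n8648 = n10427 := rfl
theorem F41106 : act 2 n10427 = n8902 := d20_1 D10427 (iv D8902) (iv F32882)
theorem F41107 : act 4 n10427 = n10427 := d29_1 D10427 (iv D10427) F32883
theorem F41108 : act 5 n10427 = n8649 := d32_1 D10427 (iv D8649) D8648
def n10428 : Q := act 7 n8649
theorem D10428 : act 7 n8649 = n10428 := rfl
theorem F41109 : act 1 n10428 = n9343 := d13_1 D10428 (iv F40668) F40664
theorem F41110 : act 2 n10428 = n8903 := d19_1 D10428 (iv D8903) (iv F32885)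
theorem F41111 : act 4 n10428 = n8650 := d28_1 D10428 (iv D8650) (iv F32886)
theorem F41112 : act 6 n10428 = n8653 := d33_1 D10428 (iv D8653) (iv F32887)
theorem F41113 : act 8 n10428 = n9177 := d35_2 D8649 D10428 F34775 F38924 (iv F24276)
def n10429 : Q := act 8 n8651
theorem D10429 : act 8 n8651 = n10429 := rfl
theorem F41114 : act 2 n10429 = n8904 := d20_1 D10429 (iv D8904) (iv F32892)
theorem F41115 : act 4 n10429 = n8654 := d29_1 D10429 (iv D8654) (iv F32893)
theorem F41116 : act 6 n10429 = n8652 := d34_1 D10429 (iv D8652) D8651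
def n10430 : Q := act 7 n8652
theorem D10430 : act 7 n8652 = n10430 := rfl
theorem F41117 : act 2 n10430 = n8905 := d19_1 D10430 (iv D8905) (iv F32895)
theorem F41118 : act 4 n10430 = n8655 := d28_1 D10430 (iv D8655) (iv F32896)
theorem F41119 : act 5 n10430 = n8653 := d31_1 D10430 (iv D8653) (iv F32897)
theorem F41120 : act 8 n10430 = n9357 := d35_2 D8652 D10430 (iv D9357) (iv D6822) (iv F24283)
def n10431 : Q := act 3 n8653
theorem D10431 : act 3 n8653 = n10431 := rfl
theorem F41121 : act 8 n10431 = n9358 := d25_2 (iv F32900) D10431 (iv D9358)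
def n10432 : Q := act 7 n8654
theorem D10432 : act 7 n8654 = n10432 := rfl
theorem F41122 : act 2 n10432 = n8907 := d19_1 D10432 (iv D8907) (iv F32901)
theorem F41123 : act 5 n10432 = n10432 := d31_1 D10432 (iv D10432) F32902
theorem F41124 : act 6 n10432 = n8655 := d33_1 D10432 (iv D8655) (iv F32903)
theorem F41125 : act 8 n10432 = n9359 := d35_2 D8654 D10432 (iv D9359) (iv D6824) (iv F24291)
def n10433 : Q := act 3 n8655
theorem D10433 : act 3 n8655 = n10433 := rfl
theorem F41126 : act 5 n10433 = n8656 := d22_2 (iv F32905) D10433 (iv D8656)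
theorem F41127 : act 8 n10433 = n9360 := d25_2 (iv F32906) D10433 (iv D9360)
def n10434 : Q := act 2 n8656
theorem D10434 : act 2 n8656 = n10434 := rfl
theorem F41128 : act 3 n10434 = n8909 := d15_2 D8656 D10434 (iv D8909) (iv D6494) (iv F24294)
theorem F41129 : act 6 n10434 = n10434 := d18_2 F32907 D10434 (iv D10434)
theorem F41130 : act 8 n10434 = n9361 := d20_2 (iv F32908) D10434 (iv D9361)
def n10435 : Q := act 8 n8663
theorem D10435 : act 8 n8663 = n10435 := rfl
theorem F41131 : act 0 n10435 = n8664 := d7_1 D10435 (iv D8664) D8663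
theorem F41132 : act 2 n10435 = n8674 := d20_1 D10435 (iv D8674) (iv F32929)
theorem F41133 : act 4 n10435 = n8918 := d29_1 D10435 (iv D8918) (iv F32930)
theorem F41134 : act 6 n10435 = n9883 := d34_1 D10435 (iv D9883) (iv F38986)
def n10436 : Q := act 6 n8677
theorem D10436 : act 6 n8677 = n10436 := rfl
theorem F41135 : act 0 n10436 = n10436 := d5_1 D10436 (iv D10436) F32966
theorem F41136 : act 2 n10436 = n8678 := d18_1 D10436 (iv D8678) D8677
theorem F41137 : act 3 n10436 = n10130 := d23_1 D10436 (iv D10130) (iv F32967)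
theorem F41138 : act 4 n10436 = n9362 := d27_1 D10436 (iv D9362) (iv F32968)
theorem F41139 : act 8 n10436 = n8759 := d34_2 (iv F32970) D10436 (iv D8759)
def n10437 : Q := act 7 n8677
theorem D10437 : act 7 n8677 = n10437 := rfl
theorem F41140 : act 0 n10437 = n10437 := d6_1 D10437 (iv D10437) F32966
theorem F41141 : act 2 n10437 = n8679 := d19_1 D10437 (iv D8679) D8677
theorem F41142 : act 4 n10437 = n9363 := d28_1 D10437 (iv D9363) (iv F32968)
theorem F41143 : act 5 n10437 = n9937 := d31_1 D10437 (iv D9937) (iv F32969)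
def n10438 : Q := act 7 n8678
theorem D10438 : act 7 n8678 = n10438 := rfl
theorem F41144 : act 0 n10438 = n10438 := d6_1 D10438 (iv D10438) F32971
theorem F41145 : act 1 n10438 = n8694 := d13_1 D10438 (iv D8694) (iv F32972)
theorem F41146 : act 4 n10438 = n9365 := d28_1 D10438 (iv D9365) (iv F32974)
theorem F41147 : act 6 n10438 = n8679 := d33_1 D10438 (iv D8679) D8678
def n10439 : Q := act 3 n8679
theorem D10439 : act 3 n8679 = n10439 := rfl
theorem F41148 : act 0 n10439 = n10439 := d2_1 D10439 (iv D10439) F32976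
theorem F41149 : act 1 n10439 = n8695 := d9_1 D10439 (iv D8695) (iv F32977)
theorem F41150 : act 5 n10439 = n8762 := d22_2 (iv F32979) D10439 (iv F39017)
theorem F41151 : act 7 n10439 = n8682 := d24_2 D8679 D10439 (iv D8682) (iv D6327) D6325
def n10440 : Q := act 8 n8679
theorem D10440 : act 8 n8679 = n10440 := rfl
theorem F41152 : act 0 n10440 = n10440 := d7_1 D10440 (iv D10440) F32976
theorem F41153 : act 1 n10440 = n8696 := d14_1 D10440 (iv D8696) (iv F32977)
theorem F41154 : act 4 n10440 = n9367 := d29_1 D10440 (iv D9367) (iv F32978)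
theorem F41155 : act 5 n10440 = n9938 := d32_1 D10440 (iv D9938) (iv F32979)
theorem F41156 : act 7 n10440 = n8764 := d35_1 D10440 (iv D8764) (iv D6385) (iv F24346) D8679
def n10441 : Q := act 2 n8682
theorem D10441 : act 2 n8682 = n10441 := rfl
theorem F41157 : act 0 n10441 = n10441 := d1_1 D10441 (iv D10441) F32991
theorem F41158 : act 3 n10441 = n10137 := d15_2 D8682 D10441 (iv D10137) (iv D8323) (iv F24354)
theorem F41159 : act 5 n10441 = n8759 := d17_2 F38029 D10441 F33295
def n10442 : Q := act 4 n8682
theorem D10442 : act 4 n8682 = n10442 := rfl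
theorem F41160 : act 0 n10442 = n10442 := d3_1 D10442 (iv D10442) F32991
theorem F41161 : act 1 n10442 = n8701 := d10_1 D10442 (iv D8701) (iv F32992)
theorem F41162 : act 3 n10442 = n8687 := d21_1 D10442 (iv D8687) (iv D6329) (iv F24355) D8682
theorem F41163 : act 5 n10442 = n9429 := d26_2 F38029 D10442 (iv D9429) (iv D6876) (iv F24585)
def n10443 : Q := act 4 n8686
theorem D10443 : act 4 n8686 = n10443 := rfl
theorem F41164 : act 0 n10443 = n10443 := d3_1 D10443 (iv D10443) F33011
theorem F41165 : act 1 n10443 = n10443 := d10_1 D10443 (iv D10443) F33012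
theorem F41166 : act 2 n10443 = n8687 := d16_1 D10443 (iv D8687) D8686
theorem F41167 : act 5 n10443 = n9873 := d26_2 (iv F33014) D10443 (iv D9873) (iv D7562) F37646
theorem F41168 : act 7 n10443 = n9374 := d28_2 (iv F33015) D10443 (iv D9374)
def n10444 : Q := act 8 n8694
theorem D10444 : act 8 n8694 = n10444 := rfl
theorem F41169 : act 0 n10444 = n8719 := d7_1 D10444 (iv D8719) (iv F33050)
theorem F41170 : act 4 n10444 = n9382 := d29_1 D10444 (iv D9382) (iv F33051)
theorem F41171 : act 6 n10444 = n8696 := d34_1 D10444 (iv D8696) (iv F33052)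
theorem F41172 : act 7 n10444 = n8773 := d35_1 D10444 (iv D8773) (iv D6392) (iv F24389) D8694
def n10445 : Q := act 4 n8695
theorem D10445 : act 4 n8695 = n10445 := rfl
theorem F41173 : act 0 n10445 = n8721 := d3_1 D10445 (iv D8721) (iv F33053)
theorem F41174 : act 3 n10445 = n9384 := d21_1 D10445 (iv D9384) (iv D6840) (iv F24391) D8695
theorem F41175 : act 5 n10445 = n9432 := d26_2 F38171 D10445 F35671 F26348 (iv F24610)
theorem F41176 : act 7 n10445 = n8701 := d28_2 (iv F33055) D10445 (iv D8701)
def n10446 : Q := act 8 n8695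
theorem D10446 : act 8 n8695 = n10446 := rfl
theorem F41177 : act 0 n10446 = n8722 := d7_1 D10446 (iv D8722) (iv F33053)
theorem F41178 : act 3 n10446 = n8696 := d25_1 D10446 (iv D8696) D8695
theorem F41179 : act 5 n10446 = n8773 := d32_1 D10446 (iv D8773) F38171
def n10447 : Q := act 8 n8721
theorem D10447 : act 8 n8721 = n10447 := rfl
theorem F41180 : act 1 n10447 = n10447 := d14_1 D10447 (iv D10447) F33155
theorem F41181 : act 3 n10447 = n9408 := d25_1 D10447 (iv D9408) (iv F33156)
theorem F41182 : act 4 n10447 = n8722 := d29_1 D10447 (iv D8722) D8721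
theorem F41183 : act 5 n10447 = n9435 := d32_1 D10447 (iv D9435) (iv F38070)
def n10448 : Q := act 7 n8759
theorem D10448 : act 7 n8759 = n10448 := rfl
theorem F41184 : act 0 n10448 = n10448 := d6_1 D10448 (iv D10448) F33294
theorem F41185 : act 2 n10448 = n8762 := d19_1 D10448 (iv D8762) (iv F33295)
theorem F41186 : act 4 n10448 = n9426 := d28_1 D10448 (iv D9426) (iv F33296)
theorem F41187 : act 6 n10448 = n8760 := d33_1 D10448 (iv D8760) D8759
def n10449 : Q := act 3 n8760
theorem D10449 : act 3 n8760 = n10449 := rfl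
theorem F41188 : act 0 n10449 = n10449 := d2_1 D10449 (iv D10449) F33297
def n10450 : Q := act 8 n8760
theorem D10450 : act 8 n8760 = n10450 := rfl
theorem F41189 : act 0 n10450 = n10450 := d7_1 D10450 (iv D10450) F33297
theorem F41190 : act 2 n10450 = n8764 := d20_1 D10450 (iv D8764) (iv F33298)
theorem F41191 : act 4 n10450 = n9428 := d29_1 D10450 (iv D9428) (iv F33299)
def n10451 : Q := act 8 n8762
theorem D10451 : act 8 n8762 = n10451 := rfl
theorem F41192 : act 0 n10451 = n10451 := d7_1 D10451 (iv D10451) F33303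
theorem F41193 : act 1 n10451 = n8773 := d14_1 D10451 (iv D8773) (iv F33304)
theorem F41194 : act 3 n10451 = n9938 := d25_1 D10451 (iv D9938) F39017
theorem F41195 : act 4 n10451 = n9431 := d29_1 D10451 (iv D9431) (iv F33305)
theorem F41196 : act 6 n10451 = n8764 := d34_1 D10451 (iv D8764) (iv F33306)
def n10452 : Q := act 2 n8763
theorem D10452 : act 2 n8763 = n10452 := rfl
theorem F41197 : act 0 n10452 = n10452 := d1_1 D10452 (iv D10452) F33307
theorem F41198 : act 4 n10452 = n10452 := d16_2 F33309 D10452 (iv D10452)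
theorem F41199 : act 6 n10452 = n9937 := d18_2 (iv F39016) D10452 F39235
theorem F41200 : act 7 n10452 = n8768 := d19_2 (iv F33310) D10452 (iv D8768)
def n10453 : Q := act 8 n8763
theorem D10453 : act 8 n8763 = n10453 := rfl
theorem F41201 : act 0 n10453 = n10453 := d7_1 D10453 (iv D10453) F33307
theorem F41202 : act 1 n10453 = n8775 := d14_1 D10453 (iv D8775) (iv F33308)
theorem F41203 : act 3 n10453 = n8764 := d25_1 D10453 (iv D8764) D8763
theorem F41204 : act 4 n10453 = n10453 := d29_1 D10453 (iv D10453) F33309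
theorem F41205 : act 6 n10453 = n9938 := d34_1 D10453 (iv D9938) (iv F39016)
def n10454 : Q := act 1 n8768
theorem D10454 : act 1 n8768 = n10454 := rfl
theorem F41206 : act 2 n10454 = n8780 := d8_2 D8768 D10454 (iv D8780) (iv D6398) (iv F24597)
theorem F41207 : act 3 n10454 = n10352 := d9_2 F39019 D10454 F40879
theorem F41208 : act 4 n10454 = n10454 := d10_2 F33327 D10454 (iv D10454)
theorem F41209 : act 6 n10454 = n9904 := d12_2 (iv F39018) D10454 F39145
def n10455 : Q := act 1 n8774
theorem D10455 : act 1 n8774 = n10455 := rfl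
theorem F41210 : act 4 n10455 = n10455 := d10_2 F33345 D10455 (iv D10455)
theorem F41211 : act 6 n10455 = n9905 := d12_2 (iv F39015) D10455 F39148
theorem F41212 : act 7 n10455 = n8780 := d13_2 (iv F33346) D10455 (iv D8780)
def n10456 : Q := act 8 n8774
theorem D10456 : act 8 n8774 = n10456 := rfl
theorem F41213 : act 0 n10456 = n8798 := d7_1 D10456 (iv D8798) (iv F33344)
theorem F41214 : act 2 n10456 = n8775 := d20_1 D10456 (iv D8775) D8774
theorem F41215 : act 4 n10456 = n10456 := d29_1 D10456 (iv D10456) F33345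
theorem F41216 : act 6 n10456 = n9917 := d34_1 D10456 (iv D9917) (iv F39015)
def n10457 : Q := act 0 n8780
theorem D10457 : act 0 n8780 = n10457 := rfl
theorem F41217 : act 1 n10457 = n8806 := d0_2 D8780 D10457 (iv D8806) (iv D6417) (iv F24628)
theorem F41218 : act 3 n10457 = n8789 := d2_2 (iv F33364) D10457 (iv D8789)
theorem F41219 : act 4 n10457 = n10457 := d3_2 F33365 D10457 (iv D10457)
theorem F41220 : act 6 n10457 = n9874 := d5_2 (iv F39011) D10457 F39047
def n10458 : Q := act 0 n8797
theorem D10458 : act 0 n8797 = n10458 := rfl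
theorem F41221 : act 2 n10458 = n10458 := d1_2 F33411 D10458 (iv D10458)
theorem F41222 : act 4 n10458 = n10458 := d3_2 F33412 D10458 (iv D10458)
theorem F41223 : act 6 n10458 = n9881 := d5_2 (iv F38980) D10458 F39075
theorem F41224 : act 7 n10458 = n8806 := d6_2 (iv F33413) D10458 (iv D8806)
def n10459 : Q := act 8 n8797
theorem D10459 : act 8 n8797 = n10459 := rfl
theorem F41225 : act 1 n10459 = n8798 := d14_1 D10459 (iv D8798) D8797
theorem F41226 : act 2 n10459 = n10459 := d20_1 D10459 (iv D10459) F33411
theorem F41227 : act 4 n10459 = n10459 := d29_1 D10459 (iv D10459) F33412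
theorem F41228 : act 6 n10459 = n9892 := d34_1 D10459 (iv D9892) (iv F38980)
def n10460 : Q := act 1 n8836
theorem D10460 : act 1 n8836 = n10460 := rfl
theorem F41229 : act 2 n10460 = n8859 := d8_2 D8836 D10460 (iv D8859) (iv D6457) (iv F24751)
theorem F41230 : act 3 n10460 = n10363 := d9_2 F38597 D10460 F40903
theorem F41231 : act 5 n10460 = n10460 := d11_2 F33522 D10460 (iv D10460)
theorem F41232 : act 6 n10460 = n9908 := d12_2 (iv F38596) D10460 F39154
theorem F41233 : act 7 n10460 = n10460 := d13_2 F33523 D10460 (iv D10460)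
def n10461 : Q := act 4 n8836
theorem D10461 : act 4 n8836 = n10461 := rfl
theorem F41234 : act 0 n10461 = n10461 := d3_1 D10461 (iv D10461) F33521
theorem F41235 : act 2 n10461 = n8837 := d16_1 D10461 (iv D8837) D8836
theorem F41236 : act 6 n10461 = n9939 := d27_2 (iv F38596) D10461 (iv D9939)
theorem F41237 : act 7 n10461 = n10461 := d28_2 F33523 D10461 (iv D10461)
def n10462 : Q := act 8 n8836
theorem D10462 : act 8 n8836 = n10462 := rfl
theorem F41238 : act 0 n10462 = n10462 := d7_1 D10462 (iv D10462) F33521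
theorem F41239 : act 2 n10462 = n8838 := d20_1 D10462 (iv D8838) D8836
theorem F41240 : act 5 n10462 = n10462 := d32_1 D10462 (iv D10462) F33522
theorem F41241 : act 6 n10462 = n9940 := d34_1 D10462 (iv D9940) (iv F38596)
def n10463 : Q := act 5 n8837
theorem D10463 : act 5 n8837 = n10463 := rfl
theorem F41242 : act 0 n10463 = n10463 := d4_1 D10463 (iv D10463) F33524
theorem F41243 : act 1 n10463 = n8862 := d11_1 D10463 (iv D8862) (iv F33525)
theorem F41244 : act 3 n10463 = n8844 := d22_1 D10463 (iv D8844) (iv F33526)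
theorem F41245 : act 4 n10463 = n10463 := d26_1 D10463 (iv D10463) (iv D8837) F24752 D8837
theorem F41246 : act 7 n10463 = n10463 := d31_2 F33527 D10463 (iv D10463)
def n10464 : Q := act 8 n8837
theorem D10464 : act 8 n8837 = n10464 := rfl
theorem F41247 : act 0 n10464 = n10464 := d7_1 D10464 (iv D10464) F33524
theorem F41248 : act 1 n10464 = n8863 := d14_1 D10464 (iv D8863) (iv F33525)
theorem F41249 : act 3 n10464 = n8845 := d25_1 D10464 (iv D8845) (iv F33526)
theorem F41250 : act 4 n10464 = n8838 := d29_1 D10464 (iv D8838) D8837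
theorem F41251 : act 6 n10464 = n9942 := d34_1 D10464 (iv D9942) (iv F38593)
def n10465 : Q := act 7 n8838
theorem D10465 : act 7 n8838 = n10465 := rfl
theorem F41252 : act 0 n10465 = n10465 := d6_1 D10465 (iv D10465) F33528
theorem F41253 : act 1 n10465 = n8864 := d13_1 D10465 (iv D8864) (iv F33529)
theorem F41254 : act 3 n10465 = n10465 := d24_1 D10465 (iv D10465) F33530 F24758 (iv F33530)
theorem F41255 : act 5 n10465 = n10465 := d31_1 D10465 (iv D10465) F33531
theorem F41256 : act 6 n10465 = n9943 := d33_1 D10465 (iv D9943) (iv F38591)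
theorem F41257 : act 8 n10465 = n10465 := d35_2 D8838 D10465 (iv D10465) (iv D8838) F24753
def n10466 : Q := act 4 n8839
theorem D10466 : act 4 n8839 = n10466 := rfl
theorem F41258 : act 0 n10466 = n10466 := d3_1 D10466 (iv D10466) F33532
theorem F41259 : act 2 n10466 = n8840 := d16_1 D10466 (iv D8840) D8839
theorem F41260 : act 6 n10466 = n8842 := d27_2 (iv F33534) D10466 (iv D8842)
theorem F41261 : act 7 n10466 = n9436 := d28_2 (iv F33535) D10466 (iv D9436)
def n10467 : Q := act 8 n8839
theorem D10467 : act 8 n8839 = n10467 := rfl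
theorem F41262 : act 0 n10467 = n10467 := d7_1 D10467 (iv D10467) F33532
theorem F41263 : act 2 n10467 = n8841 := d20_1 D10467 (iv D8841) D8839
theorem F41264 : act 3 n10467 = n10462 := d25_1 D10467 (iv D10462) (iv F38597)
theorem F41265 : act 5 n10467 = n10467 := d32_1 D10467 (iv D10467) F33533
theorem F41266 : act 6 n10467 = n8843 := d34_1 D10467 (iv D8843) (iv F33534)
def n10468 : Q := act 5 n8840
theorem D10468 : act 5 n8840 = n10468 := rfl
theorem F41267 : act 0 n10468 = n10468 := d4_1 D10468 (iv D10468) F33536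
theorem F41268 : act 1 n10468 = n8865 := d11_1 D10468 (iv D8865) (iv F33537)
theorem F41269 : act 3 n10468 = n9941 := d22_1 D10468 (iv D9941) F38595
theorem F41270 : act 4 n10468 = n10468 := d26_1 D10468 (iv D10468) (iv D8840) F24761 D8840
theorem F41271 : act 7 n10468 = n9438 := d31_2 (iv F33539) D10468 (iv D9438)
def n10469 : Q := act 8 n8840
theorem D10469 : act 8 n8840 = n10469 := rfl
theorem F41272 : act 0 n10469 = n10469 := d7_1 D10469 (iv D10469) F33536
theorem F41273 : act 1 n10469 = n8866 := d14_1 D10469 (iv D8866) (iv F33537)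
theorem F41274 : act 3 n10469 = n9942 := d25_1 D10469 (iv D9942) F38595
theorem F41275 : act 4 n10469 = n8841 := d29_1 D10469 (iv D8841) D8840
theorem F41276 : act 6 n10469 = n8845 := d34_1 D10469 (iv D8845) (iv F33538)
def n10470 : Q := act 7 n8841
theorem D10470 : act 7 n8841 = n10470 := rfl
theorem F41277 : act 0 n10470 = n10470 := d6_1 D10470 (iv D10470) F33540
theorem F41278 : act 1 n10470 = n8867 := d13_1 D10470 (iv D8867) (iv F33541)
theorem F41279 : act 3 n10470 = n10470 := d24_1 D10470 (iv D10470) F33542 F24768 (iv F33542)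
theorem F41280 : act 5 n10470 = n10470 := d31_1 D10470 (iv D10470) F33543
theorem F41281 : act 6 n10470 = n8846 := d33_1 D10470 (iv D8846) (iv F33544)
theorem F41282 : act 8 n10470 = n9440 := d35_2 D8841 D10470 (iv D9440) (iv D6886) (iv F24763)
def n10471 : Q := act 3 n8842
theorem D10471 : act 3 n8842 = n10471 := rfl
theorem F41283 : act 0 n10471 = n10471 := d2_1 D10471 (iv D10471) F33545
def n10472 : Q := act 5 n8842
theorem D10472 : act 5 n8842 = n10472 := rfl
theorem F41284 : act 0 n10472 = n10472 := d4_1 D10472 (iv D10472) F33545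
theorem F41285 : act 2 n10472 = n8844 := d17_1 D10472 (iv D8844) (iv F33546)
theorem F41286 : act 4 n10472 = n8848 := d26_1 D10472 (iv D8848) (iv D6449) (iv F24770) D8842
theorem F41287 : act 7 n10472 = n9442 := d31_2 (iv F33547) D10472 (iv D9442)
def n10473 : Q := act 8 n8842
theorem D10473 : act 8 n8842 = n10473 := rfl
theorem F41288 : act 0 n10473 = n10473 := d7_1 D10473 (iv D10473) F33545
theorem F41289 : act 2 n10473 = n8845 := d20_1 D10473 (iv D8845) (iv F33546)
theorem F41290 : act 4 n10473 = n8843 := d29_1 D10473 (iv D8843) D8842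
def n10474 : Q := act 7 n8843
theorem D10474 : act 7 n8843 = n10474 := rfl
theorem F41291 : act 0 n10474 = n10474 := d6_1 D10474 (iv D10474) F33548
theorem F41292 : act 2 n10474 = n8846 := d19_1 D10474 (iv D8846) (iv F33549)
theorem F41293 : act 5 n10474 = n8850 := d31_1 D10474 (iv D8850) (iv F33550)
theorem F41294 : act 8 n10474 = n9444 := d35_2 D8843 D10474 (iv D9444) (iv D6888) (iv F24771)
def n10475 : Q := act 6 n8844
theorem D10475 : act 6 n8844 = n10475 := rfl
theorem F41295 : act 0 n10475 = n10475 := d5_1 D10475 (iv D10475) F33551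
theorem F41296 : act 1 n10475 = n8868 := d12_1 D10475 (iv D8868) (iv F33552)
theorem F41297 : act 4 n10475 = n8851 := d27_1 D10475 (iv D8851) (iv F33553)
theorem F41298 : act 7 n10475 = n9445 := d33_2 (iv F33554) D10475 (iv D9445)
def n10476 : Q := act 8 n8844
theorem D10476 : act 8 n8844 = n10476 := rfl
theorem F41299 : act 0 n10476 = n10476 := d7_1 D10476 (iv D10476) F33551
theorem F41300 : act 1 n10476 = n8869 := d14_1 D10476 (iv D8869) (iv F33552)
theorem F41301 : act 4 n10476 = n8852 := d29_1 D10476 (iv D8852) (iv F33553)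
theorem F41302 : act 5 n10476 = n8845 := d32_1 D10476 (iv D8845) D8844
def n10477 : Q := act 7 n8845
theorem D10477 : act 7 n8845 = n10477 := rfl
theorem F41303 : act 0 n10477 = n10477 := d6_1 D10477 (iv D10477) F33555
theorem F41304 : act 1 n10477 = n8870 := d13_1 D10477 (iv D8870) (iv F33556)
theorem F41305 : act 4 n10477 = n8846 := d28_1 D10477 (iv D8846) (iv F33557)
theorem F41306 : act 8 n10477 = n9447 := d35_2 D8845 D10477 (iv D9447) (iv D6890) (iv F24774)
def n10478 : Q := act 5 n8847
theorem D10478 : act 5 n8847 = n10478 := rfl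
theorem F41307 : act 0 n10478 = n10478 := d4_1 D10478 (iv D10478) F33563
theorem F41308 : act 2 n10478 = n10478 := d17_1 D10478 (iv D10478) F33564
theorem F41309 : act 3 n10478 = n8848 := d22_1 D10478 (iv D8848) D8847
def n10479 : Q := act 7 n8847
theorem D10479 : act 7 n8847 = n10479 := rfl
theorem F41310 : act 0 n10479 = n10479 := d6_1 D10479 (iv D10479) F33563
theorem F41311 : act 2 n10479 = n10479 := d19_1 D10479 (iv D10479) F33564
theorem F41312 : act 3 n10479 = n9449 := d24_1 D10479 (iv D9449) (iv D6892) (iv F24782) D8847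
theorem F41313 : act 6 n10479 = n10479 := d33_1 D10479 (iv D10479) F33565
def n10480 : Q := act 8 n8847
theorem D10480 : act 8 n8847 = n10480 := rfl
theorem F41314 : act 0 n10480 = n10480 := d7_1 D10480 (iv D10480) F33563
theorem F41315 : act 2 n10480 = n10480 := d20_1 D10480 (iv D10480) F33564
theorem F41316 : act 3 n10480 = n8849 := d25_1 D10480 (iv D8849) D8847
theorem F41317 : act 6 n10480 = n10480 := d34_1 D10480 (iv D10480) F33565
def n10481 : Q := act 6 n8848
theorem D10481 : act 6 n8848 = n10481 := rfl
theorem F41318 : act 0 n10481 = n10481 := d5_1 D10481 (iv D10481) F33566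
theorem F41319 : act 2 n10481 = n8851 := d18_1 D10481 (iv D8851) (iv F33567)
theorem F41320 : act 5 n10481 = n10481 := d30_1 D10481 (iv D10481) (iv D8848) F24781 D8848
theorem F41321 : act 7 n10481 = n9451 := d33_2 (iv F33568) D10481 (iv D9451)
def n10482 : Q := act 8 n8848
theorem D10482 : act 8 n8848 = n10482 := rfl
theorem F41322 : act 0 n10482 = n10482 := d7_1 D10482 (iv D10482) F33566
theorem F41323 : act 2 n10482 = n8852 := d20_1 D10482 (iv D8852) (iv F33567)
theorem F41324 : act 5 n10482 = n8849 := d32_1 D10482 (iv D8849) D8848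
def n10483 : Q := act 7 n8849
theorem D10483 : act 7 n8849 = n10483 := rfl
theorem F41325 : act 0 n10483 = n10483 := d6_1 D10483 (iv D10483) F33569
theorem F41326 : act 2 n10483 = n8853 := d19_1 D10483 (iv D8853) (iv F33570)
theorem F41327 : act 4 n10483 = n8850 := d28_1 D10483 (iv D8850) (iv F33571)
theorem F41328 : act 6 n10483 = n10483 := d33_1 D10483 (iv D10483) F33572
theorem F41329 : act 8 n10483 = n9453 := d35_2 D8849 D10483 (iv D9453) (iv D6894) (iv F24782)
def n10484 : Q := act 3 n8850
theorem D10484 : act 3 n8850 = n10484 := rfl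
theorem F41330 : act 0 n10484 = n10484 := d2_1 D10484 (iv D10484) F33573
theorem F41331 : act 2 n10484 = n10484 := d15_1 D10484 (iv D10484) F33574 F24797 (iv F33574)
theorem F41332 : act 6 n10484 = n10484 := d23_2 F33575 D10484 (iv D10484)
theorem F41333 : act 8 n10484 = n9454 := d25_2 (iv F33576) D10484 (iv D9454)
def n10485 : Q := act 8 n8851
theorem D10485 : act 8 n8851 = n10485 := rfl
theorem F41334 : act 0 n10485 = n10485 := d7_1 D10485 (iv D10485) F33577
theorem F41335 : act 1 n10485 = n8871 := d14_1 D10485 (iv D8871) (iv F33578)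
theorem F41336 : act 3 n10485 = n10485 := d25_1 D10485 (iv D10485) F33579
theorem F41337 : act 5 n10485 = n10485 := d32_1 D10485 (iv D10485) F33580
theorem F41338 : act 6 n10485 = n8852 := d34_1 D10485 (iv D8852) D8851
def n10486 : Q := act 7 n8852
theorem D10486 : act 7 n8852 = n10486 := rfl
theorem F41339 : act 0 n10486 = n10486 := d6_1 D10486 (iv D10486) F33582
theorem F41340 : act 1 n10486 = n8872 := d13_1 D10486 (iv D8872) (iv F33583)
theorem F41341 : act 5 n10486 = n8853 := d31_1 D10486 (iv D8853) (iv F33585)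
theorem F41342 : act 8 n10486 = n9456 := d35_2 D8852 D10486 (iv D9456) (iv D6897) (iv F24789)
def n10487 : Q := act 3 n8853
theorem D10487 : act 3 n8853 = n10487 := rfl
theorem F41343 : act 0 n10487 = n10487 := d2_1 D10487 (iv D10487) F33586
theorem F41344 : act 1 n10487 = n8873 := d9_1 D10487 (iv D8873) (iv F33587)
theorem F41345 : act 4 n10487 = n10487 := d21_2 (iv F33588) D10487 (iv D10487) F33588 F24797
theorem F41346 : act 6 n10487 = n10487 := d23_2 F33589 D10487 (iv D10487)
theorem F41347 : act 7 n10487 = n10487 := d24_2 D8853 D10487 (iv D10487) (iv D8853) F24792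
theorem F41348 : act 8 n10487 = n9457 := d25_2 (iv F33590) D10487 (iv D9457)
def n10488 : Q := act 0 n8859
theorem D10488 : act 0 n8859 = n10488 := rfl
theorem F41349 : act 1 n10488 = n8892 := d0_2 D8859 D10488 (iv D8892) (iv D6480) (iv F24813)
theorem F41350 : act 3 n10488 = n8880 := d2_2 (iv F33612) D10488 (iv D8880)
theorem F41351 : act 5 n10488 = n10488 := d4_2 F33613 D10488 (iv D10488)
theorem F41352 : act 6 n10488 = n9876 := d5_2 (iv F38998) D10488 F39054
theorem F41353 : act 7 n10488 = n10488 := d6_2 F33614 D10488 (iv D10488)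
def n10489 : Q := act 4 n8859
theorem D10489 : act 4 n8859 = n10489 := rfl
theorem F41354 : act 1 n10489 = n8860 := d10_1 D10489 (iv D8860) D8859
theorem F41355 : act 6 n10489 = n9909 := d27_2 (iv F38998) D10489 (iv D9909)
theorem F41356 : act 7 n10489 = n10489 := d28_2 F33614 D10489 (iv D10489)
def n10490 : Q := act 8 n8859
theorem D10490 : act 8 n8859 = n10490 := rfl
theorem F41357 : act 1 n10490 = n8861 := d14_1 D10490 (iv D8861) D8859
theorem F41358 : act 3 n10490 = n8881 := d25_1 D10490 (iv D8881) (iv F33612)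
theorem F41359 : act 5 n10490 = n10490 := d32_1 D10490 (iv D10490) F33613
theorem F41360 : act 6 n10490 = n9910 := d34_1 D10490 (iv D9910) (iv F38998)
def n10491 : Q := act 5 n8860
theorem D10491 : act 5 n8860 = n10491 := rfl
theorem F41361 : act 0 n10491 = n8895 := d4_1 D10491 (iv D8895) (iv F33615)
theorem F41362 : act 2 n10491 = n8862 := d17_1 D10491 (iv D8862) (iv F33616)
theorem F41363 : act 4 n10491 = n10491 := d26_1 D10491 (iv D10491) (iv D8860) F24815 D8860
theorem F41364 : act 7 n10491 = n10491 := d31_2 F33617 D10491 (iv D10491)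
def n10492 : Q := act 8 n8860
theorem D10492 : act 8 n8860 = n10492 := rfl
theorem F41365 : act 0 n10492 = n8896 := d7_1 D10492 (iv D8896) (iv F33615)
theorem F41366 : act 2 n10492 = n8863 := d20_1 D10492 (iv D8863) (iv F33616)
theorem F41367 : act 4 n10492 = n8861 := d29_1 D10492 (iv D8861) D8860
theorem F41368 : act 6 n10492 = n9921 := d34_1 D10492 (iv D9921) (iv F38594)
def n10493 : Q := act 7 n8861
theorem D10493 : act 7 n8861 = n10493 := rfl
theorem F41369 : act 0 n10493 = n8897 := d6_1 D10493 (iv D8897) (iv F33618)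
theorem F41370 : act 2 n10493 = n8864 := d19_1 D10493 (iv D8864) (iv F33619)
theorem F41371 : act 5 n10493 = n10493 := d31_1 D10493 (iv D10493) F33621
theorem F41372 : act 6 n10493 = n9922 := d33_1 D10493 (iv D9922) (iv F38592)
theorem F41373 : act 8 n10493 = n10493 := d35_2 D8861 D10493 (iv D10493) (iv D8861) F24816
def n10494 : Q := act 6 n8862
theorem D10494 : act 6 n8862 = n10494 := rfl
theorem F41374 : act 0 n10494 = n8898 := d5_1 D10494 (iv D8898) (iv F33622)
theorem F41375 : act 3 n10494 = n8868 := d23_1 D10494 (iv D8868) (iv F33623)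
theorem F41376 : act 4 n10494 = n10494 := d27_1 D10494 (iv D10494) F33624
theorem F41377 : act 5 n10494 = n9951 := d30_1 D10494 (iv D9951) (iv D7940) F38559 D8862
theorem F41378 : act 7 n10494 = n10494 := d33_2 F33625 D10494 (iv D10494)
def n10495 : Q := act 8 n8862
theorem D10495 : act 8 n8862 = n10495 := rfl
theorem F41379 : act 0 n10495 = n8899 := d7_1 D10495 (iv D8899) (iv F33622)
theorem F41380 : act 3 n10495 = n8869 := d25_1 D10495 (iv D8869) (iv F33623)
theorem F41381 : act 4 n10495 = n10495 := d29_1 D10495 (iv D10495) F33624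
theorem F41382 : act 5 n10495 = n8863 := d32_1 D10495 (iv D8863) D8862
def n10496 : Q := act 7 n8863
theorem D10496 : act 7 n8863 = n10496 := rfl
theorem F41383 : act 0 n10496 = n8900 := d6_1 D10496 (iv D8900) (iv F33626)
theorem F41384 : act 4 n10496 = n8864 := d28_1 D10496 (iv D8864) (iv F33628)
theorem F41385 : act 6 n10496 = n9953 := d33_1 D10496 (iv D9953) (iv F38582)
theorem F41386 : act 8 n10496 = n10496 := d35_2 D8863 D10496 (iv D10496) (iv D8863) F24819
def n10497 : Q := act 6 n8865
theorem D10497 : act 6 n8865 = n10497 := rfl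
theorem F41387 : act 0 n10497 = n8901 := d5_1 D10497 (iv D8901) (iv F33633)
theorem F41388 : act 3 n10497 = n9951 := d23_1 D10497 (iv D9951) (iv F38586)
theorem F41389 : act 4 n10497 = n10497 := d27_1 D10497 (iv D10497) F33634
theorem F41390 : act 5 n10497 = n8868 := d30_1 D10497 (iv D8868) (iv D6462) (iv F24824) D8865
theorem F41391 : act 7 n10497 = n9458 := d33_2 (iv F33635) D10497 (iv D9458)
def n10498 : Q := act 8 n8865
theorem D10498 : act 8 n8865 = n10498 := rfl
theorem F41392 : act 0 n10498 = n8902 := d7_1 D10498 (iv D8902) (iv F33633)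
theorem F41393 : act 3 n10498 = n9952 := d25_1 D10498 (iv D9952) (iv F38586)
theorem F41394 : act 4 n10498 = n10498 := d29_1 D10498 (iv D10498) F33634
theorem F41395 : act 5 n10498 = n8866 := d32_1 D10498 (iv D8866) D8865
def n10499 : Q := act 7 n8866
theorem D10499 : act 7 n8866 = n10499 := rfl
theorem F41396 : act 0 n10499 = n8903 := d6_1 D10499 (iv D8903) (iv F33636)
theorem F41397 : act 4 n10499 = n8867 := d28_1 D10499 (iv D8867) (iv F33637)
theorem F41398 : act 6 n10499 = n8870 := d33_1 D10499 (iv D8870) (iv F33638)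
theorem F41399 : act 8 n10499 = n9460 := d35_2 D8866 D10499 (iv D9460) (iv D6900) (iv F24825)
def n10500 : Q := act 8 n8868
theorem D10500 : act 8 n8868 = n10500 := rfl
theorem F41400 : act 0 n10500 = n8904 := d7_1 D10500 (iv D8904) (iv F33644)
theorem F41401 : act 4 n10500 = n8871 := d29_1 D10500 (iv D8871) (iv F33645)
theorem F41402 : act 6 n10500 = n8869 := d34_1 D10500 (iv D8869) D8868
def n10501 : Q := act 7 n8869
theorem D10501 : act 7 n8869 = n10501 := rfl
theorem F41403 : act 0 n10501 = n8905 := d6_1 D10501 (iv D8905) (iv F33647)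
theorem F41404 : act 4 n10501 = n8872 := d28_1 D10501 (iv D8872) (iv F33648)
theorem F41405 : act 5 n10501 = n8870 := d31_1 D10501 (iv D8870) (iv F33649)
theorem F41406 : act 8 n10501 = n9462 := d35_2 D8869 D10501 (iv D9462) (iv D6903) (iv F24832)
def n10502 : Q := act 3 n8870
theorem D10502 : act 3 n8870 = n10502 := rfl
theorem F41407 : act 0 n10502 = n8906 := d2_1 D10502 (iv D8906) (iv F33650)
theorem F41408 : act 4 n10502 = n10502 := d21_2 (iv F33651) D10502 (iv D10502) F33651 F24836
theorem F41409 : act 8 n10502 = n9463 := d25_2 (iv F33652) D10502 (iv D9463)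
def n10503 : Q := act 7 n8871
theorem D10503 : act 7 n8871 = n10503 := rfl
theorem F41410 : act 0 n10503 = n8907 := d6_1 D10503 (iv D8907) (iv F33653)
theorem F41411 : act 5 n10503 = n10503 := d31_1 D10503 (iv D10503) F33655
theorem F41412 : act 6 n10503 = n8872 := d33_1 D10503 (iv D8872) (iv F33656)
theorem F41413 : act 8 n10503 = n9464 := d35_2 D8871 D10503 (iv D9464) (iv D6905) (iv F24842)
def n10504 : Q := act 3 n8872
theorem D10504 : act 3 n8872 = n10504 := rfl
theorem F41414 : act 0 n10504 = n8908 := d2_1 D10504 (iv D8908) (iv F33657)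
theorem F41415 : act 5 n10504 = n8873 := d22_2 (iv F33658) D10504 (iv D8873)
theorem F41416 : act 7 n10504 = n10504 := d24_2 D8872 D10504 (iv D10504) (iv D8872) F24844
theorem F41417 : act 8 n10504 = n9465 := d25_2 (iv F33659) D10504 (iv D9465)
def n10505 : Q := act 2 n8873
theorem D10505 : act 2 n8873 = n10505 := rfl
theorem F41418 : act 0 n10505 = n8909 := d1_1 D10505 (iv D8909) (iv F33660)
theorem F41419 : act 4 n10505 = n10505 := d16_2 F33661 D10505 (iv D10505)
theorem F41420 : act 6 n10505 = n10505 := d18_2 F33662 D10505 (iv D10505)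
theorem F41421 : act 7 n10505 = n10505 := d19_2 F33663 D10505 (iv D10505)
theorem F41422 : act 8 n10505 = n9466 := d20_2 (iv F33664) D10505 (iv D9466)
def n10506 : Q := act 8 n8880
theorem D10506 : act 8 n8880 = n10506 := rfl
theorem F41423 : act 0 n10506 = n8881 := d7_1 D10506 (iv D8881) D8880
theorem F41424 : act 1 n10506 = n8918 := d14_1 D10506 (iv D8918) (iv F33686)
theorem F41425 : act 2 n10506 = n10243 := d20_1 D10506 (iv D10243) F38598
theorem F41426 : act 5 n10506 = n10506 := d32_1 D10506 (iv D10506) F33687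
theorem F41427 : act 6 n10506 = n9877 := d34_1 D10506 (iv D9877) (iv F38599)
def n10507 : Q := act 4 n8892
theorem D10507 : act 4 n8892 = n10507 := rfl
theorem F41428 : act 0 n10507 = n8893 := d3_1 D10507 (iv D8893) D8892
theorem F41429 : act 2 n10507 = n10507 := d16_1 D10507 (iv D10507) F33728
theorem F41430 : act 6 n10507 = n9884 := d27_2 (iv F38603) D10507 (iv D9884)
theorem F41431 : act 7 n10507 = n10507 := d28_2 F33731 D10507 (iv D10507)
def n10508 : Q := act 8 n8892
theorem D10508 : act 8 n8892 = n10508 := rfl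
theorem F41432 : act 0 n10508 = n8894 := d7_1 D10508 (iv D8894) D8892
theorem F41433 : act 2 n10508 = n10508 := d20_1 D10508 (iv D10508) F33728
theorem F41434 : act 3 n10508 = n8918 := d25_1 D10508 (iv D8918) (iv F33729)
theorem F41435 : act 5 n10508 = n10508 := d32_1 D10508 (iv D10508) F33730
theorem F41436 : act 6 n10508 = n9885 := d34_1 D10508 (iv D9885) (iv F38603)
def n10509 : Q := act 5 n8893
theorem D10509 : act 5 n8893 = n10509 := rfl
theorem F41437 : act 1 n10509 = n8895 := d11_1 D10509 (iv D8895) (iv F33732)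
theorem F41438 : act 2 n10509 = n10509 := d17_1 D10509 (iv D10509) F33733
theorem F41439 : act 4 n10509 = n10509 := d26_1 D10509 (iv D10509) (iv D8893) F24896 D8893
theorem F41440 : act 7 n10509 = n10509 := d31_2 F33734 D10509 (iv D10509)
def n10510 : Q := act 8 n8893
theorem D10510 : act 8 n8893 = n10510 := rfl
theorem F41441 : act 1 n10510 = n8896 := d14_1 D10510 (iv D8896) (iv F33732)
theorem F41442 : act 2 n10510 = n10510 := d20_1 D10510 (iv D10510) F33733
theorem F41443 : act 4 n10510 = n8894 := d29_1 D10510 (iv D8894) D8893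
theorem F41444 : act 6 n10510 = n9897 := d34_1 D10510 (iv D9897) (iv F38601)
def n10511 : Q := act 7 n8894
theorem D10511 : act 7 n8894 = n10511 := rfl
theorem F41445 : act 1 n10511 = n8897 := d13_1 D10511 (iv D8897) (iv F33735)
theorem F41446 : act 2 n10511 = n10511 := d19_1 D10511 (iv D10511) F33736
theorem F41447 : act 5 n10511 = n10511 := d31_1 D10511 (iv D10511) F33738
theorem F41448 : act 6 n10511 = n9898 := d33_1 D10511 (iv D9898) (iv F38600)
theorem F41449 : act 8 n10511 = n10511 := d35_2 D8894 D10511 (iv D10511) (iv D8894) F24897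
def n10512 : Q := act 6 n8895
theorem D10512 : act 6 n8895 = n10512 := rfl
theorem F41450 : act 2 n10512 = n8898 := d18_1 D10512 (iv D8898) (iv F33739)
theorem F41451 : act 4 n10512 = n10512 := d27_1 D10512 (iv D10512) F33740
theorem F41452 : act 5 n10512 = n9931 := d30_1 D10512 (iv D9931) (iv D7805) F38551 D8895
theorem F41453 : act 7 n10512 = n10512 := d33_2 F33741 D10512 (iv D10512)
def n10513 : Q := act 8 n8895
theorem D10513 : act 8 n8895 = n10513 := rfl
theorem F41454 : act 2 n10513 = n8899 := d20_1 D10513 (iv D8899) (iv F33739)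
theorem F41455 : act 4 n10513 = n10513 := d29_1 D10513 (iv D10513) F33740
theorem F41456 : act 5 n10513 = n8896 := d32_1 D10513 (iv D8896) D8895
def n10514 : Q := act 7 n8896
theorem D10514 : act 7 n8896 = n10514 := rfl
theorem F41457 : act 2 n10514 = n8900 := d19_1 D10514 (iv D8900) (iv F33742)
theorem F41458 : act 4 n10514 = n8897 := d28_1 D10514 (iv D8897) (iv F33743)
theorem F41459 : act 6 n10514 = n9933 := d33_1 D10514 (iv D9933) (iv F38583)
theorem F41460 : act 8 n10514 = n10514 := d35_2 D8896 D10514 (iv D10514) (iv D8896) F24899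
def n10515 : Q := act 8 n8898
theorem D10515 : act 8 n8898 = n10515 := rfl
theorem F41461 : act 1 n10515 = n10515 := d14_1 D10515 (iv D10515) F33747
theorem F41462 : act 3 n10515 = n8904 := d25_1 D10515 (iv D8904) (iv F33748)
theorem F41463 : act 4 n10515 = n10515 := d29_1 D10515 (iv D10515) F33749
theorem F41464 : act 5 n10515 = n9957 := d32_1 D10515 (iv D9957) F38588
theorem F41465 : act 6 n10515 = n8899 := d34_1 D10515 (iv D8899) D8898
def n10516 : Q := act 7 n8899
theorem D10516 : act 7 n8899 = n10516 := rfl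
theorem F41466 : act 1 n10516 = n10516 := d13_1 D10516 (iv D10516) F33751
theorem F41467 : act 4 n10516 = n10516 := d28_1 D10516 (iv D10516) F33753
theorem F41468 : act 5 n10516 = n8900 := d31_1 D10516 (iv D8900) (iv F33754)
theorem F41469 : act 8 n10516 = n10516 := d35_2 D8899 D10516 (iv D10516) (iv D8899) F24906
def n10517 : Q := act 3 n8900
theorem D10517 : act 3 n8900 = n10517 := rfl
theorem F41470 : act 1 n10517 = n10517 := d9_1 D10517 (iv D10517) F33755
theorem F41471 : act 4 n10517 = n10517 := d21_2 (iv F33756) D10517 (iv D10517) F33756 F24911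
theorem F41472 : act 6 n10517 = n9959 := d23_2 (iv F38581) D10517 (iv D9959)
theorem F41473 : act 7 n10517 = n8906 := d24_2 D8900 D10517 (iv D8906) (iv D6491) (iv F24908)
theorem F41474 : act 8 n10517 = n10517 := d25_2 F33757 D10517 (iv D10517)
def n10518 : Q := act 8 n8901
theorem D10518 : act 8 n8901 = n10518 := rfl
theorem F41475 : act 1 n10518 = n10518 := d14_1 D10518 (iv D10518) F33758
theorem F41476 : act 3 n10518 = n9957 := d25_1 D10518 (iv D9957) (iv F38587)
theorem F41477 : act 4 n10518 = n10518 := d29_1 D10518 (iv D10518) F33759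
theorem F41478 : act 5 n10518 = n8904 := d32_1 D10518 (iv D8904) (iv F33760)
theorem F41479 : act 6 n10518 = n8902 := d34_1 D10518 (iv D8902) D8901
def n10519 : Q := act 7 n8902
theorem D10519 : act 7 n8902 = n10519 := rfl
theorem F41480 : act 1 n10519 = n10519 := d13_1 D10519 (iv D10519) F33762
theorem F41481 : act 4 n10519 = n10519 := d28_1 D10519 (iv D10519) F33763
theorem F41482 : act 5 n10519 = n8903 := d31_1 D10519 (iv D8903) (iv F33764)
theorem F41483 : act 8 n10519 = n9468 := d35_2 D8902 D10519 (iv D9468) (iv D6909) (iv F24916)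
def n10520 : Q := act 3 n8903
theorem D10520 : act 3 n8903 = n10520 := rfl
theorem F41484 : act 1 n10520 = n10520 := d9_1 D10520 (iv D10520) F33765
theorem F41485 : act 4 n10520 = n10520 := d21_2 (iv F33766) D10520 (iv D10520) F33766 F24921
theorem F41486 : act 6 n10520 = n8906 := d23_2 (iv F33767) D10520 (iv D8906)
theorem F41487 : act 7 n10520 = n9959 := d24_2 D8903 D10520 (iv D9959) (iv D7976) F38572
theorem F41488 : act 8 n10520 = n9469 := d25_2 (iv F33768) D10520 (iv D9469)
def n10521 : Q := act 7 n8904
theorem D10521 : act 7 n8904 = n10521 := rfl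
theorem F41489 : act 1 n10521 = n10521 := d13_1 D10521 (iv D10521) F33769
theorem F41490 : act 4 n10521 = n8907 := d28_1 D10521 (iv D8907) (iv F33770)
theorem F41491 : act 6 n10521 = n8905 := d33_1 D10521 (iv D8905) (iv F33771)
theorem F41492 : act 8 n10521 = n9470 := d35_2 D8904 D10521 (iv D9470) (iv D6911) (iv F24927)
def n10522 : Q := act 3 n8905
theorem D10522 : act 3 n8905 = n10522 := rfl
theorem F41493 : act 1 n10522 = n10522 := d9_1 D10522 (iv D10522) F33772
theorem F41494 : act 5 n10522 = n8906 := d22_2 (iv F33774) D10522 (iv D8906)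
theorem F41495 : act 8 n10522 = n9471 := d25_2 (iv F33775) D10522 (iv D9471)
def n10523 : Q := act 2 n8906
theorem D10523 : act 2 n8906 = n10523 := rfl
theorem F41496 : act 4 n10523 = n10523 := d16_2 F33777 D10523 (iv D10523)
theorem F41497 : act 8 n10523 = n9472 := d20_2 (iv F33778) D10523 (iv D9472)
def n10524 : Q := act 2 n9029
theorem D10524 : act 2 n9029 = n10524 := rfl
theorem F41498 : act 0 n10524 = n10524 := d1_1 D10524 (iv D10524) F34230
theorem F41499 : act 1 n10524 = n9075 := d8_1 D10524 (iv D9075) F25403 (iv F25298) (iv F34231)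
theorem F41500 : act 3 n10524 = n10524 := d15_2 D9029 D10524 (iv D10524) (iv D9029) F25285
theorem F41501 : act 5 n10524 = n9362 := d17_2 (iv F38613) D10524 F35395
theorem F41502 : act 6 n10524 = n10524 := d18_2 F34232 D10524 (iv D10524)
theorem F41503 : act 8 n10524 = n9425 := d20_2 (iv F38614) D10524 F35644
def n10525 : Q := act 4 n9029
theorem D10525 : act 4 n9029 = n10525 := rfl
theorem F41504 : act 0 n10525 = n10525 := d3_1 D10525 (iv D10525) F34230
theorem F41505 : act 1 n10525 = n9037 := d10_1 D10525 (iv D9037) (iv F34231)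
theorem F41506 : act 3 n10525 = n9872 := d21_1 D10525 (iv D9872) F28656 F38648 D9029
theorem F41507 : act 6 n10525 = n10525 := d27_2 F34232 D10525 (iv D10525)
theorem F41508 : act 8 n10525 = n9429 := d29_2 (iv F38614) D10525 (iv D9429)
def n10526 : Q := act 2 n9069
theorem D10526 : act 2 n9069 = n10526 := rfl
theorem F41509 : act 0 n10526 = n9206 := d1_1 D10526 (iv D9206) (iv F34377)
theorem F41510 : act 1 n10526 = n10526 := d8_1 D10526 (iv D10526) F34378 F25412 (iv F34378)
theorem F41511 : act 3 n10526 = n10526 := d15_2 D9069 D10526 (iv D10526) (iv D9069) F25390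
theorem F41512 : act 5 n10526 = n10526 := d17_2 F34379 D10526 (iv D10526)
theorem F41513 : act 6 n10526 = n9215 := d18_2 (iv F38779) D10526 (iv D9215)
theorem F41514 : act 8 n10526 = n9130 := d20_2 (iv F34380) D10526 (iv D9130)
def n10527 : Q := act 2 n9073
theorem D10527 : act 2 n9073 = n10527 := rfl
theorem F41515 : act 0 n10527 = n9215 := d1_1 D10527 (iv D9215) (iv F34396)
theorem F41516 : act 1 n10527 = n9362 := d8_1 D10527 F35395 F26146 (iv F38631) (iv F34397)
theorem F41517 : act 3 n10527 = n10527 := d15_2 D9073 D10527 (iv D10527) (iv D9073) F25400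
theorem F41518 : act 5 n10527 = n9075 := d17_2 (iv F34398) D10527 (iv D9075)
theorem F41519 : act 6 n10527 = n9206 := d18_2 (iv F38651) D10527 (iv D9206)
theorem F41520 : act 8 n10527 = n9288 := d20_2 (iv F38652) D10527 F35163
def n10528 : Q := act 4 n9075
theorem D10528 : act 4 n9075 = n10528 := rfl
theorem F41521 : act 0 n10528 = n9218 := d3_1 D10528 (iv D9218) (iv F34404)
theorem F41522 : act 2 n10528 = n9076 := d16_1 D10528 (iv D9076) D9075
theorem F41523 : act 6 n10528 = n10528 := d27_2 F34406 D10528 (iv D10528)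
def n10529 : Q := act 8 n9075
theorem D10529 : act 8 n9075 = n10529 := rfl
theorem F41524 : act 0 n10529 = n9219 := d7_1 D10529 (iv D9219) (iv F34404)
theorem F41525 : act 1 n10529 = n9425 := d14_1 D10529 (iv F41503) F41499
theorem F41526 : act 2 n10529 = n9077 := d20_1 D10529 (iv D9077) D9075
theorem F41527 : act 3 n10529 = n10529 := d25_1 D10529 (iv D10529) F34405
theorem F41528 : act 5 n10529 = n9288 := d32_1 D10529 (iv F41520) F41518
theorem F41529 : act 6 n10529 = n10529 := d34_1 D10529 (iv D10529) F34406
def n10530 : Q := act 5 n9076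
theorem D10530 : act 5 n9076 = n10530 := rfl
theorem F41530 : act 0 n10530 = n9220 := d4_1 D10530 (iv D9220) (iv F34407)
theorem F41531 : act 1 n10530 = n9088 := d11_1 D10530 (iv D9088) (iv F34408)
theorem F41532 : act 3 n10530 = n10530 := d22_1 D10530 (iv D10530) F34409
def n10531 : Q := act 8 n9076
theorem D10531 : act 8 n9076 = n10531 := rfl
theorem F41533 : act 0 n10531 = n9221 := d7_1 D10531 (iv D9221) (iv F34407)
theorem F41534 : act 1 n10531 = n9089 := d14_1 D10531 (iv D9089) (iv F34408)
theorem F41535 : act 3 n10531 = n10531 := d25_1 D10531 (iv D10531) F34409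
theorem F41536 : act 4 n10531 = n9077 := d29_1 D10531 (iv D9077) D9076
theorem F41537 : act 6 n10531 = n10531 := d34_1 D10531 (iv D10531) F34410
def n10532 : Q := act 7 n9077
theorem D10532 : act 7 n9077 = n10532 := rfl
theorem F41538 : act 0 n10532 = n9222 := d6_1 D10532 (iv D9222) (iv F34411)
theorem F41539 : act 1 n10532 = n9090 := d13_1 D10532 (iv D9090) (iv F34412)
theorem F41540 : act 3 n10532 = n9146 := d24_1 D10532 (iv D9146) F25585 (iv F25410) (iv F34413)
theorem F41541 : act 5 n10532 = n9291 := d31_1 D10532 (iv D9291) (iv F38659)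
theorem F41542 : act 6 n10532 = n10532 := d33_1 D10532 (iv D10532) F34414
def n10533 : Q := act 7 n9089
theorem D10533 : act 7 n9089 = n10533 := rfl
theorem F41543 : act 0 n10533 = n9113 := d6_1 D10533 (iv D9113) (iv F34452)
theorem F41544 : act 2 n10533 = n9432 := d19_1 D10533 (iv D9432) (iv F38620)
theorem F41545 : act 4 n10533 = n9090 := d28_1 D10533 (iv D9090) (iv F34454)
theorem F41546 : act 6 n10533 = n10533 := d33_1 D10533 (iv D10533) F34455
def n10534 : Q := act 3 n9113
theorem D10534 : act 3 n9113 = n10534 := rfl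
theorem F41547 : act 1 n10534 = n9273 := d9_1 D10534 (iv D9273) (iv F34533)
theorem F41548 : act 4 n10534 = n9197 := d21_2 (iv F34534) D10534 (iv D9197) F25714 (iv F25505)
theorem F41549 : act 6 n10534 = n10534 := d23_2 F34535 D10534 (iv D10534)
theorem F41550 : act 7 n10534 = n10534 := d24_2 D9113 D10534 (iv D10534) (iv D9113) F25501
def n10535 : Q := act 6 n9130
theorem D10535 : act 6 n9130 = n10535 := rfl
theorem F41551 : act 0 n10535 = n9288 := d5_1 D10535 (iv D9288) (iv F34595)
theorem F41552 : act 1 n10535 = n10535 := d12_1 D10535 (iv D10535) F34596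
theorem F41553 : act 2 n10535 = n9131 := d18_1 D10535 (iv D9131) D9130
theorem F41554 : act 3 n10535 = n10535 := d23_1 D10535 (iv D10535) F34597
theorem F41555 : act 8 n10535 = n9215 := d34_2 F41514 D10535 (iv F41513)
theorem F41556 : act 5 n9219 = n10535 := d32_3 F41555 F34915 D9219
def n10536 : Q := act 7 n9130
theorem D10536 : act 7 n9130 = n10536 := rfl
theorem F41557 : act 0 n10536 = n9289 := d6_1 D10536 (iv D9289) (iv F34595)
theorem F41558 : act 1 n10536 = n10536 := d13_1 D10536 (iv D10536) F34596
theorem F41559 : act 2 n10536 = n9132 := d19_1 D10536 (iv D9132) D9130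
theorem F41560 : act 5 n10536 = n10536 := d31_1 D10536 (iv D10536) F34598
def n10537 : Q := act 7 n9131
theorem D10537 : act 7 n9131 = n10537 := rfl
theorem F41561 : act 0 n10537 = n9291 := d6_1 D10537 (iv D9291) (iv F34599)
theorem F41562 : act 1 n10537 = n9148 := d13_1 D10537 (iv D9148) (iv F34600)
theorem F41563 : act 3 n10537 = n9307 := d24_1 D10537 (iv D9307) F25996 F38865 (iv F34601)
theorem F41564 : act 5 n10537 = n9222 := d31_1 D10537 (iv D9222) (iv F38782)
theorem F41565 : act 6 n10537 = n9132 := d33_1 D10537 (iv D9132) D9131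
def n10538 : Q := act 3 n9132
theorem D10538 : act 3 n9132 = n10538 := rfl
theorem F41566 : act 0 n10538 = n9292 := d2_1 D10538 (iv D9292) (iv F34602)
theorem F41567 : act 1 n10538 = n9149 := d9_1 D10538 (iv D9149) (iv F34603)
theorem F41568 : act 5 n10538 = n10538 := d22_2 F34604 D10538 (iv D10538)
theorem F41569 : act 6 n10538 = n9307 := d23_2 F41565 D10538 (iv F41563)
theorem F41570 : act 7 n10538 = n9135 := d24_2 D9132 D10538 (iv D9135) (iv D6660) D6658
def n10539 : Q := act 8 n9132
theorem D10539 : act 8 n9132 = n10539 := rfl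
theorem F41571 : act 0 n10539 = n9293 := d7_1 D10539 (iv D9293) (iv F34602)
theorem F41572 : act 1 n10539 = n9150 := d14_1 D10539 (iv D9150) (iv F34603)
theorem F41573 : act 5 n10539 = n10539 := d32_1 D10539 (iv D10539) F34604
def n10540 : Q := act 2 n9135
theorem D10540 : act 2 n9135 = n10540 := rfl
theorem F41574 : act 0 n10540 = n9297 := d1_1 D10540 (iv D9297) (iv F34615)
theorem F41575 : act 1 n10540 = n9437 := d8_1 D10540 F35688 F26369 F38930 (iv F34616)
theorem F41576 : act 3 n10540 = n10540 := d15_2 D9135 D10540 (iv D10540) (iv D9135) F25560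
theorem F41577 : act 5 n10540 = n10540 := d17_2 F34617 D10540 (iv D10540)
theorem F41578 : act 6 n10540 = n9304 := d18_2 (iv F38927) D10540 F35210
theorem F41579 : act 8 n10540 = n9300 := d20_2 (iv F38928) D10540 (iv D9300)
def n10541 : Q := act 4 n9135
theorem D10541 : act 4 n9135 = n10541 := rfl
theorem F41580 : act 0 n10541 = n9298 := d3_1 D10541 (iv D9298) (iv F34615)
theorem F41581 : act 1 n10541 = n9155 := d10_1 D10541 (iv D9155) (iv F34616)
theorem F41582 : act 3 n10541 = n9140 := d21_1 D10541 (iv D9140) (iv D6662) (iv F25561) D9135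
theorem F41583 : act 6 n10541 = n9306 := d27_2 (iv F38927) D10541 F35216
theorem F41584 : act 8 n10541 = n9301 := d29_2 (iv F38928) D10541 (iv D9301)
def n10542 : Q := act 2 n9137
theorem D10542 : act 2 n9137 = n10542 := rfl
theorem F41585 : act 0 n10542 = n9300 := d1_1 D10542 (iv D9300) (iv F34623)
theorem F41586 : act 1 n10542 = n10542 := d8_1 D10542 (iv D10542) F34624 F25608 (iv F34624)
theorem F41587 : act 3 n10542 = n10542 := d15_2 D9137 D10542 (iv D10542) (iv D9137) F25565
theorem F41588 : act 5 n10542 = n10542 := d17_2 F34625 D10542 (iv D10542)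
theorem F41589 : act 6 n10542 = n9139 := d18_2 (iv F34626) D10542 (iv D9139)
theorem F41590 : act 8 n10542 = n9297 := d20_2 (iv F38926) D10542 (iv D9297)
def n10543 : Q := act 4 n9137
theorem D10543 : act 4 n9137 = n10543 := rfl
theorem F41591 : act 0 n10543 = n9301 := d3_1 D10543 (iv D9301) (iv F34623)
theorem F41592 : act 1 n10543 = n9157 := d10_1 D10543 (iv D9157) (iv F34624)
theorem F41593 : act 3 n10543 = n9306 := d21_1 D10543 F35216 F25996 (iv F38904) D9137
theorem F41594 : act 6 n10543 = n9140 := d27_2 (iv F34626) D10543 (iv D9140)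
theorem F41595 : act 8 n10543 = n9298 := d29_2 (iv F38926) D10543 (iv D9298)
def n10544 : Q := act 4 n9139
theorem D10544 : act 4 n9139 = n10544 := rfl
theorem F41596 : act 0 n10544 = n9303 := d3_1 D10544 (iv D9303) (iv F34632)
theorem F41597 : act 1 n10544 = n10544 := d10_1 D10544 (iv D10544) F34633
theorem F41598 : act 2 n10544 = n9140 := d16_1 D10544 (iv D9140) D9139
def n10545 : Q := act 8 n9139
theorem D10545 : act 8 n9139 = n10545 := rfl
theorem F41599 : act 0 n10545 = n9304 := d7_1 D10545 (iv D9304) (iv F34632)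
theorem F41600 : act 1 n10545 = n10545 := d14_1 D10545 (iv D10545) F34633
theorem F41601 : act 2 n10545 = n9141 := d20_1 D10545 (iv D9141) D9139
theorem F41602 : act 3 n10545 = n10545 := d25_1 D10545 (iv D10545) F34634
theorem F41603 : act 5 n10545 = n9143 := d32_1 D10545 (iv D9143) (iv F34635)
theorem F41604 : act 6 n10545 = n9297 := d34_1 D10545 (iv F41590) F41589
def n10546 : Q := act 5 n9140
theorem D10546 : act 5 n9140 = n10546 := rfl
theorem F41605 : act 0 n10546 = n9305 := d4_1 D10546 (iv D9305) (iv F34636)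
theorem F41606 : act 1 n10546 = n9159 := d11_1 D10546 (iv D9159) (iv F34637)
theorem F41607 : act 4 n10546 = n9144 := d26_1 D10546 (iv D9144) (iv D6665) (iv F25570) D9140
def n10547 : Q := act 8 n9140
theorem D10547 : act 8 n9140 = n10547 := rfl
theorem F41608 : act 0 n10547 = n9306 := d7_1 D10547 (iv D9306) (iv F34636)
theorem F41609 : act 1 n10547 = n9160 := d14_1 D10547 (iv D9160) (iv F34637)
theorem F41610 : act 3 n10547 = n9301 := d25_1 D10547 (iv F41584) F41582
theorem F41611 : act 4 n10547 = n9141 := d29_1 D10547 (iv D9141) D9140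
theorem F41612 : act 6 n10547 = n9298 := d34_1 D10547 (iv F41595) F41594
def n10548 : Q := act 7 n9141
theorem D10548 : act 7 n9141 = n10548 := rfl
theorem F41613 : act 0 n10548 = n9307 := d6_1 D10548 (iv D9307) (iv F34638)
theorem F41614 : act 1 n10548 = n9161 := d13_1 D10548 (iv D9161) (iv F34639)
theorem F41615 : act 3 n10548 = n9291 := d24_1 D10548 (iv D9291) F25967 (iv F38831) (iv F34640)
theorem F41616 : act 5 n10548 = n9146 := d31_1 D10548 (iv D9146) (iv F34641)
theorem F41617 : act 6 n10548 = n9292 := d33_1 D10548 F35175 (iv F38866)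
def n10549 : Q := act 3 n9142
theorem D10549 : act 3 n9142 = n10549 := rfl
theorem F41618 : act 0 n10549 = n9308 := d2_1 D10549 (iv D9308) (iv F34642)
theorem F41619 : act 1 n10549 = n10549 := d9_1 D10549 (iv D10549) F34643
theorem F41620 : act 2 n10549 = n10549 := d15_1 D10549 (iv D10549) F34644 F25581 (iv F34644)
theorem F41621 : act 4 n10549 = n10549 := d21_2 D9142 D10549 (iv D10549) (iv D9142) F25577
theorem F41622 : act 6 n10549 = n10549 := d23_2 F34645 D10549 (iv D10549)
def n10550 : Q := act 5 n9142
theorem D10550 : act 5 n9142 = n10550 := rfl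
theorem F41623 : act 0 n10550 = n9309 := d4_1 D10550 (iv D9309) (iv F34642)
theorem F41624 : act 1 n10550 = n10550 := d11_1 D10550 (iv D10550) F34643
theorem F41625 : act 2 n10550 = n9144 := d17_1 D10550 (iv D9144) (iv F34644)
def n10551 : Q := act 8 n9142
theorem D10551 : act 8 n9142 = n10551 := rfl
theorem F41626 : act 0 n10551 = n9310 := d7_1 D10551 (iv D9310) (iv F34642)
theorem F41627 : act 1 n10551 = n10551 := d14_1 D10551 (iv D10551) F34643
theorem F41628 : act 2 n10551 = n9145 := d20_1 D10551 (iv D9145) (iv F34644)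
theorem F41629 : act 4 n10551 = n9143 := d29_1 D10551 (iv D9143) D9142
theorem F41630 : act 6 n10551 = n10551 := d34_1 D10551 (iv D10551) F34645
def n10552 : Q := act 7 n9143
theorem D10552 : act 7 n9143 = n10552 := rfl
theorem F41631 : act 0 n10552 = n9311 := d6_1 D10552 (iv D9311) (iv F34646)
theorem F41632 : act 1 n10552 = n10552 := d13_1 D10552 (iv D10552) F34647
theorem F41633 : act 2 n10552 = n9146 := d19_1 D10552 (iv D9146) (iv F34648)
theorem F41634 : act 6 n10552 = n10552 := d33_1 D10552 (iv D10552) F34650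
def n10553 : Q := act 6 n9144
theorem D10553 : act 6 n9144 = n10553 := rfl
theorem F41635 : act 0 n10553 = n9312 := d5_1 D10553 (iv D9312) (iv F34651)
theorem F41636 : act 1 n10553 = n9162 := d12_1 D10553 (iv D9162) (iv F34652)
theorem F41637 : act 3 n10553 = n10553 := d23_1 D10553 (iv D10553) F34653
theorem F41638 : act 5 n10553 = n10553 := d30_1 D10553 (iv D10553) (iv D9144) F25582 D9144
def n10554 : Q := act 8 n9144
theorem D10554 : act 8 n9144 = n10554 := rfl
theorem F41639 : act 0 n10554 = n9313 := d7_1 D10554 (iv D9313) (iv F34651)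
theorem F41640 : act 1 n10554 = n9163 := d14_1 D10554 (iv D9163) (iv F34652)
theorem F41641 : act 3 n10554 = n10554 := d25_1 D10554 (iv D10554) F34653
theorem F41642 : act 5 n10554 = n9145 := d32_1 D10554 (iv D9145) D9144
def n10555 : Q := act 7 n9145
theorem D10555 : act 7 n9145 = n10555 := rfl
theorem F41643 : act 0 n10555 = n9314 := d6_1 D10555 (iv D9314) (iv F34654)
theorem F41644 : act 1 n10555 = n9164 := d13_1 D10555 (iv D9164) (iv F34655)
theorem F41645 : act 4 n10555 = n9146 := d28_1 D10555 (iv D9146) (iv F34657)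
theorem F41646 : act 6 n10555 = n10555 := d33_1 D10555 (iv D10555) F34658
def n10556 : Q := act 4 n9149
theorem D10556 : act 4 n9149 = n10556 := rfl
theorem F41647 : act 0 n10556 = n9177 := d3_1 D10556 (iv D9177) (iv F34669)
theorem F41648 : act 2 n10556 = n9460 := d16_1 D10556 F35778 (iv F38889)
theorem F41649 : act 6 n10556 = n9333 := d27_2 (iv F38890) D10556 F35311
theorem F41650 : act 7 n10556 = n9155 := d28_2 (iv F34671) D10556 (iv D9155)
def n10557 : Q := act 5 n9155
theorem D10557 : act 5 n9155 = n10557 := rfl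
theorem F41651 : act 0 n10557 = n9186 := d4_1 D10557 (iv D9186) (iv F34689)
theorem F41652 : act 2 n10557 = n9459 := d17_1 D10557 F35776 (iv F38931)
theorem F41653 : act 3 n10557 = n9159 := d22_1 D10557 (iv D9159) (iv F34690)
theorem F41654 : act 4 n10557 = n10557 := d26_1 D10557 (iv D10557) (iv D9155) F25602 D9155
theorem F41655 : act 8 n10557 = n9328 := d32_2 (iv F38933) D10557 (iv D9328)
def n10558 : Q := act 5 n9157
theorem D10558 : act 5 n9157 = n10558 := rfl
theorem F41656 : act 0 n10558 = n9189 := d4_1 D10558 (iv D9189) (iv F34694)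
theorem F41657 : act 2 n10558 = n10558 := d17_1 D10558 (iv D10558) F34695
theorem F41658 : act 3 n10558 = n9332 := d22_1 D10558 F35308 (iv F38934)
theorem F41659 : act 4 n10558 = n10558 := d26_1 D10558 (iv D10558) (iv D9157) F25609 D9157
theorem F41660 : act 8 n10558 = n9325 := d32_2 (iv F38935) D10558 (iv D9325)
def n10559 : Q := act 6 n9159
theorem D10559 : act 6 n9159 = n10559 := rfl
theorem F41661 : act 0 n10559 = n9192 := d5_1 D10559 (iv D9192) (iv F34702)
theorem F41662 : act 2 n10559 = n10559 := d18_1 D10559 (iv D10559) F34703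
theorem F41663 : act 4 n10559 = n9162 := d27_1 D10559 (iv D9162) (iv F34704)
def n10560 : Q := act 8 n9159
theorem D10560 : act 8 n9159 = n10560 := rfl
theorem F41664 : act 0 n10560 = n9193 := d7_1 D10560 (iv D9193) (iv F34702)
theorem F41665 : act 2 n10560 = n10560 := d20_1 D10560 (iv D10560) F34703
theorem F41666 : act 3 n10560 = n9328 := d25_1 D10560 (iv F41655) F41653
theorem F41667 : act 4 n10560 = n9163 := d29_1 D10560 (iv D9163) (iv F34704)
theorem F41668 : act 5 n10560 = n9160 := d32_1 D10560 (iv D9160) D9159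
def n10561 : Q := act 7 n9160
theorem D10561 : act 7 n9160 = n10561 := rfl
theorem F41669 : act 0 n10561 = n9194 := d6_1 D10561 (iv D9194) (iv F34705)
theorem F41670 : act 2 n10561 = n10561 := d19_1 D10561 (iv D10561) F34706
theorem F41671 : act 4 n10561 = n9161 := d28_1 D10561 (iv D9161) (iv F34707)
theorem F41672 : act 6 n10561 = n9319 := d33_1 D10561 F35258 (iv F38877)
def n10562 : Q := act 8 n9162
theorem D10562 : act 8 n9162 = n10562 := rfl
theorem F41673 : act 0 n10562 = n9195 := d7_1 D10562 (iv D9195) (iv F34711)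
theorem F41674 : act 2 n10562 = n10562 := d20_1 D10562 (iv D10562) F34712
theorem F41675 : act 3 n10562 = n10562 := d25_1 D10562 (iv D10562) F34713
theorem F41676 : act 5 n10562 = n10562 := d32_1 D10562 (iv D10562) F34714
theorem F41677 : act 6 n10562 = n9163 := d34_1 D10562 (iv D9163) D9162
def n10563 : Q := act 7 n9163
theorem D10563 : act 7 n9163 = n10563 := rfl
theorem F41678 : act 0 n10563 = n9196 := d6_1 D10563 (iv D9196) (iv F34715)
theorem F41679 : act 2 n10563 = n10563 := d19_1 D10563 (iv D10563) F34716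
theorem F41680 : act 5 n10563 = n9164 := d31_1 D10563 (iv D9164) (iv F34718)
def n10564 : Q := act 3 n9164
theorem D10564 : act 3 n9164 = n10564 := rfl
theorem F41681 : act 0 n10564 = n9197 := d2_1 D10564 (iv D9197) (iv F34719)
theorem F41682 : act 6 n10564 = n10564 := d23_2 F34722 D10564 (iv D10564)
theorem F41683 : act 7 n10564 = n10564 := d24_2 D9164 D10564 (iv D10564) (iv D9164) F25626
def n10565 : Q := act 5 n9177
theorem D10565 : act 5 n9177 = n10565 := rfl
theorem F41684 : act 1 n10565 = n9342 := d11_1 D10565 (iv D9342) (iv F34774)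
theorem F41685 : act 2 n10565 = n9468 := d17_1 D10565 F35807 (iv F38892)
theorem F41686 : act 4 n10565 = n10565 := d26_1 D10565 (iv D10565) (iv D9177) F25663 D9177
theorem F41687 : act 7 n10565 = n9186 := d31_2 (iv F34775) D10565 (iv D9186)
def n10566 : Q := act 6 n9186
theorem D10566 : act 6 n9186 = n10566 := rfl
theorem F41688 : act 1 n10566 = n9350 := d12_1 D10566 (iv D9350) (iv F34803)
theorem F41689 : act 2 n10566 = n9467 := d18_1 D10566 F35804 (iv F38941)
theorem F41690 : act 3 n10566 = n9192 := d23_1 D10566 (iv D9192) (iv F34804)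
theorem F41691 : act 4 n10566 = n10566 := d27_1 D10566 (iv D10566) F34805
theorem F41692 : act 5 n10566 = n9356 := d30_1 D10566 F35382 F26130 (iv F38923) D9186
theorem F41693 : act 8 n10566 = n9353 := d34_2 (iv F38942) D10566 (iv D9353)
def n10567 : Q := act 6 n9189
theorem D10567 : act 6 n9189 = n10567 := rfl
theorem F41694 : act 1 n10567 = n9353 := d12_1 D10567 (iv D9353) (iv F34811)
theorem F41695 : act 2 n10567 = n10567 := d18_1 D10567 (iv D10567) F34812
theorem F41696 : act 3 n10567 = n9356 := d23_1 D10567 F35382 (iv F38938)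
theorem F41697 : act 4 n10567 = n10567 := d27_1 D10567 (iv D10567) F34813
theorem F41698 : act 5 n10567 = n9192 := d30_1 D10567 (iv D9192) (iv D6697) (iv F25689) D9189
theorem F41699 : act 8 n10567 = n9350 := d34_2 (iv F38939) D10567 (iv D9350)
def n10568 : Q := act 8 n9192
theorem D10568 : act 8 n9192 = n10568 := rfl
theorem F41700 : act 1 n10568 = n9356 := d14_1 D10568 (iv D9356) (iv F34822)
theorem F41701 : act 2 n10568 = n10568 := d20_1 D10568 (iv D10568) F34823
theorem F41702 : act 3 n10568 = n9353 := d25_1 D10568 (iv F41693) F41690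
theorem F41703 : act 4 n10568 = n9195 := d29_1 D10568 (iv D9195) (iv F34824)
theorem F41704 : act 5 n10568 = n9350 := d32_1 D10568 (iv F41699) F41698
theorem F41705 : act 6 n10568 = n9193 := d34_1 D10568 (iv D9193) D9192
def n10569 : Q := act 7 n9193
theorem D10569 : act 7 n9193 = n10569 := rfl
theorem F41706 : act 1 n10569 = n9357 := d13_1 D10569 (iv D9357) (iv F34825)
theorem F41707 : act 2 n10569 = n10569 := d19_1 D10569 (iv D10569) F34826
theorem F41708 : act 4 n10569 = n9196 := d28_1 D10569 (iv D9196) (iv F34827)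
theorem F41709 : act 5 n10569 = n9194 := d31_1 D10569 (iv D9194) (iv F34828)
def n10570 : Q := act 7 n9195
theorem D10570 : act 7 n9195 = n10570 := rfl
theorem F41710 : act 1 n10570 = n9359 := d13_1 D10570 (iv D9359) (iv F34832)
theorem F41711 : act 2 n10570 = n10570 := d19_1 D10570 (iv D10570) F34833
theorem F41712 : act 5 n10570 = n10570 := d31_1 D10570 (iv D10570) F34835
theorem F41713 : act 6 n10570 = n9196 := d33_1 D10570 (iv D9196) (iv F34836)
def n10571 : Q := act 3 n9196
theorem D10571 : act 3 n9196 = n10571 := rfl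
theorem F41714 : act 1 n10571 = n9360 := d9_1 D10571 (iv D9360) (iv F34837)
theorem F41715 : act 5 n10571 = n9197 := d22_2 (iv F34839) D10571 (iv D9197)
theorem F41716 : act 7 n10571 = n10571 := d24_2 D9196 D10571 (iv D10571) (iv D9196) F25710
def n10572 : Q := act 2 n9197
theorem D10572 : act 2 n9197 = n10572 := rfl
theorem F41717 : act 3 n10572 = n10572 := d15_2 D9197 D10572 (iv D10572) (iv D9197) F25713
theorem F41718 : act 6 n10572 = n10572 := d18_2 F34841 D10572 (iv D10572)
theorem F41719 : act 7 n10572 = n10572 := d19_2 F34842 D10572 (iv D10572)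
def n10573 : Q := act 7 n9206
theorem D10573 : act 7 n9206 = n10573 := rfl
theorem F41720 : act 1 n10573 = n9363 := d13_1 D10573 (iv D9363) (iv F34880)
theorem F41721 : act 2 n10573 = n9208 := d19_1 D10573 (iv D9208) D9206
theorem F41722 : act 5 n10573 = n10573 := d31_1 D10573 (iv D10573) F34882
def n10574 : Q := act 8 n9208
theorem D10574 : act 8 n9208 = n10574 := rfl
theorem F41723 : act 1 n10574 = n9226 := d14_1 D10574 (iv D9226) (iv F34887)
theorem F41724 : act 5 n10574 = n10574 := d32_1 D10574 (iv D10574) F34888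
theorem F41725 : act 7 n10574 = n9293 := d35_1 D10574 (iv D9293) (iv D6772) (iv F25758) D9208
def n10575 : Q := act 4 n9215
theorem D10575 : act 4 n9215 = n10575 := rfl
theorem F41726 : act 1 n10575 = n10575 := d10_1 D10575 (iv D10575) F34913
theorem F41727 : act 2 n10575 = n9216 := d16_1 D10575 (iv D9216) D9215
def n10576 : Q := act 5 n9216
theorem D10576 : act 5 n9216 = n10576 := rfl
theorem F41728 : act 1 n10576 = n9235 := d11_1 D10576 (iv D9235) (iv F34916)
theorem F41729 : act 4 n10576 = n9220 := d26_1 D10576 (iv D9220) (iv D6719) (iv F25772) D9216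
def n10577 : Q := act 3 n9218
theorem D10577 : act 3 n9218 = n10577 := rfl
theorem F41730 : act 1 n10577 = n10577 := d9_1 D10577 (iv D10577) F34920
theorem F41731 : act 2 n10577 = n10577 := d15_1 D10577 (iv D10577) F34921 F25781 (iv F34921)
theorem F41732 : act 4 n10577 = n10577 := d21_2 D9218 D10577 (iv D10577) (iv D9218) F25778
theorem F41733 : act 6 n10577 = n10577 := d23_2 F34922 D10577 (iv D10577)
def n10578 : Q := act 5 n9218
theorem D10578 : act 5 n9218 = n10578 := rfl
theorem F41734 : act 1 n10578 = n10578 := d11_1 D10578 (iv D10578) F34920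
theorem F41735 : act 2 n10578 = n9220 := d17_1 D10578 (iv D9220) (iv F34921)
def n10579 : Q := act 8 n9218
theorem D10579 : act 8 n9218 = n10579 := rfl
theorem F41736 : act 1 n10579 = n10579 := d14_1 D10579 (iv D10579) F34920
theorem F41737 : act 2 n10579 = n9221 := d20_1 D10579 (iv D9221) (iv F34921)
theorem F41738 : act 4 n10579 = n9219 := d29_1 D10579 (iv D9219) D9218
theorem F41739 : act 6 n10579 = n10579 := d34_1 D10579 (iv D10579) F34922
def n10580 : Q := act 7 n9219
theorem D10580 : act 7 n9219 = n10580 := rfl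
theorem F41740 : act 1 n10580 = n10580 := d13_1 D10580 (iv D10580) F34923
theorem F41741 : act 2 n10580 = n9222 := d19_1 D10580 (iv D9222) (iv F34924)
theorem F41742 : act 6 n10580 = n10580 := d33_1 D10580 (iv D10580) F34926
def n10581 : Q := act 6 n9220
theorem D10581 : act 6 n9220 = n10581 := rfl
theorem F41743 : act 1 n10581 = n9238 := d12_1 D10581 (iv D9238) (iv F34927)
theorem F41744 : act 3 n10581 = n10581 := d23_1 D10581 (iv D10581) F34928
theorem F41745 : act 5 n10581 = n10581 := d30_1 D10581 (iv D10581) (iv D9220) F25782 D9220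
def n10582 : Q := act 8 n9220
theorem D10582 : act 8 n9220 = n10582 := rfl
theorem F41746 : act 1 n10582 = n9239 := d14_1 D10582 (iv D9239) (iv F34927)
theorem F41747 : act 3 n10582 = n10582 := d25_1 D10582 (iv D10582) F34928
theorem F41748 : act 5 n10582 = n9221 := d32_1 D10582 (iv D9221) D9220
def n10583 : Q := act 7 n9221
theorem D10583 : act 7 n9221 = n10583 := rfl
theorem F41749 : act 1 n10583 = n9240 := d13_1 D10583 (iv D9240) (iv F34929)
theorem F41750 : act 4 n10583 = n9222 := d28_1 D10583 (iv D9222) (iv F34931)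
theorem F41751 : act 6 n10583 = n10583 := d33_1 D10583 (iv D10583) F34932
def n10584 : Q := act 8 n9238
theorem D10584 : act 8 n9238 = n10584 := rfl
theorem F41752 : act 0 n10584 = n9271 := d7_1 D10584 (iv D9271) (iv F34989)
theorem F41753 : act 2 n10584 = n10584 := d20_1 D10584 (iv D10584) F34990
theorem F41754 : act 3 n10584 = n10584 := d25_1 D10584 (iv D10584) F34991
theorem F41755 : act 5 n10584 = n10584 := d32_1 D10584 (iv D10584) F34992
theorem F41756 : act 6 n10584 = n9239 := d34_1 D10584 (iv D9239) D9238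
def n10585 : Q := act 7 n9239
theorem D10585 : act 7 n9239 = n10585 := rfl
theorem F41757 : act 0 n10585 = n9272 := d6_1 D10585 (iv D9272) (iv F34993)
theorem F41758 : act 2 n10585 = n10585 := d19_1 D10585 (iv D10585) F34994
theorem F41759 : act 5 n10585 = n9240 := d31_1 D10585 (iv D9240) (iv F34996)
def n10586 : Q := act 3 n9240
theorem D10586 : act 3 n9240 = n10586 := rfl
theorem F41760 : act 0 n10586 = n9273 := d2_1 D10586 (iv D9273) (iv F34997)
theorem F41761 : act 4 n10586 = n9336 := d21_2 (iv F34999) D10586 (iv D9336) F26073 (iv F25834)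
theorem F41762 : act 6 n10586 = n10586 := d23_2 F35000 D10586 (iv D10586)
theorem F41763 : act 7 n10586 = n10586 := d24_2 D9240 D10586 (iv D10586) (iv D9240) F25829
def n10587 : Q := act 7 n9271
theorem D10587 : act 7 n9271 = n10587 := rfl
theorem F41764 : act 2 n10587 = n10587 := d19_1 D10587 (iv D10587) F35091
theorem F41765 : act 5 n10587 = n10587 := d31_1 D10587 (iv D10587) F35093
theorem F41766 : act 6 n10587 = n9272 := d33_1 D10587 (iv D9272) (iv F35094)
def n10588 : Q := act 3 n9272
theorem D10588 : act 3 n9272 = n10588 := rfl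
theorem F41767 : act 5 n10588 = n9273 := d22_2 (iv F35096) D10588 (iv D9273)
theorem F41768 : act 7 n10588 = n10588 := d24_2 D9272 D10588 (iv D10588) (iv D9272) F25903
def n10589 : Q := act 2 n9273
theorem D10589 : act 2 n9273 = n10589 := rfl
theorem F41769 : act 3 n10589 = n10589 := d15_2 D9273 D10589 (iv D10589) (iv D9273) F25905
theorem F41770 : act 4 n10589 = n9361 := d16_2 (iv F35097) D10589 (iv D9361)
theorem F41771 : act 6 n10589 = n10589 := d18_2 F35098 D10589 (iv D10589)
theorem F41772 : act 7 n10589 = n10589 := d19_2 F35099 D10589 (iv D10589)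
def n10590 : Q := act 7 n9288
theorem D10590 : act 7 n9288 = n10590 := rfl
theorem F41773 : act 1 n10590 = n9426 := d13_1 D10590 (iv D9426) (iv F35162)
theorem F41774 : act 2 n10590 = n9291 := d19_1 D10590 (iv D9291) (iv F35163)
theorem F41775 : act 6 n10590 = n9289 := d33_1 D10590 (iv D9289) D9288
def n10591 : Q := act 3 n9289
theorem D10591 : act 3 n9289 = n10591 := rfl
theorem F41776 : act 1 n10591 = n9427 := d9_1 D10591 (iv D9427) (iv F35165)
theorem F41777 : act 5 n10591 = n10591 := d22_2 F35167 D10591 (iv D10591)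
theorem F41778 : act 7 n10591 = n10591 := d24_2 D9289 D10591 (iv D10591) (iv D9289) F25964
def n10592 : Q := act 8 n9289
theorem D10592 : act 8 n9289 = n10592 := rfl
theorem F41779 : act 1 n10592 = n9428 := d14_1 D10592 (iv D9428) (iv F35165)
theorem F41780 : act 2 n10592 = n9293 := d20_1 D10592 (iv D9293) (iv F35166)
theorem F41781 : act 5 n10592 = n10592 := d32_1 D10592 (iv D10592) F35167
def n10593 : Q := act 8 n9291
theorem D10593 : act 8 n9291 = n10593 := rfl
theorem F41782 : act 1 n10593 = n9318 := d14_1 D10593 (iv D9318) (iv F35171)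
theorem F41783 : act 6 n10593 = n9293 := d34_1 D10593 (iv D9293) (iv F35172)
def n10594 : Q := act 2 n9292
theorem D10594 : act 2 n9292 = n10594 := rfl
theorem F41784 : act 1 n10594 = n10594 := d8_1 D10594 (iv D10594) F35173 F26021 (iv F35173)
theorem F41785 : act 5 n10594 = n10594 := d17_2 F35174 D10594 (iv D10594)
theorem F41786 : act 7 n10594 = n9297 := d19_2 (iv F35175) D10594 (iv D9297)
def n10595 : Q := act 4 n9292
theorem D10595 : act 4 n9292 = n10595 := rfl
theorem F41787 : act 1 n10595 = n9319 := d10_1 D10595 (iv D9319) (iv F35173)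
theorem F41788 : act 7 n10595 = n9298 := d28_2 (iv F35175) D10595 (iv D9298)
def n10596 : Q := act 8 n9292
theorem D10596 : act 8 n9292 = n10596 := rfl
theorem F41789 : act 1 n10596 = n9320 := d14_1 D10596 (iv D9320) (iv F35173)
theorem F41790 : act 3 n10596 = n9293 := d25_1 D10596 (iv D9293) D9292
theorem F41791 : act 5 n10596 = n10596 := d32_1 D10596 (iv D10596) F35174
def n10597 : Q := act 4 n9297
theorem D10597 : act 4 n9297 = n10597 := rfl
theorem F41792 : act 1 n10597 = n10597 := d10_1 D10597 (iv D10597) F35189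
theorem F41793 : act 2 n10597 = n9298 := d16_1 D10597 (iv D9298) D9297
def n10598 : Q := act 5 n9298
theorem D10598 : act 5 n9298 = n10598 := rfl
theorem F41794 : act 1 n10598 = n9325 := d11_1 D10598 (iv D9325) (iv F35192)
theorem F41795 : act 3 n10598 = n9305 := d22_1 D10598 (iv D9305) (iv F35193)
theorem F41796 : act 4 n10598 = n10598 := d26_1 D10598 (iv D10598) (iv D9298) F25979 D9298
def n10599 : Q := act 4 n9300
theorem D10599 : act 4 n9300 = n10599 := rfl
theorem F41797 : act 1 n10599 = n9436 := d10_1 D10599 (iv D9436) (iv F35197)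
theorem F41798 : act 2 n10599 = n9301 := d16_1 D10599 (iv D9301) D9300
theorem F41799 : act 6 n10599 = n9303 := d27_2 (iv F35200) D10599 (iv D9303)
def n10600 : Q := act 5 n9301
theorem D10600 : act 5 n9301 = n10600 := rfl
theorem F41800 : act 1 n10600 = n9328 := d11_1 D10600 (iv D9328) (iv F35201)
theorem F41801 : act 4 n10600 = n10600 := d26_1 D10600 (iv D10600) (iv D9301) F25985 D9301
def n10601 : Q := act 3 n9303
theorem D10601 : act 3 n9303 = n10601 := rfl
theorem F41802 : act 1 n10601 = n9441 := d9_1 D10601 (iv D9441) (iv F35207)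
theorem F41803 : act 4 n10601 = n10601 := d21_2 D9303 D10601 (iv D10601) (iv D9303) F25992
def n10602 : Q := act 5 n9303
theorem D10602 : act 5 n9303 = n10602 := rfl
theorem F41804 : act 1 n10602 = n9442 := d11_1 D10602 (iv D9442) (iv F35207)
theorem F41805 : act 2 n10602 = n9305 := d17_1 D10602 (iv D9305) (iv F35208)
theorem F41806 : act 4 n10602 = n9309 := d26_1 D10602 (iv D9309) (iv D6782) (iv F25993) D9303
def n10603 : Q := act 8 n9303
theorem D10603 : act 8 n9303 = n10603 := rfl
theorem F41807 : act 1 n10603 = n9443 := d14_1 D10603 (iv D9443) (iv F35207)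
theorem F41808 : act 2 n10603 = n9306 := d20_1 D10603 (iv D9306) (iv F35208)
theorem F41809 : act 4 n10603 = n9304 := d29_1 D10603 (iv D9304) D9303
def n10604 : Q := act 7 n9304
theorem D10604 : act 7 n9304 = n10604 := rfl
theorem F41810 : act 1 n10604 = n9444 := d13_1 D10604 (iv D9444) (iv F35209)
theorem F41811 : act 2 n10604 = n9307 := d19_1 D10604 (iv D9307) (iv F35210)
theorem F41812 : act 5 n10604 = n9311 := d31_1 D10604 (iv D9311) (iv F35212)
def n10605 : Q := act 6 n9305
theorem D10605 : act 6 n9305 = n10605 := rfl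
theorem F41813 : act 1 n10605 = n9331 := d12_1 D10605 (iv D9331) (iv F35213)
theorem F41814 : act 4 n10605 = n9312 := d27_1 D10605 (iv D9312) (iv F35214)
def n10606 : Q := act 8 n9305
theorem D10606 : act 8 n9305 = n10606 := rfl
theorem F41815 : act 1 n10606 = n9332 := d14_1 D10606 (iv D9332) (iv F35213)
theorem F41816 : act 4 n10606 = n9313 := d29_1 D10606 (iv D9313) (iv F35214)
theorem F41817 : act 5 n10606 = n9306 := d32_1 D10606 (iv D9306) D9305
def n10607 : Q := act 7 n9306
theorem D10607 : act 7 n9306 = n10607 := rfl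
theorem F41818 : act 1 n10607 = n9333 := d13_1 D10607 (iv D9333) (iv F35215)
theorem F41819 : act 4 n10607 = n9307 := d28_1 D10607 (iv D9307) (iv F35216)
def n10608 : Q := act 5 n9308
theorem D10608 : act 5 n9308 = n10608 := rfl
theorem F41820 : act 1 n10608 = n9448 := d11_1 D10608 (iv D9448) (iv F35219)
theorem F41821 : act 2 n10608 = n10608 := d17_1 D10608 (iv D10608) F35220
theorem F41822 : act 3 n10608 = n9309 := d22_1 D10608 (iv D9309) D9308
def n10609 : Q := act 7 n9308
theorem D10609 : act 7 n9308 = n10609 := rfl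
theorem F41823 : act 1 n10609 = n9449 := d13_1 D10609 (iv D9449) (iv F35219)
theorem F41824 : act 2 n10609 = n10609 := d19_1 D10609 (iv D10609) F35220
theorem F41825 : act 4 n10609 = n10609 := d28_1 D10609 (iv D10609) F35221
theorem F41826 : act 6 n10609 = n10609 := d33_1 D10609 (iv D10609) F35222
def n10610 : Q := act 8 n9308
theorem D10610 : act 8 n9308 = n10610 := rfl
theorem F41827 : act 1 n10610 = n9450 := d14_1 D10610 (iv D9450) (iv F35219)
theorem F41828 : act 2 n10610 = n10610 := d20_1 D10610 (iv D10610) F35220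
theorem F41829 : act 3 n10610 = n9310 := d25_1 D10610 (iv D9310) D9308
theorem F41830 : act 4 n10610 = n10610 := d29_1 D10610 (iv D10610) F35221
theorem F41831 : act 6 n10610 = n10610 := d34_1 D10610 (iv D10610) F35222
def n10611 : Q := act 6 n9309
theorem D10611 : act 6 n9309 = n10611 := rfl
theorem F41832 : act 1 n10611 = n9451 := d12_1 D10611 (iv D9451) (iv F35223)
theorem F41833 : act 2 n10611 = n9312 := d18_1 D10611 (iv D9312) (iv F35224)
theorem F41834 : act 5 n10611 = n10611 := d30_1 D10611 (iv D10611) (iv D9309) F26000 D9309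
def n10612 : Q := act 8 n9309
theorem D10612 : act 8 n9309 = n10612 := rfl
theorem F41835 : act 1 n10612 = n9452 := d14_1 D10612 (iv D9452) (iv F35223)
theorem F41836 : act 2 n10612 = n9313 := d20_1 D10612 (iv D9313) (iv F35224)
theorem F41837 : act 5 n10612 = n9310 := d32_1 D10612 (iv D9310) D9309
def n10613 : Q := act 7 n9310
theorem D10613 : act 7 n9310 = n10613 := rfl
theorem F41838 : act 1 n10613 = n9453 := d13_1 D10613 (iv D9453) (iv F35225)
theorem F41839 : act 2 n10613 = n9314 := d19_1 D10613 (iv D9314) (iv F35226)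
theorem F41840 : act 4 n10613 = n9311 := d28_1 D10613 (iv D9311) (iv F35227)
theorem F41841 : act 6 n10613 = n10613 := d33_1 D10613 (iv D10613) F35228
def n10614 : Q := act 3 n9311
theorem D10614 : act 3 n9311 = n10614 := rfl
theorem F41842 : act 1 n10614 = n9454 := d9_1 D10614 (iv D9454) (iv F35229)
theorem F41843 : act 6 n10614 = n10614 := d23_2 F35231 D10614 (iv D10614)
theorem F41844 : act 7 n10614 = n10614 := d24_2 D9311 D10614 (iv D10614) (iv D9311) F26003
def n10615 : Q := act 8 n9312
theorem D10615 : act 8 n9312 = n10615 := rfl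
theorem F41845 : act 1 n10615 = n9334 := d14_1 D10615 (iv D9334) (iv F35232)
theorem F41846 : act 3 n10615 = n10615 := d25_1 D10615 (iv D10615) F35233
theorem F41847 : act 5 n10615 = n10615 := d32_1 D10615 (iv D10615) F35234
theorem F41848 : act 6 n10615 = n9313 := d34_1 D10615 (iv D9313) D9312
def n10616 : Q := act 7 n9313
theorem D10616 : act 7 n9313 = n10616 := rfl
theorem F41849 : act 1 n10616 = n9335 := d13_1 D10616 (iv D9335) (iv F35235)
theorem F41850 : act 5 n10616 = n9314 := d31_1 D10616 (iv D9314) (iv F35237)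
def n10617 : Q := act 3 n9314
theorem D10617 : act 3 n9314 = n10617 := rfl
theorem F41851 : act 1 n10617 = n9336 := d9_1 D10617 (iv D9336) (iv F35238)
theorem F41852 : act 6 n10617 = n10617 := d23_2 F35240 D10617 (iv D10617)
theorem F41853 : act 7 n10617 = n10617 := d24_2 D9314 D10617 (iv D10617) (iv D9314) F26008
def n10618 : Q := act 5 n9319
theorem D10618 : act 5 n9319 = n10618 := rfl
theorem F41854 : act 0 n10618 = n9342 := d4_1 D10618 (iv D9342) (iv F35256)
theorem F41855 : act 2 n10618 = n10618 := d17_1 D10618 (iv D10618) F35257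
theorem F41856 : act 4 n10618 = n10618 := d26_1 D10618 (iv D10618) (iv D9319) F26022 D9319
theorem F41857 : act 7 n10618 = n9325 := d31_2 (iv F35258) D10618 (iv D9325)
def n10619 : Q := act 8 n9319
theorem D10619 : act 8 n9319 = n10619 := rfl
theorem F41858 : act 0 n10619 = n9343 := d7_1 D10619 (iv D9343) (iv F35256)
theorem F41859 : act 2 n10619 = n10619 := d20_1 D10619 (iv D10619) F35257
theorem F41860 : act 4 n10619 = n9320 := d29_1 D10619 (iv D9320) D9319
def n10620 : Q := act 6 n9325
theorem D10620 : act 6 n9325 = n10620 := rfl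
theorem F41861 : act 0 n10620 = n9350 := d5_1 D10620 (iv D9350) (iv F35280)
theorem F41862 : act 2 n10620 = n10620 := d18_1 D10620 (iv D10620) F35281
theorem F41863 : act 3 n10620 = n9331 := d23_1 D10620 (iv D9331) (iv F35282)
theorem F41864 : act 4 n10620 = n10620 := d27_1 D10620 (iv D10620) F35283
def n10621 : Q := act 6 n9328
theorem D10621 : act 6 n9328 = n10621 := rfl
theorem F41865 : act 0 n10621 = n9353 := d5_1 D10621 (iv D9353) (iv F35291)
theorem F41866 : act 2 n10621 = n9458 := d18_1 D10621 (iv D9458) (iv F35292)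
theorem F41867 : act 4 n10621 = n10621 := d27_1 D10621 (iv D10621) F35293
theorem F41868 : act 5 n10621 = n9331 := d30_1 D10621 (iv D9331) (iv D6798) (iv F26048) D9328
def n10622 : Q := act 8 n9331
theorem D10622 : act 8 n9331 = n10622 := rfl
theorem F41869 : act 0 n10622 = n9356 := d7_1 D10622 (iv D9356) (iv F35302)
theorem F41870 : act 2 n10622 = n9461 := d20_1 D10622 (iv D9461) (iv F35303)
theorem F41871 : act 4 n10622 = n9334 := d29_1 D10622 (iv D9334) (iv F35304)
theorem F41872 : act 6 n10622 = n9332 := d34_1 D10622 (iv D9332) D9331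
def n10623 : Q := act 7 n9332
theorem D10623 : act 7 n9332 = n10623 := rfl
theorem F41873 : act 0 n10623 = n9357 := d6_1 D10623 (iv D9357) (iv F35305)
theorem F41874 : act 2 n10623 = n9462 := d19_1 D10623 (iv D9462) (iv F35306)
theorem F41875 : act 4 n10623 = n9335 := d28_1 D10623 (iv D9335) (iv F35307)
theorem F41876 : act 5 n10623 = n9333 := d31_1 D10623 (iv D9333) (iv F35308)
def n10624 : Q := act 3 n9333
theorem D10624 : act 3 n9333 = n10624 := rfl
theorem F41877 : act 0 n10624 = n9358 := d2_1 D10624 (iv D9358) (iv F35309)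
def n10625 : Q := act 7 n9334
theorem D10625 : act 7 n9334 = n10625 := rfl
theorem F41878 : act 0 n10625 = n9359 := d6_1 D10625 (iv D9359) (iv F35312)
theorem F41879 : act 2 n10625 = n9464 := d19_1 D10625 (iv D9464) (iv F35313)
theorem F41880 : act 5 n10625 = n10625 := d31_1 D10625 (iv D10625) F35315
theorem F41881 : act 6 n10625 = n9335 := d33_1 D10625 (iv D9335) (iv F35316)
def n10626 : Q := act 3 n9335
theorem D10626 : act 3 n9335 = n10626 := rfl
theorem F41882 : act 0 n10626 = n9360 := d2_1 D10626 (iv D9360) (iv F35317)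
theorem F41883 : act 5 n10626 = n9336 := d22_2 (iv F35319) D10626 (iv D9336)
theorem F41884 : act 7 n10626 = n10626 := d24_2 D9335 D10626 (iv D10626) (iv D9335) F26069
def n10627 : Q := act 2 n9336
theorem D10627 : act 2 n9336 = n10627 := rfl
theorem F41885 : act 0 n10627 = n9361 := d1_1 D10627 (iv D9361) (iv F35320)
theorem F41886 : act 3 n10627 = n9466 := d15_2 D9336 D10627 (iv D9466) (iv D6907) (iv F26072)
theorem F41887 : act 6 n10627 = n10627 := d18_2 F35321 D10627 (iv D10627)
theorem F41888 : act 7 n10627 = n10627 := d19_2 F35322 D10627 (iv D10627)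
def n10628 : Q := act 6 n9342
theorem D10628 : act 6 n9342 = n10628 := rfl
theorem F41889 : act 2 n10628 = n10628 := d18_1 D10628 (iv D10628) F35339
theorem F41890 : act 4 n10628 = n10628 := d27_1 D10628 (iv D10628) F35340
theorem F41891 : act 7 n10628 = n9350 := d33_2 (iv F35341) D10628 (iv D9350)
def n10629 : Q := act 8 n9342
theorem D10629 : act 8 n9342 = n10629 := rfl
theorem F41892 : act 2 n10629 = n10629 := d20_1 D10629 (iv D10629) F35339
theorem F41893 : act 4 n10629 = n10629 := d29_1 D10629 (iv D10629) F35340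
theorem F41894 : act 5 n10629 = n9343 := d32_1 D10629 (iv D9343) D9342
def n10630 : Q := act 7 n9356
theorem D10630 : act 7 n9356 = n10630 := rfl
theorem F41895 : act 2 n10630 = n9470 := d19_1 D10630 (iv D9470) (iv F35380)
theorem F41896 : act 4 n10630 = n9359 := d28_1 D10630 (iv D9359) (iv F35381)
theorem F41897 : act 6 n10630 = n9357 := d33_1 D10630 (iv D9357) (iv F35382)
def n10631 : Q := act 3 n9357
theorem D10631 : act 3 n9357 = n10631 := rfl
theorem F41898 : act 5 n10631 = n9358 := d22_2 (iv F35385) D10631 (iv D9358)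
def n10632 : Q := act 2 n9358
theorem D10632 : act 2 n9358 = n10632 := rfl
theorem F41899 : act 3 n10632 = n9472 := d15_2 D9358 D10632 (iv D9472) (iv D6913) (iv F26131)
def n10633 : Q := act 7 n9362
theorem D10633 : act 7 n9362 = n10633 := rfl
theorem F41900 : act 0 n10633 = n10633 := d6_1 D10633 (iv D10633) F35394
theorem F41901 : act 2 n10633 = n9365 := d19_1 D10633 (iv D9365) (iv F35395)
theorem F41902 : act 6 n10633 = n9363 := d33_1 D10633 (iv D9363) D9362
def n10634 : Q := act 3 n9363
theorem D10634 : act 3 n9363 = n10634 := rfl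
theorem F41903 : act 0 n10634 = n10634 := d2_1 D10634 (iv D10634) F35398
theorem F41904 : act 5 n10634 = n10634 := d22_2 F35400 D10634 (iv D10634)
theorem F41905 : act 7 n10634 = n10634 := d24_2 D9363 D10634 (iv D10634) (iv D9363) F26142
def n10635 : Q := act 8 n9363
theorem D10635 : act 8 n9363 = n10635 := rfl
theorem F41906 : act 0 n10635 = n10635 := d7_1 D10635 (iv D10635) F35398
theorem F41907 : act 2 n10635 = n9367 := d20_1 D10635 (iv D9367) (iv F35399)
theorem F41908 : act 5 n10635 = n10635 := d32_1 D10635 (iv D10635) F35400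
theorem F41909 : act 7 n10635 = n9428 := d35_1 D10635 (iv D9428) (iv D6875) (iv F26144) D9363
def n10636 : Q := act 8 n9365
theorem D10636 : act 8 n9365 = n10636 := rfl
theorem F41910 : act 0 n10636 = n10636 := d7_1 D10636 (iv D10636) F35406
theorem F41911 : act 1 n10636 = n9382 := d14_1 D10636 (iv D9382) (iv F35407)
theorem F41912 : act 6 n10636 = n9367 := d34_1 D10636 (iv D9367) (iv F35408)
theorem F41913 : act 7 n10636 = n9431 := d35_1 D10636 (iv D9431) (iv D6877) (iv F26148) D9365
def n10637 : Q := act 2 n9366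
theorem D10637 : act 2 n9366 = n10637 := rfl
theorem F41914 : act 0 n10637 = n10637 := d1_1 D10637 (iv D10637) F35409
theorem F41915 : act 1 n10637 = n9968 := d8_1 D10637 F39356 (iv F32027) F38822 (iv F35410)
theorem F41916 : act 5 n10637 = n10637 := d17_2 F35411 D10637 (iv D10637)
theorem F41917 : act 6 n10637 = n9964 := d18_2 F40166 D10637 (iv F40163)
theorem F41918 : act 7 n10637 = n9370 := d19_2 (iv F35412) D10637 (iv D9370)
def n10638 : Q := act 4 n9366
theorem D10638 : act 4 n9366 = n10638 := rfl
theorem F41919 : act 0 n10638 = n10638 := d3_1 D10638 (iv D10638) F35409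
theorem F41920 : act 1 n10638 = n9384 := d10_1 D10638 (iv D9384) (iv F35410)
theorem F41921 : act 7 n10638 = n9371 := d28_2 (iv F35412) D10638 (iv D9371)
def n10639 : Q := act 8 n9366
theorem D10639 : act 8 n9366 = n10639 := rfl
theorem F41922 : act 0 n10639 = n10639 := d7_1 D10639 (iv D10639) F35409
theorem F41923 : act 1 n10639 = n9385 := d14_1 D10639 (iv D9385) (iv F35410)
theorem F41924 : act 3 n10639 = n9367 := d25_1 D10639 (iv D9367) D9366
theorem F41925 : act 5 n10639 = n10639 := d32_1 D10639 (iv D10639) F35411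
theorem F41926 : act 7 n10639 = n10639 := d35_1 D10639 (iv D10639) F35412 F26167 (iv F35412)
def n10640 : Q := act 4 n9372
theorem D10640 : act 4 n9372 = n10640 := rfl
theorem F41927 : act 0 n10640 = n10640 := d3_1 D10640 (iv D10640) F35436
theorem F41928 : act 1 n10640 = n10640 := d10_1 D10640 (iv D10640) F35437
theorem F41929 : act 2 n10640 = n9373 := d16_1 D10640 (iv D9373) D9372
theorem F41930 : act 5 n10640 = n10640 := d26_2 (iv F35439) D10640 (iv D10640) F35439 F39025
theorem F41931 : act 6 n10640 = n9374 := d27_2 (iv F35440) D10640 (iv D9374)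
theorem F41932 : act 8 n10640 = n10640 := d29_2 F35441 D10640 (iv D10640)
def n10641 : Q := act 5 n9384
theorem D10641 : act 5 n9384 = n10641 := rfl
theorem F41933 : act 0 n10641 = n9407 := d4_1 D10641 (iv D9407) (iv F35486)
theorem F41934 : act 3 n10641 = n9432 := d22_1 D10641 (iv F41175) F41174
theorem F41935 : act 4 n10641 = n10641 := d26_1 D10641 (iv D10641) (iv D9384) F26197 D9384
theorem F41936 : act 6 n10641 = n10641 := d30_2 F40182 D10641 (iv D10641) (iv F40182) F40181
theorem F41937 : act 7 n10641 = n9391 := d31_2 (iv F35487) D10641 (iv D9391)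
def n10642 : Q := act 8 n9384
theorem D10642 : act 8 n9384 = n10642 := rfl
theorem F41938 : act 0 n10642 = n9408 := d7_1 D10642 (iv D9408) (iv F35486)
theorem F41939 : act 4 n10642 = n9385 := d29_1 D10642 (iv D9385) D9384
theorem F41940 : act 7 n10642 = n10642 := d35_1 D10642 (iv D10642) F35487 F26217 (iv F35487)
def n10643 : Q := act 8 n9407
theorem D10643 : act 8 n9407 = n10643 := rfl
theorem F41941 : act 1 n10643 = n10643 := d14_1 D10643 (iv D10643) F35570
theorem F41942 : act 3 n10643 = n9435 := d25_1 D10643 (iv D9435) (iv F38065)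
theorem F41943 : act 4 n10643 = n10643 := d29_1 D10643 (iv D10643) F35571
theorem F41944 : act 5 n10643 = n9408 := d32_1 D10643 (iv D9408) D9407
theorem F41945 : act 6 n10643 = n10643 := d34_1 D10643 (iv D10643) F38066
theorem F41946 : act 7 n10643 = n10643 := d35_1 D10643 (iv D10643) F35572 F26286 (iv F35572)
def n10644 : Q := act 4 n9425
theorem D10644 : act 4 n9425 = n10644 := rfl
theorem F41947 : act 0 n10644 = n10644 := d3_1 D10644 (iv D10644) F35643
theorem F41948 : act 2 n10644 = n9429 := d16_1 D10644 (iv D9429) (iv F35644)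
theorem F41949 : act 6 n10644 = n10644 := d27_2 F35646 D10644 (iv D10644)
def n10645 : Q := act 7 n9425
theorem D10645 : act 7 n9425 = n10645 := rfl
theorem F41950 : act 0 n10645 = n10645 := d6_1 D10645 (iv D10645) F35643
theorem F41951 : act 2 n10645 = n9430 := d19_1 D10645 (iv D9430) (iv F35644)
theorem F41952 : act 5 n10645 = n9426 := d31_1 D10645 (iv D9426) D9425
theorem F41953 : act 6 n10645 = n10645 := d33_1 D10645 (iv D10645) F35646
def n10646 : Q := act 3 n9426
theorem D10646 : act 3 n9426 = n10646 := rfl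
theorem F41954 : act 0 n10646 = n10646 := d2_1 D10646 (iv D10646) F35647
theorem F41955 : act 2 n10646 = n10646 := d15_1 D10646 (iv D10646) F35648 F26337 (iv F35648)
theorem F41956 : act 6 n10646 = n9427 := d23_2 (iv F35649) D10646 (iv D9427)
theorem F41957 : act 7 n10646 = n10646 := d24_2 D9426 D10646 (iv D10646) (iv D9426) F26327
def n10647 : Q := act 8 n9426
theorem D10647 : act 8 n9426 = n10647 := rfl
theorem F41958 : act 0 n10647 = n10647 := d7_1 D10647 (iv D10647) F35647
theorem F41959 : act 2 n10647 = n9431 := d20_1 D10647 (iv D9431) (iv F35648)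
theorem F41960 : act 6 n10647 = n9428 := d34_1 D10647 (iv D9428) (iv F35649)
def n10648 : Q := act 4 n9427
theorem D10648 : act 4 n9427 = n10648 := rfl
theorem F41961 : act 0 n10648 = n10648 := d3_1 D10648 (iv D10648) F35650
theorem F41962 : act 2 n10648 = n10648 := d16_1 D10648 (iv D10648) F35651
theorem F41963 : act 7 n10648 = n10648 := d28_2 F35653 D10648 (iv D10648)
def n10649 : Q := act 8 n9427
theorem D10649 : act 8 n9427 = n10649 := rfl
theorem F41964 : act 0 n10649 = n10649 := d7_1 D10649 (iv D10649) F35650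
theorem F41965 : act 2 n10649 = n10649 := d20_1 D10649 (iv D10649) F35651
theorem F41966 : act 3 n10649 = n9428 := d25_1 D10649 (iv D9428) D9427
theorem F41967 : act 5 n10649 = n10649 := d32_1 D10649 (iv D10649) F35652
def n10650 : Q := act 7 n9429
theorem D10650 : act 7 n9429 = n10650 := rfl
theorem F41968 : act 0 n10650 = n10650 := d6_1 D10650 (iv D10650) F35657
theorem F41969 : act 1 n10650 = n9432 := d13_1 D10650 (iv D9432) (iv F35658)
theorem F41970 : act 4 n10650 = n9430 := d28_1 D10650 (iv D9430) D9429
theorem F41971 : act 6 n10650 = n10650 := d33_1 D10650 (iv D10650) F35660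
def n10651 : Q := act 8 n9430
theorem D10651 : act 8 n9430 = n10651 := rfl
theorem F41972 : act 0 n10651 = n10651 := d7_1 D10651 (iv D10651) F35661
theorem F41973 : act 1 n10651 = n9433 := d14_1 D10651 (iv D9433) (iv F35662)
theorem F41974 : act 3 n10651 = n10651 := d25_1 D10651 (iv D10651) F35663
theorem F41975 : act 5 n10651 = n9431 := d32_1 D10651 (iv D9431) (iv F35664)
theorem F41976 : act 6 n10651 = n10651 := d34_1 D10651 (iv D10651) F35665
def n10652 : Q := act 8 n9432
theorem D10652 : act 8 n9432 = n10652 := rfl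
theorem F41977 : act 0 n10652 = n9435 := d7_1 D10652 (iv D9435) (iv F35670)
theorem F41978 : act 4 n10652 = n9433 := d29_1 D10652 (iv D9433) (iv F35671)
theorem F41979 : act 6 n10652 = n10652 := d34_1 D10652 (iv D10652) F35672
def n10653 : Q := act 3 n9436
theorem D10653 : act 3 n9436 = n10653 := rfl
theorem F41980 : act 0 n10653 = n10653 := d2_1 D10653 (iv D10653) F35684
theorem F41981 : act 2 n10653 = n10653 := d15_1 D10653 (iv D10653) F35685 F26366 (iv F35685)
theorem F41982 : act 4 n10653 = n10653 := d21_2 D9436 D10653 (iv D10653) (iv D9436) F26361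
theorem F41983 : act 6 n10653 = n9441 := d23_2 (iv F35686) D10653 (iv D9441)
def n10654 : Q := act 5 n9436
theorem D10654 : act 5 n9436 = n10654 := rfl
theorem F41984 : act 0 n10654 = n10654 := d4_1 D10654 (iv D10654) F35684
theorem F41985 : act 2 n10654 = n9438 := d17_1 D10654 (iv D9438) (iv F35685)
theorem F41986 : act 4 n10654 = n10654 := d26_1 D10654 (iv D10654) (iv D9436) F26362 D9436
def n10655 : Q := act 8 n9436
theorem D10655 : act 8 n9436 = n10655 := rfl
theorem F41987 : act 0 n10655 = n10655 := d7_1 D10655 (iv D10655) F35684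
theorem F41988 : act 2 n10655 = n9439 := d20_1 D10655 (iv D9439) (iv F35685)
theorem F41989 : act 4 n10655 = n9437 := d29_1 D10655 (iv D9437) D9436
theorem F41990 : act 6 n10655 = n9443 := d34_1 D10655 (iv D9443) (iv F35686)
def n10656 : Q := act 7 n9437
theorem D10656 : act 7 n9437 = n10656 := rfl
theorem F41991 : act 0 n10656 = n10656 := d6_1 D10656 (iv D10656) F35687
theorem F41992 : act 2 n10656 = n9440 := d19_1 D10656 (iv D9440) (iv F35688)
theorem F41993 : act 5 n10656 = n10656 := d31_1 D10656 (iv D10656) F35690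
theorem F41994 : act 6 n10656 = n9444 := d33_1 D10656 (iv D9444) (iv F35691)
def n10657 : Q := act 6 n9438
theorem D10657 : act 6 n9438 = n10657 := rfl
theorem F41995 : act 0 n10657 = n10657 := d5_1 D10657 (iv D10657) F35692
theorem F41996 : act 1 n10657 = n9458 := d12_1 D10657 (iv D9458) (iv F35693)
theorem F41997 : act 3 n10657 = n10657 := d23_1 D10657 (iv D10657) F35694
theorem F41998 : act 4 n10657 = n10657 := d27_1 D10657 (iv D10657) F35695
theorem F41999 : act 5 n10657 = n9445 := d30_1 D10657 (iv D9445) (iv D6889) (iv F26367) D9438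
def n10658 : Q := act 8 n9438
theorem D10658 : act 8 n9438 = n10658 := rfl
theorem F42000 : act 0 n10658 = n10658 := d7_1 D10658 (iv D10658) F35692
theorem F42001 : act 1 n10658 = n9459 := d14_1 D10658 (iv D9459) (iv F35693)
theorem F42002 : act 3 n10658 = n10658 := d25_1 D10658 (iv D10658) F35694
theorem F42003 : act 4 n10658 = n10658 := d29_1 D10658 (iv D10658) F35695
theorem F42004 : act 5 n10658 = n9439 := d32_1 D10658 (iv D9439) D9438
def n10659 : Q := act 7 n9439
theorem D10659 : act 7 n9439 = n10659 := rfl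
theorem F42005 : act 0 n10659 = n10659 := d6_1 D10659 (iv D10659) F35696
theorem F42006 : act 1 n10659 = n9460 := d13_1 D10659 (iv D9460) (iv F35697)
theorem F42007 : act 4 n10659 = n9440 := d28_1 D10659 (iv D9440) (iv F35699)
theorem F42008 : act 6 n10659 = n9447 := d33_1 D10659 (iv D9447) (iv F35700)
def n10660 : Q := act 5 n9441
theorem D10660 : act 5 n9441 = n10660 := rfl
theorem F42009 : act 0 n10660 = n10660 := d4_1 D10660 (iv D10660) F35706
theorem F42010 : act 2 n10660 = n10660 := d17_1 D10660 (iv D10660) F35707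
theorem F42011 : act 3 n10660 = n9442 := d22_1 D10660 (iv D9442) D9441
def n10661 : Q := act 7 n9441
theorem D10661 : act 7 n9441 = n10661 := rfl
theorem F42012 : act 0 n10661 = n10661 := d6_1 D10661 (iv D10661) F35706
theorem F42013 : act 2 n10661 = n10661 := d19_1 D10661 (iv D10661) F35707
theorem F42014 : act 4 n10661 = n10661 := d28_1 D10661 (iv D10661) F35708
def n10662 : Q := act 8 n9441
theorem D10662 : act 8 n9441 = n10662 := rfl
theorem F42015 : act 0 n10662 = n10662 := d7_1 D10662 (iv D10662) F35706
theorem F42016 : act 2 n10662 = n10662 := d20_1 D10662 (iv D10662) F35707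
theorem F42017 : act 3 n10662 = n9443 := d25_1 D10662 (iv D9443) D9441
theorem F42018 : act 4 n10662 = n10662 := d29_1 D10662 (iv D10662) F35708
def n10663 : Q := act 6 n9442
theorem D10663 : act 6 n9442 = n10663 := rfl
theorem F42019 : act 0 n10663 = n10663 := d5_1 D10663 (iv D10663) F35709
theorem F42020 : act 2 n10663 = n9445 := d18_1 D10663 (iv D9445) (iv F35710)
theorem F42021 : act 4 n10663 = n9451 := d27_1 D10663 (iv D9451) (iv F35711)
def n10664 : Q := act 8 n9442
theorem D10664 : act 8 n9442 = n10664 := rfl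
theorem F42022 : act 0 n10664 = n10664 := d7_1 D10664 (iv D10664) F35709
theorem F42023 : act 2 n10664 = n9446 := d20_1 D10664 (iv D9446) (iv F35710)
theorem F42024 : act 4 n10664 = n9452 := d29_1 D10664 (iv D9452) (iv F35711)
theorem F42025 : act 5 n10664 = n9443 := d32_1 D10664 (iv D9443) D9442
def n10665 : Q := act 7 n9443
theorem D10665 : act 7 n9443 = n10665 := rfl
theorem F42026 : act 0 n10665 = n10665 := d6_1 D10665 (iv D10665) F35712
theorem F42027 : act 2 n10665 = n9447 := d19_1 D10665 (iv D9447) (iv F35713)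
theorem F42028 : act 4 n10665 = n9444 := d28_1 D10665 (iv D9444) (iv F35714)
def n10666 : Q := act 3 n9444
theorem D10666 : act 3 n9444 = n10666 := rfl
theorem F42029 : act 0 n10666 = n10666 := d2_1 D10666 (iv D10666) F35715
theorem F42030 : act 2 n10666 = n10666 := d15_1 D10666 (iv D10666) F35716 F26389 (iv F35716)
theorem F42031 : act 5 n10666 = n9454 := d22_2 (iv F35717) D10666 (iv D9454)
theorem F42032 : act 7 n10666 = n10666 := d24_2 D9444 D10666 (iv D10666) (iv D9444) F26377
def n10667 : Q := act 8 n9445
theorem D10667 : act 8 n9445 = n10667 := rfl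
theorem F42033 : act 0 n10667 = n10667 := d7_1 D10667 (iv D10667) F35718
theorem F42034 : act 1 n10667 = n9461 := d14_1 D10667 (iv D9461) (iv F35719)
theorem F42035 : act 3 n10667 = n10667 := d25_1 D10667 (iv D10667) F35720
theorem F42036 : act 4 n10667 = n9455 := d29_1 D10667 (iv D9455) (iv F35721)
theorem F42037 : act 6 n10667 = n9446 := d34_1 D10667 (iv D9446) D9445
def n10668 : Q := act 7 n9446
theorem D10668 : act 7 n9446 = n10668 := rfl
theorem F42038 : act 0 n10668 = n10668 := d6_1 D10668 (iv D10668) F35722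
theorem F42039 : act 1 n10668 = n9462 := d13_1 D10668 (iv D9462) (iv F35723)
theorem F42040 : act 4 n10668 = n9456 := d28_1 D10668 (iv D9456) (iv F35725)
theorem F42041 : act 5 n10668 = n9447 := d31_1 D10668 (iv D9447) (iv F35726)
def n10669 : Q := act 3 n9447
theorem D10669 : act 3 n9447 = n10669 := rfl
theorem F42042 : act 0 n10669 = n10669 := d2_1 D10669 (iv D10669) F35727
theorem F42043 : act 1 n10669 = n9463 := d9_1 D10669 (iv D9463) (iv F35728)
theorem F42044 : act 4 n10669 = n10669 := d21_2 (iv F35729) D10669 (iv D10669) F35729 F26389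
theorem F42045 : act 7 n10669 = n10669 := d24_2 D9447 D10669 (iv D10669) (iv D9447) F26385
def n10670 : Q := act 4 n9448
theorem D10670 : act 4 n9448 = n10670 := rfl
theorem F42046 : act 0 n10670 = n10670 := d3_1 D10670 (iv D10670) F35730
theorem F42047 : act 2 n10670 = n9477 := d16_1 D10670 (iv D9477) (iv F35731)
theorem F42048 : act 5 n10670 = n10670 := d26_2 D9448 D10670 (iv D10670) (iv D9448) F26393
def n10671 : Q := act 6 n9448
theorem D10671 : act 6 n9448 = n10671 := rfl
theorem F42049 : act 0 n10671 = n10671 := d5_1 D10671 (iv D10671) F35730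
theorem F42050 : act 2 n10671 = n9478 := d18_1 D10671 (iv D9478) (iv F35731)
theorem F42051 : act 3 n10671 = n9451 := d23_1 D10671 (iv D9451) (iv F35732)
theorem F42052 : act 5 n10671 = n10671 := d30_1 D10671 (iv D10671) (iv D9448) F26394 D9448
def n10672 : Q := act 7 n9448
theorem D10672 : act 7 n9448 = n10672 := rfl
theorem F42053 : act 0 n10672 = n10672 := d6_1 D10672 (iv D10672) F35730
theorem F42054 : act 2 n10672 = n9479 := d19_1 D10672 (iv D9479) (iv F35731)
theorem F42055 : act 5 n10672 = n9449 := d31_1 D10672 (iv D9449) D9448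
theorem F42056 : act 4 n10672 = n10671 := d38_3 D9449 F35736 (iv F42055) F42051 F35743 F26405 (iv F24842) (iv D6465) (iv D4720) (iv D3449) (iv D2525) F7596 (iv F6956) (iv D1681) F5236 D1680 F38359 F7604 F5706 F4582 (iv F5972) (iv D1422) (iv D1040) (iv D766) F2547 (iv F3181) (iv F3910) F3914 F3007 F3006 D681 F38165 F3697 F2889 (iv F3794) (iv D874) (iv D644) (iv D475) F1639 (iv F2102) (iv F2659) F2662 (iv F2296) (iv F3006) D912 D1237 D1679 D2285 D3109 F12381 (iv F16621) F38529 D6444 D8839 (iv F40903) F40906 F35200 F25993 D6782 D9308 F35220 F35219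
theorem F42057 : act 4 n9478 = n9479 := d16_2 F42056 F42050 (iv F42054)
theorem F42058 : act 6 n10670 = n10672 := d27_0 F42056 (iv D10671) D10670
theorem F42059 : act 7 n10671 = n10670 := d28_2 D10672 F42056 (iv D10670)
theorem F42060 : act 7 n9477 = n9478 := d19_2 F42059 F42047 (iv F42050)
theorem F42061 : act 6 n9479 = n9477 := d33_3 F42060 (iv D9478) D9479
def n10673 : Q := act 8 n9448
theorem D10673 : act 8 n9448 = n10673 := rfl
theorem F42062 : act 0 n10673 = n10673 := d7_1 D10673 (iv D10673) F35730
theorem F42063 : act 2 n10673 = n9480 := d20_1 D10673 (iv D9480) (iv F35731)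
theorem F42064 : act 3 n10673 = n9452 := d25_1 D10673 (iv D9452) (iv F35732)
theorem F42065 : act 5 n10673 = n9450 := d32_1 D10673 (iv D9450) D9448
def n10674 : Q := act 8 n9449
theorem D10674 : act 8 n9449 = n10674 := rfl
theorem F42066 : act 0 n10674 = n10674 := d7_1 D10674 (iv D10674) F35733
theorem F42067 : act 2 n10674 = n9481 := d20_1 D10674 (iv D9481) (iv F35734)
theorem F42068 : act 4 n10674 = n10674 := d29_1 D10674 (iv D10674) F35735
theorem F42069 : act 6 n10674 = n10674 := d34_1 D10674 (iv D10674) F35736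
def n10675 : Q := act 7 n9450
theorem D10675 : act 7 n9450 = n10675 := rfl
theorem F42070 : act 0 n10675 = n10675 := d6_1 D10675 (iv D10675) F35737
theorem F42071 : act 2 n10675 = n9482 := d19_1 D10675 (iv D9482) (iv F35738)
theorem F42072 : act 4 n10675 = n10675 := d28_1 D10675 (iv D10675) F35740
theorem F42073 : act 6 n10675 = n10675 := d33_1 D10675 (iv D10675) F35741
theorem F42074 : act 3 n10644 = n10675 := d15_0 F42071 F39046 F39043 (iv F35659) (iv F41948)
def n10676 : Q := act 8 n9451
theorem D10676 : act 8 n9451 = n10676 := rfl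
theorem F42075 : act 0 n10676 = n10676 := d7_1 D10676 (iv D10676) F35742
theorem F42076 : act 2 n10676 = n9455 := d20_1 D10676 (iv D9455) (iv F35743)
theorem F42077 : act 5 n10676 = n10676 := d32_1 D10676 (iv D10676) F35744
theorem F42078 : act 6 n10676 = n9452 := d34_1 D10676 (iv D9452) D9451
def n10677 : Q := act 7 n9452
theorem D10677 : act 7 n9452 = n10677 := rfl
theorem F42079 : act 0 n10677 = n10677 := d6_1 D10677 (iv D10677) F35745
theorem F42080 : act 2 n10677 = n9456 := d19_1 D10677 (iv D9456) (iv F35746)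
theorem F42081 : act 5 n10677 = n9453 := d31_1 D10677 (iv D9453) (iv F35747)
def n10678 : Q := act 3 n9453
theorem D10678 : act 3 n9453 = n10678 := rfl
theorem F42082 : act 0 n10678 = n10678 := d2_1 D10678 (iv D10678) F35748
theorem F42083 : act 6 n10678 = n10678 := d23_2 F35751 D10678 (iv D10678)
theorem F42084 : act 7 n10678 = n10644 := d24_2 D9453 D10678 F42074 (iv D10675) F35739
theorem F42085 : act 2 n10678 = n10650 := d37_4 D9444 F35717 (iv F35750) D10678 F41969 F35670 (iv D6882) F38067 (iv D6359) (iv D4642) F13445 F10045 F7515 (iv D1763) F5480 (iv D987) F3233 F2435 F1846 F1485 F1487 (iv D235) (iv D172) (iv D124) F441 F326 F325 (iv D62) (iv F323) F322 F321 (iv F436) (iv F581) (iv F746) D205 F1004 F755 D152 F38448 F981 F731 F735 F734 (iv F947) (iv F1260) (iv F1665) (iv F2193) (iv F2888) (iv F3794) (iv F4552) (iv F5970) (iv F7961) (iv F10644) (iv F14269) (iv F18919) D6661 F25566 F38904 (iv F25996) (iv F35210) F35209 F26375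
theorem F42086 : act 4 n10645 = n10678 := d16_0 F42085 F41970 (iv F41951)
def n10679 : Q := act 4 n9454
theorem D10679 : act 4 n9454 = n10679 := rfl
theorem F42087 : act 0 n10679 = n10679 := d3_1 D10679 (iv D10679) F35752
theorem F42088 : act 2 n10679 = n10679 := d16_1 D10679 (iv D10679) F35753
theorem F42089 : act 3 n10679 = n10645 := d21_1 D10679 F42086 (iv D10678) F35750 D9454
theorem F42090 : act 6 n10679 = n10679 := d27_2 F35754 D10679 (iv D10679)
theorem F42091 : act 7 n10679 = n10679 := d28_2 F35755 D10679 (iv D10679)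
theorem F42092 : act 5 n10646 = n10679 := d22_0 F42089 F41952 D10646
def n10680 : Q := act 7 n9455
theorem D10680 : act 7 n9455 = n10680 := rfl
theorem F42093 : act 0 n10680 = n10680 := d6_1 D10680 (iv D10680) F35756
theorem F42094 : act 1 n10680 = n9464 := d13_1 D10680 (iv D9464) (iv F35757)
theorem F42095 : act 5 n10680 = n10680 := d31_1 D10680 (iv D10680) F35759
theorem F42096 : act 6 n10680 = n9456 := d33_1 D10680 (iv D9456) (iv F35760)
def n10681 : Q := act 3 n9456
theorem D10681 : act 3 n9456 = n10681 := rfl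
theorem F42097 : act 0 n10681 = n10681 := d2_1 D10681 (iv D10681) F35761
theorem F42098 : act 1 n10681 = n9465 := d9_1 D10681 (iv D9465) (iv F35762)
theorem F42099 : act 5 n10681 = n9457 := d22_2 (iv F35763) D10681 (iv D9457)
theorem F42100 : act 7 n10681 = n9488 := d24_2 D9456 D10681 (iv D9488) (iv D6925) (iv F26410)
theorem F42101 : act 2 n10681 = n10638 := d37_4 D9447 (iv F42041) F42040 D10681 F41920 F35486 F26260 D6864 F26285 F26284 F19474 F19473 (iv F26222) (iv F37920) F37919 (iv D6342) (iv D4629) F13407 F10012 F9700 (iv D1760) (iv D1292) F4112 (iv D726) F2430 F1955 F1481 F1484 D318 (iv F1985) (iv F2619) F2618 (iv F3471) (iv F4572) D1457 F6112 F4579 F3509 (iv F4623) (iv F6149) F6148 (iv D1466) F4619 (iv F6092) (iv F7587) (iv F9263) (iv D2285) F6946 D1684 (iv F9305) F38499 D3460 (iv F17982) (iv F23939) (iv F32338) F32342 F25609 D9157 F38934 F26058 (iv F26384) F26383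
theorem F42102 : act 4 n10637 = n10681 := d16_0 F42101 (iv D10638) D10637
def n10682 : Q := act 2 n9457
theorem D10682 : act 2 n9457 = n10682 := rfl
theorem F42103 : act 0 n10682 = n10682 := d1_1 D10682 (iv D10682) F35764
theorem F42104 : act 3 n10682 = n10650 := d15_2 D9457 D10682 (iv F42085) (iv D10678) F35749
theorem F42105 : act 4 n10682 = n10682 := d16_2 F35766 D10682 (iv D10682)
theorem F42106 : act 5 n10682 = n10638 := d17_2 F42099 D10682 (iv F42101)
theorem F42107 : act 6 n10682 = n10682 := d18_2 F35767 D10682 (iv D10682)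
theorem F42108 : act 7 n10682 = n9489 := d19_2 (iv F35768) D10682 (iv D9489)
theorem F42109 : act 1 n10682 = n10641 := d37_5 D6891 F26390 (iv F26414) D9457 D10682 F41933 F35572 (iv D6864) (iv D5011) (iv D3663) F10768 F8059 F6046 (iv D1443) F4530 (iv D1055) F3418 F2580 (iv F2422) F2421 F2369 (iv D519) (iv D384) (iv D284) F1033 F794 F616 (iv D122) (iv F609) (iv F824) F823 F822 (iv F1043) (iv F1298) D367 F1715 F1714 D368 D495 D668 D901 F3914 F3006 D681 F38165 F3697 F2889 F2888 (iv F2878) (iv F3447) (iv F4487) (iv F5981) (iv F7974) (iv F10504) (iv F14061) D4870 F18947 F38873 (iv F19288) F19287 (iv F19565) F19564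
def n10683 : Q := act 8 n9458
theorem D10683 : act 8 n9458 = n10683 := rfl
theorem F42110 : act 0 n10683 = n9467 := d7_1 D10683 (iv D9467) (iv F35769)
theorem F42111 : act 3 n10683 = n10683 := d25_1 D10683 (iv D10683) F35770
theorem F42112 : act 4 n10683 = n10683 := d29_1 D10683 (iv D10683) F35771
theorem F42113 : act 5 n10683 = n9461 := d32_1 D10683 (iv D9461) (iv F35772)
theorem F42114 : act 6 n10683 = n9459 := d34_1 D10683 (iv D9459) D9458
def n10684 : Q := act 7 n9459
theorem D10684 : act 7 n9459 = n10684 := rfl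
theorem F42115 : act 0 n10684 = n9468 := d6_1 D10684 (iv D9468) (iv F35773)
theorem F42116 : act 4 n10684 = n10684 := d28_1 D10684 (iv D10684) F35775
theorem F42117 : act 5 n10684 = n9460 := d31_1 D10684 (iv D9460) (iv F35776)
def n10685 : Q := act 3 n9460
theorem D10685 : act 3 n9460 = n10685 := rfl
theorem F42118 : act 0 n10685 = n9469 := d2_1 D10685 (iv D9469) (iv F35777)
theorem F42119 : act 4 n10685 = n10685 := d21_2 (iv F35778) D10685 (iv D10685) F35778 F26424
theorem F42120 : act 6 n10685 = n9463 := d23_2 (iv F35779) D10685 (iv D9463)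
theorem F42121 : act 7 n10685 = n10685 := d24_2 D9460 D10685 (iv D10685) (iv D9460) F26420
def n10686 : Q := act 7 n9461
theorem D10686 : act 7 n9461 = n10686 := rfl
theorem F42122 : act 0 n10686 = n9470 := d6_1 D10686 (iv D9470) (iv F35780)
theorem F42123 : act 4 n10686 = n9464 := d28_1 D10686 (iv D9464) (iv F35782)
theorem F42124 : act 6 n10686 = n9462 := d33_1 D10686 (iv D9462) (iv F35783)
def n10687 : Q := act 3 n9462
theorem D10687 : act 3 n9462 = n10687 := rfl
theorem F42125 : act 0 n10687 = n9471 := d2_1 D10687 (iv D9471) (iv F35784)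
theorem F42126 : act 5 n10687 = n9463 := d22_2 (iv F35786) D10687 (iv D9463)
theorem F42127 : act 7 n10687 = n10687 := d24_2 D9462 D10687 (iv D10687) (iv D9462) F26431
def n10688 : Q := act 2 n9463
theorem D10688 : act 2 n9463 = n10688 := rfl
theorem F42128 : act 0 n10688 = n9472 := d1_1 D10688 (iv D9472) (iv F35787)
theorem F42129 : act 4 n10688 = n10688 := d16_2 F35788 D10688 (iv D10688)
theorem F42130 : act 7 n10688 = n10688 := d19_2 F35789 D10688 (iv D10688)
def n10689 : Q := act 1 n9466
theorem D10689 : act 1 n9466 = n10689 := rfl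
theorem F42131 : act 0 n10689 = n10182 := d0_1 D10689 F40234 F32091 F38952 (iv F35796)
theorem F42132 : act 2 n10689 = n10641 := d8_2 D9466 D10689 (iv F42109) (iv D10682) F35765
theorem F42133 : act 4 n10689 = n10689 := d10_2 F35797 D10689 (iv D10689)
theorem F42134 : act 5 n10689 = n10176 := d11_2 F39380 D10689 F40201
theorem F42135 : act 6 n10689 = n10689 := d12_2 F35798 D10689 (iv D10689)
theorem F42136 : act 7 n10689 = n9493 := d13_2 (iv F35799) D10689 (iv D9493)
def n10690 : Q := act 7 n9467
theorem D10690 : act 7 n9467 = n10690 := rfl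
theorem F42137 : act 1 n10690 = n10690 := d13_1 D10690 (iv D10690) F35800
theorem F42138 : act 4 n10690 = n10690 := d28_1 D10690 (iv D10690) F35802
theorem F42139 : act 5 n10690 = n9470 := d31_1 D10690 (iv D9470) (iv F35803)
theorem F42140 : act 6 n10690 = n9468 := d33_1 D10690 (iv D9468) (iv F35804)
def n10691 : Q := act 3 n9468
theorem D10691 : act 3 n9468 = n10691 := rfl
theorem F42141 : act 1 n10691 = n10691 := d9_1 D10691 (iv D10691) F35805
theorem F42142 : act 5 n10691 = n9469 := d22_2 (iv F35807) D10691 (iv D9469)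
theorem F42143 : act 7 n10691 = n10691 := d24_2 D9468 D10691 (iv D10691) (iv D9468) F26451
def n10692 : Q := act 2 n9469
theorem D10692 : act 2 n9469 = n10692 := rfl
theorem F42144 : act 4 n10692 = n10692 := d16_2 F35809 D10692 (iv D10692)
theorem F42145 : act 6 n10692 = n9472 := d18_2 (iv F35810) D10692 (iv D9472)
theorem F42146 : act 7 n10692 = n10692 := d19_2 F35811 D10692 (iv D10692)
def n10693 : Q := act 8 n9477
theorem D10693 : act 8 n9477 = n10693 := rfl
theorem F42147 : act 0 n10693 = n10693 := d7_1 D10693 (iv D10693) F35833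
theorem F42148 : act 1 n10693 = n10693 := d14_1 D10693 (iv D10693) F35834
theorem F42149 : act 3 n10693 = n10693 := d25_1 D10693 (iv D10693) F35835
theorem F42150 : act 4 n10693 = n9480 := d29_1 D10693 (iv D9480) D9477
theorem F42151 : act 5 n10693 = n10693 := d32_1 D10693 (iv D10693) F35836
def n10694 : Q := act 8 n9478
theorem D10694 : act 8 n9478 = n10694 := rfl
theorem F42152 : act 0 n10694 = n10694 := d7_1 D10694 (iv D10694) F35837
theorem F42153 : act 1 n10694 = n10694 := d14_1 D10694 (iv D10694) F35838
theorem F42154 : act 3 n10694 = n9483 := d25_1 D10694 (iv D9483) (iv F35839)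
theorem F42155 : act 5 n10694 = n10694 := d32_1 D10694 (iv D10694) F35840
theorem F42156 : act 6 n10694 = n9480 := d34_1 D10694 (iv D9480) D9478
def n10695 : Q := act 8 n9479
theorem D10695 : act 8 n9479 = n10695 := rfl
theorem F42157 : act 0 n10695 = n10695 := d7_1 D10695 (iv D10695) F35841
theorem F42158 : act 1 n10695 = n10695 := d14_1 D10695 (iv D10695) F35842
theorem F42159 : act 3 n10695 = n10695 := d25_1 D10695 (iv D10695) F35843
theorem F42160 : act 4 n10695 = n10694 := d29_1 D10695 (iv D10694) F42057
theorem F42161 : act 5 n10695 = n9481 := d32_1 D10695 (iv D9481) (iv F35844)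
theorem F42162 : act 6 n10695 = n10693 := d34_1 D10695 (iv D10693) (iv F42061)
def n10696 : Q := act 7 n9480
theorem D10696 : act 7 n9480 = n10696 := rfl
theorem F42163 : act 0 n10696 = n10696 := d6_1 D10696 (iv D10696) F35845
theorem F42164 : act 1 n10696 = n10696 := d13_1 D10696 (iv D10696) F35846
theorem F42165 : act 3 n10696 = n10443 := d24_1 D10696 F41168 F38968 (iv D9484) (iv F35847)
theorem F42166 : act 5 n10696 = n9482 := d31_1 D10696 (iv D9482) (iv F35848)
def n10697 : Q := act 7 n9481
theorem D10697 : act 7 n9481 = n10697 := rfl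
theorem F42167 : act 0 n10697 = n10697 := d6_1 D10697 (iv D10697) F35849
theorem F42168 : act 1 n10697 = n10697 := d13_1 D10697 (iv D10697) F35850
theorem F42169 : act 4 n10697 = n10697 := d28_1 D10697 (iv D10697) F35852
theorem F42170 : act 6 n10697 = n10697 := d33_1 D10697 (iv D10697) F35853
theorem F42171 : act 8 n10697 = n9482 := d35_2 D9481 D10697 (iv D9482) (iv D6919) D6918
def n10698 : Q := act 7 n9483
theorem D10698 : act 7 n9483 = n10698 := rfl
theorem F42172 : act 0 n10698 = n10698 := d6_1 D10698 (iv D10698) F35858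
theorem F42173 : act 1 n10698 = n10698 := d13_1 D10698 (iv D10698) F35859
theorem F42174 : act 2 n10698 = n9487 := d19_1 D10698 (iv D9487) (iv F35860)
theorem F42175 : act 4 n10698 = n10698 := d28_1 D10698 (iv D10698) F35861
theorem F42176 : act 5 n10698 = n10698 := d31_1 D10698 (iv D10698) F35862
theorem F42177 : act 6 n10698 = n9484 := d33_1 D10698 (iv D9484) (iv F35863)
theorem F42178 : act 8 n10698 = n10698 := d35_2 D9483 D10698 (iv D10698) (iv D9483) F26494
theorem F42179 : act 3 n10640 = n10698 := d23_3 F42177 (iv F38968) (iv F41931)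
def n10699 : Q := act 4 n9871
theorem D10699 : act 4 n9871 = n10699 := rfl
theorem F42180 : act 0 n10699 = n10699 := d3_1 D10699 (iv D10699) F39029
theorem F42181 : act 1 n10699 = n10699 := d10_1 D10699 (iv D10699) F39030
theorem F42182 : act 2 n10699 = n9872 := d16_1 D10699 (iv D9872) (iv F39031)
theorem F42183 : act 6 n10699 = n10699 := d27_2 F39033 D10699 (iv D10699)
theorem F42184 : act 7 n10699 = n10699 := d28_2 F39034 D10699 (iv D10699)
theorem F42185 : act 8 n10699 = n9873 := d29_2 (iv F39035) D10699 (iv D9873)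
theorem F42186 : act 3 n10697 = n10699 := d25_3 F42185 (iv F39046) (iv F42171)
def n10700 : Q := act 2 n9874
theorem D10700 : act 2 n9874 = n10700 := rfl
theorem F42187 : act 0 n10700 = n9904 := d1_1 D10700 (iv D9904) (iv F39047)
theorem F42188 : act 1 n10700 = n10700 := d8_1 D10700 (iv D10700) F39048 F29592 (iv F39048)
theorem F42189 : act 3 n10700 = n10235 := d15_2 D9874 D10700 (iv D10235) (iv D8466) (iv F29573)
theorem F42190 : act 4 n10700 = n10700 := d16_2 F39049 D10700 (iv D10700)
def n10701 : Q := act 7 n9874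
theorem D10701 : act 7 n9874 = n10701 := rfl
theorem F42191 : act 0 n10701 = n9905 := d6_1 D10701 (iv D9905) (iv F39047)
theorem F42192 : act 1 n10701 = n9881 := d13_1 D10701 (iv D9881) (iv F39048)
theorem F42193 : act 4 n10701 = n10701 := d28_1 D10701 (iv D10701) F39049
def n10702 : Q := act 3 n9875
theorem D10702 : act 3 n9875 = n10702 := rfl
theorem F42194 : act 0 n10702 = n9906 := d2_1 D10702 (iv D9906) (iv F39050)
theorem F42195 : act 1 n10702 = n9882 := d9_1 D10702 (iv D9882) (iv F39051)
def n10703 : Q := act 8 n9875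
theorem D10703 : act 8 n9875 = n10703 := rfl
theorem F42196 : act 0 n10703 = n9907 := d7_1 D10703 (iv D9907) (iv F39050)
theorem F42197 : act 1 n10703 = n9883 := d14_1 D10703 (iv D9883) (iv F39051)
theorem F42198 : act 2 n10703 = n10241 := d20_1 D10703 (iv D10241) (iv F39052)
theorem F42199 : act 4 n10703 = n9877 := d29_1 D10703 (iv D9877) (iv F39053)
def n10704 : Q := act 2 n9876
theorem D10704 : act 2 n9876 = n10704 := rfl
theorem F42200 : act 0 n10704 = n9908 := d1_1 D10704 (iv D9908) (iv F39054)
theorem F42201 : act 1 n10704 = n10704 := d8_1 D10704 (iv D10704) F39055 F29605 (iv F39055)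
theorem F42202 : act 3 n10704 = n10244 := d15_2 D9876 D10704 (iv D10244) (iv D8470) (iv F29581)
theorem F42203 : act 5 n10704 = n9878 := d17_2 (iv F39056) D10704 (iv D9878)
theorem F42204 : act 7 n10704 = n10704 := d19_2 F39057 D10704 (iv D10704)
def n10705 : Q := act 4 n9876
theorem D10705 : act 4 n9876 = n10705 := rfl
theorem F42205 : act 0 n10705 = n9909 := d3_1 D10705 (iv D9909) (iv F39054)
theorem F42206 : act 1 n10705 = n9884 := d10_1 D10705 (iv D9884) (iv F39055)
theorem F42207 : act 7 n10705 = n10705 := d28_2 F39057 D10705 (iv D10705)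
def n10706 : Q := act 8 n9876
theorem D10706 : act 8 n9876 = n10706 := rfl
theorem F42208 : act 0 n10706 = n9910 := d7_1 D10706 (iv D9910) (iv F39054)
theorem F42209 : act 1 n10706 = n9885 := d14_1 D10706 (iv D9885) (iv F39055)
theorem F42210 : act 3 n10706 = n9877 := d25_1 D10706 (iv D9877) D9876
theorem F42211 : act 5 n10706 = n9880 := d32_1 D10706 (iv D9880) (iv F39056)
def n10707 : Q := act 4 n9878
theorem D10707 : act 4 n9878 = n10707 := rfl
theorem F42212 : act 0 n10707 = n9911 := d3_1 D10707 (iv D9911) (iv F39062)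
theorem F42213 : act 1 n10707 = n10707 := d10_1 D10707 (iv D10707) F39063
theorem F42214 : act 2 n10707 = n9879 := d16_1 D10707 (iv D9879) D9878
theorem F42215 : act 6 n10707 = n10707 := d27_2 F39065 D10707 (iv D10707)
theorem F42216 : act 7 n10707 = n10707 := d28_2 F39066 D10707 (iv D10707)
def n10708 : Q := act 8 n9878
theorem D10708 : act 8 n9878 = n10708 := rfl
theorem F42217 : act 0 n10708 = n9912 := d7_1 D10708 (iv D9912) (iv F39062)
theorem F42218 : act 1 n10708 = n10708 := d14_1 D10708 (iv D10708) F39063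
theorem F42219 : act 2 n10708 = n9880 := d20_1 D10708 (iv D9880) D9878
theorem F42220 : act 3 n10708 = n10248 := d25_1 D10708 (iv D10248) (iv F39064)
theorem F42221 : act 6 n10708 = n10708 := d34_1 D10708 (iv D10708) F39065
def n10709 : Q := act 5 n9879
theorem D10709 : act 5 n9879 = n10709 := rfl
theorem F42222 : act 0 n10709 = n9913 := d4_1 D10709 (iv D9913) (iv F39067)
theorem F42223 : act 1 n10709 = n9886 := d11_1 D10709 (iv D9886) (iv F39068)
theorem F42224 : act 7 n10709 = n10709 := d31_2 F39070 D10709 (iv D10709)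
def n10710 : Q := act 8 n9879
theorem D10710 : act 8 n9879 = n10710 := rfl
theorem F42225 : act 0 n10710 = n9914 := d7_1 D10710 (iv D9914) (iv F39067)
theorem F42226 : act 1 n10710 = n9887 := d14_1 D10710 (iv D9887) (iv F39068)
theorem F42227 : act 4 n10710 = n9880 := d29_1 D10710 (iv D9880) D9879
theorem F42228 : act 6 n10710 = n10710 := d34_1 D10710 (iv D10710) F39069
def n10711 : Q := act 7 n9880
theorem D10711 : act 7 n9880 = n10711 := rfl
theorem F42229 : act 0 n10711 = n9915 := d6_1 D10711 (iv D9915) (iv F39071)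
theorem F42230 : act 1 n10711 = n9888 := d13_1 D10711 (iv D9888) (iv F39072)
theorem F42231 : act 6 n10711 = n10711 := d33_1 D10711 (iv D10711) F39074
theorem F42232 : act 8 n10711 = n10711 := d35_2 D9880 D10711 (iv D10711) (iv D9880) F29586
def n10712 : Q := act 3 n9881
theorem D10712 : act 3 n9881 = n10712 := rfl
theorem F42233 : act 0 n10712 = n9891 := d2_1 D10712 (iv D9891) (iv F39075)
theorem F42234 : act 7 n10712 = n9882 := d24_2 D9881 D10712 (iv D9882) (iv D7730) D7728
def n10713 : Q := act 8 n9881
theorem D10713 : act 8 n9881 = n10713 := rfl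
theorem F42235 : act 0 n10713 = n9892 := d7_1 D10713 (iv D9892) (iv F39075)
theorem F42236 : act 2 n10713 = n10713 := d20_1 D10713 (iv D10713) F39076
theorem F42237 : act 4 n10713 = n10713 := d29_1 D10713 (iv D10713) F39077
def n10714 : Q := act 2 n9882
theorem D10714 : act 2 n9882 = n10714 := rfl
theorem F42238 : act 0 n10714 = n9893 := d1_1 D10714 (iv D9893) (iv F39078)
theorem F42239 : act 3 n10714 = n9889 := d15_2 D9882 D10714 (iv D9889) (iv D7738) (iv F29598)
def n10715 : Q := act 4 n9882
theorem D10715 : act 4 n9882 = n10715 := rfl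
theorem F42240 : act 0 n10715 = n9894 := d3_1 D10715 (iv D9894) (iv F39078)
theorem F42241 : act 3 n10715 = n9884 := d21_1 D10715 (iv D9884) (iv D7732) (iv F29599) D9882
def n10716 : Q := act 8 n9882
theorem D10716 : act 8 n9882 = n10716 := rfl
theorem F42242 : act 0 n10716 = n9895 := d7_1 D10716 (iv D9895) (iv F39078)
theorem F42243 : act 3 n10716 = n9883 := d25_1 D10716 (iv D9883) D9882
def n10717 : Q := act 5 n9884
theorem D10717 : act 5 n9884 = n10717 := rfl
theorem F42244 : act 0 n10717 = n9896 := d4_1 D10717 (iv D9896) (iv F39082)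
theorem F42245 : act 2 n10717 = n10717 := d17_1 D10717 (iv D10717) F39083
theorem F42246 : act 4 n10717 = n9886 := d26_1 D10717 (iv D9886) (iv D7734) (iv F29606) D9884
theorem F42247 : act 7 n10717 = n10717 := d31_2 F39084 D10717 (iv D10717)
def n10718 : Q := act 8 n9884
theorem D10718 : act 8 n9884 = n10718 := rfl
theorem F42248 : act 0 n10718 = n9897 := d7_1 D10718 (iv D9897) (iv F39082)
theorem F42249 : act 2 n10718 = n10718 := d20_1 D10718 (iv D10718) F39083
theorem F42250 : act 4 n10718 = n9885 := d29_1 D10718 (iv D9885) D9884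
def n10719 : Q := act 7 n9885
theorem D10719 : act 7 n9885 = n10719 := rfl
theorem F42251 : act 0 n10719 = n9898 := d6_1 D10719 (iv D9898) (iv F39085)
theorem F42252 : act 2 n10719 = n10719 := d19_1 D10719 (iv D10719) F39086
theorem F42253 : act 5 n10719 = n9888 := d31_1 D10719 (iv D9888) (iv F39088)
theorem F42254 : act 8 n10719 = n10719 := d35_2 D9885 D10719 (iv D10719) (iv D9885) F29607
def n10720 : Q := act 6 n9886
theorem D10720 : act 6 n9886 = n10720 := rfl
theorem F42255 : act 0 n10720 = n9899 := d5_1 D10720 (iv D9899) (iv F39089)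
theorem F42256 : act 2 n10720 = n10720 := d18_1 D10720 (iv D10720) F39090
theorem F42257 : act 5 n10720 = n10720 := d30_1 D10720 (iv D10720) (iv D9886) F29613 D9886
theorem F42258 : act 7 n10720 = n10720 := d33_2 F39091 D10720 (iv D10720)
def n10721 : Q := act 8 n9886
theorem D10721 : act 8 n9886 = n10721 := rfl
theorem F42259 : act 0 n10721 = n9900 := d7_1 D10721 (iv D9900) (iv F39089)
theorem F42260 : act 2 n10721 = n10721 := d20_1 D10721 (iv D10721) F39090
theorem F42261 : act 5 n10721 = n9887 := d32_1 D10721 (iv D9887) D9886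
def n10722 : Q := act 7 n9887
theorem D10722 : act 7 n9887 = n10722 := rfl
theorem F42262 : act 0 n10722 = n9901 := d6_1 D10722 (iv D9901) (iv F39092)
theorem F42263 : act 2 n10722 = n10722 := d19_1 D10722 (iv D10722) F39093
theorem F42264 : act 4 n10722 = n9888 := d28_1 D10722 (iv D9888) (iv F39094)
theorem F42265 : act 6 n10722 = n10722 := d33_1 D10722 (iv D10722) F39095
theorem F42266 : act 8 n10722 = n10722 := d35_2 D9887 D10722 (iv D10722) (iv D9887) F29614
def n10723 : Q := act 1 n9889
theorem D10723 : act 1 n9889 = n10723 := rfl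
theorem F42267 : act 2 n10723 = n10273 := d8_2 D9889 D10723 (iv D10273) (iv D8491) (iv F29628)
theorem F42268 : act 4 n10723 = n10723 := d10_2 F39101 D10723 (iv D10723)
theorem F42269 : act 7 n10723 = n10723 := d13_2 F39102 D10723 (iv D10723)
def n10724 : Q := act 8 n9889
theorem D10724 : act 8 n9889 = n10724 := rfl
theorem F42270 : act 0 n10724 = n9902 := d7_1 D10724 (iv D9902) (iv F39100)
theorem F42271 : act 2 n10724 = n9890 := d20_1 D10724 (iv D9890) D9889
theorem F42272 : act 4 n10724 = n10724 := d29_1 D10724 (iv D10724) F39101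
def n10725 : Q := act 7 n9890
theorem D10725 : act 7 n9890 = n10725 := rfl
theorem F42273 : act 0 n10725 = n9903 := d6_1 D10725 (iv D9903) (iv F39103)
theorem F42274 : act 1 n10725 = n10275 := d13_1 D10725 (iv D10275) (iv F39104)
theorem F42275 : act 4 n10725 = n10725 := d28_1 D10725 (iv D10725) F39106
theorem F42276 : act 8 n10725 = n10725 := d35_2 D9890 D10725 (iv D10725) (iv D9890) F29630
def n10726 : Q := act 2 n9891
theorem D10726 : act 2 n9891 = n10726 := rfl
theorem F42277 : act 3 n10726 = n10726 := d15_2 D9891 D10726 (iv D10726) (iv D9891) F29644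
theorem F42278 : act 7 n10726 = n9893 := d19_2 (iv F39108) D10726 (iv D9893)
def n10727 : Q := act 4 n9891
theorem D10727 : act 4 n9891 = n10727 := rfl
theorem F42279 : act 1 n10727 = n9926 := d10_1 D10727 (iv D9926) (iv F39107)
theorem F42280 : act 3 n10727 = n10727 := d21_1 D10727 (iv D10727) (iv D9891) F29645 D9891
theorem F42281 : act 7 n10727 = n9894 := d28_2 (iv F39108) D10727 (iv D9894)
def n10728 : Q := act 8 n9891
theorem D10728 : act 8 n9891 = n10728 := rfl
theorem F42282 : act 1 n10728 = n9927 := d14_1 D10728 (iv D9927) (iv F39107)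
theorem F42283 : act 3 n10728 = n9892 := d25_1 D10728 (iv D9892) D9891
def n10729 : Q := act 4 n9893
theorem D10729 : act 4 n9893 = n10729 := rfl
theorem F42284 : act 2 n10729 = n9894 := d16_1 D10729 (iv D9894) D9893
theorem F42285 : act 3 n10729 = n10729 := d21_1 D10729 (iv D10729) F39112 F29694 (iv F39112)
def n10730 : Q := act 8 n9893
theorem D10730 : act 8 n9893 = n10730 := rfl
theorem F42286 : act 2 n10730 = n9895 := d20_1 D10730 (iv D9895) D9893
theorem F42287 : act 3 n10730 = n9902 := d25_1 D10730 (iv D9902) (iv F39112)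
def n10731 : Q := act 5 n9894
theorem D10731 : act 5 n9894 = n10731 := rfl
theorem F42288 : act 1 n10731 = n9928 := d11_1 D10731 (iv D9928) (iv F39113)
theorem F42289 : act 3 n10731 = n9896 := d22_1 D10731 (iv D9896) (iv F39114)
def n10732 : Q := act 8 n9894
theorem D10732 : act 8 n9894 = n10732 := rfl
theorem F42290 : act 1 n10732 = n9929 := d14_1 D10732 (iv D9929) (iv F39113)
theorem F42291 : act 3 n10732 = n9897 := d25_1 D10732 (iv D9897) (iv F39114)
theorem F42292 : act 4 n10732 = n9895 := d29_1 D10732 (iv D9895) D9894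
def n10733 : Q := act 7 n9895
theorem D10733 : act 7 n9895 = n10733 := rfl
theorem F42293 : act 1 n10733 = n9930 := d13_1 D10733 (iv D9930) (iv F39115)
def n10734 : Q := act 6 n9896
theorem D10734 : act 6 n9896 = n10734 := rfl
theorem F42294 : act 1 n10734 = n9931 := d12_1 D10734 (iv D9931) (iv F39117)
theorem F42295 : act 2 n10734 = n10734 := d18_1 D10734 (iv D10734) F39118
theorem F42296 : act 4 n10734 = n9899 := d27_1 D10734 (iv D9899) (iv F39119)
theorem F42297 : act 7 n10734 = n10734 := d33_2 F39120 D10734 (iv D10734)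
def n10735 : Q := act 8 n9896
theorem D10735 : act 8 n9896 = n10735 := rfl
theorem F42298 : act 1 n10735 = n9932 := d14_1 D10735 (iv D9932) (iv F39117)
theorem F42299 : act 2 n10735 = n10735 := d20_1 D10735 (iv D10735) F39118
theorem F42300 : act 4 n10735 = n9900 := d29_1 D10735 (iv D9900) (iv F39119)
theorem F42301 : act 5 n10735 = n9897 := d32_1 D10735 (iv D9897) D9896
def n10736 : Q := act 7 n9897
theorem D10736 : act 7 n9897 = n10736 := rfl
theorem F42302 : act 1 n10736 = n9933 := d13_1 D10736 (iv D9933) (iv F39121)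
theorem F42303 : act 2 n10736 = n10736 := d19_1 D10736 (iv D10736) F39122
theorem F42304 : act 4 n10736 = n9898 := d28_1 D10736 (iv D9898) (iv F39123)
theorem F42305 : act 8 n10736 = n10736 := d35_2 D9897 D10736 (iv D10736) (iv D9897) F29668
def n10737 : Q := act 8 n9899
theorem D10737 : act 8 n9899 = n10737 := rfl
theorem F42306 : act 1 n10737 = n9934 := d14_1 D10737 (iv D9934) (iv F39128)
theorem F42307 : act 2 n10737 = n10737 := d20_1 D10737 (iv D10737) F39129
theorem F42308 : act 5 n10737 = n10737 := d32_1 D10737 (iv D10737) F39130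
theorem F42309 : act 6 n10737 = n9900 := d34_1 D10737 (iv D9900) D9899
def n10738 : Q := act 7 n9900
theorem D10738 : act 7 n9900 = n10738 := rfl
theorem F42310 : act 1 n10738 = n9935 := d13_1 D10738 (iv D9935) (iv F39132)
theorem F42311 : act 2 n10738 = n10738 := d19_1 D10738 (iv D10738) F39133
theorem F42312 : act 5 n10738 = n9901 := d31_1 D10738 (iv D9901) (iv F39134)
theorem F42313 : act 8 n10738 = n10738 := d35_2 D9900 D10738 (iv D10738) (iv D9900) F29675
def n10739 : Q := act 3 n9901
theorem D10739 : act 3 n9901 = n10739 := rfl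
theorem F42314 : act 1 n10739 = n9936 := d9_1 D10739 (iv D9936) (iv F39135)
theorem F42315 : act 6 n10739 = n10739 := d23_2 F39138 D10739 (iv D10739)
theorem F42316 : act 8 n10739 = n10739 := d25_2 F39139 D10739 (iv D10739)
def n10740 : Q := act 7 n9902
theorem D10740 : act 7 n9902 = n10740 := rfl
theorem F42317 : act 2 n10740 = n9903 := d19_1 D10740 (iv D9903) (iv F39140)
theorem F42318 : act 4 n10740 = n10740 := d28_1 D10740 (iv D10740) F39141
theorem F42319 : act 8 n10740 = n10740 := d35_2 D9902 D10740 (iv D10740) (iv D9902) F29695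
def n10741 : Q := act 7 n9904
theorem D10741 : act 7 n9904 = n10741 := rfl
theorem F42320 : act 1 n10741 = n9937 := d13_1 D10741 (iv D9937) (iv F39145)
theorem F42321 : act 2 n10741 = n9905 := d19_1 D10741 (iv D9905) D9904
theorem F42322 : act 4 n10741 = n10741 := d28_1 D10741 (iv D10741) F39147
def n10742 : Q := act 3 n9905
theorem D10742 : act 3 n9905 = n10742 := rfl
theorem F42323 : act 1 n10742 = n9916 := d9_1 D10742 (iv D9916) (iv F39148)
theorem F42324 : act 7 n10742 = n9906 := d24_2 D9905 D10742 (iv D9906) (iv D7768) D7766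
def n10743 : Q := act 8 n9905
theorem D10743 : act 8 n9905 = n10743 := rfl
theorem F42325 : act 1 n10743 = n9917 := d14_1 D10743 (iv D9917) (iv F39148)
theorem F42326 : act 4 n10743 = n10743 := d29_1 D10743 (iv D10743) F39149
def n10744 : Q := act 2 n9906
theorem D10744 : act 2 n9906 = n10744 := rfl
theorem F42327 : act 3 n10744 = n10360 := d15_2 D9906 D10744 (iv D10360) (iv D8593) (iv F29731)
def n10745 : Q := act 4 n9906
theorem D10745 : act 4 n9906 = n10745 := rfl
theorem F42328 : act 1 n10745 = n9918 := d10_1 D10745 (iv D9918) (iv F39150)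
theorem F42329 : act 3 n10745 = n9909 := d21_1 D10745 (iv D9909) (iv D7770) (iv F29732) D9906
def n10746 : Q := act 8 n9906
theorem D10746 : act 8 n9906 = n10746 := rfl
theorem F42330 : act 1 n10746 = n9919 := d14_1 D10746 (iv D9919) (iv F39150)
theorem F42331 : act 3 n10746 = n9907 := d25_1 D10746 (iv D9907) D9906
def n10747 : Q := act 4 n9908
theorem D10747 : act 4 n9908 = n10747 := rfl
theorem F42332 : act 1 n10747 = n9939 := d10_1 D10747 (iv D9939) (iv F39154)
theorem F42333 : act 2 n10747 = n9909 := d16_1 D10747 (iv D9909) D9908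
theorem F42334 : act 7 n10747 = n10747 := d28_2 F39157 D10747 (iv D10747)
def n10748 : Q := act 8 n9908
theorem D10748 : act 8 n9908 = n10748 := rfl
theorem F42335 : act 1 n10748 = n9940 := d14_1 D10748 (iv D9940) (iv F39154)
theorem F42336 : act 2 n10748 = n9910 := d20_1 D10748 (iv D9910) D9908
theorem F42337 : act 3 n10748 = n10367 := d25_1 D10748 (iv D10367) (iv F39155)
theorem F42338 : act 5 n10748 = n9912 := d32_1 D10748 (iv D9912) (iv F39156)
def n10749 : Q := act 5 n9909
theorem D10749 : act 5 n9909 = n10749 := rfl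
theorem F42339 : act 1 n10749 = n9920 := d11_1 D10749 (iv D9920) (iv F39158)
theorem F42340 : act 4 n10749 = n9913 := d26_1 D10749 (iv D9913) (iv D7773) (iv F29738) D9909
theorem F42341 : act 7 n10749 = n10749 := d31_2 F39159 D10749 (iv D10749)
def n10750 : Q := act 8 n9909
theorem D10750 : act 8 n9909 = n10750 := rfl
theorem F42342 : act 1 n10750 = n9921 := d14_1 D10750 (iv D9921) (iv F39158)
theorem F42343 : act 4 n10750 = n9910 := d29_1 D10750 (iv D9910) D9909
def n10751 : Q := act 7 n9910
theorem D10751 : act 7 n9910 = n10751 := rfl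
theorem F42344 : act 1 n10751 = n9922 := d13_1 D10751 (iv D9922) (iv F39160)
theorem F42345 : act 5 n10751 = n9915 := d31_1 D10751 (iv D9915) (iv F39162)
theorem F42346 : act 8 n10751 = n10751 := d35_2 D9910 D10751 (iv D10751) (iv D9910) F29739
def n10752 : Q := act 3 n9911
theorem D10752 : act 3 n9911 = n10752 := rfl
theorem F42347 : act 1 n10752 = n9944 := d9_1 D10752 (iv D9944) (iv F39163)
theorem F42348 : act 4 n10752 = n10371 := d21_2 D9911 D10752 (iv D10371) (iv D8600) (iv F29744)
theorem F42349 : act 6 n10752 = n10752 := d23_2 F39165 D10752 (iv D10752)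
def n10753 : Q := act 5 n9911
theorem D10753 : act 5 n9911 = n10753 := rfl
theorem F42350 : act 1 n10753 = n9945 := d11_1 D10753 (iv D9945) (iv F39163)
theorem F42351 : act 2 n10753 = n9913 := d17_1 D10753 (iv D9913) (iv F39164)
theorem F42352 : act 7 n10753 = n10753 := d31_2 F39166 D10753 (iv D10753)
def n10754 : Q := act 8 n9911
theorem D10754 : act 8 n9911 = n10754 := rfl
theorem F42353 : act 1 n10754 = n9946 := d14_1 D10754 (iv D9946) (iv F39163)
theorem F42354 : act 2 n10754 = n9914 := d20_1 D10754 (iv D9914) (iv F39164)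
theorem F42355 : act 4 n10754 = n9912 := d29_1 D10754 (iv D9912) D9911
theorem F42356 : act 6 n10754 = n10754 := d34_1 D10754 (iv D10754) F39165
def n10755 : Q := act 7 n9912
theorem D10755 : act 7 n9912 = n10755 := rfl
theorem F42357 : act 1 n10755 = n9947 := d13_1 D10755 (iv D9947) (iv F39167)
theorem F42358 : act 2 n10755 = n9915 := d19_1 D10755 (iv D9915) (iv F39168)
theorem F42359 : act 6 n10755 = n10755 := d33_1 D10755 (iv D10755) F39170
theorem F42360 : act 8 n10755 = n10755 := d35_2 D9912 D10755 (iv D10755) (iv D9912) F29746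
def n10756 : Q := act 6 n9913
theorem D10756 : act 6 n9913 = n10756 := rfl
theorem F42361 : act 1 n10756 = n9923 := d12_1 D10756 (iv D9923) (iv F39171)
theorem F42362 : act 5 n10756 = n10756 := d30_1 D10756 (iv D10756) (iv D9913) F29748 D9913
theorem F42363 : act 7 n10756 = n10756 := d33_2 F39172 D10756 (iv D10756)
def n10757 : Q := act 8 n9913
theorem D10757 : act 8 n9913 = n10757 := rfl
theorem F42364 : act 1 n10757 = n9924 := d14_1 D10757 (iv D9924) (iv F39171)
theorem F42365 : act 5 n10757 = n9914 := d32_1 D10757 (iv D9914) D9913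
def n10758 : Q := act 7 n9914
theorem D10758 : act 7 n9914 = n10758 := rfl
theorem F42366 : act 1 n10758 = n9925 := d13_1 D10758 (iv D9925) (iv F39173)
theorem F42367 : act 4 n10758 = n9915 := d28_1 D10758 (iv D9915) (iv F39174)
theorem F42368 : act 6 n10758 = n10758 := d33_1 D10758 (iv D10758) F39175
theorem F42369 : act 8 n10758 = n10758 := d35_2 D9914 D10758 (iv D10758) (iv D9914) F29749
def n10759 : Q := act 4 n9916
theorem D10759 : act 4 n9916 = n10759 := rfl
theorem F42370 : act 0 n10759 = n9926 := d3_1 D10759 (iv D9926) (iv F39179)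
theorem F42371 : act 3 n10759 = n10759 := d21_1 D10759 (iv D10759) (iv D9916) F29759 D9916
theorem F42372 : act 7 n10759 = n9918 := d28_2 (iv F39180) D10759 (iv D9918)
def n10760 : Q := act 8 n9916
theorem D10760 : act 8 n9916 = n10760 := rfl
theorem F42373 : act 0 n10760 = n9927 := d7_1 D10760 (iv D9927) (iv F39179)
theorem F42374 : act 3 n10760 = n9917 := d25_1 D10760 (iv D9917) D9916
def n10761 : Q := act 5 n9918
theorem D10761 : act 5 n9918 = n10761 := rfl
theorem F42375 : act 0 n10761 = n9928 := d4_1 D10761 (iv D9928) (iv F39184)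
theorem F42376 : act 3 n10761 = n9920 := d22_1 D10761 (iv D9920) (iv F39185)
def n10762 : Q := act 8 n9918
theorem D10762 : act 8 n9918 = n10762 := rfl
theorem F42377 : act 0 n10762 = n9929 := d7_1 D10762 (iv D9929) (iv F39184)
theorem F42378 : act 3 n10762 = n9921 := d25_1 D10762 (iv D9921) (iv F39185)
theorem F42379 : act 4 n10762 = n9919 := d29_1 D10762 (iv D9919) D9918
def n10763 : Q := act 7 n9919
theorem D10763 : act 7 n9919 = n10763 := rfl
theorem F42380 : act 0 n10763 = n9930 := d6_1 D10763 (iv D9930) (iv F39186)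
def n10764 : Q := act 6 n9920
theorem D10764 : act 6 n9920 = n10764 := rfl
theorem F42381 : act 0 n10764 = n9931 := d5_1 D10764 (iv D9931) (iv F39188)
theorem F42382 : act 2 n10764 = n9951 := d18_1 D10764 (iv D9951) (iv F39189)
theorem F42383 : act 4 n10764 = n9923 := d27_1 D10764 (iv D9923) (iv F39190)
theorem F42384 : act 7 n10764 = n10764 := d33_2 F39191 D10764 (iv D10764)
def n10765 : Q := act 8 n9920
theorem D10765 : act 8 n9920 = n10765 := rfl
theorem F42385 : act 0 n10765 = n9932 := d7_1 D10765 (iv D9932) (iv F39188)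
theorem F42386 : act 2 n10765 = n9952 := d20_1 D10765 (iv D9952) (iv F39189)
theorem F42387 : act 4 n10765 = n9924 := d29_1 D10765 (iv D9924) (iv F39190)
theorem F42388 : act 5 n10765 = n9921 := d32_1 D10765 (iv D9921) D9920
def n10766 : Q := act 7 n9921
theorem D10766 : act 7 n9921 = n10766 := rfl
theorem F42389 : act 0 n10766 = n9933 := d6_1 D10766 (iv D9933) (iv F39192)
theorem F42390 : act 2 n10766 = n9953 := d19_1 D10766 (iv D9953) (iv F39193)
theorem F42391 : act 4 n10766 = n9922 := d28_1 D10766 (iv D9922) (iv F39194)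
theorem F42392 : act 8 n10766 = n10766 := d35_2 D9921 D10766 (iv D10766) (iv D9921) F29782
def n10767 : Q := act 8 n9923
theorem D10767 : act 8 n9923 = n10767 := rfl
theorem F42393 : act 0 n10767 = n9934 := d7_1 D10767 (iv D9934) (iv F39199)
theorem F42394 : act 2 n10767 = n9954 := d20_1 D10767 (iv D9954) (iv F39200)
theorem F42395 : act 5 n10767 = n10767 := d32_1 D10767 (iv D10767) F39201
theorem F42396 : act 6 n10767 = n9924 := d34_1 D10767 (iv D9924) D9923
def n10768 : Q := act 7 n9924
theorem D10768 : act 7 n9924 = n10768 := rfl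
theorem F42397 : act 0 n10768 = n9935 := d6_1 D10768 (iv D9935) (iv F39203)
theorem F42398 : act 2 n10768 = n9955 := d19_1 D10768 (iv D9955) (iv F39204)
theorem F42399 : act 5 n10768 = n9925 := d31_1 D10768 (iv D9925) (iv F39205)
theorem F42400 : act 8 n10768 = n10768 := d35_2 D9924 D10768 (iv D10768) (iv D9924) F29789
def n10769 : Q := act 3 n9925
theorem D10769 : act 3 n9925 = n10769 := rfl
theorem F42401 : act 0 n10769 = n9936 := d2_1 D10769 (iv D9936) (iv F39206)
theorem F42402 : act 6 n10769 = n10769 := d23_2 F39209 D10769 (iv D10769)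
theorem F42403 : act 8 n10769 = n10769 := d25_2 F39210 D10769 (iv D10769)
def n10770 : Q := act 5 n9926
theorem D10770 : act 5 n9926 = n10770 := rfl
theorem F42404 : act 3 n10770 = n10770 := d22_1 D10770 (iv D10770) F39211
theorem F42405 : act 7 n10770 = n9928 := d31_2 (iv F39212) D10770 (iv D9928)
def n10771 : Q := act 8 n9926
theorem D10771 : act 8 n9926 = n10771 := rfl
theorem F42406 : act 3 n10771 = n10771 := d25_1 D10771 (iv D10771) F39211
theorem F42407 : act 4 n10771 = n9927 := d29_1 D10771 (iv D9927) D9926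
def n10772 : Q := act 7 n9927
theorem D10772 : act 7 n9927 = n10772 := rfl
theorem F42408 : act 8 n10772 = n9930 := d35_2 D9927 D10772 (iv D9930) (iv D7802) (iv F29823)
def n10773 : Q := act 6 n9928
theorem D10773 : act 6 n9928 = n10773 := rfl
theorem F42409 : act 3 n10773 = n9931 := d23_1 D10773 (iv D9931) (iv F39214)
def n10774 : Q := act 8 n9928
theorem D10774 : act 8 n9928 = n10774 := rfl
theorem F42410 : act 3 n10774 = n9932 := d25_1 D10774 (iv D9932) (iv F39214)
theorem F42411 : act 5 n10774 = n9929 := d32_1 D10774 (iv D9929) D9928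
def n10775 : Q := act 7 n9929
theorem D10775 : act 7 n9929 = n10775 := rfl
theorem F42412 : act 4 n10775 = n9930 := d28_1 D10775 (iv D9930) (iv F39216)
def n10776 : Q := act 8 n9931
theorem D10776 : act 8 n9931 = n10776 := rfl
theorem F42413 : act 2 n10776 = n9957 := d20_1 D10776 (iv D9957) (iv F39217)
theorem F42414 : act 4 n10776 = n9934 := d29_1 D10776 (iv D9934) (iv F39218)
theorem F42415 : act 6 n10776 = n9932 := d34_1 D10776 (iv D9932) D9931
def n10777 : Q := act 7 n9932
theorem D10777 : act 7 n9932 = n10777 := rfl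
theorem F42416 : act 2 n10777 = n9958 := d19_1 D10777 (iv D9958) (iv F39220)
theorem F42417 : act 4 n10777 = n9935 := d28_1 D10777 (iv D9935) (iv F39221)
theorem F42418 : act 5 n10777 = n9933 := d31_1 D10777 (iv D9933) (iv F39222)
theorem F42419 : act 8 n10777 = n10777 := d35_2 D9932 D10777 (iv D10777) (iv D9932) F29845
def n10778 : Q := act 3 n9933
theorem D10778 : act 3 n9933 = n10778 := rfl
theorem F42420 : act 8 n10778 = n10778 := d25_2 F39225 D10778 (iv D10778)
def n10779 : Q := act 7 n9934
theorem D10779 : act 7 n9934 = n10779 := rfl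
theorem F42421 : act 2 n10779 = n9960 := d19_1 D10779 (iv D9960) (iv F39226)
theorem F42422 : act 5 n10779 = n10779 := d31_1 D10779 (iv D10779) F39227
theorem F42423 : act 6 n10779 = n9935 := d33_1 D10779 (iv D9935) (iv F39228)
theorem F42424 : act 8 n10779 = n10779 := d35_2 D9934 D10779 (iv D10779) (iv D9934) F29853
def n10780 : Q := act 3 n9935
theorem D10780 : act 3 n9935 = n10780 := rfl
theorem F42425 : act 5 n10780 = n9936 := d22_2 (iv F39230) D10780 (iv D9936)
theorem F42426 : act 8 n10780 = n10780 := d25_2 F39231 D10780 (iv D10780)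
def n10781 : Q := act 2 n9936
theorem D10781 : act 2 n9936 = n10781 := rfl
theorem F42427 : act 3 n10781 = n9962 := d15_2 D9936 D10781 (iv D9962) (iv D7979) (iv F29856)
theorem F42428 : act 6 n10781 = n10781 := d18_2 F39232 D10781 (iv D10781)
theorem F42429 : act 8 n10781 = n10781 := d20_2 F39233 D10781 (iv D10781)
def n10782 : Q := act 3 n9937
theorem D10782 : act 3 n9937 = n10782 := rfl
theorem F42430 : act 0 n10782 = n10782 := d2_1 D10782 (iv D10782) F39234
theorem F42431 : act 7 n10782 = n10449 := d24_2 D9937 D10782 (iv D10449) (iv D8760) (iv F29912)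
def n10783 : Q := act 8 n9937
theorem D10783 : act 8 n9937 = n10783 := rfl
theorem F42432 : act 0 n10783 = n10783 := d7_1 D10783 (iv D10783) F39234
theorem F42433 : act 2 n10783 = n9938 := d20_1 D10783 (iv D9938) (iv F39235)
theorem F42434 : act 4 n10783 = n10783 := d29_1 D10783 (iv D10783) F39236
def n10784 : Q := act 3 n9939
theorem D10784 : act 3 n9939 = n10784 := rfl
theorem F42435 : act 0 n10784 = n10784 := d2_1 D10784 (iv D10784) F39240
theorem F42436 : act 4 n10784 = n10471 := d21_2 D9939 D10784 (iv D10471) (iv D8842) (iv F30229)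
def n10785 : Q := act 5 n9939
theorem D10785 : act 5 n9939 = n10785 := rfl
theorem F42437 : act 0 n10785 = n10785 := d4_1 D10785 (iv D10785) F39240
theorem F42438 : act 2 n10785 = n9941 := d17_1 D10785 (iv D9941) (iv F39241)
theorem F42439 : act 4 n10785 = n9945 := d26_1 D10785 (iv D9945) (iv D7923) (iv F30230) D9939
theorem F42440 : act 7 n10785 = n10785 := d31_2 F39242 D10785 (iv D10785)
def n10786 : Q := act 8 n9939
theorem D10786 : act 8 n9939 = n10786 := rfl
theorem F42441 : act 0 n10786 = n10786 := d7_1 D10786 (iv D10786) F39240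
theorem F42442 : act 2 n10786 = n9942 := d20_1 D10786 (iv D9942) (iv F39241)
theorem F42443 : act 4 n10786 = n9940 := d29_1 D10786 (iv D9940) D9939
def n10787 : Q := act 7 n9940
theorem D10787 : act 7 n9940 = n10787 := rfl
theorem F42444 : act 0 n10787 = n10787 := d6_1 D10787 (iv D10787) F39243
theorem F42445 : act 2 n10787 = n9943 := d19_1 D10787 (iv D9943) (iv F39244)
theorem F42446 : act 5 n10787 = n9947 := d31_1 D10787 (iv D9947) (iv F39246)
theorem F42447 : act 8 n10787 = n10787 := d35_2 D9940 D10787 (iv D10787) (iv D9940) F30231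
def n10788 : Q := act 6 n9941
theorem D10788 : act 6 n9941 = n10788 := rfl
theorem F42448 : act 0 n10788 = n10788 := d5_1 D10788 (iv D10788) F39247
theorem F42449 : act 1 n10788 = n9951 := d12_1 D10788 (iv D9951) (iv F39248)
theorem F42450 : act 4 n10788 = n9948 := d27_1 D10788 (iv D9948) (iv F39249)
theorem F42451 : act 7 n10788 = n10788 := d33_2 F39250 D10788 (iv D10788)
def n10789 : Q := act 8 n9941
theorem D10789 : act 8 n9941 = n10789 := rfl
theorem F42452 : act 0 n10789 = n10789 := d7_1 D10789 (iv D10789) F39247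
theorem F42453 : act 1 n10789 = n9952 := d14_1 D10789 (iv D9952) (iv F39248)
theorem F42454 : act 4 n10789 = n9949 := d29_1 D10789 (iv D9949) (iv F39249)
theorem F42455 : act 5 n10789 = n9942 := d32_1 D10789 (iv D9942) D9941
def n10790 : Q := act 7 n9942
theorem D10790 : act 7 n9942 = n10790 := rfl
theorem F42456 : act 0 n10790 = n10790 := d6_1 D10790 (iv D10790) F39251
theorem F42457 : act 1 n10790 = n9953 := d13_1 D10790 (iv D9953) (iv F39252)
theorem F42458 : act 4 n10790 = n9943 := d28_1 D10790 (iv D9943) (iv F39253)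
theorem F42459 : act 8 n10790 = n10790 := d35_2 D9942 D10790 (iv D10790) (iv D9942) F30234
def n10791 : Q := act 5 n9944
theorem D10791 : act 5 n9944 = n10791 := rfl
theorem F42460 : act 0 n10791 = n10791 := d4_1 D10791 (iv D10791) F39259
theorem F42461 : act 2 n10791 = n10791 := d17_1 D10791 (iv D10791) F39260
theorem F42462 : act 3 n10791 = n9945 := d22_1 D10791 (iv D9945) D9944
def n10792 : Q := act 7 n9944
theorem D10792 : act 7 n9944 = n10792 := rfl
theorem F42463 : act 0 n10792 = n10792 := d6_1 D10792 (iv D10792) F39259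
theorem F42464 : act 2 n10792 = n10792 := d19_1 D10792 (iv D10792) F39260
theorem F42465 : act 3 n10792 = n10792 := d24_1 D10792 (iv D10792) (iv D9944) F30242 D9944
theorem F42466 : act 4 n10792 = n10479 := d28_1 D10792 (iv D10479) (iv F39261)
theorem F42467 : act 6 n10792 = n10792 := d33_1 D10792 (iv D10792) F39262
def n10793 : Q := act 8 n9944
theorem D10793 : act 8 n9944 = n10793 := rfl
theorem F42468 : act 0 n10793 = n10793 := d7_1 D10793 (iv D10793) F39259
theorem F42469 : act 2 n10793 = n10793 := d20_1 D10793 (iv D10793) F39260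
theorem F42470 : act 3 n10793 = n9946 := d25_1 D10793 (iv D9946) D9944
theorem F42471 : act 4 n10793 = n10480 := d29_1 D10793 (iv D10480) (iv F39261)
theorem F42472 : act 6 n10793 = n10793 := d34_1 D10793 (iv D10793) F39262
def n10794 : Q := act 6 n9945
theorem D10794 : act 6 n9945 = n10794 := rfl
theorem F42473 : act 0 n10794 = n10794 := d5_1 D10794 (iv D10794) F39263
theorem F42474 : act 2 n10794 = n9948 := d18_1 D10794 (iv D9948) (iv F39264)
theorem F42475 : act 5 n10794 = n10794 := d30_1 D10794 (iv D10794) (iv D9945) F30241 D9945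
theorem F42476 : act 7 n10794 = n10794 := d33_2 F39265 D10794 (iv D10794)
def n10795 : Q := act 8 n9945
theorem D10795 : act 8 n9945 = n10795 := rfl
theorem F42477 : act 0 n10795 = n10795 := d7_1 D10795 (iv D10795) F39263
theorem F42478 : act 2 n10795 = n9949 := d20_1 D10795 (iv D9949) (iv F39264)
theorem F42479 : act 5 n10795 = n9946 := d32_1 D10795 (iv D9946) D9945
def n10796 : Q := act 7 n9946
theorem D10796 : act 7 n9946 = n10796 := rfl
theorem F42480 : act 0 n10796 = n10796 := d6_1 D10796 (iv D10796) F39266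
theorem F42481 : act 2 n10796 = n9950 := d19_1 D10796 (iv D9950) (iv F39267)
theorem F42482 : act 4 n10796 = n9947 := d28_1 D10796 (iv D9947) (iv F39268)
theorem F42483 : act 6 n10796 = n10796 := d33_1 D10796 (iv D10796) F39269
theorem F42484 : act 8 n10796 = n10796 := d35_2 D9946 D10796 (iv D10796) (iv D9946) F30242
def n10797 : Q := act 3 n9947
theorem D10797 : act 3 n9947 = n10797 := rfl
theorem F42485 : act 0 n10797 = n10797 := d2_1 D10797 (iv D10797) F39270
theorem F42486 : act 2 n10797 = n10797 := d15_1 D10797 (iv D10797) F39271 F30258 (iv F39271)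
theorem F42487 : act 6 n10797 = n10797 := d23_2 F39272 D10797 (iv D10797)
theorem F42488 : act 7 n10797 = n10484 := d24_2 D9947 D10797 (iv D10484) (iv D8850) (iv F30245)
theorem F42489 : act 8 n10797 = n10797 := d25_2 F39273 D10797 (iv D10797)
def n10798 : Q := act 8 n9948
theorem D10798 : act 8 n9948 = n10798 := rfl
theorem F42490 : act 0 n10798 = n10798 := d7_1 D10798 (iv D10798) F39274
theorem F42491 : act 1 n10798 = n9954 := d14_1 D10798 (iv D9954) (iv F39275)
theorem F42492 : act 3 n10798 = n10798 := d25_1 D10798 (iv D10798) F39276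
theorem F42493 : act 5 n10798 = n10798 := d32_1 D10798 (iv D10798) F39277
theorem F42494 : act 6 n10798 = n9949 := d34_1 D10798 (iv D9949) D9948
def n10799 : Q := act 7 n9949
theorem D10799 : act 7 n9949 = n10799 := rfl
theorem F42495 : act 0 n10799 = n10799 := d6_1 D10799 (iv D10799) F39279
theorem F42496 : act 1 n10799 = n9955 := d13_1 D10799 (iv D9955) (iv F39280)
theorem F42497 : act 5 n10799 = n9950 := d31_1 D10799 (iv D9950) (iv F39282)
theorem F42498 : act 8 n10799 = n10799 := d35_2 D9949 D10799 (iv D10799) (iv D9949) F30250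
def n10800 : Q := act 3 n9950
theorem D10800 : act 3 n9950 = n10800 := rfl
theorem F42499 : act 0 n10800 = n10800 := d2_1 D10800 (iv D10800) F39283
theorem F42500 : act 1 n10800 = n9956 := d9_1 D10800 (iv D9956) (iv F39284)
theorem F42501 : act 4 n10800 = n10800 := d21_2 (iv F39285) D10800 (iv D10800) F39285 F30258
theorem F42502 : act 6 n10800 = n10800 := d23_2 F39286 D10800 (iv D10800)
theorem F42503 : act 7 n10800 = n10800 := d24_2 D9950 D10800 (iv D10800) (iv D9950) F30253
theorem F42504 : act 8 n10800 = n10800 := d25_2 F39287 D10800 (iv D10800)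
def n10801 : Q := act 8 n9951
theorem D10801 : act 8 n9951 = n10801 := rfl
theorem F42505 : act 0 n10801 = n9957 := d7_1 D10801 (iv D9957) (iv F39288)
theorem F42506 : act 4 n10801 = n9954 := d29_1 D10801 (iv D9954) (iv F39289)
theorem F42507 : act 6 n10801 = n9952 := d34_1 D10801 (iv D9952) D9951
def n10802 : Q := act 7 n9952
theorem D10802 : act 7 n9952 = n10802 := rfl
theorem F42508 : act 0 n10802 = n9958 := d6_1 D10802 (iv D9958) (iv F39291)
theorem F42509 : act 4 n10802 = n9955 := d28_1 D10802 (iv D9955) (iv F39292)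
theorem F42510 : act 5 n10802 = n9953 := d31_1 D10802 (iv D9953) (iv F39293)
theorem F42511 : act 8 n10802 = n10802 := d35_2 D9952 D10802 (iv D10802) (iv D9952) F30307
def n10803 : Q := act 3 n9953
theorem D10803 : act 3 n9953 = n10803 := rfl
theorem F42512 : act 0 n10803 = n9959 := d2_1 D10803 (iv D9959) (iv F39294)
theorem F42513 : act 4 n10803 = n10803 := d21_2 (iv F39295) D10803 (iv D10803) F39295 F30311
theorem F42514 : act 8 n10803 = n10803 := d25_2 F39296 D10803 (iv D10803)
def n10804 : Q := act 7 n9954
theorem D10804 : act 7 n9954 = n10804 := rfl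
theorem F42515 : act 0 n10804 = n9960 := d6_1 D10804 (iv D9960) (iv F39297)
theorem F42516 : act 5 n10804 = n10804 := d31_1 D10804 (iv D10804) F39299
theorem F42517 : act 6 n10804 = n9955 := d33_1 D10804 (iv D9955) (iv F39300)
theorem F42518 : act 8 n10804 = n10804 := d35_2 D9954 D10804 (iv D10804) (iv D9954) F30317
def n10805 : Q := act 3 n9955
theorem D10805 : act 3 n9955 = n10805 := rfl
theorem F42519 : act 0 n10805 = n9961 := d2_1 D10805 (iv D9961) (iv F39301)
theorem F42520 : act 5 n10805 = n9956 := d22_2 (iv F39302) D10805 (iv D9956)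
theorem F42521 : act 7 n10805 = n10805 := d24_2 D9955 D10805 (iv D10805) (iv D9955) F30319
theorem F42522 : act 8 n10805 = n10805 := d25_2 F39303 D10805 (iv D10805)
def n10806 : Q := act 2 n9956
theorem D10806 : act 2 n9956 = n10806 := rfl
theorem F42523 : act 0 n10806 = n9962 := d1_1 D10806 (iv D9962) (iv F39304)
theorem F42524 : act 4 n10806 = n10806 := d16_2 F39305 D10806 (iv D10806)
theorem F42525 : act 6 n10806 = n10806 := d18_2 F39306 D10806 (iv D10806)
theorem F42526 : act 7 n10806 = n10806 := d19_2 F39307 D10806 (iv D10806)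
theorem F42527 : act 8 n10806 = n10806 := d20_2 F39308 D10806 (iv D10806)
def n10807 : Q := act 7 n9957
theorem D10807 : act 7 n9957 = n10807 := rfl
theorem F42528 : act 1 n10807 = n10807 := d13_1 D10807 (iv D10807) F39309
theorem F42529 : act 4 n10807 = n9960 := d28_1 D10807 (iv D9960) (iv F39310)
theorem F42530 : act 6 n10807 = n9958 := d33_1 D10807 (iv D9958) (iv F39311)
theorem F42531 : act 8 n10807 = n10807 := d35_2 D9957 D10807 (iv D10807) (iv D9957) F30427
def n10808 : Q := act 3 n9958
theorem D10808 : act 3 n9958 = n10808 := rfl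
theorem F42532 : act 1 n10808 = n10808 := d9_1 D10808 (iv D10808) F39312
theorem F42533 : act 5 n10808 = n9959 := d22_2 (iv F39314) D10808 (iv D9959)
theorem F42534 : act 8 n10808 = n10808 := d25_2 F39315 D10808 (iv D10808)
def n10809 : Q := act 2 n9959
theorem D10809 : act 2 n9959 = n10809 := rfl
theorem F42535 : act 4 n10809 = n10809 := d16_2 F39317 D10809 (iv D10809)
theorem F42536 : act 8 n10809 = n10809 := d20_2 F39318 D10809 (iv D10809)
def n10810 : Q := act 3 n9960
theorem D10810 : act 3 n9960 = n10810 := rfl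
theorem F42537 : act 1 n10810 = n10810 := d9_1 D10810 (iv D10810) F39319
theorem F42538 : act 5 n10810 = n10810 := d22_2 F39320 D10810 (iv D10810)
theorem F42539 : act 6 n10810 = n9961 := d23_2 (iv F39321) D10810 (iv D9961)
theorem F42540 : act 7 n10810 = n10810 := d24_2 D9960 D10810 (iv D10810) (iv D9960) F30435
theorem F42541 : act 8 n10810 = n10810 := d25_2 F39322 D10810 (iv D10810)
def n10811 : Q := act 2 n9961
theorem D10811 : act 2 n9961 = n10811 := rfl
theorem F42542 : act 5 n10811 = n9962 := d17_2 (iv F39324) D10811 (iv D9962)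
theorem F42543 : act 7 n10811 = n10811 := d19_2 F39325 D10811 (iv D10811)
theorem F42544 : act 8 n10811 = n10811 := d20_2 F39326 D10811 (iv D10811)
def n10812 : Q := act 4 n9961
theorem D10812 : act 4 n9961 = n10812 := rfl
theorem F42545 : act 1 n10812 = n10812 := d10_1 D10812 (iv D10812) F39323
theorem F42546 : act 5 n10812 = n10812 := d26_2 (iv F39324) D10812 (iv D10812) F39324 F30442
theorem F42547 : act 7 n10812 = n10812 := d28_2 F39325 D10812 (iv D10812)
theorem F42548 : act 8 n10812 = n10812 := d29_2 F39326 D10812 (iv D10812)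
def n10813 : Q := act 1 n9962
theorem D10813 : act 1 n9962 = n10813 := rfl
theorem F42549 : act 2 n10813 = n10813 := d8_2 D9962 D10813 (iv D10813) (iv D9962) F30441
theorem F42550 : act 4 n10813 = n10813 := d10_2 F39327 D10813 (iv D10813)
theorem F42551 : act 6 n10813 = n10813 := d12_2 F39328 D10813 (iv D10813)
theorem F42552 : act 7 n10813 = n10813 := d13_2 F39329 D10813 (iv D10813)
theorem F42553 : act 8 n10813 = n10813 := d14_2 F39330 D10813 (iv D10813)
def n10814 : Q := act 7 n9963
theorem D10814 : act 7 n9963 = n10814 := rfl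
theorem F42554 : act 0 n10814 = n10814 := d6_1 D10814 (iv D10814) F39331
theorem F42555 : act 1 n10814 = n9967 := d13_1 D10814 (iv D9967) (iv F39332)
theorem F42556 : act 3 n10814 = n10680 := d24_1 D10814 (iv D10680) F35758 D9487 F39336
theorem F42557 : act 4 n10814 = n9964 := d28_1 D10814 (iv D9964) D9963
theorem F42558 : act 5 n10814 = n10814 := d31_1 D10814 (iv D10814) F39333
theorem F42559 : act 6 n10814 = n10681 := d33_1 D10814 F42100 (iv F39334)
def n10815 : Q := act 3 n9964
theorem D10815 : act 3 n9964 = n10815 := rfl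
theorem F42560 : act 0 n10815 = n10815 := d2_1 D10815 (iv D10815) F39337
theorem F42561 : act 1 n10815 = n9969 := d9_1 D10815 (iv D9969) (iv F39338)
theorem F42562 : act 5 n10815 = n9965 := d22_2 (iv F39339) D10815 (iv D9965)
theorem F42563 : act 7 n10815 = n10815 := d24_2 D9964 D10815 (iv D10815) (iv D9964) F31210
def n10816 : Q := act 8 n9964
theorem D10816 : act 8 n9964 = n10816 := rfl
theorem F42564 : act 0 n10816 = n10816 := d7_1 D10816 (iv D10816) F39337
theorem F42565 : act 1 n10816 = n9970 := d14_1 D10816 (iv D9970) (iv F39338)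
theorem F42566 : act 5 n10816 = n9966 := d32_1 D10816 (iv D9966) (iv F39339)
theorem F42567 : act 7 n10816 = n10816 := d35_1 D10816 (iv D10816) (iv D9964) F31211 D9964
def n10817 : Q := act 2 n9965
theorem D10817 : act 2 n9965 = n10817 := rfl
theorem F42568 : act 0 n10817 = n10817 := d1_1 D10817 (iv D10817) F39340
theorem F42569 : act 1 n10817 = n10002 := d8_1 D10817 (iv D10002) F31338 (iv F31229) (iv F39341)
theorem F42570 : act 6 n10817 = n10817 := d18_2 F39342 D10817 (iv D10817)
theorem F42571 : act 7 n10817 = n10817 := d19_2 F39343 D10817 (iv D10817)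
def n10818 : Q := act 4 n9965
theorem D10818 : act 4 n9965 = n10818 := rfl
theorem F42572 : act 0 n10818 = n10818 := d3_1 D10818 (iv D10818) F39340
theorem F42573 : act 1 n10818 = n9971 := d10_1 D10818 (iv D9971) (iv F39341)
theorem F42574 : act 3 n10818 = n10818 := d21_1 D10818 (iv D10818) (iv D9965) F31214 D9965
theorem F42575 : act 6 n10818 = n10818 := d27_2 F39342 D10818 (iv D10818)
theorem F42576 : act 7 n10818 = n10818 := d28_2 F39343 D10818 (iv D10818)
def n10819 : Q := act 8 n9965
theorem D10819 : act 8 n9965 = n10819 := rfl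
theorem F42577 : act 0 n10819 = n10819 := d7_1 D10819 (iv D10819) F39340
theorem F42578 : act 1 n10819 = n9972 := d14_1 D10819 (iv D9972) (iv F39341)
theorem F42579 : act 3 n10819 = n9966 := d25_1 D10819 (iv D9966) D9965
theorem F42580 : act 6 n10819 = n10819 := d34_1 D10819 (iv D10819) F39342
def n10820 : Q := act 8 n9967
theorem D10820 : act 8 n9967 = n10820 := rfl
theorem F42581 : act 0 n10820 = n9977 := d7_1 D10820 (iv D9977) (iv F39349)
theorem F42582 : act 2 n10820 = n9975 := d20_1 D10820 (iv D9975) (iv F39350)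
theorem F42583 : act 3 n10820 = n10503 := d25_1 D10820 F41413 (iv F39351)
theorem F42584 : act 4 n10820 = n9970 := d29_1 D10820 (iv D9970) (iv F39352)
theorem F42585 : act 5 n10820 = n10820 := d32_1 D10820 (iv D10820) F39353
theorem F42586 : act 6 n10820 = n10504 := d34_1 D10820 F41417 (iv F39354)
theorem F42587 : act 7 n10820 = n10820 := d35_1 D10820 (iv D10820) (iv D9967) F31219 D9967
def n10821 : Q := act 3 n9968
theorem D10821 : act 3 n9968 = n10821 := rfl
theorem F42588 : act 0 n10821 = n9978 := d2_1 D10821 (iv D9978) (iv F39355)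
theorem F42589 : act 2 n10821 = n10011 := d15_1 D10821 (iv D10011) F31360 (iv F31245) (iv F39356)
theorem F42590 : act 4 n10821 = n10687 := d21_2 (iv F39357) D10821 (iv D10687) F35785 D9465
theorem F42591 : act 5 n10821 = n10821 := d22_2 F39358 D10821 (iv D10821)
theorem F42592 : act 6 n10821 = n9969 := d23_2 (iv F39359) D10821 (iv D9969)
theorem F42593 : act 7 n10821 = n10821 := d24_2 D9968 D10821 (iv D10821) (iv D9968) F31222
def n10822 : Q := act 8 n9968
theorem D10822 : act 8 n9968 = n10822 := rfl
theorem F42594 : act 0 n10822 = n9979 := d7_1 D10822 (iv D9979) (iv F39355)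
theorem F42595 : act 2 n10822 = n9976 := d20_1 D10822 (iv D9976) (iv F39356)
theorem F42596 : act 4 n10822 = n10504 := d29_1 D10822 F41417 (iv F39357)
theorem F42597 : act 5 n10822 = n10822 := d32_1 D10822 (iv D10822) F39358
theorem F42598 : act 6 n10822 = n9970 := d34_1 D10822 (iv D9970) (iv F39359)
theorem F42599 : act 7 n10822 = n10822 := d35_1 D10822 (iv D10822) (iv D9968) F31224 D9968
def n10823 : Q := act 4 n9969
theorem D10823 : act 4 n9969 = n10823 := rfl
theorem F42600 : act 0 n10823 = n9980 := d3_1 D10823 (iv D9980) (iv F39360)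
theorem F42601 : act 2 n10823 = n10013 := d16_1 D10823 (iv D10013) (iv F39361)
theorem F42602 : act 3 n10823 = n10686 := d21_1 D10823 F42123 (iv F39351) F39352 D9969
theorem F42603 : act 6 n10823 = n10687 := d27_2 F42592 D10823 (iv F42590)
theorem F42604 : act 7 n10823 = n10823 := d28_2 F39363 D10823 (iv D10823)
def n10824 : Q := act 8 n9969
theorem D10824 : act 8 n9969 = n10824 := rfl
theorem F42605 : act 0 n10824 = n9981 := d7_1 D10824 (iv D9981) (iv F39360)
theorem F42606 : act 2 n10824 = n10014 := d20_1 D10824 (iv D10014) (iv F39361)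
theorem F42607 : act 3 n10824 = n9970 := d25_1 D10824 (iv D9970) D9969
theorem F42608 : act 5 n10824 = n9972 := d32_1 D10824 (iv D9972) (iv F39362)
def n10825 : Q := act 5 n9971
theorem D10825 : act 5 n9971 = n10825 := rfl
theorem F42609 : act 0 n10825 = n9982 := d4_1 D10825 (iv D9982) (iv F39368)
theorem F42610 : act 2 n10825 = n10015 := d17_1 D10825 (iv D10015) (iv F39369)
theorem F42611 : act 3 n10825 = n10825 := d22_1 D10825 (iv D10825) F39370
theorem F42612 : act 7 n10825 = n10825 := d31_2 F39372 D10825 (iv D10825)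
def n10826 : Q := act 8 n9971
theorem D10826 : act 8 n9971 = n10826 := rfl
theorem F42613 : act 0 n10826 = n9983 := d7_1 D10826 (iv D9983) (iv F39368)
theorem F42614 : act 2 n10826 = n10016 := d20_1 D10826 (iv D10016) (iv F39369)
theorem F42615 : act 3 n10826 = n10826 := d25_1 D10826 (iv D10826) F39370
theorem F42616 : act 4 n10826 = n9972 := d29_1 D10826 (iv D9972) D9971
theorem F42617 : act 6 n10826 = n10826 := d34_1 D10826 (iv D10826) F39371
def n10827 : Q := act 7 n9972
theorem D10827 : act 7 n9972 = n10827 := rfl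
theorem F42618 : act 0 n10827 = n9984 := d6_1 D10827 (iv D9984) (iv F39373)
theorem F42619 : act 2 n10827 = n10017 := d19_1 D10827 (iv D10017) (iv F39374)
theorem F42620 : act 3 n10827 = n10827 := d24_1 D10827 (iv D10827) F39375 F31236 (iv F39375)
theorem F42621 : act 6 n10827 = n10827 := d33_1 D10827 (iv D10827) F39376
theorem F42622 : act 8 n10827 = n10827 := d35_2 D9972 D10827 (iv D10827) (iv D9972) F31231
def n10828 : Q := act 3 n9973
theorem D10828 : act 3 n9973 = n10828 := rfl
theorem F42623 : act 0 n10828 = n9985 := d2_1 D10828 (iv D9985) (iv F39377)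
theorem F42624 : act 2 n10828 = n10626 := d15_1 D10828 (iv D10626) F35318 D9465 (iv F39378)
theorem F42625 : act 4 n10828 = n10019 := d21_2 (iv F39379) D10828 (iv D10019) F31383 (iv F31245)
theorem F42626 : act 5 n10828 = n10627 := d22_2 (iv F39380) D10828 F41886
theorem F42627 : act 6 n10828 = n9974 := d23_2 (iv F39381) D10828 (iv D9974)
theorem F42628 : act 7 n10828 = n10828 := d24_2 D9973 D10828 (iv D10828) (iv D9973) F31238
def n10829 : Q := act 8 n9973
theorem D10829 : act 8 n9973 = n10829 := rfl
theorem F42629 : act 0 n10829 = n9986 := d7_1 D10829 (iv D9986) (iv F39377)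
theorem F42630 : act 2 n10829 = n10504 := d20_1 D10829 F41417 (iv F39378)
theorem F42631 : act 4 n10829 = n9976 := d29_1 D10829 (iv D9976) (iv F39379)
theorem F42632 : act 5 n10829 = n10505 := d32_1 D10829 F41422 (iv F39380)
theorem F42633 : act 6 n10829 = n9975 := d34_1 D10829 (iv D9975) (iv F39381)
theorem F42634 : act 7 n10829 = n10829 := d35_1 D10829 (iv D10829) (iv D9973) F31240 D9973
def n10830 : Q := act 2 n9974
theorem D10830 : act 2 n9974 = n10830 := rfl
theorem F42635 : act 0 n10830 = n9987 := d1_1 D10830 (iv D9987) (iv F39382)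
theorem F42636 : act 3 n10830 = n10625 := d15_2 D9974 D10830 F41879 (iv F39351) F39350
theorem F42637 : act 4 n10830 = n10021 := d16_2 (iv F39383) D10830 (iv D10021)
theorem F42638 : act 5 n10830 = n10830 := d17_2 F39384 D10830 (iv D10830)
theorem F42639 : act 6 n10830 = n10626 := d18_2 F42627 D10830 (iv F42624)
theorem F42640 : act 7 n10830 = n10830 := d19_2 F39385 D10830 (iv D10830)
def n10831 : Q := act 8 n9974
theorem D10831 : act 8 n9974 = n10831 := rfl
theorem F42641 : act 0 n10831 = n9988 := d7_1 D10831 (iv D9988) (iv F39382)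
theorem F42642 : act 3 n10831 = n9975 := d25_1 D10831 (iv D9975) D9974
theorem F42643 : act 4 n10831 = n10022 := d29_1 D10831 (iv D10022) (iv F39383)
theorem F42644 : act 5 n10831 = n10831 := d32_1 D10831 (iv D10831) F39384
def n10832 : Q := act 8 n9978
theorem D10832 : act 8 n9978 = n10832 := rfl
theorem F42645 : act 1 n10832 = n10832 := d14_1 D10832 (iv D10832) F39402
theorem F42646 : act 2 n10832 = n10034 := d20_1 D10832 (iv D10034) (iv F39403)
theorem F42647 : act 3 n10832 = n9979 := d25_1 D10832 (iv D9979) D9978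
theorem F42648 : act 4 n10832 = n10522 := d29_1 D10832 F41495 (iv F39404)
theorem F42649 : act 5 n10832 = n10832 := d32_1 D10832 (iv D10832) F39405
theorem F42650 : act 6 n10832 = n9981 := d34_1 D10832 (iv D9981) (iv F39406)
def n10833 : Q := act 5 n9980
theorem D10833 : act 5 n9980 = n10833 := rfl
theorem F42651 : act 1 n10833 = n10833 := d11_1 D10833 (iv D10833) F39414
theorem F42652 : act 2 n10833 = n10035 := d17_1 D10833 (iv D10035) (iv F39415)
theorem F42653 : act 3 n10833 = n10690 := d22_1 D10833 F42139 (iv F39416)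
theorem F42654 : act 4 n10833 = n9982 := d26_1 D10833 (iv D9982) (iv D8202) (iv F31271) D9980
theorem F42655 : act 6 n10833 = n10691 := d30_2 (iv F39417) D10833 F42142 F35810 (iv F35816)
theorem F42656 : act 7 n10833 = n10833 := d31_2 F39418 D10833 (iv D10833)
def n10834 : Q := act 8 n9980
theorem D10834 : act 8 n9980 = n10834 := rfl
theorem F42657 : act 1 n10834 = n10834 := d14_1 D10834 (iv D10834) F39414
theorem F42658 : act 2 n10834 = n10036 := d20_1 D10834 (iv D10036) (iv F39415)
theorem F42659 : act 3 n10834 = n10521 := d25_1 D10834 F41492 (iv F39416)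
theorem F42660 : act 4 n10834 = n9981 := d29_1 D10834 (iv D9981) D9980
theorem F42661 : act 6 n10834 = n10522 := d34_1 D10834 F41495 (iv F39417)
def n10835 : Q := act 7 n9981
theorem D10835 : act 7 n9981 = n10835 := rfl
theorem F42662 : act 1 n10835 = n10835 := d13_1 D10835 (iv D10835) F39419
theorem F42663 : act 2 n10835 = n10037 := d19_1 D10835 (iv D10037) (iv F39420)
theorem F42664 : act 3 n10835 = n10835 := d24_1 D10835 (iv D10835) F39421 F31276 (iv F39421)
theorem F42665 : act 5 n10835 = n9984 := d31_1 D10835 (iv D9984) (iv F39422)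
theorem F42666 : act 8 n10835 = n10835 := d35_2 D9981 D10835 (iv D10835) (iv D9981) F31272
def n10836 : Q := act 6 n9982
theorem D10836 : act 6 n9982 = n10836 := rfl
theorem F42667 : act 1 n10836 = n10836 := d12_1 D10836 (iv D10836) F39423
theorem F42668 : act 2 n10836 = n10038 := d18_1 D10836 (iv D10038) (iv F39424)
theorem F42669 : act 3 n10836 = n10836 := d23_1 D10836 (iv D10836) F39425
theorem F42670 : act 4 n10836 = n10691 := d27_1 D10836 (iv F42655) F42654
theorem F42671 : act 5 n10836 = n10836 := d30_1 D10836 (iv D10836) (iv D9982) F31280 D9982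
theorem F42672 : act 7 n10836 = n10836 := d33_2 F39426 D10836 (iv D10836)
def n10837 : Q := act 8 n9982
theorem D10837 : act 8 n9982 = n10837 := rfl
theorem F42673 : act 1 n10837 = n10837 := d14_1 D10837 (iv D10837) F39423
theorem F42674 : act 2 n10837 = n10039 := d20_1 D10837 (iv D10039) (iv F39424)
theorem F42675 : act 3 n10837 = n10837 := d25_1 D10837 (iv D10837) F39425
theorem F42676 : act 5 n10837 = n9983 := d32_1 D10837 (iv D9983) D9982
def n10838 : Q := act 7 n9983
theorem D10838 : act 7 n9983 = n10838 := rfl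
theorem F42677 : act 1 n10838 = n10838 := d13_1 D10838 (iv D10838) F39427
theorem F42678 : act 2 n10838 = n10040 := d19_1 D10838 (iv D10040) (iv F39428)
theorem F42679 : act 4 n10838 = n9984 := d28_1 D10838 (iv D9984) (iv F39430)
theorem F42680 : act 6 n10838 = n10838 := d33_1 D10838 (iv D10838) F39431
theorem F42681 : act 8 n10838 = n10838 := d35_2 D9983 D10838 (iv D10838) (iv D9983) F31281
def n10839 : Q := act 8 n9985
theorem D10839 : act 8 n9985 = n10839 := rfl
theorem F42682 : act 1 n10839 = n9992 := d14_1 D10839 (iv D9992) (iv F39437)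
theorem F42683 : act 2 n10839 = n10433 := d20_1 D10839 F41127 (iv F39438)
theorem F42684 : act 3 n10839 = n9986 := d25_1 D10839 (iv D9986) D9985
theorem F42685 : act 4 n10839 = n10044 := d29_1 D10839 (iv D10044) (iv F39439)
theorem F42686 : act 5 n10839 = n10434 := d32_1 D10839 F41130 (iv F39440)
theorem F42687 : act 6 n10839 = n9988 := d34_1 D10839 (iv D9988) (iv F39441)
def n10840 : Q := act 1 n9987
theorem D10840 : act 1 n9987 = n10840 := rfl
theorem F42688 : act 2 n10840 = n9993 := d8_2 D9987 D10840 (iv D9993) (iv D8212) (iv F31294)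
theorem F42689 : act 3 n10840 = n10570 := d9_2 (iv F39449) D10840 F41710
theorem F42690 : act 4 n10840 = n10045 := d10_2 (iv F39450) D10840 (iv D10045)
theorem F42691 : act 5 n10840 = n10840 := d11_2 F39451 D10840 (iv D10840)
theorem F42692 : act 6 n10840 = n10571 := d12_2 (iv F39452) D10840 F41714
theorem F42693 : act 7 n10840 = n10840 := d13_2 F39453 D10840 (iv D10840)
def n10841 : Q := act 8 n9987
theorem D10841 : act 8 n9987 = n10841 := rfl
theorem F42694 : act 2 n10841 = n9988 := d20_1 D10841 (iv D9988) D9987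
theorem F42695 : act 3 n10841 = n10432 := d25_1 D10841 F41125 (iv F39449)
theorem F42696 : act 4 n10841 = n10046 := d29_1 D10841 (iv D10046) (iv F39450)
theorem F42697 : act 5 n10841 = n10841 := d32_1 D10841 (iv D10841) F39451
theorem F42698 : act 6 n10841 = n10433 := d34_1 D10841 F41127 (iv F39452)
def n10842 : Q := act 7 n9988
theorem D10842 : act 7 n9988 = n10842 := rfl
theorem F42699 : act 1 n10842 = n9995 := d13_1 D10842 (iv D9995) (iv F39454)
theorem F42700 : act 3 n10842 = n10842 := d24_1 D10842 (iv D10842) F39455 F31301 (iv F39455)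
theorem F42701 : act 4 n10842 = n10047 := d28_1 D10842 (iv D10047) (iv F39456)
theorem F42702 : act 5 n10842 = n10842 := d31_1 D10842 (iv D10842) F39457
theorem F42703 : act 8 n10842 = n10842 := d35_2 D9988 D10842 (iv D10842) (iv D9988) F31297
def n10843 : Q := act 2 n9989
theorem D10843 : act 2 n9989 = n10843 := rfl
theorem F42704 : act 1 n10843 = n10572 := d8_1 D10843 (iv D10572) F34840 D9361 (iv F39458)
theorem F42705 : act 3 n10843 = n10843 := d15_2 D9989 D10843 (iv D10843) (iv D9989) F31307
theorem F42706 : act 5 n10843 = n9991 := d17_2 (iv F39459) D10843 (iv D9991)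
theorem F42707 : act 6 n10843 = n10843 := d18_2 F39460 D10843 (iv D10843)
theorem F42708 : act 7 n10843 = n10843 := d19_2 F39461 D10843 (iv D10843)
theorem F42709 : act 4 n10187 = n10843 := d26_5 F42706 F39469 F38401 (iv F32097) (iv F40256)
def n10844 : Q := act 4 n9989
theorem D10844 : act 4 n9989 = n10844 := rfl
theorem F42710 : act 0 n10844 = n10843 := d3_1 D10844 (iv F42709) F40255
theorem F42711 : act 1 n10844 = n10589 := d10_1 D10844 F41770 (iv F39458)
theorem F42712 : act 2 n10844 = n10187 := d16_1 D10844 F42709 (iv D10843)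
theorem F42713 : act 3 n10844 = n10844 := d21_1 D10844 (iv D10844) (iv D9989) F31308 D9989
theorem F42714 : act 5 n10844 = n10048 := d26_2 (iv F39459) D10844 (iv D10048) F31462 (iv F31311)
theorem F42715 : act 6 n10844 = n10844 := d27_2 F39460 D10844 (iv D10844)
theorem F42716 : act 7 n10844 = n10844 := d28_2 F39461 D10844 (iv D10844)
def n10845 : Q := act 8 n9989
theorem D10845 : act 8 n9989 = n10845 := rfl
theorem F42717 : act 1 n10845 = n10434 := d14_1 D10845 F41130 (iv F39458)
theorem F42718 : act 3 n10845 = n9990 := d25_1 D10845 (iv D9990) D9989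
theorem F42719 : act 5 n10845 = n9992 := d32_1 D10845 (iv D9992) (iv F39459)
theorem F42720 : act 6 n10845 = n10845 := d34_1 D10845 (iv D10845) F39460
def n10846 : Q := act 1 n9991
theorem D10846 : act 1 n9991 = n10846 := rfl
theorem F42721 : act 2 n10846 = n10571 := d8_2 D9991 D10846 F41714 (iv F39438) F39437
theorem F42722 : act 3 n10846 = n10846 := d9_2 F39468 D10846 (iv D10846)
theorem F42723 : act 4 n10846 = n10050 := d10_2 (iv F39469) D10846 (iv D10050)
theorem F42724 : act 5 n10846 = n10572 := d11_2 F42706 D10846 (iv F42704)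
theorem F42725 : act 6 n10846 = n9993 := d12_2 (iv F39470) D10846 (iv D9993)
theorem F42726 : act 7 n10846 = n10846 := d13_2 F39471 D10846 (iv D10846)
def n10847 : Q := act 8 n9991
theorem D10847 : act 8 n9991 = n10847 := rfl
theorem F42727 : act 2 n10847 = n9992 := d20_1 D10847 (iv D9992) D9991
theorem F42728 : act 3 n10847 = n10847 := d25_1 D10847 (iv D10847) F39468
theorem F42729 : act 4 n10847 = n10051 := d29_1 D10847 (iv D10051) (iv F39469)
theorem F42730 : act 6 n10847 = n9994 := d34_1 D10847 (iv D9994) (iv F39470)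
def n10848 : Q := act 7 n9992
theorem D10848 : act 7 n9992 = n10848 := rfl
theorem F42731 : act 3 n10848 = n10848 := d24_1 D10848 (iv D10848) F39472 F31317 (iv F39472)
theorem F42732 : act 4 n10848 = n10052 := d28_1 D10848 (iv D10052) (iv F39473)
theorem F42733 : act 6 n10848 = n9995 := d33_1 D10848 (iv D9995) (iv F39474)
theorem F42734 : act 8 n10848 = n10848 := d35_2 D9992 D10848 (iv D10848) (iv D9992) F31313
def n10849 : Q := act 0 n9993
theorem D10849 : act 0 n9993 = n10849 := rfl
theorem F42735 : act 3 n10849 = n10849 := d2_2 F39475 D10849 (iv D10849)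
theorem F42736 : act 4 n10849 = n10053 := d3_2 (iv F39476) D10849 (iv D10053)
theorem F42737 : act 5 n10849 = n10849 := d4_2 F39477 D10849 (iv D10849)
theorem F42738 : act 7 n10849 = n10849 := d6_2 F39478 D10849 (iv D10849)
def n10850 : Q := act 8 n9993
theorem D10850 : act 8 n9993 = n10850 := rfl
theorem F42739 : act 1 n10850 = n9994 := d14_1 D10850 (iv D9994) D9993
theorem F42740 : act 3 n10850 = n10850 := d25_1 D10850 (iv D10850) F39475
theorem F42741 : act 4 n10850 = n10054 := d29_1 D10850 (iv D10054) (iv F39476)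
theorem F42742 : act 5 n10850 = n10850 := d32_1 D10850 (iv D10850) F39477
def n10851 : Q := act 7 n9994
theorem D10851 : act 7 n9994 = n10851 := rfl
theorem F42743 : act 2 n10851 = n9995 := d19_1 D10851 (iv D9995) (iv F39479)
theorem F42744 : act 4 n10851 = n10055 := d28_1 D10851 (iv D10055) (iv F39481)
theorem F42745 : act 5 n10851 = n10851 := d31_1 D10851 (iv D10851) F39482
theorem F42746 : act 8 n10851 = n10851 := d35_2 D9994 D10851 (iv D10851) (iv D9994) F31321
def n10852 : Q := act 2 n9996
theorem D10852 : act 2 n9996 = n10852 := rfl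
theorem F42747 : act 0 n10852 = n10056 := d1_1 D10852 (iv D10056) (iv F39487)
theorem F42748 : act 1 n10852 = n10852 := d8_1 D10852 (iv D10852) F39488 F31347 (iv F39488)
theorem F42749 : act 4 n10852 = n10852 := d16_2 F39489 D10852 (iv D10852)
theorem F42750 : act 5 n10852 = n10235 := d17_2 (iv F39490) D10852 (iv D10235)
theorem F42751 : act 8 n10852 = n10700 := d20_2 (iv F39491) D10852 (iv D10700)
def n10853 : Q := act 6 n9996
theorem D10853 : act 6 n9996 = n10853 := rfl
theorem F42752 : act 0 n10853 = n10057 := d5_1 D10853 (iv D10057) (iv F39487)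
theorem F42753 : act 1 n10853 = n10005 := d12_1 D10853 (iv D10005) (iv F39488)
theorem F42754 : act 3 n10853 = n9997 := d23_1 D10853 (iv D9997) D9996
theorem F42755 : act 4 n10853 = n10853 := d27_1 D10853 (iv D10853) F39489
theorem F42756 : act 8 n10853 = n10457 := d34_2 (iv F39491) D10853 F41220
def n10854 : Q := act 7 n9996
theorem D10854 : act 7 n9996 = n10854 := rfl
theorem F42757 : act 0 n10854 = n10058 := d6_1 D10854 (iv D10058) (iv F39487)
theorem F42758 : act 1 n10854 = n10006 := d13_1 D10854 (iv D10006) (iv F39488)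
theorem F42759 : act 4 n10854 = n10854 := d28_1 D10854 (iv D10854) F39489
theorem F42760 : act 5 n10854 = n10237 := d31_1 D10854 (iv D10237) (iv F39490)
def n10855 : Q := act 5 n9997
theorem D10855 : act 5 n9997 = n10855 := rfl
theorem F42761 : act 0 n10855 = n10059 := d4_1 D10855 (iv D10059) (iv F39492)
theorem F42762 : act 1 n10855 = n10007 := d11_1 D10855 (iv D10007) (iv F39493)
theorem F42763 : act 4 n10855 = n10855 := d26_1 D10855 (iv D10855) F39494 F31332 (iv F39494)
theorem F42764 : act 6 n10855 = n10238 := d30_2 D9997 D10855 (iv D10238) (iv D8467) (iv F31327)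
theorem F42765 : act 8 n10855 = n10156 := d32_2 (iv F39495) D10855 F40099
def n10856 : Q := act 7 n9997
theorem D10856 : act 7 n9997 = n10856 := rfl
theorem F42766 : act 0 n10856 = n10060 := d6_1 D10856 (iv D10060) (iv F39492)
theorem F42767 : act 1 n10856 = n10008 := d13_1 D10856 (iv D10008) (iv F39493)
theorem F42768 : act 4 n10856 = n9999 := d28_1 D10856 (iv D9999) (iv F39494)
theorem F42769 : act 6 n10856 = n9998 := d33_1 D10856 (iv D9998) D9997
def n10857 : Q := act 3 n9998
theorem D10857 : act 3 n9998 = n10857 := rfl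
theorem F42770 : act 0 n10857 = n10061 := d2_1 D10857 (iv D10061) (iv F39496)
theorem F42771 : act 1 n10857 = n10009 := d9_1 D10857 (iv D10009) (iv F39497)
theorem F42772 : act 5 n10857 = n10240 := d22_2 (iv F39499) D10857 (iv D10240)
def n10858 : Q := act 8 n9998
theorem D10858 : act 8 n9998 = n10858 := rfl
theorem F42773 : act 0 n10858 = n10062 := d7_1 D10858 (iv D10062) (iv F39496)
theorem F42774 : act 1 n10858 = n10010 := d14_1 D10858 (iv D10010) (iv F39497)
theorem F42775 : act 4 n10858 = n10001 := d29_1 D10858 (iv D10001) (iv F39498)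
theorem F42776 : act 5 n10858 = n10241 := d32_1 D10858 (iv D10241) (iv F39499)
theorem F42777 : act 7 n10858 = n10703 := d35_1 D10858 (iv D10703) (iv D9875) (iv F31328) D9998
def n10859 : Q := act 3 n9999
theorem D10859 : act 3 n9999 = n10859 := rfl
theorem F42778 : act 0 n10859 = n10063 := d2_1 D10859 (iv D10063) (iv F39500)
theorem F42779 : act 1 n10859 = n10011 := d9_1 D10859 (iv D10011) (iv F39501)
theorem F42780 : act 5 n10859 = n10859 := d22_2 F39502 D10859 (iv D10859)
theorem F42781 : act 6 n10859 = n10000 := d23_2 (iv F39503) D10859 (iv D10000)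
theorem F42782 : act 7 n10859 = n10859 := d24_2 D9999 D10859 (iv D10859) (iv D9999) F31331
def n10860 : Q := act 8 n9999
theorem D10860 : act 8 n9999 = n10860 := rfl
theorem F42783 : act 0 n10860 = n10064 := d7_1 D10860 (iv D10064) (iv F39500)
theorem F42784 : act 1 n10860 = n10012 := d14_1 D10860 (iv D10012) (iv F39501)
theorem F42785 : act 5 n10860 = n10860 := d32_1 D10860 (iv D10860) F39502
theorem F42786 : act 6 n10860 = n10001 := d34_1 D10860 (iv D10001) (iv F39503)
theorem F42787 : act 7 n10860 = n10506 := d35_1 D10860 (iv D10506) F33688 F38435 D9999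
def n10861 : Q := act 2 n10000
theorem D10861 : act 2 n10000 = n10861 := rfl
theorem F42788 : act 0 n10861 = n10065 := d1_1 D10861 (iv D10065) (iv F39504)
theorem F42789 : act 5 n10861 = n10002 := d17_2 (iv F39506) D10861 (iv D10002)
theorem F42790 : act 7 n10861 = n10861 := d19_2 F39507 D10861 (iv D10861)
def n10862 : Q := act 4 n10000
theorem D10862 : act 4 n10000 = n10862 := rfl
theorem F42791 : act 0 n10862 = n10066 := d3_1 D10862 (iv D10066) (iv F39504)
theorem F42792 : act 1 n10862 = n10013 := d10_1 D10862 (iv D10013) (iv F39505)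
theorem F42793 : act 7 n10862 = n10862 := d28_2 F39507 D10862 (iv D10862)
def n10863 : Q := act 8 n10000
theorem D10863 : act 8 n10000 = n10863 := rfl
theorem F42794 : act 0 n10863 = n10067 := d7_1 D10863 (iv D10067) (iv F39504)
theorem F42795 : act 1 n10863 = n10014 := d14_1 D10863 (iv D10014) (iv F39505)
theorem F42796 : act 3 n10863 = n10001 := d25_1 D10863 (iv D10001) D10000
theorem F42797 : act 5 n10863 = n10004 := d32_1 D10863 (iv D10004) (iv F39506)
def n10864 : Q := act 4 n10002
theorem D10864 : act 4 n10002 = n10864 := rfl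
theorem F42798 : act 0 n10864 = n10068 := d3_1 D10864 (iv D10068) (iv F39512)
theorem F42799 : act 2 n10864 = n10003 := d16_1 D10864 (iv D10003) D10002
theorem F42800 : act 6 n10864 = n10864 := d27_2 F39513 D10864 (iv D10864)
theorem F42801 : act 7 n10864 = n10864 := d28_2 F39514 D10864 (iv D10864)
def n10865 : Q := act 8 n10002
theorem D10865 : act 8 n10002 = n10865 := rfl
theorem F42802 : act 0 n10865 = n10069 := d7_1 D10865 (iv D10069) (iv F39512)
theorem F42803 : act 2 n10865 = n10004 := d20_1 D10865 (iv D10004) D10002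
theorem F42804 : act 6 n10865 = n10865 := d34_1 D10865 (iv D10865) F39513
def n10866 : Q := act 5 n10003
theorem D10866 : act 5 n10003 = n10866 := rfl
theorem F42805 : act 0 n10866 = n10070 := d4_1 D10866 (iv D10070) (iv F39515)
theorem F42806 : act 1 n10866 = n10015 := d11_1 D10866 (iv D10015) (iv F39516)
theorem F42807 : act 3 n10866 = n10249 := d22_1 D10866 (iv D10249) (iv F39517)
theorem F42808 : act 7 n10866 = n10866 := d31_2 F39519 D10866 (iv D10866)
def n10867 : Q := act 8 n10003
theorem D10867 : act 8 n10003 = n10867 := rfl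
theorem F42809 : act 0 n10867 = n10071 := d7_1 D10867 (iv D10071) (iv F39515)
theorem F42810 : act 1 n10867 = n10016 := d14_1 D10867 (iv D10016) (iv F39516)
theorem F42811 : act 3 n10867 = n10250 := d25_1 D10867 (iv D10250) (iv F39517)
theorem F42812 : act 4 n10867 = n10004 := d29_1 D10867 (iv D10004) D10003
theorem F42813 : act 6 n10867 = n10867 := d34_1 D10867 (iv D10867) F39518
def n10868 : Q := act 7 n10004
theorem D10868 : act 7 n10004 = n10868 := rfl
theorem F42814 : act 0 n10868 = n10072 := d6_1 D10868 (iv D10072) (iv F39520)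
theorem F42815 : act 1 n10868 = n10017 := d13_1 D10868 (iv D10017) (iv F39521)
theorem F42816 : act 3 n10868 = n10711 := d24_1 D10868 (iv D10711) F39073 (iv F31345) (iv F39522)
theorem F42817 : act 6 n10868 = n10868 := d33_1 D10868 (iv D10868) F39523
theorem F42818 : act 8 n10868 = n10868 := d35_2 D10004 D10868 (iv D10868) (iv D10004) F31340
def n10869 : Q := act 5 n10005
theorem D10869 : act 5 n10005 = n10869 := rfl
theorem F42819 : act 0 n10869 = n10023 := d4_1 D10869 (iv D10023) (iv F39524)
theorem F42820 : act 2 n10869 = n10869 := d17_1 D10869 (iv D10869) F39525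
theorem F42821 : act 3 n10869 = n10007 := d22_1 D10869 (iv D10007) (iv F39526)
theorem F42822 : act 6 n10869 = n10252 := d30_2 D10005 D10869 (iv D10252) (iv D8475) (iv F31349)
theorem F42823 : act 8 n10869 = n10166 := d32_2 (iv F39528) D10869 F40146
theorem F42824 : act 4 n10584 = n10869 := d29_3 F42823 F40145 D10584
def n10870 : Q := act 7 n10005
theorem D10870 : act 7 n10005 = n10870 := rfl
theorem F42825 : act 0 n10870 = n10024 := d6_1 D10870 (iv D10024) (iv F39524)
theorem F42826 : act 2 n10870 = n10870 := d19_1 D10870 (iv D10870) F39525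
theorem F42827 : act 4 n10870 = n10870 := d28_1 D10870 (iv D10870) F39527
theorem F42828 : act 6 n10870 = n10006 := d33_1 D10870 (iv D10006) D10005
def n10871 : Q := act 3 n10006
theorem D10871 : act 3 n10006 = n10871 := rfl
theorem F42829 : act 0 n10871 = n10025 := d2_1 D10871 (iv D10025) (iv F39529)
theorem F42830 : act 5 n10871 = n10254 := d22_2 (iv F39532) D10871 (iv D10254)
theorem F42831 : act 7 n10871 = n10009 := d24_2 D10006 D10871 (iv D10009) (iv D8221) D8219
def n10872 : Q := act 8 n10006
theorem D10872 : act 8 n10006 = n10872 := rfl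
theorem F42832 : act 0 n10872 = n10026 := d7_1 D10872 (iv D10026) (iv F39529)
theorem F42833 : act 2 n10872 = n10872 := d20_1 D10872 (iv D10872) F39530
theorem F42834 : act 4 n10872 = n10872 := d29_1 D10872 (iv D10872) F39531
theorem F42835 : act 5 n10872 = n10255 := d32_1 D10872 (iv D10255) (iv F39532)
theorem F42836 : act 7 n10872 = n10713 := d35_1 D10872 (iv D10713) (iv D9881) (iv F31350) D10006
def n10873 : Q := act 7 n10007
theorem D10873 : act 7 n10007 = n10873 := rfl
theorem F42837 : act 0 n10873 = n10027 := d6_1 D10873 (iv D10027) (iv F39533)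
theorem F42838 : act 2 n10873 = n10018 := d19_1 D10873 (iv D10018) (iv F39534)
theorem F42839 : act 4 n10873 = n10873 := d28_1 D10873 (iv D10873) F39535
theorem F42840 : act 5 n10873 = n10008 := d31_1 D10873 (iv D10008) D10007
theorem F42841 : act 6 n10873 = n10256 := d33_1 D10873 (iv D10256) (iv F39536)
def n10874 : Q := act 3 n10008
theorem D10874 : act 3 n10008 = n10874 := rfl
theorem F42842 : act 0 n10874 = n10028 := d2_1 D10874 (iv D10028) (iv F39538)
theorem F42843 : act 6 n10874 = n10009 := d23_2 (iv F39541) D10874 (iv D10009)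
def n10875 : Q := act 8 n10008
theorem D10875 : act 8 n10008 = n10875 := rfl
theorem F42844 : act 0 n10875 = n10029 := d7_1 D10875 (iv D10029) (iv F39538)
theorem F42845 : act 2 n10875 = n10020 := d20_1 D10875 (iv D10020) (iv F39539)
theorem F42846 : act 4 n10875 = n10012 := d29_1 D10875 (iv D10012) (iv F39540)
theorem F42847 : act 6 n10875 = n10010 := d34_1 D10875 (iv D10010) (iv F39541)
theorem F42848 : act 7 n10875 = n10435 := d35_1 D10875 (iv D10435) F32931 F38416 D10008
def n10876 : Q := act 2 n10009
theorem D10876 : act 2 n10009 = n10876 := rfl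
theorem F42849 : act 0 n10876 = n10030 := d1_1 D10876 (iv D10030) (iv F39542)
theorem F42850 : act 3 n10876 = n10021 := d15_2 D10009 D10876 (iv D10021) (iv D8229) (iv F31356)
theorem F42851 : act 5 n10876 = n10259 := d17_2 (iv F39543) D10876 (iv D10259)
def n10877 : Q := act 4 n10009
theorem D10877 : act 4 n10009 = n10877 := rfl
theorem F42852 : act 0 n10877 = n10031 := d3_1 D10877 (iv D10031) (iv F39542)
theorem F42853 : act 3 n10877 = n10013 := d21_1 D10877 (iv D10013) (iv D8223) (iv F31357) D10009
def n10878 : Q := act 8 n10009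
theorem D10878 : act 8 n10009 = n10878 := rfl
theorem F42854 : act 0 n10878 = n10032 := d7_1 D10878 (iv D10032) (iv F39542)
theorem F42855 : act 3 n10878 = n10010 := d25_1 D10878 (iv D10010) D10009
theorem F42856 : act 5 n10878 = n10261 := d32_1 D10878 (iv D10261) (iv F39543)
def n10879 : Q := act 4 n10011
theorem D10879 : act 4 n10011 = n10879 := rfl
theorem F42857 : act 0 n10879 = n10033 := d3_1 D10879 (iv D10033) (iv F39549)
theorem F42858 : act 2 n10879 = n10687 := d16_1 D10879 (iv F42590) F42589
theorem F42859 : act 6 n10879 = n10013 := d27_2 (iv F39551) D10879 (iv D10013)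
theorem F42860 : act 7 n10879 = n10879 := d28_2 F39552 D10879 (iv D10879)
theorem F42861 : act 5 n10688 = n10879 := d17_0 F42858 F42126 D10688
def n10880 : Q := act 8 n10011
theorem D10880 : act 8 n10011 = n10880 := rfl
theorem F42862 : act 0 n10880 = n10034 := d7_1 D10880 (iv D10034) (iv F39549)
theorem F42863 : act 3 n10880 = n10012 := d25_1 D10880 (iv D10012) D10011
theorem F42864 : act 5 n10880 = n10880 := d32_1 D10880 (iv D10880) F39550
theorem F42865 : act 6 n10880 = n10014 := d34_1 D10880 (iv D10014) (iv F39551)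
def n10881 : Q := act 5 n10013
theorem D10881 : act 5 n10013 = n10881 := rfl
theorem F42866 : act 0 n10881 = n10035 := d4_1 D10881 (iv D10035) (iv F39558)
theorem F42867 : act 4 n10881 = n10015 := d26_1 D10881 (iv D10015) (iv D8225) (iv F31364) D10013
theorem F42868 : act 7 n10881 = n10881 := d31_2 F39559 D10881 (iv D10881)
def n10882 : Q := act 8 n10013
theorem D10882 : act 8 n10013 = n10882 := rfl
theorem F42869 : act 0 n10882 = n10036 := d7_1 D10882 (iv D10036) (iv F39558)
theorem F42870 : act 4 n10882 = n10014 := d29_1 D10882 (iv D10014) D10013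
def n10883 : Q := act 7 n10014
theorem D10883 : act 7 n10014 = n10883 := rfl
theorem F42871 : act 0 n10883 = n10037 := d6_1 D10883 (iv D10037) (iv F39560)
theorem F42872 : act 3 n10883 = n10719 := d24_1 D10883 (iv D10719) F39087 (iv F31369) (iv F39561)
theorem F42873 : act 5 n10883 = n10017 := d31_1 D10883 (iv D10017) (iv F39562)
theorem F42874 : act 8 n10883 = n10883 := d35_2 D10014 D10883 (iv D10883) (iv D10014) F31365
def n10884 : Q := act 6 n10015
theorem D10884 : act 6 n10015 = n10884 := rfl
theorem F42875 : act 0 n10884 = n10038 := d5_1 D10884 (iv D10038) (iv F39563)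
theorem F42876 : act 3 n10884 = n10267 := d23_1 D10884 (iv D10267) (iv F39564)
theorem F42877 : act 5 n10884 = n10884 := d30_1 D10884 (iv D10884) (iv D10015) F31372 D10015
theorem F42878 : act 7 n10884 = n10884 := d33_2 F39565 D10884 (iv D10884)
def n10885 : Q := act 8 n10015
theorem D10885 : act 8 n10015 = n10885 := rfl
theorem F42879 : act 0 n10885 = n10039 := d7_1 D10885 (iv D10039) (iv F39563)
theorem F42880 : act 3 n10885 = n10268 := d25_1 D10885 (iv D10268) (iv F39564)
theorem F42881 : act 5 n10885 = n10016 := d32_1 D10885 (iv D10016) D10015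
def n10886 : Q := act 7 n10016
theorem D10886 : act 7 n10016 = n10886 := rfl
theorem F42882 : act 0 n10886 = n10040 := d6_1 D10886 (iv D10040) (iv F39566)
theorem F42883 : act 4 n10886 = n10017 := d28_1 D10886 (iv D10017) (iv F39568)
theorem F42884 : act 6 n10886 = n10886 := d33_1 D10886 (iv D10886) F39569
theorem F42885 : act 8 n10886 = n10886 := d35_2 D10016 D10886 (iv D10886) (iv D10016) F31373
def n10887 : Q := act 3 n10018
theorem D10887 : act 3 n10018 = n10887 := rfl
theorem F42886 : act 0 n10887 = n10041 := d2_1 D10887 (iv D10041) (iv F39574)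
theorem F42887 : act 5 n10887 = n10019 := d22_2 (iv F39576) D10887 (iv D10019)
theorem F42888 : act 6 n10887 = n10232 := d23_2 (iv F39577) D10887 F40451
theorem F42889 : act 7 n10887 = n10887 := d24_2 D10018 D10887 (iv D10887) (iv D10018) F31378
def n10888 : Q := act 8 n10018
theorem D10888 : act 8 n10018 = n10888 := rfl
theorem F42890 : act 0 n10888 = n10042 := d7_1 D10888 (iv D10042) (iv F39574)
theorem F42891 : act 4 n10888 = n10888 := d29_1 D10888 (iv D10888) F39575
theorem F42892 : act 5 n10888 = n10020 := d32_1 D10888 (iv D10020) (iv F39576)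
theorem F42893 : act 6 n10888 = n10270 := d34_1 D10888 (iv D10270) (iv F39577)
theorem F42894 : act 7 n10888 = n10129 := d35_1 D10888 (iv D10129) F31693 (iv F38414) D10018
def n10889 : Q := act 2 n10019
theorem D10889 : act 2 n10019 = n10889 := rfl
theorem F42895 : act 0 n10889 = n10043 := d1_1 D10889 (iv D10043) (iv F39578)
theorem F42896 : act 4 n10889 = n10626 := d16_2 F42625 D10889 (iv F42624)
theorem F42897 : act 6 n10889 = n10021 := d18_2 (iv F39579) D10889 (iv D10021)
theorem F42898 : act 7 n10889 = n10889 := d19_2 F39580 D10889 (iv D10889)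
def n10890 : Q := act 8 n10019
theorem D10890 : act 8 n10019 = n10890 := rfl
theorem F42899 : act 0 n10890 = n10044 := d7_1 D10890 (iv D10044) (iv F39578)
theorem F42900 : act 3 n10890 = n10020 := d25_1 D10890 (iv D10020) D10019
theorem F42901 : act 6 n10890 = n10022 := d34_1 D10890 (iv D10022) (iv F39579)
def n10891 : Q := act 1 n10021
theorem D10891 : act 1 n10021 = n10891 := rfl
theorem F42902 : act 5 n10891 = n10273 := d11_2 (iv F39586) D10891 (iv D10273)
theorem F42903 : act 7 n10891 = n10891 := d13_2 F39587 D10891 (iv D10891)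
def n10892 : Q := act 8 n10021
theorem D10892 : act 8 n10021 = n10892 := rfl
theorem F42904 : act 0 n10892 = n10046 := d7_1 D10892 (iv D10046) (iv F39585)
theorem F42905 : act 2 n10892 = n10022 := d20_1 D10892 (iv D10022) D10021
theorem F42906 : act 5 n10892 = n10274 := d32_1 D10892 (iv D10274) (iv F39586)
def n10893 : Q := act 7 n10022
theorem D10893 : act 7 n10022 = n10893 := rfl
theorem F42907 : act 0 n10893 = n10047 := d6_1 D10893 (iv D10047) (iv F39588)
theorem F42908 : act 3 n10893 = n10725 := d24_1 D10893 (iv D10725) F39105 (iv F31391) (iv F39589)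
theorem F42909 : act 5 n10893 = n10275 := d31_1 D10893 (iv D10275) (iv F39590)
theorem F42910 : act 8 n10893 = n10893 := d35_2 D10022 D10893 (iv D10893) (iv D10022) F31387
def n10894 : Q := act 7 n10023
theorem D10894 : act 7 n10023 = n10894 := rfl
theorem F42911 : act 1 n10894 = n10097 := d13_1 D10894 (iv D10097) (iv F39591)
theorem F42912 : act 2 n10894 = n10894 := d19_1 D10894 (iv D10894) F39592
theorem F42913 : act 4 n10894 = n10587 := d28_1 D10894 (iv D10587) F39596
theorem F42914 : act 5 n10894 = n10024 := d31_1 D10894 (iv D10024) D10023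
theorem F42915 : act 6 n10894 = n10276 := d33_1 D10894 (iv D10276) (iv F39594)
def n10895 : Q := act 3 n10024
theorem D10895 : act 3 n10024 = n10895 := rfl
theorem F42916 : act 1 n10895 = n10098 := d9_1 D10895 (iv D10098) (iv F39597)
theorem F42917 : act 6 n10895 = n10025 := d23_2 (iv F39600) D10895 (iv D10025)
theorem F42918 : act 7 n10895 = n10028 := d24_2 D10024 D10895 (iv D10028) (iv D8235) (iv F31398)
def n10896 : Q := act 8 n10024
theorem D10896 : act 8 n10024 = n10896 := rfl
theorem F42919 : act 1 n10896 = n10099 := d14_1 D10896 (iv D10099) (iv F39597)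
theorem F42920 : act 2 n10896 = n10896 := d20_1 D10896 (iv D10896) F39598
theorem F42921 : act 4 n10896 = n10896 := d29_1 D10896 (iv D10896) F39599
theorem F42922 : act 6 n10896 = n10026 := d34_1 D10896 (iv D10026) (iv F39600)
theorem F42923 : act 7 n10896 = n10459 := d35_1 D10896 (iv D10459) F33413 F38281 D10024
def n10897 : Q := act 2 n10025
theorem D10897 : act 2 n10025 = n10897 := rfl
theorem F42924 : act 3 n10897 = n10897 := d15_2 D10025 D10897 (iv D10897) (iv D10025) F31402
theorem F42925 : act 5 n10897 = n10279 := d17_2 (iv F39602) D10897 (iv D10279)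
theorem F42926 : act 7 n10897 = n10030 := d19_2 (iv F39603) D10897 (iv D10030)
def n10898 : Q := act 4 n10025
theorem D10898 : act 4 n10025 = n10898 := rfl
theorem F42927 : act 1 n10898 = n10101 := d10_1 D10898 (iv D10101) (iv F39601)
theorem F42928 : act 3 n10898 = n10898 := d21_1 D10898 (iv D10898) (iv D10025) F31403 D10025
theorem F42929 : act 7 n10898 = n10031 := d28_2 (iv F39603) D10898 (iv D10031)
def n10899 : Q := act 8 n10025
theorem D10899 : act 8 n10025 = n10899 := rfl
theorem F42930 : act 1 n10899 = n10102 := d14_1 D10899 (iv D10102) (iv F39601)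
theorem F42931 : act 3 n10899 = n10026 := d25_1 D10899 (iv D10026) D10025
theorem F42932 : act 5 n10899 = n10281 := d32_1 D10899 (iv D10281) (iv F39602)
def n10900 : Q := act 3 n10027
theorem D10900 : act 3 n10027 = n10900 := rfl
theorem F42933 : act 1 n10900 = n10103 := d9_1 D10900 (iv D10103) (iv F39609)
theorem F42934 : act 5 n10900 = n10028 := d22_2 (iv F39612) D10900 (iv D10028)
theorem F42935 : act 6 n10900 = n10282 := d23_2 (iv F39613) D10900 (iv D10282)
def n10901 : Q := act 8 n10027
theorem D10901 : act 8 n10027 = n10901 := rfl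
theorem F42936 : act 1 n10901 = n10104 := d14_1 D10901 (iv D10104) (iv F39609)
theorem F42937 : act 2 n10901 = n10042 := d20_1 D10901 (iv D10042) (iv F39610)
theorem F42938 : act 4 n10901 = n10901 := d29_1 D10901 (iv D10901) F39611
theorem F42939 : act 5 n10901 = n10029 := d32_1 D10901 (iv D10029) (iv F39612)
theorem F42940 : act 6 n10901 = n10283 := d34_1 D10901 (iv D10283) (iv F39613)
theorem F42941 : act 7 n10901 = n10126 := d35_1 D10901 (iv D10126) F31662 (iv F38279) D10027
def n10902 : Q := act 2 n10028
theorem D10902 : act 2 n10028 = n10902 := rfl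
theorem F42942 : act 3 n10902 = n10043 := d15_2 D10028 D10902 (iv D10043) (iv D8246) (iv F31411)
theorem F42943 : act 6 n10902 = n10030 := d18_2 (iv F39615) D10902 (iv D10030)
theorem F42944 : act 4 n10631 = n10902 := d21_0 F42942 F39666 (iv D9360) (iv F35384) D10631
def n10903 : Q := act 4 n10028
theorem D10903 : act 4 n10028 = n10903 := rfl
theorem F42945 : act 1 n10903 = n10106 := d10_1 D10903 (iv D10106) (iv F39614)
theorem F42946 : act 2 n10903 = n10631 := d16_1 D10903 F42944 (iv D10902)
theorem F42947 : act 3 n10903 = n10033 := d21_1 D10903 (iv D10033) (iv D8238) (iv F31412) D10028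
theorem F42948 : act 6 n10903 = n10031 := d27_2 (iv F39615) D10903 (iv D10031)
theorem F42949 : act 5 n10632 = n10903 := d22_0 F42947 (iv F39632) (iv F41899)
def n10904 : Q := act 8 n10028
theorem D10904 : act 8 n10028 = n10904 := rfl
theorem F42950 : act 1 n10904 = n10107 := d14_1 D10904 (iv D10107) (iv F39614)
theorem F42951 : act 3 n10904 = n10029 := d25_1 D10904 (iv D10029) D10028
theorem F42952 : act 6 n10904 = n10032 := d34_1 D10904 (iv D10032) (iv F39615)
def n10905 : Q := act 1 n10030
theorem D10905 : act 1 n10030 = n10905 := rfl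
theorem F42953 : act 2 n10905 = n10108 := d8_2 D10030 D10905 (iv D10108) (iv D8291) (iv F31414)
theorem F42954 : act 3 n10905 = n10045 := d9_2 (iv F39621) D10905 (iv D10045)
theorem F42955 : act 5 n10905 = n10287 := d11_2 (iv F39622) D10905 (iv D10287)
def n10906 : Q := act 4 n10030
theorem D10906 : act 4 n10030 = n10906 := rfl
theorem F42956 : act 2 n10906 = n10031 := d16_1 D10906 (iv D10031) D10030
theorem F42957 : act 3 n10906 = n10630 := d21_1 D10906 F41896 (iv F39449) F39450 (iv F39621)
theorem F42958 : act 6 n10906 = n10631 := d27_2 F42943 D10906 F42944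
def n10907 : Q := act 8 n10030
theorem D10907 : act 8 n10030 = n10907 := rfl
theorem F42959 : act 2 n10907 = n10032 := d20_1 D10907 (iv D10032) D10030
theorem F42960 : act 3 n10907 = n10046 := d25_1 D10907 (iv D10046) (iv F39621)
theorem F42961 : act 5 n10907 = n10289 := d32_1 D10907 (iv D10289) (iv F39622)
def n10908 : Q := act 5 n10031
theorem D10908 : act 5 n10031 = n10908 := rfl
theorem F42962 : act 1 n10908 = n10111 := d11_1 D10908 (iv D10111) (iv F39623)
theorem F42963 : act 3 n10908 = n10035 := d22_1 D10908 (iv D10035) (iv F39624)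
theorem F42964 : act 4 n10908 = n10290 := d26_1 D10908 (iv D10290) (iv D8501) (iv F31415) D10031
def n10909 : Q := act 8 n10031
theorem D10909 : act 8 n10031 = n10909 := rfl
theorem F42965 : act 1 n10909 = n10112 := d14_1 D10909 (iv D10112) (iv F39623)
theorem F42966 : act 3 n10909 = n10036 := d25_1 D10909 (iv D10036) (iv F39624)
theorem F42967 : act 4 n10909 = n10032 := d29_1 D10909 (iv D10032) D10031
def n10910 : Q := act 7 n10032
theorem D10910 : act 7 n10032 = n10910 := rfl
theorem F42968 : act 1 n10910 = n10113 := d13_1 D10910 (iv D10113) (iv F39625)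
theorem F42969 : act 3 n10910 = n10733 := d24_1 D10910 (iv D10733) F39116 (iv F31420) (iv F39626)
theorem F42970 : act 5 n10910 = n10292 := d31_1 D10910 (iv D10292) (iv F39627)
def n10911 : Q := act 8 n10033
theorem D10911 : act 8 n10033 = n10911 := rfl
theorem F42971 : act 1 n10911 = n10115 := d14_1 D10911 (iv D10115) (iv F39628)
theorem F42972 : act 2 n10911 = n10522 := d20_1 D10911 F41495 (iv F39629)
theorem F42973 : act 4 n10911 = n10034 := d29_1 D10911 (iv D10034) D10033
theorem F42974 : act 5 n10911 = n10523 := d32_1 D10911 F41497 F39632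
theorem F42975 : act 6 n10911 = n10036 := d34_1 D10911 (iv D10036) (iv F39630)
def n10912 : Q := act 7 n10034
theorem D10912 : act 7 n10034 = n10912 := rfl
theorem F42976 : act 1 n10912 = n10116 := d13_1 D10912 (iv D10116) (iv F39633)
theorem F42977 : act 3 n10912 = n10511 := d24_1 D10912 (iv D10511) F33737 F38527 (iv F39634)
theorem F42978 : act 5 n10912 = n10912 := d31_1 D10912 (iv D10912) F39635
theorem F42979 : act 6 n10912 = n10037 := d33_1 D10912 (iv D10037) (iv F39636)
theorem F42980 : act 8 n10912 = n10912 := d35_2 D10034 D10912 (iv D10912) (iv D10034) F31424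
def n10913 : Q := act 6 n10035
theorem D10913 : act 6 n10035 = n10913 := rfl
theorem F42981 : act 1 n10913 = n10117 := d12_1 D10913 (iv D10117) (iv F39637)
theorem F42982 : act 2 n10913 = n10691 := d18_1 D10913 (iv F42655) F42652
theorem F42983 : act 4 n10913 = n10038 := d27_1 D10913 (iv D10038) (iv F39638)
theorem F42984 : act 5 n10913 = n10692 := d30_1 D10913 F42145 F39632 F39630 D10035
theorem F42985 : act 7 n10913 = n10913 := d33_2 F39639 D10913 (iv D10913)
def n10914 : Q := act 8 n10035
theorem D10914 : act 8 n10035 = n10914 := rfl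
theorem F42986 : act 1 n10914 = n10118 := d14_1 D10914 (iv D10118) (iv F39637)
theorem F42987 : act 4 n10914 = n10039 := d29_1 D10914 (iv D10039) (iv F39638)
theorem F42988 : act 5 n10914 = n10036 := d32_1 D10914 (iv D10036) D10035
def n10915 : Q := act 7 n10036
theorem D10915 : act 7 n10036 = n10915 := rfl
theorem F42989 : act 1 n10915 = n10119 := d13_1 D10915 (iv D10119) (iv F39640)
theorem F42990 : act 4 n10915 = n10037 := d28_1 D10915 (iv D10037) (iv F39641)
theorem F42991 : act 8 n10915 = n10915 := d35_2 D10036 D10915 (iv D10915) (iv D10036) F31431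
def n10916 : Q := act 8 n10038
theorem D10916 : act 8 n10038 = n10916 := rfl
theorem F42992 : act 1 n10916 = n10120 := d14_1 D10916 (iv D10120) (iv F39646)
theorem F42993 : act 3 n10916 = n10298 := d25_1 D10916 (iv D10298) (iv F39647)
theorem F42994 : act 5 n10916 = n10916 := d32_1 D10916 (iv D10916) F39648
theorem F42995 : act 6 n10916 = n10039 := d34_1 D10916 (iv D10039) D10038
def n10917 : Q := act 7 n10039
theorem D10917 : act 7 n10039 = n10917 := rfl
theorem F42996 : act 1 n10917 = n10121 := d13_1 D10917 (iv D10121) (iv F39650)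
theorem F42997 : act 5 n10917 = n10040 := d31_1 D10917 (iv D10040) (iv F39652)
theorem F42998 : act 8 n10917 = n10917 := d35_2 D10039 D10917 (iv D10917) (iv D10039) F31437
def n10918 : Q := act 3 n10040
theorem D10918 : act 3 n10040 = n10918 := rfl
theorem F42999 : act 1 n10918 = n10122 := d9_1 D10918 (iv D10122) (iv F39653)
theorem F43000 : act 4 n10918 = n10739 := d21_2 (iv F39654) D10918 (iv D10739) F39137 (iv F31443)
theorem F43001 : act 6 n10918 = n10918 := d23_2 F39655 D10918 (iv D10918)
theorem F43002 : act 7 n10918 = n10300 := d24_2 D10040 D10918 (iv D10300) (iv D8510) (iv F31439)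
theorem F43003 : act 8 n10918 = n10918 := d25_2 F39656 D10918 (iv D10918)
def n10919 : Q := act 2 n10041
theorem D10919 : act 2 n10041 = n10919 := rfl
theorem F43004 : act 1 n10919 = n10226 := d8_1 D10919 (iv D10226) F32248 (iv F38339) (iv F39657)
theorem F43005 : act 5 n10919 = n10043 := d17_2 (iv F39658) D10919 (iv D10043)
theorem F43006 : act 6 n10919 = n10228 := d18_2 (iv F39659) D10919 F40437
theorem F43007 : act 7 n10919 = n10919 := d19_2 F39660 D10919 (iv D10919)
theorem F43008 : act 4 n10588 = n10919 := d26_5 F43005 F39666 F35389 (iv F35097) (iv F41767)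
def n10920 : Q := act 4 n10041
theorem D10920 : act 4 n10041 = n10920 := rfl
theorem F43009 : act 1 n10920 = n10048 := d10_1 D10920 (iv D10048) (iv F39657)
theorem F43010 : act 2 n10920 = n10588 := d16_1 D10920 F43008 (iv D10919)
theorem F43011 : act 3 n10920 = n10920 := d21_1 D10920 (iv D10920) (iv D10041) F31447 D10041
theorem F43012 : act 5 n10920 = n10589 := d26_2 (iv F39658) D10920 F41770 (iv F39440) F39439
theorem F43013 : act 6 n10920 = n10190 := d27_2 (iv F39659) D10920 F40270
theorem F43014 : act 7 n10920 = n10920 := d28_2 F39660 D10920 (iv D10920)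
def n10921 : Q := act 8 n10041
theorem D10921 : act 8 n10041 = n10921 := rfl
theorem F43015 : act 1 n10921 = n10049 := d14_1 D10921 (iv D10049) (iv F39657)
theorem F43016 : act 3 n10921 = n10042 := d25_1 D10921 (iv D10042) D10041
theorem F43017 : act 5 n10921 = n10044 := d32_1 D10921 (iv D10044) (iv F39658)
theorem F43018 : act 6 n10921 = n10233 := d34_1 D10921 (iv D10233) (iv F39659)
def n10922 : Q := act 1 n10043
theorem D10922 : act 1 n10043 = n10922 := rfl
theorem F43019 : act 2 n10922 = n10050 := d8_2 D10043 D10922 (iv D10050) (iv D8252) (iv F31450)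
theorem F43020 : act 4 n10922 = n10571 := d10_2 (iv F39666) D10922 F41714
theorem F43021 : act 5 n10922 = n10226 := d11_2 F43005 D10922 (iv F43004)
theorem F43022 : act 6 n10922 = n10045 := d12_2 (iv F39667) D10922 (iv D10045)
theorem F43023 : act 7 n10922 = n10922 := d13_2 F39668 D10922 (iv D10922)
def n10923 : Q := act 8 n10043
theorem D10923 : act 8 n10043 = n10923 := rfl
theorem F43024 : act 2 n10923 = n10044 := d20_1 D10923 (iv D10044) D10043
theorem F43025 : act 4 n10923 = n10433 := d29_1 D10923 F41127 (iv F39666)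
theorem F43026 : act 6 n10923 = n10046 := d34_1 D10923 (iv D10046) (iv F39667)
def n10924 : Q := act 7 n10044
theorem D10924 : act 7 n10044 = n10924 := rfl
theorem F43027 : act 1 n10924 = n10052 := d13_1 D10924 (iv D10052) (iv F39669)
theorem F43028 : act 3 n10924 = n10307 := d24_1 D10924 (iv D10307) F32484 F38522 (iv F39670)
theorem F43029 : act 6 n10924 = n10047 := d33_1 D10924 (iv D10047) (iv F39671)
theorem F43030 : act 8 n10924 = n10924 := d35_2 D10044 D10924 (iv D10924) (iv D10044) F31452
def n10925 : Q := act 0 n10045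
theorem D10925 : act 0 n10045 = n10925 := rfl
theorem F43031 : act 2 n10925 = n10053 := d1_2 (iv F39672) D10925 (iv D10053)
theorem F43032 : act 5 n10925 = n10303 := d4_2 (iv F39673) D10925 (iv D10303)
theorem F43033 : act 7 n10925 = n10925 := d6_2 F39674 D10925 (iv D10925)
def n10926 : Q := act 8 n10045
theorem D10926 : act 8 n10045 = n10926 := rfl
theorem F43034 : act 1 n10926 = n10046 := d14_1 D10926 (iv D10046) D10045
theorem F43035 : act 2 n10926 = n10054 := d20_1 D10926 (iv D10054) (iv F39672)
theorem F43036 : act 5 n10926 = n10304 := d32_1 D10926 (iv D10304) (iv F39673)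
def n10927 : Q := act 7 n10046
theorem D10927 : act 7 n10046 = n10927 := rfl
theorem F43037 : act 2 n10927 = n10047 := d19_1 D10927 (iv D10047) (iv F39675)
theorem F43038 : act 5 n10927 = n10305 := d31_1 D10927 (iv D10305) (iv F39676)
theorem F43039 : act 8 n10927 = n10927 := d35_2 D10046 D10927 (iv D10927) (iv D10046) F31458
def n10928 : Q := act 8 n10048
theorem D10928 : act 8 n10048 = n10928 := rfl
theorem F43040 : act 0 n10928 = n10847 := d7_1 D10928 (iv D10847) (iv F39681)
theorem F43041 : act 2 n10928 = n10189 := d20_1 D10928 (iv D10189) (iv F39682)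
theorem F43042 : act 3 n10928 = n10928 := d25_1 D10928 (iv D10928) F39683
theorem F43043 : act 4 n10928 = n10049 := d29_1 D10928 (iv D10049) D10048
theorem F43044 : act 6 n10928 = n10191 := d34_1 D10928 (iv D10191) (iv F39684)
def n10929 : Q := act 7 n10049
theorem D10929 : act 7 n10049 = n10929 := rfl
theorem F43045 : act 2 n10929 = n10231 := d19_1 D10929 (iv D10231) (iv F39686)
theorem F43046 : act 3 n10929 = n10055 := d24_1 D10929 (iv D10055) F31479 (iv F38415) (iv F39687)
theorem F43047 : act 5 n10929 = n10052 := d31_1 D10929 (iv D10052) (iv F39688)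
theorem F43048 : act 6 n10929 = n10234 := d33_1 D10929 (iv D10234) (iv F39689)
theorem F43049 : act 8 n10929 = n10929 := d35_2 D10049 D10929 (iv D10929) (iv D10049) F31464
def n10930 : Q := act 0 n10050
theorem D10930 : act 0 n10050 = n10930 := rfl
theorem F43050 : act 1 n10930 = n10887 := d0_2 D10050 D10930 F42886 F39657 (iv F38400)
theorem F43051 : act 3 n10930 = n10127 := d2_2 (iv F39690) D10930 (iv D10127)
theorem F43052 : act 5 n10930 = n10212 := d4_2 (iv F39691) D10930 F40374
theorem F43053 : act 6 n10930 = n10053 := d5_2 (iv F39692) D10930 (iv D10053)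
theorem F43054 : act 7 n10930 = n10930 := d6_2 F39693 D10930 (iv D10930)
def n10931 : Q := act 8 n10050
theorem D10931 : act 8 n10050 = n10931 := rfl
theorem F43055 : act 1 n10931 = n10051 := d14_1 D10931 (iv D10051) D10050
theorem F43056 : act 3 n10931 = n10128 := d25_1 D10931 (iv D10128) (iv F39690)
theorem F43057 : act 5 n10931 = n10227 := d32_1 D10931 (iv D10227) (iv F39691)
theorem F43058 : act 6 n10931 = n10054 := d34_1 D10931 (iv D10054) (iv F39692)
def n10932 : Q := act 7 n10051
theorem D10932 : act 7 n10051 = n10932 := rfl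
theorem F43059 : act 0 n10932 = n10929 := d6_1 D10932 (iv D10929) (iv F39694)
theorem F43060 : act 2 n10932 = n10052 := d19_1 D10932 (iv D10052) (iv F39695)
theorem F43061 : act 3 n10932 = n10234 := d24_1 D10932 (iv D10234) F38471 (iv F38404) (iv F39696)
theorem F43062 : act 5 n10932 = n10231 := d31_1 D10932 (iv D10231) (iv F39697)
theorem F43063 : act 6 n10932 = n10055 := d33_1 D10932 (iv D10055) (iv F39698)
theorem F43064 : act 8 n10932 = n10932 := d35_2 D10051 D10932 (iv D10932) (iv D10051) F31472
def n10933 : Q := act 8 n10053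
theorem D10933 : act 8 n10053 = n10933 := rfl
theorem F43065 : act 0 n10933 = n10054 := d7_1 D10933 (iv D10054) D10053
theorem F43066 : act 3 n10933 = n10129 := d25_1 D10933 (iv D10129) (iv F39702)
theorem F43067 : act 5 n10933 = n10306 := d32_1 D10933 (iv D10306) (iv F39703)
def n10934 : Q := act 7 n10054
theorem D10934 : act 7 n10054 = n10934 := rfl
theorem F43068 : act 1 n10934 = n10055 := d13_1 D10934 (iv D10055) (iv F39705)
theorem F43069 : act 5 n10934 = n10307 := d31_1 D10934 (iv D10307) (iv F39707)
theorem F43070 : act 8 n10934 = n10934 := d35_2 D10054 D10934 (iv D10934) (iv D10054) F31477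
def n10935 : Q := act 6 n10056
theorem D10935 : act 6 n10056 = n10935 := rfl
theorem F43071 : act 1 n10935 = n10130 := d12_1 D10935 (iv D10130) (iv F39711)
theorem F43072 : act 2 n10935 = n10057 := d18_1 D10935 (iv D10057) D10056
theorem F43073 : act 4 n10935 = n10935 := d27_1 D10935 (iv D10935) F39712
theorem F43074 : act 8 n10935 = n10454 := d34_2 (iv F39714) D10935 F41209
def n10936 : Q := act 7 n10056
theorem D10936 : act 7 n10056 = n10936 := rfl
theorem F43075 : act 1 n10936 = n10131 := d13_1 D10936 (iv D10131) (iv F39711)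
theorem F43076 : act 2 n10936 = n10058 := d19_1 D10936 (iv D10058) D10056
theorem F43077 : act 4 n10936 = n10936 := d28_1 D10936 (iv D10936) F39712
theorem F43078 : act 5 n10936 = n10353 := d31_1 D10936 (iv D10353) (iv F39713)
def n10937 : Q := act 5 n10057
theorem D10937 : act 5 n10057 = n10937 := rfl
theorem F43079 : act 1 n10937 = n10073 := d11_1 D10937 (iv D10073) (iv F39715)
theorem F43080 : act 3 n10937 = n10059 := d22_1 D10937 (iv D10059) (iv F39716)
theorem F43081 : act 6 n10937 = n10354 := d30_2 D10057 D10937 (iv D10354) (iv D8589) (iv F31486)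
theorem F43082 : act 8 n10937 = n10153 := d32_2 (iv F39718) D10937 F40086
def n10938 : Q := act 7 n10057
theorem D10938 : act 7 n10057 = n10938 := rfl
theorem F43083 : act 1 n10938 = n10074 := d13_1 D10938 (iv D10074) (iv F39715)
theorem F43084 : act 4 n10938 = n10938 := d28_1 D10938 (iv D10938) F39717
theorem F43085 : act 6 n10938 = n10058 := d33_1 D10938 (iv D10058) D10057
def n10939 : Q := act 3 n10058
theorem D10939 : act 3 n10058 = n10939 := rfl
theorem F43086 : act 1 n10939 = n10075 := d9_1 D10939 (iv D10075) (iv F39719)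
theorem F43087 : act 5 n10939 = n10356 := d22_2 (iv F39721) D10939 (iv D10356)
theorem F43088 : act 7 n10939 = n10061 := d24_2 D10058 D10939 (iv D10061) (iv D8259) D8257
def n10940 : Q := act 8 n10058
theorem D10940 : act 8 n10058 = n10940 := rfl
theorem F43089 : act 1 n10940 = n10076 := d14_1 D10940 (iv D10076) (iv F39719)
theorem F43090 : act 4 n10940 = n10940 := d29_1 D10940 (iv D10940) F39720
theorem F43091 : act 5 n10940 = n10357 := d32_1 D10940 (iv D10357) (iv F39721)
theorem F43092 : act 7 n10940 = n10743 := d35_1 D10940 (iv D10743) (iv D9905) (iv F31487) D10058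
def n10941 : Q := act 7 n10059
theorem D10941 : act 7 n10059 = n10941 := rfl
theorem F43093 : act 1 n10941 = n10077 := d13_1 D10941 (iv D10077) (iv F39722)
theorem F43094 : act 4 n10941 = n10941 := d28_1 D10941 (iv D10941) F39723
theorem F43095 : act 5 n10941 = n10060 := d31_1 D10941 (iv D10060) D10059
theorem F43096 : act 6 n10941 = n10338 := d33_1 D10941 F40842 (iv F39724)
def n10942 : Q := act 3 n10060
theorem D10942 : act 3 n10060 = n10942 := rfl
theorem F43097 : act 1 n10942 = n10078 := d9_1 D10942 (iv D10078) (iv F39726)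
theorem F43098 : act 6 n10942 = n10061 := d23_2 (iv F39728) D10942 (iv D10061)
def n10943 : Q := act 8 n10060
theorem D10943 : act 8 n10060 = n10943 := rfl
theorem F43099 : act 1 n10943 = n10079 := d14_1 D10943 (iv D10079) (iv F39726)
theorem F43100 : act 4 n10943 = n10064 := d29_1 D10943 (iv D10064) (iv F39727)
theorem F43101 : act 6 n10943 = n10062 := d34_1 D10943 (iv D10062) (iv F39728)
theorem F43102 : act 7 n10943 = n10403 := d35_1 D10943 (iv D10403) F32842 F38306 D10060
def n10944 : Q := act 2 n10061
theorem D10944 : act 2 n10061 = n10944 := rfl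
theorem F43103 : act 5 n10944 = n10360 := d17_2 (iv F39730) D10944 (iv D10360)
def n10945 : Q := act 4 n10061
theorem D10945 : act 4 n10061 = n10945 := rfl
theorem F43104 : act 1 n10945 = n10081 := d10_1 D10945 (iv D10081) (iv F39729)
theorem F43105 : act 3 n10945 = n10066 := d21_1 D10945 (iv D10066) (iv D8261) (iv F31492) D10061
def n10946 : Q := act 8 n10061
theorem D10946 : act 8 n10061 = n10946 := rfl
theorem F43106 : act 1 n10946 = n10082 := d14_1 D10946 (iv D10082) (iv F39729)
theorem F43107 : act 3 n10946 = n10062 := d25_1 D10946 (iv D10062) D10061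
theorem F43108 : act 5 n10946 = n10362 := d32_1 D10946 (iv D10362) (iv F39730)
def n10947 : Q := act 2 n10063
theorem D10947 : act 2 n10063 = n10947 := rfl
theorem F43109 : act 1 n10947 = n10947 := d8_1 D10947 (iv D10947) F39735 F31539 (iv F39735)
theorem F43110 : act 5 n10947 = n10947 := d17_2 F39736 D10947 (iv D10947)
theorem F43111 : act 6 n10947 = n10065 := d18_2 (iv F39737) D10947 (iv D10065)
theorem F43112 : act 7 n10947 = n10947 := d19_2 F39738 D10947 (iv D10947)
def n10948 : Q := act 4 n10063
theorem D10948 : act 4 n10063 = n10948 := rfl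
theorem F43113 : act 1 n10948 = n10083 := d10_1 D10948 (iv D10083) (iv F39735)
theorem F43114 : act 6 n10948 = n10066 := d27_2 (iv F39737) D10948 (iv D10066)
theorem F43115 : act 7 n10948 = n10948 := d28_2 F39738 D10948 (iv D10948)
def n10949 : Q := act 8 n10063
theorem D10949 : act 8 n10063 = n10949 := rfl
theorem F43116 : act 1 n10949 = n10084 := d14_1 D10949 (iv D10084) (iv F39735)
theorem F43117 : act 3 n10949 = n10064 := d25_1 D10949 (iv D10064) D10063
theorem F43118 : act 5 n10949 = n10949 := d32_1 D10949 (iv D10949) F39736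
theorem F43119 : act 6 n10949 = n10067 := d34_1 D10949 (iv D10067) (iv F39737)
def n10950 : Q := act 4 n10065
theorem D10950 : act 4 n10065 = n10950 := rfl
theorem F43120 : act 1 n10950 = n10950 := d10_1 D10950 (iv D10950) F39743
theorem F43121 : act 2 n10950 = n10066 := d16_1 D10950 (iv D10066) D10065
theorem F43122 : act 7 n10950 = n10950 := d28_2 F39745 D10950 (iv D10950)
def n10951 : Q := act 8 n10065
theorem D10951 : act 8 n10065 = n10951 := rfl
theorem F43123 : act 1 n10951 = n10951 := d14_1 D10951 (iv D10951) F39743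
theorem F43124 : act 2 n10951 = n10067 := d20_1 D10951 (iv D10067) D10065
theorem F43125 : act 5 n10951 = n10069 := d32_1 D10951 (iv D10069) (iv F39744)
def n10952 : Q := act 5 n10066
theorem D10952 : act 5 n10066 = n10952 := rfl
theorem F43126 : act 1 n10952 = n10085 := d11_1 D10952 (iv D10085) (iv F39746)
theorem F43127 : act 4 n10952 = n10070 := d26_1 D10952 (iv D10070) (iv D8264) (iv F31498) D10066
theorem F43128 : act 7 n10952 = n10952 := d31_2 F39747 D10952 (iv D10952)
def n10953 : Q := act 8 n10066
theorem D10953 : act 8 n10066 = n10953 := rfl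
theorem F43129 : act 1 n10953 = n10086 := d14_1 D10953 (iv D10086) (iv F39746)
theorem F43130 : act 4 n10953 = n10067 := d29_1 D10953 (iv D10067) D10066
def n10954 : Q := act 7 n10067
theorem D10954 : act 7 n10067 = n10954 := rfl
theorem F43131 : act 1 n10954 = n10087 := d13_1 D10954 (iv D10087) (iv F39748)
theorem F43132 : act 3 n10954 = n10751 := d24_1 D10954 (iv D10751) F39161 (iv F31502) (iv F39749)
theorem F43133 : act 5 n10954 = n10072 := d31_1 D10954 (iv D10072) (iv F39750)
theorem F43134 : act 8 n10954 = n10954 := d35_2 D10067 D10954 (iv D10954) (iv D10067) F31499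
def n10955 : Q := act 3 n10068
theorem D10955 : act 3 n10068 = n10955 := rfl
theorem F43135 : act 1 n10955 = n10955 := d9_1 D10955 (iv D10955) F39751
theorem F43136 : act 2 n10955 = n10371 := d15_1 D10955 (iv D10371) F32753 (iv F31507) (iv F39752)
theorem F43137 : act 6 n10955 = n10955 := d23_2 F39753 D10955 (iv D10955)
def n10956 : Q := act 5 n10068
theorem D10956 : act 5 n10068 = n10956 := rfl
theorem F43138 : act 1 n10956 = n10956 := d11_1 D10956 (iv D10956) F39751
theorem F43139 : act 2 n10956 = n10070 := d17_1 D10956 (iv D10070) (iv F39752)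
theorem F43140 : act 7 n10956 = n10956 := d31_2 F39754 D10956 (iv D10956)
def n10957 : Q := act 8 n10068
theorem D10957 : act 8 n10068 = n10957 := rfl
theorem F43141 : act 1 n10957 = n10957 := d14_1 D10957 (iv D10957) F39751
theorem F43142 : act 2 n10957 = n10071 := d20_1 D10957 (iv D10071) (iv F39752)
theorem F43143 : act 4 n10957 = n10069 := d29_1 D10957 (iv D10069) D10068
theorem F43144 : act 6 n10957 = n10957 := d34_1 D10957 (iv D10957) F39753
def n10958 : Q := act 7 n10069
theorem D10958 : act 7 n10069 = n10958 := rfl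
theorem F43145 : act 1 n10958 = n10958 := d13_1 D10958 (iv D10958) F39755
theorem F43146 : act 2 n10958 = n10072 := d19_1 D10958 (iv D10072) (iv F39756)
theorem F43147 : act 6 n10958 = n10958 := d33_1 D10958 (iv D10958) F39757
theorem F43148 : act 8 n10958 = n10958 := d35_2 D10069 D10958 (iv D10958) (iv D10069) F31505
def n10959 : Q := act 6 n10070
theorem D10959 : act 6 n10070 = n10959 := rfl
theorem F43149 : act 1 n10959 = n10088 := d12_1 D10959 (iv D10088) (iv F39758)
theorem F43150 : act 3 n10959 = n10375 := d23_1 D10959 (iv D10375) (iv F39759)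
theorem F43151 : act 5 n10959 = n10959 := d30_1 D10959 (iv D10959) (iv D10070) F31508 D10070
theorem F43152 : act 7 n10959 = n10959 := d33_2 F39760 D10959 (iv D10959)
def n10960 : Q := act 8 n10070
theorem D10960 : act 8 n10070 = n10960 := rfl
theorem F43153 : act 1 n10960 = n10089 := d14_1 D10960 (iv D10089) (iv F39758)
theorem F43154 : act 3 n10960 = n10376 := d25_1 D10960 (iv D10376) (iv F39759)
theorem F43155 : act 5 n10960 = n10071 := d32_1 D10960 (iv D10071) D10070
def n10961 : Q := act 7 n10071
theorem D10961 : act 7 n10071 = n10961 := rfl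
theorem F43156 : act 1 n10961 = n10090 := d13_1 D10961 (iv D10090) (iv F39761)
theorem F43157 : act 4 n10961 = n10072 := d28_1 D10961 (iv D10072) (iv F39763)
theorem F43158 : act 6 n10961 = n10961 := d33_1 D10961 (iv D10961) F39764
theorem F43159 : act 8 n10961 = n10961 := d35_2 D10071 D10961 (iv D10961) (iv D10071) F31509
def n10962 : Q := act 4 n10073
theorem D10962 : act 4 n10073 = n10962 := rfl
theorem F43160 : act 0 n10962 = n10096 := d3_1 D10962 (iv D10096) (iv F39769)
theorem F43161 : act 2 n10962 = n10144 := d16_1 D10962 (iv D10144) (iv F39770)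
theorem F43162 : act 3 n10962 = n10962 := d21_1 D10962 (iv D10962) F39771 F31524 (iv F39771)
theorem F43163 : act 5 n10962 = n10962 := d26_2 D10073 D10962 (iv D10962) (iv D10073) F31516
theorem F43164 : act 6 n10962 = n10378 := d27_2 (iv F39772) D10962 (iv D10378)
theorem F43165 : act 8 n10962 = n10154 := d29_2 (iv F39773) D10962 (iv D10154)
def n10963 : Q := act 7 n10073
theorem D10963 : act 7 n10073 = n10963 := rfl
theorem F43166 : act 0 n10963 = n10097 := d6_1 D10963 (iv D10097) (iv F39769)
theorem F43167 : act 2 n10963 = n10145 := d19_1 D10963 (iv D10145) (iv F39770)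
theorem F43168 : act 5 n10963 = n10074 := d31_1 D10963 (iv D10074) D10073
theorem F43169 : act 6 n10963 = n10379 := d33_1 D10963 (iv D10379) (iv F39772)
def n10964 : Q := act 3 n10074
theorem D10964 : act 3 n10074 = n10964 := rfl
theorem F43170 : act 0 n10964 = n10098 := d2_1 D10964 (iv D10098) (iv F39774)
theorem F43171 : act 6 n10964 = n10075 := d23_2 (iv F39777) D10964 (iv D10075)
theorem F43172 : act 7 n10964 = n10078 := d24_2 D10074 D10964 (iv D10078) (iv D8269) (iv F31515)
def n10965 : Q := act 8 n10074
theorem D10965 : act 8 n10074 = n10965 := rfl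
theorem F43173 : act 0 n10965 = n10099 := d7_1 D10965 (iv D10099) (iv F39774)
theorem F43174 : act 2 n10965 = n10147 := d20_1 D10965 (iv D10147) (iv F39775)
theorem F43175 : act 4 n10965 = n10965 := d29_1 D10965 (iv D10965) F39776
theorem F43176 : act 6 n10965 = n10076 := d34_1 D10965 (iv D10076) (iv F39777)
theorem F43177 : act 7 n10965 = n10456 := d35_1 D10965 (iv D10456) F33346 F38185 D10074
def n10966 : Q := act 2 n10075
theorem D10966 : act 2 n10075 = n10966 := rfl
theorem F43178 : act 0 n10966 = n10100 := d1_1 D10966 (iv D10100) (iv F39778)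
theorem F43179 : act 3 n10966 = n10148 := d15_2 D10075 D10966 (iv D10148) (iv D8334) (iv F31519)
theorem F43180 : act 5 n10966 = n10382 := d17_2 (iv F39779) D10966 (iv D10382)
theorem F43181 : act 7 n10966 = n10080 := d19_2 (iv F39780) D10966 (iv D10080)
def n10967 : Q := act 4 n10075
theorem D10967 : act 4 n10075 = n10967 := rfl
theorem F43182 : act 0 n10967 = n10101 := d3_1 D10967 (iv D10101) (iv F39778)
theorem F43183 : act 3 n10967 = n10967 := d21_1 D10967 (iv D10967) (iv D10075) F31520 D10075
theorem F43184 : act 7 n10967 = n10081 := d28_2 (iv F39780) D10967 (iv D10081)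
def n10968 : Q := act 8 n10075
theorem D10968 : act 8 n10075 = n10968 := rfl
theorem F43185 : act 0 n10968 = n10102 := d7_1 D10968 (iv D10102) (iv F39778)
theorem F43186 : act 3 n10968 = n10076 := d25_1 D10968 (iv D10076) D10075
theorem F43187 : act 5 n10968 = n10384 := d32_1 D10968 (iv D10384) (iv F39779)
def n10969 : Q := act 3 n10077
theorem D10969 : act 3 n10077 = n10969 := rfl
theorem F43188 : act 0 n10969 = n10103 := d2_1 D10969 (iv D10103) (iv F39786)
theorem F43189 : act 2 n10969 = n10326 := d15_1 D10969 (iv D10326) F32538 (iv F38110) (iv F39787)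
theorem F43190 : act 5 n10969 = n10078 := d22_2 (iv F39789) D10969 (iv D10078)
theorem F43191 : act 6 n10969 = n10328 := d23_2 (iv F39790) D10969 F40799
def n10970 : Q := act 8 n10077
theorem D10970 : act 8 n10077 = n10970 := rfl
theorem F43192 : act 0 n10970 = n10104 := d7_1 D10970 (iv D10104) (iv F39786)
theorem F43193 : act 2 n10970 = n10091 := d20_1 D10970 (iv D10091) (iv F39787)
theorem F43194 : act 4 n10970 = n10970 := d29_1 D10970 (iv D10970) F39788
theorem F43195 : act 5 n10970 = n10079 := d32_1 D10970 (iv D10079) (iv F39789)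
theorem F43196 : act 6 n10970 = n10339 := d34_1 D10970 (iv D10339) (iv F39790)
theorem F43197 : act 7 n10970 = n10095 := d35_1 D10970 (iv D10095) F31584 F38182 D10077
def n10971 : Q := act 2 n10078
theorem D10971 : act 2 n10078 = n10971 := rfl
theorem F43198 : act 0 n10971 = n10105 := d1_1 D10971 (iv D10105) (iv F39791)
theorem F43199 : act 3 n10971 = n10092 := d15_2 D10078 D10971 (iv D10092) (iv D8280) (iv F31528)
theorem F43200 : act 5 n10971 = n10326 := d17_2 F43190 D10971 (iv F43189)
theorem F43201 : act 6 n10971 = n10080 := d18_2 (iv F39792) D10971 (iv D10080)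
def n10972 : Q := act 4 n10078
theorem D10972 : act 4 n10078 = n10972 := rfl
theorem F43202 : act 0 n10972 = n10106 := d3_1 D10972 (iv D10106) (iv F39791)
theorem F43203 : act 3 n10972 = n10083 := d21_1 D10972 (iv D10083) (iv D8272) (iv F31529) D10078
theorem F43204 : act 6 n10972 = n10081 := d27_2 (iv F39792) D10972 (iv D10081)
def n10973 : Q := act 8 n10078
theorem D10973 : act 8 n10078 = n10973 := rfl
theorem F43205 : act 0 n10973 = n10107 := d7_1 D10973 (iv D10107) (iv F39791)
theorem F43206 : act 3 n10973 = n10079 := d25_1 D10973 (iv D10079) D10078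
theorem F43207 : act 6 n10973 = n10082 := d34_1 D10973 (iv D10082) (iv F39792)
def n10974 : Q := act 1 n10080
theorem D10974 : act 1 n10080 = n10974 := rfl
theorem F43208 : act 3 n10974 = n10094 := d9_2 (iv F39799) D10974 (iv D10094)
theorem F43209 : act 5 n10974 = n10387 := d11_2 (iv F39800) D10974 (iv D10387)
def n10975 : Q := act 4 n10080
theorem D10975 : act 4 n10080 = n10975 := rfl
theorem F43210 : act 0 n10975 = n10109 := d3_1 D10975 (iv D10109) (iv F39798)
theorem F43211 : act 2 n10975 = n10081 := d16_1 D10975 (iv D10081) D10080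
theorem F43212 : act 3 n10975 = n10975 := d21_1 D10975 (iv D10975) F39799 F31582 (iv F39799)
def n10976 : Q := act 8 n10080
theorem D10976 : act 8 n10080 = n10976 := rfl
theorem F43213 : act 0 n10976 = n10110 := d7_1 D10976 (iv D10110) (iv F39798)
theorem F43214 : act 2 n10976 = n10082 := d20_1 D10976 (iv D10082) D10080
theorem F43215 : act 3 n10976 = n10095 := d25_1 D10976 (iv D10095) (iv F39799)
theorem F43216 : act 5 n10976 = n10389 := d32_1 D10976 (iv D10389) (iv F39800)
def n10977 : Q := act 5 n10081
theorem D10977 : act 5 n10081 = n10977 := rfl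
theorem F43217 : act 0 n10977 = n10111 := d4_1 D10977 (iv D10111) (iv F39801)
theorem F43218 : act 3 n10977 = n10085 := d22_1 D10977 (iv D10085) (iv F39802)
theorem F43219 : act 4 n10977 = n10390 := d26_1 D10977 (iv D10390) (iv D8613) (iv F31532) D10081
def n10978 : Q := act 8 n10081
theorem D10978 : act 8 n10081 = n10978 := rfl
theorem F43220 : act 0 n10978 = n10112 := d7_1 D10978 (iv D10112) (iv F39801)
theorem F43221 : act 3 n10978 = n10086 := d25_1 D10978 (iv D10086) (iv F39802)
theorem F43222 : act 4 n10978 = n10082 := d29_1 D10978 (iv D10082) D10081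
def n10979 : Q := act 7 n10082
theorem D10979 : act 7 n10082 = n10979 := rfl
theorem F43223 : act 0 n10979 = n10113 := d6_1 D10979 (iv D10113) (iv F39803)
theorem F43224 : act 3 n10979 = n10763 := d24_1 D10979 (iv D10763) F39187 (iv F31537) (iv F39804)
theorem F43225 : act 5 n10979 = n10392 := d31_1 D10979 (iv D10392) (iv F39805)
def n10980 : Q := act 5 n10083
theorem D10980 : act 5 n10083 = n10980 := rfl
theorem F43226 : act 0 n10980 = n10114 := d4_1 D10980 (iv D10114) (iv F39806)
theorem F43227 : act 2 n10980 = n10980 := d17_1 D10980 (iv D10980) F39807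
theorem F43228 : act 4 n10980 = n10980 := d26_1 D10980 (iv D10980) (iv D10083) F31540 D10083
theorem F43229 : act 7 n10980 = n10980 := d31_2 F39809 D10980 (iv D10980)
def n10981 : Q := act 8 n10083
theorem D10981 : act 8 n10083 = n10981 := rfl
theorem F43230 : act 0 n10981 = n10115 := d7_1 D10981 (iv D10115) (iv F39806)
theorem F43231 : act 2 n10981 = n10981 := d20_1 D10981 (iv D10981) F39807
theorem F43232 : act 4 n10981 = n10084 := d29_1 D10981 (iv D10084) D10083
theorem F43233 : act 6 n10981 = n10086 := d34_1 D10981 (iv D10086) (iv F39808)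
def n10982 : Q := act 7 n10084
theorem D10982 : act 7 n10084 = n10982 := rfl
theorem F43234 : act 0 n10982 = n10116 := d6_1 D10982 (iv D10116) (iv F39810)
theorem F43235 : act 2 n10982 = n10982 := d19_1 D10982 (iv D10982) F39811
theorem F43236 : act 3 n10982 = n10493 := d24_1 D10982 (iv D10493) F33620 F38437 (iv F39812)
theorem F43237 : act 5 n10982 = n10982 := d31_1 D10982 (iv D10982) F39813
theorem F43238 : act 6 n10982 = n10087 := d33_1 D10982 (iv D10087) (iv F39814)
theorem F43239 : act 8 n10982 = n10982 := d35_2 D10084 D10982 (iv D10982) (iv D10084) F31542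
def n10983 : Q := act 6 n10085
theorem D10983 : act 6 n10085 = n10983 := rfl
theorem F43240 : act 0 n10983 = n10117 := d5_1 D10983 (iv D10117) (iv F39815)
theorem F43241 : act 2 n10983 = n10983 := d18_1 D10983 (iv D10983) F39816
theorem F43242 : act 4 n10983 = n10088 := d27_1 D10983 (iv D10088) (iv F39817)
theorem F43243 : act 7 n10983 = n10983 := d33_2 F39818 D10983 (iv D10983)
def n10984 : Q := act 8 n10085
theorem D10984 : act 8 n10085 = n10984 := rfl
theorem F43244 : act 0 n10984 = n10118 := d7_1 D10984 (iv D10118) (iv F39815)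
theorem F43245 : act 2 n10984 = n10984 := d20_1 D10984 (iv D10984) F39816
theorem F43246 : act 4 n10984 = n10089 := d29_1 D10984 (iv D10089) (iv F39817)
theorem F43247 : act 5 n10984 = n10086 := d32_1 D10984 (iv D10086) D10085
def n10985 : Q := act 7 n10086
theorem D10985 : act 7 n10086 = n10985 := rfl
theorem F43248 : act 0 n10985 = n10119 := d6_1 D10985 (iv D10119) (iv F39819)
theorem F43249 : act 2 n10985 = n10985 := d19_1 D10985 (iv D10985) F39820
theorem F43250 : act 4 n10985 = n10087 := d28_1 D10985 (iv D10087) (iv F39821)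
theorem F43251 : act 8 n10985 = n10985 := d35_2 D10086 D10985 (iv D10985) (iv D10086) F31550
def n10986 : Q := act 8 n10088
theorem D10986 : act 8 n10088 = n10986 := rfl
theorem F43252 : act 0 n10986 = n10120 := d7_1 D10986 (iv D10120) (iv F39827)
theorem F43253 : act 2 n10986 = n10986 := d20_1 D10986 (iv D10986) F39828
theorem F43254 : act 3 n10986 = n10399 := d25_1 D10986 (iv D10399) (iv F39829)
theorem F43255 : act 5 n10986 = n10986 := d32_1 D10986 (iv D10986) F39830
theorem F43256 : act 6 n10986 = n10089 := d34_1 D10986 (iv D10089) D10088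
def n10987 : Q := act 7 n10089
theorem D10987 : act 7 n10089 = n10987 := rfl
theorem F43257 : act 0 n10987 = n10121 := d6_1 D10987 (iv D10121) (iv F39832)
theorem F43258 : act 2 n10987 = n10987 := d19_1 D10987 (iv D10987) F39833
theorem F43259 : act 5 n10987 = n10090 := d31_1 D10987 (iv D10090) (iv F39835)
theorem F43260 : act 8 n10987 = n10987 := d35_2 D10089 D10987 (iv D10987) (iv D10089) F31558
def n10988 : Q := act 3 n10090
theorem D10988 : act 3 n10090 = n10988 := rfl
theorem F43261 : act 0 n10988 = n10122 := d2_1 D10988 (iv D10122) (iv F39836)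
theorem F43262 : act 4 n10988 = n10769 := d21_2 (iv F39838) D10988 (iv D10769) F39208 (iv F31566)
theorem F43263 : act 6 n10988 = n10988 := d23_2 F39839 D10988 (iv D10988)
theorem F43264 : act 7 n10988 = n10401 := d24_2 D10090 D10988 (iv D10401) (iv D8622) (iv F31561)
theorem F43265 : act 8 n10988 = n10988 := d25_2 F39840 D10988 (iv D10988)
def n10989 : Q := act 1 n10092
theorem D10989 : act 1 n10092 = n10989 := rfl
theorem F43266 : act 2 n10989 = n10941 := d8_2 D10092 D10989 F43093 F39787 (iv F38175)
theorem F43267 : act 4 n10989 = n10989 := d10_2 F39848 D10989 (iv D10989)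
theorem F43268 : act 5 n10989 = n10311 := d11_2 (iv F39849) D10989 F40734
theorem F43269 : act 6 n10989 = n10094 := d12_2 (iv F39850) D10989 (iv D10094)
theorem F43270 : act 7 n10989 = n10155 := d13_2 (iv F39851) D10989 (iv D10155)
def n10990 : Q := act 8 n10092
theorem D10990 : act 8 n10092 = n10990 := rfl
theorem F43271 : act 0 n10990 = n10124 := d7_1 D10990 (iv D10124) (iv F39847)
theorem F43272 : act 2 n10990 = n10093 := d20_1 D10990 (iv D10093) D10092
theorem F43273 : act 4 n10990 = n10990 := d29_1 D10990 (iv D10990) F39848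
theorem F43274 : act 5 n10990 = n10327 := d32_1 D10990 (iv D10327) (iv F39849)
theorem F43275 : act 6 n10990 = n10095 := d34_1 D10990 (iv D10095) (iv F39850)
theorem F43276 : act 7 n10990 = n10339 := d35_1 D10990 (iv D10339) F38237 (iv F38174) (iv F39851)
def n10991 : Q := act 0 n10094
theorem D10991 : act 0 n10094 = n10991 := rfl
theorem F43277 : act 1 n10991 = n10125 := d0_2 D10094 D10991 (iv D10125) (iv D8306) (iv F31581)
theorem F43278 : act 4 n10991 = n10991 := d3_2 F39859 D10991 (iv D10991)
theorem F43279 : act 5 n10991 = n10402 := d4_2 (iv F39860) D10991 (iv D10402)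
theorem F43280 : act 7 n10991 = n10156 := d6_2 (iv F39861) D10991 (iv D10156)
def n10992 : Q := act 8 n10094
theorem D10992 : act 8 n10094 = n10992 := rfl
theorem F43281 : act 1 n10992 = n10095 := d14_1 D10992 (iv D10095) D10094
theorem F43282 : act 4 n10992 = n10992 := d29_1 D10992 (iv D10992) F39859
theorem F43283 : act 5 n10992 = n10403 := d32_1 D10992 (iv D10403) (iv F39860)
def n10993 : Q := act 7 n10096
theorem D10993 : act 7 n10096 = n10993 := rfl
theorem F43284 : act 1 n10993 = n10587 := d13_1 D10993 (iv D10587) (iv F39866)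
theorem F43285 : act 2 n10993 = n10157 := d19_1 D10993 (iv D10157) (iv F39867)
theorem F43286 : act 4 n10993 = n10097 := d28_1 D10993 (iv D10097) D10096
theorem F43287 : act 5 n10993 = n10993 := d31_1 D10993 (iv D10993) F39869
theorem F43288 : act 6 n10993 = n10404 := d33_1 D10993 (iv D10404) (iv F39870)
theorem F43289 : act 3 n10993 = n10185 := d38_4 D6050 (iv F31595) (iv F39873) (iv F43286) (iv D10185) F32078 F23733 (iv F32098) (iv F40256) F42709 F42705 (iv D10843) F39458 F35393 F35392 (iv F39440) F39439 (iv D8246) (iv F31411) F31410 (iv D6052) (iv D4427) F12901 (iv D2460) F7446 F5973 F4480 D1047 (iv F6000) F5999 F38897 F7889 F7888 (iv F7994) F38851 (iv D2616) F7863 (iv D1914) F5890 (iv F5543) F5542 F4168 D1312 F5553 F5552 (iv F7380) F7379 (iv F7451) D2467 F9974 F7456 (iv F7229) F7228 (iv F9650) (iv F12841) (iv D3224) F9602 D3223 D4401 D6013 F23225 F23224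
def n10994 : Q := act 3 n10097
theorem D10994 : act 3 n10097 = n10994 := rfl
theorem F43290 : act 2 n10994 = n10221 := d15_1 D10994 F40413 F38679 (iv F38080) (iv F39872)
theorem F43291 : act 4 n10994 = n10220 := d21_2 F43286 D10994 F40410 (iv F40248) (iv F43289)
theorem F43292 : act 5 n10994 = n10098 := d22_2 (iv F39873) D10994 (iv D10098)
theorem F43293 : act 6 n10994 = n10340 := d23_2 (iv F39874) D10994 F40847
theorem F43294 : act 7 n10994 = n10103 := d24_2 D10097 D10994 (iv D10103) (iv D8288) (iv F31590)
def n10995 : Q := act 8 n10097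
theorem D10995 : act 8 n10097 = n10995 := rfl
theorem F43295 : act 2 n10995 = n10158 := d20_1 D10995 (iv D10158) (iv F39872)
theorem F43296 : act 5 n10995 = n10099 := d32_1 D10995 (iv D10099) (iv F39873)
theorem F43297 : act 6 n10995 = n10405 := d34_1 D10995 (iv D10405) (iv F39874)
theorem F43298 : act 7 n10995 = n10164 := d35_1 D10995 (iv D10164) F31858 F38154 D10097
def n10996 : Q := act 2 n10098
theorem D10996 : act 2 n10098 = n10996 := rfl
theorem F43299 : act 3 n10996 = n10159 := d15_2 D10098 D10996 (iv D10159) (iv D8355) (iv F31593)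
theorem F43300 : act 5 n10996 = n10221 := d17_2 F43292 D10996 (iv F43290)
theorem F43301 : act 6 n10996 = n10100 := d18_2 (iv F39875) D10996 (iv D10100)
theorem F43302 : act 7 n10996 = n10105 := d19_2 (iv F39876) D10996 (iv D10105)
theorem F43303 : act 1 n10345 = n10996 := d11_3 F43300 F40412 D10345
theorem F43304 : act 4 n10731 = n10996 := d26_5 F43300 (iv D10221) F32213 D9894 D10731
def n10997 : Q := act 4 n10098
theorem D10997 : act 4 n10098 = n10997 := rfl
theorem F43305 : act 2 n10997 = n10731 := d16_1 D10997 F43304 (iv D10996)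
theorem F43306 : act 3 n10997 = n10997 := d21_1 D10997 (iv D10997) (iv D10098) F31594 D10098
theorem F43307 : act 5 n10997 = n10729 := d26_2 F43292 D10997 (iv D10729) (iv F40411) (iv F43291)
theorem F43308 : act 6 n10997 = n10101 := d27_2 (iv F39875) D10997 (iv D10101)
theorem F43309 : act 7 n10997 = n10106 := d28_2 (iv F39876) D10997 (iv D10106)
def n10998 : Q := act 8 n10098
theorem D10998 : act 8 n10098 = n10998 := rfl
theorem F43310 : act 3 n10998 = n10099 := d25_1 D10998 (iv D10099) D10098
theorem F43311 : act 6 n10998 = n10102 := d34_1 D10998 (iv D10102) (iv F39875)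
def n10999 : Q := act 1 n10100
theorem D10999 : act 1 n10100 = n10999 := rfl
theorem F43312 : act 3 n10999 = n10162 := d9_2 (iv F39881) D10999 (iv D10162)
theorem F43313 : act 5 n10999 = n10408 := d11_2 (iv F39882) D10999 (iv D10408)
theorem F43314 : act 6 n10999 = n10345 := d12_2 F43301 D10999 F43303
theorem F43315 : act 7 n10999 = n10108 := d13_2 (iv F39883) D10999 (iv D10108)
theorem F43316 : act 4 n10773 = n10999 := d27_3 F43314 F40860 D10773
def n11000 : Q := act 4 n10100
theorem D11000 : act 4 n10100 = n11000 := rfl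
theorem F43317 : act 1 n11000 = n10773 := d10_1 D11000 F43316 (iv D10999)
theorem F43318 : act 2 n11000 = n10101 := d16_1 D11000 (iv D10101) D10100
theorem F43319 : act 3 n11000 = n10734 := d21_1 D11000 F42296 (iv F40136) (iv D10163) (iv F39881)
theorem F43320 : act 6 n11000 = n10731 := d27_2 F43301 D11000 F43304
theorem F43321 : act 7 n11000 = n10109 := d28_2 (iv F39883) D11000 (iv D10109)
def n11001 : Q := act 8 n10100
theorem D11001 : act 8 n10100 = n11001 := rfl
theorem F43322 : act 2 n11001 = n10102 := d20_1 D11001 (iv D10102) D10100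
theorem F43323 : act 3 n11001 = n10164 := d25_1 D11001 (iv D10164) (iv F39881)
theorem F43324 : act 5 n11001 = n10410 := d32_1 D11001 (iv D10410) (iv F39882)
def n11002 : Q := act 5 n10101
theorem D11002 : act 5 n10101 = n11002 := rfl
theorem F43325 : act 3 n11002 = n11002 := d22_1 D11002 (iv D11002) F39884
theorem F43326 : act 4 n11002 = n10411 := d26_1 D11002 (iv D10411) (iv D8635) (iv F31596) D10101
theorem F43327 : act 7 n11002 = n10111 := d31_2 (iv F39885) D11002 (iv D10111)
def n11003 : Q := act 8 n10101
theorem D11003 : act 8 n10101 = n11003 := rfl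
theorem F43328 : act 3 n11003 = n11003 := d25_1 D11003 (iv D11003) F39884
theorem F43329 : act 4 n11003 = n10102 := d29_1 D11003 (iv D10102) D10101
def n11004 : Q := act 7 n10102
theorem D11004 : act 7 n10102 = n11004 := rfl
theorem F43330 : act 3 n11004 = n10772 := d24_1 D11004 (iv D10772) F39213 (iv F31601) (iv F39886)
theorem F43331 : act 5 n11004 = n10413 := d31_1 D11004 (iv D10413) (iv F39887)
theorem F43332 : act 8 n11004 = n10113 := d35_2 D10102 D11004 (iv D10113) (iv D8293) (iv F31597)
def n11005 : Q := act 4 n10103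
theorem D11005 : act 4 n10103 = n11005 := rfl
theorem F43333 : act 2 n11005 = n10216 := d16_1 D11005 F40391 (iv F39888)
theorem F43334 : act 3 n11005 = n11005 := d21_1 D11005 (iv D11005) (iv D10103) F31603 D10103
theorem F43335 : act 6 n11005 = n10343 := d27_2 (iv F39890) D11005 (iv D10343)
theorem F43336 : act 7 n11005 = n10220 := d28_2 F43294 D11005 (iv F43291)
theorem F43337 : act 5 n10726 = n11005 := d31_3 F43336 F40411 (iv F42278)
def n11006 : Q := act 8 n10103
theorem D11006 : act 8 n10103 = n11006 := rfl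
theorem F43338 : act 2 n11006 = n10342 := d20_1 D11006 (iv D10342) (iv F39888)
theorem F43339 : act 3 n11006 = n10104 := d25_1 D11006 (iv D10104) D10103
theorem F43340 : act 5 n11006 = n10107 := d32_1 D11006 (iv D10107) (iv F39889)
theorem F43341 : act 6 n11006 = n10344 := d34_1 D11006 (iv D10344) (iv F39890)
def n11007 : Q := act 1 n10105
theorem D11007 : act 1 n10105 = n11007 := rfl
theorem F43342 : act 3 n11007 = n10123 := d9_2 (iv F39896) D11007 (iv D10123)
theorem F43343 : act 5 n11007 = n10218 := d11_2 (iv F39897) D11007 F40401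
theorem F43344 : act 6 n11007 = n10108 := d12_2 (iv F39898) D11007 (iv D10108)
theorem F43345 : act 7 n11007 = n10345 := d13_2 F43302 D11007 F43303
theorem F43346 : act 4 n10770 = n11007 := d28_3 F43345 F40860 (iv F42405)
def n11008 : Q := act 4 n10105
theorem D11008 : act 4 n10105 = n11008 := rfl
theorem F43347 : act 1 n11008 = n10770 := d10_1 D11008 F43346 (iv D11007)
theorem F43348 : act 2 n11008 = n10106 := d16_1 D11008 (iv D10106) D10105
theorem F43349 : act 3 n11008 = n11008 := d21_1 D11008 (iv D11008) F39896 F31652 (iv F39896)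
theorem F43350 : act 5 n11008 = n10727 := d26_2 (iv F39897) D11008 (iv D10727) (iv F40392) F40391
theorem F43351 : act 6 n11008 = n10109 := d27_2 (iv F39898) D11008 (iv D10109)
theorem F43352 : act 7 n11008 = n10731 := d28_2 F43302 D11008 F43304
def n11009 : Q := act 8 n10105
theorem D11009 : act 8 n10105 = n11009 := rfl
theorem F43353 : act 2 n11009 = n10107 := d20_1 D11009 (iv D10107) D10105
theorem F43354 : act 3 n11009 = n10124 := d25_1 D11009 (iv D10124) (iv F39896)
theorem F43355 : act 5 n11009 = n10342 := d32_1 D11009 (iv D10342) (iv F39897)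
theorem F43356 : act 6 n11009 = n10110 := d34_1 D11009 (iv D10110) (iv F39898)
def n11010 : Q := act 5 n10106
theorem D11010 : act 5 n10106 = n11010 := rfl
theorem F43357 : act 1 n11010 = n10632 := d11_1 D11010 F42949 F42945
theorem F43358 : act 2 n11010 = n10727 := d17_1 D11010 (iv F43350) F43348
theorem F43359 : act 3 n11010 = n10114 := d22_1 D11010 (iv D10114) (iv F39899)
theorem F43360 : act 4 n11010 = n10726 := d26_1 D11010 F43337 (iv D11005) F39889 D10106
theorem F43361 : act 7 n11010 = n10729 := d31_2 F43309 D11010 (iv F43307)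
def n11011 : Q := act 8 n10106
theorem D11011 : act 8 n10106 = n11011 := rfl
theorem F43362 : act 3 n11011 = n10115 := d25_1 D11011 (iv D10115) (iv F39899)
theorem F43363 : act 4 n11011 = n10107 := d29_1 D11011 (iv D10107) D10106
theorem F43364 : act 6 n11011 = n10112 := d34_1 D11011 (iv D10112) (iv F39900)
def n11012 : Q := act 7 n10107
theorem D11012 : act 7 n10107 = n11012 := rfl
theorem F43365 : act 3 n11012 = n10422 := d24_1 D11012 (iv D10422) F32878 F38418 (iv F39901)
theorem F43366 : act 6 n11012 = n10113 := d33_1 D11012 (iv D10113) (iv F39902)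
def n11013 : Q := act 0 n10108
theorem D11013 : act 0 n10108 = n11013 := rfl
theorem F43367 : act 3 n11013 = n10125 := d2_2 (iv F39903) D11013 (iv D10125)
theorem F43368 : act 5 n11013 = n10417 := d4_2 (iv F39904) D11013 (iv D10417)
def n11014 : Q := act 4 n10108
theorem D11014 : act 4 n10108 = n11014 := rfl
theorem F43369 : act 1 n11014 = n10109 := d10_1 D11014 (iv D10109) D10108
theorem F43370 : act 3 n11014 = n11014 := d21_1 D11014 (iv D11014) F39903 F31660 (iv F39903)
theorem F43371 : act 6 n11014 = n10770 := d27_2 F43344 D11014 F43346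
theorem F43372 : act 7 n11014 = n10773 := d28_2 F43315 D11014 F43316
def n11015 : Q := act 8 n10108
theorem D11015 : act 8 n10108 = n11015 := rfl
theorem F43373 : act 1 n11015 = n10110 := d14_1 D11015 (iv D10110) D10108
theorem F43374 : act 3 n11015 = n10126 := d25_1 D11015 (iv D10126) (iv F39903)
theorem F43375 : act 5 n11015 = n10419 := d32_1 D11015 (iv D10419) (iv F39904)
def n11016 : Q := act 5 n10109
theorem D11016 : act 5 n10109 = n11016 := rfl
theorem F43376 : act 2 n11016 = n10111 := d17_1 D11016 (iv D10111) (iv F39905)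
theorem F43377 : act 3 n11016 = n11016 := d22_1 D11016 (iv D11016) F39906
theorem F43378 : act 4 n11016 = n10420 := d26_1 D11016 (iv D10420) (iv D8643) (iv F31612) D10109
def n11017 : Q := act 8 n10109
theorem D11017 : act 8 n10109 = n11017 := rfl
theorem F43379 : act 2 n11017 = n10112 := d20_1 D11017 (iv D10112) (iv F39905)
theorem F43380 : act 3 n11017 = n11017 := d25_1 D11017 (iv D11017) F39906
theorem F43381 : act 4 n11017 = n10110 := d29_1 D11017 (iv D10110) D10109
def n11018 : Q := act 7 n10110
theorem D11018 : act 7 n10110 = n11018 := rfl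
theorem F43382 : act 2 n11018 = n10113 := d19_1 D11018 (iv D10113) (iv F39907)
theorem F43383 : act 5 n11018 = n10422 := d31_1 D11018 (iv D10422) (iv F39909)
def n11019 : Q := act 6 n10111
theorem D11019 : act 6 n10111 = n11019 := rfl
theorem F43384 : act 3 n11019 = n10117 := d23_1 D11019 (iv D10117) (iv F39910)
theorem F43385 : act 4 n11019 = n10423 := d27_1 D11019 (iv D10423) (iv F39911)
def n11020 : Q := act 8 n10111
theorem D11020 : act 8 n10111 = n11020 := rfl
theorem F43386 : act 3 n11020 = n10118 := d25_1 D11020 (iv D10118) (iv F39910)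
theorem F43387 : act 4 n11020 = n10424 := d29_1 D11020 (iv D10424) (iv F39911)
theorem F43388 : act 5 n11020 = n10112 := d32_1 D11020 (iv D10112) D10111
def n11021 : Q := act 7 n10112
theorem D11021 : act 7 n10112 = n11021 := rfl
theorem F43389 : act 4 n11021 = n10113 := d28_1 D11021 (iv D10113) (iv F39913)
def n11022 : Q := act 6 n10114
theorem D11022 : act 6 n10114 = n11022 := rfl
theorem F43390 : act 1 n11022 = n10692 := d12_1 D11022 F42145 (iv F39916)
theorem F43391 : act 2 n11022 = n11022 := d18_1 D11022 (iv D11022) F39917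
theorem F43392 : act 4 n11022 = n11022 := d27_1 D11022 (iv D11022) F39918
theorem F43393 : act 5 n11022 = n10117 := d30_1 D11022 (iv D10117) (iv D8296) (iv F31617) D10114
theorem F43394 : act 7 n11022 = n11022 := d33_2 F39919 D11022 (iv D11022)
def n11023 : Q := act 8 n10114
theorem D11023 : act 8 n10114 = n11023 := rfl
theorem F43395 : act 1 n11023 = n10523 := d14_1 D11023 F41497 (iv F39916)
theorem F43396 : act 2 n11023 = n11023 := d20_1 D11023 (iv D11023) F39917
theorem F43397 : act 4 n11023 = n11023 := d29_1 D11023 (iv D11023) F39918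
theorem F43398 : act 5 n11023 = n10115 := d32_1 D11023 (iv D10115) D10114
def n11024 : Q := act 7 n10115
theorem D11024 : act 7 n10115 = n11024 := rfl
theorem F43399 : act 2 n11024 = n11024 := d19_1 D11024 (iv D11024) F39920
theorem F43400 : act 4 n11024 = n10116 := d28_1 D11024 (iv D10116) (iv F39921)
theorem F43401 : act 6 n11024 = n10119 := d33_1 D11024 (iv D10119) (iv F39922)
theorem F43402 : act 8 n11024 = n11024 := d35_2 D10115 D11024 (iv D11024) (iv D10115) F31618
def n11025 : Q := act 8 n10117
theorem D11025 : act 8 n10117 = n11025 := rfl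
theorem F43403 : act 2 n11025 = n11025 := d20_1 D11025 (iv D11025) F39928
theorem F43404 : act 4 n11025 = n10120 := d29_1 D11025 (iv D10120) (iv F39929)
theorem F43405 : act 6 n11025 = n10118 := d34_1 D11025 (iv D10118) D10117
def n11026 : Q := act 7 n10118
theorem D11026 : act 7 n10118 = n11026 := rfl
theorem F43406 : act 2 n11026 = n11026 := d19_1 D11026 (iv D11026) F39931
theorem F43407 : act 4 n11026 = n10121 := d28_1 D11026 (iv D10121) (iv F39932)
theorem F43408 : act 5 n11026 = n10119 := d31_1 D11026 (iv D10119) (iv F39933)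
theorem F43409 : act 8 n11026 = n11026 := d35_2 D10118 D11026 (iv D11026) (iv D10118) F31625
def n11027 : Q := act 3 n10119
theorem D11027 : act 3 n10119 = n11027 := rfl
theorem F43410 : act 4 n11027 = n10778 := d21_2 (iv F39935) D11027 (iv D10778) F39224 (iv F31629)
theorem F43411 : act 8 n11027 = n11027 := d25_2 F39936 D11027 (iv D11027)
def n11028 : Q := act 7 n10120
theorem D11028 : act 7 n10120 = n11028 := rfl
theorem F43412 : act 2 n11028 = n11028 := d19_1 D11028 (iv D11028) F39937
theorem F43413 : act 5 n11028 = n11028 := d31_1 D11028 (iv D11028) F39939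
theorem F43414 : act 6 n11028 = n10121 := d33_1 D11028 (iv D10121) (iv F39940)
theorem F43415 : act 8 n11028 = n11028 := d35_2 D10120 D11028 (iv D11028) (iv D10120) F31635
def n11029 : Q := act 3 n10121
theorem D11029 : act 3 n10121 = n11029 := rfl
theorem F43416 : act 5 n11029 = n10122 := d22_2 (iv F39942) D11029 (iv D10122)
theorem F43417 : act 7 n11029 = n10433 := d24_2 D10121 D11029 (iv D10433) (iv D8655) (iv F31637)
theorem F43418 : act 8 n11029 = n11029 := d25_2 F39943 D11029 (iv D11029)
def n11030 : Q := act 2 n10122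
theorem D11030 : act 2 n10122 = n11030 := rfl
theorem F43419 : act 3 n11030 = n11030 := d15_2 D10122 D11030 (iv D11030) (iv D10122) F31639
theorem F43420 : act 4 n11030 = n10781 := d16_2 (iv F39944) D11030 (iv D10781)
theorem F43421 : act 6 n11030 = n11030 := d18_2 F39945 D11030 (iv D11030)
theorem F43422 : act 7 n11030 = n10434 := d19_2 (iv F39946) D11030 (iv D10434)
theorem F43423 : act 8 n11030 = n11030 := d20_2 F39947 D11030 (iv D11030)
def n11031 : Q := act 0 n10123
theorem D11031 : act 0 n10123 = n11031 := rfl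
theorem F43424 : act 2 n11031 = n10127 := d1_2 (iv F39948) D11031 (iv D10127)
theorem F43425 : act 4 n11031 = n11031 := d3_2 F39949 D11031 (iv D11031)
theorem F43426 : act 5 n11031 = n10203 := d4_2 (iv F39950) D11031 F40334
theorem F43427 : act 6 n11031 = n10125 := d5_2 (iv F39951) D11031 (iv D10125)
theorem F43428 : act 7 n11031 = n10167 := d6_2 (iv F39952) D11031 (iv D10167)
def n11032 : Q := act 8 n10123
theorem D11032 : act 8 n10123 = n11032 := rfl
theorem F43429 : act 1 n11032 = n10124 := d14_1 D11032 (iv D10124) D10123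
theorem F43430 : act 2 n11032 = n10128 := d20_1 D11032 (iv D10128) (iv F39948)
theorem F43431 : act 4 n11032 = n11032 := d29_1 D11032 (iv D11032) F39949
theorem F43432 : act 5 n11032 = n10219 := d32_1 D11032 (iv D10219) (iv F39950)
theorem F43433 : act 6 n11032 = n10126 := d34_1 D11032 (iv D10126) (iv F39951)
theorem F43434 : act 7 n11032 = n10283 := d35_1 D11032 (iv D10283) (iv D8497) (iv F38298) (iv F39952)
def n11033 : Q := act 8 n10125
theorem D11033 : act 8 n10125 = n11033 := rfl
theorem F43435 : act 0 n11033 = n10126 := d7_1 D11033 (iv D10126) D10125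
theorem F43436 : act 2 n11033 = n10129 := d20_1 D11033 (iv D10129) (iv F39958)
theorem F43437 : act 4 n11033 = n11033 := d29_1 D11033 (iv D11033) F39959
theorem F43438 : act 5 n11033 = n10435 := d32_1 D11033 (iv D10435) (iv F39960)
def n11034 : Q := act 8 n10127
theorem D11034 : act 8 n10127 = n11034 := rfl
theorem F43439 : act 0 n11034 = n10128 := d7_1 D11034 (iv D10128) D10127
theorem F43440 : act 1 n11034 = n10888 := d14_1 D11034 (iv D10888) (iv F39966)
theorem F43441 : act 4 n11034 = n11034 := d29_1 D11034 (iv D11034) F39967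
theorem F43442 : act 5 n11034 = n10213 := d32_1 D11034 (iv D10213) (iv F39968)
theorem F43443 : act 6 n11034 = n10129 := d34_1 D11034 (iv D10129) (iv F39969)
theorem F43444 : act 7 n11034 = n10270 := d35_1 D11034 (iv D10270) (iv D8488) (iv F38398) (iv F39970)
def n11035 : Q := act 5 n10130
theorem D11035 : act 5 n10130 = n11035 := rfl
theorem F43445 : act 0 n11035 = n11035 := d4_1 D11035 (iv D11035) F39979
theorem F43446 : act 2 n11035 = n10132 := d17_1 D11035 (iv D10132) (iv F39980)
theorem F43447 : act 6 n11035 = n10441 := d30_2 D10130 D11035 F41159 (iv D8759) (iv F31703)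
theorem F43448 : act 8 n11035 = n10137 := d32_2 (iv F39982) D11035 F40011
def n11036 : Q := act 7 n10130
theorem D11036 : act 7 n10130 = n11036 := rfl
theorem F43449 : act 0 n11036 = n11036 := d6_1 D11036 (iv D11036) F39979
theorem F43450 : act 2 n11036 = n10133 := d19_1 D11036 (iv D10133) (iv F39980)
theorem F43451 : act 4 n11036 = n11036 := d28_1 D11036 (iv D11036) F39981
theorem F43452 : act 6 n11036 = n10131 := d33_1 D11036 (iv D10131) D10130
def n11037 : Q := act 3 n10131
theorem D11037 : act 3 n10131 = n11037 := rfl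
theorem F43453 : act 0 n11037 = n11037 := d2_1 D11037 (iv D11037) F39983
theorem F43454 : act 5 n11037 = n10449 := d22_2 (iv F39986) D11037 (iv D10449)
def n11038 : Q := act 8 n10131
theorem D11038 : act 8 n10131 = n11038 := rfl
theorem F43455 : act 0 n11038 = n11038 := d7_1 D11038 (iv D11038) F39983
theorem F43456 : act 2 n11038 = n10135 := d20_1 D11038 (iv D10135) (iv F39984)
theorem F43457 : act 4 n11038 = n11038 := d29_1 D11038 (iv D11038) F39985
theorem F43458 : act 5 n11038 = n10450 := d32_1 D11038 (iv D10450) (iv F39986)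
theorem F43459 : act 7 n11038 = n10783 := d35_1 D11038 (iv D10783) (iv D9937) (iv F31704) D10131
def n11039 : Q := act 4 n10132
theorem D11039 : act 4 n10132 = n11039 := rfl
theorem F43460 : act 0 n11039 = n11039 := d3_1 D11039 (iv D11039) F39987
theorem F43461 : act 1 n11039 = n10144 := d10_1 D11039 (iv D10144) (iv F39988)
theorem F43462 : act 3 n11039 = n10143 := d21_1 D11039 F40042 F31751 (iv F37858) (iv F39989)
theorem F43463 : act 5 n11039 = n11039 := d26_2 D10132 D11039 (iv D11039) (iv D10132) F31708
theorem F43464 : act 6 n11039 = n10442 := d27_2 (iv F39990) D11039 (iv D10442)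
theorem F43465 : act 8 n11039 = n10138 := d29_2 (iv F39991) D11039 (iv D10138)
def n11040 : Q := act 7 n10132
theorem D11040 : act 7 n10132 = n11040 := rfl
theorem F43466 : act 0 n11040 = n11040 := d6_1 D11040 (iv D11040) F39987
theorem F43467 : act 1 n11040 = n10145 := d13_1 D11040 (iv D10145) (iv F39988)
theorem F43468 : act 3 n11040 = n10438 := d24_1 D11040 (iv D10438) F32973 (iv F37774) (iv F39989)
theorem F43469 : act 5 n11040 = n10133 := d31_1 D11040 (iv D10133) D10132
theorem F43470 : act 6 n11040 = n10439 := d33_1 D11040 F41151 (iv F39990)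
def n11041 : Q := act 3 n10133
theorem D11041 : act 3 n10133 = n11041 := rfl
theorem F43471 : act 0 n11041 = n11041 := d2_1 D11041 (iv D11041) F39992
theorem F43472 : act 1 n11041 = n10146 := d9_1 D11041 (iv D10146) (iv F39993)
theorem F43473 : act 5 n11041 = n10438 := d22_2 F43469 D11041 (iv F43468)
theorem F43474 : act 6 n11041 = n10134 := d23_2 (iv F39995) D11041 (iv D10134)
theorem F43475 : act 7 n11041 = n10136 := d24_2 D10133 D11041 (iv D10136) (iv D8322) (iv F31707)
def n11042 : Q := act 8 n10133
theorem D11042 : act 8 n10133 = n11042 := rfl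
theorem F43476 : act 0 n11042 = n11042 := d7_1 D11042 (iv D11042) F39992
theorem F43477 : act 1 n11042 = n10147 := d14_1 D11042 (iv D10147) (iv F39993)
theorem F43478 : act 4 n11042 = n11042 := d29_1 D11042 (iv D11042) F39994
theorem F43479 : act 6 n11042 = n10135 := d34_1 D11042 (iv D10135) (iv F39995)
theorem F43480 : act 7 n11042 = n10453 := d35_1 D11042 (iv D10453) F33310 F38039 D10133
def n11043 : Q := act 2 n10134
theorem D11043 : act 2 n10134 = n11043 := rfl
theorem F43481 : act 0 n11043 = n11043 := d1_1 D11043 (iv D11043) F39996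
theorem F43482 : act 5 n11043 = n10452 := d17_2 (iv F39998) D11043 (iv D10452)
theorem F43483 : act 7 n11043 = n10137 := d19_2 (iv F39999) D11043 (iv D10137)
def n11044 : Q := act 4 n10134
theorem D11044 : act 4 n10134 = n11044 := rfl
theorem F43484 : act 0 n11044 = n11044 := d3_1 D11044 (iv D11044) F39996
theorem F43485 : act 1 n11044 = n10149 := d10_1 D11044 (iv D10149) (iv F39997)
theorem F43486 : act 3 n11044 = n11044 := d21_1 D11044 (iv D11044) (iv D10134) F31712 D10134
theorem F43487 : act 5 n11044 = n11044 := d26_2 (iv F39998) D11044 (iv D11044) F39998 F33309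
theorem F43488 : act 7 n11044 = n10138 := d28_2 (iv F39999) D11044 (iv D10138)
def n11045 : Q := act 8 n10134
theorem D11045 : act 8 n10134 = n11045 := rfl
theorem F43489 : act 0 n11045 = n11045 := d7_1 D11045 (iv D11045) F39996
theorem F43490 : act 1 n11045 = n10150 := d14_1 D11045 (iv D10150) (iv F39997)
theorem F43491 : act 3 n11045 = n10135 := d25_1 D11045 (iv D10135) D10134
theorem F43492 : act 5 n11045 = n10453 := d32_1 D11045 (iv D10453) (iv F39998)
def n11046 : Q := act 2 n10136
theorem D11046 : act 2 n10136 = n11046 := rfl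
theorem F43493 : act 0 n11046 = n11046 := d1_1 D11046 (iv D11046) F40005
theorem F43494 : act 3 n11046 = n11035 := d15_2 D10136 D11046 F43446 F39989 (iv F37853)
theorem F43495 : act 5 n11046 = n10436 := d17_2 (iv F40007) D11046 F41136
theorem F43496 : act 6 n11046 = n10137 := d18_2 (iv F40008) D11046 (iv D10137)
theorem F43497 : act 8 n11046 = n10441 := d20_2 (iv F40009) D11046 (iv D10441)
def n11047 : Q := act 4 n10136
theorem D11047 : act 4 n10136 = n11047 := rfl
theorem F43498 : act 0 n11047 = n11047 := d3_1 D11047 (iv D11047) F40005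
theorem F43499 : act 1 n11047 = n10152 := d10_1 D11047 (iv D10152) (iv F40006)
theorem F43500 : act 3 n11047 = n10140 := d21_1 D11047 (iv D10140) (iv D8325) (iv F31721) D10136
theorem F43501 : act 5 n11047 = n10525 := d26_2 (iv F40007) D11047 (iv D10525) F38613 (iv F32974)
theorem F43502 : act 6 n11047 = n10138 := d27_2 (iv F40008) D11047 (iv D10138)
theorem F43503 : act 8 n11047 = n10442 := d29_2 (iv F40009) D11047 (iv D10442)
def n11048 : Q := act 1 n10137
theorem D11048 : act 1 n10137 = n11048 := rfl
theorem F43504 : act 2 n11048 = n10153 := d8_2 D10137 D11048 (iv D10153) (iv D8339) (iv F31724)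
theorem F43505 : act 5 n11048 = n10454 := d11_2 (iv F40011) D11048 (iv D10454)
def n11049 : Q := act 4 n10137
theorem D11049 : act 4 n10137 = n11049 := rfl
theorem F43506 : act 0 n11049 = n11049 := d3_1 D11049 (iv D11049) F40010
theorem F43507 : act 2 n11049 = n10138 := d16_1 D11049 (iv D10138) D10137
theorem F43508 : act 5 n11049 = n11049 := d26_2 (iv F40011) D11049 (iv D11049) F40011 F33327
def n11050 : Q := act 4 n10139
theorem D11050 : act 4 n10139 = n11050 := rfl
theorem F43509 : act 0 n11050 = n11050 := d3_1 D11050 (iv D11050) F40016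
theorem F43510 : act 1 n11050 = n11050 := d10_1 D11050 (iv D11050) F40017
theorem F43511 : act 2 n11050 = n10140 := d16_1 D11050 (iv D10140) D10139
theorem F43512 : act 5 n11050 = n10699 := d26_2 (iv F40018) D11050 (iv D10699) (iv D9871) (iv F39027)
theorem F43513 : act 6 n11050 = n10141 := d27_2 (iv F40019) D11050 (iv D10141)
theorem F43514 : act 7 n11050 = n11050 := d28_2 F40020 D11050 (iv D11050)
theorem F43515 : act 8 n11050 = n10443 := d29_2 (iv F40021) D11050 (iv D10443)
def n11051 : Q := act 3 n10141
theorem D11051 : act 3 n10141 = n11051 := rfl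
theorem F43516 : act 0 n11051 = n11051 := d2_1 D11051 (iv D11051) F40028
theorem F43517 : act 1 n11051 = n11051 := d9_1 D11051 (iv D11051) F40029
theorem F43518 : act 4 n11051 = n10696 := d21_2 D10141 D11051 F42165 (iv D10443) F33013
theorem F43519 : act 5 n11051 = n11051 := d22_2 F40031 D11051 (iv D11051)
theorem F43520 : act 7 n10693 = n11051 := d28_0 F43518 (iv D10696) (iv F42150)
def n11052 : Q := act 8 n10141
theorem D11052 : act 8 n10141 = n11052 := rfl
theorem F43521 : act 0 n11052 = n11052 := d7_1 D11052 (iv D11052) F40028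
theorem F43522 : act 1 n11052 = n11052 := d14_1 D11052 (iv D11052) F40029
theorem F43523 : act 2 n11052 = n10143 := d20_1 D11052 (iv D10143) (iv F40030)
theorem F43524 : act 4 n11052 = n10142 := d29_1 D11052 (iv D10142) D10141
theorem F43525 : act 5 n11052 = n11052 := d32_1 D11052 (iv D11052) F40031
theorem F43526 : act 6 n11052 = n10443 := d34_1 D11052 (iv F43515) F43513
theorem F43527 : act 7 n10640 = n11052 := d33_0 F43526 F41168 (iv F41931)
def n11053 : Q := act 7 n10144
theorem D11053 : act 7 n10144 = n11053 := rfl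
theorem F43528 : act 0 n11053 = n10157 := d6_1 D11053 (iv D10157) (iv F40046)
theorem F43529 : act 3 n11053 = n10172 := d24_1 D11053 (iv D10172) F38768 (iv F38036) (iv F40047)
theorem F43530 : act 4 n11053 = n10145 := d28_1 D11053 (iv D10145) D10144
theorem F43531 : act 5 n11053 = n11053 := d31_1 D11053 (iv D11053) F40048
theorem F43532 : act 6 n11053 = n10445 := d33_1 D11053 F41176 (iv F40049)
def n11054 : Q := act 8 n10145
theorem D11054 : act 8 n10145 = n11054 := rfl
theorem F43533 : act 0 n11054 = n10158 := d7_1 D11054 (iv D10158) (iv F40051)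
theorem F43534 : act 3 n11054 = n10444 := d25_1 D11054 (iv D10444) (iv F40052)
theorem F43535 : act 5 n11054 = n10147 := d32_1 D11054 (iv D10147) (iv F40053)
theorem F43536 : act 6 n11054 = n10446 := d34_1 D11054 (iv D10446) (iv F40054)
theorem F43537 : act 7 n11054 = n10150 := d35_1 D11054 (iv D10150) F31773 F38024 D10145
def n11055 : Q := act 2 n10146
theorem D11055 : act 2 n10146 = n11055 := rfl
theorem F43538 : act 0 n11055 = n10159 := d1_1 D11055 (iv D10159) (iv F40055)
theorem F43539 : act 5 n11055 = n10207 := d17_2 (iv F40056) D11055 F40352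
theorem F43540 : act 6 n11055 = n10148 := d18_2 (iv F40057) D11055 (iv D10148)
theorem F43541 : act 7 n11055 = n10151 := d19_2 (iv F40058) D11055 (iv D10151)
theorem F43542 : act 4 n10209 = n11055 := d28_3 F43541 (iv F40078) (iv F40363)
def n11056 : Q := act 4 n10146
theorem D11056 : act 4 n10146 = n11056 := rfl
theorem F43543 : act 0 n11056 = n10160 := d3_1 D11056 (iv D10160) (iv F40055)
theorem F43544 : act 2 n11056 = n10209 := d16_1 D11056 F43542 (iv D11055)
theorem F43545 : act 3 n11056 = n11056 := d21_1 D11056 (iv D11056) (iv D10146) F31769 D10146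
theorem F43546 : act 5 n11056 = n10174 := d26_2 (iv F40056) D11056 (iv D10174) F38616 (iv F33051)
theorem F43547 : act 6 n11056 = n10149 := d27_2 (iv F40057) D11056 (iv D10149)
theorem F43548 : act 7 n11056 = n10152 := d28_2 (iv F40058) D11056 (iv D10152)
def n11057 : Q := act 8 n10146
theorem D11057 : act 8 n10146 = n11057 := rfl
theorem F43549 : act 0 n11057 = n10161 := d7_1 D11057 (iv D10161) (iv F40055)
theorem F43550 : act 3 n11057 = n10147 := d25_1 D11057 (iv D10147) D10146
theorem F43551 : act 5 n11057 = n10444 := d32_1 D11057 (iv D10444) (iv F40056)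
theorem F43552 : act 6 n11057 = n10150 := d34_1 D11057 (iv D10150) (iv F40057)
theorem F43553 : act 7 n11057 = n10446 := d35_1 D11057 (iv D10446) F33055 (iv F38033) (iv F40058)
def n11058 : Q := act 1 n10148
theorem D11058 : act 1 n10148 = n11058 := rfl
theorem F43554 : act 5 n11058 = n10455 := d11_2 (iv F40064) D11058 (iv D10455)
theorem F43555 : act 7 n11058 = n10153 := d13_2 (iv F40065) D11058 (iv D10153)
def n11059 : Q := act 4 n10148
theorem D11059 : act 4 n10148 = n11059 := rfl
theorem F43556 : act 0 n11059 = n10163 := d3_1 D11059 (iv D10163) (iv F40063)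
theorem F43557 : act 2 n11059 = n10149 := d16_1 D11059 (iv D10149) D10148
theorem F43558 : act 5 n11059 = n11059 := d26_2 (iv F40064) D11059 (iv D11059) F40064 F33345
theorem F43559 : act 6 n11059 = n10209 := d27_2 F43540 D11059 F43542
theorem F43560 : act 7 n11059 = n10154 := d28_2 (iv F40065) D11059 (iv D10154)
theorem F43561 : act 3 n10720 = n11059 := d23_3 F43559 F40362 D10720
def n11060 : Q := act 8 n10148
theorem D11060 : act 8 n10148 = n11060 := rfl
theorem F43562 : act 0 n11060 = n10164 := d7_1 D11060 (iv D10164) (iv F40063)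
theorem F43563 : act 2 n11060 = n10150 := d20_1 D11060 (iv D10150) D10148
theorem F43564 : act 5 n11060 = n10456 := d32_1 D11060 (iv D10456) (iv F40064)
def n11061 : Q := act 8 n10149
theorem D11061 : act 8 n10149 = n11061 := rfl
theorem F43565 : act 0 n11061 = n10165 := d7_1 D11061 (iv D10165) (iv F40066)
theorem F43566 : act 3 n11061 = n11061 := d25_1 D11061 (iv D11061) F40067
theorem F43567 : act 4 n11061 = n10150 := d29_1 D11061 (iv D10150) D10149
theorem F43568 : act 5 n11061 = n11061 := d32_1 D11061 (iv D11061) F40068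
def n11062 : Q := act 1 n10151
theorem D11062 : act 1 n10151 = n11062 := rfl
theorem F43569 : act 0 n11062 = n10576 := d0_1 D11062 F41728 F34979 (iv F38677) (iv F40073)
theorem F43570 : act 3 n11062 = n10155 := d9_2 (iv F40074) D11062 (iv D10155)
theorem F43571 : act 4 n11062 = n10530 := d10_2 F40078 D11062 F41531
theorem F43572 : act 5 n11062 = n10309 := d11_2 (iv F40075) D11062 F40727
theorem F43573 : act 6 n11062 = n10153 := d12_2 (iv F40076) D11062 (iv D10153)
theorem F43574 : act 8 n11062 = n10354 := d14_2 (iv F40077) D11062 F40885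
def n11063 : Q := act 0 n10153
theorem D11063 : act 0 n10153 = n11063 := rfl
theorem F43575 : act 1 n11063 = n10166 := d0_2 D10153 D11063 (iv D10166) (iv D8365) (iv F31790)
theorem F43576 : act 3 n11063 = n10156 := d2_2 (iv F40085) D11063 (iv D10156)
theorem F43577 : act 5 n11063 = n10457 := d4_2 (iv F40086) D11063 (iv D10457)
theorem F43578 : act 6 n11063 = n10576 := d5_2 F43573 D11063 (iv F43569)
theorem F43579 : act 4 n10581 = n11063 := d27_3 F43578 F41729 D10581
def n11064 : Q := act 4 n10153
theorem D11064 : act 4 n10153 = n11064 := rfl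
theorem F43580 : act 0 n11064 = n10581 := d3_1 D11064 F43579 (iv D11063)
theorem F43581 : act 1 n11064 = n10154 := d10_1 D11064 (iv D10154) D10153
theorem F43582 : act 3 n11064 = n11064 := d21_1 D11064 (iv D11064) F40085 F31832 (iv F40085)
theorem F43583 : act 5 n11064 = n11064 := d26_2 (iv F40086) D11064 (iv D11064) F40086 F33365
theorem F43584 : act 6 n11064 = n10530 := d27_2 F43573 D11064 (iv F43571)
def n11065 : Q := act 0 n10155
theorem D11065 : act 0 n10155 = n11065 := rfl
theorem F43585 : act 1 n11065 = n10167 := d0_2 D10155 D11065 (iv D10167) (iv D8377) (iv F31825)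
theorem F43586 : act 2 n11065 = n10855 := d1_2 (iv F40092) D11065 F42761
theorem F43587 : act 3 n11065 = n10576 := d2_2 F43570 D11065 (iv F43569)
theorem F43588 : act 4 n11065 = n11065 := d3_2 F40093 D11065 (iv D11065)
theorem F43589 : act 5 n11065 = n10194 := d4_2 (iv F40094) D11065 F40289
theorem F43590 : act 6 n11065 = n10156 := d5_2 (iv F40095) D11065 (iv D10156)
theorem F43591 : act 8 n11065 = n10238 := d7_2 (iv F40096) D11065 F40472
def n11066 : Q := act 8 n10157
theorem D11066 : act 8 n10157 = n11066 := rfl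
theorem F43592 : act 1 n11066 = n11066 := d14_1 D11066 (iv D11066) F40100
theorem F43593 : act 3 n11066 = n10180 := d25_1 D11066 (iv D10180) (iv F40101)
theorem F43594 : act 4 n11066 = n10158 := d29_1 D11066 (iv D10158) (iv F40102)
theorem F43595 : act 5 n11066 = n11066 := d32_1 D11066 (iv D11066) F40103
theorem F43596 : act 6 n11066 = n10447 := d34_1 D11066 (iv D10447) (iv F40104)
theorem F43597 : act 7 n11066 = n10165 := d35_1 D11066 (iv D10165) F31862 (iv F38153) D10157
def n11067 : Q := act 8 n10159
theorem D11067 : act 8 n10159 = n11067 := rfl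
theorem F43598 : act 1 n11067 = n10348 := d14_1 D11067 (iv D10348) (iv F40113)
theorem F43599 : act 2 n11067 = n10161 := d20_1 D11067 (iv D10161) D10159
theorem F43600 : act 4 n11067 = n10224 := d29_1 D11067 (iv D10224) F40114
theorem F43601 : act 5 n11067 = n10223 := d32_1 D11067 (iv D10223) (iv F40110)
theorem F43602 : act 6 n11067 = n10164 := d34_1 D11067 (iv D10164) (iv F40111)
theorem F43603 : act 7 n11067 = n10405 := d35_1 D11067 (iv D10405) (iv D8631) (iv F38187) (iv F40112)
def n11068 : Q := act 8 n10160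
theorem D11068 : act 8 n10160 = n11068 := rfl
theorem F43604 : act 1 n11068 = n11068 := d14_1 D11068 (iv D11068) F40115
theorem F43605 : act 2 n11068 = n10224 := d20_1 D11068 (iv D10224) (iv F40116)
theorem F43606 : act 3 n11068 = n11068 := d25_1 D11068 (iv D11068) F40117
theorem F43607 : act 4 n11068 = n10161 := d29_1 D11068 (iv D10161) D10160
theorem F43608 : act 5 n11068 = n10181 := d32_1 D11068 (iv D10181) (iv F40118)
theorem F43609 : act 6 n11068 = n10165 := d34_1 D11068 (iv D10165) (iv F40119)
theorem F43610 : act 7 n11068 = n10447 := d35_1 D11068 (iv D10447) F33157 (iv F38043) (iv F40120)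
def n11069 : Q := act 0 n10162
theorem D11069 : act 0 n10162 = n11069 := rfl
theorem F43611 : act 2 n11069 = n11069 := d1_2 F40126 D11069 (iv D11069)
theorem F43612 : act 4 n11069 = n10335 := d3_2 F40130 D11069 F40825
theorem F43613 : act 5 n11069 = n10458 := d4_2 (iv F40127) D11069 (iv D10458)
theorem F43614 : act 6 n11069 = n10332 := d5_2 (iv F40128) D11069 F40812
theorem F43615 : act 7 n11069 = n10166 := d6_2 (iv F40129) D11069 (iv D10166)
def n11070 : Q := act 8 n10162
theorem D11070 : act 8 n10162 = n11070 := rfl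
theorem F43616 : act 1 n11070 = n10164 := d14_1 D11070 (iv D10164) D10162
theorem F43617 : act 2 n11070 = n11070 := d20_1 D11070 (iv D11070) F40126
theorem F43618 : act 4 n11070 = n10349 := d29_1 D11070 (iv D10349) F40130
theorem F43619 : act 5 n11070 = n10459 := d32_1 D11070 (iv D10459) (iv F40127)
theorem F43620 : act 6 n11070 = n10348 := d34_1 D11070 (iv D10348) (iv F40128)
def n11071 : Q := act 8 n10163
theorem D11071 : act 8 n10163 = n11071 := rfl
theorem F43621 : act 1 n11071 = n10349 := d14_1 D11071 (iv D10349) (iv F40131)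
theorem F43622 : act 2 n11071 = n10165 := d20_1 D11071 (iv D10165) (iv F40132)
theorem F43623 : act 3 n11071 = n10737 := d25_1 D11071 (iv D10737) (iv F40136)
theorem F43624 : act 4 n11071 = n10164 := d29_1 D11071 (iv D10164) D10163
theorem F43625 : act 5 n11071 = n11071 := d32_1 D11071 (iv D11071) F40133
theorem F43626 : act 6 n11071 = n10224 := d34_1 D11071 (iv D10224) (iv F40134)
def n11072 : Q := act 7 n10168
theorem D11072 : act 7 n10168 = n11072 := rfl
theorem F43627 : act 0 n11072 = n11072 := d6_1 D11072 (iv D11072) F40154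
theorem F43628 : act 1 n11072 = n10172 := d13_1 D11072 (iv D10172) (iv F40155)
theorem F43629 : act 2 n11072 = n10814 := d19_1 D11072 (iv D10814) (iv F40156)
theorem F43630 : act 4 n11072 = n10169 := d28_1 D11072 (iv D10169) D10168
theorem F43631 : act 5 n11072 = n11072 := d31_1 D11072 (iv D11072) F40158
theorem F43632 : act 6 n11072 = n10638 := d33_1 D11072 F41921 (iv F40159)
def n11073 : Q := act 8 n10169
theorem D11073 : act 8 n10169 = n11073 := rfl
theorem F43633 : act 0 n11073 = n11073 := d7_1 D11073 (iv D11073) F40161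
theorem F43634 : act 1 n11073 = n10173 := d14_1 D11073 (iv D10173) (iv F40162)
theorem F43635 : act 2 n11073 = n10816 := d20_1 D11073 (iv D10816) (iv F40163)
theorem F43636 : act 3 n11073 = n10636 := d25_1 D11073 (iv D10636) (iv F40164)
theorem F43637 : act 5 n11073 = n10171 := d32_1 D11073 (iv D10171) (iv F40165)
theorem F43638 : act 6 n11073 = n10639 := d34_1 D11073 (iv D10639) (iv F40166)
theorem F43639 : act 7 n11073 = n11073 := d35_1 D11073 (iv D11073) (iv D10169) F31990 D10169
def n11074 : Q := act 2 n10170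
theorem D11074 : act 2 n10170 = n11074 := rfl
theorem F43640 : act 0 n11074 = n11074 := d1_1 D11074 (iv D11074) F40167
theorem F43641 : act 1 n11074 = n10199 := d8_1 D11074 (iv D10199) F32130 (iv F32009) (iv F40168)
theorem F43642 : act 3 n11074 = n10817 := d15_2 D10170 D11074 (iv D10817) (iv D9965) (iv F31993)
theorem F43643 : act 5 n11074 = n10633 := d17_2 (iv F40169) D11074 F41901
theorem F43644 : act 6 n11074 = n11074 := d18_2 F40170 D11074 (iv D11074)
theorem F43645 : act 7 n11074 = n10524 := d19_2 (iv F40171) D11074 (iv D10524)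
def n11075 : Q := act 4 n10170
theorem D11075 : act 4 n10170 = n11075 := rfl
theorem F43646 : act 0 n11075 = n11075 := d3_1 D11075 (iv D11075) F40167
theorem F43647 : act 1 n11075 = n10174 := d10_1 D11075 (iv D10174) (iv F40168)
theorem F43648 : act 3 n11075 = n11075 := d21_1 D11075 (iv D11075) (iv D10170) F31994 D10170
theorem F43649 : act 6 n11075 = n11075 := d27_2 F40170 D11075 (iv D11075)
theorem F43650 : act 7 n11075 = n10525 := d28_2 (iv F40171) D11075 (iv D10525)
def n11076 : Q := act 8 n10170
theorem D11076 : act 8 n10170 = n11076 := rfl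
theorem F43651 : act 0 n11076 = n11076 := d7_1 D11076 (iv D11076) F40167
theorem F43652 : act 1 n11076 = n10175 := d14_1 D11076 (iv D10175) (iv F40168)
theorem F43653 : act 3 n11076 = n10171 := d25_1 D11076 (iv D10171) D10170
theorem F43654 : act 5 n11076 = n10636 := d32_1 D11076 (iv D10636) (iv F40169)
theorem F43655 : act 6 n11076 = n11076 := d34_1 D11076 (iv D11076) F40170
theorem F43656 : act 7 n11076 = n10651 := d35_1 D11076 (iv D10651) (iv D9430) (iv F38614) (iv F40171)
def n11077 : Q := act 8 n10172
theorem D11077 : act 8 n10172 = n11077 := rfl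
theorem F43657 : act 0 n11077 = n10180 := d7_1 D11077 (iv D10180) (iv F40178)
theorem F43658 : act 2 n11077 = n10178 := d20_1 D11077 (iv D10178) (iv F40179)
theorem F43659 : act 4 n11077 = n10173 := d29_1 D11077 (iv D10173) (iv F40180)
theorem F43660 : act 5 n11077 = n11077 := d32_1 D11077 (iv D11077) F40181
theorem F43661 : act 6 n11077 = n10642 := d34_1 D11077 (iv D10642) (iv F40182)
theorem F43662 : act 7 n11077 = n11077 := d35_1 D11077 (iv D11077) (iv D10172) F31999 D10172
def n11078 : Q := act 8 n10174
theorem D11078 : act 8 n10174 = n11078 := rfl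
theorem F43663 : act 0 n11078 = n10181 := d7_1 D11078 (iv D10181) (iv F40189)
theorem F43664 : act 2 n11078 = n10210 := d20_1 D11078 (iv D10210) (iv F40190)
theorem F43665 : act 3 n11078 = n11078 := d25_1 D11078 (iv D11078) F40191
theorem F43666 : act 4 n11078 = n10175 := d29_1 D11078 (iv D10175) D10174
theorem F43667 : act 6 n11078 = n11078 := d34_1 D11078 (iv D11078) F40192
theorem F43668 : act 7 n11078 = n10652 := d35_1 D11078 (iv D10652) (iv D9432) (iv F38607) (iv F40193)
def n11079 : Q := act 3 n10176
theorem D11079 : act 3 n10176 = n11079 := rfl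
theorem F43669 : act 0 n11079 = n10183 := d2_1 D11079 (iv D10183) (iv F40200)
theorem F43670 : act 1 n11079 = n10828 := d9_1 D11079 (iv D10828) (iv F40201)
theorem F43671 : act 4 n11079 = n10212 := d21_2 (iv F40203) D11079 (iv D10212) F32178 (iv F32028)
theorem F43672 : act 6 n11079 = n10177 := d23_2 (iv F40204) D11079 (iv D10177)
theorem F43673 : act 7 n11079 = n11079 := d24_2 D10176 D11079 (iv D11079) (iv D10176) F32019
def n11080 : Q := act 8 n10176
theorem D11080 : act 8 n10176 = n11080 := rfl
theorem F43674 : act 0 n11080 = n10184 := d7_1 D11080 (iv D10184) (iv F40200)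
theorem F43675 : act 1 n11080 = n10829 := d14_1 D11080 (iv D10829) (iv F40201)
theorem F43676 : act 2 n11080 = n10642 := d20_1 D11080 (iv D10642) (iv F40202)
theorem F43677 : act 4 n11080 = n10179 := d29_1 D11080 (iv D10179) (iv F40203)
theorem F43678 : act 6 n11080 = n10178 := d34_1 D11080 (iv D10178) (iv F40204)
theorem F43679 : act 7 n11080 = n11080 := d35_1 D11080 (iv D11080) (iv D10176) F32021 D10176
def n11081 : Q := act 2 n10177
theorem D11081 : act 2 n10177 = n11081 := rfl
theorem F43680 : act 0 n11081 = n10185 := d1_1 D11081 (iv D10185) (iv F40205)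
theorem F43681 : act 4 n11081 = n10214 := d16_2 (iv F40207) D11081 (iv D10214)
theorem F43682 : act 5 n11081 = n11081 := d17_2 F40208 D11081 (iv D11081)
theorem F43683 : act 7 n11081 = n11081 := d19_2 F40209 D11081 (iv D11081)
def n11082 : Q := act 8 n10177
theorem D11082 : act 8 n10177 = n11082 := rfl
theorem F43684 : act 0 n11082 = n10186 := d7_1 D11082 (iv D10186) (iv F40205)
theorem F43685 : act 1 n11082 = n10831 := d14_1 D11082 (iv D10831) (iv F40206)
theorem F43686 : act 3 n11082 = n10178 := d25_1 D11082 (iv D10178) D10177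
theorem F43687 : act 4 n11082 = n10215 := d29_1 D11082 (iv D10215) (iv F40207)
theorem F43688 : act 5 n11082 = n11082 := d32_1 D11082 (iv D11082) F40208
def n11083 : Q := act 3 n10182
theorem D11083 : act 3 n10182 = n11083 := rfl
theorem F43689 : act 1 n11083 = n10187 := d9_1 D11083 (iv D10187) (iv F40234)
theorem F43690 : act 2 n11083 = n10534 := d15_1 D11083 (iv D10534) F38624 (iv F38065) (iv F40235)
theorem F43691 : act 5 n11083 = n10183 := d22_2 (iv F40237) D11083 (iv D10183)
theorem F43692 : act 6 n11083 = n11083 := d23_2 F40238 D11083 (iv D11083)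
theorem F43693 : act 7 n11083 = n11083 := d24_2 D10182 D11083 (iv D11083) (iv D10182) F32071
theorem F43694 : act 4 n10572 = n11083 := d38_3 F39478 (iv F42725) F42724 (iv D11083) F40235 F35570 F35572 F37741 (iv D6864) (iv D5011) (iv D3663) F10768 F8059 (iv D1443) D1442 F38692 (iv F38689) F6653 F6652 (iv F8858) (iv F38690) F10356 (iv F38741) F8863 F6648 (iv F8847) F8846 (iv D2178) (iv D1599) (iv D1175) F3757 (iv F4827) (iv D1131) F3644 D835 (iv F4240) (iv F5647) (iv F7517) (iv F38205) (iv F13210) (iv F17772) D6209 (iv F31449) F31448 F23261 (iv F23156) (iv F31266) F31265 (iv D8199) (iv D5989) (iv D4384) F12789 F12788 (iv D3211) F9570 D2362 F9585 (iv F12815) (iv F17209) D5999 D8212 D9993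
def n11084 : Q := act 8 n10182
theorem D11084 : act 8 n10182 = n11084 := rfl
theorem F43695 : act 1 n11084 = n10188 := d14_1 D11084 (iv D10188) (iv F40234)
theorem F43696 : act 2 n11084 = n10643 := d20_1 D11084 (iv D10643) (iv F40235)
theorem F43697 : act 4 n11084 = n11084 := d29_1 D11084 (iv D11084) F40236
theorem F43698 : act 5 n11084 = n10184 := d32_1 D11084 (iv D10184) (iv F40237)
theorem F43699 : act 6 n11084 = n11084 := d34_1 D11084 (iv D11084) F40238
theorem F43700 : act 7 n11084 = n11084 := d35_1 D11084 (iv D11084) (iv D10182) F32074 D10182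
def n11085 : Q := act 2 n10183
theorem D11085 : act 2 n10183 = n11085 := rfl
theorem F43701 : act 1 n11085 = n10588 := d8_1 D11085 (iv F43010) F43009 F39682 (iv F40239)
theorem F43702 : act 3 n11085 = n10404 := d15_2 D10183 D11085 F41046 F33156 (iv F38823)
theorem F43703 : act 4 n11085 = n10226 := d16_2 (iv F40240) D11085 (iv D10226)
theorem F43704 : act 5 n11085 = n10534 := d17_2 F43691 D11085 (iv F43690)
theorem F43705 : act 6 n11085 = n10185 := d18_2 (iv F40241) D11085 (iv D10185)
theorem F43706 : act 7 n11085 = n11085 := d19_2 F40242 D11085 (iv D11085)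
def n11086 : Q := act 8 n10183
theorem D11086 : act 8 n10183 = n11086 := rfl
theorem F43707 : act 1 n11086 = n10189 := d14_1 D11086 (iv D10189) (iv F40239)
theorem F43708 : act 3 n11086 = n10184 := d25_1 D11086 (iv D10184) D10183
theorem F43709 : act 4 n11086 = n10227 := d29_1 D11086 (iv D10227) (iv F40240)
theorem F43710 : act 6 n11086 = n10186 := d34_1 D11086 (iv D10186) (iv F40241)
def n11087 : Q := act 1 n10185
theorem D11087 : act 1 n10185 = n11087 := rfl
theorem F43711 : act 2 n11087 = n10190 := d8_2 D10185 D11087 (iv D10190) (iv D8421) (iv F32078)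
theorem F43712 : act 3 n11087 = n10587 := d9_2 F43289 D11087 (iv F43284)
theorem F43713 : act 4 n11087 = n10228 := d10_2 (iv F40248) D11087 (iv D10228)
theorem F43714 : act 5 n11087 = n11087 := d11_2 F40249 D11087 (iv D11087)
theorem F43715 : act 6 n11087 = n10588 := d12_2 F43705 D11087 (iv F43701)
theorem F43716 : act 7 n11087 = n11087 := d13_2 F40250 D11087 (iv D11087)
def n11088 : Q := act 8 n10185
theorem D11088 : act 8 n10185 = n11088 := rfl
theorem F43717 : act 2 n11088 = n10186 := d20_1 D11088 (iv D10186) D10185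
theorem F43718 : act 4 n11088 = n10229 := d29_1 D11088 (iv D10229) (iv F40248)
theorem F43719 : act 5 n11088 = n11088 := d32_1 D11088 (iv D11088) F40249
def n11089 : Q := act 7 n10186
theorem D11089 : act 7 n10186 = n11089 := rfl
theorem F43720 : act 1 n11089 = n10192 := d13_1 D11089 (iv D10192) (iv F40251)
theorem F43721 : act 3 n11089 = n11089 := d24_1 D11089 (iv D11089) F40252 F32085 (iv F40252)
theorem F43722 : act 4 n11089 = n10230 := d28_1 D11089 (iv D10230) (iv F40253)
theorem F43723 : act 5 n11089 = n11089 := d31_1 D11089 (iv D11089) F40254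
theorem F43724 : act 8 n11089 = n11089 := d35_2 D10186 D11089 (iv D11089) (iv D10186) F32081
def n11090 : Q := act 8 n10187
theorem D11090 : act 8 n10187 = n11090 := rfl
theorem F43725 : act 0 n11090 = n10845 := d7_1 D11090 (iv D10845) (iv F40255)
theorem F43726 : act 3 n11090 = n10188 := d25_1 D11090 (iv D10188) D10187
theorem F43727 : act 5 n11090 = n10189 := d32_1 D11090 (iv D10189) (iv F40256)
theorem F43728 : act 6 n11090 = n11090 := d34_1 D11090 (iv D11090) F40257
def n11091 : Q := act 7 n10189
theorem D11091 : act 7 n10189 = n11091 := rfl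
theorem F43729 : act 0 n11091 = n10848 := d6_1 D11091 (iv D10848) (iv F40265)
theorem F43730 : act 3 n11091 = n11091 := d24_1 D11091 (iv D11091) F40266 F32104 (iv F40266)
theorem F43731 : act 4 n11091 = n10231 := d28_1 D11091 (iv D10231) (iv F40267)
theorem F43732 : act 6 n11091 = n10192 := d33_1 D11091 (iv D10192) (iv F40268)
theorem F43733 : act 8 n11091 = n11091 := d35_2 D10189 D11091 (iv D11091) (iv D10189) F32099
def n11092 : Q := act 0 n10190
theorem D11092 : act 0 n10190 = n11092 := rfl
theorem F43734 : act 1 n11092 = n10849 := d0_2 D10190 D11092 (iv D10849) (iv D9993) (iv F32105)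
theorem F43735 : act 3 n11092 = n11092 := d2_2 F40269 D11092 (iv D11092)
theorem F43736 : act 4 n11092 = n10232 := d3_2 (iv F40270) D11092 (iv D10232)
theorem F43737 : act 5 n11092 = n11092 := d4_2 F40271 D11092 (iv D11092)
theorem F43738 : act 7 n11092 = n11092 := d6_2 F40272 D11092 (iv D11092)
def n11093 : Q := act 8 n10190
theorem D11093 : act 8 n10190 = n11093 := rfl
theorem F43739 : act 1 n11093 = n10191 := d14_1 D11093 (iv D10191) D10190
theorem F43740 : act 3 n11093 = n11093 := d25_1 D11093 (iv D11093) F40269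
theorem F43741 : act 4 n11093 = n10233 := d29_1 D11093 (iv D10233) (iv F40270)
theorem F43742 : act 5 n11093 = n11093 := d32_1 D11093 (iv D11093) F40271
def n11094 : Q := act 7 n10191
theorem D11094 : act 7 n10191 = n11094 := rfl
theorem F43743 : act 0 n11094 = n10851 := d6_1 D11094 (iv D10851) (iv F40273)
theorem F43744 : act 2 n11094 = n10192 := d19_1 D11094 (iv D10192) (iv F40274)
theorem F43745 : act 4 n11094 = n10234 := d28_1 D11094 (iv D10234) (iv F40276)
theorem F43746 : act 5 n11094 = n11094 := d31_1 D11094 (iv D11094) F40277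
theorem F43747 : act 8 n11094 = n11094 := d35_2 D10191 D11094 (iv D11094) (iv D10191) F32109
def n11095 : Q := act 2 n10193
theorem D11095 : act 2 n10193 = n11095 := rfl
theorem F43748 : act 0 n11095 = n10308 := d1_1 D11095 (iv D10308) (iv F40283)
theorem F43749 : act 1 n11095 = n11095 := d8_1 D11095 (iv D11095) F40284 F32140 (iv F40284)
theorem F43750 : act 3 n11095 = n10852 := d15_2 D10193 D11095 (iv D10852) (iv D9996) (iv F32116)
theorem F43751 : act 4 n11095 = n10526 := d16_2 (iv F40285) D11095 (iv D10526)
theorem F43752 : act 5 n11095 = n10700 := d17_2 (iv F40286) D11095 (iv D10700)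
theorem F43753 : act 6 n11095 = n10575 := d18_2 F40288 D11095 F41727
theorem F43754 : act 8 n11095 = n10235 := d20_2 (iv F40287) D11095 (iv D10235)
def n11096 : Q := act 7 n10193
theorem D11096 : act 7 n10193 = n11096 := rfl
theorem F43755 : act 0 n11096 = n10310 := d6_1 D11096 (iv D10310) (iv F40283)
theorem F43756 : act 1 n11096 = n10202 := d13_1 D11096 (iv D10202) (iv F40284)
theorem F43757 : act 4 n11096 = n10314 := d28_1 D11096 F40749 (iv F40285)
theorem F43758 : act 5 n11096 = n10701 := d31_1 D11096 (iv D10701) (iv F40286)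
theorem F43759 : act 6 n11096 = n10317 := d33_1 D11096 F40760 F40288
def n11097 : Q := act 7 n10194
theorem D11097 : act 7 n10194 = n11097 := rfl
theorem F43760 : act 0 n11097 = n10311 := d6_1 D11097 (iv D10311) (iv F40289)
theorem F43761 : act 1 n11097 = n10203 := d13_1 D11097 (iv D10203) (iv F40290)
theorem F43762 : act 2 n11097 = n10856 := d19_1 D11097 (iv D10856) (iv F40291)
theorem F43763 : act 4 n11097 = n10196 := d28_1 D11097 (iv D10196) (iv F40293)
theorem F43764 : act 6 n11097 = n10195 := d33_1 D11097 (iv D10195) D10194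
def n11098 : Q := act 3 n10195
theorem D11098 : act 3 n10195 = n11098 := rfl
theorem F43765 : act 0 n11098 = n10312 := d2_1 D11098 (iv D10312) (iv F40295)
theorem F43766 : act 1 n11098 = n10204 := d9_1 D11098 (iv D10204) (iv F40296)
theorem F43767 : act 5 n11098 = n10702 := d22_2 (iv F40299) D11098 (iv D10702)
def n11099 : Q := act 8 n10195
theorem D11099 : act 8 n10195 = n11099 := rfl
theorem F43768 : act 0 n11099 = n10313 := d7_1 D11099 (iv D10313) (iv F40295)
theorem F43769 : act 1 n11099 = n10205 := d14_1 D11099 (iv D10205) (iv F40296)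
theorem F43770 : act 2 n11099 = n10858 := d20_1 D11099 (iv D10858) (iv F40297)
theorem F43771 : act 4 n11099 = n10198 := d29_1 D11099 (iv D10198) (iv F40298)
theorem F43772 : act 5 n11099 = n10703 := d32_1 D11099 (iv D10703) (iv F40299)
theorem F43773 : act 7 n11099 = n10241 := d35_1 D11099 (iv D10241) (iv D8468) (iv F32118) D10195
def n11100 : Q := act 8 n10196
theorem D11100 : act 8 n10196 = n11100 := rfl
theorem F43774 : act 0 n11100 = n10315 := d7_1 D11100 (iv D10315) (iv F40300)
theorem F43775 : act 1 n11100 = n10206 := d14_1 D11100 (iv D10206) (iv F40301)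
theorem F43776 : act 2 n11100 = n10860 := d20_1 D11100 (iv D10860) (iv F40302)
theorem F43777 : act 3 n11100 = n10574 := d25_1 D11100 (iv D10574) (iv F40303)
theorem F43778 : act 5 n11100 = n11100 := d32_1 D11100 (iv D11100) F40304
theorem F43779 : act 6 n11100 = n10198 := d34_1 D11100 (iv D10198) (iv F40305)
theorem F43780 : act 7 n11100 = n10243 := d35_1 D11100 (iv D10243) (iv D8469) (iv F32124) D10196
def n11101 : Q := act 2 n10197
theorem D11101 : act 2 n10197 = n11101 := rfl
theorem F43781 : act 0 n11101 = n10316 := d1_1 D11101 (iv D10316) (iv F40306)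
theorem F43782 : act 1 n11101 = n10633 := d8_1 D11101 F41901 F35407 (iv F38655) (iv F40307)
theorem F43783 : act 3 n11101 = n10861 := d15_2 D10197 D11101 (iv D10861) (iv D10000) (iv F32127)
theorem F43784 : act 5 n11101 = n10199 := d17_2 (iv F40308) D11101 (iv D10199)
theorem F43785 : act 6 n11101 = n10573 := d18_2 (iv F40309) D11101 F41721
theorem F43786 : act 7 n11101 = n10527 := d19_2 (iv F40310) D11101 (iv D10527)
def n11102 : Q := act 4 n10197
theorem D11102 : act 4 n10197 = n11102 := rfl
theorem F43787 : act 0 n11102 = n10317 := d3_1 D11102 (iv D10317) (iv F40306)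
theorem F43788 : act 1 n11102 = n10207 := d10_1 D11102 (iv D10207) (iv F40307)
theorem F43789 : act 6 n11102 = n10310 := d27_2 (iv F40309) D11102 F40732
theorem F43790 : act 7 n11102 = n10309 := d28_2 (iv F40310) D11102 F40729
def n11103 : Q := act 8 n10197
theorem D11103 : act 8 n10197 = n11103 := rfl
theorem F43791 : act 0 n11103 = n10318 := d7_1 D11103 (iv D10318) (iv F40306)
theorem F43792 : act 1 n11103 = n10208 := d14_1 D11103 (iv D10208) (iv F40307)
theorem F43793 : act 3 n11103 = n10198 := d25_1 D11103 (iv D10198) D10197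
theorem F43794 : act 5 n11103 = n10201 := d32_1 D11103 (iv D10201) (iv F40308)
theorem F43795 : act 6 n11103 = n10574 := d34_1 D11103 (iv D10574) (iv F40309)
theorem F43796 : act 7 n11103 = n10593 := d35_1 D11103 (iv D10593) (iv D9291) (iv F38652) (iv F40310)
def n11104 : Q := act 4 n10199
theorem D11104 : act 4 n10199 = n11104 := rfl
theorem F43797 : act 0 n11104 = n10319 := d3_1 D11104 (iv D10319) (iv F40316)
theorem F43798 : act 2 n11104 = n10200 := d16_1 D11104 (iv D10200) D10199
theorem F43799 : act 6 n11104 = n11104 := d27_2 F40318 D11104 (iv D11104)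
theorem F43800 : act 7 n11104 = n10528 := d28_2 (iv F40319) D11104 (iv D10528)
def n11105 : Q := act 8 n10199
theorem D11105 : act 8 n10199 = n11105 := rfl
theorem F43801 : act 0 n11105 = n10320 := d7_1 D11105 (iv D10320) (iv F40316)
theorem F43802 : act 2 n11105 = n10201 := d20_1 D11105 (iv D10201) D10199
theorem F43803 : act 3 n11105 = n10865 := d25_1 D11105 (iv D10865) (iv F40317)
theorem F43804 : act 6 n11105 = n11105 := d34_1 D11105 (iv D11105) F40318
def n11106 : Q := act 5 n10200
theorem D11106 : act 5 n10200 = n11106 := rfl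
theorem F43805 : act 0 n11106 = n10321 := d4_1 D11106 (iv D10321) (iv F40320)
theorem F43806 : act 1 n11106 = n10209 := d11_1 D11106 (iv D10209) (iv F40321)
theorem F43807 : act 3 n11106 = n10709 := d22_1 D11106 (iv D10709) (iv F40322)
theorem F43808 : act 7 n11106 = n10530 := d31_2 (iv F40324) D11106 (iv D10530)
def n11107 : Q := act 8 n10200
theorem D11107 : act 8 n10200 = n11107 := rfl
theorem F43809 : act 0 n11107 = n10322 := d7_1 D11107 (iv D10322) (iv F40320)
theorem F43810 : act 1 n11107 = n10210 := d14_1 D11107 (iv D10210) (iv F40321)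
theorem F43811 : act 3 n11107 = n10710 := d25_1 D11107 (iv D10710) (iv F40322)
theorem F43812 : act 4 n11107 = n10201 := d29_1 D11107 (iv D10201) D10200
theorem F43813 : act 6 n11107 = n11107 := d34_1 D11107 (iv D11107) F40323
def n11108 : Q := act 7 n10201
theorem D11108 : act 7 n10201 = n11108 := rfl
theorem F43814 : act 0 n11108 = n10323 := d6_1 D11108 (iv D10323) (iv F40325)
theorem F43815 : act 1 n11108 = n10211 := d13_1 D11108 (iv D10211) (iv F40326)
theorem F43816 : act 3 n11108 = n10251 := d24_1 D11108 (iv D10251) F32318 (iv F32138) (iv F40327)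
theorem F43817 : act 5 n11108 = n10593 := d31_1 D11108 (iv F43796) F43794
theorem F43818 : act 6 n11108 = n11108 := d33_1 D11108 (iv D11108) F40328
theorem F43819 : act 8 n11108 = n10532 := d35_2 D10201 D11108 (iv D10532) (iv D9077) (iv F32132)
def n11109 : Q := act 3 n10202
theorem D11109 : act 3 n10202 = n11109 := rfl
theorem F43820 : act 0 n11109 = n10216 := d2_1 D11109 (iv D10216) (iv F40329)
theorem F43821 : act 4 n11109 = n10326 := d21_2 (iv F40331) D11109 (iv D10326) F32539 D8542
theorem F43822 : act 5 n11109 = n10712 := d22_2 (iv F40332) D11109 (iv D10712)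
theorem F43823 : act 6 n11109 = n10329 := d23_2 (iv F40333) D11109 F40802
theorem F43824 : act 7 n11109 = n10204 := d24_2 D10202 D11109 (iv D10204) (iv D8430) D8428
def n11110 : Q := act 8 n10202
theorem D11110 : act 8 n10202 = n11110 := rfl
theorem F43825 : act 0 n11110 = n10217 := d7_1 D11110 (iv D10217) (iv F40329)
theorem F43826 : act 2 n11110 = n11110 := d20_1 D11110 (iv D11110) F40330
theorem F43827 : act 4 n11110 = n10331 := d29_1 D11110 (iv D10331) (iv F40331)
theorem F43828 : act 5 n11110 = n10713 := d32_1 D11110 (iv D10713) (iv F40332)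
theorem F43829 : act 6 n11110 = n10333 := d34_1 D11110 (iv D10333) (iv F40333)
theorem F43830 : act 7 n11110 = n10255 := d35_1 D11110 (iv D10255) (iv D8476) (iv F32143) D10202
def n11111 : Q := act 3 n10203
theorem D11111 : act 3 n10203 = n11111 := rfl
theorem F43831 : act 0 n11111 = n10218 := d2_1 D11111 (iv D10218) (iv F40334)
theorem F43832 : act 4 n11111 = n10324 := d21_2 (iv F40336) D11111 (iv D10324) F32530 (iv F38806)
theorem F43833 : act 6 n11111 = n10204 := d23_2 (iv F40337) D11111 (iv D10204)
theorem F43834 : act 7 n11111 = n10329 := d24_2 D10203 D11111 F40802 F32560 (iv F38787)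
def n11112 : Q := act 8 n10203
theorem D11112 : act 8 n10203 = n11112 := rfl
theorem F43835 : act 0 n11112 = n10219 := d7_1 D11112 (iv D10219) (iv F40334)
theorem F43836 : act 2 n11112 = n10213 := d20_1 D11112 (iv D10213) (iv F40335)
theorem F43837 : act 4 n11112 = n10206 := d29_1 D11112 (iv D10206) (iv F40336)
theorem F43838 : act 6 n11112 = n10205 := d34_1 D11112 (iv D10205) (iv F40337)
theorem F43839 : act 7 n11112 = n10258 := d35_1 D11112 (iv D10258) (iv D8478) (iv F32147) D10203
def n11113 : Q := act 2 n10204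
theorem D11113 : act 2 n10204 = n11113 := rfl
theorem F43840 : act 0 n11113 = n10220 := d1_1 D11113 (iv D10220) (iv F40338)
theorem F43841 : act 3 n11113 = n10214 := d15_2 D10204 D11113 (iv D10214) (iv D8438) (iv F32149)
theorem F43842 : act 5 n11113 = n10714 := d17_2 (iv F40339) D11113 (iv D10714)
def n11114 : Q := act 4 n10204
theorem D11114 : act 4 n10204 = n11114 := rfl
theorem F43843 : act 0 n11114 = n10221 := d3_1 D11114 (iv D10221) (iv F40338)
theorem F43844 : act 3 n11114 = n10207 := d21_1 D11114 (iv D10207) (iv D8432) (iv F32150) D10204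
theorem F43845 : act 6 n11114 = n10324 := d27_2 F43833 D11114 (iv F43832)
theorem F43846 : act 7 n11114 = n10326 := d28_2 F43824 D11114 (iv F43821)
def n11115 : Q := act 8 n10204
theorem D11115 : act 8 n10204 = n11115 := rfl
theorem F43847 : act 0 n11115 = n10222 := d7_1 D11115 (iv D10222) (iv F40338)
theorem F43848 : act 3 n11115 = n10205 := d25_1 D11115 (iv D10205) D10204
theorem F43849 : act 5 n11115 = n10716 := d32_1 D11115 (iv D10716) (iv F40339)
def n11116 : Q := act 8 n10207
theorem D11116 : act 8 n10207 = n11116 := rfl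
theorem F43850 : act 0 n11116 = n10223 := d7_1 D11116 (iv D10223) (iv F40351)
theorem F43851 : act 2 n11116 = n10444 := d20_1 D11116 (iv D10444) (iv F40352)
theorem F43852 : act 4 n11116 = n10208 := d29_1 D11116 (iv D10208) D10207
theorem F43853 : act 6 n11116 = n10325 := d34_1 D11116 (iv D10325) (iv F40353)
theorem F43854 : act 7 n11116 = n10381 := d35_1 D11116 (iv D10381) (iv D8606) (iv F32527) (iv F40354)
def n11117 : Q := act 8 n10209
theorem D11117 : act 8 n10209 = n11117 := rfl
theorem F43855 : act 0 n11117 = n10224 := d7_1 D11117 (iv D10224) (iv F40361)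
theorem F43856 : act 3 n11117 = n10721 := d25_1 D11117 (iv D10721) (iv F40362)
theorem F43857 : act 5 n11117 = n10210 := d32_1 D11117 (iv D10210) D10209
def n11118 : Q := act 7 n10210
theorem D11118 : act 7 n10210 = n11118 := rfl
theorem F43858 : act 0 n11118 = n10225 := d6_1 D11118 (iv D10225) (iv F40364)
theorem F43859 : act 2 n11118 = n10652 := d19_1 D11118 (iv F43668) F43664
theorem F43860 : act 4 n11118 = n10211 := d28_1 D11118 (iv D10211) (iv F40366)
theorem F43861 : act 6 n11118 = n11118 := d33_1 D11118 (iv D11118) F40367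
theorem F43862 : act 8 n11118 = n10533 := d35_2 D10210 D11118 (iv D10533) (iv D9089) (iv F32166)
def n11119 : Q := act 2 n10212
theorem D11119 : act 2 n10212 = n11119 := rfl
theorem F43863 : act 0 n11119 = n10226 := d1_1 D11119 (iv D10226) (iv F40374)
theorem F43864 : act 6 n11119 = n10214 := d18_2 (iv F40376) D11119 (iv D10214)
theorem F43865 : act 7 n11119 = n11119 := d19_2 F40377 D11119 (iv D11119)
def n11120 : Q := act 8 n10212
theorem D11120 : act 8 n10212 = n11120 := rfl
theorem F43866 : act 0 n11120 = n10227 := d7_1 D11120 (iv D10227) (iv F40374)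
theorem F43867 : act 1 n11120 = n10890 := d14_1 D11120 (iv D10890) (iv F40375)
theorem F43868 : act 3 n11120 = n10213 := d25_1 D11120 (iv D10213) D10212
theorem F43869 : act 6 n11120 = n10215 := d34_1 D11120 (iv D10215) (iv F40376)
def n11121 : Q := act 1 n10214
theorem D11121 : act 1 n10214 = n11121 := rfl
theorem F43870 : act 2 n11121 = n10891 := d8_2 D10214 D11121 (iv D10891) (iv D10021) (iv F32181)
theorem F43871 : act 5 n11121 = n10723 := d11_2 (iv F40384) D11121 (iv D10723)
theorem F43872 : act 7 n11121 = n11121 := d13_2 F40385 D11121 (iv D11121)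
def n11122 : Q := act 8 n10214
theorem D11122 : act 8 n10214 = n11122 := rfl
theorem F43873 : act 0 n11122 = n10229 := d7_1 D11122 (iv D10229) (iv F40383)
theorem F43874 : act 2 n11122 = n10215 := d20_1 D11122 (iv D10215) D10214
theorem F43875 : act 5 n11122 = n10724 := d32_1 D11122 (iv D10724) (iv F40384)
def n11123 : Q := act 7 n10215
theorem D11123 : act 7 n10215 = n11123 := rfl
theorem F43876 : act 0 n11123 = n10230 := d6_1 D11123 (iv D10230) (iv F40386)
theorem F43877 : act 1 n11123 = n10893 := d13_1 D11123 (iv D10893) (iv F40387)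
theorem F43878 : act 3 n11123 = n10275 := d24_1 D11123 (iv D10275) F32379 (iv F32188) (iv F40388)
theorem F43879 : act 5 n11123 = n10725 := d31_1 D11123 (iv D10725) (iv F40389)
theorem F43880 : act 8 n11123 = n11123 := d35_2 D10215 D11123 (iv D11123) (iv D10215) F32183
def n11124 : Q := act 8 n10216
theorem D11124 : act 8 n10216 = n11124 := rfl
theorem F43881 : act 1 n11124 = n10341 := d14_1 D11124 (iv D10341) (iv F40390)
theorem F43882 : act 3 n11124 = n10217 := d25_1 D11124 (iv D10217) D10216
theorem F43883 : act 4 n11124 = n10342 := d29_1 D11124 (iv D10342) (iv F40391)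
theorem F43884 : act 5 n11124 = n10728 := d32_1 D11124 (iv D10728) (iv F40392)
theorem F43885 : act 6 n11124 = n10346 := d34_1 D11124 (iv D10346) (iv F40393)
def n11125 : Q := act 2 n10218
theorem D11125 : act 2 n10218 = n11125 := rfl
theorem F43886 : act 3 n11125 = n10226 := d15_2 D10218 D11125 (iv D10226) (iv D8455) (iv F32209)
theorem F43887 : act 4 n11125 = n10340 := d16_2 (iv F40402) D11125 (iv D10340)
theorem F43888 : act 6 n11125 = n10220 := d18_2 (iv F40403) D11125 (iv D10220)
theorem F43889 : act 7 n11125 = n10343 := d19_2 (iv F40404) D11125 F40854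
def n11126 : Q := act 8 n10218
theorem D11126 : act 8 n10218 = n11126 := rfl
theorem F43890 : act 1 n11126 = n10342 := d14_1 D11126 (iv D10342) (iv F40401)
theorem F43891 : act 3 n11126 = n10219 := d25_1 D11126 (iv D10219) D10218
theorem F43892 : act 4 n11126 = n10341 := d29_1 D11126 (iv D10341) (iv F40402)
theorem F43893 : act 6 n11126 = n10222 := d34_1 D11126 (iv D10222) (iv F40403)
def n11127 : Q := act 1 n10220
theorem D11127 : act 1 n10220 = n11127 := rfl
theorem F43894 : act 2 n11127 = n10282 := d8_2 D10220 D11127 F40631 (iv D8561) (iv F32212)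
theorem F43895 : act 3 n11127 = n10228 := d9_2 (iv F40410) D11127 (iv D10228)
theorem F43896 : act 5 n11127 = n10284 := d11_2 (iv F40411) D11127 F40637
def n11128 : Q := act 8 n10220
theorem D11128 : act 8 n10220 = n11128 := rfl
theorem F43897 : act 2 n11128 = n10222 := d20_1 D11128 (iv D10222) D10220
theorem F43898 : act 3 n11128 = n10229 := d25_1 D11128 (iv D10229) (iv F40410)
theorem F43899 : act 5 n11128 = n10730 := d32_1 D11128 (iv D10730) (iv F40411)
def n11129 : Q := act 8 n10221
theorem D11129 : act 8 n10221 = n11129 := rfl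
theorem F43900 : act 1 n11129 = n10346 := d14_1 D11129 (iv D10346) (iv F40412)
theorem F43901 : act 3 n11129 = n10223 := d25_1 D11129 (iv D10223) (iv F40413)
theorem F43902 : act 4 n11129 = n10222 := d29_1 D11129 (iv D10222) D10221
theorem F43903 : act 6 n11129 = n10341 := d34_1 D11129 (iv D10341) (iv F40414)
def n11130 : Q := act 7 n10222
theorem D11130 : act 7 n10222 = n11130 := rfl
theorem F43904 : act 1 n11130 = n10347 := d13_1 D11130 (iv D10347) (iv F40416)
theorem F43905 : act 3 n11130 = n10292 := d24_1 D11130 (iv D10292) F32407 (iv F32218) (iv F40417)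
theorem F43906 : act 5 n11130 = n10733 := d31_1 D11130 (iv D10733) (iv F40418)
def n11131 : Q := act 7 n10224
theorem D11131 : act 7 n10224 = n11131 := rfl
theorem F43907 : act 1 n11131 = n10350 := d13_1 D11131 (iv D10350) (iv F40424)
theorem F43908 : act 2 n11131 = n10447 := d19_1 D11131 (iv F43610) F43605
theorem F43909 : act 4 n11131 = n10405 := d28_1 D11131 (iv F43603) F43600
theorem F43910 : act 5 n11131 = n10225 := d31_1 D11131 (iv D10225) (iv F40426)
theorem F43911 : act 8 n11131 = n10404 := d35_2 D10224 D11131 (iv D10404) F38623 (iv F32235)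
def n11132 : Q := act 3 n10225
theorem D11132 : act 3 n10225 = n11132 := rfl
theorem F43912 : act 1 n11132 = n10351 := d9_1 D11132 (iv D10351) (iv F40427)
theorem F43913 : act 4 n11132 = n10300 := d21_2 (iv F40429) D11132 (iv D10300) F32437 (iv F32241)
theorem F43914 : act 6 n11132 = n11132 := d23_2 F40430 D11132 (iv D11132)
theorem F43915 : act 7 n11132 = n10739 := d24_2 D10225 D11132 (iv D10739) (iv D9901) (iv F32237)
theorem F43916 : act 8 n11132 = n10534 := d25_2 (iv F40431) D11132 (iv D10534)
def n11133 : Q := act 8 n10226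
theorem D11133 : act 8 n10226 = n11133 := rfl
theorem F43917 : act 2 n11133 = n10227 := d20_1 D11133 (iv D10227) D10226
theorem F43918 : act 6 n11133 = n10229 := d34_1 D11133 (iv D10229) (iv F40432)
def n11134 : Q := act 7 n10227
theorem D11134 : act 7 n10227 = n11134 := rfl
theorem F43919 : act 1 n11134 = n10231 := d13_1 D11134 (iv D10231) (iv F40434)
theorem F43920 : act 3 n11134 = n10302 := d24_1 D11134 (iv D10302) F32450 (iv F32254) (iv F40435)
theorem F43921 : act 6 n11134 = n10230 := d33_1 D11134 (iv D10230) (iv F40436)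
theorem F43922 : act 8 n11134 = n11134 := d35_2 D10227 D11134 (iv D11134) (iv D10227) F32250
def n11135 : Q := act 0 n10228
theorem D11135 : act 0 n10228 = n11135 := rfl
theorem F43923 : act 2 n11135 = n10232 := d1_2 (iv F40437) D11135 (iv D10232)
theorem F43924 : act 5 n11135 = n10271 := d4_2 (iv F40438) D11135 F40594
theorem F43925 : act 7 n11135 = n11135 := d6_2 F40439 D11135 (iv D11135)
def n11136 : Q := act 8 n10228
theorem D11136 : act 8 n10228 = n11136 := rfl
theorem F43926 : act 1 n11136 = n10229 := d14_1 D11136 (iv D10229) D10228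
theorem F43927 : act 2 n11136 = n10233 := d20_1 D11136 (iv D10233) (iv F40437)
theorem F43928 : act 5 n11136 = n10301 := d32_1 D11136 (iv D10301) (iv F40438)
def n11137 : Q := act 7 n10229
theorem D11137 : act 7 n10229 = n11137 := rfl
theorem F43929 : act 2 n11137 = n10230 := d19_1 D11137 (iv D10230) (iv F40440)
theorem F43930 : act 5 n11137 = n10740 := d31_1 D11137 (iv D10740) (iv F40441)
theorem F43931 : act 8 n11137 = n11137 := d35_2 D10229 D11137 (iv D11137) (iv D10229) F32256
def n11138 : Q := act 8 n10232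
theorem D11138 : act 8 n10232 = n11138 := rfl
theorem F43932 : act 0 n11138 = n10233 := d7_1 D11138 (iv D10233) D10232
theorem F43933 : act 1 n11138 = n10933 := d14_1 D11138 (iv D10933) (iv F40450)
theorem F43934 : act 3 n11138 = n10270 := d25_1 D11138 (iv D10270) (iv F40451)
theorem F43935 : act 5 n11138 = n10272 := d32_1 D11138 (iv D10272) (iv F40452)
def n11139 : Q := act 7 n10233
theorem D11139 : act 7 n10233 = n11139 := rfl
theorem F43936 : act 1 n11139 = n10234 := d13_1 D11139 (iv D10234) (iv F40454)
theorem F43937 : act 5 n11139 = n10302 := d31_1 D11139 (iv D10302) (iv F40456)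
theorem F43938 : act 8 n11139 = n11139 := d35_2 D10233 D11139 (iv D11139) (iv D10233) F32279
def n11140 : Q := act 6 n10235
theorem D11140 : act 6 n10235 = n11140 := rfl
theorem F43939 : act 0 n11140 = n10352 := d5_1 D11140 (iv D10352) (iv F40461)
theorem F43940 : act 1 n11140 = n11140 := d12_1 D11140 (iv D11140) F40462
theorem F43941 : act 2 n11140 = n10236 := d18_1 D11140 (iv D10236) D10235
theorem F43942 : act 4 n11140 = n10535 := d27_1 D11140 (iv D10535) (iv F40463)
theorem F43943 : act 8 n11140 = n10575 := d34_2 F43754 D11140 (iv F43753)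
def n11141 : Q := act 7 n10235
theorem D11141 : act 7 n10235 = n11141 := rfl
theorem F43944 : act 0 n11141 = n10353 := d6_1 D11141 (iv D10353) (iv F40461)
theorem F43945 : act 1 n11141 = n11141 := d13_1 D11141 (iv D11141) F40462
theorem F43946 : act 2 n11141 = n10237 := d19_1 D11141 (iv D10237) D10235
theorem F43947 : act 4 n11141 = n10536 := d28_1 D11141 (iv D10536) (iv F40463)
def n11142 : Q := act 5 n10236
theorem D11142 : act 5 n10236 = n11142 := rfl
theorem F43948 : act 0 n11142 = n10354 := d4_1 D11142 (iv D10354) (iv F40464)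
theorem F43949 : act 1 n11142 = n10252 := d11_1 D11142 (iv D10252) (iv F40465)
theorem F43950 : act 3 n11142 = n10238 := d22_1 D11142 (iv D10238) (iv F40466)
theorem F43951 : act 4 n11142 = n10582 := d26_1 D11142 F41748 F34931 (iv F38782) (iv F40467)
theorem F43952 : act 8 n11142 = n10576 := d32_2 (iv F40468) D11142 (iv D10576)
def n11143 : Q := act 7 n10236
theorem D11143 : act 7 n10236 = n11143 := rfl
theorem F43953 : act 0 n11143 = n10355 := d6_1 D11143 (iv D10355) (iv F40464)
theorem F43954 : act 1 n11143 = n10253 := d13_1 D11143 (iv D10253) (iv F40465)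
theorem F43955 : act 4 n11143 = n10537 := d28_1 D11143 (iv D10537) (iv F40467)
theorem F43956 : act 6 n11143 = n10237 := d33_1 D11143 (iv D10237) D10236
def n11144 : Q := act 3 n10237
theorem D11144 : act 3 n10237 = n11144 := rfl
theorem F43957 : act 0 n11144 = n10356 := d2_1 D11144 (iv D10356) (iv F40469)
theorem F43958 : act 1 n11144 = n10254 := d9_1 D11144 (iv D10254) (iv F40470)
theorem F43959 : act 7 n11144 = n10240 := d24_2 D10237 D11144 (iv D10240) (iv D8468) D8466
def n11145 : Q := act 8 n10237
theorem D11145 : act 8 n10237 = n11145 := rfl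
theorem F43960 : act 0 n11145 = n10357 := d7_1 D11145 (iv D10357) (iv F40469)
theorem F43961 : act 1 n11145 = n10255 := d14_1 D11145 (iv D10255) (iv F40470)
theorem F43962 : act 4 n11145 = n10539 := d29_1 D11145 (iv D10539) (iv F40471)
def n11146 : Q := act 7 n10238
theorem D11146 : act 7 n10238 = n11146 := rfl
theorem F43963 : act 0 n11146 = n10338 := d6_1 D11146 F40842 (iv F40472)
theorem F43964 : act 1 n11146 = n10256 := d13_1 D11146 (iv D10256) (iv F40473)
theorem F43965 : act 2 n11146 = n10991 := d19_1 D11146 F43280 (iv F40474)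
theorem F43966 : act 4 n11146 = n11146 := d28_1 D11146 (iv D11146) F40475
theorem F43967 : act 5 n11146 = n10239 := d31_1 D11146 (iv D10239) D10238
def n11147 : Q := act 3 n10239
theorem D11147 : act 3 n10239 = n11147 := rfl
theorem F43968 : act 0 n11147 = n10358 := d2_1 D11147 (iv D10358) (iv F40476)
theorem F43969 : act 1 n11147 = n10257 := d9_1 D11147 (iv D10257) (iv F40477)
theorem F43970 : act 6 n11147 = n10240 := d23_2 (iv F40479) D11147 (iv D10240)
def n11148 : Q := act 8 n10239
theorem D11148 : act 8 n10239 = n11148 := rfl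
theorem F43971 : act 0 n11148 = n10359 := d7_1 D11148 (iv D10359) (iv F40476)
theorem F43972 : act 1 n11148 = n10258 := d14_1 D11148 (iv D10258) (iv F40477)
theorem F43973 : act 4 n11148 = n10243 := d29_1 D11148 (iv D10243) (iv F40478)
theorem F43974 : act 6 n11148 = n10241 := d34_1 D11148 (iv D10241) (iv F40479)
def n11149 : Q := act 2 n10240
theorem D11149 : act 2 n10240 = n11149 := rfl
theorem F43975 : act 0 n11149 = n10360 := d1_1 D11149 (iv D10360) (iv F40480)
def n11150 : Q := act 4 n10240
theorem D11150 : act 4 n10240 = n11150 := rfl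
theorem F43976 : act 0 n11150 = n10361 := d3_1 D11150 (iv D10361) (iv F40480)
theorem F43977 : act 1 n11150 = n10260 := d10_1 D11150 (iv D10260) (iv F40481)
theorem F43978 : act 3 n11150 = n10245 := d21_1 D11150 (iv D10245) (iv D8470) (iv F32296) D10240
def n11151 : Q := act 8 n10240
theorem D11151 : act 8 n10240 = n11151 := rfl
theorem F43979 : act 0 n11151 = n10362 := d7_1 D11151 (iv D10362) (iv F40480)
theorem F43980 : act 1 n11151 = n10261 := d14_1 D11151 (iv D10261) (iv F40481)
theorem F43981 : act 3 n11151 = n10241 := d25_1 D11151 (iv D10241) D10240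
def n11152 : Q := act 2 n10242
theorem D11152 : act 2 n10242 = n11152 := rfl
theorem F43982 : act 0 n11152 = n10363 := d1_1 D11152 (iv D10363) (iv F40485)
theorem F43983 : act 1 n11152 = n11152 := d8_1 D11152 (iv D11152) F40486 F32339 (iv F40486)
theorem F43984 : act 5 n11152 = n11152 := d17_2 F40487 D11152 (iv D11152)
theorem F43985 : act 6 n11152 = n10244 := d18_2 (iv F40488) D11152 (iv D10244)
theorem F43986 : act 7 n11152 = n10542 := d19_2 (iv F40489) D11152 (iv D10542)
def n11153 : Q := act 4 n10242
theorem D11153 : act 4 n10242 = n11153 := rfl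
theorem F43987 : act 0 n11153 = n10364 := d3_1 D11153 (iv D10364) (iv F40485)
theorem F43988 : act 1 n11153 = n10262 := d10_1 D11153 (iv D10262) (iv F40486)
theorem F43989 : act 6 n11153 = n10245 := d27_2 (iv F40488) D11153 (iv D10245)
theorem F43990 : act 7 n11153 = n10543 := d28_2 (iv F40489) D11153 (iv D10543)
def n11154 : Q := act 8 n10242
theorem D11154 : act 8 n10242 = n11154 := rfl
theorem F43991 : act 0 n11154 = n10365 := d7_1 D11154 (iv D10365) (iv F40485)
theorem F43992 : act 1 n11154 = n10263 := d14_1 D11154 (iv D10263) (iv F40486)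
theorem F43993 : act 3 n11154 = n10243 := d25_1 D11154 (iv D10243) D10242
theorem F43994 : act 5 n11154 = n11154 := d32_1 D11154 (iv D11154) F40487
theorem F43995 : act 6 n11154 = n10246 := d34_1 D11154 (iv D10246) (iv F40488)
theorem F43996 : act 7 n11154 = n10596 := d35_1 D11154 (iv D10596) F35175 (iv F38926) (iv F40489)
def n11155 : Q := act 4 n10244
theorem D11155 : act 4 n10244 = n11155 := rfl
theorem F43997 : act 0 n11155 = n10366 := d3_1 D11155 (iv D10366) (iv F40494)
theorem F43998 : act 1 n11155 = n11155 := d10_1 D11155 (iv D11155) F40495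
theorem F43999 : act 2 n11155 = n10245 := d16_1 D11155 (iv D10245) D10244
theorem F44000 : act 7 n11155 = n10544 := d28_2 (iv F40497) D11155 (iv D10544)
def n11156 : Q := act 8 n10244
theorem D11156 : act 8 n10244 = n11156 := rfl
theorem F44001 : act 0 n11156 = n10367 := d7_1 D11156 (iv D10367) (iv F40494)
theorem F44002 : act 1 n11156 = n11156 := d14_1 D11156 (iv D11156) F40495
theorem F44003 : act 2 n11156 = n10246 := d20_1 D11156 (iv D10246) D10244
theorem F44004 : act 5 n11156 = n10248 := d32_1 D11156 (iv D10248) (iv F40496)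
def n11157 : Q := act 5 n10245
theorem D11157 : act 5 n10245 = n11157 := rfl
theorem F44005 : act 0 n11157 = n10368 := d4_1 D11157 (iv D10368) (iv F40498)
theorem F44006 : act 1 n11157 = n10264 := d11_1 D11157 (iv D10264) (iv F40499)
theorem F44007 : act 4 n11157 = n10249 := d26_1 D11157 (iv D10249) (iv D8473) (iv F32303) D10245
theorem F44008 : act 7 n11157 = n10546 := d31_2 (iv F40500) D11157 (iv D10546)
def n11158 : Q := act 8 n10245
theorem D11158 : act 8 n10245 = n11158 := rfl
theorem F44009 : act 0 n11158 = n10369 := d7_1 D11158 (iv D10369) (iv F40498)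
theorem F44010 : act 1 n11158 = n10265 := d14_1 D11158 (iv D10265) (iv F40499)
theorem F44011 : act 4 n11158 = n10246 := d29_1 D11158 (iv D10246) D10245
def n11159 : Q := act 7 n10246
theorem D11159 : act 7 n10246 = n11159 := rfl
theorem F44012 : act 0 n11159 = n10370 := d6_1 D11159 (iv D10370) (iv F40501)
theorem F44013 : act 1 n11159 = n10266 := d13_1 D11159 (iv D10266) (iv F40502)
theorem F44014 : act 3 n11159 = n10593 := d24_1 D11159 (iv F43796) F43793 F40315 (iv F40503)
theorem F44015 : act 5 n11159 = n10251 := d31_1 D11159 (iv D10251) (iv F40504)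
theorem F44016 : act 6 n11159 = n10596 := d33_1 D11159 (iv F43996) F43995
theorem F44017 : act 8 n11159 = n10548 := d35_2 D10246 D11159 (iv D10548) (iv D9141) (iv F32304)
def n11160 : Q := act 3 n10247
theorem D11160 : act 3 n10247 = n11160 := rfl
theorem F44018 : act 0 n11160 = n10371 := d2_1 D11160 (iv D10371) (iv F40505)
theorem F44019 : act 1 n11160 = n11160 := d9_1 D11160 (iv D11160) F40506
theorem F44020 : act 6 n11160 = n11160 := d23_2 F40508 D11160 (iv D11160)
def n11161 : Q := act 5 n10247
theorem D11161 : act 5 n10247 = n11161 := rfl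
theorem F44021 : act 0 n11161 = n10372 := d4_1 D11161 (iv D10372) (iv F40505)
theorem F44022 : act 1 n11161 = n11161 := d11_1 D11161 (iv D11161) F40506
theorem F44023 : act 2 n11161 = n10249 := d17_1 D11161 (iv D10249) (iv F40507)
theorem F44024 : act 7 n11161 = n10550 := d31_2 (iv F40509) D11161 (iv D10550)
def n11162 : Q := act 8 n10247
theorem D11162 : act 8 n10247 = n11162 := rfl
theorem F44025 : act 0 n11162 = n10373 := d7_1 D11162 (iv D10373) (iv F40505)
theorem F44026 : act 1 n11162 = n11162 := d14_1 D11162 (iv D11162) F40506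
theorem F44027 : act 2 n11162 = n10250 := d20_1 D11162 (iv D10250) (iv F40507)
theorem F44028 : act 4 n11162 = n10248 := d29_1 D11162 (iv D10248) D10247
theorem F44029 : act 6 n11162 = n11162 := d34_1 D11162 (iv D11162) F40508
def n11163 : Q := act 7 n10248
theorem D11163 : act 7 n10248 = n11163 := rfl
theorem F44030 : act 0 n11163 = n10374 := d6_1 D11163 (iv D10374) (iv F40510)
theorem F44031 : act 1 n11163 = n11163 := d13_1 D11163 (iv D11163) F40511
theorem F44032 : act 2 n11163 = n10251 := d19_1 D11163 (iv D10251) (iv F40512)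
theorem F44033 : act 6 n11163 = n11163 := d33_1 D11163 (iv D11163) F40513
theorem F44034 : act 8 n11163 = n10552 := d35_2 D10248 D11163 (iv D10552) (iv D9143) (iv F32311)
def n11164 : Q := act 6 n10249
theorem D11164 : act 6 n10249 = n11164 := rfl
theorem F44035 : act 0 n11164 = n10375 := d5_1 D11164 (iv D10375) (iv F40514)
theorem F44036 : act 1 n11164 = n10267 := d12_1 D11164 (iv D10267) (iv F40515)
theorem F44037 : act 5 n11164 = n11164 := d30_1 D11164 (iv D11164) (iv D10249) F32314 D10249
theorem F44038 : act 7 n11164 = n10553 := d33_2 (iv F40516) D11164 (iv D10553)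
def n11165 : Q := act 8 n10249
theorem D11165 : act 8 n10249 = n11165 := rfl
theorem F44039 : act 0 n11165 = n10376 := d7_1 D11165 (iv D10376) (iv F40514)
theorem F44040 : act 1 n11165 = n10268 := d14_1 D11165 (iv D10268) (iv F40515)
theorem F44041 : act 5 n11165 = n10250 := d32_1 D11165 (iv D10250) D10249
def n11166 : Q := act 7 n10250
theorem D11166 : act 7 n10250 = n11166 := rfl
theorem F44042 : act 0 n11166 = n10377 := d6_1 D11166 (iv D10377) (iv F40517)
theorem F44043 : act 1 n11166 = n10269 := d13_1 D11166 (iv D10269) (iv F40518)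
theorem F44044 : act 4 n11166 = n10251 := d28_1 D11166 (iv D10251) (iv F40519)
theorem F44045 : act 6 n11166 = n11166 := d33_1 D11166 (iv D11166) F40520
theorem F44046 : act 8 n11166 = n10555 := d35_2 D10250 D11166 (iv D10555) (iv D9145) (iv F32315)
def n11167 : Q := act 7 n10252
theorem D11167 : act 7 n10252 = n11167 := rfl
theorem F44047 : act 0 n11167 = n10276 := d6_1 D11167 (iv D10276) (iv F40525)
theorem F44048 : act 2 n11167 = n11167 := d19_1 D11167 (iv D11167) F40526
theorem F44049 : act 4 n11167 = n10585 := d28_1 D11167 (iv D10585) (iv F40528)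
theorem F44050 : act 5 n11167 = n10253 := d31_1 D11167 (iv D10253) D10252
def n11168 : Q := act 3 n10253
theorem D11168 : act 3 n10253 = n11168 := rfl
theorem F44051 : act 0 n11168 = n10277 := d2_1 D11168 (iv D10277) (iv F40530)
theorem F44052 : act 4 n11168 = n10624 := d21_2 (iv F40532) D11168 (iv D10624) F35311 (iv F38785)
theorem F44053 : act 6 n11168 = n10254 := d23_2 (iv F40533) D11168 (iv D10254)
theorem F44054 : act 7 n11168 = n10257 := d24_2 D10253 D11168 (iv D10257) (iv D8478) (iv F32322)
def n11169 : Q := act 8 n10253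
theorem D11169 : act 8 n10253 = n11169 := rfl
theorem F44055 : act 0 n11169 = n10278 := d7_1 D11169 (iv D10278) (iv F40530)
theorem F44056 : act 2 n11169 = n11169 := d20_1 D11169 (iv D11169) F40531
theorem F44057 : act 4 n11169 = n10334 := d29_1 D11169 F40824 (iv F40532)
theorem F44058 : act 6 n11169 = n10255 := d34_1 D11169 (iv D10255) (iv F40533)
theorem F44059 : act 7 n11169 = n10333 := d35_1 D11169 (iv D10333) F32560 (iv F38784) D10253
def n11170 : Q := act 2 n10254
theorem D11170 : act 2 n10254 = n11170 := rfl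
theorem F44060 : act 0 n11170 = n10279 := d1_1 D11170 (iv D10279) (iv F40534)
theorem F44061 : act 3 n11170 = n11170 := d15_2 D10254 D11170 (iv D11170) (iv D10254) F32325
theorem F44062 : act 7 n11170 = n10259 := d19_2 (iv F40535) D11170 (iv D10259)
def n11171 : Q := act 4 n10254
theorem D11171 : act 4 n10254 = n11171 := rfl
theorem F44063 : act 0 n11171 = n10280 := d3_1 D11171 (iv D10280) (iv F40534)
theorem F44064 : act 3 n11171 = n10556 := d21_1 D11171 (iv D10556) (iv D9149) (iv F32326) D10254
theorem F44065 : act 6 n11171 = n10624 := d27_2 F44053 D11171 (iv F44052)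
theorem F44066 : act 7 n11171 = n10260 := d28_2 (iv F40535) D11171 (iv D10260)
def n11172 : Q := act 8 n10254
theorem D11172 : act 8 n10254 = n11172 := rfl
theorem F44067 : act 0 n11172 = n10281 := d7_1 D11172 (iv D10281) (iv F40534)
theorem F44068 : act 3 n11172 = n10255 := d25_1 D11172 (iv D10255) D10254
def n11173 : Q := act 3 n10256
theorem D11173 : act 3 n10256 = n11173 := rfl
theorem F44069 : act 0 n11173 = n10282 := d2_1 D11173 (iv D10282) (iv F40539)
theorem F44070 : act 5 n11173 = n10257 := d22_2 (iv F40542) D11173 (iv D10257)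
def n11174 : Q := act 8 n10256
theorem D11174 : act 8 n10256 = n11174 := rfl
theorem F44071 : act 0 n11174 = n10283 := d7_1 D11174 (iv D10283) (iv F40539)
theorem F44072 : act 2 n11174 = n10270 := d20_1 D11174 (iv D10270) (iv F40540)
theorem F44073 : act 4 n11174 = n11174 := d29_1 D11174 (iv D11174) F40541
theorem F44074 : act 5 n11174 = n10258 := d32_1 D11174 (iv D10258) (iv F40542)
def n11175 : Q := act 2 n10257
theorem D11175 : act 2 n10257 = n11175 := rfl
theorem F44075 : act 0 n11175 = n10284 := d1_1 D11175 (iv D10284) (iv F40543)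
theorem F44076 : act 3 n11175 = n10271 := d15_2 D10257 D11175 (iv D10271) (iv D8489) (iv F32331)
theorem F44077 : act 6 n11175 = n10259 := d18_2 (iv F40544) D11175 (iv D10259)
def n11176 : Q := act 4 n10257
theorem D11176 : act 4 n10257 = n11176 := rfl
theorem F44078 : act 0 n11176 = n10285 := d3_1 D11176 (iv D10285) (iv F40543)
theorem F44079 : act 3 n11176 = n10262 := d21_1 D11176 (iv D10262) (iv D8481) (iv F32332) D10257
theorem F44080 : act 6 n11176 = n10260 := d27_2 (iv F40544) D11176 (iv D10260)
theorem F44081 : act 7 n11176 = n10624 := d28_2 F44054 D11176 (iv F44052)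
def n11177 : Q := act 8 n10257
theorem D11177 : act 8 n10257 = n11177 := rfl
theorem F44082 : act 0 n11177 = n10286 := d7_1 D11177 (iv D10286) (iv F40543)
theorem F44083 : act 3 n11177 = n10258 := d25_1 D11177 (iv D10258) D10257
theorem F44084 : act 6 n11177 = n10261 := d34_1 D11177 (iv D10261) (iv F40544)
def n11178 : Q := act 1 n10259
theorem D11178 : act 1 n10259 = n11178 := rfl
theorem F44085 : act 3 n11178 = n10273 := d9_2 (iv F40550) D11178 (iv D10273)
def n11179 : Q := act 4 n10259
theorem D11179 : act 4 n10259 = n11179 := rfl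
theorem F44086 : act 0 n11179 = n10288 := d3_1 D11179 (iv D10288) (iv F40549)
theorem F44087 : act 2 n11179 = n10260 := d16_1 D11179 (iv D10260) D10259
theorem F44088 : act 3 n11179 = n11179 := d21_1 D11179 (iv D11179) F40550 F32376 (iv F40550)
def n11180 : Q := act 8 n10259
theorem D11180 : act 8 n10259 = n11180 := rfl
theorem F44089 : act 0 n11180 = n10289 := d7_1 D11180 (iv D10289) (iv F40549)
theorem F44090 : act 2 n11180 = n10261 := d20_1 D11180 (iv D10261) D10259
theorem F44091 : act 3 n11180 = n10274 := d25_1 D11180 (iv D10274) (iv F40550)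
def n11181 : Q := act 5 n10260
theorem D11181 : act 5 n10260 = n11181 := rfl
theorem F44092 : act 0 n11181 = n10290 := d4_1 D11181 (iv D10290) (iv F40551)
theorem F44093 : act 3 n11181 = n10264 := d22_1 D11181 (iv D10264) (iv F40552)
def n11182 : Q := act 8 n10260
theorem D11182 : act 8 n10260 = n11182 := rfl
theorem F44094 : act 0 n11182 = n10291 := d7_1 D11182 (iv D10291) (iv F40551)
theorem F44095 : act 3 n11182 = n10265 := d25_1 D11182 (iv D10265) (iv F40552)
theorem F44096 : act 4 n11182 = n10261 := d29_1 D11182 (iv D10261) D10260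
def n11183 : Q := act 7 n10261
theorem D11183 : act 7 n10261 = n11183 := rfl
theorem F44097 : act 0 n11183 = n10292 := d6_1 D11183 (iv D10292) (iv F40553)
def n11184 : Q := act 5 n10262
theorem D11184 : act 5 n10262 = n11184 := rfl
theorem F44098 : act 0 n11184 = n10293 := d4_1 D11184 (iv D10293) (iv F40555)
theorem F44099 : act 2 n11184 = n11184 := d17_1 D11184 (iv D11184) F40556
theorem F44100 : act 4 n11184 = n11184 := d26_1 D11184 (iv D11184) (iv D10262) F32340 D10262
theorem F44101 : act 7 n11184 = n10558 := d31_2 (iv F40558) D11184 (iv D10558)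
def n11185 : Q := act 8 n10262
theorem D11185 : act 8 n10262 = n11185 := rfl
theorem F44102 : act 0 n11185 = n10294 := d7_1 D11185 (iv D10294) (iv F40555)
theorem F44103 : act 2 n11185 = n11185 := d20_1 D11185 (iv D11185) F40556
theorem F44104 : act 4 n11185 = n10263 := d29_1 D11185 (iv D10263) D10262
theorem F44105 : act 6 n11185 = n10265 := d34_1 D11185 (iv D10265) (iv F40557)
theorem F44106 : act 7 n11185 = n10619 := d35_1 D11185 (iv D10619) F35258 (iv F38935) (iv F40558)
def n11186 : Q := act 6 n10264
theorem D11186 : act 6 n10264 = n11186 := rfl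
theorem F44107 : act 0 n11186 = n10295 := d5_1 D11186 (iv D10295) (iv F40565)
theorem F44108 : act 2 n11186 = n11186 := d18_1 D11186 (iv D11186) F40566
theorem F44109 : act 4 n11186 = n10267 := d27_1 D11186 (iv D10267) (iv F40567)
theorem F44110 : act 7 n11186 = n10559 := d33_2 (iv F40568) D11186 (iv D10559)
def n11187 : Q := act 8 n10264
theorem D11187 : act 8 n10264 = n11187 := rfl
theorem F44111 : act 0 n11187 = n10296 := d7_1 D11187 (iv D10296) (iv F40565)
theorem F44112 : act 2 n11187 = n11187 := d20_1 D11187 (iv D11187) F40566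
theorem F44113 : act 4 n11187 = n10268 := d29_1 D11187 (iv D10268) (iv F40567)
theorem F44114 : act 5 n11187 = n10265 := d32_1 D11187 (iv D10265) D10264
def n11188 : Q := act 7 n10265
theorem D11188 : act 7 n10265 = n11188 := rfl
theorem F44115 : act 0 n11188 = n10297 := d6_1 D11188 (iv D10297) (iv F40569)
theorem F44116 : act 2 n11188 = n11188 := d19_1 D11188 (iv D11188) F40570
theorem F44117 : act 4 n11188 = n10266 := d28_1 D11188 (iv D10266) (iv F40571)
theorem F44118 : act 6 n11188 = n10619 := d33_1 D11188 (iv F44106) F44105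
theorem F44119 : act 8 n11188 = n10561 := d35_2 D10265 D11188 (iv D10561) (iv D9160) (iv F32349)
def n11189 : Q := act 8 n10267
theorem D11189 : act 8 n10267 = n11189 := rfl
theorem F44120 : act 0 n11189 = n10298 := d7_1 D11189 (iv D10298) (iv F40578)
theorem F44121 : act 2 n11189 = n11189 := d20_1 D11189 (iv D11189) F40579
theorem F44122 : act 5 n11189 = n11189 := d32_1 D11189 (iv D11189) F40580
theorem F44123 : act 6 n11189 = n10268 := d34_1 D11189 (iv D10268) D10267
def n11190 : Q := act 7 n10268
theorem D11190 : act 7 n10268 = n11190 := rfl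
theorem F44124 : act 0 n11190 = n10299 := d6_1 D11190 (iv D10299) (iv F40582)
theorem F44125 : act 2 n11190 = n11190 := d19_1 D11190 (iv D11190) F40583
theorem F44126 : act 5 n11190 = n10269 := d31_1 D11190 (iv D10269) (iv F40584)
theorem F44127 : act 8 n11190 = n10563 := d35_2 D10268 D11190 (iv D10563) (iv D9163) (iv F32356)
def n11191 : Q := act 3 n10269
theorem D11191 : act 3 n10269 = n11191 := rfl
theorem F44128 : act 0 n11191 = n10300 := d2_1 D11191 (iv D10300) (iv F40585)
theorem F44129 : act 6 n11191 = n11191 := d23_2 F40588 D11191 (iv D11191)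
theorem F44130 : act 8 n11191 = n10564 := d25_2 (iv F40589) D11191 (iv D10564)
def n11192 : Q := act 1 n10271
theorem D11192 : act 1 n10271 = n11192 := rfl
theorem F44131 : act 0 n11192 = n10723 := d0_1 D11192 (iv D10723) F39100 F38993 (iv F40594)
theorem F44132 : act 4 n11192 = n11192 := d10_2 F40595 D11192 (iv D11192)
theorem F44133 : act 6 n11192 = n10273 := d12_2 (iv F40596) D11192 (iv D10273)
theorem F44134 : act 7 n11192 = n11192 := d13_2 F40597 D11192 (iv D11192)
def n11193 : Q := act 8 n10271
theorem D11193 : act 8 n10271 = n11193 := rfl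
theorem F44135 : act 0 n11193 = n10301 := d7_1 D11193 (iv D10301) (iv F40594)
theorem F44136 : act 2 n11193 = n10272 := d20_1 D11193 (iv D10272) D10271
theorem F44137 : act 4 n11193 = n11193 := d29_1 D11193 (iv D11193) F40595
theorem F44138 : act 6 n11193 = n10274 := d34_1 D11193 (iv D10274) (iv F40596)
def n11194 : Q := act 7 n10272
theorem D11194 : act 7 n10272 = n11194 := rfl
theorem F44139 : act 0 n11194 = n10302 := d6_1 D11194 (iv D10302) (iv F40598)
theorem F44140 : act 4 n11194 = n11194 := d28_1 D11194 (iv D11194) F40600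
theorem F44141 : act 6 n11194 = n10275 := d33_1 D11194 (iv D10275) (iv F40601)
theorem F44142 : act 8 n11194 = n11194 := d35_2 D10272 D11194 (iv D11194) (iv D10272) F32371
def n11195 : Q := act 0 n10273
theorem D11195 : act 0 n10273 = n11195 := rfl
theorem F44143 : act 1 n11195 = n10303 := d0_2 D10273 D11195 (iv D10303) (iv D8515) (iv F32375)
theorem F44144 : act 2 n11195 = n11192 := d1_2 F42267 D11195 F44131
theorem F44145 : act 4 n11195 = n11195 := d3_2 F40602 D11195 (iv D11195)
theorem F44146 : act 6 n11195 = n10723 := d5_2 F44133 D11195 (iv F44131)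
theorem F44147 : act 7 n11195 = n11195 := d6_2 F40603 D11195 (iv D11195)
def n11196 : Q := act 8 n10273
theorem D11196 : act 8 n10273 = n11196 := rfl
theorem F44148 : act 1 n11196 = n10274 := d14_1 D11196 (iv D10274) D10273
theorem F44149 : act 4 n11196 = n11196 := d29_1 D11196 (iv D11196) F40602
def n11197 : Q := act 7 n10274
theorem D11197 : act 7 n10274 = n11197 := rfl
theorem F44150 : act 0 n11197 = n10305 := d6_1 D11197 (iv D10305) (iv F40604)
theorem F44151 : act 2 n11197 = n10275 := d19_1 D11197 (iv D10275) (iv F40605)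
theorem F44152 : act 4 n11197 = n11197 := d28_1 D11197 (iv D11197) F40606
theorem F44153 : act 8 n11197 = n11197 := d35_2 D10274 D11197 (iv D11197) (iv D10274) F32377
def n11198 : Q := act 3 n10276
theorem D11198 : act 3 n10276 = n11198 := rfl
theorem F44154 : act 1 n11198 = n10340 := d9_1 D11198 F40847 (iv F40610)
theorem F44155 : act 5 n11198 = n10277 := d22_2 (iv F40613) D11198 (iv D10277)
theorem F44156 : act 7 n11198 = n10282 := d24_2 D10276 D11198 (iv D10282) (iv D8497) (iv F32383)
def n11199 : Q := act 8 n10276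
theorem D11199 : act 8 n10276 = n11199 := rfl
theorem F44157 : act 1 n11199 = n10405 := d14_1 D11199 (iv D10405) (iv F40610)
theorem F44158 : act 2 n11199 = n11199 := d20_1 D11199 (iv D11199) F40611
theorem F44159 : act 4 n11199 = n10350 := d29_1 D11199 F40874 (iv F40612)
theorem F44160 : act 5 n11199 = n10278 := d32_1 D11199 (iv D10278) (iv F40613)
theorem F44161 : act 7 n11199 = n10348 := d35_1 D11199 (iv D10348) F32639 (iv F38792) D10276
def n11200 : Q := act 2 n10277
theorem D11200 : act 2 n10277 = n11200 := rfl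
theorem F44162 : act 1 n11200 = n10726 := d8_1 D11200 (iv D10726) F39107 F39008 (iv F40614)
theorem F44163 : act 3 n11200 = n11200 := d15_2 D10277 D11200 (iv D11200) (iv D10277) F32385
theorem F44164 : act 4 n11200 = n10632 := d16_2 (iv F40615) D11200 (iv D10632)
theorem F44165 : act 6 n11200 = n10279 := d18_2 (iv F40616) D11200 (iv D10279)
theorem F44166 : act 7 n11200 = n10284 := d19_2 (iv F40617) D11200 (iv D10284)
def n11201 : Q := act 8 n10277
theorem D11201 : act 8 n10277 = n11201 := rfl
theorem F44167 : act 1 n11201 = n10407 := d14_1 D11201 (iv D10407) (iv F40614)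
theorem F44168 : act 3 n11201 = n10278 := d25_1 D11201 (iv D10278) D10277
theorem F44169 : act 4 n11201 = n10431 := d29_1 D11201 F41121 (iv F40615)
theorem F44170 : act 6 n11201 = n10281 := d34_1 D11201 (iv D10281) (iv F40616)
def n11202 : Q := act 1 n10279
theorem D11202 : act 1 n10279 = n11202 := rfl
theorem F44171 : act 2 n11202 = n10408 := d8_2 D10279 D11202 (iv D10408) (iv D8634) (iv F32388)
theorem F44172 : act 3 n11202 = n11202 := d9_2 F40623 D11202 (iv D11202)
theorem F44173 : act 6 n11202 = n10726 := d12_2 F44165 D11202 (iv F44162)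
theorem F44174 : act 7 n11202 = n10287 := d13_2 (iv F40624) D11202 (iv D10287)
def n11203 : Q := act 4 n10279
theorem D11203 : act 4 n10279 = n11203 := rfl
theorem F44175 : act 2 n11203 = n10280 := d16_1 D11203 (iv D10280) D10279
theorem F44176 : act 6 n11203 = n10632 := d27_2 F44165 D11203 (iv F44164)
theorem F44177 : act 7 n11203 = n10288 := d28_2 (iv F40624) D11203 (iv D10288)
theorem F44178 : act 3 n10692 = n11203 := d23_3 F44176 F41899 (iv F42145)
def n11204 : Q := act 8 n10279
theorem D11204 : act 8 n10279 = n11204 := rfl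
theorem F44179 : act 2 n11204 = n10281 := d20_1 D11204 (iv D10281) D10279
theorem F44180 : act 3 n11204 = n11204 := d25_1 D11204 (iv D11204) F40623
def n11205 : Q := act 5 n10280
theorem D11205 : act 5 n10280 = n11205 := rfl
theorem F44181 : act 1 n11205 = n10411 := d11_1 D11205 (iv D10411) (iv F40625)
theorem F44182 : act 3 n11205 = n10565 := d22_1 D11205 (iv D10565) (iv F40626)
theorem F44183 : act 7 n11205 = n10290 := d31_2 (iv F40628) D11205 (iv D10290)
def n11206 : Q := act 8 n10280
theorem D11206 : act 8 n10280 = n11206 := rfl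
theorem F44184 : act 1 n11206 = n10412 := d14_1 D11206 (iv D10412) (iv F40625)
theorem F44185 : act 3 n11206 = n10428 := d25_1 D11206 F41113 (iv F40626)
theorem F44186 : act 4 n11206 = n10281 := d29_1 D11206 (iv D10281) D10280
theorem F44187 : act 6 n11206 = n10431 := d34_1 D11206 F41121 (iv F40627)
def n11207 : Q := act 7 n10281
theorem D11207 : act 7 n10281 = n11207 := rfl
theorem F44188 : act 1 n11207 = n10413 := d13_1 D11207 (iv D10413) (iv F40629)
theorem F44189 : act 8 n11207 = n10292 := d35_2 D10281 D11207 (iv D10292) (iv D8502) (iv F32389)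
def n11208 : Q := act 4 n10282
theorem D11208 : act 4 n10282 = n11208 := rfl
theorem F44190 : act 1 n11208 = n10343 := d10_1 D11208 (iv D10343) (iv F40631)
theorem F44191 : act 3 n11208 = n11208 := d21_1 D11208 (iv D11208) (iv D10282) F32395 D10282
def n11209 : Q := act 8 n10282
theorem D11209 : act 8 n10282 = n11209 := rfl
theorem F44192 : act 1 n11209 = n10344 := d14_1 D11209 (iv D10344) (iv F40631)
theorem F44193 : act 3 n11209 = n10283 := d25_1 D11209 (iv D10283) D10282
theorem F44194 : act 5 n11209 = n10286 := d32_1 D11209 (iv D10286) (iv F40632)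
def n11210 : Q := act 4 n10284
theorem D11210 : act 4 n10284 = n11210 := rfl
theorem F44195 : act 1 n11210 = n10729 := d10_1 D11210 (iv D10729) (iv F40637)
theorem F44196 : act 2 n11210 = n10285 := d16_1 D11210 (iv D10285) D10284
theorem F44197 : act 3 n11210 = n11210 := d21_1 D11210 (iv D11210) F40638 F32446 (iv F40638)
theorem F44198 : act 6 n11210 = n10288 := d27_2 (iv F40639) D11210 (iv D10288)
theorem F44199 : act 7 n11210 = n10632 := d28_2 F44166 D11210 (iv F44164)
def n11211 : Q := act 8 n10284
theorem D11211 : act 8 n10284 = n11211 := rfl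
theorem F44200 : act 1 n11211 = n10730 := d14_1 D11211 (iv D10730) (iv F40637)
theorem F44201 : act 2 n11211 = n10286 := d20_1 D11211 (iv D10286) D10284
theorem F44202 : act 3 n11211 = n10301 := d25_1 D11211 (iv D10301) (iv F40638)
theorem F44203 : act 6 n11211 = n10289 := d34_1 D11211 (iv D10289) (iv F40639)
def n11212 : Q := act 5 n10285
theorem D11212 : act 5 n10285 = n11212 := rfl
theorem F44204 : act 1 n11212 = n10414 := d11_1 D11212 (iv D10414) (iv F40640)
theorem F44205 : act 3 n11212 = n10293 := d22_1 D11212 (iv D10293) (iv F40641)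
theorem F44206 : act 7 n11212 = n10631 := d31_2 (iv F40643) D11212 F41898
def n11213 : Q := act 8 n10285
theorem D11213 : act 8 n10285 = n11213 := rfl
theorem F44207 : act 1 n11213 = n10415 := d14_1 D11213 (iv D10415) (iv F40640)
theorem F44208 : act 3 n11213 = n10294 := d25_1 D11213 (iv D10294) (iv F40641)
theorem F44209 : act 4 n11213 = n10286 := d29_1 D11213 (iv D10286) D10285
theorem F44210 : act 6 n11213 = n10291 := d34_1 D11213 (iv D10291) (iv F40642)
def n11214 : Q := act 7 n10286
theorem D11214 : act 7 n10286 = n11214 := rfl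
theorem F44211 : act 1 n11214 = n10416 := d13_1 D11214 (iv D10416) (iv F40644)
theorem F44212 : act 6 n11214 = n10292 := d33_1 D11214 (iv D10292) (iv F40646)
def n11215 : Q := act 0 n10287
theorem D11215 : act 0 n10287 = n11215 := rfl
theorem F44213 : act 2 n11215 = n10417 := d1_2 (iv F40647) D11215 (iv D10417)
theorem F44214 : act 3 n11215 = n10303 := d2_2 (iv F40648) D11215 (iv D10303)
theorem F44215 : act 6 n11215 = n10714 := d5_2 (iv F40649) D11215 F42238
def n11216 : Q := act 4 n10287
theorem D11216 : act 4 n10287 = n11216 := rfl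
theorem F44216 : act 1 n11216 = n10288 := d10_1 D11216 (iv D10288) D10287
theorem F44217 : act 2 n11216 = n10418 := d16_1 D11216 (iv D10418) (iv F40647)
theorem F44218 : act 3 n11216 = n11216 := d21_1 D11216 (iv D11216) F40648 F32454 (iv F40648)
theorem F44219 : act 6 n11216 = n10729 := d27_2 (iv F40649) D11216 (iv D10729)
def n11217 : Q := act 8 n10287
theorem D11217 : act 8 n10287 = n11217 := rfl
theorem F44220 : act 1 n11217 = n10289 := d14_1 D11217 (iv D10289) D10287
theorem F44221 : act 2 n11217 = n10419 := d20_1 D11217 (iv D10419) (iv F40647)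
theorem F44222 : act 3 n11217 = n10304 := d25_1 D11217 (iv D10304) (iv F40648)
theorem F44223 : act 6 n11217 = n10730 := d34_1 D11217 (iv D10730) (iv F40649)
def n11218 : Q := act 5 n10288
theorem D11218 : act 5 n10288 = n11218 := rfl
theorem F44224 : act 2 n11218 = n10290 := d17_1 D11218 (iv D10290) (iv F40650)
theorem F44225 : act 3 n11218 = n11218 := d22_1 D11218 (iv D11218) F40651
def n11219 : Q := act 8 n10288
theorem D11219 : act 8 n10288 = n11219 := rfl
theorem F44226 : act 2 n11219 = n10291 := d20_1 D11219 (iv D10291) (iv F40650)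
theorem F44227 : act 3 n11219 = n11219 := d25_1 D11219 (iv D11219) F40651
theorem F44228 : act 4 n11219 = n10289 := d29_1 D11219 (iv D10289) D10288
def n11220 : Q := act 7 n10289
theorem D11220 : act 7 n10289 = n11220 := rfl
theorem F44229 : act 2 n11220 = n10292 := d19_1 D11220 (iv D10292) (iv F40652)
def n11221 : Q := act 6 n10290
theorem D11221 : act 6 n10290 = n11221 := rfl
theorem F44230 : act 1 n11221 = n10423 := d12_1 D11221 (iv D10423) (iv F40654)
theorem F44231 : act 3 n11221 = n10295 := d23_1 D11221 (iv D10295) (iv F40655)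
def n11222 : Q := act 8 n10290
theorem D11222 : act 8 n10290 = n11222 := rfl
theorem F44232 : act 1 n11222 = n10424 := d14_1 D11222 (iv D10424) (iv F40654)
theorem F44233 : act 3 n11222 = n10296 := d25_1 D11222 (iv D10296) (iv F40655)
theorem F44234 : act 5 n11222 = n10291 := d32_1 D11222 (iv D10291) D10290
def n11223 : Q := act 7 n10291
theorem D11223 : act 7 n10291 = n11223 := rfl
theorem F44235 : act 1 n11223 = n10425 := d13_1 D11223 (iv D10425) (iv F40656)
theorem F44236 : act 4 n11223 = n10292 := d28_1 D11223 (iv D10292) (iv F40658)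
def n11224 : Q := act 6 n10293
theorem D11224 : act 6 n10293 = n11224 := rfl
theorem F44237 : act 1 n11224 = n10426 := d12_1 D11224 (iv D10426) (iv F40660)
theorem F44238 : act 2 n11224 = n11224 := d18_1 D11224 (iv D11224) F40661
theorem F44239 : act 4 n11224 = n11224 := d27_1 D11224 (iv D11224) F40662
theorem F44240 : act 5 n11224 = n10295 := d30_1 D11224 (iv D10295) (iv D8505) (iv F32410) D10293
theorem F44241 : act 7 n11224 = n10567 := d33_2 (iv F40663) D11224 (iv D10567)
def n11225 : Q := act 8 n10293
theorem D11225 : act 8 n10293 = n11225 := rfl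
theorem F44242 : act 1 n11225 = n10427 := d14_1 D11225 (iv D10427) (iv F40660)
theorem F44243 : act 2 n11225 = n11225 := d20_1 D11225 (iv D11225) F40661
theorem F44244 : act 4 n11225 = n11225 := d29_1 D11225 (iv D11225) F40662
theorem F44245 : act 5 n11225 = n10294 := d32_1 D11225 (iv D10294) D10293
theorem F44246 : act 7 n11225 = n10629 := d35_1 D11225 (iv D10629) F35341 (iv F38939) (iv F40663)
def n11226 : Q := act 8 n10295
theorem D11226 : act 8 n10295 = n11226 := rfl
theorem F44247 : act 1 n11226 = n10429 := d14_1 D11226 (iv D10429) (iv F40669)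
theorem F44248 : act 2 n11226 = n11226 := d20_1 D11226 (iv D11226) F40670
theorem F44249 : act 4 n11226 = n10298 := d29_1 D11226 (iv D10298) (iv F40671)
theorem F44250 : act 6 n11226 = n10296 := d34_1 D11226 (iv D10296) D10295
def n11227 : Q := act 7 n10296
theorem D11227 : act 7 n10296 = n11227 := rfl
theorem F44251 : act 1 n11227 = n10430 := d13_1 D11227 (iv D10430) (iv F40673)
theorem F44252 : act 2 n11227 = n11227 := d19_1 D11227 (iv D11227) F40674
theorem F44253 : act 4 n11227 = n10299 := d28_1 D11227 (iv D10299) (iv F40675)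
theorem F44254 : act 5 n11227 = n10297 := d31_1 D11227 (iv D10297) (iv F40676)
theorem F44255 : act 8 n11227 = n10569 := d35_2 D10296 D11227 (iv D10569) (iv D9193) (iv F32420)
def n11228 : Q := act 3 n10297
theorem D11228 : act 3 n10297 = n11228 := rfl
theorem F44256 : act 1 n11228 = n10431 := d9_1 D11228 (iv D10431) (iv F40677)
theorem F44257 : act 4 n11228 = n10407 := d21_2 (iv F40679) D11228 F41057 F32857 (iv F38812)
theorem F44258 : act 6 n11228 = n10412 := d23_2 (iv F40680) D11228 F41071
theorem F44259 : act 8 n11228 = n10406 := d25_2 (iv F40681) D11228 F41053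
theorem F44260 : act 2 n10771 = n11228 := d20_3 F44259 F41052 D10771
def n11229 : Q := act 7 n10298
theorem D11229 : act 7 n10298 = n11229 := rfl
theorem F44261 : act 1 n11229 = n10432 := d13_1 D11229 (iv D10432) (iv F40682)
theorem F44262 : act 2 n11229 = n11229 := d19_1 D11229 (iv D11229) F40683
theorem F44263 : act 5 n11229 = n11229 := d31_1 D11229 (iv D11229) F40684
theorem F44264 : act 6 n11229 = n10299 := d33_1 D11229 (iv D10299) (iv F40685)
theorem F44265 : act 8 n11229 = n10570 := d35_2 D10298 D11229 (iv D10570) (iv D9195) (iv F32431)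
def n11230 : Q := act 3 n10299
theorem D11230 : act 3 n10299 = n11230 := rfl
theorem F44266 : act 1 n11230 = n10433 := d9_1 D11230 (iv D10433) (iv F40686)
theorem F44267 : act 5 n11230 = n10300 := d22_2 (iv F40688) D11230 (iv D10300)
theorem F44268 : act 8 n11230 = n10571 := d25_2 (iv F40689) D11230 (iv D10571)
def n11231 : Q := act 2 n10300
theorem D11231 : act 2 n10300 = n11231 := rfl
theorem F44269 : act 3 n11231 = n11231 := d15_2 D10300 D11231 (iv D11231) (iv D10300) F32436
theorem F44270 : act 6 n11231 = n11231 := d18_2 F40691 D11231 (iv D11231)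
theorem F44271 : act 8 n11231 = n10572 := d20_2 (iv F40692) D11231 (iv D10572)
def n11232 : Q := act 7 n10301
theorem D11232 : act 7 n10301 = n11232 := rfl
theorem F44272 : act 1 n11232 = n10740 := d13_1 D11232 (iv D10740) (iv F40693)
theorem F44273 : act 2 n11232 = n10302 := d19_1 D11232 (iv D10302) (iv F40694)
theorem F44274 : act 4 n11232 = n11232 := d28_1 D11232 (iv D11232) F40695
theorem F44275 : act 6 n11232 = n10305 := d33_1 D11232 (iv D10305) (iv F40696)
theorem F44276 : act 8 n11232 = n11232 := d35_2 D10301 D11232 (iv D11232) (iv D10301) F32448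
def n11233 : Q := act 8 n10303
theorem D11233 : act 8 n10303 = n11233 := rfl
theorem F44277 : act 0 n11233 = n10304 := d7_1 D11233 (iv D10304) D10303
theorem F44278 : act 2 n11233 = n10306 := d20_1 D11233 (iv D10306) (iv F40701)
theorem F44279 : act 4 n11233 = n11233 := d29_1 D11233 (iv D11233) F40702
theorem F44280 : act 6 n11233 = n10724 := d34_1 D11233 (iv D10724) (iv F40703)
def n11234 : Q := act 7 n10304
theorem D11234 : act 7 n10304 = n11234 := rfl
theorem F44281 : act 1 n11234 = n10305 := d13_1 D11234 (iv D10305) (iv F40705)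
theorem F44282 : act 2 n11234 = n10307 := d19_1 D11234 (iv D10307) (iv F40706)
theorem F44283 : act 4 n11234 = n11234 := d28_1 D11234 (iv D11234) F40707
theorem F44284 : act 6 n11234 = n10740 := d33_1 D11234 (iv D10740) (iv F40708)
theorem F44285 : act 8 n11234 = n11234 := d35_2 D10304 D11234 (iv D11234) (iv D10304) F32455
def n11235 : Q := act 3 n10305
theorem D11235 : act 3 n10305 = n11235 := rfl
theorem F44286 : act 8 n11235 = n11235 := d25_2 F40711 D11235 (iv D11235)
def n11236 : Q := act 7 n10306
theorem D11236 : act 7 n10306 = n11236 := rfl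
theorem F44287 : act 0 n11236 = n10307 := d6_1 D11236 (iv D10307) (iv F40712)
theorem F44288 : act 1 n11236 = n11194 := d13_1 D11236 (iv D11194) (iv F40713)
theorem F44289 : act 4 n11236 = n11236 := d28_1 D11236 (iv D11236) F40715
theorem F44290 : act 6 n11236 = n10725 := d33_1 D11236 (iv D10725) (iv F40716)
theorem F44291 : act 8 n11236 = n11236 := d35_2 D10306 D11236 (iv D11236) (iv D10306) F32482
def n11237 : Q := act 6 n10308
theorem D11237 : act 6 n10308 = n11237 := rfl
theorem F44292 : act 0 n11237 = n10575 := d5_1 D11237 (iv F43753) F43748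
theorem F44293 : act 1 n11237 = n10436 := d12_1 D11237 (iv D10436) (iv F40721)
theorem F44294 : act 2 n11237 = n10309 := d18_1 D11237 (iv D10309) D10308
theorem F44295 : act 3 n11237 = n10935 := d23_1 D11237 (iv D10935) (iv F40722)
theorem F44296 : act 4 n11237 = n10527 := d27_1 D11237 F41519 (iv F40723)
theorem F44297 : act 8 n11237 = n10352 := d34_2 (iv F40725) D11237 (iv D10352)
def n11238 : Q := act 7 n10308
theorem D11238 : act 7 n10308 = n11238 := rfl
theorem F44298 : act 1 n11238 = n10437 := d13_1 D11238 (iv D10437) (iv F40721)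
theorem F44299 : act 2 n11238 = n10310 := d19_1 D11238 (iv D10310) D10308
theorem F44300 : act 4 n11238 = n10573 := d28_1 D11238 (iv D10573) (iv F40723)
theorem F44301 : act 5 n11238 = n10741 := d31_1 D11238 (iv D10741) (iv F40724)
def n11239 : Q := act 3 n10310
theorem D11239 : act 3 n10310 = n11239 := rfl
theorem F44302 : act 1 n11239 = n10324 := d9_1 D11239 (iv D10324) (iv F40731)
theorem F44303 : act 5 n11239 = n10742 := d22_2 (iv F40733) D11239 (iv D10742)
theorem F44304 : act 7 n11239 = n10312 := d24_2 D10310 D11239 (iv D10312) (iv D8529) D8527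
def n11240 : Q := act 8 n10310
theorem D11240 : act 8 n10310 = n11240 := rfl
theorem F44305 : act 1 n11240 = n10325 := d14_1 D11240 (iv D10325) (iv F40731)
theorem F44306 : act 4 n11240 = n10574 := d29_1 D11240 (iv D10574) (iv F40732)
theorem F44307 : act 5 n11240 = n10743 := d32_1 D11240 (iv D10743) (iv F40733)
theorem F44308 : act 7 n11240 = n10357 := d35_1 D11240 (iv D10357) (iv D8590) (iv F32492) D10310
def n11241 : Q := act 3 n10311
theorem D11241 : act 3 n10311 = n11241 := rfl
theorem F44309 : act 1 n11241 = n10326 := d9_1 D11241 (iv D10326) (iv F40734)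
theorem F44310 : act 6 n11241 = n10312 := d23_2 (iv F40737) D11241 (iv D10312)
def n11242 : Q := act 8 n10311
theorem D11242 : act 8 n10311 = n11242 := rfl
theorem F44311 : act 1 n11242 = n10327 := d14_1 D11242 (iv D10327) (iv F40734)
theorem F44312 : act 2 n11242 = n10943 := d20_1 D11242 (iv D10943) (iv F40735)
theorem F44313 : act 4 n11242 = n10315 := d29_1 D11242 (iv D10315) (iv F40736)
theorem F44314 : act 6 n11242 = n10313 := d34_1 D11242 (iv D10313) (iv F40737)
theorem F44315 : act 7 n11242 = n10359 := d35_1 D11242 (iv D10359) (iv D8592) (iv F32496) D10311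
def n11243 : Q := act 2 n10312
theorem D11243 : act 2 n10312 = n11243 := rfl
theorem F44316 : act 3 n11243 = n10944 := d15_2 D10312 D11243 (iv D10944) (iv D10061) (iv F32498)
theorem F44317 : act 5 n11243 = n10744 := d17_2 (iv F40739) D11243 (iv D10744)
def n11244 : Q := act 4 n10312
theorem D11244 : act 4 n10312 = n11244 := rfl
theorem F44318 : act 1 n11244 = n10329 := d10_1 D11244 (iv D10329) (iv F40738)
theorem F44319 : act 3 n11244 = n10317 := d21_1 D11244 (iv D10317) (iv D8531) (iv F32499) D10312
def n11245 : Q := act 8 n10312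
theorem D11245 : act 8 n10312 = n11245 := rfl
theorem F44320 : act 1 n11245 = n10330 := d14_1 D11245 (iv D10330) (iv F40738)
theorem F44321 : act 3 n11245 = n10313 := d25_1 D11245 (iv D10313) D10312
theorem F44322 : act 5 n11245 = n10746 := d32_1 D11245 (iv D10746) (iv F40739)
def n11246 : Q := act 2 n10314
theorem D11246 : act 2 n10314 = n11246 := rfl
theorem F44323 : act 0 n11246 = n10573 := d1_1 D11246 F41721 (iv F40745)
theorem F44324 : act 1 n11246 = n11246 := d8_1 D11246 (iv D11246) F40746 F32549 (iv F40746)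
theorem F44325 : act 3 n11246 = n10947 := d15_2 D10314 D11246 (iv D10947) (iv D10063) (iv F32502)
theorem F44326 : act 5 n11246 = n11246 := d17_2 F40747 D11246 (iv D11246)
theorem F44327 : act 6 n11246 = n10316 := d18_2 (iv F40748) D11246 (iv D10316)
theorem F44328 : act 7 n11246 = n10526 := d19_2 (iv F40749) D11246 (iv D10526)
def n11247 : Q := act 8 n10314
theorem D11247 : act 8 n10314 = n11247 := rfl
theorem F44329 : act 0 n11247 = n10574 := d7_1 D11247 (iv D10574) (iv F40745)
theorem F44330 : act 1 n11247 = n10331 := d14_1 D11247 (iv D10331) (iv F40746)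
theorem F44331 : act 3 n11247 = n10315 := d25_1 D11247 (iv D10315) D10314
theorem F44332 : act 5 n11247 = n11247 := d32_1 D11247 (iv D11247) F40747
theorem F44333 : act 6 n11247 = n10318 := d34_1 D11247 (iv D10318) (iv F40748)
theorem F44334 : act 7 n11247 = n10539 := d35_1 D11247 (iv D10539) (iv D9132) (iv F34380) (iv F40749)
def n11248 : Q := act 4 n10316
theorem D11248 : act 4 n10316 = n11248 := rfl
theorem F44335 : act 1 n11248 = n11248 := d10_1 D11248 (iv D11248) F40755
theorem F44336 : act 2 n11248 = n10317 := d16_1 D11248 (iv D10317) D10316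
theorem F44337 : act 7 n11248 = n10575 := d28_2 (iv F40758) D11248 (iv D10575)
def n11249 : Q := act 8 n10316
theorem D11249 : act 8 n10316 = n11249 := rfl
theorem F44338 : act 1 n11249 = n11249 := d14_1 D11249 (iv D11249) F40755
theorem F44339 : act 2 n11249 = n10318 := d20_1 D11249 (iv D10318) D10316
theorem F44340 : act 3 n11249 = n10951 := d25_1 D11249 (iv D10951) (iv F40756)
theorem F44341 : act 5 n11249 = n10320 := d32_1 D11249 (iv D10320) (iv F40757)
def n11250 : Q := act 5 n10317
theorem D11250 : act 5 n10317 = n11250 := rfl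
theorem F44342 : act 1 n11250 = n10332 := d11_1 D11250 (iv D10332) (iv F40759)
theorem F44343 : act 4 n11250 = n10321 := d26_1 D11250 (iv D10321) (iv D8534) (iv F32506) D10317
theorem F44344 : act 7 n11250 = n10576 := d31_2 (iv F40760) D11250 (iv D10576)
def n11251 : Q := act 8 n10317
theorem D11251 : act 8 n10317 = n11251 := rfl
theorem F44345 : act 1 n11251 = n10333 := d14_1 D11251 (iv D10333) (iv F40759)
theorem F44346 : act 4 n11251 = n10318 := d29_1 D11251 (iv D10318) D10317
def n11252 : Q := act 7 n10318
theorem D11252 : act 7 n10318 = n11252 := rfl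
theorem F44347 : act 0 n11252 = n10593 := d6_1 D11252 (iv F43796) F43791
theorem F44348 : act 1 n11252 = n10334 := d13_1 D11252 (iv D10334) (iv F40761)
theorem F44349 : act 3 n11252 = n10370 := d24_1 D11252 (iv D10370) F32750 (iv F32511) (iv F40762)
theorem F44350 : act 5 n11252 = n10323 := d31_1 D11252 (iv D10323) (iv F40763)
theorem F44351 : act 6 n11252 = n10539 := d33_1 D11252 (iv F44334) F44333
theorem F44352 : act 8 n11252 = n10537 := d35_2 D10318 D11252 (iv D10537) F38783 (iv F32507)
def n11253 : Q := act 3 n10319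
theorem D11253 : act 3 n10319 = n11253 := rfl
theorem F44353 : act 1 n11253 = n11253 := d9_1 D11253 (iv D11253) F40764
theorem F44354 : act 2 n11253 = n10752 := d15_1 D11253 (iv D10752) F39164 (iv F32517) (iv F40765)
theorem F44355 : act 4 n11253 = n10955 := d21_2 D10319 D11253 (iv D10955) (iv D10068) (iv F32513)
theorem F44356 : act 6 n11253 = n11253 := d23_2 F40766 D11253 (iv D11253)
def n11254 : Q := act 5 n10319
theorem D11254 : act 5 n10319 = n11254 := rfl
theorem F44357 : act 1 n11254 = n11254 := d11_1 D11254 (iv D11254) F40764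
theorem F44358 : act 2 n11254 = n10321 := d17_1 D11254 (iv D10321) (iv F40765)
theorem F44359 : act 7 n11254 = n10578 := d31_2 (iv F40767) D11254 (iv D10578)
def n11255 : Q := act 8 n10319
theorem D11255 : act 8 n10319 = n11255 := rfl
theorem F44360 : act 1 n11255 = n11255 := d14_1 D11255 (iv D11255) F40764
theorem F44361 : act 2 n11255 = n10322 := d20_1 D11255 (iv D10322) (iv F40765)
theorem F44362 : act 4 n11255 = n10320 := d29_1 D11255 (iv D10320) D10319
theorem F44363 : act 6 n11255 = n11255 := d34_1 D11255 (iv D11255) F40766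
def n11256 : Q := act 7 n10320
theorem D11256 : act 7 n10320 = n11256 := rfl
theorem F44364 : act 1 n11256 = n11256 := d13_1 D11256 (iv D11256) F40768
theorem F44365 : act 2 n11256 = n10323 := d19_1 D11256 (iv D10323) (iv F40769)
theorem F44366 : act 6 n11256 = n11256 := d33_1 D11256 (iv D11256) F40771
theorem F44367 : act 8 n11256 = n10580 := d35_2 D10320 D11256 (iv D10580) (iv D9219) (iv F32515)
def n11257 : Q := act 6 n10321
theorem D11257 : act 6 n10321 = n11257 := rfl
theorem F44368 : act 1 n11257 = n10335 := d12_1 D11257 (iv D10335) (iv F40772)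
theorem F44369 : act 3 n11257 = n10756 := d23_1 D11257 (iv D10756) (iv F40773)
theorem F44370 : act 5 n11257 = n11257 := d30_1 D11257 (iv D11257) (iv D10321) F32518 D10321
theorem F44371 : act 7 n11257 = n10581 := d33_2 (iv F40774) D11257 (iv D10581)
def n11258 : Q := act 8 n10321
theorem D11258 : act 8 n10321 = n11258 := rfl
theorem F44372 : act 1 n11258 = n10336 := d14_1 D11258 (iv D10336) (iv F40772)
theorem F44373 : act 3 n11258 = n10757 := d25_1 D11258 (iv D10757) (iv F40773)
theorem F44374 : act 5 n11258 = n10322 := d32_1 D11258 (iv D10322) D10321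
def n11259 : Q := act 7 n10322
theorem D11259 : act 7 n10322 = n11259 := rfl
theorem F44375 : act 1 n11259 = n10337 := d13_1 D11259 (iv D10337) (iv F40775)
theorem F44376 : act 4 n11259 = n10323 := d28_1 D11259 (iv D10323) (iv F40777)
theorem F44377 : act 6 n11259 = n11259 := d33_1 D11259 (iv D11259) F40778
theorem F44378 : act 8 n11259 = n10583 := d35_2 D10322 D11259 (iv D10583) (iv D9221) (iv F32519)
def n11260 : Q := act 2 n10324
theorem D11260 : act 2 n10324 = n11260 := rfl
theorem F44379 : act 0 n11260 = n10340 := d1_1 D11260 (iv D10340) (iv F40783)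
theorem F44380 : act 3 n11260 = n10379 := d15_2 D10324 D11260 F40956 (iv D8695) (iv F32529)
theorem F44381 : act 5 n11260 = n10380 := d17_2 (iv F40784) D11260 F40959
theorem F44382 : act 7 n11260 = n10328 := d19_2 (iv F40785) D11260 (iv D10328)
def n11261 : Q := act 8 n10324
theorem D11261 : act 8 n10324 = n11261 := rfl
theorem F44383 : act 0 n11261 = n10341 := d7_1 D11261 (iv D10341) (iv F40783)
theorem F44384 : act 3 n11261 = n10325 := d25_1 D11261 (iv D10325) D10324
theorem F44385 : act 5 n11261 = n10760 := d32_1 D11261 (iv D10760) (iv F40784)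
def n11262 : Q := act 8 n10326
theorem D11262 : act 8 n10326 = n11262 := rfl
theorem F44386 : act 0 n11262 = n10342 := d7_1 D11262 (iv D10342) (iv F40791)
theorem F44387 : act 3 n11262 = n10327 := d25_1 D11262 (iv D10327) D10326
theorem F44388 : act 6 n11262 = n10330 := d34_1 D11262 (iv D10330) (iv F40792)
def n11263 : Q := act 1 n10328
theorem D11263 : act 1 n10328 = n11263 := rfl
theorem F44389 : act 3 n11263 = n10338 := d9_2 (iv F40799) D11263 (iv D10338)
theorem F44390 : act 5 n11263 = n10358 := d11_2 (iv F40800) D11263 F40894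
def n11264 : Q := act 4 n10328
theorem D11264 : act 4 n10328 = n11264 := rfl
theorem F44391 : act 0 n11264 = n10343 := d3_1 D11264 (iv D10343) (iv F40798)
theorem F44392 : act 2 n11264 = n10329 := d16_1 D11264 (iv D10329) D10328
theorem F44393 : act 3 n11264 = n11264 := d21_1 D11264 (iv D11264) F40799 F32595 (iv F40799)
def n11265 : Q := act 8 n10328
theorem D11265 : act 8 n10328 = n11265 := rfl
theorem F44394 : act 0 n11265 = n10344 := d7_1 D11265 (iv D10344) (iv F40798)
theorem F44395 : act 2 n11265 = n10330 := d20_1 D11265 (iv D10330) D10328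
theorem F44396 : act 3 n11265 = n10339 := d25_1 D11265 (iv D10339) (iv F40799)
theorem F44397 : act 5 n11265 = n10386 := d32_1 D11265 (iv D10386) (iv F40800)
def n11266 : Q := act 5 n10329
theorem D11266 : act 5 n10329 = n11266 := rfl
theorem F44398 : act 0 n11266 = n10345 := d4_1 D11266 (iv D10345) (iv F40801)
theorem F44399 : act 3 n11266 = n10332 := d22_1 D11266 (iv D10332) (iv F40802)
theorem F44400 : act 4 n11266 = n10761 := d26_1 D11266 (iv D10761) (iv D9918) (iv F32542) D10329
def n11267 : Q := act 8 n10329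
theorem D11267 : act 8 n10329 = n11267 := rfl
theorem F44401 : act 0 n11267 = n10346 := d7_1 D11267 (iv D10346) (iv F40801)
theorem F44402 : act 3 n11267 = n10333 := d25_1 D11267 (iv D10333) (iv F40802)
theorem F44403 : act 4 n11267 = n10330 := d29_1 D11267 (iv D10330) D10329
def n11268 : Q := act 7 n10330
theorem D11268 : act 7 n10330 = n11268 := rfl
theorem F44404 : act 0 n11268 = n10347 := d6_1 D11268 (iv D10347) (iv F40803)
theorem F44405 : act 3 n11268 = n10392 := d24_1 D11268 (iv D10392) F32794 (iv F32547) (iv F40804)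
theorem F44406 : act 5 n11268 = n10763 := d31_1 D11268 (iv D10763) (iv F40805)
def n11269 : Q := act 8 n10332
theorem D11269 : act 8 n10332 = n11269 := rfl
theorem F44407 : act 0 n11269 = n10348 := d7_1 D11269 (iv D10348) (iv F40812)
theorem F44408 : act 2 n11269 = n11269 := d20_1 D11269 (iv D11269) F40813
theorem F44409 : act 4 n11269 = n10336 := d29_1 D11269 (iv D10336) (iv F40814)
theorem F44410 : act 5 n11269 = n10333 := d32_1 D11269 (iv D10333) D10332
def n11270 : Q := act 8 n10335
theorem D11270 : act 8 n10335 = n11270 := rfl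
theorem F44411 : act 0 n11270 = n10349 := d7_1 D11270 (iv D10349) (iv F40825)
theorem F44412 : act 2 n11270 = n11270 := d20_1 D11270 (iv D11270) F40826
theorem F44413 : act 3 n11270 = n10767 := d25_1 D11270 (iv D10767) (iv F40827)
theorem F44414 : act 5 n11270 = n11270 := d32_1 D11270 (iv D11270) F40828
theorem F44415 : act 6 n11270 = n10336 := d34_1 D11270 (iv D10336) D10335
def n11271 : Q := act 7 n10336
theorem D11271 : act 7 n10336 = n11271 := rfl
theorem F44416 : act 0 n11271 = n10350 := d6_1 D11271 (iv D10350) (iv F40830)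
theorem F44417 : act 2 n11271 = n11271 := d19_1 D11271 (iv D11271) F40831
theorem F44418 : act 5 n11271 = n10337 := d31_1 D11271 (iv D10337) (iv F40833)
theorem F44419 : act 8 n11271 = n10585 := d35_2 D10336 D11271 (iv D10585) (iv D9239) (iv F32568)
def n11272 : Q := act 3 n10337
theorem D11272 : act 3 n10337 = n11272 := rfl
theorem F44420 : act 0 n11272 = n10351 := d2_1 D11272 (iv D10351) (iv F40834)
theorem F44421 : act 4 n11272 = n10401 := d21_2 (iv F40836) D11272 (iv D10401) F32824 (iv F32576)
theorem F44422 : act 6 n11272 = n11272 := d23_2 F40837 D11272 (iv D11272)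
theorem F44423 : act 7 n11272 = n10769 := d24_2 D10337 D11272 (iv D10769) (iv D9925) (iv F32571)
theorem F44424 : act 8 n11272 = n10586 := d25_2 (iv F40838) D11272 (iv D10586)
def n11273 : Q := act 8 n10338
theorem D11273 : act 8 n10338 = n11273 := rfl
theorem F44425 : act 1 n11273 = n10339 := d14_1 D11273 (iv D10339) D10338
theorem F44426 : act 2 n11273 = n10992 := d20_1 D11273 (iv D10992) (iv F40839)
theorem F44427 : act 4 n11273 = n11273 := d29_1 D11273 (iv D11273) F40840
theorem F44428 : act 5 n11273 = n10359 := d32_1 D11273 (iv D10359) (iv F40841)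
def n11274 : Q := act 8 n10340
theorem D11274 : act 8 n10340 = n11274 := rfl
theorem F44429 : act 2 n11274 = n10341 := d20_1 D11274 (iv D10341) D10340
theorem F44430 : act 3 n11274 = n10405 := d25_1 D11274 (iv D10405) (iv F40847)
theorem F44431 : act 5 n11274 = n10407 := d32_1 D11274 (iv D10407) (iv F40848)
def n11275 : Q := act 7 n10341
theorem D11275 : act 7 n10341 = n11275 := rfl
theorem F44432 : act 3 n11275 = n10413 := d24_1 D11275 (iv D10413) F32863 (iv F32615) (iv F40850)
theorem F44433 : act 5 n11275 = n10772 := d31_1 D11275 (iv D10772) (iv F40851)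
theorem F44434 : act 8 n11275 = n10347 := d35_2 D10341 D11275 (iv D10347) (iv D8563) (iv F32611)
def n11276 : Q := act 7 n10342
theorem D11276 : act 7 n10342 = n11276 := rfl
theorem F44435 : act 3 n11276 = n10416 := d24_1 D11276 (iv D10416) F32872 (iv F32624) (iv F40852)
theorem F44436 : act 6 n11276 = n10347 := d33_1 D11276 (iv D10347) (iv F40853)
def n11277 : Q := act 5 n10343
theorem D11277 : act 5 n10343 = n11277 := rfl
theorem F44437 : act 2 n11277 = n10345 := d17_1 D11277 (iv D10345) (iv F40854)
theorem F44438 : act 3 n11277 = n11277 := d22_1 D11277 (iv D11277) F40855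
theorem F44439 : act 4 n11277 = n10414 := d26_1 D11277 (iv D10414) (iv D8640) F38390 D10343
def n11278 : Q := act 8 n10343
theorem D11278 : act 8 n10343 = n11278 := rfl
theorem F44440 : act 2 n11278 = n10346 := d20_1 D11278 (iv D10346) (iv F40854)
theorem F44441 : act 3 n11278 = n11278 := d25_1 D11278 (iv D11278) F40855
theorem F44442 : act 4 n11278 = n10344 := d29_1 D11278 (iv D10344) D10343
def n11279 : Q := act 7 n10344
theorem D11279 : act 7 n10344 = n11279 := rfl
theorem F44443 : act 2 n11279 = n10347 := d19_1 D11279 (iv D10347) (iv F40856)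
theorem F44444 : act 5 n11279 = n10416 := d31_1 D11279 (iv D10416) (iv F40858)
def n11280 : Q := act 8 n10345
theorem D11280 : act 8 n10345 = n11280 := rfl
theorem F44445 : act 3 n11280 = n10348 := d25_1 D11280 (iv D10348) (iv F40859)
theorem F44446 : act 4 n11280 = n10774 := d29_1 D11280 (iv D10774) (iv F40860)
theorem F44447 : act 5 n11280 = n10346 := d32_1 D11280 (iv D10346) D10345
def n11281 : Q := act 7 n10346
theorem D11281 : act 7 n10346 = n11281 := rfl
theorem F44448 : act 4 n11281 = n10347 := d28_1 D11281 (iv D10347) (iv F40862)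
def n11282 : Q := act 7 n10349
theorem D11282 : act 7 n10349 = n11282 := rfl
theorem F44449 : act 2 n11282 = n11282 := d19_1 D11282 (iv D11282) F40868
theorem F44450 : act 5 n11282 = n11282 := d31_1 D11282 (iv D11282) F40870
theorem F44451 : act 6 n11282 = n10350 := d33_1 D11282 (iv D10350) (iv F40871)
theorem F44452 : act 8 n11282 = n10587 := d35_2 D10349 D11282 (iv D10587) (iv D9271) (iv F32649)
def n11283 : Q := act 3 n10350
theorem D11283 : act 3 n10350 = n11283 := rfl
theorem F44453 : act 5 n11283 = n10351 := d22_2 (iv F40873) D11283 (iv D10351)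
theorem F44454 : act 7 n11283 = n10780 := d24_2 D10350 D11283 (iv D10780) (iv D9935) (iv F32651)
theorem F44455 : act 8 n11283 = n10588 := d25_2 (iv F40874) D11283 (iv D10588)
def n11284 : Q := act 2 n10351
theorem D11284 : act 2 n10351 = n11284 := rfl
theorem F44456 : act 3 n11284 = n11284 := d15_2 D10351 D11284 (iv D11284) (iv D10351) F32653
theorem F44457 : act 4 n11284 = n10434 := d16_2 (iv F40875) D11284 (iv D10434)
theorem F44458 : act 6 n11284 = n11284 := d18_2 F40876 D11284 (iv D11284)
theorem F44459 : act 7 n11284 = n10781 := d19_2 (iv F40877) D11284 (iv D10781)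
theorem F44460 : act 8 n11284 = n10589 := d20_2 (iv F40878) D11284 (iv D10589)
def n11285 : Q := act 5 n10352
theorem D11285 : act 5 n10352 = n11285 := rfl
theorem F44461 : act 1 n11285 = n10441 := d11_1 D11285 F41159 (iv F40879)
theorem F44462 : act 2 n11285 = n10354 := d17_1 D11285 (iv D10354) (iv F40880)
theorem F44463 : act 3 n11285 = n11048 := d22_1 D11285 F43505 F41207
def n11286 : Q := act 7 n10352
theorem D11286 : act 7 n10352 = n11286 := rfl
theorem F44464 : act 1 n11286 = n10448 := d13_1 D11286 (iv D10448) (iv F40879)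
theorem F44465 : act 2 n11286 = n10355 := d19_1 D11286 (iv D10355) (iv F40880)
theorem F44466 : act 4 n11286 = n10590 := d28_1 D11286 (iv D10590) (iv F40881)
theorem F44467 : act 6 n11286 = n10353 := d33_1 D11286 (iv D10353) D10352
def n11287 : Q := act 3 n10353
theorem D11287 : act 3 n10353 = n11287 := rfl
theorem F44468 : act 1 n11287 = n10449 := d9_1 D11287 (iv D10449) (iv F40882)
def n11288 : Q := act 8 n10353
theorem D11288 : act 8 n10353 = n11288 := rfl
theorem F44469 : act 1 n11288 = n10450 := d14_1 D11288 (iv D10450) (iv F40882)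
theorem F44470 : act 2 n11288 = n10357 := d20_1 D11288 (iv D10357) (iv F40883)
theorem F44471 : act 4 n11288 = n10592 := d29_1 D11288 (iv D10592) (iv F40884)
def n11289 : Q := act 4 n10354
theorem D11289 : act 4 n10354 = n11289 := rfl
theorem F44472 : act 0 n11289 = n10582 := d3_1 D11289 (iv F43951) F43948
theorem F44473 : act 1 n11289 = n10378 := d10_1 D11289 (iv D10378) (iv F40885)
theorem F44474 : act 3 n11289 = n11289 := d21_1 D11289 (iv D11289) F40886 F32730 (iv F40886)
theorem F44475 : act 5 n11289 = n10531 := d26_2 D10354 D11289 F41536 F38659 (iv F32726)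
theorem F44476 : act 8 n11289 = n10530 := d29_2 F43574 D11289 (iv F43571)
def n11290 : Q := act 7 n10354
theorem D11290 : act 7 n10354 = n11290 := rfl
theorem F44477 : act 1 n11290 = n10379 := d13_1 D11290 (iv D10379) (iv F40885)
theorem F44478 : act 5 n11290 = n10355 := d31_1 D11290 (iv D10355) D10354
def n11291 : Q := act 3 n10355
theorem D11291 : act 3 n10355 = n11291 := rfl
theorem F44479 : act 1 n11291 = n10380 := d9_1 D11291 (iv D10380) (iv F40887)
theorem F44480 : act 6 n11291 = n10356 := d23_2 (iv F40889) D11291 (iv D10356)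
theorem F44481 : act 7 n11291 = n10358 := d24_2 D10355 D11291 (iv D10358) (iv D8592) (iv F32725)
def n11292 : Q := act 8 n10355
theorem D11292 : act 8 n10355 = n11292 := rfl
theorem F44482 : act 1 n11292 = n10381 := d14_1 D11292 (iv D10381) (iv F40887)
theorem F44483 : act 4 n11292 = n10593 := d29_1 D11292 (iv D10593) (iv F40888)
theorem F44484 : act 6 n11292 = n10357 := d34_1 D11292 (iv D10357) (iv F40889)
def n11293 : Q := act 2 n10356
theorem D11293 : act 2 n10356 = n11293 := rfl
theorem F44485 : act 7 n11293 = n10360 := d19_2 (iv F40891) D11293 (iv D10360)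
def n11294 : Q := act 4 n10356
theorem D11294 : act 4 n10356 = n11294 := rfl
theorem F44486 : act 1 n11294 = n10383 := d10_1 D11294 (iv D10383) (iv F40890)
theorem F44487 : act 3 n11294 = n10595 := d21_1 D11294 (iv D10595) (iv D9292) (iv F32728) D10356
theorem F44488 : act 7 n11294 = n10361 := d28_2 (iv F40891) D11294 (iv D10361)
def n11295 : Q := act 8 n10356
theorem D11295 : act 8 n10356 = n11295 := rfl
theorem F44489 : act 1 n11295 = n10384 := d14_1 D11295 (iv D10384) (iv F40890)
theorem F44490 : act 3 n11295 = n10357 := d25_1 D11295 (iv D10357) D10356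
def n11296 : Q := act 2 n10358
theorem D11296 : act 2 n10358 = n11296 := rfl
theorem F44491 : act 1 n11296 = n10744 := d8_1 D11296 (iv D10744) F39150 F39009 (iv F40894)
theorem F44492 : act 6 n11296 = n10360 := d18_2 (iv F40895) D11296 (iv D10360)
def n11297 : Q := act 4 n10358
theorem D11297 : act 4 n10358 = n11297 := rfl
theorem F44493 : act 1 n11297 = n10385 := d10_1 D11297 (iv D10385) (iv F40894)
theorem F44494 : act 3 n11297 = n10364 := d21_1 D11297 (iv D10364) (iv D8595) (iv F32732) D10358
theorem F44495 : act 6 n11297 = n10361 := d27_2 (iv F40895) D11297 (iv D10361)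
def n11298 : Q := act 8 n10358
theorem D11298 : act 8 n10358 = n11298 := rfl
theorem F44496 : act 1 n11298 = n10386 := d14_1 D11298 (iv D10386) (iv F40894)
theorem F44497 : act 3 n11298 = n10359 := d25_1 D11298 (iv D10359) D10358
theorem F44498 : act 6 n11298 = n10362 := d34_1 D11298 (iv D10362) (iv F40895)
def n11299 : Q := act 1 n10360
theorem D11299 : act 1 n10360 = n11299 := rfl
theorem F44499 : act 2 n11299 = n10387 := d8_2 D10360 D11299 (iv D10387) (iv D8612) (iv F32734)
theorem F44500 : act 3 n11299 = n11296 := d9_2 F42327 D11299 F44491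
theorem F44501 : act 6 n11299 = n10744 := d12_2 F44492 D11299 (iv F44491)
def n11300 : Q := act 4 n10360
theorem D11300 : act 4 n10360 = n11300 := rfl
theorem F44502 : act 2 n11300 = n10361 := d16_1 D11300 (iv D10361) D10360
def n11301 : Q := act 8 n10360
theorem D11301 : act 8 n10360 = n11301 := rfl
theorem F44503 : act 2 n11301 = n10362 := d20_1 D11301 (iv D10362) D10360
def n11302 : Q := act 5 n10361
theorem D11302 : act 5 n10361 = n11302 := rfl
theorem F44504 : act 1 n11302 = n10390 := d11_1 D11302 (iv D10390) (iv F40899)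
theorem F44505 : act 3 n11302 = n10368 := d22_1 D11302 (iv D10368) (iv F40900)
def n11303 : Q := act 8 n10361
theorem D11303 : act 8 n10361 = n11303 := rfl
theorem F44506 : act 1 n11303 = n10391 := d14_1 D11303 (iv D10391) (iv F40899)
theorem F44507 : act 3 n11303 = n10369 := d25_1 D11303 (iv D10369) (iv F40900)
theorem F44508 : act 4 n11303 = n10362 := d29_1 D11303 (iv D10362) D10361
def n11304 : Q := act 7 n10362
theorem D11304 : act 7 n10362 = n11304 := rfl
theorem F44509 : act 1 n11304 = n10392 := d13_1 D11304 (iv D10392) (iv F40901)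
def n11305 : Q := act 4 n10363
theorem D11305 : act 4 n10363 = n11305 := rfl
theorem F44510 : act 1 n11305 = n10466 := d10_1 D11305 (iv D10466) (iv F40903)
theorem F44511 : act 2 n11305 = n10364 := d16_1 D11305 (iv D10364) D10363
theorem F44512 : act 6 n11305 = n10366 := d27_2 (iv F40905) D11305 (iv D10366)
theorem F44513 : act 7 n11305 = n10599 := d28_2 (iv F40906) D11305 (iv D10599)
def n11306 : Q := act 8 n10363
theorem D11306 : act 8 n10363 = n11306 := rfl
theorem F44514 : act 1 n11306 = n10467 := d14_1 D11306 (iv D10467) (iv F40903)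
theorem F44515 : act 2 n11306 = n10365 := d20_1 D11306 (iv D10365) D10363
theorem F44516 : act 5 n11306 = n11306 := d32_1 D11306 (iv D11306) F40904
theorem F44517 : act 6 n11306 = n10367 := d34_1 D11306 (iv D10367) (iv F40905)
def n11307 : Q := act 5 n10364
theorem D11307 : act 5 n10364 = n11307 := rfl
theorem F44518 : act 1 n11307 = n10393 := d11_1 D11307 (iv D10393) (iv F40907)
theorem F44519 : act 4 n11307 = n11307 := d26_1 D11307 (iv D11307) (iv D10364) F32738 D10364
theorem F44520 : act 7 n11307 = n10600 := d31_2 (iv F40909) D11307 (iv D10600)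
def n11308 : Q := act 8 n10364
theorem D11308 : act 8 n10364 = n11308 := rfl
theorem F44521 : act 1 n11308 = n10394 := d14_1 D11308 (iv D10394) (iv F40907)
theorem F44522 : act 4 n11308 = n10365 := d29_1 D11308 (iv D10365) D10364
theorem F44523 : act 6 n11308 = n10369 := d34_1 D11308 (iv D10369) (iv F40908)
def n11309 : Q := act 7 n10365
theorem D11309 : act 7 n10365 = n11309 := rfl
theorem F44524 : act 0 n11309 = n10596 := d6_1 D11309 (iv F43996) F43991
theorem F44525 : act 1 n11309 = n10395 := d13_1 D11309 (iv D10395) (iv F40910)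
theorem F44526 : act 3 n11309 = n10539 := d24_1 D11309 (iv F44334) F44331 F40754 (iv F40911)
theorem F44527 : act 5 n11309 = n11309 := d31_1 D11309 (iv D11309) F40912
theorem F44528 : act 6 n11309 = n10370 := d33_1 D11309 (iv D10370) (iv F40913)
theorem F44529 : act 8 n11309 = n10538 := d35_2 D10365 D11309 F41570 F38928 (iv F32740)
def n11310 : Q := act 3 n10366
theorem D11310 : act 3 n10366 = n11310 := rfl
theorem F44530 : act 1 n11310 = n10471 := d9_1 D11310 (iv D10471) (iv F40914)
def n11311 : Q := act 5 n10366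
theorem D11311 : act 5 n10366 = n11311 := rfl
theorem F44531 : act 1 n11311 = n10472 := d11_1 D11311 (iv D10472) (iv F40914)
theorem F44532 : act 2 n11311 = n10368 := d17_1 D11311 (iv D10368) (iv F40915)
theorem F44533 : act 4 n11311 = n10372 := d26_1 D11311 (iv D10372) (iv D8600) (iv F32745) D10366
theorem F44534 : act 7 n11311 = n10602 := d31_2 (iv F40916) D11311 (iv D10602)
def n11312 : Q := act 8 n10366
theorem D11312 : act 8 n10366 = n11312 := rfl
theorem F44535 : act 1 n11312 = n10473 := d14_1 D11312 (iv D10473) (iv F40914)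
theorem F44536 : act 2 n11312 = n10369 := d20_1 D11312 (iv D10369) (iv F40915)
theorem F44537 : act 4 n11312 = n10367 := d29_1 D11312 (iv D10367) D10366
def n11313 : Q := act 7 n10367
theorem D11313 : act 7 n10367 = n11313 := rfl
theorem F44538 : act 1 n11313 = n10474 := d13_1 D11313 (iv D10474) (iv F40917)
theorem F44539 : act 2 n11313 = n10370 := d19_1 D11313 (iv D10370) (iv F40918)
theorem F44540 : act 5 n11313 = n10374 := d31_1 D11313 (iv D10374) (iv F40919)
theorem F44541 : act 8 n11313 = n10604 := d35_2 D10367 D11313 (iv D10604) (iv D9304) (iv F32746)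
def n11314 : Q := act 6 n10368
theorem D11314 : act 6 n10368 = n11314 := rfl
theorem F44542 : act 1 n11314 = n10396 := d12_1 D11314 (iv D10396) (iv F40920)
theorem F44543 : act 4 n11314 = n10375 := d27_1 D11314 (iv D10375) (iv F40921)
theorem F44544 : act 7 n11314 = n10605 := d33_2 (iv F40922) D11314 (iv D10605)
def n11315 : Q := act 8 n10368
theorem D11315 : act 8 n10368 = n11315 := rfl
theorem F44545 : act 1 n11315 = n10397 := d14_1 D11315 (iv D10397) (iv F40920)
theorem F44546 : act 4 n11315 = n10376 := d29_1 D11315 (iv D10376) (iv F40921)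
theorem F44547 : act 5 n11315 = n10369 := d32_1 D11315 (iv D10369) D10368
def n11316 : Q := act 7 n10369
theorem D11316 : act 7 n10369 = n11316 := rfl
theorem F44548 : act 1 n11316 = n10398 := d13_1 D11316 (iv D10398) (iv F40923)
theorem F44549 : act 4 n11316 = n10370 := d28_1 D11316 (iv D10370) (iv F40924)
theorem F44550 : act 8 n11316 = n10607 := d35_2 D10369 D11316 (iv D10607) (iv D9306) (iv F32748)
def n11317 : Q := act 5 n10371
theorem D11317 : act 5 n10371 = n11317 := rfl
theorem F44551 : act 1 n11317 = n10478 := d11_1 D11317 (iv D10478) (iv F40928)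
theorem F44552 : act 3 n11317 = n10372 := d22_1 D11317 (iv D10372) D10371
def n11318 : Q := act 7 n10371
theorem D11318 : act 7 n10371 = n11318 := rfl
theorem F44553 : act 1 n11318 = n10479 := d13_1 D11318 (iv D10479) (iv F40928)
theorem F44554 : act 3 n11318 = n10609 := d24_1 D11318 (iv D10609) (iv D9308) (iv F32755) D10371
theorem F44555 : act 6 n11318 = n11318 := d33_1 D11318 (iv D11318) F40929
def n11319 : Q := act 8 n10371
theorem D11319 : act 8 n10371 = n11319 := rfl
theorem F44556 : act 1 n11319 = n10480 := d14_1 D11319 (iv D10480) (iv F40928)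
theorem F44557 : act 3 n11319 = n10373 := d25_1 D11319 (iv D10373) D10371
theorem F44558 : act 6 n11319 = n11319 := d34_1 D11319 (iv D11319) F40929
def n11320 : Q := act 6 n10372
theorem D11320 : act 6 n10372 = n11320 := rfl
theorem F44559 : act 1 n11320 = n10481 := d12_1 D11320 (iv D10481) (iv F40930)
theorem F44560 : act 2 n11320 = n10375 := d18_1 D11320 (iv D10375) (iv F40931)
theorem F44561 : act 5 n11320 = n11320 := d30_1 D11320 (iv D11320) (iv D10372) F32754 D10372
theorem F44562 : act 7 n11320 = n10611 := d33_2 (iv F40932) D11320 (iv D10611)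
def n11321 : Q := act 8 n10372
theorem D11321 : act 8 n10372 = n11321 := rfl
theorem F44563 : act 1 n11321 = n10482 := d14_1 D11321 (iv D10482) (iv F40930)
theorem F44564 : act 2 n11321 = n10376 := d20_1 D11321 (iv D10376) (iv F40931)
theorem F44565 : act 5 n11321 = n10373 := d32_1 D11321 (iv D10373) D10372
def n11322 : Q := act 7 n10373
theorem D11322 : act 7 n10373 = n11322 := rfl
theorem F44566 : act 1 n11322 = n10483 := d13_1 D11322 (iv D10483) (iv F40933)
theorem F44567 : act 2 n11322 = n10377 := d19_1 D11322 (iv D10377) (iv F40934)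
theorem F44568 : act 4 n11322 = n10374 := d28_1 D11322 (iv D10374) (iv F40935)
theorem F44569 : act 6 n11322 = n11322 := d33_1 D11322 (iv D11322) F40936
theorem F44570 : act 8 n11322 = n10613 := d35_2 D10373 D11322 (iv D10613) (iv D9310) (iv F32755)
def n11323 : Q := act 3 n10374
theorem D11323 : act 3 n10374 = n11323 := rfl
theorem F44571 : act 1 n11323 = n10484 := d9_1 D11323 (iv D10484) (iv F40937)
theorem F44572 : act 6 n11323 = n11323 := d23_2 F40939 D11323 (iv D11323)
theorem F44573 : act 8 n11323 = n10614 := d25_2 (iv F40940) D11323 (iv D10614)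
def n11324 : Q := act 8 n10375
theorem D11324 : act 8 n10375 = n11324 := rfl
theorem F44574 : act 1 n11324 = n10399 := d14_1 D11324 (iv D10399) (iv F40941)
theorem F44575 : act 5 n11324 = n11324 := d32_1 D11324 (iv D11324) F40942
theorem F44576 : act 6 n11324 = n10376 := d34_1 D11324 (iv D10376) D10375
def n11325 : Q := act 7 n10376
theorem D11325 : act 7 n10376 = n11325 := rfl
theorem F44577 : act 1 n11325 = n10400 := d13_1 D11325 (iv D10400) (iv F40944)
theorem F44578 : act 5 n11325 = n10377 := d31_1 D11325 (iv D10377) (iv F40945)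
theorem F44579 : act 8 n11325 = n10616 := d35_2 D10376 D11325 (iv D10616) (iv D9313) (iv F32760)
def n11326 : Q := act 3 n10377
theorem D11326 : act 3 n10377 = n11326 := rfl
theorem F44580 : act 1 n11326 = n10401 := d9_1 D11326 (iv D10401) (iv F40946)
theorem F44581 : act 6 n11326 = n11326 := d23_2 F40948 D11326 (iv D11326)
theorem F44582 : act 8 n11326 = n10617 := d25_2 (iv F40949) D11326 (iv D10617)
def n11327 : Q := act 7 n10378
theorem D11327 : act 7 n10378 = n11327 := rfl
theorem F44583 : act 0 n11327 = n10404 := d6_1 D11327 (iv D10404) (iv F40950)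
theorem F44584 : act 2 n11327 = n10445 := d19_1 D11327 F41176 (iv F40951)
theorem F44585 : act 4 n11327 = n10379 := d28_1 D11327 (iv D10379) D10378
theorem F44586 : act 5 n11327 = n10533 := d31_1 D11327 (iv D10533) (iv F40953)
def n11328 : Q := act 8 n10379
theorem D11328 : act 8 n10379 = n11328 := rfl
theorem F44587 : act 0 n11328 = n10405 := d7_1 D11328 (iv D10405) (iv F40955)
theorem F44588 : act 2 n11328 = n10446 := d20_1 D11328 (iv D10446) (iv F40956)
theorem F44589 : act 5 n11328 = n10381 := d32_1 D11328 (iv D10381) (iv F40957)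
def n11329 : Q := act 4 n10380
theorem D11329 : act 4 n10380 = n11329 := rfl
theorem F44590 : act 0 n11329 = n10406 := d3_1 D11329 (iv D10406) (iv F40958)
theorem F44591 : act 2 n11329 = n10759 := d16_1 D11329 (iv D10759) (iv F40959)
theorem F44592 : act 3 n11329 = n10561 := d21_1 D11329 F41671 F38808 (iv F32772) D10380
theorem F44593 : act 6 n11329 = n10383 := d27_2 (iv F40960) D11329 (iv D10383)
theorem F44594 : act 7 n11329 = n10385 := d28_2 (iv F40961) D11329 (iv D10385)
def n11330 : Q := act 8 n10380
theorem D11330 : act 8 n10380 = n11330 := rfl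
theorem F44595 : act 0 n11330 = n10407 := d7_1 D11330 (iv D10407) (iv F40958)
theorem F44596 : act 2 n11330 = n10760 := d20_1 D11330 (iv D10760) (iv F40959)
theorem F44597 : act 3 n11330 = n10381 := d25_1 D11330 (iv D10381) D10380
theorem F44598 : act 6 n11330 = n10384 := d34_1 D11330 (iv D10384) (iv F40960)
def n11331 : Q := act 1 n10382
theorem D11331 : act 1 n10382 = n11331 := rfl
theorem F44599 : act 3 n11331 = n10455 := d9_2 (iv F40967) D11331 (iv D10455)
theorem F44600 : act 6 n11331 = n10742 := d12_2 (iv F40968) D11331 F42323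
theorem F44601 : act 7 n11331 = n10387 := d13_2 (iv F40969) D11331 (iv D10387)
def n11332 : Q := act 4 n10382
theorem D11332 : act 4 n10382 = n11332 := rfl
theorem F44602 : act 0 n11332 = n10409 := d3_1 D11332 (iv D10409) (iv F40966)
theorem F44603 : act 2 n11332 = n10383 := d16_1 D11332 (iv D10383) D10382
theorem F44604 : act 3 n11332 = n11332 := d21_1 D11332 (iv D11332) F40967 F33345 (iv F40967)
theorem F44605 : act 6 n11332 = n10759 := d27_2 (iv F40968) D11332 (iv D10759)
theorem F44606 : act 7 n11332 = n10388 := d28_2 (iv F40969) D11332 (iv D10388)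
def n11333 : Q := act 8 n10382
theorem D11333 : act 8 n10382 = n11333 := rfl
theorem F44607 : act 0 n11333 = n10410 := d7_1 D11333 (iv D10410) (iv F40966)
theorem F44608 : act 2 n11333 = n10384 := d20_1 D11333 (iv D10384) D10382
theorem F44609 : act 3 n11333 = n10456 := d25_1 D11333 (iv D10456) (iv F40967)
theorem F44610 : act 6 n11333 = n10760 := d34_1 D11333 (iv D10760) (iv F40968)
def n11334 : Q := act 5 n10383
theorem D11334 : act 5 n10383 = n11334 := rfl
theorem F44611 : act 0 n11334 = n10411 := d4_1 D11334 (iv D10411) (iv F40970)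
theorem F44612 : act 3 n11334 = n10618 := d22_1 D11334 (iv D10618) (iv F40971)
theorem F44613 : act 7 n11334 = n10390 := d31_2 (iv F40972) D11334 (iv D10390)
def n11335 : Q := act 8 n10383
theorem D11335 : act 8 n10383 = n11335 := rfl
theorem F44614 : act 0 n11335 = n10412 := d7_1 D11335 (iv D10412) (iv F40970)
theorem F44615 : act 3 n11335 = n10619 := d25_1 D11335 (iv D10619) (iv F40971)
theorem F44616 : act 4 n11335 = n10384 := d29_1 D11335 (iv D10384) D10383
def n11336 : Q := act 7 n10384
theorem D11336 : act 7 n10384 = n11336 := rfl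
theorem F44617 : act 0 n11336 = n10413 := d6_1 D11336 (iv D10413) (iv F40973)
theorem F44618 : act 8 n11336 = n10392 := d35_2 D10384 D11336 (iv D10392) (iv D8614) (iv F32775)
def n11337 : Q := act 5 n10385
theorem D11337 : act 5 n10385 = n11337 := rfl
theorem F44619 : act 0 n11337 = n10414 := d4_1 D11337 (iv D10414) (iv F40975)
theorem F44620 : act 2 n11337 = n10761 := d17_1 D11337 (iv D10761) (iv F40976)
theorem F44621 : act 3 n11337 = n10393 := d22_1 D11337 (iv D10393) (iv F40977)
def n11338 : Q := act 8 n10385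
theorem D11338 : act 8 n10385 = n11338 := rfl
theorem F44622 : act 0 n11338 = n10415 := d7_1 D11338 (iv D10415) (iv F40975)
theorem F44623 : act 2 n11338 = n10762 := d20_1 D11338 (iv D10762) (iv F40976)
theorem F44624 : act 3 n11338 = n10394 := d25_1 D11338 (iv D10394) (iv F40977)
theorem F44625 : act 4 n11338 = n10386 := d29_1 D11338 (iv D10386) D10385
theorem F44626 : act 6 n11338 = n10391 := d34_1 D11338 (iv D10391) (iv F40978)
def n11339 : Q := act 7 n10386
theorem D11339 : act 7 n10386 = n11339 := rfl
theorem F44627 : act 0 n11339 = n10416 := d6_1 D11339 (iv D10416) (iv F40979)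
theorem F44628 : act 2 n11339 = n10763 := d19_1 D11339 (iv D10763) (iv F40980)
theorem F44629 : act 6 n11339 = n10392 := d33_1 D11339 (iv D10392) (iv F40982)
def n11340 : Q := act 0 n10387
theorem D11340 : act 0 n10387 = n11340 := rfl
theorem F44630 : act 1 n11340 = n10417 := d0_2 D10387 D11340 (iv D10417) (iv D8642) (iv F32789)
theorem F44631 : act 3 n11340 = n10402 := d2_2 (iv F40983) D11340 (iv D10402)
theorem F44632 : act 6 n11340 = n10702 := d5_2 (iv F40984) D11340 F42194
def n11341 : Q := act 4 n10387
theorem D11341 : act 4 n10387 = n11341 := rfl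
theorem F44633 : act 1 n11341 = n10388 := d10_1 D11341 (iv D10388) D10387
theorem F44634 : act 3 n11341 = n10489 := d21_1 D11341 (iv D10489) F33612 (iv F32841) (iv F40983)
theorem F44635 : act 6 n11341 = n10745 := d27_2 (iv F40984) D11341 (iv D10745)
def n11342 : Q := act 8 n10387
theorem D11342 : act 8 n10387 = n11342 := rfl
theorem F44636 : act 1 n11342 = n10389 := d14_1 D11342 (iv D10389) D10387
theorem F44637 : act 3 n11342 = n10403 := d25_1 D11342 (iv D10403) (iv F40983)
theorem F44638 : act 6 n11342 = n10746 := d34_1 D11342 (iv D10746) (iv F40984)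
def n11343 : Q := act 5 n10388
theorem D11343 : act 5 n10388 = n11343 := rfl
theorem F44639 : act 0 n11343 = n10420 := d4_1 D11343 (iv D10420) (iv F40985)
theorem F44640 : act 2 n11343 = n10390 := d17_1 D11343 (iv D10390) (iv F40986)
theorem F44641 : act 3 n11343 = n10491 := d22_1 D11343 (iv D10491) (iv F40987)
def n11344 : Q := act 8 n10388
theorem D11344 : act 8 n10388 = n11344 := rfl
theorem F44642 : act 0 n11344 = n10421 := d7_1 D11344 (iv D10421) (iv F40985)
theorem F44643 : act 2 n11344 = n10391 := d20_1 D11344 (iv D10391) (iv F40986)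
theorem F44644 : act 3 n11344 = n10492 := d25_1 D11344 (iv D10492) (iv F40987)
theorem F44645 : act 4 n11344 = n10389 := d29_1 D11344 (iv D10389) D10388
theorem F44646 : act 6 n11344 = n10762 := d34_1 D11344 (iv D10762) (iv F40988)
def n11345 : Q := act 7 n10389
theorem D11345 : act 7 n10389 = n11345 := rfl
theorem F44647 : act 0 n11345 = n10422 := d6_1 D11345 (iv D10422) (iv F40989)
theorem F44648 : act 2 n11345 = n10392 := d19_1 D11345 (iv D10392) (iv F40990)
theorem F44649 : act 6 n11345 = n10763 := d33_1 D11345 (iv D10763) (iv F40992)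
def n11346 : Q := act 6 n10390
theorem D11346 : act 6 n10390 = n11346 := rfl
theorem F44650 : act 0 n11346 = n10423 := d5_1 D11346 (iv D10423) (iv F40993)
theorem F44651 : act 3 n11346 = n10396 := d23_1 D11346 (iv D10396) (iv F40994)
def n11347 : Q := act 8 n10390
theorem D11347 : act 8 n10390 = n11347 := rfl
theorem F44652 : act 0 n11347 = n10424 := d7_1 D11347 (iv D10424) (iv F40993)
theorem F44653 : act 3 n11347 = n10397 := d25_1 D11347 (iv D10397) (iv F40994)
theorem F44654 : act 5 n11347 = n10391 := d32_1 D11347 (iv D10391) D10390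
def n11348 : Q := act 7 n10391
theorem D11348 : act 7 n10391 = n11348 := rfl
theorem F44655 : act 0 n11348 = n10425 := d6_1 D11348 (iv D10425) (iv F40995)
theorem F44656 : act 4 n11348 = n10392 := d28_1 D11348 (iv D10392) (iv F40997)
def n11349 : Q := act 6 n10393
theorem D11349 : act 6 n10393 = n11349 := rfl
theorem F44657 : act 0 n11349 = n10426 := d5_1 D11349 (iv D10426) (iv F40999)
theorem F44658 : act 2 n11349 = n10497 := d18_1 D11349 (iv D10497) (iv F41000)
theorem F44659 : act 4 n11349 = n11349 := d27_1 D11349 (iv D11349) F41001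
theorem F44660 : act 5 n11349 = n10396 := d30_1 D11349 (iv D10396) (iv D8617) (iv F32797) D10393
theorem F44661 : act 7 n11349 = n10621 := d33_2 (iv F41002) D11349 (iv D10621)
def n11350 : Q := act 8 n10393
theorem D11350 : act 8 n10393 = n11350 := rfl
theorem F44662 : act 0 n11350 = n10427 := d7_1 D11350 (iv D10427) (iv F40999)
theorem F44663 : act 2 n11350 = n10498 := d20_1 D11350 (iv D10498) (iv F41000)
theorem F44664 : act 4 n11350 = n11350 := d29_1 D11350 (iv D11350) F41001
theorem F44665 : act 5 n11350 = n10394 := d32_1 D11350 (iv D10394) D10393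
def n11351 : Q := act 7 n10394
theorem D11351 : act 7 n10394 = n11351 := rfl
theorem F44666 : act 0 n11351 = n10428 := d6_1 D11351 (iv D10428) (iv F41003)
theorem F44667 : act 2 n11351 = n10499 := d19_1 D11351 (iv D10499) (iv F41004)
theorem F44668 : act 4 n11351 = n10395 := d28_1 D11351 (iv D10395) (iv F41005)
theorem F44669 : act 6 n11351 = n10398 := d33_1 D11351 (iv D10398) (iv F41006)
theorem F44670 : act 8 n11351 = n10556 := d35_2 D10394 D11351 F41650 F38933 (iv F32798)
def n11352 : Q := act 8 n10396
theorem D11352 : act 8 n10396 = n11352 := rfl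
theorem F44671 : act 0 n11352 = n10429 := d7_1 D11352 (iv D10429) (iv F41013)
theorem F44672 : act 2 n11352 = n10500 := d20_1 D11352 (iv D10500) (iv F41014)
theorem F44673 : act 4 n11352 = n10399 := d29_1 D11352 (iv D10399) (iv F41015)
theorem F44674 : act 6 n11352 = n10397 := d34_1 D11352 (iv D10397) D10396
def n11353 : Q := act 7 n10397
theorem D11353 : act 7 n10397 = n11353 := rfl
theorem F44675 : act 0 n11353 = n10430 := d6_1 D11353 (iv D10430) (iv F41017)
theorem F44676 : act 2 n11353 = n10501 := d19_1 D11353 (iv D10501) (iv F41018)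
theorem F44677 : act 4 n11353 = n10400 := d28_1 D11353 (iv D10400) (iv F41019)
theorem F44678 : act 5 n11353 = n10398 := d31_1 D11353 (iv D10398) (iv F41020)
theorem F44679 : act 8 n11353 = n10623 := d35_2 D10397 D11353 (iv D10623) (iv D9332) (iv F32807)
def n11354 : Q := act 3 n10398
theorem D11354 : act 3 n10398 = n11354 := rfl
theorem F44680 : act 0 n11354 = n10431 := d2_1 D11354 (iv D10431) (iv F41021)
theorem F44681 : act 8 n11354 = n10624 := d25_2 (iv F41024) D11354 (iv D10624)
def n11355 : Q := act 7 n10399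
theorem D11355 : act 7 n10399 = n11355 := rfl
theorem F44682 : act 0 n11355 = n10432 := d6_1 D11355 (iv D10432) (iv F41025)
theorem F44683 : act 2 n11355 = n10503 := d19_1 D11355 (iv D10503) (iv F41026)
theorem F44684 : act 5 n11355 = n11355 := d31_1 D11355 (iv D11355) F41027
theorem F44685 : act 6 n11355 = n10400 := d33_1 D11355 (iv D10400) (iv F41028)
theorem F44686 : act 8 n11355 = n10625 := d35_2 D10399 D11355 (iv D10625) (iv D9334) (iv F32818)
def n11356 : Q := act 3 n10400
theorem D11356 : act 3 n10400 = n11356 := rfl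
theorem F44687 : act 0 n11356 = n10433 := d2_1 D11356 (iv D10433) (iv F41029)
theorem F44688 : act 5 n11356 = n10401 := d22_2 (iv F41031) D11356 (iv D10401)
theorem F44689 : act 8 n11356 = n10626 := d25_2 (iv F41032) D11356 (iv D10626)
def n11357 : Q := act 2 n10401
theorem D11357 : act 2 n10401 = n11357 := rfl
theorem F44690 : act 0 n11357 = n10434 := d1_1 D11357 (iv D10434) (iv F41033)
theorem F44691 : act 3 n11357 = n10505 := d15_2 D10401 D11357 (iv D10505) (iv D8873) (iv F32823)
theorem F44692 : act 6 n11357 = n11357 := d18_2 F41034 D11357 (iv D11357)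
theorem F44693 : act 8 n11357 = n10627 := d20_2 (iv F41035) D11357 (iv D10627)
def n11358 : Q := act 8 n10402
theorem D11358 : act 8 n10402 = n11358 := rfl
theorem F44694 : act 0 n11358 = n10403 := d7_1 D11358 (iv D10403) D10402
theorem F44695 : act 1 n11358 = n10435 := d14_1 D11358 (iv D10435) (iv F41036)
theorem F44696 : act 2 n11358 = n11148 := d20_1 D11358 (iv D11148) (iv F41037)
theorem F44697 : act 4 n11358 = n10506 := d29_1 D11358 (iv D10506) (iv F41038)
theorem F44698 : act 6 n11358 = n10703 := d34_1 D11358 (iv D10703) (iv F41039)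
def n11359 : Q := act 5 n10406
theorem D11359 : act 5 n10406 = n11359 := rfl
theorem F44699 : act 1 n11359 = n10631 := d11_1 D11359 F41898 (iv F41051)
theorem F44700 : act 2 n11359 = n10770 := d17_1 D11359 (iv D10770) (iv F41052)
theorem F44701 : act 3 n11359 = n10569 := d22_1 D11359 F41709 (iv F41053)
theorem F44702 : act 7 n11359 = n10414 := d31_2 (iv F41055) D11359 (iv D10414)
def n11360 : Q := act 7 n10407
theorem D11360 : act 7 n10407 = n11360 := rfl
theorem F44703 : act 2 n11360 = n10772 := d19_1 D11360 (iv D10772) (iv F41056)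
theorem F44704 : act 6 n11360 = n10413 := d33_1 D11360 (iv D10413) (iv F41058)
theorem F44705 : act 8 n11360 = n10416 := d35_2 D10407 D11360 (iv D10416) (iv D8641) (iv F32855)
def n11361 : Q := act 0 n10408
theorem D11361 : act 0 n10408 = n11361 := rfl
theorem F44706 : act 3 n11361 = n10458 := d2_2 (iv F41059) D11361 (iv D10458)
theorem F44707 : act 6 n11361 = n10712 := d5_2 (iv F41060) D11361 F42233
theorem F44708 : act 7 n11361 = n10417 := d6_2 (iv F41061) D11361 (iv D10417)
def n11362 : Q := act 4 n10408
theorem D11362 : act 4 n10408 = n11362 := rfl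
theorem F44709 : act 1 n11362 = n10409 := d10_1 D11362 (iv D10409) D10408
theorem F44710 : act 3 n11362 = n11362 := d21_1 D11362 (iv D11362) F41059 F33412 (iv F41059)
theorem F44711 : act 6 n11362 = n10727 := d27_2 (iv F41060) D11362 (iv D10727)
theorem F44712 : act 7 n11362 = n10418 := d28_2 (iv F41061) D11362 (iv D10418)
def n11363 : Q := act 8 n10408
theorem D11363 : act 8 n10408 = n11363 := rfl
theorem F44713 : act 1 n11363 = n10410 := d14_1 D11363 (iv D10410) D10408
theorem F44714 : act 3 n11363 = n10459 := d25_1 D11363 (iv D10459) (iv F41059)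
theorem F44715 : act 6 n11363 = n10728 := d34_1 D11363 (iv D10728) (iv F41060)
def n11364 : Q := act 5 n10409
theorem D11364 : act 5 n10409 = n11364 := rfl
theorem F44716 : act 2 n11364 = n10411 := d17_1 D11364 (iv D10411) (iv F41062)
theorem F44717 : act 3 n11364 = n11364 := d22_1 D11364 (iv D11364) F41063
theorem F44718 : act 7 n11364 = n10420 := d31_2 (iv F41065) D11364 (iv D10420)
def n11365 : Q := act 8 n10409
theorem D11365 : act 8 n10409 = n11365 := rfl
theorem F44719 : act 2 n11365 = n10412 := d20_1 D11365 (iv D10412) (iv F41062)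
theorem F44720 : act 3 n11365 = n11365 := d25_1 D11365 (iv D11365) F41063
theorem F44721 : act 4 n11365 = n10410 := d29_1 D11365 (iv D10410) D10409
theorem F44722 : act 6 n11365 = n10771 := d34_1 D11365 (iv D10771) (iv F41064)
def n11366 : Q := act 7 n10410
theorem D11366 : act 7 n10410 = n11366 := rfl
theorem F44723 : act 2 n11366 = n10413 := d19_1 D11366 (iv D10413) (iv F41066)
theorem F44724 : act 6 n11366 = n10772 := d33_1 D11366 (iv D10772) (iv F41068)
theorem F44725 : act 8 n11366 = n10422 := d35_2 D10410 D11366 (iv D10422) (iv D8644) (iv F32860)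
def n11367 : Q := act 6 n10411
theorem D11367 : act 6 n10411 = n11367 := rfl
theorem F44726 : act 3 n11367 = n10628 := d23_1 D11367 (iv D10628) (iv F41069)
theorem F44727 : act 7 n11367 = n10423 := d33_2 (iv F41070) D11367 (iv D10423)
def n11368 : Q := act 8 n10411
theorem D11368 : act 8 n10411 = n11368 := rfl
theorem F44728 : act 3 n11368 = n10629 := d25_1 D11368 (iv D10629) (iv F41069)
theorem F44729 : act 5 n11368 = n10412 := d32_1 D11368 (iv D10412) D10411
def n11369 : Q := act 7 n10412
theorem D11369 : act 7 n10412 = n11369 := rfl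
theorem F44730 : act 4 n11369 = n10413 := d28_1 D11369 (iv D10413) (iv F41072)
theorem F44731 : act 8 n11369 = n10425 := d35_2 D10412 D11369 (iv D10425) (iv D8646) (iv F32862)
def n11370 : Q := act 6 n10414
theorem D11370 : act 6 n10414 = n11370 := rfl
theorem F44732 : act 2 n11370 = n10773 := d18_1 D11370 (iv D10773) (iv F41074)
theorem F44733 : act 3 n11370 = n10426 := d23_1 D11370 (iv D10426) (iv F41075)
theorem F44734 : act 5 n11370 = n10423 := d30_1 D11370 (iv D10423) (iv D8645) (iv F32871) D10414
def n11371 : Q := act 8 n10414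
theorem D11371 : act 8 n10414 = n11371 := rfl
theorem F44735 : act 2 n11371 = n10774 := d20_1 D11371 (iv D10774) (iv F41074)
theorem F44736 : act 3 n11371 = n10427 := d25_1 D11371 (iv D10427) (iv F41075)
theorem F44737 : act 5 n11371 = n10415 := d32_1 D11371 (iv D10415) D10414
def n11372 : Q := act 7 n10415
theorem D11372 : act 7 n10415 = n11372 := rfl
theorem F44738 : act 2 n11372 = n10775 := d19_1 D11372 (iv D10775) (iv F41076)
theorem F44739 : act 4 n11372 = n10416 := d28_1 D11372 (iv D10416) (iv F41078)
theorem F44740 : act 6 n11372 = n10425 := d33_1 D11372 (iv D10425) (iv F41079)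
def n11373 : Q := act 4 n10417
theorem D11373 : act 4 n10417 = n11373 := rfl
theorem F44741 : act 0 n11373 = n10418 := d3_1 D11373 (iv D10418) D10417
theorem F44742 : act 3 n11373 = n10507 := d21_1 D11373 (iv D10507) F33729 (iv F32930) (iv F41082)
theorem F44743 : act 6 n11373 = n10715 := d27_2 (iv F41083) D11373 (iv D10715)
def n11374 : Q := act 8 n10417
theorem D11374 : act 8 n10417 = n11374 := rfl
theorem F44744 : act 0 n11374 = n10419 := d7_1 D11374 (iv D10419) D10417
theorem F44745 : act 3 n11374 = n10435 := d25_1 D11374 (iv D10435) (iv F41082)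
theorem F44746 : act 6 n11374 = n10716 := d34_1 D11374 (iv D10716) (iv F41083)
def n11375 : Q := act 5 n10418
theorem D11375 : act 5 n10418 = n11375 := rfl
theorem F44747 : act 1 n11375 = n10420 := d11_1 D11375 (iv D10420) (iv F41084)
theorem F44748 : act 3 n11375 = n10509 := d22_1 D11375 (iv D10509) (iv F41085)
def n11376 : Q := act 8 n10418
theorem D11376 : act 8 n10418 = n11376 := rfl
theorem F44749 : act 1 n11376 = n10421 := d14_1 D11376 (iv D10421) (iv F41084)
theorem F44750 : act 3 n11376 = n10510 := d25_1 D11376 (iv D10510) (iv F41085)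
theorem F44751 : act 4 n11376 = n10419 := d29_1 D11376 (iv D10419) D10418
theorem F44752 : act 6 n11376 = n10732 := d34_1 D11376 (iv D10732) (iv F41086)
def n11377 : Q := act 7 n10419
theorem D11377 : act 7 n10419 = n11377 := rfl
theorem F44753 : act 1 n11377 = n10422 := d13_1 D11377 (iv D10422) (iv F41087)
theorem F44754 : act 6 n11377 = n10733 := d33_1 D11377 (iv D10733) (iv F41089)
def n11378 : Q := act 6 n10420
theorem D11378 : act 6 n10420 = n11378 := rfl
theorem F44755 : act 2 n11378 = n10423 := d18_1 D11378 (iv D10423) (iv F41090)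
theorem F44756 : act 3 n11378 = n10512 := d23_1 D11378 (iv D10512) (iv F41091)
theorem F44757 : act 5 n11378 = n10773 := d30_1 D11378 (iv D10773) (iv D9928) F38590 D10420
def n11379 : Q := act 8 n10420
theorem D11379 : act 8 n10420 = n11379 := rfl
theorem F44758 : act 2 n11379 = n10424 := d20_1 D11379 (iv D10424) (iv F41090)
theorem F44759 : act 3 n11379 = n10513 := d25_1 D11379 (iv D10513) (iv F41091)
theorem F44760 : act 5 n11379 = n10421 := d32_1 D11379 (iv D10421) D10420
def n11380 : Q := act 7 n10421
theorem D11380 : act 7 n10421 = n11380 := rfl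
theorem F44761 : act 2 n11380 = n10425 := d19_1 D11380 (iv D10425) (iv F41092)
theorem F44762 : act 4 n11380 = n10422 := d28_1 D11380 (iv D10422) (iv F41094)
theorem F44763 : act 6 n11380 = n10775 := d33_1 D11380 (iv D10775) (iv F41095)
def n11381 : Q := act 8 n10423
theorem D11381 : act 8 n10423 = n11381 := rfl
theorem F44764 : act 3 n11381 = n10429 := d25_1 D11381 (iv D10429) (iv F41098)
theorem F44765 : act 6 n11381 = n10424 := d34_1 D11381 (iv D10424) D10423
def n11382 : Q := act 7 n10424
theorem D11382 : act 7 n10424 = n11382 := rfl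
theorem F44766 : act 5 n11382 = n10425 := d31_1 D11382 (iv D10425) (iv F41100)
def n11383 : Q := act 3 n10425
theorem D11383 : act 3 n10425 = n11383 := rfl
theorem F44767 : act 7 n11383 = n10431 := d24_2 D10425 D11383 (iv D10431) (iv D8653) (iv F32880)
def n11384 : Q := act 8 n10426
theorem D11384 : act 8 n10426 = n11384 := rfl
theorem F44768 : act 2 n11384 = n10518 := d20_1 D11384 (iv D10518) (iv F41102)
theorem F44769 : act 4 n11384 = n11384 := d29_1 D11384 (iv D11384) F41103
theorem F44770 : act 5 n11384 = n10429 := d32_1 D11384 (iv D10429) (iv F41104)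
theorem F44771 : act 6 n11384 = n10427 := d34_1 D11384 (iv D10427) D10426
def n11385 : Q := act 7 n10427
theorem D11385 : act 7 n10427 = n11385 := rfl
theorem F44772 : act 1 n11385 = n10629 := d13_1 D11385 (iv F44246) F44242
theorem F44773 : act 2 n11385 = n10519 := d19_1 D11385 (iv D10519) (iv F41106)
theorem F44774 : act 4 n11385 = n11385 := d28_1 D11385 (iv D11385) F41107
theorem F44775 : act 5 n11385 = n10428 := d31_1 D11385 (iv D10428) (iv F41108)
theorem F44776 : act 8 n11385 = n10565 := d35_2 D10427 D11385 F41687 F38942 (iv F32884)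
def n11386 : Q := act 7 n10429
theorem D11386 : act 7 n10429 = n11386 := rfl
theorem F44777 : act 2 n11386 = n10521 := d19_1 D11386 (iv D10521) (iv F41114)
theorem F44778 : act 4 n11386 = n10432 := d28_1 D11386 (iv D10432) (iv F41115)
theorem F44779 : act 6 n11386 = n10430 := d33_1 D11386 (iv D10430) (iv F41116)
theorem F44780 : act 8 n11386 = n10630 := d35_2 D10429 D11386 (iv D10630) (iv D9356) (iv F32894)
def n11387 : Q := act 3 n10430
theorem D11387 : act 3 n10430 = n11387 := rfl
theorem F44781 : act 5 n11387 = n10431 := d22_2 (iv F41119) D11387 (iv D10431)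
theorem F44782 : act 8 n11387 = n10631 := d25_2 (iv F41120) D11387 (iv D10631)
def n11388 : Q := act 2 n10431
theorem D11388 : act 2 n10431 = n11388 := rfl
theorem F44783 : act 3 n11388 = n10523 := d15_2 D10431 D11388 (iv D10523) (iv D8906) (iv F32898)
theorem F44784 : act 8 n11388 = n10632 := d20_2 (iv F41121) D11388 (iv D10632)
def n11389 : Q := act 7 n10436
theorem D11389 : act 7 n10436 = n11389 := rfl
theorem F44785 : act 0 n11389 = n11389 := d6_1 D11389 (iv D11389) F41135
theorem F44786 : act 2 n11389 = n10438 := d19_1 D11389 (iv D10438) (iv F41136)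
theorem F44787 : act 4 n11389 = n10633 := d28_1 D11389 (iv D10633) (iv F41138)
theorem F44788 : act 6 n11389 = n10437 := d33_1 D11389 (iv D10437) D10436
def n11390 : Q := act 3 n10437
theorem D11390 : act 3 n10437 = n11390 := rfl
theorem F44789 : act 0 n11390 = n11390 := d2_1 D11390 (iv D11390) F41140
theorem F44790 : act 5 n11390 = n10782 := d22_2 (iv F41143) D11390 (iv D10782)
theorem F44791 : act 7 n11390 = n11037 := d24_2 D10437 D11390 (iv D11037) (iv D10131) (iv F32967)
def n11391 : Q := act 8 n10437
theorem D11391 : act 8 n10437 = n11391 := rfl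
theorem F44792 : act 0 n11391 = n11391 := d7_1 D11391 (iv D11391) F41140
theorem F44793 : act 2 n11391 = n10440 := d20_1 D11391 (iv D10440) (iv F41141)
theorem F44794 : act 4 n11391 = n10635 := d29_1 D11391 (iv D10635) (iv F41142)
theorem F44795 : act 5 n11391 = n10783 := d32_1 D11391 (iv D10783) (iv F41143)
theorem F44796 : act 7 n11391 = n10450 := d35_1 D11391 (iv D10450) (iv D8760) (iv F32970) D10437
def n11392 : Q := act 8 n10438
theorem D11392 : act 8 n10438 = n11392 := rfl
theorem F44797 : act 0 n11392 = n11392 := d7_1 D11392 (iv D11392) F41144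
theorem F44798 : act 1 n11392 = n10444 := d14_1 D11392 (iv D10444) (iv F41145)
theorem F44799 : act 4 n11392 = n10636 := d29_1 D11392 (iv D10636) (iv F41146)
theorem F44800 : act 6 n11392 = n10440 := d34_1 D11392 (iv D10440) (iv F41147)
theorem F44801 : act 7 n11392 = n10451 := d35_1 D11392 (iv D10451) (iv D8762) (iv F32975) D10438
def n11393 : Q := act 2 n10439
theorem D11393 : act 2 n10439 = n11393 := rfl
theorem F44802 : act 0 n11393 = n11393 := d1_1 D11393 (iv D11393) F41148
theorem F44803 : act 5 n11393 = n10448 := d17_2 (iv F41150) D11393 F41185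
theorem F44804 : act 7 n11393 = n10441 := d19_2 (iv F41151) D11393 (iv D10441)
def n11394 : Q := act 4 n10439
theorem D11394 : act 4 n10439 = n11394 := rfl
theorem F44805 : act 0 n11394 = n11394 := d3_1 D11394 (iv D11394) F41148
theorem F44806 : act 1 n11394 = n10445 := d10_1 D11394 (iv D10445) (iv F41149)
theorem F44807 : act 3 n11394 = n10638 := d21_1 D11394 (iv D10638) (iv D9366) (iv F32978) D10439
theorem F44808 : act 5 n11394 = n10650 := d26_2 (iv F41150) D11394 F41970 F35664 (iv F33305)
theorem F44809 : act 7 n11394 = n10442 := d28_2 (iv F41151) D11394 (iv D10442)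
def n11395 : Q := act 8 n10439
theorem D11395 : act 8 n10439 = n11395 := rfl
theorem F44810 : act 0 n11395 = n11395 := d7_1 D11395 (iv D11395) F41148
theorem F44811 : act 1 n11395 = n10446 := d14_1 D11395 (iv D10446) (iv F41149)
theorem F44812 : act 3 n11395 = n10440 := d25_1 D11395 (iv D10440) D10439
theorem F44813 : act 5 n11395 = n10451 := d32_1 D11395 (iv D10451) (iv F41150)
def n11396 : Q := act 4 n10441
theorem D11396 : act 4 n10441 = n11396 := rfl
theorem F44814 : act 0 n11396 = n11396 := d3_1 D11396 (iv D11396) F41157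
theorem F44815 : act 2 n11396 = n10442 := d16_1 D11396 (iv D10442) D10441
theorem F44816 : act 5 n11396 = n10644 := d26_2 (iv F41159) D11396 (iv D10644) (iv D9425) (iv F33296)
def n11397 : Q := act 8 n10445
theorem D11397 : act 8 n10445 = n11397 := rfl
theorem F44817 : act 0 n11397 = n10447 := d7_1 D11397 (iv D10447) (iv F41173)
theorem F44818 : act 3 n11397 = n10642 := d25_1 D11397 (iv D10642) (iv F41174)
theorem F44819 : act 4 n11397 = n10446 := d29_1 D11397 (iv D10446) D10445
theorem F44820 : act 5 n11397 = n10652 := d32_1 D11397 (iv D10652) (iv F41175)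
def n11398 : Q := act 3 n10448
theorem D11398 : act 3 n10448 = n11398 := rfl
theorem F44821 : act 0 n11398 = n11398 := d2_1 D11398 (iv D11398) F41184
theorem F44822 : act 2 n11398 = n10782 := d15_1 D11398 (iv D10782) F39235 F39017 (iv F41185)
theorem F44823 : act 6 n11398 = n10449 := d23_2 (iv F41187) D11398 (iv D10449)
def n11399 : Q := act 8 n10448
theorem D11399 : act 8 n10448 = n11399 := rfl
theorem F44824 : act 0 n11399 = n11399 := d7_1 D11399 (iv D11399) F41184
theorem F44825 : act 2 n11399 = n10451 := d20_1 D11399 (iv D10451) (iv F41185)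
theorem F44826 : act 4 n11399 = n10647 := d29_1 D11399 (iv D10647) (iv F41186)
theorem F44827 : act 6 n11399 = n10450 := d34_1 D11399 (iv D10450) (iv F41187)
def n11400 : Q := act 2 n10449
theorem D11400 : act 2 n10449 = n11400 := rfl
theorem F44828 : act 0 n11400 = n11400 := d1_1 D11400 (iv D11400) F41188
theorem F44829 : act 3 n11400 = n10452 := d15_2 D10449 D11400 (iv D10452) (iv D8763) (iv F33298)
theorem F44830 : act 6 n11400 = n10782 := d18_2 F44823 D11400 (iv F44822)
theorem F44831 : act 7 n11400 = n11398 := d19_2 F42431 D11400 F44822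
def n11401 : Q := act 4 n10449
theorem D11401 : act 4 n10449 = n11401 := rfl
theorem F44832 : act 0 n11401 = n11401 := d3_1 D11401 (iv D11401) F41188
theorem F44833 : act 3 n11401 = n10648 := d21_1 D11401 (iv D10648) (iv D9427) (iv F33299) D10449
def n11402 : Q := act 8 n10449
theorem D11402 : act 8 n10449 = n11402 := rfl
theorem F44834 : act 0 n11402 = n11402 := d7_1 D11402 (iv D11402) F41188
theorem F44835 : act 3 n11402 = n10450 := d25_1 D11402 (iv D10450) D10449
def n11403 : Q := act 1 n10452
theorem D11403 : act 1 n10452 = n11403 := rfl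
theorem F44836 : act 2 n11403 = n10455 := d8_2 D10452 D11403 (iv D10455) (iv D8774) (iv F33308)
theorem F44837 : act 4 n11403 = n11403 := d10_2 F41198 D11403 (iv D11403)
theorem F44838 : act 6 n11403 = n10741 := d12_2 (iv F41199) D11403 F42320
theorem F44839 : act 7 n11403 = n10454 := d13_2 (iv F41200) D11403 (iv D10454)
def n11404 : Q := act 8 n10452
theorem D11404 : act 8 n10452 = n11404 := rfl
theorem F44840 : act 0 n11404 = n11404 := d7_1 D11404 (iv D11404) F41197
theorem F44841 : act 2 n11404 = n10453 := d20_1 D11404 (iv D10453) D10452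
theorem F44842 : act 4 n11404 = n11404 := d29_1 D11404 (iv D11404) F41198
theorem F44843 : act 6 n11404 = n10783 := d34_1 D11404 (iv D10783) (iv F41199)
def n11405 : Q := act 0 n10454
theorem D11405 : act 0 n10454 = n11405 := rfl
theorem F44844 : act 1 n11405 = n11405 := d0_2 D10454 D11405 (iv D11405) (iv D10454) F33326
theorem F44845 : act 2 n11405 = n10457 := d1_2 (iv F41206) D11405 (iv D10457)
theorem F44846 : act 3 n11405 = n11140 := d2_2 (iv F41207) D11405 F43939
theorem F44847 : act 4 n11405 = n11405 := d3_2 F41208 D11405 (iv D11405)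
theorem F44848 : act 6 n11405 = n10700 := d5_2 (iv F41209) D11405 F42187
def n11406 : Q := act 0 n10455
theorem D11406 : act 0 n10455 = n11406 := rfl
theorem F44849 : act 1 n11406 = n10458 := d0_2 D10455 D11406 (iv D10458) (iv D8797) (iv F33344)
theorem F44850 : act 4 n11406 = n11406 := d3_2 F41210 D11406 (iv D11406)
theorem F44851 : act 6 n11406 = n10701 := d5_2 (iv F41211) D11406 F42191
theorem F44852 : act 7 n11406 = n10457 := d6_2 (iv F41212) D11406 (iv D10457)
def n11407 : Q := act 8 n10455
theorem D11407 : act 8 n10455 = n11407 := rfl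
theorem F44853 : act 1 n11407 = n10456 := d14_1 D11407 (iv D10456) D10455
theorem F44854 : act 4 n11407 = n11407 := d29_1 D11407 (iv D11407) F41210
theorem F44855 : act 6 n11407 = n10743 := d34_1 D11407 (iv D10743) (iv F41211)
def n11408 : Q := act 8 n10458
theorem D11408 : act 8 n10458 = n11408 := rfl
theorem F44856 : act 0 n11408 = n10459 := d7_1 D11408 (iv D10459) D10458
theorem F44857 : act 2 n11408 = n11408 := d20_1 D11408 (iv D11408) F41221
theorem F44858 : act 4 n11408 = n11408 := d29_1 D11408 (iv D11408) F41222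
theorem F44859 : act 6 n11408 = n10713 := d34_1 D11408 (iv D10713) (iv F41223)
def n11409 : Q := act 0 n10460
theorem D11409 : act 0 n10460 = n11409 := rfl
theorem F44860 : act 1 n11409 = n11409 := d0_2 D10460 D11409 (iv D11409) (iv D10460) F33521
theorem F44861 : act 2 n11409 = n10488 := d1_2 (iv F41229) D11409 (iv D10488)
theorem F44862 : act 3 n11409 = n11152 := d2_2 (iv F41230) D11409 F43982
theorem F44863 : act 5 n11409 = n11409 := d4_2 F41231 D11409 (iv D11409)
theorem F44864 : act 6 n11409 = n10704 := d5_2 (iv F41232) D11409 F42200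
theorem F44865 : act 7 n11409 = n11409 := d6_2 F41233 D11409 (iv D11409)
def n11410 : Q := act 4 n10460
theorem D11410 : act 4 n10460 = n11410 := rfl
theorem F44866 : act 1 n11410 = n10461 := d10_1 D11410 (iv D10461) D10460
theorem F44867 : act 2 n11410 = n10489 := d16_1 D11410 (iv D10489) (iv F41229)
theorem F44868 : act 6 n11410 = n10747 := d27_2 (iv F41232) D11410 (iv D10747)
theorem F44869 : act 7 n11410 = n11410 := d28_2 F41233 D11410 (iv D11410)
def n11411 : Q := act 8 n10460
theorem D11411 : act 8 n10460 = n11411 := rfl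
theorem F44870 : act 1 n11411 = n10462 := d14_1 D11411 (iv D10462) D10460
theorem F44871 : act 2 n11411 = n10490 := d20_1 D11411 (iv D10490) (iv F41229)
theorem F44872 : act 3 n11411 = n11306 := d25_1 D11411 (iv D11306) (iv F41230)
theorem F44873 : act 5 n11411 = n11411 := d32_1 D11411 (iv D11411) F41231
theorem F44874 : act 6 n11411 = n10748 := d34_1 D11411 (iv D10748) (iv F41232)
def n11412 : Q := act 3 n10461
theorem D11412 : act 3 n10461 = n11412 := rfl
theorem F44875 : act 0 n11412 = n11412 := d2_1 D11412 (iv D11412) F41234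
theorem F44876 : act 2 n11412 = n10471 := d15_1 D11412 (iv D10471) F33546 (iv F33526) (iv F41235)
theorem F44877 : act 6 n11412 = n10784 := d23_2 (iv F41236) D11412 (iv D10784)
def n11413 : Q := act 5 n10461
theorem D11413 : act 5 n10461 = n11413 := rfl
theorem F44878 : act 0 n11413 = n11413 := d4_1 D11413 (iv D11413) F41234
theorem F44879 : act 2 n11413 = n10463 := d17_1 D11413 (iv D10463) (iv F41235)
theorem F44880 : act 4 n11413 = n11413 := d26_1 D11413 (iv D11413) (iv D10461) F33522 D10461
theorem F44881 : act 7 n11413 = n11413 := d31_2 F41237 D11413 (iv D11413)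
def n11414 : Q := act 8 n10461
theorem D11414 : act 8 n10461 = n11414 := rfl
theorem F44882 : act 0 n11414 = n11414 := d7_1 D11414 (iv D11414) F41234
theorem F44883 : act 2 n11414 = n10464 := d20_1 D11414 (iv D10464) (iv F41235)
theorem F44884 : act 4 n11414 = n10462 := d29_1 D11414 (iv D10462) D10461
theorem F44885 : act 6 n11414 = n10786 := d34_1 D11414 (iv D10786) (iv F41236)
def n11415 : Q := act 7 n10462
theorem D11415 : act 7 n10462 = n11415 := rfl
theorem F44886 : act 0 n11415 = n11415 := d6_1 D11415 (iv D11415) F41238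
theorem F44887 : act 2 n11415 = n10465 := d19_1 D11415 (iv D10465) (iv F41239)
theorem F44888 : act 5 n11415 = n11415 := d31_1 D11415 (iv D11415) F41240
theorem F44889 : act 6 n11415 = n10787 := d33_1 D11415 (iv D10787) (iv F41241)
theorem F44890 : act 8 n11415 = n11415 := d35_2 D10462 D11415 (iv D11415) (iv D10462) F33523
def n11416 : Q := act 6 n10463
theorem D11416 : act 6 n10463 = n11416 := rfl
theorem F44891 : act 0 n11416 = n11416 := d5_1 D11416 (iv D11416) F41242
theorem F44892 : act 1 n11416 = n10494 := d12_1 D11416 (iv D10494) (iv F41243)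
theorem F44893 : act 3 n11416 = n10475 := d23_1 D11416 (iv D10475) (iv F41244)
theorem F44894 : act 4 n11416 = n11416 := d27_1 D11416 (iv D11416) F41245
theorem F44895 : act 5 n11416 = n10788 := d30_1 D11416 (iv D10788) (iv D9941) (iv F38593) D10463
theorem F44896 : act 7 n11416 = n11416 := d33_2 F41246 D11416 (iv D11416)
def n11417 : Q := act 8 n10463
theorem D11417 : act 8 n10463 = n11417 := rfl
theorem F44897 : act 0 n11417 = n11417 := d7_1 D11417 (iv D11417) F41242
theorem F44898 : act 1 n11417 = n10495 := d14_1 D11417 (iv D10495) (iv F41243)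
theorem F44899 : act 3 n11417 = n10476 := d25_1 D11417 (iv D10476) (iv F41244)
theorem F44900 : act 4 n11417 = n11417 := d29_1 D11417 (iv D11417) F41245
theorem F44901 : act 5 n11417 = n10464 := d32_1 D11417 (iv D10464) D10463
def n11418 : Q := act 7 n10464
theorem D11418 : act 7 n10464 = n11418 := rfl
theorem F44902 : act 0 n11418 = n11418 := d6_1 D11418 (iv D11418) F41247
theorem F44903 : act 1 n11418 = n10496 := d13_1 D11418 (iv D10496) (iv F41248)
theorem F44904 : act 4 n11418 = n10465 := d28_1 D11418 (iv D10465) (iv F41250)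
theorem F44905 : act 6 n11418 = n10790 := d33_1 D11418 (iv D10790) (iv F41251)
theorem F44906 : act 8 n11418 = n11418 := d35_2 D10464 D11418 (iv D11418) (iv D10464) F33527
def n11419 : Q := act 3 n10466
theorem D11419 : act 3 n10466 = n11419 := rfl
theorem F44907 : act 0 n11419 = n11419 := d2_1 D11419 (iv D11419) F41258
theorem F44908 : act 2 n11419 = n10784 := d15_1 D11419 (iv D10784) F39241 F38595 (iv F41259)
theorem F44909 : act 4 n11419 = n11412 := d21_2 D10466 D11419 (iv D11412) (iv D10461) (iv F38597)
theorem F44910 : act 6 n11419 = n10471 := d23_2 (iv F41260) D11419 (iv D10471)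
def n11420 : Q := act 5 n10466
theorem D11420 : act 5 n10466 = n11420 := rfl
theorem F44911 : act 0 n11420 = n11420 := d4_1 D11420 (iv D11420) F41258
theorem F44912 : act 2 n11420 = n10468 := d17_1 D11420 (iv D10468) (iv F41259)
theorem F44913 : act 4 n11420 = n11420 := d26_1 D11420 (iv D11420) (iv D10466) F33533 D10466
theorem F44914 : act 7 n11420 = n10654 := d31_2 (iv F41261) D11420 (iv D10654)
def n11421 : Q := act 8 n10466
theorem D11421 : act 8 n10466 = n11421 := rfl
theorem F44915 : act 0 n11421 = n11421 := d7_1 D11421 (iv D11421) F41258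
theorem F44916 : act 2 n11421 = n10469 := d20_1 D11421 (iv D10469) (iv F41259)
theorem F44917 : act 4 n11421 = n10467 := d29_1 D11421 (iv D10467) D10466
theorem F44918 : act 6 n11421 = n10473 := d34_1 D11421 (iv D10473) (iv F41260)
def n11422 : Q := act 7 n10467
theorem D11422 : act 7 n10467 = n11422 := rfl
theorem F44919 : act 0 n11422 = n11422 := d6_1 D11422 (iv D11422) F41262
theorem F44920 : act 2 n11422 = n10470 := d19_1 D11422 (iv D10470) (iv F41263)
theorem F44921 : act 5 n11422 = n11422 := d31_1 D11422 (iv D11422) F41265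
theorem F44922 : act 6 n11422 = n10474 := d33_1 D11422 (iv D10474) (iv F41266)
theorem F44923 : act 8 n11422 = n10656 := d35_2 D10467 D11422 (iv D10656) (iv D9437) (iv F33535)
def n11423 : Q := act 6 n10468
theorem D11423 : act 6 n10468 = n11423 := rfl
theorem F44924 : act 0 n11423 = n11423 := d5_1 D11423 (iv D11423) F41267
theorem F44925 : act 1 n11423 = n10497 := d12_1 D11423 (iv D10497) (iv F41268)
theorem F44926 : act 3 n11423 = n10788 := d23_1 D11423 (iv D10788) (iv F41269)
theorem F44927 : act 4 n11423 = n11423 := d27_1 D11423 (iv D11423) F41270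
theorem F44928 : act 5 n11423 = n10475 := d30_1 D11423 (iv D10475) (iv D8844) (iv F33538) D10468
theorem F44929 : act 7 n11423 = n10657 := d33_2 (iv F41271) D11423 (iv D10657)
def n11424 : Q := act 8 n10468
theorem D11424 : act 8 n10468 = n11424 := rfl
theorem F44930 : act 0 n11424 = n11424 := d7_1 D11424 (iv D11424) F41267
theorem F44931 : act 1 n11424 = n10498 := d14_1 D11424 (iv D10498) (iv F41268)
theorem F44932 : act 3 n11424 = n10789 := d25_1 D11424 (iv D10789) (iv F41269)
theorem F44933 : act 4 n11424 = n11424 := d29_1 D11424 (iv D11424) F41270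
theorem F44934 : act 5 n11424 = n10469 := d32_1 D11424 (iv D10469) D10468
def n11425 : Q := act 7 n10469
theorem D11425 : act 7 n10469 = n11425 := rfl
theorem F44935 : act 0 n11425 = n11425 := d6_1 D11425 (iv D11425) F41272
theorem F44936 : act 1 n11425 = n10499 := d13_1 D11425 (iv D10499) (iv F41273)
theorem F44937 : act 4 n11425 = n10470 := d28_1 D11425 (iv D10470) (iv F41275)
theorem F44938 : act 6 n11425 = n10477 := d33_1 D11425 (iv D10477) (iv F41276)
theorem F44939 : act 8 n11425 = n10659 := d35_2 D10469 D11425 (iv D10659) (iv D9439) (iv F33539)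
def n11426 : Q := act 5 n10471
theorem D11426 : act 5 n10471 = n11426 := rfl
theorem F44940 : act 0 n11426 = n11426 := d4_1 D11426 (iv D11426) F41283
theorem F44941 : act 3 n11426 = n10472 := d22_1 D11426 (iv D10472) D10471
def n11427 : Q := act 7 n10471
theorem D11427 : act 7 n10471 = n11427 := rfl
theorem F44942 : act 0 n11427 = n11427 := d6_1 D11427 (iv D11427) F41283
theorem F44943 : act 3 n11427 = n10661 := d24_1 D11427 (iv D10661) (iv D9441) (iv F33547) D10471
def n11428 : Q := act 8 n10471
theorem D11428 : act 8 n10471 = n11428 := rfl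
theorem F44944 : act 0 n11428 = n11428 := d7_1 D11428 (iv D11428) F41283
theorem F44945 : act 3 n11428 = n10473 := d25_1 D11428 (iv D10473) D10471
def n11429 : Q := act 6 n10472
theorem D11429 : act 6 n10472 = n11429 := rfl
theorem F44946 : act 0 n11429 = n11429 := d5_1 D11429 (iv D11429) F41284
theorem F44947 : act 2 n11429 = n10475 := d18_1 D11429 (iv D10475) (iv F41285)
theorem F44948 : act 4 n11429 = n10481 := d27_1 D11429 (iv D10481) (iv F41286)
theorem F44949 : act 7 n11429 = n10663 := d33_2 (iv F41287) D11429 (iv D10663)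
def n11430 : Q := act 8 n10472
theorem D11430 : act 8 n10472 = n11430 := rfl
theorem F44950 : act 0 n11430 = n11430 := d7_1 D11430 (iv D11430) F41284
theorem F44951 : act 2 n11430 = n10476 := d20_1 D11430 (iv D10476) (iv F41285)
theorem F44952 : act 4 n11430 = n10482 := d29_1 D11430 (iv D10482) (iv F41286)
theorem F44953 : act 5 n11430 = n10473 := d32_1 D11430 (iv D10473) D10472
def n11431 : Q := act 7 n10473
theorem D11431 : act 7 n10473 = n11431 := rfl
theorem F44954 : act 0 n11431 = n11431 := d6_1 D11431 (iv D11431) F41288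
theorem F44955 : act 2 n11431 = n10477 := d19_1 D11431 (iv D10477) (iv F41289)
theorem F44956 : act 4 n11431 = n10474 := d28_1 D11431 (iv D10474) (iv F41290)
theorem F44957 : act 8 n11431 = n10665 := d35_2 D10473 D11431 (iv D10665) (iv D9443) (iv F33547)
def n11432 : Q := act 3 n10474
theorem D11432 : act 3 n10474 = n11432 := rfl
theorem F44958 : act 0 n11432 = n11432 := d2_1 D11432 (iv D11432) F41291
theorem F44959 : act 2 n11432 = n11432 := d15_1 D11432 (iv D11432) F41292 F33560 (iv F41292)
theorem F44960 : act 5 n11432 = n10484 := d22_2 (iv F41293) D11432 (iv D10484)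
theorem F44961 : act 8 n11432 = n10666 := d25_2 (iv F41294) D11432 (iv D10666)
def n11433 : Q := act 8 n10475
theorem D11433 : act 8 n10475 = n11433 := rfl
theorem F44962 : act 0 n11433 = n11433 := d7_1 D11433 (iv D11433) F41295
theorem F44963 : act 1 n11433 = n10500 := d14_1 D11433 (iv D10500) (iv F41296)
theorem F44964 : act 4 n11433 = n10485 := d29_1 D11433 (iv D10485) (iv F41297)
theorem F44965 : act 6 n11433 = n10476 := d34_1 D11433 (iv D10476) D10475
def n11434 : Q := act 7 n10476
theorem D11434 : act 7 n10476 = n11434 := rfl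
theorem F44966 : act 0 n11434 = n11434 := d6_1 D11434 (iv D11434) F41299
theorem F44967 : act 1 n11434 = n10501 := d13_1 D11434 (iv D10501) (iv F41300)
theorem F44968 : act 4 n11434 = n10486 := d28_1 D11434 (iv D10486) (iv F41301)
theorem F44969 : act 5 n11434 = n10477 := d31_1 D11434 (iv D10477) (iv F41302)
theorem F44970 : act 8 n11434 = n10668 := d35_2 D10476 D11434 (iv D10668) (iv D9446) (iv F33554)
def n11435 : Q := act 3 n10477
theorem D11435 : act 3 n10477 = n11435 := rfl
theorem F44971 : act 0 n11435 = n11435 := d2_1 D11435 (iv D11435) F41303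
theorem F44972 : act 1 n11435 = n10502 := d9_1 D11435 (iv D10502) (iv F41304)
theorem F44973 : act 4 n11435 = n11435 := d21_2 (iv F41305) D11435 (iv D11435) F41305 F33560
theorem F44974 : act 8 n11435 = n10669 := d25_2 (iv F41306) D11435 (iv D10669)
def n11436 : Q := act 4 n10478
theorem D11436 : act 4 n10478 = n11436 := rfl
theorem F44975 : act 0 n11436 = n11436 := d3_1 D11436 (iv D11436) F41307
theorem F44976 : act 2 n11436 = n11436 := d16_1 D11436 (iv D11436) F41308
def n11437 : Q := act 6 n10478
theorem D11437 : act 6 n10478 = n11437 := rfl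
theorem F44977 : act 0 n11437 = n11437 := d5_1 D11437 (iv D11437) F41307
theorem F44978 : act 2 n11437 = n11437 := d18_1 D11437 (iv D11437) F41308
theorem F44979 : act 3 n11437 = n10481 := d23_1 D11437 (iv D10481) (iv F41309)
theorem F44980 : act 5 n11437 = n11437 := d30_1 D11437 (iv D11437) (iv D10478) F33565 D10478
def n11438 : Q := act 7 n10478
theorem D11438 : act 7 n10478 = n11438 := rfl
theorem F44981 : act 0 n11438 = n11438 := d6_1 D11438 (iv D11438) F41307
theorem F44982 : act 2 n11438 = n11438 := d19_1 D11438 (iv D11438) F41308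
theorem F44983 : act 3 n11438 = n10672 := d24_1 D11438 (iv D10672) F35732 (iv F33568) (iv F41309)
theorem F44984 : act 5 n11438 = n10479 := d31_1 D11438 (iv D10479) D10478
def n11439 : Q := act 8 n10478
theorem D11439 : act 8 n10478 = n11439 := rfl
theorem F44985 : act 0 n11439 = n11439 := d7_1 D11439 (iv D11439) F41307
theorem F44986 : act 2 n11439 = n11439 := d20_1 D11439 (iv D11439) F41308
theorem F44987 : act 3 n11439 = n10482 := d25_1 D11439 (iv D10482) (iv F41309)
theorem F44988 : act 5 n11439 = n10480 := d32_1 D11439 (iv D10480) D10478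
def n11440 : Q := act 8 n10479
theorem D11440 : act 8 n10479 = n11440 := rfl
theorem F44989 : act 0 n11440 = n11440 := d7_1 D11440 (iv D11440) F41310
theorem F44990 : act 2 n11440 = n11440 := d20_1 D11440 (iv D11440) F41311
theorem F44991 : act 3 n11440 = n10674 := d25_1 D11440 (iv D10674) (iv F41312)
theorem F44992 : act 6 n11440 = n11440 := d34_1 D11440 (iv D11440) F41313
def n11441 : Q := act 7 n10480
theorem D11441 : act 7 n10480 = n11441 := rfl
theorem F44993 : act 0 n11441 = n11441 := d6_1 D11441 (iv D11441) F41314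
theorem F44994 : act 2 n11441 = n11441 := d19_1 D11441 (iv D11441) F41315
theorem F44995 : act 6 n11441 = n11441 := d33_1 D11441 (iv D11441) F41317
def n11442 : Q := act 8 n10481
theorem D11442 : act 8 n10481 = n11442 := rfl
theorem F44996 : act 0 n11442 = n11442 := d7_1 D11442 (iv D11442) F41318
theorem F44997 : act 2 n11442 = n10485 := d20_1 D11442 (iv D10485) (iv F41319)
theorem F44998 : act 5 n11442 = n11442 := d32_1 D11442 (iv D11442) F41320
theorem F44999 : act 6 n11442 = n10482 := d34_1 D11442 (iv D10482) D10481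
def n11443 : Q := act 7 n10482
theorem D11443 : act 7 n10482 = n11443 := rfl
theorem F45000 : act 0 n11443 = n11443 := d6_1 D11443 (iv D11443) F41322
theorem F45001 : act 2 n11443 = n10486 := d19_1 D11443 (iv D10486) (iv F41323)
theorem F45002 : act 5 n11443 = n10483 := d31_1 D11443 (iv D10483) (iv F41324)
theorem F45003 : act 8 n11443 = n10677 := d35_2 D10482 D11443 (iv D10677) (iv D9452) (iv F33568)
def n11444 : Q := act 3 n10483
theorem D11444 : act 3 n10483 = n11444 := rfl
theorem F45004 : act 0 n11444 = n11444 := d2_1 D11444 (iv D11444) F41325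
theorem F45005 : act 6 n11444 = n11444 := d23_2 F41328 D11444 (iv D11444)
theorem F45006 : act 8 n11444 = n10678 := d25_2 (iv F41329) D11444 (iv D10678)
def n11445 : Q := act 4 n10484
theorem D11445 : act 4 n10484 = n11445 := rfl
theorem F45007 : act 0 n11445 = n11445 := d3_1 D11445 (iv D11445) F41330
theorem F45008 : act 2 n11445 = n11445 := d16_1 D11445 (iv D11445) F41331
theorem F45009 : act 6 n11445 = n11445 := d27_2 F41332 D11445 (iv D11445)
theorem F45010 : act 8 n11445 = n10679 := d29_2 (iv F41333) D11445 (iv D10679)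
def n11446 : Q := act 7 n10485
theorem D11446 : act 7 n10485 = n11446 := rfl
theorem F45011 : act 0 n11446 = n11446 := d6_1 D11446 (iv D11446) F41334
theorem F45012 : act 1 n11446 = n10503 := d13_1 D11446 (iv D10503) (iv F41335)
theorem F45013 : act 5 n11446 = n11446 := d31_1 D11446 (iv D11446) F41337
theorem F45014 : act 6 n11446 = n10486 := d33_1 D11446 (iv D10486) (iv F41338)
theorem F45015 : act 8 n11446 = n10680 := d35_2 D10485 D11446 (iv D10680) (iv D9455) (iv F33581)
def n11447 : Q := act 3 n10486
theorem D11447 : act 3 n10486 = n11447 := rfl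
theorem F45016 : act 0 n11447 = n11447 := d2_1 D11447 (iv D11447) F41339
theorem F45017 : act 1 n11447 = n10504 := d9_1 D11447 (iv D10504) (iv F41340)
theorem F45018 : act 5 n11447 = n10487 := d22_2 (iv F41341) D11447 (iv D10487)
theorem F45019 : act 7 n11447 = n11447 := d24_2 D10486 D11447 (iv D11447) (iv D10486) F33584
theorem F45020 : act 8 n11447 = n10681 := d25_2 (iv F41342) D11447 (iv D10681)
def n11448 : Q := act 2 n10487
theorem D11448 : act 2 n10487 = n11448 := rfl
theorem F45021 : act 0 n11448 = n11448 := d1_1 D11448 (iv D11448) F41343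
theorem F45022 : act 4 n11448 = n11448 := d16_2 F41345 D11448 (iv D11448)
theorem F45023 : act 6 n11448 = n11448 := d18_2 F41346 D11448 (iv D11448)
theorem F45024 : act 7 n11448 = n11448 := d19_2 F41347 D11448 (iv D11448)
theorem F45025 : act 8 n11448 = n10682 := d20_2 (iv F41348) D11448 (iv D10682)
def n11449 : Q := act 4 n10488
theorem D11449 : act 4 n10488 = n11449 := rfl
theorem F45026 : act 0 n11449 = n10489 := d3_1 D11449 (iv D10489) D10488
theorem F45027 : act 1 n11449 = n10507 := d10_1 D11449 (iv D10507) (iv F41349)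
theorem F45028 : act 6 n11449 = n10705 := d27_2 (iv F41352) D11449 (iv D10705)
theorem F45029 : act 7 n11449 = n11449 := d28_2 F41353 D11449 (iv D11449)
def n11450 : Q := act 8 n10488
theorem D11450 : act 8 n10488 = n11450 := rfl
theorem F45030 : act 0 n11450 = n10490 := d7_1 D11450 (iv D10490) D10488
theorem F45031 : act 1 n11450 = n10508 := d14_1 D11450 (iv D10508) (iv F41349)
theorem F45032 : act 3 n11450 = n10506 := d25_1 D11450 (iv D10506) (iv F41350)
theorem F45033 : act 5 n11450 = n11450 := d32_1 D11450 (iv D11450) F41351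
theorem F45034 : act 6 n11450 = n10706 := d34_1 D11450 (iv D10706) (iv F41352)
def n11451 : Q := act 5 n10489
theorem D11451 : act 5 n10489 = n11451 := rfl
theorem F45035 : act 1 n11451 = n10491 := d11_1 D11451 (iv D10491) (iv F41354)
theorem F45036 : act 4 n11451 = n11451 := d26_1 D11451 (iv D11451) (iv D10489) F33613 D10489
theorem F45037 : act 7 n11451 = n11451 := d31_2 F41356 D11451 (iv D11451)
def n11452 : Q := act 8 n10489
theorem D11452 : act 8 n10489 = n11452 := rfl
theorem F45038 : act 1 n11452 = n10492 := d14_1 D11452 (iv D10492) (iv F41354)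
theorem F45039 : act 4 n11452 = n10490 := d29_1 D11452 (iv D10490) D10489
theorem F45040 : act 6 n11452 = n10750 := d34_1 D11452 (iv D10750) (iv F41355)
def n11453 : Q := act 7 n10490
theorem D11453 : act 7 n10490 = n11453 := rfl
theorem F45041 : act 1 n11453 = n10493 := d13_1 D11453 (iv D10493) (iv F41357)
theorem F45042 : act 5 n11453 = n11453 := d31_1 D11453 (iv D11453) F41359
theorem F45043 : act 6 n11453 = n10751 := d33_1 D11453 (iv D10751) (iv F41360)
theorem F45044 : act 8 n11453 = n11453 := d35_2 D10490 D11453 (iv D11453) (iv D10490) F33614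
def n11454 : Q := act 6 n10491
theorem D11454 : act 6 n10491 = n11454 := rfl
theorem F45045 : act 0 n11454 = n10512 := d5_1 D11454 (iv D10512) (iv F41361)
theorem F45046 : act 2 n11454 = n10494 := d18_1 D11454 (iv D10494) (iv F41362)
theorem F45047 : act 4 n11454 = n11454 := d27_1 D11454 (iv D11454) F41363
theorem F45048 : act 5 n11454 = n10764 := d30_1 D11454 (iv D10764) (iv D9920) (iv F38594) D10491
theorem F45049 : act 7 n11454 = n11454 := d33_2 F41364 D11454 (iv D11454)
def n11455 : Q := act 8 n10491
theorem D11455 : act 8 n10491 = n11455 := rfl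
theorem F45050 : act 0 n11455 = n10513 := d7_1 D11455 (iv D10513) (iv F41361)
theorem F45051 : act 2 n11455 = n10495 := d20_1 D11455 (iv D10495) (iv F41362)
theorem F45052 : act 4 n11455 = n11455 := d29_1 D11455 (iv D11455) F41363
theorem F45053 : act 5 n11455 = n10492 := d32_1 D11455 (iv D10492) D10491
def n11456 : Q := act 7 n10492
theorem D11456 : act 7 n10492 = n11456 := rfl
theorem F45054 : act 0 n11456 = n10514 := d6_1 D11456 (iv D10514) (iv F41365)
theorem F45055 : act 2 n11456 = n10496 := d19_1 D11456 (iv D10496) (iv F41366)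
theorem F45056 : act 4 n11456 = n10493 := d28_1 D11456 (iv D10493) (iv F41367)
theorem F45057 : act 6 n11456 = n10766 := d33_1 D11456 (iv D10766) (iv F41368)
theorem F45058 : act 8 n11456 = n11456 := d35_2 D10492 D11456 (iv D11456) (iv D10492) F33617
def n11457 : Q := act 8 n10494
theorem D11457 : act 8 n10494 = n11457 := rfl
theorem F45059 : act 0 n11457 = n10515 := d7_1 D11457 (iv D10515) (iv F41374)
theorem F45060 : act 3 n11457 = n10500 := d25_1 D11457 (iv D10500) (iv F41375)
theorem F45061 : act 4 n11457 = n11457 := d29_1 D11457 (iv D11457) F41376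
theorem F45062 : act 5 n11457 = n10801 := d32_1 D11457 (iv D10801) (iv F41377)
theorem F45063 : act 6 n11457 = n10495 := d34_1 D11457 (iv D10495) D10494
def n11458 : Q := act 7 n10495
theorem D11458 : act 7 n10495 = n11458 := rfl
theorem F45064 : act 0 n11458 = n10516 := d6_1 D11458 (iv D10516) (iv F41379)
theorem F45065 : act 4 n11458 = n11458 := d28_1 D11458 (iv D11458) F41381
theorem F45066 : act 5 n11458 = n10496 := d31_1 D11458 (iv D10496) (iv F41382)
theorem F45067 : act 8 n11458 = n11458 := d35_2 D10495 D11458 (iv D11458) (iv D10495) F33625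
def n11459 : Q := act 3 n10496
theorem D11459 : act 3 n10496 = n11459 := rfl
theorem F45068 : act 0 n11459 = n10517 := d2_1 D11459 (iv D10517) (iv F41383)
theorem F45069 : act 4 n11459 = n11459 := d21_2 (iv F41384) D11459 (iv D11459) F41384 F33630
theorem F45070 : act 6 n11459 = n10803 := d23_2 (iv F41385) D11459 (iv D10803)
theorem F45071 : act 7 n11459 = n10502 := d24_2 D10496 D11459 (iv D10502) (iv D8870) (iv F33627)
theorem F45072 : act 8 n11459 = n11459 := d25_2 F41386 D11459 (iv D11459)
def n11460 : Q := act 8 n10497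
theorem D11460 : act 8 n10497 = n11460 := rfl
theorem F45073 : act 0 n11460 = n10518 := d7_1 D11460 (iv D10518) (iv F41387)
theorem F45074 : act 3 n11460 = n10801 := d25_1 D11460 (iv D10801) (iv F41388)
theorem F45075 : act 4 n11460 = n11460 := d29_1 D11460 (iv D11460) F41389
theorem F45076 : act 5 n11460 = n10500 := d32_1 D11460 (iv D10500) (iv F41390)
theorem F45077 : act 6 n11460 = n10498 := d34_1 D11460 (iv D10498) D10497
def n11461 : Q := act 7 n10498
theorem D11461 : act 7 n10498 = n11461 := rfl
theorem F45078 : act 0 n11461 = n10519 := d6_1 D11461 (iv D10519) (iv F41392)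
theorem F45079 : act 4 n11461 = n11461 := d28_1 D11461 (iv D11461) F41394
theorem F45080 : act 5 n11461 = n10499 := d31_1 D11461 (iv D10499) (iv F41395)
theorem F45081 : act 8 n11461 = n10684 := d35_2 D10498 D11461 (iv D10684) (iv D9459) (iv F33635)
def n11462 : Q := act 3 n10499
theorem D11462 : act 3 n10499 = n11462 := rfl
theorem F45082 : act 0 n11462 = n10520 := d2_1 D11462 (iv D10520) (iv F41396)
theorem F45083 : act 4 n11462 = n11462 := d21_2 (iv F41397) D11462 (iv D11462) F41397 F33640
theorem F45084 : act 6 n11462 = n10502 := d23_2 (iv F41398) D11462 (iv D10502)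
theorem F45085 : act 7 n11462 = n10803 := d24_2 D10499 D11462 (iv D10803) (iv D9953) F38584
theorem F45086 : act 8 n11462 = n10685 := d25_2 (iv F41399) D11462 (iv D10685)
def n11463 : Q := act 7 n10500
theorem D11463 : act 7 n10500 = n11463 := rfl
theorem F45087 : act 0 n11463 = n10521 := d6_1 D11463 (iv D10521) (iv F41400)
theorem F45088 : act 4 n11463 = n10503 := d28_1 D11463 (iv D10503) (iv F41401)
theorem F45089 : act 6 n11463 = n10501 := d33_1 D11463 (iv D10501) (iv F41402)
theorem F45090 : act 8 n11463 = n10686 := d35_2 D10500 D11463 (iv D10686) (iv D9461) (iv F33646)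
def n11464 : Q := act 3 n10501
theorem D11464 : act 3 n10501 = n11464 := rfl
theorem F45091 : act 0 n11464 = n10522 := d2_1 D11464 (iv D10522) (iv F41403)
theorem F45092 : act 5 n11464 = n10502 := d22_2 (iv F41405) D11464 (iv D10502)
theorem F45093 : act 8 n11464 = n10687 := d25_2 (iv F41406) D11464 (iv D10687)
def n11465 : Q := act 2 n10502
theorem D11465 : act 2 n10502 = n11465 := rfl
theorem F45094 : act 0 n11465 = n10523 := d1_1 D11465 (iv D10523) (iv F41407)
theorem F45095 : act 4 n11465 = n11465 := d16_2 F41408 D11465 (iv D11465)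
theorem F45096 : act 8 n11465 = n10688 := d20_2 (iv F41409) D11465 (iv D10688)
def n11466 : Q := act 1 n10505
theorem D11466 : act 1 n10505 = n11466 := rfl
theorem F45097 : act 0 n11466 = n11084 := d0_1 D11466 F43695 F40259 F39462 (iv F41418)
theorem F45098 : act 4 n11466 = n11466 := d10_2 F41419 D11466 (iv D11466)
theorem F45099 : act 5 n11466 = n11080 := d11_2 F42632 D11466 F43675
theorem F45100 : act 6 n11466 = n11466 := d12_2 F41420 D11466 (iv D11466)
theorem F45101 : act 7 n11466 = n11466 := d13_2 F41421 D11466 (iv D11466)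
theorem F45102 : act 8 n11466 = n10689 := d14_2 (iv F41422) D11466 (iv D10689)
def n11467 : Q := act 5 n10507
theorem D11467 : act 5 n10507 = n11467 := rfl
theorem F45103 : act 0 n11467 = n10509 := d4_1 D11467 (iv D10509) (iv F41428)
theorem F45104 : act 2 n11467 = n11467 := d17_1 D11467 (iv D11467) F41429
theorem F45105 : act 4 n11467 = n11467 := d26_1 D11467 (iv D11467) (iv D10507) F33730 D10507
theorem F45106 : act 7 n11467 = n11467 := d31_2 F41431 D11467 (iv D11467)
def n11468 : Q := act 8 n10507
theorem D11468 : act 8 n10507 = n11468 := rfl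
theorem F45107 : act 0 n11468 = n10510 := d7_1 D11468 (iv D10510) (iv F41428)
theorem F45108 : act 2 n11468 = n11468 := d20_1 D11468 (iv D11468) F41429
theorem F45109 : act 4 n11468 = n10508 := d29_1 D11468 (iv D10508) D10507
theorem F45110 : act 6 n11468 = n10718 := d34_1 D11468 (iv D10718) (iv F41430)
def n11469 : Q := act 7 n10508
theorem D11469 : act 7 n10508 = n11469 := rfl
theorem F45111 : act 0 n11469 = n10511 := d6_1 D11469 (iv D10511) (iv F41432)
theorem F45112 : act 2 n11469 = n11469 := d19_1 D11469 (iv D11469) F41433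
theorem F45113 : act 5 n11469 = n11469 := d31_1 D11469 (iv D11469) F41435
theorem F45114 : act 6 n11469 = n10719 := d33_1 D11469 (iv D10719) (iv F41436)
theorem F45115 : act 8 n11469 = n11469 := d35_2 D10508 D11469 (iv D11469) (iv D10508) F33731
def n11470 : Q := act 6 n10509
theorem D11470 : act 6 n10509 = n11470 := rfl
theorem F45116 : act 1 n11470 = n10512 := d12_1 D11470 (iv D10512) (iv F41437)
theorem F45117 : act 2 n11470 = n11470 := d18_1 D11470 (iv D11470) F41438
theorem F45118 : act 4 n11470 = n11470 := d27_1 D11470 (iv D11470) F41439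
theorem F45119 : act 5 n11470 = n10734 := d30_1 D11470 (iv D10734) (iv D9896) (iv F38601) D10509
theorem F45120 : act 7 n11470 = n11470 := d33_2 F41440 D11470 (iv D11470)
def n11471 : Q := act 8 n10509
theorem D11471 : act 8 n10509 = n11471 := rfl
theorem F45121 : act 1 n11471 = n10513 := d14_1 D11471 (iv D10513) (iv F41437)
theorem F45122 : act 2 n11471 = n11471 := d20_1 D11471 (iv D11471) F41438
theorem F45123 : act 4 n11471 = n11471 := d29_1 D11471 (iv D11471) F41439
theorem F45124 : act 5 n11471 = n10510 := d32_1 D11471 (iv D10510) D10509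
def n11472 : Q := act 7 n10510
theorem D11472 : act 7 n10510 = n11472 := rfl
theorem F45125 : act 1 n11472 = n10514 := d13_1 D11472 (iv D10514) (iv F41441)
theorem F45126 : act 2 n11472 = n11472 := d19_1 D11472 (iv D11472) F41442
theorem F45127 : act 4 n11472 = n10511 := d28_1 D11472 (iv D10511) (iv F41443)
theorem F45128 : act 6 n11472 = n10736 := d33_1 D11472 (iv D10736) (iv F41444)
theorem F45129 : act 8 n11472 = n11472 := d35_2 D10510 D11472 (iv D11472) (iv D10510) F33734
def n11473 : Q := act 8 n10512
theorem D11473 : act 8 n10512 = n11473 := rfl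
theorem F45130 : act 2 n11473 = n10515 := d20_1 D11473 (iv D10515) (iv F41450)
theorem F45131 : act 4 n11473 = n11473 := d29_1 D11473 (iv D11473) F41451
theorem F45132 : act 5 n11473 = n10776 := d32_1 D11473 (iv D10776) (iv F41452)
theorem F45133 : act 6 n11473 = n10513 := d34_1 D11473 (iv D10513) D10512
def n11474 : Q := act 7 n10513
theorem D11474 : act 7 n10513 = n11474 := rfl
theorem F45134 : act 2 n11474 = n10516 := d19_1 D11474 (iv D10516) (iv F41454)
theorem F45135 : act 4 n11474 = n11474 := d28_1 D11474 (iv D11474) F41455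
theorem F45136 : act 5 n11474 = n10514 := d31_1 D11474 (iv D10514) (iv F41456)
theorem F45137 : act 8 n11474 = n11474 := d35_2 D10513 D11474 (iv D11474) (iv D10513) F33741
def n11475 : Q := act 3 n10514
theorem D11475 : act 3 n10514 = n11475 := rfl
theorem F45138 : act 6 n11475 = n10778 := d23_2 (iv F41459) D11475 (iv D10778)
theorem F45139 : act 8 n11475 = n11475 := d25_2 F41460 D11475 (iv D11475)
def n11476 : Q := act 7 n10515
theorem D11476 : act 7 n10515 = n11476 := rfl
theorem F45140 : act 1 n11476 = n11476 := d13_1 D11476 (iv D11476) F41461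
theorem F45141 : act 4 n11476 = n11476 := d28_1 D11476 (iv D11476) F41463
theorem F45142 : act 5 n11476 = n10807 := d31_1 D11476 (iv D10807) (iv F41464)
theorem F45143 : act 6 n11476 = n10516 := d33_1 D11476 (iv D10516) (iv F41465)
theorem F45144 : act 8 n11476 = n11476 := d35_2 D10515 D11476 (iv D11476) (iv D10515) F33750
def n11477 : Q := act 3 n10516
theorem D11477 : act 3 n10516 = n11477 := rfl
theorem F45145 : act 1 n11477 = n11477 := d9_1 D11477 (iv D11477) F41466
theorem F45146 : act 5 n11477 = n10517 := d22_2 (iv F41468) D11477 (iv D10517)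
theorem F45147 : act 7 n11477 = n10522 := d24_2 D10516 D11477 (iv D10522) (iv D8905) (iv F33752)
theorem F45148 : act 8 n11477 = n11477 := d25_2 F41469 D11477 (iv D11477)
def n11478 : Q := act 2 n10517
theorem D11478 : act 2 n10517 = n11478 := rfl
theorem F45149 : act 4 n11478 = n11478 := d16_2 F41471 D11478 (iv D11478)
theorem F45150 : act 6 n11478 = n10809 := d18_2 (iv F41472) D11478 (iv D10809)
theorem F45151 : act 7 n11478 = n10523 := d19_2 (iv F41473) D11478 (iv D10523)
theorem F45152 : act 8 n11478 = n11478 := d20_2 F41474 D11478 (iv D11478)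
def n11479 : Q := act 7 n10518
theorem D11479 : act 7 n10518 = n11479 := rfl
theorem F45153 : act 1 n11479 = n11479 := d13_1 D11479 (iv D11479) F41475
theorem F45154 : act 4 n11479 = n11479 := d28_1 D11479 (iv D11479) F41477
theorem F45155 : act 5 n11479 = n10521 := d31_1 D11479 (iv D10521) (iv F41478)
theorem F45156 : act 6 n11479 = n10519 := d33_1 D11479 (iv D10519) (iv F41479)
theorem F45157 : act 8 n11479 = n10690 := d35_2 D10518 D11479 (iv D10690) (iv D9467) (iv F33761)
def n11480 : Q := act 3 n10519
theorem D11480 : act 3 n10519 = n11480 := rfl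
theorem F45158 : act 1 n11480 = n11480 := d9_1 D11480 (iv D11480) F41480
theorem F45159 : act 5 n11480 = n10520 := d22_2 (iv F41482) D11480 (iv D10520)
theorem F45160 : act 7 n11480 = n10808 := d24_2 D10519 D11480 (iv D10808) (iv D9958) (iv F38585)
theorem F45161 : act 8 n11480 = n10691 := d25_2 (iv F41483) D11480 (iv D10691)
def n11481 : Q := act 2 n10520
theorem D11481 : act 2 n10520 = n11481 := rfl
theorem F45162 : act 4 n11481 = n11481 := d16_2 F41485 D11481 (iv D11481)
theorem F45163 : act 6 n11481 = n10523 := d18_2 (iv F41486) D11481 (iv D10523)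
theorem F45164 : act 7 n11481 = n10809 := d19_2 (iv F41487) D11481 (iv D10809)
theorem F45165 : act 8 n11481 = n10692 := d20_2 (iv F41488) D11481 (iv D10692)
def n11482 : Q := act 4 n10524
theorem D11482 : act 4 n10524 = n11482 := rfl
theorem F45166 : act 0 n11482 = n11482 := d3_1 D11482 (iv D11482) F41498
theorem F45167 : act 1 n11482 = n10528 := d10_1 D11482 (iv D10528) (iv F41499)
theorem F45168 : act 2 n11482 = n10525 := d16_1 D11482 (iv D10525) D10524
theorem F45169 : act 6 n11482 = n11482 := d27_2 F41502 D11482 (iv D11482)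
theorem F45170 : act 8 n11482 = n10644 := d29_2 (iv F41503) D11482 (iv D10644)
def n11483 : Q := act 3 n10528
theorem D11483 : act 3 n10528 = n11483 := rfl
theorem F45171 : act 0 n11483 = n10577 := d2_1 D11483 (iv D10577) (iv F41521)
theorem F45172 : act 2 n11483 = n11483 := d15_1 D11483 (iv D11483) F41522 F34409 (iv F41522)
theorem F45173 : act 4 n11483 = n11483 := d21_2 D10528 D11483 (iv D11483) (iv D10528) F34405
theorem F45174 : act 6 n11483 = n11483 := d23_2 F41523 D11483 (iv D11483)
def n11484 : Q := act 5 n10528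
theorem D11484 : act 5 n10528 = n11484 := rfl
theorem F45175 : act 0 n11484 = n10578 := d4_1 D11484 (iv D10578) (iv F41521)
theorem F45176 : act 2 n11484 = n10530 := d17_1 D11484 (iv D10530) (iv F41522)
def n11485 : Q := act 8 n10528
theorem D11485 : act 8 n10528 = n11485 := rfl
theorem F45177 : act 0 n11485 = n10579 := d7_1 D11485 (iv D10579) (iv F41521)
theorem F45178 : act 1 n11485 = n10644 := d14_1 D11485 (iv F45170) F45167
theorem F45179 : act 2 n11485 = n10531 := d20_1 D11485 (iv D10531) (iv F41522)
theorem F45180 : act 4 n11485 = n10529 := d29_1 D11485 (iv D10529) D10528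
theorem F45181 : act 6 n11485 = n11485 := d34_1 D11485 (iv D11485) F41523
def n11486 : Q := act 7 n10529
theorem D11486 : act 7 n10529 = n11486 := rfl
theorem F45182 : act 0 n11486 = n10580 := d6_1 D11486 (iv D10580) (iv F41524)
theorem F45183 : act 1 n11486 = n10645 := d13_1 D11486 (iv D10645) (iv F41525)
theorem F45184 : act 2 n11486 = n10532 := d19_1 D11486 (iv D10532) (iv F41526)
theorem F45185 : act 5 n11486 = n10590 := d31_1 D11486 (iv D10590) (iv F41528)
theorem F45186 : act 6 n11486 = n11486 := d33_1 D11486 (iv D11486) F41529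
def n11487 : Q := act 7 n10531
theorem D11487 : act 7 n10531 = n11487 := rfl
theorem F45187 : act 0 n11487 = n10583 := d6_1 D11487 (iv D10583) (iv F41533)
theorem F45188 : act 1 n11487 = n10533 := d13_1 D11487 (iv D10533) (iv F41534)
theorem F45189 : act 4 n11487 = n10532 := d28_1 D11487 (iv D10532) (iv F41536)
theorem F45190 : act 6 n11487 = n11487 := d33_1 D11487 (iv D11487) F41537
def n11488 : Q := act 3 n10533
theorem D11488 : act 3 n10533 = n11488 := rfl
theorem F45191 : act 0 n11488 = n10534 := d2_1 D11488 (iv D10534) (iv F41543)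
theorem F45192 : act 4 n11488 = n10564 := d21_2 (iv F41545) D11488 (iv D10564) F34721 (iv F34457)
theorem F45193 : act 6 n11488 = n11488 := d23_2 F41546 D11488 (iv D11488)
theorem F45194 : act 7 n11488 = n11488 := d24_2 D10533 D11488 (iv D11488) (iv D10533) F34453
def n11489 : Q := act 7 n10535
theorem D11489 : act 7 n10535 = n11489 := rfl
theorem F45195 : act 0 n11489 = n10590 := d6_1 D11489 (iv D10590) (iv F41551)
theorem F45196 : act 1 n11489 = n11489 := d13_1 D11489 (iv D11489) F41552
theorem F45197 : act 2 n11489 = n10537 := d19_1 D11489 (iv D10537) (iv F41553)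
theorem F45198 : act 5 n11489 = n10580 := d31_1 D11489 (iv D10580) F41556
theorem F45199 : act 6 n11489 = n10536 := d33_1 D11489 (iv D10536) D10535
def n11490 : Q := act 3 n10536
theorem D11490 : act 3 n10536 = n11490 := rfl
theorem F45200 : act 0 n11490 = n10591 := d2_1 D11490 (iv D10591) (iv F41557)
theorem F45201 : act 1 n11490 = n11490 := d9_1 D11490 (iv D11490) F41558
theorem F45202 : act 5 n11490 = n11490 := d22_2 F41560 D11490 (iv D11490)
theorem F45203 : act 7 n11490 = n11490 := d24_2 D10536 D11490 (iv D11490) (iv D10536) F34597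
def n11491 : Q := act 8 n10536
theorem D11491 : act 8 n10536 = n11491 := rfl
theorem F45204 : act 0 n11491 = n10592 := d7_1 D11491 (iv D10592) (iv F41557)
theorem F45205 : act 1 n11491 = n11491 := d14_1 D11491 (iv D11491) F41558
theorem F45206 : act 2 n11491 = n10539 := d20_1 D11491 (iv D10539) (iv F41559)
theorem F45207 : act 5 n11491 = n11491 := d32_1 D11491 (iv D11491) F41560
def n11492 : Q := act 2 n10538
theorem D11492 : act 2 n10538 = n11492 := rfl
theorem F45208 : act 0 n11492 = n10594 := d1_1 D11492 (iv D10594) (iv F41566)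
theorem F45209 : act 1 n11492 = n10656 := d8_1 D11492 F41992 F35702 (iv F38889) (iv F41567)
theorem F45210 : act 5 n11492 = n11492 := d17_2 F41568 D11492 (iv D11492)
theorem F45211 : act 6 n11492 = n10604 := d18_2 (iv F41569) D11492 F41811
theorem F45212 : act 7 n11492 = n10540 := d19_2 (iv F41570) D11492 (iv D10540)
def n11493 : Q := act 4 n10538
theorem D11493 : act 4 n10538 = n11493 := rfl
theorem F45213 : act 0 n11493 = n10595 := d3_1 D11493 (iv D10595) (iv F41566)
theorem F45214 : act 1 n11493 = n10556 := d10_1 D11493 (iv D10556) (iv F41567)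
theorem F45215 : act 6 n11493 = n10607 := d27_2 (iv F41569) D11493 F41819
theorem F45216 : act 7 n11493 = n10541 := d28_2 (iv F41570) D11493 (iv D10541)
def n11494 : Q := act 4 n10540
theorem D11494 : act 4 n10540 = n11494 := rfl
theorem F45217 : act 0 n11494 = n10597 := d3_1 D11494 (iv D10597) (iv F41574)
theorem F45218 : act 1 n11494 = n10655 := d10_1 D11494 F41989 (iv F41575)
theorem F45219 : act 2 n11494 = n10541 := d16_1 D11494 (iv D10541) D10540
theorem F45220 : act 6 n11494 = n10603 := d27_2 (iv F41578) D11494 F41809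
theorem F45221 : act 8 n11494 = n10599 := d29_2 (iv F41579) D11494 (iv D10599)
def n11495 : Q := act 5 n10541
theorem D11495 : act 5 n10541 = n11495 := rfl
theorem F45222 : act 0 n11495 = n10598 := d4_1 D11495 (iv D10598) (iv F41580)
theorem F45223 : act 1 n11495 = n10557 := d11_1 D11495 (iv D10557) (iv F41581)
theorem F45224 : act 3 n11495 = n10546 := d22_1 D11495 (iv D10546) (iv F41582)
theorem F45225 : act 4 n11495 = n11495 := d26_1 D11495 (iv D11495) (iv D10541) F34617 D10541
theorem F45226 : act 8 n11495 = n10600 := d32_2 (iv F41584) D11495 (iv D10600)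
def n11496 : Q := act 4 n10542
theorem D11496 : act 4 n10542 = n11496 := rfl
theorem F45227 : act 0 n11496 = n10599 := d3_1 D11496 (iv D10599) (iv F41585)
theorem F45228 : act 1 n11496 = n11496 := d10_1 D11496 (iv D11496) F41586
theorem F45229 : act 2 n11496 = n10543 := d16_1 D11496 (iv D10543) D10542
theorem F45230 : act 6 n11496 = n10544 := d27_2 (iv F41589) D11496 (iv D10544)
theorem F45231 : act 8 n11496 = n10597 := d29_2 (iv F41590) D11496 (iv D10597)
def n11497 : Q := act 5 n10543
theorem D11497 : act 5 n10543 = n11497 := rfl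
theorem F45232 : act 0 n11497 = n10600 := d4_1 D11497 (iv D10600) (iv F41591)
theorem F45233 : act 1 n11497 = n10558 := d11_1 D11497 (iv D10558) (iv F41592)
theorem F45234 : act 3 n11497 = n10606 := d22_1 D11497 F41817 (iv F41593)
theorem F45235 : act 4 n11497 = n11497 := d26_1 D11497 (iv D11497) (iv D10543) F34625 D10543
theorem F45236 : act 8 n11497 = n10598 := d32_2 (iv F41595) D11497 (iv D10598)
def n11498 : Q := act 3 n10544
theorem D11498 : act 3 n10544 = n11498 := rfl
theorem F45237 : act 0 n11498 = n10601 := d2_1 D11498 (iv D10601) (iv F41596)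
theorem F45238 : act 1 n11498 = n11498 := d9_1 D11498 (iv D11498) F41597
theorem F45239 : act 4 n11498 = n11498 := d21_2 D10544 D11498 (iv D11498) (iv D10544) F34634
def n11499 : Q := act 5 n10544
theorem D11499 : act 5 n10544 = n11499 := rfl
theorem F45240 : act 0 n11499 = n10602 := d4_1 D11499 (iv D10602) (iv F41596)
theorem F45241 : act 1 n11499 = n11499 := d11_1 D11499 (iv D11499) F41597
theorem F45242 : act 2 n11499 = n10546 := d17_1 D11499 (iv D10546) (iv F41598)
theorem F45243 : act 4 n11499 = n10550 := d26_1 D11499 (iv D10550) (iv D9142) (iv F34635) D10544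
def n11500 : Q := act 8 n10544
theorem D11500 : act 8 n10544 = n11500 := rfl
theorem F45244 : act 0 n11500 = n10603 := d7_1 D11500 (iv D10603) (iv F41596)
theorem F45245 : act 1 n11500 = n11500 := d14_1 D11500 (iv D11500) F41597
theorem F45246 : act 2 n11500 = n10547 := d20_1 D11500 (iv D10547) (iv F41598)
theorem F45247 : act 4 n11500 = n10545 := d29_1 D11500 (iv D10545) D10544
theorem F45248 : act 6 n11500 = n10597 := d34_1 D11500 (iv F45231) F45230
def n11501 : Q := act 7 n10545
theorem D11501 : act 7 n10545 = n11501 := rfl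
theorem F45249 : act 0 n11501 = n10604 := d6_1 D11501 (iv D10604) (iv F41599)
theorem F45250 : act 1 n11501 = n11501 := d13_1 D11501 (iv D11501) F41600
theorem F45251 : act 2 n11501 = n10548 := d19_1 D11501 (iv D10548) (iv F41601)
theorem F45252 : act 5 n11501 = n10552 := d31_1 D11501 (iv D10552) (iv F41603)
theorem F45253 : act 6 n11501 = n10594 := d33_1 D11501 F41786 (iv F41604)
def n11502 : Q := act 6 n10546
theorem D11502 : act 6 n10546 = n11502 := rfl
theorem F45254 : act 0 n11502 = n10605 := d5_1 D11502 (iv D10605) (iv F41605)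
theorem F45255 : act 1 n11502 = n10559 := d12_1 D11502 (iv D10559) (iv F41606)
theorem F45256 : act 4 n11502 = n10553 := d27_1 D11502 (iv D10553) (iv F41607)
def n11503 : Q := act 8 n10546
theorem D11503 : act 8 n10546 = n11503 := rfl
theorem F45257 : act 0 n11503 = n10606 := d7_1 D11503 (iv D10606) (iv F41605)
theorem F45258 : act 1 n11503 = n10560 := d14_1 D11503 (iv D10560) (iv F41606)
theorem F45259 : act 3 n11503 = n10600 := d25_1 D11503 (iv F45226) F45224
theorem F45260 : act 4 n11503 = n10554 := d29_1 D11503 (iv D10554) (iv F41607)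
theorem F45261 : act 5 n11503 = n10547 := d32_1 D11503 (iv D10547) D10546
def n11504 : Q := act 7 n10547
theorem D11504 : act 7 n10547 = n11504 := rfl
theorem F45262 : act 0 n11504 = n10607 := d6_1 D11504 (iv D10607) (iv F41608)
theorem F45263 : act 1 n11504 = n10561 := d13_1 D11504 (iv D10561) (iv F41609)
theorem F45264 : act 4 n11504 = n10548 := d28_1 D11504 (iv D10548) (iv F41611)
theorem F45265 : act 6 n11504 = n10595 := d33_1 D11504 F41788 (iv F41612)
def n11505 : Q := act 5 n10549
theorem D11505 : act 5 n10549 = n11505 := rfl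
theorem F45266 : act 0 n11505 = n10608 := d4_1 D11505 (iv D10608) (iv F41618)
theorem F45267 : act 1 n11505 = n11505 := d11_1 D11505 (iv D11505) F41619
theorem F45268 : act 2 n11505 = n11505 := d17_1 D11505 (iv D11505) F41620
theorem F45269 : act 3 n11505 = n10550 := d22_1 D11505 (iv D10550) D10549
def n11506 : Q := act 7 n10549
theorem D11506 : act 7 n10549 = n11506 := rfl
theorem F45270 : act 0 n11506 = n10609 := d6_1 D11506 (iv D10609) (iv F41618)
theorem F45271 : act 1 n11506 = n11506 := d13_1 D11506 (iv D11506) F41619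
theorem F45272 : act 2 n11506 = n11506 := d19_1 D11506 (iv D11506) F41620
theorem F45273 : act 4 n11506 = n11506 := d28_1 D11506 (iv D11506) F41621
theorem F45274 : act 6 n11506 = n11506 := d33_1 D11506 (iv D11506) F41622
def n11507 : Q := act 8 n10549
theorem D11507 : act 8 n10549 = n11507 := rfl
theorem F45275 : act 0 n11507 = n10610 := d7_1 D11507 (iv D10610) (iv F41618)
theorem F45276 : act 1 n11507 = n11507 := d14_1 D11507 (iv D11507) F41619
theorem F45277 : act 2 n11507 = n11507 := d20_1 D11507 (iv D11507) F41620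
theorem F45278 : act 3 n11507 = n10551 := d25_1 D11507 (iv D10551) D10549
theorem F45279 : act 4 n11507 = n11507 := d29_1 D11507 (iv D11507) F41621
theorem F45280 : act 6 n11507 = n11507 := d34_1 D11507 (iv D11507) F41622
def n11508 : Q := act 6 n10550
theorem D11508 : act 6 n10550 = n11508 := rfl
theorem F45281 : act 0 n11508 = n10611 := d5_1 D11508 (iv D10611) (iv F41623)
theorem F45282 : act 1 n11508 = n11508 := d12_1 D11508 (iv D11508) F41624
theorem F45283 : act 2 n11508 = n10553 := d18_1 D11508 (iv D10553) (iv F41625)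
theorem F45284 : act 5 n11508 = n11508 := d30_1 D11508 (iv D11508) (iv D10550) F34645 D10550
def n11509 : Q := act 8 n10550
theorem D11509 : act 8 n10550 = n11509 := rfl
theorem F45285 : act 0 n11509 = n10612 := d7_1 D11509 (iv D10612) (iv F41623)
theorem F45286 : act 1 n11509 = n11509 := d14_1 D11509 (iv D11509) F41624
theorem F45287 : act 2 n11509 = n10554 := d20_1 D11509 (iv D10554) (iv F41625)
theorem F45288 : act 5 n11509 = n10551 := d32_1 D11509 (iv D10551) D10550
def n11510 : Q := act 7 n10551
theorem D11510 : act 7 n10551 = n11510 := rfl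
theorem F45289 : act 0 n11510 = n10613 := d6_1 D11510 (iv D10613) (iv F41626)
theorem F45290 : act 1 n11510 = n11510 := d13_1 D11510 (iv D11510) F41627
theorem F45291 : act 2 n11510 = n10555 := d19_1 D11510 (iv D10555) (iv F41628)
theorem F45292 : act 4 n11510 = n10552 := d28_1 D11510 (iv D10552) (iv F41629)
theorem F45293 : act 6 n11510 = n11510 := d33_1 D11510 (iv D11510) F41630
def n11511 : Q := act 3 n10552
theorem D11511 : act 3 n10552 = n11511 := rfl
theorem F45294 : act 0 n11511 = n10614 := d2_1 D11511 (iv D10614) (iv F41631)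
theorem F45295 : act 1 n11511 = n11511 := d9_1 D11511 (iv D11511) F41632
theorem F45296 : act 6 n11511 = n11511 := d23_2 F41634 D11511 (iv D11511)
theorem F45297 : act 7 n11511 = n11511 := d24_2 D10552 D11511 (iv D11511) (iv D10552) F34649
def n11512 : Q := act 8 n10553
theorem D11512 : act 8 n10553 = n11512 := rfl
theorem F45298 : act 0 n11512 = n10615 := d7_1 D11512 (iv D10615) (iv F41635)
theorem F45299 : act 1 n11512 = n10562 := d14_1 D11512 (iv D10562) (iv F41636)
theorem F45300 : act 3 n11512 = n11512 := d25_1 D11512 (iv D11512) F41637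
theorem F45301 : act 5 n11512 = n11512 := d32_1 D11512 (iv D11512) F41638
theorem F45302 : act 6 n11512 = n10554 := d34_1 D11512 (iv D10554) D10553
def n11513 : Q := act 7 n10554
theorem D11513 : act 7 n10554 = n11513 := rfl
theorem F45303 : act 0 n11513 = n10616 := d6_1 D11513 (iv D10616) (iv F41639)
theorem F45304 : act 1 n11513 = n10563 := d13_1 D11513 (iv D10563) (iv F41640)
theorem F45305 : act 5 n11513 = n10555 := d31_1 D11513 (iv D10555) (iv F41642)
def n11514 : Q := act 3 n10555
theorem D11514 : act 3 n10555 = n11514 := rfl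
theorem F45306 : act 0 n11514 = n10617 := d2_1 D11514 (iv D10617) (iv F41643)
theorem F45307 : act 1 n11514 = n10564 := d9_1 D11514 (iv D10564) (iv F41644)
theorem F45308 : act 6 n11514 = n11514 := d23_2 F41646 D11514 (iv D11514)
theorem F45309 : act 7 n11514 = n11514 := d24_2 D10555 D11514 (iv D11514) (iv D10555) F34656
def n11515 : Q := act 5 n10556
theorem D11515 : act 5 n10556 = n11515 := rfl
theorem F45310 : act 0 n11515 = n10565 := d4_1 D11515 (iv D10565) (iv F41647)
theorem F45311 : act 2 n11515 = n10684 := d17_1 D11515 F42117 (iv F41648)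
theorem F45312 : act 4 n11515 = n11515 := d26_1 D11515 (iv D11515) (iv D10556) F34670 D10556
theorem F45313 : act 7 n11515 = n10557 := d31_2 (iv F41650) D11515 (iv D10557)
def n11516 : Q := act 6 n10557
theorem D11516 : act 6 n10557 = n11516 := rfl
theorem F45314 : act 0 n11516 = n10566 := d5_1 D11516 (iv D10566) (iv F41651)
theorem F45315 : act 2 n11516 = n10683 := d18_1 D11516 F42114 (iv F41652)
theorem F45316 : act 3 n11516 = n10559 := d23_1 D11516 (iv D10559) (iv F41653)
theorem F45317 : act 4 n11516 = n11516 := d27_1 D11516 (iv D11516) F41654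
theorem F45318 : act 5 n11516 = n10622 := d30_1 D11516 F41872 F35308 (iv F38932) D10557
theorem F45319 : act 8 n11516 = n10621 := d34_2 (iv F41655) D11516 (iv D10621)
def n11517 : Q := act 6 n10558
theorem D11517 : act 6 n10558 = n11517 := rfl
theorem F45320 : act 0 n11517 = n10567 := d5_1 D11517 (iv D10567) (iv F41656)
theorem F45321 : act 2 n11517 = n11517 := d18_1 D11517 (iv D11517) F41657
theorem F45322 : act 3 n11517 = n10622 := d23_1 D11517 F41872 (iv F41658)
theorem F45323 : act 4 n11517 = n11517 := d27_1 D11517 (iv D11517) F41659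
theorem F45324 : act 5 n11517 = n10559 := d30_1 D11517 (iv D10559) (iv D9159) (iv F34696) D10558
theorem F45325 : act 8 n11517 = n10620 := d34_2 (iv F41660) D11517 (iv D10620)
def n11518 : Q := act 8 n10559
theorem D11518 : act 8 n10559 = n11518 := rfl
theorem F45326 : act 0 n11518 = n10568 := d7_1 D11518 (iv D10568) (iv F41661)
theorem F45327 : act 2 n11518 = n11518 := d20_1 D11518 (iv D11518) F41662
theorem F45328 : act 3 n11518 = n10621 := d25_1 D11518 (iv F45319) F45316
theorem F45329 : act 4 n11518 = n10562 := d29_1 D11518 (iv D10562) (iv F41663)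
theorem F45330 : act 5 n11518 = n10620 := d32_1 D11518 (iv F45325) F45324
theorem F45331 : act 6 n11518 = n10560 := d34_1 D11518 (iv D10560) D10559
def n11519 : Q := act 7 n10560
theorem D11519 : act 7 n10560 = n11519 := rfl
theorem F45332 : act 0 n11519 = n10569 := d6_1 D11519 (iv D10569) (iv F41664)
theorem F45333 : act 2 n11519 = n11519 := d19_1 D11519 (iv D11519) F41665
theorem F45334 : act 4 n11519 = n10563 := d28_1 D11519 (iv D10563) (iv F41667)
theorem F45335 : act 5 n11519 = n10561 := d31_1 D11519 (iv D10561) (iv F41668)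
def n11520 : Q := act 7 n10562
theorem D11520 : act 7 n10562 = n11520 := rfl
theorem F45336 : act 0 n11520 = n10570 := d6_1 D11520 (iv D10570) (iv F41673)
theorem F45337 : act 2 n11520 = n11520 := d19_1 D11520 (iv D11520) F41674
theorem F45338 : act 5 n11520 = n11520 := d31_1 D11520 (iv D11520) F41676
theorem F45339 : act 6 n11520 = n10563 := d33_1 D11520 (iv D10563) (iv F41677)
def n11521 : Q := act 3 n10563
theorem D11521 : act 3 n10563 = n11521 := rfl
theorem F45340 : act 0 n11521 = n10571 := d2_1 D11521 (iv D10571) (iv F41678)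
theorem F45341 : act 5 n11521 = n10564 := d22_2 (iv F41680) D11521 (iv D10564)
theorem F45342 : act 7 n11521 = n11521 := d24_2 D10563 D11521 (iv D11521) (iv D10563) F34717
def n11522 : Q := act 2 n10564
theorem D11522 : act 2 n10564 = n11522 := rfl
theorem F45343 : act 0 n11522 = n10572 := d1_1 D11522 (iv D10572) (iv F41681)
theorem F45344 : act 3 n11522 = n11522 := d15_2 D10564 D11522 (iv D11522) (iv D10564) F34720
theorem F45345 : act 6 n11522 = n11522 := d18_2 F41682 D11522 (iv D11522)
theorem F45346 : act 7 n11522 = n11522 := d19_2 F41683 D11522 (iv D11522)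
def n11523 : Q := act 6 n10565
theorem D11523 : act 6 n10565 = n11523 := rfl
theorem F45347 : act 1 n11523 = n10628 := d12_1 D11523 (iv D10628) (iv F41684)
theorem F45348 : act 2 n11523 = n10690 := d18_1 D11523 F42140 (iv F41685)
theorem F45349 : act 4 n11523 = n11523 := d27_1 D11523 (iv D11523) F41686
theorem F45350 : act 5 n11523 = n10630 := d30_1 D11523 F41897 F35385 (iv F38893) D10565
theorem F45351 : act 7 n11523 = n10566 := d33_2 (iv F41687) D11523 (iv D10566)
def n11524 : Q := act 7 n10568
theorem D11524 : act 7 n10568 = n11524 := rfl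
theorem F45352 : act 1 n11524 = n10630 := d13_1 D11524 (iv D10630) (iv F41700)
theorem F45353 : act 2 n11524 = n11524 := d19_1 D11524 (iv D11524) F41701
theorem F45354 : act 4 n11524 = n10570 := d28_1 D11524 (iv D10570) (iv F41703)
theorem F45355 : act 5 n11524 = n10628 := d31_1 D11524 F41891 (iv F41704)
theorem F45356 : act 6 n11524 = n10569 := d33_1 D11524 (iv D10569) (iv F41705)
def n11525 : Q := act 3 n10573
theorem D11525 : act 3 n10573 = n11525 := rfl
theorem F45357 : act 0 n11525 = n10947 := d2_1 D11525 (iv F44325) F44323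
theorem F45358 : act 1 n11525 = n10634 := d9_1 D11525 (iv D10634) (iv F41720)
theorem F45359 : act 2 n11525 = n10859 := d15_1 D11525 (iv D10859) (iv F40302) F40303 (iv F41721)
theorem F45360 : act 5 n11525 = n11525 := d22_2 F41722 D11525 (iv D11525)
theorem F45361 : act 6 n11525 = n10861 := d23_2 F43785 D11525 (iv F43783)
theorem F45362 : act 7 n11525 = n11525 := d24_2 D10573 D11525 (iv D11525) (iv D10573) F34881
def n11526 : Q := act 8 n10573
theorem D11526 : act 8 n10573 = n11526 := rfl
theorem F45363 : act 1 n11526 = n10635 := d14_1 D11526 (iv D10635) (iv F41720)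
theorem F45364 : act 2 n11526 = n10574 := d20_1 D11526 (iv D10574) (iv F41721)
theorem F45365 : act 5 n11526 = n11526 := d32_1 D11526 (iv D11526) F41722
theorem F45366 : act 7 n11526 = n10592 := d35_1 D11526 (iv D10592) (iv D9289) (iv F34883) D10573
def n11527 : Q := act 3 n10575
theorem D11527 : act 3 n10575 = n11527 := rfl
theorem F45367 : act 0 n11527 = n10935 := d2_1 D11527 (iv F44295) F44292
theorem F45368 : act 1 n11527 = n11527 := d9_1 D11527 (iv D11527) F41726
theorem F45369 : act 2 n11527 = n10853 := d15_1 D11527 F42754 (iv F40291) F40292 (iv F41727)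
theorem F45370 : act 4 n11527 = n11527 := d21_2 D10575 D11527 (iv D11527) (iv D10575) F34914
theorem F45371 : act 6 n11527 = n10852 := d23_2 F43753 D11527 (iv F43750)
theorem F45372 : act 8 n11527 = n11405 := d25_2 F43943 D11527 F44846
def n11528 : Q := act 5 n10575
theorem D11528 : act 5 n10575 = n11528 := rfl
theorem F45373 : act 1 n11528 = n11528 := d11_1 D11528 (iv D11528) F41726
theorem F45374 : act 2 n11528 = n10576 := d17_1 D11528 (iv D10576) (iv F41727)
theorem F45375 : act 4 n11528 = n10578 := d26_1 D11528 (iv D10578) (iv D9218) (iv F34915) D10575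
def n11529 : Q := act 5 n10577
theorem D11529 : act 5 n10577 = n11529 := rfl
theorem F45376 : act 1 n11529 = n11529 := d11_1 D11529 (iv D11529) F41730
theorem F45377 : act 2 n11529 = n11529 := d17_1 D11529 (iv D11529) F41731
theorem F45378 : act 3 n11529 = n10578 := d22_1 D11529 (iv D10578) D10577
def n11530 : Q := act 7 n10577
theorem D11530 : act 7 n10577 = n11530 := rfl
theorem F45379 : act 1 n11530 = n11530 := d13_1 D11530 (iv D11530) F41730
theorem F45380 : act 2 n11530 = n11530 := d19_1 D11530 (iv D11530) F41731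
theorem F45381 : act 4 n11530 = n11530 := d28_1 D11530 (iv D11530) F41732
theorem F45382 : act 6 n11530 = n11530 := d33_1 D11530 (iv D11530) F41733
def n11531 : Q := act 8 n10577
theorem D11531 : act 8 n10577 = n11531 := rfl
theorem F45383 : act 1 n11531 = n11531 := d14_1 D11531 (iv D11531) F41730
theorem F45384 : act 2 n11531 = n11531 := d20_1 D11531 (iv D11531) F41731
theorem F45385 : act 3 n11531 = n10579 := d25_1 D11531 (iv D10579) D10577
theorem F45386 : act 4 n11531 = n11531 := d29_1 D11531 (iv D11531) F41732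
theorem F45387 : act 6 n11531 = n11531 := d34_1 D11531 (iv D11531) F41733
def n11532 : Q := act 6 n10578
theorem D11532 : act 6 n10578 = n11532 := rfl
theorem F45388 : act 1 n11532 = n11532 := d12_1 D11532 (iv D11532) F41734
theorem F45389 : act 2 n11532 = n10581 := d18_1 D11532 (iv D10581) (iv F41735)
theorem F45390 : act 5 n11532 = n11532 := d30_1 D11532 (iv D11532) (iv D10578) F34922 D10578
def n11533 : Q := act 8 n10578
theorem D11533 : act 8 n10578 = n11533 := rfl
theorem F45391 : act 1 n11533 = n11533 := d14_1 D11533 (iv D11533) F41734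
theorem F45392 : act 2 n11533 = n10582 := d20_1 D11533 (iv D10582) (iv F41735)
theorem F45393 : act 5 n11533 = n10579 := d32_1 D11533 (iv D10579) D10578
def n11534 : Q := act 7 n10579
theorem D11534 : act 7 n10579 = n11534 := rfl
theorem F45394 : act 1 n11534 = n11534 := d13_1 D11534 (iv D11534) F41736
theorem F45395 : act 2 n11534 = n10583 := d19_1 D11534 (iv D10583) (iv F41737)
theorem F45396 : act 4 n11534 = n10580 := d28_1 D11534 (iv D10580) (iv F41738)
theorem F45397 : act 6 n11534 = n11534 := d33_1 D11534 (iv D11534) F41739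
theorem F45398 : act 3 n11534 = n11510 := d37_3 D11489 F45198 (iv F45396) F45291 F41644 F34719 (iv D6702) (iv F25711) (iv F34827) F38901 F26118 F19612 (iv F26416) (iv F33635) (iv D8865) (iv D6460) (iv D4716) F13637 (iv F38369) F10186 (iv D1858) F5720 (iv D1359) F4287 F3249 F2614 F1983 (iv F2560) (iv D565) (iv D415) F1461 (iv D306) (iv F1386) (iv F1717) F1721 F1314 D277 F1323 F38376 F1224 F945 F948 (iv F1145) F1144 (iv F1513) (iv F2001) (iv F2635) (iv F3497) (iv F4553) F4552 F3793 (iv F5025) (iv F6675) (iv F8893) F8892 F8895 (iv F10821) (iv F14497) (iv F19517) (iv F26326) (iv F35162) (iv F41551)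
theorem F45399 : act 7 n11507 = n11531 := d24_4 D11534 F45398 (iv D11510) (iv F45278) F45385
theorem F45400 : act 8 n11530 = n11506 := d35_4 D11507 F45399 (iv D11531) D11530 (iv D11506)
def n11535 : Q := act 3 n10580
theorem D11535 : act 3 n10580 = n11535 := rfl
theorem F45401 : act 1 n11535 = n11535 := d9_1 D11535 (iv D11535) F41740
theorem F45402 : act 2 n11535 = n10614 := d15_1 D11535 (iv D10614) F35230 (iv F34934) (iv F41741)
theorem F45403 : act 4 n11535 = n11511 := d21_2 F45396 D11535 (iv D11511) (iv F45292) (iv F45398)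
theorem F45404 : act 6 n11535 = n11535 := d23_2 F41742 D11535 (iv D11535)
theorem F45405 : act 7 n11535 = n11535 := d24_2 D10580 D11535 (iv D11535) (iv D10580) F34925
def n11536 : Q := act 8 n10581
theorem D11536 : act 8 n10581 = n11536 := rfl
theorem F45406 : act 1 n11536 = n10584 := d14_1 D11536 (iv D10584) (iv F41743)
theorem F45407 : act 3 n11536 = n11536 := d25_1 D11536 (iv D11536) F41744
theorem F45408 : act 5 n11536 = n11536 := d32_1 D11536 (iv D11536) F41745
theorem F45409 : act 6 n11536 = n10582 := d34_1 D11536 (iv D10582) D10581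
def n11537 : Q := act 7 n10582
theorem D11537 : act 7 n10582 = n11537 := rfl
theorem F45410 : act 1 n11537 = n10585 := d13_1 D11537 (iv D10585) (iv F41746)
theorem F45411 : act 5 n11537 = n10583 := d31_1 D11537 (iv D10583) (iv F41748)
def n11538 : Q := act 3 n10583
theorem D11538 : act 3 n10583 = n11538 := rfl
theorem F45412 : act 1 n11538 = n10586 := d9_1 D11538 (iv D10586) (iv F41749)
theorem F45413 : act 2 n11538 = n11514 := d15_1 D11538 (iv D11514) (iv F45291) (iv F45398) F45395
theorem F45414 : act 4 n11538 = n10617 := d21_2 (iv F41750) D11538 (iv D10617) F35239 (iv F34934)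
theorem F45415 : act 6 n11538 = n11538 := d23_2 F41751 D11538 (iv D11538)
theorem F45416 : act 7 n11538 = n11538 := d24_2 D10583 D11538 (iv D11538) (iv D10583) F34930
def n11539 : Q := act 7 n10584
theorem D11539 : act 7 n10584 = n11539 := rfl
theorem F45417 : act 0 n11539 = n10587 := d6_1 D11539 (iv D10587) (iv F41752)
theorem F45418 : act 2 n11539 = n11539 := d19_1 D11539 (iv D11539) F41753
theorem F45419 : act 5 n11539 = n11539 := d31_1 D11539 (iv D11539) F41755
theorem F45420 : act 6 n11539 = n10585 := d33_1 D11539 (iv D10585) (iv F41756)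
def n11540 : Q := act 3 n10585
theorem D11540 : act 3 n10585 = n11540 := rfl
theorem F45421 : act 0 n11540 = n10588 := d2_1 D11540 (iv D10588) (iv F41757)
theorem F45422 : act 5 n11540 = n10586 := d22_2 (iv F41759) D11540 (iv D10586)
theorem F45423 : act 7 n11540 = n11540 := d24_2 D10585 D11540 (iv D11540) (iv D10585) F34995
def n11541 : Q := act 2 n10586
theorem D11541 : act 2 n10586 = n11541 := rfl
theorem F45424 : act 0 n11541 = n10589 := d1_1 D11541 (iv D10589) (iv F41760)
theorem F45425 : act 1 n11541 = n11522 := d8_1 D11541 (iv D11522) (iv F45307) (iv F45413) F45412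
theorem F45426 : act 3 n11541 = n11541 := d15_2 D10586 D11541 (iv D11541) (iv D10586) F34998
theorem F45427 : act 4 n11541 = n10627 := d16_2 (iv F41761) D11541 (iv D10627)
theorem F45428 : act 6 n11541 = n11541 := d18_2 F41762 D11541 (iv D11541)
theorem F45429 : act 7 n11541 = n11541 := d19_2 F41763 D11541 (iv D11541)
def n11542 : Q := act 3 n10590
theorem D11542 : act 3 n10590 = n11542 := rfl
theorem F45430 : act 1 n11542 = n10646 := d9_1 D11542 (iv D10646) (iv F41773)
theorem F45431 : act 6 n11542 = n10591 := d23_2 (iv F41775) D11542 (iv D10591)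
theorem F45432 : act 7 n11542 = n11542 := d24_2 D10590 D11542 (iv D11542) (iv D10590) F35164
def n11543 : Q := act 8 n10590
theorem D11543 : act 8 n10590 = n11543 := rfl
theorem F45433 : act 1 n11543 = n10647 := d14_1 D11543 (iv D10647) (iv F41773)
theorem F45434 : act 2 n11543 = n10593 := d20_1 D11543 (iv D10593) (iv F41774)
theorem F45435 : act 6 n11543 = n10592 := d34_1 D11543 (iv D10592) (iv F41775)
def n11544 : Q := act 2 n10591
theorem D11544 : act 2 n10591 = n11544 := rfl
theorem F45436 : act 1 n11544 = n11544 := d8_1 D11544 (iv D11544) F41776 F35651 (iv F41776)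
theorem F45437 : act 3 n11544 = n10594 := d15_2 D10591 D11544 (iv D10594) (iv D9292) (iv F35166)
theorem F45438 : act 5 n11544 = n11544 := d17_2 F41777 D11544 (iv D11544)
theorem F45439 : act 7 n11544 = n11544 := d19_2 F41778 D11544 (iv D11544)
def n11545 : Q := act 4 n10591
theorem D11545 : act 4 n10591 = n11545 := rfl
theorem F45440 : act 1 n11545 = n10648 := d10_1 D11545 (iv D10648) (iv F41776)
theorem F45441 : act 7 n11545 = n11545 := d28_2 F41778 D11545 (iv D11545)
def n11546 : Q := act 8 n10591
theorem D11546 : act 8 n10591 = n11546 := rfl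
theorem F45442 : act 1 n11546 = n10649 := d14_1 D11546 (iv D10649) (iv F41776)
theorem F45443 : act 3 n11546 = n10592 := d25_1 D11546 (iv D10592) D10591
theorem F45444 : act 5 n11546 = n11546 := d32_1 D11546 (iv D11546) F41777
def n11547 : Q := act 4 n10594
theorem D11547 : act 4 n10594 = n11547 := rfl
theorem F45445 : act 1 n11547 = n11547 := d10_1 D11547 (iv D11547) F41784
theorem F45446 : act 2 n11547 = n10595 := d16_1 D11547 (iv D10595) D10594
theorem F45447 : act 7 n11547 = n10597 := d28_2 (iv F41786) D11547 (iv D10597)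
def n11548 : Q := act 8 n10594
theorem D11548 : act 8 n10594 = n11548 := rfl
theorem F45448 : act 1 n11548 = n11548 := d14_1 D11548 (iv D11548) F41784
theorem F45449 : act 2 n11548 = n10596 := d20_1 D11548 (iv D10596) D10594
theorem F45450 : act 5 n11548 = n11548 := d32_1 D11548 (iv D11548) F41785
def n11549 : Q := act 5 n10595
theorem D11549 : act 5 n10595 = n11549 := rfl
theorem F45451 : act 1 n11549 = n10618 := d11_1 D11549 (iv D10618) (iv F41787)
theorem F45452 : act 4 n11549 = n11549 := d26_1 D11549 (iv D11549) (iv D10595) F35174 D10595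
theorem F45453 : act 7 n11549 = n10598 := d31_2 (iv F41788) D11549 (iv D10598)
def n11550 : Q := act 8 n10595
theorem D11550 : act 8 n10595 = n11550 := rfl
theorem F45454 : act 1 n11550 = n10619 := d14_1 D11550 (iv D10619) (iv F41787)
theorem F45455 : act 4 n11550 = n10596 := d29_1 D11550 (iv D10596) D10595
def n11551 : Q := act 3 n10597
theorem D11551 : act 3 n10597 = n11551 := rfl
theorem F45456 : act 1 n11551 = n11551 := d9_1 D11551 (iv D11551) F41792
theorem F45457 : act 2 n11551 = n10601 := d15_1 D11551 (iv D10601) F35208 (iv F35193) (iv F41793)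
theorem F45458 : act 4 n11551 = n11551 := d21_2 D10597 D11551 (iv D11551) (iv D10597) F35190
def n11552 : Q := act 5 n10597
theorem D11552 : act 5 n10597 = n11552 := rfl
theorem F45459 : act 1 n11552 = n11552 := d11_1 D11552 (iv D11552) F41792
theorem F45460 : act 2 n11552 = n10598 := d17_1 D11552 (iv D10598) (iv F41793)
theorem F45461 : act 4 n11552 = n11552 := d26_1 D11552 (iv D11552) (iv D10597) F35191 D10597
def n11553 : Q := act 6 n10598
theorem D11553 : act 6 n10598 = n11553 := rfl
theorem F45462 : act 1 n11553 = n10620 := d12_1 D11553 (iv D10620) (iv F41794)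
theorem F45463 : act 3 n11553 = n10605 := d23_1 D11553 (iv D10605) (iv F41795)
theorem F45464 : act 4 n11553 = n11553 := d27_1 D11553 (iv D11553) F41796
def n11554 : Q := act 3 n10599
theorem D11554 : act 3 n10599 = n11554 := rfl
theorem F45465 : act 1 n11554 = n10653 := d9_1 D11554 (iv D10653) (iv F41797)
theorem F45466 : act 4 n11554 = n11554 := d21_2 D10599 D11554 (iv D11554) (iv D10599) F35198
theorem F45467 : act 6 n11554 = n10601 := d23_2 (iv F41799) D11554 (iv D10601)
def n11555 : Q := act 5 n10599
theorem D11555 : act 5 n10599 = n11555 := rfl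
theorem F45468 : act 1 n11555 = n10654 := d11_1 D11555 (iv D10654) (iv F41797)
theorem F45469 : act 2 n11555 = n10600 := d17_1 D11555 (iv D10600) (iv F41798)
theorem F45470 : act 4 n11555 = n11555 := d26_1 D11555 (iv D11555) (iv D10599) F35199 D10599
def n11556 : Q := act 6 n10600
theorem D11556 : act 6 n10600 = n11556 := rfl
theorem F45471 : act 1 n11556 = n10621 := d12_1 D11556 (iv D10621) (iv F41800)
theorem F45472 : act 4 n11556 = n11556 := d27_1 D11556 (iv D11556) F41801
theorem F45473 : act 5 n11556 = n10605 := d30_1 D11556 (iv D10605) (iv D9305) (iv F35202) D10600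
def n11557 : Q := act 5 n10601
theorem D11557 : act 5 n10601 = n11557 := rfl
theorem F45474 : act 1 n11557 = n10660 := d11_1 D11557 (iv D10660) (iv F41802)
theorem F45475 : act 3 n11557 = n10602 := d22_1 D11557 (iv D10602) D10601
def n11558 : Q := act 7 n10601
theorem D11558 : act 7 n10601 = n11558 := rfl
theorem F45476 : act 1 n11558 = n10661 := d13_1 D11558 (iv D10661) (iv F41802)
theorem F45477 : act 4 n11558 = n11558 := d28_1 D11558 (iv D11558) F41803
def n11559 : Q := act 8 n10601
theorem D11559 : act 8 n10601 = n11559 := rfl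
theorem F45478 : act 1 n11559 = n10662 := d14_1 D11559 (iv D10662) (iv F41802)
theorem F45479 : act 3 n11559 = n10603 := d25_1 D11559 (iv D10603) D10601
theorem F45480 : act 4 n11559 = n11559 := d29_1 D11559 (iv D11559) F41803
def n11560 : Q := act 6 n10602
theorem D11560 : act 6 n10602 = n11560 := rfl
theorem F45481 : act 1 n11560 = n10663 := d12_1 D11560 (iv D10663) (iv F41804)
theorem F45482 : act 2 n11560 = n10605 := d18_1 D11560 (iv D10605) (iv F41805)
theorem F45483 : act 4 n11560 = n10611 := d27_1 D11560 (iv D10611) (iv F41806)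
def n11561 : Q := act 8 n10602
theorem D11561 : act 8 n10602 = n11561 := rfl
theorem F45484 : act 1 n11561 = n10664 := d14_1 D11561 (iv D10664) (iv F41804)
theorem F45485 : act 2 n11561 = n10606 := d20_1 D11561 (iv D10606) (iv F41805)
theorem F45486 : act 4 n11561 = n10612 := d29_1 D11561 (iv D10612) (iv F41806)
theorem F45487 : act 5 n11561 = n10603 := d32_1 D11561 (iv D10603) D10602
def n11562 : Q := act 7 n10603
theorem D11562 : act 7 n10603 = n11562 := rfl
theorem F45488 : act 1 n11562 = n10665 := d13_1 D11562 (iv D10665) (iv F41807)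
theorem F45489 : act 2 n11562 = n10607 := d19_1 D11562 (iv D10607) (iv F41808)
theorem F45490 : act 4 n11562 = n10604 := d28_1 D11562 (iv D10604) (iv F41809)
def n11563 : Q := act 3 n10604
theorem D11563 : act 3 n10604 = n11563 := rfl
theorem F45491 : act 1 n11563 = n10666 := d9_1 D11563 (iv D10666) (iv F41810)
theorem F45492 : act 5 n11563 = n10614 := d22_2 (iv F41812) D11563 (iv D10614)
theorem F45493 : act 7 n11563 = n11563 := d24_2 D10604 D11563 (iv D11563) (iv D10604) F35211
def n11564 : Q := act 8 n10605
theorem D11564 : act 8 n10605 = n11564 := rfl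
theorem F45494 : act 1 n11564 = n10622 := d14_1 D11564 (iv D10622) (iv F41813)
theorem F45495 : act 4 n11564 = n10615 := d29_1 D11564 (iv D10615) (iv F41814)
theorem F45496 : act 6 n11564 = n10606 := d34_1 D11564 (iv D10606) D10605
def n11565 : Q := act 7 n10606
theorem D11565 : act 7 n10606 = n11565 := rfl
theorem F45497 : act 1 n11565 = n10623 := d13_1 D11565 (iv D10623) (iv F41815)
theorem F45498 : act 4 n11565 = n10616 := d28_1 D11565 (iv D10616) (iv F41816)
theorem F45499 : act 5 n11565 = n10607 := d31_1 D11565 (iv D10607) (iv F41817)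
def n11566 : Q := act 3 n10607
theorem D11566 : act 3 n10607 = n11566 := rfl
theorem F45500 : act 1 n11566 = n10624 := d9_1 D11566 (iv D10624) (iv F41818)
def n11567 : Q := act 4 n10608
theorem D11567 : act 4 n10608 = n11567 := rfl
theorem F45501 : act 1 n11567 = n10670 := d10_1 D11567 (iv D10670) (iv F41820)
theorem F45502 : act 2 n11567 = n11567 := d16_1 D11567 (iv D11567) F41821
theorem F45503 : act 5 n11567 = n11567 := d26_2 D10608 D11567 (iv D11567) (iv D10608) F35221
def n11568 : Q := act 6 n10608
theorem D11568 : act 6 n10608 = n11568 := rfl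
theorem F45504 : act 1 n11568 = n10671 := d12_1 D11568 (iv D10671) (iv F41820)
theorem F45505 : act 2 n11568 = n11568 := d18_1 D11568 (iv D11568) F41821
theorem F45506 : act 3 n11568 = n10611 := d23_1 D11568 (iv D10611) (iv F41822)
theorem F45507 : act 5 n11568 = n11568 := d30_1 D11568 (iv D11568) (iv D10608) F35222 D10608
theorem F45508 : act 7 n11567 = n11568 := d13_0 F45504 F42059 (iv F45501)
def n11569 : Q := act 7 n10608
theorem D11569 : act 7 n10608 = n11569 := rfl
theorem F45509 : act 1 n11569 = n10672 := d13_1 D11569 (iv D10672) (iv F41820)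
theorem F45510 : act 2 n11569 = n11569 := d19_1 D11569 (iv D11569) F41821
theorem F45511 : act 4 n11569 = n11568 := d28_1 D11569 (iv F45508) (iv D11567)
theorem F45512 : act 5 n11569 = n10609 := d31_1 D11569 (iv D10609) D10608
theorem F45513 : act 6 n11569 = n11567 := d33_1 D11569 F45508 (iv D11568)
def n11570 : Q := act 8 n10608
theorem D11570 : act 8 n10608 = n11570 := rfl
theorem F45514 : act 1 n11570 = n10673 := d14_1 D11570 (iv D10673) (iv F41820)
theorem F45515 : act 2 n11570 = n11570 := d20_1 D11570 (iv D11570) F41821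
theorem F45516 : act 3 n11570 = n10612 := d25_1 D11570 (iv D10612) (iv F41822)
theorem F45517 : act 5 n11570 = n10610 := d32_1 D11570 (iv D10610) D10608
def n11571 : Q := act 8 n10609
theorem D11571 : act 8 n10609 = n11571 := rfl
theorem F45518 : act 0 n11571 = n11530 := d7_1 D11571 F45400 F45270
theorem F45519 : act 1 n11571 = n10674 := d14_1 D11571 (iv D10674) (iv F41823)
theorem F45520 : act 2 n11571 = n11571 := d20_1 D11571 (iv D11571) F41824
theorem F45521 : act 4 n11571 = n11571 := d29_1 D11571 (iv D11571) F41825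
theorem F45522 : act 6 n11571 = n11571 := d34_1 D11571 (iv D11571) F41826
theorem F45523 : act 7 n11483 = n11571 := d6_0 F45518 (iv D11530) (iv F45171)
def n11572 : Q := act 7 n10610
theorem D11572 : act 7 n10610 = n11572 := rfl
theorem F45524 : act 0 n11572 = n11531 := d6_1 D11572 (iv F45399) F45275
theorem F45525 : act 1 n11572 = n10675 := d13_1 D11572 (iv D10675) (iv F41827)
theorem F45526 : act 2 n11572 = n11572 := d19_1 D11572 (iv D11572) F41828
theorem F45527 : act 4 n11572 = n11572 := d28_1 D11572 (iv D11572) F41830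
theorem F45528 : act 6 n11572 = n11572 := d33_1 D11572 (iv D11572) F41831
theorem F45529 : act 8 n11572 = n11483 := d35_2 D10610 D11572 F45523 (iv D11571) (iv D10609)
theorem F45530 : act 3 n11485 = n11572 := d25_3 F45529 (iv D11483) D11485
def n11573 : Q := act 8 n10611
theorem D11573 : act 8 n10611 = n11573 := rfl
theorem F45531 : act 1 n11573 = n10676 := d14_1 D11573 (iv D10676) (iv F41832)
theorem F45532 : act 2 n11573 = n10615 := d20_1 D11573 (iv D10615) (iv F41833)
theorem F45533 : act 5 n11573 = n11573 := d32_1 D11573 (iv D11573) F41834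
theorem F45534 : act 6 n11573 = n10612 := d34_1 D11573 (iv D10612) D10611
def n11574 : Q := act 7 n10612
theorem D11574 : act 7 n10612 = n11574 := rfl
theorem F45535 : act 1 n11574 = n10677 := d13_1 D11574 (iv D10677) (iv F41835)
theorem F45536 : act 2 n11574 = n10616 := d19_1 D11574 (iv D10616) (iv F41836)
theorem F45537 : act 5 n11574 = n10613 := d31_1 D11574 (iv D10613) (iv F41837)
def n11575 : Q := act 3 n10613
theorem D11575 : act 3 n10613 = n11575 := rfl
theorem F45538 : act 0 n11575 = n11534 := d2_1 D11575 F45398 F45289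
theorem F45539 : act 1 n11575 = n10678 := d9_1 D11575 (iv D10678) (iv F41838)
theorem F45540 : act 6 n11575 = n11575 := d23_2 F41841 D11575 (iv D11575)
theorem F45541 : act 7 n11575 = n11485 := d24_2 D10613 D11575 F45530 (iv D11572) F41829
theorem F45542 : act 2 n11575 = n11487 := d37_4 D10604 F41812 (iv F41840) D11575 F45188 F41543 (iv D9113) (iv F38622) (iv D8630) F24257 F17975 F13361 (iv F38213) (iv F12939) F12938 F9982 (iv D1863) F5736 (iv F7638) (iv F10186) (iv D2528) F7601 (iv D1848) F5700 F4278 F3464 F3463 (iv F3392) (iv D768) (iv D563) F1927 (iv F2401) (iv D526) (iv F2260) F2263 F1732 D374 F38249 F2132 F1610 F1259 (iv F1655) (iv F1968) (iv F2562) (iv F3355) (iv F4440) (iv F5895) (iv F7850) F7854 F7853 F7852 (iv F10490) (iv F14062) (iv F18920) F18919 D4947 F19239 F38867 (iv F34640) (iv F41601) F41600 F41599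
theorem F45543 : act 4 n11486 = n11575 := d37_2 D10590 (iv F45185) (iv D11575) F41839 F35238 F26071 (iv D4984) (iv F19353) (iv F26129) (iv F38938) F34812 F34811 (iv F35291) (iv F41002) (iv D10393) (iv D8615) (iv D6279) F17937 (iv F38303) F13662 F10232 F7691 (iv F10134) (iv D2512) (iv F10117) F10116 (iv F13529) (iv D3412) (iv F12957) (iv D3256) F9687 F9686 (iv F7474) F7473 D1819 F7505 (iv F37984) F4878 F3677 F2876 F2184 F2187 (iv F2003) (iv F2628) (iv F3484) F3483 (iv F4594) (iv F6103) D1985 F8137 F8136 (iv F10667) (iv F14292) (iv F19237) (iv F25563) (iv D6661) F18922 (iv F25557) (iv F34601) (iv F41553) F41552 F41551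
def n11576 : Q := act 4 n10614
theorem D11576 : act 4 n10614 = n11576 := rfl
theorem F45544 : act 0 n11576 = n11535 := d3_1 D11576 F45403 F45294
theorem F45545 : act 1 n11576 = n10679 := d10_1 D11576 (iv D10679) (iv F41842)
theorem F45546 : act 2 n11576 = n11511 := d16_1 D11576 (iv F45403) F45402
theorem F45547 : act 3 n11576 = n11486 := d21_1 D11576 F45543 (iv D11575) F41840 D10614
theorem F45548 : act 6 n11576 = n11576 := d27_2 F41843 D11576 (iv D11576)
theorem F45549 : act 7 n11576 = n11576 := d28_2 F41844 D11576 (iv D11576)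
theorem F45550 : act 5 n11542 = n11576 := d22_0 F45547 F45185 D11542
def n11577 : Q := act 7 n10615
theorem D11577 : act 7 n10615 = n11577 := rfl
theorem F45551 : act 1 n11577 = n10625 := d13_1 D11577 (iv D10625) (iv F41845)
theorem F45552 : act 5 n11577 = n11577 := d31_1 D11577 (iv D11577) F41847
theorem F45553 : act 6 n11577 = n10616 := d33_1 D11577 (iv D10616) (iv F41848)
def n11578 : Q := act 3 n10616
theorem D11578 : act 3 n10616 = n11578 := rfl
theorem F45554 : act 1 n11578 = n10626 := d9_1 D11578 (iv D10626) (iv F41849)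
theorem F45555 : act 5 n11578 = n10617 := d22_2 (iv F41850) D11578 (iv D10617)
theorem F45556 : act 7 n11578 = n11578 := d24_2 D10616 D11578 (iv D11578) (iv D10616) F35236
def n11579 : Q := act 2 n10617
theorem D11579 : act 2 n10617 = n11579 := rfl
theorem F45557 : act 0 n11579 = n11538 := d1_1 D11579 F45413 F45306
theorem F45558 : act 3 n11579 = n11487 := d15_2 D10617 D11579 (iv F45542) (iv D11575) F41839
theorem F45559 : act 4 n11579 = n11514 := d16_2 F45414 D11579 (iv F45413)
theorem F45560 : act 6 n11579 = n11579 := d18_2 F41852 D11579 (iv D11579)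
theorem F45561 : act 7 n11579 = n11579 := d19_2 F41853 D11579 (iv D11579)
theorem F45562 : act 1 n11488 = n11579 := d10_3 F45559 F45307 (iv F45192)
def n11580 : Q := act 6 n10618
theorem D11580 : act 6 n10618 = n11580 := rfl
theorem F45563 : act 0 n11580 = n10628 := d5_1 D11580 (iv D10628) (iv F41854)
theorem F45564 : act 2 n11580 = n11580 := d18_1 D11580 (iv D11580) F41855
theorem F45565 : act 4 n11580 = n11580 := d27_1 D11580 (iv D11580) F41856
theorem F45566 : act 7 n11580 = n10620 := d33_2 (iv F41857) D11580 (iv D10620)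
def n11581 : Q := act 8 n10618
theorem D11581 : act 8 n10618 = n11581 := rfl
theorem F45567 : act 0 n11581 = n10629 := d7_1 D11581 (iv D10629) (iv F41854)
theorem F45568 : act 2 n11581 = n11581 := d20_1 D11581 (iv D11581) F41855
theorem F45569 : act 4 n11581 = n11581 := d29_1 D11581 (iv D11581) F41856
theorem F45570 : act 5 n11581 = n10619 := d32_1 D11581 (iv D10619) D10618
def n11582 : Q := act 7 n10622
theorem D11582 : act 7 n10622 = n11582 := rfl
theorem F45571 : act 0 n11582 = n10630 := d6_1 D11582 (iv D10630) (iv F41869)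
theorem F45572 : act 2 n11582 = n10686 := d19_1 D11582 (iv D10686) (iv F41870)
theorem F45573 : act 4 n11582 = n10625 := d28_1 D11582 (iv D10625) (iv F41871)
theorem F45574 : act 6 n11582 = n10623 := d33_1 D11582 (iv D10623) (iv F41872)
def n11583 : Q := act 3 n10623
theorem D11583 : act 3 n10623 = n11583 := rfl
theorem F45575 : act 0 n11583 = n10631 := d2_1 D11583 (iv D10631) (iv F41873)
theorem F45576 : act 5 n11583 = n10624 := d22_2 (iv F41876) D11583 (iv D10624)
def n11584 : Q := act 2 n10624
theorem D11584 : act 2 n10624 = n11584 := rfl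
theorem F45577 : act 0 n11584 = n10632 := d1_1 D11584 (iv D10632) (iv F41877)
theorem F45578 : act 3 n11584 = n10688 := d15_2 D10624 D11584 (iv D10688) (iv D9463) (iv F35310)
def n11585 : Q := act 1 n10627
theorem D11585 : act 1 n10627 = n11585 := rfl
theorem F45579 : act 0 n11585 = n11083 := d0_1 D11585 F43689 F40255 F39458 (iv F41885)
theorem F45580 : act 2 n11585 = n11488 := d8_2 D10627 D11585 F45562 (iv D11579) F41851
theorem F45581 : act 3 n11585 = n10689 := d9_2 (iv F41886) D11585 (iv D10689)
theorem F45582 : act 4 n11585 = n11522 := d10_2 F45427 D11585 (iv F45425)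
theorem F45583 : act 5 n11585 = n11079 := d11_2 F42626 D11585 F43670
theorem F45584 : act 6 n11585 = n11585 := d12_2 F41887 D11585 (iv D11585)
theorem F45585 : act 7 n11585 = n11585 := d13_2 F41888 D11585 (iv D11585)
def n11586 : Q := act 8 n10628
theorem D11586 : act 8 n10628 = n11586 := rfl
theorem F45586 : act 2 n11586 = n11586 := d20_1 D11586 (iv D11586) F41889
theorem F45587 : act 4 n11586 = n11586 := d29_1 D11586 (iv D11586) F41890
theorem F45588 : act 6 n11586 = n10629 := d34_1 D11586 (iv D10629) D10628
def n11587 : Q := act 3 n10633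
theorem D11587 : act 3 n10633 = n11587 := rfl
theorem F45589 : act 0 n11587 = n11587 := d2_1 D11587 (iv D11587) F41900
theorem F45590 : act 1 n11587 = n10861 := d9_1 D11587 (iv F43783) F43782
theorem F45591 : act 2 n11587 = n10815 := d15_1 D11587 (iv D10815) (iv F40163) F40164 (iv F41901)
theorem F45592 : act 5 n11587 = n10817 := d22_2 F43643 D11587 (iv F43642)
theorem F45593 : act 6 n11587 = n10634 := d23_2 (iv F41902) D11587 (iv D10634)
theorem F45594 : act 7 n11587 = n11587 := d24_2 D10633 D11587 (iv D11587) (iv D10633) F35396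
def n11588 : Q := act 8 n10633
theorem D11588 : act 8 n10633 = n11588 := rfl
theorem F45595 : act 0 n11588 = n11588 := d7_1 D11588 (iv D11588) F41900
theorem F45596 : act 2 n11588 = n10636 := d20_1 D11588 (iv D10636) (iv F41901)
theorem F45597 : act 6 n11588 = n10635 := d34_1 D11588 (iv D10635) (iv F41902)
theorem F45598 : act 7 n11588 = n10647 := d35_1 D11588 (iv D10647) (iv D9426) (iv F35397) D10633
def n11589 : Q := act 2 n10634
theorem D11589 : act 2 n10634 = n11589 := rfl
theorem F45599 : act 0 n11589 = n11589 := d1_1 D11589 (iv D11589) F41903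
theorem F45600 : act 1 n11589 = n10821 := d8_1 D11589 F42589 (iv F42779) (iv F45359) F45358
theorem F45601 : act 3 n11589 = n10637 := d15_2 D10634 D11589 (iv D10637) (iv D9366) (iv F35399)
theorem F45602 : act 5 n11589 = n11589 := d17_2 F41904 D11589 (iv D11589)
theorem F45603 : act 6 n11589 = n10815 := d18_2 F45593 D11589 (iv F45591)
theorem F45604 : act 7 n11589 = n11589 := d19_2 F41905 D11589 (iv D11589)
def n11590 : Q := act 4 n10634
theorem D11590 : act 4 n10634 = n11590 := rfl
theorem F45605 : act 0 n11590 = n11590 := d3_1 D11590 (iv D11590) F41903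
theorem F45606 : act 7 n11590 = n11590 := d28_2 F41905 D11590 (iv D11590)
def n11591 : Q := act 8 n10634
theorem D11591 : act 8 n10634 = n11591 := rfl
theorem F45607 : act 0 n11591 = n11591 := d7_1 D11591 (iv D11591) F41903
theorem F45608 : act 3 n11591 = n10635 := d25_1 D11591 (iv D10635) D10634
theorem F45609 : act 5 n11591 = n11591 := d32_1 D11591 (iv D11591) F41904
def n11592 : Q := act 8 n10637
theorem D11592 : act 8 n10637 = n11592 := rfl
theorem F45610 : act 0 n11592 = n11592 := d7_1 D11592 (iv D11592) F41914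
theorem F45611 : act 1 n11592 = n10822 := d14_1 D11592 (iv D10822) (iv F41915)
theorem F45612 : act 2 n11592 = n10639 := d20_1 D11592 (iv D10639) D10637
theorem F45613 : act 4 n11592 = n11447 := d29_1 D11592 F45020 (iv F42102)
theorem F45614 : act 5 n11592 = n11592 := d32_1 D11592 (iv D11592) F41916
theorem F45615 : act 6 n11592 = n10816 := d34_1 D11592 (iv D10816) (iv F41917)
theorem F45616 : act 7 n11592 = n11592 := d35_1 D11592 (iv D11592) F41918 F35431 (iv F41918)
def n11593 : Q := act 8 n10638
theorem D11593 : act 8 n10638 = n11593 := rfl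
theorem F45617 : act 0 n11593 = n11593 := d7_1 D11593 (iv D11593) F41919
theorem F45618 : act 1 n11593 = n10642 := d14_1 D11593 (iv D10642) (iv F41920)
theorem F45619 : act 2 n11593 = n11447 := d20_1 D11593 F45020 F42101
theorem F45620 : act 4 n11593 = n10639 := d29_1 D11593 (iv D10639) D10638
theorem F45621 : act 5 n11593 = n11448 := d32_1 D11593 F45025 F42106
theorem F45622 : act 7 n11593 = n11593 := d35_1 D11593 (iv D11593) F41921 F35435 (iv F41921)
def n11594 : Q := act 8 n10641
theorem D11594 : act 8 n10641 = n11594 := rfl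
theorem F45623 : act 0 n11594 = n10643 := d7_1 D11594 (iv D10643) (iv F41933)
theorem F45624 : act 1 n11594 = n11448 := d14_1 D11594 F45025 F42109
theorem F45625 : act 2 n11594 = n11466 := d20_1 D11594 F45102 F42132
theorem F45626 : act 3 n11594 = n10652 := d25_1 D11594 (iv D10652) (iv F41934)
theorem F45627 : act 4 n11594 = n11594 := d29_1 D11594 (iv D11594) F41935
theorem F45628 : act 5 n11594 = n10642 := d32_1 D11594 (iv D10642) D10641
theorem F45629 : act 6 n11594 = n11594 := d34_1 D11594 (iv D11594) F41936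
theorem F45630 : act 7 n11594 = n11594 := d35_1 D11594 (iv D11594) F41937 F35514 (iv F41937)
def n11595 : Q := act 8 n10645
theorem D11595 : act 8 n10645 = n11595 := rfl
theorem F45631 : act 0 n11595 = n11595 := d7_1 D11595 (iv D11595) F41950
theorem F45632 : act 2 n11595 = n10651 := d20_1 D11595 (iv D10651) (iv F41951)
theorem F45633 : act 3 n11595 = n11445 := d25_1 D11595 F45010 F42089
theorem F45634 : act 4 n11595 = n11444 := d29_1 D11595 F45006 (iv F42086)
theorem F45635 : act 5 n11595 = n10647 := d32_1 D11595 (iv D10647) (iv F41952)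
theorem F45636 : act 6 n11595 = n11595 := d34_1 D11595 (iv D11595) F41953
def n11596 : Q := act 4 n10646
theorem D11596 : act 4 n10646 = n11596 := rfl
theorem F45637 : act 0 n11596 = n11596 := d3_1 D11596 (iv D11596) F41954
theorem F45638 : act 2 n11596 = n11596 := d16_1 D11596 (iv D11596) F41955
theorem F45639 : act 6 n11596 = n10648 := d27_2 (iv F41956) D11596 (iv D10648)
theorem F45640 : act 7 n11596 = n11596 := d28_2 F41957 D11596 (iv D11596)
def n11597 : Q := act 8 n10646
theorem D11597 : act 8 n10646 = n11597 := rfl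
theorem F45641 : act 0 n11597 = n11597 := d7_1 D11597 (iv D11597) F41954
theorem F45642 : act 2 n11597 = n11597 := d20_1 D11597 (iv D11597) F41955
theorem F45643 : act 3 n11597 = n10647 := d25_1 D11597 (iv D10647) D10646
theorem F45644 : act 5 n11597 = n11445 := d32_1 D11597 F45010 (iv F42092)
theorem F45645 : act 6 n11597 = n10649 := d34_1 D11597 (iv D10649) (iv F41956)
def n11598 : Q := act 5 n10648
theorem D11598 : act 5 n10648 = n11598 := rfl
theorem F45646 : act 0 n11598 = n11598 := d4_1 D11598 (iv D11598) F41961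
theorem F45647 : act 2 n11598 = n11598 := d17_1 D11598 (iv D11598) F41962
theorem F45648 : act 4 n11598 = n11598 := d26_1 D11598 (iv D11598) (iv D10648) F35652 D10648
theorem F45649 : act 7 n11598 = n11598 := d31_2 F41963 D11598 (iv D11598)
def n11599 : Q := act 8 n10648
theorem D11599 : act 8 n10648 = n11599 := rfl
theorem F45650 : act 0 n11599 = n11599 := d7_1 D11599 (iv D11599) F41961
theorem F45651 : act 2 n11599 = n11599 := d20_1 D11599 (iv D11599) F41962
theorem F45652 : act 4 n11599 = n10649 := d29_1 D11599 (iv D10649) D10648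
def n11600 : Q := act 7 n10649
theorem D11600 : act 7 n10649 = n11600 := rfl
theorem F45653 : act 0 n11600 = n11600 := d6_1 D11600 (iv D11600) F41964
theorem F45654 : act 2 n11600 = n11600 := d19_1 D11600 (iv D11600) F41965
theorem F45655 : act 5 n11600 = n11600 := d31_1 D11600 (iv D11600) F41967
theorem F45656 : act 8 n11600 = n11600 := d35_2 D10649 D11600 (iv D11600) (iv D10649) F35653
def n11601 : Q := act 8 n10650
theorem D11601 : act 8 n10650 = n11601 := rfl
theorem F45657 : act 0 n11601 = n11601 := d7_1 D11601 (iv D11601) F41968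
theorem F45658 : act 1 n11601 = n10652 := d14_1 D11601 (iv D10652) (iv F41969)
theorem F45659 : act 2 n11601 = n11444 := d20_1 D11601 F45006 F42085
theorem F45660 : act 3 n11601 = n11448 := d25_1 D11601 F45025 F42104
theorem F45661 : act 4 n11601 = n10651 := d29_1 D11601 (iv D10651) (iv F41970)
theorem F45662 : act 6 n11601 = n11601 := d34_1 D11601 (iv D11601) F41971
def n11602 : Q := act 5 n10653
theorem D11602 : act 5 n10653 = n11602 := rfl
theorem F45663 : act 0 n11602 = n11602 := d4_1 D11602 (iv D11602) F41980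
theorem F45664 : act 2 n11602 = n11602 := d17_1 D11602 (iv D11602) F41981
theorem F45665 : act 3 n11602 = n10654 := d22_1 D11602 (iv D10654) D10653
def n11603 : Q := act 7 n10653
theorem D11603 : act 7 n10653 = n11603 := rfl
theorem F45666 : act 0 n11603 = n11603 := d6_1 D11603 (iv D11603) F41980
theorem F45667 : act 2 n11603 = n11603 := d19_1 D11603 (iv D11603) F41981
theorem F45668 : act 4 n11603 = n11603 := d28_1 D11603 (iv D11603) F41982
theorem F45669 : act 6 n11603 = n10661 := d33_1 D11603 (iv D10661) (iv F41983)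
def n11604 : Q := act 8 n10653
theorem D11604 : act 8 n10653 = n11604 := rfl
theorem F45670 : act 0 n11604 = n11604 := d7_1 D11604 (iv D11604) F41980
theorem F45671 : act 2 n11604 = n11604 := d20_1 D11604 (iv D11604) F41981
theorem F45672 : act 3 n11604 = n10655 := d25_1 D11604 (iv D10655) D10653
theorem F45673 : act 4 n11604 = n11604 := d29_1 D11604 (iv D11604) F41982
theorem F45674 : act 6 n11604 = n10662 := d34_1 D11604 (iv D10662) (iv F41983)
def n11605 : Q := act 6 n10654
theorem D11605 : act 6 n10654 = n11605 := rfl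
theorem F45675 : act 0 n11605 = n11605 := d5_1 D11605 (iv D11605) F41984
theorem F45676 : act 2 n11605 = n10657 := d18_1 D11605 (iv D10657) (iv F41985)
theorem F45677 : act 4 n11605 = n11605 := d27_1 D11605 (iv D11605) F41986
theorem F45678 : act 5 n11605 = n10663 := d30_1 D11605 (iv D10663) (iv D9442) (iv F35686) D10654
def n11606 : Q := act 8 n10654
theorem D11606 : act 8 n10654 = n11606 := rfl
theorem F45679 : act 0 n11606 = n11606 := d7_1 D11606 (iv D11606) F41984
theorem F45680 : act 2 n11606 = n10658 := d20_1 D11606 (iv D10658) (iv F41985)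
theorem F45681 : act 4 n11606 = n11606 := d29_1 D11606 (iv D11606) F41986
theorem F45682 : act 5 n11606 = n10655 := d32_1 D11606 (iv D10655) D10654
def n11607 : Q := act 7 n10655
theorem D11607 : act 7 n10655 = n11607 := rfl
theorem F45683 : act 0 n11607 = n11607 := d6_1 D11607 (iv D11607) F41987
theorem F45684 : act 2 n11607 = n10659 := d19_1 D11607 (iv D10659) (iv F41988)
theorem F45685 : act 4 n11607 = n10656 := d28_1 D11607 (iv D10656) (iv F41989)
theorem F45686 : act 6 n11607 = n10665 := d33_1 D11607 (iv D10665) (iv F41990)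
def n11608 : Q := act 3 n10656
theorem D11608 : act 3 n10656 = n11608 := rfl
theorem F45687 : act 0 n11608 = n11608 := d2_1 D11608 (iv D11608) F41991
theorem F45688 : act 2 n11608 = n11608 := d15_1 D11608 (iv D11608) F41992 F35703 (iv F41992)
theorem F45689 : act 5 n11608 = n11608 := d22_2 F41993 D11608 (iv D11608)
theorem F45690 : act 6 n11608 = n10666 := d23_2 (iv F41994) D11608 (iv D10666)
theorem F45691 : act 7 n11608 = n11608 := d24_2 D10656 D11608 (iv D11608) (iv D10656) F35689
def n11609 : Q := act 8 n10657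
theorem D11609 : act 8 n10657 = n11609 := rfl
theorem F45692 : act 0 n11609 = n11609 := d7_1 D11609 (iv D11609) F41995
theorem F45693 : act 1 n11609 = n10683 := d14_1 D11609 (iv D10683) (iv F41996)
theorem F45694 : act 3 n11609 = n11609 := d25_1 D11609 (iv D11609) F41997
theorem F45695 : act 4 n11609 = n11609 := d29_1 D11609 (iv D11609) F41998
theorem F45696 : act 5 n11609 = n10667 := d32_1 D11609 (iv D10667) (iv F41999)
theorem F45697 : act 6 n11609 = n10658 := d34_1 D11609 (iv D10658) D10657
def n11610 : Q := act 7 n10658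
theorem D11610 : act 7 n10658 = n11610 := rfl
theorem F45698 : act 0 n11610 = n11610 := d6_1 D11610 (iv D11610) F42000
theorem F45699 : act 1 n11610 = n10684 := d13_1 D11610 (iv D10684) (iv F42001)
theorem F45700 : act 4 n11610 = n11610 := d28_1 D11610 (iv D11610) F42003
theorem F45701 : act 5 n11610 = n10659 := d31_1 D11610 (iv D10659) (iv F42004)
def n11611 : Q := act 3 n10659
theorem D11611 : act 3 n10659 = n11611 := rfl
theorem F45702 : act 0 n11611 = n11611 := d2_1 D11611 (iv D11611) F42005
theorem F45703 : act 1 n11611 = n10685 := d9_1 D11611 (iv D10685) (iv F42006)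
theorem F45704 : act 4 n11611 = n11611 := d21_2 (iv F42007) D11611 (iv D11611) F42007 F35703
theorem F45705 : act 6 n11611 = n10669 := d23_2 (iv F42008) D11611 (iv D10669)
theorem F45706 : act 7 n11611 = n11611 := d24_2 D10659 D11611 (iv D11611) (iv D10659) F35698
def n11612 : Q := act 4 n10660
theorem D11612 : act 4 n10660 = n11612 := rfl
theorem F45707 : act 0 n11612 = n11612 := d3_1 D11612 (iv D11612) F42009
theorem F45708 : act 2 n11612 = n11612 := d16_1 D11612 (iv D11612) F42010
theorem F45709 : act 3 n11612 = n10670 := d21_1 D11612 (iv D10670) F35732 (iv F35711) (iv F42011)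
theorem F45710 : act 5 n11612 = n11612 := d26_2 D10660 D11612 (iv D11612) (iv D10660) F35708
theorem F45711 : act 6 n11438 = n11612 := d23_0 F45709 F42058 (iv F44983)
theorem F45712 : act 7 n11437 = n11612 := d24_0 F45709 (iv F42059) F42051 (iv F41321) (iv F44979)
def n11613 : Q := act 6 n10660
theorem D11613 : act 6 n10660 = n11613 := rfl
theorem F45713 : act 0 n11613 = n11613 := d5_1 D11613 (iv D11613) F42009
theorem F45714 : act 2 n11613 = n11613 := d18_1 D11613 (iv D11613) F42010
theorem F45715 : act 3 n11613 = n10663 := d23_1 D11613 (iv D10663) (iv F42011)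
theorem F45716 : act 4 n11613 = n11438 := d27_1 D11613 F45711 (iv D11612)
theorem F45717 : act 7 n11436 = n11613 := d28_0 F45716 (iv D11438) D11436
def n11614 : Q := act 7 n10660
theorem D11614 : act 7 n10660 = n11614 := rfl
theorem F45718 : act 0 n11614 = n11614 := d6_1 D11614 (iv D11614) F42009
theorem F45719 : act 2 n11614 = n11614 := d19_1 D11614 (iv D11614) F42010
theorem F45720 : act 4 n11614 = n11437 := d28_1 D11614 F45712 (iv D11612)
theorem F45721 : act 5 n11614 = n10661 := d31_1 D11614 (iv D10661) D10660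
theorem F45722 : act 6 n11614 = n11436 := d33_1 D11614 F45717 (iv D11613)
def n11615 : Q := act 8 n10660
theorem D11615 : act 8 n10660 = n11615 := rfl
theorem F45723 : act 0 n11615 = n11615 := d7_1 D11615 (iv D11615) F42009
theorem F45724 : act 2 n11615 = n11615 := d20_1 D11615 (iv D11615) F42010
theorem F45725 : act 3 n11615 = n10664 := d25_1 D11615 (iv D10664) (iv F42011)
theorem F45726 : act 5 n11615 = n10662 := d32_1 D11615 (iv D10662) D10660
def n11616 : Q := act 8 n10661
theorem D11616 : act 8 n10661 = n11616 := rfl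
theorem F45727 : act 0 n11616 = n11616 := d7_1 D11616 (iv D11616) F42012
theorem F45728 : act 2 n11616 = n11616 := d20_1 D11616 (iv D11616) F42013
theorem F45729 : act 4 n11616 = n11616 := d29_1 D11616 (iv D11616) F42014
def n11617 : Q := act 7 n10662
theorem D11617 : act 7 n10662 = n11617 := rfl
theorem F45730 : act 0 n11617 = n11617 := d6_1 D11617 (iv D11617) F42015
theorem F45731 : act 2 n11617 = n11617 := d19_1 D11617 (iv D11617) F42016
theorem F45732 : act 4 n11617 = n11617 := d28_1 D11617 (iv D11617) F42018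
def n11618 : Q := act 8 n10663
theorem D11618 : act 8 n10663 = n11618 := rfl
theorem F45733 : act 0 n11618 = n11618 := d7_1 D11618 (iv D11618) F42019
theorem F45734 : act 2 n11618 = n10667 := d20_1 D11618 (iv D10667) (iv F42020)
theorem F45735 : act 4 n11618 = n10676 := d29_1 D11618 (iv D10676) (iv F42021)
theorem F45736 : act 6 n11618 = n10664 := d34_1 D11618 (iv D10664) D10663
def n11619 : Q := act 7 n10664
theorem D11619 : act 7 n10664 = n11619 := rfl
theorem F45737 : act 0 n11619 = n11619 := d6_1 D11619 (iv D11619) F42022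
theorem F45738 : act 2 n11619 = n10668 := d19_1 D11619 (iv D10668) (iv F42023)
theorem F45739 : act 4 n11619 = n10677 := d28_1 D11619 (iv D10677) (iv F42024)
theorem F45740 : act 5 n11619 = n10665 := d31_1 D11619 (iv D10665) (iv F42025)
def n11620 : Q := act 3 n10665
theorem D11620 : act 3 n10665 = n11620 := rfl
theorem F45741 : act 0 n11620 = n11620 := d2_1 D11620 (iv D11620) F42026
def n11621 : Q := act 4 n10666
theorem D11621 : act 4 n10666 = n11621 := rfl
theorem F45742 : act 0 n11621 = n11621 := d3_1 D11621 (iv D11621) F42029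
theorem F45743 : act 2 n11621 = n11621 := d16_1 D11621 (iv D11621) F42030
theorem F45744 : act 5 n11621 = n11596 := d26_2 (iv F42031) D11621 (iv D11596) F42092 (iv D10679)
theorem F45745 : act 7 n11621 = n11621 := d28_2 F42032 D11621 (iv D11621)
def n11622 : Q := act 7 n10667
theorem D11622 : act 7 n10667 = n11622 := rfl
theorem F45746 : act 0 n11622 = n11622 := d6_1 D11622 (iv D11622) F42033
theorem F45747 : act 1 n11622 = n10686 := d13_1 D11622 (iv D10686) (iv F42034)
theorem F45748 : act 4 n11622 = n10680 := d28_1 D11622 (iv D10680) (iv F42036)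
theorem F45749 : act 6 n11622 = n10668 := d33_1 D11622 (iv D10668) (iv F42037)
def n11623 : Q := act 3 n10668
theorem D11623 : act 3 n10668 = n11623 := rfl
theorem F45750 : act 0 n11623 = n11623 := d2_1 D11623 (iv D11623) F42038
theorem F45751 : act 1 n11623 = n10687 := d9_1 D11623 (iv D10687) (iv F42039)
theorem F45752 : act 4 n11623 = n11589 := d21_2 (iv F42040) D11623 F45601 F42102 (iv D10681)
theorem F45753 : act 5 n11623 = n10669 := d22_2 (iv F42041) D11623 (iv D10669)
theorem F45754 : act 7 n11623 = n11623 := d24_2 D10668 D11623 (iv D11623) (iv D10668) F35724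
theorem F45755 : act 2 n11590 = n11623 := d16_3 F45752 (iv D11589) D11590
def n11624 : Q := act 2 n10669
theorem D11624 : act 2 n10669 = n11624 := rfl
theorem F45756 : act 0 n11624 = n11624 := d1_1 D11624 (iv D11624) F42042
theorem F45757 : act 4 n11624 = n11624 := d16_2 F42044 D11624 (iv D11624)
theorem F45758 : act 5 n11624 = n11590 := d17_2 F45753 D11624 F45755
theorem F45759 : act 7 n11624 = n11624 := d19_2 F42045 D11624 (iv D11624)
def n11625 : Q := act 8 n10670
theorem D11625 : act 8 n10670 = n11625 := rfl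
theorem F45760 : act 0 n11625 = n11625 := d7_1 D11625 (iv D11625) F42046
theorem F45761 : act 2 n11625 = n10693 := d20_1 D11625 (iv D10693) (iv F42047)
theorem F45762 : act 4 n11625 = n10673 := d29_1 D11625 (iv D10673) D10670
theorem F45763 : act 5 n11625 = n11625 := d32_1 D11625 (iv D11625) F42048
def n11626 : Q := act 8 n10671
theorem D11626 : act 8 n10671 = n11626 := rfl
theorem F45764 : act 0 n11626 = n11626 := d7_1 D11626 (iv D11626) F42049
theorem F45765 : act 2 n11626 = n10694 := d20_1 D11626 (iv D10694) (iv F42050)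
theorem F45766 : act 3 n11626 = n10676 := d25_1 D11626 (iv D10676) (iv F42051)
theorem F45767 : act 5 n11626 = n11626 := d32_1 D11626 (iv D11626) F42052
theorem F45768 : act 6 n11626 = n10673 := d34_1 D11626 (iv D10673) D10671
def n11627 : Q := act 8 n10672
theorem D11627 : act 8 n10672 = n11627 := rfl
theorem F45769 : act 0 n11627 = n11627 := d7_1 D11627 (iv D11627) F42053
theorem F45770 : act 2 n11627 = n10695 := d20_1 D11627 (iv D10695) (iv F42054)
theorem F45771 : act 4 n11627 = n11626 := d29_1 D11627 (iv D11626) (iv F42056)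
theorem F45772 : act 5 n11627 = n10674 := d32_1 D11627 (iv D10674) (iv F42055)
theorem F45773 : act 6 n11627 = n11625 := d34_1 D11627 (iv D11625) F42058
def n11628 : Q := act 7 n10673
theorem D11628 : act 7 n10673 = n11628 := rfl
theorem F45774 : act 0 n11628 = n11628 := d6_1 D11628 (iv D11628) F42062
theorem F45775 : act 2 n11628 = n10696 := d19_1 D11628 (iv D10696) (iv F42063)
theorem F45776 : act 5 n11628 = n10675 := d31_1 D11628 (iv D10675) (iv F42065)
theorem F45777 : act 3 n11396 = n11628 := d22_3 F45776 (iv F42074) (iv F44816)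
def n11629 : Q := act 7 n10674
theorem D11629 : act 7 n10674 = n11629 := rfl
theorem F45778 : act 0 n11629 = n11629 := d6_1 D11629 (iv D11629) F42066
theorem F45779 : act 1 n11629 = n11483 := d13_1 D11629 F45523 F45519
theorem F45780 : act 2 n11629 = n10697 := d19_1 D11629 (iv D10697) (iv F42067)
theorem F45781 : act 4 n11629 = n11629 := d28_1 D11629 (iv D11629) F42068
theorem F45782 : act 6 n11629 = n11629 := d33_1 D11629 (iv D11629) F42069
theorem F45783 : act 8 n11629 = n10675 := d35_2 D10674 D11629 (iv D10675) (iv D9450) D9449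
theorem F45784 : act 3 n11482 = n11629 := d25_3 F45783 (iv F42074) (iv F45170)
def n11630 : Q := act 7 n10676
theorem D11630 : act 7 n10676 = n11630 := rfl
theorem F45785 : act 0 n11630 = n11630 := d6_1 D11630 (iv D11630) F42075
theorem F45786 : act 2 n11630 = n10680 := d19_1 D11630 (iv D10680) (iv F42076)
theorem F45787 : act 5 n11630 = n11630 := d31_1 D11630 (iv D11630) F42077
theorem F45788 : act 6 n11630 = n10677 := d33_1 D11630 (iv D10677) (iv F42078)
def n11631 : Q := act 3 n10677
theorem D11631 : act 3 n10677 = n11631 := rfl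
theorem F45789 : act 0 n11631 = n11631 := d2_1 D11631 (iv D11631) F42079
theorem F45790 : act 2 n11631 = n11394 := d15_1 D11631 F44807 (iv F42101) (iv D10681) (iv F42080)
theorem F45791 : act 5 n11631 = n10678 := d22_2 (iv F42081) D11631 (iv D10678)
theorem F45792 : act 7 n11631 = n11396 := d24_2 D10677 D11631 F45777 (iv D11628) F42064
theorem F45793 : act 4 n11393 = n11631 := d37_2 D10448 (iv F44803) (iv D11631) F42080 F35762 F26440 (iv D5057) F14588 F10906 F8160 F6130 F4602 F3492 F3496 (iv F4614) F4613 (iv F6002) (iv F7888) (iv F10527) (iv F14087) F38836 F38757 F13993 F38706 (iv F14505) (iv F19523) F19522 F19527 (iv D5025) F14497 (iv F13514) (iv F37865) F13517 F10092 (iv D1834) (iv D1343) (iv F5464) F5463 (iv D1291) F4111 (iv F3208) D979 (iv F5647) (iv F7517) (iv F38205) (iv F13210) (iv F17772) (iv F23906) D8488 F32367 F23910 F17738 (iv F23888) (iv F32298) F32297 (iv D6267) F17919 (iv F24175) (iv F32725) (iv F40880) F40879 F33294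
def n11632 : Q := act 7 n10683
theorem D11632 : act 7 n10683 = n11632 := rfl
theorem F45794 : act 0 n11632 = n10690 := d6_1 D11632 (iv D10690) (iv F42110)
theorem F45795 : act 4 n11632 = n11632 := d28_1 D11632 (iv D11632) F42112
theorem F45796 : act 5 n11632 = n10686 := d31_1 D11632 (iv D10686) (iv F42113)
theorem F45797 : act 6 n11632 = n10684 := d33_1 D11632 (iv D10684) (iv F42114)
def n11633 : Q := act 3 n10684
theorem D11633 : act 3 n10684 = n11633 := rfl
theorem F45798 : act 0 n11633 = n10691 := d2_1 D11633 (iv D10691) (iv F42115)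
theorem F45799 : act 5 n11633 = n10685 := d22_2 (iv F42117) D11633 (iv D10685)
theorem F45800 : act 7 n11633 = n11633 := d24_2 D10684 D11633 (iv D11633) (iv D10684) F35774
def n11634 : Q := act 2 n10685
theorem D11634 : act 2 n10685 = n11634 := rfl
theorem F45801 : act 0 n11634 = n10692 := d1_1 D11634 (iv D10692) (iv F42118)
theorem F45802 : act 4 n11634 = n11634 := d16_2 F42119 D11634 (iv D11634)
theorem F45803 : act 6 n11634 = n10688 := d18_2 (iv F42120) D11634 (iv D10688)
theorem F45804 : act 7 n11634 = n11634 := d19_2 F42121 D11634 (iv D11634)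
def n11635 : Q := act 1 n10688
theorem D11635 : act 1 n10688 = n11635 := rfl
theorem F45805 : act 4 n11635 = n11635 := d10_2 F42129 D11635 (iv D11635)
theorem F45806 : act 7 n11635 = n11635 := d13_2 F42130 D11635 (iv D11635)
def n11636 : Q := act 7 n10694
theorem D11636 : act 7 n10694 = n11636 := rfl
theorem F45807 : act 0 n11636 = n11636 := d6_1 D11636 (iv D11636) F42152
theorem F45808 : act 1 n11636 = n11636 := d13_1 D11636 (iv D11636) F42153
theorem F45809 : act 3 n11636 = n11052 := d24_1 D11636 (iv F43527) F42179 (iv D10698) (iv F42154)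
theorem F45810 : act 5 n11636 = n11636 := d31_1 D11636 (iv D11636) F42155
theorem F45811 : act 6 n11636 = n10696 := d33_1 D11636 (iv D10696) (iv F42156)
theorem F45812 : act 8 n11636 = n11051 := d35_2 D10694 D11636 (iv F43520) (iv D10693) F42060
def n11637 : Q := act 7 n10695
theorem D11637 : act 7 n10695 = n11637 := rfl
theorem F45813 : act 0 n11637 = n11637 := d6_1 D11637 (iv D11637) F42157
theorem F45814 : act 1 n11637 = n11637 := d13_1 D11637 (iv D11637) F42158
theorem F45815 : act 4 n11637 = n11636 := d28_1 D11637 (iv D11636) (iv F42160)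
theorem F45816 : act 5 n11637 = n10697 := d31_1 D11637 (iv D10697) (iv F42161)
theorem F45817 : act 6 n11637 = n11051 := d33_1 D11637 (iv F43520) (iv F42162)
theorem F45818 : act 8 n11637 = n10696 := d35_2 D10695 D11637 (iv D10696) (iv D9480) D9479
theorem F45819 : act 3 n11050 = n11637 := d25_3 F45818 F42165 (iv F43515)
def n11638 : Q := act 7 n10700
theorem D11638 : act 7 n10700 = n11638 := rfl
theorem F45820 : act 0 n11638 = n10741 := d6_1 D11638 (iv D10741) (iv F42187)
theorem F45821 : act 1 n11638 = n11638 := d13_1 D11638 (iv D11638) F42188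
theorem F45822 : act 2 n11638 = n10701 := d19_1 D11638 (iv D10701) D10700
theorem F45823 : act 4 n11638 = n11638 := d28_1 D11638 (iv D11638) F42190
def n11639 : Q := act 3 n10701
theorem D11639 : act 3 n10701 = n11639 := rfl
theorem F45824 : act 0 n11639 = n10742 := d2_1 D11639 (iv D10742) (iv F42191)
theorem F45825 : act 1 n11639 = n10712 := d9_1 D11639 (iv D10712) (iv F42192)
theorem F45826 : act 7 n11639 = n10702 := d24_2 D10701 D11639 (iv D10702) (iv D9875) D9874
def n11640 : Q := act 8 n10701
theorem D11640 : act 8 n10701 = n11640 := rfl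
theorem F45827 : act 0 n11640 = n10743 := d7_1 D11640 (iv D10743) (iv F42191)
theorem F45828 : act 1 n11640 = n10713 := d14_1 D11640 (iv D10713) (iv F42192)
theorem F45829 : act 4 n11640 = n11640 := d29_1 D11640 (iv D11640) F42193
def n11641 : Q := act 2 n10702
theorem D11641 : act 2 n10702 = n11641 := rfl
theorem F45830 : act 0 n11641 = n10744 := d1_1 D11641 (iv D10744) (iv F42194)
theorem F45831 : act 3 n11641 = n11149 := d15_2 D10702 D11641 (iv D11149) (iv D10240) (iv F39052)
def n11642 : Q := act 4 n10702
theorem D11642 : act 4 n10702 = n11642 := rfl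
theorem F45832 : act 0 n11642 = n10745 := d3_1 D11642 (iv D10745) (iv F42194)
theorem F45833 : act 1 n11642 = n10715 := d10_1 D11642 (iv D10715) (iv F42195)
theorem F45834 : act 3 n11642 = n10705 := d21_1 D11642 (iv D10705) (iv D9876) (iv F39053) D10702
def n11643 : Q := act 8 n10702
theorem D11643 : act 8 n10702 = n11643 := rfl
theorem F45835 : act 0 n11643 = n10746 := d7_1 D11643 (iv D10746) (iv F42194)
theorem F45836 : act 1 n11643 = n10716 := d14_1 D11643 (iv D10716) (iv F42195)
theorem F45837 : act 3 n11643 = n10703 := d25_1 D11643 (iv D10703) D10702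
def n11644 : Q := act 4 n10704
theorem D11644 : act 4 n10704 = n11644 := rfl
theorem F45838 : act 0 n11644 = n10747 := d3_1 D11644 (iv D10747) (iv F42200)
theorem F45839 : act 1 n11644 = n11644 := d10_1 D11644 (iv D11644) F42201
theorem F45840 : act 2 n11644 = n10705 := d16_1 D11644 (iv D10705) D10704
theorem F45841 : act 7 n11644 = n11644 := d28_2 F42204 D11644 (iv D11644)
def n11645 : Q := act 8 n10704
theorem D11645 : act 8 n10704 = n11645 := rfl
theorem F45842 : act 0 n11645 = n10748 := d7_1 D11645 (iv D10748) (iv F42200)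
theorem F45843 : act 1 n11645 = n11645 := d14_1 D11645 (iv D11645) F42201
theorem F45844 : act 2 n11645 = n10706 := d20_1 D11645 (iv D10706) D10704
theorem F45845 : act 3 n11645 = n11156 := d25_1 D11645 (iv D11156) (iv F42202)
theorem F45846 : act 5 n11645 = n10708 := d32_1 D11645 (iv D10708) (iv F42203)
def n11646 : Q := act 5 n10705
theorem D11646 : act 5 n10705 = n11646 := rfl
theorem F45847 : act 0 n11646 = n10749 := d4_1 D11646 (iv D10749) (iv F42205)
theorem F45848 : act 1 n11646 = n10717 := d11_1 D11646 (iv D10717) (iv F42206)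
theorem F45849 : act 4 n11646 = n10709 := d26_1 D11646 (iv D10709) (iv D9879) (iv F39056) D10705
theorem F45850 : act 7 n11646 = n11646 := d31_2 F42207 D11646 (iv D11646)
def n11647 : Q := act 8 n10705
theorem D11647 : act 8 n10705 = n11647 := rfl
theorem F45851 : act 0 n11647 = n10750 := d7_1 D11647 (iv D10750) (iv F42205)
theorem F45852 : act 1 n11647 = n10718 := d14_1 D11647 (iv D10718) (iv F42206)
theorem F45853 : act 4 n11647 = n10706 := d29_1 D11647 (iv D10706) D10705
def n11648 : Q := act 7 n10706
theorem D11648 : act 7 n10706 = n11648 := rfl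
theorem F45854 : act 0 n11648 = n10751 := d6_1 D11648 (iv D10751) (iv F42208)
theorem F45855 : act 1 n11648 = n10719 := d13_1 D11648 (iv D10719) (iv F42209)
theorem F45856 : act 5 n11648 = n10711 := d31_1 D11648 (iv D10711) (iv F42211)
theorem F45857 : act 8 n11648 = n11648 := d35_2 D10706 D11648 (iv D11648) (iv D10706) F39057
def n11649 : Q := act 3 n10707
theorem D11649 : act 3 n10707 = n11649 := rfl
theorem F45858 : act 0 n11649 = n10752 := d2_1 D11649 (iv D10752) (iv F42212)
theorem F45859 : act 1 n11649 = n11649 := d9_1 D11649 (iv D11649) F42213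
theorem F45860 : act 4 n11649 = n11160 := d21_2 D10707 D11649 (iv D11160) (iv D10247) (iv F39064)
theorem F45861 : act 6 n11649 = n11649 := d23_2 F42215 D11649 (iv D11649)
def n11650 : Q := act 5 n10707
theorem D11650 : act 5 n10707 = n11650 := rfl
theorem F45862 : act 0 n11650 = n10753 := d4_1 D11650 (iv D10753) (iv F42212)
theorem F45863 : act 1 n11650 = n11650 := d11_1 D11650 (iv D11650) F42213
theorem F45864 : act 2 n11650 = n10709 := d17_1 D11650 (iv D10709) (iv F42214)
theorem F45865 : act 7 n11650 = n11650 := d31_2 F42216 D11650 (iv D11650)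
def n11651 : Q := act 8 n10707
theorem D11651 : act 8 n10707 = n11651 := rfl
theorem F45866 : act 0 n11651 = n10754 := d7_1 D11651 (iv D10754) (iv F42212)
theorem F45867 : act 1 n11651 = n11651 := d14_1 D11651 (iv D11651) F42213
theorem F45868 : act 2 n11651 = n10710 := d20_1 D11651 (iv D10710) (iv F42214)
theorem F45869 : act 4 n11651 = n10708 := d29_1 D11651 (iv D10708) D10707
theorem F45870 : act 6 n11651 = n11651 := d34_1 D11651 (iv D11651) F42215
def n11652 : Q := act 7 n10708
theorem D11652 : act 7 n10708 = n11652 := rfl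
theorem F45871 : act 0 n11652 = n10755 := d6_1 D11652 (iv D10755) (iv F42217)
theorem F45872 : act 1 n11652 = n11652 := d13_1 D11652 (iv D11652) F42218
theorem F45873 : act 2 n11652 = n10711 := d19_1 D11652 (iv D10711) (iv F42219)
theorem F45874 : act 6 n11652 = n11652 := d33_1 D11652 (iv D11652) F42221
theorem F45875 : act 8 n11652 = n11652 := d35_2 D10708 D11652 (iv D11652) (iv D10708) F39066
def n11653 : Q := act 6 n10709
theorem D11653 : act 6 n10709 = n11653 := rfl
theorem F45876 : act 0 n11653 = n10756 := d5_1 D11653 (iv D10756) (iv F42222)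
theorem F45877 : act 1 n11653 = n10720 := d12_1 D11653 (iv D10720) (iv F42223)
theorem F45878 : act 5 n11653 = n11653 := d30_1 D11653 (iv D11653) (iv D10709) F39069 D10709
theorem F45879 : act 7 n11653 = n11653 := d33_2 F42224 D11653 (iv D11653)
def n11654 : Q := act 8 n10709
theorem D11654 : act 8 n10709 = n11654 := rfl
theorem F45880 : act 0 n11654 = n10757 := d7_1 D11654 (iv D10757) (iv F42222)
theorem F45881 : act 1 n11654 = n10721 := d14_1 D11654 (iv D10721) (iv F42223)
theorem F45882 : act 5 n11654 = n10710 := d32_1 D11654 (iv D10710) D10709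
def n11655 : Q := act 7 n10710
theorem D11655 : act 7 n10710 = n11655 := rfl
theorem F45883 : act 0 n11655 = n10758 := d6_1 D11655 (iv D10758) (iv F42225)
theorem F45884 : act 1 n11655 = n10722 := d13_1 D11655 (iv D10722) (iv F42226)
theorem F45885 : act 4 n11655 = n10711 := d28_1 D11655 (iv D10711) (iv F42227)
theorem F45886 : act 6 n11655 = n11655 := d33_1 D11655 (iv D11655) F42228
theorem F45887 : act 8 n11655 = n11655 := d35_2 D10710 D11655 (iv D11655) (iv D10710) F39070
def n11656 : Q := act 2 n10712
theorem D11656 : act 2 n10712 = n11656 := rfl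
theorem F45888 : act 0 n11656 = n10726 := d1_1 D11656 (iv D10726) (iv F42233)
theorem F45889 : act 3 n11656 = n11656 := d15_2 D10712 D11656 (iv D11656) (iv D10712) F39076
theorem F45890 : act 7 n11656 = n10714 := d19_2 (iv F42234) D11656 (iv D10714)
def n11657 : Q := act 4 n10712
theorem D11657 : act 4 n10712 = n11657 := rfl
theorem F45891 : act 0 n11657 = n10727 := d3_1 D11657 (iv D10727) (iv F42233)
theorem F45892 : act 3 n11657 = n11657 := d21_1 D11657 (iv D11657) (iv D10712) F39077 D10712
theorem F45893 : act 7 n11657 = n10715 := d28_2 (iv F42234) D11657 (iv D10715)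
def n11658 : Q := act 8 n10712
theorem D11658 : act 8 n10712 = n11658 := rfl
theorem F45894 : act 0 n11658 = n10728 := d7_1 D11658 (iv D10728) (iv F42233)
theorem F45895 : act 3 n11658 = n10713 := d25_1 D11658 (iv D10713) D10712
def n11659 : Q := act 1 n10714
theorem D11659 : act 1 n10714 = n11659 := rfl
theorem F45896 : act 3 n11659 = n10723 := d9_2 (iv F42239) D11659 (iv D10723)
def n11660 : Q := act 4 n10714
theorem D11660 : act 4 n10714 = n11660 := rfl
theorem F45897 : act 0 n11660 = n10729 := d3_1 D11660 (iv D10729) (iv F42238)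
theorem F45898 : act 2 n11660 = n10715 := d16_1 D11660 (iv D10715) D10714
theorem F45899 : act 3 n11660 = n11660 := d21_1 D11660 (iv D11660) F42239 F39101 (iv F42239)
def n11661 : Q := act 8 n10714
theorem D11661 : act 8 n10714 = n11661 := rfl
theorem F45900 : act 0 n11661 = n10730 := d7_1 D11661 (iv D10730) (iv F42238)
theorem F45901 : act 2 n11661 = n10716 := d20_1 D11661 (iv D10716) D10714
theorem F45902 : act 3 n11661 = n10724 := d25_1 D11661 (iv D10724) (iv F42239)
def n11662 : Q := act 5 n10715
theorem D11662 : act 5 n10715 = n11662 := rfl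
theorem F45903 : act 0 n11662 = n10731 := d4_1 D11662 (iv D10731) (iv F42240)
theorem F45904 : act 3 n11662 = n10717 := d22_1 D11662 (iv D10717) (iv F42241)
def n11663 : Q := act 8 n10715
theorem D11663 : act 8 n10715 = n11663 := rfl
theorem F45905 : act 0 n11663 = n10732 := d7_1 D11663 (iv D10732) (iv F42240)
theorem F45906 : act 3 n11663 = n10718 := d25_1 D11663 (iv D10718) (iv F42241)
theorem F45907 : act 4 n11663 = n10716 := d29_1 D11663 (iv D10716) D10715
def n11664 : Q := act 7 n10716
theorem D11664 : act 7 n10716 = n11664 := rfl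
theorem F45908 : act 0 n11664 = n10733 := d6_1 D11664 (iv D10733) (iv F42242)
def n11665 : Q := act 6 n10717
theorem D11665 : act 6 n10717 = n11665 := rfl
theorem F45909 : act 0 n11665 = n10734 := d5_1 D11665 (iv D10734) (iv F42244)
theorem F45910 : act 2 n11665 = n11665 := d18_1 D11665 (iv D11665) F42245
theorem F45911 : act 4 n11665 = n10720 := d27_1 D11665 (iv D10720) (iv F42246)
theorem F45912 : act 7 n11665 = n11665 := d33_2 F42247 D11665 (iv D11665)
def n11666 : Q := act 8 n10717
theorem D11666 : act 8 n10717 = n11666 := rfl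
theorem F45913 : act 0 n11666 = n10735 := d7_1 D11666 (iv D10735) (iv F42244)
theorem F45914 : act 2 n11666 = n11666 := d20_1 D11666 (iv D11666) F42245
theorem F45915 : act 4 n11666 = n10721 := d29_1 D11666 (iv D10721) (iv F42246)
theorem F45916 : act 5 n11666 = n10718 := d32_1 D11666 (iv D10718) D10717
def n11667 : Q := act 7 n10718
theorem D11667 : act 7 n10718 = n11667 := rfl
theorem F45917 : act 0 n11667 = n10736 := d6_1 D11667 (iv D10736) (iv F42248)
theorem F45918 : act 2 n11667 = n11667 := d19_1 D11667 (iv D11667) F42249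
theorem F45919 : act 4 n11667 = n10719 := d28_1 D11667 (iv D10719) (iv F42250)
theorem F45920 : act 8 n11667 = n11667 := d35_2 D10718 D11667 (iv D11667) (iv D10718) F39084
def n11668 : Q := act 8 n10720
theorem D11668 : act 8 n10720 = n11668 := rfl
theorem F45921 : act 0 n11668 = n10737 := d7_1 D11668 (iv D10737) (iv F42255)
theorem F45922 : act 2 n11668 = n11668 := d20_1 D11668 (iv D11668) F42256
theorem F45923 : act 5 n11668 = n11668 := d32_1 D11668 (iv D11668) F42257
theorem F45924 : act 6 n11668 = n10721 := d34_1 D11668 (iv D10721) D10720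
def n11669 : Q := act 7 n10721
theorem D11669 : act 7 n10721 = n11669 := rfl
theorem F45925 : act 0 n11669 = n10738 := d6_1 D11669 (iv D10738) (iv F42259)
theorem F45926 : act 2 n11669 = n11669 := d19_1 D11669 (iv D11669) F42260
theorem F45927 : act 5 n11669 = n10722 := d31_1 D11669 (iv D10722) (iv F42261)
theorem F45928 : act 8 n11669 = n11669 := d35_2 D10721 D11669 (iv D11669) (iv D10721) F39091
def n11670 : Q := act 3 n10722
theorem D11670 : act 3 n10722 = n11670 := rfl
theorem F45929 : act 0 n11670 = n10739 := d2_1 D11670 (iv D10739) (iv F42262)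
theorem F45930 : act 6 n11670 = n11670 := d23_2 F42265 D11670 (iv D11670)
theorem F45931 : act 8 n11670 = n11670 := d25_2 F42266 D11670 (iv D11670)
def n11671 : Q := act 8 n10723
theorem D11671 : act 8 n10723 = n11671 := rfl
theorem F45932 : act 1 n11671 = n10724 := d14_1 D11671 (iv D10724) D10723
theorem F45933 : act 2 n11671 = n11196 := d20_1 D11671 (iv D11196) (iv F42267)
theorem F45934 : act 4 n11671 = n11671 := d29_1 D11671 (iv D11671) F42268
def n11672 : Q := act 7 n10724
theorem D11672 : act 7 n10724 = n11672 := rfl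
theorem F45935 : act 0 n11672 = n10740 := d6_1 D11672 (iv D10740) (iv F42270)
theorem F45936 : act 2 n11672 = n10725 := d19_1 D11672 (iv D10725) (iv F42271)
theorem F45937 : act 4 n11672 = n11672 := d28_1 D11672 (iv D11672) F42272
theorem F45938 : act 8 n11672 = n11672 := d35_2 D10724 D11672 (iv D11672) (iv D10724) F39102
def n11673 : Q := act 8 n10726
theorem D11673 : act 8 n10726 = n11673 := rfl
theorem F45939 : act 2 n11673 = n10728 := d20_1 D11673 (iv D10728) D10726
theorem F45940 : act 3 n11673 = n11673 := d25_1 D11673 (iv D11673) F42277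
def n11674 : Q := act 8 n10727
theorem D11674 : act 8 n10727 = n11674 := rfl
theorem F45941 : act 1 n11674 = n10771 := d14_1 D11674 (iv D10771) (iv F42279)
theorem F45942 : act 3 n11674 = n11674 := d25_1 D11674 (iv D11674) F42280
theorem F45943 : act 4 n11674 = n10728 := d29_1 D11674 (iv D10728) D10727
def n11675 : Q := act 7 n10728
theorem D11675 : act 7 n10728 = n11675 := rfl
theorem F45944 : act 1 n11675 = n10772 := d13_1 D11675 (iv D10772) (iv F42282)
theorem F45945 : act 8 n11675 = n10733 := d35_2 D10728 D11675 (iv D10733) (iv D9895) (iv F39108)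
def n11676 : Q := act 8 n10729
theorem D11676 : act 8 n10729 = n11676 := rfl
theorem F45946 : act 2 n11676 = n10732 := d20_1 D11676 (iv D10732) (iv F42284)
theorem F45947 : act 3 n11676 = n11676 := d25_1 D11676 (iv D11676) F42285
theorem F45948 : act 4 n11676 = n10730 := d29_1 D11676 (iv D10730) D10729
def n11677 : Q := act 7 n10730
theorem D11677 : act 7 n10730 = n11677 := rfl
theorem F45949 : act 2 n11677 = n10733 := d19_1 D11677 (iv D10733) (iv F42286)
def n11678 : Q := act 8 n10731
theorem D11678 : act 8 n10731 = n11678 := rfl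
theorem F45950 : act 1 n11678 = n10774 := d14_1 D11678 (iv D10774) (iv F42288)
theorem F45951 : act 3 n11678 = n10735 := d25_1 D11678 (iv D10735) (iv F42289)
theorem F45952 : act 5 n11678 = n10732 := d32_1 D11678 (iv D10732) D10731
def n11679 : Q := act 7 n10732
theorem D11679 : act 7 n10732 = n11679 := rfl
theorem F45953 : act 1 n11679 = n10775 := d13_1 D11679 (iv D10775) (iv F42290)
theorem F45954 : act 4 n11679 = n10733 := d28_1 D11679 (iv D10733) (iv F42292)
def n11680 : Q := act 8 n10734
theorem D11680 : act 8 n10734 = n11680 := rfl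
theorem F45955 : act 1 n11680 = n10776 := d14_1 D11680 (iv D10776) (iv F42294)
theorem F45956 : act 2 n11680 = n11680 := d20_1 D11680 (iv D11680) F42295
theorem F45957 : act 4 n11680 = n10737 := d29_1 D11680 (iv D10737) (iv F42296)
theorem F45958 : act 6 n11680 = n10735 := d34_1 D11680 (iv D10735) D10734
def n11681 : Q := act 7 n10735
theorem D11681 : act 7 n10735 = n11681 := rfl
theorem F45959 : act 1 n11681 = n10777 := d13_1 D11681 (iv D10777) (iv F42298)
theorem F45960 : act 2 n11681 = n11681 := d19_1 D11681 (iv D11681) F42299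
theorem F45961 : act 4 n11681 = n10738 := d28_1 D11681 (iv D10738) (iv F42300)
theorem F45962 : act 5 n11681 = n10736 := d31_1 D11681 (iv D10736) (iv F42301)
theorem F45963 : act 8 n11681 = n11681 := d35_2 D10735 D11681 (iv D11681) (iv D10735) F39120
def n11682 : Q := act 3 n10736
theorem D11682 : act 3 n10736 = n11682 := rfl
theorem F45964 : act 1 n11682 = n10778 := d9_1 D11682 (iv D10778) (iv F42302)
theorem F45965 : act 8 n11682 = n11682 := d25_2 F42305 D11682 (iv D11682)
def n11683 : Q := act 7 n10737
theorem D11683 : act 7 n10737 = n11683 := rfl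
theorem F45966 : act 1 n11683 = n10779 := d13_1 D11683 (iv D10779) (iv F42306)
theorem F45967 : act 2 n11683 = n11683 := d19_1 D11683 (iv D11683) F42307
theorem F45968 : act 5 n11683 = n11683 := d31_1 D11683 (iv D11683) F42308
theorem F45969 : act 6 n11683 = n10738 := d33_1 D11683 (iv D10738) (iv F42309)
theorem F45970 : act 8 n11683 = n11683 := d35_2 D10737 D11683 (iv D11683) (iv D10737) F39131
def n11684 : Q := act 3 n10738
theorem D11684 : act 3 n10738 = n11684 := rfl
theorem F45971 : act 1 n11684 = n10780 := d9_1 D11684 (iv D10780) (iv F42310)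
theorem F45972 : act 5 n11684 = n10739 := d22_2 (iv F42312) D11684 (iv D10739)
theorem F45973 : act 8 n11684 = n11684 := d25_2 F42313 D11684 (iv D11684)
def n11685 : Q := act 2 n10739
theorem D11685 : act 2 n10739 = n11685 := rfl
theorem F45974 : act 3 n11685 = n11685 := d15_2 D10739 D11685 (iv D11685) (iv D10739) F39136
theorem F45975 : act 6 n11685 = n11685 := d18_2 F42315 D11685 (iv D11685)
theorem F45976 : act 8 n11685 = n11685 := d20_2 F42316 D11685 (iv D11685)
def n11686 : Q := act 3 n10740
theorem D11686 : act 3 n10740 = n11686 := rfl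
theorem F45977 : act 8 n11686 = n11686 := d25_2 F42319 D11686 (iv D11686)
def n11687 : Q := act 3 n10741
theorem D11687 : act 3 n10741 = n11687 := rfl
theorem F45978 : act 1 n11687 = n10782 := d9_1 D11687 (iv D10782) (iv F42320)
theorem F45979 : act 7 n11687 = n11287 := d24_2 D10741 D11687 (iv D11287) (iv D10353) (iv F39146)
def n11688 : Q := act 8 n10741
theorem D11688 : act 8 n10741 = n11688 := rfl
theorem F45980 : act 1 n11688 = n10783 := d14_1 D11688 (iv D10783) (iv F42320)
theorem F45981 : act 2 n11688 = n10743 := d20_1 D11688 (iv D10743) (iv F42321)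
theorem F45982 : act 4 n11688 = n11688 := d29_1 D11688 (iv D11688) F42322
def n11689 : Q := act 2 n10742
theorem D11689 : act 2 n10742 = n11689 := rfl
theorem F45983 : act 7 n11689 = n10744 := d19_2 (iv F42324) D11689 (iv D10744)
def n11690 : Q := act 4 n10742
theorem D11690 : act 4 n10742 = n11690 := rfl
theorem F45984 : act 1 n11690 = n10759 := d10_1 D11690 (iv D10759) (iv F42323)
theorem F45985 : act 3 n11690 = n11690 := d21_1 D11690 (iv D11690) (iv D10742) F39149 D10742
theorem F45986 : act 7 n11690 = n10745 := d28_2 (iv F42324) D11690 (iv D10745)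
def n11691 : Q := act 8 n10742
theorem D11691 : act 8 n10742 = n11691 := rfl
theorem F45987 : act 1 n11691 = n10760 := d14_1 D11691 (iv D10760) (iv F42323)
theorem F45988 : act 3 n11691 = n10743 := d25_1 D11691 (iv D10743) D10742
def n11692 : Q := act 4 n10744
theorem D11692 : act 4 n10744 = n11692 := rfl
theorem F45989 : act 2 n11692 = n10745 := d16_1 D11692 (iv D10745) D10744
def n11693 : Q := act 8 n10744
theorem D11693 : act 8 n10744 = n11693 := rfl
theorem F45990 : act 2 n11693 = n10746 := d20_1 D11693 (iv D10746) D10744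
theorem F45991 : act 3 n11693 = n11301 := d25_1 D11693 (iv D11301) (iv F42327)
def n11694 : Q := act 5 n10745
theorem D11694 : act 5 n10745 = n11694 := rfl
theorem F45992 : act 1 n11694 = n10761 := d11_1 D11694 (iv D10761) (iv F42328)
theorem F45993 : act 3 n11694 = n10749 := d22_1 D11694 (iv D10749) (iv F42329)
def n11695 : Q := act 8 n10745
theorem D11695 : act 8 n10745 = n11695 := rfl
theorem F45994 : act 1 n11695 = n10762 := d14_1 D11695 (iv D10762) (iv F42328)
theorem F45995 : act 3 n11695 = n10750 := d25_1 D11695 (iv D10750) (iv F42329)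
theorem F45996 : act 4 n11695 = n10746 := d29_1 D11695 (iv D10746) D10745
def n11696 : Q := act 7 n10746
theorem D11696 : act 7 n10746 = n11696 := rfl
theorem F45997 : act 1 n11696 = n10763 := d13_1 D11696 (iv D10763) (iv F42330)
def n11697 : Q := act 3 n10747
theorem D11697 : act 3 n10747 = n11697 := rfl
theorem F45998 : act 1 n11697 = n10784 := d9_1 D11697 (iv D10784) (iv F42332)
theorem F45999 : act 4 n11697 = n11310 := d21_2 D10747 D11697 (iv D11310) (iv D10366) (iv F39155)
def n11698 : Q := act 5 n10747
theorem D11698 : act 5 n10747 = n11698 := rfl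
theorem F46000 : act 1 n11698 = n10785 := d11_1 D11698 (iv D10785) (iv F42332)
theorem F46001 : act 2 n11698 = n10749 := d17_1 D11698 (iv D10749) (iv F42333)
theorem F46002 : act 4 n11698 = n10753 := d26_1 D11698 (iv D10753) (iv D9911) (iv F39156) D10747
theorem F46003 : act 7 n11698 = n11698 := d31_2 F42334 D11698 (iv D11698)
def n11699 : Q := act 8 n10747
theorem D11699 : act 8 n10747 = n11699 := rfl
theorem F46004 : act 1 n11699 = n10786 := d14_1 D11699 (iv D10786) (iv F42332)
theorem F46005 : act 2 n11699 = n10750 := d20_1 D11699 (iv D10750) (iv F42333)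
theorem F46006 : act 4 n11699 = n10748 := d29_1 D11699 (iv D10748) D10747
def n11700 : Q := act 7 n10748
theorem D11700 : act 7 n10748 = n11700 := rfl
theorem F46007 : act 1 n11700 = n10787 := d13_1 D11700 (iv D10787) (iv F42335)
theorem F46008 : act 2 n11700 = n10751 := d19_1 D11700 (iv D10751) (iv F42336)
theorem F46009 : act 5 n11700 = n10755 := d31_1 D11700 (iv D10755) (iv F42338)
theorem F46010 : act 8 n11700 = n11700 := d35_2 D10748 D11700 (iv D11700) (iv D10748) F39157
def n11701 : Q := act 6 n10749
theorem D11701 : act 6 n10749 = n11701 := rfl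
theorem F46011 : act 1 n11701 = n10764 := d12_1 D11701 (iv D10764) (iv F42339)
theorem F46012 : act 4 n11701 = n10756 := d27_1 D11701 (iv D10756) (iv F42340)
theorem F46013 : act 7 n11701 = n11701 := d33_2 F42341 D11701 (iv D11701)
def n11702 : Q := act 8 n10749
theorem D11702 : act 8 n10749 = n11702 := rfl
theorem F46014 : act 1 n11702 = n10765 := d14_1 D11702 (iv D10765) (iv F42339)
theorem F46015 : act 4 n11702 = n10757 := d29_1 D11702 (iv D10757) (iv F42340)
theorem F46016 : act 5 n11702 = n10750 := d32_1 D11702 (iv D10750) D10749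
def n11703 : Q := act 7 n10750
theorem D11703 : act 7 n10750 = n11703 := rfl
theorem F46017 : act 1 n11703 = n10766 := d13_1 D11703 (iv D10766) (iv F42342)
theorem F46018 : act 4 n11703 = n10751 := d28_1 D11703 (iv D10751) (iv F42343)
theorem F46019 : act 8 n11703 = n11703 := d35_2 D10750 D11703 (iv D11703) (iv D10750) F39159
def n11704 : Q := act 5 n10752
theorem D11704 : act 5 n10752 = n11704 := rfl
theorem F46020 : act 1 n11704 = n10791 := d11_1 D11704 (iv D10791) (iv F42347)
theorem F46021 : act 3 n11704 = n10753 := d22_1 D11704 (iv D10753) D10752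
def n11705 : Q := act 7 n10752
theorem D11705 : act 7 n10752 = n11705 := rfl
theorem F46022 : act 1 n11705 = n10792 := d13_1 D11705 (iv D10792) (iv F42347)
theorem F46023 : act 3 n11705 = n11705 := d24_1 D11705 (iv D11705) (iv D10752) F39166 D10752
theorem F46024 : act 4 n11705 = n11318 := d28_1 D11705 (iv D11318) (iv F42348)
theorem F46025 : act 6 n11705 = n11705 := d33_1 D11705 (iv D11705) F42349
def n11706 : Q := act 8 n10752
theorem D11706 : act 8 n10752 = n11706 := rfl
theorem F46026 : act 1 n11706 = n10793 := d14_1 D11706 (iv D10793) (iv F42347)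
theorem F46027 : act 3 n11706 = n10754 := d25_1 D11706 (iv D10754) D10752
theorem F46028 : act 4 n11706 = n11319 := d29_1 D11706 (iv D11319) (iv F42348)
theorem F46029 : act 6 n11706 = n11706 := d34_1 D11706 (iv D11706) F42349
def n11707 : Q := act 6 n10753
theorem D11707 : act 6 n10753 = n11707 := rfl
theorem F46030 : act 1 n11707 = n10794 := d12_1 D11707 (iv D10794) (iv F42350)
theorem F46031 : act 2 n11707 = n10756 := d18_1 D11707 (iv D10756) (iv F42351)
theorem F46032 : act 5 n11707 = n11707 := d30_1 D11707 (iv D11707) (iv D10753) F39165 D10753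
theorem F46033 : act 7 n11707 = n11707 := d33_2 F42352 D11707 (iv D11707)
def n11708 : Q := act 8 n10753
theorem D11708 : act 8 n10753 = n11708 := rfl
theorem F46034 : act 1 n11708 = n10795 := d14_1 D11708 (iv D10795) (iv F42350)
theorem F46035 : act 2 n11708 = n10757 := d20_1 D11708 (iv D10757) (iv F42351)
theorem F46036 : act 5 n11708 = n10754 := d32_1 D11708 (iv D10754) D10753
def n11709 : Q := act 7 n10754
theorem D11709 : act 7 n10754 = n11709 := rfl
theorem F46037 : act 1 n11709 = n10796 := d13_1 D11709 (iv D10796) (iv F42353)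
theorem F46038 : act 2 n11709 = n10758 := d19_1 D11709 (iv D10758) (iv F42354)
theorem F46039 : act 4 n11709 = n10755 := d28_1 D11709 (iv D10755) (iv F42355)
theorem F46040 : act 6 n11709 = n11709 := d33_1 D11709 (iv D11709) F42356
theorem F46041 : act 8 n11709 = n11709 := d35_2 D10754 D11709 (iv D11709) (iv D10754) F39166
def n11710 : Q := act 3 n10755
theorem D11710 : act 3 n10755 = n11710 := rfl
theorem F46042 : act 1 n11710 = n10797 := d9_1 D11710 (iv D10797) (iv F42357)
theorem F46043 : act 6 n11710 = n11710 := d23_2 F42359 D11710 (iv D11710)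
theorem F46044 : act 7 n11710 = n11323 := d24_2 D10755 D11710 (iv D11323) (iv D10374) (iv F39169)
theorem F46045 : act 8 n11710 = n11710 := d25_2 F42360 D11710 (iv D11710)
def n11711 : Q := act 8 n10756
theorem D11711 : act 8 n10756 = n11711 := rfl
theorem F46046 : act 1 n11711 = n10767 := d14_1 D11711 (iv D10767) (iv F42361)
theorem F46047 : act 5 n11711 = n11711 := d32_1 D11711 (iv D11711) F42362
theorem F46048 : act 6 n11711 = n10757 := d34_1 D11711 (iv D10757) D10756
def n11712 : Q := act 7 n10757
theorem D11712 : act 7 n10757 = n11712 := rfl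
theorem F46049 : act 1 n11712 = n10768 := d13_1 D11712 (iv D10768) (iv F42364)
theorem F46050 : act 5 n11712 = n10758 := d31_1 D11712 (iv D10758) (iv F42365)
theorem F46051 : act 8 n11712 = n11712 := d35_2 D10757 D11712 (iv D11712) (iv D10757) F39172
def n11713 : Q := act 3 n10758
theorem D11713 : act 3 n10758 = n11713 := rfl
theorem F46052 : act 1 n11713 = n10769 := d9_1 D11713 (iv D10769) (iv F42366)
theorem F46053 : act 6 n11713 = n11713 := d23_2 F42368 D11713 (iv D11713)
theorem F46054 : act 8 n11713 = n11713 := d25_2 F42369 D11713 (iv D11713)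
def n11714 : Q := act 5 n10759
theorem D11714 : act 5 n10759 = n11714 := rfl
theorem F46055 : act 0 n11714 = n10770 := d4_1 D11714 (iv D10770) (iv F42370)
theorem F46056 : act 3 n11714 = n11714 := d22_1 D11714 (iv D11714) F42371
theorem F46057 : act 7 n11714 = n10761 := d31_2 (iv F42372) D11714 (iv D10761)
def n11715 : Q := act 8 n10759
theorem D11715 : act 8 n10759 = n11715 := rfl
theorem F46058 : act 0 n11715 = n10771 := d7_1 D11715 (iv D10771) (iv F42370)
theorem F46059 : act 3 n11715 = n11715 := d25_1 D11715 (iv D11715) F42371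
theorem F46060 : act 4 n11715 = n10760 := d29_1 D11715 (iv D10760) D10759
def n11716 : Q := act 7 n10760
theorem D11716 : act 7 n10760 = n11716 := rfl
theorem F46061 : act 0 n11716 = n10772 := d6_1 D11716 (iv D10772) (iv F42373)
theorem F46062 : act 8 n11716 = n10763 := d35_2 D10760 D11716 (iv D10763) (iv D9919) (iv F39180)
def n11717 : Q := act 6 n10761
theorem D11717 : act 6 n10761 = n11717 := rfl
theorem F46063 : act 0 n11717 = n10773 := d5_1 D11717 (iv D10773) (iv F42375)
theorem F46064 : act 3 n11717 = n10764 := d23_1 D11717 (iv D10764) (iv F42376)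
def n11718 : Q := act 8 n10761
theorem D11718 : act 8 n10761 = n11718 := rfl
theorem F46065 : act 0 n11718 = n10774 := d7_1 D11718 (iv D10774) (iv F42375)
theorem F46066 : act 3 n11718 = n10765 := d25_1 D11718 (iv D10765) (iv F42376)
theorem F46067 : act 5 n11718 = n10762 := d32_1 D11718 (iv D10762) D10761
def n11719 : Q := act 7 n10762
theorem D11719 : act 7 n10762 = n11719 := rfl
theorem F46068 : act 0 n11719 = n10775 := d6_1 D11719 (iv D10775) (iv F42377)
theorem F46069 : act 4 n11719 = n10763 := d28_1 D11719 (iv D10763) (iv F42379)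
def n11720 : Q := act 8 n10764
theorem D11720 : act 8 n10764 = n11720 := rfl
theorem F46070 : act 0 n11720 = n10776 := d7_1 D11720 (iv D10776) (iv F42381)
theorem F46071 : act 2 n11720 = n10801 := d20_1 D11720 (iv D10801) (iv F42382)
theorem F46072 : act 4 n11720 = n10767 := d29_1 D11720 (iv D10767) (iv F42383)
theorem F46073 : act 6 n11720 = n10765 := d34_1 D11720 (iv D10765) D10764
def n11721 : Q := act 7 n10765
theorem D11721 : act 7 n10765 = n11721 := rfl
theorem F46074 : act 0 n11721 = n10777 := d6_1 D11721 (iv D10777) (iv F42385)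
theorem F46075 : act 2 n11721 = n10802 := d19_1 D11721 (iv D10802) (iv F42386)
theorem F46076 : act 4 n11721 = n10768 := d28_1 D11721 (iv D10768) (iv F42387)
theorem F46077 : act 5 n11721 = n10766 := d31_1 D11721 (iv D10766) (iv F42388)
theorem F46078 : act 8 n11721 = n11721 := d35_2 D10765 D11721 (iv D11721) (iv D10765) F39191
def n11722 : Q := act 3 n10766
theorem D11722 : act 3 n10766 = n11722 := rfl
theorem F46079 : act 0 n11722 = n10778 := d2_1 D11722 (iv D10778) (iv F42389)
theorem F46080 : act 8 n11722 = n11722 := d25_2 F42392 D11722 (iv D11722)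
def n11723 : Q := act 7 n10767
theorem D11723 : act 7 n10767 = n11723 := rfl
theorem F46081 : act 0 n11723 = n10779 := d6_1 D11723 (iv D10779) (iv F42393)
theorem F46082 : act 2 n11723 = n10804 := d19_1 D11723 (iv D10804) (iv F42394)
theorem F46083 : act 5 n11723 = n11723 := d31_1 D11723 (iv D11723) F42395
theorem F46084 : act 6 n11723 = n10768 := d33_1 D11723 (iv D10768) (iv F42396)
theorem F46085 : act 8 n11723 = n11723 := d35_2 D10767 D11723 (iv D11723) (iv D10767) F39202
def n11724 : Q := act 3 n10768
theorem D11724 : act 3 n10768 = n11724 := rfl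
theorem F46086 : act 0 n11724 = n10780 := d2_1 D11724 (iv D10780) (iv F42397)
theorem F46087 : act 5 n11724 = n10769 := d22_2 (iv F42399) D11724 (iv D10769)
theorem F46088 : act 8 n11724 = n11724 := d25_2 F42400 D11724 (iv D11724)
def n11725 : Q := act 2 n10769
theorem D11725 : act 2 n10769 = n11725 := rfl
theorem F46089 : act 0 n11725 = n10781 := d1_1 D11725 (iv D10781) (iv F42401)
theorem F46090 : act 3 n11725 = n10806 := d15_2 D10769 D11725 (iv D10806) (iv D9956) (iv F39207)
theorem F46091 : act 6 n11725 = n11725 := d18_2 F42402 D11725 (iv D11725)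
theorem F46092 : act 8 n11725 = n11725 := d20_2 F42403 D11725 (iv D11725)
def n11726 : Q := act 8 n10770
theorem D11726 : act 8 n10770 = n11726 := rfl
theorem F46093 : act 3 n11726 = n11726 := d25_1 D11726 (iv D11726) F42404
theorem F46094 : act 5 n11726 = n10771 := d32_1 D11726 (iv D10771) D10770
def n11727 : Q := act 7 n10771
theorem D11727 : act 7 n10771 = n11727 := rfl
theorem F46095 : act 4 n11727 = n10772 := d28_1 D11727 (iv D10772) (iv F42407)
theorem F46096 : act 8 n11727 = n10775 := d35_2 D10771 D11727 (iv D10775) (iv D9929) (iv F39212)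
def n11728 : Q := act 8 n10773
theorem D11728 : act 8 n10773 = n11728 := rfl
theorem F46097 : act 3 n11728 = n10776 := d25_1 D11728 (iv D10776) (iv F42409)
theorem F46098 : act 6 n11728 = n10774 := d34_1 D11728 (iv D10774) D10773
def n11729 : Q := act 7 n10774
theorem D11729 : act 7 n10774 = n11729 := rfl
theorem F46099 : act 5 n11729 = n10775 := d31_1 D11729 (iv D10775) (iv F42411)
def n11730 : Q := act 3 n10775
theorem D11730 : act 3 n10775 = n11730 := rfl
theorem F46100 : act 7 n11730 = n10778 := d24_2 D10775 D11730 (iv D10778) (iv D9933) (iv F39215)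
def n11731 : Q := act 7 n10776
theorem D11731 : act 7 n10776 = n11731 := rfl
theorem F46101 : act 2 n11731 = n10807 := d19_1 D11731 (iv D10807) (iv F42413)
theorem F46102 : act 4 n11731 = n10779 := d28_1 D11731 (iv D10779) (iv F42414)
theorem F46103 : act 6 n11731 = n10777 := d33_1 D11731 (iv D10777) (iv F42415)
theorem F46104 : act 8 n11731 = n11731 := d35_2 D10776 D11731 (iv D11731) (iv D10776) F39219
def n11732 : Q := act 3 n10777
theorem D11732 : act 3 n10777 = n11732 := rfl
theorem F46105 : act 5 n11732 = n10778 := d22_2 (iv F42418) D11732 (iv D10778)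
theorem F46106 : act 8 n11732 = n11732 := d25_2 F42419 D11732 (iv D11732)
def n11733 : Q := act 2 n10778
theorem D11733 : act 2 n10778 = n11733 := rfl
theorem F46107 : act 3 n11733 = n10809 := d15_2 D10778 D11733 (iv D10809) (iv D9959) (iv F39223)
theorem F46108 : act 8 n11733 = n11733 := d20_2 F42420 D11733 (iv D11733)
def n11734 : Q := act 3 n10779
theorem D11734 : act 3 n10779 = n11734 := rfl
theorem F46109 : act 5 n11734 = n11734 := d22_2 F42422 D11734 (iv D11734)
theorem F46110 : act 6 n11734 = n10780 := d23_2 (iv F42423) D11734 (iv D10780)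
theorem F46111 : act 8 n11734 = n11734 := d25_2 F42424 D11734 (iv D11734)
def n11735 : Q := act 2 n10780
theorem D11735 : act 2 n10780 = n11735 := rfl
theorem F46112 : act 3 n11735 = n10811 := d15_2 D10780 D11735 (iv D10811) (iv D9961) (iv F39229)
theorem F46113 : act 5 n11735 = n10781 := d17_2 (iv F42425) D11735 (iv D10781)
theorem F46114 : act 8 n11735 = n11735 := d20_2 F42426 D11735 (iv D11735)
def n11736 : Q := act 4 n10780
theorem D11736 : act 4 n10780 = n11736 := rfl
theorem F46115 : act 8 n11736 = n11736 := d29_2 F42426 D11736 (iv D11736)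
def n11737 : Q := act 1 n10781
theorem D11737 : act 1 n10781 = n11737 := rfl
theorem F46116 : act 3 n11737 = n10813 := d9_2 (iv F42427) D11737 (iv D10813)
theorem F46117 : act 6 n11737 = n11737 := d12_2 F42428 D11737 (iv D11737)
theorem F46118 : act 8 n11737 = n11737 := d14_2 F42429 D11737 (iv D11737)
def n11738 : Q := act 4 n10782
theorem D11738 : act 4 n10782 = n11738 := rfl
theorem F46119 : act 0 n11738 = n11738 := d3_1 D11738 (iv D11738) F42430
theorem F46120 : act 3 n11738 = n11738 := d21_1 D11738 (iv D11738) (iv D10782) F39236 D10782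
theorem F46121 : act 7 n11738 = n11401 := d28_2 (iv F42431) D11738 (iv D11401)
def n11739 : Q := act 8 n10782
theorem D11739 : act 8 n10782 = n11739 := rfl
theorem F46122 : act 0 n11739 = n11739 := d7_1 D11739 (iv D11739) F42430
theorem F46123 : act 3 n11739 = n10783 := d25_1 D11739 (iv D10783) D10782
def n11740 : Q := act 5 n10784
theorem D11740 : act 5 n10784 = n11740 := rfl
theorem F46124 : act 0 n11740 = n11740 := d4_1 D11740 (iv D11740) F42435
theorem F46125 : act 3 n11740 = n10785 := d22_1 D11740 (iv D10785) D10784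
def n11741 : Q := act 7 n10784
theorem D11741 : act 7 n10784 = n11741 := rfl
theorem F46126 : act 0 n11741 = n11741 := d6_1 D11741 (iv D11741) F42435
theorem F46127 : act 3 n11741 = n11741 := d24_1 D11741 (iv D11741) (iv D10784) F39242 D10784
theorem F46128 : act 4 n11741 = n11427 := d28_1 D11741 (iv D11427) (iv F42436)
def n11742 : Q := act 8 n10784
theorem D11742 : act 8 n10784 = n11742 := rfl
theorem F46129 : act 0 n11742 = n11742 := d7_1 D11742 (iv D11742) F42435
theorem F46130 : act 3 n11742 = n10786 := d25_1 D11742 (iv D10786) D10784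
theorem F46131 : act 4 n11742 = n11428 := d29_1 D11742 (iv D11428) (iv F42436)
def n11743 : Q := act 6 n10785
theorem D11743 : act 6 n10785 = n11743 := rfl
theorem F46132 : act 0 n11743 = n11743 := d5_1 D11743 (iv D11743) F42437
theorem F46133 : act 2 n11743 = n10788 := d18_1 D11743 (iv D10788) (iv F42438)
theorem F46134 : act 4 n11743 = n10794 := d27_1 D11743 (iv D10794) (iv F42439)
theorem F46135 : act 7 n11743 = n11743 := d33_2 F42440 D11743 (iv D11743)
def n11744 : Q := act 8 n10785
theorem D11744 : act 8 n10785 = n11744 := rfl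
theorem F46136 : act 0 n11744 = n11744 := d7_1 D11744 (iv D11744) F42437
theorem F46137 : act 2 n11744 = n10789 := d20_1 D11744 (iv D10789) (iv F42438)
theorem F46138 : act 4 n11744 = n10795 := d29_1 D11744 (iv D10795) (iv F42439)
theorem F46139 : act 5 n11744 = n10786 := d32_1 D11744 (iv D10786) D10785
def n11745 : Q := act 7 n10786
theorem D11745 : act 7 n10786 = n11745 := rfl
theorem F46140 : act 0 n11745 = n11745 := d6_1 D11745 (iv D11745) F42441
theorem F46141 : act 2 n11745 = n10790 := d19_1 D11745 (iv D10790) (iv F42442)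
theorem F46142 : act 4 n11745 = n10787 := d28_1 D11745 (iv D10787) (iv F42443)
theorem F46143 : act 8 n11745 = n11745 := d35_2 D10786 D11745 (iv D11745) (iv D10786) F39242
def n11746 : Q := act 3 n10787
theorem D11746 : act 3 n10787 = n11746 := rfl
theorem F46144 : act 0 n11746 = n11746 := d2_1 D11746 (iv D11746) F42444
theorem F46145 : act 2 n11746 = n11746 := d15_1 D11746 (iv D11746) F42445 F39256 (iv F42445)
theorem F46146 : act 5 n11746 = n10797 := d22_2 (iv F42446) D11746 (iv D10797)
theorem F46147 : act 7 n11746 = n11432 := d24_2 D10787 D11746 (iv D11432) (iv D10474) (iv F39245)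
theorem F46148 : act 8 n11746 = n11746 := d25_2 F42447 D11746 (iv D11746)
def n11747 : Q := act 8 n10788
theorem D11747 : act 8 n10788 = n11747 := rfl
theorem F46149 : act 0 n11747 = n11747 := d7_1 D11747 (iv D11747) F42448
theorem F46150 : act 1 n11747 = n10801 := d14_1 D11747 (iv D10801) (iv F42449)
theorem F46151 : act 4 n11747 = n10798 := d29_1 D11747 (iv D10798) (iv F42450)
theorem F46152 : act 6 n11747 = n10789 := d34_1 D11747 (iv D10789) D10788
def n11748 : Q := act 7 n10789
theorem D11748 : act 7 n10789 = n11748 := rfl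
theorem F46153 : act 0 n11748 = n11748 := d6_1 D11748 (iv D11748) F42452
theorem F46154 : act 1 n11748 = n10802 := d13_1 D11748 (iv D10802) (iv F42453)
theorem F46155 : act 4 n11748 = n10799 := d28_1 D11748 (iv D10799) (iv F42454)
theorem F46156 : act 5 n11748 = n10790 := d31_1 D11748 (iv D10790) (iv F42455)
theorem F46157 : act 8 n11748 = n11748 := d35_2 D10789 D11748 (iv D11748) (iv D10789) F39250
def n11749 : Q := act 3 n10790
theorem D11749 : act 3 n10790 = n11749 := rfl
theorem F46158 : act 0 n11749 = n11749 := d2_1 D11749 (iv D11749) F42456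
theorem F46159 : act 1 n11749 = n10803 := d9_1 D11749 (iv D10803) (iv F42457)
theorem F46160 : act 4 n11749 = n11749 := d21_2 (iv F42458) D11749 (iv D11749) F42458 F39256
theorem F46161 : act 8 n11749 = n11749 := d25_2 F42459 D11749 (iv D11749)
def n11750 : Q := act 4 n10791
theorem D11750 : act 4 n10791 = n11750 := rfl
theorem F46162 : act 0 n11750 = n11750 := d3_1 D11750 (iv D11750) F42460
theorem F46163 : act 2 n11750 = n11750 := d16_1 D11750 (iv D11750) F42461
theorem F46164 : act 5 n11750 = n11436 := d26_2 D10791 D11750 (iv D11436) (iv D10478) (iv F39261)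
def n11751 : Q := act 6 n10791
theorem D11751 : act 6 n10791 = n11751 := rfl
theorem F46165 : act 0 n11751 = n11751 := d5_1 D11751 (iv D11751) F42460
theorem F46166 : act 2 n11751 = n11751 := d18_1 D11751 (iv D11751) F42461
theorem F46167 : act 3 n11751 = n10794 := d23_1 D11751 (iv D10794) (iv F42462)
theorem F46168 : act 5 n11751 = n11751 := d30_1 D11751 (iv D11751) (iv D10791) F39262 D10791
def n11752 : Q := act 7 n10791
theorem D11752 : act 7 n10791 = n11752 := rfl
theorem F46169 : act 0 n11752 = n11752 := d6_1 D11752 (iv D11752) F42460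
theorem F46170 : act 2 n11752 = n11752 := d19_1 D11752 (iv D11752) F42461
theorem F46171 : act 3 n11752 = n11752 := d24_1 D11752 (iv D11752) F42462 F39265 (iv F42462)
theorem F46172 : act 5 n11752 = n10792 := d31_1 D11752 (iv D10792) D10791
def n11753 : Q := act 8 n10791
theorem D11753 : act 8 n10791 = n11753 := rfl
theorem F46173 : act 0 n11753 = n11753 := d7_1 D11753 (iv D11753) F42460
theorem F46174 : act 2 n11753 = n11753 := d20_1 D11753 (iv D11753) F42461
theorem F46175 : act 3 n11753 = n10795 := d25_1 D11753 (iv D10795) (iv F42462)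
theorem F46176 : act 5 n11753 = n10793 := d32_1 D11753 (iv D10793) D10791
def n11754 : Q := act 8 n10792
theorem D11754 : act 8 n10792 = n11754 := rfl
theorem F46177 : act 0 n11754 = n11754 := d7_1 D11754 (iv D11754) F42463
theorem F46178 : act 2 n11754 = n11754 := d20_1 D11754 (iv D11754) F42464
theorem F46179 : act 3 n11754 = n11754 := d25_1 D11754 (iv D11754) F42465
theorem F46180 : act 4 n11754 = n11440 := d29_1 D11754 (iv D11440) (iv F42466)
theorem F46181 : act 6 n11754 = n11754 := d34_1 D11754 (iv D11754) F42467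
def n11755 : Q := act 7 n10793
theorem D11755 : act 7 n10793 = n11755 := rfl
theorem F46182 : act 0 n11755 = n11755 := d6_1 D11755 (iv D11755) F42468
theorem F46183 : act 2 n11755 = n11755 := d19_1 D11755 (iv D11755) F42469
theorem F46184 : act 4 n11755 = n11441 := d28_1 D11755 (iv D11441) (iv F42471)
theorem F46185 : act 6 n11755 = n11755 := d33_1 D11755 (iv D11755) F42472
def n11756 : Q := act 8 n10794
theorem D11756 : act 8 n10794 = n11756 := rfl
theorem F46186 : act 0 n11756 = n11756 := d7_1 D11756 (iv D11756) F42473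
theorem F46187 : act 2 n11756 = n10798 := d20_1 D11756 (iv D10798) (iv F42474)
theorem F46188 : act 5 n11756 = n11756 := d32_1 D11756 (iv D11756) F42475
theorem F46189 : act 6 n11756 = n10795 := d34_1 D11756 (iv D10795) D10794
def n11757 : Q := act 7 n10795
theorem D11757 : act 7 n10795 = n11757 := rfl
theorem F46190 : act 0 n11757 = n11757 := d6_1 D11757 (iv D11757) F42477
theorem F46191 : act 2 n11757 = n10799 := d19_1 D11757 (iv D10799) (iv F42478)
theorem F46192 : act 5 n11757 = n10796 := d31_1 D11757 (iv D10796) (iv F42479)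
theorem F46193 : act 8 n11757 = n11757 := d35_2 D10795 D11757 (iv D11757) (iv D10795) F39265
def n11758 : Q := act 3 n10796
theorem D11758 : act 3 n10796 = n11758 := rfl
theorem F46194 : act 0 n11758 = n11758 := d2_1 D11758 (iv D11758) F42480
theorem F46195 : act 6 n11758 = n11758 := d23_2 F42483 D11758 (iv D11758)
theorem F46196 : act 8 n11758 = n11758 := d25_2 F42484 D11758 (iv D11758)
def n11759 : Q := act 4 n10797
theorem D11759 : act 4 n10797 = n11759 := rfl
theorem F46197 : act 0 n11759 = n11759 := d3_1 D11759 (iv D11759) F42485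
theorem F46198 : act 2 n11759 = n11759 := d16_1 D11759 (iv D11759) F42486
theorem F46199 : act 6 n11759 = n11759 := d27_2 F42487 D11759 (iv D11759)
theorem F46200 : act 7 n11759 = n11445 := d28_2 (iv F42488) D11759 (iv D11445)
theorem F46201 : act 8 n11759 = n11759 := d29_2 F42489 D11759 (iv D11759)
def n11760 : Q := act 7 n10798
theorem D11760 : act 7 n10798 = n11760 := rfl
theorem F46202 : act 0 n11760 = n11760 := d6_1 D11760 (iv D11760) F42490
theorem F46203 : act 1 n11760 = n10804 := d13_1 D11760 (iv D10804) (iv F42491)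
theorem F46204 : act 5 n11760 = n11760 := d31_1 D11760 (iv D11760) F42493
theorem F46205 : act 6 n11760 = n10799 := d33_1 D11760 (iv D10799) (iv F42494)
theorem F46206 : act 8 n11760 = n11760 := d35_2 D10798 D11760 (iv D11760) (iv D10798) F39278
def n11761 : Q := act 3 n10799
theorem D11761 : act 3 n10799 = n11761 := rfl
theorem F46207 : act 0 n11761 = n11761 := d2_1 D11761 (iv D11761) F42495
theorem F46208 : act 1 n11761 = n10805 := d9_1 D11761 (iv D10805) (iv F42496)
theorem F46209 : act 5 n11761 = n10800 := d22_2 (iv F42497) D11761 (iv D10800)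
theorem F46210 : act 7 n11761 = n11761 := d24_2 D10799 D11761 (iv D11761) (iv D10799) F39281
theorem F46211 : act 8 n11761 = n11761 := d25_2 F42498 D11761 (iv D11761)
def n11762 : Q := act 2 n10800
theorem D11762 : act 2 n10800 = n11762 := rfl
theorem F46212 : act 0 n11762 = n11762 := d1_1 D11762 (iv D11762) F42499
theorem F46213 : act 4 n11762 = n11762 := d16_2 F42501 D11762 (iv D11762)
theorem F46214 : act 6 n11762 = n11762 := d18_2 F42502 D11762 (iv D11762)
theorem F46215 : act 7 n11762 = n11762 := d19_2 F42503 D11762 (iv D11762)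
theorem F46216 : act 8 n11762 = n11762 := d20_2 F42504 D11762 (iv D11762)
def n11763 : Q := act 7 n10801
theorem D11763 : act 7 n10801 = n11763 := rfl
theorem F46217 : act 0 n11763 = n10807 := d6_1 D11763 (iv D10807) (iv F42505)
theorem F46218 : act 4 n11763 = n10804 := d28_1 D11763 (iv D10804) (iv F42506)
theorem F46219 : act 6 n11763 = n10802 := d33_1 D11763 (iv D10802) (iv F42507)
theorem F46220 : act 8 n11763 = n11763 := d35_2 D10801 D11763 (iv D11763) (iv D10801) F39290
def n11764 : Q := act 3 n10802
theorem D11764 : act 3 n10802 = n11764 := rfl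
theorem F46221 : act 0 n11764 = n10808 := d2_1 D11764 (iv D10808) (iv F42508)
theorem F46222 : act 5 n11764 = n10803 := d22_2 (iv F42510) D11764 (iv D10803)
theorem F46223 : act 8 n11764 = n11764 := d25_2 F42511 D11764 (iv D11764)
def n11765 : Q := act 2 n10803
theorem D11765 : act 2 n10803 = n11765 := rfl
theorem F46224 : act 0 n11765 = n10809 := d1_1 D11765 (iv D10809) (iv F42512)
theorem F46225 : act 4 n11765 = n11765 := d16_2 F42513 D11765 (iv D11765)
theorem F46226 : act 8 n11765 = n11765 := d20_2 F42514 D11765 (iv D11765)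
def n11766 : Q := act 3 n10804
theorem D11766 : act 3 n10804 = n11766 := rfl
theorem F46227 : act 0 n11766 = n10810 := d2_1 D11766 (iv D10810) (iv F42515)
theorem F46228 : act 5 n11766 = n11766 := d22_2 F42516 D11766 (iv D11766)
theorem F46229 : act 6 n11766 = n10805 := d23_2 (iv F42517) D11766 (iv D10805)
theorem F46230 : act 7 n11766 = n11766 := d24_2 D10804 D11766 (iv D11766) (iv D10804) F39298
theorem F46231 : act 8 n11766 = n11766 := d25_2 F42518 D11766 (iv D11766)
def n11767 : Q := act 2 n10805
theorem D11767 : act 2 n10805 = n11767 := rfl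
theorem F46232 : act 0 n11767 = n10811 := d1_1 D11767 (iv D10811) (iv F42519)
theorem F46233 : act 5 n11767 = n10806 := d17_2 (iv F42520) D11767 (iv D10806)
theorem F46234 : act 7 n11767 = n11767 := d19_2 F42521 D11767 (iv D11767)
theorem F46235 : act 8 n11767 = n11767 := d20_2 F42522 D11767 (iv D11767)
def n11768 : Q := act 4 n10805
theorem D11768 : act 4 n10805 = n11768 := rfl
theorem F46236 : act 0 n11768 = n10812 := d3_1 D11768 (iv D10812) (iv F42519)
theorem F46237 : act 5 n11768 = n11768 := d26_2 (iv F42520) D11768 (iv D11768) F42520 F39305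
theorem F46238 : act 7 n11768 = n11768 := d28_2 F42521 D11768 (iv D11768)
theorem F46239 : act 8 n11768 = n11768 := d29_2 F42522 D11768 (iv D11768)
def n11769 : Q := act 1 n10806
theorem D11769 : act 1 n10806 = n11769 := rfl
theorem F46240 : act 4 n11769 = n11769 := d10_2 F42524 D11769 (iv D11769)
theorem F46241 : act 6 n11769 = n11769 := d12_2 F42525 D11769 (iv D11769)
theorem F46242 : act 7 n11769 = n11769 := d13_2 F42526 D11769 (iv D11769)
theorem F46243 : act 8 n11769 = n11769 := d14_2 F42527 D11769 (iv D11769)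
def n11770 : Q := act 3 n10807
theorem D11770 : act 3 n10807 = n11770 := rfl
theorem F46244 : act 1 n11770 = n11770 := d9_1 D11770 (iv D11770) F42528
theorem F46245 : act 6 n11770 = n10808 := d23_2 (iv F42530) D11770 (iv D10808)
theorem F46246 : act 8 n11770 = n11770 := d25_2 F42531 D11770 (iv D11770)
def n11771 : Q := act 2 n10808
theorem D11771 : act 2 n10808 = n11771 := rfl
theorem F46247 : act 5 n11771 = n10809 := d17_2 (iv F42533) D11771 (iv D10809)
theorem F46248 : act 8 n11771 = n11771 := d20_2 F42534 D11771 (iv D11771)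
def n11772 : Q := act 4 n10808
theorem D11772 : act 4 n10808 = n11772 := rfl
theorem F46249 : act 1 n11772 = n11772 := d10_1 D11772 (iv D11772) F42532
theorem F46250 : act 3 n11772 = n10812 := d21_1 D11772 (iv D10812) (iv D9961) (iv F39313) D10808
theorem F46251 : act 5 n11772 = n11772 := d26_2 (iv F42533) D11772 (iv D11772) F42533 F39317
theorem F46252 : act 8 n11772 = n11772 := d29_2 F42534 D11772 (iv D11772)
def n11773 : Q := act 1 n10809
theorem D11773 : act 1 n10809 = n11773 := rfl
theorem F46253 : act 2 n11773 = n11773 := d8_2 D10809 D11773 (iv D11773) (iv D10809) F39316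
theorem F46254 : act 4 n11773 = n11773 := d10_2 F42535 D11773 (iv D11773)
theorem F46255 : act 8 n11773 = n11773 := d14_2 F42536 D11773 (iv D11773)
def n11774 : Q := act 2 n10810
theorem D11774 : act 2 n10810 = n11774 := rfl
theorem F46256 : act 5 n11774 = n11774 := d17_2 F42538 D11774 (iv D11774)
theorem F46257 : act 6 n11774 = n10811 := d18_2 (iv F42539) D11774 (iv D10811)
theorem F46258 : act 7 n11774 = n11774 := d19_2 F42540 D11774 (iv D11774)
theorem F46259 : act 8 n11774 = n11774 := d20_2 F42541 D11774 (iv D11774)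
def n11775 : Q := act 4 n10810
theorem D11775 : act 4 n10810 = n11775 := rfl
theorem F46260 : act 1 n11775 = n11775 := d10_1 D11775 (iv D11775) F42537
theorem F46261 : act 6 n11775 = n10812 := d27_2 (iv F42539) D11775 (iv D10812)
theorem F46262 : act 7 n11775 = n11775 := d28_2 F42540 D11775 (iv D11775)
theorem F46263 : act 8 n11775 = n11775 := d29_2 F42541 D11775 (iv D11775)
def n11776 : Q := act 1 n10811
theorem D11776 : act 1 n10811 = n11776 := rfl
theorem F46264 : act 2 n11776 = n11776 := d8_2 D10811 D11776 (iv D11776) (iv D10811) F39323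
theorem F46265 : act 5 n11776 = n10813 := d11_2 (iv F42542) D11776 (iv D10813)
theorem F46266 : act 7 n11776 = n11776 := d13_2 F42543 D11776 (iv D11776)
theorem F46267 : act 8 n11776 = n11776 := d14_2 F42544 D11776 (iv D11776)
def n11777 : Q := act 4 n10811
theorem D11777 : act 4 n10811 = n11777 := rfl
theorem F46268 : act 2 n11777 = n10812 := d16_1 D11777 (iv D10812) D10811
theorem F46269 : act 5 n11777 = n11777 := d26_2 (iv F42542) D11777 (iv D11777) F42542 F39327
theorem F46270 : act 7 n11777 = n11777 := d28_2 F42543 D11777 (iv D11777)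
theorem F46271 : act 8 n11777 = n11777 := d29_2 F42544 D11777 (iv D11777)
def n11778 : Q := act 0 n10813
theorem D11778 : act 0 n10813 = n11778 := rfl
theorem F46272 : act 2 n11778 = n11778 := d1_2 F42549 D11778 (iv D11778)
theorem F46273 : act 4 n11778 = n11778 := d3_2 F42550 D11778 (iv D11778)
theorem F46274 : act 6 n11778 = n11778 := d5_2 F42551 D11778 (iv D11778)
theorem F46275 : act 7 n11778 = n11778 := d6_2 F42552 D11778 (iv D11778)
theorem F46276 : act 8 n11778 = n11778 := d7_2 F42553 D11778 (iv D11778)
def n11779 : Q := act 8 n10814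
theorem D11779 : act 8 n10814 = n11779 := rfl
theorem F46277 : act 0 n11779 = n11779 := d7_1 D11779 (iv D11779) F42554
theorem F46278 : act 1 n11779 = n10820 := d14_1 D11779 (iv D10820) (iv F42555)
theorem F46279 : act 3 n11779 = n11446 := d25_1 D11779 F45015 (iv F42556)
theorem F46280 : act 4 n11779 = n10816 := d29_1 D11779 (iv D10816) (iv F42557)
theorem F46281 : act 5 n11779 = n11779 := d32_1 D11779 (iv D11779) F42558
theorem F46282 : act 6 n11779 = n11447 := d34_1 D11779 F45020 (iv F42559)
theorem F46283 : act 7 n11779 = n11779 := d35_1 D11779 (iv D11779) (iv D10814) F39335 D10814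
def n11780 : Q := act 4 n10815
theorem D11780 : act 4 n10815 = n11780 := rfl
theorem F46284 : act 0 n11780 = n11780 := d3_1 D11780 (iv D11780) F42560
theorem F46285 : act 1 n11780 = n10823 := d10_1 D11780 (iv D10823) (iv F42561)
theorem F46286 : act 3 n11780 = n11622 := d21_1 D11780 F45748 (iv F42556) F42557 D10815
theorem F46287 : act 6 n11780 = n11623 := d27_2 F45603 D11780 F45752
theorem F46288 : act 7 n11780 = n11780 := d28_2 F42563 D11780 (iv D11780)
def n11781 : Q := act 8 n10815
theorem D11781 : act 8 n10815 = n11781 := rfl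
theorem F46289 : act 0 n11781 = n11781 := d7_1 D11781 (iv D11781) F42560
theorem F46290 : act 1 n11781 = n10824 := d14_1 D11781 (iv D10824) (iv F42561)
theorem F46291 : act 3 n11781 = n10816 := d25_1 D11781 (iv D10816) D10815
theorem F46292 : act 5 n11781 = n10819 := d32_1 D11781 (iv D10819) (iv F42562)
def n11782 : Q := act 4 n10817
theorem D11782 : act 4 n10817 = n11782 := rfl
theorem F46293 : act 0 n11782 = n11782 := d3_1 D11782 (iv D11782) F42568
theorem F46294 : act 1 n11782 = n10864 := d10_1 D11782 (iv D10864) (iv F42569)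
theorem F46295 : act 2 n11782 = n10818 := d16_1 D11782 (iv D10818) D10817
theorem F46296 : act 6 n11782 = n11782 := d27_2 F42570 D11782 (iv D11782)
theorem F46297 : act 7 n11782 = n11782 := d28_2 F42571 D11782 (iv D11782)
def n11783 : Q := act 8 n10817
theorem D11783 : act 8 n10817 = n11783 := rfl
theorem F46298 : act 0 n11783 = n11783 := d7_1 D11783 (iv D11783) F42568
theorem F46299 : act 1 n11783 = n10865 := d14_1 D11783 (iv D10865) (iv F42569)
theorem F46300 : act 2 n11783 = n10819 := d20_1 D11783 (iv D10819) D10817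
theorem F46301 : act 6 n11783 = n11783 := d34_1 D11783 (iv D11783) F42570
def n11784 : Q := act 5 n10818
theorem D11784 : act 5 n10818 = n11784 := rfl
theorem F46302 : act 0 n11784 = n11784 := d4_1 D11784 (iv D11784) F42572
theorem F46303 : act 1 n11784 = n10825 := d11_1 D11784 (iv D10825) (iv F42573)
theorem F46304 : act 3 n11784 = n11784 := d22_1 D11784 (iv D11784) F42574
theorem F46305 : act 7 n11784 = n11784 := d31_2 F42576 D11784 (iv D11784)
def n11785 : Q := act 8 n10818
theorem D11785 : act 8 n10818 = n11785 := rfl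
theorem F46306 : act 0 n11785 = n11785 := d7_1 D11785 (iv D11785) F42572
theorem F46307 : act 1 n11785 = n10826 := d14_1 D11785 (iv D10826) (iv F42573)
theorem F46308 : act 3 n11785 = n11785 := d25_1 D11785 (iv D11785) F42574
theorem F46309 : act 4 n11785 = n10819 := d29_1 D11785 (iv D10819) D10818
theorem F46310 : act 6 n11785 = n11785 := d34_1 D11785 (iv D11785) F42575
def n11786 : Q := act 7 n10819
theorem D11786 : act 7 n10819 = n11786 := rfl
theorem F46311 : act 0 n11786 = n11786 := d6_1 D11786 (iv D11786) F42577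
theorem F46312 : act 1 n11786 = n10827 := d13_1 D11786 (iv D10827) (iv F42578)
theorem F46313 : act 3 n11786 = n11786 := d24_1 D11786 (iv D11786) F42579 F39348 (iv F42579)
theorem F46314 : act 6 n11786 = n11786 := d33_1 D11786 (iv D11786) F42580
theorem F46315 : act 8 n11786 = n11786 := d35_2 D10819 D11786 (iv D11786) (iv D10819) F39343
def n11787 : Q := act 8 n10821
theorem D11787 : act 8 n10821 = n11787 := rfl
theorem F46316 : act 0 n11787 = n10832 := d7_1 D11787 (iv D10832) (iv F42588)
theorem F46317 : act 2 n11787 = n10880 := d20_1 D11787 (iv D10880) (iv F42589)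
theorem F46318 : act 3 n11787 = n10822 := d25_1 D11787 (iv D10822) D10821
theorem F46319 : act 4 n11787 = n11464 := d29_1 D11787 F45093 (iv F42590)
theorem F46320 : act 5 n11787 = n11787 := d32_1 D11787 (iv D11787) F42591
theorem F46321 : act 6 n11787 = n10824 := d34_1 D11787 (iv D10824) (iv F42592)
def n11788 : Q := act 5 n10823
theorem D11788 : act 5 n10823 = n11788 := rfl
theorem F46322 : act 0 n11788 = n10833 := d4_1 D11788 (iv D10833) (iv F42600)
theorem F46323 : act 2 n11788 = n10881 := d17_1 D11788 (iv D10881) (iv F42601)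
theorem F46324 : act 3 n11788 = n11632 := d22_1 D11788 F45796 (iv F42602)
theorem F46325 : act 4 n11788 = n10825 := d26_1 D11788 (iv D10825) (iv D9971) (iv F39362) D10823
theorem F46326 : act 6 n11788 = n11633 := d30_2 (iv F42603) D11788 F45799 F42120 (iv F42126)
theorem F46327 : act 7 n11788 = n11788 := d31_2 F42604 D11788 (iv D11788)
def n11789 : Q := act 8 n10823
theorem D11789 : act 8 n10823 = n11789 := rfl
theorem F46328 : act 0 n11789 = n10834 := d7_1 D11789 (iv D10834) (iv F42600)
theorem F46329 : act 2 n11789 = n10882 := d20_1 D11789 (iv D10882) (iv F42601)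
theorem F46330 : act 3 n11789 = n11463 := d25_1 D11789 F45090 (iv F42602)
theorem F46331 : act 4 n11789 = n10824 := d29_1 D11789 (iv D10824) D10823
theorem F46332 : act 6 n11789 = n11464 := d34_1 D11789 F45093 (iv F42603)
def n11790 : Q := act 7 n10824
theorem D11790 : act 7 n10824 = n11790 := rfl
theorem F46333 : act 0 n11790 = n10835 := d6_1 D11790 (iv D10835) (iv F42605)
theorem F46334 : act 2 n11790 = n10883 := d19_1 D11790 (iv D10883) (iv F42606)
theorem F46335 : act 3 n11790 = n11790 := d24_1 D11790 (iv D11790) F42607 F39367 (iv F42607)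
theorem F46336 : act 5 n11790 = n10827 := d31_1 D11790 (iv D10827) (iv F42608)
theorem F46337 : act 8 n11790 = n11790 := d35_2 D10824 D11790 (iv D11790) (iv D10824) F39363
def n11791 : Q := act 6 n10825
theorem D11791 : act 6 n10825 = n11791 := rfl
theorem F46338 : act 0 n11791 = n10836 := d5_1 D11791 (iv D10836) (iv F42609)
theorem F46339 : act 2 n11791 = n10884 := d18_1 D11791 (iv D10884) (iv F42610)
theorem F46340 : act 3 n11791 = n11791 := d23_1 D11791 (iv D11791) F42611
theorem F46341 : act 4 n11791 = n11633 := d27_1 D11791 (iv F46326) F46325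
theorem F46342 : act 5 n11791 = n11791 := d30_1 D11791 (iv D11791) (iv D10825) F39371 D10825
theorem F46343 : act 7 n11791 = n11791 := d33_2 F42612 D11791 (iv D11791)
def n11792 : Q := act 8 n10825
theorem D11792 : act 8 n10825 = n11792 := rfl
theorem F46344 : act 0 n11792 = n10837 := d7_1 D11792 (iv D10837) (iv F42609)
theorem F46345 : act 2 n11792 = n10885 := d20_1 D11792 (iv D10885) (iv F42610)
theorem F46346 : act 3 n11792 = n11792 := d25_1 D11792 (iv D11792) F42611
theorem F46347 : act 5 n11792 = n10826 := d32_1 D11792 (iv D10826) D10825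
def n11793 : Q := act 7 n10826
theorem D11793 : act 7 n10826 = n11793 := rfl
theorem F46348 : act 0 n11793 = n10838 := d6_1 D11793 (iv D10838) (iv F42613)
theorem F46349 : act 2 n11793 = n10886 := d19_1 D11793 (iv D10886) (iv F42614)
theorem F46350 : act 4 n11793 = n10827 := d28_1 D11793 (iv D10827) (iv F42616)
theorem F46351 : act 6 n11793 = n11793 := d33_1 D11793 (iv D11793) F42617
theorem F46352 : act 8 n11793 = n11793 := d35_2 D10826 D11793 (iv D11793) (iv D10826) F39372
def n11794 : Q := act 8 n10828
theorem D11794 : act 8 n10828 = n11794 := rfl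
theorem F46353 : act 0 n11794 = n10839 := d7_1 D11794 (iv D10839) (iv F42623)
theorem F46354 : act 2 n11794 = n11356 := d20_1 D11794 F44689 (iv F42624)
theorem F46355 : act 3 n11794 = n10829 := d25_1 D11794 (iv D10829) D10828
theorem F46356 : act 4 n11794 = n10890 := d29_1 D11794 (iv D10890) (iv F42625)
theorem F46357 : act 5 n11794 = n11357 := d32_1 D11794 F44693 (iv F42626)
theorem F46358 : act 6 n11794 = n10831 := d34_1 D11794 (iv D10831) (iv F42627)
def n11795 : Q := act 1 n10830
theorem D11795 : act 1 n10830 = n11795 := rfl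
theorem F46359 : act 3 n11795 = n11577 := d9_2 (iv F42636) D11795 F45551
theorem F46360 : act 4 n11795 = n10891 := d10_2 (iv F42637) D11795 (iv D10891)
theorem F46361 : act 5 n11795 = n11795 := d11_2 F42638 D11795 (iv D11795)
theorem F46362 : act 6 n11795 = n11578 := d12_2 (iv F42639) D11795 F45554
theorem F46363 : act 7 n11795 = n11795 := d13_2 F42640 D11795 (iv D11795)
def n11796 : Q := act 8 n10830
theorem D11796 : act 8 n10830 = n11796 := rfl
theorem F46364 : act 0 n11796 = n10841 := d7_1 D11796 (iv D10841) (iv F42635)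
theorem F46365 : act 2 n11796 = n10831 := d20_1 D11796 (iv D10831) D10830
theorem F46366 : act 3 n11796 = n11355 := d25_1 D11796 F44686 (iv F42636)
theorem F46367 : act 4 n11796 = n10892 := d29_1 D11796 (iv D10892) (iv F42637)
theorem F46368 : act 5 n11796 = n11796 := d32_1 D11796 (iv D11796) F42638
theorem F46369 : act 6 n11796 = n11356 := d34_1 D11796 F44689 (iv F42639)
def n11797 : Q := act 7 n10831
theorem D11797 : act 7 n10831 = n11797 := rfl
theorem F46370 : act 0 n11797 = n10842 := d6_1 D11797 (iv D10842) (iv F42641)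
theorem F46371 : act 3 n11797 = n11797 := d24_1 D11797 (iv D11797) F42642 F39389 (iv F42642)
theorem F46372 : act 4 n11797 = n10893 := d28_1 D11797 (iv D10893) (iv F42643)
theorem F46373 : act 5 n11797 = n11797 := d31_1 D11797 (iv D11797) F42644
theorem F46374 : act 8 n11797 = n11797 := d35_2 D10831 D11797 (iv D11797) (iv D10831) F39385
def n11798 : Q := act 7 n10832
theorem D11798 : act 7 n10832 = n11798 := rfl
theorem F46375 : act 1 n11798 = n11798 := d13_1 D11798 (iv D11798) F42645
theorem F46376 : act 2 n11798 = n10912 := d19_1 D11798 (iv D10912) (iv F42646)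
theorem F46377 : act 3 n11798 = n11798 := d24_1 D11798 (iv D11798) F42647 F39413 (iv F42647)
theorem F46378 : act 4 n11798 = n11477 := d28_1 D11798 F45147 (iv F42648)
theorem F46379 : act 5 n11798 = n11798 := d31_1 D11798 (iv D11798) F42649
theorem F46380 : act 6 n11798 = n10835 := d33_1 D11798 (iv D10835) (iv F42650)
theorem F46381 : act 8 n11798 = n11798 := d35_2 D10832 D11798 (iv D11798) (iv D10832) F39407
def n11799 : Q := act 8 n10833
theorem D11799 : act 8 n10833 = n11799 := rfl
theorem F46382 : act 1 n11799 = n11799 := d14_1 D11799 (iv D11799) F42651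
theorem F46383 : act 2 n11799 = n10914 := d20_1 D11799 (iv D10914) (iv F42652)
theorem F46384 : act 3 n11799 = n11479 := d25_1 D11799 F45157 (iv F42653)
theorem F46385 : act 4 n11799 = n10837 := d29_1 D11799 (iv D10837) (iv F42654)
theorem F46386 : act 5 n11799 = n10834 := d32_1 D11799 (iv D10834) D10833
theorem F46387 : act 6 n11799 = n11480 := d34_1 D11799 F45161 (iv F42655)
theorem F46388 : act 7 n11770 = n11799 := d33_0 F46387 F45160 (iv F46245)
def n11800 : Q := act 7 n10834
theorem D11800 : act 7 n10834 = n11800 := rfl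
theorem F46389 : act 1 n11800 = n11800 := d13_1 D11800 (iv D11800) F42657
theorem F46390 : act 2 n11800 = n10915 := d19_1 D11800 (iv D10915) (iv F42658)
theorem F46391 : act 3 n11800 = n11476 := d24_1 D11800 (iv D11476) F41462 D10521 (iv F42659)
theorem F46392 : act 4 n11800 = n10835 := d28_1 D11800 (iv D10835) (iv F42660)
theorem F46393 : act 5 n11800 = n11770 := d31_1 D11800 F46388 F46386
theorem F46394 : act 6 n11800 = n11477 := d33_1 D11800 F45147 (iv F42661)
theorem F46395 : act 8 n11800 = n11800 := d35_2 D10834 D11800 (iv D11800) (iv D10834) F39418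
def n11801 : Q := act 8 n10836
theorem D11801 : act 8 n10836 = n11801 := rfl
theorem F46396 : act 1 n11801 = n11801 := d14_1 D11801 (iv D11801) F42667
theorem F46397 : act 2 n11801 = n10916 := d20_1 D11801 (iv D10916) (iv F42668)
theorem F46398 : act 3 n11801 = n11801 := d25_1 D11801 (iv D11801) F42669
theorem F46399 : act 4 n11801 = n11480 := d29_1 D11801 F45161 (iv F42670)
theorem F46400 : act 5 n11801 = n11801 := d32_1 D11801 (iv D11801) F42671
theorem F46401 : act 6 n11801 = n10837 := d34_1 D11801 (iv D10837) D10836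
theorem F46402 : act 7 n11772 = n11801 := d28_0 F46399 F45160 D11772
def n11802 : Q := act 7 n10837
theorem D11802 : act 7 n10837 = n11802 := rfl
theorem F46403 : act 1 n11802 = n11802 := d13_1 D11802 (iv D11802) F42673
theorem F46404 : act 2 n11802 = n10917 := d19_1 D11802 (iv D10917) (iv F42674)
theorem F46405 : act 4 n11802 = n11770 := d28_1 D11802 F46388 F46385
theorem F46406 : act 5 n11802 = n10838 := d31_1 D11802 (iv D10838) (iv F42676)
theorem F46407 : act 6 n11802 = n11772 := d33_1 D11802 F46402 F46401
theorem F46408 : act 8 n11802 = n11802 := d35_2 D10837 D11802 (iv D11802) (iv D10837) F39426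
theorem F46409 : act 3 n11775 = n11802 := d23_3 F46407 F46250 (iv F46261)
def n11803 : Q := act 3 n10838
theorem D11803 : act 3 n10838 = n11803 := rfl
theorem F46410 : act 1 n11803 = n11803 := d9_1 D11803 (iv D11803) F42677
theorem F46411 : act 4 n11803 = n11803 := d21_2 (iv F42679) D11803 (iv D11803) F42679 F39434
theorem F46412 : act 5 n11803 = n11775 := d22_2 F46406 D11803 F46409
theorem F46413 : act 6 n11803 = n11803 := d23_2 F42680 D11803 (iv D11803)
theorem F46414 : act 7 n11803 = n11803 := d24_2 D10838 D11803 (iv D11803) (iv D10838) F39429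
theorem F46415 : act 8 n11803 = n11803 := d25_2 F42681 D11803 (iv D11803)
def n11804 : Q := act 7 n10839
theorem D11804 : act 7 n10839 = n11804 := rfl
theorem F46416 : act 1 n11804 = n10848 := d13_1 D11804 (iv D10848) (iv F42682)
theorem F46417 : act 2 n11804 = n11029 := d19_1 D11804 F43417 (iv F42683)
theorem F46418 : act 3 n11804 = n11804 := d24_1 D11804 (iv D11804) F42684 F39448 (iv F42684)
theorem F46419 : act 4 n11804 = n10924 := d28_1 D11804 (iv D10924) (iv F42685)
theorem F46420 : act 5 n11804 = n11030 := d31_1 D11804 F43422 (iv F42686)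
theorem F46421 : act 6 n11804 = n10842 := d33_1 D11804 (iv D10842) (iv F42687)
theorem F46422 : act 8 n11804 = n11804 := d35_2 D10839 D11804 (iv D11804) (iv D10839) F39442
def n11805 : Q := act 0 n10840
theorem D11805 : act 0 n10840 = n11805 := rfl
theorem F46423 : act 2 n11805 = n10849 := d1_2 (iv F42688) D11805 (iv D10849)
theorem F46424 : act 3 n11805 = n11520 := d2_2 (iv F42689) D11805 F45336
theorem F46425 : act 4 n11805 = n10925 := d3_2 (iv F42690) D11805 (iv D10925)
theorem F46426 : act 5 n11805 = n11805 := d4_2 F42691 D11805 (iv D11805)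
theorem F46427 : act 6 n11805 = n11521 := d5_2 (iv F42692) D11805 F45340
theorem F46428 : act 7 n11805 = n11805 := d6_2 F42693 D11805 (iv D11805)
def n11806 : Q := act 8 n10840
theorem D11806 : act 8 n10840 = n11806 := rfl
theorem F46429 : act 1 n11806 = n10841 := d14_1 D11806 (iv D10841) D10840
theorem F46430 : act 2 n11806 = n10850 := d20_1 D11806 (iv D10850) (iv F42688)
theorem F46431 : act 3 n11806 = n11229 := d25_1 D11806 F44265 (iv F42689)
theorem F46432 : act 4 n11806 = n10926 := d29_1 D11806 (iv D10926) (iv F42690)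
theorem F46433 : act 5 n11806 = n11806 := d32_1 D11806 (iv D11806) F42691
theorem F46434 : act 6 n11806 = n11230 := d34_1 D11806 F44268 (iv F42692)
def n11807 : Q := act 7 n10841
theorem D11807 : act 7 n10841 = n11807 := rfl
theorem F46435 : act 2 n11807 = n10842 := d19_1 D11807 (iv D10842) (iv F42694)
theorem F46436 : act 3 n11807 = n11028 := d24_1 D11807 (iv D11028) F39938 D10432 (iv F42695)
theorem F46437 : act 4 n11807 = n10927 := d28_1 D11807 (iv D10927) (iv F42696)
theorem F46438 : act 5 n11807 = n11807 := d31_1 D11807 (iv D11807) F42697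
theorem F46439 : act 6 n11807 = n11029 := d33_1 D11807 F43417 (iv F42698)
theorem F46440 : act 8 n11807 = n11807 := d35_2 D10841 D11807 (iv D11807) (iv D10841) F39453
def n11808 : Q := act 8 n10843
theorem D11808 : act 8 n10843 = n11808 := rfl
theorem F46441 : act 1 n11808 = n11231 := d14_1 D11808 F44271 (iv F42704)
theorem F46442 : act 2 n11808 = n10845 := d20_1 D11808 (iv D10845) D10843
theorem F46443 : act 3 n11808 = n11808 := d25_1 D11808 (iv D11808) F42705
theorem F46444 : act 4 n11808 = n11090 := d29_1 D11808 (iv D11090) F42709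
theorem F46445 : act 5 n11808 = n10847 := d32_1 D11808 (iv D10847) (iv F42706)
theorem F46446 : act 6 n11808 = n11808 := d34_1 D11808 (iv D11808) F42707
def n11809 : Q := act 8 n10844
theorem D11809 : act 8 n10844 = n11809 := rfl
theorem F46447 : act 0 n11809 = n11808 := d7_1 D11809 (iv D11808) (iv F42710)
theorem F46448 : act 1 n11809 = n11284 := d14_1 D11809 F44460 (iv F42711)
theorem F46449 : act 2 n11809 = n11090 := d20_1 D11809 (iv D11090) (iv F42712)
theorem F46450 : act 3 n11809 = n11809 := d25_1 D11809 (iv D11809) F42713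
theorem F46451 : act 4 n11809 = n10845 := d29_1 D11809 (iv D10845) D10844
theorem F46452 : act 5 n11809 = n10928 := d32_1 D11809 (iv D10928) (iv F42714)
theorem F46453 : act 6 n11809 = n11809 := d34_1 D11809 (iv D11809) F42715
theorem F46454 : act 7 n11737 = n11809 := d13_0 F46448 F44459 D11737
def n11810 : Q := act 7 n10845
theorem D11810 : act 7 n10845 = n11810 := rfl
theorem F46455 : act 1 n11810 = n11030 := d13_1 D11810 F43422 (iv F42717)
theorem F46456 : act 3 n11810 = n11810 := d24_1 D11810 (iv D11810) F42718 F39467 (iv F42718)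
theorem F46457 : act 4 n11810 = n11737 := d28_1 D11810 F46454 F46451
theorem F46458 : act 5 n11810 = n10848 := d31_1 D11810 (iv D10848) (iv F42719)
theorem F46459 : act 6 n11810 = n11810 := d33_1 D11810 (iv D11810) F42720
theorem F46460 : act 8 n11810 = n11810 := d35_2 D10845 D11810 (iv D11810) (iv D10845) F39461
def n11811 : Q := act 0 n10846
theorem D11811 : act 0 n10846 = n11811 := rfl
theorem F46461 : act 2 n11811 = n11521 := d1_2 (iv F42721) D11811 F45340
theorem F46462 : act 3 n11811 = n11811 := d2_2 F42722 D11811 (iv D11811)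
theorem F46463 : act 4 n11811 = n10930 := d3_2 (iv F42723) D11811 (iv D10930)
theorem F46464 : act 5 n11811 = n11522 := d4_2 (iv F42724) D11811 F45343
theorem F46465 : act 6 n11811 = n10849 := d5_2 (iv F42725) D11811 (iv D10849)
theorem F46466 : act 7 n11811 = n11811 := d6_2 F42726 D11811 (iv D11811)
def n11812 : Q := act 8 n10846
theorem D11812 : act 8 n10846 = n11812 := rfl
theorem F46467 : act 1 n11812 = n10847 := d14_1 D11812 (iv D10847) D10846
theorem F46468 : act 2 n11812 = n11230 := d20_1 D11812 F44268 (iv F42721)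
theorem F46469 : act 3 n11812 = n11812 := d25_1 D11812 (iv D11812) F42722
theorem F46470 : act 4 n11812 = n10931 := d29_1 D11812 (iv D10931) (iv F42723)
theorem F46471 : act 5 n11812 = n11231 := d32_1 D11812 F44271 (iv F42724)
theorem F46472 : act 6 n11812 = n10850 := d34_1 D11812 (iv D10850) (iv F42725)
def n11813 : Q := act 7 n10847
theorem D11813 : act 7 n10847 = n11813 := rfl
theorem F46473 : act 2 n11813 = n10848 := d19_1 D11813 (iv D10848) (iv F42727)
theorem F46474 : act 4 n11813 = n10932 := d28_1 D11813 (iv D10932) (iv F42729)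
theorem F46475 : act 6 n11813 = n10851 := d33_1 D11813 (iv D10851) (iv F42730)
theorem F46476 : act 8 n11813 = n11813 := d35_2 D10847 D11813 (iv D11813) (iv D10847) F39471
def n11814 : Q := act 8 n10849
theorem D11814 : act 8 n10849 = n11814 := rfl
theorem F46477 : act 0 n11814 = n10850 := d7_1 D11814 (iv D10850) D10849
theorem F46478 : act 3 n11814 = n11814 := d25_1 D11814 (iv D11814) F42735
theorem F46479 : act 4 n11814 = n10933 := d29_1 D11814 (iv D10933) (iv F42736)
theorem F46480 : act 5 n11814 = n11814 := d32_1 D11814 (iv D11814) F42737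
def n11815 : Q := act 7 n10850
theorem D11815 : act 7 n10850 = n11815 := rfl
theorem F46481 : act 1 n11815 = n10851 := d13_1 D11815 (iv D10851) (iv F42739)
theorem F46482 : act 4 n11815 = n10934 := d28_1 D11815 (iv D10934) (iv F42741)
theorem F46483 : act 5 n11815 = n11815 := d31_1 D11815 (iv D11815) F42742
theorem F46484 : act 8 n11815 = n11815 := d35_2 D10850 D11815 (iv D11815) (iv D10850) F39478
def n11816 : Q := act 3 n10851
theorem D11816 : act 3 n10851 = n11816 := rfl
theorem F46485 : act 2 n11816 = n11816 := d15_1 D11816 (iv D11816) F42743 F39483 (iv F42743)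
theorem F46486 : act 5 n11816 = n11816 := d22_2 F42745 D11816 (iv D11816)
theorem F46487 : act 7 n11816 = n11816 := d24_2 D10851 D11816 (iv D11816) (iv D10851) F39480
theorem F46488 : act 8 n11816 = n11816 := d25_2 F42746 D11816 (iv D11816)
def n11817 : Q := act 7 n10852
theorem D11817 : act 7 n10852 = n11817 := rfl
theorem F46489 : act 0 n11817 = n10936 := d6_1 D11817 (iv D10936) (iv F42747)
theorem F46490 : act 1 n11817 = n11817 := d13_1 D11817 (iv D11817) F42748
theorem F46491 : act 2 n11817 = n10854 := d19_1 D11817 (iv D10854) D10852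
theorem F46492 : act 4 n11817 = n11817 := d28_1 D11817 (iv D11817) F42749
theorem F46493 : act 5 n11817 = n11141 := d31_1 D11817 (iv D11141) (iv F42750)
def n11818 : Q := act 5 n10853
theorem D11818 : act 5 n10853 = n11818 := rfl
theorem F46494 : act 0 n11818 = n10937 := d4_1 D11818 (iv D10937) (iv F42752)
theorem F46495 : act 1 n11818 = n10869 := d11_1 D11818 (iv D10869) (iv F42753)
theorem F46496 : act 3 n11818 = n10855 := d22_1 D11818 (iv D10855) (iv F42754)
theorem F46497 : act 6 n11818 = n11142 := d30_2 D10853 D11818 (iv D11142) (iv D10236) (iv F39490)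
theorem F46498 : act 8 n11818 = n11063 := d32_2 (iv F42756) D11818 F43577
theorem F46499 : act 4 n11536 = n11818 := d29_3 F46498 (iv F43579) D11536
def n11819 : Q := act 7 n10853
theorem D11819 : act 7 n10853 = n11819 := rfl
theorem F46500 : act 0 n11819 = n10938 := d6_1 D11819 (iv D10938) (iv F42752)
theorem F46501 : act 1 n11819 = n10870 := d13_1 D11819 (iv D10870) (iv F42753)
theorem F46502 : act 4 n11819 = n11819 := d28_1 D11819 (iv D11819) F42755
theorem F46503 : act 6 n11819 = n10854 := d33_1 D11819 (iv D10854) D10853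
def n11820 : Q := act 3 n10854
theorem D11820 : act 3 n10854 = n11820 := rfl
theorem F46504 : act 0 n11820 = n10939 := d2_1 D11820 (iv D10939) (iv F42757)
theorem F46505 : act 1 n11820 = n10871 := d9_1 D11820 (iv D10871) (iv F42758)
theorem F46506 : act 5 n11820 = n11144 := d22_2 (iv F42760) D11820 (iv D11144)
theorem F46507 : act 7 n11820 = n10857 := d24_2 D10854 D11820 (iv D10857) (iv D9998) D9996
def n11821 : Q := act 8 n10854
theorem D11821 : act 8 n10854 = n11821 := rfl
theorem F46508 : act 0 n11821 = n10940 := d7_1 D11821 (iv D10940) (iv F42757)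
theorem F46509 : act 1 n11821 = n10872 := d14_1 D11821 (iv D10872) (iv F42758)
theorem F46510 : act 4 n11821 = n11821 := d29_1 D11821 (iv D11821) F42759
theorem F46511 : act 5 n11821 = n11145 := d32_1 D11821 (iv D11145) (iv F42760)
theorem F46512 : act 7 n11821 = n11640 := d35_1 D11821 (iv D11640) (iv D10701) (iv F39491) D10854
def n11822 : Q := act 7 n10855
theorem D11822 : act 7 n10855 = n11822 := rfl
theorem F46513 : act 0 n11822 = n10941 := d6_1 D11822 (iv D10941) (iv F42761)
theorem F46514 : act 1 n11822 = n10873 := d13_1 D11822 (iv D10873) (iv F42762)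
theorem F46515 : act 4 n11822 = n11822 := d28_1 D11822 (iv D11822) F42763
theorem F46516 : act 5 n11822 = n10856 := d31_1 D11822 (iv D10856) D10855
theorem F46517 : act 6 n11822 = n11146 := d33_1 D11822 (iv D11146) (iv F42764)
def n11823 : Q := act 3 n10856
theorem D11823 : act 3 n10856 = n11823 := rfl
theorem F46518 : act 0 n11823 = n10942 := d2_1 D11823 (iv D10942) (iv F42766)
theorem F46519 : act 1 n11823 = n10874 := d9_1 D11823 (iv D10874) (iv F42767)
theorem F46520 : act 6 n11823 = n10857 := d23_2 (iv F42769) D11823 (iv D10857)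
def n11824 : Q := act 8 n10856
theorem D11824 : act 8 n10856 = n11824 := rfl
theorem F46521 : act 0 n11824 = n10943 := d7_1 D11824 (iv D10943) (iv F42766)
theorem F46522 : act 1 n11824 = n10875 := d14_1 D11824 (iv D10875) (iv F42767)
theorem F46523 : act 4 n11824 = n10860 := d29_1 D11824 (iv D10860) (iv F42768)
theorem F46524 : act 6 n11824 = n10858 := d34_1 D11824 (iv D10858) (iv F42769)
theorem F46525 : act 7 n11824 = n11358 := d35_1 D11824 (iv D11358) F41040 (iv F39495) D10856
def n11825 : Q := act 2 n10857
theorem D11825 : act 2 n10857 = n11825 := rfl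
theorem F46526 : act 0 n11825 = n10944 := d1_1 D11825 (iv D10944) (iv F42770)
theorem F46527 : act 5 n11825 = n11149 := d17_2 (iv F42772) D11825 (iv D11149)
def n11826 : Q := act 4 n10857
theorem D11826 : act 4 n10857 = n11826 := rfl
theorem F46528 : act 0 n11826 = n10945 := d3_1 D11826 (iv D10945) (iv F42770)
theorem F46529 : act 1 n11826 = n10877 := d10_1 D11826 (iv D10877) (iv F42771)
theorem F46530 : act 3 n11826 = n10862 := d21_1 D11826 (iv D10862) (iv D10000) (iv F39498) D10857
def n11827 : Q := act 8 n10857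
theorem D11827 : act 8 n10857 = n11827 := rfl
theorem F46531 : act 0 n11827 = n10946 := d7_1 D11827 (iv D10946) (iv F42770)
theorem F46532 : act 1 n11827 = n10878 := d14_1 D11827 (iv D10878) (iv F42771)
theorem F46533 : act 3 n11827 = n10858 := d25_1 D11827 (iv D10858) D10857
theorem F46534 : act 5 n11827 = n11151 := d32_1 D11827 (iv D11151) (iv F42772)
def n11828 : Q := act 4 n10859
theorem D11828 : act 4 n10859 = n11828 := rfl
theorem F46535 : act 0 n11828 = n10948 := d3_1 D11828 (iv D10948) (iv F42778)
theorem F46536 : act 1 n11828 = n10879 := d10_1 D11828 (iv D10879) (iv F42779)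
theorem F46537 : act 6 n11828 = n10862 := d27_2 (iv F42781) D11828 (iv D10862)
theorem F46538 : act 7 n11828 = n11828 := d28_2 F42782 D11828 (iv D11828)
theorem F46539 : act 5 n11635 = n11828 := d11_0 F46536 (iv F42861) D11635
def n11829 : Q := act 8 n10859
theorem D11829 : act 8 n10859 = n11829 := rfl
theorem F46540 : act 0 n11829 = n10949 := d7_1 D11829 (iv D10949) (iv F42778)
theorem F46541 : act 1 n11829 = n10880 := d14_1 D11829 (iv D10880) (iv F42779)
theorem F46542 : act 3 n11829 = n10860 := d25_1 D11829 (iv D10860) D10859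
theorem F46543 : act 5 n11829 = n11829 := d32_1 D11829 (iv D11829) F42780
theorem F46544 : act 6 n11829 = n10863 := d34_1 D11829 (iv D10863) (iv F42781)
def n11830 : Q := act 4 n10861
theorem D11830 : act 4 n10861 = n11830 := rfl
theorem F46545 : act 0 n11830 = n10950 := d3_1 D11830 (iv D10950) (iv F42788)
theorem F46546 : act 2 n11830 = n10862 := d16_1 D11830 (iv D10862) D10861
theorem F46547 : act 7 n11830 = n11830 := d28_2 F42790 D11830 (iv D11830)
def n11831 : Q := act 8 n10861
theorem D11831 : act 8 n10861 = n11831 := rfl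
theorem F46548 : act 0 n11831 = n10951 := d7_1 D11831 (iv D10951) (iv F42788)
theorem F46549 : act 2 n11831 = n10863 := d20_1 D11831 (iv D10863) D10861
theorem F46550 : act 5 n11831 = n10865 := d32_1 D11831 (iv D10865) (iv F42789)
def n11832 : Q := act 5 n10862
theorem D11832 : act 5 n10862 = n11832 := rfl
theorem F46551 : act 0 n11832 = n10952 := d4_1 D11832 (iv D10952) (iv F42791)
theorem F46552 : act 1 n11832 = n10881 := d11_1 D11832 (iv D10881) (iv F42792)
theorem F46553 : act 4 n11832 = n10866 := d26_1 D11832 (iv D10866) (iv D10003) (iv F39506) D10862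
theorem F46554 : act 7 n11832 = n11832 := d31_2 F42793 D11832 (iv D11832)
def n11833 : Q := act 8 n10862
theorem D11833 : act 8 n10862 = n11833 := rfl
theorem F46555 : act 0 n11833 = n10953 := d7_1 D11833 (iv D10953) (iv F42791)
theorem F46556 : act 1 n11833 = n10882 := d14_1 D11833 (iv D10882) (iv F42792)
theorem F46557 : act 4 n11833 = n10863 := d29_1 D11833 (iv D10863) D10862
def n11834 : Q := act 7 n10863
theorem D11834 : act 7 n10863 = n11834 := rfl
theorem F46558 : act 0 n11834 = n10954 := d6_1 D11834 (iv D10954) (iv F42794)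
theorem F46559 : act 1 n11834 = n10883 := d13_1 D11834 (iv D10883) (iv F42795)
theorem F46560 : act 3 n11834 = n11648 := d24_1 D11834 (iv D11648) F42210 (iv F39511) (iv F42796)
theorem F46561 : act 5 n11834 = n10868 := d31_1 D11834 (iv D10868) (iv F42797)
theorem F46562 : act 8 n11834 = n11834 := d35_2 D10863 D11834 (iv D11834) (iv D10863) F39507
def n11835 : Q := act 3 n10864
theorem D11835 : act 3 n10864 = n11835 := rfl
theorem F46563 : act 0 n11835 = n10955 := d2_1 D11835 (iv D10955) (iv F42798)
theorem F46564 : act 2 n11835 = n11160 := d15_1 D11835 (iv D11160) F40507 (iv F39517) (iv F42799)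
theorem F46565 : act 6 n11835 = n11835 := d23_2 F42800 D11835 (iv D11835)
def n11836 : Q := act 5 n10864
theorem D11836 : act 5 n10864 = n11836 := rfl
theorem F46566 : act 0 n11836 = n10956 := d4_1 D11836 (iv D10956) (iv F42798)
theorem F46567 : act 2 n11836 = n10866 := d17_1 D11836 (iv D10866) (iv F42799)
theorem F46568 : act 7 n11836 = n11836 := d31_2 F42801 D11836 (iv D11836)
def n11837 : Q := act 8 n10864
theorem D11837 : act 8 n10864 = n11837 := rfl
theorem F46569 : act 0 n11837 = n10957 := d7_1 D11837 (iv D10957) (iv F42798)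
theorem F46570 : act 2 n11837 = n10867 := d20_1 D11837 (iv D10867) (iv F42799)
theorem F46571 : act 4 n11837 = n10865 := d29_1 D11837 (iv D10865) D10864
theorem F46572 : act 6 n11837 = n11837 := d34_1 D11837 (iv D11837) F42800
def n11838 : Q := act 7 n10865
theorem D11838 : act 7 n10865 = n11838 := rfl
theorem F46573 : act 0 n11838 = n10958 := d6_1 D11838 (iv D10958) (iv F42802)
theorem F46574 : act 2 n11838 = n10868 := d19_1 D11838 (iv D10868) (iv F42803)
theorem F46575 : act 6 n11838 = n11838 := d33_1 D11838 (iv D11838) F42804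
theorem F46576 : act 8 n11838 = n11838 := d35_2 D10865 D11838 (iv D11838) (iv D10865) F39514
def n11839 : Q := act 6 n10866
theorem D11839 : act 6 n10866 = n11839 := rfl
theorem F46577 : act 0 n11839 = n10959 := d5_1 D11839 (iv D10959) (iv F42805)
theorem F46578 : act 1 n11839 = n10884 := d12_1 D11839 (iv D10884) (iv F42806)
theorem F46579 : act 3 n11839 = n11164 := d23_1 D11839 (iv D11164) (iv F42807)
theorem F46580 : act 5 n11839 = n11839 := d30_1 D11839 (iv D11839) (iv D10866) F39518 D10866
theorem F46581 : act 7 n11839 = n11839 := d33_2 F42808 D11839 (iv D11839)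
def n11840 : Q := act 8 n10866
theorem D11840 : act 8 n10866 = n11840 := rfl
theorem F46582 : act 0 n11840 = n10960 := d7_1 D11840 (iv D10960) (iv F42805)
theorem F46583 : act 1 n11840 = n10885 := d14_1 D11840 (iv D10885) (iv F42806)
theorem F46584 : act 3 n11840 = n11165 := d25_1 D11840 (iv D11165) (iv F42807)
theorem F46585 : act 5 n11840 = n10867 := d32_1 D11840 (iv D10867) D10866
def n11841 : Q := act 7 n10867
theorem D11841 : act 7 n10867 = n11841 := rfl
theorem F46586 : act 0 n11841 = n10961 := d6_1 D11841 (iv D10961) (iv F42809)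
theorem F46587 : act 1 n11841 = n10886 := d13_1 D11841 (iv D10886) (iv F42810)
theorem F46588 : act 4 n11841 = n10868 := d28_1 D11841 (iv D10868) (iv F42812)
theorem F46589 : act 6 n11841 = n11841 := d33_1 D11841 (iv D11841) F42813
theorem F46590 : act 8 n11841 = n11841 := d35_2 D10867 D11841 (iv D11841) (iv D10867) F39519
def n11842 : Q := act 7 n10869
theorem D11842 : act 7 n10869 = n11842 := rfl
theorem F46591 : act 0 n11842 = n10894 := d6_1 D11842 (iv D10894) (iv F42819)
theorem F46592 : act 2 n11842 = n11842 := d19_1 D11842 (iv D11842) F42820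
theorem F46593 : act 4 n11842 = n11539 := d28_1 D11842 (iv D11539) F42824
theorem F46594 : act 5 n11842 = n10870 := d31_1 D11842 (iv D10870) D10869
theorem F46595 : act 6 n11842 = n11167 := d33_1 D11842 (iv D11167) (iv F42822)
def n11843 : Q := act 3 n10870
theorem D11843 : act 3 n10870 = n11843 := rfl
theorem F46596 : act 0 n11843 = n10895 := d2_1 D11843 (iv D10895) (iv F42825)
theorem F46597 : act 6 n11843 = n10871 := d23_2 (iv F42828) D11843 (iv D10871)
theorem F46598 : act 7 n11843 = n10874 := d24_2 D10870 D11843 (iv D10874) (iv D10008) (iv F39526)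
def n11844 : Q := act 8 n10870
theorem D11844 : act 8 n10870 = n11844 := rfl
theorem F46599 : act 0 n11844 = n10896 := d7_1 D11844 (iv D10896) (iv F42825)
theorem F46600 : act 2 n11844 = n11844 := d20_1 D11844 (iv D11844) F42826
theorem F46601 : act 4 n11844 = n11844 := d29_1 D11844 (iv D11844) F42827
theorem F46602 : act 6 n11844 = n10872 := d34_1 D11844 (iv D10872) (iv F42828)
theorem F46603 : act 7 n11844 = n11408 := d35_1 D11844 (iv D11408) F41224 (iv F39528) D10870
def n11845 : Q := act 2 n10871
theorem D11845 : act 2 n10871 = n11845 := rfl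
theorem F46604 : act 0 n11845 = n10897 := d1_1 D11845 (iv D10897) (iv F42829)
theorem F46605 : act 3 n11845 = n11845 := d15_2 D10871 D11845 (iv D11845) (iv D10871) F39530
theorem F46606 : act 5 n11845 = n11170 := d17_2 (iv F42830) D11845 (iv D11170)
theorem F46607 : act 7 n11845 = n10876 := d19_2 (iv F42831) D11845 (iv D10876)
def n11846 : Q := act 4 n10871
theorem D11846 : act 4 n10871 = n11846 := rfl
theorem F46608 : act 0 n11846 = n10898 := d3_1 D11846 (iv D10898) (iv F42829)
theorem F46609 : act 3 n11846 = n11846 := d21_1 D11846 (iv D11846) (iv D10871) F39531 D10871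
theorem F46610 : act 7 n11846 = n10877 := d28_2 (iv F42831) D11846 (iv D10877)
def n11847 : Q := act 8 n10871
theorem D11847 : act 8 n10871 = n11847 := rfl
theorem F46611 : act 0 n11847 = n10899 := d7_1 D11847 (iv D10899) (iv F42829)
theorem F46612 : act 3 n11847 = n10872 := d25_1 D11847 (iv D10872) D10871
theorem F46613 : act 5 n11847 = n11172 := d32_1 D11847 (iv D11172) (iv F42830)
def n11848 : Q := act 3 n10873
theorem D11848 : act 3 n10873 = n11848 := rfl
theorem F46614 : act 0 n11848 = n10900 := d2_1 D11848 (iv D10900) (iv F42837)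
theorem F46615 : act 5 n11848 = n10874 := d22_2 (iv F42840) D11848 (iv D10874)
theorem F46616 : act 6 n11848 = n11173 := d23_2 (iv F42841) D11848 (iv D11173)
def n11849 : Q := act 8 n10873
theorem D11849 : act 8 n10873 = n11849 := rfl
theorem F46617 : act 0 n11849 = n10901 := d7_1 D11849 (iv D10901) (iv F42837)
theorem F46618 : act 2 n11849 = n10888 := d20_1 D11849 (iv D10888) (iv F42838)
theorem F46619 : act 4 n11849 = n11849 := d29_1 D11849 (iv D11849) F42839
theorem F46620 : act 5 n11849 = n10875 := d32_1 D11849 (iv D10875) (iv F42840)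
theorem F46621 : act 6 n11849 = n11174 := d34_1 D11849 (iv D11174) (iv F42841)
theorem F46622 : act 7 n11849 = n11033 := d35_1 D11849 (iv D11033) F39961 (iv F39537) D10873
def n11850 : Q := act 2 n10874
theorem D11850 : act 2 n10874 = n11850 := rfl
theorem F46623 : act 0 n11850 = n10902 := d1_1 D11850 (iv D10902) (iv F42842)
theorem F46624 : act 3 n11850 = n10889 := d15_2 D10874 D11850 (iv D10889) (iv D10019) (iv F39539)
theorem F46625 : act 6 n11850 = n10876 := d18_2 (iv F42843) D11850 (iv D10876)
theorem F46626 : act 4 n11583 = n11850 := d21_0 F46624 F42896 (iv D10626) (iv F41875) D11583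
def n11851 : Q := act 4 n10874
theorem D11851 : act 4 n10874 = n11851 := rfl
theorem F46627 : act 0 n11851 = n10903 := d3_1 D11851 (iv D10903) (iv F42842)
theorem F46628 : act 2 n11851 = n11583 := d16_1 D11851 F46626 (iv D11850)
theorem F46629 : act 3 n11851 = n10879 := d21_1 D11851 (iv D10879) (iv D10011) (iv F39540) D10874
theorem F46630 : act 6 n11851 = n10877 := d27_2 (iv F42843) D11851 (iv D10877)
theorem F46631 : act 5 n11584 = n11851 := d22_0 F46629 (iv F42861) (iv F45578)
def n11852 : Q := act 8 n10874
theorem D11852 : act 8 n10874 = n11852 := rfl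
theorem F46632 : act 0 n11852 = n10904 := d7_1 D11852 (iv D10904) (iv F42842)
theorem F46633 : act 3 n11852 = n10875 := d25_1 D11852 (iv D10875) D10874
theorem F46634 : act 6 n11852 = n10878 := d34_1 D11852 (iv D10878) (iv F42843)
def n11853 : Q := act 1 n10876
theorem D11853 : act 1 n10876 = n11853 := rfl
theorem F46635 : act 3 n11853 = n10891 := d9_2 (iv F42850) D11853 (iv D10891)
theorem F46636 : act 5 n11853 = n11178 := d11_2 (iv F42851) D11853 (iv D11178)
def n11854 : Q := act 4 n10876
theorem D11854 : act 4 n10876 = n11854 := rfl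
theorem F46637 : act 0 n11854 = n10906 := d3_1 D11854 (iv D10906) (iv F42849)
theorem F46638 : act 2 n11854 = n10877 := d16_1 D11854 (iv D10877) D10876
theorem F46639 : act 3 n11854 = n11582 := d21_1 D11854 F45573 (iv F42636) F42637 (iv F42850)
theorem F46640 : act 6 n11854 = n11583 := d27_2 F46625 D11854 F46626
def n11855 : Q := act 8 n10876
theorem D11855 : act 8 n10876 = n11855 := rfl
theorem F46641 : act 0 n11855 = n10907 := d7_1 D11855 (iv D10907) (iv F42849)
theorem F46642 : act 2 n11855 = n10878 := d20_1 D11855 (iv D10878) D10876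
theorem F46643 : act 3 n11855 = n10892 := d25_1 D11855 (iv D10892) (iv F42850)
theorem F46644 : act 5 n11855 = n11180 := d32_1 D11855 (iv D11180) (iv F42851)
def n11856 : Q := act 5 n10877
theorem D11856 : act 5 n10877 = n11856 := rfl
theorem F46645 : act 0 n11856 = n10908 := d4_1 D11856 (iv D10908) (iv F42852)
theorem F46646 : act 3 n11856 = n10881 := d22_1 D11856 (iv D10881) (iv F42853)
theorem F46647 : act 4 n11856 = n11181 := d26_1 D11856 (iv D11181) (iv D10260) (iv F39543) D10877
def n11857 : Q := act 8 n10877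
theorem D11857 : act 8 n10877 = n11857 := rfl
theorem F46648 : act 0 n11857 = n10909 := d7_1 D11857 (iv D10909) (iv F42852)
theorem F46649 : act 3 n11857 = n10882 := d25_1 D11857 (iv D10882) (iv F42853)
theorem F46650 : act 4 n11857 = n10878 := d29_1 D11857 (iv D10878) D10877
def n11858 : Q := act 7 n10878
theorem D11858 : act 7 n10878 = n11858 := rfl
theorem F46651 : act 0 n11858 = n10910 := d6_1 D11858 (iv D10910) (iv F42854)
theorem F46652 : act 3 n11858 = n11664 := d24_1 D11858 (iv D11664) F42243 (iv F39548) (iv F42855)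
theorem F46653 : act 5 n11858 = n11183 := d31_1 D11858 (iv D11183) (iv F42856)
def n11859 : Q := act 8 n10879
theorem D11859 : act 8 n10879 = n11859 := rfl
theorem F46654 : act 0 n11859 = n10911 := d7_1 D11859 (iv D10911) (iv F42857)
theorem F46655 : act 2 n11859 = n11464 := d20_1 D11859 F45093 (iv F42858)
theorem F46656 : act 4 n11859 = n10880 := d29_1 D11859 (iv D10880) D10879
theorem F46657 : act 5 n11859 = n11465 := d32_1 D11859 F45096 F42861
theorem F46658 : act 6 n11859 = n10882 := d34_1 D11859 (iv D10882) (iv F42859)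
def n11860 : Q := act 7 n10880
theorem D11860 : act 7 n10880 = n11860 := rfl
theorem F46659 : act 0 n11860 = n10912 := d6_1 D11860 (iv D10912) (iv F42862)
theorem F46660 : act 3 n11860 = n11469 := d24_1 D11860 (iv D11469) F41434 (iv F39557) (iv F42863)
theorem F46661 : act 5 n11860 = n11860 := d31_1 D11860 (iv D11860) F42864
theorem F46662 : act 6 n11860 = n10883 := d33_1 D11860 (iv D10883) (iv F42865)
theorem F46663 : act 8 n11860 = n11860 := d35_2 D10880 D11860 (iv D11860) (iv D10880) F39552
def n11861 : Q := act 6 n10881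
theorem D11861 : act 6 n10881 = n11861 := rfl
theorem F46664 : act 0 n11861 = n10913 := d5_1 D11861 (iv D10913) (iv F42866)
theorem F46665 : act 2 n11861 = n11633 := d18_1 D11861 (iv F46326) F46323
theorem F46666 : act 4 n11861 = n10884 := d27_1 D11861 (iv D10884) (iv F42867)
theorem F46667 : act 5 n11861 = n11634 := d30_1 D11861 F45803 F42861 F42859 D10881
theorem F46668 : act 7 n11861 = n11861 := d33_2 F42868 D11861 (iv D11861)
def n11862 : Q := act 8 n10881
theorem D11862 : act 8 n10881 = n11862 := rfl
theorem F46669 : act 0 n11862 = n10914 := d7_1 D11862 (iv D10914) (iv F42866)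
theorem F46670 : act 4 n11862 = n10885 := d29_1 D11862 (iv D10885) (iv F42867)
theorem F46671 : act 5 n11862 = n10882 := d32_1 D11862 (iv D10882) D10881
def n11863 : Q := act 7 n10882
theorem D11863 : act 7 n10882 = n11863 := rfl
theorem F46672 : act 0 n11863 = n10915 := d6_1 D11863 (iv D10915) (iv F42869)
theorem F46673 : act 4 n11863 = n10883 := d28_1 D11863 (iv D10883) (iv F42870)
theorem F46674 : act 8 n11863 = n11863 := d35_2 D10882 D11863 (iv D11863) (iv D10882) F39559
def n11864 : Q := act 8 n10884
theorem D11864 : act 8 n10884 = n11864 := rfl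
theorem F46675 : act 0 n11864 = n10916 := d7_1 D11864 (iv D10916) (iv F42875)
theorem F46676 : act 3 n11864 = n11189 := d25_1 D11864 (iv D11189) (iv F42876)
theorem F46677 : act 5 n11864 = n11864 := d32_1 D11864 (iv D11864) F42877
theorem F46678 : act 6 n11864 = n10885 := d34_1 D11864 (iv D10885) D10884
def n11865 : Q := act 7 n10885
theorem D11865 : act 7 n10885 = n11865 := rfl
theorem F46679 : act 0 n11865 = n10917 := d6_1 D11865 (iv D10917) (iv F42879)
theorem F46680 : act 5 n11865 = n10886 := d31_1 D11865 (iv D10886) (iv F42881)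
theorem F46681 : act 8 n11865 = n11865 := d35_2 D10885 D11865 (iv D11865) (iv D10885) F39565
def n11866 : Q := act 3 n10886
theorem D11866 : act 3 n10886 = n11866 := rfl
theorem F46682 : act 0 n11866 = n10918 := d2_1 D11866 (iv D10918) (iv F42882)
theorem F46683 : act 4 n11866 = n11670 := d21_2 (iv F42883) D11866 (iv D11670) F42264 (iv F39571)
theorem F46684 : act 6 n11866 = n11866 := d23_2 F42884 D11866 (iv D11866)
theorem F46685 : act 7 n11866 = n11191 := d24_2 D10886 D11866 (iv D11191) (iv D10269) (iv F39567)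
theorem F46686 : act 8 n11866 = n11866 := d25_2 F42885 D11866 (iv D11866)
def n11867 : Q := act 2 n10887
theorem D11867 : act 2 n10887 = n11867 := rfl
theorem F46687 : act 0 n11867 = n10919 := d1_1 D11867 (iv D10919) (iv F42886)
theorem F46688 : act 5 n11867 = n10889 := d17_2 (iv F42887) D11867 (iv D10889)
theorem F46689 : act 6 n11867 = n11135 := d18_2 (iv F42888) D11867 F43923
theorem F46690 : act 7 n11867 = n11867 := d19_2 F42889 D11867 (iv D11867)
theorem F46691 : act 4 n11540 = n11867 := d26_5 F46688 F42896 F41883 (iv F41761) (iv F45422)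
def n11868 : Q := act 4 n10887
theorem D11868 : act 4 n10887 = n11868 := rfl
theorem F46692 : act 0 n11868 = n10920 := d3_1 D11868 (iv D10920) (iv F42886)
theorem F46693 : act 1 n11868 = n11811 := d10_1 D11868 F46463 F43050
theorem F46694 : act 2 n11868 = n11540 := d16_1 D11868 F46691 (iv D11867)
theorem F46695 : act 3 n11868 = n11868 := d21_1 D11868 (iv D11868) (iv D10887) F39575 D10887
theorem F46696 : act 5 n11868 = n11541 := d26_2 (iv F42887) D11868 F45427 (iv F42626) F42625
theorem F46697 : act 6 n11868 = n11092 := d27_2 (iv F42888) D11868 F43736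
theorem F46698 : act 7 n11868 = n11868 := d28_2 F42889 D11868 (iv D11868)
def n11869 : Q := act 8 n10887
theorem D11869 : act 8 n10887 = n11869 := rfl
theorem F46699 : act 0 n11869 = n10921 := d7_1 D11869 (iv D10921) (iv F42886)
theorem F46700 : act 3 n11869 = n10888 := d25_1 D11869 (iv D10888) D10887
theorem F46701 : act 5 n11869 = n10890 := d32_1 D11869 (iv D10890) (iv F42887)
theorem F46702 : act 6 n11869 = n11138 := d34_1 D11869 (iv D11138) (iv F42888)
def n11870 : Q := act 1 n10889
theorem D11870 : act 1 n10889 = n11870 := rfl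
theorem F46703 : act 4 n11870 = n11578 := d10_2 (iv F42896) D11870 F45554
theorem F46704 : act 6 n11870 = n10891 := d12_2 (iv F42897) D11870 (iv D10891)
theorem F46705 : act 7 n11870 = n11870 := d13_2 F42898 D11870 (iv D11870)
def n11871 : Q := act 8 n10889
theorem D11871 : act 8 n10889 = n11871 := rfl
theorem F46706 : act 0 n11871 = n10923 := d7_1 D11871 (iv D10923) (iv F42895)
theorem F46707 : act 2 n11871 = n10890 := d20_1 D11871 (iv D10890) D10889
theorem F46708 : act 4 n11871 = n11356 := d29_1 D11871 F44689 (iv F42896)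
theorem F46709 : act 6 n11871 = n10892 := d34_1 D11871 (iv D10892) (iv F42897)
def n11872 : Q := act 7 n10890
theorem D11872 : act 7 n10890 = n11872 := rfl
theorem F46710 : act 0 n11872 = n10924 := d6_1 D11872 (iv D10924) (iv F42899)
theorem F46711 : act 3 n11872 = n11236 := d24_1 D11872 (iv D11236) F40714 (iv F39584) (iv F42900)
theorem F46712 : act 6 n11872 = n10893 := d33_1 D11872 (iv D10893) (iv F42901)
theorem F46713 : act 8 n11872 = n11872 := d35_2 D10890 D11872 (iv D11872) (iv D10890) F39580
def n11873 : Q := act 0 n10891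
theorem D11873 : act 0 n10891 = n11873 := rfl
theorem F46714 : act 1 n11873 = n10925 := d0_2 D10891 D11873 (iv D10925) (iv D10045) (iv F39585)
theorem F46715 : act 5 n11873 = n11195 := d4_2 (iv F42902) D11873 (iv D11195)
theorem F46716 : act 7 n11873 = n11873 := d6_2 F42903 D11873 (iv D11873)
def n11874 : Q := act 8 n10891
theorem D11874 : act 8 n10891 = n11874 := rfl
theorem F46717 : act 1 n11874 = n10892 := d14_1 D11874 (iv D10892) D10891
theorem F46718 : act 5 n11874 = n11196 := d32_1 D11874 (iv D11196) (iv F42902)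
def n11875 : Q := act 7 n10892
theorem D11875 : act 7 n10892 = n11875 := rfl
theorem F46719 : act 0 n11875 = n10927 := d6_1 D11875 (iv D10927) (iv F42904)
theorem F46720 : act 2 n11875 = n10893 := d19_1 D11875 (iv D10893) (iv F42905)
theorem F46721 : act 5 n11875 = n11197 := d31_1 D11875 (iv D11197) (iv F42906)
theorem F46722 : act 8 n11875 = n11875 := d35_2 D10892 D11875 (iv D11875) (iv D10892) F39587
def n11876 : Q := act 3 n10894
theorem D11876 : act 3 n10894 = n11876 := rfl
theorem F46723 : act 1 n11876 = n10994 := d9_1 D11876 (iv D10994) (iv F42911)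
theorem F46724 : act 4 n11876 = n11127 := d21_2 (iv F42913) D11876 F43895 (iv F43713) F43712
theorem F46725 : act 5 n11876 = n10895 := d22_2 (iv F42914) D11876 (iv D10895)
theorem F46726 : act 6 n11876 = n11198 := d23_2 (iv F42915) D11876 (iv D11198)
theorem F46727 : act 7 n11876 = n10900 := d24_2 D10894 D11876 (iv D10900) (iv D10027) (iv F39593)
theorem F46728 : act 2 n11208 = n11876 := d16_3 F46724 F43894 D11208
def n11877 : Q := act 8 n10894
theorem D11877 : act 8 n10894 = n11877 := rfl
theorem F46729 : act 1 n11877 = n10995 := d14_1 D11877 (iv D10995) (iv F42911)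
theorem F46730 : act 2 n11877 = n11877 := d20_1 D11877 (iv D11877) F42912
theorem F46731 : act 4 n11877 = n11282 := d29_1 D11877 F44452 (iv F42913)
theorem F46732 : act 5 n11877 = n10896 := d32_1 D11877 (iv D10896) (iv F42914)
theorem F46733 : act 6 n11877 = n11199 := d34_1 D11877 (iv D11199) (iv F42915)
theorem F46734 : act 7 n11877 = n11070 := d35_1 D11877 (iv D11070) F40129 (iv F39595) D10894
def n11878 : Q := act 2 n10895
theorem D11878 : act 2 n10895 = n11878 := rfl
theorem F46735 : act 1 n11878 = n11277 := d8_1 D11878 F44437 F43303 (iv D10996) (iv F42916)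
theorem F46736 : act 3 n11878 = n11878 := d15_2 D10895 D11878 (iv D11878) (iv D10895) F39598
theorem F46737 : act 5 n11878 = n11208 := d17_2 F46725 D11878 F46728
theorem F46738 : act 6 n11878 = n10897 := d18_2 (iv F42917) D11878 (iv D10897)
theorem F46739 : act 7 n11878 = n10902 := d19_2 (iv F42918) D11878 (iv D10902)
theorem F46740 : act 4 n11212 = n11878 := d28_3 F46739 (iv F42944) (iv F44206)
def n11879 : Q := act 4 n10895
theorem D11879 : act 4 n10895 = n11879 := rfl
theorem F46741 : act 1 n11879 = n10997 := d10_1 D11879 (iv D10997) (iv F42916)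
theorem F46742 : act 2 n11879 = n11212 := d16_1 D11879 F46740 (iv D11878)
theorem F46743 : act 3 n11879 = n11879 := d21_1 D11879 (iv D11879) (iv D10895) F39599 D10895
theorem F46744 : act 5 n11879 = n11210 := d26_2 F46725 D11879 (iv D11210) (iv F43896) (iv F46724)
theorem F46745 : act 6 n11879 = n10898 := d27_2 (iv F42917) D11879 (iv D10898)
theorem F46746 : act 7 n11879 = n10903 := d28_2 (iv F42918) D11879 (iv D10903)
def n11880 : Q := act 8 n10895
theorem D11880 : act 8 n10895 = n11880 := rfl
theorem F46747 : act 1 n11880 = n10998 := d14_1 D11880 (iv D10998) (iv F42916)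
theorem F46748 : act 3 n11880 = n10896 := d25_1 D11880 (iv D10896) D10895
theorem F46749 : act 6 n11880 = n10899 := d34_1 D11880 (iv D10899) (iv F42917)
def n11881 : Q := act 1 n10897
theorem D11881 : act 1 n10897 = n11881 := rfl
theorem F46750 : act 2 n11881 = n10999 := d8_2 D10897 D11881 (iv D10999) (iv D10100) (iv F39601)
theorem F46751 : act 3 n11881 = n11881 := d9_2 F42924 D11881 (iv D11881)
theorem F46752 : act 5 n11881 = n11202 := d11_2 (iv F42925) D11881 (iv D11202)
theorem F46753 : act 6 n11881 = n11277 := d12_2 F46738 D11881 (iv F46735)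
theorem F46754 : act 7 n11881 = n10905 := d13_2 (iv F42926) D11881 (iv D10905)
theorem F46755 : act 4 n11370 = n11881 := d27_3 F46753 F44439 D11370
def n11882 : Q := act 4 n10897
theorem D11882 : act 4 n10897 = n11882 := rfl
theorem F46756 : act 1 n11882 = n11370 := d10_1 D11882 F46755 (iv D11881)
theorem F46757 : act 2 n11882 = n10898 := d16_1 D11882 (iv D10898) D10897
theorem F46758 : act 6 n11882 = n11212 := d27_2 F46738 D11882 F46740
theorem F46759 : act 7 n11882 = n10906 := d28_2 (iv F42926) D11882 (iv D10906)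
theorem F46760 : act 3 n11882 = n11224 := d36_5 (iv D10289) (iv F40624) F40623 (iv F42925) D11882 F44237 F41102 F38587 D9957 D10807 D11770 (iv F46393) F46392 F42664 F42662 F42663 F39643 F39127 (iv D9898) F29671 F21983 (iv F17671) (iv F23821) F23820 F17872 F17873 (iv D3338) (iv D2444) F7399 D1926 D2632 D3595 (iv F18848) F18849 (iv D4844) F13999 D3569 D4884 F19001 D6693 F25683 F19014 F14350 F10898 D3697 D5055 D6913 (iv F35816) (iv F39404) (iv D9978) F31265 F31266 F23156 D6025 (iv F38556) F18520 F18521 (iv F24338) (iv F32484) F32483 F23996 F17799 (iv D3325) (iv D2436) F7378 (iv F9617) (iv D2370) F7202 (iv F7197) F7198 (iv F9605) F9606 D3052 F12193 F12194 (iv F9811) (iv F13075) F13074 F9782 F9783 D2424 F9835 F7386 (iv F9877) (iv F13219) (iv F17799) (iv F23978) (iv F32456) (iv F40653)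
theorem F46761 : act 5 n11221 = n11882 := d22_0 F46760 F44240 (iv F44231)
def n11883 : Q := act 8 n10897
theorem D11883 : act 8 n10897 = n11883 := rfl
theorem F46762 : act 2 n11883 = n10899 := d20_1 D11883 (iv D10899) D10897
theorem F46763 : act 3 n11883 = n11883 := d25_1 D11883 (iv D11883) F42924
theorem F46764 : act 5 n11883 = n11204 := d32_1 D11883 (iv D11204) (iv F42925)
def n11884 : Q := act 5 n10898
theorem D11884 : act 5 n10898 = n11884 := rfl
theorem F46765 : act 1 n11884 = n11002 := d11_1 D11884 (iv D11002) (iv F42927)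
theorem F46766 : act 2 n11884 = n11221 := d17_1 D11884 F46761 F46757
theorem F46767 : act 3 n11884 = n11884 := d22_1 D11884 (iv D11884) F42928
theorem F46768 : act 4 n11884 = n11205 := d26_1 D11884 (iv D11205) (iv D10280) (iv F39602) D10898
theorem F46769 : act 6 n11884 = n11218 := d30_2 F46745 D11884 (iv D11218) (iv F44198) (iv F46744)
theorem F46770 : act 7 n11884 = n10908 := d31_2 (iv F42929) D11884 (iv D10908)
def n11885 : Q := act 8 n10898
theorem D11885 : act 8 n10898 = n11885 := rfl
theorem F46771 : act 1 n11885 = n11003 := d14_1 D11885 (iv D11003) (iv F42927)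
theorem F46772 : act 3 n11885 = n11885 := d25_1 D11885 (iv D11885) F42928
theorem F46773 : act 4 n11885 = n10899 := d29_1 D11885 (iv D10899) D10898
def n11886 : Q := act 7 n10899
theorem D11886 : act 7 n10899 = n11886 := rfl
theorem F46774 : act 1 n11886 = n11004 := d13_1 D11886 (iv D11004) (iv F42930)
theorem F46775 : act 3 n11886 = n11675 := d24_1 D11886 (iv D11675) F42283 (iv F39608) (iv F42931)
theorem F46776 : act 5 n11886 = n11207 := d31_1 D11886 (iv D11207) (iv F42932)
theorem F46777 : act 8 n11886 = n10910 := d35_2 D10899 D11886 (iv D10910) (iv D10032) (iv F39603)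
def n11887 : Q := act 2 n10900
theorem D11887 : act 2 n10900 = n11887 := rfl
theorem F46778 : act 1 n11887 = n11125 := d8_1 D11887 (iv D11125) F40401 (iv F39888) (iv F42933)
theorem F46779 : act 3 n11887 = n10919 := d15_2 D10900 D11887 (iv D10919) (iv D10041) (iv F39610)
theorem F46780 : act 5 n11887 = n10902 := d17_2 (iv F42934) D11887 (iv D10902)
theorem F46781 : act 6 n11887 = n11127 := d18_2 (iv F42935) D11887 F43894
theorem F46782 : act 7 n11887 = n11208 := d19_2 F46727 D11887 F46728
theorem F46783 : act 4 n11198 = n11887 := d28_3 F46782 (iv D11208) (iv F44156)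
def n11888 : Q := act 4 n10900
theorem D11888 : act 4 n10900 = n11888 := rfl
theorem F46784 : act 1 n11888 = n11005 := d10_1 D11888 (iv D11005) (iv F42933)
theorem F46785 : act 2 n11888 = n11198 := d16_1 D11888 F46783 (iv D11887)
theorem F46786 : act 3 n11888 = n11888 := d21_1 D11888 (iv D11888) (iv D10900) F39611 D10900
theorem F46787 : act 5 n11888 = n11200 := d26_2 (iv F42934) D11888 F44164 F42949 (iv D10903)
theorem F46788 : act 6 n11888 = n11208 := d27_2 (iv F42935) D11888 (iv D11208)
theorem F46789 : act 7 n11888 = n11127 := d28_2 F46727 D11888 (iv F46724)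
def n11889 : Q := act 8 n10900
theorem D11889 : act 8 n10900 = n11889 := rfl
theorem F46790 : act 1 n11889 = n11006 := d14_1 D11889 (iv D11006) (iv F42933)
theorem F46791 : act 3 n11889 = n10901 := d25_1 D11889 (iv D10901) D10900
theorem F46792 : act 5 n11889 = n10904 := d32_1 D11889 (iv D10904) (iv F42934)
theorem F46793 : act 6 n11889 = n11209 := d34_1 D11889 (iv D11209) (iv F42935)
def n11890 : Q := act 1 n10902
theorem D11890 : act 1 n10902 = n11890 := rfl
theorem F46794 : act 2 n11890 = n11007 := d8_2 D10902 D11890 (iv D11007) (iv D10105) (iv F39614)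
theorem F46795 : act 3 n11890 = n10922 := d9_2 (iv F42942) D11890 (iv D10922)
theorem F46796 : act 4 n11890 = n11359 := d10_2 F42944 D11890 F44699
theorem F46797 : act 5 n11890 = n11125 := d11_2 F46780 D11890 (iv F46778)
theorem F46798 : act 6 n11890 = n10905 := d12_2 (iv F42943) D11890 (iv D10905)
theorem F46799 : act 7 n11890 = n11277 := d13_2 F46739 D11890 (iv F46735)
def n11891 : Q := act 8 n10902
theorem D11891 : act 8 n10902 = n11891 := rfl
theorem F46800 : act 2 n11891 = n10904 := d20_1 D11891 (iv D10904) D10902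
theorem F46801 : act 3 n11891 = n10923 := d25_1 D11891 (iv D10923) (iv F42942)
theorem F46802 : act 4 n11891 = n11387 := d29_1 D11891 F44782 F42944
theorem F46803 : act 6 n11891 = n10907 := d34_1 D11891 (iv D10907) (iv F42943)
def n11892 : Q := act 8 n10903
theorem D11892 : act 8 n10903 = n11892 := rfl
theorem F46804 : act 1 n11892 = n11011 := d14_1 D11892 (iv D11011) (iv F42945)
theorem F46805 : act 2 n11892 = n11387 := d20_1 D11892 F44782 (iv F42946)
theorem F46806 : act 3 n11892 = n10911 := d25_1 D11892 (iv D10911) (iv F42947)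
theorem F46807 : act 4 n11892 = n10904 := d29_1 D11892 (iv D10904) D10903
theorem F46808 : act 5 n11892 = n11388 := d32_1 D11892 F44784 F42949
theorem F46809 : act 6 n11892 = n10909 := d34_1 D11892 (iv D10909) (iv F42948)
def n11893 : Q := act 7 n10904
theorem D11893 : act 7 n10904 = n11893 := rfl
theorem F46810 : act 1 n11893 = n11012 := d13_1 D11893 (iv D11012) (iv F42950)
theorem F46811 : act 3 n11893 = n11377 := d24_1 D11893 (iv D11377) F41088 (iv F39620) (iv F42951)
theorem F46812 : act 6 n11893 = n10910 := d33_1 D11893 (iv D10910) (iv F42952)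
def n11894 : Q := act 0 n10905
theorem D11894 : act 0 n10905 = n11894 := rfl
theorem F46813 : act 2 n11894 = n11013 := d1_2 (iv F42953) D11894 (iv D11013)
theorem F46814 : act 3 n11894 = n10925 := d2_2 (iv F42954) D11894 (iv D10925)
theorem F46815 : act 5 n11894 = n11215 := d4_2 (iv F42955) D11894 (iv D11215)
def n11895 : Q := act 4 n10905
theorem D11895 : act 4 n10905 = n11895 := rfl
theorem F46816 : act 1 n11895 = n10906 := d10_1 D11895 (iv D10906) D10905
theorem F46817 : act 2 n11895 = n11014 := d16_1 D11895 (iv D11014) (iv F42953)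
theorem F46818 : act 3 n11895 = n11524 := d21_1 D11895 F45354 (iv F42689) F42690 (iv F42954)
theorem F46819 : act 6 n11895 = n11359 := d27_2 F46798 D11895 (iv F46796)
theorem F46820 : act 7 n11895 = n11370 := d28_2 F46754 D11895 F46755
theorem F46821 : act 5 n11367 = n11895 := d36_3 F41699 (iv F41891) (iv F44726) (iv D11895) F42954 (iv D10045) (iv D8248) (iv D6023) D6024 F23269 (iv F29697) (iv F32259) (iv F40253) F40252 F32082 F23735 (iv F32111) (iv D8422) F23733 (iv D6146) F17611 F17610 F13096 (iv F13139) (iv F17664) D6164 D8450 F38685 (iv F38812) F32426 (iv F32437) D10300 F40690 D10434 F41128 F33790 F26475 F19699 F38948 F23150 F17193 F12799 F9586 F7184 F7188 F7187 F5426 F4103 F4102 F3134 F3133 (iv F4126) (iv F5483) (iv F38159) (iv D989) F3233 (iv D535) (iv D394) (iv F1790) D517 F2358 F2359 (iv F2415) F2414 F2412 (iv F2973) D902 D1222 F5184 (iv F5167) (iv D1218) (iv F4078) (iv F5402) D1733 D2361 D3215 F12806 (iv F17188) (iv F23128) (iv F38957) F19695 (iv D5069) (iv F19633) F19634 (iv F26459) F26458 F26457 (iv F35380)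 (iv F41696)
def n11896 : Q := act 8 n10905
theorem D11896 : act 8 n10905 = n11896 := rfl
theorem F46822 : act 1 n11896 = n10907 := d14_1 D11896 (iv D10907) D10905
theorem F46823 : act 2 n11896 = n11015 := d20_1 D11896 (iv D11015) (iv F42953)
theorem F46824 : act 3 n11896 = n10926 := d25_1 D11896 (iv D10926) (iv F42954)
theorem F46825 : act 5 n11896 = n11217 := d32_1 D11896 (iv D11217) (iv F42955)
def n11897 : Q := act 5 n10906
theorem D11897 : act 5 n10906 = n11897 := rfl
theorem F46826 : act 1 n11897 = n11367 := d11_1 D11897 F46821 F46816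
theorem F46827 : act 2 n11897 = n10908 := d17_1 D11897 (iv D10908) (iv F42956)
theorem F46828 : act 3 n11897 = n11523 := d22_1 D11897 F45350 (iv F42957)
theorem F46829 : act 4 n11897 = n11218 := d26_1 D11897 (iv D11218) (iv D10288) (iv F39622) D10906
theorem F46830 : act 6 n11897 = n11205 := d30_2 (iv F42958) D11897 (iv D11205) F40627 (iv F41898)
theorem F46831 : act 7 n11897 = n11221 := d31_2 F46759 D11897 F46761
def n11898 : Q := act 8 n10906
theorem D11898 : act 8 n10906 = n11898 := rfl
theorem F46832 : act 2 n11898 = n10909 := d20_1 D11898 (iv D10909) (iv F42956)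
theorem F46833 : act 3 n11898 = n11386 := d25_1 D11898 F44780 (iv F42957)
theorem F46834 : act 4 n11898 = n10907 := d29_1 D11898 (iv D10907) D10906
theorem F46835 : act 6 n11898 = n11387 := d34_1 D11898 F44782 (iv F42958)
def n11899 : Q := act 7 n10907
theorem D11899 : act 7 n10907 = n11899 := rfl
theorem F46836 : act 2 n11899 = n10910 := d19_1 D11899 (iv D10910) (iv F42959)
theorem F46837 : act 5 n11899 = n11220 := d31_1 D11899 (iv D11220) (iv F42961)
def n11900 : Q := act 6 n10908
theorem D11900 : act 6 n10908 = n11900 := rfl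
theorem F46838 : act 1 n11900 = n11019 := d12_1 D11900 (iv D11019) (iv F42962)
theorem F46839 : act 2 n11900 = n11205 := d18_1 D11900 (iv F46830) F46827
theorem F46840 : act 3 n11900 = n10913 := d23_1 D11900 (iv D10913) (iv F42963)
theorem F46841 : act 4 n11900 = n11221 := d27_1 D11900 (iv D11221) (iv F42964)
theorem F46842 : act 5 n11900 = n11203 := d30_1 D11900 F44176 F42949 F42948 D10908
theorem F46843 : act 7 n11900 = n11218 := d33_2 F46770 D11900 (iv F46769)
def n11901 : Q := act 8 n10908
theorem D11901 : act 8 n10908 = n11901 := rfl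
theorem F46844 : act 1 n11901 = n11020 := d14_1 D11901 (iv D11020) (iv F42962)
theorem F46845 : act 3 n11901 = n10914 := d25_1 D11901 (iv D10914) (iv F42963)
theorem F46846 : act 4 n11901 = n11222 := d29_1 D11901 (iv D11222) (iv F42964)
theorem F46847 : act 5 n11901 = n10909 := d32_1 D11901 (iv D10909) D10908
def n11902 : Q := act 7 n10909
theorem D11902 : act 7 n10909 = n11902 := rfl
theorem F46848 : act 1 n11902 = n11021 := d13_1 D11902 (iv D11021) (iv F42965)
theorem F46849 : act 4 n11902 = n10910 := d28_1 D11902 (iv D10910) (iv F42967)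
def n11903 : Q := act 7 n10911
theorem D11903 : act 7 n10911 = n11903 := rfl
theorem F46850 : act 1 n11903 = n11024 := d13_1 D11903 (iv D11024) (iv F42971)
theorem F46851 : act 2 n11903 = n11477 := d19_1 D11903 F45147 (iv F42972)
theorem F46852 : act 4 n11903 = n10912 := d28_1 D11903 (iv D10912) (iv F42973)
theorem F46853 : act 5 n11903 = n11478 := d31_1 D11903 F45151 (iv F42974)
theorem F46854 : act 6 n11903 = n10915 := d33_1 D11903 (iv D10915) (iv F42975)
theorem F46855 : act 8 n11903 = n11903 := d35_2 D10911 D11903 (iv D11903) (iv D10911) F39631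
def n11904 : Q := act 8 n10913
theorem D11904 : act 8 n10913 = n11904 := rfl
theorem F46856 : act 1 n11904 = n11025 := d14_1 D11904 (iv D11025) (iv F42981)
theorem F46857 : act 2 n11904 = n11480 := d20_1 D11904 F45161 (iv F42982)
theorem F46858 : act 4 n11904 = n10916 := d29_1 D11904 (iv D10916) (iv F42983)
theorem F46859 : act 5 n11904 = n11481 := d32_1 D11904 F45165 (iv F42984)
theorem F46860 : act 6 n11904 = n10914 := d34_1 D11904 (iv D10914) D10913
theorem F46861 : act 7 n11771 = n11904 := d31_0 F46859 F45164 (iv F46247)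
def n11905 : Q := act 7 n10914
theorem D11905 : act 7 n10914 = n11905 := rfl
theorem F46862 : act 1 n11905 = n11026 := d13_1 D11905 (iv D11026) (iv F42986)
theorem F46863 : act 2 n11905 = n11770 := d19_1 D11905 F46388 F46383
theorem F46864 : act 4 n11905 = n10917 := d28_1 D11905 (iv D10917) (iv F42987)
theorem F46865 : act 5 n11905 = n10915 := d31_1 D11905 (iv D10915) (iv F42988)
theorem F46866 : act 6 n11905 = n11771 := d33_1 D11905 F46861 F46860
theorem F46867 : act 8 n11905 = n11905 := d35_2 D10914 D11905 (iv D11905) (iv D10914) F39639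
def n11906 : Q := act 3 n10915
theorem D11906 : act 3 n10915 = n11906 := rfl
theorem F46868 : act 1 n11906 = n11027 := d9_1 D11906 (iv D11027) (iv F42989)
theorem F46869 : act 4 n11906 = n11682 := d21_2 (iv F42990) D11906 (iv D11682) F42304 (iv F39643)
theorem F46870 : act 8 n11906 = n11906 := d25_2 F42991 D11906 (iv D11906)
def n11907 : Q := act 7 n10916
theorem D11907 : act 7 n10916 = n11907 := rfl
theorem F46871 : act 1 n11907 = n11028 := d13_1 D11907 (iv D11028) (iv F42992)
theorem F46872 : act 2 n11907 = n11772 := d19_1 D11907 F46402 F46397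
theorem F46873 : act 4 n11907 = n11771 := d28_1 D11907 F46861 F46858
theorem F46874 : act 5 n11907 = n11907 := d31_1 D11907 (iv D11907) F42994
theorem F46875 : act 6 n11907 = n10917 := d33_1 D11907 (iv D10917) (iv F42995)
theorem F46876 : act 8 n11907 = n11907 := d35_2 D10916 D11907 (iv D11907) (iv D10916) F39649
def n11908 : Q := act 3 n10917
theorem D11908 : act 3 n10917 = n11908 := rfl
theorem F46877 : act 1 n11908 = n11029 := d9_1 D11908 (iv D11029) (iv F42996)
theorem F46878 : act 5 n11908 = n10918 := d22_2 (iv F42997) D11908 (iv D10918)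
theorem F46879 : act 7 n11908 = n11230 := d24_2 D10917 D11908 (iv D11230) (iv D10299) (iv F39651)
theorem F46880 : act 8 n11908 = n11908 := d25_2 F42998 D11908 (iv D11908)
def n11909 : Q := act 2 n10918
theorem D11909 : act 2 n10918 = n11909 := rfl
theorem F46881 : act 4 n11909 = n11685 := d16_2 (iv F43000) D11909 (iv D11685)
theorem F46882 : act 6 n11909 = n11909 := d18_2 F43001 D11909 (iv D11909)
theorem F46883 : act 7 n11909 = n11231 := d19_2 (iv F43002) D11909 (iv D11231)
theorem F46884 : act 8 n11909 = n11909 := d20_2 F43003 D11909 (iv D11909)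
def n11910 : Q := act 8 n10919
theorem D11910 : act 8 n10919 = n11910 := rfl
theorem F46885 : act 1 n11910 = n11133 := d14_1 D11910 (iv D11133) (iv F43004)
theorem F46886 : act 2 n11910 = n10921 := d20_1 D11910 (iv D10921) D10919
theorem F46887 : act 4 n11910 = n11283 := d29_1 D11910 F44455 F43008
theorem F46888 : act 5 n11910 = n10923 := d32_1 D11910 (iv D10923) (iv F43005)
theorem F46889 : act 6 n11910 = n11136 := d34_1 D11910 (iv D11136) (iv F43006)
theorem F46890 : act 7 n11736 = n11910 := d28_0 F46887 F44454 D11736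
def n11911 : Q := act 8 n10920
theorem D11911 : act 8 n10920 = n11911 := rfl
theorem F46891 : act 1 n11911 = n10928 := d14_1 D11911 (iv D10928) (iv F43009)
theorem F46892 : act 2 n11911 = n11283 := d20_1 D11911 F44455 (iv F43010)
theorem F46893 : act 3 n11911 = n11911 := d25_1 D11911 (iv D11911) F43011
theorem F46894 : act 4 n11911 = n10921 := d29_1 D11911 (iv D10921) D10920
theorem F46895 : act 5 n11911 = n11284 := d32_1 D11911 F44460 (iv F43012)
theorem F46896 : act 6 n11911 = n11093 := d34_1 D11911 (iv D11093) (iv F43013)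
theorem F46897 : act 7 n11735 = n11911 := d31_0 F46895 F44459 (iv F46113)
def n11912 : Q := act 7 n10921
theorem D11912 : act 7 n10921 = n11912 := rfl
theorem F46898 : act 1 n11912 = n10929 := d13_1 D11912 (iv D10929) (iv F43015)
theorem F46899 : act 2 n11912 = n11736 := d19_1 D11912 F46890 F46886
theorem F46900 : act 3 n11912 = n10934 := d24_1 D11912 (iv D10934) F39706 (iv F39665) (iv F43016)
theorem F46901 : act 4 n11912 = n11735 := d28_1 D11912 F46897 F46894
theorem F46902 : act 5 n11912 = n10924 := d31_1 D11912 (iv D10924) (iv F43017)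
theorem F46903 : act 6 n11912 = n11139 := d33_1 D11912 (iv D11139) (iv F43018)
theorem F46904 : act 8 n11912 = n11912 := d35_2 D10921 D11912 (iv D11912) (iv D10921) F39660
theorem F46905 : act 3 n11777 = n11815 := d21_3 F46901 F46112 D11777 F46482 (iv F46900)
theorem F46906 : act 1 n11816 = n11777 := d9_3 F46905 F46481 D11816
theorem F46907 : act 4 n11776 = n11816 := d10_0 F46906 (iv D11777) D11776
def n11913 : Q := act 0 n10922
theorem D11913 : act 0 n10922 = n11913 := rfl
theorem F46908 : act 2 n11913 = n10930 := d1_2 (iv F43019) D11913 (iv D10930)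
theorem F46909 : act 4 n11913 = n11521 := d3_2 (iv F43020) D11913 F45340
theorem F46910 : act 5 n11913 = n11119 := d4_2 (iv F43021) D11913 F43863
theorem F46911 : act 6 n11913 = n10925 := d5_2 (iv F43022) D11913 (iv D10925)
theorem F46912 : act 7 n11913 = n11913 := d6_2 F43023 D11913 (iv D11913)
def n11914 : Q := act 8 n10922
theorem D11914 : act 8 n10922 = n11914 := rfl
theorem F46913 : act 1 n11914 = n10923 := d14_1 D11914 (iv D10923) D10922
theorem F46914 : act 2 n11914 = n10931 := d20_1 D11914 (iv D10931) (iv F43019)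
theorem F46915 : act 4 n11914 = n11230 := d29_1 D11914 F44268 (iv F43020)
theorem F46916 : act 5 n11914 = n11133 := d32_1 D11914 (iv D11133) (iv F43021)
theorem F46917 : act 6 n11914 = n10926 := d34_1 D11914 (iv D10926) (iv F43022)
def n11915 : Q := act 7 n10923
theorem D11915 : act 7 n10923 = n11915 := rfl
theorem F46918 : act 2 n11915 = n10924 := d19_1 D11915 (iv D10924) (iv F43024)
theorem F46919 : act 4 n11915 = n11029 := d28_1 D11915 F43417 (iv F43025)
theorem F46920 : act 5 n11915 = n11736 := d31_1 D11915 F46890 F46888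
theorem F46921 : act 6 n11915 = n10927 := d33_1 D11915 (iv D10927) (iv F43026)
theorem F46922 : act 8 n11915 = n11915 := d35_2 D10923 D11915 (iv D11915) (iv D10923) F39668
def n11916 : Q := act 8 n10925
theorem D11916 : act 8 n10925 = n11916 := rfl
theorem F46923 : act 0 n11916 = n10926 := d7_1 D11916 (iv D10926) D10925
theorem F46924 : act 2 n11916 = n10933 := d20_1 D11916 (iv D10933) (iv F43031)
theorem F46925 : act 5 n11916 = n11233 := d32_1 D11916 (iv D11233) (iv F43032)
def n11917 : Q := act 7 n10926
theorem D11917 : act 7 n10926 = n11917 := rfl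
theorem F46926 : act 1 n11917 = n10927 := d13_1 D11917 (iv D10927) (iv F43034)
theorem F46927 : act 2 n11917 = n10934 := d19_1 D11917 (iv D10934) (iv F43035)
theorem F46928 : act 5 n11917 = n11234 := d31_1 D11917 (iv D11234) (iv F43036)
theorem F46929 : act 8 n11917 = n11917 := d35_2 D10926 D11917 (iv D11917) (iv D10926) F39674
def n11918 : Q := act 3 n10927
theorem D11918 : act 3 n10927 = n11918 := rfl
theorem F46930 : act 2 n11918 = n11686 := d15_1 D11918 (iv D11686) F42317 (iv F39678) (iv F43037)
theorem F46931 : act 5 n11918 = n11235 := d22_2 (iv F43038) D11918 (iv D11235)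
theorem F46932 : act 8 n11918 = n11918 := d25_2 F43039 D11918 (iv D11918)
def n11919 : Q := act 7 n10928
theorem D11919 : act 7 n10928 = n11919 := rfl
theorem F46933 : act 0 n11919 = n11813 := d6_1 D11919 (iv D11813) (iv F43040)
theorem F46934 : act 1 n11919 = n11735 := d13_1 D11919 F46897 F46891
theorem F46935 : act 2 n11919 = n11091 := d19_1 D11919 (iv D11091) (iv F43041)
theorem F46936 : act 4 n11919 = n10929 := d28_1 D11919 (iv D10929) (iv F43043)
theorem F46937 : act 5 n11919 = n11737 := d31_1 D11919 F46454 F46452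
theorem F46938 : act 6 n11919 = n11094 := d33_1 D11919 (iv D11094) (iv F43044)
theorem F46939 : act 8 n11919 = n11919 := d35_2 D10928 D11919 (iv D11919) (iv D10928) F39685
theorem F46940 : act 3 n11776 = n11919 := d22_3 F46937 F46116 (iv F46265)
def n11920 : Q := act 8 n10930
theorem D11920 : act 8 n10930 = n11920 := rfl
theorem F46941 : act 0 n11920 = n10931 := d7_1 D11920 (iv D10931) D10930
theorem F46942 : act 1 n11920 = n11869 := d14_1 D11920 (iv D11869) (iv F43050)
theorem F46943 : act 3 n11920 = n11034 := d25_1 D11920 (iv D11034) (iv F43051)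
theorem F46944 : act 5 n11920 = n11120 := d32_1 D11920 (iv D11120) (iv F43052)
theorem F46945 : act 6 n11920 = n10933 := d34_1 D11920 (iv D10933) (iv F43053)
def n11921 : Q := act 7 n10931
theorem D11921 : act 7 n10931 = n11921 := rfl
theorem F46946 : act 1 n11921 = n10932 := d13_1 D11921 (iv D10932) (iv F43055)
theorem F46947 : act 3 n11921 = n11139 := d24_1 D11921 (iv D11139) F40455 (iv F39975) (iv F43056)
theorem F46948 : act 5 n11921 = n11134 := d31_1 D11921 (iv D11134) (iv F43057)
theorem F46949 : act 6 n11921 = n10934 := d33_1 D11921 (iv D10934) (iv F43058)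
theorem F46950 : act 8 n11921 = n11921 := d35_2 D10931 D11921 (iv D11921) (iv D10931) F39693
def n11922 : Q := act 7 n10933
theorem D11922 : act 7 n10933 = n11922 := rfl
theorem F46951 : act 0 n11922 = n10934 := d6_1 D11922 (iv D10934) (iv F43065)
theorem F46952 : act 5 n11922 = n11236 := d31_1 D11922 (iv D11236) (iv F43067)
theorem F46953 : act 8 n11922 = n11922 := d35_2 D10933 D11922 (iv D11922) (iv D10933) F39704
def n11923 : Q := act 5 n10935
theorem D11923 : act 5 n10935 = n11923 := rfl
theorem F46954 : act 1 n11923 = n11035 := d11_1 D11923 (iv D11035) (iv F43071)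
theorem F46955 : act 2 n11923 = n10937 := d17_1 D11923 (iv D10937) (iv F43072)
theorem F46956 : act 6 n11923 = n11285 := d30_2 D10935 D11923 (iv D11285) (iv D10352) (iv F39713)
theorem F46957 : act 8 n11923 = n11048 := d32_2 (iv F43074) D11923 F43505
def n11924 : Q := act 7 n10935
theorem D11924 : act 7 n10935 = n11924 := rfl
theorem F46958 : act 1 n11924 = n11036 := d13_1 D11924 (iv D11036) (iv F43071)
theorem F46959 : act 2 n11924 = n10938 := d19_1 D11924 (iv D10938) (iv F43072)
theorem F46960 : act 4 n11924 = n11924 := d28_1 D11924 (iv D11924) F43073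
theorem F46961 : act 6 n11924 = n10936 := d33_1 D11924 (iv D10936) D10935
def n11925 : Q := act 3 n10936
theorem D11925 : act 3 n10936 = n11925 := rfl
theorem F46962 : act 1 n11925 = n11037 := d9_1 D11925 (iv D11037) (iv F43075)
theorem F46963 : act 5 n11925 = n11287 := d22_2 (iv F43078) D11925 (iv D11287)
def n11926 : Q := act 8 n10936
theorem D11926 : act 8 n10936 = n11926 := rfl
theorem F46964 : act 1 n11926 = n11038 := d14_1 D11926 (iv D11038) (iv F43075)
theorem F46965 : act 2 n11926 = n10940 := d20_1 D11926 (iv D10940) (iv F43076)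
theorem F46966 : act 4 n11926 = n11926 := d29_1 D11926 (iv D11926) F43077
theorem F46967 : act 5 n11926 = n11288 := d32_1 D11926 (iv D11288) (iv F43078)
theorem F46968 : act 7 n11926 = n11688 := d35_1 D11926 (iv D11688) (iv D10741) (iv F39714) D10936
def n11927 : Q := act 4 n10937
theorem D11927 : act 4 n10937 = n11927 := rfl
theorem F46969 : act 0 n11927 = n11536 := d3_1 D11927 F46499 F46494
theorem F46970 : act 1 n11927 = n10962 := d10_1 D11927 (iv D10962) (iv F43079)
theorem F46971 : act 3 n11927 = n11927 := d21_1 D11927 (iv D11927) F43080 F39723 (iv F43080)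
theorem F46972 : act 5 n11927 = n11927 := d26_2 D10937 D11927 (iv D11927) (iv D10937) F39717
theorem F46973 : act 6 n11927 = n11289 := d27_2 (iv F43081) D11927 (iv D11289)
theorem F46974 : act 8 n11927 = n11064 := d29_2 (iv F43082) D11927 (iv D11064)
def n11928 : Q := act 7 n10937
theorem D11928 : act 7 n10937 = n11928 := rfl
theorem F46975 : act 1 n11928 = n10963 := d13_1 D11928 (iv D10963) (iv F43079)
theorem F46976 : act 5 n11928 = n10938 := d31_1 D11928 (iv D10938) D10937
theorem F46977 : act 6 n11928 = n11290 := d33_1 D11928 (iv D11290) (iv F43081)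
def n11929 : Q := act 3 n10938
theorem D11929 : act 3 n10938 = n11929 := rfl
theorem F46978 : act 1 n11929 = n10964 := d9_1 D11929 (iv D10964) (iv F43083)
theorem F46979 : act 6 n11929 = n10939 := d23_2 (iv F43085) D11929 (iv D10939)
theorem F46980 : act 7 n11929 = n10942 := d24_2 D10938 D11929 (iv D10942) (iv D10060) (iv F39716)
def n11930 : Q := act 8 n10938
theorem D11930 : act 8 n10938 = n11930 := rfl
theorem F46981 : act 1 n11930 = n10965 := d14_1 D11930 (iv D10965) (iv F43083)
theorem F46982 : act 4 n11930 = n11930 := d29_1 D11930 (iv D11930) F43084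
theorem F46983 : act 6 n11930 = n10940 := d34_1 D11930 (iv D10940) (iv F43085)
theorem F46984 : act 7 n11930 = n11407 := d35_1 D11930 (iv D11407) F41212 (iv F39718) D10938
def n11931 : Q := act 2 n10939
theorem D11931 : act 2 n10939 = n11931 := rfl
theorem F46985 : act 5 n11931 = n11293 := d17_2 (iv F43087) D11931 (iv D11293)
theorem F46986 : act 7 n11931 = n10944 := d19_2 (iv F43088) D11931 (iv D10944)
def n11932 : Q := act 4 n10939
theorem D11932 : act 4 n10939 = n11932 := rfl
theorem F46987 : act 1 n11932 = n10967 := d10_1 D11932 (iv D10967) (iv F43086)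
theorem F46988 : act 3 n11932 = n11932 := d21_1 D11932 (iv D11932) (iv D10939) F39720 D10939
theorem F46989 : act 7 n11932 = n10945 := d28_2 (iv F43088) D11932 (iv D10945)
def n11933 : Q := act 8 n10939
theorem D11933 : act 8 n10939 = n11933 := rfl
theorem F46990 : act 1 n11933 = n10968 := d14_1 D11933 (iv D10968) (iv F43086)
theorem F46991 : act 3 n11933 = n10940 := d25_1 D11933 (iv D10940) D10939
theorem F46992 : act 5 n11933 = n11295 := d32_1 D11933 (iv D11295) (iv F43087)
def n11934 : Q := act 3 n10941
theorem D11934 : act 3 n10941 = n11934 := rfl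
theorem F46993 : act 1 n11934 = n10969 := d9_1 D11934 (iv D10969) (iv F43093)
theorem F46994 : act 5 n11934 = n10942 := d22_2 (iv F43095) D11934 (iv D10942)
theorem F46995 : act 6 n11934 = n11263 := d23_2 (iv F43096) D11934 F44389
def n11935 : Q := act 8 n10941
theorem D11935 : act 8 n10941 = n11935 := rfl
theorem F46996 : act 1 n11935 = n10970 := d14_1 D11935 (iv D10970) (iv F43093)
theorem F46997 : act 4 n11935 = n11935 := d29_1 D11935 (iv D11935) F43094
theorem F46998 : act 5 n11935 = n10943 := d32_1 D11935 (iv D10943) (iv F43095)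
theorem F46999 : act 6 n11935 = n11273 := d34_1 D11935 (iv D11273) (iv F43096)
theorem F47000 : act 7 n11935 = n10992 := d35_1 D11935 (iv D10992) F39861 (iv F39725) D10941
def n11936 : Q := act 2 n10942
theorem D11936 : act 2 n10942 = n11936 := rfl
theorem F47001 : act 6 n11936 = n10944 := d18_2 (iv F43098) D11936 (iv D10944)
def n11937 : Q := act 4 n10942
theorem D11937 : act 4 n10942 = n11937 := rfl
theorem F47002 : act 1 n11937 = n10972 := d10_1 D11937 (iv D10972) (iv F43097)
theorem F47003 : act 3 n11937 = n10948 := d21_1 D11937 (iv D10948) (iv D10063) (iv F39727) D10942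
theorem F47004 : act 6 n11937 = n10945 := d27_2 (iv F43098) D11937 (iv D10945)
def n11938 : Q := act 8 n10942
theorem D11938 : act 8 n10942 = n11938 := rfl
theorem F47005 : act 1 n11938 = n10973 := d14_1 D11938 (iv D10973) (iv F43097)
theorem F47006 : act 3 n11938 = n10943 := d25_1 D11938 (iv D10943) D10942
theorem F47007 : act 6 n11938 = n10946 := d34_1 D11938 (iv D10946) (iv F43098)
def n11939 : Q := act 1 n10944
theorem D11939 : act 1 n10944 = n11939 := rfl
theorem F47008 : act 2 n11939 = n10974 := d8_2 D10944 D11939 (iv D10974) (iv D10080) (iv F39729)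
theorem F47009 : act 5 n11939 = n11299 := d11_2 (iv F43103) D11939 (iv D11299)
def n11940 : Q := act 4 n10944
theorem D11940 : act 4 n10944 = n11940 := rfl
theorem F47010 : act 2 n11940 = n10945 := d16_1 D11940 (iv D10945) D10944
def n11941 : Q := act 8 n10944
theorem D11941 : act 8 n10944 = n11941 := rfl
theorem F47011 : act 2 n11941 = n10946 := d20_1 D11941 (iv D10946) D10944
theorem F47012 : act 5 n11941 = n11301 := d32_1 D11941 (iv D11301) (iv F43103)
def n11942 : Q := act 5 n10945
theorem D11942 : act 5 n10945 = n11942 := rfl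
theorem F47013 : act 1 n11942 = n10977 := d11_1 D11942 (iv D10977) (iv F43104)
theorem F47014 : act 3 n11942 = n10952 := d22_1 D11942 (iv D10952) (iv F43105)
theorem F47015 : act 4 n11942 = n11302 := d26_1 D11942 (iv D11302) (iv D10361) (iv F39730) D10945
def n11943 : Q := act 8 n10945
theorem D11943 : act 8 n10945 = n11943 := rfl
theorem F47016 : act 1 n11943 = n10978 := d14_1 D11943 (iv D10978) (iv F43104)
theorem F47017 : act 3 n11943 = n10953 := d25_1 D11943 (iv D10953) (iv F43105)
theorem F47018 : act 4 n11943 = n10946 := d29_1 D11943 (iv D10946) D10945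
def n11944 : Q := act 7 n10946
theorem D11944 : act 7 n10946 = n11944 := rfl
theorem F47019 : act 1 n11944 = n10979 := d13_1 D11944 (iv D10979) (iv F43106)
theorem F47020 : act 3 n11944 = n11696 := d24_1 D11944 (iv D11696) F42331 (iv F39734) (iv F43107)
theorem F47021 : act 5 n11944 = n11304 := d31_1 D11944 (iv D11304) (iv F43108)
def n11945 : Q := act 4 n10947
theorem D11945 : act 4 n10947 = n11945 := rfl
theorem F47022 : act 1 n11945 = n11945 := d10_1 D11945 (iv D11945) F43109
theorem F47023 : act 2 n11945 = n10948 := d16_1 D11945 (iv D10948) D10947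
theorem F47024 : act 6 n11945 = n10950 := d27_2 (iv F43111) D11945 (iv D10950)
theorem F47025 : act 7 n11945 = n11945 := d28_2 F43112 D11945 (iv D11945)
def n11946 : Q := act 8 n10947
theorem D11946 : act 8 n10947 = n11946 := rfl
theorem F47026 : act 1 n11946 = n11946 := d14_1 D11946 (iv D11946) F43109
theorem F47027 : act 2 n11946 = n10949 := d20_1 D11946 (iv D10949) D10947
theorem F47028 : act 5 n11946 = n11946 := d32_1 D11946 (iv D11946) F43110
theorem F47029 : act 6 n11946 = n10951 := d34_1 D11946 (iv D10951) (iv F43111)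
def n11947 : Q := act 5 n10948
theorem D11947 : act 5 n10948 = n11947 := rfl
theorem F47030 : act 0 n11947 = n11635 := d4_1 D11947 F46539 F46535
theorem F47031 : act 1 n11947 = n10980 := d11_1 D11947 (iv D10980) (iv F43113)
theorem F47032 : act 4 n11947 = n11947 := d26_1 D11947 (iv D11947) (iv D10948) F39736 D10948
theorem F47033 : act 7 n11947 = n11947 := d31_2 F43115 D11947 (iv D11947)
def n11948 : Q := act 8 n10948
theorem D11948 : act 8 n10948 = n11948 := rfl
theorem F47034 : act 1 n11948 = n10981 := d14_1 D11948 (iv D10981) (iv F43113)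
theorem F47035 : act 4 n11948 = n10949 := d29_1 D11948 (iv D10949) D10948
theorem F47036 : act 6 n11948 = n10953 := d34_1 D11948 (iv D10953) (iv F43114)
def n11949 : Q := act 7 n10949
theorem D11949 : act 7 n10949 = n11949 := rfl
theorem F47037 : act 1 n11949 = n10982 := d13_1 D11949 (iv D10982) (iv F43116)
theorem F47038 : act 3 n11949 = n11453 := d24_1 D11949 (iv D11453) F41358 (iv F39742) (iv F43117)
theorem F47039 : act 5 n11949 = n11949 := d31_1 D11949 (iv D11949) F43118
theorem F47040 : act 6 n11949 = n10954 := d33_1 D11949 (iv D10954) (iv F43119)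
theorem F47041 : act 8 n11949 = n11949 := d35_2 D10949 D11949 (iv D11949) (iv D10949) F39738
def n11950 : Q := act 3 n10950
theorem D11950 : act 3 n10950 = n11950 := rfl
theorem F47042 : act 1 n11950 = n11950 := d9_1 D11950 (iv D11950) F43120
def n11951 : Q := act 5 n10950
theorem D11951 : act 5 n10950 = n11951 := rfl
theorem F47043 : act 1 n11951 = n11951 := d11_1 D11951 (iv D11951) F43120
theorem F47044 : act 2 n11951 = n10952 := d17_1 D11951 (iv D10952) (iv F43121)
theorem F47045 : act 4 n11951 = n10956 := d26_1 D11951 (iv D10956) (iv D10068) (iv F39744) D10950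
theorem F47046 : act 7 n11951 = n11951 := d31_2 F43122 D11951 (iv D11951)
def n11952 : Q := act 8 n10950
theorem D11952 : act 8 n10950 = n11952 := rfl
theorem F47047 : act 1 n11952 = n11952 := d14_1 D11952 (iv D11952) F43120
theorem F47048 : act 2 n11952 = n10953 := d20_1 D11952 (iv D10953) (iv F43121)
theorem F47049 : act 4 n11952 = n10951 := d29_1 D11952 (iv D10951) D10950
def n11953 : Q := act 7 n10951
theorem D11953 : act 7 n10951 = n11953 := rfl
theorem F47050 : act 1 n11953 = n11953 := d13_1 D11953 (iv D11953) F43123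
theorem F47051 : act 2 n11953 = n10954 := d19_1 D11953 (iv D10954) (iv F43124)
theorem F47052 : act 5 n11953 = n10958 := d31_1 D11953 (iv D10958) (iv F43125)
theorem F47053 : act 8 n11953 = n11953 := d35_2 D10951 D11953 (iv D11953) (iv D10951) F39745
def n11954 : Q := act 6 n10952
theorem D11954 : act 6 n10952 = n11954 := rfl
theorem F47054 : act 1 n11954 = n10983 := d12_1 D11954 (iv D10983) (iv F43126)
theorem F47055 : act 4 n11954 = n10959 := d27_1 D11954 (iv D10959) (iv F43127)
theorem F47056 : act 7 n11954 = n11954 := d33_2 F43128 D11954 (iv D11954)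
def n11955 : Q := act 8 n10952
theorem D11955 : act 8 n10952 = n11955 := rfl
theorem F47057 : act 1 n11955 = n10984 := d14_1 D11955 (iv D10984) (iv F43126)
theorem F47058 : act 4 n11955 = n10960 := d29_1 D11955 (iv D10960) (iv F43127)
theorem F47059 : act 5 n11955 = n10953 := d32_1 D11955 (iv D10953) D10952
def n11956 : Q := act 7 n10953
theorem D11956 : act 7 n10953 = n11956 := rfl
theorem F47060 : act 1 n11956 = n10985 := d13_1 D11956 (iv D10985) (iv F43129)
theorem F47061 : act 4 n11956 = n10954 := d28_1 D11956 (iv D10954) (iv F43130)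
theorem F47062 : act 8 n11956 = n11956 := d35_2 D10953 D11956 (iv D11956) (iv D10953) F39747
def n11957 : Q := act 5 n10955
theorem D11957 : act 5 n10955 = n11957 := rfl
theorem F47063 : act 1 n11957 = n11957 := d11_1 D11957 (iv D11957) F43135
theorem F47064 : act 2 n11957 = n11317 := d17_1 D11957 (iv D11317) (iv F43136)
theorem F47065 : act 3 n11957 = n10956 := d22_1 D11957 (iv D10956) D10955
def n11958 : Q := act 7 n10955
theorem D11958 : act 7 n10955 = n11958 := rfl
theorem F47066 : act 1 n11958 = n11958 := d13_1 D11958 (iv D11958) F43135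
theorem F47067 : act 2 n11958 = n11318 := d19_1 D11958 (iv D11318) (iv F43136)
theorem F47068 : act 3 n11958 = n11958 := d24_1 D11958 (iv D11958) (iv D10955) F39754 D10955
theorem F47069 : act 6 n11958 = n11958 := d33_1 D11958 (iv D11958) F43137
def n11959 : Q := act 8 n10955
theorem D11959 : act 8 n10955 = n11959 := rfl
theorem F47070 : act 1 n11959 = n11959 := d14_1 D11959 (iv D11959) F43135
theorem F47071 : act 2 n11959 = n11319 := d20_1 D11959 (iv D11319) (iv F43136)
theorem F47072 : act 3 n11959 = n10957 := d25_1 D11959 (iv D10957) D10955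
theorem F47073 : act 6 n11959 = n11959 := d34_1 D11959 (iv D11959) F43137
def n11960 : Q := act 6 n10956
theorem D11960 : act 6 n10956 = n11960 := rfl
theorem F47074 : act 1 n11960 = n11960 := d12_1 D11960 (iv D11960) F43138
theorem F47075 : act 2 n11960 = n10959 := d18_1 D11960 (iv D10959) (iv F43139)
theorem F47076 : act 5 n11960 = n11960 := d30_1 D11960 (iv D11960) (iv D10956) F39753 D10956
theorem F47077 : act 7 n11960 = n11960 := d33_2 F43140 D11960 (iv D11960)
def n11961 : Q := act 8 n10956
theorem D11961 : act 8 n10956 = n11961 := rfl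
theorem F47078 : act 1 n11961 = n11961 := d14_1 D11961 (iv D11961) F43138
theorem F47079 : act 2 n11961 = n10960 := d20_1 D11961 (iv D10960) (iv F43139)
theorem F47080 : act 5 n11961 = n10957 := d32_1 D11961 (iv D10957) D10956
def n11962 : Q := act 7 n10957
theorem D11962 : act 7 n10957 = n11962 := rfl
theorem F47081 : act 1 n11962 = n11962 := d13_1 D11962 (iv D11962) F43141
theorem F47082 : act 2 n11962 = n10961 := d19_1 D11962 (iv D10961) (iv F43142)
theorem F47083 : act 4 n11962 = n10958 := d28_1 D11962 (iv D10958) (iv F43143)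
theorem F47084 : act 6 n11962 = n11962 := d33_1 D11962 (iv D11962) F43144
theorem F47085 : act 8 n11962 = n11962 := d35_2 D10957 D11962 (iv D11962) (iv D10957) F39754
def n11963 : Q := act 3 n10958
theorem D11963 : act 3 n10958 = n11963 := rfl
theorem F47086 : act 1 n11963 = n11963 := d9_1 D11963 (iv D11963) F43145
theorem F47087 : act 2 n11963 = n11710 := d15_1 D11963 (iv D11710) F42358 (iv F39766) (iv F43146)
theorem F47088 : act 6 n11963 = n11963 := d23_2 F43147 D11963 (iv D11963)
theorem F47089 : act 8 n11963 = n11963 := d25_2 F43148 D11963 (iv D11963)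
def n11964 : Q := act 8 n10959
theorem D11964 : act 8 n10959 = n11964 := rfl
theorem F47090 : act 1 n11964 = n10986 := d14_1 D11964 (iv D10986) (iv F43149)
theorem F47091 : act 3 n11964 = n11324 := d25_1 D11964 (iv D11324) (iv F43150)
theorem F47092 : act 5 n11964 = n11964 := d32_1 D11964 (iv D11964) F43151
theorem F47093 : act 6 n11964 = n10960 := d34_1 D11964 (iv D10960) D10959
def n11965 : Q := act 7 n10960
theorem D11965 : act 7 n10960 = n11965 := rfl
theorem F47094 : act 1 n11965 = n10987 := d13_1 D11965 (iv D10987) (iv F43153)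
theorem F47095 : act 5 n11965 = n10961 := d31_1 D11965 (iv D10961) (iv F43155)
theorem F47096 : act 8 n11965 = n11965 := d35_2 D10960 D11965 (iv D11965) (iv D10960) F39760
def n11966 : Q := act 3 n10961
theorem D11966 : act 3 n10961 = n11966 := rfl
theorem F47097 : act 1 n11966 = n10988 := d9_1 D11966 (iv D10988) (iv F43156)
theorem F47098 : act 4 n11966 = n11713 := d21_2 (iv F43157) D11966 (iv D11713) F42367 (iv F39766)
theorem F47099 : act 6 n11966 = n11966 := d23_2 F43158 D11966 (iv D11966)
theorem F47100 : act 7 n11966 = n11326 := d24_2 D10961 D11966 (iv D11326) (iv D10377) (iv F39762)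
theorem F47101 : act 8 n11966 = n11966 := d25_2 F43159 D11966 (iv D11966)
def n11967 : Q := act 7 n10962
theorem D11967 : act 7 n10962 = n11967 := rfl
theorem F47102 : act 0 n11967 = n10993 := d6_1 D11967 (iv D10993) (iv F43160)
theorem F47103 : act 2 n11967 = n11053 := d19_1 D11967 (iv D11053) (iv F43161)
theorem F47104 : act 4 n11967 = n10963 := d28_1 D11967 (iv D10963) D10962
theorem F47105 : act 5 n11967 = n11967 := d31_1 D11967 (iv D11967) F43163
theorem F47106 : act 6 n11967 = n11327 := d33_1 D11967 (iv D11327) (iv F43164)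
theorem F47107 : act 3 n11967 = n11081 := d37_3 D10074 (iv F43168) (iv F47104) (iv D11081) F40206 F39382 F31297 F31296 F31295 (iv D6023) (iv F23234) F23233 (iv F23314) (iv D6038) F17305 (iv D3350) F9940 F7950 F5961 F5960 D1427 F5985 F4484 F4483 (iv F4591) F4590 (iv F6099) (iv D1455) D1454 F6097 (iv F7593) F7592 (iv F6952) F6951 D1687 F6982 F5252 (iv F6882) (iv F9169) (iv F12184) (iv F16309) (iv D4147) D4146 D5655 D7728 F29592 (iv F39048) F39047 D9905 (iv F40733) F40732 (iv F40303) F40302 F39501 F31359 (iv D6016) F17253 (iv F23231) (iv F31398) F31397 F31396 (iv F31513)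
def n11968 : Q := act 3 n10963
theorem D11968 : act 3 n10963 = n11968 := rfl
theorem F47108 : act 0 n11968 = n10994 := d2_1 D11968 (iv D10994) (iv F43166)
theorem F47109 : act 2 n11968 = n11114 := d15_1 D11968 F43844 F40352 (iv F40052) (iv F43167)
theorem F47110 : act 4 n11968 = n11113 := d21_2 F47104 D11968 F43841 (iv F43681) (iv F47107)
theorem F47111 : act 5 n11968 = n10964 := d22_2 (iv F43168) D11968 (iv D10964)
theorem F47112 : act 6 n11968 = n11260 := d23_2 (iv F43169) D11968 F44380
theorem F47113 : act 7 n11968 = n10969 := d24_2 D10963 D11968 (iv D10969) (iv D10077) (iv F39771)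
def n11969 : Q := act 8 n10963
theorem D11969 : act 8 n10963 = n11969 := rfl
theorem F47114 : act 0 n11969 = n10995 := d7_1 D11969 (iv D10995) (iv F43166)
theorem F47115 : act 2 n11969 = n11054 := d20_1 D11969 (iv D11054) (iv F43167)
theorem F47116 : act 5 n11969 = n10965 := d32_1 D11969 (iv D10965) (iv F43168)
theorem F47117 : act 6 n11969 = n11328 := d34_1 D11969 (iv D11328) (iv F43169)
theorem F47118 : act 7 n11969 = n11060 := d35_1 D11969 (iv D11060) F40065 (iv F39773) D10963
def n11970 : Q := act 2 n10964
theorem D11970 : act 2 n10964 = n11970 := rfl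
theorem F47119 : act 0 n11970 = n10996 := d1_1 D11970 (iv D10996) (iv F43170)
theorem F47120 : act 3 n11970 = n11055 := d15_2 D10964 D11970 (iv D11055) (iv D10146) (iv F39775)
theorem F47121 : act 5 n11970 = n11114 := d17_2 F47111 D11970 (iv F47109)
theorem F47122 : act 6 n11970 = n10966 := d18_2 (iv F43171) D11970 (iv D10966)
theorem F47123 : act 7 n11970 = n10971 := d19_2 (iv F43172) D11970 (iv D10971)
theorem F47124 : act 4 n11662 = n11970 := d26_5 F47121 (iv D11114) F40339 D10715 D11662
def n11971 : Q := act 4 n10964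
theorem D11971 : act 4 n10964 = n11971 := rfl
theorem F47125 : act 0 n11971 = n10997 := d3_1 D11971 (iv D10997) (iv F43170)
theorem F47126 : act 2 n11971 = n11662 := d16_1 D11971 F47124 (iv D11970)
theorem F47127 : act 3 n11971 = n11971 := d21_1 D11971 (iv D11971) (iv D10964) F39776 D10964
theorem F47128 : act 5 n11971 = n11660 := d26_2 F47111 D11971 (iv D11660) (iv F43842) (iv F47110)
theorem F47129 : act 6 n11971 = n10967 := d27_2 (iv F43171) D11971 (iv D10967)
theorem F47130 : act 7 n11971 = n10972 := d28_2 (iv F43172) D11971 (iv D10972)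
def n11972 : Q := act 8 n10964
theorem D11972 : act 8 n10964 = n11972 := rfl
theorem F47131 : act 0 n11972 = n10998 := d7_1 D11972 (iv D10998) (iv F43170)
theorem F47132 : act 3 n11972 = n10965 := d25_1 D11972 (iv D10965) D10964
theorem F47133 : act 6 n11972 = n10968 := d34_1 D11972 (iv D10968) (iv F43171)
def n11973 : Q := act 1 n10966
theorem D11973 : act 1 n10966 = n11973 := rfl
theorem F47134 : act 3 n11973 = n11058 := d9_2 (iv F43179) D11973 (iv D11058)
theorem F47135 : act 5 n11973 = n11331 := d11_2 (iv F43180) D11973 (iv D11331)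
theorem F47136 : act 7 n11973 = n10974 := d13_2 (iv F43181) D11973 (iv D10974)
def n11974 : Q := act 4 n10966
theorem D11974 : act 4 n10966 = n11974 := rfl
theorem F47137 : act 0 n11974 = n11000 := d3_1 D11974 (iv D11000) (iv F43178)
theorem F47138 : act 2 n11974 = n10967 := d16_1 D11974 (iv D10967) D10966
theorem F47139 : act 3 n11974 = n11665 := d21_1 D11974 F45911 F43561 (iv D11059) (iv F43179)
theorem F47140 : act 6 n11974 = n11662 := d27_2 F47122 D11974 F47124
theorem F47141 : act 7 n11974 = n10975 := d28_2 (iv F43181) D11974 (iv D10975)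
def n11975 : Q := act 8 n10966
theorem D11975 : act 8 n10966 = n11975 := rfl
theorem F47142 : act 0 n11975 = n11001 := d7_1 D11975 (iv D11001) (iv F43178)
theorem F47143 : act 2 n11975 = n10968 := d20_1 D11975 (iv D10968) D10966
theorem F47144 : act 3 n11975 = n11060 := d25_1 D11975 (iv D11060) (iv F43179)
theorem F47145 : act 5 n11975 = n11333 := d32_1 D11975 (iv D11333) (iv F43180)
def n11976 : Q := act 5 n10967
theorem D11976 : act 5 n10967 = n11976 := rfl
theorem F47146 : act 0 n11976 = n11002 := d4_1 D11976 (iv D11002) (iv F43182)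
theorem F47147 : act 3 n11976 = n11976 := d22_1 D11976 (iv D11976) F43183
theorem F47148 : act 4 n11976 = n11334 := d26_1 D11976 (iv D11334) (iv D10383) (iv F39779) D10967
theorem F47149 : act 7 n11976 = n10977 := d31_2 (iv F43184) D11976 (iv D10977)
def n11977 : Q := act 8 n10967
theorem D11977 : act 8 n10967 = n11977 := rfl
theorem F47150 : act 0 n11977 = n11003 := d7_1 D11977 (iv D11003) (iv F43182)
theorem F47151 : act 3 n11977 = n11977 := d25_1 D11977 (iv D11977) F43183
theorem F47152 : act 4 n11977 = n10968 := d29_1 D11977 (iv D10968) D10967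
def n11978 : Q := act 7 n10968
theorem D11978 : act 7 n10968 = n11978 := rfl
theorem F47153 : act 0 n11978 = n11004 := d6_1 D11978 (iv D11004) (iv F43185)
theorem F47154 : act 3 n11978 = n11716 := d24_1 D11978 (iv D11716) F42374 (iv F39785) (iv F43186)
theorem F47155 : act 5 n11978 = n11336 := d31_1 D11978 (iv D11336) (iv F43187)
theorem F47156 : act 8 n11978 = n10979 := d35_2 D10968 D11978 (iv D10979) (iv D10082) (iv F39780)
def n11979 : Q := act 4 n10969
theorem D11979 : act 4 n10969 = n11979 := rfl
theorem F47157 : act 0 n11979 = n11005 := d3_1 D11979 (iv D11005) (iv F43188)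
theorem F47158 : act 2 n11979 = n11109 := d16_1 D11979 F43821 (iv F43189)
theorem F47159 : act 3 n11979 = n11979 := d21_1 D11979 (iv D11979) (iv D10969) F39788 D10969
theorem F47160 : act 6 n11979 = n11264 := d27_2 (iv F43191) D11979 (iv D11264)
theorem F47161 : act 7 n11979 = n11113 := d28_2 F47113 D11979 (iv F47110)
theorem F47162 : act 5 n11656 = n11979 := d37_1 (iv F45890) (iv D11979) (iv D10969) F39787 (iv F38175) F31573 F23410 F38172 F13275 F9910 F7411 F5936 F4464 F4468 F4467 F4466 (iv F4534) F4533 (iv F6034) (iv F8030) D2679 F10757 (iv F11811) (iv F38839) F13869 F13868 F13867 F10361 (iv D2576) (iv D1888) F5814 (iv F5494) (iv D1299) F4130 F4064 F3095 D941 D1280 F5418 (iv F5435) (iv F7211) D2376 (iv F12894) (iv F17329) D6046 D8282 D10094 D10991 F43280 F40099 F33390 F25033 F38434 F23865 F17718 D4533 F17755 (iv F23933) D8498 D10284 F40637 (iv F42238)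
def n11980 : Q := act 8 n10969
theorem D11980 : act 8 n10969 = n11980 := rfl
theorem F47163 : act 0 n11980 = n11006 := d7_1 D11980 (iv D11006) (iv F43188)
theorem F47164 : act 2 n11980 = n11262 := d20_1 D11980 (iv D11262) (iv F43189)
theorem F47165 : act 3 n11980 = n10970 := d25_1 D11980 (iv D10970) D10969
theorem F47166 : act 5 n11980 = n10973 := d32_1 D11980 (iv D10973) (iv F43190)
theorem F47167 : act 6 n11980 = n11265 := d34_1 D11980 (iv D11265) (iv F43191)
def n11981 : Q := act 1 n10971
theorem D11981 : act 1 n10971 = n11981 := rfl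
theorem F47168 : act 3 n11981 = n10989 := d9_2 (iv F43199) D11981 (iv D10989)
theorem F47169 : act 5 n11981 = n11241 := d11_2 (iv F43200) D11981 F44309
theorem F47170 : act 6 n11981 = n10974 := d12_2 (iv F43201) D11981 (iv D10974)
def n11982 : Q := act 4 n10971
theorem D11982 : act 4 n10971 = n11982 := rfl
theorem F47171 : act 0 n11982 = n11008 := d3_1 D11982 (iv D11008) (iv F43198)
theorem F47172 : act 2 n11982 = n10972 := d16_1 D11982 (iv D10972) D10971
theorem F47173 : act 3 n11982 = n11982 := d21_1 D11982 (iv D11982) F43199 F39848 (iv F43199)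
theorem F47174 : act 5 n11982 = n11657 := d26_2 (iv F43200) D11982 (iv D11657) (iv F43822) F43821
theorem F47175 : act 6 n11982 = n10975 := d27_2 (iv F43201) D11982 (iv D10975)
theorem F47176 : act 7 n11982 = n11662 := d28_2 F47123 D11982 F47124
def n11983 : Q := act 8 n10971
theorem D11983 : act 8 n10971 = n11983 := rfl
theorem F47177 : act 0 n11983 = n11009 := d7_1 D11983 (iv D11009) (iv F43198)
theorem F47178 : act 2 n11983 = n10973 := d20_1 D11983 (iv D10973) D10971
theorem F47179 : act 3 n11983 = n10990 := d25_1 D11983 (iv D10990) (iv F43199)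
theorem F47180 : act 5 n11983 = n11262 := d32_1 D11983 (iv D11262) (iv F43200)
theorem F47181 : act 6 n11983 = n10976 := d34_1 D11983 (iv D10976) (iv F43201)
def n11984 : Q := act 5 n10972
theorem D11984 : act 5 n10972 = n11984 := rfl
theorem F47182 : act 0 n11984 = n11010 := d4_1 D11984 (iv D11010) (iv F43202)
theorem F47183 : act 2 n11984 = n11657 := d17_1 D11984 (iv F47174) F47172
theorem F47184 : act 3 n11984 = n10980 := d22_1 D11984 (iv D10980) (iv F43203)
theorem F47185 : act 4 n11984 = n11656 := d26_1 D11984 F47162 (iv D11979) F43190 D10972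
theorem F47186 : act 7 n11984 = n11660 := d31_2 F47130 D11984 (iv F47128)
def n11985 : Q := act 8 n10972
theorem D11985 : act 8 n10972 = n11985 := rfl
theorem F47187 : act 0 n11985 = n11011 := d7_1 D11985 (iv D11011) (iv F43202)
theorem F47188 : act 3 n11985 = n10981 := d25_1 D11985 (iv D10981) (iv F43203)
theorem F47189 : act 4 n11985 = n10973 := d29_1 D11985 (iv D10973) D10972
theorem F47190 : act 6 n11985 = n10978 := d34_1 D11985 (iv D10978) (iv F43204)
def n11986 : Q := act 7 n10973
theorem D11986 : act 7 n10973 = n11986 := rfl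
theorem F47191 : act 0 n11986 = n11012 := d6_1 D11986 (iv D11012) (iv F43205)
theorem F47192 : act 3 n11986 = n11345 := d24_1 D11986 (iv D11345) F40991 (iv F39797) (iv F43206)
theorem F47193 : act 6 n11986 = n10979 := d33_1 D11986 (iv D10979) (iv F43207)
def n11987 : Q := act 0 n10974
theorem D11987 : act 0 n10974 = n11987 := rfl
theorem F47194 : act 1 n11987 = n11013 := d0_2 D10974 D11987 (iv D11013) (iv D10108) (iv F39798)
theorem F47195 : act 3 n11987 = n10991 := d2_2 (iv F43208) D11987 (iv D10991)
theorem F47196 : act 5 n11987 = n11340 := d4_2 (iv F43209) D11987 (iv D11340)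
def n11988 : Q := act 4 n10974
theorem D11988 : act 4 n10974 = n11988 := rfl
theorem F47197 : act 1 n11988 = n10975 := d10_1 D11988 (iv D10975) D10974
theorem F47198 : act 3 n11988 = n11988 := d21_1 D11988 (iv D11988) F43208 F39859 (iv F43208)
def n11989 : Q := act 8 n10974
theorem D11989 : act 8 n10974 = n11989 := rfl
theorem F47199 : act 1 n11989 = n10976 := d14_1 D11989 (iv D10976) D10974
theorem F47200 : act 3 n11989 = n10992 := d25_1 D11989 (iv D10992) (iv F43208)
theorem F47201 : act 5 n11989 = n11342 := d32_1 D11989 (iv D11342) (iv F43209)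
def n11990 : Q := act 5 n10975
theorem D11990 : act 5 n10975 = n11990 := rfl
theorem F47202 : act 0 n11990 = n11016 := d4_1 D11990 (iv D11016) (iv F43210)
theorem F47203 : act 2 n11990 = n10977 := d17_1 D11990 (iv D10977) (iv F43211)
theorem F47204 : act 3 n11990 = n11990 := d22_1 D11990 (iv D11990) F43212
theorem F47205 : act 4 n11990 = n11343 := d26_1 D11990 (iv D11343) (iv D10388) (iv F39800) D10975
def n11991 : Q := act 8 n10975
theorem D11991 : act 8 n10975 = n11991 := rfl
theorem F47206 : act 0 n11991 = n11017 := d7_1 D11991 (iv D11017) (iv F43210)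
theorem F47207 : act 2 n11991 = n10978 := d20_1 D11991 (iv D10978) (iv F43211)
theorem F47208 : act 3 n11991 = n11991 := d25_1 D11991 (iv D11991) F43212
theorem F47209 : act 4 n11991 = n10976 := d29_1 D11991 (iv D10976) D10975
def n11992 : Q := act 7 n10976
theorem D11992 : act 7 n10976 = n11992 := rfl
theorem F47210 : act 0 n11992 = n11018 := d6_1 D11992 (iv D11018) (iv F43213)
theorem F47211 : act 2 n11992 = n10979 := d19_1 D11992 (iv D10979) (iv F43214)
theorem F47212 : act 5 n11992 = n11345 := d31_1 D11992 (iv D11345) (iv F43216)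
def n11993 : Q := act 6 n10977
theorem D11993 : act 6 n10977 = n11993 := rfl
theorem F47213 : act 0 n11993 = n11019 := d5_1 D11993 (iv D11019) (iv F43217)
theorem F47214 : act 3 n11993 = n10983 := d23_1 D11993 (iv D10983) (iv F43218)
theorem F47215 : act 4 n11993 = n11346 := d27_1 D11993 (iv D11346) (iv F43219)
def n11994 : Q := act 8 n10977
theorem D11994 : act 8 n10977 = n11994 := rfl
theorem F47216 : act 0 n11994 = n11020 := d7_1 D11994 (iv D11020) (iv F43217)
theorem F47217 : act 3 n11994 = n10984 := d25_1 D11994 (iv D10984) (iv F43218)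
theorem F47218 : act 4 n11994 = n11347 := d29_1 D11994 (iv D11347) (iv F43219)
theorem F47219 : act 5 n11994 = n10978 := d32_1 D11994 (iv D10978) D10977
def n11995 : Q := act 7 n10978
theorem D11995 : act 7 n10978 = n11995 := rfl
theorem F47220 : act 0 n11995 = n11021 := d6_1 D11995 (iv D11021) (iv F43220)
theorem F47221 : act 4 n11995 = n10979 := d28_1 D11995 (iv D10979) (iv F43222)
def n11996 : Q := act 6 n10980
theorem D11996 : act 6 n10980 = n11996 := rfl
theorem F47222 : act 0 n11996 = n11022 := d5_1 D11996 (iv D11022) (iv F43226)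
theorem F47223 : act 2 n11996 = n11996 := d18_1 D11996 (iv D11996) F43227
theorem F47224 : act 4 n11996 = n11996 := d27_1 D11996 (iv D11996) F43228
theorem F47225 : act 5 n11996 = n10983 := d30_1 D11996 (iv D10983) (iv D10085) (iv F39808) D10980
theorem F47226 : act 7 n11996 = n11996 := d33_2 F43229 D11996 (iv D11996)
def n11997 : Q := act 8 n10980
theorem D11997 : act 8 n10980 = n11997 := rfl
theorem F47227 : act 0 n11997 = n11023 := d7_1 D11997 (iv D11023) (iv F43226)
theorem F47228 : act 2 n11997 = n11997 := d20_1 D11997 (iv D11997) F43227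
theorem F47229 : act 4 n11997 = n11997 := d29_1 D11997 (iv D11997) F43228
theorem F47230 : act 5 n11997 = n10981 := d32_1 D11997 (iv D10981) D10980
def n11998 : Q := act 7 n10981
theorem D11998 : act 7 n10981 = n11998 := rfl
theorem F47231 : act 0 n11998 = n11024 := d6_1 D11998 (iv D11024) (iv F43230)
theorem F47232 : act 2 n11998 = n11998 := d19_1 D11998 (iv D11998) F43231
theorem F47233 : act 4 n11998 = n10982 := d28_1 D11998 (iv D10982) (iv F43232)
theorem F47234 : act 6 n11998 = n10985 := d33_1 D11998 (iv D10985) (iv F43233)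
theorem F47235 : act 8 n11998 = n11998 := d35_2 D10981 D11998 (iv D11998) (iv D10981) F39809
def n11999 : Q := act 8 n10983
theorem D11999 : act 8 n10983 = n11999 := rfl
theorem F47236 : act 0 n11999 = n11025 := d7_1 D11999 (iv D11025) (iv F43240)
theorem F47237 : act 2 n11999 = n11999 := d20_1 D11999 (iv D11999) F43241
theorem F47238 : act 4 n11999 = n10986 := d29_1 D11999 (iv D10986) (iv F43242)
theorem F47239 : act 6 n11999 = n10984 := d34_1 D11999 (iv D10984) D10983
def n12000 : Q := act 7 n10984
theorem D12000 : act 7 n10984 = n12000 := rfl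
theorem F47240 : act 0 n12000 = n11026 := d6_1 D12000 (iv D11026) (iv F43244)
theorem F47241 : act 2 n12000 = n12000 := d19_1 D12000 (iv D12000) F43245
theorem F47242 : act 4 n12000 = n10987 := d28_1 D12000 (iv D10987) (iv F43246)
theorem F47243 : act 5 n12000 = n10985 := d31_1 D12000 (iv D10985) (iv F43247)
theorem F47244 : act 8 n12000 = n12000 := d35_2 D10984 D12000 (iv D12000) (iv D10984) F39818
def n12001 : Q := act 3 n10985
theorem D12001 : act 3 n10985 = n12001 := rfl
theorem F47245 : act 0 n12001 = n11027 := d2_1 D12001 (iv D11027) (iv F43248)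
theorem F47246 : act 4 n12001 = n11722 := d21_2 (iv F43250) D12001 (iv D11722) F42391 (iv F39824)
theorem F47247 : act 8 n12001 = n12001 := d25_2 F43251 D12001 (iv D12001)
def n12002 : Q := act 7 n10986
theorem D12002 : act 7 n10986 = n12002 := rfl
theorem F47248 : act 0 n12002 = n11028 := d6_1 D12002 (iv D11028) (iv F43252)
theorem F47249 : act 2 n12002 = n12002 := d19_1 D12002 (iv D12002) F43253
theorem F47250 : act 5 n12002 = n12002 := d31_1 D12002 (iv D12002) F43255
theorem F47251 : act 6 n12002 = n10987 := d33_1 D12002 (iv D10987) (iv F43256)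
theorem F47252 : act 8 n12002 = n12002 := d35_2 D10986 D12002 (iv D12002) (iv D10986) F39831
def n12003 : Q := act 3 n10987
theorem D12003 : act 3 n10987 = n12003 := rfl
theorem F47253 : act 0 n12003 = n11029 := d2_1 D12003 (iv D11029) (iv F43257)
theorem F47254 : act 5 n12003 = n10988 := d22_2 (iv F43259) D12003 (iv D10988)
theorem F47255 : act 7 n12003 = n11356 := d24_2 D10987 D12003 (iv D11356) (iv D10400) (iv F39834)
theorem F47256 : act 8 n12003 = n12003 := d25_2 F43260 D12003 (iv D12003)
def n12004 : Q := act 2 n10988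
theorem D12004 : act 2 n10988 = n12004 := rfl
theorem F47257 : act 0 n12004 = n11030 := d1_1 D12004 (iv D11030) (iv F43261)
theorem F47258 : act 3 n12004 = n12004 := d15_2 D10988 D12004 (iv D12004) (iv D10988) F39837
theorem F47259 : act 4 n12004 = n11725 := d16_2 (iv F43262) D12004 (iv D11725)
theorem F47260 : act 6 n12004 = n12004 := d18_2 F43263 D12004 (iv D12004)
theorem F47261 : act 7 n12004 = n11357 := d19_2 (iv F43264) D12004 (iv D11357)
theorem F47262 : act 8 n12004 = n12004 := d20_2 F43265 D12004 (iv D12004)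
def n12005 : Q := act 0 n10989
theorem D12005 : act 0 n10989 = n12005 := rfl
theorem F47263 : act 1 n12005 = n11031 := d0_2 D10989 D12005 (iv D11031) (iv D10123) (iv F39847)
theorem F47264 : act 2 n12005 = n11822 := d1_2 (iv F43266) D12005 F46513
theorem F47265 : act 4 n12005 = n12005 := d3_2 F43267 D12005 (iv D12005)
theorem F47266 : act 5 n12005 = n11097 := d4_2 (iv F43268) D12005 F43760
theorem F47267 : act 6 n12005 = n10991 := d5_2 (iv F43269) D12005 (iv D10991)
theorem F47268 : act 7 n12005 = n11065 := d6_2 (iv F43270) D12005 (iv D11065)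
def n12006 : Q := act 8 n10989
theorem D12006 : act 8 n10989 = n12006 := rfl
theorem F47269 : act 1 n12006 = n10990 := d14_1 D12006 (iv D10990) D10989
theorem F47270 : act 2 n12006 = n11935 := d20_1 D12006 (iv D11935) (iv F43266)
theorem F47271 : act 4 n12006 = n12006 := d29_1 D12006 (iv D12006) F43267
theorem F47272 : act 5 n12006 = n11242 := d32_1 D12006 (iv D11242) (iv F43268)
theorem F47273 : act 6 n12006 = n10992 := d34_1 D12006 (iv D10992) (iv F43269)
theorem F47274 : act 7 n12006 = n11273 := d35_1 D12006 (iv D11273) F40842 (iv F40096) (iv F43270)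
def n12007 : Q := act 8 n10991
theorem D12007 : act 8 n10991 = n12007 := rfl
theorem F47275 : act 0 n12007 = n10992 := d7_1 D12007 (iv D10992) D10991
theorem F47276 : act 1 n12007 = n11033 := d14_1 D12007 (iv D11033) (iv F43277)
theorem F47277 : act 4 n12007 = n12007 := d29_1 D12007 (iv D12007) F43278
theorem F47278 : act 5 n12007 = n11358 := d32_1 D12007 (iv D11358) (iv F43279)
def n12008 : Q := act 8 n10993
theorem D12008 : act 8 n10993 = n12008 := rfl
theorem F47279 : act 1 n12008 = n11282 := d14_1 D12008 F44452 (iv F43284)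
theorem F47280 : act 2 n12008 = n11066 := d20_1 D12008 (iv D11066) (iv F43285)
theorem F47281 : act 3 n12008 = n11088 := d25_1 D12008 (iv D11088) (iv F43289)
theorem F47282 : act 4 n12008 = n10995 := d29_1 D12008 (iv D10995) (iv F43286)
theorem F47283 : act 5 n12008 = n12008 := d32_1 D12008 (iv D12008) F43287
theorem F47284 : act 6 n12008 = n11131 := d34_1 D12008 F43911 (iv F43288)
theorem F47285 : act 7 n12008 = n11071 := d35_1 D12008 (iv D11071) F40135 (iv F39871) D10993
def n12009 : Q := act 8 n10994
theorem D12009 : act 8 n10994 = n12009 := rfl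
theorem F47286 : act 2 n12009 = n11129 := d20_1 D12009 (iv D11129) (iv F43290)
theorem F47287 : act 3 n12009 = n10995 := d25_1 D12009 (iv D10995) D10994
theorem F47288 : act 4 n12009 = n11128 := d29_1 D12009 (iv D11128) (iv F43291)
theorem F47289 : act 5 n12009 = n10998 := d32_1 D12009 (iv D10998) (iv F43292)
theorem F47290 : act 6 n12009 = n11274 := d34_1 D12009 (iv D11274) (iv F43293)
def n12010 : Q := act 8 n10996
theorem D12010 : act 8 n10996 = n12010 := rfl
theorem F47291 : act 1 n12010 = n11280 := d14_1 D12010 (iv D11280) F43303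
theorem F47292 : act 2 n12010 = n10998 := d20_1 D12010 (iv D10998) D10996
theorem F47293 : act 3 n12010 = n11067 := d25_1 D12010 (iv D11067) (iv F43299)
theorem F47294 : act 4 n12010 = n11678 := d29_1 D12010 (iv D11678) F43304
theorem F47295 : act 5 n12010 = n11129 := d32_1 D12010 (iv D11129) (iv F43300)
theorem F47296 : act 6 n12010 = n11001 := d34_1 D12010 (iv D11001) (iv F43301)
def n12011 : Q := act 8 n10997
theorem D12011 : act 8 n10997 = n12011 := rfl
theorem F47297 : act 2 n12011 = n11678 := d20_1 D12011 (iv D11678) (iv F43305)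
theorem F47298 : act 3 n12011 = n12011 := d25_1 D12011 (iv D12011) F43306
theorem F47299 : act 4 n12011 = n10998 := d29_1 D12011 (iv D10998) D10997
theorem F47300 : act 5 n12011 = n11676 := d32_1 D12011 (iv D11676) (iv F43307)
theorem F47301 : act 6 n12011 = n11003 := d34_1 D12011 (iv D11003) (iv F43308)
def n12012 : Q := act 7 n10998
theorem D12012 : act 7 n10998 = n12012 := rfl
theorem F47302 : act 3 n12012 = n11366 := d24_1 D12012 (iv D11366) F41067 (iv F39880) (iv F43310)
theorem F47303 : act 6 n12012 = n11004 := d33_1 D12012 (iv D11004) (iv F43311)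
theorem F47304 : act 8 n12012 = n11012 := d35_2 D10998 D12012 (iv D11012) (iv D10107) (iv F39876)
def n12013 : Q := act 0 n10999
theorem D12013 : act 0 n10999 = n12013 := rfl
theorem F47305 : act 3 n12013 = n11069 := d2_2 (iv F43312) D12013 (iv D11069)
theorem F47306 : act 4 n12013 = n11717 := d3_2 F43316 D12013 F46063
theorem F47307 : act 5 n12013 = n11361 := d4_2 (iv F43313) D12013 (iv D11361)
theorem F47308 : act 6 n12013 = n11266 := d5_2 (iv F43314) D12013 F44398
theorem F47309 : act 7 n12013 = n11013 := d6_2 (iv F43315) D12013 (iv D11013)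
def n12014 : Q := act 8 n10999
theorem D12014 : act 8 n10999 = n12014 := rfl
theorem F47310 : act 1 n12014 = n11001 := d14_1 D12014 (iv D11001) D10999
theorem F47311 : act 3 n12014 = n11070 := d25_1 D12014 (iv D11070) (iv F43312)
theorem F47312 : act 4 n12014 = n11728 := d29_1 D12014 (iv D11728) F43316
theorem F47313 : act 5 n12014 = n11363 := d32_1 D12014 (iv D11363) (iv F43313)
theorem F47314 : act 6 n12014 = n11280 := d34_1 D12014 (iv D11280) (iv F43314)
def n12015 : Q := act 5 n11000
theorem D12015 : act 5 n11000 = n12015 := rfl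
theorem F47315 : act 1 n12015 = n11378 := d11_1 D12015 F44757 (iv F43317)
theorem F47316 : act 2 n12015 = n11002 := d17_1 D12015 (iv D11002) (iv F43318)
theorem F47317 : act 3 n12015 = n11470 := d22_1 D12015 F45119 (iv F43319)
theorem F47318 : act 4 n12015 = n11364 := d26_1 D12015 (iv D11364) (iv D10409) (iv F39882) D11000
theorem F47319 : act 6 n12015 = n11375 := d30_2 (iv F43320) D12015 (iv D11375) F41086 D10731
theorem F47320 : act 7 n12015 = n11016 := d31_2 (iv F43321) D12015 (iv D11016)
def n12016 : Q := act 8 n11000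
theorem D12016 : act 8 n11000 = n12016 := rfl
theorem F47321 : act 1 n12016 = n11728 := d14_1 D12016 (iv D11728) (iv F43317)
theorem F47322 : act 2 n12016 = n11003 := d20_1 D12016 (iv D11003) (iv F43318)
theorem F47323 : act 3 n12016 = n11680 := d25_1 D12016 (iv D11680) (iv F43319)
theorem F47324 : act 4 n12016 = n11001 := d29_1 D12016 (iv D11001) D11000
theorem F47325 : act 6 n12016 = n11678 := d34_1 D12016 (iv D11678) (iv F43320)
def n12017 : Q := act 7 n11001
theorem D12017 : act 7 n11001 = n12017 := rfl
theorem F47326 : act 2 n12017 = n11004 := d19_1 D12017 (iv D11004) (iv F43322)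
theorem F47327 : act 5 n12017 = n11366 := d31_1 D12017 (iv D11366) (iv F43324)
theorem F47328 : act 8 n12017 = n11018 := d35_2 D11001 D12017 (iv D11018) (iv D10110) (iv F39883)
def n12018 : Q := act 6 n11002
theorem D12018 : act 6 n11002 = n12018 := rfl
theorem F47329 : act 1 n12018 = n11218 := d12_1 D12018 (iv F46769) F46765
theorem F47330 : act 2 n12018 = n11375 := d18_1 D12018 (iv F47319) F47316
theorem F47331 : act 3 n12018 = n12018 := d23_1 D12018 (iv D12018) F43325
theorem F47332 : act 4 n12018 = n11367 := d27_1 D12018 (iv D11367) (iv F43326)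
theorem F47333 : act 5 n12018 = n11216 := d30_1 D12018 F44219 (iv F43307) F43308 D11002
theorem F47334 : act 7 n12018 = n11019 := d33_2 (iv F43327) D12018 (iv D11019)
def n12019 : Q := act 8 n11002
theorem D12019 : act 8 n11002 = n12019 := rfl
theorem F47335 : act 3 n12019 = n12019 := d25_1 D12019 (iv D12019) F43325
theorem F47336 : act 4 n12019 = n11368 := d29_1 D12019 (iv D11368) (iv F43326)
theorem F47337 : act 5 n12019 = n11003 := d32_1 D12019 (iv D11003) D11002
def n12020 : Q := act 7 n11003
theorem D12020 : act 7 n11003 = n12020 := rfl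
theorem F47338 : act 4 n12020 = n11004 := d28_1 D12020 (iv D11004) (iv F43329)
theorem F47339 : act 8 n12020 = n11021 := d35_2 D11003 D12020 (iv D11021) (iv D10112) (iv F39885)
def n12021 : Q := act 8 n11005
theorem D12021 : act 8 n11005 = n12021 := rfl
theorem F47340 : act 2 n12021 = n11124 := d20_1 D12021 (iv D11124) (iv F43333)
theorem F47341 : act 3 n12021 = n12021 := d25_1 D12021 (iv D12021) F43334
theorem F47342 : act 4 n12021 = n11006 := d29_1 D12021 (iv D11006) D11005
theorem F47343 : act 5 n12021 = n11673 := d32_1 D12021 (iv D11673) F43337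
theorem F47344 : act 6 n12021 = n11278 := d34_1 D12021 (iv D11278) (iv F43335)
def n12022 : Q := act 7 n11006
theorem D12022 : act 7 n11006 = n12022 := rfl
theorem F47345 : act 2 n12022 = n11276 := d19_1 D12022 (iv D11276) (iv F43338)
theorem F47346 : act 3 n12022 = n11018 := d24_1 D12022 (iv D11018) F39908 (iv F39895) (iv F43339)
theorem F47347 : act 5 n12022 = n11012 := d31_1 D12022 (iv D11012) (iv F43340)
theorem F47348 : act 6 n12022 = n11279 := d33_1 D12022 (iv D11279) (iv F43341)
def n12023 : Q := act 0 n11007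
theorem D12023 : act 0 n11007 = n12023 := rfl
theorem F47349 : act 3 n12023 = n11031 := d2_2 (iv F43342) D12023 (iv D11031)
theorem F47350 : act 4 n12023 = n11714 := d3_2 F43346 D12023 F46055
theorem F47351 : act 5 n12023 = n11111 := d4_2 (iv F43343) D12023 F43831
theorem F47352 : act 6 n12023 = n11013 := d5_2 (iv F43344) D12023 (iv D11013)
theorem F47353 : act 7 n12023 = n11266 := d6_2 (iv F43345) D12023 F44398
def n12024 : Q := act 8 n11007
theorem D12024 : act 8 n11007 = n12024 := rfl
theorem F47354 : act 1 n12024 = n11009 := d14_1 D12024 (iv D11009) D11007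
theorem F47355 : act 3 n12024 = n11032 := d25_1 D12024 (iv D11032) (iv F43342)
theorem F47356 : act 4 n12024 = n11726 := d29_1 D12024 (iv D11726) F43346
theorem F47357 : act 5 n12024 = n11126 := d32_1 D12024 (iv D11126) (iv F43343)
theorem F47358 : act 6 n12024 = n11015 := d34_1 D12024 (iv D11015) (iv F43344)
def n12025 : Q := act 8 n11008
theorem D12025 : act 8 n11008 = n12025 := rfl
theorem F47359 : act 1 n12025 = n11726 := d14_1 D12025 (iv D11726) (iv F43347)
theorem F47360 : act 2 n12025 = n11011 := d20_1 D12025 (iv D11011) (iv F43348)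
theorem F47361 : act 3 n12025 = n12025 := d25_1 D12025 (iv D12025) F43349
theorem F47362 : act 4 n12025 = n11009 := d29_1 D12025 (iv D11009) D11008
theorem F47363 : act 5 n12025 = n11674 := d32_1 D12025 (iv D11674) (iv F43350)
theorem F47364 : act 6 n12025 = n11017 := d34_1 D12025 (iv D11017) (iv F43351)
def n12026 : Q := act 7 n11009
theorem D12026 : act 7 n11009 = n12026 := rfl
theorem F47365 : act 2 n12026 = n11012 := d19_1 D12026 (iv D11012) (iv F43353)
theorem F47366 : act 3 n12026 = n11279 := d24_1 D12026 (iv D11279) F40857 (iv F39957) (iv F43354)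
theorem F47367 : act 5 n12026 = n11276 := d31_1 D12026 (iv D11276) (iv F43355)
theorem F47368 : act 6 n12026 = n11018 := d33_1 D12026 (iv D11018) (iv F43356)
def n12027 : Q := act 6 n11010
theorem D12027 : act 6 n11010 = n12027 := rfl
theorem F47369 : act 1 n12027 = n11203 := d12_1 D12027 F44176 (iv F43357)
theorem F47370 : act 2 n12027 = n11362 := d18_1 D12027 F44711 (iv F43358)
theorem F47371 : act 3 n12027 = n11022 := d23_1 D12027 (iv D11022) (iv F43359)
theorem F47372 : act 4 n12027 = n11202 := d27_1 D12027 F44173 (iv F43360)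
theorem F47373 : act 5 n12027 = n11019 := d30_1 D12027 (iv D11019) (iv D10111) (iv F39900) D11010
theorem F47374 : act 7 n12027 = n11216 := d33_2 (iv F43361) D12027 F44219
def n12028 : Q := act 8 n11010
theorem D12028 : act 8 n11010 = n12028 := rfl
theorem F47375 : act 1 n12028 = n11388 := d14_1 D12028 F44784 (iv F43357)
theorem F47376 : act 2 n12028 = n11674 := d20_1 D12028 (iv D11674) (iv F43358)
theorem F47377 : act 3 n12028 = n11023 := d25_1 D12028 (iv D11023) (iv F43359)
theorem F47378 : act 4 n12028 = n11673 := d29_1 D12028 (iv D11673) (iv F43360)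
theorem F47379 : act 5 n12028 = n11011 := d32_1 D12028 (iv D11011) D11010
def n12029 : Q := act 7 n11011
theorem D12029 : act 7 n11011 = n12029 := rfl
theorem F47380 : act 4 n12029 = n11012 := d28_1 D12029 (iv D11012) (iv F43363)
theorem F47381 : act 6 n12029 = n11021 := d33_1 D12029 (iv D11021) (iv F43364)
def n12030 : Q := act 4 n11013
theorem D12030 : act 4 n11013 = n12030 := rfl
theorem F47382 : act 0 n12030 = n11014 := d3_1 D12030 (iv D11014) D11013
theorem F47383 : act 3 n12030 = n12030 := d21_1 D12030 (iv D12030) F43367 F39959 (iv F43367)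
theorem F47384 : act 6 n12030 = n11714 := d27_2 F47352 D12030 (iv F47350)
theorem F47385 : act 7 n12030 = n11717 := d28_2 F47309 D12030 (iv F47306)
def n12031 : Q := act 8 n11013
theorem D12031 : act 8 n11013 = n12031 := rfl
theorem F47386 : act 0 n12031 = n11015 := d7_1 D12031 (iv D11015) D11013
theorem F47387 : act 3 n12031 = n11033 := d25_1 D12031 (iv D11033) (iv F43367)
theorem F47388 : act 5 n12031 = n11374 := d32_1 D12031 (iv D11374) (iv F43368)
def n12032 : Q := act 5 n11014
theorem D12032 : act 5 n11014 = n12032 := rfl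
theorem F47389 : act 1 n12032 = n11016 := d11_1 D12032 (iv D11016) (iv F43369)
theorem F47390 : act 2 n12032 = n11367 := d17_1 D12032 F46821 F46817
theorem F47391 : act 3 n12032 = n12032 := d22_1 D12032 (iv D12032) F43370
theorem F47392 : act 4 n12032 = n11375 := d26_1 D12032 (iv D11375) (iv D10418) (iv F39904) D11014
theorem F47393 : act 6 n12032 = n11364 := d30_2 (iv F43371) D12032 (iv D11364) F41064 D10770
theorem F47394 : act 7 n12032 = n11378 := d31_2 (iv F43372) D12032 F44757
def n12033 : Q := act 8 n11014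
theorem D12033 : act 8 n11014 = n12033 := rfl
theorem F47395 : act 1 n12033 = n11017 := d14_1 D12033 (iv D11017) (iv F43369)
theorem F47396 : act 3 n12033 = n12033 := d25_1 D12033 (iv D12033) F43370
theorem F47397 : act 4 n12033 = n11015 := d29_1 D12033 (iv D11015) D11014
theorem F47398 : act 6 n12033 = n11726 := d34_1 D12033 (iv D11726) (iv F43371)
def n12034 : Q := act 7 n11015
theorem D12034 : act 7 n11015 = n12034 := rfl
theorem F47399 : act 1 n12034 = n11018 := d13_1 D12034 (iv D11018) (iv F43373)
theorem F47400 : act 5 n12034 = n11377 := d31_1 D12034 (iv D11377) (iv F43375)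
def n12035 : Q := act 6 n11016
theorem D12035 : act 6 n11016 = n12035 := rfl
theorem F47401 : act 1 n12035 = n11364 := d12_1 D12035 (iv F47393) F47389
theorem F47402 : act 2 n12035 = n11019 := d18_1 D12035 (iv D11019) (iv F43376)
theorem F47403 : act 3 n12035 = n12035 := d23_1 D12035 (iv D12035) F43377
theorem F47404 : act 4 n12035 = n11378 := d27_1 D12035 (iv D11378) (iv F43378)
theorem F47405 : act 5 n12035 = n11362 := d30_1 D12035 F44711 (iv F43350) F43351 D11016
theorem F47406 : act 7 n12035 = n11375 := d33_2 F47320 D12035 (iv F47319)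
def n12036 : Q := act 8 n11016
theorem D12036 : act 8 n11016 = n12036 := rfl
theorem F47407 : act 2 n12036 = n11020 := d20_1 D12036 (iv D11020) (iv F43376)
theorem F47408 : act 3 n12036 = n12036 := d25_1 D12036 (iv D12036) F43377
theorem F47409 : act 4 n12036 = n11379 := d29_1 D12036 (iv D11379) (iv F43378)
theorem F47410 : act 5 n12036 = n11017 := d32_1 D12036 (iv D11017) D11016
def n12037 : Q := act 7 n11017
theorem D12037 : act 7 n11017 = n12037 := rfl
theorem F47411 : act 2 n12037 = n11021 := d19_1 D12037 (iv D11021) (iv F43379)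
theorem F47412 : act 4 n12037 = n11018 := d28_1 D12037 (iv D11018) (iv F43381)
def n12038 : Q := act 8 n11019
theorem D12038 : act 8 n11019 = n12038 := rfl
theorem F47413 : act 3 n12038 = n11025 := d25_1 D12038 (iv D11025) (iv F43384)
theorem F47414 : act 4 n12038 = n11381 := d29_1 D12038 (iv D11381) (iv F43385)
theorem F47415 : act 6 n12038 = n11020 := d34_1 D12038 (iv D11020) D11019
def n12039 : Q := act 7 n11020
theorem D12039 : act 7 n11020 = n12039 := rfl
theorem F47416 : act 4 n12039 = n11382 := d28_1 D12039 (iv D11382) (iv F43387)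
theorem F47417 : act 5 n12039 = n11021 := d31_1 D12039 (iv D11021) (iv F43388)
def n12040 : Q := act 3 n11021
theorem D12040 : act 3 n11021 = n12040 := rfl
theorem F47418 : act 4 n12040 = n11730 := d21_2 (iv F43389) D12040 (iv D11730) F42412 (iv F39914)
theorem F47419 : act 7 n12040 = n11027 := d24_2 D11021 D12040 (iv D11027) (iv D10119) (iv F39912)
def n12041 : Q := act 8 n11022
theorem D12041 : act 8 n11022 = n12041 := rfl
theorem F47420 : act 1 n12041 = n11481 := d14_1 D12041 F45165 (iv F43390)
theorem F47421 : act 2 n12041 = n12041 := d20_1 D12041 (iv D12041) F43391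
theorem F47422 : act 4 n12041 = n12041 := d29_1 D12041 (iv D12041) F43392
theorem F47423 : act 5 n12041 = n11025 := d32_1 D12041 (iv D11025) (iv F43393)
theorem F47424 : act 6 n12041 = n11023 := d34_1 D12041 (iv D11023) D11022
theorem F47425 : act 7 n11773 = n12041 := d13_0 F47420 F45164 D11773
def n12042 : Q := act 7 n11023
theorem D12042 : act 7 n11023 = n12042 := rfl
theorem F47426 : act 1 n12042 = n11478 := d13_1 D12042 F45151 (iv F43395)
theorem F47427 : act 2 n12042 = n12042 := d19_1 D12042 (iv D12042) F43396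
theorem F47428 : act 4 n12042 = n12042 := d28_1 D12042 (iv D12042) F43397
theorem F47429 : act 5 n12042 = n11024 := d31_1 D12042 (iv D11024) (iv F43398)
theorem F47430 : act 6 n12042 = n11773 := d33_1 D12042 F47425 F47424
theorem F47431 : act 8 n12042 = n12042 := d35_2 D11023 D12042 (iv D12042) (iv D11023) F39919
def n12043 : Q := act 3 n11024
theorem D12043 : act 3 n11024 = n12043 := rfl
theorem F47432 : act 4 n12043 = n11475 := d21_2 (iv F43400) D12043 (iv D11475) F41458 (iv F39924)
theorem F47433 : act 6 n12043 = n11027 := d23_2 (iv F43401) D12043 (iv D11027)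
theorem F47434 : act 8 n12043 = n12043 := d25_2 F43402 D12043 (iv D12043)
def n12044 : Q := act 7 n11025
theorem D12044 : act 7 n11025 = n12044 := rfl
theorem F47435 : act 1 n12044 = n11771 := d13_1 D12044 F46861 F46856
theorem F47436 : act 2 n12044 = n12044 := d19_1 D12044 (iv D12044) F43403
theorem F47437 : act 4 n12044 = n11028 := d28_1 D12044 (iv D11028) (iv F43404)
theorem F47438 : act 5 n12044 = n11773 := d31_1 D12044 F47425 F47423
theorem F47439 : act 6 n12044 = n11026 := d33_1 D12044 (iv D11026) (iv F43405)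
theorem F47440 : act 8 n12044 = n12044 := d35_2 D11025 D12044 (iv D12044) (iv D11025) F39930
def n12045 : Q := act 3 n11026
theorem D12045 : act 3 n11026 = n12045 := rfl
theorem F47441 : act 5 n12045 = n11027 := d22_2 (iv F43408) D12045 (iv D11027)
theorem F47442 : act 8 n12045 = n12045 := d25_2 F43409 D12045 (iv D12045)
def n12046 : Q := act 2 n11027
theorem D12046 : act 2 n11027 = n12046 := rfl
theorem F47443 : act 3 n12046 = n12046 := d15_2 D11027 D12046 (iv D12046) (iv D11027) F39934
theorem F47444 : act 4 n12046 = n11733 := d16_2 (iv F43410) D12046 (iv D11733)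
theorem F47445 : act 8 n12046 = n12046 := d20_2 F43411 D12046 (iv D12046)
def n12047 : Q := act 8 n11031
theorem D12047 : act 8 n11031 = n12047 := rfl
theorem F47446 : act 0 n12047 = n11032 := d7_1 D12047 (iv D11032) D11031
theorem F47447 : act 2 n12047 = n11034 := d20_1 D12047 (iv D11034) (iv F43424)
theorem F47448 : act 4 n12047 = n12047 := d29_1 D12047 (iv D12047) F43425
theorem F47449 : act 5 n12047 = n11112 := d32_1 D12047 (iv D11112) (iv F43426)
theorem F47450 : act 6 n12047 = n11033 := d34_1 D12047 (iv D11033) (iv F43427)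
theorem F47451 : act 7 n12047 = n11174 := d35_1 D12047 (iv D11174) (iv D10256) (iv F40153) (iv F43428)
def n12048 : Q := act 4 n11035
theorem D12048 : act 4 n11035 = n12048 := rfl
theorem F47452 : act 0 n12048 = n12048 := d3_1 D12048 (iv D12048) F43445
theorem F47453 : act 2 n12048 = n11039 := d16_1 D12048 (iv D11039) (iv F43446)
theorem F47454 : act 5 n12048 = n12048 := d26_2 D11035 D12048 (iv D12048) (iv D11035) F39981
theorem F47455 : act 6 n12048 = n11396 := d27_2 (iv F43447) D12048 (iv D11396)
theorem F47456 : act 8 n12048 = n11049 := d29_2 (iv F43448) D12048 (iv D11049)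
def n12049 : Q := act 7 n11035
theorem D12049 : act 7 n11035 = n12049 := rfl
theorem F47457 : act 0 n12049 = n12049 := d6_1 D12049 (iv D12049) F43445
theorem F47458 : act 2 n12049 = n11040 := d19_1 D12049 (iv D11040) (iv F43446)
theorem F47459 : act 5 n12049 = n11036 := d31_1 D12049 (iv D11036) D11035
theorem F47460 : act 6 n12049 = n11393 := d33_1 D12049 F44804 (iv F43447)
def n12050 : Q := act 3 n11036
theorem D12050 : act 3 n11036 = n12050 := rfl
theorem F47461 : act 0 n12050 = n12050 := d2_1 D12050 (iv D12050) F43449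
theorem F47462 : act 6 n12050 = n11037 := d23_2 (iv F43452) D12050 (iv D11037)
def n12051 : Q := act 8 n11036
theorem D12051 : act 8 n11036 = n12051 := rfl
theorem F47463 : act 0 n12051 = n12051 := d7_1 D12051 (iv D12051) F43449
theorem F47464 : act 2 n12051 = n11042 := d20_1 D12051 (iv D11042) (iv F43450)
theorem F47465 : act 4 n12051 = n12051 := d29_1 D12051 (iv D12051) F43451
theorem F47466 : act 6 n12051 = n11038 := d34_1 D12051 (iv D11038) (iv F43452)
theorem F47467 : act 7 n12051 = n11404 := d35_1 D12051 (iv D11404) F41200 (iv F39982) D11036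
def n12052 : Q := act 2 n11037
theorem D12052 : act 2 n11037 = n12052 := rfl
theorem F47468 : act 0 n12052 = n12052 := d1_1 D12052 (iv D12052) F43453
theorem F47469 : act 3 n12052 = n11043 := d15_2 D11037 D12052 (iv D11043) (iv D10134) (iv F39984)
theorem F47470 : act 5 n12052 = n11400 := d17_2 (iv F43454) D12052 (iv D11400)
def n12053 : Q := act 4 n11037
theorem D12053 : act 4 n11037 = n12053 := rfl
theorem F47471 : act 0 n12053 = n12053 := d3_1 D12053 (iv D12053) F43453
theorem F47472 : act 3 n12053 = n12053 := d21_1 D12053 (iv D12053) (iv D11037) F39985 D11037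
def n12054 : Q := act 8 n11037
theorem D12054 : act 8 n11037 = n12054 := rfl
theorem F47473 : act 0 n12054 = n12054 := d7_1 D12054 (iv D12054) F43453
theorem F47474 : act 3 n12054 = n11038 := d25_1 D12054 (iv D11038) D11037
theorem F47475 : act 5 n12054 = n11402 := d32_1 D12054 (iv D11402) (iv F43454)
def n12055 : Q := act 7 n11039
theorem D12055 : act 7 n11039 = n12055 := rfl
theorem F47476 : act 0 n12055 = n12055 := d6_1 D12055 (iv D12055) F43460
theorem F47477 : act 1 n12055 = n11053 := d13_1 D12055 (iv D11053) (iv F43461)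
theorem F47478 : act 3 n12055 = n11072 := d24_1 D12055 (iv D11072) F40157 F40045 (iv F43462)
theorem F47479 : act 4 n12055 = n11040 := d28_1 D12055 (iv D11040) D11039
theorem F47480 : act 5 n12055 = n12055 := d31_1 D12055 (iv D12055) F43463
theorem F47481 : act 6 n12055 = n11394 := d33_1 D12055 F44809 (iv F43464)
def n12056 : Q := act 8 n11040
theorem D12056 : act 8 n11040 = n12056 := rfl
theorem F47482 : act 0 n12056 = n12056 := d7_1 D12056 (iv D12056) F43466
theorem F47483 : act 1 n12056 = n11054 := d14_1 D12056 (iv D11054) (iv F43467)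
theorem F47484 : act 3 n12056 = n11392 := d25_1 D12056 (iv D11392) (iv F43468)
theorem F47485 : act 5 n12056 = n11042 := d32_1 D12056 (iv D11042) (iv F43469)
theorem F47486 : act 6 n12056 = n11395 := d34_1 D12056 (iv D11395) (iv F43470)
theorem F47487 : act 7 n12056 = n11045 := d35_1 D12056 (iv D11045) F39999 (iv F39991) D11040
def n12057 : Q := act 2 n11041
theorem D12057 : act 2 n11041 = n12057 := rfl
theorem F47488 : act 0 n12057 = n12057 := d1_1 D12057 (iv D12057) F43471
theorem F47489 : act 5 n12057 = n11389 := d17_2 (iv F43473) D12057 F44786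
theorem F47490 : act 6 n12057 = n11043 := d18_2 (iv F43474) D12057 (iv D11043)
theorem F47491 : act 7 n12057 = n11046 := d19_2 (iv F43475) D12057 (iv D11046)
def n12058 : Q := act 4 n11041
theorem D12058 : act 4 n11041 = n12058 := rfl
theorem F47492 : act 0 n12058 = n12058 := d3_1 D12058 (iv D12058) F43471
theorem F47493 : act 1 n12058 = n11056 := d10_1 D12058 (iv D11056) (iv F43472)
theorem F47494 : act 3 n12058 = n12058 := d21_1 D12058 (iv D12058) (iv D11041) F39994 D11041
theorem F47495 : act 5 n12058 = n11075 := d26_2 (iv F43473) D12058 (iv D11075) F40169 (iv F41146)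
theorem F47496 : act 6 n12058 = n11044 := d27_2 (iv F43474) D12058 (iv D11044)
theorem F47497 : act 7 n12058 = n11047 := d28_2 (iv F43475) D12058 (iv D11047)
def n12059 : Q := act 8 n11041
theorem D12059 : act 8 n11041 = n12059 := rfl
theorem F47498 : act 0 n12059 = n12059 := d7_1 D12059 (iv D12059) F43471
theorem F47499 : act 1 n12059 = n11057 := d14_1 D12059 (iv D11057) (iv F43472)
theorem F47500 : act 3 n12059 = n11042 := d25_1 D12059 (iv D11042) D11041
theorem F47501 : act 5 n12059 = n11392 := d32_1 D12059 (iv D11392) (iv F43473)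
theorem F47502 : act 6 n12059 = n11045 := d34_1 D12059 (iv D11045) (iv F43474)
theorem F47503 : act 7 n12059 = n11395 := d35_1 D12059 (iv D11395) F41151 (iv F40009) (iv F43475)
def n12060 : Q := act 1 n11043
theorem D12060 : act 1 n11043 = n12060 := rfl
theorem F47504 : act 2 n12060 = n11058 := d8_2 D11043 D12060 (iv D11058) (iv D10148) (iv F39997)
theorem F47505 : act 5 n12060 = n11403 := d11_2 (iv F43482) D12060 (iv D11403)
theorem F47506 : act 7 n12060 = n11048 := d13_2 (iv F43483) D12060 (iv D11048)
def n12061 : Q := act 4 n11043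
theorem D12061 : act 4 n11043 = n12061 := rfl
theorem F47507 : act 0 n12061 = n12061 := d3_1 D12061 (iv D12061) F43481
theorem F47508 : act 2 n12061 = n11044 := d16_1 D12061 (iv D11044) D11043
theorem F47509 : act 5 n12061 = n12061 := d26_2 (iv F43482) D12061 (iv D12061) F43482 F41198
theorem F47510 : act 7 n12061 = n11049 := d28_2 (iv F43483) D12061 (iv D11049)
def n12062 : Q := act 8 n11043
theorem D12062 : act 8 n11043 = n12062 := rfl
theorem F47511 : act 0 n12062 = n12062 := d7_1 D12062 (iv D12062) F43481
theorem F47512 : act 2 n12062 = n11045 := d20_1 D12062 (iv D11045) D11043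
theorem F47513 : act 5 n12062 = n11404 := d32_1 D12062 (iv D11404) (iv F43482)
def n12063 : Q := act 8 n11044
theorem D12063 : act 8 n11044 = n12063 := rfl
theorem F47514 : act 0 n12063 = n12063 := d7_1 D12063 (iv D12063) F43484
theorem F47515 : act 1 n12063 = n11061 := d14_1 D12063 (iv D11061) (iv F43485)
theorem F47516 : act 3 n12063 = n12063 := d25_1 D12063 (iv D12063) F43486
theorem F47517 : act 4 n12063 = n11045 := d29_1 D12063 (iv D11045) D11044
theorem F47518 : act 5 n12063 = n12063 := d32_1 D12063 (iv D12063) F43487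
def n12064 : Q := act 1 n11046
theorem D12064 : act 1 n11046 = n12064 := rfl
theorem F47519 : act 2 n12064 = n11062 := d8_2 D11046 D12064 (iv D11062) (iv D10151) (iv F40006)
theorem F47520 : act 3 n12064 = n11923 := d9_2 (iv F43494) D12064 F46954
theorem F47521 : act 5 n12064 = n11237 := d11_2 (iv F43495) D12064 F44293
theorem F47522 : act 6 n12064 = n11048 := d12_2 (iv F43496) D12064 (iv D11048)
theorem F47523 : act 8 n12064 = n11285 := d14_2 (iv F43497) D12064 F44461
theorem F47524 : act 0 n11528 = n12064 := d4_3 F47521 F44292 D11528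
theorem F47525 : act 4 n11484 = n12064 := d26_5 F47521 F44296 F41518 D10528 D11484
def n12065 : Q := act 4 n11046
theorem D12065 : act 4 n11046 = n12065 := rfl
theorem F47526 : act 0 n12065 = n12065 := d3_1 D12065 (iv D12065) F43493
theorem F47527 : act 1 n12065 = n11484 := d10_1 D12065 F47525 (iv D12064)
theorem F47528 : act 2 n12065 = n11047 := d16_1 D12065 (iv D11047) D11046
theorem F47529 : act 5 n12065 = n11482 := d26_2 (iv F43495) D12065 (iv D11482) F41501 (iv F41138)
theorem F47530 : act 6 n12065 = n11049 := d27_2 (iv F43496) D12065 (iv D11049)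
theorem F47531 : act 8 n12065 = n11396 := d29_2 (iv F43497) D12065 (iv D11396)
def n12066 : Q := act 0 n11048
theorem D12066 : act 0 n11048 = n12066 := rfl
theorem F47532 : act 1 n12066 = n12066 := d0_2 D11048 D12066 (iv D12066) (iv D11048) F40010
theorem F47533 : act 2 n12066 = n11063 := d1_2 (iv F43504) D12066 (iv D11063)
theorem F47534 : act 5 n12066 = n11405 := d4_2 (iv F43505) D12066 (iv D11405)
theorem F47535 : act 6 n12066 = n11528 := d5_2 F47522 D12066 F47524
theorem F47536 : act 4 n11532 = n12066 := d27_3 F47535 F45375 D11532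
def n12067 : Q := act 4 n11048
theorem D12067 : act 4 n11048 = n12067 := rfl
theorem F47537 : act 0 n12067 = n11532 := d3_1 D12067 F47536 (iv D12066)
theorem F47538 : act 1 n12067 = n11049 := d10_1 D12067 (iv D11049) D11048
theorem F47539 : act 2 n12067 = n11064 := d16_1 D12067 (iv D11064) (iv F43504)
theorem F47540 : act 5 n12067 = n12067 := d26_2 (iv F43505) D12067 (iv D12067) F43505 F41208
theorem F47541 : act 6 n12067 = n11484 := d27_2 F47522 D12067 F47525
def n12068 : Q := act 3 n11049
theorem D12068 : act 3 n11049 = n12068 := rfl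
theorem F47542 : act 0 n12068 = n12068 := d2_1 D12068 (iv D12068) F43506
theorem F47543 : act 2 n12068 = n11051 := d15_1 D12068 (iv D11051) F40030 (iv F40014) (iv F43507)
theorem F47544 : act 4 n12068 = n11628 := d21_2 D11049 D12068 (iv F45777) (iv D11396) F41158
theorem F47545 : act 5 n12068 = n12068 := d22_2 F43508 D12068 (iv D12068)
theorem F47546 : act 7 n11625 = n12068 := d28_0 F47544 (iv D11628) (iv F45762)
def n12069 : Q := act 8 n11053
theorem D12069 : act 8 n11053 = n12069 := rfl
theorem F47547 : act 0 n12069 = n11066 := d7_1 D12069 (iv D11066) (iv F43528)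
theorem F47548 : act 3 n12069 = n11077 := d25_1 D12069 (iv D11077) (iv F43529)
theorem F47549 : act 4 n12069 = n11054 := d29_1 D12069 (iv D11054) (iv F43530)
theorem F47550 : act 5 n12069 = n12069 := d32_1 D12069 (iv D12069) F43531
theorem F47551 : act 6 n12069 = n11397 := d34_1 D12069 (iv D11397) (iv F43532)
theorem F47552 : act 7 n12069 = n11061 := d35_1 D12069 (iv D11061) F40069 (iv F40050) D11053
def n12070 : Q := act 1 n11055
theorem D12070 : act 1 n11055 = n12070 := rfl
theorem F47553 : act 0 n12070 = n11250 := d0_1 D12070 F44342 F40812 (iv F40113) (iv F43538)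
theorem F47554 : act 4 n12070 = n11106 := d10_2 F43542 D12070 F43806
theorem F47555 : act 5 n12070 = n11102 := d11_2 (iv F43539) D12070 F43788
theorem F47556 : act 6 n12070 = n11058 := d12_2 (iv F43540) D12070 (iv D11058)
theorem F47557 : act 7 n12070 = n11062 := d13_2 (iv F43541) D12070 (iv D11062)
def n12071 : Q := act 8 n11055
theorem D12071 : act 8 n11055 = n12071 := rfl
theorem F47558 : act 0 n12071 = n11067 := d7_1 D12071 (iv D11067) (iv F43538)
theorem F47559 : act 2 n12071 = n11057 := d20_1 D12071 (iv D11057) D11055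
theorem F47560 : act 4 n12071 = n11117 := d29_1 D12071 (iv D11117) F43542
theorem F47561 : act 5 n12071 = n11116 := d32_1 D12071 (iv D11116) (iv F43539)
theorem F47562 : act 6 n12071 = n11060 := d34_1 D12071 (iv D11060) (iv F43540)
theorem F47563 : act 7 n12071 = n11328 := d35_1 D12071 (iv D11328) (iv D10379) (iv F40077) (iv F43541)
def n12072 : Q := act 8 n11056
theorem D12072 : act 8 n11056 = n12072 := rfl
theorem F47564 : act 0 n12072 = n11068 := d7_1 D12072 (iv D11068) (iv F43543)
theorem F47565 : act 2 n12072 = n11117 := d20_1 D12072 (iv D11117) (iv F43544)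
theorem F47566 : act 3 n12072 = n12072 := d25_1 D12072 (iv D12072) F43545
theorem F47567 : act 4 n12072 = n11057 := d29_1 D12072 (iv D11057) D11056
theorem F47568 : act 5 n12072 = n11078 := d32_1 D12072 (iv D11078) (iv F43546)
theorem F47569 : act 6 n12072 = n11061 := d34_1 D12072 (iv D11061) (iv F43547)
theorem F47570 : act 7 n12072 = n11397 := d35_1 D12072 (iv D11397) F41176 (iv F40084) (iv F43548)
def n12073 : Q := act 0 n11058
theorem D12073 : act 0 n11058 = n12073 := rfl
theorem F47571 : act 1 n12073 = n11069 := d0_2 D11058 D12073 (iv D11069) (iv D10162) (iv F40063)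
theorem F47572 : act 5 n12073 = n11406 := d4_2 (iv F43554) D12073 (iv D11406)
theorem F47573 : act 6 n12073 = n11250 := d5_2 F47556 D12073 (iv F47553)
theorem F47574 : act 7 n12073 = n11063 := d6_2 (iv F43555) D12073 (iv D11063)
theorem F47575 : act 4 n11257 = n12073 := d28_3 F47574 (iv F43579) (iv F44371)
def n12074 : Q := act 4 n11058
theorem D12074 : act 4 n11058 = n12074 := rfl
theorem F47576 : act 0 n12074 = n11257 := d3_1 D12074 F47575 (iv D12073)
theorem F47577 : act 1 n12074 = n11059 := d10_1 D12074 (iv D11059) D11058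
theorem F47578 : act 5 n12074 = n12074 := d26_2 (iv F43554) D12074 (iv D12074) F43554 F41210
theorem F47579 : act 6 n12074 = n11106 := d27_2 F47556 D12074 (iv F47554)
theorem F47580 : act 7 n12074 = n11064 := d28_2 (iv F43555) D12074 (iv D11064)
theorem F47581 : act 3 n11653 = n12074 := d23_3 F47579 F43807 D11653
def n12075 : Q := act 8 n11058
theorem D12075 : act 8 n11058 = n12075 := rfl
theorem F47582 : act 1 n12075 = n11060 := d14_1 D12075 (iv D11060) D11058
theorem F47583 : act 5 n12075 = n11407 := d32_1 D12075 (iv D11407) (iv F43554)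
def n12076 : Q := act 8 n11059
theorem D12076 : act 8 n11059 = n12076 := rfl
theorem F47584 : act 0 n12076 = n11071 := d7_1 D12076 (iv D11071) (iv F43556)
theorem F47585 : act 2 n12076 = n11061 := d20_1 D12076 (iv D11061) (iv F43557)
theorem F47586 : act 3 n12076 = n11668 := d25_1 D12076 (iv D11668) F43561
theorem F47587 : act 4 n12076 = n11060 := d29_1 D12076 (iv D11060) D11059
theorem F47588 : act 5 n12076 = n12076 := d32_1 D12076 (iv D12076) F43558
theorem F47589 : act 6 n12076 = n11117 := d34_1 D12076 (iv D11117) (iv F43559)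
def n12077 : Q := act 8 n11069
theorem D12077 : act 8 n11069 = n12077 := rfl
theorem F47590 : act 0 n12077 = n11070 := d7_1 D12077 (iv D11070) D11069
theorem F47591 : act 2 n12077 = n12077 := d20_1 D12077 (iv D12077) F43611
theorem F47592 : act 4 n12077 = n11270 := d29_1 D12077 (iv D11270) (iv F43612)
theorem F47593 : act 5 n12077 = n11408 := d32_1 D12077 (iv D11408) (iv F43613)
theorem F47594 : act 6 n12077 = n11269 := d34_1 D12077 (iv D11269) (iv F43614)
def n12078 : Q := act 8 n11072
theorem D12078 : act 8 n11072 = n12078 := rfl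
theorem F47595 : act 0 n12078 = n12078 := d7_1 D12078 (iv D12078) F43627
theorem F47596 : act 1 n12078 = n11077 := d14_1 D12078 (iv D11077) (iv F43628)
theorem F47597 : act 2 n12078 = n11779 := d20_1 D12078 (iv D11779) (iv F43629)
theorem F47598 : act 4 n12078 = n11073 := d29_1 D12078 (iv D11073) (iv F43630)
theorem F47599 : act 5 n12078 = n12078 := d32_1 D12078 (iv D12078) F43631
theorem F47600 : act 6 n12078 = n11593 := d34_1 D12078 (iv D11593) (iv F43632)
theorem F47601 : act 7 n12078 = n12078 := d35_1 D12078 (iv D12078) (iv D11072) F40160 D11072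
def n12079 : Q := act 4 n11074
theorem D12079 : act 4 n11074 = n12079 := rfl
theorem F47602 : act 0 n12079 = n12079 := d3_1 D12079 (iv D12079) F43640
theorem F47603 : act 1 n12079 = n11104 := d10_1 D12079 (iv D11104) (iv F43641)
theorem F47604 : act 2 n12079 = n11075 := d16_1 D12079 (iv D11075) D11074
theorem F47605 : act 6 n12079 = n12079 := d27_2 F43644 D12079 (iv D12079)
theorem F47606 : act 7 n12079 = n11482 := d28_2 (iv F43645) D12079 (iv D11482)
def n12080 : Q := act 8 n11074
theorem D12080 : act 8 n11074 = n12080 := rfl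
theorem F47607 : act 0 n12080 = n12080 := d7_1 D12080 (iv D12080) F43640
theorem F47608 : act 1 n12080 = n11105 := d14_1 D12080 (iv D11105) (iv F43641)
theorem F47609 : act 2 n12080 = n11076 := d20_1 D12080 (iv D11076) D11074
theorem F47610 : act 3 n12080 = n11783 := d25_1 D12080 (iv D11783) (iv F43642)
theorem F47611 : act 5 n12080 = n11588 := d32_1 D12080 (iv D11588) (iv F43643)
theorem F47612 : act 6 n12080 = n12080 := d34_1 D12080 (iv D12080) F43644
theorem F47613 : act 7 n12080 = n11595 := d35_1 D12080 (iv D11595) (iv D10645) (iv F41503) (iv F43645)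
def n12081 : Q := act 8 n11075
theorem D12081 : act 8 n11075 = n12081 := rfl
theorem F47614 : act 0 n12081 = n12081 := d7_1 D12081 (iv D12081) F43646
theorem F47615 : act 1 n12081 = n11078 := d14_1 D12081 (iv D11078) (iv F43647)
theorem F47616 : act 3 n12081 = n12081 := d25_1 D12081 (iv D12081) F43648
theorem F47617 : act 4 n12081 = n11076 := d29_1 D12081 (iv D11076) D11075
theorem F47618 : act 6 n12081 = n12081 := d34_1 D12081 (iv D12081) F43649
theorem F47619 : act 7 n12081 = n11601 := d35_1 D12081 (iv D11601) (iv D10650) (iv F41508) (iv F43650)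
def n12082 : Q := act 2 n11079
theorem D12082 : act 2 n11079 = n12082 := rfl
theorem F47620 : act 0 n12082 = n11085 := d1_1 D12082 (iv D11085) (iv F43669)
theorem F47621 : act 3 n12082 = n11327 := d15_2 D11079 D12082 F44584 F41174 (iv F40202)
theorem F47622 : act 4 n12082 = n11119 := d16_2 (iv F43671) D12082 (iv D11119)
theorem F47623 : act 5 n12082 = n11488 := d17_2 F45583 D12082 (iv F45580)
theorem F47624 : act 6 n12082 = n11081 := d18_2 (iv F43672) D12082 (iv D11081)
theorem F47625 : act 7 n12082 = n12082 := d19_2 F43673 D12082 (iv D12082)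
def n12083 : Q := act 8 n11079
theorem D12083 : act 8 n11079 = n12083 := rfl
theorem F47626 : act 0 n12083 = n11086 := d7_1 D12083 (iv D11086) (iv F43669)
theorem F47627 : act 1 n12083 = n11794 := d14_1 D12083 (iv D11794) (iv F43670)
theorem F47628 : act 3 n12083 = n11080 := d25_1 D12083 (iv D11080) D11079
theorem F47629 : act 4 n12083 = n11120 := d29_1 D12083 (iv D11120) (iv F43671)
theorem F47630 : act 6 n12083 = n11082 := d34_1 D12083 (iv D11082) (iv F43672)
def n12084 : Q := act 1 n11081
theorem D12084 : act 1 n11081 = n12084 := rfl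
theorem F47631 : act 2 n12084 = n11795 := d8_2 D11081 D12084 (iv D11795) (iv D10830) (iv F40206)
theorem F47632 : act 4 n12084 = n11121 := d10_2 (iv F43681) D12084 (iv D11121)
theorem F47633 : act 5 n12084 = n12084 := d11_2 F43682 D12084 (iv D12084)
theorem F47634 : act 7 n12084 = n12084 := d13_2 F43683 D12084 (iv D12084)
def n12085 : Q := act 8 n11081
theorem D12085 : act 8 n11081 = n12085 := rfl
theorem F47635 : act 0 n12085 = n11088 := d7_1 D12085 (iv D11088) (iv F43680)
theorem F47636 : act 2 n12085 = n11082 := d20_1 D12085 (iv D11082) D11081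
theorem F47637 : act 4 n12085 = n11122 := d29_1 D12085 (iv D11122) (iv F43681)
theorem F47638 : act 5 n12085 = n12085 := d32_1 D12085 (iv D12085) F43682
def n12086 : Q := act 7 n11082
theorem D12086 : act 7 n11082 = n12086 := rfl
theorem F47639 : act 0 n12086 = n11089 := d6_1 D12086 (iv D11089) (iv F43684)
theorem F47640 : act 1 n12086 = n11797 := d13_1 D12086 (iv D11797) (iv F43685)
theorem F47641 : act 3 n12086 = n12086 := d24_1 D12086 (iv D12086) F43686 F40214 (iv F43686)
theorem F47642 : act 4 n12086 = n11123 := d28_1 D12086 (iv D11123) (iv F43687)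
theorem F47643 : act 5 n12086 = n12086 := d31_1 D12086 (iv D12086) F43688
theorem F47644 : act 8 n12086 = n12086 := d35_2 D11082 D12086 (iv D12086) (iv D11082) F40209
def n12087 : Q := act 8 n11083
theorem D12087 : act 8 n11083 = n12087 := rfl
theorem F47645 : act 1 n12087 = n11090 := d14_1 D12087 (iv D11090) (iv F43689)
theorem F47646 : act 2 n12087 = n11132 := d20_1 D12087 F43916 (iv F43690)
theorem F47647 : act 3 n12087 = n11084 := d25_1 D12087 (iv D11084) D11083
theorem F47648 : act 4 n12087 = n11231 := d29_1 D12087 F44271 F43694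
theorem F47649 : act 5 n12087 = n11086 := d32_1 D12087 (iv D11086) (iv F43691)
theorem F47650 : act 6 n12087 = n12087 := d34_1 D12087 (iv D12087) F43692
theorem F47651 : act 7 n11685 = n12087 := d28_0 F47648 (iv F46883) F46881
def n12088 : Q := act 8 n11085
theorem D12088 : act 8 n11085 = n12088 := rfl
theorem F47652 : act 1 n12088 = n11283 := d14_1 D12088 F44455 (iv F43701)
theorem F47653 : act 2 n12088 = n11086 := d20_1 D12088 (iv D11086) D11085
theorem F47654 : act 3 n12088 = n11131 := d25_1 D12088 F43911 (iv F43702)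
theorem F47655 : act 4 n12088 = n11133 := d29_1 D12088 (iv D11133) (iv F43703)
theorem F47656 : act 5 n12088 = n11132 := d32_1 D12088 F43916 (iv F43704)
theorem F47657 : act 6 n12088 = n11088 := d34_1 D12088 (iv D11088) (iv F43705)
theorem F47658 : act 7 n11684 = n12088 := d31_0 F47656 F43915 (iv F45972)
def n12089 : Q := act 7 n11086
theorem D12089 : act 7 n11086 = n12089 := rfl
theorem F47659 : act 1 n12089 = n11091 := d13_1 D12089 (iv D11091) (iv F43707)
theorem F47660 : act 2 n12089 = n11684 := d19_1 D12089 F47658 F47653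
theorem F47661 : act 3 n12089 = n12089 := d24_1 D12089 (iv D12089) F43708 F40247 (iv F43708)
theorem F47662 : act 4 n12089 = n11134 := d28_1 D12089 (iv D11134) (iv F43709)
theorem F47663 : act 5 n12089 = n11685 := d31_1 D12089 F47651 F47649
theorem F47664 : act 6 n12089 = n11089 := d33_1 D12089 (iv D11089) (iv F43710)
theorem F47665 : act 8 n12089 = n12089 := d35_2 D11086 D12089 (iv D12089) (iv D11086) F40242
def n12090 : Q := act 0 n11087
theorem D12090 : act 0 n11087 = n12090 := rfl
theorem F47666 : act 2 n12090 = n11092 := d1_2 (iv F43711) D12090 (iv D11092)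
theorem F47667 : act 3 n12090 = n11539 := d2_2 (iv F43712) D12090 F45417
theorem F47668 : act 4 n12090 = n11135 := d3_2 (iv F43713) D12090 (iv D11135)
theorem F47669 : act 5 n12090 = n12090 := d4_2 F43714 D12090 (iv D12090)
theorem F47670 : act 6 n12090 = n11540 := d5_2 (iv F43715) D12090 F45421
theorem F47671 : act 7 n12090 = n12090 := d6_2 F43716 D12090 (iv D12090)
def n12091 : Q := act 8 n11087
theorem D12091 : act 8 n11087 = n12091 := rfl
theorem F47672 : act 1 n12091 = n11088 := d14_1 D12091 (iv D11088) D11087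
theorem F47673 : act 2 n12091 = n11093 := d20_1 D12091 (iv D11093) (iv F43711)
theorem F47674 : act 3 n12091 = n11282 := d25_1 D12091 F44452 (iv F43712)
theorem F47675 : act 4 n12091 = n11136 := d29_1 D12091 (iv D11136) (iv F43713)
theorem F47676 : act 5 n12091 = n12091 := d32_1 D12091 (iv D12091) F43714
theorem F47677 : act 6 n12091 = n11283 := d34_1 D12091 F44455 (iv F43715)
theorem F47678 : act 7 n11734 = n12091 := d33_0 F47677 F44454 (iv F46110)
def n12092 : Q := act 7 n11088
theorem D12092 : act 7 n11088 = n12092 := rfl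
theorem F47679 : act 1 n12092 = n11734 := d13_1 D12092 F47678 F47672
theorem F47680 : act 2 n12092 = n11089 := d19_1 D12092 (iv D11089) (iv F43717)
theorem F47681 : act 3 n12092 = n11683 := d24_1 D12092 (iv D11683) (iv F43623) (iv F47285) F47281
theorem F47682 : act 4 n12092 = n11137 := d28_1 D12092 (iv D11137) (iv F43718)
theorem F47683 : act 5 n12092 = n12092 := d31_1 D12092 (iv D12092) F43719
theorem F47684 : act 6 n12092 = n11684 := d33_1 D12092 F47658 F47657
theorem F47685 : act 8 n12092 = n12092 := d35_2 D11088 D12092 (iv D12092) (iv D11088) F40250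
def n12093 : Q := act 7 n11090
theorem D12093 : act 7 n11090 = n12093 := rfl
theorem F47686 : act 0 n12093 = n11810 := d6_1 D12093 (iv D11810) (iv F43725)
theorem F47687 : act 1 n12093 = n11685 := d13_1 D12093 F47651 F47645
theorem F47688 : act 2 n12093 = n11737 := d19_1 D12093 F46454 F46449
theorem F47689 : act 3 n12093 = n12093 := d24_1 D12093 (iv D12093) F43726 F40264 (iv F43726)
theorem F47690 : act 5 n12093 = n11091 := d31_1 D12093 (iv D11091) (iv F43727)
theorem F47691 : act 6 n12093 = n12093 := d33_1 D12093 (iv D12093) F43728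
theorem F47692 : act 8 n12093 = n12093 := d35_2 D11090 D12093 (iv D12093) (iv D11090) F40258
def n12094 : Q := act 8 n11092
theorem D12094 : act 8 n11092 = n12094 := rfl
theorem F47693 : act 0 n12094 = n11093 := d7_1 D12094 (iv D11093) D11092
theorem F47694 : act 1 n12094 = n11814 := d14_1 D12094 (iv D11814) (iv F43734)
theorem F47695 : act 3 n12094 = n12094 := d25_1 D12094 (iv D12094) F43735
theorem F47696 : act 4 n12094 = n11138 := d29_1 D12094 (iv D11138) (iv F43736)
theorem F47697 : act 5 n12094 = n12094 := d32_1 D12094 (iv D12094) F43737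
def n12095 : Q := act 7 n11093
theorem D12095 : act 7 n11093 = n12095 := rfl
theorem F47698 : act 1 n12095 = n11094 := d13_1 D12095 (iv D11094) (iv F43739)
theorem F47699 : act 2 n12095 = n11734 := d19_1 D12095 F47678 F47673
theorem F47700 : act 4 n12095 = n11139 := d28_1 D12095 (iv D11139) (iv F43741)
theorem F47701 : act 5 n12095 = n12095 := d31_1 D12095 (iv D12095) F43742
theorem F47702 : act 6 n12095 = n11735 := d33_1 D12095 F46897 F46896
theorem F47703 : act 8 n12095 = n12095 := d35_2 D11093 D12095 (iv D12095) (iv D11093) F40272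
theorem F47704 : act 3 n11774 = n12095 := d23_3 F47702 F46112 (iv F46257)
def n12096 : Q := act 3 n11094
theorem D12096 : act 3 n11094 = n12096 := rfl
theorem F47705 : act 0 n12096 = n11816 := d2_1 D12096 (iv D11816) (iv F43743)
theorem F47706 : act 1 n12096 = n11774 := d9_1 D12096 F47704 F47698
theorem F47707 : act 2 n12096 = n12096 := d15_1 D12096 (iv D12096) F43744 F40279 (iv F43744)
theorem F47708 : act 5 n12096 = n12096 := d22_2 F43746 D12096 (iv D12096)
theorem F47709 : act 6 n12096 = n11776 := d23_2 F46938 D12096 F46940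
theorem F47710 : act 7 n12096 = n12096 := d24_2 D11094 D12096 (iv D12096) (iv D11094) F40275
theorem F47711 : act 8 n12096 = n12096 := d25_2 F43747 D12096 (iv D12096)
def n12097 : Q := act 7 n11095
theorem D12097 : act 7 n11095 = n12097 := rfl
theorem F47712 : act 0 n12097 = n11238 := d6_1 D12097 (iv D11238) (iv F43748)
theorem F47713 : act 1 n12097 = n12097 := d13_1 D12097 (iv D12097) F43749
theorem F47714 : act 2 n12097 = n11096 := d19_1 D12097 (iv D11096) D11095
theorem F47715 : act 4 n12097 = n11246 := d28_1 D12097 F44328 (iv F43751)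
theorem F47716 : act 5 n12097 = n11638 := d31_1 D12097 (iv D11638) (iv F43752)
theorem F47717 : act 6 n12097 = n11248 := d33_1 D12097 F44337 (iv F43753)
def n12098 : Q := act 3 n11096
theorem D12098 : act 3 n11096 = n12098 := rfl
theorem F47718 : act 0 n12098 = n11239 := d2_1 D12098 (iv D11239) (iv F43755)
theorem F47719 : act 1 n12098 = n11109 := d9_1 D12098 (iv D11109) (iv F43756)
theorem F47720 : act 4 n12098 = n11241 := d21_2 (iv F43757) D12098 (iv D11241) F40736 D10314
theorem F47721 : act 5 n12098 = n11639 := d22_2 (iv F43758) D12098 (iv D11639)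
theorem F47722 : act 6 n12098 = n11244 := d23_2 (iv F43759) D12098 F44319
theorem F47723 : act 7 n12098 = n11098 := d24_2 D11096 D12098 (iv D11098) (iv D10195) D10193
def n12099 : Q := act 8 n11096
theorem D12099 : act 8 n11096 = n12099 := rfl
theorem F47724 : act 0 n12099 = n11240 := d7_1 D12099 (iv D11240) (iv F43755)
theorem F47725 : act 1 n12099 = n11110 := d14_1 D12099 (iv D11110) (iv F43756)
theorem F47726 : act 4 n12099 = n11247 := d29_1 D12099 (iv D11247) (iv F43757)
theorem F47727 : act 5 n12099 = n11640 := d32_1 D12099 (iv D11640) (iv F43758)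
theorem F47728 : act 6 n12099 = n11251 := d34_1 D12099 (iv D11251) (iv F43759)
theorem F47729 : act 7 n12099 = n11145 := d35_1 D12099 (iv D11145) (iv D10237) (iv F40287) D11096
def n12100 : Q := act 3 n11097
theorem D12100 : act 3 n11097 = n12100 := rfl
theorem F47730 : act 0 n12100 = n11241 := d2_1 D12100 (iv D11241) (iv F43760)
theorem F47731 : act 1 n12100 = n11111 := d9_1 D12100 (iv D11111) (iv F43761)
theorem F47732 : act 4 n12100 = n11239 := d21_2 (iv F43763) D12100 (iv D11239) F40732 (iv F40303)
theorem F47733 : act 6 n12100 = n11098 := d23_2 (iv F43764) D12100 (iv D11098)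
theorem F47734 : act 7 n12100 = n11244 := d24_2 D11097 D12100 F44319 F40760 (iv F40292)
def n12101 : Q := act 8 n11097
theorem D12101 : act 8 n11097 = n12101 := rfl
theorem F47735 : act 0 n12101 = n11242 := d7_1 D12101 (iv D11242) (iv F43760)
theorem F47736 : act 1 n12101 = n11112 := d14_1 D12101 (iv D11112) (iv F43761)
theorem F47737 : act 2 n12101 = n11824 := d20_1 D12101 (iv D11824) (iv F43762)
theorem F47738 : act 4 n12101 = n11100 := d29_1 D12101 (iv D11100) (iv F43763)
theorem F47739 : act 6 n12101 = n11099 := d34_1 D12101 (iv D11099) (iv F43764)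
theorem F47740 : act 7 n12101 = n11148 := d35_1 D12101 (iv D11148) (iv D10239) (iv F40294) D11097
def n12102 : Q := act 2 n11098
theorem D12102 : act 2 n11098 = n12102 := rfl
theorem F47741 : act 0 n12102 = n11243 := d1_1 D12102 (iv D11243) (iv F43765)
theorem F47742 : act 3 n12102 = n11825 := d15_2 D11098 D12102 (iv D11825) (iv D10857) (iv F40297)
theorem F47743 : act 5 n12102 = n11641 := d17_2 (iv F43767) D12102 (iv D11641)
def n12103 : Q := act 4 n11098
theorem D12103 : act 4 n11098 = n12103 := rfl
theorem F47744 : act 0 n12103 = n11244 := d3_1 D12103 (iv D11244) (iv F43765)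
theorem F47745 : act 1 n12103 = n11114 := d10_1 D12103 (iv D11114) (iv F43766)
theorem F47746 : act 3 n12103 = n11102 := d21_1 D12103 (iv D11102) (iv D10197) (iv F40298) D11098
theorem F47747 : act 6 n12103 = n11239 := d27_2 F47733 D12103 (iv F47732)
theorem F47748 : act 7 n12103 = n11241 := d28_2 F47723 D12103 (iv F47720)
def n12104 : Q := act 8 n11098
theorem D12104 : act 8 n11098 = n12104 := rfl
theorem F47749 : act 0 n12104 = n11245 := d7_1 D12104 (iv D11245) (iv F43765)
theorem F47750 : act 1 n12104 = n11115 := d14_1 D12104 (iv D11115) (iv F43766)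
theorem F47751 : act 3 n12104 = n11099 := d25_1 D12104 (iv D11099) D11098
theorem F47752 : act 5 n12104 = n11643 := d32_1 D12104 (iv D11643) (iv F43767)
def n12105 : Q := act 4 n11101
theorem D12105 : act 4 n11101 = n12105 := rfl
theorem F47753 : act 0 n12105 = n11248 := d3_1 D12105 (iv D11248) (iv F43781)
theorem F47754 : act 1 n12105 = n11389 := d10_1 D12105 F44787 (iv F43782)
theorem F47755 : act 2 n12105 = n11102 := d16_1 D12105 (iv D11102) D11101
theorem F47756 : act 6 n12105 = n11238 := d27_2 (iv F43785) D12105 F44300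
theorem F47757 : act 7 n12105 = n11237 := d28_2 (iv F43786) D12105 F44296
def n12106 : Q := act 8 n11101
theorem D12106 : act 8 n11101 = n12106 := rfl
theorem F47758 : act 0 n12106 = n11249 := d7_1 D12106 (iv D11249) (iv F43781)
theorem F47759 : act 1 n12106 = n11588 := d14_1 D12106 (iv D11588) (iv F43782)
theorem F47760 : act 2 n12106 = n11103 := d20_1 D12106 (iv D11103) D11101
theorem F47761 : act 3 n12106 = n11831 := d25_1 D12106 (iv D11831) (iv F43783)
theorem F47762 : act 5 n12106 = n11105 := d32_1 D12106 (iv D11105) (iv F43784)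
theorem F47763 : act 6 n12106 = n11526 := d34_1 D12106 (iv D11526) (iv F43785)
theorem F47764 : act 7 n12106 = n11543 := d35_1 D12106 (iv D11543) (iv D10590) (iv F41520) (iv F43786)
def n12107 : Q := act 8 n11102
theorem D12107 : act 8 n11102 = n12107 := rfl
theorem F47765 : act 0 n12107 = n11251 := d7_1 D12107 (iv D11251) (iv F43787)
theorem F47766 : act 1 n12107 = n11116 := d14_1 D12107 (iv D11116) (iv F43788)
theorem F47767 : act 4 n12107 = n11103 := d29_1 D12107 (iv D11103) D11102
theorem F47768 : act 6 n12107 = n11240 := d34_1 D12107 (iv D11240) (iv F43789)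
theorem F47769 : act 7 n12107 = n11292 := d35_1 D12107 (iv D11292) (iv D10355) (iv F40730) (iv F43790)
def n12108 : Q := act 3 n11104
theorem D12108 : act 3 n11104 = n12108 := rfl
theorem F47770 : act 0 n12108 = n11253 := d2_1 D12108 (iv D11253) (iv F43797)
theorem F47771 : act 2 n12108 = n11649 := d15_1 D12108 (iv D11649) F42214 (iv F40322) (iv F43798)
theorem F47772 : act 4 n12108 = n11835 := d21_2 D11104 D12108 (iv D11835) (iv D10864) (iv F40317)
theorem F47773 : act 6 n12108 = n12108 := d23_2 F43799 D12108 (iv D12108)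
def n12109 : Q := act 5 n11104
theorem D12109 : act 5 n11104 = n12109 := rfl
theorem F47774 : act 0 n12109 = n11254 := d4_1 D12109 (iv D11254) (iv F43797)
theorem F47775 : act 2 n12109 = n11106 := d17_1 D12109 (iv D11106) (iv F43798)
theorem F47776 : act 7 n12109 = n11484 := d31_2 (iv F43800) D12109 (iv D11484)
def n12110 : Q := act 8 n11104
theorem D12110 : act 8 n11104 = n12110 := rfl
theorem F47777 : act 0 n12110 = n11255 := d7_1 D12110 (iv D11255) (iv F43797)
theorem F47778 : act 2 n12110 = n11107 := d20_1 D12110 (iv D11107) (iv F43798)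
theorem F47779 : act 4 n12110 = n11105 := d29_1 D12110 (iv D11105) D11104
theorem F47780 : act 6 n12110 = n12110 := d34_1 D12110 (iv D12110) F43799
def n12111 : Q := act 7 n11105
theorem D12111 : act 7 n11105 = n12111 := rfl
theorem F47781 : act 0 n12111 = n11256 := d6_1 D12111 (iv D11256) (iv F43801)
theorem F47782 : act 1 n12111 = n11595 := d13_1 D12111 (iv F47613) F47608
theorem F47783 : act 2 n12111 = n11108 := d19_1 D12111 (iv D11108) (iv F43802)
theorem F47784 : act 5 n12111 = n11543 := d31_1 D12111 (iv F47764) F47762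
theorem F47785 : act 6 n12111 = n12111 := d33_1 D12111 (iv D12111) F43804
theorem F47786 : act 8 n12111 = n11486 := d35_2 D11105 D12111 (iv D11486) (iv D10529) (iv F40319)
def n12112 : Q := act 8 n11106
theorem D12112 : act 8 n11106 = n12112 := rfl
theorem F47787 : act 0 n12112 = n11258 := d7_1 D12112 (iv D11258) (iv F43805)
theorem F47788 : act 1 n12112 = n11117 := d14_1 D12112 (iv D11117) (iv F43806)
theorem F47789 : act 3 n12112 = n11654 := d25_1 D12112 (iv D11654) (iv F43807)
theorem F47790 : act 5 n12112 = n11107 := d32_1 D12112 (iv D11107) D11106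
def n12113 : Q := act 7 n11107
theorem D12113 : act 7 n11107 = n12113 := rfl
theorem F47791 : act 0 n12113 = n11259 := d6_1 D12113 (iv D11259) (iv F43809)
theorem F47792 : act 1 n12113 = n11118 := d13_1 D12113 (iv D11118) (iv F43810)
theorem F47793 : act 4 n12113 = n11108 := d28_1 D12113 (iv D11108) (iv F43812)
theorem F47794 : act 6 n12113 = n12113 := d33_1 D12113 (iv D12113) F43813
theorem F47795 : act 8 n12113 = n11487 := d35_2 D11107 D12113 (iv D11487) (iv D10531) (iv F40324)
def n12114 : Q := act 8 n11109
theorem D12114 : act 8 n11109 = n12114 := rfl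
theorem F47796 : act 0 n12114 = n11124 := d7_1 D12114 (iv D11124) (iv F43820)
theorem F47797 : act 3 n12114 = n11110 := d25_1 D12114 (iv D11110) D11109
theorem F47798 : act 4 n12114 = n11262 := d29_1 D12114 (iv D11262) (iv F43821)
theorem F47799 : act 5 n12114 = n11658 := d32_1 D12114 (iv D11658) (iv F43822)
theorem F47800 : act 6 n12114 = n11267 := d34_1 D12114 (iv D11267) (iv F43823)
def n12115 : Q := act 2 n11111
theorem D12115 : act 2 n11111 = n12115 := rfl
theorem F47801 : act 0 n12115 = n11125 := d1_1 D12115 (iv D11125) (iv F43831)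
theorem F47802 : act 3 n12115 = n11119 := d15_2 D11111 D12115 (iv D11119) (iv D10212) (iv F40335)
theorem F47803 : act 4 n12115 = n11260 := d16_2 (iv F43832) D12115 (iv D11260)
theorem F47804 : act 6 n12115 = n11113 := d18_2 (iv F43833) D12115 (iv D11113)
theorem F47805 : act 7 n12115 = n11264 := d19_2 (iv F43834) D12115 F44392
def n12116 : Q := act 8 n11111
theorem D12116 : act 8 n11111 = n12116 := rfl
theorem F47806 : act 0 n12116 = n11126 := d7_1 D12116 (iv D11126) (iv F43831)
theorem F47807 : act 3 n12116 = n11112 := d25_1 D12116 (iv D11112) D11111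
theorem F47808 : act 4 n12116 = n11261 := d29_1 D12116 (iv D11261) (iv F43832)
theorem F47809 : act 6 n12116 = n11115 := d34_1 D12116 (iv D11115) (iv F43833)
def n12117 : Q := act 1 n11113
theorem D12117 : act 1 n11113 = n12117 := rfl
theorem F47810 : act 3 n12117 = n11121 := d9_2 (iv F43841) D12117 (iv D11121)
theorem F47811 : act 5 n12117 = n11659 := d11_2 (iv F43842) D12117 (iv D11659)
def n12118 : Q := act 8 n11113
theorem D12118 : act 8 n11113 = n12118 := rfl
theorem F47812 : act 0 n12118 = n11128 := d7_1 D12118 (iv D11128) (iv F43840)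
theorem F47813 : act 2 n12118 = n11115 := d20_1 D12118 (iv D11115) D11113
theorem F47814 : act 3 n12118 = n11122 := d25_1 D12118 (iv D11122) (iv F43841)
theorem F47815 : act 5 n12118 = n11661 := d32_1 D12118 (iv D11661) (iv F43842)
def n12119 : Q := act 8 n11114
theorem D12119 : act 8 n11114 = n12119 := rfl
theorem F47816 : act 0 n12119 = n11129 := d7_1 D12119 (iv D11129) (iv F43843)
theorem F47817 : act 3 n12119 = n11116 := d25_1 D12119 (iv D11116) (iv F43844)
theorem F47818 : act 4 n12119 = n11115 := d29_1 D12119 (iv D11115) D11114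
theorem F47819 : act 6 n12119 = n11261 := d34_1 D12119 (iv D11261) (iv F43845)
def n12120 : Q := act 7 n11115
theorem D12120 : act 7 n11115 = n12120 := rfl
theorem F47820 : act 0 n12120 = n11130 := d6_1 D12120 (iv D11130) (iv F43847)
theorem F47821 : act 3 n12120 = n11183 := d24_1 D12120 (iv D11183) F40554 (iv F40344) (iv F43848)
theorem F47822 : act 5 n12120 = n11664 := d31_1 D12120 (iv D11664) (iv F43849)
def n12121 : Q := act 7 n11117
theorem D12121 : act 7 n11117 = n12121 := rfl
theorem F47823 : act 0 n12121 = n11131 := d6_1 D12121 (iv D11131) (iv F43855)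
theorem F47824 : act 2 n12121 = n11397 := d19_1 D12121 (iv F47570) F47565
theorem F47825 : act 4 n12121 = n11328 := d28_1 D12121 (iv F47563) F47560
theorem F47826 : act 5 n12121 = n11118 := d31_1 D12121 (iv D11118) (iv F43857)
theorem F47827 : act 8 n12121 = n11327 := d35_2 D11117 D12121 (iv D11327) F40954 (iv F40363)
def n12122 : Q := act 3 n11118
theorem D12122 : act 3 n11118 = n12122 := rfl
theorem F47828 : act 0 n12122 = n11132 := d2_1 D12122 (iv D11132) (iv F43858)
theorem F47829 : act 4 n12122 = n11191 := d21_2 (iv F43860) D12122 (iv D11191) F40587 (iv F40370)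
theorem F47830 : act 6 n12122 = n12122 := d23_2 F43861 D12122 (iv D12122)
theorem F47831 : act 7 n12122 = n11670 := d24_2 D11118 D12122 (iv D11670) (iv D10722) (iv F40365)
theorem F47832 : act 8 n12122 = n11488 := d25_2 (iv F43862) D12122 (iv D11488)
def n12123 : Q := act 1 n11119
theorem D12123 : act 1 n11119 = n12123 := rfl
theorem F47833 : act 2 n12123 = n11870 := d8_2 D11119 D12123 (iv D11870) (iv D10889) (iv F40375)
theorem F47834 : act 6 n12123 = n11121 := d12_2 (iv F43864) D12123 (iv D11121)
theorem F47835 : act 7 n12123 = n12123 := d13_2 F43865 D12123 (iv D12123)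
def n12124 : Q := act 8 n11119
theorem D12124 : act 8 n11119 = n12124 := rfl
theorem F47836 : act 0 n12124 = n11133 := d7_1 D12124 (iv D11133) (iv F43863)
theorem F47837 : act 2 n12124 = n11120 := d20_1 D12124 (iv D11120) D11119
theorem F47838 : act 6 n12124 = n11122 := d34_1 D12124 (iv D11122) (iv F43864)
def n12125 : Q := act 7 n11120
theorem D12125 : act 7 n11120 = n12125 := rfl
theorem F47839 : act 0 n12125 = n11134 := d6_1 D12125 (iv D11134) (iv F43866)
theorem F47840 : act 1 n12125 = n11872 := d13_1 D12125 (iv D11872) (iv F43867)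
theorem F47841 : act 3 n12125 = n11194 := d24_1 D12125 (iv D11194) F40599 (iv F40382) (iv F43868)
theorem F47842 : act 6 n12125 = n11123 := d33_1 D12125 (iv D11123) (iv F43869)
theorem F47843 : act 8 n12125 = n12125 := d35_2 D11120 D12125 (iv D12125) (iv D11120) F40377
def n12126 : Q := act 0 n11121
theorem D12126 : act 0 n11121 = n12126 := rfl
theorem F47844 : act 1 n12126 = n11135 := d0_2 D11121 D12126 (iv D11135) (iv D10228) (iv F40383)
theorem F47845 : act 2 n12126 = n11873 := d1_2 (iv F43870) D12126 (iv D11873)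
theorem F47846 : act 5 n12126 = n11192 := d4_2 (iv F43871) D12126 F44131

end Cfsg.Agent.Helper17.Fi22bTC
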