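import Cfsg.Agent.Helper17.Fi22bTC.Facts3

set_option autoImplicit false
set_option linter.all false

noncomputable section

namespace Cfsg.Agent.Helper17.Fi22bTC

theorem F47847 : act 7 n12126 = n12126 := d6_2 F43872 D12126 (iv D12126)
def n12127 : Q := act 8 n11121
theorem D12127 : act 8 n11121 = n12127 := rfl
theorem F47848 : act 1 n12127 = n11122 := d14_1 D12127 (iv D11122) D11121
theorem F47849 : act 2 n12127 = n11874 := d20_1 D12127 (iv D11874) (iv F43870)
theorem F47850 : act 5 n12127 = n11671 := d32_1 D12127 (iv D11671) (iv F43871)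
def n12128 : Q := act 7 n11122
theorem D12128 : act 7 n11122 = n12128 := rfl
theorem F47851 : act 0 n12128 = n11137 := d6_1 D12128 (iv D11137) (iv F43873)
theorem F47852 : act 2 n12128 = n11123 := d19_1 D12128 (iv D11123) (iv F43874)
theorem F47853 : act 5 n12128 = n11672 := d31_1 D12128 (iv D11672) (iv F43875)
theorem F47854 : act 8 n12128 = n12128 := d35_2 D11122 D12128 (iv D12128) (iv D11122) F40385
def n12129 : Q := act 7 n11124
theorem D12129 : act 7 n11124 = n12129 := rfl
theorem F47855 : act 1 n12129 = n11275 := d13_1 D12129 (iv D11275) (iv F43881)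
theorem F47856 : act 3 n12129 = n11207 := d24_1 D12129 (iv D11207) F40630 (iv F40400) (iv F43882)
theorem F47857 : act 4 n12129 = n11276 := d28_1 D12129 (iv D11276) (iv F43883)
theorem F47858 : act 5 n12129 = n11675 := d31_1 D12129 (iv D11675) (iv F43884)
theorem F47859 : act 6 n12129 = n11281 := d33_1 D12129 (iv D11281) (iv F43885)
theorem F47860 : act 8 n12129 = n11130 := d35_2 D11124 D12129 (iv D11130) (iv D10222) (iv F40394)
def n12130 : Q := act 8 n11125
theorem D12130 : act 8 n11125 = n12130 := rfl
theorem F47861 : act 2 n12130 = n11126 := d20_1 D12130 (iv D11126) D11125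
theorem F47862 : act 3 n12130 = n11133 := d25_1 D12130 (iv D11133) (iv F43886)
theorem F47863 : act 4 n12130 = n11274 := d29_1 D12130 (iv D11274) (iv F43887)
theorem F47864 : act 6 n12130 = n11128 := d34_1 D12130 (iv D11128) (iv F43888)
def n12131 : Q := act 7 n11126
theorem D12131 : act 7 n11126 = n12131 := rfl
theorem F47865 : act 1 n12131 = n11276 := d13_1 D12131 (iv D11276) (iv F43890)
theorem F47866 : act 3 n12131 = n11214 := d24_1 D12131 (iv D11214) F40645 (iv F40409) (iv F43891)
theorem F47867 : act 4 n12131 = n11275 := d28_1 D12131 (iv D11275) (iv F43892)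
theorem F47868 : act 6 n12131 = n11130 := d33_1 D12131 (iv D11130) (iv F43893)
theorem F47869 : act 8 n12131 = n11281 := d35_2 D11126 D12131 (iv D11281) (iv D10346) (iv F40404)
def n12132 : Q := act 0 n11127
theorem D12132 : act 0 n11127 = n12132 := rfl
theorem F47870 : act 2 n12132 = n11173 := d1_2 (iv F43894) D12132 F44069
theorem F47871 : act 3 n12132 = n11135 := d2_2 (iv F43895) D12132 (iv D11135)
theorem F47872 : act 5 n12132 = n11175 := d4_2 (iv F43896) D12132 F44075
def n12133 : Q := act 8 n11127
theorem D12133 : act 8 n11127 = n12133 := rfl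
theorem F47873 : act 1 n12133 = n11128 := d14_1 D12133 (iv D11128) D11127
theorem F47874 : act 2 n12133 = n11209 := d20_1 D12133 (iv D11209) (iv F43894)
theorem F47875 : act 3 n12133 = n11136 := d25_1 D12133 (iv D11136) (iv F43895)
theorem F47876 : act 5 n12133 = n11211 := d32_1 D12133 (iv D11211) (iv F43896)
def n12134 : Q := act 7 n11128
theorem D12134 : act 7 n11128 = n12134 := rfl
theorem F47877 : act 2 n12134 = n11130 := d19_1 D12134 (iv D11130) (iv F43897)
theorem F47878 : act 5 n12134 = n11677 := d31_1 D12134 (iv D11677) (iv F43899)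
def n12135 : Q := act 7 n11129
theorem D12135 : act 7 n11129 = n12135 := rfl
theorem F47879 : act 1 n12135 = n11281 := d13_1 D12135 (iv D11281) (iv F43900)
theorem F47880 : act 3 n12135 = n11360 := d24_1 D12135 (iv D11360) F41057 (iv F40423) (iv F43901)
theorem F47881 : act 4 n12135 = n11130 := d28_1 D12135 (iv D11130) (iv F43902)
theorem F47882 : act 6 n12135 = n11275 := d33_1 D12135 (iv D11275) (iv F43903)
theorem F47883 : act 8 n12135 = n11276 := d35_2 D11129 D12135 (iv D11276) (iv D10342) (iv F40415)
def n12136 : Q := act 7 n11133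
theorem D12136 : act 7 n11133 = n12136 := rfl
theorem F47884 : act 1 n12136 = n11736 := d13_1 D12136 F46890 F46885
theorem F47885 : act 2 n12136 = n11134 := d19_1 D12136 (iv D11134) (iv F43917)
theorem F47886 : act 4 n12136 = n11684 := d28_1 D12136 F47658 F47655
theorem F47887 : act 6 n12136 = n11137 := d33_1 D12136 (iv D11137) (iv F43918)
theorem F47888 : act 8 n12136 = n12136 := d35_2 D11133 D12136 (iv D12136) (iv D11133) F40433
def n12137 : Q := act 8 n11135
theorem D12137 : act 8 n11135 = n12137 := rfl
theorem F47889 : act 0 n12137 = n11136 := d7_1 D12137 (iv D11136) D11135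
theorem F47890 : act 2 n12137 = n11138 := d20_1 D12137 (iv D11138) (iv F43923)
theorem F47891 : act 5 n12137 = n11193 := d32_1 D12137 (iv D11193) (iv F43924)
def n12138 : Q := act 7 n11136
theorem D12138 : act 7 n11136 = n12138 := rfl
theorem F47892 : act 1 n12138 = n11137 := d13_1 D12138 (iv D11137) (iv F43926)
theorem F47893 : act 2 n12138 = n11139 := d19_1 D12138 (iv D11139) (iv F43927)
theorem F47894 : act 4 n12138 = n11734 := d28_1 D12138 F47678 F47675
theorem F47895 : act 5 n12138 = n11232 := d31_1 D12138 (iv D11232) (iv F43928)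
theorem F47896 : act 6 n12138 = n11736 := d33_1 D12138 F46890 F46889
theorem F47897 : act 8 n12138 = n12138 := d35_2 D11136 D12138 (iv D12138) (iv D11136) F40439
def n12139 : Q := act 3 n11137
theorem D12139 : act 3 n11137 = n12139 := rfl
theorem F47898 : act 2 n12139 = n11235 := d15_1 D12139 (iv D11235) F40709 (iv F40443) (iv F43929)
theorem F47899 : act 5 n12139 = n11686 := d22_2 (iv F43930) D12139 (iv D11686)
theorem F47900 : act 8 n12139 = n12139 := d25_2 F43931 D12139 (iv D12139)
def n12140 : Q := act 7 n11138
theorem D12140 : act 7 n11138 = n12140 := rfl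
theorem F47901 : act 0 n12140 = n11139 := d6_1 D12140 (iv D11139) (iv F43932)
theorem F47902 : act 1 n12140 = n11922 := d13_1 D12140 (iv D11922) (iv F43933)
theorem F47903 : act 5 n12140 = n11194 := d31_1 D12140 (iv D11194) (iv F43935)
theorem F47904 : act 8 n12140 = n12140 := d35_2 D11138 D12140 (iv D12140) (iv D11138) F40453
def n12141 : Q := act 5 n11140
theorem D12141 : act 5 n11140 = n12141 := rfl
theorem F47905 : act 0 n12141 = n11285 := d4_1 D12141 (iv D11285) (iv F43939)
theorem F47906 : act 1 n12141 = n12141 := d11_1 D12141 (iv D12141) F43940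
theorem F47907 : act 2 n12141 = n11142 := d17_1 D12141 (iv D11142) (iv F43941)
theorem F47908 : act 3 n12141 = n12066 := d22_1 D12141 F47534 F44846
theorem F47909 : act 4 n12141 = n11533 := d26_1 D12141 F45393 F41738 F41556 (iv F43942)
theorem F47910 : act 8 n12141 = n11528 := d32_2 (iv F43943) D12141 (iv D11528)
def n12142 : Q := act 7 n11140
theorem D12142 : act 7 n11140 = n12142 := rfl
theorem F47911 : act 0 n12142 = n11286 := d6_1 D12142 (iv D11286) (iv F43939)
theorem F47912 : act 1 n12142 = n12142 := d13_1 D12142 (iv D12142) F43940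
theorem F47913 : act 2 n12142 = n11143 := d19_1 D12142 (iv D11143) (iv F43941)
theorem F47914 : act 4 n12142 = n11489 := d28_1 D12142 (iv D11489) (iv F43942)
theorem F47915 : act 6 n12142 = n11141 := d33_1 D12142 (iv D11141) D11140
def n12143 : Q := act 3 n11141
theorem D12143 : act 3 n11141 = n12143 := rfl
theorem F47916 : act 0 n12143 = n11287 := d2_1 D12143 (iv D11287) (iv F43944)
theorem F47917 : act 1 n12143 = n12143 := d9_1 D12143 (iv D12143) F43945
def n12144 : Q := act 8 n11141
theorem D12144 : act 8 n11141 = n12144 := rfl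
theorem F47918 : act 0 n12144 = n11288 := d7_1 D12144 (iv D11288) (iv F43944)
theorem F47919 : act 1 n12144 = n12144 := d14_1 D12144 (iv D12144) F43945
theorem F47920 : act 2 n12144 = n11145 := d20_1 D12144 (iv D11145) (iv F43946)
theorem F47921 : act 4 n12144 = n11491 := d29_1 D12144 (iv D11491) (iv F43947)
def n12145 : Q := act 7 n11142
theorem D12145 : act 7 n11142 = n12145 := rfl
theorem F47922 : act 0 n12145 = n11290 := d6_1 D12145 (iv D11290) (iv F43948)
theorem F47923 : act 1 n12145 = n11167 := d13_1 D12145 (iv D11167) (iv F43949)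
theorem F47924 : act 4 n12145 = n11537 := d28_1 D12145 (iv D11537) (iv F43951)
theorem F47925 : act 5 n12145 = n11143 := d31_1 D12145 (iv D11143) D11142
def n12146 : Q := act 3 n11143
theorem D12146 : act 3 n11143 = n12146 := rfl
theorem F47926 : act 0 n12146 = n11291 := d2_1 D12146 (iv D11291) (iv F43953)
theorem F47927 : act 1 n12146 = n11168 := d9_1 D12146 (iv D11168) (iv F43954)
theorem F47928 : act 4 n12146 = n11566 := d21_2 (iv F43955) D12146 (iv D11566) F41819 (iv F41563)
theorem F47929 : act 6 n12146 = n11144 := d23_2 (iv F43956) D12146 (iv D11144)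
theorem F47930 : act 7 n12146 = n11147 := d24_2 D11143 D12146 (iv D11147) (iv D10239) (iv F40466)
def n12147 : Q := act 8 n11143
theorem D12147 : act 8 n11143 = n12147 := rfl
theorem F47931 : act 0 n12147 = n11292 := d7_1 D12147 (iv D11292) (iv F43953)
theorem F47932 : act 1 n12147 = n11169 := d14_1 D12147 (iv D11169) (iv F43954)
theorem F47933 : act 4 n12147 = n11252 := d29_1 D12147 F44352 (iv F43955)
theorem F47934 : act 6 n12147 = n11145 := d34_1 D12147 (iv D11145) (iv F43956)
theorem F47935 : act 7 n12147 = n11251 := d35_1 D12147 (iv D11251) F40760 (iv F40468) D11143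
def n12148 : Q := act 2 n11144
theorem D12148 : act 2 n11144 = n12148 := rfl
theorem F47936 : act 0 n12148 = n11293 := d1_1 D12148 (iv D11293) (iv F43957)
theorem F47937 : act 7 n12148 = n11149 := d19_2 (iv F43959) D12148 (iv D11149)
def n12149 : Q := act 4 n11144
theorem D12149 : act 4 n11144 = n12149 := rfl
theorem F47938 : act 0 n12149 = n11294 := d3_1 D12149 (iv D11294) (iv F43957)
theorem F47939 : act 1 n12149 = n11171 := d10_1 D12149 (iv D11171) (iv F43958)
theorem F47940 : act 3 n12149 = n11493 := d21_1 D12149 (iv D11493) (iv D10538) (iv F40471) D11144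
theorem F47941 : act 6 n12149 = n11566 := d27_2 F47929 D12149 (iv F47928)
theorem F47942 : act 7 n12149 = n11150 := d28_2 (iv F43959) D12149 (iv D11150)
def n12150 : Q := act 8 n11144
theorem D12150 : act 8 n11144 = n12150 := rfl
theorem F47943 : act 0 n12150 = n11295 := d7_1 D12150 (iv D11295) (iv F43957)
theorem F47944 : act 1 n12150 = n11172 := d14_1 D12150 (iv D11172) (iv F43958)
theorem F47945 : act 3 n12150 = n11145 := d25_1 D12150 (iv D11145) D11144
def n12151 : Q := act 3 n11146
theorem D12151 : act 3 n11146 = n12151 := rfl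
theorem F47946 : act 0 n12151 = n11263 := d2_1 D12151 F44389 (iv F43963)
theorem F47947 : act 1 n12151 = n11173 := d9_1 D12151 (iv D11173) (iv F43964)
theorem F47948 : act 5 n12151 = n11147 := d22_2 (iv F43967) D12151 (iv D11147)
def n12152 : Q := act 8 n11146
theorem D12152 : act 8 n11146 = n12152 := rfl
theorem F47949 : act 0 n12152 = n11273 := d7_1 D12152 (iv D11273) (iv F43963)
theorem F47950 : act 1 n12152 = n11174 := d14_1 D12152 (iv D11174) (iv F43964)
theorem F47951 : act 2 n12152 = n12007 := d20_1 D12152 (iv D12007) (iv F43965)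
theorem F47952 : act 4 n12152 = n12152 := d29_1 D12152 (iv D12152) F43966
theorem F47953 : act 5 n12152 = n11148 := d32_1 D12152 (iv D11148) (iv F43967)
def n12153 : Q := act 2 n11147
theorem D12153 : act 2 n11147 = n12153 := rfl
theorem F47954 : act 0 n12153 = n11296 := d1_1 D12153 (iv D11296) (iv F43968)
theorem F47955 : act 6 n12153 = n11149 := d18_2 (iv F43970) D12153 (iv D11149)
def n12154 : Q := act 4 n11147
theorem D12154 : act 4 n11147 = n12154 := rfl
theorem F47956 : act 0 n12154 = n11297 := d3_1 D12154 (iv D11297) (iv F43968)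
theorem F47957 : act 1 n12154 = n11176 := d10_1 D12154 (iv D11176) (iv F43969)
theorem F47958 : act 3 n12154 = n11153 := d21_1 D12154 (iv D11153) (iv D10242) (iv F40478) D11147
theorem F47959 : act 6 n12154 = n11150 := d27_2 (iv F43970) D12154 (iv D11150)
theorem F47960 : act 7 n12154 = n11566 := d28_2 F47930 D12154 (iv F47928)
def n12155 : Q := act 8 n11147
theorem D12155 : act 8 n11147 = n12155 := rfl
theorem F47961 : act 0 n12155 = n11298 := d7_1 D12155 (iv D11298) (iv F43968)
theorem F47962 : act 1 n12155 = n11177 := d14_1 D12155 (iv D11177) (iv F43969)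
theorem F47963 : act 3 n12155 = n11148 := d25_1 D12155 (iv D11148) D11147
theorem F47964 : act 6 n12155 = n11151 := d34_1 D12155 (iv D11151) (iv F43970)
def n12156 : Q := act 1 n11149
theorem D12156 : act 1 n11149 = n12156 := rfl
theorem F47965 : act 2 n12156 = n11178 := d8_2 D11149 D12156 (iv D11178) (iv D10259) (iv F40481)
def n12157 : Q := act 4 n11149
theorem D12157 : act 4 n11149 = n12157 := rfl
theorem F47966 : act 0 n12157 = n11300 := d3_1 D12157 (iv D11300) (iv F43975)
theorem F47967 : act 2 n12157 = n11150 := d16_1 D12157 (iv D11150) D11149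
def n12158 : Q := act 8 n11149
theorem D12158 : act 8 n11149 = n12158 := rfl
theorem F47968 : act 0 n12158 = n11301 := d7_1 D12158 (iv D11301) (iv F43975)
theorem F47969 : act 2 n12158 = n11151 := d20_1 D12158 (iv D11151) D11149
def n12159 : Q := act 5 n11150
theorem D12159 : act 5 n11150 = n12159 := rfl
theorem F47970 : act 0 n12159 = n11302 := d4_1 D12159 (iv D11302) (iv F43976)
theorem F47971 : act 1 n12159 = n11181 := d11_1 D12159 (iv D11181) (iv F43977)
theorem F47972 : act 3 n12159 = n11157 := d22_1 D12159 (iv D11157) (iv F43978)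
def n12160 : Q := act 8 n11150
theorem D12160 : act 8 n11150 = n12160 := rfl
theorem F47973 : act 0 n12160 = n11303 := d7_1 D12160 (iv D11303) (iv F43976)
theorem F47974 : act 1 n12160 = n11182 := d14_1 D12160 (iv D11182) (iv F43977)
theorem F47975 : act 3 n12160 = n11158 := d25_1 D12160 (iv D11158) (iv F43978)
theorem F47976 : act 4 n12160 = n11151 := d29_1 D12160 (iv D11151) D11150
def n12161 : Q := act 7 n11151
theorem D12161 : act 7 n11151 = n12161 := rfl
theorem F47977 : act 0 n12161 = n11304 := d6_1 D12161 (iv D11304) (iv F43979)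
theorem F47978 : act 1 n12161 = n11183 := d13_1 D12161 (iv D11183) (iv F43980)
def n12162 : Q := act 4 n11152
theorem D12162 : act 4 n11152 = n12162 := rfl
theorem F47979 : act 0 n12162 = n11305 := d3_1 D12162 (iv D11305) (iv F43982)
theorem F47980 : act 1 n12162 = n12162 := d10_1 D12162 (iv D12162) F43983
theorem F47981 : act 2 n12162 = n11153 := d16_1 D12162 (iv D11153) D11152
theorem F47982 : act 6 n12162 = n11155 := d27_2 (iv F43985) D12162 (iv D11155)
theorem F47983 : act 7 n12162 = n11496 := d28_2 (iv F43986) D12162 (iv D11496)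
def n12163 : Q := act 8 n11152
theorem D12163 : act 8 n11152 = n12163 := rfl
theorem F47984 : act 0 n12163 = n11306 := d7_1 D12163 (iv D11306) (iv F43982)
theorem F47985 : act 1 n12163 = n12163 := d14_1 D12163 (iv D12163) F43983
theorem F47986 : act 2 n12163 = n11154 := d20_1 D12163 (iv D11154) D11152
theorem F47987 : act 5 n12163 = n12163 := d32_1 D12163 (iv D12163) F43984
theorem F47988 : act 6 n12163 = n11156 := d34_1 D12163 (iv D11156) (iv F43985)
theorem F47989 : act 7 n12163 = n11548 := d35_1 D12163 (iv D11548) F41786 (iv F41590) (iv F43986)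
def n12164 : Q := act 5 n11153
theorem D12164 : act 5 n11153 = n12164 := rfl
theorem F47990 : act 0 n12164 = n11307 := d4_1 D12164 (iv D11307) (iv F43987)
theorem F47991 : act 1 n12164 = n11184 := d11_1 D12164 (iv D11184) (iv F43988)
theorem F47992 : act 4 n12164 = n12164 := d26_1 D12164 (iv D12164) (iv D11153) F40487 D11153
theorem F47993 : act 7 n12164 = n11497 := d31_2 (iv F43990) D12164 (iv D11497)
def n12165 : Q := act 8 n11153
theorem D12165 : act 8 n11153 = n12165 := rfl
theorem F47994 : act 0 n12165 = n11308 := d7_1 D12165 (iv D11308) (iv F43987)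
theorem F47995 : act 1 n12165 = n11185 := d14_1 D12165 (iv D11185) (iv F43988)
theorem F47996 : act 4 n12165 = n11154 := d29_1 D12165 (iv D11154) D11153
theorem F47997 : act 6 n12165 = n11158 := d34_1 D12165 (iv D11158) (iv F43989)
theorem F47998 : act 7 n12165 = n11550 := d35_1 D12165 (iv D11550) F41788 (iv F41595) (iv F43990)
def n12166 : Q := act 3 n11155
theorem D12166 : act 3 n11155 = n12166 := rfl
theorem F47999 : act 0 n12166 = n11310 := d2_1 D12166 (iv D11310) (iv F43997)
theorem F48000 : act 1 n12166 = n12166 := d9_1 D12166 (iv D12166) F43998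
def n12167 : Q := act 5 n11155
theorem D12167 : act 5 n11155 = n12167 := rfl
theorem F48001 : act 0 n12167 = n11311 := d4_1 D12167 (iv D11311) (iv F43997)
theorem F48002 : act 1 n12167 = n12167 := d11_1 D12167 (iv D12167) F43998
theorem F48003 : act 2 n12167 = n11157 := d17_1 D12167 (iv D11157) (iv F43999)
theorem F48004 : act 4 n12167 = n11161 := d26_1 D12167 (iv D11161) (iv D10247) (iv F40496) D11155
theorem F48005 : act 7 n12167 = n11499 := d31_2 (iv F44000) D12167 (iv D11499)
def n12168 : Q := act 8 n11155
theorem D12168 : act 8 n11155 = n12168 := rfl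
theorem F48006 : act 0 n12168 = n11312 := d7_1 D12168 (iv D11312) (iv F43997)
theorem F48007 : act 1 n12168 = n12168 := d14_1 D12168 (iv D12168) F43998
theorem F48008 : act 2 n12168 = n11158 := d20_1 D12168 (iv D11158) (iv F43999)
theorem F48009 : act 4 n12168 = n11156 := d29_1 D12168 (iv D11156) D11155
def n12169 : Q := act 7 n11156
theorem D12169 : act 7 n11156 = n12169 := rfl
theorem F48010 : act 0 n12169 = n11313 := d6_1 D12169 (iv D11313) (iv F44001)
theorem F48011 : act 1 n12169 = n12169 := d13_1 D12169 (iv D12169) F44002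
theorem F48012 : act 2 n12169 = n11159 := d19_1 D12169 (iv D11159) (iv F44003)
theorem F48013 : act 5 n12169 = n11163 := d31_1 D12169 (iv D11163) (iv F44004)
theorem F48014 : act 6 n12169 = n11548 := d33_1 D12169 (iv F47989) F47988
theorem F48015 : act 8 n12169 = n11501 := d35_2 D11156 D12169 (iv D11501) (iv D10545) (iv F40497)
def n12170 : Q := act 6 n11157
theorem D12170 : act 6 n11157 = n12170 := rfl
theorem F48016 : act 0 n12170 = n11314 := d5_1 D12170 (iv D11314) (iv F44005)
theorem F48017 : act 1 n12170 = n11186 := d12_1 D12170 (iv D11186) (iv F44006)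
theorem F48018 : act 4 n12170 = n11164 := d27_1 D12170 (iv D11164) (iv F44007)
theorem F48019 : act 7 n12170 = n11502 := d33_2 (iv F44008) D12170 (iv D11502)
def n12171 : Q := act 8 n11157
theorem D12171 : act 8 n11157 = n12171 := rfl
theorem F48020 : act 0 n12171 = n11315 := d7_1 D12171 (iv D11315) (iv F44005)
theorem F48021 : act 1 n12171 = n11187 := d14_1 D12171 (iv D11187) (iv F44006)
theorem F48022 : act 4 n12171 = n11165 := d29_1 D12171 (iv D11165) (iv F44007)
theorem F48023 : act 5 n12171 = n11158 := d32_1 D12171 (iv D11158) D11157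
def n12172 : Q := act 7 n11158
theorem D12172 : act 7 n11158 = n12172 := rfl
theorem F48024 : act 0 n12172 = n11316 := d6_1 D12172 (iv D11316) (iv F44009)
theorem F48025 : act 1 n12172 = n11188 := d13_1 D12172 (iv D11188) (iv F44010)
theorem F48026 : act 4 n12172 = n11159 := d28_1 D12172 (iv D11159) (iv F44011)
theorem F48027 : act 6 n12172 = n11550 := d33_1 D12172 (iv F47998) F47997
theorem F48028 : act 8 n12172 = n11504 := d35_2 D11158 D12172 (iv D11504) (iv D10547) (iv F40500)
def n12173 : Q := act 5 n11160
theorem D12173 : act 5 n11160 = n12173 := rfl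
theorem F48029 : act 0 n12173 = n11317 := d4_1 D12173 (iv D11317) (iv F44018)
theorem F48030 : act 1 n12173 = n12173 := d11_1 D12173 (iv D12173) F44019
theorem F48031 : act 3 n12173 = n11161 := d22_1 D12173 (iv D11161) D11160
def n12174 : Q := act 7 n11160
theorem D12174 : act 7 n11160 = n12174 := rfl
theorem F48032 : act 0 n12174 = n11318 := d6_1 D12174 (iv D11318) (iv F44018)
theorem F48033 : act 1 n12174 = n12174 := d13_1 D12174 (iv D12174) F44019
theorem F48034 : act 3 n12174 = n11506 := d24_1 D12174 (iv D11506) (iv D10549) (iv F40509) D11160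
theorem F48035 : act 6 n12174 = n12174 := d33_1 D12174 (iv D12174) F44020
def n12175 : Q := act 8 n11160
theorem D12175 : act 8 n11160 = n12175 := rfl
theorem F48036 : act 0 n12175 = n11319 := d7_1 D12175 (iv D11319) (iv F44018)
theorem F48037 : act 1 n12175 = n12175 := d14_1 D12175 (iv D12175) F44019
theorem F48038 : act 3 n12175 = n11162 := d25_1 D12175 (iv D11162) D11160
theorem F48039 : act 6 n12175 = n12175 := d34_1 D12175 (iv D12175) F44020
def n12176 : Q := act 6 n11161
theorem D12176 : act 6 n11161 = n12176 := rfl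
theorem F48040 : act 0 n12176 = n11320 := d5_1 D12176 (iv D11320) (iv F44021)
theorem F48041 : act 1 n12176 = n12176 := d12_1 D12176 (iv D12176) F44022
theorem F48042 : act 2 n12176 = n11164 := d18_1 D12176 (iv D11164) (iv F44023)
theorem F48043 : act 5 n12176 = n12176 := d30_1 D12176 (iv D12176) (iv D11161) F40508 D11161
theorem F48044 : act 7 n12176 = n11508 := d33_2 (iv F44024) D12176 (iv D11508)
def n12177 : Q := act 8 n11161
theorem D12177 : act 8 n11161 = n12177 := rfl
theorem F48045 : act 0 n12177 = n11321 := d7_1 D12177 (iv D11321) (iv F44021)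
theorem F48046 : act 1 n12177 = n12177 := d14_1 D12177 (iv D12177) F44022
theorem F48047 : act 2 n12177 = n11165 := d20_1 D12177 (iv D11165) (iv F44023)
theorem F48048 : act 5 n12177 = n11162 := d32_1 D12177 (iv D11162) D11161
def n12178 : Q := act 7 n11162
theorem D12178 : act 7 n11162 = n12178 := rfl
theorem F48049 : act 0 n12178 = n11322 := d6_1 D12178 (iv D11322) (iv F44025)
theorem F48050 : act 1 n12178 = n12178 := d13_1 D12178 (iv D12178) F44026
theorem F48051 : act 2 n12178 = n11166 := d19_1 D12178 (iv D11166) (iv F44027)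
theorem F48052 : act 4 n12178 = n11163 := d28_1 D12178 (iv D11163) (iv F44028)
theorem F48053 : act 6 n12178 = n12178 := d33_1 D12178 (iv D12178) F44029
theorem F48054 : act 8 n12178 = n11510 := d35_2 D11162 D12178 (iv D11510) (iv D10551) (iv F40509)
def n12179 : Q := act 3 n11163
theorem D12179 : act 3 n11163 = n12179 := rfl
theorem F48055 : act 0 n12179 = n11323 := d2_1 D12179 (iv D11323) (iv F44030)
theorem F48056 : act 1 n12179 = n12179 := d9_1 D12179 (iv D12179) F44031
theorem F48057 : act 6 n12179 = n12179 := d23_2 F44033 D12179 (iv D12179)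
theorem F48058 : act 8 n12179 = n11511 := d25_2 (iv F44034) D12179 (iv D11511)
def n12180 : Q := act 8 n11164
theorem D12180 : act 8 n11164 = n12180 := rfl
theorem F48059 : act 0 n12180 = n11324 := d7_1 D12180 (iv D11324) (iv F44035)
theorem F48060 : act 1 n12180 = n11189 := d14_1 D12180 (iv D11189) (iv F44036)
theorem F48061 : act 5 n12180 = n12180 := d32_1 D12180 (iv D12180) F44037
theorem F48062 : act 6 n12180 = n11165 := d34_1 D12180 (iv D11165) D11164
def n12181 : Q := act 7 n11165
theorem D12181 : act 7 n11165 = n12181 := rfl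
theorem F48063 : act 0 n12181 = n11325 := d6_1 D12181 (iv D11325) (iv F44039)
theorem F48064 : act 1 n12181 = n11190 := d13_1 D12181 (iv D11190) (iv F44040)
theorem F48065 : act 5 n12181 = n11166 := d31_1 D12181 (iv D11166) (iv F44041)
theorem F48066 : act 8 n12181 = n11513 := d35_2 D11165 D12181 (iv D11513) (iv D10554) (iv F40516)
def n12182 : Q := act 3 n11166
theorem D12182 : act 3 n11166 = n12182 := rfl
theorem F48067 : act 0 n12182 = n11326 := d2_1 D12182 (iv D11326) (iv F44042)
theorem F48068 : act 1 n12182 = n11191 := d9_1 D12182 (iv D11191) (iv F44043)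
theorem F48069 : act 6 n12182 = n12182 := d23_2 F44045 D12182 (iv D12182)
theorem F48070 : act 8 n12182 = n11514 := d25_2 (iv F44046) D12182 (iv D11514)
def n12183 : Q := act 3 n11167
theorem D12183 : act 3 n11167 = n12183 := rfl
theorem F48071 : act 0 n12183 = n11198 := d2_1 D12183 (iv D11198) (iv F44047)
theorem F48072 : act 5 n12183 = n11168 := d22_2 (iv F44050) D12183 (iv D11168)
theorem F48073 : act 7 n12183 = n11173 := d24_2 D11167 D12183 (iv D11173) (iv D10256) (iv F40527)
def n12184 : Q := act 8 n11167
theorem D12184 : act 8 n11167 = n12184 := rfl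
theorem F48074 : act 0 n12184 = n11199 := d7_1 D12184 (iv D11199) (iv F44047)
theorem F48075 : act 2 n12184 = n12184 := d20_1 D12184 (iv D12184) F44048
theorem F48076 : act 4 n12184 = n11271 := d29_1 D12184 F44419 (iv F44049)
theorem F48077 : act 5 n12184 = n11169 := d32_1 D12184 (iv D11169) (iv F44050)
theorem F48078 : act 7 n12184 = n11269 := d35_1 D12184 (iv D11269) F40815 (iv F40529) D11167
def n12185 : Q := act 2 n11168
theorem D12185 : act 2 n11168 = n12185 := rfl
theorem F48079 : act 0 n12185 = n11200 := d1_1 D12185 (iv D11200) (iv F44051)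
theorem F48080 : act 3 n12185 = n12185 := d15_2 D11168 D12185 (iv D12185) (iv D11168) F40531
theorem F48081 : act 4 n12185 = n11584 := d16_2 (iv F44052) D12185 (iv D11584)
theorem F48082 : act 6 n12185 = n11170 := d18_2 (iv F44053) D12185 (iv D11170)
theorem F48083 : act 7 n12185 = n11175 := d19_2 (iv F44054) D12185 (iv D11175)
def n12186 : Q := act 8 n11168
theorem D12186 : act 8 n11168 = n12186 := rfl
theorem F48084 : act 0 n12186 = n11201 := d7_1 D12186 (iv D11201) (iv F44051)
theorem F48085 : act 3 n12186 = n11169 := d25_1 D12186 (iv D11169) D11168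
theorem F48086 : act 4 n12186 = n11354 := d29_1 D12186 F44681 (iv F44052)
theorem F48087 : act 6 n12186 = n11172 := d34_1 D12186 (iv D11172) (iv F44053)
def n12187 : Q := act 1 n11170
theorem D12187 : act 1 n11170 = n12187 := rfl
theorem F48088 : act 3 n12187 = n12187 := d9_2 F44061 D12187 (iv D12187)
theorem F48089 : act 7 n12187 = n11178 := d13_2 (iv F44062) D12187 (iv D11178)
def n12188 : Q := act 4 n11170
theorem D12188 : act 4 n11170 = n12188 := rfl
theorem F48090 : act 0 n12188 = n11203 := d3_1 D12188 (iv D11203) (iv F44060)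
theorem F48091 : act 2 n12188 = n11171 := d16_1 D12188 (iv D11171) D11170
theorem F48092 : act 6 n12188 = n11584 := d27_2 F48082 D12188 (iv F48081)
theorem F48093 : act 7 n12188 = n11179 := d28_2 (iv F44062) D12188 (iv D11179)
theorem F48094 : act 3 n11634 = n12188 := d23_3 F48092 F45578 (iv F45803)
def n12189 : Q := act 8 n11170
theorem D12189 : act 8 n11170 = n12189 := rfl
theorem F48095 : act 0 n12189 = n11204 := d7_1 D12189 (iv D11204) (iv F44060)
theorem F48096 : act 2 n12189 = n11172 := d20_1 D12189 (iv D11172) D11170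
theorem F48097 : act 3 n12189 = n12189 := d25_1 D12189 (iv D12189) F44061
def n12190 : Q := act 5 n11171
theorem D12190 : act 5 n11171 = n12190 := rfl
theorem F48098 : act 0 n12190 = n11205 := d4_1 D12190 (iv D11205) (iv F44063)
theorem F48099 : act 3 n12190 = n11515 := d22_1 D12190 (iv D11515) (iv F44064)
theorem F48100 : act 7 n12190 = n11181 := d31_2 (iv F44066) D12190 (iv D11181)
def n12191 : Q := act 8 n11171
theorem D12191 : act 8 n11171 = n12191 := rfl
theorem F48101 : act 0 n12191 = n11206 := d7_1 D12191 (iv D11206) (iv F44063)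
theorem F48102 : act 3 n12191 = n11351 := d25_1 D12191 F44670 (iv F44064)
theorem F48103 : act 4 n12191 = n11172 := d29_1 D12191 (iv D11172) D11171
theorem F48104 : act 6 n12191 = n11354 := d34_1 D12191 F44681 (iv F44065)
def n12192 : Q := act 7 n11172
theorem D12192 : act 7 n11172 = n12192 := rfl
theorem F48105 : act 0 n12192 = n11207 := d6_1 D12192 (iv D11207) (iv F44067)
theorem F48106 : act 8 n12192 = n11183 := d35_2 D11172 D12192 (iv D11183) (iv D10261) (iv F40535)
def n12193 : Q := act 4 n11173
theorem D12193 : act 4 n11173 = n12193 := rfl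
theorem F48107 : act 0 n12193 = n11208 := d3_1 D12193 (iv D11208) (iv F44069)
theorem F48108 : act 3 n12193 = n12193 := d21_1 D12193 (iv D12193) (iv D11173) F40541 D11173
def n12194 : Q := act 8 n11173
theorem D12194 : act 8 n11173 = n12194 := rfl
theorem F48109 : act 0 n12194 = n11209 := d7_1 D12194 (iv D11209) (iv F44069)
theorem F48110 : act 3 n12194 = n11174 := d25_1 D12194 (iv D11174) D11173
theorem F48111 : act 5 n12194 = n11177 := d32_1 D12194 (iv D11177) (iv F44070)
def n12195 : Q := act 1 n11175
theorem D12195 : act 1 n11175 = n12195 := rfl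
theorem F48112 : act 0 n12195 = n11659 := d0_1 D12195 (iv D11659) F42238 (iv F40637) (iv F44075)
theorem F48113 : act 3 n12195 = n11192 := d9_2 (iv F44076) D12195 (iv D11192)
theorem F48114 : act 6 n12195 = n11178 := d12_2 (iv F44077) D12195 (iv D11178)
def n12196 : Q := act 4 n11175
theorem D12196 : act 4 n11175 = n12196 := rfl
theorem F48115 : act 0 n12196 = n11210 := d3_1 D12196 (iv D11210) (iv F44075)
theorem F48116 : act 2 n12196 = n11176 := d16_1 D12196 (iv D11176) D11175
theorem F48117 : act 3 n12196 = n12196 := d21_1 D12196 (iv D12196) F44076 F40595 (iv F44076)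
theorem F48118 : act 6 n12196 = n11179 := d27_2 (iv F44077) D12196 (iv D11179)
theorem F48119 : act 7 n12196 = n11584 := d28_2 F48083 D12196 (iv F48081)
def n12197 : Q := act 8 n11175
theorem D12197 : act 8 n11175 = n12197 := rfl
theorem F48120 : act 0 n12197 = n11211 := d7_1 D12197 (iv D11211) (iv F44075)
theorem F48121 : act 2 n12197 = n11177 := d20_1 D12197 (iv D11177) D11175
theorem F48122 : act 3 n12197 = n11193 := d25_1 D12197 (iv D11193) (iv F44076)
theorem F48123 : act 6 n12197 = n11180 := d34_1 D12197 (iv D11180) (iv F44077)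
def n12198 : Q := act 5 n11176
theorem D12198 : act 5 n11176 = n12198 := rfl
theorem F48124 : act 0 n12198 = n11212 := d4_1 D12198 (iv D11212) (iv F44078)
theorem F48125 : act 3 n12198 = n11184 := d22_1 D12198 (iv D11184) (iv F44079)
theorem F48126 : act 7 n12198 = n11583 := d31_2 (iv F44081) D12198 F45576
def n12199 : Q := act 8 n11176
theorem D12199 : act 8 n11176 = n12199 := rfl
theorem F48127 : act 0 n12199 = n11213 := d7_1 D12199 (iv D11213) (iv F44078)
theorem F48128 : act 3 n12199 = n11185 := d25_1 D12199 (iv D11185) (iv F44079)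
theorem F48129 : act 4 n12199 = n11177 := d29_1 D12199 (iv D11177) D11176
theorem F48130 : act 6 n12199 = n11182 := d34_1 D12199 (iv D11182) (iv F44080)
def n12200 : Q := act 7 n11177
theorem D12200 : act 7 n11177 = n12200 := rfl
theorem F48131 : act 0 n12200 = n11214 := d6_1 D12200 (iv D11214) (iv F44082)
theorem F48132 : act 6 n12200 = n11183 := d33_1 D12200 (iv D11183) (iv F44084)
def n12201 : Q := act 0 n11178
theorem D12201 : act 0 n11178 = n12201 := rfl
theorem F48133 : act 1 n12201 = n11215 := d0_2 D11178 D12201 (iv D11215) (iv D10287) (iv F40549)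
theorem F48134 : act 3 n12201 = n11195 := d2_2 (iv F44085) D12201 (iv D11195)
theorem F48135 : act 6 n12201 = n11659 := d5_2 F48114 D12201 (iv F48112)
def n12202 : Q := act 4 n11178
theorem D12202 : act 4 n11178 = n12202 := rfl
theorem F48136 : act 1 n12202 = n11179 := d10_1 D12202 (iv D11179) D11178
theorem F48137 : act 3 n12202 = n12202 := d21_1 D12202 (iv D12202) F44085 F40602 (iv F44085)
def n12203 : Q := act 8 n11178
theorem D12203 : act 8 n11178 = n12203 := rfl
theorem F48138 : act 1 n12203 = n11180 := d14_1 D12203 (iv D11180) D11178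
theorem F48139 : act 3 n12203 = n11196 := d25_1 D12203 (iv D11196) (iv F44085)
def n12204 : Q := act 5 n11179
theorem D12204 : act 5 n11179 = n12204 := rfl
theorem F48140 : act 0 n12204 = n11218 := d4_1 D12204 (iv D11218) (iv F44086)
theorem F48141 : act 2 n12204 = n11181 := d17_1 D12204 (iv D11181) (iv F44087)
theorem F48142 : act 3 n12204 = n12204 := d22_1 D12204 (iv D12204) F44088
def n12205 : Q := act 8 n11179
theorem D12205 : act 8 n11179 = n12205 := rfl
theorem F48143 : act 0 n12205 = n11219 := d7_1 D12205 (iv D11219) (iv F44086)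
theorem F48144 : act 2 n12205 = n11182 := d20_1 D12205 (iv D11182) (iv F44087)
theorem F48145 : act 3 n12205 = n12205 := d25_1 D12205 (iv D12205) F44088
theorem F48146 : act 4 n12205 = n11180 := d29_1 D12205 (iv D11180) D11179
def n12206 : Q := act 7 n11180
theorem D12206 : act 7 n11180 = n12206 := rfl
theorem F48147 : act 0 n12206 = n11220 := d6_1 D12206 (iv D11220) (iv F44089)
theorem F48148 : act 2 n12206 = n11183 := d19_1 D12206 (iv D11183) (iv F44090)
def n12207 : Q := act 6 n11181
theorem D12207 : act 6 n11181 = n12207 := rfl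
theorem F48149 : act 0 n12207 = n11221 := d5_1 D12207 (iv D11221) (iv F44092)
theorem F48150 : act 3 n12207 = n11186 := d23_1 D12207 (iv D11186) (iv F44093)
def n12208 : Q := act 8 n11181
theorem D12208 : act 8 n11181 = n12208 := rfl
theorem F48151 : act 0 n12208 = n11222 := d7_1 D12208 (iv D11222) (iv F44092)
theorem F48152 : act 3 n12208 = n11187 := d25_1 D12208 (iv D11187) (iv F44093)
theorem F48153 : act 5 n12208 = n11182 := d32_1 D12208 (iv D11182) D11181
def n12209 : Q := act 7 n11182
theorem D12209 : act 7 n11182 = n12209 := rfl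
theorem F48154 : act 0 n12209 = n11223 := d6_1 D12209 (iv D11223) (iv F44094)
theorem F48155 : act 4 n12209 = n11183 := d28_1 D12209 (iv D11183) (iv F44096)
def n12210 : Q := act 6 n11184
theorem D12210 : act 6 n11184 = n12210 := rfl
theorem F48156 : act 0 n12210 = n11224 := d5_1 D12210 (iv D11224) (iv F44098)
theorem F48157 : act 2 n12210 = n12210 := d18_1 D12210 (iv D12210) F44099
theorem F48158 : act 4 n12210 = n12210 := d27_1 D12210 (iv D12210) F44100
theorem F48159 : act 5 n12210 = n11186 := d30_1 D12210 (iv D11186) (iv D10264) (iv F40557) D11184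
theorem F48160 : act 7 n12210 = n11517 := d33_2 (iv F44101) D12210 (iv D11517)
def n12211 : Q := act 8 n11184
theorem D12211 : act 8 n11184 = n12211 := rfl
theorem F48161 : act 0 n12211 = n11225 := d7_1 D12211 (iv D11225) (iv F44098)
theorem F48162 : act 2 n12211 = n12211 := d20_1 D12211 (iv D12211) F44099
theorem F48163 : act 4 n12211 = n12211 := d29_1 D12211 (iv D12211) F44100
theorem F48164 : act 5 n12211 = n11185 := d32_1 D12211 (iv D11185) D11184
theorem F48165 : act 7 n12211 = n11581 := d35_1 D12211 (iv D11581) F41857 (iv F41660) (iv F44101)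
def n12212 : Q := act 8 n11186
theorem D12212 : act 8 n11186 = n12212 := rfl
theorem F48166 : act 0 n12212 = n11226 := d7_1 D12212 (iv D11226) (iv F44107)
theorem F48167 : act 2 n12212 = n12212 := d20_1 D12212 (iv D12212) F44108
theorem F48168 : act 4 n12212 = n11189 := d29_1 D12212 (iv D11189) (iv F44109)
theorem F48169 : act 6 n12212 = n11187 := d34_1 D12212 (iv D11187) D11186
def n12213 : Q := act 7 n11187
theorem D12213 : act 7 n11187 = n12213 := rfl
theorem F48170 : act 0 n12213 = n11227 := d6_1 D12213 (iv D11227) (iv F44111)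
theorem F48171 : act 2 n12213 = n12213 := d19_1 D12213 (iv D12213) F44112
theorem F48172 : act 4 n12213 = n11190 := d28_1 D12213 (iv D11190) (iv F44113)
theorem F48173 : act 5 n12213 = n11188 := d31_1 D12213 (iv D11188) (iv F44114)
theorem F48174 : act 8 n12213 = n11519 := d35_2 D11187 D12213 (iv D11519) (iv D10560) (iv F40568)
def n12214 : Q := act 3 n11188
theorem D12214 : act 3 n11188 = n12214 := rfl
theorem F48175 : act 0 n12214 = n11228 := d2_1 D12214 (iv D11228) (iv F44115)
theorem F48176 : act 4 n12214 = n11330 := d21_2 (iv F44117) D12214 F44597 F40964 (iv F40574)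
theorem F48177 : act 6 n12214 = n11335 := d23_2 (iv F44118) D12214 F44615
theorem F48178 : act 8 n12214 = n11329 := d25_2 (iv F44119) D12214 F44592
theorem F48179 : act 2 n11715 = n12214 := d20_3 F48178 F44591 D11715
def n12215 : Q := act 7 n11189
theorem D12215 : act 7 n11189 = n12215 := rfl
theorem F48180 : act 0 n12215 = n11229 := d6_1 D12215 (iv D11229) (iv F44120)
theorem F48181 : act 2 n12215 = n12215 := d19_1 D12215 (iv D12215) F44121
theorem F48182 : act 5 n12215 = n12215 := d31_1 D12215 (iv D12215) F44122
theorem F48183 : act 6 n12215 = n11190 := d33_1 D12215 (iv D11190) (iv F44123)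
theorem F48184 : act 8 n12215 = n11520 := d35_2 D11189 D12215 (iv D11520) (iv D10562) (iv F40581)
def n12216 : Q := act 3 n11190
theorem D12216 : act 3 n11190 = n12216 := rfl
theorem F48185 : act 0 n12216 = n11230 := d2_1 D12216 (iv D11230) (iv F44124)
theorem F48186 : act 5 n12216 = n11191 := d22_2 (iv F44126) D12216 (iv D11191)
theorem F48187 : act 8 n12216 = n11521 := d25_2 (iv F44127) D12216 (iv D11521)
def n12217 : Q := act 2 n11191
theorem D12217 : act 2 n11191 = n12217 := rfl
theorem F48188 : act 0 n12217 = n11231 := d1_1 D12217 (iv D11231) (iv F44128)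
theorem F48189 : act 3 n12217 = n12217 := d15_2 D11191 D12217 (iv D12217) (iv D11191) F40586
theorem F48190 : act 6 n12217 = n12217 := d18_2 F44129 D12217 (iv D12217)
theorem F48191 : act 8 n12217 = n11522 := d20_2 (iv F44130) D12217 (iv D11522)
def n12218 : Q := act 8 n11192
theorem D12218 : act 8 n11192 = n12218 := rfl
theorem F48192 : act 0 n12218 = n11671 := d7_1 D12218 (iv D11671) (iv F44131)
theorem F48193 : act 1 n12218 = n11193 := d14_1 D12218 (iv D11193) D11192
theorem F48194 : act 4 n12218 = n12218 := d29_1 D12218 (iv D12218) F44132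
theorem F48195 : act 6 n12218 = n11196 := d34_1 D12218 (iv D11196) (iv F44133)
def n12219 : Q := act 7 n11193
theorem D12219 : act 7 n11193 = n12219 := rfl
theorem F48196 : act 0 n12219 = n11232 := d6_1 D12219 (iv D11232) (iv F44135)
theorem F48197 : act 2 n12219 = n11194 := d19_1 D12219 (iv D11194) (iv F44136)
theorem F48198 : act 4 n12219 = n12219 := d28_1 D12219 (iv D12219) F44137
theorem F48199 : act 6 n12219 = n11197 := d33_1 D12219 (iv D11197) (iv F44138)
theorem F48200 : act 8 n12219 = n12219 := d35_2 D11193 D12219 (iv D12219) (iv D11193) F40597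
def n12220 : Q := act 8 n11195
theorem D12220 : act 8 n11195 = n12220 := rfl
theorem F48201 : act 0 n12220 = n11196 := d7_1 D12220 (iv D11196) D11195
theorem F48202 : act 1 n12220 = n11233 := d14_1 D12220 (iv D11233) (iv F44143)
theorem F48203 : act 2 n12220 = n12218 := d20_1 D12220 (iv D12218) (iv F44144)
theorem F48204 : act 4 n12220 = n12220 := d29_1 D12220 (iv D12220) F44145
theorem F48205 : act 6 n12220 = n11671 := d34_1 D12220 (iv D11671) (iv F44146)
def n12221 : Q := act 7 n11196
theorem D12221 : act 7 n11196 = n12221 := rfl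
theorem F48206 : act 1 n12221 = n11197 := d13_1 D12221 (iv D11197) (iv F44148)
theorem F48207 : act 4 n12221 = n12221 := d28_1 D12221 (iv D12221) F44149
theorem F48208 : act 8 n12221 = n12221 := d35_2 D11196 D12221 (iv D12221) (iv D11196) F40603
def n12222 : Q := act 3 n11197
theorem D12222 : act 3 n11197 = n12222 := rfl
theorem F48209 : act 0 n12222 = n11235 := d2_1 D12222 (iv D11235) (iv F44150)
theorem F48210 : act 8 n12222 = n12222 := d25_2 F44153 D12222 (iv D12222)
def n12223 : Q := act 8 n11198
theorem D12223 : act 8 n11198 = n12223 := rfl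
theorem F48211 : act 1 n12223 = n11274 := d14_1 D12223 (iv D11274) (iv F44154)
theorem F48212 : act 3 n12223 = n11199 := d25_1 D12223 (iv D11199) D11198
theorem F48213 : act 5 n12223 = n11201 := d32_1 D12223 (iv D11201) (iv F44155)
def n12224 : Q := act 8 n11200
theorem D12224 : act 8 n11200 = n12224 := rfl
theorem F48214 : act 1 n12224 = n11673 := d14_1 D12224 (iv D11673) (iv F44162)
theorem F48215 : act 2 n12224 = n11201 := d20_1 D12224 (iv D11201) D11200
theorem F48216 : act 3 n12224 = n12224 := d25_1 D12224 (iv D12224) F44163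
theorem F48217 : act 4 n12224 = n11388 := d29_1 D12224 F44784 (iv F44164)
theorem F48218 : act 6 n12224 = n11204 := d34_1 D12224 (iv D11204) (iv F44165)
def n12225 : Q := act 7 n11201
theorem D12225 : act 7 n11201 = n12225 := rfl
theorem F48219 : act 1 n12225 = n11360 := d13_1 D12225 (iv D11360) (iv F44167)
theorem F48220 : act 3 n12225 = n11281 := d24_1 D12225 (iv D11281) F40861 (iv F40622) (iv F44168)
theorem F48221 : act 4 n12225 = n11383 := d28_1 D12225 F44767 (iv F44169)
theorem F48222 : act 6 n12225 = n11207 := d33_1 D12225 (iv D11207) (iv F44170)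
theorem F48223 : act 8 n12225 = n11214 := d35_2 D11201 D12225 (iv D11214) (iv D10286) (iv F40617)
def n12226 : Q := act 0 n11202
theorem D12226 : act 0 n11202 = n12226 := rfl
theorem F48224 : act 2 n12226 = n11361 := d1_2 (iv F44171) D12226 (iv D11361)
theorem F48225 : act 3 n12226 = n12226 := d2_2 F44172 D12226 (iv D12226)
theorem F48226 : act 6 n12226 = n11656 := d5_2 (iv F44173) D12226 F45888
theorem F48227 : act 7 n12226 = n11215 := d6_2 (iv F44174) D12226 (iv D11215)
def n12227 : Q := act 8 n11202
theorem D12227 : act 8 n11202 = n12227 := rfl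
theorem F48228 : act 1 n12227 = n11204 := d14_1 D12227 (iv D11204) D11202
theorem F48229 : act 2 n12227 = n11363 := d20_1 D12227 (iv D11363) (iv F44171)
theorem F48230 : act 3 n12227 = n12227 := d25_1 D12227 (iv D12227) F44172
theorem F48231 : act 6 n12227 = n11673 := d34_1 D12227 (iv D11673) (iv F44173)
def n12228 : Q := act 8 n11203
theorem D12228 : act 8 n11203 = n12228 := rfl
theorem F48232 : act 2 n12228 = n11206 := d20_1 D12228 (iv D11206) (iv F44175)
theorem F48233 : act 3 n12228 = n11481 := d25_1 D12228 F45165 F44178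
theorem F48234 : act 4 n12228 = n11204 := d29_1 D12228 (iv D11204) D11203
theorem F48235 : act 6 n12228 = n11388 := d34_1 D12228 F44784 (iv F44176)
def n12229 : Q := act 7 n11204
theorem D12229 : act 7 n11204 = n12229 := rfl
theorem F48236 : act 2 n12229 = n11207 := d19_1 D12229 (iv D11207) (iv F44179)
theorem F48237 : act 8 n12229 = n11220 := d35_2 D11204 D12229 (iv D11220) (iv D10289) (iv F40624)
def n12230 : Q := act 8 n11205
theorem D12230 : act 8 n11205 = n12230 := rfl
theorem F48238 : act 1 n12230 = n11368 := d14_1 D12230 (iv D11368) (iv F44181)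
theorem F48239 : act 3 n12230 = n11385 := d25_1 D12230 F44776 (iv F44182)
theorem F48240 : act 5 n12230 = n11206 := d32_1 D12230 (iv D11206) D11205
def n12231 : Q := act 7 n11206
theorem D12231 : act 7 n11206 = n12231 := rfl
theorem F48241 : act 1 n12231 = n11369 := d13_1 D12231 (iv D11369) (iv F44184)
theorem F48242 : act 3 n12231 = n11372 := d24_1 D12231 (iv D11372) F41077 D10428 (iv F44185)
theorem F48243 : act 4 n12231 = n11207 := d28_1 D12231 (iv D11207) (iv F44186)
theorem F48244 : act 6 n12231 = n11383 := d33_1 D12231 F44767 (iv F44187)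
theorem F48245 : act 8 n12231 = n11223 := d35_2 D11206 D12231 (iv D11223) (iv D10291) (iv F40628)
def n12232 : Q := act 8 n11208
theorem D12232 : act 8 n11208 = n12232 := rfl
theorem F48246 : act 1 n12232 = n11278 := d14_1 D12232 (iv D11278) (iv F44190)
theorem F48247 : act 3 n12232 = n12232 := d25_1 D12232 (iv D12232) F44191
theorem F48248 : act 4 n12232 = n11209 := d29_1 D12232 (iv D11209) D11208
def n12233 : Q := act 7 n11209
theorem D12233 : act 7 n11209 = n12233 := rfl
theorem F48249 : act 1 n12233 = n11279 := d13_1 D12233 (iv D11279) (iv F44192)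
theorem F48250 : act 5 n12233 = n11214 := d31_1 D12233 (iv D11214) (iv F44194)
def n12234 : Q := act 8 n11210
theorem D12234 : act 8 n11210 = n12234 := rfl
theorem F48251 : act 1 n12234 = n11676 := d14_1 D12234 (iv D11676) (iv F44195)
theorem F48252 : act 2 n12234 = n11213 := d20_1 D12234 (iv D11213) (iv F44196)
theorem F48253 : act 3 n12234 = n12234 := d25_1 D12234 (iv D12234) F44197
theorem F48254 : act 4 n12234 = n11211 := d29_1 D12234 (iv D11211) D11210
theorem F48255 : act 6 n12234 = n11219 := d34_1 D12234 (iv D11219) (iv F44198)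
def n12235 : Q := act 7 n11211
theorem D12235 : act 7 n11211 = n12235 := rfl
theorem F48256 : act 1 n12235 = n11677 := d13_1 D12235 (iv D11677) (iv F44200)
theorem F48257 : act 2 n12235 = n11214 := d19_1 D12235 (iv D11214) (iv F44201)
theorem F48258 : act 6 n12235 = n11220 := d33_1 D12235 (iv D11220) (iv F44203)
def n12236 : Q := act 8 n11212
theorem D12236 : act 8 n11212 = n12236 := rfl
theorem F48259 : act 1 n12236 = n11371 := d14_1 D12236 (iv D11371) (iv F44204)
theorem F48260 : act 3 n12236 = n11225 := d25_1 D12236 (iv D11225) (iv F44205)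
theorem F48261 : act 5 n12236 = n11213 := d32_1 D12236 (iv D11213) D11212
def n12237 : Q := act 7 n11213
theorem D12237 : act 7 n11213 = n12237 := rfl
theorem F48262 : act 1 n12237 = n11372 := d13_1 D12237 (iv D11372) (iv F44207)
theorem F48263 : act 3 n12237 = n11369 := d24_1 D12237 (iv D11369) F41071 (iv F40668) (iv F44208)
theorem F48264 : act 4 n12237 = n11214 := d28_1 D12237 (iv D11214) (iv F44209)
theorem F48265 : act 6 n12237 = n11223 := d33_1 D12237 (iv D11223) (iv F44210)
theorem F48266 : act 8 n12237 = n11383 := d35_2 D11213 D12237 F44767 F41121 (iv F40643)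
def n12238 : Q := act 4 n11215
theorem D12238 : act 4 n11215 = n12238 := rfl
theorem F48267 : act 0 n12238 = n11216 := d3_1 D12238 (iv D11216) D11215
theorem F48268 : act 2 n12238 = n11373 := d16_1 D12238 (iv D11373) (iv F44213)
theorem F48269 : act 3 n12238 = n12238 := d21_1 D12238 (iv D12238) F44214 F40702 (iv F44214)
theorem F48270 : act 6 n12238 = n11660 := d27_2 (iv F44215) D12238 (iv D11660)
def n12239 : Q := act 8 n11215
theorem D12239 : act 8 n11215 = n12239 := rfl
theorem F48271 : act 0 n12239 = n11217 := d7_1 D12239 (iv D11217) D11215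
theorem F48272 : act 2 n12239 = n11374 := d20_1 D12239 (iv D11374) (iv F44213)
theorem F48273 : act 3 n12239 = n11233 := d25_1 D12239 (iv D11233) (iv F44214)
theorem F48274 : act 6 n12239 = n11661 := d34_1 D12239 (iv D11661) (iv F44215)
def n12240 : Q := act 8 n11216
theorem D12240 : act 8 n11216 = n12240 := rfl
theorem F48275 : act 1 n12240 = n11219 := d14_1 D12240 (iv D11219) (iv F44216)
theorem F48276 : act 2 n12240 = n11376 := d20_1 D12240 (iv D11376) (iv F44217)
theorem F48277 : act 3 n12240 = n12240 := d25_1 D12240 (iv D12240) F44218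
theorem F48278 : act 4 n12240 = n11217 := d29_1 D12240 (iv D11217) D11216
theorem F48279 : act 6 n12240 = n11676 := d34_1 D12240 (iv D11676) (iv F44219)
def n12241 : Q := act 7 n11217
theorem D12241 : act 7 n11217 = n12241 := rfl
theorem F48280 : act 1 n12241 = n11220 := d13_1 D12241 (iv D11220) (iv F44220)
theorem F48281 : act 2 n12241 = n11377 := d19_1 D12241 (iv D11377) (iv F44221)
theorem F48282 : act 6 n12241 = n11677 := d33_1 D12241 (iv D11677) (iv F44223)
def n12242 : Q := act 8 n11218
theorem D12242 : act 8 n11218 = n12242 := rfl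
theorem F48283 : act 2 n12242 = n11222 := d20_1 D12242 (iv D11222) (iv F44224)
theorem F48284 : act 3 n12242 = n12242 := d25_1 D12242 (iv D12242) F44225
theorem F48285 : act 5 n12242 = n11219 := d32_1 D12242 (iv D11219) D11218
def n12243 : Q := act 7 n11219
theorem D12243 : act 7 n11219 = n12243 := rfl
theorem F48286 : act 2 n12243 = n11223 := d19_1 D12243 (iv D11223) (iv F44226)
theorem F48287 : act 4 n12243 = n11220 := d28_1 D12243 (iv D11220) (iv F44228)
def n12244 : Q := act 3 n11220
theorem D12244 : act 3 n11220 = n12244 := rfl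
theorem F48288 : act 7 n12244 = n11235 := d24_2 D11220 D12244 (iv D11235) (iv D10305) (iv F40653)
def n12245 : Q := act 8 n11221
theorem D12245 : act 8 n11221 = n12245 := rfl
theorem F48289 : act 1 n12245 = n11381 := d14_1 D12245 (iv D11381) (iv F44230)
theorem F48290 : act 3 n12245 = n11226 := d25_1 D12245 (iv D11226) (iv F44231)
theorem F48291 : act 6 n12245 = n11222 := d34_1 D12245 (iv D11222) D11221
def n12246 : Q := act 7 n11222
theorem D12246 : act 7 n11222 = n12246 := rfl
theorem F48292 : act 1 n12246 = n11382 := d13_1 D12246 (iv D11382) (iv F44232)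
theorem F48293 : act 5 n12246 = n11223 := d31_1 D12246 (iv D11223) (iv F44234)
def n12247 : Q := act 3 n11223
theorem D12247 : act 3 n11223 = n12247 := rfl
theorem F48294 : act 1 n12247 = n11383 := d9_1 D12247 (iv D11383) (iv F44235)
theorem F48295 : act 4 n12247 = n11360 := d21_2 (iv F44236) D12247 (iv F47880) F47881 F43905
theorem F48296 : act 6 n12247 = n11369 := d23_2 F48265 D12247 (iv F48263)
theorem F48297 : act 7 n12247 = n11228 := d24_2 D11223 D12247 (iv D11228) (iv D10297) (iv F40657)
theorem F48298 : act 8 n12247 = n11372 := d25_2 F48245 D12247 (iv F48242)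
theorem F48299 : act 2 n11727 = n12247 := d20_3 F48298 F44738 (iv F46096)
def n12248 : Q := act 8 n11224
theorem D12248 : act 8 n11224 = n12248 := rfl
theorem F48300 : act 1 n12248 = n11384 := d14_1 D12248 (iv D11384) (iv F44237)
theorem F48301 : act 2 n12248 = n12248 := d20_1 D12248 (iv D12248) F44238
theorem F48302 : act 4 n12248 = n12248 := d29_1 D12248 (iv D12248) F44239
theorem F48303 : act 5 n12248 = n11226 := d32_1 D12248 (iv D11226) (iv F44240)
theorem F48304 : act 6 n12248 = n11225 := d34_1 D12248 (iv D11225) D11224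
theorem F48305 : act 7 n12248 = n11586 := d35_1 D12248 (iv D11586) F41891 (iv F41699) (iv F44241)
def n12249 : Q := act 7 n11226
theorem D12249 : act 7 n11226 = n12249 := rfl
theorem F48306 : act 1 n12249 = n11386 := d13_1 D12249 (iv D11386) (iv F44247)
theorem F48307 : act 2 n12249 = n12249 := d19_1 D12249 (iv D12249) F44248
theorem F48308 : act 4 n12249 = n11229 := d28_1 D12249 (iv D11229) (iv F44249)
theorem F48309 : act 5 n12249 = n11586 := d31_1 D12249 (iv F48305) F48303
theorem F48310 : act 6 n12249 = n11227 := d33_1 D12249 (iv D11227) (iv F44250)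
theorem F48311 : act 8 n12249 = n11524 := d35_2 D11226 D12249 (iv D11524) (iv D10568) (iv F40672)
def n12250 : Q := act 3 n11227
theorem D12250 : act 3 n11227 = n12250 := rfl
theorem F48312 : act 1 n12250 = n11387 := d9_1 D12250 (iv D11387) (iv F44251)
theorem F48313 : act 5 n12250 = n11228 := d22_2 (iv F44254) D12250 (iv D11228)
theorem F48314 : act 8 n12250 = n11359 := d25_2 (iv F44255) D12250 F44701
theorem F48315 : act 2 n11726 = n12250 := d36_7 D6297 (iv F32624) (iv F40852) (iv F43355) (iv F47362) F47361 F47359 (iv D12250) F44255 (iv D10569) F38901 (iv D6818) (iv D4977) (iv D3636) (iv F14101) F14102 F10524 F38883 (iv D1949) F5978 F4558 (iv D1062) F3444 F2596 F1964 F1486 (iv F1950) F1949 F1948 (iv D419) (iv D309) (iv D228) (iv F1058) F1059 D274 (iv F1362) F1361 (iv D284) (iv F1356) (iv F1781) D514 F2345 D696 F3094 (iv F3148) (iv F4134) F4131 F4132 D1300 D1768 (iv F9768) D3284 F13067 F10389 D3526 D4822 (iv F38611) (iv F18118) F18117 F13440 F13441 (iv F13274) F13276 D3368 (iv F38319) (iv F13279) F13278 F9914 F9913 (iv F9829)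 (iv F13096) D4497 F17621 F17619 F13160 F9833 F9149 (iv F12195) (iv F16341) (iv F21990) (iv D5671) F16339 (iv D4155) (iv F16335) (iv F21972) D7745 F29653 F38463 (iv D6296)
def n12251 : Q := act 3 n11232
theorem D12251 : act 3 n11232 = n12251 := rfl
theorem F48316 : act 1 n12251 = n11686 := d9_1 D12251 (iv D11686) (iv F44272)
theorem F48317 : act 6 n12251 = n11235 := d23_2 (iv F44275) D12251 (iv D11235)
theorem F48318 : act 8 n12251 = n12251 := d25_2 F44276 D12251 (iv D12251)
def n12252 : Q := act 7 n11233
theorem D12252 : act 7 n11233 = n12252 := rfl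
theorem F48319 : act 0 n12252 = n11234 := d6_1 D12252 (iv D11234) (iv F44277)
theorem F48320 : act 2 n12252 = n11236 := d19_1 D12252 (iv D11236) (iv F44278)
theorem F48321 : act 4 n12252 = n12252 := d28_1 D12252 (iv D12252) F44279
theorem F48322 : act 6 n12252 = n11672 := d33_1 D12252 (iv D11672) (iv F44280)
theorem F48323 : act 8 n12252 = n12252 := d35_2 D11233 D12252 (iv D12252) (iv D11233) F40704
def n12253 : Q := act 3 n11234
theorem D12253 : act 3 n11234 = n12253 := rfl
theorem F48324 : act 1 n12253 = n11235 := d9_1 D12253 (iv D11235) (iv F44281)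
theorem F48325 : act 6 n12253 = n11686 := d23_2 (iv F44284) D12253 (iv D11686)
theorem F48326 : act 8 n12253 = n12253 := d25_2 F44285 D12253 (iv D12253)
def n12254 : Q := act 4 n11235
theorem D12254 : act 4 n11235 = n12254 := rfl
theorem F48327 : act 3 n12254 = n12254 := d21_1 D12254 (iv D12254) (iv D11235) F40710 D11235
theorem F48328 : act 8 n12254 = n12254 := d29_2 F44286 D12254 (iv D12254)
def n12255 : Q := act 3 n11238
theorem D12255 : act 3 n11238 = n12255 := rfl
theorem F48329 : act 1 n12255 = n11390 := d9_1 D12255 (iv D11390) (iv F44298)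
theorem F48330 : act 5 n12255 = n11687 := d22_2 (iv F44301) D12255 (iv D11687)
theorem F48331 : act 7 n12255 = n11925 := d24_2 D11238 D12255 (iv D11925) (iv D10936) (iv F40722)
def n12256 : Q := act 8 n11238
theorem D12256 : act 8 n11238 = n12256 := rfl
theorem F48332 : act 1 n12256 = n11391 := d14_1 D12256 (iv D11391) (iv F44298)
theorem F48333 : act 2 n12256 = n11240 := d20_1 D12256 (iv D11240) (iv F44299)
theorem F48334 : act 4 n12256 = n11526 := d29_1 D12256 (iv D11526) (iv F44300)
theorem F48335 : act 5 n12256 = n11688 := d32_1 D12256 (iv D11688) (iv F44301)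
theorem F48336 : act 7 n12256 = n11288 := d35_1 D12256 (iv D11288) (iv D10353) (iv F40725) D11238
def n12257 : Q := act 2 n11239
theorem D12257 : act 2 n11239 = n12257 := rfl
theorem F48337 : act 5 n12257 = n11689 := d17_2 (iv F44303) D12257 (iv D11689)
theorem F48338 : act 7 n12257 = n11243 := d19_2 (iv F44304) D12257 (iv D11243)
def n12258 : Q := act 8 n11239
theorem D12258 : act 8 n11239 = n12258 := rfl
theorem F48339 : act 1 n12258 = n11261 := d14_1 D12258 (iv D11261) (iv F44302)
theorem F48340 : act 3 n12258 = n11240 := d25_1 D12258 (iv D11240) D11239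
theorem F48341 : act 5 n12258 = n11691 := d32_1 D12258 (iv D11691) (iv F44303)
def n12259 : Q := act 2 n11241
theorem D12259 : act 2 n11241 = n12259 := rfl
theorem F48342 : act 3 n12259 = n11936 := d15_2 D11241 D12259 (iv D11936) (iv D10942) (iv F40735)
theorem F48343 : act 6 n12259 = n11243 := d18_2 (iv F44310) D12259 (iv D11243)
def n12260 : Q := act 8 n11241
theorem D12260 : act 8 n11241 = n12260 := rfl
theorem F48344 : act 1 n12260 = n11262 := d14_1 D12260 (iv D11262) (iv F44309)
theorem F48345 : act 3 n12260 = n11242 := d25_1 D12260 (iv D11242) D11241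
theorem F48346 : act 6 n12260 = n11245 := d34_1 D12260 (iv D11245) (iv F44310)
def n12261 : Q := act 1 n11243
theorem D12261 : act 1 n11243 = n12261 := rfl
theorem F48347 : act 2 n12261 = n11263 := d8_2 D11243 D12261 (iv D11263) (iv D10328) (iv F40738)
theorem F48348 : act 3 n12261 = n11939 := d9_2 (iv F44316) D12261 (iv D11939)
theorem F48349 : act 5 n12261 = n11296 := d11_2 (iv F44317) D12261 F44491
def n12262 : Q := act 4 n11243
theorem D12262 : act 4 n11243 = n12262 := rfl
theorem F48350 : act 2 n12262 = n11244 := d16_1 D12262 (iv D11244) D11243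
def n12263 : Q := act 8 n11243
theorem D12263 : act 8 n11243 = n12263 := rfl
theorem F48351 : act 2 n12263 = n11245 := d20_1 D12263 (iv D11245) D11243
theorem F48352 : act 3 n12263 = n11941 := d25_1 D12263 (iv D11941) (iv F44316)
theorem F48353 : act 5 n12263 = n11693 := d32_1 D12263 (iv D11693) (iv F44317)
def n12264 : Q := act 5 n11244
theorem D12264 : act 5 n11244 = n12264 := rfl
theorem F48354 : act 1 n12264 = n11266 := d11_1 D12264 (iv D11266) (iv F44318)
theorem F48355 : act 3 n12264 = n11250 := d22_1 D12264 (iv D11250) (iv F44319)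
theorem F48356 : act 4 n12264 = n11694 := d26_1 D12264 (iv D11694) (iv D10745) (iv F40739) D11244
def n12265 : Q := act 8 n11244
theorem D12265 : act 8 n11244 = n12265 := rfl
theorem F48357 : act 1 n12265 = n11267 := d14_1 D12265 (iv D11267) (iv F44318)
theorem F48358 : act 3 n12265 = n11251 := d25_1 D12265 (iv D11251) (iv F44319)
theorem F48359 : act 4 n12265 = n11245 := d29_1 D12265 (iv D11245) D11244
def n12266 : Q := act 7 n11245
theorem D12266 : act 7 n11245 = n12266 := rfl
theorem F48360 : act 1 n12266 = n11268 := d13_1 D12266 (iv D11268) (iv F44320)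
theorem F48361 : act 3 n12266 = n11304 := d24_1 D12266 (iv D11304) F40902 (iv F40744) (iv F44321)
theorem F48362 : act 5 n12266 = n11696 := d31_1 D12266 (iv D11696) (iv F44322)
def n12267 : Q := act 8 n11246
theorem D12267 : act 8 n11246 = n12267 := rfl
theorem F48363 : act 0 n12267 = n11526 := d7_1 D12267 (iv D11526) (iv F44323)
theorem F48364 : act 1 n12267 = n12267 := d14_1 D12267 (iv D12267) F44324
theorem F48365 : act 2 n12267 = n11247 := d20_1 D12267 (iv D11247) D11246
theorem F48366 : act 3 n12267 = n11946 := d25_1 D12267 (iv D11946) (iv F44325)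
theorem F48367 : act 5 n12267 = n12267 := d32_1 D12267 (iv D12267) F44326
theorem F48368 : act 6 n12267 = n11249 := d34_1 D12267 (iv D11249) (iv F44327)
theorem F48369 : act 7 n12267 = n11491 := d35_1 D12267 (iv D11491) (iv D10536) (iv F41514) (iv F44328)
def n12268 : Q := act 3 n11248
theorem D12268 : act 3 n11248 = n12268 := rfl
theorem F48370 : act 1 n12268 = n12268 := d9_1 D12268 (iv D12268) F44335
theorem F48371 : act 4 n12268 = n11950 := d21_2 D11248 D12268 (iv D11950) (iv D10950) (iv F40756)
def n12269 : Q := act 5 n11248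
theorem D12269 : act 5 n11248 = n12269 := rfl
theorem F48372 : act 1 n12269 = n12269 := d11_1 D12269 (iv D12269) F44335
theorem F48373 : act 2 n12269 = n11250 := d17_1 D12269 (iv D11250) (iv F44336)
theorem F48374 : act 4 n12269 = n11254 := d26_1 D12269 (iv D11254) (iv D10319) (iv F40757) D11248
theorem F48375 : act 7 n12269 = n11528 := d31_2 (iv F44337) D12269 (iv D11528)
def n12270 : Q := act 8 n11248
theorem D12270 : act 8 n11248 = n12270 := rfl
theorem F48376 : act 1 n12270 = n12270 := d14_1 D12270 (iv D12270) F44335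
theorem F48377 : act 2 n12270 = n11251 := d20_1 D12270 (iv D11251) (iv F44336)
theorem F48378 : act 4 n12270 = n11249 := d29_1 D12270 (iv D11249) D11248
def n12271 : Q := act 7 n11249
theorem D12271 : act 7 n11249 = n12271 := rfl
theorem F48379 : act 0 n12271 = n11543 := d6_1 D12271 (iv F47764) F47758
theorem F48380 : act 1 n12271 = n12271 := d13_1 D12271 (iv D12271) F44338
theorem F48381 : act 2 n12271 = n11252 := d19_1 D12271 (iv D11252) (iv F44339)
theorem F48382 : act 5 n12271 = n11256 := d31_1 D12271 (iv D11256) (iv F44341)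
theorem F48383 : act 6 n12271 = n11491 := d33_1 D12271 (iv F48369) F48368
theorem F48384 : act 8 n12271 = n11489 := d35_2 D11249 D12271 (iv D11489) F41555 (iv F40758)
def n12272 : Q := act 8 n11250
theorem D12272 : act 8 n11250 = n12272 := rfl
theorem F48385 : act 1 n12272 = n11269 := d14_1 D12272 (iv D11269) (iv F44342)
theorem F48386 : act 4 n12272 = n11258 := d29_1 D12272 (iv D11258) (iv F44343)
theorem F48387 : act 5 n12272 = n11251 := d32_1 D12272 (iv D11251) D11250
def n12273 : Q := act 5 n11253
theorem D12273 : act 5 n11253 = n12273 := rfl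
theorem F48388 : act 1 n12273 = n12273 := d11_1 D12273 (iv D12273) F44353
theorem F48389 : act 2 n12273 = n11704 := d17_1 D12273 (iv D11704) (iv F44354)
theorem F48390 : act 3 n12273 = n11254 := d22_1 D12273 (iv D11254) D11253
def n12274 : Q := act 7 n11253
theorem D12274 : act 7 n11253 = n12274 := rfl
theorem F48391 : act 1 n12274 = n12274 := d13_1 D12274 (iv D12274) F44353
theorem F48392 : act 2 n12274 = n11705 := d19_1 D12274 (iv D11705) (iv F44354)
theorem F48393 : act 3 n12274 = n11530 := d24_1 D12274 (iv D11530) (iv D10577) (iv F40767) D11253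
theorem F48394 : act 4 n12274 = n11958 := d28_1 D12274 (iv D11958) (iv F44355)
theorem F48395 : act 6 n12274 = n12274 := d33_1 D12274 (iv D12274) F44356
theorem F48396 : act 8 n12174 = n12274 := d25_0 F48393 F45400 (iv F48034)
def n12275 : Q := act 8 n11253
theorem D12275 : act 8 n11253 = n12275 := rfl
theorem F48397 : act 1 n12275 = n12275 := d14_1 D12275 (iv D12275) F44353
theorem F48398 : act 2 n12275 = n11706 := d20_1 D12275 (iv D11706) (iv F44354)
theorem F48399 : act 3 n12275 = n11255 := d25_1 D12275 (iv D11255) D11253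
theorem F48400 : act 4 n12275 = n11959 := d29_1 D12275 (iv D11959) (iv F44355)
theorem F48401 : act 6 n12275 = n12275 := d34_1 D12275 (iv D12275) F44356
theorem F48402 : act 7 n12275 = n12175 := d35_1 D12275 (iv D12175) D12174 F48396 (iv D12274)
def n12276 : Q := act 6 n11254
theorem D12276 : act 6 n11254 = n12276 := rfl
theorem F48403 : act 1 n12276 = n12276 := d12_1 D12276 (iv D12276) F44357
theorem F48404 : act 2 n12276 = n11257 := d18_1 D12276 (iv D11257) (iv F44358)
theorem F48405 : act 5 n12276 = n12276 := d30_1 D12276 (iv D12276) (iv D11254) F40766 D11254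
theorem F48406 : act 7 n12276 = n11532 := d33_2 (iv F44359) D12276 (iv D11532)
def n12277 : Q := act 8 n11254
theorem D12277 : act 8 n11254 = n12277 := rfl
theorem F48407 : act 1 n12277 = n12277 := d14_1 D12277 (iv D12277) F44357
theorem F48408 : act 2 n12277 = n11258 := d20_1 D12277 (iv D11258) (iv F44358)
theorem F48409 : act 5 n12277 = n11255 := d32_1 D12277 (iv D11255) D11254
def n12278 : Q := act 7 n11255
theorem D12278 : act 7 n11255 = n12278 := rfl
theorem F48410 : act 1 n12278 = n12278 := d13_1 D12278 (iv D12278) F44360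
theorem F48411 : act 2 n12278 = n11259 := d19_1 D12278 (iv D11259) (iv F44361)
theorem F48412 : act 3 n12278 = n12178 := d24_1 D12278 (iv D12178) (iv F48038) (iv F48402) F48399
theorem F48413 : act 4 n12278 = n11256 := d28_1 D12278 (iv D11256) (iv F44362)
theorem F48414 : act 6 n12278 = n12278 := d33_1 D12278 (iv D12278) F44363
theorem F48415 : act 8 n12278 = n11534 := d35_2 D11255 D12278 (iv D11534) (iv D10579) (iv F40767)
def n12279 : Q := act 3 n11256
theorem D12279 : act 3 n11256 = n12279 := rfl
theorem F48416 : act 1 n12279 = n12279 := d9_1 D12279 (iv D12279) F44364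
theorem F48417 : act 2 n12279 = n11323 := d15_1 D12279 (iv D11323) F40938 (iv F40780) (iv F44365)
theorem F48418 : act 4 n12279 = n12179 := d21_2 F48413 D12279 (iv D12179) (iv F48052) (iv F48412)
theorem F48419 : act 6 n12279 = n12279 := d23_2 F44366 D12279 (iv D12279)
theorem F48420 : act 7 n12279 = n11963 := d24_2 D11256 D12279 (iv D11963) (iv D10958) (iv F40770)
theorem F48421 : act 8 n12279 = n11535 := d25_2 (iv F44367) D12279 (iv D11535)
def n12280 : Q := act 8 n11257
theorem D12280 : act 8 n11257 = n12280 := rfl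
theorem F48422 : act 1 n12280 = n11270 := d14_1 D12280 (iv D11270) (iv F44368)
theorem F48423 : act 3 n12280 = n11711 := d25_1 D12280 (iv D11711) (iv F44369)
theorem F48424 : act 5 n12280 = n12280 := d32_1 D12280 (iv D12280) F44370
theorem F48425 : act 6 n12280 = n11258 := d34_1 D12280 (iv D11258) D11257
def n12281 : Q := act 7 n11258
theorem D12281 : act 7 n11258 = n12281 := rfl
theorem F48426 : act 1 n12281 = n11271 := d13_1 D12281 (iv D11271) (iv F44372)
theorem F48427 : act 5 n12281 = n11259 := d31_1 D12281 (iv D11259) (iv F44374)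
theorem F48428 : act 8 n12281 = n11537 := d35_2 D11258 D12281 (iv D11537) (iv D10582) (iv F40774)
def n12282 : Q := act 3 n11259
theorem D12282 : act 3 n11259 = n12282 := rfl
theorem F48429 : act 1 n12282 = n11272 := d9_1 D12282 (iv D11272) (iv F44375)
theorem F48430 : act 2 n12282 = n12182 := d15_1 D12282 (iv D12182) (iv F48051) (iv F48412) F48411
theorem F48431 : act 4 n12282 = n11326 := d21_2 (iv F44376) D12282 (iv D11326) F40947 (iv F40780)
theorem F48432 : act 6 n12282 = n12282 := d23_2 F44377 D12282 (iv D12282)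
theorem F48433 : act 7 n12282 = n11713 := d24_2 D11259 D12282 (iv D11713) (iv D10758) (iv F40776)
theorem F48434 : act 8 n12282 = n11538 := d25_2 (iv F44378) D12282 (iv D11538)
def n12283 : Q := act 1 n11260
theorem D12283 : act 1 n11260 = n12283 := rfl
theorem F48435 : act 3 n12283 = n11290 := d9_2 (iv F44380) D12283 F44477
theorem F48436 : act 5 n12283 = n11291 := d11_2 (iv F44381) D12283 F44479
theorem F48437 : act 7 n12283 = n11263 := d13_2 (iv F44382) D12283 (iv D11263)
def n12284 : Q := act 8 n11260
theorem D12284 : act 8 n11260 = n12284 := rfl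
theorem F48438 : act 0 n12284 = n11274 := d7_1 D12284 (iv D11274) (iv F44379)
theorem F48439 : act 2 n12284 = n11261 := d20_1 D12284 (iv D11261) D11260
theorem F48440 : act 3 n12284 = n11328 := d25_1 D12284 (iv D11328) (iv F44380)
theorem F48441 : act 5 n12284 = n11330 := d32_1 D12284 (iv D11330) (iv F44381)
def n12285 : Q := act 7 n11261
theorem D12285 : act 7 n11261 = n12285 := rfl
theorem F48442 : act 0 n12285 = n11275 := d6_1 D12285 (iv D11275) (iv F44383)
theorem F48443 : act 3 n12285 = n11336 := d24_1 D12285 (iv D11336) F40974 (iv F40790) (iv F44384)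
theorem F48444 : act 5 n12285 = n11716 := d31_1 D12285 (iv D11716) (iv F44385)
theorem F48445 : act 8 n12285 = n11268 := d35_2 D11261 D12285 (iv D11268) (iv D10330) (iv F40785)
def n12286 : Q := act 7 n11262
theorem D12286 : act 7 n11262 = n12286 := rfl
theorem F48446 : act 0 n12286 = n11276 := d6_1 D12286 (iv D11276) (iv F44386)
theorem F48447 : act 3 n12286 = n11339 := d24_1 D12286 (iv D11339) F40981 (iv F40797) (iv F44387)
theorem F48448 : act 6 n12286 = n11268 := d33_1 D12286 (iv D11268) (iv F44388)
def n12287 : Q := act 4 n11263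
theorem D12287 : act 4 n11263 = n12287 := rfl
theorem F48449 : act 1 n12287 = n11264 := d10_1 D12287 (iv D11264) D11263
theorem F48450 : act 3 n12287 = n12287 := d21_1 D12287 (iv D12287) F44389 F40840 (iv F44389)
def n12288 : Q := act 8 n11263
theorem D12288 : act 8 n11263 = n12288 := rfl
theorem F48451 : act 1 n12288 = n11265 := d14_1 D12288 (iv D11265) D11263
theorem F48452 : act 3 n12288 = n11273 := d25_1 D12288 (iv D11273) (iv F44389)
theorem F48453 : act 5 n12288 = n11298 := d32_1 D12288 (iv D11298) (iv F44390)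
def n12289 : Q := act 5 n11264
theorem D12289 : act 5 n11264 = n12289 := rfl
theorem F48454 : act 0 n12289 = n11277 := d4_1 D12289 (iv D11277) (iv F44391)
theorem F48455 : act 2 n12289 = n11266 := d17_1 D12289 (iv D11266) (iv F44392)
theorem F48456 : act 3 n12289 = n12289 := d22_1 D12289 (iv D12289) F44393
theorem F48457 : act 4 n12289 = n11337 := d26_1 D12289 (iv D11337) (iv D10385) (iv F40800) D11264
def n12290 : Q := act 8 n11264
theorem D12290 : act 8 n11264 = n12290 := rfl
theorem F48458 : act 0 n12290 = n11278 := d7_1 D12290 (iv D11278) (iv F44391)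
theorem F48459 : act 2 n12290 = n11267 := d20_1 D12290 (iv D11267) (iv F44392)
theorem F48460 : act 3 n12290 = n12290 := d25_1 D12290 (iv D12290) F44393
theorem F48461 : act 4 n12290 = n11265 := d29_1 D12290 (iv D11265) D11264
def n12291 : Q := act 7 n11265
theorem D12291 : act 7 n11265 = n12291 := rfl
theorem F48462 : act 0 n12291 = n11279 := d6_1 D12291 (iv D11279) (iv F44394)
theorem F48463 : act 2 n12291 = n11268 := d19_1 D12291 (iv D11268) (iv F44395)
theorem F48464 : act 5 n12291 = n11339 := d31_1 D12291 (iv D11339) (iv F44397)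
def n12292 : Q := act 8 n11266
theorem D12292 : act 8 n11266 = n12292 := rfl
theorem F48465 : act 0 n12292 = n11280 := d7_1 D12292 (iv D11280) (iv F44398)
theorem F48466 : act 3 n12292 = n11269 := d25_1 D12292 (iv D11269) (iv F44399)
theorem F48467 : act 4 n12292 = n11718 := d29_1 D12292 (iv D11718) (iv F44400)
theorem F48468 : act 5 n12292 = n11267 := d32_1 D12292 (iv D11267) D11266
def n12293 : Q := act 7 n11267
theorem D12293 : act 7 n11267 = n12293 := rfl
theorem F48469 : act 0 n12293 = n11281 := d6_1 D12293 (iv D11281) (iv F44401)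
theorem F48470 : act 4 n12293 = n11268 := d28_1 D12293 (iv D11268) (iv F44403)
def n12294 : Q := act 7 n11270
theorem D12294 : act 7 n11270 = n12294 := rfl
theorem F48471 : act 0 n12294 = n11282 := d6_1 D12294 (iv D11282) (iv F44411)
theorem F48472 : act 2 n12294 = n12294 := d19_1 D12294 (iv D12294) F44412
theorem F48473 : act 5 n12294 = n12294 := d31_1 D12294 (iv D12294) F44414
theorem F48474 : act 6 n12294 = n11271 := d33_1 D12294 (iv D11271) (iv F44415)
theorem F48475 : act 8 n12294 = n11539 := d35_2 D11270 D12294 (iv D11539) (iv D10584) (iv F40829)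
def n12295 : Q := act 3 n11271
theorem D12295 : act 3 n11271 = n12295 := rfl
theorem F48476 : act 0 n12295 = n11283 := d2_1 D12295 (iv D11283) (iv F44416)
theorem F48477 : act 5 n12295 = n11272 := d22_2 (iv F44418) D12295 (iv D11272)
theorem F48478 : act 7 n12295 = n11724 := d24_2 D11271 D12295 (iv D11724) (iv D10768) (iv F40832)
theorem F48479 : act 8 n12295 = n11540 := d25_2 (iv F44419) D12295 (iv D11540)
def n12296 : Q := act 2 n11272
theorem D12296 : act 2 n11272 = n12296 := rfl
theorem F48480 : act 0 n12296 = n11284 := d1_1 D12296 (iv D11284) (iv F44420)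
theorem F48481 : act 1 n12296 = n12217 := d8_1 D12296 (iv D12217) (iv F48068) (iv F48430) F48429
theorem F48482 : act 3 n12296 = n12296 := d15_2 D11272 D12296 (iv D12296) (iv D11272) F40835
theorem F48483 : act 4 n12296 = n11357 := d16_2 (iv F44421) D12296 (iv D11357)
theorem F48484 : act 6 n12296 = n12296 := d18_2 F44422 D12296 (iv D12296)
theorem F48485 : act 7 n12296 = n11725 := d19_2 (iv F44423) D12296 (iv D11725)
theorem F48486 : act 8 n12296 = n11541 := d20_2 (iv F44424) D12296 (iv D11541)
def n12297 : Q := act 7 n11274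
theorem D12297 : act 7 n11274 = n12297 := rfl
theorem F48487 : act 2 n12297 = n11275 := d19_1 D12297 (iv D11275) (iv F44429)
theorem F48488 : act 5 n12297 = n11360 := d31_1 D12297 (iv D11360) (iv F44431)
theorem F48489 : act 8 n12297 = n11279 := d35_2 D11274 D12297 (iv D11279) (iv D10344) (iv F40849)
def n12298 : Q := act 8 n11277
theorem D12298 : act 8 n11277 = n12298 := rfl
theorem F48490 : act 2 n12298 = n11280 := d20_1 D12298 (iv D11280) (iv F44437)
theorem F48491 : act 3 n12298 = n12298 := d25_1 D12298 (iv D12298) F44438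
theorem F48492 : act 4 n12298 = n11371 := d29_1 D12298 (iv D11371) (iv F44439)
theorem F48493 : act 5 n12298 = n11278 := d32_1 D12298 (iv D11278) D11277
def n12299 : Q := act 7 n11278
theorem D12299 : act 7 n11278 = n12299 := rfl
theorem F48494 : act 2 n12299 = n11281 := d19_1 D12299 (iv D11281) (iv F44440)
theorem F48495 : act 4 n12299 = n11279 := d28_1 D12299 (iv D11279) (iv F44442)
def n12300 : Q := act 7 n11280
theorem D12300 : act 7 n11280 = n12300 := rfl
theorem F48496 : act 4 n12300 = n11729 := d28_1 D12300 (iv D11729) (iv F44446)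
theorem F48497 : act 5 n12300 = n11281 := d31_1 D12300 (iv D11281) (iv F44447)
def n12301 : Q := act 4 n11285
theorem D12301 : act 4 n11285 = n12301 := rfl
theorem F48498 : act 0 n12301 = n11533 := d3_1 D12301 (iv F47909) F47905
theorem F48499 : act 1 n12301 = n11396 := d10_1 D12301 (iv D11396) (iv F44461)
theorem F48500 : act 2 n12301 = n11289 := d16_1 D12301 (iv D11289) (iv F44462)
theorem F48501 : act 5 n12301 = n11485 := d26_2 D11285 D12301 F45180 F41528 (iv F40881)
theorem F48502 : act 8 n12301 = n11484 := d29_2 F47523 D12301 F47525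
def n12302 : Q := act 7 n11285
theorem D12302 : act 7 n11285 = n12302 := rfl
theorem F48503 : act 1 n12302 = n11393 := d13_1 D12302 F44804 (iv F44461)
theorem F48504 : act 2 n12302 = n11290 := d19_1 D12302 (iv D11290) (iv F44462)
theorem F48505 : act 5 n12302 = n11286 := d31_1 D12302 (iv D11286) D11285
def n12303 : Q := act 3 n11286
theorem D12303 : act 3 n11286 = n12303 := rfl
theorem F48506 : act 1 n12303 = n11398 := d9_1 D12303 (iv D11398) (iv F44464)
theorem F48507 : act 6 n12303 = n11287 := d23_2 (iv F44467) D12303 (iv D11287)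
def n12304 : Q := act 8 n11286
theorem D12304 : act 8 n11286 = n12304 := rfl
theorem F48508 : act 1 n12304 = n11399 := d14_1 D12304 (iv D11399) (iv F44464)
theorem F48509 : act 2 n12304 = n11292 := d20_1 D12304 (iv D11292) (iv F44465)
theorem F48510 : act 4 n12304 = n11543 := d29_1 D12304 (iv D11543) (iv F44466)
theorem F48511 : act 6 n12304 = n11288 := d34_1 D12304 (iv D11288) (iv F44467)
def n12305 : Q := act 2 n11287
theorem D12305 : act 2 n11287 = n12305 := rfl
theorem F48512 : act 3 n12305 = n11293 := d15_2 D11287 D12305 (iv D11293) (iv D10356) (iv F40883)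
def n12306 : Q := act 4 n11287
theorem D12306 : act 4 n11287 = n12306 := rfl
theorem F48513 : act 1 n12306 = n11401 := d10_1 D12306 (iv D11401) (iv F44468)
theorem F48514 : act 3 n12306 = n11545 := d21_1 D12306 (iv D11545) (iv D10591) (iv F40884) D11287
def n12307 : Q := act 8 n11287
theorem D12307 : act 8 n11287 = n12307 := rfl
theorem F48515 : act 1 n12307 = n11402 := d14_1 D12307 (iv D11402) (iv F44468)
theorem F48516 : act 3 n12307 = n11288 := d25_1 D12307 (iv D11288) D11287
def n12308 : Q := act 7 n11289
theorem D12308 : act 7 n11289 = n12308 := rfl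
theorem F48517 : act 0 n12308 = n11537 := d6_1 D12308 (iv D11537) (iv F44472)
theorem F48518 : act 1 n12308 = n11327 := d13_1 D12308 (iv D11327) (iv F44473)
theorem F48519 : act 4 n12308 = n11290 := d28_1 D12308 (iv D11290) D11289
theorem F48520 : act 5 n12308 = n11487 := d31_1 D12308 (iv D11487) (iv F44475)
def n12309 : Q := act 8 n11290
theorem D12309 : act 8 n11290 = n12309 := rfl
theorem F48521 : act 1 n12309 = n11328 := d14_1 D12309 (iv D11328) (iv F44477)
theorem F48522 : act 5 n12309 = n11292 := d32_1 D12309 (iv D11292) (iv F44478)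
def n12310 : Q := act 2 n11291
theorem D12310 : act 2 n11291 = n12310 := rfl
theorem F48523 : act 1 n12310 = n11689 := d8_1 D12310 (iv D11689) F42323 (iv F40959) (iv F44479)
theorem F48524 : act 6 n12310 = n11293 := d18_2 (iv F44480) D12310 (iv D11293)
theorem F48525 : act 7 n12310 = n11296 := d19_2 (iv F44481) D12310 (iv D11296)
def n12311 : Q := act 4 n11291
theorem D12311 : act 4 n11291 = n12311 := rfl
theorem F48526 : act 0 n12311 = n11566 := d3_1 D12311 (iv F47928) F47926
theorem F48527 : act 1 n12311 = n11329 := d10_1 D12311 (iv D11329) (iv F44479)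
theorem F48528 : act 3 n12311 = n11504 := d21_1 D12311 F45264 F41615 (iv F40888) D11291
theorem F48529 : act 6 n12311 = n11294 := d27_2 (iv F44480) D12311 (iv D11294)
theorem F48530 : act 7 n12311 = n11297 := d28_2 (iv F44481) D12311 (iv D11297)
def n12312 : Q := act 8 n11291
theorem D12312 : act 8 n11291 = n12312 := rfl
theorem F48531 : act 1 n12312 = n11330 := d14_1 D12312 (iv D11330) (iv F44479)
theorem F48532 : act 3 n12312 = n11292 := d25_1 D12312 (iv D11292) D11291
theorem F48533 : act 6 n12312 = n11295 := d34_1 D12312 (iv D11295) (iv F44480)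
def n12313 : Q := act 1 n11293
theorem D12313 : act 1 n11293 = n12313 := rfl
theorem F48534 : act 2 n12313 = n11331 := d8_2 D11293 D12313 (iv D11331) (iv D10382) (iv F40890)
theorem F48535 : act 6 n12313 = n11689 := d12_2 F48524 D12313 (iv F48523)
theorem F48536 : act 7 n12313 = n11299 := d13_2 (iv F44485) D12313 (iv D11299)
def n12314 : Q := act 4 n11293
theorem D12314 : act 4 n11293 = n12314 := rfl
theorem F48537 : act 2 n12314 = n11294 := d16_1 D12314 (iv D11294) D11293
theorem F48538 : act 7 n12314 = n11300 := d28_2 (iv F44485) D12314 (iv D11300)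
def n12315 : Q := act 8 n11293
theorem D12315 : act 8 n11293 = n12315 := rfl
theorem F48539 : act 2 n12315 = n11295 := d20_1 D12315 (iv D11295) D11293
def n12316 : Q := act 5 n11294
theorem D12316 : act 5 n11294 = n12316 := rfl
theorem F48540 : act 1 n12316 = n11334 := d11_1 D12316 (iv D11334) (iv F44486)
theorem F48541 : act 3 n12316 = n11549 := d22_1 D12316 (iv D11549) (iv F44487)
theorem F48542 : act 7 n12316 = n11302 := d31_2 (iv F44488) D12316 (iv D11302)
def n12317 : Q := act 8 n11294
theorem D12317 : act 8 n11294 = n12317 := rfl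
theorem F48543 : act 1 n12317 = n11335 := d14_1 D12317 (iv D11335) (iv F44486)
theorem F48544 : act 3 n12317 = n11550 := d25_1 D12317 (iv D11550) (iv F44487)
theorem F48545 : act 4 n12317 = n11295 := d29_1 D12317 (iv D11295) D11294
def n12318 : Q := act 7 n11295
theorem D12318 : act 7 n11295 = n12318 := rfl
theorem F48546 : act 1 n12318 = n11336 := d13_1 D12318 (iv D11336) (iv F44489)
theorem F48547 : act 8 n12318 = n11304 := d35_2 D11295 D12318 (iv D11304) (iv D10362) (iv F40891)
def n12319 : Q := act 4 n11296
theorem D12319 : act 4 n11296 = n12319 := rfl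
theorem F48548 : act 1 n12319 = n11692 := d10_1 D12319 (iv D11692) (iv F44491)
theorem F48549 : act 2 n12319 = n11297 := d16_1 D12319 (iv D11297) D11296
theorem F48550 : act 6 n12319 = n11300 := d27_2 (iv F44492) D12319 (iv D11300)
def n12320 : Q := act 8 n11296
theorem D12320 : act 8 n11296 = n12320 := rfl
theorem F48551 : act 1 n12320 = n11693 := d14_1 D12320 (iv D11693) (iv F44491)
theorem F48552 : act 2 n12320 = n11298 := d20_1 D12320 (iv D11298) D11296
theorem F48553 : act 6 n12320 = n11301 := d34_1 D12320 (iv D11301) (iv F44492)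
def n12321 : Q := act 5 n11297
theorem D12321 : act 5 n11297 = n12321 := rfl
theorem F48554 : act 1 n12321 = n11337 := d11_1 D12321 (iv D11337) (iv F44493)
theorem F48555 : act 3 n12321 = n11307 := d22_1 D12321 (iv D11307) (iv F44494)
def n12322 : Q := act 8 n11297
theorem D12322 : act 8 n11297 = n12322 := rfl
theorem F48556 : act 1 n12322 = n11338 := d14_1 D12322 (iv D11338) (iv F44493)
theorem F48557 : act 3 n12322 = n11308 := d25_1 D12322 (iv D11308) (iv F44494)
theorem F48558 : act 4 n12322 = n11298 := d29_1 D12322 (iv D11298) D11297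
theorem F48559 : act 6 n12322 = n11303 := d34_1 D12322 (iv D11303) (iv F44495)
def n12323 : Q := act 7 n11298
theorem D12323 : act 7 n11298 = n12323 := rfl
theorem F48560 : act 1 n12323 = n11339 := d13_1 D12323 (iv D11339) (iv F44496)
theorem F48561 : act 6 n12323 = n11304 := d33_1 D12323 (iv D11304) (iv F44498)
def n12324 : Q := act 0 n11299
theorem D12324 : act 0 n11299 = n12324 := rfl
theorem F48562 : act 2 n12324 = n11340 := d1_2 (iv F44499) D12324 (iv D11340)
theorem F48563 : act 3 n12324 = n12153 := d2_2 (iv F44500) D12324 F47954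
theorem F48564 : act 6 n12324 = n11641 := d5_2 (iv F44501) D12324 F45830
def n12325 : Q := act 4 n11299
theorem D12325 : act 4 n11299 = n12325 := rfl
theorem F48565 : act 1 n12325 = n11300 := d10_1 D12325 (iv D11300) D11299
theorem F48566 : act 2 n12325 = n11341 := d16_1 D12325 (iv D11341) (iv F44499)
theorem F48567 : act 6 n12325 = n11692 := d27_2 (iv F44501) D12325 (iv D11692)
def n12326 : Q := act 8 n11299
theorem D12326 : act 8 n11299 = n12326 := rfl
theorem F48568 : act 1 n12326 = n11301 := d14_1 D12326 (iv D11301) D11299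
theorem F48569 : act 2 n12326 = n11342 := d20_1 D12326 (iv D11342) (iv F44499)
theorem F48570 : act 3 n12326 = n12320 := d25_1 D12326 (iv D12320) (iv F44500)
theorem F48571 : act 6 n12326 = n11693 := d34_1 D12326 (iv D11693) (iv F44501)
def n12327 : Q := act 3 n11300
theorem D12327 : act 3 n11300 = n12327 := rfl
theorem F48572 : act 2 n12327 = n11310 := d15_1 D12327 (iv D11310) F40915 (iv F40900) (iv F44502)
def n12328 : Q := act 5 n11300
theorem D12328 : act 5 n11300 = n12328 := rfl
theorem F48573 : act 2 n12328 = n11302 := d17_1 D12328 (iv D11302) (iv F44502)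
def n12329 : Q := act 8 n11300
theorem D12329 : act 8 n11300 = n12329 := rfl
theorem F48574 : act 2 n12329 = n11303 := d20_1 D12329 (iv D11303) (iv F44502)
theorem F48575 : act 4 n12329 = n11301 := d29_1 D12329 (iv D11301) D11300
def n12330 : Q := act 7 n11301
theorem D12330 : act 7 n11301 = n12330 := rfl
theorem F48576 : act 2 n12330 = n11304 := d19_1 D12330 (iv D11304) (iv F44503)
def n12331 : Q := act 6 n11302
theorem D12331 : act 6 n11302 = n12331 := rfl
theorem F48577 : act 1 n12331 = n11346 := d12_1 D12331 (iv D11346) (iv F44504)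
theorem F48578 : act 3 n12331 = n11314 := d23_1 D12331 (iv D11314) (iv F44505)
def n12332 : Q := act 8 n11302
theorem D12332 : act 8 n11302 = n12332 := rfl
theorem F48579 : act 1 n12332 = n11347 := d14_1 D12332 (iv D11347) (iv F44504)
theorem F48580 : act 3 n12332 = n11315 := d25_1 D12332 (iv D11315) (iv F44505)
theorem F48581 : act 5 n12332 = n11303 := d32_1 D12332 (iv D11303) D11302
def n12333 : Q := act 7 n11303
theorem D12333 : act 7 n11303 = n12333 := rfl
theorem F48582 : act 1 n12333 = n11348 := d13_1 D12333 (iv D11348) (iv F44506)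
theorem F48583 : act 4 n12333 = n11304 := d28_1 D12333 (iv D11304) (iv F44508)
def n12334 : Q := act 3 n11305
theorem D12334 : act 3 n11305 = n12334 := rfl
theorem F48584 : act 1 n12334 = n11419 := d9_1 D12334 (iv D11419) (iv F44510)
theorem F48585 : act 6 n12334 = n11310 := d23_2 (iv F44512) D12334 (iv D11310)
def n12335 : Q := act 5 n11305
theorem D12335 : act 5 n11305 = n12335 := rfl
theorem F48586 : act 1 n12335 = n11420 := d11_1 D12335 (iv D11420) (iv F44510)
theorem F48587 : act 2 n12335 = n11307 := d17_1 D12335 (iv D11307) (iv F44511)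
theorem F48588 : act 4 n12335 = n12335 := d26_1 D12335 (iv D12335) (iv D11305) F40904 D11305
theorem F48589 : act 7 n12335 = n11555 := d31_2 (iv F44513) D12335 (iv D11555)
def n12336 : Q := act 8 n11305
theorem D12336 : act 8 n11305 = n12336 := rfl
theorem F48590 : act 1 n12336 = n11421 := d14_1 D12336 (iv D11421) (iv F44510)
theorem F48591 : act 2 n12336 = n11308 := d20_1 D12336 (iv D11308) (iv F44511)
theorem F48592 : act 4 n12336 = n11306 := d29_1 D12336 (iv D11306) D11305
theorem F48593 : act 6 n12336 = n11312 := d34_1 D12336 (iv D11312) (iv F44512)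
def n12337 : Q := act 7 n11306
theorem D12337 : act 7 n11306 = n12337 := rfl
theorem F48594 : act 0 n12337 = n11548 := d6_1 D12337 (iv F47989) F47984
theorem F48595 : act 1 n12337 = n11422 := d13_1 D12337 (iv D11422) (iv F44514)
theorem F48596 : act 2 n12337 = n11309 := d19_1 D12337 (iv D11309) (iv F44515)
theorem F48597 : act 5 n12337 = n12337 := d31_1 D12337 (iv D12337) F44516
theorem F48598 : act 6 n12337 = n11313 := d33_1 D12337 (iv D11313) (iv F44517)
theorem F48599 : act 8 n12337 = n11492 := d35_2 D11306 D12337 F45212 F41579 (iv F40906)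
def n12338 : Q := act 6 n11307
theorem D12338 : act 6 n11307 = n12338 := rfl
theorem F48600 : act 1 n12338 = n11349 := d12_1 D12338 (iv D11349) (iv F44518)
theorem F48601 : act 4 n12338 = n12338 := d27_1 D12338 (iv D12338) F44519
theorem F48602 : act 5 n12338 = n11314 := d30_1 D12338 (iv D11314) (iv D10368) (iv F40908) D11307
theorem F48603 : act 7 n12338 = n11556 := d33_2 (iv F44520) D12338 (iv D11556)
def n12339 : Q := act 8 n11307
theorem D12339 : act 8 n11307 = n12339 := rfl
theorem F48604 : act 1 n12339 = n11350 := d14_1 D12339 (iv D11350) (iv F44518)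
theorem F48605 : act 4 n12339 = n12339 := d29_1 D12339 (iv D12339) F44519
theorem F48606 : act 5 n12339 = n11308 := d32_1 D12339 (iv D11308) D11307
def n12340 : Q := act 7 n11308
theorem D12340 : act 7 n11308 = n12340 := rfl
theorem F48607 : act 0 n12340 = n11550 := d6_1 D12340 (iv F47998) F47994
theorem F48608 : act 1 n12340 = n11351 := d13_1 D12340 (iv D11351) (iv F44521)
theorem F48609 : act 4 n12340 = n11309 := d28_1 D12340 (iv D11309) (iv F44522)
theorem F48610 : act 6 n12340 = n11316 := d33_1 D12340 (iv D11316) (iv F44523)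
theorem F48611 : act 8 n12340 = n11493 := d35_2 D11308 D12340 F45216 F41584 (iv F40909)
def n12341 : Q := act 5 n11310
theorem D12341 : act 5 n11310 = n12341 := rfl
theorem F48612 : act 1 n12341 = n11426 := d11_1 D12341 (iv D11426) (iv F44530)
theorem F48613 : act 3 n12341 = n11311 := d22_1 D12341 (iv D11311) D11310
def n12342 : Q := act 7 n11310
theorem D12342 : act 7 n11310 = n12342 := rfl
theorem F48614 : act 1 n12342 = n11427 := d13_1 D12342 (iv D11427) (iv F44530)
theorem F48615 : act 3 n12342 = n11558 := d24_1 D12342 (iv D11558) (iv D10601) (iv F40916) D11310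
def n12343 : Q := act 8 n11310
theorem D12343 : act 8 n11310 = n12343 := rfl
theorem F48616 : act 1 n12343 = n11428 := d14_1 D12343 (iv D11428) (iv F44530)
theorem F48617 : act 3 n12343 = n11312 := d25_1 D12343 (iv D11312) D11310
def n12344 : Q := act 6 n11311
theorem D12344 : act 6 n11311 = n12344 := rfl
theorem F48618 : act 1 n12344 = n11429 := d12_1 D12344 (iv D11429) (iv F44531)
theorem F48619 : act 2 n12344 = n11314 := d18_1 D12344 (iv D11314) (iv F44532)
theorem F48620 : act 4 n12344 = n11320 := d27_1 D12344 (iv D11320) (iv F44533)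
theorem F48621 : act 7 n12344 = n11560 := d33_2 (iv F44534) D12344 (iv D11560)
def n12345 : Q := act 8 n11311
theorem D12345 : act 8 n11311 = n12345 := rfl
theorem F48622 : act 1 n12345 = n11430 := d14_1 D12345 (iv D11430) (iv F44531)
theorem F48623 : act 2 n12345 = n11315 := d20_1 D12345 (iv D11315) (iv F44532)
theorem F48624 : act 4 n12345 = n11321 := d29_1 D12345 (iv D11321) (iv F44533)
theorem F48625 : act 5 n12345 = n11312 := d32_1 D12345 (iv D11312) D11311
def n12346 : Q := act 7 n11312
theorem D12346 : act 7 n11312 = n12346 := rfl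
theorem F48626 : act 1 n12346 = n11431 := d13_1 D12346 (iv D11431) (iv F44535)
theorem F48627 : act 2 n12346 = n11316 := d19_1 D12346 (iv D11316) (iv F44536)
theorem F48628 : act 4 n12346 = n11313 := d28_1 D12346 (iv D11313) (iv F44537)
theorem F48629 : act 8 n12346 = n11562 := d35_2 D11312 D12346 (iv D11562) (iv D10603) (iv F40916)
def n12347 : Q := act 3 n11313
theorem D12347 : act 3 n11313 = n12347 := rfl
theorem F48630 : act 1 n12347 = n11432 := d9_1 D12347 (iv D11432) (iv F44538)
theorem F48631 : act 5 n12347 = n11323 := d22_2 (iv F44540) D12347 (iv D11323)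
theorem F48632 : act 8 n12347 = n11563 := d25_2 (iv F44541) D12347 (iv D11563)
def n12348 : Q := act 8 n11314
theorem D12348 : act 8 n11314 = n12348 := rfl
theorem F48633 : act 1 n12348 = n11352 := d14_1 D12348 (iv D11352) (iv F44542)
theorem F48634 : act 4 n12348 = n11324 := d29_1 D12348 (iv D11324) (iv F44543)
theorem F48635 : act 6 n12348 = n11315 := d34_1 D12348 (iv D11315) D11314
def n12349 : Q := act 7 n11315
theorem D12349 : act 7 n11315 = n12349 := rfl
theorem F48636 : act 1 n12349 = n11353 := d13_1 D12349 (iv D11353) (iv F44545)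
theorem F48637 : act 4 n12349 = n11325 := d28_1 D12349 (iv D11325) (iv F44546)
theorem F48638 : act 5 n12349 = n11316 := d31_1 D12349 (iv D11316) (iv F44547)
theorem F48639 : act 8 n12349 = n11565 := d35_2 D11315 D12349 (iv D11565) (iv D10606) (iv F40922)
def n12350 : Q := act 3 n11316
theorem D12350 : act 3 n11316 = n12350 := rfl
theorem F48640 : act 1 n12350 = n11354 := d9_1 D12350 (iv D11354) (iv F44548)
theorem F48641 : act 8 n12350 = n11566 := d25_2 (iv F44550) D12350 (iv D11566)
def n12351 : Q := act 4 n11317
theorem D12351 : act 4 n11317 = n12351 := rfl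
theorem F48642 : act 1 n12351 = n11436 := d10_1 D12351 (iv D11436) (iv F44551)
def n12352 : Q := act 6 n11317
theorem D12352 : act 6 n11317 = n12352 := rfl
theorem F48643 : act 1 n12352 = n11437 := d12_1 D12352 (iv D11437) (iv F44551)
theorem F48644 : act 3 n12352 = n11320 := d23_1 D12352 (iv D11320) (iv F44552)
theorem F48645 : act 5 n12352 = n12352 := d30_1 D12352 (iv D12352) (iv D11317) F40929 D11317
def n12353 : Q := act 7 n11317
theorem D12353 : act 7 n11317 = n12353 := rfl
theorem F48646 : act 1 n12353 = n11438 := d13_1 D12353 (iv D11438) (iv F44551)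
theorem F48647 : act 3 n12353 = n11569 := d24_1 D12353 (iv D11569) F41822 (iv F40932) (iv F44552)
theorem F48648 : act 5 n12353 = n11318 := d31_1 D12353 (iv D11318) D11317
def n12354 : Q := act 8 n11317
theorem D12354 : act 8 n11317 = n12354 := rfl
theorem F48649 : act 1 n12354 = n11439 := d14_1 D12354 (iv D11439) (iv F44551)
theorem F48650 : act 3 n12354 = n11321 := d25_1 D12354 (iv D11321) (iv F44552)
theorem F48651 : act 5 n12354 = n11319 := d32_1 D12354 (iv D11319) D11317
def n12355 : Q := act 8 n11318
theorem D12355 : act 8 n11318 = n12355 := rfl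
theorem F48652 : act 0 n12355 = n12274 := d7_1 D12355 (iv F48396) F48032
theorem F48653 : act 1 n12355 = n11440 := d14_1 D12355 (iv D11440) (iv F44553)
theorem F48654 : act 3 n12355 = n11571 := d25_1 D12355 (iv D11571) (iv F44554)
theorem F48655 : act 6 n12355 = n12355 := d34_1 D12355 (iv D12355) F44555
theorem F48656 : act 7 n12108 = n12355 := d24_0 F48654 (iv F45523) (iv D11483) (iv F43800) D12108
def n12356 : Q := act 7 n11319
theorem D12356 : act 7 n11319 = n12356 := rfl
theorem F48657 : act 0 n12356 = n12275 := d6_1 D12356 F48402 F48036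
theorem F48658 : act 1 n12356 = n11441 := d13_1 D12356 (iv D11441) (iv F44556)
theorem F48659 : act 6 n12356 = n12356 := d33_1 D12356 (iv D12356) F44558
theorem F48660 : act 8 n12356 = n12108 := d35_2 D11319 D12356 F48656 (iv D12355) (iv D11318)
theorem F48661 : act 3 n12110 = n12356 := d25_3 F48660 (iv D12108) D12110
def n12357 : Q := act 8 n11320
theorem D12357 : act 8 n11320 = n12357 := rfl
theorem F48662 : act 1 n12357 = n11442 := d14_1 D12357 (iv D11442) (iv F44559)
theorem F48663 : act 2 n12357 = n11324 := d20_1 D12357 (iv D11324) (iv F44560)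
theorem F48664 : act 5 n12357 = n12357 := d32_1 D12357 (iv D12357) F44561
theorem F48665 : act 6 n12357 = n11321 := d34_1 D12357 (iv D11321) D11320
def n12358 : Q := act 7 n11321
theorem D12358 : act 7 n11321 = n12358 := rfl
theorem F48666 : act 1 n12358 = n11443 := d13_1 D12358 (iv D11443) (iv F44563)
theorem F48667 : act 2 n12358 = n11325 := d19_1 D12358 (iv D11325) (iv F44564)
theorem F48668 : act 5 n12358 = n11322 := d31_1 D12358 (iv D11322) (iv F44565)
theorem F48669 : act 8 n12358 = n11574 := d35_2 D11321 D12358 (iv D11574) (iv D10612) (iv F40932)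
def n12359 : Q := act 3 n11322
theorem D12359 : act 3 n11322 = n12359 := rfl
theorem F48670 : act 0 n12359 = n12278 := d2_1 D12359 F48412 F48049
theorem F48671 : act 1 n12359 = n11444 := d9_1 D12359 (iv D11444) (iv F44566)
theorem F48672 : act 6 n12359 = n12359 := d23_2 F44569 D12359 (iv D12359)
theorem F48673 : act 7 n12359 = n12110 := d24_2 D11322 D12359 F48661 (iv D12356) F44557
theorem F48674 : act 8 n12359 = n11575 := d25_2 (iv F44570) D12359 (iv D11575)
theorem F48675 : act 2 n12113 = n12359 := d20_3 F48674 F45542 (iv F47795)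
theorem F48676 : act 4 n12111 = n12359 := d29_3 F48674 (iv F45543) (iv F47786)
def n12360 : Q := act 4 n11323
theorem D12360 : act 4 n11323 = n12360 := rfl
theorem F48677 : act 0 n12360 = n12279 := d3_1 D12360 F48418 F48055
theorem F48678 : act 1 n12360 = n11445 := d10_1 D12360 (iv D11445) (iv F44571)
theorem F48679 : act 2 n12360 = n12179 := d16_1 D12360 (iv F48418) F48417
theorem F48680 : act 3 n12360 = n12111 := d21_1 D12360 F48676 (iv D12359) F44568 D11323
theorem F48681 : act 6 n12360 = n12360 := d27_2 F44572 D12360 (iv D12360)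
theorem F48682 : act 8 n12360 = n11576 := d29_2 (iv F44573) D12360 (iv D11576)
def n12361 : Q := act 7 n11324
theorem D12361 : act 7 n11324 = n12361 := rfl
theorem F48683 : act 1 n12361 = n11355 := d13_1 D12361 (iv D11355) (iv F44574)
theorem F48684 : act 5 n12361 = n12361 := d31_1 D12361 (iv D12361) F44575
theorem F48685 : act 6 n12361 = n11325 := d33_1 D12361 (iv D11325) (iv F44576)
theorem F48686 : act 8 n12361 = n11577 := d35_2 D11324 D12361 (iv D11577) (iv D10615) (iv F40943)
def n12362 : Q := act 3 n11325
theorem D12362 : act 3 n11325 = n12362 := rfl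
theorem F48687 : act 1 n12362 = n11356 := d9_1 D12362 (iv D11356) (iv F44577)
theorem F48688 : act 5 n12362 = n11326 := d22_2 (iv F44578) D12362 (iv D11326)
theorem F48689 : act 8 n12362 = n11578 := d25_2 (iv F44579) D12362 (iv D11578)
def n12363 : Q := act 2 n11326
theorem D12363 : act 2 n11326 = n12363 := rfl
theorem F48690 : act 0 n12363 = n12282 := d1_1 D12363 F48430 F48067
theorem F48691 : act 3 n12363 = n12113 := d15_2 D11326 D12363 F48675 (iv D12359) F44567
theorem F48692 : act 4 n12363 = n12182 := d16_2 F48431 D12363 (iv F48430)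
theorem F48693 : act 6 n12363 = n12363 := d18_2 F44581 D12363 (iv D12363)
theorem F48694 : act 8 n12363 = n11579 := d20_2 (iv F44582) D12363 (iv D11579)
theorem F48695 : act 1 n12122 = n12363 := d14_3 F48694 (iv F45562) (iv F47832)
def n12364 : Q := act 5 n11329
theorem D12364 : act 5 n11329 = n12364 := rfl
theorem F48696 : act 0 n12364 = n11359 := d4_1 D12364 (iv D11359) (iv F44590)
theorem F48697 : act 2 n12364 = n11714 := d17_1 D12364 (iv D11714) (iv F44591)
theorem F48698 : act 3 n12364 = n11519 := d22_1 D12364 F45335 (iv F44592)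
theorem F48699 : act 7 n12364 = n11337 := d31_2 (iv F44594) D12364 (iv D11337)
def n12365 : Q := act 7 n11330
theorem D12365 : act 7 n11330 = n12365 := rfl
theorem F48700 : act 0 n12365 = n11360 := d6_1 D12365 (iv D11360) (iv F44595)
theorem F48701 : act 2 n12365 = n11716 := d19_1 D12365 (iv D11716) (iv F44596)
theorem F48702 : act 6 n12365 = n11336 := d33_1 D12365 (iv D11336) (iv F44598)
theorem F48703 : act 8 n12365 = n11339 := d35_2 D11330 D12365 (iv D11339) (iv D10386) (iv F40961)
def n12366 : Q := act 0 n11331
theorem D12366 : act 0 n11331 = n12366 := rfl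
theorem F48704 : act 1 n12366 = n11361 := d0_2 D11331 D12366 (iv D11361) (iv D10408) (iv F40966)
theorem F48705 : act 3 n12366 = n11406 := d2_2 (iv F44599) D12366 (iv D11406)
theorem F48706 : act 6 n12366 = n11639 := d5_2 (iv F44600) D12366 F45824
theorem F48707 : act 7 n12366 = n11340 := d6_2 (iv F44601) D12366 (iv D11340)
def n12367 : Q := act 4 n11331
theorem D12367 : act 4 n11331 = n12367 := rfl
theorem F48708 : act 1 n12367 = n11332 := d10_1 D12367 (iv D11332) D11331
theorem F48709 : act 3 n12367 = n12367 := d21_1 D12367 (iv D12367) F44599 F41210 (iv F44599)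
theorem F48710 : act 6 n12367 = n11690 := d27_2 (iv F44600) D12367 (iv D11690)
theorem F48711 : act 7 n12367 = n11341 := d28_2 (iv F44601) D12367 (iv D11341)
def n12368 : Q := act 8 n11331
theorem D12368 : act 8 n11331 = n12368 := rfl
theorem F48712 : act 1 n12368 = n11333 := d14_1 D12368 (iv D11333) D11331
theorem F48713 : act 3 n12368 = n11407 := d25_1 D12368 (iv D11407) (iv F44599)
theorem F48714 : act 6 n12368 = n11691 := d34_1 D12368 (iv D11691) (iv F44600)
def n12369 : Q := act 5 n11332
theorem D12369 : act 5 n11332 = n12369 := rfl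
theorem F48715 : act 0 n12369 = n11364 := d4_1 D12369 (iv D11364) (iv F44602)
theorem F48716 : act 2 n12369 = n11334 := d17_1 D12369 (iv D11334) (iv F44603)
theorem F48717 : act 3 n12369 = n12369 := d22_1 D12369 (iv D12369) F44604
theorem F48718 : act 7 n12369 = n11343 := d31_2 (iv F44606) D12369 (iv D11343)
def n12370 : Q := act 8 n11332
theorem D12370 : act 8 n11332 = n12370 := rfl
theorem F48719 : act 0 n12370 = n11365 := d7_1 D12370 (iv D11365) (iv F44602)
theorem F48720 : act 2 n12370 = n11335 := d20_1 D12370 (iv D11335) (iv F44603)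
theorem F48721 : act 3 n12370 = n12370 := d25_1 D12370 (iv D12370) F44604
theorem F48722 : act 4 n12370 = n11333 := d29_1 D12370 (iv D11333) D11332
theorem F48723 : act 6 n12370 = n11715 := d34_1 D12370 (iv D11715) (iv F44605)
def n12371 : Q := act 7 n11333
theorem D12371 : act 7 n11333 = n12371 := rfl
theorem F48724 : act 0 n12371 = n11366 := d6_1 D12371 (iv D11366) (iv F44607)
theorem F48725 : act 2 n12371 = n11336 := d19_1 D12371 (iv D11336) (iv F44608)
theorem F48726 : act 6 n12371 = n11716 := d33_1 D12371 (iv D11716) (iv F44610)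
theorem F48727 : act 8 n12371 = n11345 := d35_2 D11333 D12371 (iv D11345) (iv D10389) (iv F40969)
def n12372 : Q := act 6 n11334
theorem D12372 : act 6 n11334 = n12372 := rfl
theorem F48728 : act 0 n12372 = n11367 := d5_1 D12372 (iv D11367) (iv F44611)
theorem F48729 : act 3 n12372 = n11580 := d23_1 D12372 (iv D11580) (iv F44612)
theorem F48730 : act 7 n12372 = n11346 := d33_2 (iv F44613) D12372 (iv D11346)
def n12373 : Q := act 8 n11334
theorem D12373 : act 8 n11334 = n12373 := rfl
theorem F48731 : act 0 n12373 = n11368 := d7_1 D12373 (iv D11368) (iv F44611)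
theorem F48732 : act 3 n12373 = n11581 := d25_1 D12373 (iv D11581) (iv F44612)
theorem F48733 : act 5 n12373 = n11335 := d32_1 D12373 (iv D11335) D11334
def n12374 : Q := act 7 n11335
theorem D12374 : act 7 n11335 = n12374 := rfl
theorem F48734 : act 0 n12374 = n11369 := d6_1 D12374 (iv D11369) (iv F44614)
theorem F48735 : act 4 n12374 = n11336 := d28_1 D12374 (iv D11336) (iv F44616)
theorem F48736 : act 8 n12374 = n11348 := d35_2 D11335 D12374 (iv D11348) (iv D10391) (iv F40972)
def n12375 : Q := act 6 n11337
theorem D12375 : act 6 n11337 = n12375 := rfl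
theorem F48737 : act 0 n12375 = n11370 := d5_1 D12375 (iv D11370) (iv F44619)
theorem F48738 : act 2 n12375 = n11717 := d18_1 D12375 (iv D11717) (iv F44620)
theorem F48739 : act 3 n12375 = n11349 := d23_1 D12375 (iv D11349) (iv F44621)
theorem F48740 : act 5 n12375 = n11346 := d30_1 D12375 (iv D11346) (iv D10390) (iv F40978) D11337
def n12376 : Q := act 8 n11337
theorem D12376 : act 8 n11337 = n12376 := rfl
theorem F48741 : act 0 n12376 = n11371 := d7_1 D12376 (iv D11371) (iv F44619)
theorem F48742 : act 2 n12376 = n11718 := d20_1 D12376 (iv D11718) (iv F44620)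
theorem F48743 : act 3 n12376 = n11350 := d25_1 D12376 (iv D11350) (iv F44621)
theorem F48744 : act 5 n12376 = n11338 := d32_1 D12376 (iv D11338) D11337
def n12377 : Q := act 7 n11338
theorem D12377 : act 7 n11338 = n12377 := rfl
theorem F48745 : act 0 n12377 = n11372 := d6_1 D12377 (iv D11372) (iv F44622)
theorem F48746 : act 2 n12377 = n11719 := d19_1 D12377 (iv D11719) (iv F44623)
theorem F48747 : act 4 n12377 = n11339 := d28_1 D12377 (iv D11339) (iv F44625)
theorem F48748 : act 6 n12377 = n11348 := d33_1 D12377 (iv D11348) (iv F44626)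
def n12378 : Q := act 4 n11340
theorem D12378 : act 4 n11340 = n12378 := rfl
theorem F48749 : act 0 n12378 = n11341 := d3_1 D12378 (iv D11341) D11340
theorem F48750 : act 1 n12378 = n11373 := d10_1 D12378 (iv D11373) (iv F44630)
theorem F48751 : act 3 n12378 = n11449 := d21_1 D12378 (iv D11449) F41350 (iv F41038) (iv F44631)
theorem F48752 : act 6 n12378 = n11642 := d27_2 (iv F44632) D12378 (iv D11642)
def n12379 : Q := act 8 n11340
theorem D12379 : act 8 n11340 = n12379 := rfl
theorem F48753 : act 0 n12379 = n11342 := d7_1 D12379 (iv D11342) D11340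
theorem F48754 : act 1 n12379 = n11374 := d14_1 D12379 (iv D11374) (iv F44630)
theorem F48755 : act 3 n12379 = n11358 := d25_1 D12379 (iv D11358) (iv F44631)
theorem F48756 : act 6 n12379 = n11643 := d34_1 D12379 (iv D11643) (iv F44632)
def n12380 : Q := act 5 n11341
theorem D12380 : act 5 n11341 = n12380 := rfl
theorem F48757 : act 1 n12380 = n11343 := d11_1 D12380 (iv D11343) (iv F44633)
theorem F48758 : act 3 n12380 = n11451 := d22_1 D12380 (iv D11451) (iv F44634)
def n12381 : Q := act 8 n11341
theorem D12381 : act 8 n11341 = n12381 := rfl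
theorem F48759 : act 1 n12381 = n11344 := d14_1 D12381 (iv D11344) (iv F44633)
theorem F48760 : act 3 n12381 = n11452 := d25_1 D12381 (iv D11452) (iv F44634)
theorem F48761 : act 4 n12381 = n11342 := d29_1 D12381 (iv D11342) D11341
theorem F48762 : act 6 n12381 = n11695 := d34_1 D12381 (iv D11695) (iv F44635)
def n12382 : Q := act 7 n11342
theorem D12382 : act 7 n11342 = n12382 := rfl
theorem F48763 : act 1 n12382 = n11345 := d13_1 D12382 (iv D11345) (iv F44636)
theorem F48764 : act 6 n12382 = n11696 := d33_1 D12382 (iv D11696) (iv F44638)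
def n12383 : Q := act 6 n11343
theorem D12383 : act 6 n11343 = n12383 := rfl
theorem F48765 : act 0 n12383 = n11378 := d5_1 D12383 (iv D11378) (iv F44639)
theorem F48766 : act 2 n12383 = n11346 := d18_1 D12383 (iv D11346) (iv F44640)
theorem F48767 : act 3 n12383 = n11454 := d23_1 D12383 (iv D11454) (iv F44641)
theorem F48768 : act 5 n12383 = n11717 := d30_1 D12383 (iv D11717) (iv D10761) (iv F40988) D11343
def n12384 : Q := act 8 n11343
theorem D12384 : act 8 n11343 = n12384 := rfl
theorem F48769 : act 0 n12384 = n11379 := d7_1 D12384 (iv D11379) (iv F44639)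
theorem F48770 : act 2 n12384 = n11347 := d20_1 D12384 (iv D11347) (iv F44640)
theorem F48771 : act 3 n12384 = n11455 := d25_1 D12384 (iv D11455) (iv F44641)
theorem F48772 : act 5 n12384 = n11344 := d32_1 D12384 (iv D11344) D11343
def n12385 : Q := act 7 n11344
theorem D12385 : act 7 n11344 = n12385 := rfl
theorem F48773 : act 0 n12385 = n11380 := d6_1 D12385 (iv D11380) (iv F44642)
theorem F48774 : act 2 n12385 = n11348 := d19_1 D12385 (iv D11348) (iv F44643)
theorem F48775 : act 4 n12385 = n11345 := d28_1 D12385 (iv D11345) (iv F44645)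
theorem F48776 : act 6 n12385 = n11719 := d33_1 D12385 (iv D11719) (iv F44646)
def n12386 : Q := act 8 n11346
theorem D12386 : act 8 n11346 = n12386 := rfl
theorem F48777 : act 0 n12386 = n11381 := d7_1 D12386 (iv D11381) (iv F44650)
theorem F48778 : act 3 n12386 = n11352 := d25_1 D12386 (iv D11352) (iv F44651)
theorem F48779 : act 6 n12386 = n11347 := d34_1 D12386 (iv D11347) D11346
def n12387 : Q := act 7 n11347
theorem D12387 : act 7 n11347 = n12387 := rfl
theorem F48780 : act 0 n12387 = n11382 := d6_1 D12387 (iv D11382) (iv F44652)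
theorem F48781 : act 5 n12387 = n11348 := d31_1 D12387 (iv D11348) (iv F44654)
def n12388 : Q := act 3 n11348
theorem D12388 : act 3 n11348 = n12388 := rfl
theorem F48782 : act 0 n12388 = n11383 := d2_1 D12388 (iv D11383) (iv F44655)
theorem F48783 : act 7 n12388 = n11354 := d24_2 D11348 D12388 (iv D11354) (iv D10398) (iv F40996)
def n12389 : Q := act 8 n11349
theorem D12389 : act 8 n11349 = n12389 := rfl
theorem F48784 : act 0 n12389 = n11384 := d7_1 D12389 (iv D11384) (iv F44657)
theorem F48785 : act 2 n12389 = n11460 := d20_1 D12389 (iv D11460) (iv F44658)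
theorem F48786 : act 4 n12389 = n12389 := d29_1 D12389 (iv D12389) F44659
theorem F48787 : act 5 n12389 = n11352 := d32_1 D12389 (iv D11352) (iv F44660)
theorem F48788 : act 6 n12389 = n11350 := d34_1 D12389 (iv D11350) D11349
def n12390 : Q := act 7 n11350
theorem D12390 : act 7 n11350 = n12390 := rfl
theorem F48789 : act 0 n12390 = n11385 := d6_1 D12390 (iv D11385) (iv F44662)
theorem F48790 : act 2 n12390 = n11461 := d19_1 D12390 (iv D11461) (iv F44663)
theorem F48791 : act 4 n12390 = n12390 := d28_1 D12390 (iv D12390) F44664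
theorem F48792 : act 5 n12390 = n11351 := d31_1 D12390 (iv D11351) (iv F44665)
theorem F48793 : act 8 n12390 = n11515 := d35_2 D11350 D12390 F45313 F41655 (iv F41002)
def n12391 : Q := act 7 n11352
theorem D12391 : act 7 n11352 = n12391 := rfl
theorem F48794 : act 0 n12391 = n11386 := d6_1 D12391 (iv D11386) (iv F44671)
theorem F48795 : act 2 n12391 = n11463 := d19_1 D12391 (iv D11463) (iv F44672)
theorem F48796 : act 4 n12391 = n11355 := d28_1 D12391 (iv D11355) (iv F44673)
theorem F48797 : act 6 n12391 = n11353 := d33_1 D12391 (iv D11353) (iv F44674)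
theorem F48798 : act 8 n12391 = n11582 := d35_2 D11352 D12391 (iv D11582) (iv D10622) (iv F41016)
def n12392 : Q := act 3 n11353
theorem D12392 : act 3 n11353 = n12392 := rfl
theorem F48799 : act 0 n12392 = n11387 := d2_1 D12392 (iv D11387) (iv F44675)
theorem F48800 : act 5 n12392 = n11354 := d22_2 (iv F44678) D12392 (iv D11354)
theorem F48801 : act 8 n12392 = n11583 := d25_2 (iv F44679) D12392 (iv D11583)
def n12393 : Q := act 2 n11354
theorem D12393 : act 2 n11354 = n12393 := rfl
theorem F48802 : act 0 n12393 = n11388 := d1_1 D12393 (iv D11388) (iv F44680)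
theorem F48803 : act 3 n12393 = n11465 := d15_2 D11354 D12393 (iv D11465) (iv D10502) (iv F41022)
theorem F48804 : act 8 n12393 = n11584 := d20_2 (iv F44681) D12393 (iv D11584)
def n12394 : Q := act 1 n11357
theorem D12394 : act 1 n11357 = n12394 := rfl
theorem F48805 : act 0 n12394 = n12087 := d0_1 D12394 F47645 F43725 F42717 (iv F44690)
theorem F48806 : act 2 n12394 = n12122 := d8_2 D11357 D12394 F48695 (iv D12363) F44580
theorem F48807 : act 3 n12394 = n11466 := d9_2 (iv F44691) D12394 (iv D11466)
theorem F48808 : act 4 n12394 = n12217 := d10_2 F48483 D12394 (iv F48481)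
theorem F48809 : act 5 n12394 = n12083 := d11_2 F46357 D12394 F47627
theorem F48810 : act 6 n12394 = n12394 := d12_2 F44692 D12394 (iv D12394)
theorem F48811 : act 8 n12394 = n11585 := d14_2 (iv F44693) D12394 (iv D11585)
def n12395 : Q := act 4 n11361
theorem D12395 : act 4 n11361 = n12395 := rfl
theorem F48812 : act 0 n12395 = n11362 := d3_1 D12395 (iv D11362) D11361
theorem F48813 : act 3 n12395 = n12395 := d21_1 D12395 (iv D12395) F44706 F41222 (iv F44706)
theorem F48814 : act 6 n12395 = n11657 := d27_2 (iv F44707) D12395 (iv D11657)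
theorem F48815 : act 7 n12395 = n11373 := d28_2 (iv F44708) D12395 (iv D11373)
def n12396 : Q := act 8 n11361
theorem D12396 : act 8 n11361 = n12396 := rfl
theorem F48816 : act 0 n12396 = n11363 := d7_1 D12396 (iv D11363) D11361
theorem F48817 : act 3 n12396 = n11408 := d25_1 D12396 (iv D11408) (iv F44706)
theorem F48818 : act 6 n12396 = n11658 := d34_1 D12396 (iv D11658) (iv F44707)
def n12397 : Q := act 8 n11362
theorem D12397 : act 8 n11362 = n12397 := rfl
theorem F48819 : act 1 n12397 = n11365 := d14_1 D12397 (iv D11365) (iv F44709)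
theorem F48820 : act 3 n12397 = n12397 := d25_1 D12397 (iv D12397) F44710
theorem F48821 : act 4 n12397 = n11363 := d29_1 D12397 (iv D11363) D11362
theorem F48822 : act 6 n12397 = n11674 := d34_1 D12397 (iv D11674) (iv F44711)
def n12398 : Q := act 7 n11363
theorem D12398 : act 7 n11363 = n12398 := rfl
theorem F48823 : act 1 n12398 = n11366 := d13_1 D12398 (iv D11366) (iv F44713)
theorem F48824 : act 6 n12398 = n11675 := d33_1 D12398 (iv D11675) (iv F44715)
theorem F48825 : act 8 n12398 = n11377 := d35_2 D11363 D12398 (iv D11377) (iv D10419) (iv F41061)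
def n12399 : Q := act 8 n11364
theorem D12399 : act 8 n11364 = n12399 := rfl
theorem F48826 : act 2 n12399 = n11368 := d20_1 D12399 (iv D11368) (iv F44716)
theorem F48827 : act 3 n12399 = n12399 := d25_1 D12399 (iv D12399) F44717
theorem F48828 : act 5 n12399 = n11365 := d32_1 D12399 (iv D11365) D11364
def n12400 : Q := act 7 n11365
theorem D12400 : act 7 n11365 = n12400 := rfl
theorem F48829 : act 2 n12400 = n11369 := d19_1 D12400 (iv D11369) (iv F44719)
theorem F48830 : act 4 n12400 = n11366 := d28_1 D12400 (iv D11366) (iv F44721)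
theorem F48831 : act 6 n12400 = n11727 := d33_1 D12400 (iv D11727) (iv F44722)
theorem F48832 : act 8 n12400 = n11380 := d35_2 D11365 D12400 (iv D11380) (iv D10421) (iv F41065)
def n12401 : Q := act 8 n11367
theorem D12401 : act 8 n11367 = n12401 := rfl
theorem F48833 : act 3 n12401 = n11586 := d25_1 D12401 (iv D11586) (iv F44726)
theorem F48834 : act 6 n12401 = n11368 := d34_1 D12401 (iv D11368) D11367
def n12402 : Q := act 7 n11368
theorem D12402 : act 7 n11368 = n12402 := rfl
theorem F48835 : act 5 n12402 = n11369 := d31_1 D12402 (iv D11369) (iv F44729)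
theorem F48836 : act 8 n12402 = n11382 := d35_2 D11368 D12402 (iv D11382) (iv D10424) (iv F41070)
def n12403 : Q := act 8 n11370
theorem D12403 : act 8 n11370 = n12403 := rfl
theorem F48837 : act 2 n12403 = n11728 := d20_1 D12403 (iv D11728) (iv F44732)
theorem F48838 : act 3 n12403 = n11384 := d25_1 D12403 (iv D11384) (iv F44733)
theorem F48839 : act 5 n12403 = n11381 := d32_1 D12403 (iv D11381) (iv F44734)
theorem F48840 : act 6 n12403 = n11371 := d34_1 D12403 (iv D11371) D11370
def n12404 : Q := act 7 n11371
theorem D12404 : act 7 n11371 = n12404 := rfl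
theorem F48841 : act 2 n12404 = n11729 := d19_1 D12404 (iv D11729) (iv F44735)
theorem F48842 : act 5 n12404 = n11372 := d31_1 D12404 (iv D11372) (iv F44737)
def n12405 : Q := act 5 n11373
theorem D12405 : act 5 n11373 = n12405 := rfl
theorem F48843 : act 0 n12405 = n11375 := d4_1 D12405 (iv D11375) (iv F44741)
theorem F48844 : act 3 n12405 = n11467 := d22_1 D12405 (iv D11467) (iv F44742)
def n12406 : Q := act 8 n11373
theorem D12406 : act 8 n11373 = n12406 := rfl
theorem F48845 : act 0 n12406 = n11376 := d7_1 D12406 (iv D11376) (iv F44741)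
theorem F48846 : act 3 n12406 = n11468 := d25_1 D12406 (iv D11468) (iv F44742)
theorem F48847 : act 4 n12406 = n11374 := d29_1 D12406 (iv D11374) D11373
theorem F48848 : act 6 n12406 = n11663 := d34_1 D12406 (iv D11663) (iv F44743)
def n12407 : Q := act 7 n11374
theorem D12407 : act 7 n11374 = n12407 := rfl
theorem F48849 : act 0 n12407 = n11377 := d6_1 D12407 (iv D11377) (iv F44744)
theorem F48850 : act 6 n12407 = n11664 := d33_1 D12407 (iv D11664) (iv F44746)
def n12408 : Q := act 8 n11375
theorem D12408 : act 8 n11375 = n12408 := rfl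
theorem F48851 : act 1 n12408 = n11379 := d14_1 D12408 (iv D11379) (iv F44747)
theorem F48852 : act 3 n12408 = n11471 := d25_1 D12408 (iv D11471) (iv F44748)
theorem F48853 : act 5 n12408 = n11376 := d32_1 D12408 (iv D11376) D11375
def n12409 : Q := act 7 n11376
theorem D12409 : act 7 n11376 = n12409 := rfl
theorem F48854 : act 1 n12409 = n11380 := d13_1 D12409 (iv D11380) (iv F44749)
theorem F48855 : act 4 n12409 = n11377 := d28_1 D12409 (iv D11377) (iv F44751)
theorem F48856 : act 6 n12409 = n11679 := d33_1 D12409 (iv D11679) (iv F44752)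
def n12410 : Q := act 8 n11378
theorem D12410 : act 8 n11378 = n12410 := rfl
theorem F48857 : act 2 n12410 = n11381 := d20_1 D12410 (iv D11381) (iv F44755)
theorem F48858 : act 3 n12410 = n11473 := d25_1 D12410 (iv D11473) (iv F44756)
theorem F48859 : act 5 n12410 = n11728 := d32_1 D12410 (iv D11728) (iv F44757)
theorem F48860 : act 6 n12410 = n11379 := d34_1 D12410 (iv D11379) D11378
def n12411 : Q := act 7 n11379
theorem D12411 : act 7 n11379 = n12411 := rfl
theorem F48861 : act 2 n12411 = n11382 := d19_1 D12411 (iv D11382) (iv F44758)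
theorem F48862 : act 5 n12411 = n11380 := d31_1 D12411 (iv D11380) (iv F44760)
def n12412 : Q := act 3 n11380
theorem D12412 : act 3 n11380 = n12412 := rfl
theorem F48863 : act 6 n12412 = n11730 := d23_2 (iv F44763) D12412 (iv D11730)
theorem F48864 : act 7 n12412 = n11475 := d24_2 D11380 D12412 (iv D11475) (iv D10514) (iv F41093)
def n12413 : Q := act 7 n11381
theorem D12413 : act 7 n11381 = n12413 := rfl
theorem F48865 : act 6 n12413 = n11382 := d33_1 D12413 (iv D11382) (iv F44765)
def n12414 : Q := act 3 n11382
theorem D12414 : act 3 n11382 = n12414 := rfl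
theorem F48866 : act 5 n12414 = n11383 := d22_2 (iv F44766) D12414 (iv D11383)
theorem F48867 : act 7 n12414 = n11387 := d24_2 D11382 D12414 (iv D11387) (iv D10430) (iv F41099)
def n12415 : Q := act 2 n11383
theorem D12415 : act 2 n11383 = n12415 := rfl
theorem F48868 : act 7 n12415 = n11388 := d19_2 (iv F44767) D12415 (iv D11388)
def n12416 : Q := act 7 n11384
theorem D12416 : act 7 n11384 = n12416 := rfl
theorem F48869 : act 1 n12416 = n11586 := d13_1 D12416 (iv F48305) F48300
theorem F48870 : act 2 n12416 = n11479 := d19_1 D12416 (iv D11479) (iv F44768)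
theorem F48871 : act 4 n12416 = n12416 := d28_1 D12416 (iv D12416) F44769
theorem F48872 : act 5 n12416 = n11386 := d31_1 D12416 (iv D11386) (iv F44770)
theorem F48873 : act 6 n12416 = n11385 := d33_1 D12416 (iv D11385) (iv F44771)
theorem F48874 : act 8 n12416 = n11523 := d35_2 D11384 D12416 F45351 F41693 (iv F41105)
def n12417 : Q := act 3 n11389
theorem D12417 : act 3 n11389 = n12417 := rfl
theorem F48875 : act 0 n12417 = n12417 := d2_1 D12417 (iv D12417) F44785
theorem F48876 : act 6 n12417 = n11390 := d23_2 (iv F44788) D12417 (iv D11390)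
theorem F48877 : act 7 n12417 = n12050 := d24_2 D11389 D12417 (iv D12050) (iv D11036) (iv F41137)
def n12418 : Q := act 8 n11389
theorem D12418 : act 8 n11389 = n12418 := rfl
theorem F48878 : act 0 n12418 = n12418 := d7_1 D12418 (iv D12418) F44785
theorem F48879 : act 2 n12418 = n11392 := d20_1 D12418 (iv D11392) (iv F44786)
theorem F48880 : act 4 n12418 = n11588 := d29_1 D12418 (iv D11588) (iv F44787)
theorem F48881 : act 6 n12418 = n11391 := d34_1 D12418 (iv D11391) (iv F44788)
theorem F48882 : act 7 n12418 = n11399 := d35_1 D12418 (iv D11399) (iv D10448) (iv F41139) D11389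
def n12419 : Q := act 2 n11390
theorem D12419 : act 2 n11390 = n12419 := rfl
theorem F48883 : act 0 n12419 = n12419 := d1_1 D12419 (iv D12419) F44789
theorem F48884 : act 3 n12419 = n11393 := d15_2 D11390 D12419 (iv D11393) (iv D10439) (iv F41141)
theorem F48885 : act 5 n12419 = n11398 := d17_2 (iv F44790) D12419 F44822
theorem F48886 : act 7 n12419 = n12052 := d19_2 (iv F44791) D12419 (iv D12052)
def n12420 : Q := act 4 n11390
theorem D12420 : act 4 n11390 = n12420 := rfl
theorem F48887 : act 0 n12420 = n12420 := d3_1 D12420 (iv D12420) F44789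
theorem F48888 : act 3 n12420 = n11590 := d21_1 D12420 (iv D11590) (iv D10634) (iv F41142) D11390
theorem F48889 : act 7 n12420 = n12053 := d28_2 (iv F44791) D12420 (iv D12053)
def n12421 : Q := act 8 n11390
theorem D12421 : act 8 n11390 = n12421 := rfl
theorem F48890 : act 0 n12421 = n12421 := d7_1 D12421 (iv D12421) F44789
theorem F48891 : act 3 n12421 = n11391 := d25_1 D12421 (iv D11391) D11390
theorem F48892 : act 5 n12421 = n11739 := d32_1 D12421 (iv D11739) (iv F44790)
def n12422 : Q := act 8 n11393
theorem D12422 : act 8 n11393 = n12422 := rfl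
theorem F48893 : act 0 n12422 = n12422 := d7_1 D12422 (iv D12422) F44802
theorem F48894 : act 2 n12422 = n11395 := d20_1 D12422 (iv D11395) D11393
theorem F48895 : act 5 n12422 = n11399 := d32_1 D12422 (iv D11399) (iv F44803)
def n12423 : Q := act 8 n11394
theorem D12423 : act 8 n11394 = n12423 := rfl
theorem F48896 : act 0 n12423 = n12423 := d7_1 D12423 (iv D12423) F44805
theorem F48897 : act 1 n12423 = n11397 := d14_1 D12423 (iv D11397) (iv F44806)
theorem F48898 : act 3 n12423 = n11593 := d25_1 D12423 (iv D11593) (iv F44807)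
theorem F48899 : act 4 n12423 = n11395 := d29_1 D12423 (iv D11395) D11394
theorem F48900 : act 5 n12423 = n11601 := d32_1 D12423 (iv D11601) (iv F44808)
def n12424 : Q := act 4 n11398
theorem D12424 : act 4 n11398 = n12424 := rfl
theorem F48901 : act 0 n12424 = n12424 := d3_1 D12424 (iv D12424) F44821
theorem F48902 : act 2 n12424 = n11738 := d16_1 D12424 (iv D11738) (iv F44822)
theorem F48903 : act 3 n12424 = n11596 := d21_1 D12424 (iv D11596) (iv D10646) (iv F41186) D11398
theorem F48904 : act 6 n12424 = n11401 := d27_2 (iv F44823) D12424 (iv D11401)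
def n12425 : Q := act 8 n11398
theorem D12425 : act 8 n11398 = n12425 := rfl
theorem F48905 : act 0 n12425 = n12425 := d7_1 D12425 (iv D12425) F44821
theorem F48906 : act 2 n12425 = n11739 := d20_1 D12425 (iv D11739) (iv F44822)
theorem F48907 : act 3 n12425 = n11399 := d25_1 D12425 (iv D11399) D11398
theorem F48908 : act 6 n12425 = n11402 := d34_1 D12425 (iv D11402) (iv F44823)
def n12426 : Q := act 1 n11400
theorem D12426 : act 1 n11400 = n12426 := rfl
theorem F48909 : act 3 n12426 = n11403 := d9_2 (iv F44829) D12426 (iv D11403)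
theorem F48910 : act 6 n12426 = n11687 := d12_2 (iv F44830) D12426 F45978
theorem F48911 : act 7 n12426 = n12303 := d13_2 (iv F44831) D12426 F48506
def n12427 : Q := act 4 n11400
theorem D12427 : act 4 n11400 = n12427 := rfl
theorem F48912 : act 0 n12427 = n12427 := d3_1 D12427 (iv D12427) F44828
theorem F48913 : act 2 n12427 = n11401 := d16_1 D12427 (iv D11401) D11400
theorem F48914 : act 3 n12427 = n12427 := d21_1 D12427 (iv D12427) F44829 F41198 (iv F44829)
theorem F48915 : act 6 n12427 = n11738 := d27_2 (iv F44830) D12427 (iv D11738)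
theorem F48916 : act 7 n12427 = n12424 := d28_2 (iv F44831) D12427 (iv D12424)
def n12428 : Q := act 8 n11400
theorem D12428 : act 8 n11400 = n12428 := rfl
theorem F48917 : act 0 n12428 = n12428 := d7_1 D12428 (iv D12428) F44828
theorem F48918 : act 2 n12428 = n11402 := d20_1 D12428 (iv D11402) D11400
theorem F48919 : act 3 n12428 = n11404 := d25_1 D12428 (iv D11404) (iv F44829)
theorem F48920 : act 6 n12428 = n11739 := d34_1 D12428 (iv D11739) (iv F44830)
def n12429 : Q := act 5 n11401
theorem D12429 : act 5 n11401 = n12429 := rfl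
theorem F48921 : act 0 n12429 = n12429 := d4_1 D12429 (iv D12429) F44832
theorem F48922 : act 3 n12429 = n11598 := d22_1 D12429 (iv D11598) (iv F44833)
def n12430 : Q := act 8 n11401
theorem D12430 : act 8 n11401 = n12430 := rfl
theorem F48923 : act 0 n12430 = n12430 := d7_1 D12430 (iv D12430) F44832
theorem F48924 : act 3 n12430 = n11599 := d25_1 D12430 (iv D11599) (iv F44833)
theorem F48925 : act 4 n12430 = n11402 := d29_1 D12430 (iv D11402) D11401
def n12431 : Q := act 7 n11402
theorem D12431 : act 7 n11402 = n12431 := rfl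
theorem F48926 : act 0 n12431 = n12431 := d6_1 D12431 (iv D12431) F44834
def n12432 : Q := act 0 n11403
theorem D12432 : act 0 n11403 = n12432 := rfl
theorem F48927 : act 1 n12432 = n12432 := d0_2 D11403 D12432 (iv D12432) (iv D11403) F41197
theorem F48928 : act 2 n12432 = n11406 := d1_2 (iv F44836) D12432 (iv D11406)
theorem F48929 : act 4 n12432 = n12432 := d3_2 F44837 D12432 (iv D12432)
theorem F48930 : act 6 n12432 = n11638 := d5_2 (iv F44838) D12432 F45820
theorem F48931 : act 7 n12432 = n11405 := d6_2 (iv F44839) D12432 (iv D11405)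
def n12433 : Q := act 8 n11403
theorem D12433 : act 8 n11403 = n12433 := rfl
theorem F48932 : act 1 n12433 = n11404 := d14_1 D12433 (iv D11404) D11403
theorem F48933 : act 2 n12433 = n11407 := d20_1 D12433 (iv D11407) (iv F44836)
theorem F48934 : act 4 n12433 = n12433 := d29_1 D12433 (iv D12433) F44837
theorem F48935 : act 6 n12433 = n11688 := d34_1 D12433 (iv D11688) (iv F44838)
def n12434 : Q := act 8 n11406
theorem D12434 : act 8 n11406 = n12434 := rfl
theorem F48936 : act 0 n12434 = n11407 := d7_1 D12434 (iv D11407) D11406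
theorem F48937 : act 1 n12434 = n11408 := d14_1 D12434 (iv D11408) (iv F44849)
theorem F48938 : act 4 n12434 = n12434 := d29_1 D12434 (iv D12434) F44850
theorem F48939 : act 6 n12434 = n11640 := d34_1 D12434 (iv D11640) (iv F44851)
def n12435 : Q := act 4 n11409
theorem D12435 : act 4 n11409 = n12435 := rfl
theorem F48940 : act 0 n12435 = n11410 := d3_1 D12435 (iv D11410) D11409
theorem F48941 : act 1 n12435 = n12435 := d10_1 D12435 (iv D12435) F44860
theorem F48942 : act 2 n12435 = n11449 := d16_1 D12435 (iv D11449) (iv F44861)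
theorem F48943 : act 6 n12435 = n11644 := d27_2 (iv F44864) D12435 (iv D11644)
theorem F48944 : act 7 n12435 = n12435 := d28_2 F44865 D12435 (iv D12435)
def n12436 : Q := act 8 n11409
theorem D12436 : act 8 n11409 = n12436 := rfl
theorem F48945 : act 0 n12436 = n11411 := d7_1 D12436 (iv D11411) D11409
theorem F48946 : act 1 n12436 = n12436 := d14_1 D12436 (iv D12436) F44860
theorem F48947 : act 2 n12436 = n11450 := d20_1 D12436 (iv D11450) (iv F44861)
theorem F48948 : act 3 n12436 = n12163 := d25_1 D12436 (iv D12163) (iv F44862)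
theorem F48949 : act 5 n12436 = n12436 := d32_1 D12436 (iv D12436) F44863
theorem F48950 : act 6 n12436 = n11645 := d34_1 D12436 (iv D11645) (iv F44864)
def n12437 : Q := act 3 n11410
theorem D12437 : act 3 n11410 = n12437 := rfl
theorem F48951 : act 1 n12437 = n11412 := d9_1 D12437 (iv D11412) (iv F44866)
theorem F48952 : act 4 n12437 = n12334 := d21_2 D11410 D12437 (iv D12334) (iv D11305) (iv F41230)
theorem F48953 : act 6 n12437 = n11697 := d23_2 (iv F44868) D12437 (iv D11697)
def n12438 : Q := act 5 n11410
theorem D12438 : act 5 n11410 = n12438 := rfl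
theorem F48954 : act 1 n12438 = n11413 := d11_1 D12438 (iv D11413) (iv F44866)
theorem F48955 : act 2 n12438 = n11451 := d17_1 D12438 (iv D11451) (iv F44867)
theorem F48956 : act 4 n12438 = n12438 := d26_1 D12438 (iv D12438) (iv D11410) F41231 D11410
theorem F48957 : act 7 n12438 = n12438 := d31_2 F44869 D12438 (iv D12438)
def n12439 : Q := act 8 n11410
theorem D12439 : act 8 n11410 = n12439 := rfl
theorem F48958 : act 1 n12439 = n11414 := d14_1 D12439 (iv D11414) (iv F44866)
theorem F48959 : act 2 n12439 = n11452 := d20_1 D12439 (iv D11452) (iv F44867)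
theorem F48960 : act 4 n12439 = n11411 := d29_1 D12439 (iv D11411) D11410
theorem F48961 : act 6 n12439 = n11699 := d34_1 D12439 (iv D11699) (iv F44868)
def n12440 : Q := act 7 n11411
theorem D12440 : act 7 n11411 = n12440 := rfl
theorem F48962 : act 1 n12440 = n11415 := d13_1 D12440 (iv D11415) (iv F44870)
theorem F48963 : act 2 n12440 = n11453 := d19_1 D12440 (iv D11453) (iv F44871)
theorem F48964 : act 5 n12440 = n12440 := d31_1 D12440 (iv D12440) F44873
theorem F48965 : act 6 n12440 = n11700 := d33_1 D12440 (iv D11700) (iv F44874)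
theorem F48966 : act 8 n12440 = n12440 := d35_2 D11411 D12440 (iv D12440) (iv D11411) F41233
def n12441 : Q := act 5 n11412
theorem D12441 : act 5 n11412 = n12441 := rfl
theorem F48967 : act 0 n12441 = n12441 := d4_1 D12441 (iv D12441) F44875
theorem F48968 : act 2 n12441 = n11426 := d17_1 D12441 (iv D11426) (iv F44876)
theorem F48969 : act 3 n12441 = n11413 := d22_1 D12441 (iv D11413) D11412
def n12442 : Q := act 7 n11412
theorem D12442 : act 7 n11412 = n12442 := rfl
theorem F48970 : act 0 n12442 = n12442 := d6_1 D12442 (iv D12442) F44875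
theorem F48971 : act 2 n12442 = n11427 := d19_1 D12442 (iv D11427) (iv F44876)
theorem F48972 : act 3 n12442 = n12442 := d24_1 D12442 (iv D12442) (iv D11412) F41237 D11412
theorem F48973 : act 6 n12442 = n11741 := d33_1 D12442 (iv D11741) (iv F44877)
def n12443 : Q := act 8 n11412
theorem D12443 : act 8 n11412 = n12443 := rfl
theorem F48974 : act 0 n12443 = n12443 := d7_1 D12443 (iv D12443) F44875
theorem F48975 : act 2 n12443 = n11428 := d20_1 D12443 (iv D11428) (iv F44876)
theorem F48976 : act 3 n12443 = n11414 := d25_1 D12443 (iv D11414) D11412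
theorem F48977 : act 6 n12443 = n11742 := d34_1 D12443 (iv D11742) (iv F44877)
def n12444 : Q := act 6 n11413
theorem D12444 : act 6 n11413 = n12444 := rfl
theorem F48978 : act 0 n12444 = n12444 := d5_1 D12444 (iv D12444) F44878
theorem F48979 : act 2 n12444 = n11416 := d18_1 D12444 (iv D11416) (iv F44879)
theorem F48980 : act 4 n12444 = n12444 := d27_1 D12444 (iv D12444) F44880
theorem F48981 : act 5 n12444 = n11743 := d30_1 D12444 (iv D11743) (iv D10785) (iv F41236) D11413
theorem F48982 : act 7 n12444 = n12444 := d33_2 F44881 D12444 (iv D12444)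
def n12445 : Q := act 8 n11413
theorem D12445 : act 8 n11413 = n12445 := rfl
theorem F48983 : act 0 n12445 = n12445 := d7_1 D12445 (iv D12445) F44878
theorem F48984 : act 2 n12445 = n11417 := d20_1 D12445 (iv D11417) (iv F44879)
theorem F48985 : act 4 n12445 = n12445 := d29_1 D12445 (iv D12445) F44880
theorem F48986 : act 5 n12445 = n11414 := d32_1 D12445 (iv D11414) D11413
def n12446 : Q := act 7 n11414
theorem D12446 : act 7 n11414 = n12446 := rfl
theorem F48987 : act 0 n12446 = n12446 := d6_1 D12446 (iv D12446) F44882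
theorem F48988 : act 2 n12446 = n11418 := d19_1 D12446 (iv D11418) (iv F44883)
theorem F48989 : act 4 n12446 = n11415 := d28_1 D12446 (iv D11415) (iv F44884)
theorem F48990 : act 6 n12446 = n11745 := d33_1 D12446 (iv D11745) (iv F44885)
theorem F48991 : act 8 n12446 = n12446 := d35_2 D11414 D12446 (iv D12446) (iv D11414) F41237
def n12447 : Q := act 3 n11415
theorem D12447 : act 3 n11415 = n12447 := rfl
theorem F48992 : act 0 n12447 = n12447 := d2_1 D12447 (iv D12447) F44886
theorem F48993 : act 2 n12447 = n12447 := d15_1 D12447 (iv D12447) F44887 F41254 (iv F44887)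
theorem F48994 : act 5 n12447 = n12447 := d22_2 F44888 D12447 (iv D12447)
theorem F48995 : act 6 n12447 = n11746 := d23_2 (iv F44889) D12447 (iv D11746)
theorem F48996 : act 8 n12447 = n12447 := d25_2 F44890 D12447 (iv D12447)
def n12448 : Q := act 8 n11416
theorem D12448 : act 8 n11416 = n12448 := rfl
theorem F48997 : act 0 n12448 = n12448 := d7_1 D12448 (iv D12448) F44891
theorem F48998 : act 1 n12448 = n11457 := d14_1 D12448 (iv D11457) (iv F44892)
theorem F48999 : act 3 n12448 = n11433 := d25_1 D12448 (iv D11433) (iv F44893)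
theorem F49000 : act 4 n12448 = n12448 := d29_1 D12448 (iv D12448) F44894
theorem F49001 : act 5 n12448 = n11747 := d32_1 D12448 (iv D11747) (iv F44895)
theorem F49002 : act 6 n12448 = n11417 := d34_1 D12448 (iv D11417) D11416
def n12449 : Q := act 7 n11417
theorem D12449 : act 7 n11417 = n12449 := rfl
theorem F49003 : act 0 n12449 = n12449 := d6_1 D12449 (iv D12449) F44897
theorem F49004 : act 1 n12449 = n11458 := d13_1 D12449 (iv D11458) (iv F44898)
theorem F49005 : act 4 n12449 = n12449 := d28_1 D12449 (iv D12449) F44900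
theorem F49006 : act 5 n12449 = n11418 := d31_1 D12449 (iv D11418) (iv F44901)
theorem F49007 : act 8 n12449 = n12449 := d35_2 D11417 D12449 (iv D12449) (iv D11417) F41246
def n12450 : Q := act 3 n11418
theorem D12450 : act 3 n11418 = n12450 := rfl
theorem F49008 : act 0 n12450 = n12450 := d2_1 D12450 (iv D12450) F44902
theorem F49009 : act 1 n12450 = n11459 := d9_1 D12450 (iv D11459) (iv F44903)
theorem F49010 : act 4 n12450 = n12450 := d21_2 (iv F44904) D12450 (iv D12450) F44904 F41254
theorem F49011 : act 6 n12450 = n11749 := d23_2 (iv F44905) D12450 (iv D11749)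
theorem F49012 : act 7 n12450 = n11435 := d24_2 D11418 D12450 (iv D11435) (iv D10477) (iv F41249)
theorem F49013 : act 8 n12450 = n12450 := d25_2 F44906 D12450 (iv D12450)
def n12451 : Q := act 5 n11419
theorem D12451 : act 5 n11419 = n12451 := rfl
theorem F49014 : act 0 n12451 = n12451 := d4_1 D12451 (iv D12451) F44907
theorem F49015 : act 2 n12451 = n11740 := d17_1 D12451 (iv D11740) (iv F44908)
theorem F49016 : act 3 n12451 = n11420 := d22_1 D12451 (iv D11420) D11419
def n12452 : Q := act 7 n11419
theorem D12452 : act 7 n11419 = n12452 := rfl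
theorem F49017 : act 0 n12452 = n12452 := d6_1 D12452 (iv D12452) F44907
theorem F49018 : act 2 n12452 = n11741 := d19_1 D12452 (iv D11741) (iv F44908)
theorem F49019 : act 3 n12452 = n11603 := d24_1 D12452 (iv D11603) (iv D10653) (iv F41261) D11419
theorem F49020 : act 4 n12452 = n12442 := d28_1 D12452 (iv D12442) (iv F44909)
theorem F49021 : act 6 n12452 = n11427 := d33_1 D12452 (iv D11427) (iv F44910)
def n12453 : Q := act 8 n11419
theorem D12453 : act 8 n11419 = n12453 := rfl
theorem F49022 : act 0 n12453 = n12453 := d7_1 D12453 (iv D12453) F44907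
theorem F49023 : act 2 n12453 = n11742 := d20_1 D12453 (iv D11742) (iv F44908)
theorem F49024 : act 3 n12453 = n11421 := d25_1 D12453 (iv D11421) D11419
theorem F49025 : act 4 n12453 = n12443 := d29_1 D12453 (iv D12443) (iv F44909)
theorem F49026 : act 6 n12453 = n11428 := d34_1 D12453 (iv D11428) (iv F44910)
def n12454 : Q := act 6 n11420
theorem D12454 : act 6 n11420 = n12454 := rfl
theorem F49027 : act 0 n12454 = n12454 := d5_1 D12454 (iv D12454) F44911
theorem F49028 : act 2 n12454 = n11423 := d18_1 D12454 (iv D11423) (iv F44912)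
theorem F49029 : act 4 n12454 = n12454 := d27_1 D12454 (iv D12454) F44913
theorem F49030 : act 5 n12454 = n11429 := d30_1 D12454 (iv D11429) (iv D10472) (iv F41260) D11420
theorem F49031 : act 7 n12454 = n11605 := d33_2 (iv F44914) D12454 (iv D11605)
def n12455 : Q := act 8 n11420
theorem D12455 : act 8 n11420 = n12455 := rfl
theorem F49032 : act 0 n12455 = n12455 := d7_1 D12455 (iv D12455) F44911
theorem F49033 : act 2 n12455 = n11424 := d20_1 D12455 (iv D11424) (iv F44912)
theorem F49034 : act 4 n12455 = n12455 := d29_1 D12455 (iv D12455) F44913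
theorem F49035 : act 5 n12455 = n11421 := d32_1 D12455 (iv D11421) D11420
def n12456 : Q := act 7 n11421
theorem D12456 : act 7 n11421 = n12456 := rfl
theorem F49036 : act 0 n12456 = n12456 := d6_1 D12456 (iv D12456) F44915
theorem F49037 : act 2 n12456 = n11425 := d19_1 D12456 (iv D11425) (iv F44916)
theorem F49038 : act 4 n12456 = n11422 := d28_1 D12456 (iv D11422) (iv F44917)
theorem F49039 : act 6 n12456 = n11431 := d33_1 D12456 (iv D11431) (iv F44918)
theorem F49040 : act 8 n12456 = n11607 := d35_2 D11421 D12456 (iv D11607) (iv D10655) (iv F41261)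
def n12457 : Q := act 3 n11422
theorem D12457 : act 3 n11422 = n12457 := rfl
theorem F49041 : act 0 n12457 = n12457 := d2_1 D12457 (iv D12457) F44919
theorem F49042 : act 2 n12457 = n12457 := d15_1 D12457 (iv D12457) F44920 F41279 (iv F44920)
theorem F49043 : act 5 n12457 = n12457 := d22_2 F44921 D12457 (iv D12457)
theorem F49044 : act 6 n12457 = n11432 := d23_2 (iv F44922) D12457 (iv D11432)
theorem F49045 : act 7 n12457 = n12447 := d24_2 D11422 D12457 (iv D12447) (iv D11415) (iv F41264)
theorem F49046 : act 8 n12457 = n11608 := d25_2 (iv F44923) D12457 (iv D11608)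
def n12458 : Q := act 8 n11423
theorem D12458 : act 8 n11423 = n12458 := rfl
theorem F49047 : act 0 n12458 = n12458 := d7_1 D12458 (iv D12458) F44924
theorem F49048 : act 1 n12458 = n11460 := d14_1 D12458 (iv D11460) (iv F44925)
theorem F49049 : act 3 n12458 = n11747 := d25_1 D12458 (iv D11747) (iv F44926)
theorem F49050 : act 4 n12458 = n12458 := d29_1 D12458 (iv D12458) F44927
theorem F49051 : act 5 n12458 = n11433 := d32_1 D12458 (iv D11433) (iv F44928)
theorem F49052 : act 6 n12458 = n11424 := d34_1 D12458 (iv D11424) D11423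
def n12459 : Q := act 7 n11424
theorem D12459 : act 7 n11424 = n12459 := rfl
theorem F49053 : act 0 n12459 = n12459 := d6_1 D12459 (iv D12459) F44930
theorem F49054 : act 1 n12459 = n11461 := d13_1 D12459 (iv D11461) (iv F44931)
theorem F49055 : act 4 n12459 = n12459 := d28_1 D12459 (iv D12459) F44933
theorem F49056 : act 5 n12459 = n11425 := d31_1 D12459 (iv D11425) (iv F44934)
theorem F49057 : act 8 n12459 = n11610 := d35_2 D11424 D12459 (iv D11610) (iv D10658) (iv F41271)
def n12460 : Q := act 3 n11425
theorem D12460 : act 3 n11425 = n12460 := rfl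
theorem F49058 : act 0 n12460 = n12460 := d2_1 D12460 (iv D12460) F44935
theorem F49059 : act 1 n12460 = n11462 := d9_1 D12460 (iv D11462) (iv F44936)
theorem F49060 : act 4 n12460 = n12460 := d21_2 (iv F44937) D12460 (iv D12460) F44937 F41279
theorem F49061 : act 6 n12460 = n11435 := d23_2 (iv F44938) D12460 (iv D11435)
theorem F49062 : act 7 n12460 = n11749 := d24_2 D11425 D12460 (iv D11749) (iv D10790) (iv F41274)
theorem F49063 : act 8 n12460 = n11611 := d25_2 (iv F44939) D12460 (iv D11611)
def n12461 : Q := act 4 n11426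
theorem D12461 : act 4 n11426 = n12461 := rfl
theorem F49064 : act 0 n12461 = n12461 := d3_1 D12461 (iv D12461) F44940
theorem F49065 : act 3 n12461 = n11436 := d21_1 D12461 (iv D11436) F41309 (iv F41286) (iv F44941)
def n12462 : Q := act 6 n11426
theorem D12462 : act 6 n11426 = n12462 := rfl
theorem F49066 : act 0 n12462 = n12462 := d5_1 D12462 (iv D12462) F44940
theorem F49067 : act 3 n12462 = n11429 := d23_1 D12462 (iv D11429) (iv F44941)
theorem F49068 : act 7 n12461 = n12462 := d24_0 F49067 F44949 (iv F45715) (iv F45717) (iv F49065)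
def n12463 : Q := act 7 n11426
theorem D12463 : act 7 n11426 = n12463 := rfl
theorem F49069 : act 0 n12463 = n12463 := d6_1 D12463 (iv D12463) F44940
theorem F49070 : act 3 n12463 = n11614 := d24_1 D12463 (iv D11614) F42011 (iv F41287) (iv F44941)
theorem F49071 : act 4 n12463 = n12462 := d28_1 D12463 (iv F49068) (iv D12461)
theorem F49072 : act 5 n12463 = n11427 := d31_1 D12463 (iv D11427) D11426
theorem F49073 : act 6 n12463 = n12461 := d33_1 D12463 F49068 (iv D12462)
def n12464 : Q := act 8 n11426
theorem D12464 : act 8 n11426 = n12464 := rfl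
theorem F49074 : act 0 n12464 = n12464 := d7_1 D12464 (iv D12464) F44940
theorem F49075 : act 3 n12464 = n11430 := d25_1 D12464 (iv D11430) (iv F44941)
theorem F49076 : act 5 n12464 = n11428 := d32_1 D12464 (iv D11428) D11426
def n12465 : Q := act 8 n11427
theorem D12465 : act 8 n11427 = n12465 := rfl
theorem F49077 : act 0 n12465 = n12465 := d7_1 D12465 (iv D12465) F44942
theorem F49078 : act 3 n12465 = n11616 := d25_1 D12465 (iv D11616) (iv F44943)
def n12466 : Q := act 7 n11428
theorem D12466 : act 7 n11428 = n12466 := rfl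
theorem F49079 : act 0 n12466 = n12466 := d6_1 D12466 (iv D12466) F44944
def n12467 : Q := act 8 n11429
theorem D12467 : act 8 n11429 = n12467 := rfl
theorem F49080 : act 0 n12467 = n12467 := d7_1 D12467 (iv D12467) F44946
theorem F49081 : act 2 n12467 = n11433 := d20_1 D12467 (iv D11433) (iv F44947)
theorem F49082 : act 4 n12467 = n11442 := d29_1 D12467 (iv D11442) (iv F44948)
theorem F49083 : act 6 n12467 = n11430 := d34_1 D12467 (iv D11430) D11429
def n12468 : Q := act 7 n11430
theorem D12468 : act 7 n11430 = n12468 := rfl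
theorem F49084 : act 0 n12468 = n12468 := d6_1 D12468 (iv D12468) F44950
theorem F49085 : act 2 n12468 = n11434 := d19_1 D12468 (iv D11434) (iv F44951)
theorem F49086 : act 4 n12468 = n11443 := d28_1 D12468 (iv D11443) (iv F44952)
theorem F49087 : act 5 n12468 = n11431 := d31_1 D12468 (iv D11431) (iv F44953)
theorem F49088 : act 8 n12468 = n11619 := d35_2 D11430 D12468 (iv D11619) (iv D10664) (iv F41287)
def n12469 : Q := act 3 n11431
theorem D12469 : act 3 n11431 = n12469 := rfl
theorem F49089 : act 0 n12469 = n12469 := d2_1 D12469 (iv D12469) F44954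
theorem F49090 : act 8 n12469 = n11620 := d25_2 (iv F44957) D12469 (iv D11620)
def n12470 : Q := act 4 n11432
theorem D12470 : act 4 n11432 = n12470 := rfl
theorem F49091 : act 0 n12470 = n12470 := d3_1 D12470 (iv D12470) F44958
theorem F49092 : act 2 n12470 = n12470 := d16_1 D12470 (iv D12470) F44959
theorem F49093 : act 8 n12470 = n11621 := d29_2 (iv F44961) D12470 (iv D11621)
def n12471 : Q := act 7 n11433
theorem D12471 : act 7 n11433 = n12471 := rfl
theorem F49094 : act 0 n12471 = n12471 := d6_1 D12471 (iv D12471) F44962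
theorem F49095 : act 1 n12471 = n11463 := d13_1 D12471 (iv D11463) (iv F44963)
theorem F49096 : act 4 n12471 = n11446 := d28_1 D12471 (iv D11446) (iv F44964)
theorem F49097 : act 6 n12471 = n11434 := d33_1 D12471 (iv D11434) (iv F44965)
theorem F49098 : act 8 n12471 = n11622 := d35_2 D11433 D12471 (iv D11622) (iv D10667) (iv F41298)
def n12472 : Q := act 3 n11434
theorem D12472 : act 3 n11434 = n12472 := rfl
theorem F49099 : act 0 n12472 = n12472 := d2_1 D12472 (iv D12472) F44966
theorem F49100 : act 1 n12472 = n11464 := d9_1 D12472 (iv D11464) (iv F44967)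
theorem F49101 : act 5 n12472 = n11435 := d22_2 (iv F44969) D12472 (iv D11435)
theorem F49102 : act 8 n12472 = n11623 := d25_2 (iv F44970) D12472 (iv D11623)
def n12473 : Q := act 2 n11435
theorem D12473 : act 2 n11435 = n12473 := rfl
theorem F49103 : act 0 n12473 = n12473 := d1_1 D12473 (iv D12473) F44971
theorem F49104 : act 4 n12473 = n12473 := d16_2 F44973 D12473 (iv D12473)
theorem F49105 : act 8 n12473 = n11624 := d20_2 (iv F44974) D12473 (iv D11624)
def n12474 : Q := act 8 n11436
theorem D12474 : act 8 n11436 = n12474 := rfl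
theorem F49106 : act 0 n12474 = n12474 := d7_1 D12474 (iv D12474) F44975
theorem F49107 : act 2 n12474 = n12474 := d20_1 D12474 (iv D12474) F44976
theorem F49108 : act 4 n12474 = n11439 := d29_1 D12474 (iv D11439) D11436
def n12475 : Q := act 8 n11437
theorem D12475 : act 8 n11437 = n12475 := rfl
theorem F49109 : act 0 n12475 = n12475 := d7_1 D12475 (iv D12475) F44977
theorem F49110 : act 2 n12475 = n12475 := d20_1 D12475 (iv D12475) F44978
theorem F49111 : act 3 n12475 = n11442 := d25_1 D12475 (iv D11442) (iv F44979)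
theorem F49112 : act 5 n12475 = n12475 := d32_1 D12475 (iv D12475) F44980
theorem F49113 : act 6 n12475 = n11439 := d34_1 D12475 (iv D11439) D11437
def n12476 : Q := act 8 n11438
theorem D12476 : act 8 n11438 = n12476 := rfl
theorem F49114 : act 0 n12476 = n12476 := d7_1 D12476 (iv D12476) F44981
theorem F49115 : act 2 n12476 = n12476 := d20_1 D12476 (iv D12476) F44982
theorem F49116 : act 3 n12476 = n11627 := d25_1 D12476 (iv D11627) (iv F44983)
theorem F49117 : act 5 n12476 = n11440 := d32_1 D12476 (iv D11440) (iv F44984)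
def n12477 : Q := act 7 n11439
theorem D12477 : act 7 n11439 = n12477 := rfl
theorem F49118 : act 0 n12477 = n12477 := d6_1 D12477 (iv D12477) F44985
theorem F49119 : act 2 n12477 = n12477 := d19_1 D12477 (iv D12477) F44986
theorem F49120 : act 5 n12477 = n11441 := d31_1 D12477 (iv D11441) (iv F44988)
def n12478 : Q := act 7 n11440
theorem D12478 : act 7 n11440 = n12478 := rfl
theorem F49121 : act 0 n12478 = n12478 := d6_1 D12478 (iv D12478) F44989
theorem F49122 : act 1 n12478 = n12108 := d13_1 D12478 F48656 F48653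
theorem F49123 : act 2 n12478 = n12478 := d19_1 D12478 (iv D12478) F44990
theorem F49124 : act 3 n12478 = n12079 := d24_1 D12478 F47606 F45784 (iv D11629) (iv F44991)
theorem F49125 : act 6 n12478 = n12478 := d33_1 D12478 (iv D12478) F44992
theorem F49126 : act 8 n12478 = n11441 := d35_2 D11440 D12478 (iv D11441) (iv D10480) D10479
def n12479 : Q := act 3 n11441
theorem D12479 : act 3 n11441 = n12479 := rfl
theorem F49127 : act 0 n12479 = n12479 := d2_1 D12479 (iv D12479) F44993
theorem F49128 : act 1 n12479 = n12110 := d9_1 D12479 F48661 F48658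
theorem F49129 : act 6 n12479 = n12479 := d23_2 F44995 D12479 (iv D12479)
theorem F49130 : act 7 n12479 = n11444 := d24_2 D11441 D12479 (iv D11444) (iv D10483) (iv F41316)
theorem F49131 : act 8 n12479 = n12079 := d25_2 F49126 D12479 (iv F49124)
theorem F49132 : act 2 n12081 = n12479 := d20_3 F49131 F47604 D12081
theorem F49133 : act 4 n12080 = n12479 := d29_3 F49131 (iv D12079) D12080
def n12480 : Q := act 7 n11442
theorem D12480 : act 7 n11442 = n12480 := rfl
theorem F49134 : act 0 n12480 = n12480 := d6_1 D12480 (iv D12480) F44996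
theorem F49135 : act 2 n12480 = n11446 := d19_1 D12480 (iv D11446) (iv F44997)
theorem F49136 : act 5 n12480 = n12480 := d31_1 D12480 (iv D12480) F44998
theorem F49137 : act 6 n12480 = n11443 := d33_1 D12480 (iv D11443) (iv F44999)
theorem F49138 : act 8 n12480 = n11630 := d35_2 D11442 D12480 (iv D11630) (iv D10676) (iv F41321)
def n12481 : Q := act 3 n11443
theorem D12481 : act 3 n11443 = n12481 := rfl
theorem F49139 : act 0 n12481 = n12481 := d2_1 D12481 (iv D12481) F45000
theorem F49140 : act 2 n12481 = n12423 := d15_1 D12481 F48898 F45619 (iv D11447) (iv F45001)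
theorem F49141 : act 5 n12481 = n11444 := d22_2 (iv F45002) D12481 (iv D11444)
theorem F49142 : act 8 n12481 = n11631 := d25_2 (iv F45003) D12481 (iv D11631)
theorem F49143 : act 4 n12422 = n12481 := d29_3 F49142 (iv F45793) D12422
def n12482 : Q := act 5 n11449
theorem D12482 : act 5 n11449 = n12482 := rfl
theorem F49144 : act 0 n12482 = n11451 := d4_1 D12482 (iv D11451) (iv F45026)
theorem F49145 : act 1 n12482 = n11467 := d11_1 D12482 (iv D11467) (iv F45027)
theorem F49146 : act 4 n12482 = n12482 := d26_1 D12482 (iv D12482) (iv D11449) F41351 D11449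
theorem F49147 : act 7 n12482 = n12482 := d31_2 F45029 D12482 (iv D12482)
def n12483 : Q := act 8 n11449
theorem D12483 : act 8 n11449 = n12483 := rfl
theorem F49148 : act 0 n12483 = n11452 := d7_1 D12483 (iv D11452) (iv F45026)
theorem F49149 : act 1 n12483 = n11468 := d14_1 D12483 (iv D11468) (iv F45027)
theorem F49150 : act 4 n12483 = n11450 := d29_1 D12483 (iv D11450) D11449
theorem F49151 : act 6 n12483 = n11647 := d34_1 D12483 (iv D11647) (iv F45028)
def n12484 : Q := act 7 n11450
theorem D12484 : act 7 n11450 = n12484 := rfl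
theorem F49152 : act 0 n12484 = n11453 := d6_1 D12484 (iv D11453) (iv F45030)
theorem F49153 : act 1 n12484 = n11469 := d13_1 D12484 (iv D11469) (iv F45031)
theorem F49154 : act 5 n12484 = n12484 := d31_1 D12484 (iv D12484) F45033
theorem F49155 : act 6 n12484 = n11648 := d33_1 D12484 (iv D11648) (iv F45034)
theorem F49156 : act 8 n12484 = n12484 := d35_2 D11450 D12484 (iv D12484) (iv D11450) F41353
def n12485 : Q := act 6 n11451
theorem D12485 : act 6 n11451 = n12485 := rfl
theorem F49157 : act 1 n12485 = n11454 := d12_1 D12485 (iv D11454) (iv F45035)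
theorem F49158 : act 4 n12485 = n12485 := d27_1 D12485 (iv D12485) F45036
theorem F49159 : act 5 n12485 = n11701 := d30_1 D12485 (iv D11701) (iv D10749) (iv F41355) D11451
theorem F49160 : act 7 n12485 = n12485 := d33_2 F45037 D12485 (iv D12485)
def n12486 : Q := act 8 n11451
theorem D12486 : act 8 n11451 = n12486 := rfl
theorem F49161 : act 1 n12486 = n11455 := d14_1 D12486 (iv D11455) (iv F45035)
theorem F49162 : act 4 n12486 = n12486 := d29_1 D12486 (iv D12486) F45036
theorem F49163 : act 5 n12486 = n11452 := d32_1 D12486 (iv D11452) D11451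
def n12487 : Q := act 7 n11452
theorem D12487 : act 7 n11452 = n12487 := rfl
theorem F49164 : act 1 n12487 = n11456 := d13_1 D12487 (iv D11456) (iv F45038)
theorem F49165 : act 4 n12487 = n11453 := d28_1 D12487 (iv D11453) (iv F45039)
theorem F49166 : act 6 n12487 = n11703 := d33_1 D12487 (iv D11703) (iv F45040)
theorem F49167 : act 8 n12487 = n12487 := d35_2 D11452 D12487 (iv D12487) (iv D11452) F41356
def n12488 : Q := act 8 n11454
theorem D12488 : act 8 n11454 = n12488 := rfl
theorem F49168 : act 0 n12488 = n11473 := d7_1 D12488 (iv D11473) (iv F45045)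
theorem F49169 : act 2 n12488 = n11457 := d20_1 D12488 (iv D11457) (iv F45046)
theorem F49170 : act 4 n12488 = n12488 := d29_1 D12488 (iv D12488) F45047
theorem F49171 : act 5 n12488 = n11720 := d32_1 D12488 (iv D11720) (iv F45048)
theorem F49172 : act 6 n12488 = n11455 := d34_1 D12488 (iv D11455) D11454
def n12489 : Q := act 7 n11455
theorem D12489 : act 7 n11455 = n12489 := rfl
theorem F49173 : act 0 n12489 = n11474 := d6_1 D12489 (iv D11474) (iv F45050)
theorem F49174 : act 2 n12489 = n11458 := d19_1 D12489 (iv D11458) (iv F45051)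
theorem F49175 : act 4 n12489 = n12489 := d28_1 D12489 (iv D12489) F45052
theorem F49176 : act 5 n12489 = n11456 := d31_1 D12489 (iv D11456) (iv F45053)
theorem F49177 : act 8 n12489 = n12489 := d35_2 D11455 D12489 (iv D12489) (iv D11455) F41364
def n12490 : Q := act 3 n11456
theorem D12490 : act 3 n11456 = n12490 := rfl
theorem F49178 : act 0 n12490 = n11475 := d2_1 D12490 (iv D11475) (iv F45054)
theorem F49179 : act 6 n12490 = n11722 := d23_2 (iv F45057) D12490 (iv D11722)
theorem F49180 : act 8 n12490 = n12490 := d25_2 F45058 D12490 (iv D12490)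
def n12491 : Q := act 7 n11457
theorem D12491 : act 7 n11457 = n12491 := rfl
theorem F49181 : act 0 n12491 = n11476 := d6_1 D12491 (iv D11476) (iv F45059)
theorem F49182 : act 4 n12491 = n12491 := d28_1 D12491 (iv D12491) F45061
theorem F49183 : act 5 n12491 = n11763 := d31_1 D12491 (iv D11763) (iv F45062)
theorem F49184 : act 6 n12491 = n11458 := d33_1 D12491 (iv D11458) (iv F45063)
theorem F49185 : act 8 n12491 = n12491 := d35_2 D11457 D12491 (iv D12491) (iv D11457) F41378
def n12492 : Q := act 3 n11458
theorem D12492 : act 3 n11458 = n12492 := rfl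
theorem F49186 : act 0 n12492 = n11477 := d2_1 D12492 (iv D11477) (iv F45064)
theorem F49187 : act 5 n12492 = n11459 := d22_2 (iv F45066) D12492 (iv D11459)
theorem F49188 : act 7 n12492 = n11464 := d24_2 D11458 D12492 (iv D11464) (iv D10501) (iv F41380)
theorem F49189 : act 8 n12492 = n12492 := d25_2 F45067 D12492 (iv D12492)
def n12493 : Q := act 2 n11459
theorem D12493 : act 2 n11459 = n12493 := rfl
theorem F49190 : act 0 n12493 = n11478 := d1_1 D12493 (iv D11478) (iv F45068)
theorem F49191 : act 4 n12493 = n12493 := d16_2 F45069 D12493 (iv D12493)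
theorem F49192 : act 6 n12493 = n11765 := d18_2 (iv F45070) D12493 (iv D11765)
theorem F49193 : act 7 n12493 = n11465 := d19_2 (iv F45071) D12493 (iv D11465)
theorem F49194 : act 8 n12493 = n12493 := d20_2 F45072 D12493 (iv D12493)
def n12494 : Q := act 7 n11460
theorem D12494 : act 7 n11460 = n12494 := rfl
theorem F49195 : act 0 n12494 = n11479 := d6_1 D12494 (iv D11479) (iv F45073)
theorem F49196 : act 4 n12494 = n12494 := d28_1 D12494 (iv D12494) F45075
theorem F49197 : act 5 n12494 = n11463 := d31_1 D12494 (iv D11463) (iv F45076)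
theorem F49198 : act 6 n12494 = n11461 := d33_1 D12494 (iv D11461) (iv F45077)
theorem F49199 : act 8 n12494 = n11632 := d35_2 D11460 D12494 (iv D11632) (iv D10683) (iv F41391)
def n12495 : Q := act 3 n11461
theorem D12495 : act 3 n11461 = n12495 := rfl
theorem F49200 : act 0 n12495 = n11480 := d2_1 D12495 (iv D11480) (iv F45078)
theorem F49201 : act 5 n12495 = n11462 := d22_2 (iv F45080) D12495 (iv D11462)
theorem F49202 : act 7 n12495 = n11764 := d24_2 D11461 D12495 (iv D11764) (iv D10802) (iv F41393)
theorem F49203 : act 8 n12495 = n11633 := d25_2 (iv F45081) D12495 (iv D11633)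
def n12496 : Q := act 2 n11462
theorem D12496 : act 2 n11462 = n12496 := rfl
theorem F49204 : act 0 n12496 = n11481 := d1_1 D12496 (iv D11481) (iv F45082)
theorem F49205 : act 4 n12496 = n12496 := d16_2 F45083 D12496 (iv D12496)
theorem F49206 : act 6 n12496 = n11465 := d18_2 (iv F45084) D12496 (iv D11465)
theorem F49207 : act 7 n12496 = n11765 := d19_2 (iv F45085) D12496 (iv D11765)
theorem F49208 : act 8 n12496 = n11634 := d20_2 (iv F45086) D12496 (iv D11634)
def n12497 : Q := act 1 n11465
theorem D12497 : act 1 n11465 = n12497 := rfl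
theorem F49209 : act 4 n12497 = n12497 := d10_2 F45095 D12497 (iv D12497)
theorem F49210 : act 8 n12497 = n11635 := d14_2 (iv F45096) D12497 (iv D11635)
def n12498 : Q := act 6 n11467
theorem D12498 : act 6 n11467 = n12498 := rfl
theorem F49211 : act 0 n12498 = n11470 := d5_1 D12498 (iv D11470) (iv F45103)
theorem F49212 : act 2 n12498 = n12498 := d18_1 D12498 (iv D12498) F45104
theorem F49213 : act 4 n12498 = n12498 := d27_1 D12498 (iv D12498) F45105
theorem F49214 : act 5 n12498 = n11665 := d30_1 D12498 (iv D11665) (iv D10717) (iv F41430) D11467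
theorem F49215 : act 7 n12498 = n12498 := d33_2 F45106 D12498 (iv D12498)
def n12499 : Q := act 8 n11467
theorem D12499 : act 8 n11467 = n12499 := rfl
theorem F49216 : act 0 n12499 = n11471 := d7_1 D12499 (iv D11471) (iv F45103)
theorem F49217 : act 2 n12499 = n12499 := d20_1 D12499 (iv D12499) F45104
theorem F49218 : act 4 n12499 = n12499 := d29_1 D12499 (iv D12499) F45105
theorem F49219 : act 5 n12499 = n11468 := d32_1 D12499 (iv D11468) D11467
def n12500 : Q := act 7 n11468
theorem D12500 : act 7 n11468 = n12500 := rfl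
theorem F49220 : act 0 n12500 = n11472 := d6_1 D12500 (iv D11472) (iv F45107)
theorem F49221 : act 2 n12500 = n12500 := d19_1 D12500 (iv D12500) F45108
theorem F49222 : act 4 n12500 = n11469 := d28_1 D12500 (iv D11469) (iv F45109)
theorem F49223 : act 6 n12500 = n11667 := d33_1 D12500 (iv D11667) (iv F45110)
theorem F49224 : act 8 n12500 = n12500 := d35_2 D11468 D12500 (iv D12500) (iv D11468) F41431
def n12501 : Q := act 8 n11470
theorem D12501 : act 8 n11470 = n12501 := rfl
theorem F49225 : act 1 n12501 = n11473 := d14_1 D12501 (iv D11473) (iv F45116)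
theorem F49226 : act 2 n12501 = n12501 := d20_1 D12501 (iv D12501) F45117
theorem F49227 : act 4 n12501 = n12501 := d29_1 D12501 (iv D12501) F45118
theorem F49228 : act 5 n12501 = n11680 := d32_1 D12501 (iv D11680) (iv F45119)
theorem F49229 : act 6 n12501 = n11471 := d34_1 D12501 (iv D11471) D11470
def n12502 : Q := act 7 n11471
theorem D12502 : act 7 n11471 = n12502 := rfl
theorem F49230 : act 1 n12502 = n11474 := d13_1 D12502 (iv D11474) (iv F45121)
theorem F49231 : act 2 n12502 = n12502 := d19_1 D12502 (iv D12502) F45122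
theorem F49232 : act 4 n12502 = n12502 := d28_1 D12502 (iv D12502) F45123
theorem F49233 : act 5 n12502 = n11472 := d31_1 D12502 (iv D11472) (iv F45124)
theorem F49234 : act 8 n12502 = n12502 := d35_2 D11471 D12502 (iv D12502) (iv D11471) F41440
def n12503 : Q := act 3 n11472
theorem D12503 : act 3 n11472 = n12503 := rfl
theorem F49235 : act 1 n12503 = n11475 := d9_1 D12503 (iv D11475) (iv F45125)
theorem F49236 : act 6 n12503 = n11682 := d23_2 (iv F45128) D12503 (iv D11682)
theorem F49237 : act 8 n12503 = n12503 := d25_2 F45129 D12503 (iv D12503)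
def n12504 : Q := act 7 n11473
theorem D12504 : act 7 n11473 = n12504 := rfl
theorem F49238 : act 2 n12504 = n11476 := d19_1 D12504 (iv D11476) (iv F45130)
theorem F49239 : act 4 n12504 = n12504 := d28_1 D12504 (iv D12504) F45131
theorem F49240 : act 5 n12504 = n11731 := d31_1 D12504 (iv D11731) (iv F45132)
theorem F49241 : act 6 n12504 = n11474 := d33_1 D12504 (iv D11474) (iv F45133)
theorem F49242 : act 8 n12504 = n12504 := d35_2 D11473 D12504 (iv D12504) (iv D11473) F41453
def n12505 : Q := act 3 n11474
theorem D12505 : act 3 n11474 = n12505 := rfl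
theorem F49243 : act 5 n12505 = n11475 := d22_2 (iv F45136) D12505 (iv D11475)
theorem F49244 : act 8 n12505 = n12505 := d25_2 F45137 D12505 (iv D12505)
def n12506 : Q := act 2 n11475
theorem D12506 : act 2 n11475 = n12506 := rfl
theorem F49245 : act 3 n12506 = n11478 := d15_2 D11475 D12506 (iv D11478) (iv D10517) (iv F41457)
theorem F49246 : act 6 n12506 = n11733 := d18_2 (iv F45138) D12506 (iv D11733)
theorem F49247 : act 8 n12506 = n12506 := d20_2 F45139 D12506 (iv D12506)
def n12507 : Q := act 5 n11483
theorem D12507 : act 5 n11483 = n12507 := rfl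
theorem F49248 : act 0 n12507 = n11529 := d4_1 D12507 (iv D11529) (iv F45171)
theorem F49249 : act 2 n12507 = n12507 := d17_1 D12507 (iv D12507) F45172
theorem F49250 : act 3 n12507 = n11484 := d22_1 D12507 (iv D11484) D11483
def n12508 : Q := act 3 n11489
theorem D12508 : act 3 n11489 = n12508 := rfl
theorem F49251 : act 0 n12508 = n11542 := d2_1 D12508 (iv D11542) (iv F45195)
theorem F49252 : act 1 n12508 = n12508 := d9_1 D12508 (iv D12508) F45196
theorem F49253 : act 2 n12508 = n11563 := d15_1 D12508 (iv D11563) F41811 (iv F41563) (iv F45197)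
theorem F49254 : act 5 n12508 = n11535 := d22_2 (iv F45198) D12508 (iv D11535)
theorem F49255 : act 6 n12508 = n11490 := d23_2 (iv F45199) D12508 (iv D11490)
theorem F49256 : act 7 n12508 = n12508 := d24_2 D11489 D12508 (iv D12508) (iv D11489) F41554
def n12509 : Q := act 2 n11490
theorem D12509 : act 2 n11490 = n12509 := rfl
theorem F49257 : act 0 n12509 = n11544 := d1_1 D12509 (iv D11544) (iv F45200)
theorem F49258 : act 3 n12509 = n11492 := d15_2 D11490 D12509 (iv D11492) (iv D10538) (iv F41559)
theorem F49259 : act 5 n12509 = n12509 := d17_2 F45202 D12509 (iv D12509)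
theorem F49260 : act 6 n12509 = n11563 := d18_2 F49255 D12509 (iv F49253)
theorem F49261 : act 7 n12509 = n12509 := d19_2 F45203 D12509 (iv D12509)
theorem F49262 : act 1 n11608 = n12509 := d12_3 F49260 F45491 (iv F45690)
def n12510 : Q := act 4 n11490
theorem D12510 : act 4 n11490 = n12510 := rfl
theorem F49263 : act 0 n12510 = n11545 := d3_1 D12510 (iv D11545) (iv F45200)
theorem F49264 : act 1 n12510 = n12510 := d10_1 D12510 (iv D12510) F45201
theorem F49265 : act 7 n12510 = n12510 := d28_2 F45203 D12510 (iv D12510)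
def n12511 : Q := act 8 n11490
theorem D12511 : act 8 n11490 = n12511 := rfl
theorem F49266 : act 0 n12511 = n11546 := d7_1 D12511 (iv D11546) (iv F45200)
theorem F49267 : act 1 n12511 = n12511 := d14_1 D12511 (iv D12511) F45201
theorem F49268 : act 3 n12511 = n11491 := d25_1 D12511 (iv D11491) D11490
theorem F49269 : act 5 n12511 = n12511 := d32_1 D12511 (iv D12511) F45202
def n12512 : Q := act 4 n11492
theorem D12512 : act 4 n11492 = n12512 := rfl
theorem F49270 : act 0 n12512 = n11547 := d3_1 D12512 (iv D11547) (iv F45208)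
theorem F49271 : act 1 n12512 = n11607 := d10_1 D12512 F45685 (iv F45209)
theorem F49272 : act 2 n12512 = n11493 := d16_1 D12512 (iv D11493) D11492
theorem F49273 : act 6 n12512 = n11562 := d27_2 (iv F45211) D12512 F45490
theorem F49274 : act 7 n12512 = n11494 := d28_2 (iv F45212) D12512 (iv D11494)
def n12513 : Q := act 5 n11493
theorem D12513 : act 5 n11493 = n12513 := rfl
theorem F49275 : act 0 n12513 = n11549 := d4_1 D12513 (iv D11549) (iv F45213)
theorem F49276 : act 1 n12513 = n11515 := d11_1 D12513 (iv D11515) (iv F45214)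
theorem F49277 : act 4 n12513 = n12513 := d26_1 D12513 (iv D12513) (iv D11493) F41568 D11493
theorem F49278 : act 7 n12513 = n11495 := d31_2 (iv F45216) D12513 (iv D11495)
def n12514 : Q := act 3 n11494
theorem D12514 : act 3 n11494 = n12514 := rfl
theorem F49279 : act 0 n12514 = n11551 := d2_1 D12514 (iv D11551) (iv F45217)
theorem F49280 : act 1 n12514 = n11604 := d9_1 D12514 F45672 (iv F45218)
theorem F49281 : act 2 n12514 = n11498 := d15_1 D12514 (iv D11498) F41598 (iv F41582) (iv F45219)
theorem F49282 : act 4 n12514 = n12514 := d21_2 D11494 D12514 (iv D12514) (iv D11494) F41576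
theorem F49283 : act 6 n12514 = n11559 := d23_2 (iv F45220) D12514 F45479
theorem F49284 : act 8 n12514 = n11554 := d25_2 (iv F45221) D12514 (iv D11554)
def n12515 : Q := act 5 n11494
theorem D12515 : act 5 n11494 = n12515 := rfl
theorem F49285 : act 0 n12515 = n11552 := d4_1 D12515 (iv D11552) (iv F45217)
theorem F49286 : act 1 n12515 = n11606 := d11_1 D12515 F45682 (iv F45218)
theorem F49287 : act 2 n12515 = n11495 := d17_1 D12515 (iv D11495) (iv F45219)
theorem F49288 : act 4 n12515 = n12515 := d26_1 D12515 (iv D12515) (iv D11494) F41577 D11494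
theorem F49289 : act 8 n12515 = n11555 := d32_2 (iv F45221) D12515 (iv D11555)
def n12516 : Q := act 6 n11495
theorem D12516 : act 6 n11495 = n12516 := rfl
theorem F49290 : act 0 n12516 = n11553 := d5_1 D12516 (iv D11553) (iv F45222)
theorem F49291 : act 1 n12516 = n11516 := d12_1 D12516 (iv D11516) (iv F45223)
theorem F49292 : act 3 n12516 = n11502 := d23_1 D12516 (iv D11502) (iv F45224)
theorem F49293 : act 4 n12516 = n12516 := d27_1 D12516 (iv D12516) F45225
theorem F49294 : act 5 n12516 = n11564 := d30_1 D12516 F45496 F41817 (iv F41583) D11495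
theorem F49295 : act 8 n12516 = n11556 := d34_2 (iv F45226) D12516 (iv D11556)
def n12517 : Q := act 3 n11496
theorem D12517 : act 3 n11496 = n12517 := rfl
theorem F49296 : act 0 n12517 = n11554 := d2_1 D12517 (iv D11554) (iv F45227)
theorem F49297 : act 1 n12517 = n12517 := d9_1 D12517 (iv D12517) F45228
theorem F49298 : act 2 n12517 = n11559 := d15_1 D12517 F45479 F41808 (iv F41593) (iv F45229)
theorem F49299 : act 4 n12517 = n12517 := d21_2 D11496 D12517 (iv D12517) (iv D11496) F41587
theorem F49300 : act 6 n12517 = n11498 := d23_2 (iv F45230) D12517 (iv D11498)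
theorem F49301 : act 8 n12517 = n11551 := d25_2 (iv F45231) D12517 (iv D11551)
def n12518 : Q := act 5 n11496
theorem D12518 : act 5 n11496 = n12518 := rfl
theorem F49302 : act 0 n12518 = n11555 := d4_1 D12518 (iv D11555) (iv F45227)
theorem F49303 : act 1 n12518 = n12518 := d11_1 D12518 (iv D12518) F45228
theorem F49304 : act 2 n12518 = n11497 := d17_1 D12518 (iv D11497) (iv F45229)
theorem F49305 : act 4 n12518 = n12518 := d26_1 D12518 (iv D12518) (iv D11496) F41588 D11496
theorem F49306 : act 8 n12518 = n11552 := d32_2 (iv F45231) D12518 (iv D11552)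
def n12519 : Q := act 6 n11497
theorem D12519 : act 6 n11497 = n12519 := rfl
theorem F49307 : act 0 n12519 = n11556 := d5_1 D12519 (iv D11556) (iv F45232)
theorem F49308 : act 1 n12519 = n11517 := d12_1 D12519 (iv D11517) (iv F45233)
theorem F49309 : act 3 n12519 = n11564 := d23_1 D12519 F45496 (iv F45234)
theorem F49310 : act 4 n12519 = n12519 := d27_1 D12519 (iv D12519) F45235
theorem F49311 : act 5 n12519 = n11502 := d30_1 D12519 (iv D11502) (iv D10546) (iv F41594) D11497
theorem F49312 : act 8 n12519 = n11553 := d34_2 (iv F45236) D12519 (iv D11553)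
def n12520 : Q := act 5 n11498
theorem D12520 : act 5 n11498 = n12520 := rfl
theorem F49313 : act 0 n12520 = n11557 := d4_1 D12520 (iv D11557) (iv F45237)
theorem F49314 : act 1 n12520 = n12520 := d11_1 D12520 (iv D12520) F45238
theorem F49315 : act 3 n12520 = n11499 := d22_1 D12520 (iv D11499) D11498
def n12521 : Q := act 7 n11498
theorem D12521 : act 7 n11498 = n12521 := rfl
theorem F49316 : act 0 n12521 = n11558 := d6_1 D12521 (iv D11558) (iv F45237)
theorem F49317 : act 1 n12521 = n12521 := d13_1 D12521 (iv D12521) F45238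
theorem F49318 : act 4 n12521 = n12521 := d28_1 D12521 (iv D12521) F45239
def n12522 : Q := act 8 n11498
theorem D12522 : act 8 n11498 = n12522 := rfl
theorem F49319 : act 0 n12522 = n11559 := d7_1 D12522 (iv D11559) (iv F45237)
theorem F49320 : act 1 n12522 = n12522 := d14_1 D12522 (iv D12522) F45238
theorem F49321 : act 2 n12522 = n11554 := d20_1 D12522 (iv F49284) F49281
theorem F49322 : act 3 n12522 = n11500 := d25_1 D12522 (iv D11500) D11498
theorem F49323 : act 4 n12522 = n12522 := d29_1 D12522 (iv D12522) F45239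
theorem F49324 : act 6 n12522 = n11551 := d34_1 D12522 (iv F49301) F49300
def n12523 : Q := act 6 n11499
theorem D12523 : act 6 n11499 = n12523 := rfl
theorem F49325 : act 0 n12523 = n11560 := d5_1 D12523 (iv D11560) (iv F45240)
theorem F49326 : act 1 n12523 = n12523 := d12_1 D12523 (iv D12523) F45241
theorem F49327 : act 2 n12523 = n11502 := d18_1 D12523 (iv D11502) (iv F45242)
theorem F49328 : act 4 n12523 = n11508 := d27_1 D12523 (iv D11508) (iv F45243)
def n12524 : Q := act 8 n11499
theorem D12524 : act 8 n11499 = n12524 := rfl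
theorem F49329 : act 0 n12524 = n11561 := d7_1 D12524 (iv D11561) (iv F45240)
theorem F49330 : act 1 n12524 = n12524 := d14_1 D12524 (iv D12524) F45241
theorem F49331 : act 2 n12524 = n11503 := d20_1 D12524 (iv D11503) (iv F45242)
theorem F49332 : act 4 n12524 = n11509 := d29_1 D12524 (iv D11509) (iv F45243)
theorem F49333 : act 5 n12524 = n11500 := d32_1 D12524 (iv D11500) D11499
def n12525 : Q := act 7 n11500
theorem D12525 : act 7 n11500 = n12525 := rfl
theorem F49334 : act 0 n12525 = n11562 := d6_1 D12525 (iv D11562) (iv F45244)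
theorem F49335 : act 1 n12525 = n12525 := d13_1 D12525 (iv D12525) F45245
theorem F49336 : act 2 n12525 = n11504 := d19_1 D12525 (iv D11504) (iv F45246)
theorem F49337 : act 4 n12525 = n11501 := d28_1 D12525 (iv D11501) (iv F45247)
theorem F49338 : act 6 n12525 = n11547 := d33_1 D12525 F45447 (iv F45248)
def n12526 : Q := act 3 n11501
theorem D12526 : act 3 n11501 = n12526 := rfl
theorem F49339 : act 0 n12526 = n11563 := d2_1 D12526 (iv D11563) (iv F45249)
theorem F49340 : act 1 n12526 = n12526 := d9_1 D12526 (iv D12526) F45250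
theorem F49341 : act 2 n12526 = n11542 := d15_1 D12526 (iv D11542) F41774 (iv F41615) (iv F45251)
theorem F49342 : act 5 n12526 = n11511 := d22_2 (iv F45252) D12526 (iv D11511)
theorem F49343 : act 6 n12526 = n11544 := d23_2 (iv F45253) D12526 F45437
theorem F49344 : act 7 n12526 = n12526 := d24_2 D11501 D12526 (iv D12526) (iv D11501) F41602
def n12527 : Q := act 8 n11502
theorem D12527 : act 8 n11502 = n12527 := rfl
theorem F49345 : act 0 n12527 = n11564 := d7_1 D12527 (iv D11564) (iv F45254)
theorem F49346 : act 1 n12527 = n11518 := d14_1 D12527 (iv D11518) (iv F45255)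
theorem F49347 : act 3 n12527 = n11556 := d25_1 D12527 (iv F49295) F49292
theorem F49348 : act 4 n12527 = n11512 := d29_1 D12527 (iv D11512) (iv F45256)
theorem F49349 : act 5 n12527 = n11553 := d32_1 D12527 (iv F49312) F49311
theorem F49350 : act 6 n12527 = n11503 := d34_1 D12527 (iv D11503) D11502
def n12528 : Q := act 7 n11503
theorem D12528 : act 7 n11503 = n12528 := rfl
theorem F49351 : act 0 n12528 = n11565 := d6_1 D12528 (iv D11565) (iv F45257)
theorem F49352 : act 1 n12528 = n11519 := d13_1 D12528 (iv D11519) (iv F45258)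
theorem F49353 : act 4 n12528 = n11513 := d28_1 D12528 (iv D11513) (iv F45260)
theorem F49354 : act 5 n12528 = n11504 := d31_1 D12528 (iv D11504) (iv F45261)
def n12529 : Q := act 4 n11505
theorem D12529 : act 4 n11505 = n12529 := rfl
theorem F49355 : act 0 n12529 = n11567 := d3_1 D12529 (iv D11567) (iv F45266)
theorem F49356 : act 1 n12529 = n12529 := d10_1 D12529 (iv D12529) F45267
theorem F49357 : act 2 n12529 = n12529 := d16_1 D12529 (iv D12529) F45268
theorem F49358 : act 5 n12529 = n12529 := d26_2 D11505 D12529 (iv D12529) (iv D11505) F41621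
def n12530 : Q := act 6 n11505
theorem D12530 : act 6 n11505 = n12530 := rfl
theorem F49359 : act 0 n12530 = n11568 := d5_1 D12530 (iv D11568) (iv F45266)
theorem F49360 : act 1 n12530 = n12530 := d12_1 D12530 (iv D12530) F45267
theorem F49361 : act 2 n12530 = n12530 := d18_1 D12530 (iv D12530) F45268
theorem F49362 : act 3 n12530 = n11508 := d23_1 D12530 (iv D11508) (iv F45269)
theorem F49363 : act 5 n12530 = n12530 := d30_1 D12530 (iv D12530) (iv D11505) F41622 D11505
theorem F49364 : act 7 n12529 = n12530 := d6_0 F49359 (iv F45508) (iv F49355)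
def n12531 : Q := act 7 n11505
theorem D12531 : act 7 n11505 = n12531 := rfl
theorem F49365 : act 0 n12531 = n11569 := d6_1 D12531 (iv D11569) (iv F45266)
theorem F49366 : act 1 n12531 = n12531 := d13_1 D12531 (iv D12531) F45267
theorem F49367 : act 2 n12531 = n12531 := d19_1 D12531 (iv D12531) F45268
theorem F49368 : act 4 n12531 = n12530 := d28_1 D12531 (iv F49364) (iv D12529)
theorem F49369 : act 5 n12531 = n11506 := d31_1 D12531 (iv D11506) D11505
theorem F49370 : act 6 n12531 = n12529 := d33_1 D12531 F49364 (iv D12530)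
def n12532 : Q := act 8 n11505
theorem D12532 : act 8 n11505 = n12532 := rfl
theorem F49371 : act 0 n12532 = n11570 := d7_1 D12532 (iv D11570) (iv F45266)
theorem F49372 : act 1 n12532 = n12532 := d14_1 D12532 (iv D12532) F45267
theorem F49373 : act 2 n12532 = n12532 := d20_1 D12532 (iv D12532) F45268
theorem F49374 : act 3 n12532 = n11509 := d25_1 D12532 (iv D11509) (iv F45269)
theorem F49375 : act 5 n12532 = n11507 := d32_1 D12532 (iv D11507) D11505
def n12533 : Q := act 8 n11508
theorem D12533 : act 8 n11508 = n12533 := rfl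
theorem F49376 : act 0 n12533 = n11573 := d7_1 D12533 (iv D11573) (iv F45281)
theorem F49377 : act 1 n12533 = n12533 := d14_1 D12533 (iv D12533) F45282
theorem F49378 : act 2 n12533 = n11512 := d20_1 D12533 (iv D11512) (iv F45283)
theorem F49379 : act 5 n12533 = n12533 := d32_1 D12533 (iv D12533) F45284
theorem F49380 : act 6 n12533 = n11509 := d34_1 D12533 (iv D11509) D11508
def n12534 : Q := act 7 n11509
theorem D12534 : act 7 n11509 = n12534 := rfl
theorem F49381 : act 0 n12534 = n11574 := d6_1 D12534 (iv D11574) (iv F45285)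
theorem F49382 : act 1 n12534 = n12534 := d13_1 D12534 (iv D12534) F45286
theorem F49383 : act 2 n12534 = n11513 := d19_1 D12534 (iv D11513) (iv F45287)
theorem F49384 : act 5 n12534 = n11510 := d31_1 D12534 (iv D11510) (iv F45288)
def n12535 : Q := act 7 n11512
theorem D12535 : act 7 n11512 = n12535 := rfl
theorem F49385 : act 0 n12535 = n11577 := d6_1 D12535 (iv D11577) (iv F45298)
theorem F49386 : act 1 n12535 = n11520 := d13_1 D12535 (iv D11520) (iv F45299)
theorem F49387 : act 5 n12535 = n12535 := d31_1 D12535 (iv D12535) F45301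
theorem F49388 : act 6 n12535 = n11513 := d33_1 D12535 (iv D11513) (iv F45302)
def n12536 : Q := act 3 n11513
theorem D12536 : act 3 n11513 = n12536 := rfl
theorem F49389 : act 0 n12536 = n11578 := d2_1 D12536 (iv D11578) (iv F45303)
theorem F49390 : act 1 n12536 = n11521 := d9_1 D12536 (iv D11521) (iv F45304)
theorem F49391 : act 5 n12536 = n11514 := d22_2 (iv F45305) D12536 (iv D11514)
theorem F49392 : act 7 n12536 = n12536 := d24_2 D11513 D12536 (iv D12536) (iv D11513) F41641
def n12537 : Q := act 6 n11515
theorem D12537 : act 6 n11515 = n12537 := rfl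
theorem F49393 : act 0 n12537 = n11523 := d5_1 D12537 (iv D11523) (iv F45310)
theorem F49394 : act 2 n12537 = n11632 := d18_1 D12537 F45797 (iv F45311)
theorem F49395 : act 4 n12537 = n12537 := d27_1 D12537 (iv D12537) F45312
theorem F49396 : act 5 n12537 = n11582 := d30_1 D12537 F45574 F41876 (iv F41649) D11515
theorem F49397 : act 7 n12537 = n11516 := d33_2 (iv F45313) D12537 (iv D11516)
def n12538 : Q := act 7 n11518
theorem D12538 : act 7 n11518 = n12538 := rfl
theorem F49398 : act 0 n12538 = n11524 := d6_1 D12538 (iv D11524) (iv F45326)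
theorem F49399 : act 2 n12538 = n12538 := d19_1 D12538 (iv D12538) F45327
theorem F49400 : act 4 n12538 = n11520 := d28_1 D12538 (iv D11520) (iv F45329)
theorem F49401 : act 5 n12538 = n11580 := d31_1 D12538 F45566 (iv F45330)
theorem F49402 : act 6 n12538 = n11519 := d33_1 D12538 (iv D11519) (iv F45331)
def n12539 : Q := act 4 n11525
theorem D12539 : act 4 n11525 = n12539 := rfl
theorem F49403 : act 0 n12539 = n11945 := d3_1 D12539 (iv D11945) (iv F45357)
theorem F49404 : act 1 n12539 = n11590 := d10_1 D12539 (iv D11590) (iv F45358)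
theorem F49405 : act 2 n12539 = n11828 := d16_1 D12539 (iv D11828) (iv F45359)
theorem F49406 : act 6 n12539 = n11830 := d27_2 (iv F45361) D12539 (iv D11830)
theorem F49407 : act 7 n12539 = n12539 := d28_2 F45362 D12539 (iv D12539)
def n12540 : Q := act 8 n11525
theorem D12540 : act 8 n11525 = n12540 := rfl
theorem F49408 : act 0 n12540 = n11946 := d7_1 D12540 (iv D11946) (iv F45357)
theorem F49409 : act 1 n12540 = n11591 := d14_1 D12540 (iv D11591) (iv F45358)
theorem F49410 : act 2 n12540 = n11829 := d20_1 D12540 (iv D11829) (iv F45359)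
theorem F49411 : act 3 n12540 = n11526 := d25_1 D12540 (iv D11526) D11525
theorem F49412 : act 5 n12540 = n12540 := d32_1 D12540 (iv D12540) F45360
theorem F49413 : act 6 n12540 = n11831 := d34_1 D12540 (iv D11831) (iv F45361)
def n12541 : Q := act 5 n11527
theorem D12541 : act 5 n11527 = n12541 := rfl
theorem F49414 : act 0 n12541 = n11923 := d4_1 D12541 (iv D11923) (iv F45367)
theorem F49415 : act 1 n12541 = n12541 := d11_1 D12541 (iv D12541) F45368
theorem F49416 : act 2 n12541 = n11818 := d17_1 D12541 (iv D11818) (iv F45369)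
theorem F49417 : act 3 n12541 = n11528 := d22_1 D12541 (iv D11528) D11527
theorem F49418 : act 6 n12541 = n12141 := d30_2 (iv F45371) D12541 (iv D12141) (iv D11140) (iv F42750)
theorem F49419 : act 8 n12541 = n12066 := d32_2 (iv F45372) D12541 F47534
def n12542 : Q := act 7 n11527
theorem D12542 : act 7 n11527 = n12542 := rfl
theorem F49420 : act 0 n12542 = n11924 := d6_1 D12542 (iv D11924) (iv F45367)
theorem F49421 : act 1 n12542 = n12542 := d13_1 D12542 (iv D12542) F45368
theorem F49422 : act 2 n12542 = n11819 := d19_1 D12542 (iv D11819) (iv F45369)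
theorem F49423 : act 4 n12542 = n12542 := d28_1 D12542 (iv D12542) F45370
theorem F49424 : act 6 n12542 = n11817 := d33_1 D12542 (iv D11817) (iv F45371)
def n12543 : Q := act 4 n11529
theorem D12543 : act 4 n11529 = n12543 := rfl
theorem F49425 : act 1 n12543 = n12543 := d10_1 D12543 (iv D12543) F45376
theorem F49426 : act 2 n12543 = n12543 := d16_1 D12543 (iv D12543) F45377
theorem F49427 : act 5 n12543 = n12543 := d26_2 D11529 D12543 (iv D12543) (iv D11529) F41732
def n12544 : Q := act 6 n11529
theorem D12544 : act 6 n11529 = n12544 := rfl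
theorem F49428 : act 1 n12544 = n12544 := d12_1 D12544 (iv D12544) F45376
theorem F49429 : act 2 n12544 = n12544 := d18_1 D12544 (iv D12544) F45377
theorem F49430 : act 3 n12544 = n11532 := d23_1 D12544 (iv D11532) (iv F45378)
theorem F49431 : act 5 n12544 = n12544 := d30_1 D12544 (iv D12544) (iv D11529) F41733 D11529
def n12545 : Q := act 7 n11529
theorem D12545 : act 7 n11529 = n12545 := rfl
theorem F49432 : act 1 n12545 = n12545 := d13_1 D12545 (iv D12545) F45376
theorem F49433 : act 2 n12545 = n12545 := d19_1 D12545 (iv D12545) F45377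
theorem F49434 : act 5 n12545 = n11530 := d31_1 D12545 (iv D11530) D11529
theorem F49435 : act 8 n12531 = n12545 := d32_0 F49434 F45400 (iv F49369)
def n12546 : Q := act 8 n11529
theorem D12546 : act 8 n11529 = n12546 := rfl
theorem F49436 : act 1 n12546 = n12546 := d14_1 D12546 (iv D12546) F45376
theorem F49437 : act 2 n12546 = n12546 := d20_1 D12546 (iv D12546) F45377
theorem F49438 : act 3 n12546 = n11533 := d25_1 D12546 (iv D11533) (iv F45378)
theorem F49439 : act 5 n12546 = n11531 := d32_1 D12546 (iv D11531) D11529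
theorem F49440 : act 7 n12546 = n12532 := d35_1 D12546 (iv D12532) D12531 F49435 (iv D12545)
theorem F49441 : act 4 n12546 = n12544 := d38_3 F45399 F45387 (iv F49439) F49430 F45389 F41743 (iv F40829) (iv D10335) (iv D8546) (iv D6232) (iv D4553) F13234 F9888 (iv D2376) F7213 D2375 D3236 F12885 (iv F12956) (iv F17402) D6076 (iv F31722) F37854 F24350 F18041 F14383 F14382 D3653 F14410 F10739 F8023 D2676 F10742 (iv F14392) (iv F18051) F18050 F37589 F20416 (iv D5267) (iv F37643) F15172 (iv D2831) F37837 (iv F37856) (iv F17429) (iv F23481) (iv F31514) (iv F39715) D10938 F43085 F39721 F32728 D9292 D10594 F41784 F41786 (iv F41604) F41603 (iv F41629) (iv F45278) F45277 F45276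
theorem F49442 : act 6 n12543 = n12546 := d27_0 F49441 (iv D12544) D12543
theorem F49443 : act 8 n12544 = n12543 := d29_2 D12546 F49441 (iv D12543)
def n12547 : Q := act 8 n11532
theorem D12547 : act 8 n11532 = n12547 := rfl
theorem F49444 : act 1 n12547 = n12547 := d14_1 D12547 (iv D12547) F45388
theorem F49445 : act 2 n12547 = n11536 := d20_1 D12547 (iv D11536) (iv F45389)
theorem F49446 : act 3 n12547 = n12543 := d25_1 D12547 (iv F49443) F49430
theorem F49447 : act 4 n12547 = n12541 := d29_1 D12547 F49419 (iv F47536)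
theorem F49448 : act 5 n12547 = n12547 := d32_1 D12547 (iv D12547) F45390
theorem F49449 : act 6 n12547 = n11533 := d34_1 D12547 (iv D11533) D11532
def n12548 : Q := act 7 n11533
theorem D12548 : act 7 n11533 = n12548 := rfl
theorem F49450 : act 1 n12548 = n12548 := d13_1 D12548 (iv D12548) F45391
theorem F49451 : act 2 n12548 = n11537 := d19_1 D12548 (iv D11537) (iv F45392)
theorem F49452 : act 3 n12548 = n12534 := d24_1 D12548 (iv D12534) (iv F49374) (iv F49440) F49438
theorem F49453 : act 5 n12548 = n11534 := d31_1 D12548 (iv D11534) (iv F45393)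
def n12549 : Q := act 7 n11536
theorem D12549 : act 7 n11536 = n12549 := rfl
theorem F49454 : act 1 n12549 = n11539 := d13_1 D12549 (iv D11539) (iv F45406)
theorem F49455 : act 5 n12549 = n12549 := d31_1 D12549 (iv D12549) F45408
theorem F49456 : act 6 n12549 = n11537 := d33_1 D12549 (iv D11537) (iv F45409)
def n12550 : Q := act 3 n11537
theorem D12550 : act 3 n11537 = n12550 := rfl
theorem F49457 : act 1 n12550 = n11540 := d9_1 D12550 (iv D11540) (iv F45410)
theorem F49458 : act 2 n12550 = n12536 := d15_1 D12550 (iv D12536) (iv F49383) (iv F49452) F49451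
theorem F49459 : act 5 n12550 = n11538 := d22_2 (iv F45411) D12550 (iv D11538)
theorem F49460 : act 7 n12550 = n12550 := d24_2 D11537 D12550 (iv D12550) (iv D11537) F41747
def n12551 : Q := act 4 n11542
theorem D12551 : act 4 n11542 = n12551 := rfl
theorem F49461 : act 1 n12551 = n11596 := d10_1 D12551 (iv D11596) (iv F45430)
theorem F49462 : act 6 n12551 = n11545 := d27_2 (iv F45431) D12551 (iv D11545)
theorem F49463 : act 7 n12551 = n12551 := d28_2 F45432 D12551 (iv D12551)
def n12552 : Q := act 8 n11542
theorem D12552 : act 8 n11542 = n12552 := rfl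
theorem F49464 : act 1 n12552 = n11597 := d14_1 D12552 (iv D11597) (iv F45430)
theorem F49465 : act 3 n12552 = n11543 := d25_1 D12552 (iv D11543) D11542
theorem F49466 : act 5 n12552 = n12360 := d32_1 D12552 F48682 (iv F45550)
theorem F49467 : act 6 n12552 = n11546 := d34_1 D12552 (iv D11546) (iv F45431)
def n12553 : Q := act 4 n11544
theorem D12553 : act 4 n11544 = n12553 := rfl
theorem F49468 : act 1 n12553 = n12553 := d10_1 D12553 (iv D12553) F45436
theorem F49469 : act 2 n12553 = n11545 := d16_1 D12553 (iv D11545) D11544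
theorem F49470 : act 7 n12553 = n12553 := d28_2 F45439 D12553 (iv D12553)
def n12554 : Q := act 8 n11544
theorem D12554 : act 8 n11544 = n12554 := rfl
theorem F49471 : act 1 n12554 = n12554 := d14_1 D12554 (iv D12554) F45436
theorem F49472 : act 2 n12554 = n11546 := d20_1 D12554 (iv D11546) D11544
theorem F49473 : act 3 n12554 = n11548 := d25_1 D12554 (iv D11548) (iv F45437)
theorem F49474 : act 5 n12554 = n12554 := d32_1 D12554 (iv D12554) F45438
def n12555 : Q := act 5 n11545
theorem D12555 : act 5 n11545 = n12555 := rfl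
theorem F49475 : act 1 n12555 = n11598 := d11_1 D12555 (iv D11598) (iv F45440)
theorem F49476 : act 4 n12555 = n12555 := d26_1 D12555 (iv D12555) (iv D11545) F41777 D11545
theorem F49477 : act 7 n12555 = n12555 := d31_2 F45441 D12555 (iv D12555)
def n12556 : Q := act 8 n11545
theorem D12556 : act 8 n11545 = n12556 := rfl
theorem F49478 : act 1 n12556 = n11599 := d14_1 D12556 (iv D11599) (iv F45440)
theorem F49479 : act 4 n12556 = n11546 := d29_1 D12556 (iv D11546) D11545
def n12557 : Q := act 7 n11546
theorem D12557 : act 7 n11546 = n12557 := rfl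
theorem F49480 : act 1 n12557 = n11600 := d13_1 D12557 (iv D11600) (iv F45442)
theorem F49481 : act 5 n12557 = n12557 := d31_1 D12557 (iv D12557) F45444
theorem F49482 : act 8 n12557 = n12557 := d35_2 D11546 D12557 (iv D12557) (iv D11546) F41778
def n12558 : Q := act 3 n11547
theorem D12558 : act 3 n11547 = n12558 := rfl
theorem F49483 : act 1 n12558 = n12558 := d9_1 D12558 (iv D12558) F45445
def n12559 : Q := act 5 n11547
theorem D12559 : act 5 n11547 = n12559 := rfl
theorem F49484 : act 1 n12559 = n12559 := d11_1 D12559 (iv D12559) F45445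
theorem F49485 : act 2 n12559 = n11549 := d17_1 D12559 (iv D11549) (iv F45446)
theorem F49486 : act 4 n12559 = n12559 := d26_1 D12559 (iv D12559) (iv D11547) F41785 D11547
theorem F49487 : act 7 n12559 = n11552 := d31_2 (iv F45447) D12559 (iv D11552)
def n12560 : Q := act 8 n11547
theorem D12560 : act 8 n11547 = n12560 := rfl
theorem F49488 : act 1 n12560 = n12560 := d14_1 D12560 (iv D12560) F45445
theorem F49489 : act 2 n12560 = n11550 := d20_1 D12560 (iv D11550) (iv F45446)
theorem F49490 : act 4 n12560 = n11548 := d29_1 D12560 (iv D11548) D11547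
def n12561 : Q := act 6 n11549
theorem D12561 : act 6 n11549 = n12561 := rfl
theorem F49491 : act 1 n12561 = n11580 := d12_1 D12561 (iv D11580) (iv F45451)
theorem F49492 : act 4 n12561 = n12561 := d27_1 D12561 (iv D12561) F45452
theorem F49493 : act 7 n12561 = n11553 := d33_2 (iv F45453) D12561 (iv D11553)
def n12562 : Q := act 8 n11549
theorem D12562 : act 8 n11549 = n12562 := rfl
theorem F49494 : act 1 n12562 = n11581 := d14_1 D12562 (iv D11581) (iv F45451)
theorem F49495 : act 4 n12562 = n12562 := d29_1 D12562 (iv D12562) F45452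
theorem F49496 : act 5 n12562 = n11550 := d32_1 D12562 (iv D11550) D11549
def n12563 : Q := act 5 n11551
theorem D12563 : act 5 n11551 = n12563 := rfl
theorem F49497 : act 1 n12563 = n12563 := d11_1 D12563 (iv D12563) F45456
theorem F49498 : act 2 n12563 = n11557 := d17_1 D12563 (iv D11557) (iv F45457)
theorem F49499 : act 3 n12563 = n11552 := d22_1 D12563 (iv D11552) D11551
def n12564 : Q := act 7 n11551
theorem D12564 : act 7 n11551 = n12564 := rfl
theorem F49500 : act 1 n12564 = n12564 := d13_1 D12564 (iv D12564) F45456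
theorem F49501 : act 2 n12564 = n11558 := d19_1 D12564 (iv D11558) (iv F45457)
theorem F49502 : act 4 n12564 = n12564 := d28_1 D12564 (iv D12564) F45458
def n12565 : Q := act 6 n11552
theorem D12565 : act 6 n11552 = n12565 := rfl
theorem F49503 : act 1 n12565 = n12565 := d12_1 D12565 (iv D12565) F45459
theorem F49504 : act 2 n12565 = n11553 := d18_1 D12565 (iv D11553) (iv F45460)
theorem F49505 : act 4 n12565 = n12565 := d27_1 D12565 (iv D12565) F45461
def n12566 : Q := act 5 n11554
theorem D12566 : act 5 n11554 = n12566 := rfl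
theorem F49506 : act 1 n12566 = n11602 := d11_1 D12566 (iv D11602) (iv F45465)
theorem F49507 : act 3 n12566 = n11555 := d22_1 D12566 (iv D11555) D11554
def n12567 : Q := act 7 n11554
theorem D12567 : act 7 n11554 = n12567 := rfl
theorem F49508 : act 1 n12567 = n11603 := d13_1 D12567 (iv D11603) (iv F45465)
theorem F49509 : act 4 n12567 = n12567 := d28_1 D12567 (iv D12567) F45466
theorem F49510 : act 6 n12567 = n11558 := d33_1 D12567 (iv D11558) (iv F45467)
def n12568 : Q := act 6 n11555
theorem D12568 : act 6 n11555 = n12568 := rfl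
theorem F49511 : act 1 n12568 = n11605 := d12_1 D12568 (iv D11605) (iv F45468)
theorem F49512 : act 2 n12568 = n11556 := d18_1 D12568 (iv D11556) (iv F45469)
theorem F49513 : act 4 n12568 = n12568 := d27_1 D12568 (iv D12568) F45470
theorem F49514 : act 5 n12568 = n11560 := d30_1 D12568 (iv D11560) (iv D10602) (iv F41799) D11555
def n12569 : Q := act 4 n11557
theorem D12569 : act 4 n11557 = n12569 := rfl
theorem F49515 : act 1 n12569 = n11612 := d10_1 D12569 (iv D11612) (iv F45474)
theorem F49516 : act 3 n12569 = n11567 := d21_1 D12569 (iv D11567) F41822 (iv F41806) (iv F45475)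
theorem F49517 : act 5 n12569 = n12569 := d26_2 D11557 D12569 (iv D12569) (iv D11557) F41803
theorem F49518 : act 6 n12353 = n12569 := d23_0 F49516 (iv F45513) (iv F48647)
theorem F49519 : act 7 n12352 = n12569 := d24_0 F49516 F45508 F45506 (iv F44562) (iv F48644)
def n12570 : Q := act 6 n11557
theorem D12570 : act 6 n11557 = n12570 := rfl
theorem F49520 : act 1 n12570 = n11613 := d12_1 D12570 (iv D11613) (iv F45474)
theorem F49521 : act 3 n12570 = n11560 := d23_1 D12570 (iv D11560) (iv F45475)
theorem F49522 : act 4 n12570 = n12353 := d27_1 D12570 F49518 (iv D12569)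
theorem F49523 : act 7 n12351 = n12570 := d28_0 F49522 (iv D12353) D12351
def n12571 : Q := act 7 n11557
theorem D12571 : act 7 n11557 = n12571 := rfl
theorem F49524 : act 1 n12571 = n11614 := d13_1 D12571 (iv D11614) (iv F45474)
theorem F49525 : act 4 n12571 = n12352 := d28_1 D12571 F49519 (iv D12569)
theorem F49526 : act 5 n12571 = n11558 := d31_1 D12571 (iv D11558) D11557
theorem F49527 : act 6 n12571 = n12351 := d33_1 D12571 F49523 (iv D12570)
def n12572 : Q := act 8 n11557
theorem D12572 : act 8 n11557 = n12572 := rfl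
theorem F49528 : act 1 n12572 = n11615 := d14_1 D12572 (iv D11615) (iv F45474)
theorem F49529 : act 3 n12572 = n11561 := d25_1 D12572 (iv D11561) (iv F45475)
theorem F49530 : act 5 n12572 = n11559 := d32_1 D12572 (iv D11559) D11557
def n12573 : Q := act 8 n11558
theorem D12573 : act 8 n11558 = n12573 := rfl
theorem F49531 : act 1 n12573 = n11616 := d14_1 D12573 (iv D11616) (iv F45476)
theorem F49532 : act 4 n12573 = n12573 := d29_1 D12573 (iv D12573) F45477
def n12574 : Q := act 7 n11559
theorem D12574 : act 7 n11559 = n12574 := rfl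
theorem F49533 : act 1 n12574 = n11617 := d13_1 D12574 (iv D11617) (iv F45478)
theorem F49534 : act 4 n12574 = n12574 := d28_1 D12574 (iv D12574) F45480
def n12575 : Q := act 8 n11560
theorem D12575 : act 8 n11560 = n12575 := rfl
theorem F49535 : act 1 n12575 = n11618 := d14_1 D12575 (iv D11618) (iv F45481)
theorem F49536 : act 2 n12575 = n11564 := d20_1 D12575 (iv D11564) (iv F45482)
theorem F49537 : act 4 n12575 = n11573 := d29_1 D12575 (iv D11573) (iv F45483)
theorem F49538 : act 6 n12575 = n11561 := d34_1 D12575 (iv D11561) D11560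
def n12576 : Q := act 7 n11561
theorem D12576 : act 7 n11561 = n12576 := rfl
theorem F49539 : act 1 n12576 = n11619 := d13_1 D12576 (iv D11619) (iv F45484)
theorem F49540 : act 2 n12576 = n11565 := d19_1 D12576 (iv D11565) (iv F45485)
theorem F49541 : act 4 n12576 = n11574 := d28_1 D12576 (iv D11574) (iv F45486)
theorem F49542 : act 5 n12576 = n11562 := d31_1 D12576 (iv D11562) (iv F45487)
def n12577 : Q := act 3 n11562
theorem D12577 : act 3 n11562 = n12577 := rfl
theorem F49543 : act 1 n12577 = n11620 := d9_1 D12577 (iv D11620) (iv F45488)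
def n12578 : Q := act 4 n11563
theorem D12578 : act 4 n11563 = n12578 := rfl
theorem F49544 : act 1 n12578 = n11621 := d10_1 D12578 (iv D11621) (iv F45491)
theorem F49545 : act 5 n12578 = n12551 := d26_2 (iv F45492) D12578 (iv D12551) F45550 (iv D11576)
theorem F49546 : act 7 n12578 = n12578 := d28_2 F45493 D12578 (iv D12578)
def n12579 : Q := act 7 n11564
theorem D12579 : act 7 n11564 = n12579 := rfl
theorem F49547 : act 1 n12579 = n11582 := d13_1 D12579 (iv D11582) (iv F45494)
theorem F49548 : act 4 n12579 = n11577 := d28_1 D12579 (iv D11577) (iv F45495)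
theorem F49549 : act 6 n12579 = n11565 := d33_1 D12579 (iv D11565) (iv F45496)
def n12580 : Q := act 3 n11565
theorem D12580 : act 3 n11565 = n12580 := rfl
theorem F49550 : act 1 n12580 = n11583 := d9_1 D12580 (iv D11583) (iv F45497)
theorem F49551 : act 5 n12580 = n11566 := d22_2 (iv F45499) D12580 (iv D11566)
def n12581 : Q := act 2 n11566
theorem D12581 : act 2 n11566 = n12581 := rfl
def n12582 : Q := act 8 n11567
theorem D12582 : act 8 n11567 = n12582 := rfl
theorem F49552 : act 1 n12582 = n11625 := d14_1 D12582 (iv D11625) (iv F45501)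
theorem F49553 : act 2 n12582 = n12582 := d20_1 D12582 (iv D12582) F45502
theorem F49554 : act 4 n12582 = n11570 := d29_1 D12582 (iv D11570) D11567
theorem F49555 : act 5 n12582 = n12582 := d32_1 D12582 (iv D12582) F45503
def n12583 : Q := act 8 n11568
theorem D12583 : act 8 n11568 = n12583 := rfl
theorem F49556 : act 1 n12583 = n11626 := d14_1 D12583 (iv D11626) (iv F45504)
theorem F49557 : act 2 n12583 = n12583 := d20_1 D12583 (iv D12583) F45505
theorem F49558 : act 3 n12583 = n11573 := d25_1 D12583 (iv D11573) (iv F45506)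
theorem F49559 : act 5 n12583 = n12583 := d32_1 D12583 (iv D12583) F45507
theorem F49560 : act 6 n12583 = n11570 := d34_1 D12583 (iv D11570) D11568
def n12584 : Q := act 8 n11569
theorem D12584 : act 8 n11569 = n12584 := rfl
theorem F49561 : act 0 n12584 = n12545 := d7_1 D12584 (iv F49435) F49365
theorem F49562 : act 1 n12584 = n11627 := d14_1 D12584 (iv D11627) (iv F45509)
theorem F49563 : act 2 n12584 = n12584 := d20_1 D12584 (iv D12584) F45510
theorem F49564 : act 4 n12584 = n12583 := d29_1 D12584 (iv D12583) (iv F45511)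
theorem F49565 : act 5 n12584 = n11571 := d32_1 D12584 (iv D11571) (iv F45512)
theorem F49566 : act 6 n12584 = n12582 := d34_1 D12584 (iv D12582) (iv F45513)
theorem F49567 : act 7 n12507 = n12584 := d31_0 F49565 (iv F45523) D12507
def n12585 : Q := act 7 n11570
theorem D12585 : act 7 n11570 = n12585 := rfl
theorem F49568 : act 0 n12585 = n12546 := d6_1 D12585 F49440 F49371
theorem F49569 : act 1 n12585 = n11628 := d13_1 D12585 (iv D11628) (iv F45514)
theorem F49570 : act 2 n12585 = n12585 := d19_1 D12585 (iv D12585) F45515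
theorem F49571 : act 5 n12585 = n11572 := d31_1 D12585 (iv D11572) (iv F45517)
theorem F49572 : act 8 n12585 = n12507 := d35_2 D11570 D12585 F49567 (iv D12584) (iv D11569)
theorem F49573 : act 3 n12301 = n12585 := d25_3 F49572 F49250 (iv F48502)
def n12586 : Q := act 7 n11573
theorem D12586 : act 7 n11573 = n12586 := rfl
theorem F49574 : act 1 n12586 = n11630 := d13_1 D12586 (iv D11630) (iv F45531)
theorem F49575 : act 2 n12586 = n11577 := d19_1 D12586 (iv D11577) (iv F45532)
theorem F49576 : act 5 n12586 = n12586 := d31_1 D12586 (iv D12586) F45533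
theorem F49577 : act 6 n12586 = n11574 := d33_1 D12586 (iv D11574) (iv F45534)
def n12587 : Q := act 3 n11574
theorem D12587 : act 3 n11574 = n12587 := rfl
theorem F49578 : act 0 n12587 = n12548 := d2_1 D12587 F49452 F49381
theorem F49579 : act 1 n12587 = n11631 := d9_1 D12587 (iv D11631) (iv F45535)
theorem F49580 : act 5 n12587 = n11575 := d22_2 (iv F45537) D12587 (iv D11575)
theorem F49581 : act 7 n12587 = n12301 := d24_2 D11574 D12587 F49573 (iv D12585) F45516
theorem F49582 : act 2 n12587 = n12308 := d37_4 D11562 (iv F49542) F49541 D12587 F48518 F44583 (iv D10404) F38622 F25502 F18874 F14010 F10453 F7834 F7838 (iv F7890) (iv F38897) F5998 F4607 (iv F6134) (iv F8134) (iv D1985) F6107 F6106 F6105 (iv F5706) (iv F38243) F5745 D1372 F5769 F5768 (iv F5678) (iv F7556) F7555 (iv F10092) (iv D2499) (iv D1826) (iv F7251) F7250 (iv D1752) (iv F5609) F5608 D1333 (iv F7505) (iv F10046) (iv F38142) (iv F17975) (iv F23928) (iv F32327) D10256 F40542 F32332 D8481 F32339 (iv F40486) F40485 F32740 F25985 D9301 (iv F41610) (iv F45246) F45245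 F45244
theorem F49583 : act 4 n12302 = n12587 := d37_2 D11286 (iv F48505) (iv D12587) F45536 F41849 F35317 (iv D6825) F19353 F14358 F10692 F7980 F5986 F4499 (iv F5956) (iv F38849) F7877 F5905 F4440 (iv F4169) (iv F38420) F4363 F4362 F4361 (iv D1014) (iv F4343) (iv F5766) (iv F7669) (iv D1867) F5747 (iv D1367) F4313 F3268 F2632 F2631 (iv F2597) (iv D574) (iv D421) F1478 (iv F1840) (iv D393) (iv F1722) F1724 (iv F1732) D501 D678 F3014 (iv F3956) (iv F5233) D1681 (iv F9288) F38429 (iv F13335) (iv F17937) (iv F24178) (iv F32297) (iv D8469) F23867 (iv F32293) (iv F40466) (iv F43941) F43940 F43939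
def n12588 : Q := act 2 n11578
theorem D12588 : act 2 n11578 = n12588 := rfl
theorem F49584 : act 0 n12588 = n12550 := d1_1 D12588 F49458 F49389
theorem F49585 : act 1 n12588 = n12082 := d8_1 D12588 (iv D12082) F43670 F42624 (iv F45554)
theorem F49586 : act 3 n12588 = n12308 := d15_2 D11578 D12588 (iv F49582) (iv D12587) F45536
theorem F49587 : act 4 n12588 = n12123 := d16_2 F46703 D12588 F47833
theorem F49588 : act 5 n12588 = n11579 := d17_2 (iv F45555) D12588 (iv D11579)
theorem F49589 : act 6 n12588 = n12084 := d18_2 F46362 D12588 F47631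
theorem F49590 : act 7 n12588 = n12588 := d19_2 F45556 D12588 (iv D12588)
def n12589 : Q := act 8 n11580
theorem D12589 : act 8 n11580 = n12589 := rfl
theorem F49591 : act 0 n12589 = n11586 := d7_1 D12589 (iv D11586) (iv F45563)
theorem F49592 : act 2 n12589 = n12589 := d20_1 D12589 (iv D12589) F45564
theorem F49593 : act 4 n12589 = n12589 := d29_1 D12589 (iv D12589) F45565
theorem F49594 : act 6 n12589 = n11581 := d34_1 D12589 (iv D11581) D11580
def n12590 : Q := act 1 n11584
theorem D12590 : act 1 n11584 = n12590 := rfl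
theorem F49595 : act 3 n12590 = n11635 := d9_2 (iv F45578) D12590 (iv D11635)
def n12591 : Q := act 4 n11587
theorem D12591 : act 4 n11587 = n12591 := rfl
theorem F49596 : act 0 n12591 = n12591 := d3_1 D12591 (iv D12591) F45589
theorem F49597 : act 1 n12591 = n11830 := d10_1 D12591 (iv D11830) (iv F45590)
theorem F49598 : act 2 n12591 = n11780 := d16_1 D12591 (iv D11780) (iv F45591)
theorem F49599 : act 6 n12591 = n11590 := d27_2 (iv F45593) D12591 (iv D11590)
theorem F49600 : act 7 n12591 = n12591 := d28_2 F45594 D12591 (iv D12591)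
def n12592 : Q := act 8 n11587
theorem D12592 : act 8 n11587 = n12592 := rfl
theorem F49601 : act 0 n12592 = n12592 := d7_1 D12592 (iv D12592) F45589
theorem F49602 : act 1 n12592 = n11831 := d14_1 D12592 (iv D11831) (iv F45590)
theorem F49603 : act 2 n12592 = n11781 := d20_1 D12592 (iv D11781) (iv F45591)
theorem F49604 : act 3 n12592 = n11588 := d25_1 D12592 (iv D11588) D11587
theorem F49605 : act 5 n12592 = n11783 := d32_1 D12592 (iv D11783) (iv F45592)
theorem F49606 : act 6 n12592 = n11591 := d34_1 D12592 (iv D11591) (iv F45593)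
def n12593 : Q := act 8 n11589
theorem D12593 : act 8 n11589 = n12593 := rfl
theorem F49607 : act 0 n12593 = n12593 := d7_1 D12593 (iv D12593) F45599
theorem F49608 : act 1 n12593 = n11787 := d14_1 D12593 (iv D11787) (iv F45600)
theorem F49609 : act 2 n12593 = n11591 := d20_1 D12593 (iv D11591) D11589
theorem F49610 : act 3 n12593 = n11592 := d25_1 D12593 (iv D11592) (iv F45601)
theorem F49611 : act 4 n12593 = n12472 := d29_1 D12593 F49102 F45752
theorem F49612 : act 5 n12593 = n12593 := d32_1 D12593 (iv D12593) F45602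
theorem F49613 : act 6 n12593 = n11781 := d34_1 D12593 (iv D11781) (iv F45603)
def n12594 : Q := act 8 n11590
theorem D12594 : act 8 n11590 = n12594 := rfl
theorem F49614 : act 0 n12594 = n12594 := d7_1 D12594 (iv D12594) F45605
theorem F49615 : act 2 n12594 = n12472 := d20_1 D12594 F49102 (iv F45755)
theorem F49616 : act 4 n12594 = n11591 := d29_1 D12594 (iv D11591) D11590
theorem F49617 : act 5 n12594 = n12473 := d32_1 D12594 F49105 F45758
def n12595 : Q := act 7 n11591
theorem D12595 : act 7 n11591 = n12595 := rfl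
theorem F49618 : act 0 n12595 = n12595 := d6_1 D12595 (iv D12595) F45607
theorem F49619 : act 3 n12595 = n11600 := d24_1 D12595 (iv D11600) F41966 (iv F41909) (iv F45608)
theorem F49620 : act 5 n12595 = n12595 := d31_1 D12595 (iv D12595) F45609
theorem F49621 : act 8 n12595 = n12595 := d35_2 D11591 D12595 (iv D12595) (iv D11591) F41905
def n12596 : Q := act 8 n11596
theorem D12596 : act 8 n11596 = n12596 := rfl
theorem F49622 : act 0 n12596 = n12596 := d7_1 D12596 (iv D12596) F45637
theorem F49623 : act 2 n12596 = n12596 := d20_1 D12596 (iv D12596) F45638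
theorem F49624 : act 4 n12596 = n11597 := d29_1 D12596 (iv D11597) D11596
theorem F49625 : act 5 n12596 = n12470 := d32_1 D12596 F49093 F45744
theorem F49626 : act 6 n12596 = n11599 := d34_1 D12596 (iv D11599) (iv F45639)
def n12597 : Q := act 7 n11597
theorem D12597 : act 7 n11597 = n12597 := rfl
theorem F49627 : act 0 n12597 = n12597 := d6_1 D12597 (iv D12597) F45641
theorem F49628 : act 2 n12597 = n12597 := d19_1 D12597 (iv D12597) F45642
theorem F49629 : act 5 n12597 = n11759 := d31_1 D12597 F46200 (iv F45644)
theorem F49630 : act 6 n12597 = n11600 := d33_1 D12597 (iv D11600) (iv F45645)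
theorem F49631 : act 8 n12597 = n12597 := d35_2 D11597 D12597 (iv D12597) (iv D11597) F41957
def n12598 : Q := act 6 n11598
theorem D12598 : act 6 n11598 = n12598 := rfl
theorem F49632 : act 0 n12598 = n12598 := d5_1 D12598 (iv D12598) F45646
theorem F49633 : act 2 n12598 = n12598 := d18_1 D12598 (iv D12598) F45647
theorem F49634 : act 4 n12598 = n12598 := d27_1 D12598 (iv D12598) F45648
theorem F49635 : act 7 n12598 = n12598 := d33_2 F45649 D12598 (iv D12598)
def n12599 : Q := act 8 n11598
theorem D12599 : act 8 n11598 = n12599 := rfl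
theorem F49636 : act 0 n12599 = n12599 := d7_1 D12599 (iv D12599) F45646
theorem F49637 : act 2 n12599 = n12599 := d20_1 D12599 (iv D12599) F45647
theorem F49638 : act 4 n12599 = n12599 := d29_1 D12599 (iv D12599) F45648
theorem F49639 : act 5 n12599 = n11599 := d32_1 D12599 (iv D11599) D11598
def n12600 : Q := act 7 n11599
theorem D12600 : act 7 n11599 = n12600 := rfl
theorem F49640 : act 0 n12600 = n12600 := d6_1 D12600 (iv D12600) F45650
theorem F49641 : act 2 n12600 = n12600 := d19_1 D12600 (iv D12600) F45651
theorem F49642 : act 4 n12600 = n11600 := d28_1 D12600 (iv D11600) (iv F45652)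
theorem F49643 : act 8 n12600 = n12600 := d35_2 D11599 D12600 (iv D12600) (iv D11599) F41963
def n12601 : Q := act 4 n11602
theorem D12601 : act 4 n11602 = n12601 := rfl
theorem F49644 : act 0 n12601 = n12601 := d3_1 D12601 (iv D12601) F45663
theorem F49645 : act 2 n12601 = n12601 := d16_1 D12601 (iv D12601) F45664
theorem F49646 : act 3 n12601 = n12601 := d21_1 D12601 (iv D12601) F45665 F41986 (iv F45665)
theorem F49647 : act 5 n12601 = n12601 := d26_2 D11602 D12601 (iv D12601) (iv D11602) F41982
theorem F49648 : act 6 n11752 = n12601 := d38_1 D11752 F49647 (iv D12601) F45665 F41985 F35693 (iv F33635) D10497 F41390 F33645 F24840 (iv F32816) (iv F40941) F40943 (iv D9312) (iv D6784) (iv D4951) (iv D3616) F10637 F10636 (iv D1938) F5959 D1937 D2648 D3618 F14282 (iv F14492) D5024 (iv F26338) (iv F35664) (iv F41970) (iv F42104) (iv D10682) F35765 F26445 F19688 (iv F26535) (iv F38953) F31222 F31221 (iv F23670) D8403 F32030 F23677 F17570 F17569 (iv F17633) (iv F23751) (iv D6150) F17626 D6149 D8423 D10193 D11095 F43749 D12097 F47717 D12269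 F48374 (iv F48390) F48389 F46020
theorem F49649 : act 7 n12601 = n11751 := d33_2 D11752 F49648 (iv D11751)
def n12602 : Q := act 6 n11602
theorem D12602 : act 6 n11602 = n12602 := rfl
theorem F49650 : act 0 n12602 = n12602 := d5_1 D12602 (iv D12602) F45663
theorem F49651 : act 2 n12602 = n12602 := d18_1 D12602 (iv D12602) F45664
theorem F49652 : act 3 n12602 = n11605 := d23_1 D12602 (iv D11605) (iv F45665)
theorem F49653 : act 4 n12602 = n11752 := d27_1 D12602 F49648 (iv D12601)
theorem F49654 : act 5 n12602 = n11613 := d30_1 D12602 (iv D11613) (iv D10660) (iv F41983) D11602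
theorem F49655 : act 7 n11750 = n12602 := d31_0 F49654 (iv F45717) (iv F46164)
def n12603 : Q := act 7 n11602
theorem D12603 : act 7 n11602 = n12603 := rfl
theorem F49656 : act 0 n12603 = n12603 := d6_1 D12603 (iv D12603) F45663
theorem F49657 : act 2 n12603 = n12603 := d19_1 D12603 (iv D12603) F45664
theorem F49658 : act 4 n12603 = n11751 := d28_1 D12603 (iv F49649) (iv D12601)
theorem F49659 : act 5 n12603 = n11603 := d31_1 D12603 (iv D11603) D11602
theorem F49660 : act 6 n12603 = n11750 := d33_1 D12603 F49655 (iv D12602)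
def n12604 : Q := act 8 n11602
theorem D12604 : act 8 n11602 = n12604 := rfl
theorem F49661 : act 0 n12604 = n12604 := d7_1 D12604 (iv D12604) F45663
theorem F49662 : act 2 n12604 = n12604 := d20_1 D12604 (iv D12604) F45664
theorem F49663 : act 3 n12604 = n11606 := d25_1 D12604 (iv D11606) (iv F45665)
theorem F49664 : act 5 n12604 = n11604 := d32_1 D12604 (iv D11604) D11602
def n12605 : Q := act 8 n11603
theorem D12605 : act 8 n11603 = n12605 := rfl
theorem F49665 : act 0 n12605 = n12605 := d7_1 D12605 (iv D12605) F45666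
theorem F49666 : act 2 n12605 = n12605 := d20_1 D12605 (iv D12605) F45667
theorem F49667 : act 4 n12605 = n12605 := d29_1 D12605 (iv D12605) F45668
theorem F49668 : act 6 n12605 = n11616 := d34_1 D12605 (iv D11616) (iv F45669)
def n12606 : Q := act 7 n11604
theorem D12606 : act 7 n11604 = n12606 := rfl
theorem F49669 : act 0 n12606 = n12606 := d6_1 D12606 (iv D12606) F45670
theorem F49670 : act 2 n12606 = n12606 := d19_1 D12606 (iv D12606) F45671
theorem F49671 : act 4 n12606 = n12606 := d28_1 D12606 (iv D12606) F45673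
theorem F49672 : act 6 n12606 = n11617 := d33_1 D12606 (iv D11617) (iv F45674)
def n12607 : Q := act 8 n11605
theorem D12607 : act 8 n11605 = n12607 := rfl
theorem F49673 : act 0 n12607 = n12607 := d7_1 D12607 (iv D12607) F45675
theorem F49674 : act 2 n12607 = n11609 := d20_1 D12607 (iv D11609) (iv F45676)
theorem F49675 : act 4 n12607 = n12607 := d29_1 D12607 (iv D12607) F45677
theorem F49676 : act 5 n12607 = n11618 := d32_1 D12607 (iv D11618) (iv F45678)
theorem F49677 : act 6 n12607 = n11606 := d34_1 D12607 (iv D11606) D11605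
def n12608 : Q := act 7 n11606
theorem D12608 : act 7 n11606 = n12608 := rfl
theorem F49678 : act 0 n12608 = n12608 := d6_1 D12608 (iv D12608) F45679
theorem F49679 : act 2 n12608 = n11610 := d19_1 D12608 (iv D11610) (iv F45680)
theorem F49680 : act 4 n12608 = n12608 := d28_1 D12608 (iv D12608) F45681
theorem F49681 : act 5 n12608 = n11607 := d31_1 D12608 (iv D11607) (iv F45682)
def n12609 : Q := act 3 n11607
theorem D12609 : act 3 n11607 = n12609 := rfl
theorem F49682 : act 0 n12609 = n12609 := d2_1 D12609 (iv D12609) F45683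
theorem F49683 : act 6 n12609 = n11620 := d23_2 (iv F45686) D12609 (iv D11620)
def n12610 : Q := act 4 n11608
theorem D12610 : act 4 n11608 = n12610 := rfl
theorem F49684 : act 0 n12610 = n12610 := d3_1 D12610 (iv D12610) F45687
theorem F49685 : act 2 n12610 = n12610 := d16_1 D12610 (iv D12610) F45688
theorem F49686 : act 6 n12610 = n11621 := d27_2 (iv F45690) D12610 (iv D11621)
theorem F49687 : act 7 n12610 = n12610 := d28_2 F45691 D12610 (iv D12610)
theorem F49688 : act 5 n12598 = n12610 := d30_5 F49686 F45744 F45639 D11598 D12598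
def n12611 : Q := act 7 n11609
theorem D12611 : act 7 n11609 = n12611 := rfl
theorem F49689 : act 0 n12611 = n12611 := d6_1 D12611 (iv D12611) F45692
theorem F49690 : act 1 n12611 = n11632 := d13_1 D12611 (iv D11632) (iv F45693)
theorem F49691 : act 4 n12611 = n12611 := d28_1 D12611 (iv D12611) F45695
theorem F49692 : act 5 n12611 = n11622 := d31_1 D12611 (iv D11622) (iv F45696)
theorem F49693 : act 6 n12611 = n11610 := d33_1 D12611 (iv D11610) (iv F45697)
def n12612 : Q := act 3 n11610
theorem D12612 : act 3 n11610 = n12612 := rfl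
theorem F49694 : act 0 n12612 = n12612 := d2_1 D12612 (iv D12612) F45698
theorem F49695 : act 1 n12612 = n11633 := d9_1 D12612 (iv D11633) (iv F45699)
theorem F49696 : act 5 n12612 = n11611 := d22_2 (iv F45701) D12612 (iv D11611)
theorem F49697 : act 7 n12612 = n12612 := d24_2 D11610 D12612 (iv D12612) (iv D11610) F42002
def n12613 : Q := act 2 n11611
theorem D12613 : act 2 n11611 = n12613 := rfl
theorem F49698 : act 0 n12613 = n12613 := d1_1 D12613 (iv D12613) F45702
theorem F49699 : act 4 n12613 = n12613 := d16_2 F45704 D12613 (iv D12613)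
theorem F49700 : act 6 n12613 = n11624 := d18_2 (iv F45705) D12613 (iv D11624)
theorem F49701 : act 7 n12613 = n12613 := d19_2 F45706 D12613 (iv D12613)
def n12614 : Q := act 8 n11612
theorem D12614 : act 8 n11612 = n12614 := rfl
theorem F49702 : act 0 n12614 = n12614 := d7_1 D12614 (iv D12614) F45707
theorem F49703 : act 2 n12614 = n12614 := d20_1 D12614 (iv D12614) F45708
theorem F49704 : act 3 n12614 = n11625 := d25_1 D12614 (iv D11625) (iv F45709)
theorem F49705 : act 4 n12614 = n11615 := d29_1 D12614 (iv D11615) D11612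
theorem F49706 : act 5 n12614 = n12614 := d32_1 D12614 (iv D12614) F45710
theorem F49707 : act 6 n12614 = n12476 := d34_1 D12614 (iv D12476) F45711
def n12615 : Q := act 8 n11613
theorem D12615 : act 8 n11613 = n12615 := rfl
theorem F49708 : act 0 n12615 = n12615 := d7_1 D12615 (iv D12615) F45713
theorem F49709 : act 2 n12615 = n12615 := d20_1 D12615 (iv D12615) F45714
theorem F49710 : act 3 n12615 = n11618 := d25_1 D12615 (iv D11618) (iv F45715)
theorem F49711 : act 4 n12615 = n12476 := d29_1 D12615 (iv D12476) (iv F45716)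
theorem F49712 : act 6 n12615 = n11615 := d34_1 D12615 (iv D11615) D11613
def n12616 : Q := act 8 n11614
theorem D12616 : act 8 n11614 = n12616 := rfl
theorem F49713 : act 0 n12616 = n12616 := d7_1 D12616 (iv D12616) F45718
theorem F49714 : act 2 n12616 = n12616 := d20_1 D12616 (iv D12616) F45719
theorem F49715 : act 4 n12616 = n12475 := d29_1 D12616 (iv D12475) (iv F45720)
theorem F49716 : act 5 n12616 = n11616 := d32_1 D12616 (iv D11616) (iv F45721)
theorem F49717 : act 6 n12616 = n12474 := d34_1 D12616 (iv D12474) (iv F45722)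
def n12617 : Q := act 7 n11615
theorem D12617 : act 7 n11615 = n12617 := rfl
theorem F49718 : act 0 n12617 = n12617 := d6_1 D12617 (iv D12617) F45723
theorem F49719 : act 2 n12617 = n12617 := d19_1 D12617 (iv D12617) F45724
theorem F49720 : act 5 n12617 = n11617 := d31_1 D12617 (iv D11617) (iv F45726)
def n12618 : Q := act 7 n11616
theorem D12618 : act 7 n11616 = n12618 := rfl
theorem F49721 : act 0 n12618 = n12618 := d6_1 D12618 (iv D12618) F45727
theorem F49722 : act 2 n12618 = n12618 := d19_1 D12618 (iv D12618) F45728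
theorem F49723 : act 4 n12618 = n12618 := d28_1 D12618 (iv D12618) F45729
theorem F49724 : act 8 n12618 = n11617 := d35_2 D11616 D12618 (iv D11617) (iv D10662) D10661
def n12619 : Q := act 3 n11617
theorem D12619 : act 3 n11617 = n12619 := rfl
theorem F49725 : act 0 n12619 = n12619 := d2_1 D12619 (iv D12619) F45730
theorem F49726 : act 7 n12619 = n11620 := d24_2 D11617 D12619 (iv D11620) (iv D10665) (iv F42017)
def n12620 : Q := act 7 n11618
theorem D12620 : act 7 n11618 = n12620 := rfl
theorem F49727 : act 0 n12620 = n12620 := d6_1 D12620 (iv D12620) F45733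
theorem F49728 : act 2 n12620 = n11622 := d19_1 D12620 (iv D11622) (iv F45734)
theorem F49729 : act 4 n12620 = n11630 := d28_1 D12620 (iv D11630) (iv F45735)
theorem F49730 : act 6 n12620 = n11619 := d33_1 D12620 (iv D11619) (iv F45736)
def n12621 : Q := act 3 n11619
theorem D12621 : act 3 n11619 = n12621 := rfl
theorem F49731 : act 0 n12621 = n12621 := d2_1 D12621 (iv D12621) F45737
theorem F49732 : act 2 n12621 = n12420 := d15_1 D12621 F48888 F45755 (iv D11623) (iv F45738)
theorem F49733 : act 4 n12621 = n12419 := d21_2 (iv F45739) D12621 F48884 F45793 (iv D11631)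
theorem F49734 : act 5 n12621 = n11620 := d22_2 (iv F45740) D12621 (iv D11620)
def n12622 : Q := act 2 n11620
theorem D12622 : act 2 n11620 = n12622 := rfl
theorem F49735 : act 0 n12622 = n12622 := d1_1 D12622 (iv D12622) F45741
theorem F49736 : act 3 n12622 = n11624 := d15_2 D11620 D12622 (iv D11624) (iv D10669) (iv F42027)
theorem F49737 : act 5 n12622 = n12420 := d17_2 F49734 D12622 (iv F49732)
def n12623 : Q := act 4 n11620
theorem D12623 : act 4 n11620 = n12623 := rfl
theorem F49738 : act 0 n12623 = n12623 := d3_1 D12623 (iv D12623) F45741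
theorem F49739 : act 3 n12623 = n11621 := d21_1 D12623 (iv D11621) (iv D10666) (iv F42028) D11620
theorem F49740 : act 5 n12623 = n12424 := d26_2 F49734 D12623 (iv D12424) (iv F48885) (iv F49733)
def n12624 : Q := act 1 n11624
theorem D12624 : act 1 n11624 = n12624 := rfl
theorem F49741 : act 2 n12624 = n11635 := d8_2 D11624 D12624 (iv D11635) (iv D10688) (iv F42043)
theorem F49742 : act 4 n12624 = n12624 := d10_2 F45757 D12624 (iv D12624)
theorem F49743 : act 5 n12624 = n12539 := d11_2 (iv F45758) D12624 F49404
theorem F49744 : act 7 n12624 = n12624 := d13_2 F45759 D12624 (iv D12624)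
def n12625 : Q := act 7 n11626
theorem D12625 : act 7 n11626 = n12625 := rfl
theorem F49745 : act 0 n12625 = n12625 := d6_1 D12625 (iv D12625) F45764
theorem F49746 : act 2 n12625 = n11636 := d19_1 D12625 (iv D11636) (iv F45765)
theorem F49747 : act 5 n12625 = n12625 := d31_1 D12625 (iv D12625) F45767
theorem F49748 : act 6 n12625 = n11628 := d33_1 D12625 (iv D11628) (iv F45768)
theorem F49749 : act 8 n12625 = n12068 := d35_2 D11626 D12625 (iv F47546) (iv D11625) (iv F42059)
theorem F49750 : act 3 n12048 = n12625 := d25_3 F49749 (iv D12068) (iv F47456)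
def n12626 : Q := act 7 n11627
theorem D12626 : act 7 n11627 = n12626 := rfl
theorem F49751 : act 0 n12626 = n12626 := d6_1 D12626 (iv D12626) F45769
theorem F49752 : act 1 n12626 = n12507 := d13_1 D12626 F49567 F49562
theorem F49753 : act 2 n12626 = n11637 := d19_1 D12626 (iv D11637) (iv F45770)
theorem F49754 : act 4 n12626 = n12625 := d28_1 D12626 (iv D12625) (iv F45771)
theorem F49755 : act 5 n12626 = n11629 := d31_1 D12626 (iv D11629) (iv F45772)
theorem F49756 : act 6 n12626 = n12068 := d33_1 D12626 (iv F47546) (iv F45773)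
theorem F49757 : act 8 n12626 = n11628 := d35_2 D11627 D12626 (iv D11628) (iv D10673) D10672
theorem F49758 : act 3 n12065 = n12626 := d25_3 F49757 (iv F45777) (iv F47531)
def n12627 : Q := act 3 n11630
theorem D12627 : act 3 n11630 = n12627 := rfl
theorem F49759 : act 0 n12627 = n12627 := d2_1 D12627 (iv D12627) F45785
theorem F49760 : act 2 n12627 = n12055 := d15_1 D12627 F47478 F43629 F42556 (iv F45786)
theorem F49761 : act 5 n12627 = n12627 := d22_2 F45787 D12627 (iv D12627)
theorem F49762 : act 6 n12627 = n11631 := d23_2 (iv F45788) D12627 (iv D11631)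
theorem F49763 : act 7 n12627 = n12048 := d24_2 D11630 D12627 F49750 (iv D12625) F45766
theorem F49764 : act 4 n12049 = n12627 := d28_3 F49763 (iv D12048) D12049
def n12628 : Q := act 1 n11634
theorem D12628 : act 1 n11634 = n12628 := rfl
theorem F49765 : act 4 n12628 = n12628 := d10_2 F45802 D12628 (iv D12628)
theorem F49766 : act 6 n12628 = n11635 := d12_2 (iv F45803) D12628 (iv D11635)
theorem F49767 : act 7 n12628 = n12628 := d13_2 F45804 D12628 (iv D12628)
def n12629 : Q := act 3 n11638
theorem D12629 : act 3 n11638 = n12629 := rfl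
theorem F49768 : act 0 n12629 = n11687 := d2_1 D12629 (iv D11687) (iv F45820)
theorem F49769 : act 1 n12629 = n12629 := d9_1 D12629 (iv D12629) F45821
theorem F49770 : act 7 n12629 = n12143 := d24_2 D11638 D12629 (iv D12143) (iv D11141) (iv F42189)
def n12630 : Q := act 8 n11638
theorem D12630 : act 8 n11638 = n12630 := rfl
theorem F49771 : act 0 n12630 = n11688 := d7_1 D12630 (iv D11688) (iv F45820)
theorem F49772 : act 1 n12630 = n12630 := d14_1 D12630 (iv D12630) F45821
theorem F49773 : act 2 n12630 = n11640 := d20_1 D12630 (iv D11640) (iv F45822)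
theorem F49774 : act 4 n12630 = n12630 := d29_1 D12630 (iv D12630) F45823
def n12631 : Q := act 2 n11639
theorem D12631 : act 2 n11639 = n12631 := rfl
theorem F49775 : act 0 n12631 = n11689 := d1_1 D12631 (iv D11689) (iv F45824)
theorem F49776 : act 7 n12631 = n11641 := d19_2 (iv F45826) D12631 (iv D11641)
def n12632 : Q := act 4 n11639
theorem D12632 : act 4 n11639 = n12632 := rfl
theorem F49777 : act 0 n12632 = n11690 := d3_1 D12632 (iv D11690) (iv F45824)
theorem F49778 : act 1 n12632 = n11657 := d10_1 D12632 (iv D11657) (iv F45825)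
theorem F49779 : act 3 n12632 = n12632 := d21_1 D12632 (iv D12632) (iv D11639) F42193 D11639
theorem F49780 : act 7 n12632 = n11642 := d28_2 (iv F45826) D12632 (iv D11642)
def n12633 : Q := act 8 n11639
theorem D12633 : act 8 n11639 = n12633 := rfl
theorem F49781 : act 0 n12633 = n11691 := d7_1 D12633 (iv D11691) (iv F45824)
theorem F49782 : act 1 n12633 = n11658 := d14_1 D12633 (iv D11658) (iv F45825)
theorem F49783 : act 3 n12633 = n11640 := d25_1 D12633 (iv D11640) D11639
def n12634 : Q := act 1 n11641
theorem D12634 : act 1 n11641 = n12634 := rfl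
theorem F49784 : act 2 n12634 = n11659 := d8_2 D11641 D12634 (iv D11659) (iv D10714) (iv F42195)
theorem F49785 : act 3 n12634 = n12156 := d9_2 (iv F45831) D12634 (iv D12156)
def n12635 : Q := act 4 n11641
theorem D12635 : act 4 n11641 = n12635 := rfl
theorem F49786 : act 0 n12635 = n11692 := d3_1 D12635 (iv D11692) (iv F45830)
theorem F49787 : act 2 n12635 = n11642 := d16_1 D12635 (iv D11642) D11641
def n12636 : Q := act 8 n11641
theorem D12636 : act 8 n11641 = n12636 := rfl
theorem F49788 : act 0 n12636 = n11693 := d7_1 D12636 (iv D11693) (iv F45830)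
theorem F49789 : act 2 n12636 = n11643 := d20_1 D12636 (iv D11643) D11641
theorem F49790 : act 3 n12636 = n12158 := d25_1 D12636 (iv D12158) (iv F45831)
def n12637 : Q := act 5 n11642
theorem D12637 : act 5 n11642 = n12637 := rfl
theorem F49791 : act 0 n12637 = n11694 := d4_1 D12637 (iv D11694) (iv F45832)
theorem F49792 : act 1 n12637 = n11662 := d11_1 D12637 (iv D11662) (iv F45833)
theorem F49793 : act 3 n12637 = n11646 := d22_1 D12637 (iv D11646) (iv F45834)
def n12638 : Q := act 8 n11642
theorem D12638 : act 8 n11642 = n12638 := rfl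
theorem F49794 : act 0 n12638 = n11695 := d7_1 D12638 (iv D11695) (iv F45832)
theorem F49795 : act 1 n12638 = n11663 := d14_1 D12638 (iv D11663) (iv F45833)
theorem F49796 : act 3 n12638 = n11647 := d25_1 D12638 (iv D11647) (iv F45834)
theorem F49797 : act 4 n12638 = n11643 := d29_1 D12638 (iv D11643) D11642
def n12639 : Q := act 7 n11643
theorem D12639 : act 7 n11643 = n12639 := rfl
theorem F49798 : act 0 n12639 = n11696 := d6_1 D12639 (iv D11696) (iv F45835)
theorem F49799 : act 1 n12639 = n11664 := d13_1 D12639 (iv D11664) (iv F45836)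
def n12640 : Q := act 3 n11644
theorem D12640 : act 3 n11644 = n12640 := rfl
theorem F49800 : act 0 n12640 = n11697 := d2_1 D12640 (iv D11697) (iv F45838)
theorem F49801 : act 1 n12640 = n12640 := d9_1 D12640 (iv D12640) F45839
theorem F49802 : act 4 n12640 = n12166 := d21_2 D11644 D12640 (iv D12166) (iv D11155) (iv F42202)
def n12641 : Q := act 5 n11644
theorem D12641 : act 5 n11644 = n12641 := rfl
theorem F49803 : act 0 n12641 = n11698 := d4_1 D12641 (iv D11698) (iv F45838)
theorem F49804 : act 1 n12641 = n12641 := d11_1 D12641 (iv D12641) F45839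
theorem F49805 : act 2 n12641 = n11646 := d17_1 D12641 (iv D11646) (iv F45840)
theorem F49806 : act 4 n12641 = n11650 := d26_1 D12641 (iv D11650) (iv D10707) (iv F42203) D11644
theorem F49807 : act 7 n12641 = n12641 := d31_2 F45841 D12641 (iv D12641)
def n12642 : Q := act 8 n11644
theorem D12642 : act 8 n11644 = n12642 := rfl
theorem F49808 : act 0 n12642 = n11699 := d7_1 D12642 (iv D11699) (iv F45838)
theorem F49809 : act 1 n12642 = n12642 := d14_1 D12642 (iv D12642) F45839
theorem F49810 : act 2 n12642 = n11647 := d20_1 D12642 (iv D11647) (iv F45840)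
theorem F49811 : act 4 n12642 = n11645 := d29_1 D12642 (iv D11645) D11644
def n12643 : Q := act 7 n11645
theorem D12643 : act 7 n11645 = n12643 := rfl
theorem F49812 : act 0 n12643 = n11700 := d6_1 D12643 (iv D11700) (iv F45842)
theorem F49813 : act 1 n12643 = n12643 := d13_1 D12643 (iv D12643) F45843
theorem F49814 : act 2 n12643 = n11648 := d19_1 D12643 (iv D11648) (iv F45844)
theorem F49815 : act 5 n12643 = n11652 := d31_1 D12643 (iv D11652) (iv F45846)
theorem F49816 : act 8 n12643 = n12643 := d35_2 D11645 D12643 (iv D12643) (iv D11645) F42204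
def n12644 : Q := act 6 n11646
theorem D12644 : act 6 n11646 = n12644 := rfl
theorem F49817 : act 0 n12644 = n11701 := d5_1 D12644 (iv D11701) (iv F45847)
theorem F49818 : act 1 n12644 = n11665 := d12_1 D12644 (iv D11665) (iv F45848)
theorem F49819 : act 4 n12644 = n11653 := d27_1 D12644 (iv D11653) (iv F45849)
theorem F49820 : act 7 n12644 = n12644 := d33_2 F45850 D12644 (iv D12644)
def n12645 : Q := act 8 n11646
theorem D12645 : act 8 n11646 = n12645 := rfl
theorem F49821 : act 0 n12645 = n11702 := d7_1 D12645 (iv D11702) (iv F45847)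
theorem F49822 : act 1 n12645 = n11666 := d14_1 D12645 (iv D11666) (iv F45848)
theorem F49823 : act 4 n12645 = n11654 := d29_1 D12645 (iv D11654) (iv F45849)
theorem F49824 : act 5 n12645 = n11647 := d32_1 D12645 (iv D11647) D11646
def n12646 : Q := act 7 n11647
theorem D12646 : act 7 n11647 = n12646 := rfl
theorem F49825 : act 0 n12646 = n11703 := d6_1 D12646 (iv D11703) (iv F45851)
theorem F49826 : act 1 n12646 = n11667 := d13_1 D12646 (iv D11667) (iv F45852)
theorem F49827 : act 4 n12646 = n11648 := d28_1 D12646 (iv D11648) (iv F45853)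
theorem F49828 : act 8 n12646 = n12646 := d35_2 D11647 D12646 (iv D12646) (iv D11647) F42207
def n12647 : Q := act 5 n11649
theorem D12647 : act 5 n11649 = n12647 := rfl
theorem F49829 : act 0 n12647 = n11704 := d4_1 D12647 (iv D11704) (iv F45858)
theorem F49830 : act 1 n12647 = n12647 := d11_1 D12647 (iv D12647) F45859
theorem F49831 : act 3 n12647 = n11650 := d22_1 D12647 (iv D11650) D11649
def n12648 : Q := act 7 n11649
theorem D12648 : act 7 n11649 = n12648 := rfl
theorem F49832 : act 0 n12648 = n11705 := d6_1 D12648 (iv D11705) (iv F45858)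
theorem F49833 : act 1 n12648 = n12648 := d13_1 D12648 (iv D12648) F45859
theorem F49834 : act 2 n12648 = n12355 := d19_1 D12648 (iv F48656) F47771
theorem F49835 : act 3 n12648 = n12648 := d24_1 D12648 (iv D12648) (iv D11649) F42216 D11649
theorem F49836 : act 4 n12648 = n12174 := d28_1 D12648 (iv D12174) (iv F45860)
theorem F49837 : act 6 n12648 = n12648 := d33_1 D12648 (iv D12648) F45861
theorem F49838 : act 8 n11958 = n12648 := d29_0 F49836 F48396 F48394
def n12649 : Q := act 8 n11649
theorem D12649 : act 8 n11649 = n12649 := rfl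
theorem F49839 : act 0 n12649 = n11706 := d7_1 D12649 (iv D11706) (iv F45858)
theorem F49840 : act 1 n12649 = n12649 := d14_1 D12649 (iv D12649) F45859
theorem F49841 : act 2 n12649 = n12356 := d20_1 D12649 F48660 F47771
theorem F49842 : act 3 n12649 = n11651 := d25_1 D12649 (iv D11651) D11649
theorem F49843 : act 4 n12649 = n12175 := d29_1 D12649 (iv D12175) (iv F45860)
theorem F49844 : act 6 n12649 = n12649 := d34_1 D12649 (iv D12649) F45861
theorem F49845 : act 7 n12649 = n11959 := d35_1 D12649 (iv D11959) D11958 F49838 (iv D12648)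
def n12650 : Q := act 6 n11650
theorem D12650 : act 6 n11650 = n12650 := rfl
theorem F49846 : act 0 n12650 = n11707 := d5_1 D12650 (iv D11707) (iv F45862)
theorem F49847 : act 1 n12650 = n12650 := d12_1 D12650 (iv D12650) F45863
theorem F49848 : act 2 n12650 = n11653 := d18_1 D12650 (iv D11653) (iv F45864)
theorem F49849 : act 5 n12650 = n12650 := d30_1 D12650 (iv D12650) (iv D11650) F42215 D11650
theorem F49850 : act 7 n12650 = n12650 := d33_2 F45865 D12650 (iv D12650)
def n12651 : Q := act 8 n11650
theorem D12651 : act 8 n11650 = n12651 := rfl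
theorem F49851 : act 0 n12651 = n11708 := d7_1 D12651 (iv D11708) (iv F45862)
theorem F49852 : act 1 n12651 = n12651 := d14_1 D12651 (iv D12651) F45863
theorem F49853 : act 2 n12651 = n11654 := d20_1 D12651 (iv D11654) (iv F45864)
theorem F49854 : act 5 n12651 = n11651 := d32_1 D12651 (iv D11651) D11650
def n12652 : Q := act 7 n11651
theorem D12652 : act 7 n11651 = n12652 := rfl
theorem F49855 : act 0 n12652 = n11709 := d6_1 D12652 (iv D11709) (iv F45866)
theorem F49856 : act 1 n12652 = n12652 := d13_1 D12652 (iv D12652) F45867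
theorem F49857 : act 2 n12652 = n11655 := d19_1 D12652 (iv D11655) (iv F45868)
theorem F49858 : act 3 n12652 = n11962 := d24_1 D12652 (iv D11962) (iv F47072) (iv F49845) F49842
theorem F49859 : act 4 n12652 = n11652 := d28_1 D12652 (iv D11652) (iv F45869)
theorem F49860 : act 6 n12652 = n12652 := d33_1 D12652 (iv D12652) F45870
theorem F49861 : act 8 n12652 = n12652 := d35_2 D11651 D12652 (iv D12652) (iv D11651) F42216
def n12653 : Q := act 3 n11652
theorem D12653 : act 3 n11652 = n12653 := rfl
theorem F49862 : act 0 n12653 = n11710 := d2_1 D12653 (iv D11710) (iv F45871)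
theorem F49863 : act 1 n12653 = n12653 := d9_1 D12653 (iv D12653) F45872
theorem F49864 : act 4 n12653 = n11963 := d21_2 F49859 D12653 (iv D11963) (iv F47083) (iv F49858)
theorem F49865 : act 6 n12653 = n12653 := d23_2 F45874 D12653 (iv D12653)
theorem F49866 : act 7 n12653 = n12179 := d24_2 D11652 D12653 (iv D12179) (iv D11163) (iv F42220)
theorem F49867 : act 8 n12653 = n12653 := d25_2 F45875 D12653 (iv D12653)
def n12654 : Q := act 8 n11653
theorem D12654 : act 8 n11653 = n12654 := rfl
theorem F49868 : act 0 n12654 = n11711 := d7_1 D12654 (iv D11711) (iv F45876)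
theorem F49869 : act 1 n12654 = n11668 := d14_1 D12654 (iv D11668) (iv F45877)
theorem F49870 : act 5 n12654 = n12654 := d32_1 D12654 (iv D12654) F45878
theorem F49871 : act 6 n12654 = n11654 := d34_1 D12654 (iv D11654) D11653
def n12655 : Q := act 7 n11654
theorem D12655 : act 7 n11654 = n12655 := rfl
theorem F49872 : act 0 n12655 = n11712 := d6_1 D12655 (iv D11712) (iv F45880)
theorem F49873 : act 1 n12655 = n11669 := d13_1 D12655 (iv D11669) (iv F45881)
theorem F49874 : act 5 n12655 = n11655 := d31_1 D12655 (iv D11655) (iv F45882)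
theorem F49875 : act 8 n12655 = n12655 := d35_2 D11654 D12655 (iv D12655) (iv D11654) F42224
def n12656 : Q := act 3 n11655
theorem D12656 : act 3 n11655 = n12656 := rfl
theorem F49876 : act 0 n12656 = n11713 := d2_1 D12656 (iv D11713) (iv F45883)
theorem F49877 : act 1 n12656 = n11670 := d9_1 D12656 (iv D11670) (iv F45884)
theorem F49878 : act 2 n12656 = n11966 := d15_1 D12656 (iv D11966) (iv F47082) (iv F49858) F49857
theorem F49879 : act 6 n12656 = n12656 := d23_2 F45886 D12656 (iv D12656)
theorem F49880 : act 7 n12656 = n12363 := d24_2 D11655 D12656 F48691 (iv D12113) F43811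
theorem F49881 : act 8 n12656 = n12656 := d25_2 F45887 D12656 (iv D12656)
def n12657 : Q := act 1 n11656
theorem D12657 : act 1 n11656 = n12657 := rfl
theorem F49882 : act 3 n12657 = n12657 := d9_2 F45889 D12657 (iv D12657)
theorem F49883 : act 7 n12657 = n11659 := d13_2 (iv F45890) D12657 (iv D11659)
def n12658 : Q := act 8 n11656
theorem D12658 : act 8 n11656 = n12658 := rfl
theorem F49884 : act 0 n12658 = n11673 := d7_1 D12658 (iv D11673) (iv F45888)
theorem F49885 : act 2 n12658 = n11658 := d20_1 D12658 (iv D11658) D11656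
theorem F49886 : act 3 n12658 = n12658 := d25_1 D12658 (iv D12658) F45889
def n12659 : Q := act 8 n11657
theorem D12659 : act 8 n11657 = n12659 := rfl
theorem F49887 : act 0 n12659 = n11674 := d7_1 D12659 (iv D11674) (iv F45891)
theorem F49888 : act 3 n12659 = n12659 := d25_1 D12659 (iv D12659) F45892
theorem F49889 : act 4 n12659 = n11658 := d29_1 D12659 (iv D11658) D11657
def n12660 : Q := act 7 n11658
theorem D12660 : act 7 n11658 = n12660 := rfl
theorem F49890 : act 0 n12660 = n11675 := d6_1 D12660 (iv D11675) (iv F45894)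
theorem F49891 : act 8 n12660 = n11664 := d35_2 D11658 D12660 (iv D11664) (iv D10716) (iv F42234)
def n12661 : Q := act 4 n11659
theorem D12661 : act 4 n11659 = n12661 := rfl
theorem F49892 : act 1 n12661 = n11660 := d10_1 D12661 (iv D11660) D11659
theorem F49893 : act 3 n12661 = n12661 := d21_1 D12661 (iv D12661) F45896 F42268 (iv F45896)
def n12662 : Q := act 8 n11659
theorem D12662 : act 8 n11659 = n12662 := rfl
theorem F49894 : act 1 n12662 = n11661 := d14_1 D12662 (iv D11661) D11659
theorem F49895 : act 3 n12662 = n11671 := d25_1 D12662 (iv D11671) (iv F45896)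
def n12663 : Q := act 8 n11660
theorem D12663 : act 8 n11660 = n12663 := rfl
theorem F49896 : act 0 n12663 = n11676 := d7_1 D12663 (iv D11676) (iv F45897)
theorem F49897 : act 2 n12663 = n11663 := d20_1 D12663 (iv D11663) (iv F45898)
theorem F49898 : act 3 n12663 = n12663 := d25_1 D12663 (iv D12663) F45899
theorem F49899 : act 4 n12663 = n11661 := d29_1 D12663 (iv D11661) D11660
def n12664 : Q := act 7 n11661
theorem D12664 : act 7 n11661 = n12664 := rfl
theorem F49900 : act 0 n12664 = n11677 := d6_1 D12664 (iv D11677) (iv F45900)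
theorem F49901 : act 2 n12664 = n11664 := d19_1 D12664 (iv D11664) (iv F45901)
def n12665 : Q := act 8 n11662
theorem D12665 : act 8 n11662 = n12665 := rfl
theorem F49902 : act 0 n12665 = n11678 := d7_1 D12665 (iv D11678) (iv F45903)
theorem F49903 : act 3 n12665 = n11666 := d25_1 D12665 (iv D11666) (iv F45904)
theorem F49904 : act 5 n12665 = n11663 := d32_1 D12665 (iv D11663) D11662
def n12666 : Q := act 7 n11663
theorem D12666 : act 7 n11663 = n12666 := rfl
theorem F49905 : act 0 n12666 = n11679 := d6_1 D12666 (iv D11679) (iv F45905)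
theorem F49906 : act 4 n12666 = n11664 := d28_1 D12666 (iv D11664) (iv F45907)
def n12667 : Q := act 8 n11665
theorem D12667 : act 8 n11665 = n12667 := rfl
theorem F49907 : act 0 n12667 = n11680 := d7_1 D12667 (iv D11680) (iv F45909)
theorem F49908 : act 2 n12667 = n12667 := d20_1 D12667 (iv D12667) F45910
theorem F49909 : act 4 n12667 = n11668 := d29_1 D12667 (iv D11668) (iv F45911)
theorem F49910 : act 6 n12667 = n11666 := d34_1 D12667 (iv D11666) D11665
def n12668 : Q := act 7 n11666
theorem D12668 : act 7 n11666 = n12668 := rfl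
theorem F49911 : act 0 n12668 = n11681 := d6_1 D12668 (iv D11681) (iv F45913)
theorem F49912 : act 2 n12668 = n12668 := d19_1 D12668 (iv D12668) F45914
theorem F49913 : act 4 n12668 = n11669 := d28_1 D12668 (iv D11669) (iv F45915)
theorem F49914 : act 5 n12668 = n11667 := d31_1 D12668 (iv D11667) (iv F45916)
theorem F49915 : act 8 n12668 = n12668 := d35_2 D11666 D12668 (iv D12668) (iv D11666) F42247
def n12669 : Q := act 3 n11667
theorem D12669 : act 3 n11667 = n12669 := rfl
theorem F49916 : act 0 n12669 = n11682 := d2_1 D12669 (iv D11682) (iv F45917)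
theorem F49917 : act 8 n12669 = n12669 := d25_2 F45920 D12669 (iv D12669)
def n12670 : Q := act 7 n11668
theorem D12670 : act 7 n11668 = n12670 := rfl
theorem F49918 : act 0 n12670 = n11683 := d6_1 D12670 (iv D11683) (iv F45921)
theorem F49919 : act 2 n12670 = n12670 := d19_1 D12670 (iv D12670) F45922
theorem F49920 : act 5 n12670 = n12670 := d31_1 D12670 (iv D12670) F45923
theorem F49921 : act 6 n12670 = n11669 := d33_1 D12670 (iv D11669) (iv F45924)
theorem F49922 : act 8 n12670 = n12670 := d35_2 D11668 D12670 (iv D12670) (iv D11668) F42258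
def n12671 : Q := act 3 n11669
theorem D12671 : act 3 n11669 = n12671 := rfl
theorem F49923 : act 0 n12671 = n11684 := d2_1 D12671 (iv D11684) (iv F45925)
theorem F49924 : act 5 n12671 = n11670 := d22_2 (iv F45927) D12671 (iv D11670)
theorem F49925 : act 8 n12671 = n12671 := d25_2 F45928 D12671 (iv D12671)
def n12672 : Q := act 2 n11670
theorem D12672 : act 2 n11670 = n12672 := rfl
theorem F49926 : act 0 n12672 = n11685 := d1_1 D12672 (iv D11685) (iv F45929)
theorem F49927 : act 1 n12672 = n12004 := d8_1 D12672 (iv D12004) (iv F47097) (iv F49878) F49877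
theorem F49928 : act 3 n12672 = n12672 := d15_2 D11670 D12672 (iv D12672) (iv D11670) F42263
theorem F49929 : act 6 n12672 = n12672 := d18_2 F45930 D12672 (iv D12672)
theorem F49930 : act 7 n12672 = n12394 := d19_2 F47831 D12672 F48806
theorem F49931 : act 8 n12672 = n12672 := d20_2 F45931 D12672 (iv D12672)
def n12673 : Q := act 7 n11671
theorem D12673 : act 7 n11671 = n12673 := rfl
theorem F49932 : act 1 n12673 = n11672 := d13_1 D12673 (iv D11672) (iv F45932)
theorem F49933 : act 2 n12673 = n12221 := d19_1 D12673 (iv D12221) (iv F45933)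
theorem F49934 : act 4 n12673 = n12673 := d28_1 D12673 (iv D12673) F45934
theorem F49935 : act 8 n12673 = n12673 := d35_2 D11671 D12673 (iv D12673) (iv D11671) F42269
def n12674 : Q := act 3 n11672
theorem D12674 : act 3 n11672 = n12674 := rfl
theorem F49936 : act 0 n12674 = n11686 := d2_1 D12674 (iv D11686) (iv F45935)
theorem F49937 : act 8 n12674 = n12674 := d25_2 F45938 D12674 (iv D12674)
def n12675 : Q := act 7 n11673
theorem D12675 : act 7 n11673 = n12675 := rfl
theorem F49938 : act 2 n12675 = n11675 := d19_1 D12675 (iv D11675) (iv F45939)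
theorem F49939 : act 8 n12675 = n11677 := d35_2 D11673 D12675 (iv D11677) (iv D10730) (iv F42278)
def n12676 : Q := act 7 n11674
theorem D12676 : act 7 n11674 = n12676 := rfl
theorem F49940 : act 1 n12676 = n11727 := d13_1 D12676 (iv D11727) (iv F45941)
theorem F49941 : act 4 n12676 = n11675 := d28_1 D12676 (iv D11675) (iv F45943)
theorem F49942 : act 8 n12676 = n11679 := d35_2 D11674 D12676 (iv D11679) (iv D10732) (iv F42281)
def n12677 : Q := act 7 n11676
theorem D12677 : act 7 n11676 = n12677 := rfl
theorem F49943 : act 2 n12677 = n11679 := d19_1 D12677 (iv D11679) (iv F45946)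
theorem F49944 : act 4 n12677 = n11677 := d28_1 D12677 (iv D11677) (iv F45948)
def n12678 : Q := act 3 n11677
theorem D12678 : act 3 n11677 = n12678 := rfl
theorem F49945 : act 7 n12678 = n11686 := d24_2 D11677 D12678 (iv D11686) (iv D10740) (iv F42287)
def n12679 : Q := act 7 n11678
theorem D12679 : act 7 n11678 = n12679 := rfl
theorem F49946 : act 1 n12679 = n11729 := d13_1 D12679 (iv D11729) (iv F45950)
theorem F49947 : act 5 n12679 = n11679 := d31_1 D12679 (iv D11679) (iv F45952)
def n12680 : Q := act 3 n11679
theorem D12680 : act 3 n11679 = n12680 := rfl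
theorem F49948 : act 1 n12680 = n11730 := d9_1 D12680 (iv D11730) (iv F45953)
theorem F49949 : act 7 n12680 = n11682 := d24_2 D11679 D12680 (iv D11682) (iv D10736) (iv F42291)
def n12681 : Q := act 7 n11680
theorem D12681 : act 7 n11680 = n12681 := rfl
theorem F49950 : act 1 n12681 = n11731 := d13_1 D12681 (iv D11731) (iv F45955)
theorem F49951 : act 2 n12681 = n12681 := d19_1 D12681 (iv D12681) F45956
theorem F49952 : act 4 n12681 = n11683 := d28_1 D12681 (iv D11683) (iv F45957)
theorem F49953 : act 6 n12681 = n11681 := d33_1 D12681 (iv D11681) (iv F45958)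
theorem F49954 : act 8 n12681 = n12681 := d35_2 D11680 D12681 (iv D12681) (iv D11680) F42297
def n12682 : Q := act 3 n11681
theorem D12682 : act 3 n11681 = n12682 := rfl
theorem F49955 : act 1 n12682 = n11732 := d9_1 D12682 (iv D11732) (iv F45959)
theorem F49956 : act 5 n12682 = n11682 := d22_2 (iv F45962) D12682 (iv D11682)
theorem F49957 : act 8 n12682 = n12682 := d25_2 F45963 D12682 (iv D12682)
def n12683 : Q := act 2 n11682
theorem D12683 : act 2 n11682 = n12683 := rfl
theorem F49958 : act 3 n12683 = n12683 := d15_2 D11682 D12683 (iv D12683) (iv D11682) F42303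
theorem F49959 : act 8 n12683 = n12683 := d20_2 F45965 D12683 (iv D12683)
def n12684 : Q := act 4 n11686
theorem D12684 : act 4 n11686 = n12684 := rfl
theorem F49960 : act 3 n12684 = n12684 := d21_1 D12684 (iv D12684) (iv D11686) F42318 D11686
theorem F49961 : act 8 n12684 = n12684 := d29_2 F45977 D12684 (iv D12684)
def n12685 : Q := act 2 n11687
theorem D12685 : act 2 n11687 = n12685 := rfl
theorem F49962 : act 3 n12685 = n11689 := d15_2 D11687 D12685 (iv D11689) (iv D10742) (iv F42321)
theorem F49963 : act 7 n12685 = n12305 := d19_2 (iv F45979) D12685 (iv D12305)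
def n12686 : Q := act 4 n11687
theorem D12686 : act 4 n11687 = n12686 := rfl
theorem F49964 : act 1 n12686 = n11738 := d10_1 D12686 (iv D11738) (iv F45978)
theorem F49965 : act 3 n12686 = n12686 := d21_1 D12686 (iv D12686) (iv D11687) F42322 D11687
theorem F49966 : act 7 n12686 = n12306 := d28_2 (iv F45979) D12686 (iv D12306)
def n12687 : Q := act 8 n11687
theorem D12687 : act 8 n11687 = n12687 := rfl
theorem F49967 : act 1 n12687 = n11739 := d14_1 D12687 (iv D11739) (iv F45978)
theorem F49968 : act 3 n12687 = n11688 := d25_1 D12687 (iv D11688) D11687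
def n12688 : Q := act 4 n11689
theorem D12688 : act 4 n11689 = n12688 := rfl
theorem F49969 : act 2 n12688 = n11690 := d16_1 D12688 (iv D11690) D11689
theorem F49970 : act 7 n12688 = n11692 := d28_2 (iv F45983) D12688 (iv D11692)
def n12689 : Q := act 8 n11689
theorem D12689 : act 8 n11689 = n12689 := rfl
theorem F49971 : act 2 n12689 = n11691 := d20_1 D12689 (iv D11691) D11689
def n12690 : Q := act 5 n11690
theorem D12690 : act 5 n11690 = n12690 := rfl
theorem F49972 : act 1 n12690 = n11714 := d11_1 D12690 (iv D11714) (iv F45984)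
theorem F49973 : act 3 n12690 = n12690 := d22_1 D12690 (iv D12690) F45985
theorem F49974 : act 7 n12690 = n11694 := d31_2 (iv F45986) D12690 (iv D11694)
def n12691 : Q := act 8 n11690
theorem D12691 : act 8 n11690 = n12691 := rfl
theorem F49975 : act 1 n12691 = n11715 := d14_1 D12691 (iv D11715) (iv F45984)
theorem F49976 : act 3 n12691 = n12691 := d25_1 D12691 (iv D12691) F45985
theorem F49977 : act 4 n12691 = n11691 := d29_1 D12691 (iv D11691) D11690
def n12692 : Q := act 7 n11691
theorem D12692 : act 7 n11691 = n12692 := rfl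
theorem F49978 : act 1 n12692 = n11716 := d13_1 D12692 (iv D11716) (iv F45987)
theorem F49979 : act 8 n12692 = n11696 := d35_2 D11691 D12692 (iv D11696) (iv D10746) (iv F42324)
def n12693 : Q := act 3 n11692
theorem D12693 : act 3 n11692 = n12693 := rfl
theorem F49980 : act 2 n12693 = n11697 := d15_1 D12693 (iv D11697) F42333 (iv F42329) (iv F45989)
theorem F49981 : act 4 n12693 = n12327 := d21_2 D11692 D12693 (iv D12327) (iv D11300) (iv F42327)
def n12694 : Q := act 5 n11692
theorem D12694 : act 5 n11692 = n12694 := rfl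
theorem F49982 : act 2 n12694 = n11694 := d17_1 D12694 (iv D11694) (iv F45989)
def n12695 : Q := act 8 n11692
theorem D12695 : act 8 n11692 = n12695 := rfl
theorem F49983 : act 2 n12695 = n11695 := d20_1 D12695 (iv D11695) (iv F45989)
theorem F49984 : act 4 n12695 = n11693 := d29_1 D12695 (iv D11693) D11692
def n12696 : Q := act 7 n11693
theorem D12696 : act 7 n11693 = n12696 := rfl
theorem F49985 : act 2 n12696 = n11696 := d19_1 D12696 (iv D11696) (iv F45990)
def n12697 : Q := act 6 n11694
theorem D12697 : act 6 n11694 = n12697 := rfl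
theorem F49986 : act 1 n12697 = n11717 := d12_1 D12697 (iv D11717) (iv F45992)
theorem F49987 : act 3 n12697 = n11701 := d23_1 D12697 (iv D11701) (iv F45993)
def n12698 : Q := act 8 n11694
theorem D12698 : act 8 n11694 = n12698 := rfl
theorem F49988 : act 1 n12698 = n11718 := d14_1 D12698 (iv D11718) (iv F45992)
theorem F49989 : act 3 n12698 = n11702 := d25_1 D12698 (iv D11702) (iv F45993)
theorem F49990 : act 5 n12698 = n11695 := d32_1 D12698 (iv D11695) D11694
def n12699 : Q := act 7 n11695
theorem D12699 : act 7 n11695 = n12699 := rfl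
theorem F49991 : act 1 n12699 = n11719 := d13_1 D12699 (iv D11719) (iv F45994)
theorem F49992 : act 4 n12699 = n11696 := d28_1 D12699 (iv D11696) (iv F45996)
def n12700 : Q := act 5 n11697
theorem D12700 : act 5 n11697 = n12700 := rfl
theorem F49993 : act 1 n12700 = n11740 := d11_1 D12700 (iv D11740) (iv F45998)
theorem F49994 : act 3 n12700 = n11698 := d22_1 D12700 (iv D11698) D11697
def n12701 : Q := act 7 n11697
theorem D12701 : act 7 n11697 = n12701 := rfl
theorem F49995 : act 1 n12701 = n11741 := d13_1 D12701 (iv D11741) (iv F45998)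
theorem F49996 : act 3 n12701 = n12701 := d24_1 D12701 (iv D12701) (iv D11697) F42334 D11697
theorem F49997 : act 4 n12701 = n12342 := d28_1 D12701 (iv D12342) (iv F45999)
def n12702 : Q := act 8 n11697
theorem D12702 : act 8 n11697 = n12702 := rfl
theorem F49998 : act 1 n12702 = n11742 := d14_1 D12702 (iv D11742) (iv F45998)
theorem F49999 : act 3 n12702 = n11699 := d25_1 D12702 (iv D11699) D11697
theorem F50000 : act 4 n12702 = n12343 := d29_1 D12702 (iv D12343) (iv F45999)
def n12703 : Q := act 6 n11698
theorem D12703 : act 6 n11698 = n12703 := rfl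
theorem F50001 : act 1 n12703 = n11743 := d12_1 D12703 (iv D11743) (iv F46000)
theorem F50002 : act 2 n12703 = n11701 := d18_1 D12703 (iv D11701) (iv F46001)
theorem F50003 : act 4 n12703 = n11707 := d27_1 D12703 (iv D11707) (iv F46002)
theorem F50004 : act 7 n12703 = n12703 := d33_2 F46003 D12703 (iv D12703)
def n12704 : Q := act 8 n11698
theorem D12704 : act 8 n11698 = n12704 := rfl
theorem F50005 : act 1 n12704 = n11744 := d14_1 D12704 (iv D11744) (iv F46000)
theorem F50006 : act 2 n12704 = n11702 := d20_1 D12704 (iv D11702) (iv F46001)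
theorem F50007 : act 4 n12704 = n11708 := d29_1 D12704 (iv D11708) (iv F46002)
theorem F50008 : act 5 n12704 = n11699 := d32_1 D12704 (iv D11699) D11698
def n12705 : Q := act 7 n11699
theorem D12705 : act 7 n11699 = n12705 := rfl
theorem F50009 : act 1 n12705 = n11745 := d13_1 D12705 (iv D11745) (iv F46004)
theorem F50010 : act 2 n12705 = n11703 := d19_1 D12705 (iv D11703) (iv F46005)
theorem F50011 : act 4 n12705 = n11700 := d28_1 D12705 (iv D11700) (iv F46006)
theorem F50012 : act 8 n12705 = n12705 := d35_2 D11699 D12705 (iv D12705) (iv D11699) F42334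
def n12706 : Q := act 3 n11700
theorem D12706 : act 3 n11700 = n12706 := rfl
theorem F50013 : act 1 n12706 = n11746 := d9_1 D12706 (iv D11746) (iv F46007)
theorem F50014 : act 5 n12706 = n11710 := d22_2 (iv F46009) D12706 (iv D11710)
theorem F50015 : act 7 n12706 = n12347 := d24_2 D11700 D12706 (iv D12347) (iv D11313) (iv F42337)
theorem F50016 : act 8 n12706 = n12706 := d25_2 F46010 D12706 (iv D12706)
def n12707 : Q := act 8 n11701
theorem D12707 : act 8 n11701 = n12707 := rfl
theorem F50017 : act 1 n12707 = n11720 := d14_1 D12707 (iv D11720) (iv F46011)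
theorem F50018 : act 4 n12707 = n11711 := d29_1 D12707 (iv D11711) (iv F46012)
theorem F50019 : act 6 n12707 = n11702 := d34_1 D12707 (iv D11702) D11701
def n12708 : Q := act 7 n11702
theorem D12708 : act 7 n11702 = n12708 := rfl
theorem F50020 : act 1 n12708 = n11721 := d13_1 D12708 (iv D11721) (iv F46014)
theorem F50021 : act 4 n12708 = n11712 := d28_1 D12708 (iv D11712) (iv F46015)
theorem F50022 : act 5 n12708 = n11703 := d31_1 D12708 (iv D11703) (iv F46016)
theorem F50023 : act 8 n12708 = n12708 := d35_2 D11702 D12708 (iv D12708) (iv D11702) F42341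
def n12709 : Q := act 3 n11703
theorem D12709 : act 3 n11703 = n12709 := rfl
theorem F50024 : act 1 n12709 = n11722 := d9_1 D12709 (iv D11722) (iv F46017)
theorem F50025 : act 8 n12709 = n12709 := d25_2 F46019 D12709 (iv D12709)
def n12710 : Q := act 4 n11704
theorem D12710 : act 4 n11704 = n12710 := rfl
theorem F50026 : act 1 n12710 = n11750 := d10_1 D12710 (iv D11750) (iv F46020)
theorem F50027 : act 5 n12710 = n12351 := d26_2 D11704 D12710 (iv D12351) (iv D11317) (iv F42348)
def n12711 : Q := act 6 n11704
theorem D12711 : act 6 n11704 = n12711 := rfl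
theorem F50028 : act 1 n12711 = n11751 := d12_1 D12711 (iv D11751) (iv F46020)
theorem F50029 : act 3 n12711 = n11707 := d23_1 D12711 (iv D11707) (iv F46021)
theorem F50030 : act 5 n12711 = n12711 := d30_1 D12711 (iv D12711) (iv D11704) F42349 D11704
def n12712 : Q := act 7 n11704
theorem D12712 : act 7 n11704 = n12712 := rfl
theorem F50031 : act 1 n12712 = n11752 := d13_1 D12712 (iv D11752) (iv F46020)
theorem F50032 : act 3 n12712 = n12712 := d24_1 D12712 (iv D12712) F46021 F42352 (iv F46021)
theorem F50033 : act 5 n12712 = n11705 := d31_1 D12712 (iv D11705) D11704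
def n12713 : Q := act 8 n11704
theorem D12713 : act 8 n11704 = n12713 := rfl
theorem F50034 : act 1 n12713 = n11753 := d14_1 D12713 (iv D11753) (iv F46020)
theorem F50035 : act 3 n12713 = n11708 := d25_1 D12713 (iv D11708) (iv F46021)
theorem F50036 : act 5 n12713 = n11706 := d32_1 D12713 (iv D11706) D11704
def n12714 : Q := act 8 n11705
theorem D12714 : act 8 n11705 = n12714 := rfl
theorem F50037 : act 0 n12714 = n11958 := d7_1 D12714 F49838 F49832
theorem F50038 : act 1 n12714 = n11754 := d14_1 D12714 (iv D11754) (iv F46022)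
theorem F50039 : act 2 n12714 = n12174 := d20_1 D12714 F48396 F48392
theorem F50040 : act 3 n12714 = n12714 := d25_1 D12714 (iv D12714) F46023
theorem F50041 : act 4 n12714 = n12355 := d29_1 D12714 (iv D12355) (iv F46024)
theorem F50042 : act 6 n12714 = n12714 := d34_1 D12714 (iv D12714) F46025
theorem F50043 : act 7 n11835 = n12714 := d28_0 F50041 (iv F48656) F47772
def n12715 : Q := act 7 n11706
theorem D12715 : act 7 n11706 = n12715 := rfl
theorem F50044 : act 0 n12715 = n11959 := d6_1 D12715 (iv F49845) F49839
theorem F50045 : act 1 n12715 = n11755 := d13_1 D12715 (iv D11755) (iv F46026)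
theorem F50046 : act 2 n12715 = n12175 := d19_1 D12715 (iv F48402) F48398
theorem F50047 : act 4 n12715 = n12356 := d28_1 D12715 (iv D12356) (iv F46028)
theorem F50048 : act 6 n12715 = n12715 := d33_1 D12715 (iv D12715) F46029
theorem F50049 : act 8 n12715 = n11835 := d35_2 D11706 D12715 F50043 (iv D12714) (iv D11705)
theorem F50050 : act 3 n11837 = n12715 := d25_3 F50049 (iv D11835) D11837
def n12716 : Q := act 8 n11707
theorem D12716 : act 8 n11707 = n12716 := rfl
theorem F50051 : act 1 n12716 = n11756 := d14_1 D12716 (iv D11756) (iv F46030)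
theorem F50052 : act 2 n12716 = n11711 := d20_1 D12716 (iv D11711) (iv F46031)
theorem F50053 : act 5 n12716 = n12716 := d32_1 D12716 (iv D12716) F46032
theorem F50054 : act 6 n12716 = n11708 := d34_1 D12716 (iv D11708) D11707
def n12717 : Q := act 7 n11708
theorem D12717 : act 7 n11708 = n12717 := rfl
theorem F50055 : act 1 n12717 = n11757 := d13_1 D12717 (iv D11757) (iv F46034)
theorem F50056 : act 2 n12717 = n11712 := d19_1 D12717 (iv D11712) (iv F46035)
theorem F50057 : act 5 n12717 = n11709 := d31_1 D12717 (iv D11709) (iv F46036)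
theorem F50058 : act 8 n12717 = n12717 := d35_2 D11708 D12717 (iv D12717) (iv D11708) F42352
def n12718 : Q := act 3 n11709
theorem D12718 : act 3 n11709 = n12718 := rfl
theorem F50059 : act 0 n12718 = n11962 := d2_1 D12718 (iv F49858) F49855
theorem F50060 : act 1 n12718 = n11758 := d9_1 D12718 (iv D11758) (iv F46037)
theorem F50061 : act 6 n12718 = n12718 := d23_2 F46040 D12718 (iv D12718)
theorem F50062 : act 7 n12718 = n11837 := d24_2 D11709 D12718 F50050 (iv D12715) F46027
theorem F50063 : act 8 n12718 = n12718 := d25_2 F46041 D12718 (iv D12718)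
theorem F50064 : act 2 n11841 = n12718 := d19_3 F50062 F46570 D11841
theorem F50065 : act 4 n11838 = n12718 := d28_3 F50062 F46571 D11838
def n12719 : Q := act 4 n11710
theorem D12719 : act 4 n11710 = n12719 := rfl
theorem F50066 : act 0 n12719 = n11963 := d3_1 D12719 (iv F49864) F49862
theorem F50067 : act 1 n12719 = n11759 := d10_1 D12719 (iv D11759) (iv F46042)
theorem F50068 : act 2 n12719 = n12653 := d16_1 D12719 F49864 F47087
theorem F50069 : act 3 n12719 = n11838 := d21_1 D12719 F50065 (iv D12718) F46039 D11710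
theorem F50070 : act 6 n12719 = n12719 := d27_2 F46043 D12719 (iv D12719)
theorem F50071 : act 7 n12719 = n12360 := d28_2 (iv F46044) D12719 (iv D12360)
theorem F50072 : act 8 n12719 = n12719 := d29_2 F46045 D12719 (iv D12719)
def n12720 : Q := act 7 n11711
theorem D12720 : act 7 n11711 = n12720 := rfl
theorem F50073 : act 1 n12720 = n11723 := d13_1 D12720 (iv D11723) (iv F46046)
theorem F50074 : act 5 n12720 = n12720 := d31_1 D12720 (iv D12720) F46047
theorem F50075 : act 6 n12720 = n11712 := d33_1 D12720 (iv D11712) (iv F46048)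
theorem F50076 : act 8 n12720 = n12720 := d35_2 D11711 D12720 (iv D12720) (iv D11711) F42363
def n12721 : Q := act 3 n11712
theorem D12721 : act 3 n11712 = n12721 := rfl
theorem F50077 : act 1 n12721 = n11724 := d9_1 D12721 (iv D11724) (iv F46049)
theorem F50078 : act 5 n12721 = n11713 := d22_2 (iv F46050) D12721 (iv D11713)
theorem F50079 : act 8 n12721 = n12721 := d25_2 F46051 D12721 (iv D12721)
def n12722 : Q := act 2 n11713
theorem D12722 : act 2 n11713 = n12722 := rfl
theorem F50080 : act 0 n12722 = n11966 := d1_1 D12722 (iv F49878) F49876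
theorem F50081 : act 3 n12722 = n11841 := d15_2 D11713 D12722 F50064 (iv D12718) F46038
theorem F50082 : act 4 n12722 = n12656 := d16_2 F47098 D12722 F49878
theorem F50083 : act 6 n12722 = n12722 := d18_2 F46053 D12722 (iv D12722)
theorem F50084 : act 7 n12722 = n12182 := d19_2 F48433 D12722 (iv F48430)
theorem F50085 : act 8 n12722 = n12722 := d20_2 F46054 D12722 (iv D12722)
theorem F50086 : act 1 n11866 = n12722 := d13_3 F50084 F48068 (iv F46685)
def n12723 : Q := act 8 n11714
theorem D12723 : act 8 n11714 = n12723 := rfl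
theorem F50087 : act 0 n12723 = n11726 := d7_1 D12723 (iv D11726) (iv F46055)
theorem F50088 : act 3 n12723 = n12723 := d25_1 D12723 (iv D12723) F46056
theorem F50089 : act 5 n12723 = n11715 := d32_1 D12723 (iv D11715) D11714
def n12724 : Q := act 7 n11715
theorem D12724 : act 7 n11715 = n12724 := rfl
theorem F50090 : act 0 n12724 = n11727 := d6_1 D12724 (iv D11727) (iv F46058)
theorem F50091 : act 4 n12724 = n11716 := d28_1 D12724 (iv D11716) (iv F46060)
theorem F50092 : act 8 n12724 = n11719 := d35_2 D11715 D12724 (iv D11719) (iv D10762) (iv F42372)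
def n12725 : Q := act 8 n11717
theorem D12725 : act 8 n11717 = n12725 := rfl
theorem F50093 : act 0 n12725 = n11728 := d7_1 D12725 (iv D11728) (iv F46063)
theorem F50094 : act 3 n12725 = n11720 := d25_1 D12725 (iv D11720) (iv F46064)
theorem F50095 : act 6 n12725 = n11718 := d34_1 D12725 (iv D11718) D11717
def n12726 : Q := act 7 n11718
theorem D12726 : act 7 n11718 = n12726 := rfl
theorem F50096 : act 0 n12726 = n11729 := d6_1 D12726 (iv D11729) (iv F46065)
theorem F50097 : act 5 n12726 = n11719 := d31_1 D12726 (iv D11719) (iv F46067)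
def n12727 : Q := act 3 n11719
theorem D12727 : act 3 n11719 = n12727 := rfl
theorem F50098 : act 0 n12727 = n11730 := d2_1 D12727 (iv D11730) (iv F46068)
theorem F50099 : act 7 n12727 = n11722 := d24_2 D11719 D12727 (iv D11722) (iv D10766) (iv F42378)
def n12728 : Q := act 7 n11720
theorem D12728 : act 7 n11720 = n12728 := rfl
theorem F50100 : act 0 n12728 = n11731 := d6_1 D12728 (iv D11731) (iv F46070)
theorem F50101 : act 2 n12728 = n11763 := d19_1 D12728 (iv D11763) (iv F46071)
theorem F50102 : act 4 n12728 = n11723 := d28_1 D12728 (iv D11723) (iv F46072)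
theorem F50103 : act 6 n12728 = n11721 := d33_1 D12728 (iv D11721) (iv F46073)
theorem F50104 : act 8 n12728 = n12728 := d35_2 D11720 D12728 (iv D12728) (iv D11720) F42384
def n12729 : Q := act 3 n11721
theorem D12729 : act 3 n11721 = n12729 := rfl
theorem F50105 : act 0 n12729 = n11732 := d2_1 D12729 (iv D11732) (iv F46074)
theorem F50106 : act 5 n12729 = n11722 := d22_2 (iv F46077) D12729 (iv D11722)
theorem F50107 : act 8 n12729 = n12729 := d25_2 F46078 D12729 (iv D12729)
def n12730 : Q := act 2 n11722
theorem D12730 : act 2 n11722 = n12730 := rfl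
theorem F50108 : act 0 n12730 = n11733 := d1_1 D12730 (iv D11733) (iv F46079)
theorem F50109 : act 3 n12730 = n11765 := d15_2 D11722 D12730 (iv D11765) (iv D10803) (iv F42390)
theorem F50110 : act 8 n12730 = n12730 := d20_2 F46080 D12730 (iv D12730)
def n12731 : Q := act 3 n11723
theorem D12731 : act 3 n11723 = n12731 := rfl
theorem F50111 : act 0 n12731 = n11734 := d2_1 D12731 (iv D11734) (iv F46081)
theorem F50112 : act 5 n12731 = n12731 := d22_2 F46083 D12731 (iv D12731)
theorem F50113 : act 6 n12731 = n11724 := d23_2 (iv F46084) D12731 (iv D11724)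
theorem F50114 : act 8 n12731 = n12731 := d25_2 F46085 D12731 (iv D12731)
def n12732 : Q := act 2 n11724
theorem D12732 : act 2 n11724 = n12732 := rfl
theorem F50115 : act 0 n12732 = n11735 := d1_1 D12732 (iv D11735) (iv F46086)
theorem F50116 : act 3 n12732 = n11767 := d15_2 D11724 D12732 (iv D11767) (iv D10805) (iv F42398)
theorem F50117 : act 5 n12732 = n11725 := d17_2 (iv F46087) D12732 (iv D11725)
theorem F50118 : act 8 n12732 = n12732 := d20_2 F46088 D12732 (iv D12732)
def n12733 : Q := act 4 n11724
theorem D12733 : act 4 n11724 = n12733 := rfl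
theorem F50119 : act 0 n12733 = n11736 := d3_1 D12733 (iv D11736) (iv F46086)
theorem F50120 : act 8 n12733 = n12733 := d29_2 F46088 D12733 (iv D12733)
def n12734 : Q := act 1 n11725
theorem D12734 : act 1 n11725 = n12734 := rfl
theorem F50121 : act 2 n12734 = n11866 := d8_2 D11725 D12734 F50086 (iv D12722) F46052
theorem F50122 : act 3 n12734 = n11769 := d9_2 (iv F46090) D12734 (iv D11769)
theorem F50123 : act 4 n12734 = n12672 := d10_2 F47259 D12734 F49927
theorem F50124 : act 6 n12734 = n12734 := d12_2 F46091 D12734 (iv D12734)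
theorem F50125 : act 7 n12734 = n12217 := d13_2 F48485 D12734 (iv F48481)
theorem F50126 : act 8 n12734 = n12734 := d14_2 F46092 D12734 (iv D12734)
theorem F50127 : act 0 n11909 = n12734 := d6_3 F50125 F48188 (iv F46883)
def n12735 : Q := act 7 n11726
theorem D12735 : act 7 n11726 = n12735 := rfl
theorem F50128 : act 5 n12735 = n11727 := d31_1 D12735 (iv D11727) (iv F46094)
theorem F50129 : act 8 n12735 = n11729 := d35_2 D11726 D12735 (iv D11729) (iv D10774) (iv F42405)
def n12736 : Q := act 3 n11727
theorem D12736 : act 3 n11727 = n12736 := rfl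
theorem F50130 : act 7 n12736 = n12736 := d24_2 D11727 D12736 (iv D12736) (iv D11727) F42406
theorem F50131 : act 8 n12736 = n11730 := d25_2 (iv F46096) D12736 (iv D11730)
def n12737 : Q := act 7 n11728
theorem D12737 : act 7 n11728 = n12737 := rfl
theorem F50132 : act 6 n12737 = n11729 := d33_1 D12737 (iv D11729) (iv F46098)
def n12738 : Q := act 3 n11729
theorem D12738 : act 3 n11729 = n12738 := rfl
theorem F50133 : act 5 n12738 = n11730 := d22_2 (iv F46099) D12738 (iv D11730)
theorem F50134 : act 7 n12738 = n11732 := d24_2 D11729 D12738 (iv D11732) (iv D10777) (iv F42410)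
def n12739 : Q := act 2 n11730
theorem D12739 : act 2 n11730 = n12739 := rfl
theorem F50135 : act 7 n12739 = n11733 := d19_2 (iv F46100) D12739 (iv D11733)
def n12740 : Q := act 3 n11731
theorem D12740 : act 3 n11731 = n12740 := rfl
theorem F50136 : act 6 n12740 = n11732 := d23_2 (iv F46103) D12740 (iv D11732)
theorem F50137 : act 8 n12740 = n12740 := d25_2 F46104 D12740 (iv D12740)
def n12741 : Q := act 2 n11732
theorem D12741 : act 2 n11732 = n12741 := rfl
theorem F50138 : act 3 n12741 = n11771 := d15_2 D11732 D12741 (iv D11771) (iv D10808) (iv F42416)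
theorem F50139 : act 5 n12741 = n11733 := d17_2 (iv F46105) D12741 (iv D11733)
theorem F50140 : act 8 n12741 = n12741 := d20_2 F46106 D12741 (iv D12741)
def n12742 : Q := act 4 n11732
theorem D12742 : act 4 n11732 = n12742 := rfl
theorem F50141 : act 3 n12742 = n11736 := d21_1 D12742 (iv D11736) (iv D10780) (iv F42417) D11732
theorem F50142 : act 8 n12742 = n12742 := d29_2 F46106 D12742 (iv D12742)
def n12743 : Q := act 1 n11733
theorem D12743 : act 1 n11733 = n12743 := rfl
theorem F50143 : act 3 n12743 = n11773 := d9_2 (iv F46107) D12743 (iv D11773)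
theorem F50144 : act 8 n12743 = n12743 := d14_2 F46108 D12743 (iv D12743)
def n12744 : Q := act 0 n11737
theorem D12744 : act 0 n11737 = n12744 := rfl
theorem F50145 : act 1 n12744 = n11909 := d0_2 D11737 D12744 F50127 (iv D12734) F46089
theorem F50146 : act 2 n12744 = n11810 := d1_2 F47688 D12744 (iv F47686)
theorem F50147 : act 3 n12744 = n11778 := d2_2 (iv F46116) D12744 (iv D11778)
theorem F50148 : act 4 n12744 = n12093 := d3_2 F46457 D12744 F47686
theorem F50149 : act 5 n12744 = n11813 := d4_2 F46937 D12744 (iv F46933)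
theorem F50150 : act 6 n12744 = n12744 := d5_2 F46117 D12744 (iv D12744)
theorem F50151 : act 7 n12744 = n11808 := d6_2 (iv F46454) D12744 (iv F46447)
theorem F50152 : act 8 n12744 = n12744 := d7_2 F46118 D12744 (iv D12744)
def n12745 : Q := act 5 n11738
theorem D12745 : act 5 n11738 = n12745 := rfl
theorem F50153 : act 0 n12745 = n12745 := d4_1 D12745 (iv D12745) F46119
theorem F50154 : act 2 n12745 = n12623 := d17_1 D12745 F49740 F48902
theorem F50155 : act 3 n12745 = n12745 := d22_1 D12745 (iv D12745) F46120
theorem F50156 : act 4 n12745 = n12622 := d26_1 D12745 F49737 (iv D12420) F44790 D11738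
theorem F50157 : act 7 n12745 = n12429 := d31_2 (iv F46121) D12745 (iv D12429)
def n12746 : Q := act 8 n11738
theorem D12746 : act 8 n11738 = n12746 := rfl
theorem F50158 : act 0 n12746 = n12746 := d7_1 D12746 (iv D12746) F46119
theorem F50159 : act 3 n12746 = n12746 := d25_1 D12746 (iv D12746) F46120
theorem F50160 : act 4 n12746 = n11739 := d29_1 D12746 (iv D11739) D11738
def n12747 : Q := act 7 n11739
theorem D12747 : act 7 n11739 = n12747 := rfl
theorem F50161 : act 0 n12747 = n12747 := d6_1 D12747 (iv D12747) F46122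
theorem F50162 : act 8 n12747 = n12431 := d35_2 D11739 D12747 (iv D12431) (iv D11402) (iv F42431)
def n12748 : Q := act 4 n11740
theorem D12748 : act 4 n11740 = n12748 := rfl
theorem F50163 : act 0 n12748 = n12748 := d3_1 D12748 (iv D12748) F46124
theorem F50164 : act 3 n12748 = n11750 := d21_1 D12748 (iv D11750) F42462 (iv F42439) (iv F46125)
theorem F50165 : act 5 n12748 = n12461 := d26_2 D11740 D12748 (iv D12461) (iv D11426) (iv F42436)
def n12749 : Q := act 6 n11740
theorem D12749 : act 6 n11740 = n12749 := rfl
theorem F50166 : act 0 n12749 = n12749 := d5_1 D12749 (iv D12749) F46124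
theorem F50167 : act 3 n12749 = n11743 := d23_1 D12749 (iv D11743) (iv F46125)
def n12750 : Q := act 7 n11740
theorem D12750 : act 7 n11740 = n12750 := rfl
theorem F50168 : act 0 n12750 = n12750 := d6_1 D12750 (iv D12750) F46124
theorem F50169 : act 3 n12750 = n12750 := d24_1 D12750 (iv D12750) F46125 F42440 (iv F46125)
theorem F50170 : act 5 n12750 = n11741 := d31_1 D12750 (iv D11741) D11740
def n12751 : Q := act 8 n11740
theorem D12751 : act 8 n11740 = n12751 := rfl
theorem F50171 : act 0 n12751 = n12751 := d7_1 D12751 (iv D12751) F46124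
theorem F50172 : act 3 n12751 = n11744 := d25_1 D12751 (iv D11744) (iv F46125)
theorem F50173 : act 5 n12751 = n11742 := d32_1 D12751 (iv D11742) D11740
def n12752 : Q := act 8 n11741
theorem D12752 : act 8 n11741 = n12752 := rfl
theorem F50174 : act 0 n12752 = n12752 := d7_1 D12752 (iv D12752) F46126
theorem F50175 : act 3 n12752 = n12752 := d25_1 D12752 (iv D12752) F46127
theorem F50176 : act 4 n12752 = n12465 := d29_1 D12752 (iv D12465) (iv F46128)
def n12753 : Q := act 7 n11742
theorem D12753 : act 7 n11742 = n12753 := rfl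
theorem F50177 : act 0 n12753 = n12753 := d6_1 D12753 (iv D12753) F46129
theorem F50178 : act 4 n12753 = n12466 := d28_1 D12753 (iv D12466) (iv F46131)
def n12754 : Q := act 8 n11743
theorem D12754 : act 8 n11743 = n12754 := rfl
theorem F50179 : act 0 n12754 = n12754 := d7_1 D12754 (iv D12754) F46132
theorem F50180 : act 2 n12754 = n11747 := d20_1 D12754 (iv D11747) (iv F46133)
theorem F50181 : act 4 n12754 = n11756 := d29_1 D12754 (iv D11756) (iv F46134)
theorem F50182 : act 6 n12754 = n11744 := d34_1 D12754 (iv D11744) D11743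
def n12755 : Q := act 7 n11744
theorem D12755 : act 7 n11744 = n12755 := rfl
theorem F50183 : act 0 n12755 = n12755 := d6_1 D12755 (iv D12755) F46136
theorem F50184 : act 2 n12755 = n11748 := d19_1 D12755 (iv D11748) (iv F46137)
theorem F50185 : act 4 n12755 = n11757 := d28_1 D12755 (iv D11757) (iv F46138)
theorem F50186 : act 5 n12755 = n11745 := d31_1 D12755 (iv D11745) (iv F46139)
theorem F50187 : act 8 n12755 = n12755 := d35_2 D11744 D12755 (iv D12755) (iv D11744) F42440
def n12756 : Q := act 3 n11745
theorem D12756 : act 3 n11745 = n12756 := rfl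
theorem F50188 : act 0 n12756 = n12756 := d2_1 D12756 (iv D12756) F46140
theorem F50189 : act 8 n12756 = n12756 := d25_2 F46143 D12756 (iv D12756)
def n12757 : Q := act 4 n11746
theorem D12757 : act 4 n11746 = n12757 := rfl
theorem F50190 : act 0 n12757 = n12757 := d3_1 D12757 (iv D12757) F46144
theorem F50191 : act 2 n12757 = n12757 := d16_1 D12757 (iv D12757) F46145
theorem F50192 : act 7 n12757 = n12470 := d28_2 (iv F46147) D12757 (iv D12470)
theorem F50193 : act 8 n12757 = n12757 := d29_2 F46148 D12757 (iv D12757)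
def n12758 : Q := act 7 n11747
theorem D12758 : act 7 n11747 = n12758 := rfl
theorem F50194 : act 0 n12758 = n12758 := d6_1 D12758 (iv D12758) F46149
theorem F50195 : act 1 n12758 = n11763 := d13_1 D12758 (iv D11763) (iv F46150)
theorem F50196 : act 4 n12758 = n11760 := d28_1 D12758 (iv D11760) (iv F46151)
theorem F50197 : act 6 n12758 = n11748 := d33_1 D12758 (iv D11748) (iv F46152)
theorem F50198 : act 8 n12758 = n12758 := d35_2 D11747 D12758 (iv D12758) (iv D11747) F42451
def n12759 : Q := act 3 n11748
theorem D12759 : act 3 n11748 = n12759 := rfl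
theorem F50199 : act 0 n12759 = n12759 := d2_1 D12759 (iv D12759) F46153
theorem F50200 : act 1 n12759 = n11764 := d9_1 D12759 (iv D11764) (iv F46154)
theorem F50201 : act 5 n12759 = n11749 := d22_2 (iv F46156) D12759 (iv D11749)
theorem F50202 : act 8 n12759 = n12759 := d25_2 F46157 D12759 (iv D12759)
def n12760 : Q := act 2 n11749
theorem D12760 : act 2 n11749 = n12760 := rfl
theorem F50203 : act 0 n12760 = n12760 := d1_1 D12760 (iv D12760) F46158
theorem F50204 : act 4 n12760 = n12760 := d16_2 F46160 D12760 (iv D12760)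
theorem F50205 : act 8 n12760 = n12760 := d20_2 F46161 D12760 (iv D12760)
def n12761 : Q := act 8 n11750
theorem D12761 : act 8 n11750 = n12761 := rfl
theorem F50206 : act 0 n12761 = n12761 := d7_1 D12761 (iv D12761) F46162
theorem F50207 : act 2 n12761 = n12761 := d20_1 D12761 (iv D12761) F46163
theorem F50208 : act 4 n12761 = n11753 := d29_1 D12761 (iv D11753) D11750
theorem F50209 : act 5 n12761 = n12474 := d32_1 D12761 (iv D12474) (iv F46164)
def n12762 : Q := act 8 n11751
theorem D12762 : act 8 n11751 = n12762 := rfl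
theorem F50210 : act 0 n12762 = n12762 := d7_1 D12762 (iv D12762) F46165
theorem F50211 : act 2 n12762 = n12762 := d20_1 D12762 (iv D12762) F46166
theorem F50212 : act 3 n12762 = n11756 := d25_1 D12762 (iv D11756) (iv F46167)
theorem F50213 : act 5 n12762 = n12762 := d32_1 D12762 (iv D12762) F46168
theorem F50214 : act 6 n12762 = n11753 := d34_1 D12762 (iv D11753) D11751
def n12763 : Q := act 8 n11752
theorem D12763 : act 8 n11752 = n12763 := rfl
theorem F50215 : act 0 n12763 = n12763 := d7_1 D12763 (iv D12763) F46169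
theorem F50216 : act 2 n12763 = n12763 := d20_1 D12763 (iv D12763) F46170
theorem F50217 : act 3 n12763 = n12763 := d25_1 D12763 (iv D12763) F46171
theorem F50218 : act 5 n12763 = n11754 := d32_1 D12763 (iv D11754) (iv F46172)
def n12764 : Q := act 7 n11753
theorem D12764 : act 7 n11753 = n12764 := rfl
theorem F50219 : act 0 n12764 = n12764 := d6_1 D12764 (iv D12764) F46173
theorem F50220 : act 2 n12764 = n12764 := d19_1 D12764 (iv D12764) F46174
theorem F50221 : act 5 n12764 = n11755 := d31_1 D12764 (iv D11755) (iv F46176)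
def n12765 : Q := act 7 n11754
theorem D12765 : act 7 n11754 = n12765 := rfl
theorem F50222 : act 0 n12765 = n12765 := d6_1 D12765 (iv D12765) F46177
theorem F50223 : act 1 n12765 = n11835 := d13_1 D12765 F50043 F50038
theorem F50224 : act 2 n12765 = n12765 := d19_1 D12765 (iv D12765) F46178
theorem F50225 : act 4 n12765 = n12478 := d28_1 D12765 (iv D12478) (iv F46180)
theorem F50226 : act 6 n12765 = n12765 := d33_1 D12765 (iv D12765) F46181
theorem F50227 : act 8 n12765 = n11755 := d35_2 D11754 D12765 (iv D11755) (iv D10793) D10792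
theorem F50228 : act 3 n11782 = n12765 := d21_5 F50225 F49124 (iv D12079) F43642 D11782
def n12766 : Q := act 3 n11755
theorem D12766 : act 3 n11755 = n12766 := rfl
theorem F50229 : act 0 n12766 = n12766 := d2_1 D12766 (iv D12766) F46182
theorem F50230 : act 1 n12766 = n11837 := d9_1 D12766 F50050 F50045
theorem F50231 : act 4 n12766 = n11783 := d21_2 (iv F46184) D12766 (iv F47610) F49133 (iv D12479)
theorem F50232 : act 6 n12766 = n12766 := d23_2 F46185 D12766 (iv D12766)
theorem F50233 : act 7 n12766 = n11758 := d24_2 D11755 D12766 (iv D11758) (iv D10796) (iv F42470)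
theorem F50234 : act 8 n12766 = n11782 := d25_2 F50227 D12766 F50228
theorem F50235 : act 2 n11785 = n12766 := d20_3 F50234 F46295 D11785
def n12767 : Q := act 7 n11756
theorem D12767 : act 7 n11756 = n12767 := rfl
theorem F50236 : act 0 n12767 = n12767 := d6_1 D12767 (iv D12767) F46186
theorem F50237 : act 2 n12767 = n11760 := d19_1 D12767 (iv D11760) (iv F46187)
theorem F50238 : act 5 n12767 = n12767 := d31_1 D12767 (iv D12767) F46188
theorem F50239 : act 6 n12767 = n11757 := d33_1 D12767 (iv D11757) (iv F46189)
theorem F50240 : act 8 n12767 = n12767 := d35_2 D11756 D12767 (iv D12767) (iv D11756) F42476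
def n12768 : Q := act 3 n11757
theorem D12768 : act 3 n11757 = n12768 := rfl
theorem F50241 : act 0 n12768 = n12768 := d2_1 D12768 (iv D12768) F46190
theorem F50242 : act 5 n12768 = n11758 := d22_2 (iv F46192) D12768 (iv D11758)
theorem F50243 : act 8 n12768 = n12768 := d25_2 F46193 D12768 (iv D12768)
def n12769 : Q := act 2 n11758
theorem D12769 : act 2 n11758 = n12769 := rfl
theorem F50244 : act 0 n12769 = n12769 := d1_1 D12769 (iv D12769) F46194
theorem F50245 : act 1 n12769 = n11793 := d8_1 D12769 F46349 (iv F46587) F50064 F50060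
theorem F50246 : act 3 n12769 = n11762 := d15_2 D11758 D12769 (iv D11762) (iv D10800) (iv F42481)
theorem F50247 : act 6 n12769 = n12769 := d18_2 F46195 D12769 (iv D12769)
theorem F50248 : act 7 n12769 = n11785 := d19_2 F50233 D12769 F50235
theorem F50249 : act 8 n12769 = n12769 := d20_2 F46196 D12769 (iv D12769)
theorem F50250 : act 4 n11786 = n12769 := d28_3 F50248 F46309 D11786
def n12770 : Q := act 4 n11758
theorem D12770 : act 4 n11758 = n12770 := rfl
theorem F50251 : act 0 n12770 = n12770 := d3_1 D12770 (iv D12770) F46194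
theorem F50252 : act 1 n12770 = n11838 := d10_1 D12770 F50065 F50060
theorem F50253 : act 2 n12770 = n11786 := d16_1 D12770 F50250 (iv D12769)
theorem F50254 : act 3 n12770 = n11759 := d21_1 D12770 (iv D11759) (iv D10797) (iv F42482) D11758
theorem F50255 : act 6 n12770 = n12770 := d27_2 F46195 D12770 (iv D12770)
theorem F50256 : act 7 n12770 = n11783 := d28_2 F50233 D12770 (iv F50231)
theorem F50257 : act 8 n12770 = n12770 := d29_2 F46196 D12770 (iv D12770)
def n12771 : Q := act 3 n11760
theorem D12771 : act 3 n11760 = n12771 := rfl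
theorem F50258 : act 0 n12771 = n12771 := d2_1 D12771 (iv D12771) F46202
theorem F50259 : act 1 n12771 = n11766 := d9_1 D12771 (iv D11766) (iv F46203)
theorem F50260 : act 5 n12771 = n12771 := d22_2 F46204 D12771 (iv D12771)
theorem F50261 : act 6 n12771 = n11761 := d23_2 (iv F46205) D12771 (iv D11761)
theorem F50262 : act 7 n12771 = n12771 := d24_2 D11760 D12771 (iv D12771) (iv D11760) F42492
theorem F50263 : act 8 n12771 = n12771 := d25_2 F46206 D12771 (iv D12771)
def n12772 : Q := act 2 n11761
theorem D12772 : act 2 n11761 = n12772 := rfl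
theorem F50264 : act 0 n12772 = n12772 := d1_1 D12772 (iv D12772) F46207
theorem F50265 : act 5 n12772 = n11762 := d17_2 (iv F46209) D12772 (iv D11762)
theorem F50266 : act 7 n12772 = n12772 := d19_2 F46210 D12772 (iv D12772)
theorem F50267 : act 8 n12772 = n12772 := d20_2 F46211 D12772 (iv D12772)
def n12773 : Q := act 4 n11761
theorem D12773 : act 4 n11761 = n12773 := rfl
theorem F50268 : act 0 n12773 = n12773 := d3_1 D12773 (iv D12773) F46207
theorem F50269 : act 1 n12773 = n11768 := d10_1 D12773 (iv D11768) (iv F46208)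
theorem F50270 : act 5 n12773 = n12773 := d26_2 (iv F46209) D12773 (iv D12773) F46209 F42501
theorem F50271 : act 7 n12773 = n12773 := d28_2 F46210 D12773 (iv D12773)
theorem F50272 : act 8 n12773 = n12773 := d29_2 F46211 D12773 (iv D12773)
def n12774 : Q := act 1 n11762
theorem D12774 : act 1 n11762 = n12774 := rfl
theorem F50273 : act 2 n12774 = n11769 := d8_2 D11762 D12774 (iv D11769) (iv D10806) (iv F42500)
theorem F50274 : act 3 n12774 = n11793 := d9_2 F50246 D12774 (iv F50245)
theorem F50275 : act 4 n12774 = n12774 := d10_2 F46213 D12774 (iv D12774)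
theorem F50276 : act 6 n12774 = n12774 := d12_2 F46214 D12774 (iv D12774)
theorem F50277 : act 7 n12774 = n12774 := d13_2 F46215 D12774 (iv D12774)
theorem F50278 : act 8 n12774 = n12774 := d14_2 F46216 D12774 (iv D12774)
theorem F50279 : act 0 n11803 = n12774 := d2_3 F50274 F46348 D11803
def n12775 : Q := act 3 n11763
theorem D12775 : act 3 n11763 = n12775 := rfl
theorem F50280 : act 0 n12775 = n11770 := d2_1 D12775 (iv D11770) (iv F46217)
theorem F50281 : act 6 n12775 = n11764 := d23_2 (iv F46219) D12775 (iv D11764)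
theorem F50282 : act 8 n12775 = n12775 := d25_2 F46220 D12775 (iv D12775)
def n12776 : Q := act 2 n11764
theorem D12776 : act 2 n11764 = n12776 := rfl
theorem F50283 : act 0 n12776 = n11771 := d1_1 D12776 (iv D11771) (iv F46221)
theorem F50284 : act 5 n12776 = n11765 := d17_2 (iv F46222) D12776 (iv D11765)
theorem F50285 : act 8 n12776 = n12776 := d20_2 F46223 D12776 (iv D12776)
def n12777 : Q := act 4 n11764
theorem D12777 : act 4 n11764 = n12777 := rfl
theorem F50286 : act 0 n12777 = n11772 := d3_1 D12777 (iv D11772) (iv F46221)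
theorem F50287 : act 3 n12777 = n11768 := d21_1 D12777 (iv D11768) (iv D10805) (iv F42509) D11764
theorem F50288 : act 5 n12777 = n12777 := d26_2 (iv F46222) D12777 (iv D12777) F46222 F42513
theorem F50289 : act 8 n12777 = n12777 := d29_2 F46223 D12777 (iv D12777)
def n12778 : Q := act 1 n11765
theorem D12778 : act 1 n11765 = n12778 := rfl
theorem F50290 : act 4 n12778 = n12778 := d10_2 F46225 D12778 (iv D12778)
theorem F50291 : act 8 n12778 = n12778 := d14_2 F46226 D12778 (iv D12778)
def n12779 : Q := act 2 n11766
theorem D12779 : act 2 n11766 = n12779 := rfl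
theorem F50292 : act 0 n12779 = n11774 := d1_1 D12779 (iv D11774) (iv F46227)
theorem F50293 : act 5 n12779 = n12779 := d17_2 F46228 D12779 (iv D12779)
theorem F50294 : act 6 n12779 = n11767 := d18_2 (iv F46229) D12779 (iv D11767)
theorem F50295 : act 7 n12779 = n12779 := d19_2 F46230 D12779 (iv D12779)
theorem F50296 : act 8 n12779 = n12779 := d20_2 F46231 D12779 (iv D12779)
def n12780 : Q := act 4 n11766
theorem D12780 : act 4 n11766 = n12780 := rfl
theorem F50297 : act 0 n12780 = n11775 := d3_1 D12780 (iv D11775) (iv F46227)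
theorem F50298 : act 6 n12780 = n11768 := d27_2 (iv F46229) D12780 (iv D11768)
theorem F50299 : act 7 n12780 = n12780 := d28_2 F46230 D12780 (iv D12780)
theorem F50300 : act 8 n12780 = n12780 := d29_2 F46231 D12780 (iv D12780)
theorem F50301 : act 5 n12774 = n12780 := d4_0 F50297 (iv F46412) F50279
theorem F50302 : act 1 n12780 = n12772 := d11_1 F50301 F50265 D12774
theorem F50303 : act 4 n12772 = n12771 := d10_2 D12780 F50302 F50259
theorem F50304 : act 6 n12772 = n12773 := d12_2 (iv F50298) F50302 F50269
theorem F50305 : act 2 n12773 = n12771 := d18_1 F50304 F50261 D12772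
def n12781 : Q := act 1 n11767
theorem D12781 : act 1 n11767 = n12781 := rfl
theorem F50306 : act 2 n12781 = n12780 := d8_2 D11767 D12781 F50302 (iv D12772) F46208
theorem F50307 : act 5 n12781 = n11769 := d11_2 (iv F46233) D12781 (iv D11769)
theorem F50308 : act 7 n12781 = n12781 := d13_2 F46234 D12781 (iv D12781)
theorem F50309 : act 8 n12781 = n12781 := d14_2 F46235 D12781 (iv D12781)
theorem F50310 : act 4 n12779 = n12781 := d16_0 F50306 (iv D12780) D12779
def n12782 : Q := act 4 n11767
theorem D12782 : act 4 n11767 = n12782 := rfl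
theorem F50311 : act 0 n12782 = n11777 := d3_1 D12782 (iv D11777) (iv F46232)
theorem F50312 : act 1 n12782 = n12779 := d10_1 D12782 F50310 (iv D12781)
theorem F50313 : act 2 n12782 = n11768 := d16_1 D12782 (iv D11768) D11767
theorem F50314 : act 5 n12782 = n12782 := d26_2 (iv F46233) D12782 (iv D12782) F46233 F42524
theorem F50315 : act 6 n12782 = n12781 := d27_2 F50294 D12782 (iv F50310)
theorem F50316 : act 7 n12782 = n12782 := d28_2 F46234 D12782 (iv D12782)
theorem F50317 : act 8 n12782 = n12782 := d29_2 F46235 D12782 (iv D12782)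
def n12783 : Q := act 0 n11769
theorem D12783 : act 0 n11769 = n12783 := rfl
theorem F50318 : act 1 n12783 = n11778 := d0_2 D11769 D12783 (iv D11778) (iv D10813) (iv F42523)
theorem F50319 : act 2 n12783 = n11803 := d1_2 F50273 D12783 F50279
theorem F50320 : act 3 n12783 = n11909 := d2_2 F50122 D12783 F50127
theorem F50321 : act 4 n12783 = n12783 := d3_2 F46240 D12783 (iv D12783)
theorem F50322 : act 6 n12783 = n12783 := d5_2 F46241 D12783 (iv D12783)
theorem F50323 : act 7 n12783 = n12783 := d6_2 F46242 D12783 (iv D12783)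
theorem F50324 : act 8 n12783 = n12783 := d7_2 F46243 D12783 (iv D12783)
def n12784 : Q := act 0 n11773
theorem D12784 : act 0 n11773 = n12784 := rfl
theorem F50325 : act 2 n12784 = n12784 := d1_2 F46253 D12784 (iv D12784)
theorem F50326 : act 4 n12784 = n12784 := d3_2 F46254 D12784 (iv D12784)
theorem F50327 : act 8 n12784 = n12784 := d7_2 F46255 D12784 (iv D12784)
def n12785 : Q := act 4 n11774
theorem D12785 : act 4 n11774 = n12785 := rfl
theorem F50328 : act 0 n12785 = n12781 := d3_1 D12785 (iv F50310) F50292
theorem F50329 : act 2 n12785 = n11775 := d16_1 D12785 (iv D11775) D11774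
theorem F50330 : act 6 n12785 = n11777 := d27_2 (iv F46257) D12785 (iv D11777)
theorem F50331 : act 7 n12785 = n12785 := d28_2 F46258 D12785 (iv D12785)
theorem F50332 : act 8 n12785 = n12785 := d29_2 F46259 D12785 (iv D12785)
theorem F50333 : act 5 n12783 = n12785 := d36_3 (iv F44271) (iv F46883) (iv F50320) (iv D12785) F47704 F47698 F43744 F40279 F40282 (iv D10192) F32111 F23737 F23736 F17619 (iv F17684) (iv F23813) (iv F32231) (iv D8450) F23811 (iv D4848) F14006 F10441 D3545 F14007 F10592 (iv D2635) D2636 F10597 (iv F10692) (iv F14353) (iv F19345) (iv F38920) F25687 F19336 F14568 D5051 D6910 D9469 (iv F42142) (iv F42670) F42669 F42667 F42668 F39647 D10298 D11229 (iv F46431) F46433 F46432 (iv F46824) F46822 F42959 F39626 (iv D8237) (iv D6015) D6013 F23227 F17746 (iv D3567) F10501 F7972 F5978 (iv F6033) D1967 (iv F38818) F10398 F10397 F38818 F8059 F6047 (iv F38863) F7797 F7796 (iv F7828) F7829 F38845 F5950 (iv F7923) (iv F10590) D3599 (iv F38670) D6686 (iv F38795) F19347 (iv F19355) D6826 (iv F34840) D10572 F41717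
def n12786 : Q := act 0 n11776
theorem D12786 : act 0 n11776 = n12786 := rfl
theorem F50334 : act 1 n12786 = n12785 := d0_2 D11776 D12786 F50328 (iv D12781) F46232
theorem F50335 : act 2 n12786 = n12786 := d1_2 F46264 D12786 (iv D12786)
theorem F50336 : act 3 n12786 = n11813 := d2_2 (iv F46940) D12786 (iv F46933)
theorem F50337 : act 4 n12786 = n12096 := d3_2 (iv F46907) D12786 F47705
theorem F50338 : act 5 n12786 = n11778 := d4_2 (iv F46265) D12786 (iv D11778)
theorem F50339 : act 6 n12786 = n11816 := d5_2 F47709 D12786 (iv F47705)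
theorem F50340 : act 7 n12786 = n12786 := d6_2 F46266 D12786 (iv D12786)
theorem F50341 : act 8 n12786 = n12786 := d7_2 F46267 D12786 (iv D12786)
def n12787 : Q := act 5 n11780
theorem D12787 : act 5 n11780 = n12787 := rfl
theorem F50342 : act 0 n12787 = n12787 := d4_1 D12787 (iv D12787) F46284
theorem F50343 : act 1 n12787 = n11788 := d11_1 D12787 (iv D11788) (iv F46285)
theorem F50344 : act 3 n12787 = n12611 := d22_1 D12787 F49692 (iv F46286)
theorem F50345 : act 4 n12787 = n11784 := d26_1 D12787 (iv D11784) (iv D10818) (iv F42562) D11780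
theorem F50346 : act 6 n12787 = n12612 := d30_2 (iv F46287) D12787 F49696 F45705 (iv F45753)
theorem F50347 : act 7 n12787 = n12787 := d31_2 F46288 D12787 (iv D12787)
def n12788 : Q := act 8 n11780
theorem D12788 : act 8 n11780 = n12788 := rfl
theorem F50348 : act 0 n12788 = n12788 := d7_1 D12788 (iv D12788) F46284
theorem F50349 : act 1 n12788 = n11789 := d14_1 D12788 (iv D11789) (iv F46285)
theorem F50350 : act 3 n12788 = n12471 := d25_1 D12788 F49098 (iv F46286)
theorem F50351 : act 4 n12788 = n11781 := d29_1 D12788 (iv D11781) D11780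
theorem F50352 : act 6 n12788 = n12472 := d34_1 D12788 F49102 (iv F46287)
def n12789 : Q := act 7 n11781
theorem D12789 : act 7 n11781 = n12789 := rfl
theorem F50353 : act 0 n12789 = n12789 := d6_1 D12789 (iv D12789) F46289
theorem F50354 : act 1 n12789 = n11790 := d13_1 D12789 (iv D11790) (iv F46290)
theorem F50355 : act 3 n12789 = n12789 := d24_1 D12789 (iv D12789) F46291 F42567 (iv F46291)
theorem F50356 : act 5 n12789 = n11786 := d31_1 D12789 (iv D11786) (iv F46292)
theorem F50357 : act 8 n12789 = n12789 := d35_2 D11781 D12789 (iv D12789) (iv D11781) F42563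
def n12790 : Q := act 5 n11782
theorem D12790 : act 5 n11782 = n12790 := rfl
theorem F50358 : act 0 n12790 = n12790 := d4_1 D12790 (iv D12790) F46293
theorem F50359 : act 1 n12790 = n11836 := d11_1 D12790 (iv D11836) (iv F46294)
theorem F50360 : act 2 n12790 = n11784 := d17_1 D12790 (iv D11784) (iv F46295)
theorem F50361 : act 7 n12790 = n12790 := d31_2 F46297 D12790 (iv D12790)
def n12791 : Q := act 6 n11784
theorem D12791 : act 6 n11784 = n12791 := rfl
theorem F50362 : act 0 n12791 = n12791 := d5_1 D12791 (iv D12791) F46302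
theorem F50363 : act 1 n12791 = n11791 := d12_1 D12791 (iv D11791) (iv F46303)
theorem F50364 : act 3 n12791 = n12791 := d23_1 D12791 (iv D12791) F46304
theorem F50365 : act 4 n12791 = n12612 := d27_1 D12791 (iv F50346) F50345
theorem F50366 : act 5 n12791 = n12791 := d30_1 D12791 (iv D12791) (iv D11784) F42575 D11784
theorem F50367 : act 7 n12791 = n12791 := d33_2 F46305 D12791 (iv D12791)
def n12792 : Q := act 8 n11784
theorem D12792 : act 8 n11784 = n12792 := rfl
theorem F50368 : act 0 n12792 = n12792 := d7_1 D12792 (iv D12792) F46302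
theorem F50369 : act 1 n12792 = n11792 := d14_1 D12792 (iv D11792) (iv F46303)
theorem F50370 : act 3 n12792 = n12792 := d25_1 D12792 (iv D12792) F46304
theorem F50371 : act 5 n12792 = n11785 := d32_1 D12792 (iv D11785) D11784
def n12793 : Q := act 7 n11787
theorem D12793 : act 7 n11787 = n12793 := rfl
theorem F50372 : act 0 n12793 = n11798 := d6_1 D12793 (iv D11798) (iv F46316)
theorem F50373 : act 2 n12793 = n11860 := d19_1 D12793 (iv D11860) (iv F46317)
theorem F50374 : act 3 n12793 = n12793 := d24_1 D12793 (iv D12793) F46318 F42599 (iv F46318)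
theorem F50375 : act 4 n12793 = n12492 := d28_1 D12793 F49188 (iv F46319)
theorem F50376 : act 5 n12793 = n12793 := d31_1 D12793 (iv D12793) F46320
theorem F50377 : act 6 n12793 = n11790 := d33_1 D12793 (iv D11790) (iv F46321)
theorem F50378 : act 8 n12793 = n12793 := d35_2 D11787 D12793 (iv D12793) (iv D11787) F42593
def n12794 : Q := act 8 n11788
theorem D12794 : act 8 n11788 = n12794 := rfl
theorem F50379 : act 0 n12794 = n11799 := d7_1 D12794 (iv D11799) (iv F46322)
theorem F50380 : act 2 n12794 = n11862 := d20_1 D12794 (iv D11862) (iv F46323)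
theorem F50381 : act 3 n12794 = n12494 := d25_1 D12794 F49199 (iv F46324)
theorem F50382 : act 4 n12794 = n11792 := d29_1 D12794 (iv D11792) (iv F46325)
theorem F50383 : act 5 n12794 = n11789 := d32_1 D12794 (iv D11789) D11788
theorem F50384 : act 6 n12794 = n12495 := d34_1 D12794 F49203 (iv F46326)
theorem F50385 : act 7 n12775 = n12794 := d33_0 F50384 F49202 (iv F50281)
def n12795 : Q := act 7 n11789
theorem D12795 : act 7 n11789 = n12795 := rfl
theorem F50386 : act 0 n12795 = n11800 := d6_1 D12795 (iv D11800) (iv F46328)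
theorem F50387 : act 2 n12795 = n11863 := d19_1 D12795 (iv D11863) (iv F46329)
theorem F50388 : act 3 n12795 = n12491 := d24_1 D12795 (iv D12491) F45060 D11463 (iv F46330)
theorem F50389 : act 4 n12795 = n11790 := d28_1 D12795 (iv D11790) (iv F46331)
theorem F50390 : act 5 n12795 = n12775 := d31_1 D12795 F50385 F50383
theorem F50391 : act 6 n12795 = n12492 := d33_1 D12795 F49188 (iv F46332)
theorem F50392 : act 8 n12795 = n12795 := d35_2 D11789 D12795 (iv D12795) (iv D11789) F42604
def n12796 : Q := act 8 n11791
theorem D12796 : act 8 n11791 = n12796 := rfl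
theorem F50393 : act 0 n12796 = n11801 := d7_1 D12796 (iv D11801) (iv F46338)
theorem F50394 : act 2 n12796 = n11864 := d20_1 D12796 (iv D11864) (iv F46339)
theorem F50395 : act 3 n12796 = n12796 := d25_1 D12796 (iv D12796) F46340
theorem F50396 : act 4 n12796 = n12495 := d29_1 D12796 F49203 (iv F46341)
theorem F50397 : act 5 n12796 = n12796 := d32_1 D12796 (iv D12796) F46342
theorem F50398 : act 6 n12796 = n11792 := d34_1 D12796 (iv D11792) D11791
theorem F50399 : act 7 n12777 = n12796 := d28_0 F50396 F49202 D12777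
def n12797 : Q := act 7 n11792
theorem D12797 : act 7 n11792 = n12797 := rfl
theorem F50400 : act 0 n12797 = n11802 := d6_1 D12797 (iv D11802) (iv F46344)
theorem F50401 : act 2 n12797 = n11865 := d19_1 D12797 (iv D11865) (iv F46345)
theorem F50402 : act 4 n12797 = n12775 := d28_1 D12797 F50385 F50382
theorem F50403 : act 5 n12797 = n11793 := d31_1 D12797 (iv D11793) (iv F46347)
theorem F50404 : act 6 n12797 = n12777 := d33_1 D12797 F50399 F50398
theorem F50405 : act 8 n12797 = n12797 := d35_2 D11792 D12797 (iv D12797) (iv D11792) F42612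
theorem F50406 : act 3 n12780 = n12797 := d23_3 F50404 F50287 (iv F50298)
def n12798 : Q := act 7 n11794
theorem D12798 : act 7 n11794 = n12798 := rfl
theorem F50407 : act 0 n12798 = n11804 := d6_1 D12798 (iv D11804) (iv F46353)
theorem F50408 : act 2 n12798 = n12003 := d19_1 D12798 F47255 (iv F46354)
theorem F50409 : act 3 n12798 = n12798 := d24_1 D12798 (iv D12798) F46355 F42634 (iv F46355)
theorem F50410 : act 4 n12798 = n11872 := d28_1 D12798 (iv D11872) (iv F46356)
theorem F50411 : act 5 n12798 = n12004 := d31_1 D12798 F47261 (iv F46357)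
theorem F50412 : act 6 n12798 = n11797 := d33_1 D12798 (iv D11797) (iv F46358)
theorem F50413 : act 8 n12798 = n12798 := d35_2 D11794 D12798 (iv D12798) (iv D11794) F42628
def n12799 : Q := act 0 n11795
theorem D12799 : act 0 n11795 = n12799 := rfl
theorem F50414 : act 1 n12799 = n11805 := d0_2 D11795 D12799 (iv D11805) (iv D10840) (iv F42635)
theorem F50415 : act 3 n12799 = n12535 := d2_2 (iv F46359) D12799 F49385
theorem F50416 : act 4 n12799 = n11873 := d3_2 (iv F46360) D12799 (iv D11873)
theorem F50417 : act 5 n12799 = n12799 := d4_2 F46361 D12799 (iv D12799)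
theorem F50418 : act 6 n12799 = n12536 := d5_2 (iv F46362) D12799 F49389
theorem F50419 : act 7 n12799 = n12799 := d6_2 F46363 D12799 (iv D12799)
def n12800 : Q := act 8 n11795
theorem D12800 : act 8 n11795 = n12800 := rfl
theorem F50420 : act 1 n12800 = n11796 := d14_1 D12800 (iv D11796) D11795
theorem F50421 : act 3 n12800 = n12361 := d25_1 D12800 F48686 (iv F46359)
theorem F50422 : act 4 n12800 = n11874 := d29_1 D12800 (iv D11874) (iv F46360)
theorem F50423 : act 5 n12800 = n12800 := d32_1 D12800 (iv D12800) F46361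
theorem F50424 : act 6 n12800 = n12362 := d34_1 D12800 F48689 (iv F46362)
def n12801 : Q := act 7 n11796
theorem D12801 : act 7 n11796 = n12801 := rfl
theorem F50425 : act 0 n12801 = n11807 := d6_1 D12801 (iv D11807) (iv F46364)
theorem F50426 : act 2 n12801 = n11797 := d19_1 D12801 (iv D11797) (iv F46365)
theorem F50427 : act 3 n12801 = n12002 := d24_1 D12801 (iv D12002) F43254 D11355 (iv F46366)
theorem F50428 : act 4 n12801 = n11875 := d28_1 D12801 (iv D11875) (iv F46367)
theorem F50429 : act 5 n12801 = n12801 := d31_1 D12801 (iv D12801) F46368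
theorem F50430 : act 6 n12801 = n12003 := d33_1 D12801 F47255 (iv F46369)
theorem F50431 : act 8 n12801 = n12801 := d35_2 D11796 D12801 (iv D12801) (iv D11796) F42640
def n12802 : Q := act 8 n11805
theorem D12802 : act 8 n11805 = n12802 := rfl
theorem F50432 : act 0 n12802 = n11806 := d7_1 D12802 (iv D11806) D11805
theorem F50433 : act 2 n12802 = n11814 := d20_1 D12802 (iv D11814) (iv F46423)
theorem F50434 : act 3 n12802 = n12215 := d25_1 D12802 F48184 (iv F46424)
theorem F50435 : act 4 n12802 = n11916 := d29_1 D12802 (iv D11916) (iv F46425)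
theorem F50436 : act 5 n12802 = n12802 := d32_1 D12802 (iv D12802) F46426
theorem F50437 : act 6 n12802 = n12216 := d34_1 D12802 F48187 (iv F46427)
def n12803 : Q := act 7 n11806
theorem D12803 : act 7 n11806 = n12803 := rfl
theorem F50438 : act 1 n12803 = n11807 := d13_1 D12803 (iv D11807) (iv F46429)
theorem F50439 : act 2 n12803 = n11815 := d19_1 D12803 (iv D11815) (iv F46430)
theorem F50440 : act 3 n12803 = n11907 := d24_1 D12803 (iv D11907) F42993 D11229 (iv F46431)
theorem F50441 : act 4 n12803 = n11917 := d28_1 D12803 (iv D11917) (iv F46432)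
theorem F50442 : act 5 n12803 = n12803 := d31_1 D12803 (iv D12803) F46433
theorem F50443 : act 6 n12803 = n11908 := d33_1 D12803 F46879 (iv F46434)
theorem F50444 : act 8 n12803 = n12803 := d35_2 D11806 D12803 (iv D12803) (iv D11806) F42693
def n12804 : Q := act 8 n11811
theorem D12804 : act 8 n11811 = n12804 := rfl
theorem F50445 : act 0 n12804 = n11812 := d7_1 D12804 (iv D11812) D11811
theorem F50446 : act 2 n12804 = n12216 := d20_1 D12804 F48187 (iv F46461)
theorem F50447 : act 3 n12804 = n12804 := d25_1 D12804 (iv D12804) F46462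
theorem F50448 : act 4 n12804 = n11920 := d29_1 D12804 (iv D11920) (iv F46463)
theorem F50449 : act 5 n12804 = n12217 := d32_1 D12804 F48191 (iv F46464)
theorem F50450 : act 6 n12804 = n11814 := d34_1 D12804 (iv D11814) (iv F46465)
def n12805 : Q := act 7 n11812
theorem D12805 : act 7 n11812 = n12805 := rfl
theorem F50451 : act 1 n12805 = n11813 := d13_1 D12805 (iv D11813) (iv F46467)
theorem F50452 : act 2 n12805 = n11908 := d19_1 D12805 F46879 (iv F46468)
theorem F50453 : act 4 n12805 = n11921 := d28_1 D12805 (iv D11921) (iv F46470)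
theorem F50454 : act 5 n12805 = n11909 := d31_1 D12805 F46883 (iv F46471)
theorem F50455 : act 6 n12805 = n11815 := d33_1 D12805 (iv D11815) (iv F46472)
theorem F50456 : act 8 n12805 = n12805 := d35_2 D11812 D12805 (iv D12805) (iv D11812) F42726
theorem F50457 : act 3 n12785 = n12805 := d23_3 F50455 (iv F46905) (iv F50330)
def n12806 : Q := act 7 n11814
theorem D12806 : act 7 n11814 = n12806 := rfl
theorem F50458 : act 0 n12806 = n11815 := d6_1 D12806 (iv D11815) (iv F46477)
theorem F50459 : act 4 n12806 = n11922 := d28_1 D12806 (iv D11922) (iv F46479)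
theorem F50460 : act 5 n12806 = n12806 := d31_1 D12806 (iv D12806) F46480
theorem F50461 : act 8 n12806 = n12806 := d35_2 D11814 D12806 (iv D12806) (iv D11814) F42738
theorem F50462 : act 3 n12782 = n12806 := d2_0 F50458 (iv F46905) (iv F50311)
def n12807 : Q := act 3 n11817
theorem D12807 : act 3 n11817 = n12807 := rfl
theorem F50463 : act 0 n12807 = n11925 := d2_1 D12807 (iv D11925) (iv F46489)
theorem F50464 : act 1 n12807 = n12807 := d9_1 D12807 (iv D12807) F46490
theorem F50465 : act 5 n12807 = n12143 := d22_2 (iv F46493) D12807 (iv D12143)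
def n12808 : Q := act 8 n11817
theorem D12808 : act 8 n11817 = n12808 := rfl
theorem F50466 : act 0 n12808 = n11926 := d7_1 D12808 (iv D11926) (iv F46489)
theorem F50467 : act 1 n12808 = n12808 := d14_1 D12808 (iv D12808) F46490
theorem F50468 : act 2 n12808 = n11821 := d20_1 D12808 (iv D11821) (iv F46491)
theorem F50469 : act 4 n12808 = n12808 := d29_1 D12808 (iv D12808) F46492
theorem F50470 : act 5 n12808 = n12144 := d32_1 D12808 (iv D12144) (iv F46493)
theorem F50471 : act 7 n12808 = n12630 := d35_1 D12808 (iv D12630) (iv D11638) (iv F42751) D11817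
def n12809 : Q := act 7 n11818
theorem D12809 : act 7 n11818 = n12809 := rfl
theorem F50472 : act 0 n12809 = n11928 := d6_1 D12809 (iv D11928) (iv F46494)
theorem F50473 : act 1 n12809 = n11842 := d13_1 D12809 (iv D11842) (iv F46495)
theorem F50474 : act 4 n12809 = n12549 := d28_1 D12809 (iv D12549) F46499
theorem F50475 : act 5 n12809 = n11819 := d31_1 D12809 (iv D11819) D11818
theorem F50476 : act 6 n12809 = n12145 := d33_1 D12809 (iv D12145) (iv F46497)
def n12810 : Q := act 3 n11819
theorem D12810 : act 3 n11819 = n12810 := rfl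
theorem F50477 : act 0 n12810 = n11929 := d2_1 D12810 (iv D11929) (iv F46500)
theorem F50478 : act 1 n12810 = n11843 := d9_1 D12810 (iv D11843) (iv F46501)
theorem F50479 : act 6 n12810 = n11820 := d23_2 (iv F46503) D12810 (iv D11820)
theorem F50480 : act 7 n12810 = n11823 := d24_2 D11819 D12810 (iv D11823) (iv D10856) (iv F42754)
def n12811 : Q := act 8 n11819
theorem D12811 : act 8 n11819 = n12811 := rfl
theorem F50481 : act 0 n12811 = n11930 := d7_1 D12811 (iv D11930) (iv F46500)
theorem F50482 : act 1 n12811 = n11844 := d14_1 D12811 (iv D11844) (iv F46501)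
theorem F50483 : act 4 n12811 = n12811 := d29_1 D12811 (iv D12811) F46502
theorem F50484 : act 6 n12811 = n11821 := d34_1 D12811 (iv D11821) (iv F46503)
theorem F50485 : act 7 n12811 = n12434 := d35_1 D12811 (iv D12434) F44852 (iv F42756) D11819
def n12812 : Q := act 2 n11820
theorem D12812 : act 2 n11820 = n12812 := rfl
theorem F50486 : act 0 n12812 = n11931 := d1_1 D12812 (iv D11931) (iv F46504)
theorem F50487 : act 5 n12812 = n12148 := d17_2 (iv F46506) D12812 (iv D12148)
theorem F50488 : act 7 n12812 = n11825 := d19_2 (iv F46507) D12812 (iv D11825)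
def n12813 : Q := act 4 n11820
theorem D12813 : act 4 n11820 = n12813 := rfl
theorem F50489 : act 0 n12813 = n11932 := d3_1 D12813 (iv D11932) (iv F46504)
theorem F50490 : act 1 n12813 = n11846 := d10_1 D12813 (iv D11846) (iv F46505)
theorem F50491 : act 3 n12813 = n12813 := d21_1 D12813 (iv D12813) (iv D11820) F42759 D11820
theorem F50492 : act 7 n12813 = n11826 := d28_2 (iv F46507) D12813 (iv D11826)
def n12814 : Q := act 8 n11820
theorem D12814 : act 8 n11820 = n12814 := rfl
theorem F50493 : act 0 n12814 = n11933 := d7_1 D12814 (iv D11933) (iv F46504)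
theorem F50494 : act 1 n12814 = n11847 := d14_1 D12814 (iv D11847) (iv F46505)
theorem F50495 : act 3 n12814 = n11821 := d25_1 D12814 (iv D11821) D11820
theorem F50496 : act 5 n12814 = n12150 := d32_1 D12814 (iv D12150) (iv F46506)
def n12815 : Q := act 3 n11822
theorem D12815 : act 3 n11822 = n12815 := rfl
theorem F50497 : act 0 n12815 = n11934 := d2_1 D12815 (iv D11934) (iv F46513)
theorem F50498 : act 1 n12815 = n11848 := d9_1 D12815 (iv D11848) (iv F46514)
theorem F50499 : act 5 n12815 = n11823 := d22_2 (iv F46516) D12815 (iv D11823)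
theorem F50500 : act 6 n12815 = n12151 := d23_2 (iv F46517) D12815 (iv D12151)
def n12816 : Q := act 8 n11822
theorem D12816 : act 8 n11822 = n12816 := rfl
theorem F50501 : act 0 n12816 = n11935 := d7_1 D12816 (iv D11935) (iv F46513)
theorem F50502 : act 1 n12816 = n11849 := d14_1 D12816 (iv D11849) (iv F46514)
theorem F50503 : act 4 n12816 = n12816 := d29_1 D12816 (iv D12816) F46515
theorem F50504 : act 5 n12816 = n11824 := d32_1 D12816 (iv D11824) (iv F46516)
theorem F50505 : act 6 n12816 = n12152 := d34_1 D12816 (iv D12152) (iv F46517)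
theorem F50506 : act 7 n12816 = n12007 := d35_1 D12816 (iv D12007) F43280 (iv F42765) D11822
def n12817 : Q := act 2 n11823
theorem D12817 : act 2 n11823 = n12817 := rfl
theorem F50507 : act 0 n12817 = n11936 := d1_1 D12817 (iv D11936) (iv F46518)
theorem F50508 : act 6 n12817 = n11825 := d18_2 (iv F46520) D12817 (iv D11825)
def n12818 : Q := act 4 n11823
theorem D12818 : act 4 n11823 = n12818 := rfl
theorem F50509 : act 0 n12818 = n11937 := d3_1 D12818 (iv D11937) (iv F46518)
theorem F50510 : act 1 n12818 = n11851 := d10_1 D12818 (iv D11851) (iv F46519)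
theorem F50511 : act 3 n12818 = n11828 := d21_1 D12818 (iv D11828) (iv D10859) (iv F42768) D11823
theorem F50512 : act 6 n12818 = n11826 := d27_2 (iv F46520) D12818 (iv D11826)
theorem F50513 : act 5 n12590 = n12818 := d22_0 F50511 (iv F46539) (iv F49595)
def n12819 : Q := act 8 n11823
theorem D12819 : act 8 n11823 = n12819 := rfl
theorem F50514 : act 0 n12819 = n11938 := d7_1 D12819 (iv D11938) (iv F46518)
theorem F50515 : act 1 n12819 = n11852 := d14_1 D12819 (iv D11852) (iv F46519)
theorem F50516 : act 3 n12819 = n11824 := d25_1 D12819 (iv D11824) D11823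
theorem F50517 : act 6 n12819 = n11827 := d34_1 D12819 (iv D11827) (iv F46520)
def n12820 : Q := act 1 n11825
theorem D12820 : act 1 n11825 = n12820 := rfl
theorem F50518 : act 2 n12820 = n11853 := d8_2 D11825 D12820 (iv D11853) (iv D10876) (iv F42771)
theorem F50519 : act 5 n12820 = n12156 := d11_2 (iv F46527) D12820 (iv D12156)
def n12821 : Q := act 4 n11825
theorem D12821 : act 4 n11825 = n12821 := rfl
theorem F50520 : act 0 n12821 = n11940 := d3_1 D12821 (iv D11940) (iv F46526)
theorem F50521 : act 2 n12821 = n11826 := d16_1 D12821 (iv D11826) D11825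
def n12822 : Q := act 8 n11825
theorem D12822 : act 8 n11825 = n12822 := rfl
theorem F50522 : act 0 n12822 = n11941 := d7_1 D12822 (iv D11941) (iv F46526)
theorem F50523 : act 2 n12822 = n11827 := d20_1 D12822 (iv D11827) D11825
theorem F50524 : act 5 n12822 = n12158 := d32_1 D12822 (iv D12158) (iv F46527)
def n12823 : Q := act 5 n11826
theorem D12823 : act 5 n11826 = n12823 := rfl
theorem F50525 : act 0 n12823 = n11942 := d4_1 D12823 (iv D11942) (iv F46528)
theorem F50526 : act 1 n12823 = n11856 := d11_1 D12823 (iv D11856) (iv F46529)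
theorem F50527 : act 3 n12823 = n11832 := d22_1 D12823 (iv D11832) (iv F46530)
theorem F50528 : act 4 n12823 = n12159 := d26_1 D12823 (iv D12159) (iv D11150) (iv F42772) D11826
def n12824 : Q := act 8 n11826
theorem D12824 : act 8 n11826 = n12824 := rfl
theorem F50529 : act 0 n12824 = n11943 := d7_1 D12824 (iv D11943) (iv F46528)
theorem F50530 : act 1 n12824 = n11857 := d14_1 D12824 (iv D11857) (iv F46529)
theorem F50531 : act 3 n12824 = n11833 := d25_1 D12824 (iv D11833) (iv F46530)
theorem F50532 : act 4 n12824 = n11827 := d29_1 D12824 (iv D11827) D11826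
def n12825 : Q := act 7 n11827
theorem D12825 : act 7 n11827 = n12825 := rfl
theorem F50533 : act 0 n12825 = n11944 := d6_1 D12825 (iv D11944) (iv F46531)
theorem F50534 : act 1 n12825 = n11858 := d13_1 D12825 (iv D11858) (iv F46532)
theorem F50535 : act 3 n12825 = n12639 := d24_1 D12825 (iv D12639) F45837 (iv F42777) (iv F46533)
theorem F50536 : act 5 n12825 = n12161 := d31_1 D12825 (iv D12161) (iv F46534)
def n12826 : Q := act 8 n11828
theorem D12826 : act 8 n11828 = n12826 := rfl
theorem F50537 : act 0 n12826 = n11948 := d7_1 D12826 (iv D11948) (iv F46535)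
theorem F50538 : act 1 n12826 = n11859 := d14_1 D12826 (iv D11859) (iv F46536)
theorem F50539 : act 4 n12826 = n11829 := d29_1 D12826 (iv D11829) D11828
theorem F50540 : act 5 n12826 = n12497 := d32_1 D12826 F49210 F46539
theorem F50541 : act 6 n12826 = n11833 := d34_1 D12826 (iv D11833) (iv F46537)
def n12827 : Q := act 7 n11829
theorem D12827 : act 7 n11829 = n12827 := rfl
theorem F50542 : act 0 n12827 = n11949 := d6_1 D12827 (iv D11949) (iv F46540)
theorem F50543 : act 1 n12827 = n11860 := d13_1 D12827 (iv D11860) (iv F46541)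
theorem F50544 : act 3 n12827 = n12484 := d24_1 D12827 (iv D12484) F45032 (iv F42787) (iv F46542)
theorem F50545 : act 5 n12827 = n12827 := d31_1 D12827 (iv D12827) F46543
theorem F50546 : act 6 n12827 = n11834 := d33_1 D12827 (iv D11834) (iv F46544)
theorem F50547 : act 8 n12827 = n12827 := d35_2 D11829 D12827 (iv D12827) (iv D11829) F42782
def n12828 : Q := act 3 n11830
theorem D12828 : act 3 n11830 = n12828 := rfl
theorem F50548 : act 0 n12828 = n11950 := d2_1 D12828 (iv D11950) (iv F46545)
def n12829 : Q := act 5 n11830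
theorem D12829 : act 5 n11830 = n12829 := rfl
theorem F50549 : act 0 n12829 = n11951 := d4_1 D12829 (iv D11951) (iv F46545)
theorem F50550 : act 2 n12829 = n11832 := d17_1 D12829 (iv D11832) (iv F46546)
theorem F50551 : act 4 n12829 = n11836 := d26_1 D12829 (iv D11836) (iv D10864) (iv F42789) D11830
theorem F50552 : act 7 n12829 = n12829 := d31_2 F46547 D12829 (iv D12829)
def n12830 : Q := act 8 n11830
theorem D12830 : act 8 n11830 = n12830 := rfl
theorem F50553 : act 0 n12830 = n11952 := d7_1 D12830 (iv D11952) (iv F46545)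
theorem F50554 : act 2 n12830 = n11833 := d20_1 D12830 (iv D11833) (iv F46546)
theorem F50555 : act 4 n12830 = n11831 := d29_1 D12830 (iv D11831) D11830
def n12831 : Q := act 7 n11831
theorem D12831 : act 7 n11831 = n12831 := rfl
theorem F50556 : act 0 n12831 = n11953 := d6_1 D12831 (iv D11953) (iv F46548)
theorem F50557 : act 2 n12831 = n11834 := d19_1 D12831 (iv D11834) (iv F46549)
theorem F50558 : act 5 n12831 = n11838 := d31_1 D12831 (iv D11838) (iv F46550)
theorem F50559 : act 8 n12831 = n12831 := d35_2 D11831 D12831 (iv D12831) (iv D11831) F42790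
def n12832 : Q := act 6 n11832
theorem D12832 : act 6 n11832 = n12832 := rfl
theorem F50560 : act 0 n12832 = n11954 := d5_1 D12832 (iv D11954) (iv F46551)
theorem F50561 : act 1 n12832 = n11861 := d12_1 D12832 (iv D11861) (iv F46552)
theorem F50562 : act 4 n12832 = n11839 := d27_1 D12832 (iv D11839) (iv F46553)
theorem F50563 : act 5 n12832 = n12628 := d30_1 D12832 F49766 F46539 F46537 D11832
theorem F50564 : act 7 n12832 = n12832 := d33_2 F46554 D12832 (iv D12832)
def n12833 : Q := act 8 n11832
theorem D12833 : act 8 n11832 = n12833 := rfl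
theorem F50565 : act 0 n12833 = n11955 := d7_1 D12833 (iv D11955) (iv F46551)
theorem F50566 : act 1 n12833 = n11862 := d14_1 D12833 (iv D11862) (iv F46552)
theorem F50567 : act 4 n12833 = n11840 := d29_1 D12833 (iv D11840) (iv F46553)
theorem F50568 : act 5 n12833 = n11833 := d32_1 D12833 (iv D11833) D11832
def n12834 : Q := act 7 n11833
theorem D12834 : act 7 n11833 = n12834 := rfl
theorem F50569 : act 0 n12834 = n11956 := d6_1 D12834 (iv D11956) (iv F46555)
theorem F50570 : act 1 n12834 = n11863 := d13_1 D12834 (iv D11863) (iv F46556)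
theorem F50571 : act 4 n12834 = n11834 := d28_1 D12834 (iv D11834) (iv F46557)
theorem F50572 : act 8 n12834 = n12834 := d35_2 D11833 D12834 (iv D12834) (iv D11833) F42793
def n12835 : Q := act 5 n11835
theorem D12835 : act 5 n11835 = n12835 := rfl
theorem F50573 : act 0 n12835 = n11957 := d4_1 D12835 (iv D11957) (iv F46563)
theorem F50574 : act 2 n12835 = n12173 := d17_1 D12835 (iv D12173) (iv F46564)
theorem F50575 : act 3 n12835 = n11836 := d22_1 D12835 (iv D11836) D11835
def n12836 : Q := act 6 n11836
theorem D12836 : act 6 n11836 = n12836 := rfl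
theorem F50576 : act 0 n12836 = n11960 := d5_1 D12836 (iv D11960) (iv F46566)
theorem F50577 : act 2 n12836 = n11839 := d18_1 D12836 (iv D11839) (iv F46567)
theorem F50578 : act 5 n12836 = n12836 := d30_1 D12836 (iv D12836) (iv D11836) F42800 D11836
theorem F50579 : act 7 n12836 = n12836 := d33_2 F46568 D12836 (iv D12836)
def n12837 : Q := act 8 n11836
theorem D12837 : act 8 n11836 = n12837 := rfl
theorem F50580 : act 0 n12837 = n11961 := d7_1 D12837 (iv D11961) (iv F46566)
theorem F50581 : act 2 n12837 = n11840 := d20_1 D12837 (iv D11840) (iv F46567)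
theorem F50582 : act 5 n12837 = n11837 := d32_1 D12837 (iv D11837) D11836
def n12838 : Q := act 8 n11839
theorem D12838 : act 8 n11839 = n12838 := rfl
theorem F50583 : act 0 n12838 = n11964 := d7_1 D12838 (iv D11964) (iv F46577)
theorem F50584 : act 1 n12838 = n11864 := d14_1 D12838 (iv D11864) (iv F46578)
theorem F50585 : act 3 n12838 = n12180 := d25_1 D12838 (iv D12180) (iv F46579)
theorem F50586 : act 5 n12838 = n12838 := d32_1 D12838 (iv D12838) F46580
theorem F50587 : act 6 n12838 = n11840 := d34_1 D12838 (iv D11840) D11839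
def n12839 : Q := act 7 n11840
theorem D12839 : act 7 n11840 = n12839 := rfl
theorem F50588 : act 0 n12839 = n11965 := d6_1 D12839 (iv D11965) (iv F46582)
theorem F50589 : act 1 n12839 = n11865 := d13_1 D12839 (iv D11865) (iv F46583)
theorem F50590 : act 5 n12839 = n11841 := d31_1 D12839 (iv D11841) (iv F46585)
theorem F50591 : act 8 n12839 = n12839 := d35_2 D11840 D12839 (iv D12839) (iv D11840) F42808
def n12840 : Q := act 3 n11842
theorem D12840 : act 3 n11842 = n12840 := rfl
theorem F50592 : act 0 n12840 = n11876 := d2_1 D12840 (iv D11876) (iv F46591)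
theorem F50593 : act 4 n12840 = n12132 := d21_2 (iv F46593) D12840 F47871 (iv F47668) F47667
theorem F50594 : act 5 n12840 = n11843 := d22_2 (iv F46594) D12840 (iv D11843)
theorem F50595 : act 6 n12840 = n12183 := d23_2 (iv F46595) D12840 (iv D12183)
theorem F50596 : act 7 n12840 = n11848 := d24_2 D11842 D12840 (iv D11848) (iv D10873) (iv F42821)
theorem F50597 : act 2 n12193 = n12840 := d16_3 F50593 F47870 D12193
def n12841 : Q := act 8 n11842
theorem D12841 : act 8 n11842 = n12841 := rfl
theorem F50598 : act 0 n12841 = n11877 := d7_1 D12841 (iv D11877) (iv F46591)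
theorem F50599 : act 2 n12841 = n12841 := d20_1 D12841 (iv D12841) F46592
theorem F50600 : act 4 n12841 = n12294 := d29_1 D12841 F48475 (iv F46593)
theorem F50601 : act 5 n12841 = n11844 := d32_1 D12841 (iv D11844) (iv F46594)
theorem F50602 : act 6 n12841 = n12184 := d34_1 D12841 (iv D12184) (iv F46595)
theorem F50603 : act 7 n12841 = n12077 := d35_1 D12841 (iv D12077) F43615 (iv F42823) D11842
def n12842 : Q := act 2 n11843
theorem D12842 : act 2 n11843 = n12842 := rfl
theorem F50604 : act 0 n12842 = n11878 := d1_1 D12842 (iv D11878) (iv F46596)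
theorem F50605 : act 3 n12842 = n12842 := d15_2 D11843 D12842 (iv D12842) (iv D11843) F42826
theorem F50606 : act 5 n12842 = n12193 := d17_2 F50594 D12842 F50597
theorem F50607 : act 6 n12842 = n11845 := d18_2 (iv F46597) D12842 (iv D11845)
theorem F50608 : act 7 n12842 = n11850 := d19_2 (iv F46598) D12842 (iv D11850)
theorem F50609 : act 4 n12198 = n12842 := d28_3 F50608 (iv F46626) (iv F48126)
def n12843 : Q := act 4 n11843
theorem D12843 : act 4 n11843 = n12843 := rfl
theorem F50610 : act 0 n12843 = n11879 := d3_1 D12843 (iv D11879) (iv F46596)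
theorem F50611 : act 2 n12843 = n12198 := d16_1 D12843 F50609 (iv D12842)
theorem F50612 : act 3 n12843 = n12843 := d21_1 D12843 (iv D12843) (iv D11843) F42827 D11843
theorem F50613 : act 5 n12843 = n12196 := d26_2 F50594 D12843 (iv D12196) (iv F47872) (iv F50593)
theorem F50614 : act 6 n12843 = n11846 := d27_2 (iv F46597) D12843 (iv D11846)
theorem F50615 : act 7 n12843 = n11851 := d28_2 (iv F46598) D12843 (iv D11851)
def n12844 : Q := act 8 n11843
theorem D12844 : act 8 n11843 = n12844 := rfl
theorem F50616 : act 0 n12844 = n11880 := d7_1 D12844 (iv D11880) (iv F46596)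
theorem F50617 : act 3 n12844 = n11844 := d25_1 D12844 (iv D11844) D11843
theorem F50618 : act 6 n12844 = n11847 := d34_1 D12844 (iv D11847) (iv F46597)
def n12845 : Q := act 1 n11845
theorem D12845 : act 1 n11845 = n12845 := rfl
theorem F50619 : act 3 n12845 = n12845 := d9_2 F46605 D12845 (iv D12845)
theorem F50620 : act 5 n12845 = n12187 := d11_2 (iv F46606) D12845 (iv D12187)
theorem F50621 : act 7 n12845 = n11853 := d13_2 (iv F46607) D12845 (iv D11853)
def n12846 : Q := act 4 n11845
theorem D12846 : act 4 n11845 = n12846 := rfl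
theorem F50622 : act 0 n12846 = n11882 := d3_1 D12846 (iv D11882) (iv F46604)
theorem F50623 : act 2 n12846 = n11846 := d16_1 D12846 (iv D11846) D11845
theorem F50624 : act 6 n12846 = n12198 := d27_2 F50607 D12846 F50609
theorem F50625 : act 7 n12846 = n11854 := d28_2 (iv F46607) D12846 (iv D11854)
theorem F50626 : act 3 n12210 = n12846 := d24_5 F50625 F46639 (iv D11582) (iv F45322) (iv F48160)
theorem F50627 : act 5 n12846 = n12207 := d22_2 (iv F48159) F50626 F48150
def n12847 : Q := act 8 n11845
theorem D12847 : act 8 n11845 = n12847 := rfl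
theorem F50628 : act 0 n12847 = n11883 := d7_1 D12847 (iv D11883) (iv F46604)
theorem F50629 : act 2 n12847 = n11847 := d20_1 D12847 (iv D11847) D11845
theorem F50630 : act 3 n12847 = n12847 := d25_1 D12847 (iv D12847) F46605
theorem F50631 : act 5 n12847 = n12189 := d32_1 D12847 (iv D12189) (iv F46606)
def n12848 : Q := act 5 n11846
theorem D12848 : act 5 n11846 = n12848 := rfl
theorem F50632 : act 0 n12848 = n11884 := d4_1 D12848 (iv D11884) (iv F46608)
theorem F50633 : act 2 n12848 = n12207 := d17_1 D12848 (iv F50627) F50623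
theorem F50634 : act 3 n12848 = n12848 := d22_1 D12848 (iv D12848) F46609
theorem F50635 : act 4 n12848 = n12190 := d26_1 D12848 (iv D12190) (iv D11171) (iv F42830) D11846
theorem F50636 : act 6 n12848 = n12204 := d30_2 F50614 D12848 (iv D12204) (iv F48118) (iv F50613)
theorem F50637 : act 7 n12848 = n11856 := d31_2 (iv F46610) D12848 (iv D11856)
def n12849 : Q := act 8 n11846
theorem D12849 : act 8 n11846 = n12849 := rfl
theorem F50638 : act 0 n12849 = n11885 := d7_1 D12849 (iv D11885) (iv F46608)
theorem F50639 : act 3 n12849 = n12849 := d25_1 D12849 (iv D12849) F46609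
theorem F50640 : act 4 n12849 = n11847 := d29_1 D12849 (iv D11847) D11846
def n12850 : Q := act 7 n11847
theorem D12850 : act 7 n11847 = n12850 := rfl
theorem F50641 : act 0 n12850 = n11886 := d6_1 D12850 (iv D11886) (iv F46611)
theorem F50642 : act 3 n12850 = n12660 := d24_1 D12850 (iv D12660) F45895 (iv F42836) (iv F46612)
theorem F50643 : act 5 n12850 = n12192 := d31_1 D12850 (iv D12192) (iv F46613)
theorem F50644 : act 8 n12850 = n11858 := d35_2 D11847 D12850 (iv D11858) (iv D10878) (iv F42831)
def n12851 : Q := act 2 n11848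
theorem D12851 : act 2 n11848 = n12851 := rfl
theorem F50645 : act 0 n12851 = n11887 := d1_1 D12851 (iv D11887) (iv F46614)
theorem F50646 : act 3 n12851 = n11867 := d15_2 D11848 D12851 (iv D11867) (iv D10887) (iv F42838)
theorem F50647 : act 5 n12851 = n11850 := d17_2 (iv F46615) D12851 (iv D11850)
theorem F50648 : act 6 n12851 = n12132 := d18_2 (iv F46616) D12851 F47870
theorem F50649 : act 7 n12851 = n12193 := d19_2 F50596 D12851 F50597
theorem F50650 : act 4 n12183 = n12851 := d28_3 F50649 (iv D12193) (iv F48073)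
def n12852 : Q := act 4 n11848
theorem D12852 : act 4 n11848 = n12852 := rfl
theorem F50651 : act 0 n12852 = n11888 := d3_1 D12852 (iv D11888) (iv F46614)
theorem F50652 : act 2 n12852 = n12183 := d16_1 D12852 F50650 (iv D12851)
theorem F50653 : act 3 n12852 = n12852 := d21_1 D12852 (iv D12852) (iv D11848) F42839 D11848
theorem F50654 : act 5 n12852 = n12185 := d26_2 (iv F46615) D12852 F48081 F46631 (iv D11851)
theorem F50655 : act 6 n12852 = n12193 := d27_2 (iv F46616) D12852 (iv D12193)
theorem F50656 : act 7 n12852 = n12132 := d28_2 F50596 D12852 (iv F50593)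
def n12853 : Q := act 8 n11848
theorem D12853 : act 8 n11848 = n12853 := rfl
theorem F50657 : act 0 n12853 = n11889 := d7_1 D12853 (iv D11889) (iv F46614)
theorem F50658 : act 3 n12853 = n11849 := d25_1 D12853 (iv D11849) D11848
theorem F50659 : act 5 n12853 = n11852 := d32_1 D12853 (iv D11852) (iv F46615)
theorem F50660 : act 6 n12853 = n12194 := d34_1 D12853 (iv D12194) (iv F46616)
def n12854 : Q := act 1 n11850
theorem D12854 : act 1 n11850 = n12854 := rfl
theorem F50661 : act 3 n12854 = n11870 := d9_2 (iv F46624) D12854 (iv D11870)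
theorem F50662 : act 4 n12854 = n12580 := d10_2 F46626 D12854 F49550
theorem F50663 : act 6 n12854 = n11853 := d12_2 (iv F46625) D12854 (iv D11853)
def n12855 : Q := act 8 n11850
theorem D12855 : act 8 n11850 = n12855 := rfl
theorem F50664 : act 0 n12855 = n11891 := d7_1 D12855 (iv D11891) (iv F46623)
theorem F50665 : act 2 n12855 = n11852 := d20_1 D12855 (iv D11852) D11850
theorem F50666 : act 3 n12855 = n11871 := d25_1 D12855 (iv D11871) (iv F46624)
theorem F50667 : act 4 n12855 = n12392 := d29_1 D12855 F48801 F46626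
theorem F50668 : act 6 n12855 = n11855 := d34_1 D12855 (iv D11855) (iv F46625)
def n12856 : Q := act 8 n11851
theorem D12856 : act 8 n11851 = n12856 := rfl
theorem F50669 : act 0 n12856 = n11892 := d7_1 D12856 (iv D11892) (iv F46627)
theorem F50670 : act 2 n12856 = n12392 := d20_1 D12856 F48801 (iv F46628)
theorem F50671 : act 3 n12856 = n11859 := d25_1 D12856 (iv D11859) (iv F46629)
theorem F50672 : act 4 n12856 = n11852 := d29_1 D12856 (iv D11852) D11851
theorem F50673 : act 5 n12856 = n12393 := d32_1 D12856 F48804 F46631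
theorem F50674 : act 6 n12856 = n11857 := d34_1 D12856 (iv D11857) (iv F46630)
def n12857 : Q := act 7 n11852
theorem D12857 : act 7 n11852 = n12857 := rfl
theorem F50675 : act 0 n12857 = n11893 := d6_1 D12857 (iv D11893) (iv F46632)
theorem F50676 : act 3 n12857 = n12407 := d24_1 D12857 (iv D12407) F44745 (iv F42848) (iv F46633)
theorem F50677 : act 6 n12857 = n11858 := d33_1 D12857 (iv D11858) (iv F46634)
def n12858 : Q := act 0 n11853
theorem D12858 : act 0 n11853 = n12858 := rfl
theorem F50678 : act 1 n12858 = n11894 := d0_2 D11853 D12858 (iv D11894) (iv D10905) (iv F42849)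
theorem F50679 : act 3 n12858 = n11873 := d2_2 (iv F46635) D12858 (iv D11873)
theorem F50680 : act 5 n12858 = n12201 := d4_2 (iv F46636) D12858 (iv D12201)
def n12859 : Q := act 4 n11853
theorem D12859 : act 4 n11853 = n12859 := rfl
theorem F50681 : act 1 n12859 = n11854 := d10_1 D12859 (iv D11854) D11853
theorem F50682 : act 3 n12859 = n12579 := d21_1 D12859 F49548 (iv F46359) F46360 (iv F46635)
theorem F50683 : act 6 n12859 = n12580 := d27_2 F50663 D12859 (iv F50662)
def n12860 : Q := act 8 n11853
theorem D12860 : act 8 n11853 = n12860 := rfl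
theorem F50684 : act 1 n12860 = n11855 := d14_1 D12860 (iv D11855) D11853
theorem F50685 : act 3 n12860 = n11874 := d25_1 D12860 (iv D11874) (iv F46635)
theorem F50686 : act 5 n12860 = n12203 := d32_1 D12860 (iv D12203) (iv F46636)
def n12861 : Q := act 5 n11854
theorem D12861 : act 5 n11854 = n12861 := rfl
theorem F50687 : act 0 n12861 = n11897 := d4_1 D12861 (iv D11897) (iv F46637)
theorem F50688 : act 2 n12861 = n11856 := d17_1 D12861 (iv D11856) (iv F46638)
theorem F50689 : act 3 n12861 = n12537 := d22_1 D12861 F49396 (iv F46639)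
theorem F50690 : act 4 n12861 = n12204 := d26_1 D12861 (iv D12204) (iv D11179) (iv F42851) D11854
theorem F50691 : act 6 n12861 = n12190 := d30_2 (iv F46640) D12861 (iv D12190) F44065 (iv F45576)
theorem F50692 : act 7 n12861 = n12207 := d31_2 F50625 D12861 (iv F50627)
def n12862 : Q := act 8 n11854
theorem D12862 : act 8 n11854 = n12862 := rfl
theorem F50693 : act 0 n12862 = n11898 := d7_1 D12862 (iv D11898) (iv F46637)
theorem F50694 : act 2 n12862 = n11857 := d20_1 D12862 (iv D11857) (iv F46638)
theorem F50695 : act 3 n12862 = n12391 := d25_1 D12862 F48798 (iv F46639)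
theorem F50696 : act 4 n12862 = n11855 := d29_1 D12862 (iv D11855) D11854
theorem F50697 : act 6 n12862 = n12392 := d34_1 D12862 F48801 (iv F46640)
def n12863 : Q := act 7 n11855
theorem D12863 : act 7 n11855 = n12863 := rfl
theorem F50698 : act 0 n12863 = n11899 := d6_1 D12863 (iv D11899) (iv F46641)
theorem F50699 : act 2 n12863 = n11858 := d19_1 D12863 (iv D11858) (iv F46642)
theorem F50700 : act 5 n12863 = n12206 := d31_1 D12863 (iv D12206) (iv F46644)
def n12864 : Q := act 6 n11856
theorem D12864 : act 6 n11856 = n12864 := rfl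
theorem F50701 : act 0 n12864 = n11900 := d5_1 D12864 (iv D11900) (iv F46645)
theorem F50702 : act 2 n12864 = n12190 := d18_1 D12864 (iv F50691) F50688
theorem F50703 : act 3 n12864 = n11861 := d23_1 D12864 (iv D11861) (iv F46646)
theorem F50704 : act 4 n12864 = n12207 := d27_1 D12864 (iv D12207) (iv F46647)
theorem F50705 : act 5 n12864 = n12188 := d30_1 D12864 F48092 F46631 F46630 D11856
theorem F50706 : act 7 n12864 = n12204 := d33_2 F50637 D12864 (iv F50636)
def n12865 : Q := act 8 n11856
theorem D12865 : act 8 n11856 = n12865 := rfl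
theorem F50707 : act 0 n12865 = n11901 := d7_1 D12865 (iv D11901) (iv F46645)
theorem F50708 : act 3 n12865 = n11862 := d25_1 D12865 (iv D11862) (iv F46646)
theorem F50709 : act 4 n12865 = n12208 := d29_1 D12865 (iv D12208) (iv F46647)
theorem F50710 : act 5 n12865 = n11857 := d32_1 D12865 (iv D11857) D11856
def n12866 : Q := act 7 n11857
theorem D12866 : act 7 n11857 = n12866 := rfl
theorem F50711 : act 0 n12866 = n11902 := d6_1 D12866 (iv D11902) (iv F46648)
theorem F50712 : act 4 n12866 = n11858 := d28_1 D12866 (iv D11858) (iv F46650)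
def n12867 : Q := act 7 n11859
theorem D12867 : act 7 n11859 = n12867 := rfl
theorem F50713 : act 0 n12867 = n11903 := d6_1 D12867 (iv D11903) (iv F46654)
theorem F50714 : act 2 n12867 = n12492 := d19_1 D12867 F49188 (iv F46655)
theorem F50715 : act 4 n12867 = n11860 := d28_1 D12867 (iv D11860) (iv F46656)
theorem F50716 : act 5 n12867 = n12493 := d31_1 D12867 F49193 (iv F46657)
theorem F50717 : act 6 n12867 = n11863 := d33_1 D12867 (iv D11863) (iv F46658)
theorem F50718 : act 8 n12867 = n12867 := d35_2 D11859 D12867 (iv D12867) (iv D11859) F42860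
def n12868 : Q := act 8 n11861
theorem D12868 : act 8 n11861 = n12868 := rfl
theorem F50719 : act 0 n12868 = n11904 := d7_1 D12868 (iv D11904) (iv F46664)
theorem F50720 : act 2 n12868 = n12495 := d20_1 D12868 F49203 (iv F46665)
theorem F50721 : act 4 n12868 = n11864 := d29_1 D12868 (iv D11864) (iv F46666)
theorem F50722 : act 5 n12868 = n12496 := d32_1 D12868 F49208 (iv F46667)
theorem F50723 : act 6 n12868 = n11862 := d34_1 D12868 (iv D11862) D11861
theorem F50724 : act 7 n12776 = n12868 := d31_0 F50722 F49207 (iv F50284)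
def n12869 : Q := act 7 n11862
theorem D12869 : act 7 n11862 = n12869 := rfl
theorem F50725 : act 0 n12869 = n11905 := d6_1 D12869 (iv D11905) (iv F46669)
theorem F50726 : act 2 n12869 = n12775 := d19_1 D12869 F50385 F50380
theorem F50727 : act 4 n12869 = n11865 := d28_1 D12869 (iv D11865) (iv F46670)
theorem F50728 : act 5 n12869 = n11863 := d31_1 D12869 (iv D11863) (iv F46671)
theorem F50729 : act 6 n12869 = n12776 := d33_1 D12869 F50724 F50723
theorem F50730 : act 8 n12869 = n12869 := d35_2 D11862 D12869 (iv D12869) (iv D11862) F42868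
def n12870 : Q := act 3 n11863
theorem D12870 : act 3 n11863 = n12870 := rfl
theorem F50731 : act 0 n12870 = n11906 := d2_1 D12870 (iv D11906) (iv F46672)
theorem F50732 : act 4 n12870 = n12669 := d21_2 (iv F46673) D12870 (iv D12669) F45919 (iv F42872)
theorem F50733 : act 8 n12870 = n12870 := d25_2 F46674 D12870 (iv D12870)
def n12871 : Q := act 7 n11864
theorem D12871 : act 7 n11864 = n12871 := rfl
theorem F50734 : act 0 n12871 = n11907 := d6_1 D12871 (iv D11907) (iv F46675)
theorem F50735 : act 2 n12871 = n12777 := d19_1 D12871 F50399 F50394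
theorem F50736 : act 4 n12871 = n12776 := d28_1 D12871 F50724 F50721
theorem F50737 : act 5 n12871 = n12871 := d31_1 D12871 (iv D12871) F46677
theorem F50738 : act 6 n12871 = n11865 := d33_1 D12871 (iv D11865) (iv F46678)
theorem F50739 : act 8 n12871 = n12871 := d35_2 D11864 D12871 (iv D12871) (iv D11864) F42878
def n12872 : Q := act 3 n11865
theorem D12872 : act 3 n11865 = n12872 := rfl
theorem F50740 : act 0 n12872 = n11908 := d2_1 D12872 (iv D11908) (iv F46679)
theorem F50741 : act 5 n12872 = n11866 := d22_2 (iv F46680) D12872 (iv D11866)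
theorem F50742 : act 7 n12872 = n12216 := d24_2 D11865 D12872 (iv D12216) (iv D11190) (iv F42880)
theorem F50743 : act 8 n12872 = n12872 := d25_2 F46681 D12872 (iv D12872)
def n12873 : Q := act 1 n11867
theorem D12873 : act 1 n11867 = n12873 := rfl
theorem F50744 : act 0 n12873 = n12123 := d0_1 D12873 (iv D12123) F43863 (iv F43004) (iv F46687)
theorem F50745 : act 4 n12873 = n12550 := d10_2 F46691 D12873 F49457
theorem F50746 : act 5 n12873 = n11870 := d11_2 (iv F46688) D12873 (iv D11870)
theorem F50747 : act 6 n12873 = n12126 := d12_2 (iv F46689) D12873 F47844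
theorem F50748 : act 7 n12873 = n12873 := d13_2 F46690 D12873 (iv D12873)
def n12874 : Q := act 8 n11867
theorem D12874 : act 8 n11867 = n12874 := rfl
theorem F50749 : act 0 n12874 = n11910 := d7_1 D12874 (iv D11910) (iv F46687)
theorem F50750 : act 2 n12874 = n11869 := d20_1 D12874 (iv D11869) D11867
theorem F50751 : act 4 n12874 = n12295 := d29_1 D12874 F48479 F46691
theorem F50752 : act 5 n12874 = n11871 := d32_1 D12874 (iv D11871) (iv F46688)
theorem F50753 : act 6 n12874 = n12137 := d34_1 D12874 (iv D12137) (iv F46689)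
theorem F50754 : act 7 n12733 = n12874 := d28_0 F50751 F48478 D12733
def n12875 : Q := act 8 n11868
theorem D12875 : act 8 n11868 = n12875 := rfl
theorem F50755 : act 0 n12875 = n11911 := d7_1 D12875 (iv D11911) (iv F46692)
theorem F50756 : act 1 n12875 = n12804 := d14_1 D12875 (iv D12804) (iv F46693)
theorem F50757 : act 2 n12875 = n12295 := d20_1 D12875 F48479 (iv F46694)
theorem F50758 : act 3 n12875 = n12875 := d25_1 D12875 (iv D12875) F46695
theorem F50759 : act 4 n12875 = n11869 := d29_1 D12875 (iv D11869) D11868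
theorem F50760 : act 5 n12875 = n12296 := d32_1 D12875 F48486 (iv F46696)
theorem F50761 : act 6 n12875 = n12094 := d34_1 D12875 (iv D12094) (iv F46697)
theorem F50762 : act 7 n12732 = n12875 := d31_0 F50760 F48485 (iv F50117)
def n12876 : Q := act 7 n11869
theorem D12876 : act 7 n11869 = n12876 := rfl
theorem F50763 : act 0 n12876 = n11912 := d6_1 D12876 (iv D11912) (iv F46699)
theorem F50764 : act 2 n12876 = n12733 := d19_1 D12876 F50754 F50750
theorem F50765 : act 3 n12876 = n11922 := d24_1 D12876 (iv D11922) F43066 (iv F42894) (iv F46700)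
theorem F50766 : act 4 n12876 = n12732 := d28_1 D12876 F50762 F50759
theorem F50767 : act 5 n12876 = n11872 := d31_1 D12876 (iv D11872) (iv F46701)
theorem F50768 : act 6 n12876 = n12140 := d33_1 D12876 (iv D12140) (iv F46702)
theorem F50769 : act 8 n12876 = n12876 := d35_2 D11869 D12876 (iv D12876) (iv D11869) F42889
def n12877 : Q := act 0 n11870
theorem D12877 : act 0 n11870 = n12877 := rfl
theorem F50770 : act 1 n12877 = n11913 := d0_2 D11870 D12877 (iv D11913) (iv D10922) (iv F42895)
theorem F50771 : act 2 n12877 = n12873 := d1_2 F47833 D12877 F50744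
theorem F50772 : act 4 n12877 = n12536 := d3_2 (iv F46703) D12877 F49389
theorem F50773 : act 5 n12877 = n12123 := d4_2 F50746 D12877 (iv F50744)
theorem F50774 : act 6 n12877 = n11873 := d5_2 (iv F46704) D12877 (iv D11873)
theorem F50775 : act 7 n12877 = n12877 := d6_2 F46705 D12877 (iv D12877)
def n12878 : Q := act 8 n11870
theorem D12878 : act 8 n11870 = n12878 := rfl
theorem F50776 : act 1 n12878 = n11871 := d14_1 D12878 (iv D11871) D11870
theorem F50777 : act 4 n12878 = n12362 := d29_1 D12878 F48689 (iv F46703)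
theorem F50778 : act 6 n12878 = n11874 := d34_1 D12878 (iv D11874) (iv F46704)
def n12879 : Q := act 7 n11871
theorem D12879 : act 7 n11871 = n12879 := rfl
theorem F50779 : act 0 n12879 = n11915 := d6_1 D12879 (iv D11915) (iv F46706)
theorem F50780 : act 2 n12879 = n11872 := d19_1 D12879 (iv D11872) (iv F46707)
theorem F50781 : act 4 n12879 = n12003 := d28_1 D12879 F47255 (iv F46708)
theorem F50782 : act 5 n12879 = n12733 := d31_1 D12879 F50754 F50752
theorem F50783 : act 6 n12879 = n11875 := d33_1 D12879 (iv D11875) (iv F46709)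
theorem F50784 : act 8 n12879 = n12879 := d35_2 D11871 D12879 (iv D12879) (iv D11871) F42898
def n12880 : Q := act 8 n11873
theorem D12880 : act 8 n11873 = n12880 := rfl
theorem F50785 : act 0 n12880 = n11874 := d7_1 D12880 (iv D11874) D11873
theorem F50786 : act 1 n12880 = n11916 := d14_1 D12880 (iv D11916) (iv F46714)
theorem F50787 : act 5 n12880 = n12220 := d32_1 D12880 (iv D12220) (iv F46715)
def n12881 : Q := act 7 n11874
theorem D12881 : act 7 n11874 = n12881 := rfl
theorem F50788 : act 1 n12881 = n11875 := d13_1 D12881 (iv D11875) (iv F46717)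
theorem F50789 : act 5 n12881 = n12221 := d31_1 D12881 (iv D12221) (iv F46718)
theorem F50790 : act 8 n12881 = n12881 := d35_2 D11874 D12881 (iv D12881) (iv D11874) F42903
def n12882 : Q := act 3 n11875
theorem D12882 : act 3 n11875 = n12882 := rfl
theorem F50791 : act 0 n12882 = n11918 := d2_1 D12882 (iv D11918) (iv F46719)
theorem F50792 : act 2 n12882 = n12674 := d15_1 D12882 (iv D12674) F45936 (iv F42908) (iv F46720)
theorem F50793 : act 5 n12882 = n12222 := d22_2 (iv F46721) D12882 (iv D12222)
theorem F50794 : act 8 n12882 = n12882 := d25_2 F46722 D12882 (iv D12882)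
def n12883 : Q := act 8 n11876
theorem D12883 : act 8 n11876 = n12883 := rfl
theorem F50795 : act 1 n12883 = n12009 := d14_1 D12883 (iv D12009) (iv F46723)
theorem F50796 : act 2 n12883 = n12232 := d20_1 D12883 (iv D12232) F46728
theorem F50797 : act 3 n12883 = n11877 := d25_1 D12883 (iv D11877) D11876
theorem F50798 : act 4 n12883 = n12133 := d29_1 D12883 (iv D12133) (iv F46724)
theorem F50799 : act 5 n12883 = n11880 := d32_1 D12883 (iv D11880) (iv F46725)
theorem F50800 : act 6 n12883 = n12223 := d34_1 D12883 (iv D12223) (iv F46726)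
def n12884 : Q := act 8 n11878
theorem D12884 : act 8 n11878 = n12884 := rfl
theorem F50801 : act 1 n12884 = n12298 := d14_1 D12884 (iv D12298) (iv F46735)
theorem F50802 : act 2 n12884 = n11880 := d20_1 D12884 (iv D11880) D11878
theorem F50803 : act 3 n12884 = n12884 := d25_1 D12884 (iv D12884) F46736
theorem F50804 : act 4 n12884 = n12236 := d29_1 D12884 (iv D12236) F46740
theorem F50805 : act 5 n12884 = n12232 := d32_1 D12884 (iv D12232) (iv F46737)
theorem F50806 : act 6 n12884 = n11883 := d34_1 D12884 (iv D11883) (iv F46738)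
def n12885 : Q := act 8 n11879
theorem D12885 : act 8 n11879 = n12885 := rfl
theorem F50807 : act 1 n12885 = n12011 := d14_1 D12885 (iv D12011) (iv F46741)
theorem F50808 : act 2 n12885 = n12236 := d20_1 D12885 (iv D12236) (iv F46742)
theorem F50809 : act 3 n12885 = n12885 := d25_1 D12885 (iv D12885) F46743
theorem F50810 : act 4 n12885 = n11880 := d29_1 D12885 (iv D11880) D11879
theorem F50811 : act 5 n12885 = n12234 := d32_1 D12885 (iv D12234) (iv F46744)
theorem F50812 : act 6 n12885 = n11885 := d34_1 D12885 (iv D11885) (iv F46745)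
def n12886 : Q := act 7 n11880
theorem D12886 : act 7 n11880 = n12886 := rfl
theorem F50813 : act 1 n12886 = n12012 := d13_1 D12886 (iv D12012) (iv F46747)
theorem F50814 : act 3 n12886 = n12398 := d24_1 D12886 (iv D12398) F44714 (iv F42923) (iv F46748)
theorem F50815 : act 6 n12886 = n11886 := d33_1 D12886 (iv D11886) (iv F46749)
theorem F50816 : act 8 n12886 = n11893 := d35_2 D11880 D12886 (iv D11893) (iv D10904) (iv F42918)
def n12887 : Q := act 0 n11881
theorem D12887 : act 0 n11881 = n12887 := rfl
theorem F50817 : act 2 n12887 = n12013 := d1_2 (iv F46750) D12887 (iv D12013)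
theorem F50818 : act 3 n12887 = n12887 := d2_2 F46751 D12887 (iv D12887)
theorem F50819 : act 4 n12887 = n12375 := d3_2 F46755 D12887 F48737
theorem F50820 : act 5 n12887 = n12226 := d4_2 (iv F46752) D12887 (iv D12226)
theorem F50821 : act 6 n12887 = n12289 := d5_2 (iv F46753) D12887 F48454
theorem F50822 : act 7 n12887 = n11894 := d6_2 (iv F46754) D12887 (iv D11894)
def n12888 : Q := act 8 n11881
theorem D12888 : act 8 n11881 = n12888 := rfl
theorem F50823 : act 1 n12888 = n11883 := d14_1 D12888 (iv D11883) D11881
theorem F50824 : act 2 n12888 = n12014 := d20_1 D12888 (iv D12014) (iv F46750)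
theorem F50825 : act 3 n12888 = n12888 := d25_1 D12888 (iv D12888) F46751
theorem F50826 : act 4 n12888 = n12403 := d29_1 D12888 (iv D12403) F46755
theorem F50827 : act 5 n12888 = n12227 := d32_1 D12888 (iv D12227) (iv F46752)
theorem F50828 : act 6 n12888 = n12298 := d34_1 D12888 (iv D12298) (iv F46753)
def n12889 : Q := act 8 n11882
theorem D12889 : act 8 n11882 = n12889 := rfl
theorem F50829 : act 1 n12889 = n12403 := d14_1 D12889 (iv D12403) (iv F46756)
theorem F50830 : act 2 n12889 = n11885 := d20_1 D12889 (iv D11885) (iv F46757)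
theorem F50831 : act 3 n12889 = n12248 := d25_1 D12889 (iv D12248) (iv F46760)
theorem F50832 : act 4 n12889 = n11883 := d29_1 D12889 (iv D11883) D11882
theorem F50833 : act 5 n12889 = n12245 := d32_1 D12889 (iv D12245) F46761
theorem F50834 : act 6 n12889 = n12236 := d34_1 D12889 (iv D12236) (iv F46758)
def n12890 : Q := act 7 n11883
theorem D12890 : act 7 n11883 = n12890 := rfl
theorem F50835 : act 2 n12890 = n11886 := d19_1 D12890 (iv D11886) (iv F46762)
theorem F50836 : act 5 n12890 = n12229 := d31_1 D12890 (iv D12229) (iv F46764)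
theorem F50837 : act 8 n12890 = n11899 := d35_2 D11883 D12890 (iv D11899) (iv D10907) (iv F42926)
def n12891 : Q := act 8 n11884
theorem D12891 : act 8 n11884 = n12891 := rfl
theorem F50838 : act 1 n12891 = n12019 := d14_1 D12891 (iv D12019) (iv F46765)
theorem F50839 : act 2 n12891 = n12245 := d20_1 D12891 (iv D12245) (iv F46766)
theorem F50840 : act 3 n12891 = n12891 := d25_1 D12891 (iv D12891) F46767
theorem F50841 : act 4 n12891 = n12230 := d29_1 D12891 (iv D12230) (iv F46768)
theorem F50842 : act 5 n12891 = n11885 := d32_1 D12891 (iv D11885) D11884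
theorem F50843 : act 6 n12891 = n12242 := d34_1 D12891 (iv D12242) (iv F46769)
def n12892 : Q := act 7 n11885
theorem D12892 : act 7 n11885 = n12892 := rfl
theorem F50844 : act 1 n12892 = n12020 := d13_1 D12892 (iv D12020) (iv F46771)
theorem F50845 : act 4 n12892 = n11886 := d28_1 D12892 (iv D11886) (iv F46773)
theorem F50846 : act 8 n12892 = n11902 := d35_2 D11885 D12892 (iv D11902) (iv D10909) (iv F42929)
def n12893 : Q := act 8 n11887
theorem D12893 : act 8 n11887 = n12893 := rfl
theorem F50847 : act 1 n12893 = n12130 := d14_1 D12893 (iv D12130) (iv F46778)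
theorem F50848 : act 2 n12893 = n11889 := d20_1 D12893 (iv D11889) D11887
theorem F50849 : act 3 n12893 = n11910 := d25_1 D12893 (iv D11910) (iv F46779)
theorem F50850 : act 4 n12893 = n12223 := d29_1 D12893 (iv D12223) F46783
theorem F50851 : act 5 n12893 = n11891 := d32_1 D12893 (iv D11891) (iv F46780)
theorem F50852 : act 6 n12893 = n12133 := d34_1 D12893 (iv D12133) (iv F46781)
def n12894 : Q := act 8 n11888
theorem D12894 : act 8 n11888 = n12894 := rfl
theorem F50853 : act 1 n12894 = n12021 := d14_1 D12894 (iv D12021) (iv F46784)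
theorem F50854 : act 2 n12894 = n12223 := d20_1 D12894 (iv D12223) (iv F46785)
theorem F50855 : act 3 n12894 = n12894 := d25_1 D12894 (iv D12894) F46786
theorem F50856 : act 4 n12894 = n11889 := d29_1 D12894 (iv D11889) D11888
theorem F50857 : act 5 n12894 = n12224 := d32_1 D12894 (iv D12224) (iv F46787)
theorem F50858 : act 6 n12894 = n12232 := d34_1 D12894 (iv D12232) (iv F46788)
def n12895 : Q := act 7 n11889
theorem D12895 : act 7 n11889 = n12895 := rfl
theorem F50859 : act 1 n12895 = n12022 := d13_1 D12895 (iv D12022) (iv F46790)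
theorem F50860 : act 3 n12895 = n12034 := d24_1 D12895 (iv D12034) F43374 (iv F42941) (iv F46791)
theorem F50861 : act 5 n12895 = n11893 := d31_1 D12895 (iv D11893) (iv F46792)
theorem F50862 : act 6 n12895 = n12233 := d33_1 D12895 (iv D12233) (iv F46793)
def n12896 : Q := act 0 n11890
theorem D12896 : act 0 n11890 = n12896 := rfl
theorem F50863 : act 2 n12896 = n12023 := d1_2 (iv F46794) D12896 (iv D12023)
theorem F50864 : act 3 n12896 = n11913 := d2_2 (iv F46795) D12896 (iv D11913)
theorem F50865 : act 4 n12896 = n12364 := d3_2 (iv F46796) D12896 F48696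
theorem F50866 : act 5 n12896 = n12115 := d4_2 (iv F46797) D12896 F47801
theorem F50867 : act 6 n12896 = n11894 := d5_2 (iv F46798) D12896 (iv D11894)
theorem F50868 : act 7 n12896 = n12289 := d6_2 (iv F46799) D12896 F48454
def n12897 : Q := act 8 n11890
theorem D12897 : act 8 n11890 = n12897 := rfl
theorem F50869 : act 1 n12897 = n11891 := d14_1 D12897 (iv D11891) D11890
theorem F50870 : act 2 n12897 = n12024 := d20_1 D12897 (iv D12024) (iv F46794)
theorem F50871 : act 3 n12897 = n11914 := d25_1 D12897 (iv D11914) (iv F46795)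
theorem F50872 : act 4 n12897 = n12250 := d29_1 D12897 F48314 (iv F46796)
theorem F50873 : act 5 n12897 = n12130 := d32_1 D12897 (iv D12130) (iv F46797)
theorem F50874 : act 6 n12897 = n11896 := d34_1 D12897 (iv D11896) (iv F46798)
def n12898 : Q := act 7 n11891
theorem D12898 : act 7 n11891 = n12898 := rfl
theorem F50875 : act 2 n12898 = n11893 := d19_1 D12898 (iv D11893) (iv F46800)
theorem F50876 : act 4 n12898 = n12414 := d28_1 D12898 F48867 (iv F46802)
theorem F50877 : act 6 n12898 = n11899 := d33_1 D12898 (iv D11899) (iv F46803)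
def n12899 : Q := act 7 n11892
theorem D12899 : act 7 n11892 = n12899 := rfl
theorem F50878 : act 1 n12899 = n12029 := d13_1 D12899 (iv D12029) (iv F46804)
theorem F50879 : act 2 n12899 = n12414 := d19_1 D12899 F48867 (iv F46805)
theorem F50880 : act 4 n12899 = n11893 := d28_1 D12899 (iv D11893) (iv F46807)
theorem F50881 : act 5 n12899 = n12415 := d31_1 D12899 F48868 (iv F46808)
theorem F50882 : act 6 n12899 = n11902 := d33_1 D12899 (iv D11902) (iv F46809)
def n12900 : Q := act 4 n11894
theorem D12900 : act 4 n11894 = n12900 := rfl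
theorem F50883 : act 0 n12900 = n11895 := d3_1 D12900 (iv D11895) D11894
theorem F50884 : act 2 n12900 = n12030 := d16_1 D12900 (iv D12030) (iv F46813)
theorem F50885 : act 3 n12900 = n12538 := d21_1 D12900 F49400 (iv F46424) F46425 (iv F46814)
theorem F50886 : act 6 n12900 = n12364 := d27_2 F50867 D12900 (iv F50865)
theorem F50887 : act 7 n12900 = n12375 := d28_2 F50822 D12900 (iv F50819)
theorem F50888 : act 5 n12372 = n12900 := d31_3 F50887 F48740 (iv F48730)
def n12901 : Q := act 8 n11894
theorem D12901 : act 8 n11894 = n12901 := rfl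
theorem F50889 : act 0 n12901 = n11896 := d7_1 D12901 (iv D11896) D11894
theorem F50890 : act 2 n12901 = n12031 := d20_1 D12901 (iv D12031) (iv F46813)
theorem F50891 : act 3 n12901 = n11916 := d25_1 D12901 (iv D11916) (iv F46814)
theorem F50892 : act 5 n12901 = n12239 := d32_1 D12901 (iv D12239) (iv F46815)
def n12902 : Q := act 8 n11895
theorem D12902 : act 8 n11895 = n12902 := rfl
theorem F50893 : act 1 n12902 = n11898 := d14_1 D12902 (iv D11898) (iv F46816)
theorem F50894 : act 2 n12902 = n12033 := d20_1 D12902 (iv D12033) (iv F46817)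
theorem F50895 : act 3 n12902 = n12249 := d25_1 D12902 F48311 (iv F46818)
theorem F50896 : act 4 n12902 = n11896 := d29_1 D12902 (iv D11896) D11895
theorem F50897 : act 5 n12902 = n12401 := d32_1 D12902 (iv D12401) F46821
theorem F50898 : act 6 n12902 = n12250 := d34_1 D12902 F48314 (iv F46819)
def n12903 : Q := act 7 n11896
theorem D12903 : act 7 n11896 = n12903 := rfl
theorem F50899 : act 1 n12903 = n11899 := d13_1 D12903 (iv D11899) (iv F46822)
theorem F50900 : act 2 n12903 = n12034 := d19_1 D12903 (iv D12034) (iv F46823)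
theorem F50901 : act 5 n12903 = n12241 := d31_1 D12903 (iv D12241) (iv F46825)
def n12904 : Q := act 8 n11897
theorem D12904 : act 8 n11897 = n12904 := rfl
theorem F50902 : act 1 n12904 = n12401 := d14_1 D12904 (iv D12401) (iv F46826)
theorem F50903 : act 2 n12904 = n11901 := d20_1 D12904 (iv D11901) (iv F46827)
theorem F50904 : act 3 n12904 = n12416 := d25_1 D12904 F48874 (iv F46828)
theorem F50905 : act 4 n12904 = n12242 := d29_1 D12904 (iv D12242) (iv F46829)
theorem F50906 : act 5 n12904 = n11898 := d32_1 D12904 (iv D11898) D11897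
theorem F50907 : act 6 n12904 = n12230 := d34_1 D12904 (iv D12230) (iv F46830)
def n12905 : Q := act 7 n11898
theorem D12905 : act 7 n11898 = n12905 := rfl
theorem F50908 : act 2 n12905 = n11902 := d19_1 D12905 (iv D11902) (iv F46832)
theorem F50909 : act 3 n12905 = n12413 := d24_1 D12905 (iv D12413) F44764 D11386 (iv F46833)
theorem F50910 : act 4 n12905 = n11899 := d28_1 D12905 (iv D11899) (iv F46834)
theorem F50911 : act 6 n12905 = n12414 := d33_1 D12905 F48867 (iv F46835)
def n12906 : Q := act 3 n11899
theorem D12906 : act 3 n11899 = n12906 := rfl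
theorem F50912 : act 2 n12906 = n12678 := d15_1 D12906 (iv D12678) F45949 (iv F42969) (iv F46836)
theorem F50913 : act 5 n12906 = n12244 := d22_2 (iv F46837) D12906 (iv D12244)
theorem F50914 : act 7 n12906 = n11918 := d24_2 D11899 D12906 (iv D11918) (iv D10927) (iv F42960)
def n12907 : Q := act 8 n11900
theorem D12907 : act 8 n11900 = n12907 := rfl
theorem F50915 : act 1 n12907 = n12038 := d14_1 D12907 (iv D12038) (iv F46838)
theorem F50916 : act 2 n12907 = n12230 := d20_1 D12907 (iv D12230) (iv F46839)
theorem F50917 : act 3 n12907 = n11904 := d25_1 D12907 (iv D11904) (iv F46840)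
theorem F50918 : act 4 n12907 = n12245 := d29_1 D12907 (iv D12245) (iv F46841)
theorem F50919 : act 5 n12907 = n12228 := d32_1 D12907 (iv D12228) (iv F46842)
theorem F50920 : act 6 n12907 = n11901 := d34_1 D12907 (iv D11901) D11900
def n12908 : Q := act 7 n11901
theorem D12908 : act 7 n11901 = n12908 := rfl
theorem F50921 : act 1 n12908 = n12039 := d13_1 D12908 (iv D12039) (iv F46844)
theorem F50922 : act 4 n12908 = n12246 := d28_1 D12908 (iv D12246) (iv F46846)
theorem F50923 : act 5 n12908 = n11902 := d31_1 D12908 (iv D11902) (iv F46847)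
def n12909 : Q := act 3 n11902
theorem D12909 : act 3 n11902 = n12909 := rfl
theorem F50924 : act 1 n12909 = n12040 := d9_1 D12909 (iv D12040) (iv F46848)
theorem F50925 : act 4 n12909 = n12680 := d21_2 (iv F46849) D12909 (iv D12680) F45954 (iv F42969)
theorem F50926 : act 7 n12909 = n11906 := d24_2 D11902 D12909 (iv D11906) (iv D10915) (iv F42966)
def n12910 : Q := act 3 n11903
theorem D12910 : act 3 n11903 = n12910 := rfl
theorem F50927 : act 1 n12910 = n12043 := d9_1 D12910 (iv D12043) (iv F46850)
theorem F50928 : act 2 n12910 = n12505 := d15_1 D12910 (iv D12505) F45134 D11477 (iv F46851)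
theorem F50929 : act 4 n12910 = n12503 := d21_2 (iv F46852) D12910 (iv D12503) F45127 (iv F42977)
theorem F50930 : act 5 n12910 = n12506 := d22_2 (iv F46853) D12910 F49245
theorem F50931 : act 6 n12910 = n11906 := d23_2 (iv F46854) D12910 (iv D11906)
theorem F50932 : act 8 n12910 = n12910 := d25_2 F46855 D12910 (iv D12910)
def n12911 : Q := act 3 n11905
theorem D12911 : act 3 n11905 = n12911 := rfl
theorem F50933 : act 1 n12911 = n12045 := d9_1 D12911 (iv D12045) (iv F46862)
theorem F50934 : act 2 n12911 = n12740 := d15_1 D12911 (iv D12740) F46101 D11770 (iv F46863)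
theorem F50935 : act 5 n12911 = n11906 := d22_2 (iv F46865) D12911 (iv D11906)
theorem F50936 : act 6 n12911 = n12741 := d23_2 (iv F46866) D12911 F50138
theorem F50937 : act 8 n12911 = n12911 := d25_2 F46867 D12911 (iv D12911)
def n12912 : Q := act 2 n11906
theorem D12912 : act 2 n11906 = n12912 := rfl
theorem F50938 : act 3 n12912 = n12504 := d15_2 D11906 D12912 F49238 (iv F46391) F46390
theorem F50939 : act 4 n12912 = n12683 := d16_2 (iv F46869) D12912 (iv D12683)
theorem F50940 : act 5 n12912 = n12740 := d17_2 F50935 D12912 (iv F50934)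
theorem F50941 : act 6 n12912 = n12505 := d18_2 F50931 D12912 (iv F50928)
theorem F50942 : act 8 n12912 = n12912 := d20_2 F46870 D12912 (iv D12912)
def n12913 : Q := act 4 n11908
theorem D12913 : act 4 n11908 = n12913 := rfl
theorem F50943 : act 1 n12913 = n11915 := d10_1 D12913 F46919 (iv F46877)
theorem F50944 : act 2 n12913 = n11921 := d16_1 D12913 (iv F50453) F50452
theorem F50945 : act 5 n12913 = n12136 := d26_2 (iv F46878) D12913 F47886 F45972 (iv F43000)
theorem F50946 : act 6 n12913 = n11917 := d27_2 F50443 D12913 (iv F50441)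
theorem F50947 : act 7 n12913 = n11914 := d28_2 (iv F46879) D12913 F46915
theorem F50948 : act 8 n12913 = n12913 := d29_2 F46880 D12913 (iv D12913)
def n12914 : Q := act 8 n11913
theorem D12914 : act 8 n11913 = n12914 := rfl
theorem F50949 : act 0 n12914 = n11914 := d7_1 D12914 (iv D11914) D11913
theorem F50950 : act 2 n12914 = n11920 := d20_1 D12914 (iv D11920) (iv F46908)
theorem F50951 : act 4 n12914 = n12216 := d29_1 D12914 F48187 (iv F46909)
theorem F50952 : act 5 n12914 = n12124 := d32_1 D12914 (iv D12124) (iv F46910)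
theorem F50953 : act 6 n12914 = n11916 := d34_1 D12914 (iv D11916) (iv F46911)
def n12915 : Q := act 3 n11915
theorem D12915 : act 3 n11915 = n12915 := rfl
theorem F50954 : act 2 n12915 = n12253 := d15_1 D12915 (iv D12253) F44282 (iv F43028) (iv F46918)
theorem F50955 : act 4 n12915 = n12045 := d21_2 (iv F46919) D12915 (iv D12045) F43407 D11029
theorem F50956 : act 5 n12915 = n12742 := d22_2 (iv F46920) D12915 F50141
theorem F50957 : act 6 n12915 = n11918 := d23_2 (iv F46921) D12915 (iv D11918)
theorem F50958 : act 8 n12915 = n12915 := d25_2 F46922 D12915 (iv D12915)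
def n12916 : Q := act 7 n11916
theorem D12916 : act 7 n11916 = n12916 := rfl
theorem F50959 : act 0 n12916 = n11917 := d6_1 D12916 (iv D11917) (iv F46923)
theorem F50960 : act 2 n12916 = n11922 := d19_1 D12916 (iv D11922) (iv F46924)
theorem F50961 : act 5 n12916 = n12252 := d31_1 D12916 (iv D12252) (iv F46925)
theorem F50962 : act 8 n12916 = n12916 := d35_2 D11916 D12916 (iv D12916) (iv D11916) F43033
def n12917 : Q := act 3 n11917
theorem D12917 : act 3 n11917 = n12917 := rfl
theorem F50963 : act 1 n12917 = n11918 := d9_1 D12917 (iv D11918) (iv F46926)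
theorem F50964 : act 2 n12917 = n12742 := d15_1 D12917 F50141 (iv F46899) F46900 (iv F46927)
theorem F50965 : act 4 n12917 = n12741 := d21_2 F50441 D12917 F50138 (iv F46873) (iv F50440)
theorem F50966 : act 5 n12917 = n12253 := d22_2 (iv F46928) D12917 (iv D12253)
theorem F50967 : act 8 n12917 = n12917 := d25_2 F46929 D12917 (iv D12917)
def n12918 : Q := act 4 n11918
theorem D12918 : act 4 n11918 = n12918 := rfl
theorem F50968 : act 1 n12918 = n12741 := d10_1 D12918 (iv F50965) F50963
theorem F50969 : act 2 n12918 = n12684 := d16_1 D12918 (iv D12684) (iv F46930)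
theorem F50970 : act 3 n12918 = n12044 := d21_1 D12918 F47437 (iv F46436) F46437 D11918
theorem F50971 : act 6 n12918 = n12045 := d27_2 F50957 D12918 (iv F50955)
theorem F50972 : act 8 n12918 = n12918 := d29_2 F46932 D12918 (iv D12918)
theorem F50973 : act 5 n12743 = n12918 := d36_3 D12041 (iv F47425) (iv F50143) (iv D12918) (iv D11918) (iv F46926) F46927 (iv F46900) F46904 (iv D11912) F43016 F39663 F31454 (iv F31303) F31302 F23178 F23179 (iv D4414) (iv D3231) F9620 F7209 F7208 (iv F9620) (iv F12849) (iv F17251) F17252 (iv F38417) (iv F18490) (iv F24895) F24896 D8893 (iv F41085) F41084 F32875 F24272 D6304 D8653 D10431 (iv F44781) (iv F46802) F46801 (iv F46913) F46914 F43056 (iv D10128) F31683 F23630 F38334 F17676 F13136 F9813 F7354 F5532 F4200 F3196 F2458 F2460 F2459 F1876 F1428 F1143 (iv F1513) F1515 (iv F1969) F1967 F1968 F1654 F1653 (iv F2112) (iv F2789) (iv F3683) (iv F4849) F38086 F5490 (iv F7301) (iv F38148) (iv F12931) (iv F17365) (iv F23367) (iv F31590) (iv F38154) (iv F31858) (iv F39881) F39882 D10409 F41063 (iv F44709)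 (iv F47370) F47371
def n12919 : Q := act 7 n11920
theorem D12919 : act 7 n11920 = n12919 := rfl
theorem F50974 : act 0 n12919 = n11921 := d6_1 D12919 (iv D11921) (iv F46941)
theorem F50975 : act 1 n12919 = n12876 := d13_1 D12919 (iv D12876) (iv F46942)
theorem F50976 : act 3 n12919 = n12140 := d24_1 D12919 (iv D12140) F43934 (iv F43444) (iv F46943)
theorem F50977 : act 5 n12919 = n12125 := d31_1 D12919 (iv D12125) (iv F46944)
theorem F50978 : act 6 n12919 = n11922 := d33_1 D12919 (iv D11922) (iv F46945)
theorem F50979 : act 8 n12919 = n12919 := d35_2 D11920 D12919 (iv D12919) (iv D11920) F43054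
def n12920 : Q := act 4 n11923
theorem D12920 : act 4 n11923 = n12920 := rfl
theorem F50980 : act 0 n12920 = n12547 := d3_1 D12920 F49447 F49414
theorem F50981 : act 1 n12920 = n12048 := d10_1 D12920 (iv D12048) (iv F46954)
theorem F50982 : act 2 n12920 = n11927 := d16_1 D12920 (iv D11927) (iv F46955)
theorem F50983 : act 5 n12920 = n12920 := d26_2 D11923 D12920 (iv D12920) (iv D11923) F43073
theorem F50984 : act 6 n12920 = n12301 := d27_2 (iv F46956) D12920 (iv D12301)
theorem F50985 : act 8 n12920 = n12067 := d29_2 (iv F46957) D12920 (iv D12067)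
def n12921 : Q := act 7 n11923
theorem D12921 : act 7 n11923 = n12921 := rfl
theorem F50986 : act 1 n12921 = n12049 := d13_1 D12921 (iv D12049) (iv F46954)
theorem F50987 : act 2 n12921 = n11928 := d19_1 D12921 (iv D11928) (iv F46955)
theorem F50988 : act 5 n12921 = n11924 := d31_1 D12921 (iv D11924) D11923
theorem F50989 : act 6 n12921 = n12302 := d33_1 D12921 (iv D12302) (iv F46956)
def n12922 : Q := act 3 n11924
theorem D12922 : act 3 n11924 = n12922 := rfl
theorem F50990 : act 1 n12922 = n12050 := d9_1 D12922 (iv D12050) (iv F46958)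
theorem F50991 : act 6 n12922 = n11925 := d23_2 (iv F46961) D12922 (iv D11925)
def n12923 : Q := act 8 n11924
theorem D12923 : act 8 n11924 = n12923 := rfl
theorem F50992 : act 1 n12923 = n12051 := d14_1 D12923 (iv D12051) (iv F46958)
theorem F50993 : act 2 n12923 = n11930 := d20_1 D12923 (iv D11930) (iv F46959)
theorem F50994 : act 4 n12923 = n12923 := d29_1 D12923 (iv D12923) F46960
theorem F50995 : act 6 n12923 = n11926 := d34_1 D12923 (iv D11926) (iv F46961)
theorem F50996 : act 7 n12923 = n12433 := d35_1 D12923 (iv D12433) F44839 (iv F43074) D11924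
def n12924 : Q := act 2 n11925
theorem D12924 : act 2 n11925 = n12924 := rfl
theorem F50997 : act 3 n12924 = n11931 := d15_2 D11925 D12924 (iv D11931) (iv D10939) (iv F43076)
theorem F50998 : act 5 n12924 = n12305 := d17_2 (iv F46963) D12924 (iv D12305)
def n12925 : Q := act 4 n11925
theorem D12925 : act 4 n11925 = n12925 := rfl
theorem F50999 : act 1 n12925 = n12053 := d10_1 D12925 (iv D12053) (iv F46962)
theorem F51000 : act 3 n12925 = n12925 := d21_1 D12925 (iv D12925) (iv D11925) F43077 D11925
def n12926 : Q := act 8 n11925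
theorem D12926 : act 8 n11925 = n12926 := rfl
theorem F51001 : act 1 n12926 = n12054 := d14_1 D12926 (iv D12054) (iv F46962)
theorem F51002 : act 3 n12926 = n11926 := d25_1 D12926 (iv D11926) D11925
theorem F51003 : act 5 n12926 = n12307 := d32_1 D12926 (iv D12307) (iv F46963)
def n12927 : Q := act 7 n11927
theorem D12927 : act 7 n11927 = n12927 := rfl
theorem F51004 : act 0 n12927 = n12549 := d6_1 D12927 (iv D12549) (iv F46969)
theorem F51005 : act 1 n12927 = n11967 := d13_1 D12927 (iv D11967) (iv F46970)
theorem F51006 : act 4 n12927 = n11928 := d28_1 D12927 (iv D11928) D11927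
theorem F51007 : act 5 n12927 = n12927 := d31_1 D12927 (iv D12927) F46972
theorem F51008 : act 6 n12927 = n12308 := d33_1 D12927 (iv D12308) (iv F46973)
theorem F51009 : act 3 n12084 = n12927 := d23_3 F51008 (iv F49586) F49589
def n12928 : Q := act 3 n11928
theorem D12928 : act 3 n11928 = n12928 := rfl
theorem F51010 : act 1 n12928 = n11968 := d9_1 D12928 (iv D11968) (iv F46975)
theorem F51011 : act 4 n12928 = n12117 := d21_2 F51006 D12928 F47810 (iv F47632) F51009
theorem F51012 : act 5 n12928 = n11929 := d22_2 (iv F46976) D12928 (iv D11929)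
theorem F51013 : act 6 n12928 = n12283 := d23_2 (iv F46977) D12928 F48435
theorem F51014 : act 7 n12928 = n11934 := d24_2 D11928 D12928 (iv D11934) (iv D10941) (iv F43080)
def n12929 : Q := act 8 n11928
theorem D12929 : act 8 n11928 = n12929 := rfl
theorem F51015 : act 1 n12929 = n11969 := d14_1 D12929 (iv D11969) (iv F46975)
theorem F51016 : act 5 n12929 = n11930 := d32_1 D12929 (iv D11930) (iv F46976)
theorem F51017 : act 6 n12929 = n12309 := d34_1 D12929 (iv D12309) (iv F46977)
theorem F51018 : act 7 n12929 = n12075 := d35_1 D12929 (iv D12075) F43555 (iv F43082) D11928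
def n12930 : Q := act 2 n11929
theorem D12930 : act 2 n11929 = n12930 := rfl
theorem F51019 : act 6 n12930 = n11931 := d18_2 (iv F46979) D12930 (iv D11931)
theorem F51020 : act 7 n12930 = n11936 := d19_2 (iv F46980) D12930 (iv D11936)
def n12931 : Q := act 4 n11929
theorem D12931 : act 4 n11929 = n12931 := rfl
theorem F51021 : act 1 n12931 = n11971 := d10_1 D12931 (iv D11971) (iv F46978)
theorem F51022 : act 3 n12931 = n12931 := d21_1 D12931 (iv D12931) (iv D11929) F43084 D11929
theorem F51023 : act 5 n12931 = n12661 := d26_2 F51012 D12931 (iv D12661) (iv F47811) (iv F51011)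
theorem F51024 : act 6 n12931 = n11932 := d27_2 (iv F46979) D12931 (iv D11932)
theorem F51025 : act 7 n12931 = n11937 := d28_2 (iv F46980) D12931 (iv D11937)
def n12932 : Q := act 8 n11929
theorem D12932 : act 8 n11929 = n12932 := rfl
theorem F51026 : act 1 n12932 = n11972 := d14_1 D12932 (iv D11972) (iv F46978)
theorem F51027 : act 3 n12932 = n11930 := d25_1 D12932 (iv D11930) D11929
theorem F51028 : act 6 n12932 = n11933 := d34_1 D12932 (iv D11933) (iv F46979)
def n12933 : Q := act 1 n11931
theorem D12933 : act 1 n11931 = n12933 := rfl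
theorem F51029 : act 2 n12933 = n11973 := d8_2 D11931 D12933 (iv D11973) (iv D10966) (iv F43086)
theorem F51030 : act 5 n12933 = n12313 := d11_2 (iv F46985) D12933 (iv D12313)
theorem F51031 : act 7 n12933 = n11939 := d13_2 (iv F46986) D12933 (iv D11939)
def n12934 : Q := act 4 n11931
theorem D12934 : act 4 n11931 = n12934 := rfl
theorem F51032 : act 2 n12934 = n11932 := d16_1 D12934 (iv D11932) D11931
theorem F51033 : act 7 n12934 = n11940 := d28_2 (iv F46986) D12934 (iv D11940)
def n12935 : Q := act 8 n11931
theorem D12935 : act 8 n11931 = n12935 := rfl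
theorem F51034 : act 2 n12935 = n11933 := d20_1 D12935 (iv D11933) D11931
theorem F51035 : act 5 n12935 = n12315 := d32_1 D12935 (iv D12315) (iv F46985)
def n12936 : Q := act 5 n11932
theorem D12936 : act 5 n11932 = n12936 := rfl
theorem F51036 : act 1 n12936 = n11976 := d11_1 D12936 (iv D11976) (iv F46987)
theorem F51037 : act 3 n12936 = n12936 := d22_1 D12936 (iv D12936) F46988
theorem F51038 : act 4 n12936 = n12316 := d26_1 D12936 (iv D12316) (iv D11294) (iv F43087) D11932
theorem F51039 : act 7 n12936 = n11942 := d31_2 (iv F46989) D12936 (iv D11942)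
def n12937 : Q := act 8 n11932
theorem D12937 : act 8 n11932 = n12937 := rfl
theorem F51040 : act 1 n12937 = n11977 := d14_1 D12937 (iv D11977) (iv F46987)
theorem F51041 : act 3 n12937 = n12937 := d25_1 D12937 (iv D12937) F46988
theorem F51042 : act 4 n12937 = n11933 := d29_1 D12937 (iv D11933) D11932
def n12938 : Q := act 7 n11933
theorem D12938 : act 7 n11933 = n12938 := rfl
theorem F51043 : act 1 n12938 = n11978 := d13_1 D12938 (iv D11978) (iv F46990)
theorem F51044 : act 3 n12938 = n12692 := d24_1 D12938 (iv D12692) F45988 (iv F43092) (iv F46991)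
theorem F51045 : act 5 n12938 = n12318 := d31_1 D12938 (iv D12318) (iv F46992)
theorem F51046 : act 8 n12938 = n11944 := d35_2 D11933 D12938 (iv D11944) (iv D10946) (iv F43088)
def n12939 : Q := act 2 n11934
theorem D12939 : act 2 n11934 = n12939 := rfl
theorem F51047 : act 1 n12939 = n12259 := d8_1 D12939 (iv D12259) F44309 (iv F43189) (iv F46993)
theorem F51048 : act 5 n12939 = n11936 := d17_2 (iv F46994) D12939 (iv D11936)
theorem F51049 : act 6 n12939 = n12261 := d18_2 (iv F46995) D12939 F48347
def n12940 : Q := act 4 n11934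
theorem D12940 : act 4 n11934 = n12940 := rfl
theorem F51050 : act 1 n12940 = n11979 := d10_1 D12940 (iv D11979) (iv F46993)
theorem F51051 : act 3 n12940 = n12940 := d21_1 D12940 (iv D12940) (iv D11934) F43094 D11934
theorem F51052 : act 6 n12940 = n12287 := d27_2 (iv F46995) D12940 (iv D12287)
theorem F51053 : act 7 n12940 = n12117 := d28_2 F51014 D12940 (iv F51011)
theorem F51054 : act 5 n12657 = n12940 := d37_1 (iv F49883) (iv D12940) (iv D11934) (iv F43266) (iv D10989) F39847 F31654 F38239 F17854 F13261 F10587 F7919 F5945 (iv F38848) F7824 (iv D1904) F5867 F4413 (iv F4152) F4151 (iv F5407) (iv D1277) (iv D939) (iv D695) F2340 F2339 (iv F2371) (iv D520) F1804 F1803 F1802 F1372 F1299 F1298 D287 F1378 F1377 D289 D389 D526 D715 F3184 F2443 D542 D737 F3263 F38119 F3696 (iv F3679) (iv F4261) (iv F5598) (iv F7452) (iv F9956) (iv F13184) (iv F17718) D6186 F23889 (iv F32332) D10257 D11175 D12195 F48112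
def n12941 : Q := act 8 n11934
theorem D12941 : act 8 n11934 = n12941 := rfl
theorem F51055 : act 1 n12941 = n11980 := d14_1 D12941 (iv D11980) (iv F46993)
theorem F51056 : act 3 n12941 = n11935 := d25_1 D12941 (iv D11935) D11934
theorem F51057 : act 5 n12941 = n11938 := d32_1 D12941 (iv D11938) (iv F46994)
theorem F51058 : act 6 n12941 = n12288 := d34_1 D12941 (iv D12288) (iv F46995)
def n12942 : Q := act 1 n11936
theorem D12942 : act 1 n11936 = n12942 := rfl
theorem F51059 : act 2 n12942 = n11981 := d8_2 D11936 D12942 (iv D11981) (iv D10971) (iv F43097)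
theorem F51060 : act 3 n12942 = n12939 := d9_2 F48342 D12942 F51047
theorem F51061 : act 5 n12942 = n12259 := d11_2 F51048 D12942 (iv F51047)
theorem F51062 : act 6 n12942 = n11939 := d12_2 (iv F47001) D12942 (iv D11939)
def n12943 : Q := act 4 n11936
theorem D12943 : act 4 n11936 = n12943 := rfl
theorem F51063 : act 2 n12943 = n11937 := d16_1 D12943 (iv D11937) D11936
theorem F51064 : act 6 n12943 = n11940 := d27_2 (iv F47001) D12943 (iv D11940)
def n12944 : Q := act 8 n11936
theorem D12944 : act 8 n11936 = n12944 := rfl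
theorem F51065 : act 2 n12944 = n11938 := d20_1 D12944 (iv D11938) D11936
theorem F51066 : act 6 n12944 = n11941 := d34_1 D12944 (iv D11941) (iv F47001)
def n12945 : Q := act 5 n11937
theorem D12945 : act 5 n11937 = n12945 := rfl
theorem F51067 : act 0 n12945 = n12590 := d4_1 D12945 F50513 F50509
theorem F51068 : act 1 n12945 = n11984 := d11_1 D12945 (iv D11984) (iv F47002)
theorem F51069 : act 3 n12945 = n11947 := d22_1 D12945 (iv D11947) (iv F47003)
theorem F51070 : act 4 n12945 = n12657 := d26_1 D12945 F51054 (iv D12940) F46994 D11937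
theorem F51071 : act 7 n12945 = n12661 := d31_2 F51025 D12945 (iv F51023)
def n12946 : Q := act 8 n11937
theorem D12946 : act 8 n11937 = n12946 := rfl
theorem F51072 : act 1 n12946 = n11985 := d14_1 D12946 (iv D11985) (iv F47002)
theorem F51073 : act 3 n12946 = n11948 := d25_1 D12946 (iv D11948) (iv F47003)
theorem F51074 : act 4 n12946 = n11938 := d29_1 D12946 (iv D11938) D11937
theorem F51075 : act 6 n12946 = n11943 := d34_1 D12946 (iv D11943) (iv F47004)
def n12947 : Q := act 7 n11938
theorem D12947 : act 7 n11938 = n12947 := rfl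
theorem F51076 : act 1 n12947 = n11986 := d13_1 D12947 (iv D11986) (iv F47005)
theorem F51077 : act 3 n12947 = n12382 := d24_1 D12947 (iv D12382) F44637 (iv F43102) (iv F47006)
theorem F51078 : act 6 n12947 = n11944 := d33_1 D12947 (iv D11944) (iv F47007)
def n12948 : Q := act 0 n11939
theorem D12948 : act 0 n11939 = n12948 := rfl
theorem F51079 : act 2 n12948 = n11987 := d1_2 (iv F47008) D12948 (iv D11987)
theorem F51080 : act 5 n12948 = n12324 := d4_2 (iv F47009) D12948 (iv D12324)
def n12949 : Q := act 4 n11939
theorem D12949 : act 4 n11939 = n12949 := rfl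
theorem F51081 : act 1 n12949 = n11940 := d10_1 D12949 (iv D11940) D11939
theorem F51082 : act 2 n12949 = n11988 := d16_1 D12949 (iv D11988) (iv F47008)
def n12950 : Q := act 8 n11939
theorem D12950 : act 8 n11939 = n12950 := rfl
theorem F51083 : act 1 n12950 = n11941 := d14_1 D12950 (iv D11941) D11939
theorem F51084 : act 2 n12950 = n11989 := d20_1 D12950 (iv D11989) (iv F47008)
theorem F51085 : act 5 n12950 = n12326 := d32_1 D12950 (iv D12326) (iv F47009)
def n12951 : Q := act 3 n11940
theorem D12951 : act 3 n11940 = n12951 := rfl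
theorem F51086 : act 2 n12951 = n11950 := d15_1 D12951 (iv D11950) F43121 (iv F43105) (iv F47010)
def n12952 : Q := act 5 n11940
theorem D12952 : act 5 n11940 = n12952 := rfl
theorem F51087 : act 2 n12952 = n11942 := d17_1 D12952 (iv D11942) (iv F47010)
theorem F51088 : act 4 n12952 = n12328 := d26_1 D12952 (iv D12328) (iv D11300) (iv F43103) D11940
def n12953 : Q := act 8 n11940
theorem D12953 : act 8 n11940 = n12953 := rfl
theorem F51089 : act 2 n12953 = n11943 := d20_1 D12953 (iv D11943) (iv F47010)
theorem F51090 : act 4 n12953 = n11941 := d29_1 D12953 (iv D11941) D11940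
def n12954 : Q := act 7 n11941
theorem D12954 : act 7 n11941 = n12954 := rfl
theorem F51091 : act 2 n12954 = n11944 := d19_1 D12954 (iv D11944) (iv F47011)
theorem F51092 : act 5 n12954 = n12330 := d31_1 D12954 (iv D12330) (iv F47012)
def n12955 : Q := act 6 n11942
theorem D12955 : act 6 n11942 = n12955 := rfl
theorem F51093 : act 1 n12955 = n11993 := d12_1 D12955 (iv D11993) (iv F47013)
theorem F51094 : act 3 n12955 = n11954 := d23_1 D12955 (iv D11954) (iv F47014)
theorem F51095 : act 4 n12955 = n12331 := d27_1 D12955 (iv D12331) (iv F47015)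
def n12956 : Q := act 8 n11942
theorem D12956 : act 8 n11942 = n12956 := rfl
theorem F51096 : act 1 n12956 = n11994 := d14_1 D12956 (iv D11994) (iv F47013)
theorem F51097 : act 3 n12956 = n11955 := d25_1 D12956 (iv D11955) (iv F47014)
theorem F51098 : act 4 n12956 = n12332 := d29_1 D12956 (iv D12332) (iv F47015)
theorem F51099 : act 5 n12956 = n11943 := d32_1 D12956 (iv D11943) D11942
def n12957 : Q := act 7 n11943
theorem D12957 : act 7 n11943 = n12957 := rfl
theorem F51100 : act 1 n12957 = n11995 := d13_1 D12957 (iv D11995) (iv F47016)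
theorem F51101 : act 4 n12957 = n11944 := d28_1 D12957 (iv D11944) (iv F47018)
def n12958 : Q := act 3 n11945
theorem D12958 : act 3 n11945 = n12958 := rfl
theorem F51102 : act 1 n12958 = n12958 := d9_1 D12958 (iv D12958) F47022
theorem F51103 : act 6 n12958 = n11950 := d23_2 (iv F47024) D12958 (iv D11950)
def n12959 : Q := act 5 n11945
theorem D12959 : act 5 n11945 = n12959 := rfl
theorem F51104 : act 0 n12959 = n12624 := d4_1 D12959 F49743 F49403
theorem F51105 : act 1 n12959 = n12959 := d11_1 D12959 (iv D12959) F47022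
theorem F51106 : act 2 n12959 = n11947 := d17_1 D12959 (iv D11947) (iv F47023)
theorem F51107 : act 4 n12959 = n12959 := d26_1 D12959 (iv D12959) (iv D11945) F43110 D11945
theorem F51108 : act 7 n12959 = n12959 := d31_2 F47025 D12959 (iv D12959)
def n12960 : Q := act 8 n11945
theorem D12960 : act 8 n11945 = n12960 := rfl
theorem F51109 : act 1 n12960 = n12960 := d14_1 D12960 (iv D12960) F47022
theorem F51110 : act 2 n12960 = n11948 := d20_1 D12960 (iv D11948) (iv F47023)
theorem F51111 : act 4 n12960 = n11946 := d29_1 D12960 (iv D11946) D11945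
theorem F51112 : act 6 n12960 = n11952 := d34_1 D12960 (iv D11952) (iv F47024)
def n12961 : Q := act 7 n11946
theorem D12961 : act 7 n11946 = n12961 := rfl
theorem F51113 : act 1 n12961 = n12961 := d13_1 D12961 (iv D12961) F47026
theorem F51114 : act 2 n12961 = n11949 := d19_1 D12961 (iv D11949) (iv F47027)
theorem F51115 : act 5 n12961 = n12961 := d31_1 D12961 (iv D12961) F47028
theorem F51116 : act 6 n12961 = n11953 := d33_1 D12961 (iv D11953) (iv F47029)
theorem F51117 : act 8 n12961 = n12961 := d35_2 D11946 D12961 (iv D12961) (iv D11946) F43112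
def n12962 : Q := act 6 n11947
theorem D12962 : act 6 n11947 = n12962 := rfl
theorem F51118 : act 0 n12962 = n12628 := d5_1 D12962 F49766 (iv F47030)
theorem F51119 : act 1 n12962 = n11996 := d12_1 D12962 (iv D11996) (iv F47031)
theorem F51120 : act 4 n12962 = n12962 := d27_1 D12962 (iv D12962) F47032
theorem F51121 : act 5 n12962 = n11954 := d30_1 D12962 (iv D11954) (iv D10952) (iv F43114) D11947
theorem F51122 : act 7 n12962 = n12962 := d33_2 F47033 D12962 (iv D12962)
def n12963 : Q := act 8 n11947
theorem D12963 : act 8 n11947 = n12963 := rfl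
theorem F51123 : act 0 n12963 = n12497 := d7_1 D12963 F49210 (iv F47030)
theorem F51124 : act 1 n12963 = n11997 := d14_1 D12963 (iv D11997) (iv F47031)
theorem F51125 : act 4 n12963 = n12963 := d29_1 D12963 (iv D12963) F47032
theorem F51126 : act 5 n12963 = n11948 := d32_1 D12963 (iv D11948) D11947
def n12964 : Q := act 7 n11948
theorem D12964 : act 7 n11948 = n12964 := rfl
theorem F51127 : act 1 n12964 = n11998 := d13_1 D12964 (iv D11998) (iv F47034)
theorem F51128 : act 4 n12964 = n11949 := d28_1 D12964 (iv D11949) (iv F47035)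
theorem F51129 : act 6 n12964 = n11956 := d33_1 D12964 (iv D11956) (iv F47036)
theorem F51130 : act 8 n12964 = n12964 := d35_2 D11948 D12964 (iv D12964) (iv D11948) F43115
def n12965 : Q := act 5 n11950
theorem D12965 : act 5 n11950 = n12965 := rfl
theorem F51131 : act 1 n12965 = n12965 := d11_1 D12965 (iv D12965) F47042
theorem F51132 : act 3 n12965 = n11951 := d22_1 D12965 (iv D11951) D11950
def n12966 : Q := act 7 n11950
theorem D12966 : act 7 n11950 = n12966 := rfl
theorem F51133 : act 1 n12966 = n12966 := d13_1 D12966 (iv D12966) F47042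
theorem F51134 : act 3 n12966 = n12966 := d24_1 D12966 (iv D12966) (iv D11950) F43122 D11950
def n12967 : Q := act 8 n11950
theorem D12967 : act 8 n11950 = n12967 := rfl
theorem F51135 : act 1 n12967 = n12967 := d14_1 D12967 (iv D12967) F47042
theorem F51136 : act 3 n12967 = n11952 := d25_1 D12967 (iv D11952) D11950
def n12968 : Q := act 6 n11951
theorem D12968 : act 6 n11951 = n12968 := rfl
theorem F51137 : act 1 n12968 = n12968 := d12_1 D12968 (iv D12968) F47043
theorem F51138 : act 2 n12968 = n11954 := d18_1 D12968 (iv D11954) (iv F47044)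
theorem F51139 : act 4 n12968 = n11960 := d27_1 D12968 (iv D11960) (iv F47045)
theorem F51140 : act 7 n12968 = n12968 := d33_2 F47046 D12968 (iv D12968)
def n12969 : Q := act 8 n11951
theorem D12969 : act 8 n11951 = n12969 := rfl
theorem F51141 : act 1 n12969 = n12969 := d14_1 D12969 (iv D12969) F47043
theorem F51142 : act 2 n12969 = n11955 := d20_1 D12969 (iv D11955) (iv F47044)
theorem F51143 : act 4 n12969 = n11961 := d29_1 D12969 (iv D11961) (iv F47045)
theorem F51144 : act 5 n12969 = n11952 := d32_1 D12969 (iv D11952) D11951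
def n12970 : Q := act 7 n11952
theorem D12970 : act 7 n11952 = n12970 := rfl
theorem F51145 : act 1 n12970 = n12970 := d13_1 D12970 (iv D12970) F47047
theorem F51146 : act 2 n12970 = n11956 := d19_1 D12970 (iv D11956) (iv F47048)
theorem F51147 : act 4 n12970 = n11953 := d28_1 D12970 (iv D11953) (iv F47049)
theorem F51148 : act 8 n12970 = n12970 := d35_2 D11952 D12970 (iv D12970) (iv D11952) F43122
def n12971 : Q := act 3 n11953
theorem D12971 : act 3 n11953 = n12971 := rfl
theorem F51149 : act 1 n12971 = n12971 := d9_1 D12971 (iv D12971) F47050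
theorem F51150 : act 2 n12971 = n12706 := d15_1 D12971 (iv D12706) F46008 (iv F43132) (iv F47051)
theorem F51151 : act 5 n12971 = n11963 := d22_2 (iv F47052) D12971 (iv D11963)
theorem F51152 : act 8 n12971 = n12971 := d25_2 F47053 D12971 (iv D12971)
def n12972 : Q := act 8 n11954
theorem D12972 : act 8 n11954 = n12972 := rfl
theorem F51153 : act 1 n12972 = n11999 := d14_1 D12972 (iv D11999) (iv F47054)
theorem F51154 : act 4 n12972 = n11964 := d29_1 D12972 (iv D11964) (iv F47055)
theorem F51155 : act 6 n12972 = n11955 := d34_1 D12972 (iv D11955) D11954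
def n12973 : Q := act 7 n11955
theorem D12973 : act 7 n11955 = n12973 := rfl
theorem F51156 : act 1 n12973 = n12000 := d13_1 D12973 (iv D12000) (iv F47057)
theorem F51157 : act 4 n12973 = n11965 := d28_1 D12973 (iv D11965) (iv F47058)
theorem F51158 : act 5 n12973 = n11956 := d31_1 D12973 (iv D11956) (iv F47059)
theorem F51159 : act 8 n12973 = n12973 := d35_2 D11955 D12973 (iv D12973) (iv D11955) F43128
def n12974 : Q := act 3 n11956
theorem D12974 : act 3 n11956 = n12974 := rfl
theorem F51160 : act 1 n12974 = n12001 := d9_1 D12974 (iv D12001) (iv F47060)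
theorem F51161 : act 4 n12974 = n12709 := d21_2 (iv F47061) D12974 (iv D12709) F46018 (iv F43132)
theorem F51162 : act 8 n12974 = n12974 := d25_2 F47062 D12974 (iv D12974)
def n12975 : Q := act 4 n11957
theorem D12975 : act 4 n11957 = n12975 := rfl
theorem F51163 : act 1 n12975 = n12975 := d10_1 D12975 (iv D12975) F47063
theorem F51164 : act 2 n12975 = n12351 := d16_1 D12975 (iv D12351) (iv F47064)
def n12976 : Q := act 6 n11957
theorem D12976 : act 6 n11957 = n12976 := rfl
theorem F51165 : act 1 n12976 = n12976 := d12_1 D12976 (iv D12976) F47063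
theorem F51166 : act 2 n12976 = n12352 := d18_1 D12976 (iv D12352) (iv F47064)
theorem F51167 : act 3 n12976 = n11960 := d23_1 D12976 (iv D11960) (iv F47065)
theorem F51168 : act 5 n12976 = n12976 := d30_1 D12976 (iv D12976) (iv D11957) F43137 D11957
def n12977 : Q := act 7 n11957
theorem D12977 : act 7 n11957 = n12977 := rfl
theorem F51169 : act 1 n12977 = n12977 := d13_1 D12977 (iv D12977) F47063
theorem F51170 : act 2 n12977 = n12353 := d19_1 D12977 (iv D12353) (iv F47064)
theorem F51171 : act 3 n12977 = n12977 := d24_1 D12977 (iv D12977) F47065 F43140 (iv F47065)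
theorem F51172 : act 5 n12977 = n11958 := d31_1 D12977 (iv D11958) D11957
def n12978 : Q := act 8 n11957
theorem D12978 : act 8 n11957 = n12978 := rfl
theorem F51173 : act 1 n12978 = n12978 := d14_1 D12978 (iv D12978) F47063
theorem F51174 : act 2 n12978 = n12354 := d20_1 D12978 (iv D12354) (iv F47064)
theorem F51175 : act 3 n12978 = n11961 := d25_1 D12978 (iv D11961) (iv F47065)
theorem F51176 : act 5 n12978 = n11959 := d32_1 D12978 (iv D11959) D11957
def n12979 : Q := act 8 n11960
theorem D12979 : act 8 n11960 = n12979 := rfl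
theorem F51177 : act 1 n12979 = n12979 := d14_1 D12979 (iv D12979) F47074
theorem F51178 : act 2 n12979 = n11964 := d20_1 D12979 (iv D11964) (iv F47075)
theorem F51179 : act 5 n12979 = n12979 := d32_1 D12979 (iv D12979) F47076
theorem F51180 : act 6 n12979 = n11961 := d34_1 D12979 (iv D11961) D11960
def n12980 : Q := act 7 n11961
theorem D12980 : act 7 n11961 = n12980 := rfl
theorem F51181 : act 1 n12980 = n12980 := d13_1 D12980 (iv D12980) F47078
theorem F51182 : act 2 n12980 = n11965 := d19_1 D12980 (iv D11965) (iv F47079)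
theorem F51183 : act 5 n12980 = n11962 := d31_1 D12980 (iv D11962) (iv F47080)
theorem F51184 : act 8 n12980 = n12980 := d35_2 D11961 D12980 (iv D12980) (iv D11961) F43140
def n12981 : Q := act 7 n11964
theorem D12981 : act 7 n11964 = n12981 := rfl
theorem F51185 : act 1 n12981 = n12002 := d13_1 D12981 (iv D12002) (iv F47090)
theorem F51186 : act 5 n12981 = n12981 := d31_1 D12981 (iv D12981) F47092
theorem F51187 : act 6 n12981 = n11965 := d33_1 D12981 (iv D11965) (iv F47093)
theorem F51188 : act 8 n12981 = n12981 := d35_2 D11964 D12981 (iv D12981) (iv D11964) F43152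
def n12982 : Q := act 3 n11965
theorem D12982 : act 3 n11965 = n12982 := rfl
theorem F51189 : act 1 n12982 = n12003 := d9_1 D12982 (iv D12003) (iv F47094)
theorem F51190 : act 5 n12982 = n11966 := d22_2 (iv F47095) D12982 (iv D11966)
theorem F51191 : act 7 n12982 = n12362 := d24_2 D11965 D12982 (iv D12362) (iv D11325) (iv F43154)
theorem F51192 : act 8 n12982 = n12982 := d25_2 F47096 D12982 (iv D12982)
def n12983 : Q := act 8 n11967
theorem D12983 : act 8 n11967 = n12983 := rfl
theorem F51193 : act 0 n12983 = n12008 := d7_1 D12983 (iv D12008) (iv F47102)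
theorem F51194 : act 2 n12983 = n12069 := d20_1 D12983 (iv D12069) (iv F47103)
theorem F51195 : act 3 n12983 = n12085 := d25_1 D12983 (iv D12085) (iv F47107)
theorem F51196 : act 4 n12983 = n11969 := d29_1 D12983 (iv D11969) (iv F47104)
theorem F51197 : act 5 n12983 = n12983 := d32_1 D12983 (iv D12983) F47105
theorem F51198 : act 6 n12983 = n12121 := d34_1 D12983 F47827 (iv F47106)
theorem F51199 : act 7 n12983 = n12076 := d35_1 D12983 (iv D12076) F43560 (iv F43165) D11967
def n12984 : Q := act 8 n11968
theorem D12984 : act 8 n11968 = n12984 := rfl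
theorem F51200 : act 0 n12984 = n12009 := d7_1 D12984 (iv D12009) (iv F47108)
theorem F51201 : act 2 n12984 = n12119 := d20_1 D12984 (iv D12119) (iv F47109)
theorem F51202 : act 3 n12984 = n11969 := d25_1 D12984 (iv D11969) D11968
theorem F51203 : act 4 n12984 = n12118 := d29_1 D12984 (iv D12118) (iv F47110)
theorem F51204 : act 5 n12984 = n11972 := d32_1 D12984 (iv D11972) (iv F47111)
theorem F51205 : act 6 n12984 = n12284 := d34_1 D12984 (iv D12284) (iv F47112)
def n12985 : Q := act 1 n11970
theorem D12985 : act 1 n11970 = n12985 := rfl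
theorem F51206 : act 0 n12985 = n12264 := d0_1 D12985 F48354 F44398 F43303 (iv F47119)
theorem F51207 : act 3 n12985 = n12070 := d9_2 (iv F47120) D12985 (iv D12070)
theorem F51208 : act 4 n12985 = n12637 := d10_2 F47124 D12985 F49792
theorem F51209 : act 5 n12985 = n12103 := d11_2 (iv F47121) D12985 F47745
theorem F51210 : act 6 n12985 = n11973 := d12_2 (iv F47122) D12985 (iv D11973)
theorem F51211 : act 7 n12985 = n11981 := d13_2 (iv F47123) D12985 (iv D11981)
def n12986 : Q := act 8 n11970
theorem D12986 : act 8 n11970 = n12986 := rfl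
theorem F51212 : act 0 n12986 = n12010 := d7_1 D12986 (iv D12010) (iv F47119)
theorem F51213 : act 2 n12986 = n11972 := d20_1 D12986 (iv D11972) D11970
theorem F51214 : act 3 n12986 = n12071 := d25_1 D12986 (iv D12071) (iv F47120)
theorem F51215 : act 4 n12986 = n12665 := d29_1 D12986 (iv D12665) F47124
theorem F51216 : act 5 n12986 = n12119 := d32_1 D12986 (iv D12119) (iv F47121)
theorem F51217 : act 6 n12986 = n11975 := d34_1 D12986 (iv D11975) (iv F47122)
def n12987 : Q := act 8 n11971
theorem D12987 : act 8 n11971 = n12987 := rfl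
theorem F51218 : act 0 n12987 = n12011 := d7_1 D12987 (iv D12011) (iv F47125)
theorem F51219 : act 2 n12987 = n12665 := d20_1 D12987 (iv D12665) (iv F47126)
theorem F51220 : act 3 n12987 = n12987 := d25_1 D12987 (iv D12987) F47127
theorem F51221 : act 4 n12987 = n11972 := d29_1 D12987 (iv D11972) D11971
theorem F51222 : act 5 n12987 = n12663 := d32_1 D12987 (iv D12663) (iv F47128)
theorem F51223 : act 6 n12987 = n11977 := d34_1 D12987 (iv D11977) (iv F47129)
def n12988 : Q := act 7 n11972
theorem D12988 : act 7 n11972 = n12988 := rfl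
theorem F51224 : act 0 n12988 = n12012 := d6_1 D12988 (iv D12012) (iv F47131)
theorem F51225 : act 3 n12988 = n12371 := d24_1 D12988 (iv D12371) F44609 (iv F43177) (iv F47132)
theorem F51226 : act 6 n12988 = n11978 := d33_1 D12988 (iv D11978) (iv F47133)
theorem F51227 : act 8 n12988 = n11986 := d35_2 D11972 D12988 (iv D11986) (iv D10973) (iv F43172)
def n12989 : Q := act 0 n11973
theorem D12989 : act 0 n11973 = n12989 := rfl
theorem F51228 : act 1 n12989 = n12013 := d0_2 D11973 D12989 (iv D12013) (iv D10999) (iv F43178)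
theorem F51229 : act 3 n12989 = n12073 := d2_2 (iv F47134) D12989 (iv D12073)
theorem F51230 : act 5 n12989 = n12366 := d4_2 (iv F47135) D12989 (iv D12366)
theorem F51231 : act 6 n12989 = n12264 := d5_2 F51210 D12989 (iv F51206)
theorem F51232 : act 7 n12989 = n11987 := d6_2 (iv F47136) D12989 (iv D11987)
theorem F51233 : act 4 n12697 = n12989 := d27_3 F51231 F48356 D12697
def n12990 : Q := act 4 n11973
theorem D12990 : act 4 n11973 = n12990 := rfl
theorem F51234 : act 0 n12990 = n12697 := d3_1 D12990 F51233 (iv D12989)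
theorem F51235 : act 1 n12990 = n11974 := d10_1 D12990 (iv D11974) D11973
theorem F51236 : act 3 n12990 = n12644 := d21_1 D12990 F49819 F47581 (iv D12074) (iv F47134)
theorem F51237 : act 6 n12990 = n12637 := d27_2 F51210 D12990 (iv F51208)
theorem F51238 : act 7 n12990 = n11988 := d28_2 (iv F47136) D12990 (iv D11988)
def n12991 : Q := act 8 n11973
theorem D12991 : act 8 n11973 = n12991 := rfl
theorem F51239 : act 1 n12991 = n11975 := d14_1 D12991 (iv D11975) D11973
theorem F51240 : act 3 n12991 = n12075 := d25_1 D12991 (iv D12075) (iv F47134)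
theorem F51241 : act 5 n12991 = n12368 := d32_1 D12991 (iv D12368) (iv F47135)
def n12992 : Q := act 5 n11974
theorem D12992 : act 5 n11974 = n12992 := rfl
theorem F51242 : act 0 n12992 = n12015 := d4_1 D12992 (iv D12015) (iv F47137)
theorem F51243 : act 2 n12992 = n11976 := d17_1 D12992 (iv D11976) (iv F47138)
theorem F51244 : act 3 n12992 = n12498 := d22_1 D12992 F49214 (iv F47139)
theorem F51245 : act 4 n12992 = n12369 := d26_1 D12992 (iv D12369) (iv D11332) (iv F43180) D11974
theorem F51246 : act 6 n12992 = n12405 := d30_2 (iv F47140) D12992 (iv D12405) F44743 D11662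
theorem F51247 : act 7 n12992 = n11990 := d31_2 (iv F47141) D12992 (iv D11990)
def n12993 : Q := act 8 n11974
theorem D12993 : act 8 n11974 = n12993 := rfl
theorem F51248 : act 0 n12993 = n12016 := d7_1 D12993 (iv D12016) (iv F47137)
theorem F51249 : act 2 n12993 = n11977 := d20_1 D12993 (iv D11977) (iv F47138)
theorem F51250 : act 3 n12993 = n12667 := d25_1 D12993 (iv D12667) (iv F47139)
theorem F51251 : act 4 n12993 = n11975 := d29_1 D12993 (iv D11975) D11974
theorem F51252 : act 6 n12993 = n12665 := d34_1 D12993 (iv D12665) (iv F47140)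
def n12994 : Q := act 7 n11975
theorem D12994 : act 7 n11975 = n12994 := rfl
theorem F51253 : act 0 n12994 = n12017 := d6_1 D12994 (iv D12017) (iv F47142)
theorem F51254 : act 2 n12994 = n11978 := d19_1 D12994 (iv D11978) (iv F47143)
theorem F51255 : act 5 n12994 = n12371 := d31_1 D12994 (iv D12371) (iv F47145)
theorem F51256 : act 8 n12994 = n11992 := d35_2 D11975 D12994 (iv D11992) (iv D10976) (iv F43181)
def n12995 : Q := act 6 n11976
theorem D12995 : act 6 n11976 = n12995 := rfl
theorem F51257 : act 0 n12995 = n12018 := d5_1 D12995 (iv D12018) (iv F47146)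
theorem F51258 : act 2 n12995 = n12405 := d18_1 D12995 (iv F51246) F51243
theorem F51259 : act 3 n12995 = n12995 := d23_1 D12995 (iv D12995) F47147
theorem F51260 : act 4 n12995 = n12372 := d27_1 D12995 (iv D12372) (iv F47148)
theorem F51261 : act 5 n12995 = n12238 := d30_1 D12995 F48270 (iv F47128) F47129 D11976
theorem F51262 : act 7 n12995 = n11993 := d33_2 (iv F47149) D12995 (iv D11993)
def n12996 : Q := act 8 n11976
theorem D12996 : act 8 n11976 = n12996 := rfl
theorem F51263 : act 0 n12996 = n12019 := d7_1 D12996 (iv D12019) (iv F47146)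
theorem F51264 : act 3 n12996 = n12996 := d25_1 D12996 (iv D12996) F47147
theorem F51265 : act 4 n12996 = n12373 := d29_1 D12996 (iv D12373) (iv F47148)
theorem F51266 : act 5 n12996 = n11977 := d32_1 D12996 (iv D11977) D11976
def n12997 : Q := act 7 n11977
theorem D12997 : act 7 n11977 = n12997 := rfl
theorem F51267 : act 0 n12997 = n12020 := d6_1 D12997 (iv D12020) (iv F47150)
theorem F51268 : act 4 n12997 = n11978 := d28_1 D12997 (iv D11978) (iv F47152)
theorem F51269 : act 8 n12997 = n11995 := d35_2 D11977 D12997 (iv D11995) (iv D10978) (iv F43184)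
def n12998 : Q := act 8 n11979
theorem D12998 : act 8 n11979 = n12998 := rfl
theorem F51270 : act 0 n12998 = n12021 := d7_1 D12998 (iv D12021) (iv F47157)
theorem F51271 : act 2 n12998 = n12114 := d20_1 D12998 (iv D12114) (iv F47158)
theorem F51272 : act 3 n12998 = n12998 := d25_1 D12998 (iv D12998) F47159
theorem F51273 : act 4 n12998 = n11980 := d29_1 D12998 (iv D11980) D11979
theorem F51274 : act 5 n12998 = n12658 := d32_1 D12998 (iv D12658) F47162
theorem F51275 : act 6 n12998 = n12290 := d34_1 D12998 (iv D12290) (iv F47160)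
def n12999 : Q := act 7 n11980
theorem D12999 : act 7 n11980 = n12999 := rfl
theorem F51276 : act 0 n12999 = n12022 := d6_1 D12999 (iv D12022) (iv F47163)
theorem F51277 : act 2 n12999 = n12286 := d19_1 D12999 (iv D12286) (iv F47164)
theorem F51278 : act 3 n12999 = n11992 := d24_1 D12999 (iv D11992) F43215 (iv F43197) (iv F47165)
theorem F51279 : act 5 n12999 = n11986 := d31_1 D12999 (iv D11986) (iv F47166)
theorem F51280 : act 6 n12999 = n12291 := d33_1 D12999 (iv D12291) (iv F47167)
def n13000 : Q := act 0 n11981
theorem D13000 : act 0 n11981 = n13000 := rfl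
theorem F51281 : act 1 n13000 = n12023 := d0_2 D11981 D13000 (iv D12023) (iv D11007) (iv F43198)
theorem F51282 : act 3 n13000 = n12005 := d2_2 (iv F47168) D13000 (iv D12005)
theorem F51283 : act 5 n13000 = n12100 := d4_2 (iv F47169) D13000 F47730
theorem F51284 : act 6 n13000 = n11987 := d5_2 (iv F47170) D13000 (iv D11987)
theorem F51285 : act 7 n13000 = n12264 := d6_2 F51211 D13000 (iv F51206)
theorem F51286 : act 4 n12690 = n13000 := d28_3 F51285 F48356 (iv F49974)
def n13001 : Q := act 4 n11981
theorem D13001 : act 4 n11981 = n13001 := rfl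
theorem F51287 : act 0 n13001 = n12690 := d3_1 D13001 F51286 (iv D13000)
theorem F51288 : act 1 n13001 = n11982 := d10_1 D13001 (iv D11982) D11981
theorem F51289 : act 3 n13001 = n13001 := d21_1 D13001 (iv D13001) F47168 F43267 (iv F47168)
theorem F51290 : act 5 n13001 = n12632 := d26_2 (iv F47169) D13001 (iv D12632) (iv F47721) F47720
theorem F51291 : act 6 n13001 = n11988 := d27_2 (iv F47170) D13001 (iv D11988)
theorem F51292 : act 7 n13001 = n12637 := d28_2 F51211 D13001 (iv F51208)
def n13002 : Q := act 8 n11981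
theorem D13002 : act 8 n11981 = n13002 := rfl
theorem F51293 : act 1 n13002 = n11983 := d14_1 D13002 (iv D11983) D11981
theorem F51294 : act 3 n13002 = n12006 := d25_1 D13002 (iv D12006) (iv F47168)
theorem F51295 : act 5 n13002 = n12260 := d32_1 D13002 (iv D12260) (iv F47169)
theorem F51296 : act 6 n13002 = n11989 := d34_1 D13002 (iv D11989) (iv F47170)
def n13003 : Q := act 8 n11982
theorem D13003 : act 8 n11982 = n13003 := rfl
theorem F51297 : act 0 n13003 = n12025 := d7_1 D13003 (iv D12025) (iv F47171)
theorem F51298 : act 2 n13003 = n11985 := d20_1 D13003 (iv D11985) (iv F47172)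
theorem F51299 : act 3 n13003 = n13003 := d25_1 D13003 (iv D13003) F47173
theorem F51300 : act 4 n13003 = n11983 := d29_1 D13003 (iv D11983) D11982
theorem F51301 : act 5 n13003 = n12659 := d32_1 D13003 (iv D12659) (iv F47174)
theorem F51302 : act 6 n13003 = n11991 := d34_1 D13003 (iv D11991) (iv F47175)
def n13004 : Q := act 7 n11983
theorem D13004 : act 7 n11983 = n13004 := rfl
theorem F51303 : act 0 n13004 = n12026 := d6_1 D13004 (iv D12026) (iv F47177)
theorem F51304 : act 2 n13004 = n11986 := d19_1 D13004 (iv D11986) (iv F47178)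
theorem F51305 : act 3 n13004 = n12291 := d24_1 D13004 (iv D12291) F44396 (iv F43276) (iv F47179)
theorem F51306 : act 5 n13004 = n12286 := d31_1 D13004 (iv D12286) (iv F47180)
theorem F51307 : act 6 n13004 = n11992 := d33_1 D13004 (iv D11992) (iv F47181)
def n13005 : Q := act 6 n11984
theorem D13005 : act 6 n11984 = n13005 := rfl
theorem F51308 : act 0 n13005 = n12027 := d5_1 D13005 (iv D12027) (iv F47182)
theorem F51309 : act 2 n13005 = n12395 := d18_1 D13005 F48814 (iv F47183)
theorem F51310 : act 3 n13005 = n11996 := d23_1 D13005 (iv D11996) (iv F47184)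
theorem F51311 : act 4 n13005 = n12226 := d27_1 D13005 F48226 (iv F47185)
theorem F51312 : act 5 n13005 = n11993 := d30_1 D13005 (iv D11993) (iv D10977) (iv F43204) D11984
theorem F51313 : act 7 n13005 = n12238 := d33_2 (iv F47186) D13005 F48270
def n13006 : Q := act 8 n11984
theorem D13006 : act 8 n11984 = n13006 := rfl
theorem F51314 : act 0 n13006 = n12028 := d7_1 D13006 (iv D12028) (iv F47182)
theorem F51315 : act 2 n13006 = n12659 := d20_1 D13006 (iv D12659) (iv F47183)
theorem F51316 : act 3 n13006 = n11997 := d25_1 D13006 (iv D11997) (iv F47184)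
theorem F51317 : act 4 n13006 = n12658 := d29_1 D13006 (iv D12658) (iv F47185)
theorem F51318 : act 5 n13006 = n11985 := d32_1 D13006 (iv D11985) D11984
def n13007 : Q := act 7 n11985
theorem D13007 : act 7 n11985 = n13007 := rfl
theorem F51319 : act 0 n13007 = n12029 := d6_1 D13007 (iv D12029) (iv F47187)
theorem F51320 : act 4 n13007 = n11986 := d28_1 D13007 (iv D11986) (iv F47189)
theorem F51321 : act 6 n13007 = n11995 := d33_1 D13007 (iv D11995) (iv F47190)
def n13008 : Q := act 4 n11987
theorem D13008 : act 4 n11987 = n13008 := rfl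
theorem F51322 : act 0 n13008 = n11988 := d3_1 D13008 (iv D11988) D11987
theorem F51323 : act 1 n13008 = n12030 := d10_1 D13008 (iv D12030) (iv F47194)
theorem F51324 : act 3 n13008 = n13008 := d21_1 D13008 (iv D13008) F47195 F43278 (iv F47195)
theorem F51325 : act 6 n13008 = n12690 := d27_2 F51284 D13008 F51286
theorem F51326 : act 7 n13008 = n12697 := d28_2 F51232 D13008 F51233
def n13009 : Q := act 8 n11987
theorem D13009 : act 8 n11987 = n13009 := rfl
theorem F51327 : act 0 n13009 = n11989 := d7_1 D13009 (iv D11989) D11987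
theorem F51328 : act 1 n13009 = n12031 := d14_1 D13009 (iv D12031) (iv F47194)
theorem F51329 : act 3 n13009 = n12007 := d25_1 D13009 (iv D12007) (iv F47195)
theorem F51330 : act 5 n13009 = n12379 := d32_1 D13009 (iv D12379) (iv F47196)
def n13010 : Q := act 5 n11988
theorem D13010 : act 5 n11988 = n13010 := rfl
theorem F51331 : act 1 n13010 = n11990 := d11_1 D13010 (iv D11990) (iv F47197)
theorem F51332 : act 3 n13010 = n13010 := d22_1 D13010 (iv D13010) F47198
theorem F51333 : act 4 n13010 = n12380 := d26_1 D13010 (iv D12380) (iv D11341) (iv F43209) D11988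
def n13011 : Q := act 8 n11988
theorem D13011 : act 8 n11988 = n13011 := rfl
theorem F51334 : act 1 n13011 = n11991 := d14_1 D13011 (iv D11991) (iv F47197)
theorem F51335 : act 3 n13011 = n13011 := d25_1 D13011 (iv D13011) F47198
theorem F51336 : act 4 n13011 = n11989 := d29_1 D13011 (iv D11989) D11988
def n13012 : Q := act 7 n11989
theorem D13012 : act 7 n11989 = n13012 := rfl
theorem F51337 : act 1 n13012 = n11992 := d13_1 D13012 (iv D11992) (iv F47199)
theorem F51338 : act 5 n13012 = n12382 := d31_1 D13012 (iv D12382) (iv F47201)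
def n13013 : Q := act 6 n11990
theorem D13013 : act 6 n11990 = n13013 := rfl
theorem F51339 : act 0 n13013 = n12035 := d5_1 D13013 (iv D12035) (iv F47202)
theorem F51340 : act 2 n13013 = n11993 := d18_1 D13013 (iv D11993) (iv F47203)
theorem F51341 : act 3 n13013 = n13013 := d23_1 D13013 (iv D13013) F47204
theorem F51342 : act 4 n13013 = n12383 := d27_1 D13013 (iv D12383) (iv F47205)
theorem F51343 : act 5 n13013 = n12395 := d30_1 D13013 F48814 (iv F47174) F47175 D11990
theorem F51344 : act 7 n13013 = n12405 := d33_2 F51247 D13013 (iv F51246)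
def n13014 : Q := act 8 n11990
theorem D13014 : act 8 n11990 = n13014 := rfl
theorem F51345 : act 0 n13014 = n12036 := d7_1 D13014 (iv D12036) (iv F47202)
theorem F51346 : act 2 n13014 = n11994 := d20_1 D13014 (iv D11994) (iv F47203)
theorem F51347 : act 3 n13014 = n13014 := d25_1 D13014 (iv D13014) F47204
theorem F51348 : act 4 n13014 = n12384 := d29_1 D13014 (iv D12384) (iv F47205)
theorem F51349 : act 5 n13014 = n11991 := d32_1 D13014 (iv D11991) D11990
def n13015 : Q := act 7 n11991
theorem D13015 : act 7 n11991 = n13015 := rfl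
theorem F51350 : act 0 n13015 = n12037 := d6_1 D13015 (iv D12037) (iv F47206)
theorem F51351 : act 2 n13015 = n11995 := d19_1 D13015 (iv D11995) (iv F47207)
theorem F51352 : act 4 n13015 = n11992 := d28_1 D13015 (iv D11992) (iv F47209)
def n13016 : Q := act 8 n11993
theorem D13016 : act 8 n11993 = n13016 := rfl
theorem F51353 : act 0 n13016 = n12038 := d7_1 D13016 (iv D12038) (iv F47213)
theorem F51354 : act 3 n13016 = n11999 := d25_1 D13016 (iv D11999) (iv F47214)
theorem F51355 : act 4 n13016 = n12386 := d29_1 D13016 (iv D12386) (iv F47215)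
theorem F51356 : act 6 n13016 = n11994 := d34_1 D13016 (iv D11994) D11993
def n13017 : Q := act 7 n11994
theorem D13017 : act 7 n11994 = n13017 := rfl
theorem F51357 : act 0 n13017 = n12039 := d6_1 D13017 (iv D12039) (iv F47216)
theorem F51358 : act 4 n13017 = n12387 := d28_1 D13017 (iv D12387) (iv F47218)
theorem F51359 : act 5 n13017 = n11995 := d31_1 D13017 (iv D11995) (iv F47219)
def n13018 : Q := act 3 n11995
theorem D13018 : act 3 n11995 = n13018 := rfl
theorem F51360 : act 0 n13018 = n12040 := d2_1 D13018 (iv D12040) (iv F47220)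
theorem F51361 : act 4 n13018 = n12727 := d21_2 (iv F47221) D13018 (iv D12727) F46069 (iv F43224)
theorem F51362 : act 7 n13018 = n12001 := d24_2 D11995 D13018 (iv D12001) (iv D10985) (iv F43221)
def n13019 : Q := act 8 n11996
theorem D13019 : act 8 n11996 = n13019 := rfl
theorem F51363 : act 0 n13019 = n12041 := d7_1 D13019 (iv D12041) (iv F47222)
theorem F51364 : act 2 n13019 = n13019 := d20_1 D13019 (iv D13019) F47223
theorem F51365 : act 4 n13019 = n13019 := d29_1 D13019 (iv D13019) F47224
theorem F51366 : act 5 n13019 = n11999 := d32_1 D13019 (iv D11999) (iv F47225)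
theorem F51367 : act 6 n13019 = n11997 := d34_1 D13019 (iv D11997) D11996
theorem F51368 : act 7 n12784 = n13019 := d6_0 F51363 (iv F47425) D12784
def n13020 : Q := act 7 n11997
theorem D13020 : act 7 n11997 = n13020 := rfl
theorem F51369 : act 0 n13020 = n12042 := d6_1 D13020 (iv D12042) (iv F47227)
theorem F51370 : act 2 n13020 = n13020 := d19_1 D13020 (iv D13020) F47228
theorem F51371 : act 4 n13020 = n13020 := d28_1 D13020 (iv D13020) F47229
theorem F51372 : act 5 n13020 = n11998 := d31_1 D13020 (iv D11998) (iv F47230)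
theorem F51373 : act 6 n13020 = n12784 := d33_1 D13020 F51368 F51367
theorem F51374 : act 8 n13020 = n13020 := d35_2 D11997 D13020 (iv D13020) (iv D11997) F43229
def n13021 : Q := act 3 n11998
theorem D13021 : act 3 n11998 = n13021 := rfl
theorem F51375 : act 0 n13021 = n12043 := d2_1 D13021 (iv D12043) (iv F47231)
theorem F51376 : act 4 n13021 = n12490 := d21_2 (iv F47233) D13021 (iv D12490) F45056 (iv F43236)
theorem F51377 : act 6 n13021 = n12001 := d23_2 (iv F47234) D13021 (iv D12001)
theorem F51378 : act 8 n13021 = n13021 := d25_2 F47235 D13021 (iv D13021)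
def n13022 : Q := act 7 n11999
theorem D13022 : act 7 n11999 = n13022 := rfl
theorem F51379 : act 0 n13022 = n12044 := d6_1 D13022 (iv D12044) (iv F47236)
theorem F51380 : act 2 n13022 = n13022 := d19_1 D13022 (iv D13022) F47237
theorem F51381 : act 4 n13022 = n12002 := d28_1 D13022 (iv D12002) (iv F47238)
theorem F51382 : act 5 n13022 = n12784 := d31_1 D13022 F51368 F51366
theorem F51383 : act 6 n13022 = n12000 := d33_1 D13022 (iv D12000) (iv F47239)
theorem F51384 : act 8 n13022 = n13022 := d35_2 D11999 D13022 (iv D13022) (iv D11999) F43243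
def n13023 : Q := act 3 n12000
theorem D13023 : act 3 n12000 = n13023 := rfl
theorem F51385 : act 0 n13023 = n12045 := d2_1 D13023 (iv D12045) (iv F47240)
theorem F51386 : act 5 n13023 = n12001 := d22_2 (iv F47243) D13023 (iv D12001)
theorem F51387 : act 8 n13023 = n13023 := d25_2 F47244 D13023 (iv D13023)
def n13024 : Q := act 2 n12001
theorem D13024 : act 2 n12001 = n13024 := rfl
theorem F51388 : act 0 n13024 = n12046 := d1_1 D13024 (iv D12046) (iv F47245)
theorem F51389 : act 3 n13024 = n13024 := d15_2 D12001 D13024 (iv D13024) (iv D12001) F43249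
theorem F51390 : act 4 n13024 = n12730 := d16_2 (iv F47246) D13024 (iv D12730)
theorem F51391 : act 8 n13024 = n13024 := d20_2 F47247 D13024 (iv D13024)
def n13025 : Q := act 8 n12005
theorem D13025 : act 8 n12005 = n13025 := rfl
theorem F51392 : act 0 n13025 = n12006 := d7_1 D13025 (iv D12006) D12005
theorem F51393 : act 1 n13025 = n12047 := d14_1 D13025 (iv D12047) (iv F47263)
theorem F51394 : act 2 n13025 = n12816 := d20_1 D13025 (iv D12816) (iv F47264)
theorem F51395 : act 4 n13025 = n13025 := d29_1 D13025 (iv D13025) F47265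
theorem F51396 : act 5 n13025 = n12101 := d32_1 D13025 (iv D12101) (iv F47266)
theorem F51397 : act 6 n13025 = n12007 := d34_1 D13025 (iv D12007) (iv F47267)
theorem F51398 : act 7 n13025 = n12152 := d35_1 D13025 (iv D12152) (iv D11146) (iv F43591) (iv F47268)
def n13026 : Q := act 7 n12009
theorem D13026 : act 7 n12009 = n13026 := rfl
theorem F51399 : act 2 n13026 = n12135 := d19_1 D13026 (iv D12135) (iv F47286)
theorem F51400 : act 3 n13026 = n12017 := d24_1 D13026 (iv D12017) F43323 (iv F43298) (iv F47287)
theorem F51401 : act 4 n13026 = n12134 := d28_1 D13026 (iv D12134) (iv F47288)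
theorem F51402 : act 5 n13026 = n12012 := d31_1 D13026 (iv D12012) (iv F47289)
theorem F51403 : act 6 n13026 = n12297 := d33_1 D13026 (iv D12297) (iv F47290)
theorem F51404 : act 8 n13026 = n12022 := d35_2 D12009 D13026 (iv D12022) (iv D11006) (iv F43294)
def n13027 : Q := act 7 n12010
theorem D13027 : act 7 n12010 = n13027 := rfl
theorem F51405 : act 1 n13027 = n12300 := d13_1 D13027 (iv D12300) (iv F47291)
theorem F51406 : act 2 n13027 = n12012 := d19_1 D13027 (iv D12012) (iv F47292)
theorem F51407 : act 3 n13027 = n12297 := d24_1 D13027 (iv D12297) F44430 (iv F43603) (iv F47293)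
theorem F51408 : act 4 n13027 = n12679 := d28_1 D13027 (iv D12679) (iv F47294)
theorem F51409 : act 5 n13027 = n12135 := d31_1 D13027 (iv D12135) (iv F47295)
theorem F51410 : act 6 n13027 = n12017 := d33_1 D13027 (iv D12017) (iv F47296)
theorem F51411 : act 8 n13027 = n12026 := d35_2 D12010 D13027 (iv D12026) (iv D11009) (iv F43302)
def n13028 : Q := act 7 n12011
theorem D13028 : act 7 n12011 = n13028 := rfl
theorem F51412 : act 2 n13028 = n12679 := d19_1 D13028 (iv D12679) (iv F47297)
theorem F51413 : act 4 n13028 = n12012 := d28_1 D13028 (iv D12012) (iv F47299)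
theorem F51414 : act 5 n13028 = n12677 := d31_1 D13028 (iv D12677) (iv F47300)
theorem F51415 : act 6 n13028 = n12020 := d33_1 D13028 (iv D12020) (iv F47301)
theorem F51416 : act 8 n13028 = n12029 := d35_2 D12011 D13028 (iv D12029) (iv D11011) (iv F43309)
def n13029 : Q := act 8 n12013
theorem D13029 : act 8 n12013 = n13029 := rfl
theorem F51417 : act 0 n13029 = n12014 := d7_1 D13029 (iv D12014) D12013
theorem F51418 : act 3 n13029 = n12077 := d25_1 D13029 (iv D12077) (iv F47305)
theorem F51419 : act 4 n13029 = n12725 := d29_1 D13029 (iv D12725) (iv F47306)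
theorem F51420 : act 5 n13029 = n12396 := d32_1 D13029 (iv D12396) (iv F47307)
theorem F51421 : act 6 n13029 = n12292 := d34_1 D13029 (iv D12292) (iv F47308)
def n13030 : Q := act 7 n12014
theorem D13030 : act 7 n12014 = n13030 := rfl
theorem F51422 : act 1 n13030 = n12017 := d13_1 D13030 (iv D12017) (iv F47310)
theorem F51423 : act 4 n13030 = n12737 := d28_1 D13030 (iv D12737) (iv F47312)
theorem F51424 : act 5 n13030 = n12398 := d31_1 D13030 (iv D12398) (iv F47313)
theorem F51425 : act 6 n13030 = n12300 := d33_1 D13030 (iv D12300) (iv F47314)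
theorem F51426 : act 8 n13030 = n12034 := d35_2 D12014 D13030 (iv D12034) (iv D11015) (iv F43315)
def n13031 : Q := act 8 n12015
theorem D13031 : act 8 n12015 = n13031 := rfl
theorem F51427 : act 1 n13031 = n12410 := d14_1 D13031 (iv D12410) (iv F47315)
theorem F51428 : act 2 n13031 = n12019 := d20_1 D13031 (iv D12019) (iv F47316)
theorem F51429 : act 3 n13031 = n12501 := d25_1 D13031 (iv D12501) (iv F47317)
theorem F51430 : act 4 n13031 = n12399 := d29_1 D13031 (iv D12399) (iv F47318)
theorem F51431 : act 5 n13031 = n12016 := d32_1 D13031 (iv D12016) D12015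
theorem F51432 : act 6 n13031 = n12408 := d34_1 D13031 (iv D12408) (iv F47319)
def n13032 : Q := act 7 n12016
theorem D13032 : act 7 n12016 = n13032 := rfl
theorem F51433 : act 1 n13032 = n12737 := d13_1 D13032 (iv D12737) (iv F47321)
theorem F51434 : act 2 n13032 = n12020 := d19_1 D13032 (iv D12020) (iv F47322)
theorem F51435 : act 4 n13032 = n12017 := d28_1 D13032 (iv D12017) (iv F47324)
theorem F51436 : act 6 n13032 = n12679 := d33_1 D13032 (iv D12679) (iv F47325)
theorem F51437 : act 8 n13032 = n12037 := d35_2 D12016 D13032 (iv D12037) (iv D11017) (iv F43321)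
def n13033 : Q := act 8 n12018
theorem D13033 : act 8 n12018 = n13033 := rfl
theorem F51438 : act 1 n13033 = n12242 := d14_1 D13033 (iv D12242) (iv F47329)
theorem F51439 : act 2 n13033 = n12408 := d20_1 D13033 (iv D12408) (iv F47330)
theorem F51440 : act 3 n13033 = n13033 := d25_1 D13033 (iv D13033) F47331
theorem F51441 : act 4 n13033 = n12401 := d29_1 D13033 (iv D12401) (iv F47332)
theorem F51442 : act 5 n13033 = n12240 := d32_1 D13033 (iv D12240) (iv F47333)
theorem F51443 : act 6 n13033 = n12019 := d34_1 D13033 (iv D12019) D12018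
def n13034 : Q := act 7 n12019
theorem D13034 : act 7 n12019 = n13034 := rfl
theorem F51444 : act 4 n13034 = n12402 := d28_1 D13034 (iv D12402) (iv F47336)
theorem F51445 : act 5 n13034 = n12020 := d31_1 D13034 (iv D12020) (iv F47337)
theorem F51446 : act 8 n13034 = n12039 := d35_2 D12019 D13034 (iv D12039) (iv D11020) (iv F43327)
def n13035 : Q := act 3 n12020
theorem D13035 : act 3 n12020 = n13035 := rfl
theorem F51447 : act 4 n13035 = n12736 := d21_2 (iv F47338) D13035 (iv D12736) F46095 (iv F43330)
theorem F51448 : act 7 n13035 = n13035 := d24_2 D12020 D13035 (iv D13035) (iv D12020) F43328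
theorem F51449 : act 8 n13035 = n12040 := d25_2 (iv F47339) D13035 (iv D12040)
def n13036 : Q := act 7 n12021
theorem D13036 : act 7 n12021 = n13036 := rfl
theorem F51450 : act 2 n13036 = n12129 := d19_1 D13036 (iv D12129) (iv F47340)
theorem F51451 : act 4 n13036 = n12022 := d28_1 D13036 (iv D12022) (iv F47342)
theorem F51452 : act 5 n13036 = n12675 := d31_1 D13036 (iv D12675) (iv F47343)
theorem F51453 : act 6 n13036 = n12299 := d33_1 D13036 (iv D12299) (iv F47344)
theorem F51454 : act 8 n13036 = n12134 := d35_2 D12021 D13036 (iv D12134) (iv D11128) (iv F43336)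
def n13037 : Q := act 8 n12023
theorem D13037 : act 8 n12023 = n13037 := rfl
theorem F51455 : act 0 n13037 = n12024 := d7_1 D13037 (iv D12024) D12023
theorem F51456 : act 3 n13037 = n12047 := d25_1 D13037 (iv D12047) (iv F47349)
theorem F51457 : act 4 n13037 = n12723 := d29_1 D13037 (iv D12723) (iv F47350)
theorem F51458 : act 5 n13037 = n12116 := d32_1 D13037 (iv D12116) (iv F47351)
theorem F51459 : act 6 n13037 = n12031 := d34_1 D13037 (iv D12031) (iv F47352)
def n13038 : Q := act 7 n12024
theorem D13038 : act 7 n12024 = n13038 := rfl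
theorem F51460 : act 1 n13038 = n12026 := d13_1 D13038 (iv D12026) (iv F47354)
theorem F51461 : act 3 n13038 = n12233 := d24_1 D13038 (iv D12233) F44193 (iv F43434) (iv F47355)
theorem F51462 : act 4 n13038 = n12735 := d28_1 D13038 (iv D12735) (iv F47356)
theorem F51463 : act 5 n13038 = n12131 := d31_1 D13038 (iv D12131) (iv F47357)
theorem F51464 : act 6 n13038 = n12034 := d33_1 D13038 (iv D12034) (iv F47358)
theorem F51465 : act 8 n13038 = n12300 := d35_2 D12024 D13038 (iv D12300) (iv D11280) (iv F43345)
def n13039 : Q := act 7 n12025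
theorem D13039 : act 7 n12025 = n13039 := rfl
theorem F51466 : act 1 n13039 = n12735 := d13_1 D13039 (iv D12735) (iv F47359)
theorem F51467 : act 2 n13039 = n12029 := d19_1 D13039 (iv D12029) (iv F47360)
theorem F51468 : act 4 n13039 = n12026 := d28_1 D13039 (iv D12026) (iv F47362)
theorem F51469 : act 5 n13039 = n12676 := d31_1 D13039 (iv D12676) (iv F47363)
theorem F51470 : act 6 n13039 = n12037 := d33_1 D13039 (iv D12037) (iv F47364)
theorem F51471 : act 8 n13039 = n12679 := d35_2 D12025 D13039 (iv D12679) (iv D11678) (iv F43352)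
def n13040 : Q := act 8 n12027
theorem D13040 : act 8 n12027 = n13040 := rfl
theorem F51472 : act 1 n13040 = n12228 := d14_1 D13040 (iv D12228) (iv F47369)
theorem F51473 : act 2 n13040 = n12397 := d20_1 D13040 (iv D12397) (iv F47370)
theorem F51474 : act 3 n13040 = n12041 := d25_1 D13040 (iv D12041) (iv F47371)
theorem F51475 : act 4 n13040 = n12227 := d29_1 D13040 (iv D12227) (iv F47372)
theorem F51476 : act 5 n13040 = n12038 := d32_1 D13040 (iv D12038) (iv F47373)
theorem F51477 : act 6 n13040 = n12028 := d34_1 D13040 (iv D12028) D12027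
def n13041 : Q := act 7 n12028
theorem D13041 : act 7 n12028 = n13041 := rfl
theorem F51478 : act 1 n13041 = n12415 := d13_1 D13041 F48868 (iv F47375)
theorem F51479 : act 2 n13041 = n12676 := d19_1 D13041 (iv D12676) (iv F47376)
theorem F51480 : act 4 n13041 = n12675 := d28_1 D13041 (iv D12675) (iv F47378)
theorem F51481 : act 5 n13041 = n12029 := d31_1 D13041 (iv D12029) (iv F47379)
theorem F51482 : act 8 n13041 = n12677 := d35_2 D12028 D13041 (iv D12677) (iv D11676) (iv F43361)
def n13042 : Q := act 3 n12029
theorem D13042 : act 3 n12029 = n13042 := rfl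
theorem F51483 : act 4 n13042 = n12412 := d21_2 (iv F47380) D13042 (iv D12412) F44762 (iv F43365)
theorem F51484 : act 6 n13042 = n12040 := d23_2 (iv F47381) D13042 (iv D12040)
theorem F51485 : act 7 n13042 = n12043 := d24_2 D12029 D13042 (iv D12043) (iv D11024) (iv F43362)
def n13043 : Q := act 5 n12030
theorem D13043 : act 5 n12030 = n13043 := rfl
theorem F51486 : act 0 n13043 = n12032 := d4_1 D13043 (iv D12032) (iv F47382)
theorem F51487 : act 2 n13043 = n12372 := d17_1 D13043 F50888 F50884
theorem F51488 : act 3 n13043 = n13043 := d22_1 D13043 (iv D13043) F47383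
theorem F51489 : act 4 n13043 = n12405 := d26_1 D13043 (iv D12405) (iv D11373) (iv F43368) D12030
theorem F51490 : act 6 n13043 = n12369 := d30_2 (iv F47384) D13043 (iv D12369) F44605 D11714
theorem F51491 : act 7 n13043 = n12383 := d31_2 (iv F47385) D13043 F48768
def n13044 : Q := act 8 n12030
theorem D13044 : act 8 n12030 = n13044 := rfl
theorem F51492 : act 0 n13044 = n12033 := d7_1 D13044 (iv D12033) (iv F47382)
theorem F51493 : act 3 n13044 = n13044 := d25_1 D13044 (iv D13044) F47383
theorem F51494 : act 4 n13044 = n12031 := d29_1 D13044 (iv D12031) D12030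
theorem F51495 : act 6 n13044 = n12723 := d34_1 D13044 (iv D12723) (iv F47384)
def n13045 : Q := act 7 n12031
theorem D13045 : act 7 n12031 = n13045 := rfl
theorem F51496 : act 0 n13045 = n12034 := d6_1 D13045 (iv D12034) (iv F47386)
theorem F51497 : act 5 n13045 = n12407 := d31_1 D13045 (iv D12407) (iv F47388)
def n13046 : Q := act 8 n12032
theorem D13046 : act 8 n12032 = n13046 := rfl
theorem F51498 : act 1 n13046 = n12036 := d14_1 D13046 (iv D12036) (iv F47389)
theorem F51499 : act 2 n13046 = n12401 := d20_1 D13046 (iv D12401) (iv F47390)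
theorem F51500 : act 3 n13046 = n13046 := d25_1 D13046 (iv D13046) F47391
theorem F51501 : act 4 n13046 = n12408 := d29_1 D13046 (iv D12408) (iv F47392)
theorem F51502 : act 5 n13046 = n12033 := d32_1 D13046 (iv D12033) D12032
theorem F51503 : act 6 n13046 = n12399 := d34_1 D13046 (iv D12399) (iv F47393)
def n13047 : Q := act 7 n12033
theorem D13047 : act 7 n12033 = n13047 := rfl
theorem F51504 : act 1 n13047 = n12037 := d13_1 D13047 (iv D12037) (iv F47395)
theorem F51505 : act 4 n13047 = n12034 := d28_1 D13047 (iv D12034) (iv F47397)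
theorem F51506 : act 6 n13047 = n12735 := d33_1 D13047 (iv D12735) (iv F47398)
theorem F51507 : act 8 n13047 = n12737 := d35_2 D12033 D13047 (iv D12737) (iv D11728) (iv F43372)
def n13048 : Q := act 8 n12035
theorem D13048 : act 8 n12035 = n13048 := rfl
theorem F51508 : act 1 n13048 = n12399 := d14_1 D13048 (iv D12399) (iv F47401)
theorem F51509 : act 2 n13048 = n12038 := d20_1 D13048 (iv D12038) (iv F47402)
theorem F51510 : act 3 n13048 = n13048 := d25_1 D13048 (iv D13048) F47403
theorem F51511 : act 4 n13048 = n12410 := d29_1 D13048 (iv D12410) (iv F47404)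
theorem F51512 : act 5 n13048 = n12397 := d32_1 D13048 (iv D12397) (iv F47405)
theorem F51513 : act 6 n13048 = n12036 := d34_1 D13048 (iv D12036) D12035
def n13049 : Q := act 7 n12036
theorem D13049 : act 7 n12036 = n13049 := rfl
theorem F51514 : act 2 n13049 = n12039 := d19_1 D13049 (iv D12039) (iv F47407)
theorem F51515 : act 4 n13049 = n12411 := d28_1 D13049 (iv D12411) (iv F47409)
theorem F51516 : act 5 n13049 = n12037 := d31_1 D13049 (iv D12037) (iv F47410)
def n13050 : Q := act 3 n12037
theorem D13050 : act 3 n12037 = n13050 := rfl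
theorem F51517 : act 7 n13050 = n13050 := d24_2 D12037 D13050 (iv D13050) (iv D12037) F43380
def n13051 : Q := act 7 n12038
theorem D13051 : act 7 n12038 = n13051 := rfl
theorem F51518 : act 4 n13051 = n12413 := d28_1 D13051 (iv D12413) (iv F47414)
theorem F51519 : act 6 n13051 = n12039 := d33_1 D13051 (iv D12039) (iv F47415)
def n13052 : Q := act 3 n12039
theorem D13052 : act 3 n12039 = n13052 := rfl
theorem F51520 : act 5 n13052 = n12040 := d22_2 (iv F47417) D13052 (iv D12040)
theorem F51521 : act 7 n13052 = n12045 := d24_2 D12039 D13052 (iv D12045) (iv D11026) (iv F43386)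
def n13053 : Q := act 2 n12040
theorem D13053 : act 2 n12040 = n13053 := rfl
theorem F51522 : act 4 n13053 = n12739 := d16_2 (iv F47418) D13053 (iv D12739)
theorem F51523 : act 7 n13053 = n12046 := d19_2 (iv F47419) D13053 (iv D12046)
def n13054 : Q := act 3 n12042
theorem D13054 : act 3 n12042 = n13054 := rfl
theorem F51524 : act 1 n13054 = n12506 := d9_1 D13054 F49245 (iv F47426)
theorem F51525 : act 5 n13054 = n12043 := d22_2 (iv F47429) D13054 (iv D12043)
theorem F51526 : act 6 n13054 = n12743 := d23_2 (iv F47430) D13054 F50143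
theorem F51527 : act 8 n13054 = n13054 := d25_2 F47431 D13054 (iv D13054)
def n13055 : Q := act 2 n12043
theorem D13055 : act 2 n12043 = n13055 := rfl
theorem F51528 : act 3 n13055 = n13055 := d15_2 D12043 D13055 (iv D13055) (iv D12043) F43399
theorem F51529 : act 4 n13055 = n12506 := d16_2 (iv F47432) D13055 (iv D12506)
theorem F51530 : act 6 n13055 = n12046 := d18_2 (iv F47433) D13055 (iv D12046)
theorem F51531 : act 8 n13055 = n13055 := d20_2 F47434 D13055 (iv D13055)
def n13056 : Q := act 2 n12045
theorem D13056 : act 2 n12045 = n13056 := rfl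
theorem F51532 : act 3 n13056 = n13056 := d15_2 D12045 D13056 (iv D13056) (iv D12045) F43406
theorem F51533 : act 4 n13056 = n12253 := d16_2 F50955 D13056 (iv F50954)
theorem F51534 : act 5 n13056 = n12046 := d17_2 (iv F47441) D13056 (iv D12046)
theorem F51535 : act 6 n13056 = n12684 := d18_2 F50971 D13056 (iv F50969)
theorem F51536 : act 8 n13056 = n13056 := d20_2 F47442 D13056 (iv D13056)
theorem F51537 : act 1 n12254 = n13056 := d10_3 F51533 F48324 D12254
def n13057 : Q := act 1 n12046
theorem D13057 : act 1 n12046 = n13057 := rfl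
theorem F51538 : act 3 n13057 = n13057 := d9_2 F47443 D13057 (iv D13057)
theorem F51539 : act 4 n13057 = n12743 := d10_2 (iv F47444) D13057 (iv D12743)
theorem F51540 : act 5 n13057 = n12254 := d11_2 F51534 D13057 F51537
theorem F51541 : act 8 n13057 = n13057 := d14_2 F47445 D13057 (iv D13057)
def n13058 : Q := act 3 n12049
theorem D13058 : act 3 n12049 = n13058 := rfl
theorem F51542 : act 0 n13058 = n13058 := d2_1 D13058 (iv D13058) F47457
theorem F51543 : act 2 n13058 = n12417 := d15_1 D13058 (iv D12417) F44786 (iv F43468) (iv F47458)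
theorem F51544 : act 5 n13058 = n12050 := d22_2 (iv F47459) D13058 (iv D12050)
theorem F51545 : act 6 n13058 = n12419 := d23_2 (iv F47460) D13058 F48884
def n13059 : Q := act 8 n12049
theorem D13059 : act 8 n12049 = n13059 := rfl
theorem F51546 : act 0 n13059 = n13059 := d7_1 D13059 (iv D13059) F47457
theorem F51547 : act 2 n13059 = n12056 := d20_1 D13059 (iv D12056) (iv F47458)
theorem F51548 : act 5 n13059 = n12051 := d32_1 D13059 (iv D12051) (iv F47459)
theorem F51549 : act 6 n13059 = n12422 := d34_1 D13059 (iv D12422) (iv F47460)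
theorem F51550 : act 7 n13059 = n12062 := d35_1 D13059 (iv D12062) F43483 (iv F43448) D12049
def n13060 : Q := act 2 n12050
theorem D13060 : act 2 n12050 = n13060 := rfl
theorem F51551 : act 0 n13060 = n13060 := d1_1 D13060 (iv D13060) F47461
theorem F51552 : act 3 n13060 = n12057 := d15_2 D12050 D13060 (iv D12057) (iv D11041) (iv F43450)
theorem F51553 : act 5 n13060 = n12417 := d17_2 F51544 D13060 (iv F51543)
theorem F51554 : act 6 n13060 = n12052 := d18_2 (iv F47462) D13060 (iv D12052)
theorem F51555 : act 7 n13060 = n13058 := d19_2 F48877 D13060 F51543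
def n13061 : Q := act 4 n12050
theorem D13061 : act 4 n12050 = n13061 := rfl
theorem F51556 : act 0 n13061 = n13061 := d3_1 D13061 (iv D13061) F47461
theorem F51557 : act 3 n13061 = n13061 := d21_1 D13061 (iv D13061) (iv D12050) F43451 D12050
theorem F51558 : act 6 n13061 = n12053 := d27_2 (iv F47462) D13061 (iv D12053)
def n13062 : Q := act 8 n12050
theorem D13062 : act 8 n12050 = n13062 := rfl
theorem F51559 : act 0 n13062 = n13062 := d7_1 D13062 (iv D13062) F47461
theorem F51560 : act 3 n13062 = n12051 := d25_1 D13062 (iv D12051) D12050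
theorem F51561 : act 6 n13062 = n12054 := d34_1 D13062 (iv D12054) (iv F47462)
def n13063 : Q := act 1 n12052
theorem D13063 : act 1 n12052 = n13063 := rfl
theorem F51562 : act 3 n13063 = n12060 := d9_2 (iv F47469) D13063 (iv D12060)
theorem F51563 : act 5 n13063 = n12426 := d11_2 (iv F47470) D13063 (iv D12426)
def n13064 : Q := act 4 n12052
theorem D13064 : act 4 n12052 = n13064 := rfl
theorem F51564 : act 0 n13064 = n13064 := d3_1 D13064 (iv D13064) F47468
theorem F51565 : act 2 n13064 = n12053 := d16_1 D13064 (iv D12053) D12052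
theorem F51566 : act 7 n13064 = n12621 := d28_2 F48886 D13064 F49733
theorem F51567 : act 3 n12617 = n13064 := d24_5 F51566 (iv D12621) (iv D11619) (iv F45725) D12617
theorem F51568 : act 5 n12619 = n13064 := d31_3 F51566 F49734 (iv F49726)
def n13065 : Q := act 8 n12052
theorem D13065 : act 8 n12052 = n13065 := rfl
theorem F51569 : act 0 n13065 = n13065 := d7_1 D13065 (iv D13065) F47468
theorem F51570 : act 2 n13065 = n12054 := d20_1 D13065 (iv D12054) D12052
theorem F51571 : act 3 n13065 = n12062 := d25_1 D13065 (iv D12062) (iv F47469)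
theorem F51572 : act 5 n13065 = n12428 := d32_1 D13065 (iv D12428) (iv F47470)
def n13066 : Q := act 5 n12053
theorem D13066 : act 5 n12053 = n13066 := rfl
theorem F51573 : act 0 n13066 = n13066 := d4_1 D13066 (iv D13066) F47471
theorem F51574 : act 2 n13066 = n12619 := d17_1 D13066 F51568 F51565
theorem F51575 : act 3 n13066 = n13066 := d22_1 D13066 (iv D13066) F47472
theorem F51576 : act 4 n13066 = n12429 := d26_1 D13066 (iv D12429) (iv D11401) (iv F43454) D12053
theorem F51577 : act 7 n13066 = n12622 := d31_2 F48889 D13066 F49737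
def n13067 : Q := act 8 n12053
theorem D13067 : act 8 n12053 = n13067 := rfl
theorem F51578 : act 0 n13067 = n13067 := d7_1 D13067 (iv D13067) F47471
theorem F51579 : act 3 n13067 = n13067 := d25_1 D13067 (iv D13067) F47472
theorem F51580 : act 4 n13067 = n12054 := d29_1 D13067 (iv D12054) D12053
def n13068 : Q := act 7 n12054
theorem D13068 : act 7 n12054 = n13068 := rfl
theorem F51581 : act 0 n13068 = n13068 := d6_1 D13068 (iv D13068) F47473
theorem F51582 : act 3 n13068 = n12747 := d24_1 D13068 (iv D12747) F46123 (iv F43459) (iv F47474)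
theorem F51583 : act 5 n13068 = n12431 := d31_1 D13068 (iv D12431) (iv F47475)
def n13069 : Q := act 8 n12055
theorem D13069 : act 8 n12055 = n13069 := rfl
theorem F51584 : act 0 n13069 = n13069 := d7_1 D13069 (iv D13069) F47476
theorem F51585 : act 1 n13069 = n12069 := d14_1 D13069 (iv D12069) (iv F47477)
theorem F51586 : act 3 n13069 = n12078 := d25_1 D13069 (iv D12078) (iv F47478)
theorem F51587 : act 4 n13069 = n12056 := d29_1 D13069 (iv D12056) (iv F47479)
theorem F51588 : act 5 n13069 = n13069 := d32_1 D13069 (iv D13069) F47480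
theorem F51589 : act 6 n13069 = n12423 := d34_1 D13069 (iv D12423) (iv F47481)
theorem F51590 : act 7 n13069 = n12063 := d35_1 D13069 (iv D12063) F43488 (iv F43465) D12055
def n13070 : Q := act 1 n12057
theorem D13070 : act 1 n12057 = n13070 := rfl
theorem F51591 : act 2 n13070 = n12070 := d8_2 D12057 D13070 (iv D12070) (iv D11055) (iv F43472)
theorem F51592 : act 5 n13070 = n12105 := d11_2 (iv F47489) D13070 F47754
theorem F51593 : act 6 n13070 = n12060 := d12_2 (iv F47490) D13070 (iv D12060)
theorem F51594 : act 7 n13070 = n12064 := d13_2 (iv F47491) D13070 (iv D12064)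
theorem F51595 : act 0 n13070 = n12269 := d37_6 D11040 F43469 F39994 D11041 D12057 D13070 F48375 (iv D11528) (iv D10575) F34914 (iv D9215) F25771 F19104 (iv F17864) F17863 D4565 F17869 F16426 F12443 (iv F16656) F16659 D5804 (iv F30306) (iv F38586) (iv F41000) (iv F44518) (iv F47990) F47993 (iv D11497) (iv D10543) (iv D9137) F25565 F25564 F18945 (iv D3570) F10506 (iv F14096) (iv F18988) F18987 F18986 (iv F19255) D6788 (iv F38661) (iv F41545) D11488 (iv F45580) (iv D11585) F41885 F35393 (iv F39440) F39439 (iv D8246) (iv F31411) F31410 (iv F31527) (iv D8269) D8268 F31524 (iv F39771) F39770 (iv F39988) F39987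
theorem F51596 : act 4 n12109 = n13070 := d3_0 F51595 F48374 (iv F47774)
def n13071 : Q := act 4 n12057
theorem D13071 : act 4 n12057 = n13071 := rfl
theorem F51597 : act 0 n13071 = n13071 := d3_1 D13071 (iv D13071) F47488
theorem F51598 : act 1 n13071 = n12109 := d10_1 D13071 F51596 (iv D13070)
theorem F51599 : act 2 n13071 = n12058 := d16_1 D13071 (iv D12058) D12057
theorem F51600 : act 5 n13071 = n12079 := d26_2 (iv F47489) D13071 (iv D12079) F43643 (iv F44787)
theorem F51601 : act 6 n13071 = n12061 := d27_2 (iv F47490) D13071 (iv D12061)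
theorem F51602 : act 7 n13071 = n12065 := d28_2 (iv F47491) D13071 (iv D12065)
def n13072 : Q := act 8 n12057
theorem D13072 : act 8 n12057 = n13072 := rfl
theorem F51603 : act 0 n13072 = n13072 := d7_1 D13072 (iv D13072) F47488
theorem F51604 : act 2 n13072 = n12059 := d20_1 D13072 (iv D12059) D12057
theorem F51605 : act 5 n13072 = n12418 := d32_1 D13072 (iv D12418) (iv F47489)
theorem F51606 : act 6 n13072 = n12062 := d34_1 D13072 (iv D12062) (iv F47490)
theorem F51607 : act 7 n13072 = n12422 := d35_1 D13072 (iv D12422) F44804 (iv F43497) (iv F47491)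
def n13073 : Q := act 8 n12058
theorem D13073 : act 8 n12058 = n13073 := rfl
theorem F51608 : act 0 n13073 = n13073 := d7_1 D13073 (iv D13073) F47492
theorem F51609 : act 1 n13073 = n12072 := d14_1 D13073 (iv D12072) (iv F47493)
theorem F51610 : act 3 n13073 = n13073 := d25_1 D13073 (iv D13073) F47494
theorem F51611 : act 4 n13073 = n12059 := d29_1 D13073 (iv D12059) D12058
theorem F51612 : act 5 n13073 = n12081 := d32_1 D13073 (iv D12081) (iv F47495)
theorem F51613 : act 6 n13073 = n12063 := d34_1 D13073 (iv D12063) (iv F47496)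
theorem F51614 : act 7 n13073 = n12423 := d35_1 D13073 (iv D12423) F44809 (iv F43503) (iv F47497)
def n13074 : Q := act 0 n12060
theorem D13074 : act 0 n12060 = n13074 := rfl
theorem F51615 : act 1 n13074 = n13074 := d0_2 D12060 D13074 (iv D13074) (iv D12060) F43481
theorem F51616 : act 2 n13074 = n12073 := d1_2 (iv F47504) D13074 (iv D12073)
theorem F51617 : act 5 n13074 = n12432 := d4_2 (iv F47505) D13074 (iv D12432)
theorem F51618 : act 6 n13074 = n12269 := d5_2 F51593 D13074 (iv F51595)
theorem F51619 : act 7 n13074 = n12066 := d6_2 (iv F47506) D13074 (iv D12066)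
theorem F51620 : act 4 n12276 = n13074 := d28_3 F51619 (iv F47536) (iv F48406)
def n13075 : Q := act 4 n12060
theorem D13075 : act 4 n12060 = n13075 := rfl
theorem F51621 : act 0 n13075 = n12276 := d3_1 D13075 F51620 (iv D13074)
theorem F51622 : act 1 n13075 = n12061 := d10_1 D13075 (iv D12061) D12060
theorem F51623 : act 2 n13075 = n12074 := d16_1 D13075 (iv D12074) (iv F47504)
theorem F51624 : act 5 n13075 = n13075 := d26_2 (iv F47505) D13075 (iv D13075) F47505 F44837
theorem F51625 : act 6 n13075 = n12109 := d27_2 F51593 D13075 F51596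
theorem F51626 : act 7 n13075 = n12067 := d28_2 (iv F47506) D13075 (iv D12067)
def n13076 : Q := act 8 n12060
theorem D13076 : act 8 n12060 = n13076 := rfl
theorem F51627 : act 1 n13076 = n12062 := d14_1 D13076 (iv D12062) D12060
theorem F51628 : act 2 n13076 = n12075 := d20_1 D13076 (iv D12075) (iv F47504)
theorem F51629 : act 5 n13076 = n12433 := d32_1 D13076 (iv D12433) (iv F47505)
def n13077 : Q := act 3 n12061
theorem D13077 : act 3 n12061 = n13077 := rfl
theorem F51630 : act 0 n13077 = n13077 := d2_1 D13077 (iv D13077) F47507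
theorem F51631 : act 2 n13077 = n13077 := d15_1 D13077 (iv D13077) F47508 F43486 (iv F47508)
theorem F51632 : act 4 n13077 = n12617 := d21_2 D12061 D13077 F51567 (iv D13064) F47469
theorem F51633 : act 5 n13077 = n13077 := d22_2 F47509 D13077 (iv D13077)
theorem F51634 : act 7 n13077 = n12614 := d24_2 (iv F47510) D13077 F49704 F47546 (iv D12068)
def n13078 : Q := act 8 n12061
theorem D13078 : act 8 n12061 = n13078 := rfl
theorem F51635 : act 0 n13078 = n13078 := d7_1 D13078 (iv D13078) F47507
theorem F51636 : act 2 n13078 = n12063 := d20_1 D13078 (iv D12063) (iv F47508)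
theorem F51637 : act 4 n13078 = n12062 := d29_1 D13078 (iv D12062) D12061
theorem F51638 : act 5 n13078 = n13078 := d32_1 D13078 (iv D13078) F47509
def n13079 : Q := act 3 n12067
theorem D13079 : act 3 n12067 = n13079 := rfl
theorem F51639 : act 0 n13079 = n12544 := d2_1 D13079 F49430 (iv F47537)
theorem F51640 : act 1 n13079 = n12068 := d9_1 D13079 (iv D12068) (iv F47538)
theorem F51641 : act 2 n13079 = n13079 := d15_1 D13079 (iv D13079) F47539 F43582 (iv F47539)
theorem F51642 : act 4 n13079 = n12585 := d21_2 D12067 D13079 (iv F49573) (iv D12301) F44463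
theorem F51643 : act 5 n13079 = n13079 := d22_2 F47540 D13079 (iv D13079)
theorem F51644 : act 6 n13079 = n12507 := d23_2 (iv F47541) D13079 F49250
theorem F51645 : act 7 n12582 = n13079 := d33_0 F51644 F49567 F49566
def n13080 : Q := act 8 n12070
theorem D13080 : act 8 n12070 = n13080 := rfl
theorem F51646 : act 0 n13080 = n12272 := d7_1 D13080 (iv D12272) (iv F47553)
theorem F51647 : act 1 n13080 = n12071 := d14_1 D13080 (iv D12071) D12070
theorem F51648 : act 4 n13080 = n12112 := d29_1 D13080 (iv D12112) (iv F47554)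
theorem F51649 : act 5 n13080 = n12107 := d32_1 D13080 (iv D12107) (iv F47555)
theorem F51650 : act 6 n13080 = n12075 := d34_1 D13080 (iv D12075) (iv F47556)
theorem F51651 : act 7 n13080 = n12309 := d35_1 D13080 (iv D12309) (iv D11290) (iv F43574) (iv F47557)
def n13081 : Q := act 8 n12073
theorem D13081 : act 8 n12073 = n13081 := rfl
theorem F51652 : act 0 n13081 = n12075 := d7_1 D13081 (iv D12075) D12073
theorem F51653 : act 1 n13081 = n12077 := d14_1 D13081 (iv D12077) (iv F47571)
theorem F51654 : act 4 n13081 = n12280 := d29_1 D13081 (iv D12280) F47575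
theorem F51655 : act 5 n13081 = n12434 := d32_1 D13081 (iv D12434) (iv F47572)
theorem F51656 : act 6 n13081 = n12272 := d34_1 D13081 (iv D12272) (iv F47573)
def n13082 : Q := act 8 n12074
theorem D13082 : act 8 n12074 = n13082 := rfl
theorem F51657 : act 0 n13082 = n12280 := d7_1 D13082 (iv D12280) (iv F47576)
theorem F51658 : act 1 n13082 = n12076 := d14_1 D13082 (iv D12076) (iv F47577)
theorem F51659 : act 3 n13082 = n12654 := d25_1 D13082 (iv D12654) F47581
theorem F51660 : act 4 n13082 = n12075 := d29_1 D13082 (iv D12075) D12074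
theorem F51661 : act 5 n13082 = n13082 := d32_1 D13082 (iv D13082) F47578
theorem F51662 : act 6 n13082 = n12112 := d34_1 D13082 (iv D12112) (iv F47579)
def n13083 : Q := act 8 n12082
theorem D13083 : act 8 n12082 = n13083 := rfl
theorem F51663 : act 0 n13083 = n12088 := d7_1 D13083 (iv D12088) (iv F47620)
theorem F51664 : act 2 n13083 = n12083 := d20_1 D13083 (iv D12083) D12082
theorem F51665 : act 3 n13083 = n12121 := d25_1 D13083 F47827 (iv F47621)
theorem F51666 : act 4 n13083 = n12124 := d29_1 D13083 (iv D12124) (iv F47622)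
theorem F51667 : act 5 n13083 = n12122 := d32_1 D13083 F47832 (iv F47623)
theorem F51668 : act 6 n13083 = n12085 := d34_1 D13083 (iv D12085) (iv F47624)
theorem F51669 : act 7 n12671 = n13083 := d31_0 F51667 F47831 (iv F49924)
def n13084 : Q := act 7 n12083
theorem D13084 : act 7 n12083 = n13084 := rfl
theorem F51670 : act 0 n13084 = n12089 := d6_1 D13084 (iv D12089) (iv F47626)
theorem F51671 : act 1 n13084 = n12798 := d13_1 D13084 (iv D12798) (iv F47627)
theorem F51672 : act 2 n13084 = n12671 := d19_1 D13084 F51669 F51664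
theorem F51673 : act 3 n13084 = n13084 := d24_1 D13084 (iv D13084) F47628 F43679 (iv F47628)
theorem F51674 : act 4 n13084 = n12125 := d28_1 D13084 (iv D12125) (iv F47629)
theorem F51675 : act 5 n13084 = n12672 := d31_1 D13084 F49930 F48809
theorem F51676 : act 6 n13084 = n12086 := d33_1 D13084 (iv D12086) (iv F47630)
theorem F51677 : act 8 n13084 = n13084 := d35_2 D12083 D13084 (iv D13084) (iv D12083) F43673
def n13085 : Q := act 0 n12084
theorem D13085 : act 0 n12084 = n13085 := rfl
theorem F51678 : act 1 n13085 = n12090 := d0_2 D12084 D13085 (iv D12090) (iv D11087) (iv F43680)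
theorem F51679 : act 2 n13085 = n12799 := d1_2 (iv F47631) D13085 (iv D12799)
theorem F51680 : act 3 n13085 = n12549 := d2_2 (iv F51009) D13085 (iv F51004)
theorem F51681 : act 4 n13085 = n12126 := d3_2 (iv F47632) D13085 (iv D12126)
theorem F51682 : act 5 n13085 = n13085 := d4_2 F47633 D13085 (iv D13085)
theorem F51683 : act 6 n13085 = n12550 := d5_2 F49589 D13085 (iv F49584)
theorem F51684 : act 7 n13085 = n13085 := d6_2 F47634 D13085 (iv D13085)
def n13086 : Q := act 8 n12084
theorem D13086 : act 8 n12084 = n13086 := rfl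
theorem F51685 : act 1 n13086 = n12085 := d14_1 D13086 (iv D12085) D12084
theorem F51686 : act 2 n13086 = n12800 := d20_1 D13086 (iv D12800) (iv F47631)
theorem F51687 : act 4 n13086 = n12127 := d29_1 D13086 (iv D12127) (iv F47632)
theorem F51688 : act 5 n13086 = n13086 := d32_1 D13086 (iv D13086) F47633
def n13087 : Q := act 7 n12085
theorem D13087 : act 7 n12085 = n13087 := rfl
theorem F51689 : act 0 n13087 = n12092 := d6_1 D13087 (iv D12092) (iv F47635)
theorem F51690 : act 2 n13087 = n12086 := d19_1 D13087 (iv D12086) (iv F47636)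
theorem F51691 : act 3 n13087 = n12670 := d24_1 D13087 (iv D12670) (iv F47586) (iv F51199) F51195
theorem F51692 : act 4 n13087 = n12128 := d28_1 D13087 (iv D12128) (iv F47637)
theorem F51693 : act 5 n13087 = n13087 := d31_1 D13087 (iv D13087) F47638
theorem F51694 : act 6 n13087 = n12671 := d33_1 D13087 F51669 F51668
theorem F51695 : act 8 n13087 = n13087 := d35_2 D12085 D13087 (iv D13087) (iv D12085) F43683
def n13088 : Q := act 8 n12090
theorem D13088 : act 8 n12090 = n13088 := rfl
theorem F51696 : act 0 n13088 = n12091 := d7_1 D13088 (iv D12091) D12090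
theorem F51697 : act 2 n13088 = n12094 := d20_1 D13088 (iv D12094) (iv F47666)
theorem F51698 : act 3 n13088 = n12294 := d25_1 D13088 F48475 (iv F47667)
theorem F51699 : act 4 n13088 = n12137 := d29_1 D13088 (iv D12137) (iv F47668)
theorem F51700 : act 5 n13088 = n13088 := d32_1 D13088 (iv D13088) F47669
theorem F51701 : act 6 n13088 = n12295 := d34_1 D13088 F48479 (iv F47670)
theorem F51702 : act 7 n12731 = n13088 := d33_0 F51701 F48478 (iv F50113)
def n13089 : Q := act 7 n12094
theorem D13089 : act 7 n12094 = n13089 := rfl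
theorem F51703 : act 0 n13089 = n12095 := d6_1 D13089 (iv D12095) (iv F47693)
theorem F51704 : act 1 n13089 = n12806 := d13_1 D13089 (iv D12806) (iv F47694)
theorem F51705 : act 2 n13089 = n12731 := d19_1 D13089 F51702 F51697
theorem F51706 : act 4 n13089 = n12140 := d28_1 D13089 (iv D12140) (iv F47696)
theorem F51707 : act 5 n13089 = n13089 := d31_1 D13089 (iv D13089) F47697
theorem F51708 : act 6 n13089 = n12732 := d33_1 D13089 F50762 F50761
theorem F51709 : act 8 n13089 = n13089 := d35_2 D12094 D13089 (iv D13089) (iv D12094) F43738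
theorem F51710 : act 3 n12779 = n13089 := d23_3 F51708 F50116 (iv F50294)
def n13090 : Q := act 3 n12097
theorem D13090 : act 3 n12097 = n13090 := rfl
theorem F51711 : act 0 n13090 = n12255 := d2_1 D13090 (iv D12255) (iv F47712)
theorem F51712 : act 1 n13090 = n13090 := d9_1 D13090 (iv D13090) F47713
theorem F51713 : act 4 n13090 = n12958 := d21_2 (iv F47715) D13090 (iv D12958) (iv D11945) (iv F44325)
theorem F51714 : act 5 n13090 = n12629 := d22_2 (iv F47716) D13090 (iv D12629)
theorem F51715 : act 6 n13090 = n12268 := d23_2 (iv F47717) D13090 (iv D12268)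
theorem F51716 : act 7 n13090 = n12807 := d24_2 D12097 D13090 (iv D12807) (iv D11817) (iv F43750)
def n13091 : Q := act 8 n12097
theorem D13091 : act 8 n12097 = n13091 := rfl
theorem F51717 : act 0 n13091 = n12256 := d7_1 D13091 (iv D12256) (iv F47712)
theorem F51718 : act 1 n13091 = n13091 := d14_1 D13091 (iv D13091) F47713
theorem F51719 : act 2 n13091 = n12099 := d20_1 D13091 (iv D12099) (iv F47714)
theorem F51720 : act 4 n13091 = n12267 := d29_1 D13091 (iv D12267) (iv F47715)
theorem F51721 : act 5 n13091 = n12630 := d32_1 D13091 (iv D12630) (iv F47716)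
theorem F51722 : act 6 n13091 = n12270 := d34_1 D13091 (iv D12270) (iv F47717)
theorem F51723 : act 7 n13091 = n12144 := d35_1 D13091 (iv D12144) (iv D11141) (iv F43754) D12097
def n13092 : Q := act 2 n12098
theorem D13092 : act 2 n12098 = n13092 := rfl
theorem F51724 : act 0 n13092 = n12257 := d1_1 D13092 (iv D12257) (iv F47718)
theorem F51725 : act 4 n13092 = n12259 := d16_2 (iv F47720) D13092 (iv D12259)
theorem F51726 : act 5 n13092 = n12631 := d17_2 (iv F47721) D13092 (iv D12631)
theorem F51727 : act 6 n13092 = n12262 := d18_2 (iv F47722) D13092 F48350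
theorem F51728 : act 7 n13092 = n12102 := d19_2 (iv F47723) D13092 (iv D12102)
def n13093 : Q := act 8 n12098
theorem D13093 : act 8 n12098 = n13093 := rfl
theorem F51729 : act 0 n13093 = n12258 := d7_1 D13093 (iv D12258) (iv F47718)
theorem F51730 : act 1 n13093 = n12114 := d14_1 D13093 (iv D12114) (iv F47719)
theorem F51731 : act 3 n13093 = n12099 := d25_1 D13093 (iv D12099) D12098
theorem F51732 : act 4 n13093 = n12260 := d29_1 D13093 (iv D12260) (iv F47720)
theorem F51733 : act 5 n13093 = n12633 := d32_1 D13093 (iv D12633) (iv F47721)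
theorem F51734 : act 6 n13093 = n12265 := d34_1 D13093 (iv D12265) (iv F47722)
def n13094 : Q := act 2 n12100
theorem D13094 : act 2 n12100 = n13094 := rfl
theorem F51735 : act 0 n13094 = n12259 := d1_1 D13094 (iv D12259) (iv F47730)
theorem F51736 : act 3 n13094 = n12817 := d15_2 D12100 D13094 (iv D12817) (iv D11823) (iv F43762)
theorem F51737 : act 4 n13094 = n12257 := d16_2 (iv F47732) D13094 (iv D12257)
theorem F51738 : act 6 n13094 = n12102 := d18_2 (iv F47733) D13094 (iv D12102)
theorem F51739 : act 7 n13094 = n12262 := d19_2 (iv F47734) D13094 F48350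
def n13095 : Q := act 8 n12100
theorem D13095 : act 8 n12100 = n13095 := rfl
theorem F51740 : act 0 n13095 = n12260 := d7_1 D13095 (iv D12260) (iv F47730)
theorem F51741 : act 1 n13095 = n12116 := d14_1 D13095 (iv D12116) (iv F47731)
theorem F51742 : act 3 n13095 = n12101 := d25_1 D13095 (iv D12101) D12100
theorem F51743 : act 4 n13095 = n12258 := d29_1 D13095 (iv D12258) (iv F47732)
theorem F51744 : act 6 n13095 = n12104 := d34_1 D13095 (iv D12104) (iv F47733)
def n13096 : Q := act 1 n12102
theorem D13096 : act 1 n12102 = n13096 := rfl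
theorem F51745 : act 2 n13096 = n12117 := d8_2 D12102 D13096 (iv D12117) (iv D11113) (iv F43766)
theorem F51746 : act 3 n13096 = n12820 := d9_2 (iv F47742) D13096 (iv D12820)
theorem F51747 : act 5 n13096 = n12634 := d11_2 (iv F47743) D13096 (iv D12634)
def n13097 : Q := act 4 n12102
theorem D13097 : act 4 n12102 = n13097 := rfl
theorem F51748 : act 0 n13097 = n12262 := d3_1 D13097 (iv D12262) (iv F47741)
theorem F51749 : act 2 n13097 = n12103 := d16_1 D13097 (iv D12103) D12102
theorem F51750 : act 6 n13097 = n12257 := d27_2 F51738 D13097 (iv F51737)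
theorem F51751 : act 7 n13097 = n12259 := d28_2 F51728 D13097 (iv F51725)
def n13098 : Q := act 8 n12102
theorem D13098 : act 8 n12102 = n13098 := rfl
theorem F51752 : act 0 n13098 = n12263 := d7_1 D13098 (iv D12263) (iv F47741)
theorem F51753 : act 2 n13098 = n12104 := d20_1 D13098 (iv D12104) D12102
theorem F51754 : act 3 n13098 = n12822 := d25_1 D13098 (iv D12822) (iv F47742)
theorem F51755 : act 5 n13098 = n12636 := d32_1 D13098 (iv D12636) (iv F47743)
def n13099 : Q := act 8 n12103
theorem D13099 : act 8 n12103 = n13099 := rfl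
theorem F51756 : act 0 n13099 = n12265 := d7_1 D13099 (iv D12265) (iv F47744)
theorem F51757 : act 1 n13099 = n12119 := d14_1 D13099 (iv D12119) (iv F47745)
theorem F51758 : act 3 n13099 = n12107 := d25_1 D13099 (iv D12107) (iv F47746)
theorem F51759 : act 4 n13099 = n12104 := d29_1 D13099 (iv D12104) D12103
theorem F51760 : act 6 n13099 = n12258 := d34_1 D13099 (iv D12258) (iv F47747)
def n13100 : Q := act 7 n12104
theorem D13100 : act 7 n12104 = n13100 := rfl
theorem F51761 : act 0 n13100 = n12266 := d6_1 D13100 (iv D12266) (iv F47749)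
theorem F51762 : act 1 n13100 = n12120 := d13_1 D13100 (iv D12120) (iv F47750)
theorem F51763 : act 3 n13100 = n12161 := d24_1 D13100 (iv D12161) F43981 (iv F43773) (iv F47751)
theorem F51764 : act 5 n13100 = n12639 := d31_1 D13100 (iv D12639) (iv F47752)
def n13101 : Q := act 3 n12105
theorem D13101 : act 3 n12105 = n13101 := rfl
theorem F51765 : act 0 n13101 = n12268 := d2_1 D13101 (iv D12268) (iv F47753)
theorem F51766 : act 1 n13101 = n12417 := d9_1 D13101 (iv D12417) (iv F47754)
theorem F51767 : act 4 n13101 = n12828 := d21_2 D12105 D13101 (iv D12828) (iv D11830) (iv F43783)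
theorem F51768 : act 6 n13101 = n12255 := d23_2 (iv F47756) D13101 (iv D12255)
theorem F51769 : act 7 n13101 = n12922 := d24_2 (iv F47757) D13101 (iv D12922) (iv D11924) (iv F44295)
def n13102 : Q := act 8 n12105
theorem D13102 : act 8 n12105 = n13102 := rfl
theorem F51770 : act 0 n13102 = n12270 := d7_1 D13102 (iv D12270) (iv F47753)
theorem F51771 : act 1 n13102 = n12418 := d14_1 D13102 (iv D12418) (iv F47754)
theorem F51772 : act 2 n13102 = n12107 := d20_1 D13102 (iv D12107) (iv F47755)
theorem F51773 : act 4 n13102 = n12106 := d29_1 D13102 (iv D12106) D12105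
theorem F51774 : act 6 n13102 = n12256 := d34_1 D13102 (iv D12256) (iv F47756)
theorem F51775 : act 7 n13102 = n12304 := d35_1 D13102 (iv D12304) (iv D11286) (iv F44297) (iv F47757)
def n13103 : Q := act 5 n12108
theorem D13103 : act 5 n12108 = n13103 := rfl
theorem F51776 : act 0 n13103 = n12273 := d4_1 D13103 (iv D12273) (iv F47770)
theorem F51777 : act 2 n13103 = n12647 := d17_1 D13103 (iv D12647) (iv F47771)
theorem F51778 : act 3 n13103 = n12109 := d22_1 D13103 (iv D12109) D12108
def n13104 : Q := act 8 n12109
theorem D13104 : act 8 n12109 = n13104 := rfl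
theorem F51779 : act 0 n13104 = n12277 := d7_1 D13104 (iv D12277) (iv F47774)
theorem F51780 : act 2 n13104 = n12112 := d20_1 D13104 (iv D12112) (iv F47775)
theorem F51781 : act 5 n13104 = n12110 := d32_1 D13104 (iv D12110) D12109
def n13105 : Q := act 7 n12112
theorem D13105 : act 7 n12112 = n13105 := rfl
theorem F51782 : act 0 n13105 = n12281 := d6_1 D13105 (iv D12281) (iv F47787)
theorem F51783 : act 1 n13105 = n12121 := d13_1 D13105 (iv D12121) (iv F47788)
theorem F51784 : act 4 n13105 = n12309 := d28_1 D13105 (iv F51651) F51648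
theorem F51785 : act 5 n13105 = n12113 := d31_1 D13105 (iv D12113) (iv F47790)
theorem F51786 : act 8 n13105 = n12308 := d35_2 D12112 D13105 (iv D12308) F44476 (iv F43808)
def n13106 : Q := act 7 n12114
theorem D13106 : act 7 n12114 = n13106 := rfl
theorem F51787 : act 0 n13106 = n12129 := d6_1 D13106 (iv D12129) (iv F47796)
theorem F51788 : act 3 n13106 = n12192 := d24_1 D13106 (iv D12192) F44068 (iv F43830) (iv F47797)
theorem F51789 : act 4 n13106 = n12286 := d28_1 D13106 (iv D12286) (iv F47798)
theorem F51790 : act 5 n13106 = n12660 := d31_1 D13106 (iv D12660) (iv F47799)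
theorem F51791 : act 6 n13106 = n12293 := d33_1 D13106 (iv D12293) (iv F47800)
theorem F51792 : act 8 n13106 = n12120 := d35_2 D12114 D13106 (iv D12120) (iv D11115) (iv F43824)
def n13107 : Q := act 1 n12115
theorem D13107 : act 1 n12115 = n13107 := rfl
theorem F51793 : act 3 n13107 = n12123 := d9_2 (iv F47802) D13107 (iv D12123)
theorem F51794 : act 4 n13107 = n12283 := d10_2 (iv F47803) D13107 (iv D12283)
theorem F51795 : act 6 n13107 = n12117 := d12_2 (iv F47804) D13107 (iv D12117)
theorem F51796 : act 7 n13107 = n12287 := d13_2 (iv F47805) D13107 F48449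
def n13108 : Q := act 8 n12115
theorem D13108 : act 8 n12115 = n13108 := rfl
theorem F51797 : act 0 n13108 = n12130 := d7_1 D13108 (iv D12130) (iv F47801)
theorem F51798 : act 2 n13108 = n12116 := d20_1 D13108 (iv D12116) D12115
theorem F51799 : act 3 n13108 = n12124 := d25_1 D13108 (iv D12124) (iv F47802)
theorem F51800 : act 4 n13108 = n12284 := d29_1 D13108 (iv D12284) (iv F47803)
theorem F51801 : act 6 n13108 = n12118 := d34_1 D13108 (iv D12118) (iv F47804)
def n13109 : Q := act 7 n12116
theorem D13109 : act 7 n12116 = n13109 := rfl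
theorem F51802 : act 0 n13109 = n12131 := d6_1 D13109 (iv D12131) (iv F47806)
theorem F51803 : act 3 n13109 = n12200 := d24_1 D13109 (iv D12200) F44083 (iv F43839) (iv F47807)
theorem F51804 : act 4 n13109 = n12285 := d28_1 D13109 (iv D12285) (iv F47808)
theorem F51805 : act 6 n13109 = n12120 := d33_1 D13109 (iv D12120) (iv F47809)
theorem F51806 : act 8 n13109 = n12293 := d35_2 D12116 D13109 (iv D12293) (iv D11267) (iv F43834)
def n13110 : Q := act 0 n12117
theorem D13110 : act 0 n12117 = n13110 := rfl
theorem F51807 : act 1 n13110 = n12132 := d0_2 D12117 D13110 (iv D12132) (iv D11127) (iv F43840)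
theorem F51808 : act 3 n13110 = n12126 := d2_2 (iv F47810) D13110 (iv D12126)
theorem F51809 : act 5 n13110 = n12195 := d4_2 (iv F47811) D13110 F48112
def n13111 : Q := act 8 n12117
theorem D13111 : act 8 n12117 = n13111 := rfl
theorem F51810 : act 1 n13111 = n12118 := d14_1 D13111 (iv D12118) D12117
theorem F51811 : act 3 n13111 = n12127 := d25_1 D13111 (iv D12127) (iv F47810)
theorem F51812 : act 5 n13111 = n12662 := d32_1 D13111 (iv D12662) (iv F47811)
def n13112 : Q := act 7 n12118
theorem D13112 : act 7 n12118 = n13112 := rfl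
theorem F51813 : act 0 n13112 = n12134 := d6_1 D13112 (iv D12134) (iv F47812)
theorem F51814 : act 2 n13112 = n12120 := d19_1 D13112 (iv D12120) (iv F47813)
theorem F51815 : act 5 n13112 = n12664 := d31_1 D13112 (iv D12664) (iv F47815)
def n13113 : Q := act 7 n12119
theorem D13113 : act 7 n12119 = n13113 := rfl
theorem F51816 : act 0 n13113 = n12135 := d6_1 D13113 (iv D12135) (iv F47816)
theorem F51817 : act 3 n13113 = n12365 := d24_1 D13113 (iv D12365) F44597 (iv F43854) (iv F47817)
theorem F51818 : act 4 n13113 = n12120 := d28_1 D13113 (iv D12120) (iv F47818)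
theorem F51819 : act 6 n13113 = n12285 := d33_1 D13113 (iv D12285) (iv F47819)
theorem F51820 : act 8 n13113 = n12286 := d35_2 D12119 D13113 (iv D12286) (iv D11262) (iv F43846)
def n13114 : Q := act 8 n12123
theorem D13114 : act 8 n12123 = n13114 := rfl
theorem F51821 : act 1 n13114 = n12124 := d14_1 D13114 (iv D12124) D12123
theorem F51822 : act 2 n13114 = n12878 := d20_1 D13114 (iv D12878) (iv F47833)
theorem F51823 : act 6 n13114 = n12127 := d34_1 D13114 (iv D12127) (iv F47834)
def n13115 : Q := act 7 n12124
theorem D13115 : act 7 n12124 = n13115 := rfl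
theorem F51824 : act 0 n13115 = n12136 := d6_1 D13115 (iv D12136) (iv F47836)
theorem F51825 : act 2 n13115 = n12125 := d19_1 D13115 (iv D12125) (iv F47837)
theorem F51826 : act 4 n13115 = n12671 := d28_1 D13115 F51669 F51666
theorem F51827 : act 6 n13115 = n12128 := d33_1 D13115 (iv D12128) (iv F47838)
theorem F51828 : act 8 n13115 = n13115 := d35_2 D12124 D13115 (iv D13115) (iv D12124) F43865
def n13116 : Q := act 8 n12126
theorem D13116 : act 8 n12126 = n13116 := rfl
theorem F51829 : act 0 n13116 = n12127 := d7_1 D13116 (iv D12127) D12126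
theorem F51830 : act 1 n13116 = n12137 := d14_1 D13116 (iv D12137) (iv F47844)
theorem F51831 : act 2 n13116 = n12880 := d20_1 D13116 (iv D12880) (iv F47845)
theorem F51832 : act 5 n13116 = n12218 := d32_1 D13116 (iv D12218) (iv F47846)
def n13117 : Q := act 7 n12127
theorem D13117 : act 7 n12127 = n13117 := rfl
theorem F51833 : act 1 n13117 = n12128 := d13_1 D13117 (iv D12128) (iv F47848)
theorem F51834 : act 2 n13117 = n12881 := d19_1 D13117 (iv D12881) (iv F47849)
theorem F51835 : act 5 n13117 = n12673 := d31_1 D13117 (iv D12673) (iv F47850)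
theorem F51836 : act 8 n13117 = n13117 := d35_2 D12127 D13117 (iv D13117) (iv D12127) F43872
def n13118 : Q := act 3 n12128
theorem D13118 : act 3 n12128 = n13118 := rfl
theorem F51837 : act 0 n13118 = n12139 := d2_1 D13118 (iv D12139) (iv F47851)
theorem F51838 : act 2 n13118 = n12222 := d15_1 D13118 (iv D12222) F44151 (iv F43878) (iv F47852)
theorem F51839 : act 5 n13118 = n12674 := d22_2 (iv F47853) D13118 (iv D12674)
theorem F51840 : act 8 n13118 = n13118 := d25_2 F47854 D13118 (iv D13118)
def n13119 : Q := act 7 n12130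
theorem D13119 : act 7 n12130 = n13119 := rfl
theorem F51841 : act 2 n13119 = n12131 := d19_1 D13119 (iv D12131) (iv F47861)
theorem F51842 : act 4 n13119 = n12297 := d28_1 D13119 (iv D12297) (iv F47863)
theorem F51843 : act 6 n13119 = n12134 := d33_1 D13119 (iv D12134) (iv F47864)
theorem F51844 : act 8 n13119 = n12299 := d35_2 D12130 D13119 (iv D12299) (iv D11278) (iv F43889)
def n13120 : Q := act 8 n12132
theorem D13120 : act 8 n12132 = n13120 := rfl
theorem F51845 : act 0 n13120 = n12133 := d7_1 D13120 (iv D12133) D12132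
theorem F51846 : act 2 n13120 = n12194 := d20_1 D13120 (iv D12194) (iv F47870)
theorem F51847 : act 3 n13120 = n12137 := d25_1 D13120 (iv D12137) (iv F47871)
theorem F51848 : act 5 n13120 = n12197 := d32_1 D13120 (iv D12197) (iv F47872)
def n13121 : Q := act 7 n12133
theorem D13121 : act 7 n12133 = n13121 := rfl
theorem F51849 : act 1 n13121 = n12134 := d13_1 D13121 (iv D12134) (iv F47873)
theorem F51850 : act 2 n13121 = n12233 := d19_1 D13121 (iv D12233) (iv F47874)
theorem F51851 : act 5 n13121 = n12235 := d31_1 D13121 (iv D12235) (iv F47876)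
def n13122 : Q := act 3 n12134
theorem D13122 : act 3 n12134 = n13122 := rfl
theorem F51852 : act 2 n13122 = n12244 := d15_1 D13122 (iv D12244) F44229 (iv F43905) (iv F47877)
theorem F51853 : act 5 n13122 = n12678 := d22_2 (iv F47878) D13122 (iv D12678)
theorem F51854 : act 7 n13122 = n12139 := d24_2 D12134 D13122 (iv D12139) (iv D11137) (iv F43898)
def n13123 : Q := act 3 n12136
theorem D13123 : act 3 n12136 = n13123 := rfl
theorem F51855 : act 1 n13123 = n12742 := d9_1 D13123 F50141 (iv F47884)
theorem F51856 : act 2 n13123 = n12251 := d15_1 D13123 (iv D12251) F44273 (iv F43920) (iv F47885)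
theorem F51857 : act 4 n13123 = n12682 := d21_2 (iv F47886) D13123 (iv D12682) F45961 D11684
theorem F51858 : act 6 n13123 = n12139 := d23_2 (iv F47887) D13123 (iv D12139)
theorem F51859 : act 8 n13123 = n13123 := d25_2 F47888 D13123 (iv D13123)
def n13124 : Q := act 7 n12137
theorem D13124 : act 7 n12137 = n13124 := rfl
theorem F51860 : act 0 n13124 = n12138 := d6_1 D13124 (iv D12138) (iv F47889)
theorem F51861 : act 2 n13124 = n12140 := d19_1 D13124 (iv D12140) (iv F47890)
theorem F51862 : act 4 n13124 = n12731 := d28_1 D13124 F51702 F51699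
theorem F51863 : act 5 n13124 = n12219 := d31_1 D13124 (iv D12219) (iv F47891)
theorem F51864 : act 6 n13124 = n12733 := d33_1 D13124 F50754 F50753
theorem F51865 : act 8 n13124 = n13124 := d35_2 D12137 D13124 (iv D13124) (iv D12137) F43925
def n13125 : Q := act 3 n12138
theorem D13125 : act 3 n12138 = n13125 := rfl
theorem F51866 : act 1 n13125 = n12139 := d9_1 D13125 (iv D12139) (iv F47892)
theorem F51867 : act 4 n13125 = n12740 := d21_2 (iv F47894) D13125 (iv D12740) F46102 D11734
theorem F51868 : act 5 n13125 = n12251 := d22_2 (iv F47895) D13125 (iv D12251)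
theorem F51869 : act 6 n13125 = n12742 := d23_2 (iv F47896) D13125 F50141
theorem F51870 : act 8 n13125 = n13125 := d25_2 F47897 D13125 (iv D13125)
def n13126 : Q := act 4 n12139
theorem D13126 : act 4 n12139 = n13126 := rfl
theorem F51871 : act 1 n13126 = n12740 := d10_1 D13126 (iv F51867) F51866
theorem F51872 : act 2 n13126 = n12254 := d16_1 D13126 (iv D12254) (iv F47898)
theorem F51873 : act 3 n13126 = n12681 := d21_1 D13126 F49952 (iv F47681) F47682 D12139
theorem F51874 : act 6 n13126 = n12682 := d27_2 F51858 D13126 (iv F51857)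
theorem F51875 : act 8 n13126 = n13126 := d29_2 F47900 D13126 (iv D13126)
def n13127 : Q := act 7 n12141
theorem D13127 : act 7 n12141 = n13127 := rfl
theorem F51876 : act 0 n13127 = n12302 := d6_1 D13127 (iv D12302) (iv F47905)
theorem F51877 : act 1 n13127 = n13127 := d13_1 D13127 (iv D13127) F47906
theorem F51878 : act 2 n13127 = n12145 := d19_1 D13127 (iv D12145) (iv F47907)
theorem F51879 : act 4 n13127 = n12548 := d28_1 D13127 (iv D12548) (iv F47909)
theorem F51880 : act 5 n13127 = n12142 := d31_1 D13127 (iv D12142) D12141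
def n13128 : Q := act 3 n12142
theorem D13128 : act 3 n12142 = n13128 := rfl
theorem F51881 : act 0 n13128 = n12303 := d2_1 D13128 (iv D12303) (iv F47911)
theorem F51882 : act 1 n13128 = n13128 := d9_1 D13128 (iv D13128) F47912
theorem F51883 : act 6 n13128 = n12143 := d23_2 (iv F47915) D13128 (iv D12143)
def n13129 : Q := act 8 n12142
theorem D13129 : act 8 n12142 = n13129 := rfl
theorem F51884 : act 0 n13129 = n12304 := d7_1 D13129 (iv D12304) (iv F47911)
theorem F51885 : act 1 n13129 = n13129 := d14_1 D13129 (iv D13129) F47912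
theorem F51886 : act 2 n13129 = n12147 := d20_1 D13129 (iv D12147) (iv F47913)
theorem F51887 : act 4 n13129 = n12271 := d29_1 D13129 F48384 (iv F47914)
theorem F51888 : act 6 n13129 = n12144 := d34_1 D13129 (iv D12144) (iv F47915)
theorem F51889 : act 7 n13129 = n12270 := d35_1 D13129 (iv D12270) F44337 (iv F43943) D12142
def n13130 : Q := act 2 n12143
theorem D13130 : act 2 n12143 = n13130 := rfl
theorem F51890 : act 0 n13130 = n12305 := d1_1 D13130 (iv D12305) (iv F47916)
theorem F51891 : act 3 n13130 = n12148 := d15_2 D12143 D13130 (iv D12148) (iv D11144) (iv F43946)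
def n13131 : Q := act 4 n12143
theorem D13131 : act 4 n12143 = n13131 := rfl
theorem F51892 : act 0 n13131 = n12306 := d3_1 D13131 (iv D12306) (iv F47916)
theorem F51893 : act 1 n13131 = n13131 := d10_1 D13131 (iv D13131) F47917
theorem F51894 : act 3 n13131 = n12510 := d21_1 D13131 (iv D12510) (iv D11490) (iv F43947) D12143
def n13132 : Q := act 8 n12143
theorem D13132 : act 8 n12143 = n13132 := rfl
theorem F51895 : act 0 n13132 = n12307 := d7_1 D13132 (iv D12307) (iv F47916)
theorem F51896 : act 1 n13132 = n13132 := d14_1 D13132 (iv D13132) F47917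
theorem F51897 : act 3 n13132 = n12144 := d25_1 D13132 (iv D12144) D12143
def n13133 : Q := act 3 n12145
theorem D13133 : act 3 n12145 = n13133 := rfl
theorem F51898 : act 0 n13133 = n12283 := d2_1 D13133 F48435 (iv F47922)
theorem F51899 : act 1 n13133 = n12183 := d9_1 D13133 (iv D12183) (iv F47923)
theorem F51900 : act 5 n13133 = n12146 := d22_2 (iv F47925) D13133 (iv D12146)
theorem F51901 : act 7 n13133 = n12151 := d24_2 D12145 D13133 (iv D12151) (iv D11146) (iv F43950)
def n13134 : Q := act 8 n12145
theorem D13134 : act 8 n12145 = n13134 := rfl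
theorem F51902 : act 0 n13134 = n12309 := d7_1 D13134 (iv D12309) (iv F47922)
theorem F51903 : act 1 n13134 = n12184 := d14_1 D13134 (iv D12184) (iv F47923)
theorem F51904 : act 4 n13134 = n12281 := d29_1 D13134 F48428 (iv F47924)
theorem F51905 : act 5 n13134 = n12147 := d32_1 D13134 (iv D12147) (iv F47925)
theorem F51906 : act 7 n13134 = n12272 := d35_1 D13134 (iv D12272) F44344 (iv F43952) D12145
def n13135 : Q := act 2 n12146
theorem D13135 : act 2 n12146 = n13135 := rfl
theorem F51907 : act 0 n13135 = n12310 := d1_1 D13135 (iv D12310) (iv F47926)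
theorem F51908 : act 4 n13135 = n12581 := d16_2 (iv F47928) D13135 (iv D12581)
theorem F51909 : act 6 n13135 = n12148 := d18_2 (iv F47929) D13135 (iv D12148)
theorem F51910 : act 7 n13135 = n12153 := d19_2 (iv F47930) D13135 (iv D12153)
def n13136 : Q := act 8 n12146
theorem D13136 : act 8 n12146 = n13136 := rfl
theorem F51911 : act 0 n13136 = n12312 := d7_1 D13136 (iv D12312) (iv F47926)
theorem F51912 : act 1 n13136 = n12186 := d14_1 D13136 (iv D12186) (iv F47927)
theorem F51913 : act 3 n13136 = n12147 := d25_1 D13136 (iv D12147) D12146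
theorem F51914 : act 4 n13136 = n12350 := d29_1 D13136 F48641 (iv F47928)
theorem F51915 : act 6 n13136 = n12150 := d34_1 D13136 (iv D12150) (iv F47929)
def n13137 : Q := act 1 n12148
theorem D13137 : act 1 n12148 = n13137 := rfl
theorem F51916 : act 2 n13137 = n12187 := d8_2 D12148 D13137 (iv D12187) (iv D11170) (iv F43958)
theorem F51917 : act 7 n13137 = n12156 := d13_2 (iv F47937) D13137 (iv D12156)
def n13138 : Q := act 4 n12148
theorem D13138 : act 4 n12148 = n13138 := rfl
theorem F51918 : act 0 n13138 = n12314 := d3_1 D13138 (iv D12314) (iv F47936)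
theorem F51919 : act 2 n13138 = n12149 := d16_1 D13138 (iv D12149) D12148
theorem F51920 : act 6 n13138 = n12581 := d27_2 F51909 D13138 (iv F51908)
theorem F51921 : act 7 n13138 = n12157 := d28_2 (iv F47937) D13138 (iv D12157)
def n13139 : Q := act 8 n12148
theorem D13139 : act 8 n12148 = n13139 := rfl
theorem F51922 : act 0 n13139 = n12315 := d7_1 D13139 (iv D12315) (iv F47936)
theorem F51923 : act 2 n13139 = n12150 := d20_1 D13139 (iv D12150) D12148
def n13140 : Q := act 5 n12149
theorem D13140 : act 5 n12149 = n13140 := rfl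
theorem F51924 : act 0 n13140 = n12316 := d4_1 D13140 (iv D12316) (iv F47938)
theorem F51925 : act 1 n13140 = n12190 := d11_1 D13140 (iv D12190) (iv F47939)
theorem F51926 : act 3 n13140 = n12513 := d22_1 D13140 (iv D12513) (iv F47940)
theorem F51927 : act 7 n13140 = n12159 := d31_2 (iv F47942) D13140 (iv D12159)
def n13141 : Q := act 8 n12149
theorem D13141 : act 8 n12149 = n13141 := rfl
theorem F51928 : act 0 n13141 = n12317 := d7_1 D13141 (iv D12317) (iv F47938)
theorem F51929 : act 1 n13141 = n12191 := d14_1 D13141 (iv D12191) (iv F47939)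
theorem F51930 : act 3 n13141 = n12340 := d25_1 D13141 F48611 (iv F47940)
theorem F51931 : act 4 n13141 = n12150 := d29_1 D13141 (iv D12150) D12149
theorem F51932 : act 6 n13141 = n12350 := d34_1 D13141 F48641 (iv F47941)
def n13142 : Q := act 7 n12150
theorem D13142 : act 7 n12150 = n13142 := rfl
theorem F51933 : act 0 n13142 = n12318 := d6_1 D13142 (iv D12318) (iv F47943)
theorem F51934 : act 1 n13142 = n12192 := d13_1 D13142 (iv D12192) (iv F47944)
theorem F51935 : act 8 n13142 = n12161 := d35_2 D12150 D13142 (iv D12161) (iv D11151) (iv F43959)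
def n13143 : Q := act 2 n12151
theorem D13143 : act 2 n12151 = n13143 := rfl
theorem F51936 : act 0 n13143 = n12261 := d1_1 D13143 F48347 (iv F47946)
theorem F51937 : act 3 n13143 = n12948 := d15_2 D12151 D13143 F51079 F47195 (iv F43965)
theorem F51938 : act 5 n13143 = n12153 := d17_2 (iv F47948) D13143 (iv D12153)
def n13144 : Q := act 4 n12151
theorem D13144 : act 4 n12151 = n13144 := rfl
theorem F51939 : act 0 n13144 = n12287 := d3_1 D13144 (iv D12287) (iv F47946)
theorem F51940 : act 1 n13144 = n12193 := d10_1 D13144 (iv D12193) (iv F47947)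
theorem F51941 : act 3 n13144 = n13144 := d21_1 D13144 (iv D13144) (iv D12151) F43966 D12151
def n13145 : Q := act 8 n12151
theorem D13145 : act 8 n12151 = n13145 := rfl
theorem F51942 : act 0 n13145 = n12288 := d7_1 D13145 (iv D12288) (iv F47946)
theorem F51943 : act 1 n13145 = n12194 := d14_1 D13145 (iv D12194) (iv F47947)
theorem F51944 : act 3 n13145 = n12152 := d25_1 D13145 (iv D12152) D12151
theorem F51945 : act 5 n13145 = n12155 := d32_1 D13145 (iv D12155) (iv F47948)
def n13146 : Q := act 1 n12153
theorem D13146 : act 1 n12153 = n13146 := rfl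
theorem F51946 : act 0 n13146 = n12634 := d0_1 D13146 (iv D12634) F45830 (iv F44491) (iv F47954)
theorem F51947 : act 2 n13146 = n12195 := d8_2 D12153 D13146 (iv D12195) (iv D11175) (iv F43969)
theorem F51948 : act 6 n13146 = n12156 := d12_2 (iv F47955) D13146 (iv D12156)
def n13147 : Q := act 4 n12153
theorem D13147 : act 4 n12153 = n13147 := rfl
theorem F51949 : act 0 n13147 = n12319 := d3_1 D13147 (iv D12319) (iv F47954)
theorem F51950 : act 2 n13147 = n12154 := d16_1 D13147 (iv D12154) D12153
theorem F51951 : act 6 n13147 = n12157 := d27_2 (iv F47955) D13147 (iv D12157)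
theorem F51952 : act 7 n13147 = n12581 := d28_2 F51910 D13147 (iv F51908)
def n13148 : Q := act 8 n12153
theorem D13148 : act 8 n12153 = n13148 := rfl
theorem F51953 : act 0 n13148 = n12320 := d7_1 D13148 (iv D12320) (iv F47954)
theorem F51954 : act 2 n13148 = n12155 := d20_1 D13148 (iv D12155) D12153
theorem F51955 : act 6 n13148 = n12158 := d34_1 D13148 (iv D12158) (iv F47955)
def n13149 : Q := act 5 n12154
theorem D13149 : act 5 n12154 = n13149 := rfl
theorem F51956 : act 0 n13149 = n12321 := d4_1 D13149 (iv D12321) (iv F47956)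
theorem F51957 : act 1 n13149 = n12198 := d11_1 D13149 (iv D12198) (iv F47957)
theorem F51958 : act 3 n13149 = n12164 := d22_1 D13149 (iv D12164) (iv F47958)
theorem F51959 : act 7 n13149 = n12580 := d31_2 (iv F47960) D13149 F49551
def n13150 : Q := act 8 n12154
theorem D13150 : act 8 n12154 = n13150 := rfl
theorem F51960 : act 0 n13150 = n12322 := d7_1 D13150 (iv D12322) (iv F47956)
theorem F51961 : act 1 n13150 = n12199 := d14_1 D13150 (iv D12199) (iv F47957)
theorem F51962 : act 3 n13150 = n12165 := d25_1 D13150 (iv D12165) (iv F47958)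
theorem F51963 : act 4 n13150 = n12155 := d29_1 D13150 (iv D12155) D12154
theorem F51964 : act 6 n13150 = n12160 := d34_1 D13150 (iv D12160) (iv F47959)
def n13151 : Q := act 7 n12155
theorem D13151 : act 7 n12155 = n13151 := rfl
theorem F51965 : act 0 n13151 = n12323 := d6_1 D13151 (iv D12323) (iv F47961)
theorem F51966 : act 1 n13151 = n12200 := d13_1 D13151 (iv D12200) (iv F47962)
theorem F51967 : act 6 n13151 = n12161 := d33_1 D13151 (iv D12161) (iv F47964)
def n13152 : Q := act 0 n12156
theorem D13152 : act 0 n12156 = n13152 := rfl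
theorem F51968 : act 1 n13152 = n12324 := d0_2 D12156 D13152 (iv D12324) (iv D11299) (iv F43975)
theorem F51969 : act 2 n13152 = n12201 := d1_2 (iv F47965) D13152 (iv D12201)
theorem F51970 : act 3 n13152 = n13146 := d2_2 F49785 D13152 F51946
theorem F51971 : act 6 n13152 = n12634 := d5_2 F51948 D13152 (iv F51946)
def n13153 : Q := act 4 n12156
theorem D13153 : act 4 n12156 = n13153 := rfl
theorem F51972 : act 1 n13153 = n12157 := d10_1 D13153 (iv D12157) D12156
theorem F51973 : act 2 n13153 = n12202 := d16_1 D13153 (iv D12202) (iv F47965)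
def n13154 : Q := act 8 n12156
theorem D13154 : act 8 n12156 = n13154 := rfl
theorem F51974 : act 1 n13154 = n12158 := d14_1 D13154 (iv D12158) D12156
theorem F51975 : act 2 n13154 = n12203 := d20_1 D13154 (iv D12203) (iv F47965)
def n13155 : Q := act 3 n12157
theorem D13155 : act 3 n12157 = n13155 := rfl
theorem F51976 : act 0 n13155 = n12327 := d2_1 D13155 (iv D12327) (iv F47966)
theorem F51977 : act 2 n13155 = n12166 := d15_1 D13155 (iv D12166) F43999 (iv F43978) (iv F47967)
def n13156 : Q := act 5 n12157
theorem D13156 : act 5 n12157 = n13156 := rfl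
theorem F51978 : act 0 n13156 = n12328 := d4_1 D13156 (iv D12328) (iv F47966)
theorem F51979 : act 2 n13156 = n12159 := d17_1 D13156 (iv D12159) (iv F47967)
def n13157 : Q := act 8 n12157
theorem D13157 : act 8 n12157 = n13157 := rfl
theorem F51980 : act 0 n13157 = n12329 := d7_1 D13157 (iv D12329) (iv F47966)
theorem F51981 : act 2 n13157 = n12160 := d20_1 D13157 (iv D12160) (iv F47967)
theorem F51982 : act 4 n13157 = n12158 := d29_1 D13157 (iv D12158) D12157
def n13158 : Q := act 7 n12158
theorem D13158 : act 7 n12158 = n13158 := rfl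
theorem F51983 : act 0 n13158 = n12330 := d6_1 D13158 (iv D12330) (iv F47968)
theorem F51984 : act 2 n13158 = n12161 := d19_1 D13158 (iv D12161) (iv F47969)
def n13159 : Q := act 6 n12159
theorem D13159 : act 6 n12159 = n13159 := rfl
theorem F51985 : act 0 n13159 = n12331 := d5_1 D13159 (iv D12331) (iv F47970)
theorem F51986 : act 1 n13159 = n12207 := d12_1 D13159 (iv D12207) (iv F47971)
theorem F51987 : act 3 n13159 = n12170 := d23_1 D13159 (iv D12170) (iv F47972)
def n13160 : Q := act 8 n12159
theorem D13160 : act 8 n12159 = n13160 := rfl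
theorem F51988 : act 0 n13160 = n12332 := d7_1 D13160 (iv D12332) (iv F47970)
theorem F51989 : act 1 n13160 = n12208 := d14_1 D13160 (iv D12208) (iv F47971)
theorem F51990 : act 3 n13160 = n12171 := d25_1 D13160 (iv D12171) (iv F47972)
theorem F51991 : act 5 n13160 = n12160 := d32_1 D13160 (iv D12160) D12159
def n13161 : Q := act 7 n12160
theorem D13161 : act 7 n12160 = n13161 := rfl
theorem F51992 : act 0 n13161 = n12333 := d6_1 D13161 (iv D12333) (iv F47973)
theorem F51993 : act 1 n13161 = n12209 := d13_1 D13161 (iv D12209) (iv F47974)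
theorem F51994 : act 4 n13161 = n12161 := d28_1 D13161 (iv D12161) (iv F47976)
def n13162 : Q := act 3 n12162
theorem D13162 : act 3 n12162 = n13162 := rfl
theorem F51995 : act 0 n13162 = n12334 := d2_1 D13162 (iv D12334) (iv F47979)
theorem F51996 : act 1 n13162 = n13162 := d9_1 D13162 (iv D13162) F47980
theorem F51997 : act 6 n13162 = n12166 := d23_2 (iv F47982) D13162 (iv D12166)
def n13163 : Q := act 5 n12162
theorem D13163 : act 5 n12162 = n13163 := rfl
theorem F51998 : act 0 n13163 = n12335 := d4_1 D13163 (iv D12335) (iv F47979)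
theorem F51999 : act 1 n13163 = n13163 := d11_1 D13163 (iv D13163) F47980
theorem F52000 : act 2 n13163 = n12164 := d17_1 D13163 (iv D12164) (iv F47981)
theorem F52001 : act 4 n13163 = n13163 := d26_1 D13163 (iv D13163) (iv D12162) F43984 D12162
theorem F52002 : act 7 n13163 = n12518 := d31_2 (iv F47983) D13163 (iv D12518)
def n13164 : Q := act 8 n12162
theorem D13164 : act 8 n12162 = n13164 := rfl
theorem F52003 : act 0 n13164 = n12336 := d7_1 D13164 (iv D12336) (iv F47979)
theorem F52004 : act 1 n13164 = n13164 := d14_1 D13164 (iv D13164) F47980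
theorem F52005 : act 2 n13164 = n12165 := d20_1 D13164 (iv D12165) (iv F47981)
theorem F52006 : act 4 n13164 = n12163 := d29_1 D13164 (iv D12163) D12162
theorem F52007 : act 6 n13164 = n12168 := d34_1 D13164 (iv D12168) (iv F47982)
theorem F52008 : act 7 n13164 = n12560 := d35_1 D13164 (iv D12560) F45447 (iv F45231) (iv F47983)
def n13165 : Q := act 6 n12164
theorem D13165 : act 6 n12164 = n13165 := rfl
theorem F52009 : act 0 n13165 = n12338 := d5_1 D13165 (iv D12338) (iv F47990)
theorem F52010 : act 1 n13165 = n12210 := d12_1 D13165 (iv D12210) (iv F47991)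
theorem F52011 : act 4 n13165 = n13165 := d27_1 D13165 (iv D13165) F47992
theorem F52012 : act 5 n13165 = n12170 := d30_1 D13165 (iv D12170) (iv D11157) (iv F43989) D12164
theorem F52013 : act 7 n13165 = n12519 := d33_2 (iv F47993) D13165 (iv D12519)
def n13166 : Q := act 8 n12164
theorem D13166 : act 8 n12164 = n13166 := rfl
theorem F52014 : act 0 n13166 = n12339 := d7_1 D13166 (iv D12339) (iv F47990)
theorem F52015 : act 1 n13166 = n12211 := d14_1 D13166 (iv D12211) (iv F47991)
theorem F52016 : act 4 n13166 = n13166 := d29_1 D13166 (iv D13166) F47992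
theorem F52017 : act 5 n13166 = n12165 := d32_1 D13166 (iv D12165) D12164
theorem F52018 : act 7 n13166 = n12562 := d35_1 D13166 (iv D12562) F45453 (iv F45236) (iv F47993)
def n13167 : Q := act 5 n12166
theorem D13167 : act 5 n12166 = n13167 := rfl
theorem F52019 : act 0 n13167 = n12341 := d4_1 D13167 (iv D12341) (iv F47999)
theorem F52020 : act 1 n13167 = n13167 := d11_1 D13167 (iv D13167) F48000
theorem F52021 : act 3 n13167 = n12167 := d22_1 D13167 (iv D12167) D12166
def n13168 : Q := act 7 n12166
theorem D13168 : act 7 n12166 = n13168 := rfl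
theorem F52022 : act 0 n13168 = n12342 := d6_1 D13168 (iv D12342) (iv F47999)
theorem F52023 : act 1 n13168 = n13168 := d13_1 D13168 (iv D13168) F48000
theorem F52024 : act 3 n13168 = n12521 := d24_1 D13168 (iv D12521) (iv D11498) (iv F44000) D12166
def n13169 : Q := act 8 n12166
theorem D13169 : act 8 n12166 = n13169 := rfl
theorem F52025 : act 0 n13169 = n12343 := d7_1 D13169 (iv D12343) (iv F47999)
theorem F52026 : act 1 n13169 = n13169 := d14_1 D13169 (iv D13169) F48000
theorem F52027 : act 3 n13169 = n12168 := d25_1 D13169 (iv D12168) D12166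
def n13170 : Q := act 6 n12167
theorem D13170 : act 6 n12167 = n13170 := rfl
theorem F52028 : act 0 n13170 = n12344 := d5_1 D13170 (iv D12344) (iv F48001)
theorem F52029 : act 1 n13170 = n13170 := d12_1 D13170 (iv D13170) F48002
theorem F52030 : act 2 n13170 = n12170 := d18_1 D13170 (iv D12170) (iv F48003)
theorem F52031 : act 4 n13170 = n12176 := d27_1 D13170 (iv D12176) (iv F48004)
theorem F52032 : act 7 n13170 = n12523 := d33_2 (iv F48005) D13170 (iv D12523)
def n13171 : Q := act 8 n12167
theorem D13171 : act 8 n12167 = n13171 := rfl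
theorem F52033 : act 0 n13171 = n12345 := d7_1 D13171 (iv D12345) (iv F48001)
theorem F52034 : act 1 n13171 = n13171 := d14_1 D13171 (iv D13171) F48002
theorem F52035 : act 2 n13171 = n12171 := d20_1 D13171 (iv D12171) (iv F48003)
theorem F52036 : act 4 n13171 = n12177 := d29_1 D13171 (iv D12177) (iv F48004)
theorem F52037 : act 5 n13171 = n12168 := d32_1 D13171 (iv D12168) D12167
def n13172 : Q := act 7 n12168
theorem D13172 : act 7 n12168 = n13172 := rfl
theorem F52038 : act 0 n13172 = n12346 := d6_1 D13172 (iv D12346) (iv F48006)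
theorem F52039 : act 1 n13172 = n13172 := d13_1 D13172 (iv D13172) F48007
theorem F52040 : act 2 n13172 = n12172 := d19_1 D13172 (iv D12172) (iv F48008)
theorem F52041 : act 4 n13172 = n12169 := d28_1 D13172 (iv D12169) (iv F48009)
theorem F52042 : act 6 n13172 = n12560 := d33_1 D13172 (iv F52008) F52007
theorem F52043 : act 8 n13172 = n12525 := d35_2 D12168 D13172 (iv D12525) (iv D11500) (iv F44000)
def n13173 : Q := act 3 n12169
theorem D13173 : act 3 n12169 = n13173 := rfl
theorem F52044 : act 0 n13173 = n12347 := d2_1 D13173 (iv D12347) (iv F48010)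
theorem F52045 : act 1 n13173 = n13173 := d9_1 D13173 (iv D13173) F48011
theorem F52046 : act 2 n13173 = n12552 := d15_1 D13173 F49465 F45434 (iv F44014) (iv F48012)
theorem F52047 : act 5 n13173 = n12179 := d22_2 (iv F48013) D13173 (iv D12179)
theorem F52048 : act 6 n13173 = n12554 := d23_2 (iv F48014) D13173 F49473
theorem F52049 : act 8 n13173 = n12526 := d25_2 (iv F48015) D13173 (iv D12526)
def n13174 : Q := act 8 n12170
theorem D13174 : act 8 n12170 = n13174 := rfl
theorem F52050 : act 0 n13174 = n12348 := d7_1 D13174 (iv D12348) (iv F48016)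
theorem F52051 : act 1 n13174 = n12212 := d14_1 D13174 (iv D12212) (iv F48017)
theorem F52052 : act 4 n13174 = n12180 := d29_1 D13174 (iv D12180) (iv F48018)
theorem F52053 : act 6 n13174 = n12171 := d34_1 D13174 (iv D12171) D12170
def n13175 : Q := act 7 n12171
theorem D13175 : act 7 n12171 = n13175 := rfl
theorem F52054 : act 0 n13175 = n12349 := d6_1 D13175 (iv D12349) (iv F48020)
theorem F52055 : act 1 n13175 = n12213 := d13_1 D13175 (iv D12213) (iv F48021)
theorem F52056 : act 4 n13175 = n12181 := d28_1 D13175 (iv D12181) (iv F48022)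
theorem F52057 : act 5 n13175 = n12172 := d31_1 D13175 (iv D12172) (iv F48023)
theorem F52058 : act 8 n13175 = n12528 := d35_2 D12171 D13175 (iv D12528) (iv D11503) (iv F44008)
def n13176 : Q := act 3 n12172
theorem D13176 : act 3 n12172 = n13176 := rfl
theorem F52059 : act 0 n13176 = n12350 := d2_1 D13176 (iv D12350) (iv F48024)
theorem F52060 : act 1 n13176 = n12214 := d9_1 D13176 (iv D12214) (iv F48025)
theorem F52061 : act 4 n13176 = n12312 := d21_2 (iv F48026) D13176 F48532 F44483 (iv F44014)
theorem F52062 : act 6 n13176 = n12317 := d23_2 (iv F48027) D13176 F48544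
theorem F52063 : act 8 n13176 = n12311 := d25_2 (iv F48028) D13176 F48528
def n13177 : Q := act 4 n12173
theorem D13177 : act 4 n12173 = n13177 := rfl
theorem F52064 : act 0 n13177 = n12351 := d3_1 D13177 (iv D12351) (iv F48029)
theorem F52065 : act 1 n13177 = n13177 := d10_1 D13177 (iv D13177) F48030
def n13178 : Q := act 6 n12173
theorem D13178 : act 6 n12173 = n13178 := rfl
theorem F52066 : act 0 n13178 = n12352 := d5_1 D13178 (iv D12352) (iv F48029)
theorem F52067 : act 1 n13178 = n13178 := d12_1 D13178 (iv D13178) F48030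
theorem F52068 : act 3 n13178 = n12176 := d23_1 D13178 (iv D12176) (iv F48031)
theorem F52069 : act 5 n13178 = n13178 := d30_1 D13178 (iv D13178) (iv D12173) F44020 D12173
def n13179 : Q := act 7 n12173
theorem D13179 : act 7 n12173 = n13179 := rfl
theorem F52070 : act 0 n13179 = n12353 := d6_1 D13179 (iv D12353) (iv F48029)
theorem F52071 : act 1 n13179 = n13179 := d13_1 D13179 (iv D13179) F48030
theorem F52072 : act 3 n13179 = n12531 := d24_1 D13179 (iv D12531) F45269 (iv F44024) (iv F48031)
theorem F52073 : act 5 n13179 = n12174 := d31_1 D13179 (iv D12174) D12173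
def n13180 : Q := act 8 n12173
theorem D13180 : act 8 n12173 = n13180 := rfl
theorem F52074 : act 0 n13180 = n12354 := d7_1 D13180 (iv D12354) (iv F48029)
theorem F52075 : act 1 n13180 = n13180 := d14_1 D13180 (iv D13180) F48030
theorem F52076 : act 3 n13180 = n12177 := d25_1 D13180 (iv D12177) (iv F48031)
theorem F52077 : act 5 n13180 = n12175 := d32_1 D13180 (iv D12175) D12173
def n13181 : Q := act 8 n12176
theorem D13181 : act 8 n12176 = n13181 := rfl
theorem F52078 : act 0 n13181 = n12357 := d7_1 D13181 (iv D12357) (iv F48040)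
theorem F52079 : act 1 n13181 = n13181 := d14_1 D13181 (iv D13181) F48041
theorem F52080 : act 2 n13181 = n12180 := d20_1 D13181 (iv D12180) (iv F48042)
theorem F52081 : act 5 n13181 = n13181 := d32_1 D13181 (iv D13181) F48043
theorem F52082 : act 6 n13181 = n12177 := d34_1 D13181 (iv D12177) D12176
def n13182 : Q := act 7 n12177
theorem D13182 : act 7 n12177 = n13182 := rfl
theorem F52083 : act 0 n13182 = n12358 := d6_1 D13182 (iv D12358) (iv F48045)
theorem F52084 : act 1 n13182 = n13182 := d13_1 D13182 (iv D13182) F48046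
theorem F52085 : act 2 n13182 = n12181 := d19_1 D13182 (iv D12181) (iv F48047)
theorem F52086 : act 5 n13182 = n12178 := d31_1 D13182 (iv D12178) (iv F48048)
theorem F52087 : act 8 n13182 = n12534 := d35_2 D12177 D13182 (iv D12534) (iv D11509) (iv F44024)
def n13183 : Q := act 7 n12180
theorem D13183 : act 7 n12180 = n13183 := rfl
theorem F52088 : act 0 n13183 = n12361 := d6_1 D13183 (iv D12361) (iv F48059)
theorem F52089 : act 1 n13183 = n12215 := d13_1 D13183 (iv D12215) (iv F48060)
theorem F52090 : act 5 n13183 = n13183 := d31_1 D13183 (iv D13183) F48061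
theorem F52091 : act 6 n13183 = n12181 := d33_1 D13183 (iv D12181) (iv F48062)
theorem F52092 : act 8 n13183 = n12535 := d35_2 D12180 D13183 (iv D12535) (iv D11512) (iv F44038)
def n13184 : Q := act 3 n12181
theorem D13184 : act 3 n12181 = n13184 := rfl
theorem F52093 : act 0 n13184 = n12362 := d2_1 D13184 (iv D12362) (iv F48063)
theorem F52094 : act 1 n13184 = n12216 := d9_1 D13184 (iv D12216) (iv F48064)
theorem F52095 : act 5 n13184 = n12182 := d22_2 (iv F48065) D13184 (iv D12182)
theorem F52096 : act 8 n13184 = n12536 := d25_2 (iv F48066) D13184 (iv D12536)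
def n13185 : Q := act 8 n12183
theorem D13185 : act 8 n12183 = n13185 := rfl
theorem F52097 : act 0 n13185 = n12223 := d7_1 D13185 (iv D12223) (iv F48071)
theorem F52098 : act 3 n13185 = n12184 := d25_1 D13185 (iv D12184) D12183
theorem F52099 : act 5 n13185 = n12186 := d32_1 D13185 (iv D12186) (iv F48072)
def n13186 : Q := act 1 n12185
theorem D13186 : act 1 n12185 = n13186 := rfl
theorem F52100 : act 0 n13186 = n12657 := d0_1 D13186 (iv D12657) F45888 (iv F44162) (iv F48079)
theorem F52101 : act 3 n13186 = n13186 := d9_2 F48080 D13186 (iv D13186)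
theorem F52102 : act 4 n13186 = n12590 := d10_2 (iv F48081) D13186 (iv D12590)
theorem F52103 : act 6 n13186 = n12187 := d12_2 (iv F48082) D13186 (iv D12187)
theorem F52104 : act 7 n13186 = n12195 := d13_2 (iv F48083) D13186 (iv D12195)
def n13187 : Q := act 8 n12185
theorem D13187 : act 8 n12185 = n13187 := rfl
theorem F52105 : act 0 n13187 = n12224 := d7_1 D13187 (iv D12224) (iv F48079)
theorem F52106 : act 2 n13187 = n12186 := d20_1 D13187 (iv D12186) D12185
theorem F52107 : act 3 n13187 = n13187 := d25_1 D13187 (iv D13187) F48080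
theorem F52108 : act 4 n13187 = n12393 := d29_1 D13187 F48804 (iv F48081)
theorem F52109 : act 6 n13187 = n12189 := d34_1 D13187 (iv D12189) (iv F48082)
def n13188 : Q := act 7 n12186
theorem D13188 : act 7 n12186 = n13188 := rfl
theorem F52110 : act 0 n13188 = n12225 := d6_1 D13188 (iv D12225) (iv F48084)
theorem F52111 : act 3 n13188 = n12293 := d24_1 D13188 (iv D12293) F44402 (iv F44059) (iv F48085)
theorem F52112 : act 4 n13188 = n12388 := d28_1 D13188 F48783 (iv F48086)
theorem F52113 : act 6 n13188 = n12192 := d33_1 D13188 (iv D12192) (iv F48087)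
theorem F52114 : act 8 n13188 = n12200 := d35_2 D12186 D13188 (iv D12200) (iv D11177) (iv F44054)
def n13189 : Q := act 0 n12187
theorem D13189 : act 0 n12187 = n13189 := rfl
theorem F52115 : act 1 n13189 = n12226 := d0_2 D12187 D13189 (iv D12226) (iv D11202) (iv F44060)
theorem F52116 : act 3 n13189 = n13189 := d2_2 F48088 D13189 (iv D13189)
theorem F52117 : act 6 n13189 = n12657 := d5_2 F52103 D13189 (iv F52100)
theorem F52118 : act 7 n13189 = n12201 := d6_2 (iv F48089) D13189 (iv D12201)
def n13190 : Q := act 4 n12187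
theorem D13190 : act 4 n12187 = n13190 := rfl
theorem F52119 : act 1 n13190 = n12188 := d10_1 D13190 (iv D12188) D12187
theorem F52120 : act 6 n13190 = n12590 := d27_2 F52103 D13190 (iv F52102)
theorem F52121 : act 7 n13190 = n12202 := d28_2 (iv F48089) D13190 (iv D12202)
theorem F52122 : act 3 n12628 = n13190 := d23_3 F52120 F49595 (iv F49766)
def n13191 : Q := act 8 n12187
theorem D13191 : act 8 n12187 = n13191 := rfl
theorem F52123 : act 1 n13191 = n12189 := d14_1 D13191 (iv D12189) D12187
theorem F52124 : act 3 n13191 = n13191 := d25_1 D13191 (iv D13191) F48088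
def n13192 : Q := act 8 n12188
theorem D13192 : act 8 n12188 = n13192 := rfl
theorem F52125 : act 0 n13192 = n12228 := d7_1 D13192 (iv D12228) (iv F48090)
theorem F52126 : act 2 n13192 = n12191 := d20_1 D13192 (iv D12191) (iv F48091)
theorem F52127 : act 3 n13192 = n12496 := d25_1 D13192 F49208 F48094
theorem F52128 : act 4 n13192 = n12189 := d29_1 D13192 (iv D12189) D12188
theorem F52129 : act 6 n13192 = n12393 := d34_1 D13192 F48804 (iv F48092)
def n13193 : Q := act 7 n12189
theorem D13193 : act 7 n12189 = n13193 := rfl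
theorem F52130 : act 0 n13193 = n12229 := d6_1 D13193 (iv D12229) (iv F48095)
theorem F52131 : act 2 n13193 = n12192 := d19_1 D13193 (iv D12192) (iv F48096)
theorem F52132 : act 8 n13193 = n12206 := d35_2 D12189 D13193 (iv D12206) (iv D11180) (iv F44062)
def n13194 : Q := act 8 n12190
theorem D13194 : act 8 n12190 = n13194 := rfl
theorem F52133 : act 0 n13194 = n12230 := d7_1 D13194 (iv D12230) (iv F48098)
theorem F52134 : act 3 n13194 = n12390 := d25_1 D13194 F48793 (iv F48099)
theorem F52135 : act 5 n13194 = n12191 := d32_1 D13194 (iv D12191) D12190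
def n13195 : Q := act 7 n12191
theorem D13195 : act 7 n12191 = n13195 := rfl
theorem F52136 : act 0 n13195 = n12231 := d6_1 D13195 (iv D12231) (iv F48101)
theorem F52137 : act 3 n13195 = n12377 := d24_1 D13195 (iv D12377) F44624 D11351 (iv F48102)
theorem F52138 : act 4 n13195 = n12192 := d28_1 D13195 (iv D12192) (iv F48103)
theorem F52139 : act 6 n13195 = n12388 := d33_1 D13195 F48783 (iv F48104)
theorem F52140 : act 8 n13195 = n12209 := d35_2 D12191 D13195 (iv D12209) (iv D11182) (iv F44066)
def n13196 : Q := act 8 n12193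
theorem D13196 : act 8 n12193 = n13196 := rfl
theorem F52141 : act 0 n13196 = n12232 := d7_1 D13196 (iv D12232) (iv F48107)
theorem F52142 : act 3 n13196 = n13196 := d25_1 D13196 (iv D13196) F48108
theorem F52143 : act 4 n13196 = n12194 := d29_1 D13196 (iv D12194) D12193
def n13197 : Q := act 7 n12194
theorem D13197 : act 7 n12194 = n13197 := rfl
theorem F52144 : act 0 n13197 = n12233 := d6_1 D13197 (iv D12233) (iv F48109)
theorem F52145 : act 5 n13197 = n12200 := d31_1 D13197 (iv D12200) (iv F48111)
def n13198 : Q := act 4 n12195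
theorem D13198 : act 4 n12195 = n13198 := rfl
theorem F52146 : act 0 n13198 = n12661 := d3_1 D13198 (iv D12661) (iv F48112)
theorem F52147 : act 1 n13198 = n12196 := d10_1 D13198 (iv D12196) D12195
theorem F52148 : act 3 n13198 = n13198 := d21_1 D13198 (iv D13198) F48113 F44132 (iv F48113)
theorem F52149 : act 6 n13198 = n12202 := d27_2 (iv F48114) D13198 (iv D12202)
theorem F52150 : act 7 n13198 = n12590 := d28_2 F52104 D13198 (iv F52102)
def n13199 : Q := act 8 n12195
theorem D13199 : act 8 n12195 = n13199 := rfl
theorem F52151 : act 0 n13199 = n12662 := d7_1 D13199 (iv D12662) (iv F48112)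
theorem F52152 : act 1 n13199 = n12197 := d14_1 D13199 (iv D12197) D12195
theorem F52153 : act 3 n13199 = n12218 := d25_1 D13199 (iv D12218) (iv F48113)
theorem F52154 : act 6 n13199 = n12203 := d34_1 D13199 (iv D12203) (iv F48114)
def n13200 : Q := act 8 n12196
theorem D13200 : act 8 n12196 = n13200 := rfl
theorem F52155 : act 0 n13200 = n12234 := d7_1 D13200 (iv D12234) (iv F48115)
theorem F52156 : act 2 n13200 = n12199 := d20_1 D13200 (iv D12199) (iv F48116)
theorem F52157 : act 3 n13200 = n13200 := d25_1 D13200 (iv D13200) F48117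
theorem F52158 : act 4 n13200 = n12197 := d29_1 D13200 (iv D12197) D12196
theorem F52159 : act 6 n13200 = n12205 := d34_1 D13200 (iv D12205) (iv F48118)
def n13201 : Q := act 7 n12197
theorem D13201 : act 7 n12197 = n13201 := rfl
theorem F52160 : act 0 n13201 = n12235 := d6_1 D13201 (iv D12235) (iv F48120)
theorem F52161 : act 2 n13201 = n12200 := d19_1 D13201 (iv D12200) (iv F48121)
theorem F52162 : act 6 n13201 = n12206 := d33_1 D13201 (iv D12206) (iv F48123)
def n13202 : Q := act 8 n12198
theorem D13202 : act 8 n12198 = n13202 := rfl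
theorem F52163 : act 0 n13202 = n12236 := d7_1 D13202 (iv D12236) (iv F48124)
theorem F52164 : act 3 n13202 = n12211 := d25_1 D13202 (iv D12211) (iv F48125)
theorem F52165 : act 5 n13202 = n12199 := d32_1 D13202 (iv D12199) D12198
def n13203 : Q := act 7 n12199
theorem D13203 : act 7 n12199 = n13203 := rfl
theorem F52166 : act 0 n13203 = n12237 := d6_1 D13203 (iv D12237) (iv F48127)
theorem F52167 : act 3 n13203 = n12374 := d24_1 D13203 (iv D12374) F44615 (iv F44106) (iv F48128)
theorem F52168 : act 4 n13203 = n12200 := d28_1 D13203 (iv D12200) (iv F48129)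
theorem F52169 : act 6 n13203 = n12209 := d33_1 D13203 (iv D12209) (iv F48130)
theorem F52170 : act 8 n13203 = n12388 := d35_2 D12199 D13203 F48783 F44681 (iv F44081)
def n13204 : Q := act 4 n12201
theorem D13204 : act 4 n12201 = n13204 := rfl
theorem F52171 : act 0 n13204 = n12202 := d3_1 D13204 (iv D12202) D12201
theorem F52172 : act 1 n13204 = n12238 := d10_1 D13204 (iv D12238) (iv F48133)
theorem F52173 : act 3 n13204 = n13204 := d21_1 D13204 (iv D13204) F48134 F44145 (iv F48134)
theorem F52174 : act 6 n13204 = n12661 := d27_2 (iv F48135) D13204 (iv D12661)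
def n13205 : Q := act 8 n12201
theorem D13205 : act 8 n12201 = n13205 := rfl
theorem F52175 : act 0 n13205 = n12203 := d7_1 D13205 (iv D12203) D12201
theorem F52176 : act 1 n13205 = n12239 := d14_1 D13205 (iv D12239) (iv F48133)
theorem F52177 : act 3 n13205 = n12220 := d25_1 D13205 (iv D12220) (iv F48134)
theorem F52178 : act 6 n13205 = n12662 := d34_1 D13205 (iv D12662) (iv F48135)
def n13206 : Q := act 5 n12202
theorem D13206 : act 5 n12202 = n13206 := rfl
theorem F52179 : act 1 n13206 = n12204 := d11_1 D13206 (iv D12204) (iv F48136)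
theorem F52180 : act 3 n13206 = n13206 := d22_1 D13206 (iv D13206) F48137
def n13207 : Q := act 8 n12202
theorem D13207 : act 8 n12202 = n13207 := rfl
theorem F52181 : act 1 n13207 = n12205 := d14_1 D13207 (iv D12205) (iv F48136)
theorem F52182 : act 3 n13207 = n13207 := d25_1 D13207 (iv D13207) F48137
theorem F52183 : act 4 n13207 = n12203 := d29_1 D13207 (iv D12203) D12202
def n13208 : Q := act 7 n12203
theorem D13208 : act 7 n12203 = n13208 := rfl
theorem F52184 : act 1 n13208 = n12206 := d13_1 D13208 (iv D12206) (iv F48138)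
def n13209 : Q := act 8 n12204
theorem D13209 : act 8 n12204 = n13209 := rfl
theorem F52185 : act 0 n13209 = n12242 := d7_1 D13209 (iv D12242) (iv F48140)
theorem F52186 : act 2 n13209 = n12208 := d20_1 D13209 (iv D12208) (iv F48141)
theorem F52187 : act 3 n13209 = n13209 := d25_1 D13209 (iv D13209) F48142
theorem F52188 : act 5 n13209 = n12205 := d32_1 D13209 (iv D12205) D12204
def n13210 : Q := act 7 n12205
theorem D13210 : act 7 n12205 = n13210 := rfl
theorem F52189 : act 0 n13210 = n12243 := d6_1 D13210 (iv D12243) (iv F48143)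
theorem F52190 : act 2 n13210 = n12209 := d19_1 D13210 (iv D12209) (iv F48144)
theorem F52191 : act 4 n13210 = n12206 := d28_1 D13210 (iv D12206) (iv F48146)
def n13211 : Q := act 3 n12206
theorem D13211 : act 3 n12206 = n13211 := rfl
theorem F52192 : act 0 n13211 = n12244 := d2_1 D13211 (iv D12244) (iv F48147)
theorem F52193 : act 7 n13211 = n12222 := d24_2 D12206 D13211 (iv D12222) (iv D11197) (iv F44091)
def n13212 : Q := act 8 n12207
theorem D13212 : act 8 n12207 = n13212 := rfl
theorem F52194 : act 0 n13212 = n12245 := d7_1 D13212 (iv D12245) (iv F48149)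
theorem F52195 : act 3 n13212 = n12212 := d25_1 D13212 (iv D12212) (iv F48150)
theorem F52196 : act 6 n13212 = n12208 := d34_1 D13212 (iv D12208) D12207
def n13213 : Q := act 7 n12208
theorem D13213 : act 7 n12208 = n13213 := rfl
theorem F52197 : act 0 n13213 = n12246 := d6_1 D13213 (iv D12246) (iv F48151)
theorem F52198 : act 5 n13213 = n12209 := d31_1 D13213 (iv D12209) (iv F48153)
def n13214 : Q := act 3 n12209
theorem D13214 : act 3 n12209 = n13214 := rfl
theorem F52199 : act 0 n13214 = n12247 := d2_1 D13214 (iv D12247) (iv F48154)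
theorem F52200 : act 4 n13214 = n12365 := d21_2 (iv F48155) D13214 (iv F51817) F51818 F47821
theorem F52201 : act 6 n13214 = n12374 := d23_2 F52169 D13214 (iv F52167)
theorem F52202 : act 7 n13214 = n12214 := d24_2 D12209 D13214 (iv D12214) (iv D11188) (iv F44095)
theorem F52203 : act 8 n13214 = n12377 := d25_2 F52140 D13214 (iv F52137)
theorem F52204 : act 2 n12724 = n13214 := d20_3 F52203 F48746 (iv F50092)
def n13215 : Q := act 8 n12210
theorem D13215 : act 8 n12210 = n13215 := rfl
theorem F52205 : act 0 n13215 = n12248 := d7_1 D13215 (iv D12248) (iv F48156)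
theorem F52206 : act 2 n13215 = n13215 := d20_1 D13215 (iv D13215) F48157
theorem F52207 : act 4 n13215 = n13215 := d29_1 D13215 (iv D13215) F48158
theorem F52208 : act 5 n13215 = n12212 := d32_1 D13215 (iv D12212) (iv F48159)
theorem F52209 : act 6 n13215 = n12211 := d34_1 D13215 (iv D12211) D12210
theorem F52210 : act 7 n13215 = n12589 := d35_1 D13215 (iv D12589) F45566 (iv F45325) (iv F48160)
def n13216 : Q := act 7 n12212
theorem D13216 : act 7 n12212 = n13216 := rfl
theorem F52211 : act 0 n13216 = n12249 := d6_1 D13216 (iv D12249) (iv F48166)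
theorem F52212 : act 2 n13216 = n13216 := d19_1 D13216 (iv D13216) F48167
theorem F52213 : act 4 n13216 = n12215 := d28_1 D13216 (iv D12215) (iv F48168)
theorem F52214 : act 5 n13216 = n12589 := d31_1 D13216 (iv F52210) F52208
theorem F52215 : act 6 n13216 = n12213 := d33_1 D13216 (iv D12213) (iv F48169)
theorem F52216 : act 8 n13216 = n12538 := d35_2 D12212 D13216 (iv D12538) (iv D11518) (iv F44110)
def n13217 : Q := act 3 n12213
theorem D13217 : act 3 n12213 = n13217 := rfl
theorem F52217 : act 0 n13217 = n12250 := d2_1 D13217 (iv D12250) (iv F48170)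
theorem F52218 : act 5 n13217 = n12214 := d22_2 (iv F48173) D13217 (iv D12214)
theorem F52219 : act 8 n13217 = n12364 := d25_2 (iv F48174) D13217 F48698
theorem F52220 : act 2 n12723 = n13217 := d20_3 F52219 F48697 D12723
def n13218 : Q := act 7 n12218
theorem D13218 : act 7 n12218 = n13218 := rfl
theorem F52221 : act 0 n13218 = n12673 := d6_1 D13218 (iv D12673) (iv F48192)
theorem F52222 : act 1 n13218 = n12219 := d13_1 D13218 (iv D12219) (iv F48193)
theorem F52223 : act 4 n13218 = n13218 := d28_1 D13218 (iv D13218) F48194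
theorem F52224 : act 6 n13218 = n12221 := d33_1 D13218 (iv D12221) (iv F48195)
theorem F52225 : act 8 n13218 = n13218 := d35_2 D12218 D13218 (iv D13218) (iv D12218) F44134
def n13219 : Q := act 3 n12219
theorem D13219 : act 3 n12219 = n13219 := rfl
theorem F52226 : act 0 n13219 = n12251 := d2_1 D13219 (iv D12251) (iv F48196)
theorem F52227 : act 6 n13219 = n12222 := d23_2 (iv F48199) D13219 (iv D12222)
theorem F52228 : act 8 n13219 = n13219 := d25_2 F48200 D13219 (iv D13219)
def n13220 : Q := act 7 n12220
theorem D13220 : act 7 n12220 = n13220 := rfl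
theorem F52229 : act 0 n13220 = n12221 := d6_1 D13220 (iv D12221) (iv F48201)
theorem F52230 : act 1 n13220 = n12252 := d13_1 D13220 (iv D12252) (iv F48202)
theorem F52231 : act 2 n13220 = n13218 := d19_1 D13220 (iv D13218) (iv F48203)
theorem F52232 : act 4 n13220 = n13220 := d28_1 D13220 (iv D13220) F48204
theorem F52233 : act 6 n13220 = n12673 := d33_1 D13220 (iv D12673) (iv F48205)
theorem F52234 : act 8 n13220 = n13220 := d35_2 D12220 D13220 (iv D13220) (iv D12220) F44147
def n13221 : Q := act 3 n12221
theorem D13221 : act 3 n12221 = n13221 := rfl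
theorem F52235 : act 1 n13221 = n12222 := d9_1 D13221 (iv D12222) (iv F48206)
theorem F52236 : act 8 n13221 = n13221 := d25_2 F48208 D13221 (iv D13221)
def n13222 : Q := act 4 n12222
theorem D13222 : act 4 n12222 = n13222 := rfl
theorem F52237 : act 0 n13222 = n12254 := d3_1 D13222 (iv D12254) (iv F48209)
theorem F52238 : act 3 n13222 = n13222 := d21_1 D13222 (iv D13222) (iv D12222) F44152 D12222
theorem F52239 : act 8 n13222 = n13222 := d29_2 F48210 D13222 (iv D13222)
def n13223 : Q := act 7 n12223
theorem D13223 : act 7 n12223 = n13223 := rfl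
theorem F52240 : act 1 n13223 = n12297 := d13_1 D13223 (iv D12297) (iv F48211)
theorem F52241 : act 3 n13223 = n12300 := d24_1 D13223 (iv D12300) F44445 (iv F44161) (iv F48212)
theorem F52242 : act 5 n13223 = n12225 := d31_1 D13223 (iv D12225) (iv F48213)
theorem F52243 : act 8 n13223 = n12233 := d35_2 D12223 D13223 (iv D12233) (iv D11209) (iv F44156)
def n13224 : Q := act 7 n12224
theorem D13224 : act 7 n12224 = n13224 := rfl
theorem F52244 : act 1 n13224 = n12675 := d13_1 D13224 (iv D12675) (iv F48214)
theorem F52245 : act 2 n13224 = n12225 := d19_1 D13224 (iv D12225) (iv F48215)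
theorem F52246 : act 4 n13224 = n12415 := d28_1 D13224 F48868 (iv F48217)
theorem F52247 : act 6 n13224 = n12229 := d33_1 D13224 (iv D12229) (iv F48218)
theorem F52248 : act 8 n13224 = n12235 := d35_2 D12224 D13224 (iv D12235) (iv D11211) (iv F44166)
def n13225 : Q := act 8 n12226
theorem D13225 : act 8 n12226 = n13225 := rfl
theorem F52249 : act 0 n13225 = n12227 := d7_1 D13225 (iv D12227) D12226
theorem F52250 : act 2 n13225 = n12396 := d20_1 D13225 (iv D12396) (iv F48224)
theorem F52251 : act 3 n13225 = n13225 := d25_1 D13225 (iv D13225) F48225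
theorem F52252 : act 6 n13225 = n12658 := d34_1 D13225 (iv D12658) (iv F48226)
def n13226 : Q := act 7 n12227
theorem D13226 : act 7 n12227 = n13226 := rfl
theorem F52253 : act 1 n13226 = n12229 := d13_1 D13226 (iv D12229) (iv F48228)
theorem F52254 : act 2 n13226 = n12398 := d19_1 D13226 (iv D12398) (iv F48229)
theorem F52255 : act 6 n13226 = n12675 := d33_1 D13226 (iv D12675) (iv F48231)
theorem F52256 : act 8 n13226 = n12241 := d35_2 D12227 D13226 (iv D12241) (iv D11217) (iv F44174)
def n13227 : Q := act 7 n12228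
theorem D13227 : act 7 n12228 = n13227 := rfl
theorem F52257 : act 2 n13227 = n12231 := d19_1 D13227 (iv D12231) (iv F48232)
theorem F52258 : act 3 n13227 = n12739 := d24_1 D13227 F50135 F46107 (iv F45164) (iv F48233)
theorem F52259 : act 4 n13227 = n12229 := d28_1 D13227 (iv D12229) (iv F48234)
theorem F52260 : act 6 n13227 = n12415 := d33_1 D13227 F48868 (iv F48235)
theorem F52261 : act 8 n13227 = n12243 := d35_2 D12228 D13227 (iv D12243) (iv D11219) (iv F44177)
def n13228 : Q := act 3 n12229
theorem D13228 : act 3 n12229 = n13228 := rfl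
theorem F52262 : act 7 n13228 = n13228 := d24_2 D12229 D13228 (iv D13228) (iv D12229) F44180
theorem F52263 : act 8 n13228 = n12244 := d25_2 (iv F48237) D13228 (iv D12244)
def n13229 : Q := act 7 n12230
theorem D13229 : act 7 n12230 = n13229 := rfl
theorem F52264 : act 1 n13229 = n12402 := d13_1 D13229 (iv D12402) (iv F48238)
theorem F52265 : act 3 n13229 = n12404 := d24_1 D13229 (iv D12404) F44736 D11385 (iv F48239)
theorem F52266 : act 5 n13229 = n12231 := d31_1 D13229 (iv D12231) (iv F48240)
theorem F52267 : act 8 n13229 = n12246 := d35_2 D12230 D13229 (iv D12246) (iv D11222) (iv F44183)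
def n13230 : Q := act 7 n12232
theorem D13230 : act 7 n12232 = n13230 := rfl
theorem F52268 : act 1 n13230 = n12299 := d13_1 D13230 (iv D12299) (iv F48246)
theorem F52269 : act 4 n13230 = n12233 := d28_1 D13230 (iv D12233) (iv F48248)
def n13231 : Q := act 7 n12234
theorem D13231 : act 7 n12234 = n13231 := rfl
theorem F52270 : act 1 n13231 = n12677 := d13_1 D13231 (iv D12677) (iv F48251)
theorem F52271 : act 2 n13231 = n12237 := d19_1 D13231 (iv D12237) (iv F48252)
theorem F52272 : act 4 n13231 = n12235 := d28_1 D13231 (iv D12235) (iv F48254)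
theorem F52273 : act 6 n13231 = n12243 := d33_1 D13231 (iv D12243) (iv F48255)
theorem F52274 : act 8 n13231 = n12415 := d35_2 D12234 D13231 F48868 F44784 (iv F44199)
def n13232 : Q := act 3 n12235
theorem D13232 : act 3 n12235 = n13232 := rfl
theorem F52275 : act 1 n13232 = n12678 := d9_1 D13232 (iv D12678) (iv F48256)
theorem F52276 : act 6 n13232 = n12244 := d23_2 (iv F48258) D13232 (iv D12244)
theorem F52277 : act 7 n13232 = n12251 := d24_2 D12235 D13232 (iv D12251) (iv D11232) (iv F44202)
def n13233 : Q := act 7 n12236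
theorem D13233 : act 7 n12236 = n13233 := rfl
theorem F52278 : act 1 n13233 = n12404 := d13_1 D13233 (iv D12404) (iv F48259)
theorem F52279 : act 3 n13233 = n12402 := d24_1 D13233 (iv D12402) F44728 (iv F44246) (iv F48260)
theorem F52280 : act 5 n13233 = n12237 := d31_1 D13233 (iv D12237) (iv F48261)
theorem F52281 : act 8 n13233 = n12414 := d35_2 D12236 D13233 F48867 F44782 (iv F44206)
def n13234 : Q := act 8 n12238
theorem D13234 : act 8 n12238 = n13234 := rfl
theorem F52282 : act 0 n13234 = n12240 := d7_1 D13234 (iv D12240) (iv F48267)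
theorem F52283 : act 2 n13234 = n12406 := d20_1 D13234 (iv D12406) (iv F48268)
theorem F52284 : act 3 n13234 = n13234 := d25_1 D13234 (iv D13234) F48269
theorem F52285 : act 4 n13234 = n12239 := d29_1 D13234 (iv D12239) D12238
theorem F52286 : act 6 n13234 = n12663 := d34_1 D13234 (iv D12663) (iv F48270)
def n13235 : Q := act 7 n12239
theorem D13235 : act 7 n12239 = n13235 := rfl
theorem F52287 : act 0 n13235 = n12241 := d6_1 D13235 (iv D12241) (iv F48271)
theorem F52288 : act 2 n13235 = n12407 := d19_1 D13235 (iv D12407) (iv F48272)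
theorem F52289 : act 6 n13235 = n12664 := d33_1 D13235 (iv D12664) (iv F48274)
def n13236 : Q := act 7 n12240
theorem D13236 : act 7 n12240 = n13236 := rfl
theorem F52290 : act 1 n13236 = n12243 := d13_1 D13236 (iv D12243) (iv F48275)
theorem F52291 : act 2 n13236 = n12409 := d19_1 D13236 (iv D12409) (iv F48276)
theorem F52292 : act 4 n13236 = n12241 := d28_1 D13236 (iv D12241) (iv F48278)
theorem F52293 : act 6 n13236 = n12677 := d33_1 D13236 (iv D12677) (iv F48279)
def n13237 : Q := act 3 n12241
theorem D13237 : act 3 n12241 = n13237 := rfl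
theorem F52294 : act 1 n13237 = n12244 := d9_1 D13237 (iv D12244) (iv F48280)
theorem F52295 : act 6 n13237 = n12678 := d23_2 (iv F48282) D13237 (iv D12678)
theorem F52296 : act 7 n13237 = n12253 := d24_2 D12241 D13237 (iv D12253) (iv D11234) (iv F44222)
def n13238 : Q := act 7 n12242
theorem D13238 : act 7 n12242 = n13238 := rfl
theorem F52297 : act 2 n13238 = n12246 := d19_1 D13238 (iv D12246) (iv F48283)
theorem F52298 : act 5 n13238 = n12243 := d31_1 D13238 (iv D12243) (iv F48285)
def n13239 : Q := act 3 n12243
theorem D13239 : act 3 n12243 = n13239 := rfl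
theorem F52299 : act 2 n13239 = n12736 := d15_1 D13239 (iv D12736) F48299 (iv D12247) (iv F48286)
theorem F52300 : act 7 n13239 = n13239 := d24_2 D12243 D13239 (iv D13239) (iv D12243) F44227
theorem F52301 : act 8 n13239 = n12739 := d25_2 F52261 D13239 (iv F52258)
def n13240 : Q := act 4 n12244
theorem D13240 : act 4 n12244 = n13240 := rfl
theorem F52302 : act 7 n13240 = n12254 := d28_2 (iv F48288) D13240 (iv D12254)
def n13241 : Q := act 7 n12245
theorem D13241 : act 7 n12245 = n13241 := rfl
theorem F52303 : act 1 n13241 = n12413 := d13_1 D13241 (iv D12413) (iv F48289)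
theorem F52304 : act 6 n13241 = n12246 := d33_1 D13241 (iv D12246) (iv F48291)
def n13242 : Q := act 3 n12246
theorem D13242 : act 3 n12246 = n13242 := rfl
theorem F52305 : act 1 n13242 = n12414 := d9_1 D13242 (iv D12414) (iv F48292)
theorem F52306 : act 5 n13242 = n12247 := d22_2 (iv F48293) D13242 (iv D12247)
theorem F52307 : act 7 n13242 = n12250 := d24_2 D12246 D13242 (iv D12250) (iv D11227) (iv F44233)
theorem F52308 : act 8 n13242 = n12404 := d25_2 F52267 D13242 (iv F52265)
theorem F52309 : act 2 n12735 = n13242 := d20_3 F52308 F48841 (iv F50129)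
def n13243 : Q := act 4 n12251
theorem D13243 : act 4 n12251 = n13243 := rfl
theorem F52310 : act 1 n13243 = n12684 := d10_1 D13243 (iv D12684) (iv F48316)
theorem F52311 : act 2 n13243 = n12682 := d16_1 D13243 (iv F51857) F51856
theorem F52312 : act 3 n13243 = n13243 := d21_1 D13243 (iv D13243) (iv D12251) F44274 D12251
theorem F52313 : act 5 n13243 = n12683 := d26_2 F51868 D13243 (iv F50939) F50940 (iv F51867)
theorem F52314 : act 6 n13243 = n12254 := d27_2 (iv F48317) D13243 (iv D12254)
theorem F52315 : act 8 n13243 = n13243 := d29_2 F48318 D13243 (iv D13243)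
def n13244 : Q := act 3 n12252
theorem D13244 : act 3 n12252 = n13244 := rfl
theorem F52316 : act 0 n13244 = n12253 := d2_1 D13244 (iv D12253) (iv F48319)
theorem F52317 : act 6 n13244 = n12674 := d23_2 (iv F48322) D13244 (iv D12674)
theorem F52318 : act 8 n13244 = n13244 := d25_2 F48323 D13244 (iv D13244)
def n13245 : Q := act 2 n12255
theorem D13245 : act 2 n12255 = n13245 := rfl
theorem F52319 : act 3 n13245 = n12257 := d15_2 D12255 D13245 (iv D12257) (iv D11239) (iv F44299)
theorem F52320 : act 5 n13245 = n12685 := d17_2 (iv F48330) D13245 (iv D12685)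
theorem F52321 : act 7 n13245 = n12924 := d19_2 (iv F48331) D13245 (iv D12924)
def n13246 : Q := act 4 n12255
theorem D13246 : act 4 n12255 = n13246 := rfl
theorem F52322 : act 0 n13246 = n12958 := d3_1 D13246 (iv F51713) F51711
theorem F52323 : act 1 n13246 = n12420 := d10_1 D13246 (iv D12420) (iv F48329)
theorem F52324 : act 3 n13246 = n12539 := d21_1 D13246 (iv D12539) (iv D11525) (iv F44300) D12255
theorem F52325 : act 6 n13246 = n12828 := d27_2 F51768 D13246 (iv F51767)
theorem F52326 : act 7 n13246 = n12925 := d28_2 (iv F48331) D13246 (iv D12925)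
def n13247 : Q := act 8 n12255
theorem D13247 : act 8 n12255 = n13247 := rfl
theorem F52327 : act 1 n13247 = n12421 := d14_1 D13247 (iv D12421) (iv F48329)
theorem F52328 : act 3 n13247 = n12256 := d25_1 D13247 (iv D12256) D12255
theorem F52329 : act 5 n13247 = n12687 := d32_1 D13247 (iv D12687) (iv F48330)
def n13248 : Q := act 1 n12257
theorem D13248 : act 1 n12257 = n13248 := rfl
theorem F52330 : act 2 n13248 = n12283 := d8_2 D12257 D13248 (iv D12283) (iv D11260) (iv F44302)
theorem F52331 : act 5 n13248 = n12310 := d11_2 (iv F48337) D13248 F48523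
theorem F52332 : act 7 n13248 = n12261 := d13_2 (iv F48338) D13248 (iv D12261)
def n13249 : Q := act 8 n12257
theorem D13249 : act 8 n12257 = n13249 := rfl
theorem F52333 : act 2 n13249 = n12258 := d20_1 D13249 (iv D12258) D12257
theorem F52334 : act 5 n13249 = n12689 := d32_1 D13249 (iv D12689) (iv F48337)
def n13250 : Q := act 7 n12258
theorem D13250 : act 7 n12258 = n13250 := rfl
theorem F52335 : act 1 n13250 = n12285 := d13_1 D13250 (iv D12285) (iv F48339)
theorem F52336 : act 3 n13250 = n12318 := d24_1 D13250 (iv D12318) F44490 (iv F44308) (iv F48340)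
theorem F52337 : act 5 n13250 = n12692 := d31_1 D13250 (iv D12692) (iv F48341)
theorem F52338 : act 8 n13250 = n12266 := d35_2 D12258 D13250 (iv D12266) (iv D11245) (iv F44304)
def n13251 : Q := act 8 n12259
theorem D13251 : act 8 n12259 = n13251 := rfl
theorem F52339 : act 2 n13251 = n12260 := d20_1 D13251 (iv D12260) D12259
theorem F52340 : act 3 n13251 = n12944 := d25_1 D13251 (iv D12944) (iv F48342)
theorem F52341 : act 6 n13251 = n12263 := d34_1 D13251 (iv D12263) (iv F48343)
def n13252 : Q := act 7 n12260
theorem D13252 : act 7 n12260 = n13252 := rfl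
theorem F52342 : act 1 n13252 = n12286 := d13_1 D13252 (iv D12286) (iv F48344)
theorem F52343 : act 3 n13252 = n12323 := d24_1 D13252 (iv D12323) F44497 (iv F44315) (iv F48345)
theorem F52344 : act 6 n13252 = n12266 := d33_1 D13252 (iv D12266) (iv F48346)
def n13253 : Q := act 4 n12261
theorem D13253 : act 4 n12261 = n13253 := rfl
theorem F52345 : act 1 n13253 = n12262 := d10_1 D13253 (iv D12262) D12261
theorem F52346 : act 2 n13253 = n12287 := d16_1 D13253 (iv D12287) (iv F48347)
def n13254 : Q := act 8 n12261
theorem D13254 : act 8 n12261 = n13254 := rfl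
theorem F52347 : act 1 n13254 = n12263 := d14_1 D13254 (iv D12263) D12261
theorem F52348 : act 2 n13254 = n12288 := d20_1 D13254 (iv D12288) (iv F48347)
theorem F52349 : act 3 n13254 = n12950 := d25_1 D13254 (iv D12950) (iv F48348)
theorem F52350 : act 5 n13254 = n12320 := d32_1 D13254 (iv D12320) (iv F48349)
def n13255 : Q := act 3 n12262
theorem D13255 : act 3 n12262 = n13255 := rfl
theorem F52351 : act 2 n13255 = n12268 := d15_1 D13255 (iv D12268) F44336 (iv F44319) (iv F48350)
theorem F52352 : act 4 n13255 = n12951 := d21_2 D12262 D13255 (iv D12951) (iv D11940) (iv F44316)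
def n13256 : Q := act 5 n12262
theorem D13256 : act 5 n12262 = n13256 := rfl
theorem F52353 : act 2 n13256 = n12264 := d17_1 D13256 (iv D12264) (iv F48350)
theorem F52354 : act 4 n13256 = n12694 := d26_1 D13256 (iv D12694) (iv D11692) (iv F44317) D12262
def n13257 : Q := act 8 n12262
theorem D13257 : act 8 n12262 = n13257 := rfl
theorem F52355 : act 2 n13257 = n12265 := d20_1 D13257 (iv D12265) (iv F48350)
theorem F52356 : act 4 n13257 = n12263 := d29_1 D13257 (iv D12263) D12262
def n13258 : Q := act 7 n12263
theorem D13258 : act 7 n12263 = n13258 := rfl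
theorem F52357 : act 2 n13258 = n12266 := d19_1 D13258 (iv D12266) (iv F48351)
theorem F52358 : act 5 n13258 = n12696 := d31_1 D13258 (iv D12696) (iv F48353)
def n13259 : Q := act 8 n12264
theorem D13259 : act 8 n12264 = n13259 := rfl
theorem F52359 : act 1 n13259 = n12292 := d14_1 D13259 (iv D12292) (iv F48354)
theorem F52360 : act 3 n13259 = n12272 := d25_1 D13259 (iv D12272) (iv F48355)
theorem F52361 : act 4 n13259 = n12698 := d29_1 D13259 (iv D12698) (iv F48356)
theorem F52362 : act 5 n13259 = n12265 := d32_1 D13259 (iv D12265) D12264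
def n13260 : Q := act 7 n12265
theorem D13260 : act 7 n12265 = n13260 := rfl
theorem F52363 : act 1 n13260 = n12293 := d13_1 D13260 (iv D12293) (iv F48357)
theorem F52364 : act 4 n13260 = n12266 := d28_1 D13260 (iv D12266) (iv F48359)
def n13261 : Q := act 5 n12268
theorem D13261 : act 5 n12268 = n13261 := rfl
theorem F52365 : act 1 n13261 = n13261 := d11_1 D13261 (iv D13261) F48370
theorem F52366 : act 3 n13261 = n12269 := d22_1 D13261 (iv D12269) D12268
def n13262 : Q := act 7 n12268
theorem D13262 : act 7 n12268 = n13262 := rfl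
theorem F52367 : act 0 n13262 = n12922 := d6_1 D13262 (iv F51769) F51765
theorem F52368 : act 1 n13262 = n13262 := d13_1 D13262 (iv D13262) F48370
theorem F52369 : act 3 n13262 = n12542 := d24_1 D13262 (iv D12542) (iv D11527) (iv F44337) D12268
theorem F52370 : act 4 n13262 = n12966 := d28_1 D13262 (iv D12966) (iv F48371)
theorem F52371 : act 6 n13262 = n12807 := d33_1 D13262 (iv F51716) F51715
def n13263 : Q := act 8 n12268
theorem D13263 : act 8 n12268 = n13263 := rfl
theorem F52372 : act 1 n13263 = n13263 := d14_1 D13263 (iv D13263) F48370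
theorem F52373 : act 3 n13263 = n12270 := d25_1 D13263 (iv D12270) D12268
theorem F52374 : act 4 n13263 = n12967 := d29_1 D13263 (iv D12967) (iv F48371)
def n13264 : Q := act 8 n12269
theorem D13264 : act 8 n12269 = n13264 := rfl
theorem F52375 : act 1 n13264 = n13264 := d14_1 D13264 (iv D13264) F48372
theorem F52376 : act 2 n13264 = n12272 := d20_1 D13264 (iv D12272) (iv F48373)
theorem F52377 : act 4 n13264 = n12277 := d29_1 D13264 (iv D12277) (iv F48374)
theorem F52378 : act 5 n13264 = n12270 := d32_1 D13264 (iv D12270) D12269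
def n13265 : Q := act 3 n12271
theorem D13265 : act 3 n12271 = n13265 := rfl
theorem F52379 : act 0 n13265 = n12552 := d2_1 D13265 F49465 (iv F48379)
theorem F52380 : act 1 n13265 = n13265 := d9_1 D13265 (iv D13265) F48380
theorem F52381 : act 2 n13265 = n12347 := d15_1 D13265 (iv D12347) F44539 (iv F44349) (iv F48381)
theorem F52382 : act 5 n13265 = n12279 := d22_2 (iv F48382) D13265 (iv D12279)
theorem F52383 : act 6 n13265 = n12511 := d23_2 (iv F48383) D13265 F49268
theorem F52384 : act 7 n13265 = n12971 := d24_2 D12271 D13265 (iv D12971) (iv D11953) (iv F44340)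
theorem F52385 : act 8 n13265 = n12508 := d25_2 (iv F48384) D13265 (iv D12508)
def n13266 : Q := act 4 n12273
theorem D13266 : act 4 n12273 = n13266 := rfl
theorem F52386 : act 1 n13266 = n13266 := d10_1 D13266 (iv D13266) F48388
theorem F52387 : act 2 n13266 = n12710 := d16_1 D13266 (iv D12710) (iv F48389)
theorem F52388 : act 5 n13266 = n12975 := d26_2 D12273 D13266 (iv D12975) (iv D11957) (iv F44355)
def n13267 : Q := act 6 n12273
theorem D13267 : act 6 n12273 = n13267 := rfl
theorem F52389 : act 1 n13267 = n13267 := d12_1 D13267 (iv D13267) F48388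
theorem F52390 : act 2 n13267 = n12711 := d18_1 D13267 (iv D12711) (iv F48389)
theorem F52391 : act 3 n13267 = n12276 := d23_1 D13267 (iv D12276) (iv F48390)
theorem F52392 : act 5 n13267 = n13267 := d30_1 D13267 (iv D13267) (iv D12273) F44356 D12273
def n13268 : Q := act 7 n12273
theorem D13268 : act 7 n12273 = n13268 := rfl
theorem F52393 : act 1 n13268 = n13268 := d13_1 D13268 (iv D13268) F48388
theorem F52394 : act 2 n13268 = n12712 := d19_1 D13268 (iv D12712) (iv F48389)
theorem F52395 : act 3 n13268 = n12545 := d24_1 D13268 (iv D12545) F45378 (iv F44359) (iv F48390)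
theorem F52396 : act 5 n13268 = n12274 := d31_1 D13268 (iv D12274) D12273
theorem F52397 : act 8 n13179 = n13268 := d32_0 F52396 (iv F48396) (iv F52073)
def n13269 : Q := act 8 n12273
theorem D13269 : act 8 n12273 = n13269 := rfl
theorem F52398 : act 1 n13269 = n13269 := d14_1 D13269 (iv D13269) F48388
theorem F52399 : act 2 n13269 = n12713 := d20_1 D13269 (iv D12713) (iv F48389)
theorem F52400 : act 3 n13269 = n12277 := d25_1 D13269 (iv D12277) (iv F48390)
theorem F52401 : act 5 n13269 = n12275 := d32_1 D13269 (iv D12275) D12273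
theorem F52402 : act 7 n13269 = n13180 := d35_1 D13269 (iv D13180) D13179 F52397 (iv D13268)
def n13270 : Q := act 8 n12276
theorem D13270 : act 8 n12276 = n13270 := rfl
theorem F52403 : act 1 n13270 = n13270 := d14_1 D13270 (iv D13270) F48403
theorem F52404 : act 2 n13270 = n12280 := d20_1 D13270 (iv D12280) (iv F48404)
theorem F52405 : act 5 n13270 = n13270 := d32_1 D13270 (iv D13270) F48405
theorem F52406 : act 6 n13270 = n12277 := d34_1 D13270 (iv D12277) D12276
def n13271 : Q := act 7 n12277
theorem D13271 : act 7 n12277 = n13271 := rfl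
theorem F52407 : act 1 n13271 = n13271 := d13_1 D13271 (iv D13271) F48407
theorem F52408 : act 2 n13271 = n12281 := d19_1 D13271 (iv D12281) (iv F48408)
theorem F52409 : act 3 n13271 = n13182 := d24_1 D13271 (iv D13182) (iv F52076) (iv F52402) F52400
theorem F52410 : act 5 n13271 = n12278 := d31_1 D13271 (iv D12278) (iv F48409)
theorem F52411 : act 8 n13271 = n12548 := d35_2 D12277 D13271 (iv D12548) (iv D11533) (iv F44359)
def n13272 : Q := act 7 n12280
theorem D13272 : act 7 n12280 = n13272 := rfl
theorem F52412 : act 1 n13272 = n12294 := d13_1 D13272 (iv D12294) (iv F48422)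
theorem F52413 : act 5 n13272 = n13272 := d31_1 D13272 (iv D13272) F48424
theorem F52414 : act 6 n13272 = n12281 := d33_1 D13272 (iv D12281) (iv F48425)
theorem F52415 : act 8 n13272 = n12549 := d35_2 D12280 D13272 (iv D12549) (iv D11536) (iv F44371)
def n13273 : Q := act 3 n12281
theorem D13273 : act 3 n12281 = n13273 := rfl
theorem F52416 : act 1 n13273 = n12295 := d9_1 D13273 (iv D12295) (iv F48426)
theorem F52417 : act 2 n13273 = n13184 := d15_1 D13273 (iv D13184) (iv F52085) (iv F52409) F52408
theorem F52418 : act 5 n13273 = n12282 := d22_2 (iv F48427) D13273 (iv D12282)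
theorem F52419 : act 7 n13273 = n12721 := d24_2 D12281 D13273 (iv D12721) (iv D11712) (iv F44373)
theorem F52420 : act 8 n13273 = n12550 := d25_2 (iv F48428) D13273 (iv D12550)
def n13274 : Q := act 8 n12283
theorem D13274 : act 8 n12283 = n13274 := rfl
theorem F52421 : act 1 n13274 = n12284 := d14_1 D13274 (iv D12284) D12283
theorem F52422 : act 3 n13274 = n12309 := d25_1 D13274 (iv D12309) (iv F48435)
theorem F52423 : act 5 n13274 = n12312 := d32_1 D13274 (iv D12312) (iv F48436)
def n13275 : Q := act 7 n12284
theorem D13275 : act 7 n12284 = n13275 := rfl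
theorem F52424 : act 0 n13275 = n12297 := d6_1 D13275 (iv D12297) (iv F48438)
theorem F52425 : act 2 n13275 = n12285 := d19_1 D13275 (iv D12285) (iv F48439)
theorem F52426 : act 5 n13275 = n12365 := d31_1 D13275 (iv D12365) (iv F48441)
theorem F52427 : act 8 n13275 = n12291 := d35_2 D12284 D13275 (iv D12291) (iv D11265) (iv F44382)
def n13276 : Q := act 5 n12287
theorem D13276 : act 5 n12287 = n13276 := rfl
theorem F52428 : act 1 n13276 = n12289 := d11_1 D13276 (iv D12289) (iv F48449)
theorem F52429 : act 3 n13276 = n13276 := d22_1 D13276 (iv D13276) F48450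
theorem F52430 : act 4 n13276 = n12321 := d26_1 D13276 (iv D12321) (iv D11297) (iv F44390) D12287
def n13277 : Q := act 8 n12287
theorem D13277 : act 8 n12287 = n13277 := rfl
theorem F52431 : act 1 n13277 = n12290 := d14_1 D13277 (iv D12290) (iv F48449)
theorem F52432 : act 3 n13277 = n13277 := d25_1 D13277 (iv D13277) F48450
theorem F52433 : act 4 n13277 = n12288 := d29_1 D13277 (iv D12288) D12287
def n13278 : Q := act 7 n12288
theorem D13278 : act 7 n12288 = n13278 := rfl
theorem F52434 : act 1 n13278 = n12291 := d13_1 D13278 (iv D12291) (iv F48451)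
theorem F52435 : act 5 n13278 = n12323 := d31_1 D13278 (iv D12323) (iv F48453)
def n13279 : Q := act 8 n12289
theorem D13279 : act 8 n12289 = n13279 := rfl
theorem F52436 : act 0 n13279 = n12298 := d7_1 D13279 (iv D12298) (iv F48454)
theorem F52437 : act 2 n13279 = n12292 := d20_1 D13279 (iv D12292) (iv F48455)
theorem F52438 : act 3 n13279 = n13279 := d25_1 D13279 (iv D13279) F48456
theorem F52439 : act 4 n13279 = n12376 := d29_1 D13279 (iv D12376) (iv F48457)
theorem F52440 : act 5 n13279 = n12290 := d32_1 D13279 (iv D12290) D12289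
def n13280 : Q := act 7 n12290
theorem D13280 : act 7 n12290 = n13280 := rfl
theorem F52441 : act 0 n13280 = n12299 := d6_1 D13280 (iv D12299) (iv F48458)
theorem F52442 : act 2 n13280 = n12293 := d19_1 D13280 (iv D12293) (iv F48459)
theorem F52443 : act 4 n13280 = n12291 := d28_1 D13280 (iv D12291) (iv F48461)
def n13281 : Q := act 7 n12292
theorem D13281 : act 7 n12292 = n13281 := rfl
theorem F52444 : act 0 n13281 = n12300 := d6_1 D13281 (iv D12300) (iv F48465)
theorem F52445 : act 4 n13281 = n12726 := d28_1 D13281 (iv D12726) (iv F48467)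
theorem F52446 : act 5 n13281 = n12293 := d31_1 D13281 (iv D12293) (iv F48468)
def n13282 : Q := act 7 n12298
theorem D13282 : act 7 n12298 = n13282 := rfl
theorem F52447 : act 2 n13282 = n12300 := d19_1 D13282 (iv D12300) (iv F48490)
theorem F52448 : act 4 n13282 = n12404 := d28_1 D13282 (iv D12404) (iv F48492)
theorem F52449 : act 5 n13282 = n12299 := d31_1 D13282 (iv D12299) (iv F48493)
def n13283 : Q := act 3 n12299
theorem D13283 : act 3 n12299 = n13283 := rfl
theorem F52450 : act 7 n13283 = n13283 := d24_2 D12299 D13283 (iv D13283) (iv D12299) F44441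
def n13284 : Q := act 3 n12302
theorem D13284 : act 3 n12302 = n13284 := rfl
theorem F52451 : act 1 n13284 = n12419 := d9_1 D13284 F48884 (iv F48503)
theorem F52452 : act 5 n13284 = n12303 := d22_2 (iv F48505) D13284 (iv D12303)
theorem F52453 : act 7 n13284 = n13063 := d24_2 D12302 D13284 F51562 F47506 (iv F44463)
def n13285 : Q := act 8 n12302
theorem D13285 : act 8 n12302 = n13285 := rfl
theorem F52454 : act 1 n13285 = n12422 := d14_1 D13285 (iv D12422) (iv F48503)
theorem F52455 : act 2 n13285 = n12309 := d20_1 D13285 (iv D12309) (iv F48504)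
theorem F52456 : act 5 n13285 = n12304 := d32_1 D13285 (iv D12304) (iv F48505)
def n13286 : Q := act 2 n12303
theorem D13286 : act 2 n12303 = n13286 := rfl
theorem F52457 : act 1 n13286 = n12685 := d8_1 D13286 (iv D12685) F45978 (iv F44822) (iv F48506)
theorem F52458 : act 3 n13286 = n12310 := d15_2 D12303 D13286 (iv D12310) (iv D11291) (iv F44465)
theorem F52459 : act 6 n13286 = n12305 := d18_2 (iv F48507) D13286 (iv D12305)
def n13287 : Q := act 4 n12303
theorem D13287 : act 4 n12303 = n13287 := rfl
theorem F52460 : act 1 n13287 = n12424 := d10_1 D13287 (iv D12424) (iv F48506)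
theorem F52461 : act 3 n13287 = n12551 := d21_1 D13287 (iv D12551) (iv D11542) (iv F44466) D12303
theorem F52462 : act 6 n13287 = n12306 := d27_2 (iv F48507) D13287 (iv D12306)
def n13288 : Q := act 8 n12303
theorem D13288 : act 8 n12303 = n13288 := rfl
theorem F52463 : act 1 n13288 = n12425 := d14_1 D13288 (iv D12425) (iv F48506)
theorem F52464 : act 3 n13288 = n12304 := d25_1 D13288 (iv D12304) D12303
theorem F52465 : act 6 n13288 = n12307 := d34_1 D13288 (iv D12307) (iv F48507)
def n13289 : Q := act 1 n12305
theorem D13289 : act 1 n12305 = n13289 := rfl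
theorem F52466 : act 2 n13289 = n12426 := d8_2 D12305 D13289 (iv D12426) (iv D11400) (iv F44468)
theorem F52467 : act 3 n13289 = n12313 := d9_2 (iv F48512) D13289 (iv D12313)
theorem F52468 : act 6 n13289 = n12685 := d12_2 F52459 D13289 (iv F52457)
theorem F52469 : act 7 n13289 = n13286 := d13_2 F49963 D13289 F52457
def n13290 : Q := act 4 n12305
theorem D13290 : act 4 n12305 = n13290 := rfl
theorem F52470 : act 2 n13290 = n12306 := d16_1 D13290 (iv D12306) D12305
def n13291 : Q := act 8 n12305
theorem D13291 : act 8 n12305 = n13291 := rfl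
theorem F52471 : act 2 n13291 = n12307 := d20_1 D13291 (iv D12307) D12305
theorem F52472 : act 3 n13291 = n12315 := d25_1 D13291 (iv D12315) (iv F48512)
def n13292 : Q := act 5 n12306
theorem D13292 : act 5 n12306 = n13292 := rfl
theorem F52473 : act 1 n13292 = n12429 := d11_1 D13292 (iv D12429) (iv F48513)
theorem F52474 : act 3 n13292 = n12555 := d22_1 D13292 (iv D12555) (iv F48514)
def n13293 : Q := act 8 n12306
theorem D13293 : act 8 n12306 = n13293 := rfl
theorem F52475 : act 1 n13293 = n12430 := d14_1 D13293 (iv D12430) (iv F48513)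
theorem F52476 : act 3 n13293 = n12556 := d25_1 D13293 (iv D12556) (iv F48514)
theorem F52477 : act 4 n13293 = n12307 := d29_1 D13293 (iv D12307) D12306
def n13294 : Q := act 7 n12307
theorem D13294 : act 7 n12307 = n13294 := rfl
theorem F52478 : act 1 n13294 = n12431 := d13_1 D13294 (iv D12431) (iv F48515)
def n13295 : Q := act 4 n12310
theorem D13295 : act 4 n12310 = n13295 := rfl
theorem F52479 : act 0 n13295 = n12581 := d3_1 D13295 (iv F51908) F51907
theorem F52480 : act 1 n13295 = n12688 := d10_1 D13295 (iv D12688) (iv F48523)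
theorem F52481 : act 2 n13295 = n12311 := d16_1 D13295 (iv D12311) D12310
theorem F52482 : act 6 n13295 = n12314 := d27_2 (iv F48524) D13295 (iv D12314)
theorem F52483 : act 7 n13295 = n12319 := d28_2 (iv F48525) D13295 (iv D12319)
def n13296 : Q := act 8 n12310
theorem D13296 : act 8 n12310 = n13296 := rfl
theorem F52484 : act 1 n13296 = n12689 := d14_1 D13296 (iv D12689) (iv F48523)
theorem F52485 : act 2 n13296 = n12312 := d20_1 D13296 (iv D12312) D12310
theorem F52486 : act 6 n13296 = n12315 := d34_1 D13296 (iv D12315) (iv F48524)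
def n13297 : Q := act 5 n12311
theorem D13297 : act 5 n12311 = n13297 := rfl
theorem F52487 : act 0 n13297 = n12580 := d4_1 D13297 F49551 (iv F48526)
theorem F52488 : act 1 n13297 = n12364 := d11_1 D13297 (iv D12364) (iv F48527)
theorem F52489 : act 3 n13297 = n12528 := d22_1 D13297 F49354 (iv F48528)
theorem F52490 : act 7 n13297 = n12321 := d31_2 (iv F48530) D13297 (iv D12321)
def n13298 : Q := act 7 n12312
theorem D13298 : act 7 n12312 = n13298 := rfl
theorem F52491 : act 1 n13298 = n12365 := d13_1 D13298 (iv D12365) (iv F48531)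
theorem F52492 : act 6 n13298 = n12318 := d33_1 D13298 (iv D12318) (iv F48533)
theorem F52493 : act 8 n13298 = n12323 := d35_2 D12312 D13298 (iv D12323) (iv D11298) (iv F44481)
def n13299 : Q := act 0 n12313
theorem D13299 : act 0 n12313 = n13299 := rfl
theorem F52494 : act 2 n13299 = n12366 := d1_2 (iv F48534) D13299 (iv D12366)
theorem F52495 : act 6 n13299 = n12631 := d5_2 (iv F48535) D13299 F49775
theorem F52496 : act 7 n13299 = n12324 := d6_2 (iv F48536) D13299 (iv D12324)
def n13300 : Q := act 4 n12313
theorem D13300 : act 4 n12313 = n13300 := rfl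
theorem F52497 : act 1 n13300 = n12314 := d10_1 D13300 (iv D12314) D12313
theorem F52498 : act 2 n13300 = n12367 := d16_1 D13300 (iv D12367) (iv F48534)
theorem F52499 : act 6 n13300 = n12688 := d27_2 (iv F48535) D13300 (iv D12688)
theorem F52500 : act 7 n13300 = n12325 := d28_2 (iv F48536) D13300 (iv D12325)
def n13301 : Q := act 8 n12313
theorem D13301 : act 8 n12313 = n13301 := rfl
theorem F52501 : act 1 n13301 = n12315 := d14_1 D13301 (iv D12315) D12313
theorem F52502 : act 2 n13301 = n12368 := d20_1 D13301 (iv D12368) (iv F48534)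
theorem F52503 : act 6 n13301 = n12689 := d34_1 D13301 (iv D12689) (iv F48535)
def n13302 : Q := act 3 n12314
theorem D13302 : act 3 n12314 = n13302 := rfl
theorem F52504 : act 2 n13302 = n12558 := d15_1 D13302 (iv D12558) F45446 (iv F44487) (iv F48537)
def n13303 : Q := act 5 n12314
theorem D13303 : act 5 n12314 = n13303 := rfl
theorem F52505 : act 2 n13303 = n12316 := d17_1 D13303 (iv D12316) (iv F48537)
theorem F52506 : act 7 n13303 = n12328 := d31_2 (iv F48538) D13303 (iv D12328)
def n13304 : Q := act 8 n12314
theorem D13304 : act 8 n12314 = n13304 := rfl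
theorem F52507 : act 2 n13304 = n12317 := d20_1 D13304 (iv D12317) (iv F48537)
theorem F52508 : act 4 n13304 = n12315 := d29_1 D13304 (iv D12315) D12314
def n13305 : Q := act 7 n12315
theorem D13305 : act 7 n12315 = n13305 := rfl
theorem F52509 : act 2 n13305 = n12318 := d19_1 D13305 (iv D12318) (iv F48539)
theorem F52510 : act 8 n13305 = n12330 := d35_2 D12315 D13305 (iv D12330) (iv D11301) (iv F44485)
def n13306 : Q := act 6 n12316
theorem D13306 : act 6 n12316 = n13306 := rfl
theorem F52511 : act 1 n13306 = n12372 := d12_1 D13306 (iv D12372) (iv F48540)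
theorem F52512 : act 3 n13306 = n12561 := d23_1 D13306 (iv D12561) (iv F48541)
theorem F52513 : act 7 n13306 = n12331 := d33_2 (iv F48542) D13306 (iv D12331)
def n13307 : Q := act 8 n12316
theorem D13307 : act 8 n12316 = n13307 := rfl
theorem F52514 : act 1 n13307 = n12373 := d14_1 D13307 (iv D12373) (iv F48540)
theorem F52515 : act 3 n13307 = n12562 := d25_1 D13307 (iv D12562) (iv F48541)
theorem F52516 : act 5 n13307 = n12317 := d32_1 D13307 (iv D12317) D12316
def n13308 : Q := act 7 n12317
theorem D13308 : act 7 n12317 = n13308 := rfl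
theorem F52517 : act 1 n13308 = n12374 := d13_1 D13308 (iv D12374) (iv F48543)
theorem F52518 : act 4 n13308 = n12318 := d28_1 D13308 (iv D12318) (iv F48545)
theorem F52519 : act 8 n13308 = n12333 := d35_2 D12317 D13308 (iv D12333) (iv D11303) (iv F44488)
def n13309 : Q := act 3 n12319
theorem D13309 : act 3 n12319 = n13309 := rfl
theorem F52520 : act 1 n13309 = n12693 := d9_1 D13309 (iv D12693) (iv F48548)
theorem F52521 : act 2 n13309 = n12334 := d15_1 D13309 (iv D12334) F44511 (iv F44494) (iv F48549)
theorem F52522 : act 6 n13309 = n12327 := d23_2 (iv F48550) D13309 (iv D12327)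
def n13310 : Q := act 5 n12319
theorem D13310 : act 5 n12319 = n13310 := rfl
theorem F52523 : act 1 n13310 = n12694 := d11_1 D13310 (iv D12694) (iv F48548)
theorem F52524 : act 2 n13310 = n12321 := d17_1 D13310 (iv D12321) (iv F48549)
def n13311 : Q := act 8 n12319
theorem D13311 : act 8 n12319 = n13311 := rfl
theorem F52525 : act 1 n13311 = n12695 := d14_1 D13311 (iv D12695) (iv F48548)
theorem F52526 : act 2 n13311 = n12322 := d20_1 D13311 (iv D12322) (iv F48549)
theorem F52527 : act 4 n13311 = n12320 := d29_1 D13311 (iv D12320) D12319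
theorem F52528 : act 6 n13311 = n12329 := d34_1 D13311 (iv D12329) (iv F48550)
def n13312 : Q := act 7 n12320
theorem D13312 : act 7 n12320 = n13312 := rfl
theorem F52529 : act 1 n13312 = n12696 := d13_1 D13312 (iv D12696) (iv F48551)
theorem F52530 : act 2 n13312 = n12323 := d19_1 D13312 (iv D12323) (iv F48552)
theorem F52531 : act 6 n13312 = n12330 := d33_1 D13312 (iv D12330) (iv F48553)
def n13313 : Q := act 6 n12321
theorem D13313 : act 6 n12321 = n13313 := rfl
theorem F52532 : act 1 n13313 = n12375 := d12_1 D13313 (iv D12375) (iv F48554)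
theorem F52533 : act 3 n13313 = n12338 := d23_1 D13313 (iv D12338) (iv F48555)
theorem F52534 : act 5 n13313 = n12331 := d30_1 D13313 (iv D12331) (iv D11302) (iv F44495) D12321
def n13314 : Q := act 8 n12321
theorem D13314 : act 8 n12321 = n13314 := rfl
theorem F52535 : act 1 n13314 = n12376 := d14_1 D13314 (iv D12376) (iv F48554)
theorem F52536 : act 3 n13314 = n12339 := d25_1 D13314 (iv D12339) (iv F48555)
theorem F52537 : act 5 n13314 = n12322 := d32_1 D13314 (iv D12322) D12321
def n13315 : Q := act 7 n12322
theorem D13315 : act 7 n12322 = n13315 := rfl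
theorem F52538 : act 1 n13315 = n12377 := d13_1 D13315 (iv D12377) (iv F48556)
theorem F52539 : act 4 n13315 = n12323 := d28_1 D13315 (iv D12323) (iv F48558)
theorem F52540 : act 6 n13315 = n12333 := d33_1 D13315 (iv D12333) (iv F48559)
def n13316 : Q := act 4 n12324
theorem D13316 : act 4 n12324 = n13316 := rfl
theorem F52541 : act 0 n13316 = n12325 := d3_1 D13316 (iv D12325) D12324
theorem F52542 : act 2 n13316 = n12378 := d16_1 D13316 (iv D12378) (iv F48562)
theorem F52543 : act 6 n13316 = n12635 := d27_2 (iv F48564) D13316 (iv D12635)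
def n13317 : Q := act 8 n12324
theorem D13317 : act 8 n12324 = n13317 := rfl
theorem F52544 : act 0 n13317 = n12326 := d7_1 D13317 (iv D12326) D12324
theorem F52545 : act 2 n13317 = n12379 := d20_1 D13317 (iv D12379) (iv F48562)
theorem F52546 : act 3 n13317 = n13148 := d25_1 D13317 (iv D13148) (iv F48563)
theorem F52547 : act 6 n13317 = n12636 := d34_1 D13317 (iv D12636) (iv F48564)
def n13318 : Q := act 3 n12325
theorem D13318 : act 3 n12325 = n13318 := rfl
theorem F52548 : act 1 n13318 = n12327 := d9_1 D13318 (iv D12327) (iv F48565)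
theorem F52549 : act 2 n13318 = n12437 := d15_1 D13318 (iv D12437) F44867 (iv F44634) (iv F48566)
theorem F52550 : act 4 n13318 = n13309 := d21_2 D12325 D13318 (iv D13309) (iv D12319) (iv F44500)
theorem F52551 : act 6 n13318 = n12693 := d23_2 (iv F48567) D13318 (iv D12693)
def n13319 : Q := act 5 n12325
theorem D13319 : act 5 n12325 = n13319 := rfl
theorem F52552 : act 1 n13319 = n12328 := d11_1 D13319 (iv D12328) (iv F48565)
theorem F52553 : act 2 n13319 = n12380 := d17_1 D13319 (iv D12380) (iv F48566)
def n13320 : Q := act 8 n12325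
theorem D13320 : act 8 n12325 = n13320 := rfl
theorem F52554 : act 1 n13320 = n12329 := d14_1 D13320 (iv D12329) (iv F48565)
theorem F52555 : act 2 n13320 = n12381 := d20_1 D13320 (iv D12381) (iv F48566)
theorem F52556 : act 4 n13320 = n12326 := d29_1 D13320 (iv D12326) D12325
theorem F52557 : act 6 n13320 = n12695 := d34_1 D13320 (iv D12695) (iv F48567)
def n13321 : Q := act 7 n12326
theorem D13321 : act 7 n12326 = n13321 := rfl
theorem F52558 : act 1 n13321 = n12330 := d13_1 D13321 (iv D12330) (iv F48568)
theorem F52559 : act 2 n13321 = n12382 := d19_1 D13321 (iv D12382) (iv F48569)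
theorem F52560 : act 6 n13321 = n12696 := d33_1 D13321 (iv D12696) (iv F48571)
def n13322 : Q := act 5 n12327
theorem D13322 : act 5 n12327 = n13322 := rfl
theorem F52561 : act 2 n13322 = n12341 := d17_1 D13322 (iv D12341) (iv F48572)
theorem F52562 : act 3 n13322 = n12328 := d22_1 D13322 (iv D12328) D12327
def n13323 : Q := act 7 n12327
theorem D13323 : act 7 n12327 = n13323 := rfl
theorem F52563 : act 2 n13323 = n12342 := d19_1 D13323 (iv D12342) (iv F48572)
def n13324 : Q := act 8 n12327
theorem D13324 : act 8 n12327 = n13324 := rfl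
theorem F52564 : act 2 n13324 = n12343 := d20_1 D13324 (iv D12343) (iv F48572)
theorem F52565 : act 3 n13324 = n12329 := d25_1 D13324 (iv D12329) D12327
def n13325 : Q := act 6 n12328
theorem D13325 : act 6 n12328 = n13325 := rfl
theorem F52566 : act 2 n13325 = n12331 := d18_1 D13325 (iv D12331) (iv F48573)
def n13326 : Q := act 8 n12328
theorem D13326 : act 8 n12328 = n13326 := rfl
theorem F52567 : act 2 n13326 = n12332 := d20_1 D13326 (iv D12332) (iv F48573)
theorem F52568 : act 5 n13326 = n12329 := d32_1 D13326 (iv D12329) D12328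
def n13327 : Q := act 7 n12329
theorem D13327 : act 7 n12329 = n13327 := rfl
theorem F52569 : act 2 n13327 = n12333 := d19_1 D13327 (iv D12333) (iv F48574)
theorem F52570 : act 4 n13327 = n12330 := d28_1 D13327 (iv D12330) (iv F48575)
def n13328 : Q := act 3 n12330
theorem D13328 : act 3 n12330 = n13328 := rfl
def n13329 : Q := act 8 n12331
theorem D13329 : act 8 n12331 = n13329 := rfl
theorem F52571 : act 1 n13329 = n12386 := d14_1 D13329 (iv D12386) (iv F48577)
theorem F52572 : act 3 n13329 = n12348 := d25_1 D13329 (iv D12348) (iv F48578)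
theorem F52573 : act 6 n13329 = n12332 := d34_1 D13329 (iv D12332) D12331
def n13330 : Q := act 7 n12332
theorem D13330 : act 7 n12332 = n13330 := rfl
theorem F52574 : act 1 n13330 = n12387 := d13_1 D13330 (iv D12387) (iv F48579)
theorem F52575 : act 5 n13330 = n12333 := d31_1 D13330 (iv D12333) (iv F48581)
def n13331 : Q := act 3 n12333
theorem D13331 : act 3 n12333 = n13331 := rfl
theorem F52576 : act 1 n13331 = n12388 := d9_1 D13331 (iv D12388) (iv F48582)
theorem F52577 : act 7 n13331 = n12350 := d24_2 D12333 D13331 (iv D12350) (iv D11316) (iv F44507)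
def n13332 : Q := act 5 n12334
theorem D13332 : act 5 n12334 = n13332 := rfl
theorem F52578 : act 1 n13332 = n12451 := d11_1 D13332 (iv D12451) (iv F48584)
theorem F52579 : act 3 n13332 = n12335 := d22_1 D13332 (iv D12335) D12334
def n13333 : Q := act 7 n12334
theorem D13333 : act 7 n12334 = n13333 := rfl
theorem F52580 : act 1 n13333 = n12452 := d13_1 D13333 (iv D12452) (iv F48584)
theorem F52581 : act 3 n13333 = n12567 := d24_1 D13333 (iv D12567) (iv D11554) (iv F44513) D12334
theorem F52582 : act 6 n13333 = n12342 := d33_1 D13333 (iv D12342) (iv F48585)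
def n13334 : Q := act 8 n12334
theorem D13334 : act 8 n12334 = n13334 := rfl
theorem F52583 : act 1 n13334 = n12453 := d14_1 D13334 (iv D12453) (iv F48584)
theorem F52584 : act 3 n13334 = n12336 := d25_1 D13334 (iv D12336) D12334
theorem F52585 : act 6 n13334 = n12343 := d34_1 D13334 (iv D12343) (iv F48585)
def n13335 : Q := act 6 n12335
theorem D13335 : act 6 n12335 = n13335 := rfl
theorem F52586 : act 1 n13335 = n12454 := d12_1 D13335 (iv D12454) (iv F48586)
theorem F52587 : act 2 n13335 = n12338 := d18_1 D13335 (iv D12338) (iv F48587)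
theorem F52588 : act 4 n13335 = n13335 := d27_1 D13335 (iv D13335) F48588
theorem F52589 : act 5 n13335 = n12344 := d30_1 D13335 (iv D12344) (iv D11311) (iv F44512) D12335
theorem F52590 : act 7 n13335 = n12568 := d33_2 (iv F48589) D13335 (iv D12568)
def n13336 : Q := act 8 n12335
theorem D13336 : act 8 n12335 = n13336 := rfl
theorem F52591 : act 1 n13336 = n12455 := d14_1 D13336 (iv D12455) (iv F48586)
theorem F52592 : act 2 n13336 = n12339 := d20_1 D13336 (iv D12339) (iv F48587)
theorem F52593 : act 4 n13336 = n13336 := d29_1 D13336 (iv D13336) F48588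
theorem F52594 : act 5 n13336 = n12336 := d32_1 D13336 (iv D12336) D12335
def n13337 : Q := act 7 n12336
theorem D13337 : act 7 n12336 = n13337 := rfl
theorem F52595 : act 0 n13337 = n12560 := d6_1 D13337 (iv F52008) F52003
theorem F52596 : act 1 n13337 = n12456 := d13_1 D13337 (iv D12456) (iv F48590)
theorem F52597 : act 2 n13337 = n12340 := d19_1 D13337 (iv D12340) (iv F48591)
theorem F52598 : act 4 n13337 = n12337 := d28_1 D13337 (iv D12337) (iv F48592)
theorem F52599 : act 6 n13337 = n12346 := d33_1 D13337 (iv D12346) (iv F48593)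
theorem F52600 : act 8 n13337 = n12512 := d35_2 D12336 D13337 F49274 F45221 (iv F44513)
def n13338 : Q := act 3 n12337
theorem D13338 : act 3 n12337 = n13338 := rfl
theorem F52601 : act 0 n13338 = n12554 := d2_1 D13338 F49473 (iv F48594)
theorem F52602 : act 1 n13338 = n12457 := d9_1 D13338 (iv D12457) (iv F48595)
theorem F52603 : act 2 n13338 = n12511 := d15_1 D13338 F49268 F45206 (iv F44526) (iv F48596)
theorem F52604 : act 5 n13338 = n13338 := d22_2 F48597 D13338 (iv D13338)
theorem F52605 : act 6 n13338 = n12347 := d23_2 (iv F48598) D13338 (iv D12347)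
theorem F52606 : act 8 n13338 = n12509 := d25_2 (iv F48599) D13338 F49258
def n13339 : Q := act 8 n12338
theorem D13339 : act 8 n12338 = n13339 := rfl
theorem F52607 : act 1 n13339 = n12389 := d14_1 D13339 (iv D12389) (iv F48600)
theorem F52608 : act 4 n13339 = n13339 := d29_1 D13339 (iv D13339) F48601
theorem F52609 : act 5 n13339 = n12348 := d32_1 D13339 (iv D12348) (iv F48602)
theorem F52610 : act 6 n13339 = n12339 := d34_1 D13339 (iv D12339) D12338
def n13340 : Q := act 7 n12339
theorem D13340 : act 7 n12339 = n13340 := rfl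
theorem F52611 : act 0 n13340 = n12562 := d6_1 D13340 (iv F52018) F52014
theorem F52612 : act 1 n13340 = n12390 := d13_1 D13340 (iv D12390) (iv F48604)
theorem F52613 : act 4 n13340 = n13340 := d28_1 D13340 (iv D13340) F48605
theorem F52614 : act 5 n13340 = n12340 := d31_1 D13340 (iv D12340) (iv F48606)
theorem F52615 : act 8 n13340 = n12513 := d35_2 D12339 D13340 F49278 F45226 (iv F44520)
def n13341 : Q := act 4 n12341
theorem D13341 : act 4 n12341 = n13341 := rfl
theorem F52616 : act 1 n13341 = n12461 := d10_1 D13341 (iv D12461) (iv F48612)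
theorem F52617 : act 3 n13341 = n12351 := d21_1 D13341 (iv D12351) F44552 (iv F44533) (iv F48613)
def n13342 : Q := act 6 n12341
theorem D13342 : act 6 n12341 = n13342 := rfl
theorem F52618 : act 1 n13342 = n12462 := d12_1 D13342 (iv D12462) (iv F48612)
theorem F52619 : act 3 n13342 = n12344 := d23_1 D13342 (iv D12344) (iv F48613)
theorem F52620 : act 7 n13341 = n13342 := d24_0 F52619 F48621 (iv F49521) (iv F49523) (iv F52617)
def n13343 : Q := act 7 n12341
theorem D13343 : act 7 n12341 = n13343 := rfl
theorem F52621 : act 1 n13343 = n12463 := d13_1 D13343 (iv D12463) (iv F48612)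
theorem F52622 : act 3 n13343 = n12571 := d24_1 D13343 (iv D12571) F45475 (iv F44534) (iv F48613)
theorem F52623 : act 4 n13343 = n13342 := d28_1 D13343 (iv F52620) (iv D13341)
theorem F52624 : act 5 n13343 = n12342 := d31_1 D13343 (iv D12342) D12341
theorem F52625 : act 6 n13343 = n13341 := d33_1 D13343 F52620 (iv D13342)
def n13344 : Q := act 8 n12341
theorem D13344 : act 8 n12341 = n13344 := rfl
theorem F52626 : act 1 n13344 = n12464 := d14_1 D13344 (iv D12464) (iv F48612)
theorem F52627 : act 3 n13344 = n12345 := d25_1 D13344 (iv D12345) (iv F48613)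
theorem F52628 : act 5 n13344 = n12343 := d32_1 D13344 (iv D12343) D12341
def n13345 : Q := act 8 n12342
theorem D13345 : act 8 n12342 = n13345 := rfl
theorem F52629 : act 1 n13345 = n12465 := d14_1 D13345 (iv D12465) (iv F48614)
theorem F52630 : act 3 n13345 = n12573 := d25_1 D13345 (iv D12573) (iv F48615)
def n13346 : Q := act 7 n12343
theorem D13346 : act 7 n12343 = n13346 := rfl
theorem F52631 : act 1 n13346 = n12466 := d13_1 D13346 (iv D12466) (iv F48616)
def n13347 : Q := act 8 n12344
theorem D13347 : act 8 n12344 = n13347 := rfl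
theorem F52632 : act 1 n13347 = n12467 := d14_1 D13347 (iv D12467) (iv F48618)
theorem F52633 : act 2 n13347 = n12348 := d20_1 D13347 (iv D12348) (iv F48619)
theorem F52634 : act 4 n13347 = n12357 := d29_1 D13347 (iv D12357) (iv F48620)
theorem F52635 : act 6 n13347 = n12345 := d34_1 D13347 (iv D12345) D12344
def n13348 : Q := act 7 n12345
theorem D13348 : act 7 n12345 = n13348 := rfl
theorem F52636 : act 1 n13348 = n12468 := d13_1 D13348 (iv D12468) (iv F48622)
theorem F52637 : act 2 n13348 = n12349 := d19_1 D13348 (iv D12349) (iv F48623)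
theorem F52638 : act 4 n13348 = n12358 := d28_1 D13348 (iv D12358) (iv F48624)
theorem F52639 : act 5 n13348 = n12346 := d31_1 D13348 (iv D12346) (iv F48625)
theorem F52640 : act 8 n13348 = n12576 := d35_2 D12345 D13348 (iv D12576) (iv D11561) (iv F44534)
def n13349 : Q := act 3 n12346
theorem D13349 : act 3 n12346 = n13349 := rfl
theorem F52641 : act 1 n13349 = n12469 := d9_1 D13349 (iv D12469) (iv F48626)
theorem F52642 : act 8 n13349 = n12577 := d25_2 (iv F48629) D13349 (iv D12577)
def n13350 : Q := act 4 n12347
theorem D13350 : act 4 n12347 = n13350 := rfl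
theorem F52643 : act 1 n13350 = n12470 := d10_1 D13350 (iv D12470) (iv F48630)
theorem F52644 : act 8 n13350 = n12578 := d29_2 (iv F48632) D13350 (iv D12578)
def n13351 : Q := act 7 n12348
theorem D13351 : act 7 n12348 = n13351 := rfl
theorem F52645 : act 1 n13351 = n12391 := d13_1 D13351 (iv D12391) (iv F48633)
theorem F52646 : act 4 n13351 = n12361 := d28_1 D13351 (iv D12361) (iv F48634)
theorem F52647 : act 6 n13351 = n12349 := d33_1 D13351 (iv D12349) (iv F48635)
theorem F52648 : act 8 n13351 = n12579 := d35_2 D12348 D13351 (iv D12579) (iv D11564) (iv F44544)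
def n13352 : Q := act 3 n12349
theorem D13352 : act 3 n12349 = n13352 := rfl
theorem F52649 : act 1 n13352 = n12392 := d9_1 D13352 (iv D12392) (iv F48636)
theorem F52650 : act 5 n13352 = n12350 := d22_2 (iv F48638) D13352 (iv D12350)
theorem F52651 : act 8 n13352 = n12580 := d25_2 (iv F48639) D13352 (iv D12580)
def n13353 : Q := act 2 n12350
theorem D13353 : act 2 n12350 = n13353 := rfl
theorem F52652 : act 8 n13353 = n12581 := d20_2 (iv F48641) D13353 (iv D12581)
def n13354 : Q := act 8 n12351
theorem D13354 : act 8 n12351 = n13354 := rfl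
theorem F52653 : act 1 n13354 = n12474 := d14_1 D13354 (iv D12474) (iv F48642)
theorem F52654 : act 4 n13354 = n12354 := d29_1 D13354 (iv D12354) D12351
def n13355 : Q := act 8 n12352
theorem D13355 : act 8 n12352 = n13355 := rfl
theorem F52655 : act 1 n13355 = n12475 := d14_1 D13355 (iv D12475) (iv F48643)
theorem F52656 : act 3 n13355 = n12357 := d25_1 D13355 (iv D12357) (iv F48644)
theorem F52657 : act 5 n13355 = n13355 := d32_1 D13355 (iv D13355) F48645
theorem F52658 : act 6 n13355 = n12354 := d34_1 D13355 (iv D12354) D12352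
def n13356 : Q := act 8 n12353
theorem D13356 : act 8 n12353 = n13356 := rfl
theorem F52659 : act 0 n13356 = n13268 := d7_1 D13356 (iv F52397) F52070
theorem F52660 : act 1 n13356 = n12476 := d14_1 D13356 (iv D12476) (iv F48646)
theorem F52661 : act 3 n13356 = n12584 := d25_1 D13356 (iv D12584) (iv F48647)
theorem F52662 : act 5 n13356 = n12355 := d32_1 D13356 (iv D12355) (iv F48648)
theorem F52663 : act 7 n13103 = n13356 := d31_0 F52662 (iv F48656) D13103
def n13357 : Q := act 7 n12354
theorem D13357 : act 7 n12354 = n13357 := rfl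
theorem F52664 : act 0 n13357 = n13269 := d6_1 D13357 F52402 F52074
theorem F52665 : act 1 n13357 = n12477 := d13_1 D13357 (iv D12477) (iv F48649)
theorem F52666 : act 5 n13357 = n12356 := d31_1 D13357 (iv D12356) (iv F48651)
theorem F52667 : act 8 n13357 = n13103 := d35_2 D12354 D13357 F52663 (iv D13356) (iv D12353)
theorem F52668 : act 3 n13104 = n13357 := d25_3 F52667 F51778 D13104
def n13358 : Q := act 7 n12357
theorem D13358 : act 7 n12357 = n13358 := rfl
theorem F52669 : act 1 n13358 = n12480 := d13_1 D13358 (iv D12480) (iv F48662)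
theorem F52670 : act 2 n13358 = n12361 := d19_1 D13358 (iv D12361) (iv F48663)
theorem F52671 : act 5 n13358 = n13358 := d31_1 D13358 (iv D13358) F48664
theorem F52672 : act 6 n13358 = n12358 := d33_1 D13358 (iv D12358) (iv F48665)
theorem F52673 : act 8 n13358 = n12586 := d35_2 D12357 D13358 (iv D12586) (iv D11573) (iv F44562)
def n13359 : Q := act 3 n12358
theorem D13359 : act 3 n12358 = n13359 := rfl
theorem F52674 : act 0 n13359 = n13271 := d2_1 D13359 F52409 F52083
theorem F52675 : act 1 n13359 = n12481 := d9_1 D13359 (iv D12481) (iv F48666)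
theorem F52676 : act 5 n13359 = n12359 := d22_2 (iv F48668) D13359 (iv D12359)
theorem F52677 : act 7 n13359 = n13104 := d24_2 D12358 D13359 F52668 (iv D13357) F48650
theorem F52678 : act 8 n13359 = n12587 := d25_2 (iv F48669) D13359 (iv D12587)
theorem F52679 : act 2 n13105 = n13359 := d20_3 F52678 F49582 (iv F51786)
theorem F52680 : act 4 n13285 = n13359 := d29_3 F52678 (iv F49583) D13285
def n13360 : Q := act 2 n12362
theorem D13360 : act 2 n12362 = n13360 := rfl
theorem F52681 : act 0 n13360 = n13273 := d1_1 D13360 F52417 F52093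
theorem F52682 : act 1 n13360 = n13083 := d8_1 D13360 F51664 F47627 F46354 (iv F48687)
theorem F52683 : act 3 n13360 = n13105 := d15_2 D12362 D13360 F52679 (iv D13359) F48667
theorem F52684 : act 4 n13360 = n13114 := d16_2 F50777 D13360 F51822
theorem F52685 : act 5 n13360 = n12363 := d17_2 (iv F48688) D13360 (iv D12363)
theorem F52686 : act 6 n13360 = n13086 := d18_2 F50424 D13360 F51686
theorem F52687 : act 8 n13360 = n12588 := d20_2 (iv F48689) D13360 (iv D12588)
def n13361 : Q := act 4 n12366
theorem D13361 : act 4 n12366 = n13361 := rfl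
theorem F52688 : act 0 n13361 = n12367 := d3_1 D13361 (iv D12367) D12366
theorem F52689 : act 1 n13361 = n12395 := d10_1 D13361 (iv D12395) (iv F48704)
theorem F52690 : act 3 n13361 = n13361 := d21_1 D13361 (iv D13361) F48705 F44850 (iv F48705)
theorem F52691 : act 6 n13361 = n12632 := d27_2 (iv F48706) D13361 (iv D12632)
theorem F52692 : act 7 n13361 = n12378 := d28_2 (iv F48707) D13361 (iv D12378)
def n13362 : Q := act 8 n12366
theorem D13362 : act 8 n12366 = n13362 := rfl
theorem F52693 : act 0 n13362 = n12368 := d7_1 D13362 (iv D12368) D12366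
theorem F52694 : act 1 n13362 = n12396 := d14_1 D13362 (iv D12396) (iv F48704)
theorem F52695 : act 3 n13362 = n12434 := d25_1 D13362 (iv D12434) (iv F48705)
theorem F52696 : act 6 n13362 = n12633 := d34_1 D13362 (iv D12633) (iv F48706)
def n13363 : Q := act 5 n12367
theorem D13363 : act 5 n12367 = n13363 := rfl
theorem F52697 : act 1 n13363 = n12369 := d11_1 D13363 (iv D12369) (iv F48708)
theorem F52698 : act 3 n13363 = n13363 := d22_1 D13363 (iv D13363) F48709
theorem F52699 : act 7 n13363 = n12380 := d31_2 (iv F48711) D13363 (iv D12380)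
def n13364 : Q := act 8 n12367
theorem D13364 : act 8 n12367 = n13364 := rfl
theorem F52700 : act 1 n13364 = n12370 := d14_1 D13364 (iv D12370) (iv F48708)
theorem F52701 : act 3 n13364 = n13364 := d25_1 D13364 (iv D13364) F48709
theorem F52702 : act 4 n13364 = n12368 := d29_1 D13364 (iv D12368) D12367
theorem F52703 : act 6 n13364 = n12691 := d34_1 D13364 (iv D12691) (iv F48710)
def n13365 : Q := act 7 n12368
theorem D13365 : act 7 n12368 = n13365 := rfl
theorem F52704 : act 1 n13365 = n12371 := d13_1 D13365 (iv D12371) (iv F48712)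
theorem F52705 : act 6 n13365 = n12692 := d33_1 D13365 (iv D12692) (iv F48714)
theorem F52706 : act 8 n13365 = n12382 := d35_2 D12368 D13365 (iv D12382) (iv D11342) (iv F44601)
def n13366 : Q := act 8 n12369
theorem D13366 : act 8 n12369 = n13366 := rfl
theorem F52707 : act 0 n13366 = n12399 := d7_1 D13366 (iv D12399) (iv F48715)
theorem F52708 : act 2 n13366 = n12373 := d20_1 D13366 (iv D12373) (iv F48716)
theorem F52709 : act 3 n13366 = n13366 := d25_1 D13366 (iv D13366) F48717
theorem F52710 : act 5 n13366 = n12370 := d32_1 D13366 (iv D12370) D12369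
def n13367 : Q := act 7 n12370
theorem D13367 : act 7 n12370 = n13367 := rfl
theorem F52711 : act 0 n13367 = n12400 := d6_1 D13367 (iv D12400) (iv F48719)
theorem F52712 : act 2 n13367 = n12374 := d19_1 D13367 (iv D12374) (iv F48720)
theorem F52713 : act 4 n13367 = n12371 := d28_1 D13367 (iv D12371) (iv F48722)
theorem F52714 : act 6 n13367 = n12724 := d33_1 D13367 (iv D12724) (iv F48723)
theorem F52715 : act 8 n13367 = n12385 := d35_2 D12370 D13367 (iv D12385) (iv D11344) (iv F44606)
def n13368 : Q := act 8 n12372
theorem D13368 : act 8 n12372 = n13368 := rfl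
theorem F52716 : act 0 n13368 = n12401 := d7_1 D13368 (iv D12401) (iv F48728)
theorem F52717 : act 3 n13368 = n12589 := d25_1 D13368 (iv D12589) (iv F48729)
theorem F52718 : act 6 n13368 = n12373 := d34_1 D13368 (iv D12373) D12372
def n13369 : Q := act 7 n12373
theorem D13369 : act 7 n12373 = n13369 := rfl
theorem F52719 : act 0 n13369 = n12402 := d6_1 D13369 (iv D12402) (iv F48731)
theorem F52720 : act 5 n13369 = n12374 := d31_1 D13369 (iv D12374) (iv F48733)
theorem F52721 : act 8 n13369 = n12387 := d35_2 D12373 D13369 (iv D12387) (iv D11347) (iv F44613)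
def n13370 : Q := act 8 n12375
theorem D13370 : act 8 n12375 = n13370 := rfl
theorem F52722 : act 0 n13370 = n12403 := d7_1 D13370 (iv D12403) (iv F48737)
theorem F52723 : act 2 n13370 = n12725 := d20_1 D13370 (iv D12725) (iv F48738)
theorem F52724 : act 3 n13370 = n12389 := d25_1 D13370 (iv D12389) (iv F48739)
theorem F52725 : act 5 n13370 = n12386 := d32_1 D13370 (iv D12386) (iv F48740)
theorem F52726 : act 6 n13370 = n12376 := d34_1 D13370 (iv D12376) D12375
def n13371 : Q := act 7 n12376
theorem D13371 : act 7 n12376 = n13371 := rfl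
theorem F52727 : act 0 n13371 = n12404 := d6_1 D13371 (iv D12404) (iv F48741)
theorem F52728 : act 2 n13371 = n12726 := d19_1 D13371 (iv D12726) (iv F48742)
theorem F52729 : act 5 n13371 = n12377 := d31_1 D13371 (iv D12377) (iv F48744)
def n13372 : Q := act 5 n12378
theorem D13372 : act 5 n12378 = n13372 := rfl
theorem F52730 : act 0 n13372 = n12380 := d4_1 D13372 (iv D12380) (iv F48749)
theorem F52731 : act 1 n13372 = n12405 := d11_1 D13372 (iv D12405) (iv F48750)
theorem F52732 : act 3 n13372 = n12482 := d22_1 D13372 (iv D12482) (iv F48751)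
def n13373 : Q := act 8 n12378
theorem D13373 : act 8 n12378 = n13373 := rfl
theorem F52733 : act 0 n13373 = n12381 := d7_1 D13373 (iv D12381) (iv F48749)
theorem F52734 : act 1 n13373 = n12406 := d14_1 D13373 (iv D12406) (iv F48750)
theorem F52735 : act 3 n13373 = n12483 := d25_1 D13373 (iv D12483) (iv F48751)
theorem F52736 : act 4 n13373 = n12379 := d29_1 D13373 (iv D12379) D12378
theorem F52737 : act 6 n13373 = n12638 := d34_1 D13373 (iv D12638) (iv F48752)
def n13374 : Q := act 7 n12379
theorem D13374 : act 7 n12379 = n13374 := rfl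
theorem F52738 : act 0 n13374 = n12382 := d6_1 D13374 (iv D12382) (iv F48753)
theorem F52739 : act 1 n13374 = n12407 := d13_1 D13374 (iv D12407) (iv F48754)
theorem F52740 : act 6 n13374 = n12639 := d33_1 D13374 (iv D12639) (iv F48756)
def n13375 : Q := act 6 n12380
theorem D13375 : act 6 n12380 = n13375 := rfl
theorem F52741 : act 1 n13375 = n12383 := d12_1 D13375 (iv D12383) (iv F48757)
theorem F52742 : act 3 n13375 = n12485 := d23_1 D13375 (iv D12485) (iv F48758)
theorem F52743 : act 5 n13375 = n12697 := d30_1 D13375 (iv D12697) (iv D11694) (iv F44635) D12380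
def n13376 : Q := act 8 n12380
theorem D13376 : act 8 n12380 = n13376 := rfl
theorem F52744 : act 1 n13376 = n12384 := d14_1 D13376 (iv D12384) (iv F48757)
theorem F52745 : act 3 n13376 = n12486 := d25_1 D13376 (iv D12486) (iv F48758)
theorem F52746 : act 5 n13376 = n12381 := d32_1 D13376 (iv D12381) D12380
def n13377 : Q := act 7 n12381
theorem D13377 : act 7 n12381 = n13377 := rfl
theorem F52747 : act 1 n13377 = n12385 := d13_1 D13377 (iv D12385) (iv F48759)
theorem F52748 : act 4 n13377 = n12382 := d28_1 D13377 (iv D12382) (iv F48761)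
theorem F52749 : act 6 n13377 = n12699 := d33_1 D13377 (iv D12699) (iv F48762)
def n13378 : Q := act 8 n12383
theorem D13378 : act 8 n12383 = n13378 := rfl
theorem F52750 : act 0 n13378 = n12410 := d7_1 D13378 (iv D12410) (iv F48765)
theorem F52751 : act 2 n13378 = n12386 := d20_1 D13378 (iv D12386) (iv F48766)
theorem F52752 : act 3 n13378 = n12488 := d25_1 D13378 (iv D12488) (iv F48767)
theorem F52753 : act 5 n13378 = n12725 := d32_1 D13378 (iv D12725) (iv F48768)
theorem F52754 : act 6 n13378 = n12384 := d34_1 D13378 (iv D12384) D12383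
def n13379 : Q := act 7 n12384
theorem D13379 : act 7 n12384 = n13379 := rfl
theorem F52755 : act 0 n13379 = n12411 := d6_1 D13379 (iv D12411) (iv F48769)
theorem F52756 : act 2 n13379 = n12387 := d19_1 D13379 (iv D12387) (iv F48770)
theorem F52757 : act 5 n13379 = n12385 := d31_1 D13379 (iv D12385) (iv F48772)
def n13380 : Q := act 3 n12385
theorem D13380 : act 3 n12385 = n13380 := rfl
theorem F52758 : act 0 n13380 = n12412 := d2_1 D13380 (iv D12412) (iv F48773)
theorem F52759 : act 6 n13380 = n12727 := d23_2 (iv F48776) D13380 (iv D12727)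
theorem F52760 : act 7 n13380 = n12490 := d24_2 D12385 D13380 (iv D12490) (iv D11456) (iv F44644)
def n13381 : Q := act 7 n12386
theorem D13381 : act 7 n12386 = n13381 := rfl
theorem F52761 : act 0 n13381 = n12413 := d6_1 D13381 (iv D12413) (iv F48777)
theorem F52762 : act 6 n13381 = n12387 := d33_1 D13381 (iv D12387) (iv F48779)
def n13382 : Q := act 3 n12387
theorem D13382 : act 3 n12387 = n13382 := rfl
theorem F52763 : act 0 n13382 = n12414 := d2_1 D13382 (iv D12414) (iv F48780)
theorem F52764 : act 5 n13382 = n12388 := d22_2 (iv F48781) D13382 (iv D12388)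
theorem F52765 : act 7 n13382 = n12392 := d24_2 D12387 D13382 (iv D12392) (iv D11353) (iv F44653)
def n13383 : Q := act 2 n12388
theorem D13383 : act 2 n12388 = n13383 := rfl
theorem F52766 : act 0 n13383 = n12415 := d1_1 D13383 (iv D12415) (iv F48782)
theorem F52767 : act 7 n13383 = n12393 := d19_2 (iv F48783) D13383 (iv D12393)
def n13384 : Q := act 7 n12389
theorem D13384 : act 7 n12389 = n13384 := rfl
theorem F52768 : act 0 n13384 = n12416 := d6_1 D13384 (iv D12416) (iv F48784)
theorem F52769 : act 2 n13384 = n12494 := d19_1 D13384 (iv D12494) (iv F48785)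
theorem F52770 : act 4 n13384 = n13384 := d28_1 D13384 (iv D13384) F48786
theorem F52771 : act 5 n13384 = n12391 := d31_1 D13384 (iv D12391) (iv F48787)
theorem F52772 : act 6 n13384 = n12390 := d33_1 D13384 (iv D12390) (iv F48788)
theorem F52773 : act 8 n13384 = n12537 := d35_2 D12389 D13384 F49397 F45319 (iv F44661)
def n13385 : Q := act 1 n12393
theorem D13385 : act 1 n12393 = n13385 := rfl
theorem F52774 : act 3 n13385 = n12497 := d9_2 (iv F48803) D13385 (iv D12497)
theorem F52775 : act 8 n13385 = n12590 := d14_2 (iv F48804) D13385 (iv D12590)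
def n13386 : Q := act 8 n12395
theorem D13386 : act 8 n12395 = n13386 := rfl
theorem F52776 : act 0 n13386 = n12397 := d7_1 D13386 (iv D12397) (iv F48812)
theorem F52777 : act 3 n13386 = n13386 := d25_1 D13386 (iv D13386) F48813
theorem F52778 : act 4 n13386 = n12396 := d29_1 D13386 (iv D12396) D12395
theorem F52779 : act 6 n13386 = n12659 := d34_1 D13386 (iv D12659) (iv F48814)
def n13387 : Q := act 7 n12396
theorem D13387 : act 7 n12396 = n13387 := rfl
theorem F52780 : act 0 n13387 = n12398 := d6_1 D13387 (iv D12398) (iv F48816)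
theorem F52781 : act 6 n13387 = n12660 := d33_1 D13387 (iv D12660) (iv F48818)
theorem F52782 : act 8 n13387 = n12407 := d35_2 D12396 D13387 (iv D12407) (iv D11374) (iv F44708)
def n13388 : Q := act 7 n12397
theorem D13388 : act 7 n12397 = n13388 := rfl
theorem F52783 : act 1 n13388 = n12400 := d13_1 D13388 (iv D12400) (iv F48819)
theorem F52784 : act 4 n13388 = n12398 := d28_1 D13388 (iv D12398) (iv F48821)
theorem F52785 : act 6 n13388 = n12676 := d33_1 D13388 (iv D12676) (iv F48822)
theorem F52786 : act 8 n13388 = n12409 := d35_2 D12397 D13388 (iv D12409) (iv D11376) (iv F44712)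
def n13389 : Q := act 7 n12399
theorem D13389 : act 7 n12399 = n13389 := rfl
theorem F52787 : act 2 n13389 = n12402 := d19_1 D13389 (iv D12402) (iv F48826)
theorem F52788 : act 5 n13389 = n12400 := d31_1 D13389 (iv D12400) (iv F48828)
theorem F52789 : act 8 n13389 = n12411 := d35_2 D12399 D13389 (iv D12411) (iv D11379) (iv F44718)
def n13390 : Q := act 3 n12400
theorem D13390 : act 3 n12400 = n13390 := rfl
theorem F52790 : act 6 n13390 = n12736 := d23_2 (iv F48831) D13390 (iv D12736)
theorem F52791 : act 7 n13390 = n13390 := d24_2 D12400 D13390 (iv D13390) (iv D12400) F44720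
theorem F52792 : act 8 n13390 = n12412 := d25_2 (iv F48832) D13390 (iv D12412)
def n13391 : Q := act 7 n12401
theorem D13391 : act 7 n12401 = n13391 := rfl
theorem F52793 : act 6 n13391 = n12402 := d33_1 D13391 (iv D12402) (iv F48834)
theorem F52794 : act 8 n13391 = n12413 := d35_2 D12401 D13391 (iv D12413) (iv D11381) (iv F44727)
def n13392 : Q := act 7 n12403
theorem D13392 : act 7 n12403 = n13392 := rfl
theorem F52795 : act 2 n13392 = n12737 := d19_1 D13392 (iv D12737) (iv F48837)
theorem F52796 : act 5 n13392 = n12413 := d31_1 D13392 (iv D12413) (iv F48839)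
theorem F52797 : act 6 n13392 = n12404 := d33_1 D13392 (iv D12404) (iv F48840)
def n13393 : Q := act 8 n12405
theorem D13393 : act 8 n12405 = n13393 := rfl
theorem F52798 : act 0 n13393 = n12408 := d7_1 D13393 (iv D12408) (iv F48843)
theorem F52799 : act 3 n13393 = n12499 := d25_1 D13393 (iv D12499) (iv F48844)
theorem F52800 : act 5 n13393 = n12406 := d32_1 D13393 (iv D12406) D12405
def n13394 : Q := act 7 n12406
theorem D13394 : act 7 n12406 = n13394 := rfl
theorem F52801 : act 0 n13394 = n12409 := d6_1 D13394 (iv D12409) (iv F48845)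
theorem F52802 : act 4 n13394 = n12407 := d28_1 D13394 (iv D12407) (iv F48847)
theorem F52803 : act 6 n13394 = n12666 := d33_1 D13394 (iv D12666) (iv F48848)
def n13395 : Q := act 7 n12408
theorem D13395 : act 7 n12408 = n13395 := rfl
theorem F52804 : act 1 n13395 = n12411 := d13_1 D13395 (iv D12411) (iv F48851)
theorem F52805 : act 5 n13395 = n12409 := d31_1 D13395 (iv D12409) (iv F48853)
def n13396 : Q := act 3 n12409
theorem D13396 : act 3 n12409 = n13396 := rfl
theorem F52806 : act 1 n13396 = n12412 := d9_1 D13396 (iv D12412) (iv F48854)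
theorem F52807 : act 6 n13396 = n12680 := d23_2 (iv F48856) D13396 (iv D12680)
theorem F52808 : act 7 n13396 = n12503 := d24_2 D12409 D13396 (iv D12503) (iv D11472) (iv F44750)
def n13397 : Q := act 7 n12410
theorem D13397 : act 7 n12410 = n13397 := rfl
theorem F52809 : act 2 n13397 = n12413 := d19_1 D13397 (iv D12413) (iv F48857)
theorem F52810 : act 5 n13397 = n12737 := d31_1 D13397 (iv D12737) (iv F48859)
theorem F52811 : act 6 n13397 = n12411 := d33_1 D13397 (iv D12411) (iv F48860)
def n13398 : Q := act 3 n12411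
theorem D13398 : act 3 n12411 = n13398 := rfl
theorem F52812 : act 5 n13398 = n12412 := d22_2 (iv F48862) D13398 (iv D12412)
theorem F52813 : act 7 n13398 = n12505 := d24_2 D12411 D13398 (iv D12505) (iv D11474) (iv F44759)
def n13399 : Q := act 2 n12412
theorem D13399 : act 2 n12412 = n13399 := rfl
theorem F52814 : act 3 n13399 = n12415 := d15_2 D12412 D13399 (iv D12415) (iv D11383) (iv F44761)
theorem F52815 : act 6 n13399 = n12739 := d18_2 (iv F48863) D13399 (iv D12739)
theorem F52816 : act 7 n13399 = n12506 := d19_2 (iv F48864) D13399 (iv D12506)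
def n13400 : Q := act 4 n12417
theorem D13400 : act 4 n12417 = n13400 := rfl
theorem F52817 : act 0 n13400 = n13400 := d3_1 D13400 (iv D13400) F48875
theorem F52818 : act 1 n13400 = n12828 := d10_1 D13400 (iv F51767) F51766
theorem F52819 : act 3 n13400 = n12591 := d21_1 D13400 (iv D12591) (iv D11587) (iv F44787) D12417
theorem F52820 : act 6 n13400 = n12420 := d27_2 (iv F48876) D13400 (iv D12420)
theorem F52821 : act 7 n13400 = n13061 := d28_2 (iv F48877) D13400 (iv D13061)
def n13401 : Q := act 8 n12417
theorem D13401 : act 8 n12417 = n13401 := rfl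
theorem F52822 : act 0 n13401 = n13401 := d7_1 D13401 (iv D13401) F48875
theorem F52823 : act 3 n13401 = n12418 := d25_1 D13401 (iv D12418) D12417
theorem F52824 : act 6 n13401 = n12421 := d34_1 D13401 (iv D12421) (iv F48876)
def n13402 : Q := act 8 n12419
theorem D13402 : act 8 n12419 = n13402 := rfl
theorem F52825 : act 0 n13402 = n13402 := d7_1 D13402 (iv D13402) F48883
theorem F52826 : act 2 n13402 = n12421 := d20_1 D13402 (iv D12421) D12419
theorem F52827 : act 3 n13402 = n12422 := d25_1 D13402 (iv D12422) (iv F48884)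
theorem F52828 : act 5 n13402 = n12425 := d32_1 D13402 (iv D12425) (iv F48885)
def n13403 : Q := act 8 n12420
theorem D13403 : act 8 n12420 = n13403 := rfl
theorem F52829 : act 0 n13403 = n13403 := d7_1 D13403 (iv D13403) F48887
theorem F52830 : act 3 n13403 = n12594 := d25_1 D13403 (iv D12594) (iv F48888)
theorem F52831 : act 4 n13403 = n12421 := d29_1 D13403 (iv D12421) D12420
def n13404 : Q := act 7 n12421
theorem D13404 : act 7 n12421 = n13404 := rfl
theorem F52832 : act 0 n13404 = n13404 := d6_1 D13404 (iv D13404) F48890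
theorem F52833 : act 3 n13404 = n12431 := d24_1 D13404 (iv D12431) F44835 (iv F44796) (iv F48891)
theorem F52834 : act 5 n13404 = n12747 := d31_1 D13404 (iv D12747) (iv F48892)
theorem F52835 : act 8 n13404 = n13068 := d35_2 D12421 D13404 (iv D13068) (iv D12054) (iv F44791)
def n13405 : Q := act 8 n12424
theorem D13405 : act 8 n12424 = n13405 := rfl
theorem F52836 : act 0 n13405 = n13405 := d7_1 D13405 (iv D13405) F48901
theorem F52837 : act 2 n13405 = n12746 := d20_1 D13405 (iv D12746) (iv F48902)
theorem F52838 : act 3 n13405 = n12596 := d25_1 D13405 (iv D12596) (iv F48903)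
theorem F52839 : act 4 n13405 = n12425 := d29_1 D13405 (iv D12425) D12424
theorem F52840 : act 6 n13405 = n12430 := d34_1 D13405 (iv D12430) (iv F48904)
def n13406 : Q := act 7 n12425
theorem D13406 : act 7 n12425 = n13406 := rfl
theorem F52841 : act 0 n13406 = n13406 := d6_1 D13406 (iv D13406) F48905
theorem F52842 : act 2 n13406 = n12747 := d19_1 D13406 (iv D12747) (iv F48906)
theorem F52843 : act 6 n13406 = n12431 := d33_1 D13406 (iv D12431) (iv F48908)
def n13407 : Q := act 0 n12426
theorem D13407 : act 0 n12426 = n13407 := rfl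
theorem F52844 : act 1 n13407 = n13407 := d0_2 D12426 D13407 (iv D13407) (iv D12426) F44828
theorem F52845 : act 3 n13407 = n12432 := d2_2 (iv F48909) D13407 (iv D12432)
theorem F52846 : act 6 n13407 = n12629 := d5_2 (iv F48910) D13407 F49768
theorem F52847 : act 7 n13407 = n13128 := d6_2 (iv F48911) D13407 F51881
def n13408 : Q := act 4 n12426
theorem D13408 : act 4 n12426 = n13408 := rfl
theorem F52848 : act 1 n13408 = n12427 := d10_1 D13408 (iv D12427) D12426
theorem F52849 : act 3 n13408 = n13408 := d21_1 D13408 (iv D13408) F48909 F44837 (iv F48909)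
theorem F52850 : act 6 n13408 = n12686 := d27_2 (iv F48910) D13408 (iv D12686)
theorem F52851 : act 7 n13408 = n13287 := d28_2 (iv F48911) D13408 (iv D13287)
def n13409 : Q := act 8 n12426
theorem D13409 : act 8 n12426 = n13409 := rfl
theorem F52852 : act 1 n13409 = n12428 := d14_1 D13409 (iv D12428) D12426
theorem F52853 : act 3 n13409 = n12433 := d25_1 D13409 (iv D12433) (iv F48909)
theorem F52854 : act 6 n13409 = n12687 := d34_1 D13409 (iv D12687) (iv F48910)
def n13410 : Q := act 5 n12427
theorem D13410 : act 5 n12427 = n13410 := rfl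
theorem F52855 : act 0 n13410 = n13410 := d4_1 D13410 (iv D13410) F48912
theorem F52856 : act 2 n13410 = n12429 := d17_1 D13410 (iv D12429) (iv F48913)
theorem F52857 : act 3 n13410 = n13410 := d22_1 D13410 (iv D13410) F48914
theorem F52858 : act 4 n13410 = n12619 := d26_1 D13410 F51568 (iv D13064) F47470 D12427
theorem F52859 : act 7 n13410 = n12623 := d31_2 (iv F48916) D13410 F49740
def n13411 : Q := act 8 n12427
theorem D13411 : act 8 n12427 = n13411 := rfl
theorem F52860 : act 0 n13411 = n13411 := d7_1 D13411 (iv D13411) F48912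
theorem F52861 : act 2 n13411 = n12430 := d20_1 D13411 (iv D12430) (iv F48913)
theorem F52862 : act 3 n13411 = n13411 := d25_1 D13411 (iv D13411) F48914
theorem F52863 : act 4 n13411 = n12428 := d29_1 D13411 (iv D12428) D12427
theorem F52864 : act 6 n13411 = n12746 := d34_1 D13411 (iv D12746) (iv F48915)
def n13412 : Q := act 7 n12428
theorem D13412 : act 7 n12428 = n13412 := rfl
theorem F52865 : act 0 n13412 = n13412 := d6_1 D13412 (iv D13412) F48917
theorem F52866 : act 2 n13412 = n12431 := d19_1 D13412 (iv D12431) (iv F48918)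
theorem F52867 : act 6 n13412 = n12747 := d33_1 D13412 (iv D12747) (iv F48920)
theorem F52868 : act 8 n13412 = n13406 := d35_2 D12428 D13412 (iv D13406) (iv D12425) (iv F44831)
def n13413 : Q := act 6 n12429
theorem D13413 : act 6 n12429 = n13413 := rfl
theorem F52869 : act 0 n13413 = n13413 := d5_1 D13413 (iv D13413) F48921
theorem F52870 : act 3 n13413 = n12598 := d23_1 D13413 (iv D12598) (iv F48922)
def n13414 : Q := act 8 n12429
theorem D13414 : act 8 n12429 = n13414 := rfl
theorem F52871 : act 0 n13414 = n13414 := d7_1 D13414 (iv D13414) F48921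
theorem F52872 : act 3 n13414 = n12599 := d25_1 D13414 (iv D12599) (iv F48922)
theorem F52873 : act 5 n13414 = n12430 := d32_1 D13414 (iv D12430) D12429
def n13415 : Q := act 7 n12430
theorem D13415 : act 7 n12430 = n13415 := rfl
theorem F52874 : act 0 n13415 = n13415 := d6_1 D13415 (iv D13415) F48923
theorem F52875 : act 4 n13415 = n12431 := d28_1 D13415 (iv D12431) (iv F48925)
def n13416 : Q := act 8 n12432
theorem D13416 : act 8 n12432 = n13416 := rfl
theorem F52876 : act 0 n13416 = n12433 := d7_1 D13416 (iv D12433) D12432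
theorem F52877 : act 1 n13416 = n13416 := d14_1 D13416 (iv D13416) F48927
theorem F52878 : act 2 n13416 = n12434 := d20_1 D13416 (iv D12434) (iv F48928)
theorem F52879 : act 4 n13416 = n13416 := d29_1 D13416 (iv D13416) F48929
theorem F52880 : act 6 n13416 = n12630 := d34_1 D13416 (iv D12630) (iv F48930)
def n13417 : Q := act 3 n12435
theorem D13417 : act 3 n12435 = n13417 := rfl
theorem F52881 : act 0 n13417 = n12437 := d2_1 D13417 (iv D12437) (iv F48940)
theorem F52882 : act 1 n13417 = n13417 := d9_1 D13417 (iv D13417) F48941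
theorem F52883 : act 4 n13417 = n13162 := d21_2 D12435 D13417 (iv D13162) (iv D12162) (iv F44862)
theorem F52884 : act 6 n13417 = n12640 := d23_2 (iv F48943) D13417 (iv D12640)
def n13418 : Q := act 5 n12435
theorem D13418 : act 5 n12435 = n13418 := rfl
theorem F52885 : act 0 n13418 = n12438 := d4_1 D13418 (iv D12438) (iv F48940)
theorem F52886 : act 1 n13418 = n13418 := d11_1 D13418 (iv D13418) F48941
theorem F52887 : act 2 n13418 = n12482 := d17_1 D13418 (iv D12482) (iv F48942)
theorem F52888 : act 4 n13418 = n13418 := d26_1 D13418 (iv D13418) (iv D12435) F44863 D12435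
theorem F52889 : act 7 n13418 = n13418 := d31_2 F48944 D13418 (iv D13418)
def n13419 : Q := act 8 n12435
theorem D13419 : act 8 n12435 = n13419 := rfl
theorem F52890 : act 0 n13419 = n12439 := d7_1 D13419 (iv D12439) (iv F48940)
theorem F52891 : act 1 n13419 = n13419 := d14_1 D13419 (iv D13419) F48941
theorem F52892 : act 2 n13419 = n12483 := d20_1 D13419 (iv D12483) (iv F48942)
theorem F52893 : act 4 n13419 = n12436 := d29_1 D13419 (iv D12436) D12435
theorem F52894 : act 6 n13419 = n12642 := d34_1 D13419 (iv D12642) (iv F48943)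
def n13420 : Q := act 7 n12436
theorem D13420 : act 7 n12436 = n13420 := rfl
theorem F52895 : act 0 n13420 = n12440 := d6_1 D13420 (iv D12440) (iv F48945)
theorem F52896 : act 1 n13420 = n13420 := d13_1 D13420 (iv D13420) F48946
theorem F52897 : act 2 n13420 = n12484 := d19_1 D13420 (iv D12484) (iv F48947)
theorem F52898 : act 5 n13420 = n13420 := d31_1 D13420 (iv D13420) F48949
theorem F52899 : act 6 n13420 = n12643 := d33_1 D13420 (iv D12643) (iv F48950)
theorem F52900 : act 8 n13420 = n13420 := d35_2 D12436 D13420 (iv D13420) (iv D12436) F44865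
def n13421 : Q := act 5 n12437
theorem D13421 : act 5 n12437 = n13421 := rfl
theorem F52901 : act 1 n13421 = n12441 := d11_1 D13421 (iv D12441) (iv F48951)
theorem F52902 : act 3 n13421 = n12438 := d22_1 D13421 (iv D12438) D12437
def n13422 : Q := act 7 n12437
theorem D13422 : act 7 n12437 = n13422 := rfl
theorem F52903 : act 1 n13422 = n12442 := d13_1 D13422 (iv D12442) (iv F48951)
theorem F52904 : act 3 n13422 = n13422 := d24_1 D13422 (iv D13422) (iv D12437) F44869 D12437
theorem F52905 : act 4 n13422 = n13333 := d28_1 D13422 (iv D13333) (iv F48952)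
theorem F52906 : act 6 n13422 = n12701 := d33_1 D13422 (iv D12701) (iv F48953)
def n13423 : Q := act 8 n12437
theorem D13423 : act 8 n12437 = n13423 := rfl
theorem F52907 : act 1 n13423 = n12443 := d14_1 D13423 (iv D12443) (iv F48951)
theorem F52908 : act 3 n13423 = n12439 := d25_1 D13423 (iv D12439) D12437
theorem F52909 : act 4 n13423 = n13334 := d29_1 D13423 (iv D13334) (iv F48952)
theorem F52910 : act 6 n13423 = n12702 := d34_1 D13423 (iv D12702) (iv F48953)
def n13424 : Q := act 6 n12438
theorem D13424 : act 6 n12438 = n13424 := rfl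
theorem F52911 : act 1 n13424 = n12444 := d12_1 D13424 (iv D12444) (iv F48954)
theorem F52912 : act 2 n13424 = n12485 := d18_1 D13424 (iv D12485) (iv F48955)
theorem F52913 : act 4 n13424 = n13424 := d27_1 D13424 (iv D13424) F48956
theorem F52914 : act 5 n13424 = n12703 := d30_1 D13424 (iv D12703) (iv D11698) (iv F44868) D12438
theorem F52915 : act 7 n13424 = n13424 := d33_2 F48957 D13424 (iv D13424)
def n13425 : Q := act 8 n12438
theorem D13425 : act 8 n12438 = n13425 := rfl
theorem F52916 : act 1 n13425 = n12445 := d14_1 D13425 (iv D12445) (iv F48954)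
theorem F52917 : act 2 n13425 = n12486 := d20_1 D13425 (iv D12486) (iv F48955)
theorem F52918 : act 4 n13425 = n13425 := d29_1 D13425 (iv D13425) F48956
theorem F52919 : act 5 n13425 = n12439 := d32_1 D13425 (iv D12439) D12438
def n13426 : Q := act 7 n12439
theorem D13426 : act 7 n12439 = n13426 := rfl
theorem F52920 : act 1 n13426 = n12446 := d13_1 D13426 (iv D12446) (iv F48958)
theorem F52921 : act 2 n13426 = n12487 := d19_1 D13426 (iv D12487) (iv F48959)
theorem F52922 : act 4 n13426 = n12440 := d28_1 D13426 (iv D12440) (iv F48960)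
theorem F52923 : act 6 n13426 = n12705 := d33_1 D13426 (iv D12705) (iv F48961)
theorem F52924 : act 8 n13426 = n13426 := d35_2 D12439 D13426 (iv D13426) (iv D12439) F44869
def n13427 : Q := act 3 n12440
theorem D13427 : act 3 n12440 = n13427 := rfl
theorem F52925 : act 1 n13427 = n12447 := d9_1 D13427 (iv D12447) (iv F48962)
theorem F52926 : act 5 n13427 = n13427 := d22_2 F48964 D13427 (iv D13427)
theorem F52927 : act 6 n13427 = n12706 := d23_2 (iv F48965) D13427 (iv D12706)
theorem F52928 : act 7 n13427 = n13338 := d24_2 D12440 D13427 (iv D13338) (iv D12337) (iv F44872)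
theorem F52929 : act 8 n13427 = n13427 := d25_2 F48966 D13427 (iv D13427)
def n13428 : Q := act 4 n12441
theorem D13428 : act 4 n12441 = n13428 := rfl
theorem F52930 : act 0 n13428 = n13428 := d3_1 D13428 (iv D13428) F48967
theorem F52931 : act 2 n13428 = n12461 := d16_1 D13428 (iv D12461) (iv F48968)
theorem F52932 : act 3 n13428 = n13428 := d21_1 D13428 (iv D13428) F48969 F44880 (iv F48969)
def n13429 : Q := act 6 n12441
theorem D13429 : act 6 n12441 = n13429 := rfl
theorem F52933 : act 0 n13429 = n13429 := d5_1 D13429 (iv D13429) F48967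
theorem F52934 : act 2 n13429 = n12462 := d18_1 D13429 (iv D12462) (iv F48968)
theorem F52935 : act 3 n13429 = n12444 := d23_1 D13429 (iv D12444) (iv F48969)
theorem F52936 : act 5 n13429 = n12749 := d30_1 D13429 (iv D12749) (iv D11740) (iv F44877) D12441
theorem F52937 : act 7 n13428 = n13429 := d19_0 F52934 (iv F49068) (iv F52931)
def n13430 : Q := act 7 n12441
theorem D13430 : act 7 n12441 = n13430 := rfl
theorem F52938 : act 0 n13430 = n13430 := d6_1 D13430 (iv D13430) F48967
theorem F52939 : act 2 n13430 = n12463 := d19_1 D13430 (iv D12463) (iv F48968)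
theorem F52940 : act 3 n13430 = n13430 := d24_1 D13430 (iv D13430) F48969 F44881 (iv F48969)
theorem F52941 : act 4 n13430 = n13429 := d28_1 D13430 (iv F52937) (iv D13428)
theorem F52942 : act 5 n13430 = n12442 := d31_1 D13430 (iv D12442) D12441
theorem F52943 : act 6 n13430 = n13428 := d33_1 D13430 F52937 (iv D13429)
def n13431 : Q := act 8 n12441
theorem D13431 : act 8 n12441 = n13431 := rfl
theorem F52944 : act 0 n13431 = n13431 := d7_1 D13431 (iv D13431) F48967
theorem F52945 : act 2 n13431 = n12464 := d20_1 D13431 (iv D12464) (iv F48968)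
theorem F52946 : act 3 n13431 = n12445 := d25_1 D13431 (iv D12445) (iv F48969)
theorem F52947 : act 5 n13431 = n12443 := d32_1 D13431 (iv D12443) D12441
def n13432 : Q := act 8 n12442
theorem D13432 : act 8 n12442 = n13432 := rfl
theorem F52948 : act 0 n13432 = n13432 := d7_1 D13432 (iv D13432) F48970
theorem F52949 : act 2 n13432 = n12465 := d20_1 D13432 (iv D12465) (iv F48971)
theorem F52950 : act 3 n13432 = n13432 := d25_1 D13432 (iv D13432) F48972
theorem F52951 : act 6 n13432 = n12752 := d34_1 D13432 (iv D12752) (iv F48973)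
def n13433 : Q := act 7 n12443
theorem D13433 : act 7 n12443 = n13433 := rfl
theorem F52952 : act 0 n13433 = n13433 := d6_1 D13433 (iv D13433) F48974
theorem F52953 : act 2 n13433 = n12466 := d19_1 D13433 (iv D12466) (iv F48975)
theorem F52954 : act 6 n13433 = n12753 := d33_1 D13433 (iv D12753) (iv F48977)
def n13434 : Q := act 8 n12444
theorem D13434 : act 8 n12444 = n13434 := rfl
theorem F52955 : act 0 n13434 = n13434 := d7_1 D13434 (iv D13434) F48978
theorem F52956 : act 2 n13434 = n12448 := d20_1 D13434 (iv D12448) (iv F48979)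
theorem F52957 : act 4 n13434 = n13434 := d29_1 D13434 (iv D13434) F48980
theorem F52958 : act 5 n13434 = n12754 := d32_1 D13434 (iv D12754) (iv F48981)
theorem F52959 : act 6 n13434 = n12445 := d34_1 D13434 (iv D12445) D12444
def n13435 : Q := act 7 n12445
theorem D13435 : act 7 n12445 = n13435 := rfl
theorem F52960 : act 0 n13435 = n13435 := d6_1 D13435 (iv D13435) F48983
theorem F52961 : act 2 n13435 = n12449 := d19_1 D13435 (iv D12449) (iv F48984)
theorem F52962 : act 4 n13435 = n13435 := d28_1 D13435 (iv D13435) F48985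
theorem F52963 : act 5 n13435 = n12446 := d31_1 D13435 (iv D12446) (iv F48986)
theorem F52964 : act 8 n13435 = n13435 := d35_2 D12445 D13435 (iv D13435) (iv D12445) F44881
def n13436 : Q := act 3 n12446
theorem D13436 : act 3 n12446 = n13436 := rfl
theorem F52965 : act 0 n13436 = n13436 := d2_1 D13436 (iv D13436) F48987
theorem F52966 : act 6 n13436 = n12756 := d23_2 (iv F48990) D13436 (iv D12756)
theorem F52967 : act 8 n13436 = n13436 := d25_2 F48991 D13436 (iv D13436)
def n13437 : Q := act 4 n12447
theorem D13437 : act 4 n12447 = n13437 := rfl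
theorem F52968 : act 0 n13437 = n13437 := d3_1 D13437 (iv D13437) F48992
theorem F52969 : act 2 n13437 = n13437 := d16_1 D13437 (iv D13437) F48993
theorem F52970 : act 6 n13437 = n12757 := d27_2 (iv F48995) D13437 (iv D12757)
theorem F52971 : act 8 n13437 = n13437 := d29_2 F48996 D13437 (iv D13437)
def n13438 : Q := act 7 n12448
theorem D13438 : act 7 n12448 = n13438 := rfl
theorem F52972 : act 0 n13438 = n13438 := d6_1 D13438 (iv D13438) F48997
theorem F52973 : act 1 n13438 = n12491 := d13_1 D13438 (iv D12491) (iv F48998)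
theorem F52974 : act 4 n13438 = n13438 := d28_1 D13438 (iv D13438) F49000
theorem F52975 : act 5 n13438 = n12758 := d31_1 D13438 (iv D12758) (iv F49001)
theorem F52976 : act 6 n13438 = n12449 := d33_1 D13438 (iv D12449) (iv F49002)
theorem F52977 : act 8 n13438 = n13438 := d35_2 D12448 D13438 (iv D13438) (iv D12448) F44896
def n13439 : Q := act 3 n12449
theorem D13439 : act 3 n12449 = n13439 := rfl
theorem F52978 : act 0 n13439 = n13439 := d2_1 D13439 (iv D13439) F49003
theorem F52979 : act 1 n13439 = n12492 := d9_1 D13439 (iv D12492) (iv F49004)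
theorem F52980 : act 5 n13439 = n12450 := d22_2 (iv F49006) D13439 (iv D12450)
theorem F52981 : act 7 n13439 = n12472 := d24_2 D12449 D13439 (iv D12472) (iv D11434) (iv F44899)
theorem F52982 : act 8 n13439 = n13439 := d25_2 F49007 D13439 (iv D13439)
def n13440 : Q := act 2 n12450
theorem D13440 : act 2 n12450 = n13440 := rfl
theorem F52983 : act 0 n13440 = n13440 := d1_1 D13440 (iv D13440) F49008
theorem F52984 : act 4 n13440 = n13440 := d16_2 F49010 D13440 (iv D13440)
theorem F52985 : act 6 n13440 = n12760 := d18_2 (iv F49011) D13440 (iv D12760)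
theorem F52986 : act 7 n13440 = n12473 := d19_2 (iv F49012) D13440 (iv D12473)
theorem F52987 : act 8 n13440 = n13440 := d20_2 F49013 D13440 (iv D13440)
def n13441 : Q := act 4 n12451
theorem D13441 : act 4 n12451 = n13441 := rfl
theorem F52988 : act 0 n13441 = n13441 := d3_1 D13441 (iv D13441) F49014
theorem F52989 : act 2 n13441 = n12748 := d16_1 D13441 (iv D12748) (iv F49015)
theorem F52990 : act 3 n13441 = n13441 := d21_1 D13441 (iv D13441) F49016 F44913 (iv F49016)
theorem F52991 : act 5 n13441 = n13428 := d26_2 D12451 D13441 (iv D13428) (iv D12441) (iv F44909)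
theorem F52992 : act 6 n12750 = n13441 := d30_0 F52991 (iv F52943) F52942 F48973 (iv F50170)
theorem F52993 : act 7 n12749 = n13441 := d31_0 F52991 F52937 F52936
def n13442 : Q := act 6 n12451
theorem D13442 : act 6 n12451 = n13442 := rfl
theorem F52994 : act 0 n13442 = n13442 := d5_1 D13442 (iv D13442) F49014
theorem F52995 : act 2 n13442 = n12749 := d18_1 D13442 (iv D12749) (iv F49015)
theorem F52996 : act 3 n13442 = n12454 := d23_1 D13442 (iv D12454) (iv F49016)
theorem F52997 : act 4 n13442 = n12750 := d27_1 D13442 F52992 (iv D13441)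
theorem F52998 : act 5 n13442 = n12462 := d30_1 D13442 (iv D12462) (iv D11426) (iv F44910) D12451
theorem F52999 : act 7 n12748 = n13442 := d31_0 F52998 (iv F49068) (iv F50165)
def n13443 : Q := act 7 n12451
theorem D13443 : act 7 n12451 = n13443 := rfl
theorem F53000 : act 0 n13443 = n13443 := d6_1 D13443 (iv D13443) F49014
theorem F53001 : act 2 n13443 = n12750 := d19_1 D13443 (iv D12750) (iv F49015)
theorem F53002 : act 3 n13443 = n12603 := d24_1 D13443 (iv D12603) F45665 (iv F44914) (iv F49016)
theorem F53003 : act 4 n13443 = n12749 := d28_1 D13443 F52993 (iv D13441)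
theorem F53004 : act 5 n13443 = n12452 := d31_1 D13443 (iv D12452) D12451
theorem F53005 : act 6 n13443 = n12748 := d33_1 D13443 F52999 (iv D13442)
def n13444 : Q := act 8 n12451
theorem D13444 : act 8 n12451 = n13444 := rfl
theorem F53006 : act 0 n13444 = n13444 := d7_1 D13444 (iv D13444) F49014
theorem F53007 : act 2 n13444 = n12751 := d20_1 D13444 (iv D12751) (iv F49015)
theorem F53008 : act 3 n13444 = n12455 := d25_1 D13444 (iv D12455) (iv F49016)
theorem F53009 : act 5 n13444 = n12453 := d32_1 D13444 (iv D12453) D12451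
def n13445 : Q := act 8 n12452
theorem D13445 : act 8 n12452 = n13445 := rfl
theorem F53010 : act 0 n13445 = n13445 := d7_1 D13445 (iv D13445) F49017
theorem F53011 : act 2 n13445 = n12752 := d20_1 D13445 (iv D12752) (iv F49018)
theorem F53012 : act 3 n13445 = n12605 := d25_1 D13445 (iv D12605) (iv F49019)
theorem F53013 : act 4 n13445 = n13432 := d29_1 D13445 (iv D13432) (iv F49020)
theorem F53014 : act 6 n13445 = n12465 := d34_1 D13445 (iv D12465) (iv F49021)
def n13446 : Q := act 7 n12453
theorem D13446 : act 7 n12453 = n13446 := rfl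
theorem F53015 : act 0 n13446 = n13446 := d6_1 D13446 (iv D13446) F49022
theorem F53016 : act 2 n13446 = n12753 := d19_1 D13446 (iv D12753) (iv F49023)
theorem F53017 : act 4 n13446 = n13433 := d28_1 D13446 (iv D13433) (iv F49025)
theorem F53018 : act 6 n13446 = n12466 := d33_1 D13446 (iv D12466) (iv F49026)
def n13447 : Q := act 8 n12454
theorem D13447 : act 8 n12454 = n13447 := rfl
theorem F53019 : act 0 n13447 = n13447 := d7_1 D13447 (iv D13447) F49027
theorem F53020 : act 2 n13447 = n12458 := d20_1 D13447 (iv D12458) (iv F49028)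
theorem F53021 : act 4 n13447 = n13447 := d29_1 D13447 (iv D13447) F49029
theorem F53022 : act 5 n13447 = n12467 := d32_1 D13447 (iv D12467) (iv F49030)
theorem F53023 : act 6 n13447 = n12455 := d34_1 D13447 (iv D12455) D12454
def n13448 : Q := act 7 n12455
theorem D13448 : act 7 n12455 = n13448 := rfl
theorem F53024 : act 0 n13448 = n13448 := d6_1 D13448 (iv D13448) F49032
theorem F53025 : act 2 n13448 = n12459 := d19_1 D13448 (iv D12459) (iv F49033)
theorem F53026 : act 4 n13448 = n13448 := d28_1 D13448 (iv D13448) F49034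
theorem F53027 : act 5 n13448 = n12456 := d31_1 D13448 (iv D12456) (iv F49035)
theorem F53028 : act 8 n13448 = n12608 := d35_2 D12455 D13448 (iv D12608) (iv D11606) (iv F44914)
def n13449 : Q := act 3 n12456
theorem D13449 : act 3 n12456 = n13449 := rfl
theorem F53029 : act 0 n13449 = n13449 := d2_1 D13449 (iv D13449) F49036
theorem F53030 : act 6 n13449 = n12469 := d23_2 (iv F49039) D13449 (iv D12469)
theorem F53031 : act 8 n13449 = n12609 := d25_2 (iv F49040) D13449 (iv D12609)
def n13450 : Q := act 4 n12457
theorem D13450 : act 4 n12457 = n13450 := rfl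
theorem F53032 : act 0 n13450 = n13450 := d3_1 D13450 (iv D13450) F49041
theorem F53033 : act 2 n13450 = n13450 := d16_1 D13450 (iv D13450) F49042
theorem F53034 : act 6 n13450 = n12470 := d27_2 (iv F49044) D13450 (iv D12470)
theorem F53035 : act 7 n13450 = n13437 := d28_2 (iv F49045) D13450 (iv D13437)
theorem F53036 : act 8 n13450 = n12610 := d29_2 (iv F49046) D13450 (iv D12610)
def n13451 : Q := act 7 n12458
theorem D13451 : act 7 n12458 = n13451 := rfl
theorem F53037 : act 0 n13451 = n13451 := d6_1 D13451 (iv D13451) F49047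
theorem F53038 : act 1 n13451 = n12494 := d13_1 D13451 (iv D12494) (iv F49048)
theorem F53039 : act 4 n13451 = n13451 := d28_1 D13451 (iv D13451) F49050
theorem F53040 : act 5 n13451 = n12471 := d31_1 D13451 (iv D12471) (iv F49051)
theorem F53041 : act 6 n13451 = n12459 := d33_1 D13451 (iv D12459) (iv F49052)
theorem F53042 : act 8 n13451 = n12611 := d35_2 D12458 D13451 (iv D12611) (iv D11609) (iv F44929)
def n13452 : Q := act 3 n12459
theorem D13452 : act 3 n12459 = n13452 := rfl
theorem F53043 : act 0 n13452 = n13452 := d2_1 D13452 (iv D13452) F49053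
theorem F53044 : act 1 n13452 = n12495 := d9_1 D13452 (iv D12495) (iv F49054)
theorem F53045 : act 5 n13452 = n12460 := d22_2 (iv F49056) D13452 (iv D12460)
theorem F53046 : act 7 n13452 = n12759 := d24_2 D12459 D13452 (iv D12759) (iv D11748) (iv F44932)
theorem F53047 : act 8 n13452 = n12612 := d25_2 (iv F49057) D13452 (iv D12612)
def n13453 : Q := act 2 n12460
theorem D13453 : act 2 n12460 = n13453 := rfl
theorem F53048 : act 0 n13453 = n13453 := d1_1 D13453 (iv D13453) F49058
theorem F53049 : act 4 n13453 = n13453 := d16_2 F49060 D13453 (iv D13453)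
theorem F53050 : act 6 n13453 = n12473 := d18_2 (iv F49061) D13453 (iv D12473)
theorem F53051 : act 7 n13453 = n12760 := d19_2 (iv F49062) D13453 (iv D12760)
theorem F53052 : act 8 n13453 = n12613 := d20_2 (iv F49063) D13453 (iv D12613)
def n13454 : Q := act 8 n12461
theorem D13454 : act 8 n12461 = n13454 := rfl
theorem F53053 : act 0 n13454 = n13454 := d7_1 D13454 (iv D13454) F49064
theorem F53054 : act 3 n13454 = n12474 := d25_1 D13454 (iv D12474) (iv F49065)
theorem F53055 : act 4 n13454 = n12464 := d29_1 D13454 (iv D12464) D12461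
def n13455 : Q := act 8 n12462
theorem D13455 : act 8 n12462 = n13455 := rfl
theorem F53056 : act 0 n13455 = n13455 := d7_1 D13455 (iv D13455) F49066
theorem F53057 : act 3 n13455 = n12467 := d25_1 D13455 (iv D12467) (iv F49067)
theorem F53058 : act 6 n13455 = n12464 := d34_1 D13455 (iv D12464) D12462
def n13456 : Q := act 8 n12463
theorem D13456 : act 8 n12463 = n13456 := rfl
theorem F53059 : act 0 n13456 = n13456 := d7_1 D13456 (iv D13456) F49069
theorem F53060 : act 3 n13456 = n12616 := d25_1 D13456 (iv D12616) (iv F49070)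
theorem F53061 : act 4 n13456 = n13455 := d29_1 D13456 (iv D13455) (iv F49071)
theorem F53062 : act 5 n13456 = n12465 := d32_1 D13456 (iv D12465) (iv F49072)
theorem F53063 : act 6 n13456 = n13454 := d34_1 D13456 (iv D13454) (iv F49073)
def n13457 : Q := act 7 n12464
theorem D13457 : act 7 n12464 = n13457 := rfl
theorem F53064 : act 0 n13457 = n13457 := d6_1 D13457 (iv D13457) F49074
theorem F53065 : act 5 n13457 = n12466 := d31_1 D13457 (iv D12466) (iv F49076)
def n13458 : Q := act 7 n12465
theorem D13458 : act 7 n12465 = n13458 := rfl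
theorem F53066 : act 0 n13458 = n13458 := d6_1 D13458 (iv D13458) F49077
theorem F53067 : act 8 n13458 = n12466 := d35_2 D12465 D13458 (iv D12466) (iv D11428) D11427
def n13459 : Q := act 3 n12466
theorem D13459 : act 3 n12466 = n13459 := rfl
theorem F53068 : act 0 n13459 = n13459 := d2_1 D13459 (iv D13459) F49079
theorem F53069 : act 7 n13459 = n12469 := d24_2 D12466 D13459 (iv D12469) (iv D11431) (iv F44945)
def n13460 : Q := act 7 n12467
theorem D13460 : act 7 n12467 = n13460 := rfl
theorem F53070 : act 0 n13460 = n13460 := d6_1 D13460 (iv D13460) F49080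
theorem F53071 : act 2 n13460 = n12471 := d19_1 D13460 (iv D12471) (iv F49081)
theorem F53072 : act 4 n13460 = n12480 := d28_1 D13460 (iv D12480) (iv F49082)
theorem F53073 : act 6 n13460 = n12468 := d33_1 D13460 (iv D12468) (iv F49083)
theorem F53074 : act 8 n13460 = n12620 := d35_2 D12467 D13460 (iv D12620) (iv D11618) (iv F44949)
def n13461 : Q := act 3 n12468
theorem D13461 : act 3 n12468 = n13461 := rfl
theorem F53075 : act 0 n13461 = n13461 := d2_1 D13461 (iv D13461) F49084
theorem F53076 : act 2 n13461 = n13403 := d15_1 D13461 F52830 F49615 (iv D12472) (iv F49085)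
theorem F53077 : act 4 n13461 = n13402 := d21_2 (iv F49086) D13461 F52827 F49143 (iv D12481)
theorem F53078 : act 5 n13461 = n12469 := d22_2 (iv F49087) D13461 (iv D12469)
theorem F53079 : act 8 n13461 = n12621 := d25_2 (iv F49088) D13461 (iv D12621)
def n13462 : Q := act 2 n12469
theorem D13462 : act 2 n12469 = n13462 := rfl
theorem F53080 : act 0 n13462 = n13462 := d1_1 D13462 (iv D13462) F49089
theorem F53081 : act 3 n13462 = n12473 := d15_2 D12469 D13462 (iv D12473) (iv D11435) (iv F44955)
theorem F53082 : act 5 n13462 = n13403 := d17_2 F53078 D13462 (iv F53076)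
theorem F53083 : act 8 n13462 = n12622 := d20_2 (iv F49090) D13462 (iv D12622)
def n13463 : Q := act 4 n12469
theorem D13463 : act 4 n12469 = n13463 := rfl
theorem F53084 : act 0 n13463 = n13463 := d3_1 D13463 (iv D13463) F49089
theorem F53085 : act 3 n13463 = n12470 := d21_1 D13463 (iv D12470) (iv D11432) (iv F44956) D12469
theorem F53086 : act 5 n13463 = n13405 := d26_2 F53078 D13463 F52839 (iv F52828) (iv F53077)
theorem F53087 : act 8 n13463 = n12623 := d29_2 (iv F49090) D13463 (iv D12623)
def n13464 : Q := act 1 n12473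
theorem D13464 : act 1 n12473 = n13464 := rfl
theorem F53088 : act 2 n13464 = n12497 := d8_2 D12473 D13464 (iv D12497) (iv D11465) (iv F44972)
theorem F53089 : act 4 n13464 = n13464 := d10_2 F49104 D13464 (iv D13464)
theorem F53090 : act 8 n13464 = n12624 := d14_2 (iv F49105) D13464 (iv D12624)
def n13465 : Q := act 7 n12474
theorem D13465 : act 7 n12474 = n13465 := rfl
theorem F53091 : act 0 n13465 = n13465 := d6_1 D13465 (iv D13465) F49106
theorem F53092 : act 2 n13465 = n13465 := d19_1 D13465 (iv D13465) F49107
theorem F53093 : act 4 n13465 = n12477 := d28_1 D13465 (iv D12477) (iv F49108)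
def n13466 : Q := act 7 n12475
theorem D13466 : act 7 n12475 = n13466 := rfl
theorem F53094 : act 0 n13466 = n13466 := d6_1 D13466 (iv D13466) F49109
theorem F53095 : act 2 n13466 = n13466 := d19_1 D13466 (iv D13466) F49110
theorem F53096 : act 5 n13466 = n13466 := d31_1 D13466 (iv D13466) F49112
theorem F53097 : act 6 n13466 = n12477 := d33_1 D13466 (iv D12477) (iv F49113)
theorem F53098 : act 8 n13466 = n13077 := d35_2 D12475 D13466 F51634 (iv D12614) (iv F45712)
theorem F53099 : act 3 n13078 = n13466 := d25_3 F53098 (iv D13077) D13078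
def n13467 : Q := act 7 n12476
theorem D13467 : act 7 n12476 = n13467 := rfl
theorem F53100 : act 0 n13467 = n13467 := d6_1 D13467 (iv D13467) F49114
theorem F53101 : act 1 n13467 = n13103 := d13_1 D13467 F52663 F52660
theorem F53102 : act 2 n13467 = n13467 := d19_1 D13467 (iv D13467) F49115
theorem F53103 : act 3 n13467 = n13071 := d24_1 D13467 F51602 F49758 (iv D12626) (iv F49116)
theorem F53104 : act 5 n13467 = n12478 := d31_1 D13467 (iv D12478) (iv F49117)
theorem F53105 : act 6 n13467 = n13077 := d33_1 D13467 F51634 F49707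
theorem F53106 : act 8 n13467 = n12477 := d35_2 D12476 D13467 (iv D12477) (iv D11439) D11438
def n13468 : Q := act 3 n12477
theorem D13468 : act 3 n12477 = n13468 := rfl
theorem F53107 : act 0 n13468 = n13468 := d2_1 D13468 (iv D13468) F49118
theorem F53108 : act 1 n13468 = n13104 := d9_1 D13468 F52668 F52665
theorem F53109 : act 5 n13468 = n12479 := d22_2 (iv F49120) D13468 (iv D12479)
theorem F53110 : act 6 n13468 = n13078 := d23_2 F53097 D13468 F53099
theorem F53111 : act 7 n13468 = n12481 := d24_2 D12477 D13468 (iv D12481) (iv D11443) (iv F44987)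
theorem F53112 : act 8 n13468 = n13071 := d25_2 F53106 D13468 (iv F53103)
theorem F53113 : act 2 n13073 = n13468 := d20_3 F53112 F51599 D13073
theorem F53114 : act 4 n13072 = n13468 := d29_3 F53112 (iv D13071) D13072
def n13469 : Q := act 3 n12480
theorem D13469 : act 3 n12480 = n13469 := rfl
theorem F53115 : act 0 n13469 = n13469 := d2_1 D13469 (iv D13469) F49134
theorem F53116 : act 2 n13469 = n13069 := d15_1 D13469 F51586 F47597 F46279 (iv F49135)
theorem F53117 : act 5 n13469 = n13469 := d22_2 F49136 D13469 (iv D13469)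
theorem F53118 : act 6 n13469 = n12481 := d23_2 (iv F49137) D13469 (iv D12481)
theorem F53119 : act 7 n13469 = n13078 := d24_2 D12480 D13469 F53099 (iv D13466) F49111
theorem F53120 : act 8 n13469 = n12627 := d25_2 (iv F49138) D13469 (iv D12627)
theorem F53121 : act 4 n13059 = n13469 := d29_3 F53120 (iv F49764) D13059
def n13470 : Q := act 6 n12482
theorem D13470 : act 6 n12482 = n13470 := rfl
theorem F53122 : act 0 n13470 = n12485 := d5_1 D13470 (iv D12485) (iv F49144)
theorem F53123 : act 1 n13470 = n12498 := d12_1 D13470 (iv D12498) (iv F49145)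
theorem F53124 : act 4 n13470 = n13470 := d27_1 D13470 (iv D13470) F49146
theorem F53125 : act 5 n13470 = n12644 := d30_1 D13470 (iv D12644) (iv D11646) (iv F45028) D12482
theorem F53126 : act 7 n13470 = n13470 := d33_2 F49147 D13470 (iv D13470)
def n13471 : Q := act 8 n12482
theorem D13471 : act 8 n12482 = n13471 := rfl
theorem F53127 : act 0 n13471 = n12486 := d7_1 D13471 (iv D12486) (iv F49144)
theorem F53128 : act 1 n13471 = n12499 := d14_1 D13471 (iv D12499) (iv F49145)
theorem F53129 : act 4 n13471 = n13471 := d29_1 D13471 (iv D13471) F49146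
theorem F53130 : act 5 n13471 = n12483 := d32_1 D13471 (iv D12483) D12482
def n13472 : Q := act 7 n12483
theorem D13472 : act 7 n12483 = n13472 := rfl
theorem F53131 : act 0 n13472 = n12487 := d6_1 D13472 (iv D12487) (iv F49148)
theorem F53132 : act 1 n13472 = n12500 := d13_1 D13472 (iv D12500) (iv F49149)
theorem F53133 : act 4 n13472 = n12484 := d28_1 D13472 (iv D12484) (iv F49150)
theorem F53134 : act 6 n13472 = n12646 := d33_1 D13472 (iv D12646) (iv F49151)
theorem F53135 : act 8 n13472 = n13472 := d35_2 D12483 D13472 (iv D13472) (iv D12483) F45029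
def n13473 : Q := act 8 n12485
theorem D13473 : act 8 n12485 = n13473 := rfl
theorem F53136 : act 1 n13473 = n12488 := d14_1 D13473 (iv D12488) (iv F49157)
theorem F53137 : act 4 n13473 = n13473 := d29_1 D13473 (iv D13473) F49158
theorem F53138 : act 5 n13473 = n12707 := d32_1 D13473 (iv D12707) (iv F49159)
theorem F53139 : act 6 n13473 = n12486 := d34_1 D13473 (iv D12486) D12485
def n13474 : Q := act 7 n12486
theorem D13474 : act 7 n12486 = n13474 := rfl
theorem F53140 : act 1 n13474 = n12489 := d13_1 D13474 (iv D12489) (iv F49161)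
theorem F53141 : act 4 n13474 = n13474 := d28_1 D13474 (iv D13474) F49162
theorem F53142 : act 5 n13474 = n12487 := d31_1 D13474 (iv D12487) (iv F49163)
theorem F53143 : act 8 n13474 = n13474 := d35_2 D12486 D13474 (iv D13474) (iv D12486) F45037
def n13475 : Q := act 3 n12487
theorem D13475 : act 3 n12487 = n13475 := rfl
theorem F53144 : act 1 n13475 = n12490 := d9_1 D13475 (iv D12490) (iv F49164)
theorem F53145 : act 6 n13475 = n12709 := d23_2 (iv F49166) D13475 (iv D12709)
theorem F53146 : act 8 n13475 = n13475 := d25_2 F49167 D13475 (iv D13475)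
def n13476 : Q := act 7 n12488
theorem D13476 : act 7 n12488 = n13476 := rfl
theorem F53147 : act 0 n13476 = n12504 := d6_1 D13476 (iv D12504) (iv F49168)
theorem F53148 : act 2 n13476 = n12491 := d19_1 D13476 (iv D12491) (iv F49169)
theorem F53149 : act 4 n13476 = n13476 := d28_1 D13476 (iv D13476) F49170
theorem F53150 : act 5 n13476 = n12728 := d31_1 D13476 (iv D12728) (iv F49171)
theorem F53151 : act 6 n13476 = n12489 := d33_1 D13476 (iv D12489) (iv F49172)
theorem F53152 : act 8 n13476 = n13476 := d35_2 D12488 D13476 (iv D13476) (iv D12488) F45049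
def n13477 : Q := act 3 n12489
theorem D13477 : act 3 n12489 = n13477 := rfl
theorem F53153 : act 0 n13477 = n12505 := d2_1 D13477 (iv D12505) (iv F49173)
theorem F53154 : act 5 n13477 = n12490 := d22_2 (iv F49176) D13477 (iv D12490)
theorem F53155 : act 8 n13477 = n13477 := d25_2 F49177 D13477 (iv D13477)
def n13478 : Q := act 2 n12490
theorem D13478 : act 2 n12490 = n13478 := rfl
theorem F53156 : act 0 n13478 = n12506 := d1_1 D13478 (iv D12506) (iv F49178)
theorem F53157 : act 3 n13478 = n12493 := d15_2 D12490 D13478 (iv D12493) (iv D11459) (iv F45055)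
theorem F53158 : act 6 n13478 = n12730 := d18_2 (iv F49179) D13478 (iv D12730)
theorem F53159 : act 8 n13478 = n13478 := d20_2 F49180 D13478 (iv D13478)
def n13479 : Q := act 1 n12493
theorem D13479 : act 1 n12493 = n13479 := rfl
theorem F53160 : act 4 n13479 = n13479 := d10_2 F49191 D13479 (iv D13479)
theorem F53161 : act 6 n13479 = n12778 := d12_2 (iv F49192) D13479 (iv D12778)
theorem F53162 : act 7 n13479 = n12497 := d13_2 (iv F49193) D13479 (iv D12497)
theorem F53163 : act 8 n13479 = n13479 := d14_2 F49194 D13479 (iv D13479)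
def n13480 : Q := act 1 n12496
theorem D13480 : act 1 n12496 = n13480 := rfl
theorem F53164 : act 4 n13480 = n13480 := d10_2 F49205 D13480 (iv D13480)
theorem F53165 : act 6 n13480 = n12497 := d12_2 (iv F49206) D13480 (iv D12497)
theorem F53166 : act 7 n13480 = n12778 := d13_2 (iv F49207) D13480 (iv D12778)
theorem F53167 : act 8 n13480 = n12628 := d14_2 (iv F49208) D13480 (iv D12628)
def n13481 : Q := act 8 n12498
theorem D13481 : act 8 n12498 = n13481 := rfl
theorem F53168 : act 0 n13481 = n12501 := d7_1 D13481 (iv D12501) (iv F49211)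
theorem F53169 : act 2 n13481 = n13481 := d20_1 D13481 (iv D13481) F49212
theorem F53170 : act 4 n13481 = n13481 := d29_1 D13481 (iv D13481) F49213
theorem F53171 : act 5 n13481 = n12667 := d32_1 D13481 (iv D12667) (iv F49214)
theorem F53172 : act 6 n13481 = n12499 := d34_1 D13481 (iv D12499) D12498
def n13482 : Q := act 7 n12499
theorem D13482 : act 7 n12499 = n13482 := rfl
theorem F53173 : act 0 n13482 = n12502 := d6_1 D13482 (iv D12502) (iv F49216)
theorem F53174 : act 2 n13482 = n13482 := d19_1 D13482 (iv D13482) F49217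
theorem F53175 : act 4 n13482 = n13482 := d28_1 D13482 (iv D13482) F49218
theorem F53176 : act 5 n13482 = n12500 := d31_1 D13482 (iv D12500) (iv F49219)
theorem F53177 : act 8 n13482 = n13482 := d35_2 D12499 D13482 (iv D13482) (iv D12499) F45106
def n13483 : Q := act 3 n12500
theorem D13483 : act 3 n12500 = n13483 := rfl
theorem F53178 : act 0 n13483 = n12503 := d2_1 D13483 (iv D12503) (iv F49220)
theorem F53179 : act 6 n13483 = n12669 := d23_2 (iv F49223) D13483 (iv D12669)
theorem F53180 : act 8 n13483 = n13483 := d25_2 F49224 D13483 (iv D13483)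
def n13484 : Q := act 7 n12501
theorem D13484 : act 7 n12501 = n13484 := rfl
theorem F53181 : act 1 n13484 = n12504 := d13_1 D13484 (iv D12504) (iv F49225)
theorem F53182 : act 2 n13484 = n13484 := d19_1 D13484 (iv D13484) F49226
theorem F53183 : act 4 n13484 = n13484 := d28_1 D13484 (iv D13484) F49227
theorem F53184 : act 5 n13484 = n12681 := d31_1 D13484 (iv D12681) (iv F49228)
theorem F53185 : act 6 n13484 = n12502 := d33_1 D13484 (iv D12502) (iv F49229)
theorem F53186 : act 8 n13484 = n13484 := d35_2 D12501 D13484 (iv D13484) (iv D12501) F45120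
def n13485 : Q := act 3 n12502
theorem D13485 : act 3 n12502 = n13485 := rfl
theorem F53187 : act 1 n13485 = n12505 := d9_1 D13485 (iv D12505) (iv F49230)
theorem F53188 : act 5 n13485 = n12503 := d22_2 (iv F49233) D13485 (iv D12503)
theorem F53189 : act 8 n13485 = n13485 := d25_2 F49234 D13485 (iv D13485)
def n13486 : Q := act 2 n12503
theorem D13486 : act 2 n12503 = n13486 := rfl
theorem F53190 : act 3 n13486 = n13486 := d15_2 D12503 D13486 (iv D13486) (iv D12503) F45126
theorem F53191 : act 4 n13486 = n12505 := d16_2 F50929 D13486 (iv F50928)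
theorem F53192 : act 6 n13486 = n12683 := d18_2 (iv F49236) D13486 (iv D12683)
theorem F53193 : act 8 n13486 = n13486 := d20_2 F49237 D13486 (iv D13486)
def n13487 : Q := act 4 n12507
theorem D13487 : act 4 n12507 = n13487 := rfl
theorem F53194 : act 0 n13487 = n12543 := d3_1 D13487 (iv D12543) (iv F49248)
theorem F53195 : act 1 n13487 = n12625 := d10_1 D13487 (iv F49754) F49752
theorem F53196 : act 2 n13487 = n13487 := d16_1 D13487 (iv D13487) F49249
theorem F53197 : act 3 n13487 = n12920 := d21_1 D13487 (iv D12920) (iv F47520) (iv F47525) (iv F49250)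
theorem F53198 : act 5 n13487 = n13487 := d26_2 D12507 D13487 (iv D13487) (iv D12507) F45173
theorem F53199 : act 6 n13487 = n12585 := d27_2 F51644 D13487 (iv F51642)
theorem F53200 : act 7 n13487 = n12583 := d28_2 (iv F49567) D13487 (iv F49564)
theorem F53201 : act 8 n13487 = n13079 := d29_2 F49572 D13487 F51642
def n13488 : Q := act 4 n12508
theorem D13488 : act 4 n12508 = n13488 := rfl
theorem F53202 : act 0 n13488 = n12551 := d3_1 D13488 (iv D12551) (iv F49251)
theorem F53203 : act 1 n13488 = n13488 := d10_1 D13488 (iv D13488) F49252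
theorem F53204 : act 2 n13488 = n12578 := d16_1 D13488 (iv D12578) (iv F49253)
theorem F53205 : act 6 n13488 = n12510 := d27_2 (iv F49255) D13488 (iv D12510)
theorem F53206 : act 7 n13488 = n13488 := d28_2 F49256 D13488 (iv D13488)
def n13489 : Q := act 4 n12509
theorem D13489 : act 4 n12509 = n13489 := rfl
theorem F53207 : act 0 n13489 = n12553 := d3_1 D13489 (iv D12553) (iv F49257)
theorem F53208 : act 1 n13489 = n12610 := d10_1 D13489 (iv D12610) F49262
theorem F53209 : act 2 n13489 = n12510 := d16_1 D13489 (iv D12510) D12509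
theorem F53210 : act 6 n13489 = n12578 := d27_2 (iv F49260) D13489 (iv D12578)
theorem F53211 : act 7 n13489 = n13489 := d28_2 F49261 D13489 (iv D13489)
def n13490 : Q := act 5 n12510
theorem D13490 : act 5 n12510 = n13490 := rfl
theorem F53212 : act 0 n13490 = n12555 := d4_1 D13490 (iv D12555) (iv F49263)
theorem F53213 : act 1 n13490 = n13490 := d11_1 D13490 (iv D13490) F49264
theorem F53214 : act 4 n13490 = n13490 := d26_1 D13490 (iv D13490) (iv D12510) F45202 D12510
theorem F53215 : act 7 n13490 = n13490 := d31_2 F49265 D13490 (iv D13490)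
def n13491 : Q := act 8 n12510
theorem D13491 : act 8 n12510 = n13491 := rfl
theorem F53216 : act 0 n13491 = n12556 := d7_1 D13491 (iv D12556) (iv F49263)
theorem F53217 : act 1 n13491 = n13491 := d14_1 D13491 (iv D13491) F49264
theorem F53218 : act 4 n13491 = n12511 := d29_1 D13491 (iv D12511) D12510
def n13492 : Q := act 7 n12511
theorem D13492 : act 7 n12511 = n13492 := rfl
theorem F53219 : act 0 n13492 = n12557 := d6_1 D13492 (iv D12557) (iv F49266)
theorem F53220 : act 1 n13492 = n13492 := d13_1 D13492 (iv D13492) F49267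
theorem F53221 : act 2 n13492 = n13427 := d19_1 D13492 F52928 F52603
theorem F53222 : act 3 n13492 = n12961 := d24_1 D13492 (iv D12961) (iv F48366) F48369 (iv F49268)
theorem F53223 : act 5 n13492 = n13492 := d31_1 D13492 (iv D13492) F49269
theorem F53224 : act 6 n13492 = n12971 := d33_1 D13492 (iv F52384) F52383
theorem F53225 : act 8 n13492 = n13492 := d35_2 D12511 D13492 (iv D13492) (iv D12511) F45203
def n13493 : Q := act 3 n12512
theorem D13493 : act 3 n12512 = n13493 := rfl
theorem F53226 : act 0 n13493 = n12558 := d2_1 D13493 (iv D12558) (iv F49270)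
theorem F53227 : act 1 n13493 = n12609 := d9_1 D13493 (iv D12609) (iv F49271)
theorem F53228 : act 6 n13493 = n12577 := d23_2 (iv F49273) D13493 (iv D12577)
def n13494 : Q := act 5 n12512
theorem D13494 : act 5 n12512 = n13494 := rfl
theorem F53229 : act 0 n13494 = n12559 := d4_1 D13494 (iv D12559) (iv F49270)
theorem F53230 : act 1 n13494 = n12608 := d11_1 D13494 F49681 (iv F49271)
theorem F53231 : act 2 n13494 = n12513 := d17_1 D13494 (iv D12513) (iv F49272)
theorem F53232 : act 4 n13494 = n13494 := d26_1 D13494 (iv D13494) (iv D12512) F45210 D12512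
theorem F53233 : act 7 n13494 = n12515 := d31_2 (iv F49274) D13494 (iv D12515)
def n13495 : Q := act 6 n12513
theorem D13495 : act 6 n12513 = n13495 := rfl
theorem F53234 : act 0 n13495 = n12561 := d5_1 D13495 (iv D12561) (iv F49275)
theorem F53235 : act 1 n13495 = n12537 := d12_1 D13495 (iv D12537) (iv F49276)
theorem F53236 : act 4 n13495 = n13495 := d27_1 D13495 (iv D13495) F49277
theorem F53237 : act 5 n13495 = n12579 := d30_1 D13495 F49549 F45499 (iv F45215) D12513
theorem F53238 : act 7 n13495 = n12516 := d33_2 (iv F49278) D13495 (iv D12516)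
def n13496 : Q := act 5 n12514
theorem D13496 : act 5 n12514 = n13496 := rfl
theorem F53239 : act 0 n13496 = n12563 := d4_1 D13496 (iv D12563) (iv F49279)
theorem F53240 : act 1 n13496 = n12604 := d11_1 D13496 F49664 (iv F49280)
theorem F53241 : act 2 n13496 = n12520 := d17_1 D13496 (iv D12520) (iv F49281)
theorem F53242 : act 3 n13496 = n12515 := d22_1 D13496 (iv D12515) D12514
theorem F53243 : act 8 n13496 = n12566 := d32_2 (iv F49284) D13496 (iv D12566)
def n13497 : Q := act 7 n12514
theorem D13497 : act 7 n12514 = n13497 := rfl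
theorem F53244 : act 0 n13497 = n12564 := d6_1 D13497 (iv D12564) (iv F49279)
theorem F53245 : act 1 n13497 = n12606 := d13_1 D13497 (iv D12606) (iv F49280)
theorem F53246 : act 2 n13497 = n12521 := d19_1 D13497 (iv D12521) (iv F49281)
theorem F53247 : act 4 n13497 = n13497 := d28_1 D13497 (iv D13497) F49282
theorem F53248 : act 6 n13497 = n12574 := d33_1 D13497 (iv D12574) (iv F49283)
def n13498 : Q := act 6 n12515
theorem D13498 : act 6 n12515 = n13498 := rfl
theorem F53249 : act 0 n13498 = n12565 := d5_1 D13498 (iv D12565) (iv F49285)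
theorem F53250 : act 1 n13498 = n12607 := d12_1 D13498 F49677 (iv F49286)
theorem F53251 : act 2 n13498 = n12516 := d18_1 D13498 (iv D12516) (iv F49287)
theorem F53252 : act 4 n13498 = n13498 := d27_1 D13498 (iv D13498) F49288
theorem F53253 : act 5 n13498 = n12575 := d30_1 D13498 F49538 F45487 (iv F45220) D12515
theorem F53254 : act 8 n13498 = n12568 := d34_2 (iv F49289) D13498 (iv D12568)
def n13499 : Q := act 5 n12517
theorem D13499 : act 5 n12517 = n13499 := rfl
theorem F53255 : act 0 n13499 = n12566 := d4_1 D13499 (iv D12566) (iv F49296)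
theorem F53256 : act 1 n13499 = n13499 := d11_1 D13499 (iv D13499) F49297
theorem F53257 : act 2 n13499 = n12572 := d17_1 D13499 F49530 (iv F49298)
theorem F53258 : act 3 n13499 = n12518 := d22_1 D13499 (iv D12518) D12517
theorem F53259 : act 8 n13499 = n12563 := d32_2 (iv F49301) D13499 (iv D12563)
def n13500 : Q := act 7 n12517
theorem D13500 : act 7 n12517 = n13500 := rfl
theorem F53260 : act 0 n13500 = n12567 := d6_1 D13500 (iv D12567) (iv F49296)
theorem F53261 : act 1 n13500 = n13500 := d13_1 D13500 (iv D13500) F49297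
theorem F53262 : act 2 n13500 = n12574 := d19_1 D13500 (iv D12574) (iv F49298)
theorem F53263 : act 4 n13500 = n13500 := d28_1 D13500 (iv D13500) F49299
theorem F53264 : act 6 n13500 = n12521 := d33_1 D13500 (iv D12521) (iv F49300)
def n13501 : Q := act 6 n12518
theorem D13501 : act 6 n12518 = n13501 := rfl
theorem F53265 : act 0 n13501 = n12568 := d5_1 D13501 (iv D12568) (iv F49302)
theorem F53266 : act 1 n13501 = n13501 := d12_1 D13501 (iv D13501) F49303
theorem F53267 : act 2 n13501 = n12519 := d18_1 D13501 (iv D12519) (iv F49304)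
theorem F53268 : act 4 n13501 = n13501 := d27_1 D13501 (iv D13501) F49305
theorem F53269 : act 5 n13501 = n12523 := d30_1 D13501 (iv D12523) (iv D11499) (iv F45230) D12518
theorem F53270 : act 8 n13501 = n12565 := d34_2 (iv F49306) D13501 (iv D12565)
def n13502 : Q := act 4 n12520
theorem D13502 : act 4 n12520 = n13502 := rfl
theorem F53271 : act 0 n13502 = n12569 := d3_1 D13502 (iv D12569) (iv F49313)
theorem F53272 : act 1 n13502 = n13502 := d10_1 D13502 (iv D13502) F49314
theorem F53273 : act 3 n13502 = n12529 := d21_1 D13502 (iv D12529) F45269 (iv F45243) (iv F49315)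
theorem F53274 : act 5 n13502 = n13502 := d26_2 D12520 D13502 (iv D13502) (iv D12520) F45239
theorem F53275 : act 7 n13178 = n13502 := d37_0 F53274 (iv D13502) F49315 F45242 F41606 F34702 (iv F32420) (iv D8505) (iv D6204) (iv D4534) F13189 F9860 (iv F9143) (iv D2248) (iv D1652) (iv F5523) (iv D1304) F4148 F3150 F2516 (iv F3324) D1021 F4396 F4395 (iv F5844) (iv F7780) (iv F10382) F10385 (iv D1899) (iv D1393) F4400 (iv F5512) F5511 (iv D1278) (iv F5398) F5396 D1732 D2359 D3211 F12787 (iv F17162) D5983 (iv F31227) (iv F39352) F39351 (iv F41879) (iv F45551) (iv F49385) (iv D12535) F45301 (iv F49348) F49347 (iv F49512) F49511 F45675 (iv F49031) F49030 F44948 (iv F44979) F44978 (iv F48643) (iv F52066)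
theorem F53276 : act 6 n13502 = n13179 := d33_1 F53275 (iv D13179) D13178
def n13503 : Q := act 6 n12520
theorem D13503 : act 6 n12520 = n13503 := rfl
theorem F53277 : act 0 n13503 = n12570 := d5_1 D13503 (iv D12570) (iv F49313)
theorem F53278 : act 1 n13503 = n13503 := d12_1 D13503 (iv D13503) F49314
theorem F53279 : act 3 n13503 = n12523 := d23_1 D13503 (iv D12523) (iv F49315)
theorem F53280 : act 4 n13503 = n13179 := d27_1 D13503 (iv F53276) (iv D13502)
theorem F53281 : act 7 n13177 = n13503 := d28_0 F53280 (iv D13179) D13177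
def n13504 : Q := act 7 n12520
theorem D13504 : act 7 n12520 = n13504 := rfl
theorem F53282 : act 0 n13504 = n12571 := d6_1 D13504 (iv D12571) (iv F49313)
theorem F53283 : act 1 n13504 = n13504 := d13_1 D13504 (iv D13504) F49314
theorem F53284 : act 4 n13504 = n13178 := d28_1 D13504 F53275 (iv D13502)
theorem F53285 : act 5 n13504 = n12521 := d31_1 D13504 (iv D12521) D12520
theorem F53286 : act 6 n13504 = n13177 := d33_1 D13504 F53281 (iv D13503)
def n13505 : Q := act 8 n12520
theorem D13505 : act 8 n12520 = n13505 := rfl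
theorem F53287 : act 0 n13505 = n12572 := d7_1 D13505 (iv D12572) (iv F49313)
theorem F53288 : act 1 n13505 = n13505 := d14_1 D13505 (iv D13505) F49314
theorem F53289 : act 2 n13505 = n12566 := d20_1 D13505 (iv F53243) F53241
theorem F53290 : act 3 n13505 = n12524 := d25_1 D13505 (iv D12524) (iv F49315)
theorem F53291 : act 5 n13505 = n12522 := d32_1 D13505 (iv D12522) D12520
def n13506 : Q := act 8 n12521
theorem D13506 : act 8 n12521 = n13506 := rfl
theorem F53292 : act 0 n13506 = n12573 := d7_1 D13506 (iv D12573) (iv F49316)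
theorem F53293 : act 1 n13506 = n13506 := d14_1 D13506 (iv D13506) F49317
theorem F53294 : act 4 n13506 = n13506 := d29_1 D13506 (iv D13506) F49318
def n13507 : Q := act 7 n12522
theorem D13507 : act 7 n12522 = n13507 := rfl
theorem F53295 : act 0 n13507 = n12574 := d6_1 D13507 (iv D12574) (iv F49319)
theorem F53296 : act 1 n13507 = n13507 := d13_1 D13507 (iv D13507) F49320
theorem F53297 : act 2 n13507 = n12567 := d19_1 D13507 (iv D12567) (iv F49321)
theorem F53298 : act 4 n13507 = n13507 := d28_1 D13507 (iv D13507) F49323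
theorem F53299 : act 6 n13507 = n12564 := d33_1 D13507 (iv D12564) (iv F49324)
def n13508 : Q := act 8 n12523
theorem D13508 : act 8 n12523 = n13508 := rfl
theorem F53300 : act 0 n13508 = n12575 := d7_1 D13508 (iv D12575) (iv F49325)
theorem F53301 : act 1 n13508 = n13508 := d14_1 D13508 (iv D13508) F49326
theorem F53302 : act 2 n13508 = n12527 := d20_1 D13508 (iv D12527) (iv F49327)
theorem F53303 : act 4 n13508 = n12533 := d29_1 D13508 (iv D12533) (iv F49328)
theorem F53304 : act 5 n13508 = n12565 := d32_1 D13508 (iv F53270) F53269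
theorem F53305 : act 6 n13508 = n12524 := d34_1 D13508 (iv D12524) D12523
def n13509 : Q := act 7 n12524
theorem D13509 : act 7 n12524 = n13509 := rfl
theorem F53306 : act 0 n13509 = n12576 := d6_1 D13509 (iv D12576) (iv F49329)
theorem F53307 : act 1 n13509 = n13509 := d13_1 D13509 (iv D13509) F49330
theorem F53308 : act 2 n13509 = n12528 := d19_1 D13509 (iv D12528) (iv F49331)
theorem F53309 : act 4 n13509 = n12534 := d28_1 D13509 (iv D12534) (iv F49332)
theorem F53310 : act 5 n13509 = n12525 := d31_1 D13509 (iv D12525) (iv F49333)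
def n13510 : Q := act 3 n12525
theorem D13510 : act 3 n12525 = n13510 := rfl
theorem F53311 : act 0 n13510 = n12577 := d2_1 D13510 (iv D12577) (iv F49334)
theorem F53312 : act 1 n13510 = n13510 := d9_1 D13510 (iv D13510) F49335
theorem F53313 : act 6 n13510 = n12558 := d23_2 (iv F49338) D13510 (iv D12558)
def n13511 : Q := act 4 n12526
theorem D13511 : act 4 n12526 = n13511 := rfl
theorem F53314 : act 0 n13511 = n12578 := d3_1 D13511 (iv D12578) (iv F49339)
theorem F53315 : act 1 n13511 = n13511 := d10_1 D13511 (iv D13511) F49340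
theorem F53316 : act 2 n13511 = n12551 := d16_1 D13511 (iv D12551) (iv F49341)
theorem F53317 : act 5 n13511 = n13488 := d26_2 (iv F49342) D13511 (iv D13488) F49254 F45403
theorem F53318 : act 6 n13511 = n12553 := d27_2 (iv F49343) D13511 (iv D12553)
theorem F53319 : act 7 n13511 = n13511 := d28_2 F49344 D13511 (iv D13511)
def n13512 : Q := act 7 n12527
theorem D13512 : act 7 n12527 = n13512 := rfl
theorem F53320 : act 0 n13512 = n12579 := d6_1 D13512 (iv D12579) (iv F49345)
theorem F53321 : act 1 n13512 = n12538 := d13_1 D13512 (iv D12538) (iv F49346)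
theorem F53322 : act 4 n13512 = n12535 := d28_1 D13512 (iv D12535) (iv F49348)
theorem F53323 : act 5 n13512 = n12561 := d31_1 D13512 F49493 (iv F49349)
theorem F53324 : act 6 n13512 = n12528 := d33_1 D13512 (iv D12528) (iv F49350)
def n13513 : Q := act 8 n12529
theorem D13513 : act 8 n12529 = n13513 := rfl
theorem F53325 : act 0 n13513 = n12582 := d7_1 D13513 (iv D12582) (iv F49355)
theorem F53326 : act 1 n13513 = n13513 := d14_1 D13513 (iv D13513) F49356
theorem F53327 : act 2 n13513 = n13513 := d20_1 D13513 (iv D13513) F49357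
theorem F53328 : act 4 n13513 = n12532 := d29_1 D13513 (iv D12532) D12529
theorem F53329 : act 5 n13513 = n13513 := d32_1 D13513 (iv D13513) F49358
theorem F53330 : act 6 n13513 = n12545 := d34_1 D13513 (iv F49435) F49370
theorem F53331 : act 7 n12544 = n13513 := d33_0 F53330 (iv D12545) D12544
def n13514 : Q := act 8 n12530
theorem D13514 : act 8 n12530 = n13514 := rfl
theorem F53332 : act 0 n13514 = n12583 := d7_1 D13514 (iv D12583) (iv F49359)
theorem F53333 : act 1 n13514 = n13514 := d14_1 D13514 (iv D13514) F49360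
theorem F53334 : act 2 n13514 = n13514 := d20_1 D13514 (iv D13514) F49361
theorem F53335 : act 3 n13514 = n12533 := d25_1 D13514 (iv D12533) (iv F49362)
theorem F53336 : act 4 n13514 = n12545 := d29_1 D13514 (iv F49435) F49368
theorem F53337 : act 5 n13514 = n13514 := d32_1 D13514 (iv D13514) F49363
theorem F53338 : act 6 n13514 = n12532 := d34_1 D13514 (iv D12532) D12530
theorem F53339 : act 7 n13514 = n12543 := d35_1 D13514 (iv F49443) F53331 (iv D13513) F49364
def n13515 : Q := act 7 n12533
theorem D13515 : act 7 n12533 = n13515 := rfl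
theorem F53340 : act 0 n13515 = n12586 := d6_1 D13515 (iv D12586) (iv F49376)
theorem F53341 : act 1 n13515 = n13515 := d13_1 D13515 (iv D13515) F49377
theorem F53342 : act 2 n13515 = n12535 := d19_1 D13515 (iv D12535) (iv F49378)
theorem F53343 : act 5 n13515 = n13515 := d31_1 D13515 (iv D13515) F49379
theorem F53344 : act 6 n13515 = n12534 := d33_1 D13515 (iv D12534) (iv F49380)
def n13516 : Q := act 8 n12539
theorem D13516 : act 8 n12539 = n13516 := rfl
theorem F53345 : act 0 n13516 = n12960 := d7_1 D13516 (iv D12960) (iv F49403)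
theorem F53346 : act 1 n13516 = n12594 := d14_1 D13516 (iv D12594) (iv F49404)
theorem F53347 : act 2 n13516 = n12826 := d20_1 D13516 (iv D12826) (iv F49405)
theorem F53348 : act 4 n13516 = n12540 := d29_1 D13516 (iv D12540) D12539
theorem F53349 : act 5 n13516 = n13464 := d32_1 D13516 F53090 F49743
theorem F53350 : act 6 n13516 = n12830 := d34_1 D13516 (iv D12830) (iv F49406)
def n13517 : Q := act 7 n12540
theorem D13517 : act 7 n12540 = n13517 := rfl
theorem F53351 : act 0 n13517 = n12961 := d6_1 D13517 (iv D12961) (iv F49408)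
theorem F53352 : act 1 n13517 = n12595 := d13_1 D13517 (iv D12595) (iv F49409)
theorem F53353 : act 2 n13517 = n12827 := d19_1 D13517 (iv D12827) (iv F49410)
theorem F53354 : act 3 n13517 = n12557 := d24_1 D13517 (iv D12557) F45443 (iv F45366) (iv F49411)
theorem F53355 : act 5 n13517 = n13517 := d31_1 D13517 (iv D13517) F49412
theorem F53356 : act 6 n13517 = n12831 := d33_1 D13517 (iv D12831) (iv F49413)
theorem F53357 : act 8 n13517 = n13517 := d35_2 D12540 D13517 (iv D13517) (iv D12540) F45362
def n13518 : Q := act 7 n12541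
theorem D13518 : act 7 n12541 = n13518 := rfl
theorem F53358 : act 0 n13518 = n12921 := d6_1 D13518 (iv D12921) (iv F49414)
theorem F53359 : act 1 n13518 = n13518 := d13_1 D13518 (iv D13518) F49415
theorem F53360 : act 2 n13518 = n12809 := d19_1 D13518 (iv D12809) (iv F49416)
theorem F53361 : act 5 n13518 = n12542 := d31_1 D13518 (iv D12542) D12541
theorem F53362 : act 6 n13518 = n13127 := d33_1 D13518 (iv D13127) (iv F49418)
def n13519 : Q := act 8 n12542
theorem D13519 : act 8 n12542 = n13519 := rfl
theorem F53363 : act 0 n13519 = n12923 := d7_1 D13519 (iv D12923) (iv F49420)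
theorem F53364 : act 1 n13519 = n13519 := d14_1 D13519 (iv D13519) F49421
theorem F53365 : act 2 n13519 = n12811 := d20_1 D13519 (iv D12811) (iv F49422)
theorem F53366 : act 4 n13519 = n13519 := d29_1 D13519 (iv D13519) F49423
theorem F53367 : act 6 n13519 = n12808 := d34_1 D13519 (iv D12808) (iv F49424)
theorem F53368 : act 7 n13519 = n13416 := d35_1 D13519 (iv D13416) F48931 (iv F45372) D12542
def n13520 : Q := act 7 n12547
theorem D13520 : act 7 n12547 = n13520 := rfl
theorem F53369 : act 1 n13520 = n13520 := d13_1 D13520 (iv D13520) F49444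
theorem F53370 : act 2 n13520 = n12549 := d19_1 D13520 (iv D12549) (iv F49445)
theorem F53371 : act 3 n13520 = n13515 := d24_1 D13520 (iv D13515) (iv F53335) F53339 (iv F49446)
theorem F53372 : act 4 n13520 = n13518 := d28_1 D13520 (iv D13518) (iv F49447)
theorem F53373 : act 5 n13520 = n13520 := d31_1 D13520 (iv D13520) F49448
theorem F53374 : act 6 n13520 = n12548 := d33_1 D13520 (iv D12548) (iv F49449)
def n13521 : Q := act 8 n12551
theorem D13521 : act 8 n12551 = n13521 := rfl
theorem F53375 : act 1 n13521 = n12596 := d14_1 D13521 (iv D12596) (iv F49461)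
theorem F53376 : act 4 n13521 = n12552 := d29_1 D13521 (iv D12552) D12551
theorem F53377 : act 5 n13521 = n13350 := d32_1 D13521 F52644 F49545
theorem F53378 : act 6 n13521 = n12556 := d34_1 D13521 (iv D12556) (iv F49462)
def n13522 : Q := act 7 n12552
theorem D13522 : act 7 n12552 = n13522 := rfl
theorem F53379 : act 0 n13522 = n12971 := d6_1 D13522 (iv F52384) F52379
theorem F53380 : act 1 n13522 = n12597 := d13_1 D13522 (iv D12597) (iv F49464)
theorem F53381 : act 3 n13522 = n12831 := d24_1 D13522 (iv D12831) (iv F47761) F47764 (iv F49465)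
theorem F53382 : act 5 n13522 = n12719 := d31_1 D13522 F50071 (iv F49466)
theorem F53383 : act 6 n13522 = n12557 := d33_1 D13522 (iv D12557) (iv F49467)
theorem F53384 : act 8 n13522 = n13522 := d35_2 D12552 D13522 (iv D13522) (iv D12552) F45432
def n13523 : Q := act 3 n12553
theorem D13523 : act 3 n12553 = n13523 := rfl
theorem F53385 : act 1 n13523 = n13523 := d9_1 D13523 (iv D13523) F49468
theorem F53386 : act 4 n13523 = n12558 := d21_2 D12553 D13523 (iv D12558) (iv D11547) (iv F45437)
def n13524 : Q := act 5 n12553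
theorem D13524 : act 5 n12553 = n13524 := rfl
theorem F53387 : act 1 n13524 = n13524 := d11_1 D13524 (iv D13524) F49468
theorem F53388 : act 2 n13524 = n12555 := d17_1 D13524 (iv D12555) (iv F49469)
theorem F53389 : act 4 n13524 = n13524 := d26_1 D13524 (iv D13524) (iv D12553) F45438 D12553
theorem F53390 : act 6 n13524 = n13490 := d30_2 F53318 D13524 (iv D13490) (iv F53205) (iv F53317)
theorem F53391 : act 7 n13524 = n13524 := d31_2 F49470 D13524 (iv D13524)
def n13525 : Q := act 8 n12553
theorem D13525 : act 8 n12553 = n13525 := rfl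
theorem F53392 : act 1 n13525 = n13525 := d14_1 D13525 (iv D13525) F49468
theorem F53393 : act 2 n13525 = n12556 := d20_1 D13525 (iv D12556) (iv F49469)
theorem F53394 : act 4 n13525 = n12554 := d29_1 D13525 (iv D12554) D12553
def n13526 : Q := act 7 n12554
theorem D13526 : act 7 n12554 = n13526 := rfl
theorem F53395 : act 0 n13526 = n13427 := d6_1 D13526 F52928 F52601
theorem F53396 : act 1 n13526 = n13526 := d13_1 D13526 (iv D13526) F49471
theorem F53397 : act 2 n13526 = n12557 := d19_1 D13526 (iv D12557) (iv F49472)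
theorem F53398 : act 3 n13526 = n13420 := d24_1 D13526 (iv D13420) F48948 F47989 (iv F49473)
theorem F53399 : act 5 n13526 = n13526 := d31_1 D13526 (iv D13526) F49474
theorem F53400 : act 8 n13526 = n13526 := d35_2 D12554 D13526 (iv D13526) (iv D12554) F45439
def n13527 : Q := act 6 n12555
theorem D13527 : act 6 n12555 = n13527 := rfl
theorem F53401 : act 0 n13527 = n13524 := d5_1 D13527 F53390 F53212
theorem F53402 : act 1 n13527 = n12598 := d12_1 D13527 (iv D12598) (iv F49475)
theorem F53403 : act 2 n13527 = n13490 := d18_1 D13527 (iv F53390) F53388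
theorem F53404 : act 4 n13527 = n13527 := d27_1 D13527 (iv D13527) F49476
theorem F53405 : act 5 n13527 = n13489 := d30_1 D13527 F53210 F49545 F49462 D12555
theorem F53406 : act 7 n13527 = n13527 := d33_2 F49477 D13527 (iv D13527)
def n13528 : Q := act 8 n12555
theorem D13528 : act 8 n12555 = n13528 := rfl
theorem F53407 : act 1 n13528 = n12599 := d14_1 D13528 (iv D12599) (iv F49475)
theorem F53408 : act 4 n13528 = n13528 := d29_1 D13528 (iv D13528) F49476
theorem F53409 : act 5 n13528 = n12556 := d32_1 D13528 (iv D12556) D12555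
def n13529 : Q := act 7 n12556
theorem D13529 : act 7 n12556 = n13529 := rfl
theorem F53410 : act 1 n13529 = n12600 := d13_1 D13529 (iv D12600) (iv F49478)
theorem F53411 : act 4 n13529 = n12557 := d28_1 D13529 (iv D12557) (iv F49479)
theorem F53412 : act 8 n13529 = n13529 := d35_2 D12556 D13529 (iv D13529) (iv D12556) F45441
def n13530 : Q := act 5 n12558
theorem D13530 : act 5 n12558 = n13530 := rfl
theorem F53413 : act 1 n13530 = n13530 := d11_1 D13530 (iv D13530) F49483
theorem F53414 : act 3 n13530 = n12559 := d22_1 D13530 (iv D12559) D12558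
def n13531 : Q := act 7 n12558
theorem D13531 : act 7 n12558 = n13531 := rfl
theorem F53415 : act 1 n13531 = n13531 := d13_1 D13531 (iv D13531) F49483
theorem F53416 : act 3 n13531 = n12564 := d24_1 D13531 (iv D12564) (iv D11551) (iv F45447) D12558
def n13532 : Q := act 8 n12558
theorem D13532 : act 8 n12558 = n13532 := rfl
theorem F53417 : act 1 n13532 = n13532 := d14_1 D13532 (iv D13532) F49483
theorem F53418 : act 3 n13532 = n12560 := d25_1 D13532 (iv D12560) D12558
def n13533 : Q := act 6 n12559
theorem D13533 : act 6 n12559 = n13533 := rfl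
theorem F53419 : act 1 n13533 = n13533 := d12_1 D13533 (iv D13533) F49484
theorem F53420 : act 2 n13533 = n12561 := d18_1 D13533 (iv D12561) (iv F49485)
theorem F53421 : act 4 n13533 = n13533 := d27_1 D13533 (iv D13533) F49486
theorem F53422 : act 7 n13533 = n12565 := d33_2 (iv F49487) D13533 (iv D12565)
def n13534 : Q := act 8 n12559
theorem D13534 : act 8 n12559 = n13534 := rfl
theorem F53423 : act 1 n13534 = n13534 := d14_1 D13534 (iv D13534) F49484
theorem F53424 : act 2 n13534 = n12562 := d20_1 D13534 (iv D12562) (iv F49485)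
theorem F53425 : act 4 n13534 = n13534 := d29_1 D13534 (iv D13534) F49486
theorem F53426 : act 5 n13534 = n12560 := d32_1 D13534 (iv D12560) D12559
def n13535 : Q := act 8 n12561
theorem D13535 : act 8 n12561 = n13535 := rfl
theorem F53427 : act 1 n13535 = n12589 := d14_1 D13535 (iv D12589) (iv F49491)
theorem F53428 : act 4 n13535 = n13535 := d29_1 D13535 (iv D13535) F49492
theorem F53429 : act 6 n13535 = n12562 := d34_1 D13535 (iv D12562) D12561
def n13536 : Q := act 4 n12563
theorem D13536 : act 4 n12563 = n13536 := rfl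
theorem F53430 : act 1 n13536 = n13536 := d10_1 D13536 (iv D13536) F49497
theorem F53431 : act 2 n13536 = n12569 := d16_1 D13536 (iv D12569) (iv F49498)
theorem F53432 : act 3 n13536 = n13536 := d21_1 D13536 (iv D13536) F49499 F45461 (iv F49499)
theorem F53433 : act 5 n13536 = n13536 := d26_2 D12563 D13536 (iv D13536) (iv D12563) F45458
theorem F53434 : act 6 n12977 = n13536 := d38_1 D12977 F53433 (iv D13536) F49499 F45460 F41794 (iv F41857) D11580 (iv F49401) F49400 (iv F46424) F46423 (iv F43734) F43738 (iv F46697) F46696 F45427 F41886 (iv D9466) (iv F35765) F35768 F26526 (iv F35888) (iv F38969) F35429 (iv D9370) F26165 (iv F26198) (iv F38698) F32007 F23662 D8399 F32009 (iv F32130) F32132 F25404 (iv F34398) (iv F40729) F40728 F32494 F31488 D8269 F31530 F23317 F17935 D4586 F17941 (iv F18346) F18348 (iv F19550) F19549 D6885 F26366 (iv F35685) (iv F41797) (iv F44513) F44512 D11311 F44533 (iv F44552) (iv F47064) F47063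
theorem F53435 : act 7 n13536 = n12976 := d33_2 D12977 F53434 (iv D12976)
def n13537 : Q := act 6 n12563
theorem D13537 : act 6 n12563 = n13537 := rfl
theorem F53436 : act 1 n13537 = n13537 := d12_1 D13537 (iv D13537) F49497
theorem F53437 : act 2 n13537 = n12570 := d18_1 D13537 (iv D12570) (iv F49498)
theorem F53438 : act 3 n13537 = n12565 := d23_1 D13537 (iv D12565) (iv F49499)
theorem F53439 : act 4 n13537 = n12977 := d27_1 D13537 F53434 (iv D13536)
theorem F53440 : act 7 n12975 = n13537 := d28_0 F53439 (iv D12977) D12975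
def n13538 : Q := act 7 n12563
theorem D13538 : act 7 n12563 = n13538 := rfl
theorem F53441 : act 1 n13538 = n13538 := d13_1 D13538 (iv D13538) F49497
theorem F53442 : act 2 n13538 = n12571 := d19_1 D13538 (iv D12571) (iv F49498)
theorem F53443 : act 4 n13538 = n12976 := d28_1 D13538 (iv F53435) (iv D13536)
theorem F53444 : act 5 n13538 = n12564 := d31_1 D13538 (iv D12564) D12563
theorem F53445 : act 6 n13538 = n12975 := d33_1 D13538 F53440 (iv D13537)
def n13539 : Q := act 8 n12564
theorem D13539 : act 8 n12564 = n13539 := rfl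
theorem F53446 : act 1 n13539 = n13539 := d14_1 D13539 (iv D13539) F49500
theorem F53447 : act 2 n13539 = n12573 := d20_1 D13539 (iv D12573) (iv F49501)
theorem F53448 : act 4 n13539 = n13539 := d29_1 D13539 (iv D13539) F49502
def n13540 : Q := act 4 n12566
theorem D13540 : act 4 n12566 = n13540 := rfl
theorem F53449 : act 1 n13540 = n12601 := d10_1 D13540 (iv D12601) (iv F49506)
theorem F53450 : act 3 n13540 = n13540 := d21_1 D13540 (iv D13540) F49507 F45470 (iv F49507)
theorem F53451 : act 5 n13540 = n13540 := d26_2 D12566 D13540 (iv D13540) (iv D12566) F45466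
theorem F53452 : act 6 n12712 = n13540 := d38_1 D12712 F53451 (iv D13540) F49507 F45469 F41800 (iv F41002) D11349 F44660 F41015 (iv F39829) F39828 (iv F43149) F43152 (iv D10959) (iv D10070) (iv D8264) (iv D6034) (iv F17806) F17805 (iv D3329) F9881 D3328 D4550 D6226 F24022 (iv F24343) D8679 (iv F41147) (iv F43473) D12058 F47494 (iv F51599) F51598 F47776 (iv F47541) F47540 (iv D12067) (iv F44463) F44462 F40885 D10379 (iv F43169) F43168 F39776 D10964 D11970 D12985 F51211 F47170 F43209 D11341 F44634 (iv F44867) F44866 F41237 F41236 D10785 F42439 (iv F42462) F42461 (iv F46020)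
theorem F53453 : act 7 n13540 = n12711 := d33_2 D12712 F53452 (iv D12711)
def n13541 : Q := act 6 n12566
theorem D13541 : act 6 n12566 = n13541 := rfl
theorem F53454 : act 1 n13541 = n12602 := d12_1 D13541 (iv D12602) (iv F49506)
theorem F53455 : act 3 n13541 = n12568 := d23_1 D13541 (iv D12568) (iv F49507)
theorem F53456 : act 4 n13541 = n12712 := d27_1 D13541 F53452 (iv D13540)
theorem F53457 : act 5 n13541 = n12570 := d30_1 D13541 (iv D12570) (iv D11557) (iv F45467) D12566
theorem F53458 : act 7 n12710 = n13541 := d31_0 F53457 (iv F49523) (iv F50027)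
def n13542 : Q := act 7 n12566
theorem D13542 : act 7 n12566 = n13542 := rfl
theorem F53459 : act 1 n13542 = n12603 := d13_1 D13542 (iv D12603) (iv F49506)
theorem F53460 : act 4 n13542 = n12711 := d28_1 D13542 (iv F53453) (iv D13540)
theorem F53461 : act 5 n13542 = n12567 := d31_1 D13542 (iv D12567) D12566
theorem F53462 : act 6 n13542 = n12710 := d33_1 D13542 F53458 (iv D13541)
def n13543 : Q := act 8 n12567
theorem D13543 : act 8 n12567 = n13543 := rfl
theorem F53463 : act 1 n13543 = n12605 := d14_1 D13543 (iv D12605) (iv F49508)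
theorem F53464 : act 4 n13543 = n13543 := d29_1 D13543 (iv D13543) F49509
theorem F53465 : act 6 n13543 = n12573 := d34_1 D13543 (iv D12573) (iv F49510)
def n13544 : Q := act 8 n12569
theorem D13544 : act 8 n12569 = n13544 := rfl
theorem F53466 : act 1 n13544 = n12614 := d14_1 D13544 (iv D12614) (iv F49515)
theorem F53467 : act 3 n13544 = n12582 := d25_1 D13544 (iv D12582) (iv F49516)
theorem F53468 : act 4 n13544 = n12572 := d29_1 D13544 (iv D12572) D12569
theorem F53469 : act 5 n13544 = n13544 := d32_1 D13544 (iv D13544) F49517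
theorem F53470 : act 6 n13544 = n13356 := d34_1 D13544 (iv D13356) F49518
def n13545 : Q := act 8 n12570
theorem D13545 : act 8 n12570 = n13545 := rfl
theorem F53471 : act 1 n13545 = n12615 := d14_1 D13545 (iv D12615) (iv F49520)
theorem F53472 : act 3 n13545 = n12575 := d25_1 D13545 (iv D12575) (iv F49521)
theorem F53473 : act 4 n13545 = n13356 := d29_1 D13545 (iv D13356) (iv F49522)
theorem F53474 : act 6 n13545 = n12572 := d34_1 D13545 (iv D12572) D12570
def n13546 : Q := act 8 n12571
theorem D13546 : act 8 n12571 = n13546 := rfl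
theorem F53475 : act 1 n13546 = n12616 := d14_1 D13546 (iv D12616) (iv F49524)
theorem F53476 : act 4 n13546 = n13355 := d29_1 D13546 (iv D13355) (iv F49525)
theorem F53477 : act 5 n13546 = n12573 := d32_1 D13546 (iv D12573) (iv F49526)
theorem F53478 : act 6 n13546 = n13354 := d34_1 D13546 (iv D13354) (iv F49527)
def n13547 : Q := act 7 n12572
theorem D13547 : act 7 n12572 = n13547 := rfl
theorem F53479 : act 1 n13547 = n12617 := d13_1 D13547 (iv D12617) (iv F49528)
theorem F53480 : act 5 n13547 = n12574 := d31_1 D13547 (iv D12574) (iv F49530)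
def n13548 : Q := act 7 n12573
theorem D13548 : act 7 n12573 = n13548 := rfl
theorem F53481 : act 1 n13548 = n12618 := d13_1 D13548 (iv D12618) (iv F49531)
theorem F53482 : act 4 n13548 = n13548 := d28_1 D13548 (iv D13548) F49532
theorem F53483 : act 8 n13548 = n12574 := d35_2 D12573 D13548 (iv D12574) (iv D11559) D11558
def n13549 : Q := act 3 n12574
theorem D13549 : act 3 n12574 = n13549 := rfl
theorem F53484 : act 1 n13549 = n12619 := d9_1 D13549 (iv D12619) (iv F49533)
theorem F53485 : act 7 n13549 = n12577 := d24_2 D12574 D13549 (iv D12577) (iv D11562) (iv F45479)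
def n13550 : Q := act 7 n12575
theorem D13550 : act 7 n12575 = n13550 := rfl
theorem F53486 : act 1 n13550 = n12620 := d13_1 D13550 (iv D12620) (iv F49535)
theorem F53487 : act 2 n13550 = n12579 := d19_1 D13550 (iv D12579) (iv F49536)
theorem F53488 : act 4 n13550 = n12586 := d28_1 D13550 (iv D12586) (iv F49537)
theorem F53489 : act 6 n13550 = n12576 := d33_1 D13550 (iv D12576) (iv F49538)
def n13551 : Q := act 3 n12576
theorem D13551 : act 3 n12576 = n13551 := rfl
theorem F53490 : act 1 n13551 = n12621 := d9_1 D13551 (iv D12621) (iv F49539)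
theorem F53491 : act 4 n13551 = n13284 := d21_2 (iv F49541) D13551 (iv D13284) F49583 (iv D12587)
theorem F53492 : act 5 n13551 = n12577 := d22_2 (iv F49542) D13551 (iv D12577)
def n13552 : Q := act 2 n12577
theorem D13552 : act 2 n12577 = n13552 := rfl
theorem F53493 : act 3 n13552 = n12581 := d15_2 D12577 D13552 (iv D12581) (iv D11566) (iv F45489)
def n13553 : Q := act 4 n12577
theorem D13553 : act 4 n12577 = n13553 := rfl
theorem F53494 : act 1 n13553 = n12623 := d10_1 D13553 (iv D12623) (iv F49543)
theorem F53495 : act 3 n13553 = n12578 := d21_1 D13553 (iv D12578) (iv D11563) (iv F45490) D12577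
theorem F53496 : act 5 n13553 = n13287 := d26_2 F53492 D13553 (iv D13287) (iv F52452) (iv F53491)
def n13554 : Q := act 2 n12580
theorem D13554 : act 2 n12580 = n13554 := rfl
theorem F53497 : act 5 n13554 = n12581 := d17_2 (iv F49551) D13554 (iv D12581)
def n13555 : Q := act 1 n12581
theorem D13555 : act 1 n12581 = n13555 := rfl
theorem F53498 : act 2 n13555 = n12590 := d8_2 D12581 D13555 (iv D12590) (iv D11584) (iv F45500)
def n13556 : Q := act 3 n12586
theorem D13556 : act 3 n12586 = n13556 := rfl
theorem F53499 : act 0 n13556 = n13520 := d2_1 D13556 F53371 F53340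
theorem F53500 : act 1 n13556 = n12627 := d9_1 D13556 (iv D12627) (iv F49574)
theorem F53501 : act 2 n13556 = n12927 := d15_1 D13556 (iv F51009) F47631 F46359 (iv F49575)
theorem F53502 : act 5 n13556 = n13556 := d22_2 F49576 D13556 (iv D13556)
theorem F53503 : act 6 n13556 = n12587 := d23_2 (iv F49577) D13556 (iv D12587)
theorem F53504 : act 7 n13556 = n12920 := d24_2 D12586 D13556 (iv F53197) F53200 F49558
theorem F53505 : act 4 n12921 = n13556 := d38_3 D10936 (iv F46961) (iv F50988) (iv D13556) F49575 F45551 (iv D10625) F35316 F26070 F19296 F14307 F10653 F7968 (iv F10583) F10582 (iv F38842) F14077 F10490 (iv F9845) (iv F38553) F10339 (iv F38566) (iv D2241) (iv D1649) (iv F5513) F5512 F4399 (iv F5833) F5832 F5831 D1892 D2580 D3521 D4812 D6587 F25286 (iv F38649) F19369 (iv F18041) F18040 F17406 D4452 F17438 F12966 F9691 F7537 F7536 F37937 (iv F37997) F5202 F37916 (iv F6372) F6371 (iv F8476) (iv F11332) (iv D2828) (iv F9683) D3254 D4444 D6074 D8318 (iv F39711)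
def n13557 : Q := act 5 n12591
theorem D13557 : act 5 n12591 = n13557 := rfl
theorem F53506 : act 0 n13557 = n13557 := d4_1 D13557 (iv D13557) F49596
theorem F53507 : act 1 n13557 = n12829 := d11_1 D13557 (iv D12829) (iv F49597)
theorem F53508 : act 2 n13557 = n12787 := d17_1 D13557 (iv D12787) (iv F49598)
theorem F53509 : act 4 n13557 = n12790 := d26_1 D13557 (iv D12790) (iv D11782) (iv F45592) D12591
theorem F53510 : act 7 n13557 = n13557 := d31_2 F49600 D13557 (iv D13557)
def n13558 : Q := act 8 n12591
theorem D13558 : act 8 n12591 = n13558 := rfl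
theorem F53511 : act 0 n13558 = n13558 := d7_1 D13558 (iv D13558) F49596
theorem F53512 : act 1 n13558 = n12830 := d14_1 D13558 (iv D12830) (iv F49597)
theorem F53513 : act 2 n13558 = n12788 := d20_1 D13558 (iv D12788) (iv F49598)
theorem F53514 : act 4 n13558 = n12592 := d29_1 D13558 (iv D12592) D12591
theorem F53515 : act 6 n13558 = n12594 := d34_1 D13558 (iv D12594) (iv F49599)
def n13559 : Q := act 7 n12592
theorem D13559 : act 7 n12592 = n13559 := rfl
theorem F53516 : act 0 n13559 = n13559 := d6_1 D13559 (iv D13559) F49601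
theorem F53517 : act 1 n13559 = n12831 := d13_1 D13559 (iv D12831) (iv F49602)
theorem F53518 : act 2 n13559 = n12789 := d19_1 D13559 (iv D12789) (iv F49603)
theorem F53519 : act 3 n13559 = n12597 := d24_1 D13559 (iv D12597) F45643 (iv F45598) (iv F49604)
theorem F53520 : act 5 n13559 = n12770 := d31_1 D13559 F50256 (iv F49605)
theorem F53521 : act 6 n13559 = n12595 := d33_1 D13559 (iv D12595) (iv F49606)
theorem F53522 : act 8 n13559 = n13559 := d35_2 D12592 D13559 (iv D13559) (iv D12592) F45594
def n13560 : Q := act 7 n12593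
theorem D13560 : act 7 n12593 = n13560 := rfl
theorem F53523 : act 0 n13560 = n13560 := d6_1 D13560 (iv D13560) F49607
theorem F53524 : act 1 n13560 = n12793 := d13_1 D13560 (iv D12793) (iv F49608)
theorem F53525 : act 2 n13560 = n12595 := d19_1 D13560 (iv D12595) (iv F49609)
theorem F53526 : act 3 n13560 = n13560 := d24_1 D13560 (iv D13560) F49610 F45616 (iv F49610)
theorem F53527 : act 4 n13560 = n13439 := d28_1 D13560 F52981 (iv F49611)
theorem F53528 : act 5 n13560 = n13560 := d31_1 D13560 (iv D13560) F49612
theorem F53529 : act 6 n13560 = n12789 := d33_1 D13560 (iv D12789) (iv F49613)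
theorem F53530 : act 8 n13560 = n13560 := d35_2 D12593 D13560 (iv D13560) (iv D12593) F45604
def n13561 : Q := act 7 n12594
theorem D13561 : act 7 n12594 = n13561 := rfl
theorem F53531 : act 0 n13561 = n13561 := d6_1 D13561 (iv D13561) F49614
theorem F53532 : act 2 n13561 = n13439 := d19_1 D13561 F52981 (iv F49615)
theorem F53533 : act 4 n13561 = n12595 := d28_1 D13561 (iv D12595) (iv F49616)
theorem F53534 : act 5 n13561 = n13440 := d31_1 D13561 F52986 (iv F49617)
theorem F53535 : act 8 n13561 = n13561 := d35_2 D12594 D13561 (iv D13561) (iv D12594) F45606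
def n13562 : Q := act 7 n12596
theorem D13562 : act 7 n12596 = n13562 := rfl
theorem F53536 : act 0 n13562 = n13562 := d6_1 D13562 (iv D13562) F49622
theorem F53537 : act 2 n13562 = n13562 := d19_1 D13562 (iv D13562) F49623
theorem F53538 : act 4 n13562 = n12597 := d28_1 D13562 (iv D12597) (iv F49624)
theorem F53539 : act 5 n13562 = n12757 := d31_1 D13562 F50192 (iv F49625)
theorem F53540 : act 6 n13562 = n12600 := d33_1 D13562 (iv D12600) (iv F49626)
theorem F53541 : act 8 n13562 = n13562 := d35_2 D12596 D13562 (iv D13562) (iv D12596) F45640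
def n13563 : Q := act 8 n12598
theorem D13563 : act 8 n12598 = n13563 := rfl
theorem F53542 : act 0 n13563 = n13563 := d7_1 D13563 (iv D13563) F49632
theorem F53543 : act 2 n13563 = n13563 := d20_1 D13563 (iv D13563) F49633
theorem F53544 : act 4 n13563 = n13563 := d29_1 D13563 (iv D13563) F49634
theorem F53545 : act 5 n13563 = n13450 := d32_1 D13563 F53036 (iv F49688)
theorem F53546 : act 6 n13563 = n12599 := d34_1 D13563 (iv D12599) D12598
def n13564 : Q := act 7 n12599
theorem D13564 : act 7 n12599 = n13564 := rfl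
theorem F53547 : act 0 n13564 = n13564 := d6_1 D13564 (iv D13564) F49636
theorem F53548 : act 2 n13564 = n13564 := d19_1 D13564 (iv D13564) F49637
theorem F53549 : act 4 n13564 = n13564 := d28_1 D13564 (iv D13564) F49638
theorem F53550 : act 5 n13564 = n12600 := d31_1 D13564 (iv D12600) (iv F49639)
theorem F53551 : act 8 n13564 = n13564 := d35_2 D12599 D13564 (iv D13564) (iv D12599) F45649
def n13565 : Q := act 3 n12600
theorem D13565 : act 3 n12600 = n13565 := rfl
theorem F53552 : act 0 n13565 = n13565 := d2_1 D13565 (iv D13565) F49640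
theorem F53553 : act 8 n13565 = n13565 := d25_2 F49643 D13565 (iv D13565)
def n13566 : Q := act 8 n12601
theorem D13566 : act 8 n12601 = n13566 := rfl
theorem F53554 : act 0 n13566 = n13566 := d7_1 D13566 (iv D13566) F49644
theorem F53555 : act 2 n13566 = n13566 := d20_1 D13566 (iv D13566) F49645
theorem F53556 : act 3 n13566 = n13566 := d25_1 D13566 (iv D13566) F49646
theorem F53557 : act 4 n13566 = n12604 := d29_1 D13566 (iv D12604) D12601
theorem F53558 : act 5 n13566 = n13566 := d32_1 D13566 (iv D13566) F49647
theorem F53559 : act 6 n13566 = n12763 := d34_1 D13566 (iv D12763) F49648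
def n13567 : Q := act 8 n12602
theorem D13567 : act 8 n12602 = n13567 := rfl
theorem F53560 : act 0 n13567 = n13567 := d7_1 D13567 (iv D13567) F49650
theorem F53561 : act 2 n13567 = n13567 := d20_1 D13567 (iv D13567) F49651
theorem F53562 : act 3 n13567 = n12607 := d25_1 D13567 (iv D12607) (iv F49652)
theorem F53563 : act 4 n13567 = n12763 := d29_1 D13567 (iv D12763) (iv F49653)
theorem F53564 : act 5 n13567 = n12615 := d32_1 D13567 (iv D12615) (iv F49654)
theorem F53565 : act 6 n13567 = n12604 := d34_1 D13567 (iv D12604) D12602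
def n13568 : Q := act 8 n12603
theorem D13568 : act 8 n12603 = n13568 := rfl
theorem F53566 : act 0 n13568 = n13568 := d7_1 D13568 (iv D13568) F49656
theorem F53567 : act 2 n13568 = n13568 := d20_1 D13568 (iv D13568) F49657
theorem F53568 : act 4 n13568 = n12762 := d29_1 D13568 (iv D12762) (iv F49658)
theorem F53569 : act 5 n13568 = n12605 := d32_1 D13568 (iv D12605) (iv F49659)
theorem F53570 : act 6 n13568 = n12761 := d34_1 D13568 (iv D12761) (iv F49660)
def n13569 : Q := act 7 n12604
theorem D13569 : act 7 n12604 = n13569 := rfl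
theorem F53571 : act 0 n13569 = n13569 := d6_1 D13569 (iv D13569) F49661
theorem F53572 : act 2 n13569 = n13569 := d19_1 D13569 (iv D13569) F49662
theorem F53573 : act 5 n13569 = n12606 := d31_1 D13569 (iv D12606) (iv F49664)
def n13570 : Q := act 7 n12605
theorem D13570 : act 7 n12605 = n13570 := rfl
theorem F53574 : act 0 n13570 = n13570 := d6_1 D13570 (iv D13570) F49665
theorem F53575 : act 2 n13570 = n13570 := d19_1 D13570 (iv D13570) F49666
theorem F53576 : act 4 n13570 = n13570 := d28_1 D13570 (iv D13570) F49667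
theorem F53577 : act 6 n13570 = n12618 := d33_1 D13570 (iv D12618) (iv F49668)
theorem F53578 : act 8 n13570 = n12606 := d35_2 D12605 D13570 (iv D12606) (iv D11604) D11603
def n13571 : Q := act 3 n12606
theorem D13571 : act 3 n12606 = n13571 := rfl
theorem F53579 : act 0 n13571 = n13571 := d2_1 D13571 (iv D13571) F49669
theorem F53580 : act 6 n13571 = n12619 := d23_2 (iv F49672) D13571 (iv D12619)
theorem F53581 : act 7 n13571 = n12609 := d24_2 D12606 D13571 (iv D12609) (iv D11607) (iv F45672)
def n13572 : Q := act 7 n12607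
theorem D13572 : act 7 n12607 = n13572 := rfl
theorem F53582 : act 0 n13572 = n13572 := d6_1 D13572 (iv D13572) F49673
theorem F53583 : act 2 n13572 = n12611 := d19_1 D13572 (iv D12611) (iv F49674)
theorem F53584 : act 4 n13572 = n13572 := d28_1 D13572 (iv D13572) F49675
theorem F53585 : act 5 n13572 = n12620 := d31_1 D13572 (iv D12620) (iv F49676)
theorem F53586 : act 6 n13572 = n12608 := d33_1 D13572 (iv D12608) (iv F49677)
def n13573 : Q := act 3 n12608
theorem D13573 : act 3 n12608 = n13573 := rfl
theorem F53587 : act 0 n13573 = n13573 := d2_1 D13573 (iv D13573) F49678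
theorem F53588 : act 5 n13573 = n12609 := d22_2 (iv F49681) D13573 (iv D12609)
def n13574 : Q := act 2 n12609
theorem D13574 : act 2 n12609 = n13574 := rfl
theorem F53589 : act 0 n13574 = n13574 := d1_1 D13574 (iv D13574) F49682
theorem F53590 : act 3 n13574 = n12613 := d15_2 D12609 D13574 (iv D12613) (iv D11611) (iv F45684)
theorem F53591 : act 6 n13574 = n12622 := d18_2 (iv F49683) D13574 (iv D12622)
def n13575 : Q := act 4 n12609
theorem D13575 : act 4 n12609 = n13575 := rfl
theorem F53592 : act 0 n13575 = n13575 := d3_1 D13575 (iv D13575) F49682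
theorem F53593 : act 3 n13575 = n12610 := d21_1 D13575 (iv D12610) (iv D11608) (iv F45685) D12609
theorem F53594 : act 6 n13575 = n12623 := d27_2 (iv F49683) D13575 (iv D12623)
theorem F53595 : act 5 n13413 = n13575 := d30_5 F53594 F49740 F48904 D12429 D13413
def n13576 : Q := act 2 n12612
theorem D13576 : act 2 n12612 = n13576 := rfl
theorem F53596 : act 0 n13576 = n13576 := d1_1 D13576 (iv D13576) F49694
theorem F53597 : act 5 n13576 = n12613 := d17_2 (iv F49696) D13576 (iv D12613)
theorem F53598 : act 6 n13576 = n13557 := d18_2 F50346 D13576 F53508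
theorem F53599 : act 7 n13576 = n13576 := d19_2 F49697 D13576 (iv D13576)
def n13577 : Q := act 1 n12613
theorem D13577 : act 1 n12613 = n13577 := rfl
theorem F53600 : act 2 n13577 = n12628 := d8_2 D12613 D13577 (iv D12628) (iv D11634) (iv F45703)
theorem F53601 : act 4 n13577 = n13577 := d10_2 F49699 D13577 (iv D13577)
theorem F53602 : act 6 n13577 = n12624 := d12_2 (iv F49700) D13577 (iv D12624)
theorem F53603 : act 7 n13577 = n13577 := d13_2 F49701 D13577 (iv D13577)
def n13578 : Q := act 7 n12615
theorem D13578 : act 7 n12615 = n13578 := rfl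
theorem F53604 : act 0 n13578 = n13578 := d6_1 D13578 (iv D13578) F49708
theorem F53605 : act 2 n13578 = n13578 := d19_1 D13578 (iv D13578) F49709
theorem F53606 : act 4 n13578 = n13467 := d28_1 D13578 (iv D13467) (iv F49711)
theorem F53607 : act 6 n13578 = n12617 := d33_1 D13578 (iv D12617) (iv F49712)
theorem F53608 : act 8 n13578 = n13465 := d35_2 D12615 D13578 (iv D13465) (iv D12474) F45717
def n13579 : Q := act 7 n12616
theorem D13579 : act 7 n12616 = n13579 := rfl
theorem F53609 : act 0 n13579 = n13579 := d6_1 D13579 (iv D13579) F49713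
theorem F53610 : act 2 n13579 = n13579 := d19_1 D13579 (iv D13579) F49714
theorem F53611 : act 4 n13579 = n13466 := d28_1 D13579 (iv D13466) (iv F49715)
theorem F53612 : act 5 n13579 = n12618 := d31_1 D13579 (iv D12618) (iv F49716)
theorem F53613 : act 6 n13579 = n13465 := d33_1 D13579 (iv D13465) (iv F49717)
theorem F53614 : act 8 n13579 = n12617 := d35_2 D12616 D13579 (iv D12617) (iv D11615) D11614
def n13580 : Q := act 3 n12618
theorem D13580 : act 3 n12618 = n13580 := rfl
theorem F53615 : act 0 n13580 = n13580 := d2_1 D13580 (iv D13580) F49721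
theorem F53616 : act 8 n13580 = n12619 := d25_2 (iv F49724) D13580 (iv D12619)
def n13581 : Q := act 3 n12620
theorem D13581 : act 3 n12620 = n13581 := rfl
theorem F53617 : act 0 n13581 = n13581 := d2_1 D13581 (iv D13581) F49727
theorem F53618 : act 2 n13581 = n13400 := d15_1 D13581 F52819 F49598 F46286 (iv F49728)
theorem F53619 : act 4 n13581 = n13058 := d21_2 (iv F49729) D13581 (iv D13058) F49764 (iv D12627)
theorem F53620 : act 6 n13581 = n12621 := d23_2 (iv F49730) D13581 (iv D12621)
def n13582 : Q := act 1 n12622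
theorem D13582 : act 1 n12622 = n13582 := rfl
theorem F53621 : act 3 n13582 = n12624 := d9_2 (iv F49736) D13582 (iv D12624)
theorem F53622 : act 5 n13582 = n13246 := d11_2 (iv F49737) D13582 F52323
def n13583 : Q := act 2 n12629
theorem D13583 : act 2 n12629 = n13583 := rfl
theorem F53623 : act 0 n13583 = n12685 := d1_1 D13583 (iv D12685) (iv F49768)
theorem F53624 : act 3 n13583 = n12631 := d15_2 D12629 D13583 (iv D12631) (iv D11639) (iv F45822)
theorem F53625 : act 7 n13583 = n13130 := d19_2 (iv F49770) D13583 (iv D13130)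
def n13584 : Q := act 4 n12629
theorem D13584 : act 4 n12629 = n13584 := rfl
theorem F53626 : act 0 n13584 = n12686 := d3_1 D13584 (iv D12686) (iv F49768)
theorem F53627 : act 1 n13584 = n13584 := d10_1 D13584 (iv D13584) F49769
theorem F53628 : act 3 n13584 = n13584 := d21_1 D13584 (iv D13584) (iv D12629) F45823 D12629
theorem F53629 : act 7 n13584 = n13131 := d28_2 (iv F49770) D13584 (iv D13131)
def n13585 : Q := act 8 n12629
theorem D13585 : act 8 n12629 = n13585 := rfl
theorem F53630 : act 0 n13585 = n12687 := d7_1 D13585 (iv D12687) (iv F49768)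
theorem F53631 : act 1 n13585 = n13585 := d14_1 D13585 (iv D13585) F49769
theorem F53632 : act 3 n13585 = n12630 := d25_1 D13585 (iv D12630) D12629
def n13586 : Q := act 1 n12631
theorem D13586 : act 1 n12631 = n13586 := rfl
theorem F53633 : act 2 n13586 = n12657 := d8_2 D12631 D13586 (iv D12657) (iv D11656) (iv F45825)
theorem F53634 : act 7 n13586 = n12634 := d13_2 (iv F49776) D13586 (iv D12634)
def n13587 : Q := act 4 n12631
theorem D13587 : act 4 n12631 = n13587 := rfl
theorem F53635 : act 0 n13587 = n12688 := d3_1 D13587 (iv D12688) (iv F49775)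
theorem F53636 : act 2 n13587 = n12632 := d16_1 D13587 (iv D12632) D12631
theorem F53637 : act 7 n13587 = n12635 := d28_2 (iv F49776) D13587 (iv D12635)
def n13588 : Q := act 8 n12631
theorem D13588 : act 8 n12631 = n13588 := rfl
theorem F53638 : act 0 n13588 = n12689 := d7_1 D13588 (iv D12689) (iv F49775)
theorem F53639 : act 2 n13588 = n12633 := d20_1 D13588 (iv D12633) D12631
def n13589 : Q := act 8 n12632
theorem D13589 : act 8 n12632 = n13589 := rfl
theorem F53640 : act 0 n13589 = n12691 := d7_1 D13589 (iv D12691) (iv F49777)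
theorem F53641 : act 1 n13589 = n12659 := d14_1 D13589 (iv D12659) (iv F49778)
theorem F53642 : act 3 n13589 = n13589 := d25_1 D13589 (iv D13589) F49779
theorem F53643 : act 4 n13589 = n12633 := d29_1 D13589 (iv D12633) D12632
def n13590 : Q := act 7 n12633
theorem D13590 : act 7 n12633 = n13590 := rfl
theorem F53644 : act 0 n13590 = n12692 := d6_1 D13590 (iv D12692) (iv F49781)
theorem F53645 : act 1 n13590 = n12660 := d13_1 D13590 (iv D12660) (iv F49782)
theorem F53646 : act 8 n13590 = n12639 := d35_2 D12633 D13590 (iv D12639) (iv D11643) (iv F45826)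
def n13591 : Q := act 4 n12634
theorem D13591 : act 4 n12634 = n13591 := rfl
theorem F53647 : act 1 n13591 = n12635 := d10_1 D13591 (iv D12635) D12634
theorem F53648 : act 2 n13591 = n12661 := d16_1 D13591 (iv D12661) (iv F49784)
def n13592 : Q := act 8 n12634
theorem D13592 : act 8 n12634 = n13592 := rfl
theorem F53649 : act 1 n13592 = n12636 := d14_1 D13592 (iv D12636) D12634
theorem F53650 : act 2 n13592 = n12662 := d20_1 D13592 (iv D12662) (iv F49784)
theorem F53651 : act 3 n13592 = n13154 := d25_1 D13592 (iv D13154) (iv F49785)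
def n13593 : Q := act 3 n12635
theorem D13593 : act 3 n12635 = n13593 := rfl
theorem F53652 : act 0 n13593 = n12693 := d2_1 D13593 (iv D12693) (iv F49786)
theorem F53653 : act 2 n13593 = n12640 := d15_1 D13593 (iv D12640) F45840 (iv F45834) (iv F49787)
theorem F53654 : act 4 n13593 = n13155 := d21_2 D12635 D13593 (iv D13155) (iv D12157) (iv F45831)
def n13594 : Q := act 5 n12635
theorem D13594 : act 5 n12635 = n13594 := rfl
theorem F53655 : act 0 n13594 = n12694 := d4_1 D13594 (iv D12694) (iv F49786)
theorem F53656 : act 2 n13594 = n12637 := d17_1 D13594 (iv D12637) (iv F49787)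
def n13595 : Q := act 8 n12635
theorem D13595 : act 8 n12635 = n13595 := rfl
theorem F53657 : act 0 n13595 = n12695 := d7_1 D13595 (iv D12695) (iv F49786)
theorem F53658 : act 2 n13595 = n12638 := d20_1 D13595 (iv D12638) (iv F49787)
theorem F53659 : act 4 n13595 = n12636 := d29_1 D13595 (iv D12636) D12635
def n13596 : Q := act 7 n12636
theorem D13596 : act 7 n12636 = n13596 := rfl
theorem F53660 : act 0 n13596 = n12696 := d6_1 D13596 (iv D12696) (iv F49788)
theorem F53661 : act 2 n13596 = n12639 := d19_1 D13596 (iv D12639) (iv F49789)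
def n13597 : Q := act 8 n12637
theorem D13597 : act 8 n12637 = n13597 := rfl
theorem F53662 : act 0 n13597 = n12698 := d7_1 D13597 (iv D12698) (iv F49791)
theorem F53663 : act 1 n13597 = n12665 := d14_1 D13597 (iv D12665) (iv F49792)
theorem F53664 : act 3 n13597 = n12645 := d25_1 D13597 (iv D12645) (iv F49793)
theorem F53665 : act 5 n13597 = n12638 := d32_1 D13597 (iv D12638) D12637
def n13598 : Q := act 7 n12638
theorem D13598 : act 7 n12638 = n13598 := rfl
theorem F53666 : act 0 n13598 = n12699 := d6_1 D13598 (iv D12699) (iv F49794)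
theorem F53667 : act 1 n13598 = n12666 := d13_1 D13598 (iv D12666) (iv F49795)
theorem F53668 : act 4 n13598 = n12639 := d28_1 D13598 (iv D12639) (iv F49797)
def n13599 : Q := act 5 n12640
theorem D13599 : act 5 n12640 = n13599 := rfl
theorem F53669 : act 0 n13599 = n12700 := d4_1 D13599 (iv D12700) (iv F49800)
theorem F53670 : act 1 n13599 = n13599 := d11_1 D13599 (iv D13599) F49801
theorem F53671 : act 3 n13599 = n12641 := d22_1 D13599 (iv D12641) D12640
def n13600 : Q := act 7 n12640
theorem D13600 : act 7 n12640 = n13600 := rfl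
theorem F53672 : act 0 n13600 = n12701 := d6_1 D13600 (iv D12701) (iv F49800)
theorem F53673 : act 1 n13600 = n13600 := d13_1 D13600 (iv D13600) F49801
theorem F53674 : act 3 n13600 = n13600 := d24_1 D13600 (iv D13600) (iv D12640) F45841 D12640
theorem F53675 : act 4 n13600 = n13168 := d28_1 D13600 (iv D13168) (iv F49802)
def n13601 : Q := act 8 n12640
theorem D13601 : act 8 n12640 = n13601 := rfl
theorem F53676 : act 0 n13601 = n12702 := d7_1 D13601 (iv D12702) (iv F49800)
theorem F53677 : act 1 n13601 = n13601 := d14_1 D13601 (iv D13601) F49801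
theorem F53678 : act 3 n13601 = n12642 := d25_1 D13601 (iv D12642) D12640
theorem F53679 : act 4 n13601 = n13169 := d29_1 D13601 (iv D13169) (iv F49802)
def n13602 : Q := act 6 n12641
theorem D13602 : act 6 n12641 = n13602 := rfl
theorem F53680 : act 0 n13602 = n12703 := d5_1 D13602 (iv D12703) (iv F49803)
theorem F53681 : act 1 n13602 = n13602 := d12_1 D13602 (iv D13602) F49804
theorem F53682 : act 2 n13602 = n12644 := d18_1 D13602 (iv D12644) (iv F49805)
theorem F53683 : act 4 n13602 = n12650 := d27_1 D13602 (iv D12650) (iv F49806)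
theorem F53684 : act 7 n13602 = n13602 := d33_2 F49807 D13602 (iv D13602)
def n13603 : Q := act 8 n12641
theorem D13603 : act 8 n12641 = n13603 := rfl
theorem F53685 : act 0 n13603 = n12704 := d7_1 D13603 (iv D12704) (iv F49803)
theorem F53686 : act 1 n13603 = n13603 := d14_1 D13603 (iv D13603) F49804
theorem F53687 : act 2 n13603 = n12645 := d20_1 D13603 (iv D12645) (iv F49805)
theorem F53688 : act 4 n13603 = n12651 := d29_1 D13603 (iv D12651) (iv F49806)
theorem F53689 : act 5 n13603 = n12642 := d32_1 D13603 (iv D12642) D12641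
def n13604 : Q := act 7 n12642
theorem D13604 : act 7 n12642 = n13604 := rfl
theorem F53690 : act 0 n13604 = n12705 := d6_1 D13604 (iv D12705) (iv F49808)
theorem F53691 : act 1 n13604 = n13604 := d13_1 D13604 (iv D13604) F49809
theorem F53692 : act 2 n13604 = n12646 := d19_1 D13604 (iv D12646) (iv F49810)
theorem F53693 : act 4 n13604 = n12643 := d28_1 D13604 (iv D12643) (iv F49811)
theorem F53694 : act 8 n13604 = n13604 := d35_2 D12642 D13604 (iv D13604) (iv D12642) F45841
def n13605 : Q := act 3 n12643
theorem D13605 : act 3 n12643 = n13605 := rfl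
theorem F53695 : act 0 n13605 = n12706 := d2_1 D13605 (iv D12706) (iv F49812)
theorem F53696 : act 1 n13605 = n13605 := d9_1 D13605 (iv D13605) F49813
theorem F53697 : act 2 n13605 = n13522 := d15_1 D13605 F53381 F50557 F46560 (iv F49814)
theorem F53698 : act 5 n13605 = n12653 := d22_2 (iv F49815) D13605 (iv D12653)
theorem F53699 : act 6 n13605 = n13526 := d23_2 F52899 D13605 F53398
theorem F53700 : act 7 n13605 = n13173 := d24_2 D12643 D13605 (iv D13173) (iv D12169) (iv F45845)
theorem F53701 : act 8 n13605 = n13605 := d25_2 F49816 D13605 (iv D13605)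
def n13606 : Q := act 8 n12644
theorem D13606 : act 8 n12644 = n13606 := rfl
theorem F53702 : act 0 n13606 = n12707 := d7_1 D13606 (iv D12707) (iv F49817)
theorem F53703 : act 1 n13606 = n12667 := d14_1 D13606 (iv D12667) (iv F49818)
theorem F53704 : act 4 n13606 = n12654 := d29_1 D13606 (iv D12654) (iv F49819)
theorem F53705 : act 6 n13606 = n12645 := d34_1 D13606 (iv D12645) D12644
def n13607 : Q := act 7 n12645
theorem D13607 : act 7 n12645 = n13607 := rfl
theorem F53706 : act 0 n13607 = n12708 := d6_1 D13607 (iv D12708) (iv F49821)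
theorem F53707 : act 1 n13607 = n12668 := d13_1 D13607 (iv D12668) (iv F49822)
theorem F53708 : act 4 n13607 = n12655 := d28_1 D13607 (iv D12655) (iv F49823)
theorem F53709 : act 5 n13607 = n12646 := d31_1 D13607 (iv D12646) (iv F49824)
theorem F53710 : act 8 n13607 = n13607 := d35_2 D12645 D13607 (iv D13607) (iv D12645) F45850
def n13608 : Q := act 3 n12646
theorem D13608 : act 3 n12646 = n13608 := rfl
theorem F53711 : act 0 n13608 = n12709 := d2_1 D13608 (iv D12709) (iv F49825)
theorem F53712 : act 1 n13608 = n12669 := d9_1 D13608 (iv D12669) (iv F49826)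
theorem F53713 : act 8 n13608 = n13608 := d25_2 F49828 D13608 (iv D13608)
def n13609 : Q := act 4 n12647
theorem D13609 : act 4 n12647 = n13609 := rfl
theorem F53714 : act 0 n13609 = n12710 := d3_1 D13609 (iv D12710) (iv F49829)
theorem F53715 : act 1 n13609 = n13609 := d10_1 D13609 (iv D13609) F49830
theorem F53716 : act 5 n13609 = n13177 := d26_2 D12647 D13609 (iv D13177) (iv D12173) (iv F45860)
def n13610 : Q := act 6 n12647
theorem D13610 : act 6 n12647 = n13610 := rfl
theorem F53717 : act 0 n13610 = n12711 := d5_1 D13610 (iv D12711) (iv F49829)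
theorem F53718 : act 1 n13610 = n13610 := d12_1 D13610 (iv D13610) F49830
theorem F53719 : act 3 n13610 = n12650 := d23_1 D13610 (iv D12650) (iv F49831)
theorem F53720 : act 5 n13610 = n13610 := d30_1 D13610 (iv D13610) (iv D12647) F45861 D12647
def n13611 : Q := act 7 n12647
theorem D13611 : act 7 n12647 = n13611 := rfl
theorem F53721 : act 0 n13611 = n12712 := d6_1 D13611 (iv D12712) (iv F49829)
theorem F53722 : act 1 n13611 = n13611 := d13_1 D13611 (iv D13611) F49830
theorem F53723 : act 2 n13611 = n13356 := d19_1 D13611 (iv F52663) F51777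
theorem F53724 : act 3 n13611 = n13611 := d24_1 D13611 (iv D13611) F49831 F45865 (iv F49831)
theorem F53725 : act 5 n13611 = n12648 := d31_1 D13611 (iv D12648) D12647
theorem F53726 : act 8 n12977 = n13611 := d32_0 F53725 (iv F49838) (iv F51172)
def n13612 : Q := act 8 n12647
theorem D13612 : act 8 n12647 = n13612 := rfl
theorem F53727 : act 0 n13612 = n12713 := d7_1 D13612 (iv D12713) (iv F49829)
theorem F53728 : act 1 n13612 = n13612 := d14_1 D13612 (iv D13612) F49830
theorem F53729 : act 2 n13612 = n13357 := d20_1 D13612 F52667 F51777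
theorem F53730 : act 3 n13612 = n12651 := d25_1 D13612 (iv D12651) (iv F49831)
theorem F53731 : act 5 n13612 = n12649 := d32_1 D13612 (iv D12649) D12647
theorem F53732 : act 7 n13612 = n12978 := d35_1 D13612 (iv D12978) D12977 F53726 (iv D13611)
def n13613 : Q := act 8 n12650
theorem D13613 : act 8 n12650 = n13613 := rfl
theorem F53733 : act 0 n13613 = n12716 := d7_1 D13613 (iv D12716) (iv F49846)
theorem F53734 : act 1 n13613 = n13613 := d14_1 D13613 (iv D13613) F49847
theorem F53735 : act 2 n13613 = n12654 := d20_1 D13613 (iv D12654) (iv F49848)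
theorem F53736 : act 5 n13613 = n13613 := d32_1 D13613 (iv D13613) F49849
theorem F53737 : act 6 n13613 = n12651 := d34_1 D13613 (iv D12651) D12650
def n13614 : Q := act 7 n12651
theorem D13614 : act 7 n12651 = n13614 := rfl
theorem F53738 : act 0 n13614 = n12717 := d6_1 D13614 (iv D12717) (iv F49851)
theorem F53739 : act 1 n13614 = n13614 := d13_1 D13614 (iv D13614) F49852
theorem F53740 : act 2 n13614 = n12655 := d19_1 D13614 (iv D12655) (iv F49853)
theorem F53741 : act 3 n13614 = n12980 := d24_1 D13614 (iv D12980) (iv F51175) (iv F53732) F53730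
theorem F53742 : act 5 n13614 = n12652 := d31_1 D13614 (iv D12652) (iv F49854)
theorem F53743 : act 8 n13614 = n13614 := d35_2 D12651 D13614 (iv D13614) (iv D12651) F45865
def n13615 : Q := act 7 n12654
theorem D13615 : act 7 n12654 = n13615 := rfl
theorem F53744 : act 0 n13615 = n12720 := d6_1 D13615 (iv D12720) (iv F49868)
theorem F53745 : act 1 n13615 = n12670 := d13_1 D13615 (iv D12670) (iv F49869)
theorem F53746 : act 5 n13615 = n13615 := d31_1 D13615 (iv D13615) F49870
theorem F53747 : act 6 n13615 = n12655 := d33_1 D13615 (iv D12655) (iv F49871)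
theorem F53748 : act 8 n13615 = n13615 := d35_2 D12654 D13615 (iv D13615) (iv D12654) F45879
def n13616 : Q := act 3 n12655
theorem D13616 : act 3 n12655 = n13616 := rfl
theorem F53749 : act 0 n13616 = n12721 := d2_1 D13616 (iv D12721) (iv F49872)
theorem F53750 : act 1 n13616 = n12671 := d9_1 D13616 (iv D12671) (iv F49873)
theorem F53751 : act 2 n13616 = n12982 := d15_1 D13616 (iv D12982) (iv F51182) (iv F53741) F53740
theorem F53752 : act 5 n13616 = n12656 := d22_2 (iv F49874) D13616 (iv D12656)
theorem F53753 : act 7 n13616 = n13360 := d24_2 D12655 D13616 F52683 (iv D13105) F47789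
theorem F53754 : act 8 n13616 = n13616 := d25_2 F49875 D13616 (iv D13616)
def n13617 : Q := act 8 n12657
theorem D13617 : act 8 n12657 = n13617 := rfl
theorem F53755 : act 1 n13617 = n12658 := d14_1 D13617 (iv D12658) D12657
theorem F53756 : act 3 n13617 = n13617 := d25_1 D13617 (iv D13617) F49882
def n13618 : Q := act 7 n12658
theorem D13618 : act 7 n12658 = n13618 := rfl
theorem F53757 : act 0 n13618 = n12675 := d6_1 D13618 (iv D12675) (iv F49884)
theorem F53758 : act 2 n13618 = n12660 := d19_1 D13618 (iv D12660) (iv F49885)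
theorem F53759 : act 8 n13618 = n12664 := d35_2 D12658 D13618 (iv D12664) (iv D11661) (iv F45890)
def n13619 : Q := act 7 n12659
theorem D13619 : act 7 n12659 = n13619 := rfl
theorem F53760 : act 0 n13619 = n12676 := d6_1 D13619 (iv D12676) (iv F49887)
theorem F53761 : act 4 n13619 = n12660 := d28_1 D13619 (iv D12660) (iv F49889)
theorem F53762 : act 8 n13619 = n12666 := d35_2 D12659 D13619 (iv D12666) (iv D11663) (iv F45893)
def n13620 : Q := act 8 n12661
theorem D13620 : act 8 n12661 = n13620 := rfl
theorem F53763 : act 1 n13620 = n12663 := d14_1 D13620 (iv D12663) (iv F49892)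
theorem F53764 : act 3 n13620 = n13620 := d25_1 D13620 (iv D13620) F49893
theorem F53765 : act 4 n13620 = n12662 := d29_1 D13620 (iv D12662) D12661
def n13621 : Q := act 7 n12662
theorem D13621 : act 7 n12662 = n13621 := rfl
theorem F53766 : act 1 n13621 = n12664 := d13_1 D13621 (iv D12664) (iv F49894)
def n13622 : Q := act 7 n12663
theorem D13622 : act 7 n12663 = n13622 := rfl
theorem F53767 : act 0 n13622 = n12677 := d6_1 D13622 (iv D12677) (iv F49896)
theorem F53768 : act 2 n13622 = n12666 := d19_1 D13622 (iv D12666) (iv F49897)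
theorem F53769 : act 4 n13622 = n12664 := d28_1 D13622 (iv D12664) (iv F49899)
def n13623 : Q := act 3 n12664
theorem D13623 : act 3 n12664 = n13623 := rfl
theorem F53770 : act 0 n13623 = n12678 := d2_1 D13623 (iv D12678) (iv F49900)
theorem F53771 : act 7 n13623 = n12674 := d24_2 D12664 D13623 (iv D12674) (iv D11672) (iv F45902)
def n13624 : Q := act 7 n12665
theorem D13624 : act 7 n12665 = n13624 := rfl
theorem F53772 : act 0 n13624 = n12679 := d6_1 D13624 (iv D12679) (iv F49902)
theorem F53773 : act 5 n13624 = n12666 := d31_1 D13624 (iv D12666) (iv F49904)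
def n13625 : Q := act 3 n12666
theorem D13625 : act 3 n12666 = n13625 := rfl
theorem F53774 : act 0 n13625 = n12680 := d2_1 D13625 (iv D12680) (iv F49905)
theorem F53775 : act 7 n13625 = n12669 := d24_2 D12666 D13625 (iv D12669) (iv D11667) (iv F45906)
def n13626 : Q := act 7 n12667
theorem D13626 : act 7 n12667 = n13626 := rfl
theorem F53776 : act 0 n13626 = n12681 := d6_1 D13626 (iv D12681) (iv F49907)
theorem F53777 : act 2 n13626 = n13626 := d19_1 D13626 (iv D13626) F49908
theorem F53778 : act 4 n13626 = n12670 := d28_1 D13626 (iv D12670) (iv F49909)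
theorem F53779 : act 6 n13626 = n12668 := d33_1 D13626 (iv D12668) (iv F49910)
theorem F53780 : act 8 n13626 = n13626 := d35_2 D12667 D13626 (iv D13626) (iv D12667) F45912
def n13627 : Q := act 3 n12668
theorem D13627 : act 3 n12668 = n13627 := rfl
theorem F53781 : act 0 n13627 = n12682 := d2_1 D13627 (iv D12682) (iv F49911)
theorem F53782 : act 5 n13627 = n12669 := d22_2 (iv F49914) D13627 (iv D12669)
theorem F53783 : act 8 n13627 = n13627 := d25_2 F49915 D13627 (iv D13627)
def n13628 : Q := act 2 n12669
theorem D13628 : act 2 n12669 = n13628 := rfl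
theorem F53784 : act 0 n13628 = n12683 := d1_1 D13628 (iv D12683) (iv F49916)
theorem F53785 : act 3 n13628 = n13628 := d15_2 D12669 D13628 (iv D13628) (iv D12669) F45918
theorem F53786 : act 8 n13628 = n13628 := d20_2 F49917 D13628 (iv D13628)
def n13629 : Q := act 3 n12673
theorem D13629 : act 3 n12673 = n13629 := rfl
theorem F53787 : act 1 n13629 = n12674 := d9_1 D13629 (iv D12674) (iv F49932)
theorem F53788 : act 8 n13629 = n13629 := d25_2 F49935 D13629 (iv D13629)
def n13630 : Q := act 4 n12674
theorem D13630 : act 4 n12674 = n13630 := rfl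
theorem F53789 : act 0 n13630 = n12684 := d3_1 D13630 (iv D12684) (iv F49936)
theorem F53790 : act 3 n13630 = n13630 := d21_1 D13630 (iv D13630) (iv D12674) F45937 D12674
theorem F53791 : act 8 n13630 = n13630 := d29_2 F49937 D13630 (iv D13630)
def n13631 : Q := act 3 n12675
theorem D13631 : act 3 n12675 = n13631 := rfl
theorem F53792 : act 7 n13631 = n13631 := d24_2 D12675 D13631 (iv D13631) (iv D12675) F45940
theorem F53793 : act 8 n13631 = n12678 := d25_2 (iv F49939) D13631 (iv D12678)
def n13632 : Q := act 3 n12676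
theorem D13632 : act 3 n12676 = n13632 := rfl
theorem F53794 : act 1 n13632 = n12736 := d9_1 D13632 (iv D12736) (iv F49940)
theorem F53795 : act 7 n13632 = n13632 := d24_2 D12676 D13632 (iv D13632) (iv D12676) F45942
theorem F53796 : act 8 n13632 = n12680 := d25_2 (iv F49942) D13632 (iv D12680)
def n13633 : Q := act 3 n12677
theorem D13633 : act 3 n12677 = n13633 := rfl
theorem F53797 : act 7 n13633 = n13633 := d24_2 D12677 D13633 (iv D13633) (iv D12677) F45947
def n13634 : Q := act 4 n12678
theorem D13634 : act 4 n12678 = n13634 := rfl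
theorem F53798 : act 7 n13634 = n12684 := d28_2 (iv F49945) D13634 (iv D12684)
def n13635 : Q := act 3 n12679
theorem D13635 : act 3 n12679 = n13635 := rfl
theorem F53799 : act 1 n13635 = n12738 := d9_1 D13635 (iv D12738) (iv F49946)
theorem F53800 : act 5 n13635 = n12680 := d22_2 (iv F49947) D13635 (iv D12680)
theorem F53801 : act 7 n13635 = n12682 := d24_2 D12679 D13635 (iv D12682) (iv D11681) (iv F45951)
def n13636 : Q := act 2 n12680
theorem D13636 : act 2 n12680 = n13636 := rfl
theorem F53802 : act 7 n13636 = n12683 := d19_2 (iv F49949) D13636 (iv D12683)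
def n13637 : Q := act 1 n12683
theorem D13637 : act 1 n12683 = n13637 := rfl
theorem F53803 : act 2 n13637 = n12743 := d8_2 D12683 D13637 (iv D12743) (iv D11733) (iv F45964)
theorem F53804 : act 3 n13637 = n13637 := d9_2 F49958 D13637 (iv D13637)
theorem F53805 : act 5 n13637 = n12684 := d11_2 F52313 D13637 (iv F52310)
theorem F53806 : act 8 n13637 = n13637 := d14_2 F49959 D13637 (iv D13637)
def n13638 : Q := act 4 n12685
theorem D13638 : act 4 n12685 = n13638 := rfl
theorem F53807 : act 2 n13638 = n12686 := d16_1 D13638 (iv D12686) D12685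
theorem F53808 : act 7 n13638 = n13290 := d28_2 (iv F49963) D13638 (iv D13290)
def n13639 : Q := act 8 n12685
theorem D13639 : act 8 n12685 = n13639 := rfl
theorem F53809 : act 2 n13639 = n12687 := d20_1 D13639 (iv D12687) D12685
theorem F53810 : act 3 n13639 = n12689 := d25_1 D13639 (iv D12689) (iv F49962)
def n13640 : Q := act 5 n12686
theorem D13640 : act 5 n12686 = n13640 := rfl
theorem F53811 : act 1 n13640 = n12745 := d11_1 D13640 (iv D12745) (iv F49964)
theorem F53812 : act 3 n13640 = n13640 := d22_1 D13640 (iv D13640) F49965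
theorem F53813 : act 4 n13640 = n13582 := d26_1 D13640 F53622 (iv D13246) F48330 D12686
theorem F53814 : act 7 n13640 = n13292 := d31_2 (iv F49966) D13640 (iv D13292)
def n13641 : Q := act 8 n12686
theorem D13641 : act 8 n12686 = n13641 := rfl
theorem F53815 : act 1 n13641 = n12746 := d14_1 D13641 (iv D12746) (iv F49964)
theorem F53816 : act 3 n13641 = n13641 := d25_1 D13641 (iv D13641) F49965
theorem F53817 : act 4 n13641 = n12687 := d29_1 D13641 (iv D12687) D12686
def n13642 : Q := act 7 n12687
theorem D13642 : act 7 n12687 = n13642 := rfl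
theorem F53818 : act 1 n13642 = n12747 := d13_1 D13642 (iv D12747) (iv F49967)
theorem F53819 : act 8 n13642 = n13294 := d35_2 D12687 D13642 (iv D13294) (iv D12307) (iv F45979)
def n13643 : Q := act 3 n12688
theorem D13643 : act 3 n12688 = n13643 := rfl
theorem F53820 : act 2 n13643 = n13643 := d15_1 D13643 (iv D13643) F49969 F45985 (iv F49969)
def n13644 : Q := act 5 n12688
theorem D13644 : act 5 n12688 = n13644 := rfl
theorem F53821 : act 2 n13644 = n12690 := d17_1 D13644 (iv D12690) (iv F49969)
theorem F53822 : act 7 n13644 = n12694 := d31_2 (iv F49970) D13644 (iv D12694)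
def n13645 : Q := act 8 n12688
theorem D13645 : act 8 n12688 = n13645 := rfl
theorem F53823 : act 2 n13645 = n12691 := d20_1 D13645 (iv D12691) (iv F49969)
theorem F53824 : act 4 n13645 = n12689 := d29_1 D13645 (iv D12689) D12688
def n13646 : Q := act 7 n12689
theorem D13646 : act 7 n12689 = n13646 := rfl
theorem F53825 : act 2 n13646 = n12692 := d19_1 D13646 (iv D12692) (iv F49971)
theorem F53826 : act 8 n13646 = n12696 := d35_2 D12689 D13646 (iv D12696) (iv D11693) (iv F45983)
def n13647 : Q := act 8 n12690
theorem D13647 : act 8 n12690 = n13647 := rfl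
theorem F53827 : act 1 n13647 = n12723 := d14_1 D13647 (iv D12723) (iv F49972)
theorem F53828 : act 3 n13647 = n13647 := d25_1 D13647 (iv D13647) F49973
theorem F53829 : act 5 n13647 = n12691 := d32_1 D13647 (iv D12691) D12690
def n13648 : Q := act 7 n12691
theorem D13648 : act 7 n12691 = n13648 := rfl
theorem F53830 : act 1 n13648 = n12724 := d13_1 D13648 (iv D12724) (iv F49975)
theorem F53831 : act 4 n13648 = n12692 := d28_1 D13648 (iv D12692) (iv F49977)
theorem F53832 : act 8 n13648 = n12699 := d35_2 D12691 D13648 (iv D12699) (iv D11695) (iv F45986)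
def n13649 : Q := act 5 n12693
theorem D13649 : act 5 n12693 = n13649 := rfl
theorem F53833 : act 2 n13649 = n12700 := d17_1 D13649 (iv D12700) (iv F49980)
theorem F53834 : act 3 n13649 = n12694 := d22_1 D13649 (iv D12694) D12693
def n13650 : Q := act 7 n12693
theorem D13650 : act 7 n12693 = n13650 := rfl
theorem F53835 : act 2 n13650 = n12701 := d19_1 D13650 (iv D12701) (iv F49980)
theorem F53836 : act 4 n13650 = n13323 := d28_1 D13650 (iv D13323) (iv F49981)
def n13651 : Q := act 8 n12693
theorem D13651 : act 8 n12693 = n13651 := rfl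
theorem F53837 : act 2 n13651 = n12702 := d20_1 D13651 (iv D12702) (iv F49980)
theorem F53838 : act 3 n13651 = n12695 := d25_1 D13651 (iv D12695) D12693
theorem F53839 : act 4 n13651 = n13324 := d29_1 D13651 (iv D13324) (iv F49981)
def n13652 : Q := act 6 n12694
theorem D13652 : act 6 n12694 = n13652 := rfl
theorem F53840 : act 2 n13652 = n12697 := d18_1 D13652 (iv D12697) (iv F49982)
def n13653 : Q := act 8 n12694
theorem D13653 : act 8 n12694 = n13653 := rfl
theorem F53841 : act 2 n13653 = n12698 := d20_1 D13653 (iv D12698) (iv F49982)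
theorem F53842 : act 5 n13653 = n12695 := d32_1 D13653 (iv D12695) D12694
def n13654 : Q := act 7 n12695
theorem D13654 : act 7 n12695 = n13654 := rfl
theorem F53843 : act 2 n13654 = n12699 := d19_1 D13654 (iv D12699) (iv F49983)
theorem F53844 : act 4 n13654 = n12696 := d28_1 D13654 (iv D12696) (iv F49984)
def n13655 : Q := act 3 n12696
theorem D13655 : act 3 n12696 = n13655 := rfl
theorem F53845 : act 7 n13655 = n13328 := d24_2 D12696 D13655 (iv D13328) (iv D12330) (iv F45991)
def n13656 : Q := act 8 n12697
theorem D13656 : act 8 n12697 = n13656 := rfl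
theorem F53846 : act 1 n13656 = n12725 := d14_1 D13656 (iv D12725) (iv F49986)
theorem F53847 : act 3 n13656 = n12707 := d25_1 D13656 (iv D12707) (iv F49987)
theorem F53848 : act 6 n13656 = n12698 := d34_1 D13656 (iv D12698) D12697
def n13657 : Q := act 7 n12698
theorem D13657 : act 7 n12698 = n13657 := rfl
theorem F53849 : act 1 n13657 = n12726 := d13_1 D13657 (iv D12726) (iv F49988)
theorem F53850 : act 5 n13657 = n12699 := d31_1 D13657 (iv D12699) (iv F49990)
def n13658 : Q := act 3 n12699
theorem D13658 : act 3 n12699 = n13658 := rfl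
theorem F53851 : act 1 n13658 = n12727 := d9_1 D13658 (iv D12727) (iv F49991)
theorem F53852 : act 7 n13658 = n12709 := d24_2 D12699 D13658 (iv D12709) (iv D11703) (iv F45995)
def n13659 : Q := act 4 n12700
theorem D13659 : act 4 n12700 = n13659 := rfl
theorem F53853 : act 1 n13659 = n12748 := d10_1 D13659 (iv D12748) (iv F49993)
theorem F53854 : act 3 n13659 = n12710 := d21_1 D13659 (iv D12710) F46021 (iv F46002) (iv F49994)
theorem F53855 : act 5 n13659 = n13341 := d26_2 D12700 D13659 (iv D13341) (iv D12341) (iv F45999)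
def n13660 : Q := act 6 n12700
theorem D13660 : act 6 n12700 = n13660 := rfl
theorem F53856 : act 1 n13660 = n12749 := d12_1 D13660 (iv D12749) (iv F49993)
theorem F53857 : act 3 n13660 = n12703 := d23_1 D13660 (iv D12703) (iv F49994)
def n13661 : Q := act 7 n12700
theorem D13661 : act 7 n12700 = n13661 := rfl
theorem F53858 : act 1 n13661 = n12750 := d13_1 D13661 (iv D12750) (iv F49993)
theorem F53859 : act 3 n13661 = n13661 := d24_1 D13661 (iv D13661) F49994 F46003 (iv F49994)
theorem F53860 : act 5 n13661 = n12701 := d31_1 D13661 (iv D12701) D12700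
def n13662 : Q := act 8 n12700
theorem D13662 : act 8 n12700 = n13662 := rfl
theorem F53861 : act 1 n13662 = n12751 := d14_1 D13662 (iv D12751) (iv F49993)
theorem F53862 : act 3 n13662 = n12704 := d25_1 D13662 (iv D12704) (iv F49994)
theorem F53863 : act 5 n13662 = n12702 := d32_1 D13662 (iv D12702) D12700
def n13663 : Q := act 8 n12701
theorem D13663 : act 8 n12701 = n13663 := rfl
theorem F53864 : act 1 n13663 = n12752 := d14_1 D13663 (iv D12752) (iv F49995)
theorem F53865 : act 3 n13663 = n13663 := d25_1 D13663 (iv D13663) F49996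
theorem F53866 : act 4 n13663 = n13345 := d29_1 D13663 (iv D13345) (iv F49997)
def n13664 : Q := act 7 n12702
theorem D13664 : act 7 n12702 = n13664 := rfl
theorem F53867 : act 1 n13664 = n12753 := d13_1 D13664 (iv D12753) (iv F49998)
theorem F53868 : act 4 n13664 = n13346 := d28_1 D13664 (iv D13346) (iv F50000)
def n13665 : Q := act 8 n12703
theorem D13665 : act 8 n12703 = n13665 := rfl
theorem F53869 : act 1 n13665 = n12754 := d14_1 D13665 (iv D12754) (iv F50001)
theorem F53870 : act 2 n13665 = n12707 := d20_1 D13665 (iv D12707) (iv F50002)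
theorem F53871 : act 4 n13665 = n12716 := d29_1 D13665 (iv D12716) (iv F50003)
theorem F53872 : act 6 n13665 = n12704 := d34_1 D13665 (iv D12704) D12703
def n13666 : Q := act 7 n12704
theorem D13666 : act 7 n12704 = n13666 := rfl
theorem F53873 : act 1 n13666 = n12755 := d13_1 D13666 (iv D12755) (iv F50005)
theorem F53874 : act 2 n13666 = n12708 := d19_1 D13666 (iv D12708) (iv F50006)
theorem F53875 : act 4 n13666 = n12717 := d28_1 D13666 (iv D12717) (iv F50007)
theorem F53876 : act 5 n13666 = n12705 := d31_1 D13666 (iv D12705) (iv F50008)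
theorem F53877 : act 8 n13666 = n13666 := d35_2 D12704 D13666 (iv D13666) (iv D12704) F46003
def n13667 : Q := act 3 n12705
theorem D13667 : act 3 n12705 = n13667 := rfl
theorem F53878 : act 1 n13667 = n12756 := d9_1 D13667 (iv D12756) (iv F50009)
theorem F53879 : act 8 n13667 = n13667 := d25_2 F50012 D13667 (iv D13667)
def n13668 : Q := act 4 n12706
theorem D13668 : act 4 n12706 = n13668 := rfl
theorem F53880 : act 1 n13668 = n12757 := d10_1 D13668 (iv D12757) (iv F50013)
theorem F53881 : act 7 n13668 = n13350 := d28_2 (iv F50015) D13668 (iv D13350)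
theorem F53882 : act 8 n13668 = n13668 := d29_2 F50016 D13668 (iv D13668)
def n13669 : Q := act 7 n12707
theorem D13669 : act 7 n12707 = n13669 := rfl
theorem F53883 : act 1 n13669 = n12728 := d13_1 D13669 (iv D12728) (iv F50017)
theorem F53884 : act 4 n13669 = n12720 := d28_1 D13669 (iv D12720) (iv F50018)
theorem F53885 : act 6 n13669 = n12708 := d33_1 D13669 (iv D12708) (iv F50019)
theorem F53886 : act 8 n13669 = n13669 := d35_2 D12707 D13669 (iv D13669) (iv D12707) F46013
def n13670 : Q := act 3 n12708
theorem D13670 : act 3 n12708 = n13670 := rfl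
theorem F53887 : act 1 n13670 = n12729 := d9_1 D13670 (iv D12729) (iv F50020)
theorem F53888 : act 5 n13670 = n12709 := d22_2 (iv F50022) D13670 (iv D12709)
theorem F53889 : act 8 n13670 = n13670 := d25_2 F50023 D13670 (iv D13670)
def n13671 : Q := act 2 n12709
theorem D13671 : act 2 n12709 = n13671 := rfl
theorem F53890 : act 8 n13671 = n13671 := d20_2 F50025 D13671 (iv D13671)
def n13672 : Q := act 8 n12710
theorem D13672 : act 8 n12710 = n13672 := rfl
theorem F53891 : act 1 n13672 = n12761 := d14_1 D13672 (iv D12761) (iv F50026)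
theorem F53892 : act 4 n13672 = n12713 := d29_1 D13672 (iv D12713) D12710
theorem F53893 : act 5 n13672 = n13354 := d32_1 D13672 (iv D13354) (iv F50027)
def n13673 : Q := act 8 n12711
theorem D13673 : act 8 n12711 = n13673 := rfl
theorem F53894 : act 1 n13673 = n12762 := d14_1 D13673 (iv D12762) (iv F50028)
theorem F53895 : act 3 n13673 = n12716 := d25_1 D13673 (iv D12716) (iv F50029)
theorem F53896 : act 5 n13673 = n13673 := d32_1 D13673 (iv D13673) F50030
theorem F53897 : act 6 n13673 = n12713 := d34_1 D13673 (iv D12713) D12711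
def n13674 : Q := act 8 n12712
theorem D13674 : act 8 n12712 = n13674 := rfl
theorem F53898 : act 0 n13674 = n12977 := d7_1 D13674 F53726 F53721
theorem F53899 : act 1 n13674 = n12763 := d14_1 D13674 (iv D12763) (iv F50031)
theorem F53900 : act 2 n13674 = n13179 := d20_1 D13674 F52397 F52394
theorem F53901 : act 3 n13674 = n13674 := d25_1 D13674 (iv D13674) F50032
theorem F53902 : act 5 n13674 = n12714 := d32_1 D13674 (iv D12714) (iv F50033)
theorem F53903 : act 7 n12835 = n13674 := d31_0 F53902 (iv F50043) D12835
def n13675 : Q := act 7 n12713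
theorem D13675 : act 7 n12713 = n13675 := rfl
theorem F53904 : act 0 n13675 = n12978 := d6_1 D13675 (iv F53732) F53727
theorem F53905 : act 1 n13675 = n12764 := d13_1 D13675 (iv D12764) (iv F50034)
theorem F53906 : act 2 n13675 = n13180 := d19_1 D13675 (iv F52402) F52399
theorem F53907 : act 5 n13675 = n12715 := d31_1 D13675 (iv D12715) (iv F50036)
theorem F53908 : act 8 n13675 = n12835 := d35_2 D12713 D13675 F53903 (iv D13674) (iv D12712)
theorem F53909 : act 3 n12837 = n13675 := d25_3 F53908 F50575 D12837
def n13676 : Q := act 7 n12716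
theorem D13676 : act 7 n12716 = n13676 := rfl
theorem F53910 : act 1 n13676 = n12767 := d13_1 D13676 (iv D12767) (iv F50051)
theorem F53911 : act 2 n13676 = n12720 := d19_1 D13676 (iv D12720) (iv F50052)
theorem F53912 : act 5 n13676 = n13676 := d31_1 D13676 (iv D13676) F50053
theorem F53913 : act 6 n13676 = n12717 := d33_1 D13676 (iv D12717) (iv F50054)
theorem F53914 : act 8 n13676 = n13676 := d35_2 D12716 D13676 (iv D13676) (iv D12716) F46033
def n13677 : Q := act 3 n12717
theorem D13677 : act 3 n12717 = n13677 := rfl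
theorem F53915 : act 0 n13677 = n12980 := d2_1 D13677 (iv F53741) F53738
theorem F53916 : act 1 n13677 = n12768 := d9_1 D13677 (iv D12768) (iv F50055)
theorem F53917 : act 5 n13677 = n12718 := d22_2 (iv F50057) D13677 (iv D12718)
theorem F53918 : act 7 n13677 = n12837 := d24_2 D12717 D13677 F53909 (iv D13675) F50035
theorem F53919 : act 8 n13677 = n13677 := d25_2 F50058 D13677 (iv D13677)
theorem F53920 : act 2 n12839 = n13677 := d19_3 F53918 F50581 D12839
def n13678 : Q := act 3 n12720
theorem D13678 : act 3 n12720 = n13678 := rfl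
theorem F53921 : act 1 n13678 = n12731 := d9_1 D13678 (iv D12731) (iv F50073)
theorem F53922 : act 5 n13678 = n13678 := d22_2 F50074 D13678 (iv D13678)
theorem F53923 : act 6 n13678 = n12721 := d23_2 (iv F50075) D13678 (iv D12721)
theorem F53924 : act 8 n13678 = n13678 := d25_2 F50076 D13678 (iv D13678)
def n13679 : Q := act 2 n12721
theorem D13679 : act 2 n12721 = n13679 := rfl
theorem F53925 : act 0 n13679 = n12982 := d1_1 D13679 (iv F53751) F53749
theorem F53926 : act 3 n13679 = n12839 := d15_2 D12721 D13679 F53920 (iv D13677) F50056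
theorem F53927 : act 5 n13679 = n12722 := d17_2 (iv F50078) D13679 (iv D12722)
theorem F53928 : act 7 n13679 = n13184 := d19_2 F52419 D13679 (iv F52417)
theorem F53929 : act 8 n13679 = n13679 := d20_2 F50079 D13679 (iv D13679)
theorem F53930 : act 1 n12872 = n13679 := d13_3 F53928 F52094 (iv F50742)
def n13680 : Q := act 4 n12721
theorem D13680 : act 4 n12721 = n13680 := rfl
theorem F53931 : act 1 n13680 = n12733 := d10_1 D13680 (iv D12733) (iv F50077)
theorem F53932 : act 8 n13680 = n13680 := d29_2 F50079 D13680 (iv D13680)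
def n13681 : Q := act 7 n12723
theorem D13681 : act 7 n12723 = n13681 := rfl
theorem F53933 : act 0 n13681 = n12735 := d6_1 D13681 (iv D12735) (iv F50087)
theorem F53934 : act 5 n13681 = n12724 := d31_1 D13681 (iv D12724) (iv F50089)
theorem F53935 : act 8 n13681 = n12726 := d35_2 D12723 D13681 (iv D12726) (iv D11718) (iv F46057)
def n13682 : Q := act 3 n12724
theorem D13682 : act 3 n12724 = n13682 := rfl
theorem F53936 : act 0 n13682 = n12736 := d2_1 D13682 (iv D12736) (iv F50090)
theorem F53937 : act 7 n13682 = n13682 := d24_2 D12724 D13682 (iv D13682) (iv D12724) F46059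
theorem F53938 : act 8 n13682 = n12727 := d25_2 (iv F50092) D13682 (iv D12727)
def n13683 : Q := act 7 n12725
theorem D13683 : act 7 n12725 = n13683 := rfl
theorem F53939 : act 0 n13683 = n12737 := d6_1 D13683 (iv D12737) (iv F50093)
theorem F53940 : act 6 n13683 = n12726 := d33_1 D13683 (iv D12726) (iv F50095)
def n13684 : Q := act 3 n12726
theorem D13684 : act 3 n12726 = n13684 := rfl
theorem F53941 : act 0 n13684 = n12738 := d2_1 D13684 (iv D12738) (iv F50096)
theorem F53942 : act 5 n13684 = n12727 := d22_2 (iv F50097) D13684 (iv D12727)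
theorem F53943 : act 7 n13684 = n12729 := d24_2 D12726 D13684 (iv D12729) (iv D11721) (iv F46066)
def n13685 : Q := act 2 n12727
theorem D13685 : act 2 n12727 = n13685 := rfl
theorem F53944 : act 0 n13685 = n12739 := d1_1 D13685 (iv D12739) (iv F50098)
theorem F53945 : act 7 n13685 = n12730 := d19_2 (iv F50099) D13685 (iv D12730)
def n13686 : Q := act 3 n12728
theorem D13686 : act 3 n12728 = n13686 := rfl
theorem F53946 : act 0 n13686 = n12740 := d2_1 D13686 (iv D12740) (iv F50100)
theorem F53947 : act 6 n13686 = n12729 := d23_2 (iv F50103) D13686 (iv D12729)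
theorem F53948 : act 8 n13686 = n13686 := d25_2 F50104 D13686 (iv D13686)
def n13687 : Q := act 2 n12729
theorem D13687 : act 2 n12729 = n13687 := rfl
theorem F53949 : act 0 n13687 = n12741 := d1_1 D13687 (iv D12741) (iv F50105)
theorem F53950 : act 3 n13687 = n12776 := d15_2 D12729 D13687 (iv D12776) (iv D11764) (iv F46075)
theorem F53951 : act 5 n13687 = n12730 := d17_2 (iv F50106) D13687 (iv D12730)
theorem F53952 : act 8 n13687 = n13687 := d20_2 F50107 D13687 (iv D13687)
def n13688 : Q := act 4 n12729
theorem D13688 : act 4 n12729 = n13688 := rfl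
theorem F53953 : act 0 n13688 = n12742 := d3_1 D13688 (iv D12742) (iv F50105)
theorem F53954 : act 3 n13688 = n12733 := d21_1 D13688 (iv D12733) (iv D11724) (iv F46076) D12729
theorem F53955 : act 8 n13688 = n13688 := d29_2 F50107 D13688 (iv D13688)
def n13689 : Q := act 1 n12730
theorem D13689 : act 1 n12730 = n13689 := rfl
theorem F53956 : act 3 n13689 = n12778 := d9_2 (iv F50109) D13689 (iv D12778)
theorem F53957 : act 8 n13689 = n13689 := d14_2 F50110 D13689 (iv D13689)
def n13690 : Q := act 1 n12732
theorem D13690 : act 1 n12732 = n13690 := rfl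
theorem F53958 : act 0 n13690 = n12805 := d0_1 D13690 F50451 (iv F46933) F46934 (iv F50115)
theorem F53959 : act 2 n13690 = n12872 := d8_2 D12732 D13690 F53930 (iv D13679) F50077
theorem F53960 : act 3 n13690 = n12781 := d9_2 (iv F50116) D13690 (iv D12781)
theorem F53961 : act 4 n13690 = n12919 := d10_2 F50766 D13690 F50975
theorem F53962 : act 5 n13690 = n12734 := d11_2 (iv F50117) D13690 (iv D12734)
theorem F53963 : act 6 n13690 = n12806 := d12_2 F51708 D13690 (iv F51704)
theorem F53964 : act 7 n13690 = n12804 := d13_2 (iv F50762) D13690 (iv F50756)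
theorem F53965 : act 8 n13690 = n13690 := d14_2 F50118 D13690 (iv D13690)
def n13691 : Q := act 3 n12735
theorem D13691 : act 3 n12735 = n13691 := rfl
theorem F53966 : act 5 n13691 = n12736 := d22_2 (iv F50128) D13691 (iv D12736)
theorem F53967 : act 7 n13691 = n13691 := d24_2 D12735 D13691 (iv D13691) (iv D12735) F46093
theorem F53968 : act 8 n13691 = n12738 := d25_2 (iv F50129) D13691 (iv D12738)
def n13692 : Q := act 3 n12737
theorem D13692 : act 3 n12737 = n13692 := rfl
theorem F53969 : act 6 n13692 = n12738 := d23_2 (iv F50132) D13692 (iv D12738)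
theorem F53970 : act 7 n13692 = n12740 := d24_2 D12737 D13692 (iv D12740) (iv D11731) (iv F46097)
def n13693 : Q := act 2 n12738
theorem D13693 : act 2 n12738 = n13693 := rfl
theorem F53971 : act 5 n13693 = n12739 := d17_2 (iv F50133) D13693 (iv D12739)
theorem F53972 : act 7 n13693 = n12741 := d19_2 (iv F50134) D13693 (iv D12741)
def n13694 : Q := act 4 n12738
theorem D13694 : act 4 n12738 = n13694 := rfl
theorem F53973 : act 7 n13694 = n12742 := d28_2 (iv F50134) D13694 (iv D12742)
def n13695 : Q := act 1 n12739
theorem D13695 : act 1 n12739 = n13695 := rfl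
theorem F53974 : act 7 n13695 = n12743 := d13_2 (iv F50135) D13695 (iv D12743)
def n13696 : Q := act 0 n12743
theorem D13696 : act 0 n12743 = n13696 := rfl
theorem F53975 : act 3 n13696 = n12784 := d2_2 (iv F50143) D13696 (iv D12784)
theorem F53976 : act 8 n13696 = n13696 := d7_2 F50144 D13696 (iv D13696)
def n13697 : Q := act 6 n12745
theorem D13697 : act 6 n12745 = n13697 := rfl
theorem F53977 : act 0 n13697 = n13697 := d5_1 D13697 (iv D13697) F50153
theorem F53978 : act 2 n13697 = n13575 := d18_1 D13697 F53594 (iv F50154)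
theorem F53979 : act 3 n13697 = n13697 := d23_1 D13697 (iv D13697) F50155
theorem F53980 : act 4 n13697 = n13574 := d27_1 D13697 F53591 (iv F50156)
theorem F53981 : act 7 n13697 = n13413 := d33_2 (iv F50157) D13697 (iv D13413)
def n13698 : Q := act 8 n12745
theorem D13698 : act 8 n12745 = n13698 := rfl
theorem F53982 : act 0 n13698 = n13698 := d7_1 D13698 (iv D13698) F50153
theorem F53983 : act 2 n13698 = n13463 := d20_1 D13698 F53087 (iv F50154)
theorem F53984 : act 3 n13698 = n13698 := d25_1 D13698 (iv D13698) F50155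
theorem F53985 : act 4 n13698 = n13462 := d29_1 D13698 F53083 (iv F50156)
theorem F53986 : act 5 n13698 = n12746 := d32_1 D13698 (iv D12746) D12745
def n13699 : Q := act 7 n12746
theorem D13699 : act 7 n12746 = n13699 := rfl
theorem F53987 : act 0 n13699 = n13699 := d6_1 D13699 (iv D13699) F50158
theorem F53988 : act 4 n13699 = n12747 := d28_1 D13699 (iv D12747) (iv F50160)
theorem F53989 : act 8 n13699 = n13415 := d35_2 D12746 D13699 (iv D13415) (iv D12430) (iv F46121)
def n13700 : Q := act 8 n12748
theorem D13700 : act 8 n12748 = n13700 := rfl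
theorem F53990 : act 0 n13700 = n13700 := d7_1 D13700 (iv D13700) F50163
theorem F53991 : act 3 n13700 = n12761 := d25_1 D13700 (iv D12761) (iv F50164)
theorem F53992 : act 4 n13700 = n12751 := d29_1 D13700 (iv D12751) D12748
theorem F53993 : act 5 n13700 = n13454 := d32_1 D13700 (iv D13454) (iv F50165)
def n13701 : Q := act 8 n12749
theorem D13701 : act 8 n12749 = n13701 := rfl
theorem F53994 : act 0 n13701 = n13701 := d7_1 D13701 (iv D13701) F50166
theorem F53995 : act 3 n13701 = n12754 := d25_1 D13701 (iv D12754) (iv F50167)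
theorem F53996 : act 6 n13701 = n12751 := d34_1 D13701 (iv D12751) D12749
def n13702 : Q := act 8 n12750
theorem D13702 : act 8 n12750 = n13702 := rfl
theorem F53997 : act 0 n13702 = n13702 := d7_1 D13702 (iv D13702) F50168
theorem F53998 : act 3 n13702 = n13702 := d25_1 D13702 (iv D13702) F50169
theorem F53999 : act 5 n13702 = n12752 := d32_1 D13702 (iv D12752) (iv F50170)
def n13703 : Q := act 7 n12751
theorem D13703 : act 7 n12751 = n13703 := rfl
theorem F54000 : act 0 n13703 = n13703 := d6_1 D13703 (iv D13703) F50171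
theorem F54001 : act 5 n13703 = n12753 := d31_1 D13703 (iv D12753) (iv F50173)
def n13704 : Q := act 7 n12752
theorem D13704 : act 7 n12752 = n13704 := rfl
theorem F54002 : act 0 n13704 = n13704 := d6_1 D13704 (iv D13704) F50174
theorem F54003 : act 4 n13704 = n13458 := d28_1 D13704 (iv D13458) (iv F50176)
theorem F54004 : act 8 n13704 = n12753 := d35_2 D12752 D13704 (iv D12753) (iv D11742) D11741
def n13705 : Q := act 3 n12753
theorem D13705 : act 3 n12753 = n13705 := rfl
theorem F54005 : act 0 n13705 = n13705 := d2_1 D13705 (iv D13705) F50177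
theorem F54006 : act 7 n13705 = n12756 := d24_2 D12753 D13705 (iv D12756) (iv D11745) (iv F46130)
def n13706 : Q := act 7 n12754
theorem D13706 : act 7 n12754 = n13706 := rfl
theorem F54007 : act 0 n13706 = n13706 := d6_1 D13706 (iv D13706) F50179
theorem F54008 : act 2 n13706 = n12758 := d19_1 D13706 (iv D12758) (iv F50180)
theorem F54009 : act 4 n13706 = n12767 := d28_1 D13706 (iv D12767) (iv F50181)
theorem F54010 : act 6 n13706 = n12755 := d33_1 D13706 (iv D12755) (iv F50182)
theorem F54011 : act 8 n13706 = n13706 := d35_2 D12754 D13706 (iv D13706) (iv D12754) F46135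
def n13707 : Q := act 3 n12755
theorem D13707 : act 3 n12755 = n13707 := rfl
theorem F54012 : act 0 n13707 = n13707 := d2_1 D13707 (iv D13707) F50183
theorem F54013 : act 5 n13707 = n12756 := d22_2 (iv F50186) D13707 (iv D12756)
theorem F54014 : act 8 n13707 = n13707 := d25_2 F50187 D13707 (iv D13707)
def n13708 : Q := act 2 n12756
theorem D13708 : act 2 n12756 = n13708 := rfl
theorem F54015 : act 0 n13708 = n13708 := d1_1 D13708 (iv D13708) F50188
theorem F54016 : act 3 n13708 = n12760 := d15_2 D12756 D13708 (iv D12760) (iv D11749) (iv F46141)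
theorem F54017 : act 8 n13708 = n13708 := d20_2 F50189 D13708 (iv D13708)
def n13709 : Q := act 4 n12756
theorem D13709 : act 4 n12756 = n13709 := rfl
theorem F54018 : act 0 n13709 = n13709 := d3_1 D13709 (iv D13709) F50188
theorem F54019 : act 3 n13709 = n12757 := d21_1 D13709 (iv D12757) (iv D11746) (iv F46142) D12756
theorem F54020 : act 8 n13709 = n13709 := d29_2 F50189 D13709 (iv D13709)
def n13710 : Q := act 3 n12758
theorem D13710 : act 3 n12758 = n13710 := rfl
theorem F54021 : act 0 n13710 = n13710 := d2_1 D13710 (iv D13710) F50194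
theorem F54022 : act 1 n13710 = n12775 := d9_1 D13710 (iv D12775) (iv F50195)
theorem F54023 : act 6 n13710 = n12759 := d23_2 (iv F50197) D13710 (iv D12759)
theorem F54024 : act 8 n13710 = n13710 := d25_2 F50198 D13710 (iv D13710)
def n13711 : Q := act 2 n12759
theorem D13711 : act 2 n12759 = n13711 := rfl
theorem F54025 : act 0 n13711 = n13711 := d1_1 D13711 (iv D13711) F50199
theorem F54026 : act 5 n13711 = n12760 := d17_2 (iv F50201) D13711 (iv D12760)
theorem F54027 : act 8 n13711 = n13711 := d20_2 F50202 D13711 (iv D13711)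
def n13712 : Q := act 4 n12759
theorem D13712 : act 4 n12759 = n13712 := rfl
theorem F54028 : act 0 n13712 = n13712 := d3_1 D13712 (iv D13712) F50199
theorem F54029 : act 1 n13712 = n12777 := d10_1 D13712 (iv D12777) (iv F50200)
theorem F54030 : act 3 n13712 = n12773 := d21_1 D13712 (iv D12773) (iv D11761) (iv F46155) D12759
theorem F54031 : act 5 n13712 = n13712 := d26_2 (iv F50201) D13712 (iv D13712) F50201 F46160
theorem F54032 : act 8 n13712 = n13712 := d29_2 F50202 D13712 (iv D13712)
def n13713 : Q := act 1 n12760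
theorem D13713 : act 1 n12760 = n13713 := rfl
theorem F54033 : act 2 n13713 = n12778 := d8_2 D12760 D13713 (iv D12778) (iv D11765) (iv F46159)
theorem F54034 : act 4 n13713 = n13713 := d10_2 F50204 D13713 (iv D13713)
theorem F54035 : act 8 n13713 = n13713 := d14_2 F50205 D13713 (iv D13713)
def n13714 : Q := act 7 n12761
theorem D13714 : act 7 n12761 = n13714 := rfl
theorem F54036 : act 0 n13714 = n13714 := d6_1 D13714 (iv D13714) F50206
theorem F54037 : act 2 n13714 = n13714 := d19_1 D13714 (iv D13714) F50207
theorem F54038 : act 4 n13714 = n12764 := d28_1 D13714 (iv D12764) (iv F50208)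
theorem F54039 : act 5 n13714 = n13465 := d31_1 D13714 (iv D13465) (iv F50209)
def n13715 : Q := act 7 n12762
theorem D13715 : act 7 n12762 = n13715 := rfl
theorem F54040 : act 0 n13715 = n13715 := d6_1 D13715 (iv D13715) F50210
theorem F54041 : act 2 n13715 = n13715 := d19_1 D13715 (iv D13715) F50211
theorem F54042 : act 5 n13715 = n13715 := d31_1 D13715 (iv D13715) F50213
theorem F54043 : act 6 n13715 = n12764 := d33_1 D13715 (iv D12764) (iv F50214)
def n13716 : Q := act 7 n12763
theorem D13716 : act 7 n12763 = n13716 := rfl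
theorem F54044 : act 0 n13716 = n13716 := d6_1 D13716 (iv D13716) F50215
theorem F54045 : act 1 n13716 = n12835 := d13_1 D13716 F53903 F53899
theorem F54046 : act 2 n13716 = n13716 := d19_1 D13716 (iv D13716) F50216
theorem F54047 : act 5 n13716 = n12765 := d31_1 D13716 (iv D12765) (iv F50218)
theorem F54048 : act 8 n13716 = n12764 := d35_2 D12763 D13716 (iv D12764) (iv D11753) D11752
theorem F54049 : act 3 n12790 = n13716 := d22_3 F54047 (iv F50228) D12790
def n13717 : Q := act 3 n12764
theorem D13717 : act 3 n12764 = n13717 := rfl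
theorem F54050 : act 0 n13717 = n13717 := d2_1 D13717 (iv D13717) F50219
theorem F54051 : act 1 n13717 = n12837 := d9_1 D13717 F53909 F53905
theorem F54052 : act 5 n13717 = n12766 := d22_2 (iv F50221) D13717 (iv D12766)
theorem F54053 : act 7 n13717 = n12768 := d24_2 D12764 D13717 (iv D12768) (iv D11757) (iv F46175)
theorem F54054 : act 8 n13717 = n12790 := d25_2 F54048 D13717 F54049
theorem F54055 : act 2 n12792 = n13717 := d20_3 F54054 F50360 D12792
def n13718 : Q := act 3 n12767
theorem D13718 : act 3 n12767 = n13718 := rfl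
theorem F54056 : act 0 n13718 = n13718 := d2_1 D13718 (iv D13718) F50236
theorem F54057 : act 2 n13718 = n13712 := d15_1 D13718 F54030 F50305 (iv D12771) (iv F50237)
theorem F54058 : act 5 n13718 = n13718 := d22_2 F50238 D13718 (iv D13718)
theorem F54059 : act 6 n13718 = n12768 := d23_2 (iv F50239) D13718 (iv D12768)
theorem F54060 : act 8 n13718 = n13718 := d25_2 F50240 D13718 (iv D13718)
theorem F54061 : act 4 n13711 = n13718 := d16_0 F54057 (iv D13712) D13711
def n13719 : Q := act 2 n12768
theorem D13719 : act 2 n12768 = n13719 := rfl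
theorem F54062 : act 0 n13719 = n13719 := d1_1 D13719 (iv D13719) F50241
theorem F54063 : act 1 n13719 = n12797 := d8_1 D13719 F50401 (iv F50589) F53920 F53916
theorem F54064 : act 3 n13719 = n12772 := d15_2 D12768 D13719 (iv D12772) (iv D11761) (iv F46191)
theorem F54065 : act 5 n13719 = n12769 := d17_2 (iv F50242) D13719 (iv D12769)
theorem F54066 : act 6 n13719 = n13712 := d18_2 F54059 D13719 (iv F54057)
theorem F54067 : act 7 n13719 = n12792 := d19_2 F54053 D13719 F54055
theorem F54068 : act 8 n13719 = n13719 := d20_2 F50243 D13719 (iv D13719)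
theorem F54069 : act 4 n13710 = n13719 := d27_3 F54066 (iv D13712) (iv F54023)
def n13720 : Q := act 4 n12768
theorem D13720 : act 4 n12768 = n13720 := rfl
theorem F54070 : act 0 n13720 = n13720 := d3_1 D13720 (iv D13720) F50241
theorem F54071 : act 2 n13720 = n13710 := d16_1 D13720 F54069 (iv D13719)
theorem F54072 : act 6 n13720 = n13711 := d27_2 F54059 D13720 F54061
theorem F54073 : act 8 n13720 = n13720 := d29_2 F50243 D13720 (iv D13720)
def n13721 : Q := act 1 n12776
theorem D13721 : act 1 n12776 = n13721 := rfl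
theorem F54074 : act 5 n13721 = n12778 := d11_2 (iv F50284) D13721 (iv D12778)
theorem F54075 : act 8 n13721 = n13721 := d14_2 F50285 D13721 (iv D13721)
def n13722 : Q := act 0 n12778
theorem D13722 : act 0 n12778 = n13722 := rfl
theorem F54076 : act 1 n13722 = n12784 := d0_2 D12778 D13722 (iv D12784) (iv D11773) (iv F46224)
theorem F54077 : act 4 n13722 = n13722 := d3_2 F50290 D13722 (iv D13722)
theorem F54078 : act 8 n13722 = n13722 := d7_2 F50291 D13722 (iv D13722)
def n13723 : Q := act 8 n12787
theorem D13723 : act 8 n12787 = n13723 := rfl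
theorem F54079 : act 0 n13723 = n13723 := d7_1 D13723 (iv D13723) F50342
theorem F54080 : act 1 n13723 = n12794 := d14_1 D13723 (iv D12794) (iv F50343)
theorem F54081 : act 3 n13723 = n13451 := d25_1 D13723 F53042 (iv F50344)
theorem F54082 : act 4 n13723 = n12792 := d29_1 D13723 (iv D12792) (iv F50345)
theorem F54083 : act 5 n13723 = n12788 := d32_1 D13723 (iv D12788) D12787
theorem F54084 : act 6 n13723 = n13452 := d34_1 D13723 F53047 (iv F50346)
theorem F54085 : act 7 n13710 = n13723 := d33_0 F54084 F53046 (iv F54023)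
def n13724 : Q := act 7 n12788
theorem D13724 : act 7 n12788 = n13724 := rfl
theorem F54086 : act 0 n13724 = n13724 := d6_1 D13724 (iv D13724) F50348
theorem F54087 : act 1 n13724 = n12795 := d13_1 D13724 (iv D12795) (iv F50349)
theorem F54088 : act 3 n13724 = n13438 := d24_1 D13724 (iv D13438) F48999 D12471 (iv F50350)
theorem F54089 : act 4 n13724 = n12789 := d28_1 D13724 (iv D12789) (iv F50351)
theorem F54090 : act 5 n13724 = n13710 := d31_1 D13724 F54085 F54083
theorem F54091 : act 6 n13724 = n13439 := d33_1 D13724 F52981 (iv F50352)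
theorem F54092 : act 8 n13724 = n13724 := d35_2 D12788 D13724 (iv D13724) (iv D12788) F46288
def n13725 : Q := act 6 n12790
theorem D13725 : act 6 n12790 = n13725 := rfl
theorem F54093 : act 0 n13725 = n13725 := d5_1 D13725 (iv D13725) F50358
theorem F54094 : act 1 n13725 = n12836 := d12_1 D13725 (iv D12836) (iv F50359)
theorem F54095 : act 2 n13725 = n12791 := d18_1 D13725 (iv D12791) (iv F50360)
theorem F54096 : act 4 n13725 = n13576 := d27_1 D13725 F53598 F53509
theorem F54097 : act 5 n13725 = n13725 := d30_1 D13725 (iv D13725) (iv D12790) F46296 D12790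
theorem F54098 : act 7 n13725 = n13725 := d33_2 F50361 D13725 (iv D13725)
def n13726 : Q := act 8 n12791
theorem D13726 : act 8 n12791 = n13726 := rfl
theorem F54099 : act 0 n13726 = n13726 := d7_1 D13726 (iv D13726) F50362
theorem F54100 : act 1 n13726 = n12796 := d14_1 D13726 (iv D12796) (iv F50363)
theorem F54101 : act 3 n13726 = n13726 := d25_1 D13726 (iv D13726) F50364
theorem F54102 : act 4 n13726 = n13452 := d29_1 D13726 F53047 (iv F50365)
theorem F54103 : act 5 n13726 = n13726 := d32_1 D13726 (iv D13726) F50366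
theorem F54104 : act 6 n13726 = n12792 := d34_1 D13726 (iv D12792) D12791
theorem F54105 : act 7 n13712 = n13726 := d33_0 F54104 (iv F54067) F54066
def n13727 : Q := act 8 n12799
theorem D13727 : act 8 n12799 = n13727 := rfl
theorem F54106 : act 0 n13727 = n12800 := d7_1 D13727 (iv D12800) D12799
theorem F54107 : act 1 n13727 = n12802 := d14_1 D13727 (iv D12802) (iv F50414)
theorem F54108 : act 3 n13727 = n13183 := d25_1 D13727 F52092 (iv F50415)
theorem F54109 : act 4 n13727 = n12880 := d29_1 D13727 (iv D12880) (iv F50416)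
theorem F54110 : act 5 n13727 = n13727 := d32_1 D13727 (iv D13727) F50417
theorem F54111 : act 6 n13727 = n13184 := d34_1 D13727 F52096 (iv F50418)
def n13728 : Q := act 7 n12800
theorem D13728 : act 7 n12800 = n13728 := rfl
theorem F54112 : act 1 n13728 = n12801 := d13_1 D13728 (iv D12801) (iv F50420)
theorem F54113 : act 3 n13728 = n12981 := d24_1 D13728 (iv D12981) F47091 D12361 (iv F50421)
theorem F54114 : act 4 n13728 = n12881 := d28_1 D13728 (iv D12881) (iv F50422)
theorem F54115 : act 5 n13728 = n13728 := d31_1 D13728 (iv D13728) F50423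
theorem F54116 : act 6 n13728 = n12982 := d33_1 D13728 F51191 (iv F50424)
theorem F54117 : act 8 n13728 = n13728 := d35_2 D12800 D13728 (iv D13728) (iv D12800) F46363
def n13729 : Q := act 7 n12802
theorem D13729 : act 7 n12802 = n13729 := rfl
theorem F54118 : act 0 n13729 = n12803 := d6_1 D13729 (iv D12803) (iv F50432)
theorem F54119 : act 2 n13729 = n12806 := d19_1 D13729 (iv D12806) (iv F50433)
theorem F54120 : act 3 n13729 = n12871 := d24_1 D13729 (iv D12871) F46676 D12215 (iv F50434)
theorem F54121 : act 4 n13729 = n12916 := d28_1 D13729 (iv D12916) (iv F50435)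
theorem F54122 : act 5 n13729 = n13729 := d31_1 D13729 (iv D13729) F50436
theorem F54123 : act 6 n13729 = n12872 := d33_1 D13729 F50742 (iv F50437)
theorem F54124 : act 8 n13729 = n13729 := d35_2 D12802 D13729 (iv D13729) (iv D12802) F46428
def n13730 : Q := act 2 n12807
theorem D13730 : act 2 n12807 = n13730 := rfl
theorem F54125 : act 0 n13730 = n12924 := d1_1 D13730 (iv D12924) (iv F50463)
theorem F54126 : act 3 n13730 = n12812 := d15_2 D12807 D13730 (iv D12812) (iv D11820) (iv F46491)
theorem F54127 : act 5 n13730 = n13130 := d17_2 (iv F50465) D13730 (iv D13130)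
def n13731 : Q := act 4 n12807
theorem D13731 : act 4 n12807 = n13731 := rfl
theorem F54128 : act 0 n13731 = n12925 := d3_1 D13731 (iv D12925) (iv F50463)
theorem F54129 : act 1 n13731 = n13731 := d10_1 D13731 (iv D13731) F50464
theorem F54130 : act 3 n13731 = n13731 := d21_1 D13731 (iv D13731) (iv D12807) F46492 D12807
theorem F54131 : act 6 n13731 = n12966 := d27_2 F52371 D13731 (iv F52370)
theorem F54132 : act 7 n13731 = n12958 := d28_2 F51716 D13731 (iv F51713)
def n13732 : Q := act 8 n12807
theorem D13732 : act 8 n12807 = n13732 := rfl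
theorem F54133 : act 0 n13732 = n12926 := d7_1 D13732 (iv D12926) (iv F50463)
theorem F54134 : act 1 n13732 = n13732 := d14_1 D13732 (iv D13732) F50464
theorem F54135 : act 3 n13732 = n12808 := d25_1 D13732 (iv D12808) D12807
theorem F54136 : act 5 n13732 = n13132 := d32_1 D13732 (iv D13132) (iv F50465)
def n13733 : Q := act 3 n12809
theorem D13733 : act 3 n12809 = n13733 := rfl
theorem F54137 : act 0 n13733 = n12928 := d2_1 D13733 (iv D12928) (iv F50472)
theorem F54138 : act 1 n13733 = n12840 := d9_1 D13733 (iv D12840) (iv F50473)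
theorem F54139 : act 4 n13733 = n13110 := d21_2 (iv F50474) D13733 F51808 (iv F51681) F51680
theorem F54140 : act 5 n13733 = n12810 := d22_2 (iv F50475) D13733 (iv D12810)
theorem F54141 : act 6 n13733 = n13133 := d23_2 (iv F50476) D13733 (iv D13133)
theorem F54142 : act 7 n13733 = n12815 := d24_2 D12809 D13733 (iv D12815) (iv D11822) (iv F46496)
def n13734 : Q := act 8 n12809
theorem D13734 : act 8 n12809 = n13734 := rfl
theorem F54143 : act 0 n13734 = n12929 := d7_1 D13734 (iv D12929) (iv F50472)
theorem F54144 : act 1 n13734 = n12841 := d14_1 D13734 (iv D12841) (iv F50473)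
theorem F54145 : act 4 n13734 = n13272 := d29_1 D13734 F52415 (iv F50474)
theorem F54146 : act 5 n13734 = n12811 := d32_1 D13734 (iv D12811) (iv F50475)
theorem F54147 : act 6 n13734 = n13134 := d34_1 D13734 (iv D13134) (iv F50476)
theorem F54148 : act 7 n13734 = n13081 := d35_1 D13734 (iv D13081) F47574 (iv F46498) D12809
def n13735 : Q := act 2 n12810
theorem D13735 : act 2 n12810 = n13735 := rfl
theorem F54149 : act 0 n13735 = n12930 := d1_1 D13735 (iv D12930) (iv F50477)
theorem F54150 : act 6 n13735 = n12812 := d18_2 (iv F50479) D13735 (iv D12812)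
theorem F54151 : act 7 n13735 = n12817 := d19_2 (iv F50480) D13735 (iv D12817)
def n13736 : Q := act 4 n12810
theorem D13736 : act 4 n12810 = n13736 := rfl
theorem F54152 : act 0 n13736 = n12931 := d3_1 D13736 (iv D12931) (iv F50477)
theorem F54153 : act 1 n13736 = n12843 := d10_1 D13736 (iv D12843) (iv F50478)
theorem F54154 : act 3 n13736 = n13736 := d21_1 D13736 (iv D13736) (iv D12810) F46502 D12810
theorem F54155 : act 5 n13736 = n13198 := d26_2 F54140 D13736 (iv D13198) (iv F51809) (iv F54139)
theorem F54156 : act 6 n13736 = n12813 := d27_2 (iv F50479) D13736 (iv D12813)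
theorem F54157 : act 7 n13736 = n12818 := d28_2 (iv F50480) D13736 (iv D12818)
def n13737 : Q := act 8 n12810
theorem D13737 : act 8 n12810 = n13737 := rfl
theorem F54158 : act 0 n13737 = n12932 := d7_1 D13737 (iv D12932) (iv F50477)
theorem F54159 : act 1 n13737 = n12844 := d14_1 D13737 (iv D12844) (iv F50478)
theorem F54160 : act 3 n13737 = n12811 := d25_1 D13737 (iv D12811) D12810
theorem F54161 : act 6 n13737 = n12814 := d34_1 D13737 (iv D12814) (iv F50479)
def n13738 : Q := act 1 n12812
theorem D13738 : act 1 n12812 = n13738 := rfl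
theorem F54162 : act 2 n13738 = n12845 := d8_2 D12812 D13738 (iv D12845) (iv D11845) (iv F46505)
theorem F54163 : act 5 n13738 = n13137 := d11_2 (iv F50487) D13738 (iv D13137)
theorem F54164 : act 7 n13738 = n12820 := d13_2 (iv F50488) D13738 (iv D12820)
def n13739 : Q := act 4 n12812
theorem D13739 : act 4 n12812 = n13739 := rfl
theorem F54165 : act 0 n13739 = n12934 := d3_1 D13739 (iv D12934) (iv F50486)
theorem F54166 : act 2 n13739 = n12813 := d16_1 D13739 (iv D12813) D12812
theorem F54167 : act 7 n13739 = n12821 := d28_2 (iv F50488) D13739 (iv D12821)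
def n13740 : Q := act 8 n12812
theorem D13740 : act 8 n12812 = n13740 := rfl
theorem F54168 : act 0 n13740 = n12935 := d7_1 D13740 (iv D12935) (iv F50486)
theorem F54169 : act 2 n13740 = n12814 := d20_1 D13740 (iv D12814) D12812
theorem F54170 : act 5 n13740 = n13139 := d32_1 D13740 (iv D13139) (iv F50487)
def n13741 : Q := act 5 n12813
theorem D13741 : act 5 n12813 = n13741 := rfl
theorem F54171 : act 0 n13741 = n12936 := d4_1 D13741 (iv D12936) (iv F50489)
theorem F54172 : act 1 n13741 = n12848 := d11_1 D13741 (iv D12848) (iv F50490)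
theorem F54173 : act 3 n13741 = n13741 := d22_1 D13741 (iv D13741) F50491
theorem F54174 : act 4 n13741 = n13140 := d26_1 D13741 (iv D13140) (iv D12149) (iv F46506) D12813
theorem F54175 : act 6 n13741 = n13206 := d30_2 F54156 D13741 (iv D13206) (iv F52149) (iv F54155)
theorem F54176 : act 7 n13741 = n12823 := d31_2 (iv F50492) D13741 (iv D12823)
def n13742 : Q := act 8 n12813
theorem D13742 : act 8 n12813 = n13742 := rfl
theorem F54177 : act 0 n13742 = n12937 := d7_1 D13742 (iv D12937) (iv F50489)
theorem F54178 : act 1 n13742 = n12849 := d14_1 D13742 (iv D12849) (iv F50490)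
theorem F54179 : act 3 n13742 = n13742 := d25_1 D13742 (iv D13742) F50491
theorem F54180 : act 4 n13742 = n12814 := d29_1 D13742 (iv D12814) D12813
def n13743 : Q := act 7 n12814
theorem D13743 : act 7 n12814 = n13743 := rfl
theorem F54181 : act 0 n13743 = n12938 := d6_1 D13743 (iv D12938) (iv F50493)
theorem F54182 : act 1 n13743 = n12850 := d13_1 D13743 (iv D12850) (iv F50494)
theorem F54183 : act 3 n13743 = n13590 := d24_1 D13743 (iv D13590) F49783 (iv F46512) (iv F50495)
theorem F54184 : act 5 n13743 = n13142 := d31_1 D13743 (iv D13142) (iv F50496)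
theorem F54185 : act 8 n13743 = n12825 := d35_2 D12814 D13743 (iv D12825) (iv D11827) (iv F46507)
def n13744 : Q := act 2 n12815
theorem D13744 : act 2 n12815 = n13744 := rfl
theorem F54186 : act 0 n13744 = n12939 := d1_1 D13744 (iv D12939) (iv F50497)
theorem F54187 : act 5 n13744 = n12817 := d17_2 (iv F50499) D13744 (iv D12817)
theorem F54188 : act 6 n13744 = n13143 := d18_2 (iv F50500) D13744 (iv D13143)
def n13745 : Q := act 4 n12815
theorem D13745 : act 4 n12815 = n13745 := rfl
theorem F54189 : act 0 n13745 = n12940 := d3_1 D13745 (iv D12940) (iv F50497)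
theorem F54190 : act 1 n13745 = n12852 := d10_1 D13745 (iv D12852) (iv F50498)
theorem F54191 : act 3 n13745 = n13745 := d21_1 D13745 (iv D13745) (iv D12815) F46515 D12815
theorem F54192 : act 5 n13745 = n13186 := d26_2 (iv F50499) D13745 F52102 F50513 (iv D12818)
theorem F54193 : act 6 n13745 = n13144 := d27_2 (iv F50500) D13745 (iv D13144)
theorem F54194 : act 7 n13745 = n13110 := d28_2 F54142 D13745 (iv F54139)
def n13746 : Q := act 8 n12815
theorem D13746 : act 8 n12815 = n13746 := rfl
theorem F54195 : act 0 n13746 = n12941 := d7_1 D13746 (iv D12941) (iv F50497)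
theorem F54196 : act 1 n13746 = n12853 := d14_1 D13746 (iv D12853) (iv F50498)
theorem F54197 : act 3 n13746 = n12816 := d25_1 D13746 (iv D12816) D12815
theorem F54198 : act 5 n13746 = n12819 := d32_1 D13746 (iv D12819) (iv F50499)
theorem F54199 : act 6 n13746 = n13145 := d34_1 D13746 (iv D13145) (iv F50500)
def n13747 : Q := act 1 n12817
theorem D13747 : act 1 n12817 = n13747 := rfl
theorem F54200 : act 2 n13747 = n12854 := d8_2 D12817 D13747 (iv D12854) (iv D11850) (iv F46519)
theorem F54201 : act 6 n13747 = n12820 := d12_2 (iv F50508) D13747 (iv D12820)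
theorem F54202 : act 4 n13554 = n13747 := d16_0 F54200 F50662 D13554
def n13748 : Q := act 4 n12817
theorem D13748 : act 4 n12817 = n13748 := rfl
theorem F54203 : act 0 n13748 = n12943 := d3_1 D13748 (iv D12943) (iv F50507)
theorem F54204 : act 1 n13748 = n13554 := d10_1 D13748 F54202 (iv D13747)
theorem F54205 : act 2 n13748 = n12818 := d16_1 D13748 (iv D12818) D12817
theorem F54206 : act 6 n13748 = n12821 := d27_2 (iv F50508) D13748 (iv D12821)
theorem F54207 : act 5 n13555 = n13748 := d17_0 F54205 (iv F50513) (iv F53498)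
def n13749 : Q := act 8 n12817
theorem D13749 : act 8 n12817 = n13749 := rfl
theorem F54208 : act 0 n13749 = n12944 := d7_1 D13749 (iv D12944) (iv F50507)
theorem F54209 : act 2 n13749 = n12819 := d20_1 D13749 (iv D12819) D12817
theorem F54210 : act 6 n13749 = n12822 := d34_1 D13749 (iv D12822) (iv F50508)
def n13750 : Q := act 8 n12818
theorem D13750 : act 8 n12818 = n13750 := rfl
theorem F54211 : act 0 n13750 = n12946 := d7_1 D13750 (iv D12946) (iv F50509)
theorem F54212 : act 1 n13750 = n12856 := d14_1 D13750 (iv D12856) (iv F50510)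
theorem F54213 : act 3 n13750 = n12826 := d25_1 D13750 (iv D12826) (iv F50511)
theorem F54214 : act 4 n13750 = n12819 := d29_1 D13750 (iv D12819) D12818
theorem F54215 : act 5 n13750 = n13385 := d32_1 D13750 F52775 F50513
theorem F54216 : act 6 n13750 = n12824 := d34_1 D13750 (iv D12824) (iv F50512)
def n13751 : Q := act 7 n12819
theorem D13751 : act 7 n12819 = n13751 := rfl
theorem F54217 : act 0 n13751 = n12947 := d6_1 D13751 (iv D12947) (iv F50514)
theorem F54218 : act 1 n13751 = n12857 := d13_1 D13751 (iv D12857) (iv F50515)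
theorem F54219 : act 3 n13751 = n13374 := d24_1 D13751 (iv D13374) F48755 (iv F46525) (iv F50516)
theorem F54220 : act 6 n13751 = n12825 := d33_1 D13751 (iv D12825) (iv F50517)
def n13752 : Q := act 0 n12820
theorem D13752 : act 0 n12820 = n13752 := rfl
theorem F54221 : act 1 n13752 = n12948 := d0_2 D12820 D13752 (iv D12948) (iv D11939) (iv F46526)
theorem F54222 : act 2 n13752 = n12858 := d1_2 (iv F50518) D13752 (iv D12858)
theorem F54223 : act 5 n13752 = n13152 := d4_2 (iv F50519) D13752 (iv D13152)
def n13753 : Q := act 4 n12820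
theorem D13753 : act 4 n12820 = n13753 := rfl
theorem F54224 : act 1 n13753 = n12821 := d10_1 D13753 (iv D12821) D12820
theorem F54225 : act 2 n13753 = n12859 := d16_1 D13753 (iv D12859) (iv F50518)
theorem F54226 : act 6 n13753 = n13554 := d27_2 F54201 D13753 F54202
def n13754 : Q := act 8 n12820
theorem D13754 : act 8 n12820 = n13754 := rfl
theorem F54227 : act 1 n13754 = n12822 := d14_1 D13754 (iv D12822) D12820
theorem F54228 : act 2 n13754 = n12860 := d20_1 D13754 (iv D12860) (iv F50518)
theorem F54229 : act 5 n13754 = n13154 := d32_1 D13754 (iv D13154) (iv F50519)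
def n13755 : Q := act 3 n12821
theorem D13755 : act 3 n12821 = n13755 := rfl
theorem F54230 : act 0 n13755 = n12951 := d2_1 D13755 (iv D12951) (iv F50520)
theorem F54231 : act 2 n13755 = n12828 := d15_1 D13755 (iv D12828) F46546 (iv F46530) (iv F50521)
def n13756 : Q := act 5 n12821
theorem D13756 : act 5 n12821 = n13756 := rfl
theorem F54232 : act 0 n13756 = n12952 := d4_1 D13756 (iv D12952) (iv F50520)
theorem F54233 : act 2 n13756 = n12823 := d17_1 D13756 (iv D12823) (iv F50521)
theorem F54234 : act 4 n13756 = n13156 := d26_1 D13756 (iv D13156) (iv D12157) (iv F46527) D12821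
def n13757 : Q := act 8 n12821
theorem D13757 : act 8 n12821 = n13757 := rfl
theorem F54235 : act 0 n13757 = n12953 := d7_1 D13757 (iv D12953) (iv F50520)
theorem F54236 : act 2 n13757 = n12824 := d20_1 D13757 (iv D12824) (iv F50521)
theorem F54237 : act 4 n13757 = n12822 := d29_1 D13757 (iv D12822) D12821
def n13758 : Q := act 7 n12822
theorem D13758 : act 7 n12822 = n13758 := rfl
theorem F54238 : act 0 n13758 = n12954 := d6_1 D13758 (iv D12954) (iv F50522)
theorem F54239 : act 2 n13758 = n12825 := d19_1 D13758 (iv D12825) (iv F50523)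
theorem F54240 : act 5 n13758 = n13158 := d31_1 D13758 (iv D13158) (iv F50524)
def n13759 : Q := act 6 n12823
theorem D13759 : act 6 n12823 = n13759 := rfl
theorem F54241 : act 0 n13759 = n12955 := d5_1 D13759 (iv D12955) (iv F50525)
theorem F54242 : act 1 n13759 = n12864 := d12_1 D13759 (iv D12864) (iv F50526)
theorem F54243 : act 3 n13759 = n12832 := d23_1 D13759 (iv D12832) (iv F50527)
theorem F54244 : act 4 n13759 = n13159 := d27_1 D13759 (iv D13159) (iv F50528)
theorem F54245 : act 5 n13759 = n13190 := d30_1 D13759 F52120 F50513 F50512 D12823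
theorem F54246 : act 7 n13759 = n13206 := d33_2 F54176 D13759 (iv F54175)
def n13760 : Q := act 8 n12823
theorem D13760 : act 8 n12823 = n13760 := rfl
theorem F54247 : act 0 n13760 = n12956 := d7_1 D13760 (iv D12956) (iv F50525)
theorem F54248 : act 1 n13760 = n12865 := d14_1 D13760 (iv D12865) (iv F50526)
theorem F54249 : act 3 n13760 = n12833 := d25_1 D13760 (iv D12833) (iv F50527)
theorem F54250 : act 4 n13760 = n13160 := d29_1 D13760 (iv D13160) (iv F50528)
theorem F54251 : act 5 n13760 = n12824 := d32_1 D13760 (iv D12824) D12823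
def n13761 : Q := act 7 n12824
theorem D13761 : act 7 n12824 = n13761 := rfl
theorem F54252 : act 0 n13761 = n12957 := d6_1 D13761 (iv D12957) (iv F50529)
theorem F54253 : act 1 n13761 = n12866 := d13_1 D13761 (iv D12866) (iv F50530)
theorem F54254 : act 4 n13761 = n12825 := d28_1 D13761 (iv D12825) (iv F50532)
def n13762 : Q := act 7 n12826
theorem D13762 : act 7 n12826 = n13762 := rfl
theorem F54255 : act 0 n13762 = n12964 := d6_1 D13762 (iv D12964) (iv F50537)
theorem F54256 : act 1 n13762 = n12867 := d13_1 D13762 (iv D12867) (iv F50538)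
theorem F54257 : act 4 n13762 = n12827 := d28_1 D13762 (iv D12827) (iv F50539)
theorem F54258 : act 5 n13762 = n13479 := d31_1 D13762 F53162 (iv F50540)
theorem F54259 : act 6 n13762 = n12834 := d33_1 D13762 (iv D12834) (iv F50541)
theorem F54260 : act 8 n13762 = n13762 := d35_2 D12826 D13762 (iv D13762) (iv D12826) F46538
def n13763 : Q := act 5 n12828
theorem D13763 : act 5 n12828 = n13763 := rfl
theorem F54261 : act 0 n13763 = n12965 := d4_1 D13763 (iv D12965) (iv F50548)
theorem F54262 : act 3 n13763 = n12829 := d22_1 D13763 (iv D12829) D12828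
def n13764 : Q := act 7 n12828
theorem D13764 : act 7 n12828 = n13764 := rfl
theorem F54263 : act 0 n13764 = n12966 := d6_1 D13764 (iv D12966) (iv F50548)
theorem F54264 : act 1 n13764 = n13061 := d13_1 D13764 (iv F52821) F52818
theorem F54265 : act 3 n13764 = n13764 := d24_1 D13764 (iv D13764) (iv D12828) F46547 D12828
theorem F54266 : act 4 n13764 = n12922 := d28_1 D13764 (iv F51769) F51767
theorem F54267 : act 6 n13764 = n12925 := d33_1 D13764 (iv F52326) F52325
def n13765 : Q := act 8 n12828
theorem D13765 : act 8 n12828 = n13765 := rfl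
theorem F54268 : act 0 n13765 = n12967 := d7_1 D13765 (iv D12967) (iv F50548)
theorem F54269 : act 3 n13765 = n12830 := d25_1 D13765 (iv D12830) D12828
def n13766 : Q := act 6 n12829
theorem D13766 : act 6 n12829 = n13766 := rfl
theorem F54270 : act 0 n13766 = n12968 := d5_1 D13766 (iv D12968) (iv F50549)
theorem F54271 : act 1 n13766 = n13576 := d12_1 D13766 F53598 F53507
theorem F54272 : act 2 n13766 = n12832 := d18_1 D13766 (iv D12832) (iv F50550)
theorem F54273 : act 4 n13766 = n12836 := d27_1 D13766 (iv D12836) (iv F50551)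
theorem F54274 : act 5 n13766 = n13577 := d30_1 D13766 F53602 F49743 F49406 D12829
theorem F54275 : act 7 n13766 = n13766 := d33_2 F50552 D13766 (iv D13766)
def n13767 : Q := act 8 n12829
theorem D13767 : act 8 n12829 = n13767 := rfl
theorem F54276 : act 0 n13767 = n12969 := d7_1 D13767 (iv D12969) (iv F50549)
theorem F54277 : act 2 n13767 = n12833 := d20_1 D13767 (iv D12833) (iv F50550)
theorem F54278 : act 4 n13767 = n12837 := d29_1 D13767 (iv D12837) (iv F50551)
theorem F54279 : act 5 n13767 = n12830 := d32_1 D13767 (iv D12830) D12829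
def n13768 : Q := act 7 n12830
theorem D13768 : act 7 n12830 = n13768 := rfl
theorem F54280 : act 0 n13768 = n12970 := d6_1 D13768 (iv D12970) (iv F50553)
theorem F54281 : act 2 n13768 = n12834 := d19_1 D13768 (iv D12834) (iv F50554)
theorem F54282 : act 4 n13768 = n12831 := d28_1 D13768 (iv D12831) (iv F50555)
theorem F54283 : act 8 n13768 = n13768 := d35_2 D12830 D13768 (iv D13768) (iv D12830) F46547
def n13769 : Q := act 8 n12832
theorem D13769 : act 8 n12832 = n13769 := rfl
theorem F54284 : act 0 n13769 = n12972 := d7_1 D13769 (iv D12972) (iv F50560)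
theorem F54285 : act 1 n13769 = n12868 := d14_1 D13769 (iv D12868) (iv F50561)
theorem F54286 : act 4 n13769 = n12838 := d29_1 D13769 (iv D12838) (iv F50562)
theorem F54287 : act 5 n13769 = n13480 := d32_1 D13769 F53167 (iv F50563)
theorem F54288 : act 6 n13769 = n12833 := d34_1 D13769 (iv D12833) D12832
theorem F54289 : act 7 n13721 = n13769 := d31_0 F54287 F53166 (iv F54074)
def n13770 : Q := act 7 n12833
theorem D13770 : act 7 n12833 = n13770 := rfl
theorem F54290 : act 0 n13770 = n12973 := d6_1 D13770 (iv D12973) (iv F50565)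
theorem F54291 : act 1 n13770 = n12869 := d13_1 D13770 (iv D12869) (iv F50566)
theorem F54292 : act 4 n13770 = n12839 := d28_1 D13770 (iv D12839) (iv F50567)
theorem F54293 : act 5 n13770 = n12834 := d31_1 D13770 (iv D12834) (iv F50568)
theorem F54294 : act 6 n13770 = n13721 := d33_1 D13770 F54289 F54288
theorem F54295 : act 8 n13770 = n13770 := d35_2 D12833 D13770 (iv D13770) (iv D12833) F46554
def n13771 : Q := act 3 n12834
theorem D13771 : act 3 n12834 = n13771 := rfl
theorem F54296 : act 0 n13771 = n12974 := d2_1 D13771 (iv D12974) (iv F50569)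
theorem F54297 : act 1 n13771 = n12870 := d9_1 D13771 (iv D12870) (iv F50570)
theorem F54298 : act 4 n13771 = n13608 := d21_2 (iv F50571) D13771 (iv D13608) F49827 (iv F46560)
theorem F54299 : act 8 n13771 = n13771 := d25_2 F50572 D13771 (iv D13771)
def n13772 : Q := act 4 n12835
theorem D13772 : act 4 n12835 = n13772 := rfl
theorem F54300 : act 0 n13772 = n12975 := d3_1 D13772 (iv D12975) (iv F50573)
theorem F54301 : act 2 n13772 = n13177 := d16_1 D13772 (iv D13177) (iv F50574)
def n13773 : Q := act 6 n12835
theorem D13773 : act 6 n12835 = n13773 := rfl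
theorem F54302 : act 0 n13773 = n12976 := d5_1 D13773 (iv D12976) (iv F50573)
theorem F54303 : act 2 n13773 = n13178 := d18_1 D13773 (iv D13178) (iv F50574)
theorem F54304 : act 3 n13773 = n12836 := d23_1 D13773 (iv D12836) (iv F50575)
theorem F54305 : act 5 n13773 = n13773 := d30_1 D13773 (iv D13773) (iv D12835) F46565 D12835
def n13774 : Q := act 8 n12836
theorem D13774 : act 8 n12836 = n13774 := rfl
theorem F54306 : act 0 n13774 = n12979 := d7_1 D13774 (iv D12979) (iv F50576)
theorem F54307 : act 2 n13774 = n12838 := d20_1 D13774 (iv D12838) (iv F50577)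
theorem F54308 : act 5 n13774 = n13774 := d32_1 D13774 (iv D13774) F50578
theorem F54309 : act 6 n13774 = n12837 := d34_1 D13774 (iv D12837) D12836
def n13775 : Q := act 7 n12838
theorem D13775 : act 7 n12838 = n13775 := rfl
theorem F54310 : act 0 n13775 = n12981 := d6_1 D13775 (iv D12981) (iv F50583)
theorem F54311 : act 1 n13775 = n12871 := d13_1 D13775 (iv D12871) (iv F50584)
theorem F54312 : act 4 n13775 = n13721 := d28_1 D13775 F54289 F54286
theorem F54313 : act 5 n13775 = n13775 := d31_1 D13775 (iv D13775) F50586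
theorem F54314 : act 6 n13775 = n12839 := d33_1 D13775 (iv D12839) (iv F50587)
theorem F54315 : act 8 n13775 = n13775 := d35_2 D12838 D13775 (iv D13775) (iv D12838) F46581
def n13776 : Q := act 8 n12840
theorem D13776 : act 8 n12840 = n13776 := rfl
theorem F54316 : act 0 n13776 = n12883 := d7_1 D13776 (iv D12883) (iv F50592)
theorem F54317 : act 2 n13776 = n13196 := d20_1 D13776 (iv D13196) F50597
theorem F54318 : act 3 n13776 = n12841 := d25_1 D13776 (iv D12841) D12840
theorem F54319 : act 4 n13776 = n13120 := d29_1 D13776 (iv D13120) (iv F50593)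
theorem F54320 : act 5 n13776 = n12844 := d32_1 D13776 (iv D12844) (iv F50594)
theorem F54321 : act 6 n13776 = n13185 := d34_1 D13776 (iv D13185) (iv F50595)
def n13777 : Q := act 1 n12842
theorem D13777 : act 1 n12842 = n13777 := rfl
theorem F54322 : act 0 n13777 = n13276 := d0_1 D13777 F52428 F48454 (iv F46735) (iv F50604)
theorem F54323 : act 3 n13777 = n13777 := d9_2 F50605 D13777 (iv D13777)
theorem F54324 : act 4 n13777 = n13149 := d10_2 F50609 D13777 F51957
theorem F54325 : act 5 n13777 = n13144 := d11_2 (iv F50606) D13777 F51940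
theorem F54326 : act 6 n13777 = n12845 := d12_2 (iv F50607) D13777 (iv D12845)
theorem F54327 : act 7 n13777 = n12854 := d13_2 (iv F50608) D13777 (iv D12854)
def n13778 : Q := act 8 n12842
theorem D13778 : act 8 n12842 = n13778 := rfl
theorem F54328 : act 0 n13778 = n12884 := d7_1 D13778 (iv D12884) (iv F50604)
theorem F54329 : act 2 n13778 = n12844 := d20_1 D13778 (iv D12844) D12842
theorem F54330 : act 3 n13778 = n13778 := d25_1 D13778 (iv D13778) F50605
theorem F54331 : act 4 n13778 = n13202 := d29_1 D13778 (iv D13202) F50609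
theorem F54332 : act 5 n13778 = n13196 := d32_1 D13778 (iv D13196) (iv F50606)
theorem F54333 : act 6 n13778 = n12847 := d34_1 D13778 (iv D12847) (iv F50607)
def n13779 : Q := act 8 n12843
theorem D13779 : act 8 n12843 = n13779 := rfl
theorem F54334 : act 0 n13779 = n12885 := d7_1 D13779 (iv D12885) (iv F50610)
theorem F54335 : act 2 n13779 = n13202 := d20_1 D13779 (iv D13202) (iv F50611)
theorem F54336 : act 3 n13779 = n13779 := d25_1 D13779 (iv D13779) F50612
theorem F54337 : act 4 n13779 = n12844 := d29_1 D13779 (iv D12844) D12843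
theorem F54338 : act 5 n13779 = n13200 := d32_1 D13779 (iv D13200) (iv F50613)
theorem F54339 : act 6 n13779 = n12849 := d34_1 D13779 (iv D12849) (iv F50614)
def n13780 : Q := act 7 n12844
theorem D13780 : act 7 n12844 = n13780 := rfl
theorem F54340 : act 0 n13780 = n12886 := d6_1 D13780 (iv D12886) (iv F50616)
theorem F54341 : act 3 n13780 = n13387 := d24_1 D13780 (iv D13387) F48817 (iv F46603) (iv F50617)
theorem F54342 : act 6 n13780 = n12850 := d33_1 D13780 (iv D12850) (iv F50618)
theorem F54343 : act 8 n13780 = n12857 := d35_2 D12844 D13780 (iv D12857) (iv D11852) (iv F46598)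
def n13781 : Q := act 0 n12845
theorem D13781 : act 0 n12845 = n13781 := rfl
theorem F54344 : act 1 n13781 = n12887 := d0_2 D12845 D13781 (iv D12887) (iv D11881) (iv F46604)
theorem F54345 : act 3 n13781 = n13781 := d2_2 F50619 D13781 (iv D13781)
theorem F54346 : act 5 n13781 = n13189 := d4_2 (iv F50620) D13781 (iv D13189)
theorem F54347 : act 6 n13781 = n13276 := d5_2 F54326 D13781 (iv F54322)
theorem F54348 : act 7 n13781 = n12858 := d6_2 (iv F50621) D13781 (iv D12858)
theorem F54349 : act 4 n13313 = n13781 := d27_3 F54347 F52430 D13313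
def n13782 : Q := act 4 n12845
theorem D13782 : act 4 n12845 = n13782 := rfl
theorem F54350 : act 0 n13782 = n13313 := d3_1 D13782 F54349 (iv D13781)
theorem F54351 : act 1 n13782 = n12846 := d10_1 D13782 (iv D12846) D12845
theorem F54352 : act 5 n13782 = n13159 := d26_2 (iv F50620) D13782 (iv F54244) F54245 (iv D13190)
theorem F54353 : act 6 n13782 = n13149 := d27_2 F54326 D13782 (iv F54324)
theorem F54354 : act 7 n13782 = n12859 := d28_2 (iv F50621) D13782 (iv D12859)
theorem F54355 : act 3 n13165 = n13782 := d24_5 F54354 F50682 (iv D12579) (iv F49309) (iv F52013)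
def n13783 : Q := act 8 n12845
theorem D13783 : act 8 n12845 = n13783 := rfl
theorem F54356 : act 1 n13783 = n12847 := d14_1 D13783 (iv D12847) D12845
theorem F54357 : act 3 n13783 = n13783 := d25_1 D13783 (iv D13783) F50619
theorem F54358 : act 5 n13783 = n13191 := d32_1 D13783 (iv D13191) (iv F50620)
def n13784 : Q := act 8 n12846
theorem D13784 : act 8 n12846 = n13784 := rfl
theorem F54359 : act 0 n13784 = n12889 := d7_1 D13784 (iv D12889) (iv F50622)
theorem F54360 : act 2 n13784 = n12849 := d20_1 D13784 (iv D12849) (iv F50623)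
theorem F54361 : act 3 n13784 = n13215 := d25_1 D13784 (iv D13215) F50626
theorem F54362 : act 4 n13784 = n12847 := d29_1 D13784 (iv D12847) D12846
theorem F54363 : act 5 n13784 = n13212 := d32_1 D13784 (iv D13212) (iv F50627)
theorem F54364 : act 6 n13784 = n13202 := d34_1 D13784 (iv D13202) (iv F50624)
def n13785 : Q := act 7 n12847
theorem D13785 : act 7 n12847 = n13785 := rfl
theorem F54365 : act 0 n13785 = n12890 := d6_1 D13785 (iv D12890) (iv F50628)
theorem F54366 : act 2 n13785 = n12850 := d19_1 D13785 (iv D12850) (iv F50629)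
theorem F54367 : act 5 n13785 = n13193 := d31_1 D13785 (iv D13193) (iv F50631)
theorem F54368 : act 8 n13785 = n12863 := d35_2 D12847 D13785 (iv D12863) (iv D11855) (iv F46607)
def n13786 : Q := act 8 n12848
theorem D13786 : act 8 n12848 = n13786 := rfl
theorem F54369 : act 0 n13786 = n12891 := d7_1 D13786 (iv D12891) (iv F50632)
theorem F54370 : act 2 n13786 = n13212 := d20_1 D13786 (iv D13212) (iv F50633)
theorem F54371 : act 3 n13786 = n13786 := d25_1 D13786 (iv D13786) F50634
theorem F54372 : act 4 n13786 = n13194 := d29_1 D13786 (iv D13194) (iv F50635)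
theorem F54373 : act 5 n13786 = n12849 := d32_1 D13786 (iv D12849) D12848
theorem F54374 : act 6 n13786 = n13209 := d34_1 D13786 (iv D13209) (iv F50636)
def n13787 : Q := act 7 n12849
theorem D13787 : act 7 n12849 = n13787 := rfl
theorem F54375 : act 0 n13787 = n12892 := d6_1 D13787 (iv D12892) (iv F50638)
theorem F54376 : act 4 n13787 = n12850 := d28_1 D13787 (iv D12850) (iv F50640)
theorem F54377 : act 8 n13787 = n12866 := d35_2 D12849 D13787 (iv D12866) (iv D11857) (iv F46610)
def n13788 : Q := act 1 n12851
theorem D13788 : act 1 n12851 = n13788 := rfl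
theorem F54378 : act 0 n13788 = n13107 := d0_1 D13788 (iv D13107) F47801 (iv F46778) (iv F50645)
theorem F54379 : act 3 n13788 = n12873 := d9_2 (iv F50646) D13788 (iv D12873)
theorem F54380 : act 4 n13788 = n13133 := d10_2 F50650 D13788 F51899
theorem F54381 : act 5 n13788 = n12854 := d11_2 (iv F50647) D13788 (iv D12854)
theorem F54382 : act 6 n13788 = n13110 := d12_2 (iv F50648) D13788 F51807
theorem F54383 : act 7 n13788 = n13144 := d13_2 (iv F50649) D13788 F51940
def n13789 : Q := act 8 n12851
theorem D13789 : act 8 n12851 = n13789 := rfl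
theorem F54384 : act 0 n13789 = n12893 := d7_1 D13789 (iv D12893) (iv F50645)
theorem F54385 : act 2 n13789 = n12853 := d20_1 D13789 (iv D12853) D12851
theorem F54386 : act 3 n13789 = n12874 := d25_1 D13789 (iv D12874) (iv F50646)
theorem F54387 : act 4 n13789 = n13185 := d29_1 D13789 (iv D13185) F50650
theorem F54388 : act 5 n13789 = n12855 := d32_1 D13789 (iv D12855) (iv F50647)
theorem F54389 : act 6 n13789 = n13120 := d34_1 D13789 (iv D13120) (iv F50648)
def n13790 : Q := act 8 n12852
theorem D13790 : act 8 n12852 = n13790 := rfl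
theorem F54390 : act 0 n13790 = n12894 := d7_1 D13790 (iv D12894) (iv F50651)
theorem F54391 : act 2 n13790 = n13185 := d20_1 D13790 (iv D13185) (iv F50652)
theorem F54392 : act 3 n13790 = n13790 := d25_1 D13790 (iv D13790) F50653
theorem F54393 : act 4 n13790 = n12853 := d29_1 D13790 (iv D12853) D12852
theorem F54394 : act 5 n13790 = n13187 := d32_1 D13790 (iv D13187) (iv F50654)
theorem F54395 : act 6 n13790 = n13196 := d34_1 D13790 (iv D13196) (iv F50655)
def n13791 : Q := act 7 n12853
theorem D13791 : act 7 n12853 = n13791 := rfl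
theorem F54396 : act 0 n13791 = n12895 := d6_1 D13791 (iv D12895) (iv F50657)
theorem F54397 : act 3 n13791 = n13045 := d24_1 D13791 (iv D13045) F47387 (iv F46622) (iv F50658)
theorem F54398 : act 5 n13791 = n12857 := d31_1 D13791 (iv D12857) (iv F50659)
theorem F54399 : act 6 n13791 = n13197 := d33_1 D13791 (iv D13197) (iv F50660)
def n13792 : Q := act 0 n12854
theorem D13792 : act 0 n12854 = n13792 := rfl
theorem F54400 : act 1 n13792 = n12896 := d0_2 D12854 D13792 (iv D12896) (iv D11890) (iv F46623)
theorem F54401 : act 3 n13792 = n12877 := d2_2 (iv F50661) D13792 (iv D12877)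
theorem F54402 : act 4 n13792 = n13297 := d3_2 (iv F50662) D13792 F52487
theorem F54403 : act 5 n13792 = n13107 := d4_2 F54381 D13792 (iv F54378)
theorem F54404 : act 6 n13792 = n12858 := d5_2 (iv F50663) D13792 (iv D12858)
theorem F54405 : act 7 n13792 = n13276 := d6_2 F54327 D13792 (iv F54322)
def n13793 : Q := act 8 n12854
theorem D13793 : act 8 n12854 = n13793 := rfl
theorem F54406 : act 1 n13793 = n12855 := d14_1 D13793 (iv D12855) D12854
theorem F54407 : act 3 n13793 = n12878 := d25_1 D13793 (iv D12878) (iv F50661)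
theorem F54408 : act 4 n13793 = n13352 := d29_1 D13793 F52651 (iv F50662)
theorem F54409 : act 6 n13793 = n12860 := d34_1 D13793 (iv D12860) (iv F50663)
def n13794 : Q := act 7 n12855
theorem D13794 : act 7 n12855 = n13794 := rfl
theorem F54410 : act 0 n13794 = n12898 := d6_1 D13794 (iv D12898) (iv F50664)
theorem F54411 : act 2 n13794 = n12857 := d19_1 D13794 (iv D12857) (iv F50665)
theorem F54412 : act 4 n13794 = n13382 := d28_1 D13794 F52765 (iv F50667)
theorem F54413 : act 6 n13794 = n12863 := d33_1 D13794 (iv D12863) (iv F50668)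
def n13795 : Q := act 7 n12856
theorem D13795 : act 7 n12856 = n13795 := rfl
theorem F54414 : act 0 n13795 = n12899 := d6_1 D13795 (iv D12899) (iv F50669)
theorem F54415 : act 2 n13795 = n13382 := d19_1 D13795 F52765 (iv F50670)
theorem F54416 : act 4 n13795 = n12857 := d28_1 D13795 (iv D12857) (iv F50672)
theorem F54417 : act 5 n13795 = n13383 := d31_1 D13795 F52767 (iv F50673)
theorem F54418 : act 6 n13795 = n12866 := d33_1 D13795 (iv D12866) (iv F50674)
def n13796 : Q := act 4 n12858
theorem D13796 : act 4 n12858 = n13796 := rfl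
theorem F54419 : act 0 n13796 = n12859 := d3_1 D13796 (iv D12859) D12858
theorem F54420 : act 1 n13796 = n12900 := d10_1 D13796 (iv D12900) (iv F50678)
theorem F54421 : act 3 n13796 = n13512 := d21_1 D13796 F53322 (iv F50415) F50416 (iv F50679)
theorem F54422 : act 6 n13796 = n13297 := d27_2 F54404 D13796 (iv F54402)
theorem F54423 : act 7 n13796 = n13313 := d28_2 F54348 D13796 F54349
theorem F54424 : act 5 n13306 = n13796 := d36_3 F49312 (iv F49493) (iv F52512) (iv D13796) F50679 F46714 F43031 F39702 D10129 (iv F42894) (iv F46700) F46701 (iv F46356) F46355 (iv F43675) F43676 (iv F44818) (iv D11397) F41176 F33076 (iv F37919) (iv D5538) F15944 (iv F15938) F15939 (iv F21434) (iv F28658) F38985 F28656 (iv D5489) F15778 (iv F15326) F15324 F11445 F8562 F6430 F4868 (iv F38165) D919 (iv F5241) (iv F6953) F6952 (iv F7592) F7593 F6098 D1982 D2705 F10870 D2707 F10877 (iv F10918) (iv F14594) D5059 D6919 D9482 F39046 (iv F41167) (iv D10443) F33013 F31742 (iv D8327) (iv D6078) D6079 (iv F37852) F18041 F14384 (iv F15778) (iv F21237) F21236 F15804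 F15805 F11786 F8902 (iv F11889) D4059 D5538 (iv F26344) (iv F35658) (iv F41948) F42074 (iv F45783) (iv D11629) (iv F44991) (iv F49117) (iv F49711) F49710 (iv F49535) F49536 (iv F49309)
def n13797 : Q := act 8 n12858
theorem D13797 : act 8 n12858 = n13797 := rfl
theorem F54425 : act 0 n13797 = n12860 := d7_1 D13797 (iv D12860) D12858
theorem F54426 : act 1 n13797 = n12901 := d14_1 D13797 (iv D12901) (iv F50678)
theorem F54427 : act 3 n13797 = n12880 := d25_1 D13797 (iv D12880) (iv F50679)
theorem F54428 : act 5 n13797 = n13205 := d32_1 D13797 (iv D13205) (iv F50680)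
def n13798 : Q := act 5 n12859
theorem D13798 : act 5 n12859 = n13798 := rfl
theorem F54429 : act 0 n13798 = n13306 := d4_1 D13798 F54424 F54419
theorem F54430 : act 1 n13798 = n12861 := d11_1 D13798 (iv D12861) (iv F50681)
theorem F54431 : act 3 n13798 = n13495 := d22_1 D13798 F53237 (iv F50682)
theorem F54432 : act 4 n13798 = n13206 := d26_1 D13798 (iv D13206) (iv D12202) (iv F46636) D12859
theorem F54433 : act 6 n13798 = n13140 := d30_2 (iv F50683) D13798 (iv D13140) F47941 (iv F49551)
theorem F54434 : act 7 n13798 = n13159 := d31_2 F54354 D13798 (iv F54352)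
def n13799 : Q := act 8 n12859
theorem D13799 : act 8 n12859 = n13799 := rfl
theorem F54435 : act 1 n13799 = n12862 := d14_1 D13799 (iv D12862) (iv F50681)
theorem F54436 : act 3 n13799 = n13351 := d25_1 D13799 F52648 (iv F50682)
theorem F54437 : act 4 n13799 = n12860 := d29_1 D13799 (iv D12860) D12859
theorem F54438 : act 6 n13799 = n13352 := d34_1 D13799 F52651 (iv F50683)
def n13800 : Q := act 7 n12860
theorem D13800 : act 7 n12860 = n13800 := rfl
theorem F54439 : act 1 n13800 = n12863 := d13_1 D13800 (iv D12863) (iv F50684)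
theorem F54440 : act 5 n13800 = n13208 := d31_1 D13800 (iv D13208) (iv F50686)
def n13801 : Q := act 8 n12861
theorem D13801 : act 8 n12861 = n13801 := rfl
theorem F54441 : act 0 n13801 = n12904 := d7_1 D13801 (iv D12904) (iv F50687)
theorem F54442 : act 2 n13801 = n12865 := d20_1 D13801 (iv D12865) (iv F50688)
theorem F54443 : act 3 n13801 = n13384 := d25_1 D13801 F52773 (iv F50689)
theorem F54444 : act 4 n13801 = n13209 := d29_1 D13801 (iv D13209) (iv F50690)
theorem F54445 : act 5 n13801 = n12862 := d32_1 D13801 (iv D12862) D12861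
theorem F54446 : act 6 n13801 = n13194 := d34_1 D13801 (iv D13194) (iv F50691)
def n13802 : Q := act 7 n12862
theorem D13802 : act 7 n12862 = n13802 := rfl
theorem F54447 : act 0 n13802 = n12905 := d6_1 D13802 (iv D12905) (iv F50693)
theorem F54448 : act 2 n13802 = n12866 := d19_1 D13802 (iv D12866) (iv F50694)
theorem F54449 : act 3 n13802 = n13381 := d24_1 D13802 (iv D13381) F48778 D12391 (iv F50695)
theorem F54450 : act 4 n13802 = n12863 := d28_1 D13802 (iv D12863) (iv F50696)
theorem F54451 : act 6 n13802 = n13382 := d33_1 D13802 F52765 (iv F50697)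
def n13803 : Q := act 3 n12863
theorem D13803 : act 3 n12863 = n13803 := rfl
theorem F54452 : act 0 n13803 = n12906 := d2_1 D13803 (iv D12906) (iv F50698)
theorem F54453 : act 2 n13803 = n13623 := d15_1 D13803 (iv D13623) F49901 (iv F46652) (iv F50699)
theorem F54454 : act 5 n13803 = n13211 := d22_2 (iv F50700) D13803 (iv D13211)
theorem F54455 : act 7 n13803 = n12882 := d24_2 D12863 D13803 (iv D12882) (iv D11875) (iv F46643)
def n13804 : Q := act 8 n12864
theorem D13804 : act 8 n12864 = n13804 := rfl
theorem F54456 : act 0 n13804 = n12907 := d7_1 D13804 (iv D12907) (iv F50701)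
theorem F54457 : act 2 n13804 = n13194 := d20_1 D13804 (iv D13194) (iv F50702)
theorem F54458 : act 3 n13804 = n12868 := d25_1 D13804 (iv D12868) (iv F50703)
theorem F54459 : act 4 n13804 = n13212 := d29_1 D13804 (iv D13212) (iv F50704)
theorem F54460 : act 5 n13804 = n13192 := d32_1 D13804 (iv D13192) (iv F50705)
theorem F54461 : act 6 n13804 = n12865 := d34_1 D13804 (iv D12865) D12864
def n13805 : Q := act 7 n12865
theorem D13805 : act 7 n12865 = n13805 := rfl
theorem F54462 : act 0 n13805 = n12908 := d6_1 D13805 (iv D12908) (iv F50707)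
theorem F54463 : act 4 n13805 = n13213 := d28_1 D13805 (iv D13213) (iv F50709)
theorem F54464 : act 5 n13805 = n12866 := d31_1 D13805 (iv D12866) (iv F50710)
def n13806 : Q := act 3 n12866
theorem D13806 : act 3 n12866 = n13806 := rfl
theorem F54465 : act 0 n13806 = n12909 := d2_1 D13806 (iv D12909) (iv F50711)
theorem F54466 : act 4 n13806 = n13625 := d21_2 (iv F50712) D13806 (iv D13625) F49906 (iv F46652)
theorem F54467 : act 7 n13806 = n12870 := d24_2 D12866 D13806 (iv D12870) (iv D11863) (iv F46649)
def n13807 : Q := act 3 n12867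
theorem D13807 : act 3 n12867 = n13807 := rfl
theorem F54468 : act 0 n13807 = n12910 := d2_1 D13807 (iv D12910) (iv F50713)
theorem F54469 : act 2 n13807 = n13477 := d15_1 D13807 (iv D13477) F49174 D12492 (iv F50714)
theorem F54470 : act 4 n13807 = n13483 := d21_2 (iv F50715) D13807 (iv D13483) F49222 (iv F46660)
theorem F54471 : act 5 n13807 = n13478 := d22_2 (iv F50716) D13807 F53157
theorem F54472 : act 6 n13807 = n12870 := d23_2 (iv F50717) D13807 (iv D12870)
theorem F54473 : act 8 n13807 = n13807 := d25_2 F50718 D13807 (iv D13807)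
def n13808 : Q := act 3 n12869
theorem D13808 : act 3 n12869 = n13808 := rfl
theorem F54474 : act 0 n13808 = n12911 := d2_1 D13808 (iv D12911) (iv F50725)
theorem F54475 : act 2 n13808 = n13686 := d15_1 D13808 (iv D13686) F50101 D12775 (iv F50726)
theorem F54476 : act 5 n13808 = n12870 := d22_2 (iv F50728) D13808 (iv D12870)
theorem F54477 : act 6 n13808 = n13687 := d23_2 (iv F50729) D13808 F53950
theorem F54478 : act 8 n13808 = n13808 := d25_2 F50730 D13808 (iv D13808)
def n13809 : Q := act 2 n12870
theorem D13809 : act 2 n12870 = n13809 := rfl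
theorem F54479 : act 0 n13809 = n12912 := d1_1 D13809 (iv D12912) (iv F50731)
theorem F54480 : act 3 n13809 = n13476 := d15_2 D12870 D13809 F53148 (iv F50388) F50387
theorem F54481 : act 4 n13809 = n13628 := d16_2 (iv F50732) D13809 (iv D13628)
theorem F54482 : act 5 n13809 = n13686 := d17_2 F54476 D13809 (iv F54475)
theorem F54483 : act 6 n13809 = n13477 := d18_2 F54472 D13809 (iv F54469)
theorem F54484 : act 8 n13809 = n13809 := d20_2 F50733 D13809 (iv D13809)
def n13810 : Q := act 4 n12872
theorem D13810 : act 4 n12872 = n13810 := rfl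
theorem F54485 : act 0 n13810 = n12913 := d3_1 D13810 (iv D12913) (iv F50740)
theorem F54486 : act 2 n13810 = n12919 := d16_1 D13810 (iv F53961) F53959
theorem F54487 : act 5 n13810 = n13115 := d26_2 (iv F50741) D13810 F51826 F49924 (iv F46683)
theorem F54488 : act 6 n13810 = n12916 := d27_2 F54123 D13810 (iv F54121)
theorem F54489 : act 7 n13810 = n12914 := d28_2 (iv F50742) D13810 F50951
theorem F54490 : act 8 n13810 = n13810 := d29_2 F50743 D13810 (iv D13810)
def n13811 : Q := act 8 n12873
theorem D13811 : act 8 n12873 = n13811 := rfl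
theorem F54491 : act 0 n13811 = n13114 := d7_1 D13811 (iv D13114) (iv F50744)
theorem F54492 : act 1 n13811 = n12874 := d14_1 D13811 (iv D12874) D12873
theorem F54493 : act 4 n13811 = n13273 := d29_1 D13811 F52420 (iv F50745)
theorem F54494 : act 5 n13811 = n12878 := d32_1 D13811 (iv D12878) (iv F50746)
theorem F54495 : act 6 n13811 = n13116 := d34_1 D13811 (iv D13116) (iv F50747)
theorem F54496 : act 7 n13680 = n13811 := d28_0 F54493 F52419 D13680
def n13812 : Q := act 8 n12877
theorem D13812 : act 8 n12877 = n13812 := rfl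
theorem F54497 : act 0 n13812 = n12878 := d7_1 D13812 (iv D12878) D12877
theorem F54498 : act 1 n13812 = n12914 := d14_1 D13812 (iv D12914) (iv F50770)
theorem F54499 : act 2 n13812 = n13811 := d20_1 D13812 (iv D13811) (iv F50771)
theorem F54500 : act 4 n13812 = n13184 := d29_1 D13812 F52096 (iv F50772)
theorem F54501 : act 5 n13812 = n13114 := d32_1 D13812 (iv D13114) (iv F50773)
theorem F54502 : act 6 n13812 = n12880 := d34_1 D13812 (iv D12880) (iv F50774)
def n13813 : Q := act 7 n12878
theorem D13813 : act 7 n12878 = n13813 := rfl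
theorem F54503 : act 1 n13813 = n12879 := d13_1 D13813 (iv D12879) (iv F50776)
theorem F54504 : act 4 n13813 = n12982 := d28_1 D13813 F51191 (iv F50777)
theorem F54505 : act 5 n13813 = n13680 := d31_1 D13813 F54496 F54494
theorem F54506 : act 6 n13813 = n12881 := d33_1 D13813 (iv D12881) (iv F50778)
theorem F54507 : act 8 n13813 = n13813 := d35_2 D12878 D13813 (iv D13813) (iv D12878) F46705
def n13814 : Q := act 3 n12879
theorem D13814 : act 3 n12879 = n13814 := rfl
theorem F54508 : act 0 n13814 = n12915 := d2_1 D13814 (iv D12915) (iv F50779)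
theorem F54509 : act 2 n13814 = n13244 := d15_1 D13814 (iv D13244) F48320 (iv F46711) (iv F50780)
theorem F54510 : act 4 n13814 = n13023 := d21_2 (iv F50781) D13814 (iv D13023) F47242 D12003
theorem F54511 : act 5 n13814 = n13688 := d22_2 (iv F50782) D13814 F53954
theorem F54512 : act 6 n13814 = n12882 := d23_2 (iv F50783) D13814 (iv D12882)
theorem F54513 : act 8 n13814 = n13814 := d25_2 F50784 D13814 (iv D13814)
def n13815 : Q := act 7 n12880
theorem D13815 : act 7 n12880 = n13815 := rfl
theorem F54514 : act 0 n13815 = n12881 := d6_1 D13815 (iv D12881) (iv F50785)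
theorem F54515 : act 1 n13815 = n12916 := d13_1 D13815 (iv D12916) (iv F50786)
theorem F54516 : act 5 n13815 = n13220 := d31_1 D13815 (iv D13220) (iv F50787)
theorem F54517 : act 8 n13815 = n13815 := d35_2 D12880 D13815 (iv D13815) (iv D12880) F46716
def n13816 : Q := act 3 n12881
theorem D13816 : act 3 n12881 = n13816 := rfl
theorem F54518 : act 1 n13816 = n12882 := d9_1 D13816 (iv D12882) (iv F50788)
theorem F54519 : act 5 n13816 = n13221 := d22_2 (iv F50789) D13816 (iv D13221)
theorem F54520 : act 8 n13816 = n13816 := d25_2 F50790 D13816 (iv D13816)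
def n13817 : Q := act 4 n12882
theorem D13817 : act 4 n12882 = n13817 := rfl
theorem F54521 : act 0 n13817 = n12918 := d3_1 D13817 (iv D12918) (iv F50791)
theorem F54522 : act 2 n13817 = n13630 := d16_1 D13817 (iv D13630) (iv F50792)
theorem F54523 : act 3 n13817 = n13022 := d21_1 D13817 F51381 (iv F50427) F50428 D12882
theorem F54524 : act 6 n13817 = n13023 := d27_2 F54512 D13817 (iv F54510)
theorem F54525 : act 8 n13817 = n13817 := d29_2 F50794 D13817 (iv D13817)
theorem F54526 : act 5 n13696 = n13817 := d22_0 F54523 F51382 (iv F53975)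
def n13818 : Q := act 7 n12883
theorem D13818 : act 7 n12883 = n13818 := rfl
theorem F54527 : act 1 n13818 = n13026 := d13_1 D13818 (iv D13026) (iv F50795)
theorem F54528 : act 2 n13818 = n13230 := d19_1 D13818 (iv D13230) (iv F50796)
theorem F54529 : act 3 n13818 = n13030 := d24_1 D13818 (iv D13030) F47311 (iv F46734) (iv F50797)
theorem F54530 : act 4 n13818 = n13121 := d28_1 D13818 (iv D13121) (iv F50798)
theorem F54531 : act 5 n13818 = n12886 := d31_1 D13818 (iv D12886) (iv F50799)
theorem F54532 : act 6 n13818 = n13223 := d33_1 D13818 (iv D13223) (iv F50800)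
theorem F54533 : act 8 n13818 = n12895 := d35_2 D12883 D13818 (iv D12895) (iv D11889) (iv F46727)
def n13819 : Q := act 7 n12884
theorem D13819 : act 7 n12884 = n13819 := rfl
theorem F54534 : act 1 n13819 = n13282 := d13_1 D13819 (iv D13282) (iv F50801)
theorem F54535 : act 2 n13819 = n12886 := d19_1 D13819 (iv D12886) (iv F50802)
theorem F54536 : act 4 n13819 = n13233 := d28_1 D13819 (iv D13233) (iv F50804)
theorem F54537 : act 5 n13819 = n13230 := d31_1 D13819 (iv D13230) (iv F50805)
theorem F54538 : act 6 n13819 = n12890 := d33_1 D13819 (iv D12890) (iv F50806)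
theorem F54539 : act 8 n13819 = n12898 := d35_2 D12884 D13819 (iv D12898) (iv D11891) (iv F46739)
def n13820 : Q := act 7 n12885
theorem D13820 : act 7 n12885 = n13820 := rfl
theorem F54540 : act 1 n13820 = n13028 := d13_1 D13820 (iv D13028) (iv F50807)
theorem F54541 : act 2 n13820 = n13233 := d19_1 D13820 (iv D13233) (iv F50808)
theorem F54542 : act 4 n13820 = n12886 := d28_1 D13820 (iv D12886) (iv F50810)
theorem F54543 : act 5 n13820 = n13231 := d31_1 D13820 (iv D13231) (iv F50811)
theorem F54544 : act 6 n13820 = n12892 := d33_1 D13820 (iv D12892) (iv F50812)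
theorem F54545 : act 8 n13820 = n12899 := d35_2 D12885 D13820 (iv D12899) (iv D11892) (iv F46746)
def n13821 : Q := act 8 n12887
theorem D13821 : act 8 n12887 = n13821 := rfl
theorem F54546 : act 0 n13821 = n12888 := d7_1 D13821 (iv D12888) D12887
theorem F54547 : act 2 n13821 = n13029 := d20_1 D13821 (iv D13029) (iv F50817)
theorem F54548 : act 3 n13821 = n13821 := d25_1 D13821 (iv D13821) F50818
theorem F54549 : act 4 n13821 = n13370 := d29_1 D13821 (iv D13370) (iv F50819)
theorem F54550 : act 5 n13821 = n13225 := d32_1 D13821 (iv D13225) (iv F50820)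
theorem F54551 : act 6 n13821 = n13279 := d34_1 D13821 (iv D13279) (iv F50821)
def n13822 : Q := act 7 n12888
theorem D13822 : act 7 n12888 = n13822 := rfl
theorem F54552 : act 1 n13822 = n12890 := d13_1 D13822 (iv D12890) (iv F50823)
theorem F54553 : act 2 n13822 = n13030 := d19_1 D13822 (iv D13030) (iv F50824)
theorem F54554 : act 4 n13822 = n13392 := d28_1 D13822 (iv D13392) (iv F50826)
theorem F54555 : act 5 n13822 = n13226 := d31_1 D13822 (iv D13226) (iv F50827)
theorem F54556 : act 6 n13822 = n13282 := d33_1 D13822 (iv D13282) (iv F50828)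
theorem F54557 : act 8 n13822 = n12903 := d35_2 D12888 D13822 (iv D12903) (iv D11896) (iv F46754)
def n13823 : Q := act 7 n12889
theorem D13823 : act 7 n12889 = n13823 := rfl
theorem F54558 : act 1 n13823 = n13392 := d13_1 D13823 (iv D13392) (iv F50829)
theorem F54559 : act 2 n13823 = n12892 := d19_1 D13823 (iv D12892) (iv F50830)
theorem F54560 : act 3 n13823 = n13391 := d24_1 D13823 (iv D13391) F48833 (iv F48305) (iv F50831)
theorem F54561 : act 4 n13823 = n12890 := d28_1 D13823 (iv D12890) (iv F50832)
theorem F54562 : act 5 n13823 = n13241 := d31_1 D13823 (iv D13241) (iv F50833)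
theorem F54563 : act 6 n13823 = n13233 := d33_1 D13823 (iv D13233) (iv F50834)
theorem F54564 : act 8 n13823 = n12905 := d35_2 D12889 D13823 (iv D12905) (iv D11898) (iv F46759)
def n13824 : Q := act 3 n12890
theorem D13824 : act 3 n12890 = n13824 := rfl
theorem F54565 : act 2 n13824 = n13631 := d15_1 D13824 (iv D13631) F49938 (iv F46775) (iv F50835)
theorem F54566 : act 5 n13824 = n13228 := d22_2 (iv F50836) D13824 (iv D13228)
theorem F54567 : act 7 n13824 = n13824 := d24_2 D12890 D13824 (iv D13824) (iv D12890) F46763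
theorem F54568 : act 8 n13824 = n12906 := d25_2 (iv F50837) D13824 (iv D12906)
def n13825 : Q := act 7 n12891
theorem D13825 : act 7 n12891 = n13825 := rfl
theorem F54569 : act 1 n13825 = n13034 := d13_1 D13825 (iv D13034) (iv F50838)
theorem F54570 : act 2 n13825 = n13241 := d19_1 D13825 (iv D13241) (iv F50839)
theorem F54571 : act 4 n13825 = n13229 := d28_1 D13825 (iv D13229) (iv F50841)
theorem F54572 : act 5 n13825 = n12892 := d31_1 D13825 (iv D12892) (iv F50842)
theorem F54573 : act 6 n13825 = n13238 := d33_1 D13825 (iv D13238) (iv F50843)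
theorem F54574 : act 8 n13825 = n12908 := d35_2 D12891 D13825 (iv D12908) (iv D11901) (iv F46770)
def n13826 : Q := act 3 n12892
theorem D13826 : act 3 n12892 = n13826 := rfl
theorem F54575 : act 1 n13826 = n13035 := d9_1 D13826 (iv D13035) (iv F50844)
theorem F54576 : act 4 n13826 = n13632 := d21_2 (iv F50845) D13826 (iv D13632) F49941 (iv F46775)
theorem F54577 : act 7 n13826 = n13826 := d24_2 D12892 D13826 (iv D13826) (iv D12892) F46772
theorem F54578 : act 8 n13826 = n12909 := d25_2 (iv F50846) D13826 (iv D12909)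
def n13827 : Q := act 7 n12893
theorem D13827 : act 7 n12893 = n13827 := rfl
theorem F54579 : act 1 n13827 = n13119 := d13_1 D13827 (iv D13119) (iv F50847)
theorem F54580 : act 2 n13827 = n12895 := d19_1 D13827 (iv D12895) (iv F50848)
theorem F54581 : act 3 n13827 = n13694 := d24_1 D13827 F53973 F50141 F46890 (iv F50849)
theorem F54582 : act 4 n13827 = n13223 := d28_1 D13827 (iv D13223) (iv F50850)
theorem F54583 : act 5 n13827 = n12898 := d31_1 D13827 (iv D12898) (iv F50851)
theorem F54584 : act 6 n13827 = n13121 := d33_1 D13827 (iv D13121) (iv F50852)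
theorem F54585 : act 8 n13827 = n13230 := d35_2 D12893 D13827 (iv D13230) (iv D12232) (iv F46782)
def n13828 : Q := act 7 n12894
theorem D13828 : act 7 n12894 = n13828 := rfl
theorem F54586 : act 1 n13828 = n13036 := d13_1 D13828 (iv D13036) (iv F50853)
theorem F54587 : act 2 n13828 = n13223 := d19_1 D13828 (iv D13223) (iv F50854)
theorem F54588 : act 4 n13828 = n12895 := d28_1 D13828 (iv D12895) (iv F50856)
theorem F54589 : act 5 n13828 = n13224 := d31_1 D13828 (iv D13224) (iv F50857)
theorem F54590 : act 6 n13828 = n13230 := d33_1 D13828 (iv D13230) (iv F50858)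
theorem F54591 : act 8 n13828 = n13121 := d35_2 D12894 D13828 (iv D13121) (iv D12133) (iv F46789)
def n13829 : Q := act 8 n12896
theorem D13829 : act 8 n12896 = n13829 := rfl
theorem F54592 : act 0 n13829 = n12897 := d7_1 D13829 (iv D12897) D12896
theorem F54593 : act 2 n13829 = n13037 := d20_1 D13829 (iv D13037) (iv F50863)
theorem F54594 : act 3 n13829 = n12914 := d25_1 D13829 (iv D12914) (iv F50864)
theorem F54595 : act 4 n13829 = n13217 := d29_1 D13829 F52219 (iv F50865)
theorem F54596 : act 5 n13829 = n13108 := d32_1 D13829 (iv D13108) (iv F50866)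
theorem F54597 : act 6 n13829 = n12901 := d34_1 D13829 (iv D12901) (iv F50867)
def n13830 : Q := act 7 n12897
theorem D13830 : act 7 n12897 = n13830 := rfl
theorem F54598 : act 1 n13830 = n12898 := d13_1 D13830 (iv D12898) (iv F50869)
theorem F54599 : act 2 n13830 = n13038 := d19_1 D13830 (iv D13038) (iv F50870)
theorem F54600 : act 4 n13830 = n13242 := d28_1 D13830 F52307 (iv F50872)
theorem F54601 : act 5 n13830 = n13119 := d31_1 D13830 (iv D13119) (iv F50873)
theorem F54602 : act 6 n13830 = n12903 := d33_1 D13830 (iv D12903) (iv F50874)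
theorem F54603 : act 8 n13830 = n13282 := d35_2 D12897 D13830 (iv D13282) (iv D12298) (iv F46799)
def n13831 : Q := act 3 n12898
theorem D13831 : act 3 n12898 = n13831 := rfl
theorem F54604 : act 2 n13831 = n13237 := d15_1 D13831 (iv D13237) F48281 (iv F46811) (iv F50875)
theorem F54605 : act 4 n13831 = n13052 := d21_2 (iv F50876) D13831 (iv D13052) F47416 D12414
theorem F54606 : act 5 n13831 = n13694 := d22_2 F54583 D13831 (iv F54581)
theorem F54607 : act 6 n13831 = n12906 := d23_2 (iv F50877) D13831 (iv D12906)
theorem F54608 : act 7 n13831 = n12915 := d24_2 D12898 D13831 (iv D12915) (iv D11915) (iv F46801)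
def n13832 : Q := act 3 n12899
theorem D13832 : act 3 n12899 = n13832 := rfl
theorem F54609 : act 1 n13832 = n13042 := d9_1 D13832 (iv D13042) (iv F50878)
theorem F54610 : act 2 n13832 = n13398 := d15_1 D13832 (iv D13398) F48861 D12414 (iv F50879)
theorem F54611 : act 4 n13832 = n13396 := d21_2 (iv F50880) D13832 (iv D13396) F48855 (iv F46811)
theorem F54612 : act 5 n13832 = n13399 := d22_2 (iv F50881) D13832 F52814
theorem F54613 : act 6 n13832 = n12909 := d23_2 (iv F50882) D13832 (iv D12909)
theorem F54614 : act 7 n13832 = n12910 := d24_2 D12899 D13832 (iv D12910) (iv D11903) (iv F46806)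
def n13833 : Q := act 8 n12900
theorem D13833 : act 8 n12900 = n13833 := rfl
theorem F54615 : act 0 n13833 = n12902 := d7_1 D13833 (iv D12902) (iv F50883)
theorem F54616 : act 2 n13833 = n13044 := d20_1 D13833 (iv D13044) (iv F50884)
theorem F54617 : act 3 n13833 = n13216 := d25_1 D13833 F52216 (iv F50885)
theorem F54618 : act 4 n13833 = n12901 := d29_1 D13833 (iv D12901) D12900
theorem F54619 : act 5 n13833 = n13368 := d32_1 D13833 (iv D13368) F50888
theorem F54620 : act 6 n13833 = n13217 := d34_1 D13833 F52219 (iv F50886)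
def n13834 : Q := act 7 n12901
theorem D13834 : act 7 n12901 = n13834 := rfl
theorem F54621 : act 0 n13834 = n12903 := d6_1 D13834 (iv D12903) (iv F50889)
theorem F54622 : act 2 n13834 = n13045 := d19_1 D13834 (iv D13045) (iv F50890)
theorem F54623 : act 5 n13834 = n13235 := d31_1 D13834 (iv D13235) (iv F50892)
def n13835 : Q := act 7 n12902
theorem D13835 : act 7 n12902 = n13835 := rfl
theorem F54624 : act 1 n13835 = n12905 := d13_1 D13835 (iv D12905) (iv F50893)
theorem F54625 : act 2 n13835 = n13047 := d19_1 D13835 (iv D13047) (iv F50894)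
theorem F54626 : act 3 n13835 = n13241 := d24_1 D13835 (iv D13241) F48290 D12249 (iv F50895)
theorem F54627 : act 4 n13835 = n12903 := d28_1 D13835 (iv D12903) (iv F50896)
theorem F54628 : act 5 n13835 = n13391 := d31_1 D13835 (iv D13391) (iv F50897)
theorem F54629 : act 6 n13835 = n13242 := d33_1 D13835 F52307 (iv F50898)
theorem F54630 : act 8 n13835 = n13392 := d35_2 D12902 D13835 (iv D13392) (iv D12403) (iv F46820)
def n13836 : Q := act 3 n12903
theorem D13836 : act 3 n12903 = n13836 := rfl
theorem F54631 : act 1 n13836 = n12906 := d9_1 D13836 (iv D12906) (iv F50899)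
theorem F54632 : act 2 n13836 = n13694 := d15_1 D13836 (iv F54581) F54580 F50860 (iv F50900)
theorem F54633 : act 5 n13836 = n13237 := d22_2 (iv F50901) D13836 (iv D13237)
theorem F54634 : act 7 n13836 = n12917 := d24_2 D12903 D13836 (iv D12917) (iv D11917) (iv F46824)
theorem F54635 : act 4 n13693 = n13836 := d36_4 D12228 D13227 F52258 (iv F53971) (iv D13836) F50899 F46836 F42969 (iv F45945) (iv D11675) F42283 (iv F40398) F40397 F32634 (iv F32223) F32224 (iv F32087) (iv D8417) (iv D6142) F17592 F13081 F13080 (iv F17592) F17591 F13090 F13091 F9791 F9790 (iv F9825) F9826 (iv F13148) F13147 (iv F17674) (iv F23798) F38725 (iv F38727) D8494 D10277 (iv F44155) F46783 F46779 F43004 (iv D10226) (iv D8455) D8456 F32254 (iv F32450) (iv F40456) (iv F43741) F43740 F43739 F40274 F32111 (iv D6147) (iv D4495) F13086 F13087 (iv D3288) F9779 (iv F9772) F9773 (iv F10391) F10392 F38694 (iv F38671) F10452 F7815 (iv F10394) F10393 F7789 F7790 D1907 F7838 F5913 (iv F7890) (iv F38897) F5998 (iv F6134) (iv F8145) D2710 D3695 D5052 F19620 F19621 (iv F26455)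 D9469 F35808 D10692 F44178
def n13837 : Q := act 7 n12904
theorem D13837 : act 7 n12904 = n13837 := rfl
theorem F54636 : act 1 n13837 = n13391 := d13_1 D13837 (iv D13391) (iv F50902)
theorem F54637 : act 2 n13837 = n12908 := d19_1 D13837 (iv D12908) (iv F50903)
theorem F54638 : act 3 n13837 = n13392 := d24_1 D13837 (iv D13392) F48838 D12416 (iv F50904)
theorem F54639 : act 4 n13837 = n13238 := d28_1 D13837 (iv D13238) (iv F50905)
theorem F54640 : act 5 n13837 = n12905 := d31_1 D13837 (iv D12905) (iv F50906)
theorem F54641 : act 6 n13837 = n13229 := d33_1 D13837 (iv D13229) (iv F50907)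
theorem F54642 : act 8 n13837 = n13241 := d35_2 D12904 D13837 (iv D13241) (iv D12245) (iv F46831)
def n13838 : Q := act 4 n12906
theorem D13838 : act 4 n12906 = n13838 := rfl
theorem F54643 : act 1 n13838 = n13693 := d10_1 D13838 F54635 F54631
theorem F54644 : act 2 n13838 = n13634 := d16_1 D13838 (iv D13634) (iv F50912)
theorem F54645 : act 3 n13838 = n13051 := d21_1 D13838 F51518 (iv F50909) F50910 D12906
theorem F54646 : act 6 n13838 = n13052 := d27_2 F54607 D13838 (iv F54605)
theorem F54647 : act 7 n13838 = n12918 := d28_2 (iv F50914) D13838 (iv D12918)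
theorem F54648 : act 5 n13695 = n13838 := d31_3 F54647 (iv F50973) (iv F53974)
def n13839 : Q := act 7 n12907
theorem D13839 : act 7 n12907 = n13839 := rfl
theorem F54649 : act 1 n13839 = n13051 := d13_1 D13839 (iv D13051) (iv F50915)
theorem F54650 : act 2 n13839 = n13229 := d19_1 D13839 (iv D13229) (iv F50916)
theorem F54651 : act 3 n13839 = n13693 := d24_1 D13839 F53972 F50138 F46861 (iv F50917)
theorem F54652 : act 4 n13839 = n13241 := d28_1 D13839 (iv D13241) (iv F50918)
theorem F54653 : act 5 n13839 = n13227 := d31_1 D13839 (iv D13227) (iv F50919)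
theorem F54654 : act 6 n13839 = n12908 := d33_1 D13839 (iv D12908) (iv F50920)
theorem F54655 : act 8 n13839 = n13238 := d35_2 D12907 D13839 (iv D13238) (iv D12242) (iv F46843)
def n13840 : Q := act 3 n12908
theorem D13840 : act 3 n12908 = n13840 := rfl
theorem F54656 : act 1 n13840 = n13052 := d9_1 D13840 (iv D13052) (iv F50921)
theorem F54657 : act 2 n13840 = n13692 := d15_1 D13840 (iv D13692) (iv F52795) (iv F54638) F54637
theorem F54658 : act 5 n13840 = n12909 := d22_2 (iv F50923) D13840 (iv D12909)
theorem F54659 : act 6 n13840 = n13693 := d23_2 F54654 D13840 (iv F54651)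
theorem F54660 : act 7 n13840 = n12911 := d24_2 D12908 D13840 (iv D12911) (iv D11905) (iv F46845)
def n13841 : Q := act 2 n12909
theorem D13841 : act 2 n12909 = n13841 := rfl
theorem F54661 : act 3 n13841 = n13397 := d15_2 D12909 D13841 F52809 (iv F50909) F50908
theorem F54662 : act 4 n13841 = n13636 := d16_2 (iv F50925) D13841 (iv D13636)
theorem F54663 : act 5 n13841 = n13692 := d17_2 F54658 D13841 (iv F54657)
theorem F54664 : act 6 n13841 = n13398 := d18_2 F54613 D13841 (iv F54610)
theorem F54665 : act 7 n13841 = n12912 := d19_2 (iv F50926) D13841 (iv D12912)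
def n13842 : Q := act 4 n12911
theorem D13842 : act 4 n12911 = n13842 := rfl
theorem F54666 : act 1 n13842 = n12915 := d10_1 D13842 F50955 (iv F50933)
theorem F54667 : act 2 n13842 = n13125 := d16_1 D13842 F51867 (iv F50934)
theorem F54668 : act 3 n13842 = n12913 := d21_1 D13842 (iv D12913) (iv D11908) (iv F46864) D12911
theorem F54669 : act 5 n13842 = n13123 := d26_2 (iv F50935) D13842 F51857 F49956 (iv F46869)
theorem F54670 : act 6 n13842 = n12917 := d27_2 (iv F50936) D13842 F50965
theorem F54671 : act 8 n13842 = n13842 := d29_2 F50937 D13842 (iv D13842)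
def n13843 : Q := act 1 n12912
theorem D13843 : act 1 n12912 = n13843 := rfl
theorem F54672 : act 2 n13843 = n13057 := d8_2 D12912 D13843 (iv D13057) (iv D12046) (iv F46868)
theorem F54673 : act 3 n13843 = n13484 := d9_2 (iv F50938) D13843 F53181
theorem F54674 : act 4 n13843 = n13637 := d10_2 (iv F50939) D13843 (iv D13637)
theorem F54675 : act 5 n13843 = n13126 := d11_2 (iv F50940) D13843 F51871
theorem F54676 : act 6 n13843 = n13485 := d12_2 (iv F50941) D13843 F53187
theorem F54677 : act 8 n13843 = n13843 := d14_2 F50942 D13843 (iv D13843)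
def n13844 : Q := act 3 n12916
theorem D13844 : act 3 n12916 = n13844 := rfl
theorem F54678 : act 0 n13844 = n12917 := d2_1 D13844 (iv D12917) (iv F50959)
theorem F54679 : act 2 n13844 = n13688 := d15_1 D13844 F53954 (iv F50764) F50765 (iv F50960)
theorem F54680 : act 4 n13844 = n13687 := d21_2 F54121 D13844 F53950 (iv F50736) (iv F54120)
theorem F54681 : act 5 n13844 = n13244 := d22_2 (iv F50961) D13844 (iv D13244)
theorem F54682 : act 8 n13844 = n13844 := d25_2 F50962 D13844 (iv D13844)
def n13845 : Q := act 3 n12921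
theorem D13845 : act 3 n12921 = n13845 := rfl
theorem F54683 : act 1 n13845 = n13058 := d9_1 D13845 (iv D13058) (iv F50986)
theorem F54684 : act 5 n13845 = n12922 := d22_2 (iv F50988) D13845 (iv D12922)
theorem F54685 : act 6 n13845 = n13284 := d23_2 (iv F50989) D13845 (iv D13284)
def n13846 : Q := act 8 n12921
theorem D13846 : act 8 n12921 = n13846 := rfl
theorem F54686 : act 1 n13846 = n13059 := d14_1 D13846 (iv D13059) (iv F50986)
theorem F54687 : act 2 n13846 = n12929 := d20_1 D13846 (iv D12929) (iv F50987)
theorem F54688 : act 5 n13846 = n12923 := d32_1 D13846 (iv D12923) (iv F50988)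
theorem F54689 : act 6 n13846 = n13285 := d34_1 D13846 (iv D13285) (iv F50989)
theorem F54690 : act 7 n13846 = n13076 := d35_1 D13846 (iv D13076) F47506 (iv F46957) D12921
def n13847 : Q := act 2 n12922
theorem D13847 : act 2 n12922 = n13847 := rfl
theorem F54691 : act 3 n13847 = n12930 := d15_2 D12922 D13847 (iv D12930) (iv D11929) (iv F46959)
theorem F54692 : act 6 n13847 = n12924 := d18_2 (iv F50991) D13847 (iv D12924)
def n13848 : Q := act 8 n12922
theorem D13848 : act 8 n12922 = n13848 := rfl
theorem F54693 : act 1 n13848 = n13062 := d14_1 D13848 (iv D13062) (iv F50990)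
theorem F54694 : act 3 n13848 = n12923 := d25_1 D13848 (iv D12923) D12922
theorem F54695 : act 6 n13848 = n12926 := d34_1 D13848 (iv D12926) (iv F50991)
def n13849 : Q := act 1 n12924
theorem D13849 : act 1 n12924 = n13849 := rfl
theorem F54696 : act 2 n13849 = n13063 := d8_2 D12924 D13849 (iv D13063) (iv D12052) (iv F46962)
theorem F54697 : act 3 n13849 = n12933 := d9_2 (iv F50997) D13849 (iv D12933)
theorem F54698 : act 5 n13849 = n13289 := d11_2 (iv F50998) D13849 (iv D13289)
def n13850 : Q := act 4 n12924
theorem D13850 : act 4 n12924 = n13850 := rfl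
theorem F54699 : act 2 n13850 = n12925 := d16_1 D13850 (iv D12925) D12924
def n13851 : Q := act 8 n12924
theorem D13851 : act 8 n12924 = n13851 := rfl
theorem F54700 : act 2 n13851 = n12926 := d20_1 D13851 (iv D12926) D12924
theorem F54701 : act 3 n13851 = n12935 := d25_1 D13851 (iv D12935) (iv F50997)
theorem F54702 : act 5 n13851 = n13291 := d32_1 D13851 (iv D13291) (iv F50998)
def n13852 : Q := act 5 n12925
theorem D13852 : act 5 n12925 = n13852 := rfl
theorem F54703 : act 1 n13852 = n13066 := d11_1 D13852 (iv D13066) (iv F50999)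
theorem F54704 : act 3 n13852 = n13852 := d22_1 D13852 (iv D13852) F51000
theorem F54705 : act 4 n13852 = n13292 := d26_1 D13852 (iv D13292) (iv D12306) (iv F46963) D12925
theorem F54706 : act 7 n13852 = n13582 := d31_2 F52326 D13852 F53622
def n13853 : Q := act 8 n12925
theorem D13853 : act 8 n12925 = n13853 := rfl
theorem F54707 : act 1 n13853 = n13067 := d14_1 D13853 (iv D13067) (iv F50999)
theorem F54708 : act 3 n13853 = n13853 := d25_1 D13853 (iv D13853) F51000
theorem F54709 : act 4 n13853 = n12926 := d29_1 D13853 (iv D12926) D12925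
def n13854 : Q := act 7 n12926
theorem D13854 : act 7 n12926 = n13854 := rfl
theorem F54710 : act 1 n13854 = n13068 := d13_1 D13854 (iv D13068) (iv F51001)
theorem F54711 : act 3 n13854 = n13642 := d24_1 D13854 (iv D13642) F49968 (iv F46968) (iv F51002)
theorem F54712 : act 5 n13854 = n13294 := d31_1 D13854 (iv D13294) (iv F51003)
def n13855 : Q := act 8 n12927
theorem D13855 : act 8 n12927 = n13855 := rfl
theorem F54713 : act 0 n13855 = n13272 := d7_1 D13855 F52415 (iv F51004)
theorem F54714 : act 1 n13855 = n12983 := d14_1 D13855 (iv D12983) (iv F51005)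
theorem F54715 : act 3 n13855 = n13086 := d25_1 D13855 (iv D13086) F51009
theorem F54716 : act 4 n13855 = n12929 := d29_1 D13855 (iv D12929) (iv F51006)
theorem F54717 : act 5 n13855 = n13855 := d32_1 D13855 (iv D13855) F51007
theorem F54718 : act 6 n13855 = n13105 := d34_1 D13855 F51786 (iv F51008)
theorem F54719 : act 7 n13855 = n13082 := d35_1 D13855 (iv D13082) F47580 (iv F46974) D12927
def n13856 : Q := act 2 n12928
theorem D13856 : act 2 n12928 = n13856 := rfl
theorem F54720 : act 1 n13856 = n13097 := d8_1 D13856 F51749 F47745 (iv F47109) (iv F51010)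
theorem F54721 : act 4 n13856 = n13096 := d16_2 (iv F51011) D13856 F51745
theorem F54722 : act 5 n13856 = n12930 := d17_2 (iv F51012) D13856 (iv D12930)
theorem F54723 : act 6 n13856 = n13248 := d18_2 (iv F51013) D13856 F52330
theorem F54724 : act 7 n13856 = n12939 := d19_2 (iv F51014) D13856 (iv D12939)
def n13857 : Q := act 8 n12928
theorem D13857 : act 8 n12928 = n13857 := rfl
theorem F54725 : act 1 n13857 = n12984 := d14_1 D13857 (iv D12984) (iv F51010)
theorem F54726 : act 3 n13857 = n12929 := d25_1 D13857 (iv D12929) D12928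
theorem F54727 : act 4 n13857 = n13111 := d29_1 D13857 (iv D13111) (iv F51011)
theorem F54728 : act 5 n13857 = n12932 := d32_1 D13857 (iv D12932) (iv F51012)
theorem F54729 : act 6 n13857 = n13274 := d34_1 D13857 (iv D13274) (iv F51013)
def n13858 : Q := act 1 n12930
theorem D13858 : act 1 n12930 = n13858 := rfl
theorem F54730 : act 2 n13858 = n12985 := d8_2 D12930 D13858 (iv D12985) (iv D11970) (iv F46978)
theorem F54731 : act 5 n13858 = n13097 := d11_2 F54722 D13858 (iv F54720)
theorem F54732 : act 6 n13858 = n12933 := d12_2 (iv F51019) D13858 (iv D12933)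
theorem F54733 : act 7 n13858 = n12942 := d13_2 (iv F51020) D13858 (iv D12942)
theorem F54734 : act 0 n13256 = n13858 := d4_3 F54731 F51748 D13256
theorem F54735 : act 4 n13594 = n13858 := d26_5 F54731 (iv D13097) F47743 D12635 D13594
def n13859 : Q := act 4 n12930
theorem D13859 : act 4 n12930 = n13859 := rfl
theorem F54736 : act 1 n13859 = n13594 := d10_1 D13859 F54735 (iv D13858)
theorem F54737 : act 2 n13859 = n12931 := d16_1 D13859 (iv D12931) D12930
theorem F54738 : act 5 n13859 = n13591 := d26_2 F54722 D13859 (iv D13591) (iv F51747) (iv F54721)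
theorem F54739 : act 6 n13859 = n12934 := d27_2 (iv F51019) D13859 (iv D12934)
theorem F54740 : act 7 n13859 = n12943 := d28_2 (iv F51020) D13859 (iv D12943)
def n13860 : Q := act 8 n12930
theorem D13860 : act 8 n12930 = n13860 := rfl
theorem F54741 : act 2 n13860 = n12932 := d20_1 D13860 (iv D12932) D12930
theorem F54742 : act 6 n13860 = n12935 := d34_1 D13860 (iv D12935) (iv F51019)
def n13861 : Q := act 8 n12931
theorem D13861 : act 8 n12931 = n13861 := rfl
theorem F54743 : act 1 n13861 = n12987 := d14_1 D13861 (iv D12987) (iv F51021)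
theorem F54744 : act 3 n13861 = n13861 := d25_1 D13861 (iv D13861) F51022
theorem F54745 : act 4 n13861 = n12932 := d29_1 D13861 (iv D12932) D12931
theorem F54746 : act 5 n13861 = n13620 := d32_1 D13861 (iv D13620) (iv F51023)
theorem F54747 : act 6 n13861 = n12937 := d34_1 D13861 (iv D12937) (iv F51024)
def n13862 : Q := act 7 n12932
theorem D13862 : act 7 n12932 = n13862 := rfl
theorem F54748 : act 1 n13862 = n12988 := d13_1 D13862 (iv D12988) (iv F51026)
theorem F54749 : act 3 n13862 = n13365 := d24_1 D13862 (iv D13365) F48713 (iv F46984) (iv F51027)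
theorem F54750 : act 6 n13862 = n12938 := d33_1 D13862 (iv D12938) (iv F51028)
theorem F54751 : act 8 n13862 = n12947 := d35_2 D12932 D13862 (iv D12947) (iv D11938) (iv F46980)
def n13863 : Q := act 0 n12933
theorem D13863 : act 0 n12933 = n13863 := rfl
theorem F54752 : act 2 n13863 = n12989 := d1_2 (iv F51029) D13863 (iv D12989)
theorem F54753 : act 5 n13863 = n13299 := d4_2 (iv F51030) D13863 (iv D13299)
theorem F54754 : act 6 n13863 = n13256 := d5_2 F54732 D13863 F54734
theorem F54755 : act 7 n13863 = n12948 := d6_2 (iv F51031) D13863 (iv D12948)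
theorem F54756 : act 4 n13652 = n13863 := d27_3 F54754 F52354 D13652
def n13864 : Q := act 4 n12933
theorem D13864 : act 4 n12933 = n13864 := rfl
theorem F54757 : act 0 n13864 = n13652 := d3_1 D13864 F54756 (iv D13863)
theorem F54758 : act 1 n13864 = n12934 := d10_1 D13864 (iv D12934) D12933
theorem F54759 : act 2 n13864 = n12990 := d16_1 D13864 (iv D12990) (iv F51029)
theorem F54760 : act 6 n13864 = n13594 := d27_2 F54732 D13864 F54735
theorem F54761 : act 7 n13864 = n12949 := d28_2 (iv F51031) D13864 (iv D12949)
def n13865 : Q := act 8 n12933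
theorem D13865 : act 8 n12933 = n13865 := rfl
theorem F54762 : act 1 n13865 = n12935 := d14_1 D13865 (iv D12935) D12933
theorem F54763 : act 2 n13865 = n12991 := d20_1 D13865 (iv D12991) (iv F51029)
theorem F54764 : act 5 n13865 = n13301 := d32_1 D13865 (iv D13301) (iv F51030)
def n13866 : Q := act 3 n12934
theorem D13866 : act 3 n12934 = n13866 := rfl
theorem F54765 : act 2 n13866 = n13866 := d15_1 D13866 (iv D13866) F51032 F46988 (iv F51032)
def n13867 : Q := act 5 n12934
theorem D13867 : act 5 n12934 = n13867 := rfl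
theorem F54766 : act 2 n13867 = n12936 := d17_1 D13867 (iv D12936) (iv F51032)
theorem F54767 : act 4 n13867 = n13303 := d26_1 D13867 (iv D13303) (iv D12314) (iv F46985) D12934
theorem F54768 : act 7 n13867 = n12952 := d31_2 (iv F51033) D13867 (iv D12952)
def n13868 : Q := act 8 n12934
theorem D13868 : act 8 n12934 = n13868 := rfl
theorem F54769 : act 2 n13868 = n12937 := d20_1 D13868 (iv D12937) (iv F51032)
theorem F54770 : act 4 n13868 = n12935 := d29_1 D13868 (iv D12935) D12934
def n13869 : Q := act 7 n12935
theorem D13869 : act 7 n12935 = n13869 := rfl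
theorem F54771 : act 2 n13869 = n12938 := d19_1 D13869 (iv D12938) (iv F51034)
theorem F54772 : act 5 n13869 = n13305 := d31_1 D13869 (iv D13305) (iv F51035)
theorem F54773 : act 8 n13869 = n12954 := d35_2 D12935 D13869 (iv D12954) (iv D11941) (iv F46986)
def n13870 : Q := act 6 n12936
theorem D13870 : act 6 n12936 = n13870 := rfl
theorem F54774 : act 0 n13870 = n13206 := d5_1 D13870 (iv F54175) F54171
theorem F54775 : act 1 n13870 = n12995 := d12_1 D13870 (iv D12995) (iv F51036)
theorem F54776 : act 3 n13870 = n13870 := d23_1 D13870 (iv D13870) F51037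
theorem F54777 : act 4 n13870 = n13306 := d27_1 D13870 (iv D13306) (iv F51038)
theorem F54778 : act 5 n13870 = n13204 := d30_1 D13870 F52174 (iv F51023) F51024 D12936
theorem F54779 : act 7 n13870 = n12955 := d33_2 (iv F51039) D13870 (iv D12955)
def n13871 : Q := act 8 n12936
theorem D13871 : act 8 n12936 = n13871 := rfl
theorem F54780 : act 1 n13871 = n12996 := d14_1 D13871 (iv D12996) (iv F51036)
theorem F54781 : act 3 n13871 = n13871 := d25_1 D13871 (iv D13871) F51037
theorem F54782 : act 4 n13871 = n13307 := d29_1 D13871 (iv D13307) (iv F51038)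
theorem F54783 : act 5 n13871 = n12937 := d32_1 D13871 (iv D12937) D12936
def n13872 : Q := act 7 n12937
theorem D13872 : act 7 n12937 = n13872 := rfl
theorem F54784 : act 1 n13872 = n12997 := d13_1 D13872 (iv D12997) (iv F51040)
theorem F54785 : act 4 n13872 = n12938 := d28_1 D13872 (iv D12938) (iv F51042)
theorem F54786 : act 8 n13872 = n12957 := d35_2 D12937 D13872 (iv D12957) (iv D11943) (iv F46989)
def n13873 : Q := act 4 n12939
theorem D13873 : act 4 n12939 = n13873 := rfl
theorem F54787 : act 1 n13873 = n13092 := d10_1 D13873 F51725 (iv F51047)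
theorem F54788 : act 2 n13873 = n12940 := d16_1 D13873 (iv D12940) D12939
theorem F54789 : act 6 n13873 = n13253 := d27_2 (iv F51049) D13873 (iv D13253)
theorem F54790 : act 7 n13873 = n13096 := d28_2 F54724 D13873 (iv F54721)
theorem F54791 : act 5 n13586 = n13873 := d37_1 (iv F53634) (iv D13873) (iv F51060) F51059 (iv D11981) F43198 (iv F43302) F43300 (iv D10221) (iv D8445) F23802 F17678 F13150 (iv D3230) F9617 (iv D1783) F5547 F4166 F3161 F2528 F2531 (iv D558) (iv D411) (iv D304) F1097 (iv F1376) (iv F1712) (iv D367) F1302 F1301 F993 F748 F747 F746 D160 F800 F588 D117 D162 F806 F38425 F984 F983 (iv F1225) (iv F1611) (iv F2132) (iv F2807) (iv F3696) (iv F4868) (iv F5664) (iv F7442) (iv F9947) (iv F13316) (iv F17917) (iv F23864) D8469 F32299 (iv F40478) D11147 D12153 D13146 F51946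
def n13874 : Q := act 8 n12939
theorem D13874 : act 8 n12939 = n13874 := rfl
theorem F54792 : act 1 n13874 = n13251 := d14_1 D13874 (iv D13251) (iv F51047)
theorem F54793 : act 2 n13874 = n12941 := d20_1 D13874 (iv D12941) D12939
theorem F54794 : act 5 n13874 = n12944 := d32_1 D13874 (iv D12944) (iv F51048)
theorem F54795 : act 6 n13874 = n13254 := d34_1 D13874 (iv D13254) (iv F51049)
def n13875 : Q := act 8 n12940
theorem D13875 : act 8 n12940 = n13875 := rfl
theorem F54796 : act 1 n13875 = n12998 := d14_1 D13875 (iv D12998) (iv F51050)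
theorem F54797 : act 3 n13875 = n13875 := d25_1 D13875 (iv D13875) F51051
theorem F54798 : act 4 n13875 = n12941 := d29_1 D13875 (iv D12941) D12940
theorem F54799 : act 5 n13875 = n13617 := d32_1 D13875 (iv D13617) F51054
theorem F54800 : act 6 n13875 = n13277 := d34_1 D13875 (iv D13277) (iv F51052)
def n13876 : Q := act 7 n12941
theorem D13876 : act 7 n12941 = n13876 := rfl
theorem F54801 : act 1 n13876 = n12999 := d13_1 D13876 (iv D12999) (iv F51055)
theorem F54802 : act 3 n13876 = n13012 := d24_1 D13876 (iv D13012) F47200 (iv F47000) (iv F51056)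
theorem F54803 : act 5 n13876 = n12947 := d31_1 D13876 (iv D12947) (iv F51057)
theorem F54804 : act 6 n13876 = n13278 := d33_1 D13876 (iv D13278) (iv F51058)
def n13877 : Q := act 0 n12942
theorem D13877 : act 0 n12942 = n13877 := rfl
theorem F54805 : act 2 n13877 = n13000 := d1_2 (iv F51059) D13877 (iv D13000)
theorem F54806 : act 3 n13877 = n13744 := d2_2 (iv F51060) D13877 F54186
theorem F54807 : act 5 n13877 = n13094 := d4_2 (iv F51061) D13877 F51735
theorem F54808 : act 6 n13877 = n12948 := d5_2 (iv F51062) D13877 (iv D12948)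
theorem F54809 : act 7 n13877 = n13256 := d6_2 F54733 D13877 F54734
theorem F54810 : act 4 n13644 = n13877 := d28_3 F54809 F52354 (iv F53822)
def n13878 : Q := act 4 n12942
theorem D13878 : act 4 n12942 = n13878 := rfl
theorem F54811 : act 0 n13878 = n13644 := d3_1 D13878 F54810 (iv D13877)
theorem F54812 : act 1 n13878 = n12943 := d10_1 D13878 (iv D12943) D12942
theorem F54813 : act 2 n13878 = n13001 := d16_1 D13878 (iv D13001) (iv F51059)
theorem F54814 : act 5 n13878 = n13587 := d26_2 (iv F51061) D13878 (iv D13587) (iv F51726) F51725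
theorem F54815 : act 6 n13878 = n12949 := d27_2 (iv F51062) D13878 (iv D12949)
theorem F54816 : act 7 n13878 = n13594 := d28_2 F54733 D13878 F54735
def n13879 : Q := act 8 n12942
theorem D13879 : act 8 n12942 = n13879 := rfl
theorem F54817 : act 1 n13879 = n12944 := d14_1 D13879 (iv D12944) D12942
theorem F54818 : act 2 n13879 = n13002 := d20_1 D13879 (iv D13002) (iv F51059)
theorem F54819 : act 3 n13879 = n13874 := d25_1 D13879 (iv D13874) (iv F51060)
theorem F54820 : act 5 n13879 = n13251 := d32_1 D13879 (iv D13251) (iv F51061)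
theorem F54821 : act 6 n13879 = n12950 := d34_1 D13879 (iv D12950) (iv F51062)
def n13880 : Q := act 3 n12943
theorem D13880 : act 3 n12943 = n13880 := rfl
theorem F54822 : act 2 n13880 = n12958 := d15_1 D13880 (iv D12958) F47023 (iv F47003) (iv F51063)
theorem F54823 : act 6 n13880 = n12951 := d23_2 (iv F51064) D13880 (iv D12951)
def n13881 : Q := act 5 n12943
theorem D13881 : act 5 n12943 = n13881 := rfl
theorem F54824 : act 0 n13881 = n13555 := d4_1 D13881 F54207 F54203
theorem F54825 : act 1 n13881 = n13587 := d11_1 D13881 (iv F54814) F54812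
theorem F54826 : act 2 n13881 = n12945 := d17_1 D13881 (iv D12945) (iv F51063)
theorem F54827 : act 4 n13881 = n13586 := d26_1 D13881 F54791 (iv D13873) F51048 D12943
theorem F54828 : act 7 n13881 = n13591 := d31_2 F54740 D13881 (iv F54738)
def n13882 : Q := act 8 n12943
theorem D13882 : act 8 n12943 = n13882 := rfl
theorem F54829 : act 2 n13882 = n12946 := d20_1 D13882 (iv D12946) (iv F51063)
theorem F54830 : act 4 n13882 = n12944 := d29_1 D13882 (iv D12944) D12943
theorem F54831 : act 6 n13882 = n12953 := d34_1 D13882 (iv D12953) (iv F51064)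
def n13883 : Q := act 7 n12944
theorem D13883 : act 7 n12944 = n13883 := rfl
theorem F54832 : act 2 n13883 = n12947 := d19_1 D13883 (iv D12947) (iv F51065)
theorem F54833 : act 6 n13883 = n12954 := d33_1 D13883 (iv D12954) (iv F51066)
def n13884 : Q := act 6 n12945
theorem D13884 : act 6 n12945 = n13884 := rfl
theorem F54834 : act 0 n13884 = n13190 := d5_1 D13884 F52120 (iv F51067)
theorem F54835 : act 1 n13884 = n13005 := d12_1 D13884 (iv D13005) (iv F51068)
theorem F54836 : act 3 n13884 = n12962 := d23_1 D13884 (iv D12962) (iv F51069)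
theorem F54837 : act 4 n13884 = n13189 := d27_1 D13884 F52117 (iv F51070)
theorem F54838 : act 5 n13884 = n12955 := d30_1 D13884 (iv D12955) (iv D11942) (iv F47004) D12945
theorem F54839 : act 7 n13884 = n13204 := d33_2 (iv F51071) D13884 F52174
def n13885 : Q := act 8 n12945
theorem D13885 : act 8 n12945 = n13885 := rfl
theorem F54840 : act 0 n13885 = n13385 := d7_1 D13885 F52775 (iv F51067)
theorem F54841 : act 1 n13885 = n13006 := d14_1 D13885 (iv D13006) (iv F51068)
theorem F54842 : act 3 n13885 = n12963 := d25_1 D13885 (iv D12963) (iv F51069)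
theorem F54843 : act 4 n13885 = n13617 := d29_1 D13885 (iv D13617) (iv F51070)
theorem F54844 : act 5 n13885 = n12946 := d32_1 D13885 (iv D12946) D12945
def n13886 : Q := act 7 n12946
theorem D13886 : act 7 n12946 = n13886 := rfl
theorem F54845 : act 1 n13886 = n13007 := d13_1 D13886 (iv D13007) (iv F51072)
theorem F54846 : act 4 n13886 = n12947 := d28_1 D13886 (iv D12947) (iv F51074)
theorem F54847 : act 6 n13886 = n12957 := d33_1 D13886 (iv D12957) (iv F51075)
def n13887 : Q := act 4 n12948
theorem D13887 : act 4 n12948 = n13887 := rfl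
theorem F54848 : act 0 n13887 = n12949 := d3_1 D13887 (iv D12949) D12948
theorem F54849 : act 2 n13887 = n13008 := d16_1 D13887 (iv D13008) (iv F51079)
theorem F54850 : act 6 n13887 = n13644 := d27_2 F54808 D13887 F54810
theorem F54851 : act 7 n13887 = n13652 := d28_2 F54755 D13887 F54756
def n13888 : Q := act 8 n12948
theorem D13888 : act 8 n12948 = n13888 := rfl
theorem F54852 : act 0 n13888 = n12950 := d7_1 D13888 (iv D12950) D12948
theorem F54853 : act 2 n13888 = n13009 := d20_1 D13888 (iv D13009) (iv F51079)
theorem F54854 : act 5 n13888 = n13317 := d32_1 D13888 (iv D13317) (iv F51080)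
def n13889 : Q := act 3 n12949
theorem D13889 : act 3 n12949 = n13889 := rfl
theorem F54855 : act 1 n13889 = n12951 := d9_1 D13889 (iv D12951) (iv F51081)
theorem F54856 : act 2 n13889 = n13889 := d15_1 D13889 (iv D13889) F51082 F47198 (iv F51082)
def n13890 : Q := act 5 n12949
theorem D13890 : act 5 n12949 = n13890 := rfl
theorem F54857 : act 1 n13890 = n12952 := d11_1 D13890 (iv D12952) (iv F51081)
theorem F54858 : act 2 n13890 = n13010 := d17_1 D13890 (iv D13010) (iv F51082)
theorem F54859 : act 4 n13890 = n13319 := d26_1 D13890 (iv D13319) (iv D12325) (iv F47009) D12949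
def n13891 : Q := act 8 n12949
theorem D13891 : act 8 n12949 = n13891 := rfl
theorem F54860 : act 1 n13891 = n12953 := d14_1 D13891 (iv D12953) (iv F51081)
theorem F54861 : act 2 n13891 = n13011 := d20_1 D13891 (iv D13011) (iv F51082)
theorem F54862 : act 4 n13891 = n12950 := d29_1 D13891 (iv D12950) D12949
def n13892 : Q := act 7 n12950
theorem D13892 : act 7 n12950 = n13892 := rfl
theorem F54863 : act 1 n13892 = n12954 := d13_1 D13892 (iv D12954) (iv F51083)
theorem F54864 : act 2 n13892 = n13012 := d19_1 D13892 (iv D13012) (iv F51084)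
theorem F54865 : act 5 n13892 = n13321 := d31_1 D13892 (iv D13321) (iv F51085)
def n13893 : Q := act 5 n12951
theorem D13893 : act 5 n12951 = n13893 := rfl
theorem F54866 : act 2 n13893 = n12965 := d17_1 D13893 (iv D12965) (iv F51086)
theorem F54867 : act 3 n13893 = n12952 := d22_1 D13893 (iv D12952) D12951
def n13894 : Q := act 7 n12951
theorem D13894 : act 7 n12951 = n13894 := rfl
theorem F54868 : act 2 n13894 = n12966 := d19_1 D13894 (iv D12966) (iv F51086)
def n13895 : Q := act 8 n12951
theorem D13895 : act 8 n12951 = n13895 := rfl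
theorem F54869 : act 2 n13895 = n12967 := d20_1 D13895 (iv D12967) (iv F51086)
theorem F54870 : act 3 n13895 = n12953 := d25_1 D13895 (iv D12953) D12951
def n13896 : Q := act 6 n12952
theorem D13896 : act 6 n12952 = n13896 := rfl
theorem F54871 : act 2 n13896 = n12955 := d18_1 D13896 (iv D12955) (iv F51087)
theorem F54872 : act 4 n13896 = n13325 := d27_1 D13896 (iv D13325) (iv F51088)
def n13897 : Q := act 8 n12952
theorem D13897 : act 8 n12952 = n13897 := rfl
theorem F54873 : act 2 n13897 = n12956 := d20_1 D13897 (iv D12956) (iv F51087)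
theorem F54874 : act 4 n13897 = n13326 := d29_1 D13897 (iv D13326) (iv F51088)
theorem F54875 : act 5 n13897 = n12953 := d32_1 D13897 (iv D12953) D12952
def n13898 : Q := act 7 n12953
theorem D13898 : act 7 n12953 = n13898 := rfl
theorem F54876 : act 2 n13898 = n12957 := d19_1 D13898 (iv D12957) (iv F51089)
theorem F54877 : act 4 n13898 = n12954 := d28_1 D13898 (iv D12954) (iv F51090)
def n13899 : Q := act 3 n12954
theorem D13899 : act 3 n12954 = n13899 := rfl
theorem F54878 : act 2 n13899 = n13655 := d15_1 D13899 (iv D13655) F49985 (iv F47020) (iv F51091)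
theorem F54879 : act 5 n13899 = n13328 := d22_2 (iv F51092) D13899 (iv D13328)
def n13900 : Q := act 8 n12955
theorem D13900 : act 8 n12955 = n13900 := rfl
theorem F54880 : act 1 n13900 = n13016 := d14_1 D13900 (iv D13016) (iv F51093)
theorem F54881 : act 3 n13900 = n12972 := d25_1 D13900 (iv D12972) (iv F51094)
theorem F54882 : act 4 n13900 = n13329 := d29_1 D13900 (iv D13329) (iv F51095)
theorem F54883 : act 6 n13900 = n12956 := d34_1 D13900 (iv D12956) D12955
def n13901 : Q := act 7 n12956
theorem D13901 : act 7 n12956 = n13901 := rfl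
theorem F54884 : act 1 n13901 = n13017 := d13_1 D13901 (iv D13017) (iv F51096)
theorem F54885 : act 4 n13901 = n13330 := d28_1 D13901 (iv D13330) (iv F51098)
theorem F54886 : act 5 n13901 = n12957 := d31_1 D13901 (iv D12957) (iv F51099)
def n13902 : Q := act 3 n12957
theorem D13902 : act 3 n12957 = n13902 := rfl
theorem F54887 : act 1 n13902 = n13018 := d9_1 D13902 (iv D13018) (iv F51100)
theorem F54888 : act 4 n13902 = n13658 := d21_2 (iv F51101) D13902 (iv D13658) F49992 (iv F47020)
theorem F54889 : act 7 n13902 = n12974 := d24_2 D12957 D13902 (iv D12974) (iv D11956) (iv F47017)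
def n13903 : Q := act 5 n12958
theorem D13903 : act 5 n12958 = n13903 := rfl
theorem F54890 : act 0 n13903 = n13582 := d4_1 D13903 F53622 F52322
theorem F54891 : act 1 n13903 = n13903 := d11_1 D13903 (iv D13903) F51102
theorem F54892 : act 3 n13903 = n12959 := d22_1 D13903 (iv D12959) D12958
def n13904 : Q := act 8 n12958
theorem D13904 : act 8 n12958 = n13904 := rfl
theorem F54893 : act 1 n13904 = n13904 := d14_1 D13904 (iv D13904) F51102
theorem F54894 : act 3 n13904 = n12960 := d25_1 D13904 (iv D12960) D12958
theorem F54895 : act 6 n13904 = n12967 := d34_1 D13904 (iv D12967) (iv F51103)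
def n13905 : Q := act 6 n12959
theorem D13905 : act 6 n12959 = n13905 := rfl
theorem F54896 : act 0 n13905 = n13577 := d5_1 D13905 F53602 (iv F51104)
theorem F54897 : act 1 n13905 = n13905 := d12_1 D13905 (iv D13905) F51105
theorem F54898 : act 2 n13905 = n12962 := d18_1 D13905 (iv D12962) (iv F51106)
theorem F54899 : act 4 n13905 = n13905 := d27_1 D13905 (iv D13905) F51107
theorem F54900 : act 5 n13905 = n12968 := d30_1 D13905 (iv D12968) (iv D11951) (iv F47024) D12959
theorem F54901 : act 7 n13905 = n13905 := d33_2 F51108 D13905 (iv D13905)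
def n13906 : Q := act 8 n12959
theorem D13906 : act 8 n12959 = n13906 := rfl
theorem F54902 : act 0 n13906 = n13464 := d7_1 D13906 F53090 (iv F51104)
theorem F54903 : act 1 n13906 = n13906 := d14_1 D13906 (iv D13906) F51105
theorem F54904 : act 2 n13906 = n12963 := d20_1 D13906 (iv D12963) (iv F51106)
theorem F54905 : act 4 n13906 = n13906 := d29_1 D13906 (iv D13906) F51107
theorem F54906 : act 5 n13906 = n12960 := d32_1 D13906 (iv D12960) D12959
def n13907 : Q := act 7 n12960
theorem D13907 : act 7 n12960 = n13907 := rfl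
theorem F54907 : act 1 n13907 = n13907 := d13_1 D13907 (iv D13907) F51109
theorem F54908 : act 2 n13907 = n12964 := d19_1 D13907 (iv D12964) (iv F51110)
theorem F54909 : act 4 n13907 = n12961 := d28_1 D13907 (iv D12961) (iv F51111)
theorem F54910 : act 6 n13907 = n12970 := d33_1 D13907 (iv D12970) (iv F51112)
theorem F54911 : act 8 n13907 = n13907 := d35_2 D12960 D13907 (iv D13907) (iv D12960) F47025
def n13908 : Q := act 8 n12962
theorem D13908 : act 8 n12962 = n13908 := rfl
theorem F54912 : act 0 n13908 = n13480 := d7_1 D13908 F53167 (iv F51118)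
theorem F54913 : act 1 n13908 = n13019 := d14_1 D13908 (iv D13019) (iv F51119)
theorem F54914 : act 4 n13908 = n13908 := d29_1 D13908 (iv D13908) F51120
theorem F54915 : act 5 n13908 = n12972 := d32_1 D13908 (iv D12972) (iv F51121)
theorem F54916 : act 6 n13908 = n12963 := d34_1 D13908 (iv D12963) D12962
theorem F54917 : act 7 n13722 = n13908 := d13_0 F54913 (iv F51368) (iv F54076)
def n13909 : Q := act 7 n12963
theorem D13909 : act 7 n12963 = n13909 := rfl
theorem F54918 : act 0 n13909 = n13479 := d6_1 D13909 F53162 (iv F51123)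
theorem F54919 : act 1 n13909 = n13020 := d13_1 D13909 (iv D13020) (iv F51124)
theorem F54920 : act 4 n13909 = n13909 := d28_1 D13909 (iv D13909) F51125
theorem F54921 : act 5 n13909 = n12964 := d31_1 D13909 (iv D12964) (iv F51126)
theorem F54922 : act 6 n13909 = n13722 := d33_1 D13909 F54917 F54916
theorem F54923 : act 8 n13909 = n13909 := d35_2 D12963 D13909 (iv D13909) (iv D12963) F47033
def n13910 : Q := act 3 n12964
theorem D13910 : act 3 n12964 = n13910 := rfl
theorem F54924 : act 1 n13910 = n13021 := d9_1 D13910 (iv D13021) (iv F51127)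
theorem F54925 : act 4 n13910 = n13475 := d21_2 (iv F51128) D13910 (iv D13475) F49165 (iv F47038)
theorem F54926 : act 6 n13910 = n12974 := d23_2 (iv F51129) D13910 (iv D12974)
theorem F54927 : act 8 n13910 = n13910 := d25_2 F51130 D13910 (iv D13910)
def n13911 : Q := act 4 n12965
theorem D13911 : act 4 n12965 = n13911 := rfl
theorem F54928 : act 1 n13911 = n13911 := d10_1 D13911 (iv D13911) F51131
theorem F54929 : act 3 n13911 = n12975 := d21_1 D13911 (iv D12975) F47065 (iv F47045) (iv F51132)
def n13912 : Q := act 6 n12965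
theorem D13912 : act 6 n12965 = n13912 := rfl
theorem F54930 : act 1 n13912 = n13912 := d12_1 D13912 (iv D13912) F51131
theorem F54931 : act 3 n13912 = n12968 := d23_1 D13912 (iv D12968) (iv F51132)
def n13913 : Q := act 7 n12965
theorem D13913 : act 7 n12965 = n13913 := rfl
theorem F54932 : act 1 n13913 = n13913 := d13_1 D13913 (iv D13913) F51131
theorem F54933 : act 3 n13913 = n13913 := d24_1 D13913 (iv D13913) F51132 F47046 (iv F51132)
theorem F54934 : act 5 n13913 = n12966 := d31_1 D13913 (iv D12966) D12965
def n13914 : Q := act 8 n12965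
theorem D13914 : act 8 n12965 = n13914 := rfl
theorem F54935 : act 1 n13914 = n13914 := d14_1 D13914 (iv D13914) F51131
theorem F54936 : act 3 n13914 = n12969 := d25_1 D13914 (iv D12969) (iv F51132)
theorem F54937 : act 5 n13914 = n12967 := d32_1 D13914 (iv D12967) D12965
def n13915 : Q := act 8 n12966
theorem D13915 : act 8 n12966 = n13915 := rfl
theorem F54938 : act 1 n13915 = n13915 := d14_1 D13915 (iv D13915) F51133
theorem F54939 : act 3 n13915 = n13915 := d25_1 D13915 (iv D13915) F51134
def n13916 : Q := act 7 n12967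
theorem D13916 : act 7 n12967 = n13916 := rfl
theorem F54940 : act 1 n13916 = n13916 := d13_1 D13916 (iv D13916) F51135
def n13917 : Q := act 8 n12968
theorem D13917 : act 8 n12968 = n13917 := rfl
theorem F54941 : act 1 n13917 = n13917 := d14_1 D13917 (iv D13917) F51137
theorem F54942 : act 2 n13917 = n12972 := d20_1 D13917 (iv D12972) (iv F51138)
theorem F54943 : act 4 n13917 = n12979 := d29_1 D13917 (iv D12979) (iv F51139)
theorem F54944 : act 6 n13917 = n12969 := d34_1 D13917 (iv D12969) D12968
def n13918 : Q := act 7 n12969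
theorem D13918 : act 7 n12969 = n13918 := rfl
theorem F54945 : act 1 n13918 = n13918 := d13_1 D13918 (iv D13918) F51141
theorem F54946 : act 2 n13918 = n12973 := d19_1 D13918 (iv D12973) (iv F51142)
theorem F54947 : act 4 n13918 = n12980 := d28_1 D13918 (iv D12980) (iv F51143)
theorem F54948 : act 5 n13918 = n12970 := d31_1 D13918 (iv D12970) (iv F51144)
theorem F54949 : act 8 n13918 = n13918 := d35_2 D12969 D13918 (iv D13918) (iv D12969) F47046
def n13919 : Q := act 3 n12970
theorem D13919 : act 3 n12970 = n13919 := rfl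
theorem F54950 : act 1 n13919 = n13919 := d9_1 D13919 (iv D13919) F51145
theorem F54951 : act 8 n13919 = n13919 := d25_2 F51148 D13919 (iv D13919)
def n13920 : Q := act 4 n12971
theorem D13920 : act 4 n12971 = n13920 := rfl
theorem F54952 : act 1 n13920 = n13920 := d10_1 D13920 (iv D13920) F51149
theorem F54953 : act 2 n13920 = n13668 := d16_1 D13920 (iv D13668) (iv F51150)
theorem F54954 : act 8 n13920 = n13920 := d29_2 F51152 D13920 (iv D13920)
def n13921 : Q := act 7 n12972
theorem D13921 : act 7 n12972 = n13921 := rfl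
theorem F54955 : act 0 n13921 = n13721 := d6_1 D13921 F54289 F54284
theorem F54956 : act 1 n13921 = n13022 := d13_1 D13921 (iv D13022) (iv F51153)
theorem F54957 : act 4 n13921 = n12981 := d28_1 D13921 (iv D12981) (iv F51154)
theorem F54958 : act 5 n13921 = n13722 := d31_1 D13921 F54917 F54915
theorem F54959 : act 6 n13921 = n12973 := d33_1 D13921 (iv D12973) (iv F51155)
theorem F54960 : act 8 n13921 = n13921 := d35_2 D12972 D13921 (iv D13921) (iv D12972) F47056
def n13922 : Q := act 3 n12973
theorem D13922 : act 3 n12973 = n13922 := rfl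
theorem F54961 : act 1 n13922 = n13023 := d9_1 D13922 (iv D13023) (iv F51156)
theorem F54962 : act 5 n13922 = n12974 := d22_2 (iv F51158) D13922 (iv D12974)
theorem F54963 : act 8 n13922 = n13922 := d25_2 F51159 D13922 (iv D13922)
def n13923 : Q := act 2 n12974
theorem D13923 : act 2 n12974 = n13923 := rfl
theorem F54964 : act 4 n13923 = n13671 := d16_2 (iv F51161) D13923 (iv D13671)
theorem F54965 : act 8 n13923 = n13923 := d20_2 F51162 D13923 (iv D13923)
def n13924 : Q := act 8 n12975
theorem D13924 : act 8 n12975 = n13924 := rfl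
theorem F54966 : act 1 n13924 = n13924 := d14_1 D13924 (iv D13924) F51163
theorem F54967 : act 2 n13924 = n13354 := d20_1 D13924 (iv D13354) (iv F51164)
theorem F54968 : act 4 n13924 = n12978 := d29_1 D13924 (iv D12978) D12975
def n13925 : Q := act 8 n12976
theorem D13925 : act 8 n12976 = n13925 := rfl
theorem F54969 : act 1 n13925 = n13925 := d14_1 D13925 (iv D13925) F51165
theorem F54970 : act 2 n13925 = n13355 := d20_1 D13925 (iv D13355) (iv F51166)
theorem F54971 : act 3 n13925 = n12979 := d25_1 D13925 (iv D12979) (iv F51167)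
theorem F54972 : act 5 n13925 = n13925 := d32_1 D13925 (iv D13925) F51168
theorem F54973 : act 6 n13925 = n12978 := d34_1 D13925 (iv D12978) D12976
def n13926 : Q := act 7 n12979
theorem D13926 : act 7 n12979 = n13926 := rfl
theorem F54974 : act 1 n13926 = n13926 := d13_1 D13926 (iv D13926) F51177
theorem F54975 : act 2 n13926 = n12981 := d19_1 D13926 (iv D12981) (iv F51178)
theorem F54976 : act 5 n13926 = n13926 := d31_1 D13926 (iv D13926) F51179
theorem F54977 : act 6 n13926 = n12980 := d33_1 D13926 (iv D12980) (iv F51180)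
theorem F54978 : act 8 n13926 = n13926 := d35_2 D12979 D13926 (iv D13926) (iv D12979) F47077
def n13927 : Q := act 7 n12984
theorem D13927 : act 7 n12984 = n13927 := rfl
theorem F54979 : act 0 n13927 = n13026 := d6_1 D13927 (iv D13026) (iv F51200)
theorem F54980 : act 2 n13927 = n13113 := d19_1 D13927 (iv D13113) (iv F51201)
theorem F54981 : act 3 n13927 = n12994 := d24_1 D13927 (iv D12994) F47144 (iv F47118) (iv F51202)
theorem F54982 : act 4 n13927 = n13112 := d28_1 D13927 (iv D13112) (iv F51203)
theorem F54983 : act 5 n13927 = n12988 := d31_1 D13927 (iv D12988) (iv F51204)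
theorem F54984 : act 6 n13927 = n13275 := d33_1 D13927 (iv D13275) (iv F51205)
theorem F54985 : act 8 n13927 = n12999 := d35_2 D12984 D13927 (iv D12999) (iv D11980) (iv F47113)
def n13928 : Q := act 8 n12985
theorem D13928 : act 8 n12985 = n13928 := rfl
theorem F54986 : act 0 n13928 = n13259 := d7_1 D13928 (iv D13259) (iv F51206)
theorem F54987 : act 1 n13928 = n12986 := d14_1 D13928 (iv D12986) D12985
theorem F54988 : act 3 n13928 = n13080 := d25_1 D13928 (iv D13080) (iv F51207)
theorem F54989 : act 4 n13928 = n13597 := d29_1 D13928 (iv D13597) (iv F51208)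
theorem F54990 : act 5 n13928 = n13099 := d32_1 D13928 (iv D13099) (iv F51209)
theorem F54991 : act 6 n13928 = n12991 := d34_1 D13928 (iv D12991) (iv F51210)
def n13929 : Q := act 7 n12986
theorem D13929 : act 7 n12986 = n13929 := rfl
theorem F54992 : act 0 n13929 = n13027 := d6_1 D13929 (iv D13027) (iv F51212)
theorem F54993 : act 2 n13929 = n12988 := d19_1 D13929 (iv D12988) (iv F51213)
theorem F54994 : act 3 n13929 = n13275 := d24_1 D13929 (iv D13275) F48440 (iv F47563) (iv F51214)
theorem F54995 : act 4 n13929 = n13624 := d28_1 D13929 (iv D13624) (iv F51215)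
theorem F54996 : act 5 n13929 = n13113 := d31_1 D13929 (iv D13113) (iv F51216)
theorem F54997 : act 6 n13929 = n12994 := d33_1 D13929 (iv D12994) (iv F51217)
theorem F54998 : act 8 n13929 = n13004 := d35_2 D12986 D13929 (iv D13004) (iv D11983) (iv F47123)
def n13930 : Q := act 7 n12987
theorem D13930 : act 7 n12987 = n13930 := rfl
theorem F54999 : act 0 n13930 = n13028 := d6_1 D13930 (iv D13028) (iv F51218)
theorem F55000 : act 2 n13930 = n13624 := d19_1 D13930 (iv D13624) (iv F51219)
theorem F55001 : act 4 n13930 = n12988 := d28_1 D13930 (iv D12988) (iv F51221)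
theorem F55002 : act 5 n13930 = n13622 := d31_1 D13930 (iv D13622) (iv F51222)
theorem F55003 : act 6 n13930 = n12997 := d33_1 D13930 (iv D12997) (iv F51223)
theorem F55004 : act 8 n13930 = n13007 := d35_2 D12987 D13930 (iv D13007) (iv D11985) (iv F47130)
def n13931 : Q := act 8 n12989
theorem D13931 : act 8 n12989 = n13931 := rfl
theorem F55005 : act 0 n13931 = n12991 := d7_1 D13931 (iv D12991) D12989
theorem F55006 : act 1 n13931 = n13029 := d14_1 D13931 (iv D13029) (iv F51228)
theorem F55007 : act 3 n13931 = n13081 := d25_1 D13931 (iv D13081) (iv F51229)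
theorem F55008 : act 4 n13931 = n13656 := d29_1 D13931 (iv D13656) F51233
theorem F55009 : act 5 n13931 = n13362 := d32_1 D13931 (iv D13362) (iv F51230)
theorem F55010 : act 6 n13931 = n13259 := d34_1 D13931 (iv D13259) (iv F51231)
def n13932 : Q := act 5 n12990
theorem D13932 : act 5 n12990 = n13932 := rfl
theorem F55011 : act 0 n13932 = n13375 := d4_1 D13932 F52743 (iv F51234)
theorem F55012 : act 1 n13932 = n12992 := d11_1 D13932 (iv D12992) (iv F51235)
theorem F55013 : act 3 n13932 = n13470 := d22_1 D13932 F53125 (iv F51236)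
theorem F55014 : act 4 n13932 = n13363 := d26_1 D13932 (iv D13363) (iv D12367) (iv F47135) D12990
theorem F55015 : act 6 n13932 = n13372 := d30_2 (iv F51237) D13932 (iv D13372) F48752 D12637
theorem F55016 : act 7 n13932 = n13010 := d31_2 (iv F51238) D13932 (iv D13010)
def n13933 : Q := act 8 n12990
theorem D13933 : act 8 n12990 = n13933 := rfl
theorem F55017 : act 0 n13933 = n13656 := d7_1 D13933 (iv D13656) (iv F51234)
theorem F55018 : act 1 n13933 = n12993 := d14_1 D13933 (iv D12993) (iv F51235)
theorem F55019 : act 3 n13933 = n13606 := d25_1 D13933 (iv D13606) (iv F51236)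
theorem F55020 : act 4 n13933 = n12991 := d29_1 D13933 (iv D12991) D12990
theorem F55021 : act 6 n13933 = n13597 := d34_1 D13933 (iv D13597) (iv F51237)
def n13934 : Q := act 7 n12991
theorem D13934 : act 7 n12991 = n13934 := rfl
theorem F55022 : act 1 n13934 = n12994 := d13_1 D13934 (iv D12994) (iv F51239)
theorem F55023 : act 5 n13934 = n13365 := d31_1 D13934 (iv D13365) (iv F51241)
theorem F55024 : act 8 n13934 = n13012 := d35_2 D12991 D13934 (iv D13012) (iv D11989) (iv F47136)
def n13935 : Q := act 8 n12992
theorem D13935 : act 8 n12992 = n13935 := rfl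
theorem F55025 : act 0 n13935 = n13031 := d7_1 D13935 (iv D13031) (iv F51242)
theorem F55026 : act 2 n13935 = n12996 := d20_1 D13935 (iv D12996) (iv F51243)
theorem F55027 : act 3 n13935 = n13481 := d25_1 D13935 (iv D13481) (iv F51244)
theorem F55028 : act 4 n13935 = n13366 := d29_1 D13935 (iv D13366) (iv F51245)
theorem F55029 : act 5 n13935 = n12993 := d32_1 D13935 (iv D12993) D12992
theorem F55030 : act 6 n13935 = n13393 := d34_1 D13935 (iv D13393) (iv F51246)
def n13936 : Q := act 7 n12993
theorem D13936 : act 7 n12993 = n13936 := rfl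
theorem F55031 : act 0 n13936 = n13032 := d6_1 D13936 (iv D13032) (iv F51248)
theorem F55032 : act 2 n13936 = n12997 := d19_1 D13936 (iv D12997) (iv F51249)
theorem F55033 : act 4 n13936 = n12994 := d28_1 D13936 (iv D12994) (iv F51251)
theorem F55034 : act 6 n13936 = n13624 := d33_1 D13936 (iv D13624) (iv F51252)
theorem F55035 : act 8 n13936 = n13015 := d35_2 D12993 D13936 (iv D13015) (iv D11991) (iv F47141)
def n13937 : Q := act 8 n12995
theorem D13937 : act 8 n12995 = n13937 := rfl
theorem F55036 : act 0 n13937 = n13033 := d7_1 D13937 (iv D13033) (iv F51257)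
theorem F55037 : act 2 n13937 = n13393 := d20_1 D13937 (iv D13393) (iv F51258)
theorem F55038 : act 3 n13937 = n13937 := d25_1 D13937 (iv D13937) F51259
theorem F55039 : act 4 n13937 = n13368 := d29_1 D13937 (iv D13368) (iv F51260)
theorem F55040 : act 5 n13937 = n13234 := d32_1 D13937 (iv D13234) (iv F51261)
theorem F55041 : act 6 n13937 = n12996 := d34_1 D13937 (iv D12996) D12995
def n13938 : Q := act 7 n12996
theorem D13938 : act 7 n12996 = n13938 := rfl
theorem F55042 : act 0 n13938 = n13034 := d6_1 D13938 (iv D13034) (iv F51263)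
theorem F55043 : act 4 n13938 = n13369 := d28_1 D13938 (iv D13369) (iv F51265)
theorem F55044 : act 5 n13938 = n12997 := d31_1 D13938 (iv D12997) (iv F51266)
theorem F55045 : act 8 n13938 = n13017 := d35_2 D12996 D13938 (iv D13017) (iv D11994) (iv F47149)
def n13939 : Q := act 3 n12997
theorem D13939 : act 3 n12997 = n13939 := rfl
theorem F55046 : act 0 n13939 = n13035 := d2_1 D13939 (iv D13035) (iv F51267)
theorem F55047 : act 4 n13939 = n13682 := d21_2 (iv F51268) D13939 (iv D13682) F50091 (iv F47154)
theorem F55048 : act 7 n13939 = n13939 := d24_2 D12997 D13939 (iv D13939) (iv D12997) F47151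
theorem F55049 : act 8 n13939 = n13018 := d25_2 (iv F51269) D13939 (iv D13018)
def n13940 : Q := act 7 n12998
theorem D13940 : act 7 n12998 = n13940 := rfl
theorem F55050 : act 0 n13940 = n13036 := d6_1 D13940 (iv D13036) (iv F51270)
theorem F55051 : act 2 n13940 = n13106 := d19_1 D13940 (iv D13106) (iv F51271)
theorem F55052 : act 4 n13940 = n12999 := d28_1 D13940 (iv D12999) (iv F51273)
theorem F55053 : act 5 n13940 = n13618 := d31_1 D13940 (iv D13618) (iv F51274)
theorem F55054 : act 6 n13940 = n13280 := d33_1 D13940 (iv D13280) (iv F51275)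
theorem F55055 : act 8 n13940 = n13112 := d35_2 D12998 D13940 (iv D13112) (iv D12118) (iv F47161)
def n13941 : Q := act 8 n13000
theorem D13941 : act 8 n13000 = n13941 := rfl
theorem F55056 : act 0 n13941 = n13002 := d7_1 D13941 (iv D13002) D13000
theorem F55057 : act 1 n13941 = n13037 := d14_1 D13941 (iv D13037) (iv F51281)
theorem F55058 : act 3 n13941 = n13025 := d25_1 D13941 (iv D13025) (iv F51282)
theorem F55059 : act 4 n13941 = n13647 := d29_1 D13941 (iv D13647) F51286
theorem F55060 : act 5 n13941 = n13095 := d32_1 D13941 (iv D13095) (iv F51283)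
theorem F55061 : act 6 n13941 = n13009 := d34_1 D13941 (iv D13009) (iv F51284)
def n13942 : Q := act 8 n13001
theorem D13942 : act 8 n13001 = n13942 := rfl
theorem F55062 : act 0 n13942 = n13647 := d7_1 D13942 (iv D13647) (iv F51287)
theorem F55063 : act 1 n13942 = n13003 := d14_1 D13942 (iv D13003) (iv F51288)
theorem F55064 : act 3 n13942 = n13942 := d25_1 D13942 (iv D13942) F51289
theorem F55065 : act 4 n13942 = n13002 := d29_1 D13942 (iv D13002) D13001
theorem F55066 : act 5 n13942 = n13589 := d32_1 D13942 (iv D13589) (iv F51290)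
theorem F55067 : act 6 n13942 = n13011 := d34_1 D13942 (iv D13011) (iv F51291)
def n13943 : Q := act 7 n13002
theorem D13943 : act 7 n13002 = n13943 := rfl
theorem F55068 : act 1 n13943 = n13004 := d13_1 D13943 (iv D13004) (iv F51293)
theorem F55069 : act 3 n13943 = n13278 := d24_1 D13943 (iv D13278) F48452 (iv F47274) (iv F51294)
theorem F55070 : act 5 n13943 = n13252 := d31_1 D13943 (iv D13252) (iv F51295)
theorem F55071 : act 6 n13943 = n13012 := d33_1 D13943 (iv D13012) (iv F51296)
def n13944 : Q := act 7 n13003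
theorem D13944 : act 7 n13003 = n13944 := rfl
theorem F55072 : act 0 n13944 = n13039 := d6_1 D13944 (iv D13039) (iv F51297)
theorem F55073 : act 2 n13944 = n13007 := d19_1 D13944 (iv D13007) (iv F51298)
theorem F55074 : act 4 n13944 = n13004 := d28_1 D13944 (iv D13004) (iv F51300)
theorem F55075 : act 5 n13944 = n13619 := d31_1 D13944 (iv D13619) (iv F51301)
theorem F55076 : act 6 n13944 = n13015 := d33_1 D13944 (iv D13015) (iv F51302)
theorem F55077 : act 8 n13944 = n13624 := d35_2 D13003 D13944 (iv D13624) (iv D12665) (iv F47176)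
def n13945 : Q := act 8 n13005
theorem D13945 : act 8 n13005 = n13945 := rfl
theorem F55078 : act 0 n13945 = n13040 := d7_1 D13945 (iv D13040) (iv F51308)
theorem F55079 : act 2 n13945 = n13386 := d20_1 D13945 (iv D13386) (iv F51309)
theorem F55080 : act 3 n13945 = n13019 := d25_1 D13945 (iv D13019) (iv F51310)
theorem F55081 : act 4 n13945 = n13225 := d29_1 D13945 (iv D13225) (iv F51311)
theorem F55082 : act 5 n13945 = n13016 := d32_1 D13945 (iv D13016) (iv F51312)
theorem F55083 : act 6 n13945 = n13006 := d34_1 D13945 (iv D13006) D13005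
def n13946 : Q := act 7 n13006
theorem D13946 : act 7 n13006 = n13946 := rfl
theorem F55084 : act 0 n13946 = n13041 := d6_1 D13946 (iv D13041) (iv F51314)
theorem F55085 : act 2 n13946 = n13619 := d19_1 D13946 (iv D13619) (iv F51315)
theorem F55086 : act 4 n13946 = n13618 := d28_1 D13946 (iv D13618) (iv F51317)
theorem F55087 : act 5 n13946 = n13007 := d31_1 D13946 (iv D13007) (iv F51318)
theorem F55088 : act 8 n13946 = n13622 := d35_2 D13006 D13946 (iv D13622) (iv D12663) (iv F47186)
def n13947 : Q := act 3 n13007
theorem D13947 : act 3 n13007 = n13947 := rfl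
theorem F55089 : act 0 n13947 = n13042 := d2_1 D13947 (iv D13042) (iv F51319)
theorem F55090 : act 4 n13947 = n13380 := d21_2 (iv F51320) D13947 (iv D13380) F48775 (iv F47192)
theorem F55091 : act 6 n13947 = n13018 := d23_2 (iv F51321) D13947 (iv D13018)
theorem F55092 : act 7 n13947 = n13021 := d24_2 D13007 D13947 (iv D13021) (iv D11998) (iv F47188)
def n13948 : Q := act 5 n13008
theorem D13948 : act 5 n13008 = n13948 := rfl
theorem F55093 : act 0 n13948 = n13010 := d4_1 D13948 (iv D13010) (iv F51322)
theorem F55094 : act 1 n13948 = n13043 := d11_1 D13948 (iv D13043) (iv F51323)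
theorem F55095 : act 3 n13948 = n13948 := d22_1 D13948 (iv D13948) F51324
theorem F55096 : act 4 n13948 = n13372 := d26_1 D13948 (iv D13372) (iv D12378) (iv F47196) D13008
theorem F55097 : act 6 n13948 = n13363 := d30_2 (iv F51325) D13948 (iv D13363) F48710 D12690
theorem F55098 : act 7 n13948 = n13375 := d31_2 (iv F51326) D13948 F52743
def n13949 : Q := act 8 n13008
theorem D13949 : act 8 n13008 = n13949 := rfl
theorem F55099 : act 0 n13949 = n13011 := d7_1 D13949 (iv D13011) (iv F51322)
theorem F55100 : act 1 n13949 = n13044 := d14_1 D13949 (iv D13044) (iv F51323)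
theorem F55101 : act 3 n13949 = n13949 := d25_1 D13949 (iv D13949) F51324
theorem F55102 : act 4 n13949 = n13009 := d29_1 D13949 (iv D13009) D13008
theorem F55103 : act 6 n13949 = n13647 := d34_1 D13949 (iv D13647) (iv F51325)
def n13950 : Q := act 7 n13009
theorem D13950 : act 7 n13009 = n13950 := rfl
theorem F55104 : act 0 n13950 = n13012 := d6_1 D13950 (iv D13012) (iv F51327)
theorem F55105 : act 1 n13950 = n13045 := d13_1 D13950 (iv D13045) (iv F51328)
theorem F55106 : act 5 n13950 = n13374 := d31_1 D13950 (iv D13374) (iv F51330)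
def n13951 : Q := act 6 n13010
theorem D13951 : act 6 n13010 = n13951 := rfl
theorem F55107 : act 0 n13951 = n13363 := d5_1 D13951 (iv F55097) F55093
theorem F55108 : act 1 n13951 = n13013 := d12_1 D13951 (iv D13013) (iv F51331)
theorem F55109 : act 3 n13951 = n13951 := d23_1 D13951 (iv D13951) F51332
theorem F55110 : act 4 n13951 = n13375 := d27_1 D13951 (iv D13375) (iv F51333)
theorem F55111 : act 5 n13951 = n13361 := d30_1 D13951 F52691 (iv F51290) F51291 D13010
theorem F55112 : act 7 n13951 = n13372 := d33_2 F55016 D13951 (iv F55015)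
def n13952 : Q := act 8 n13010
theorem D13952 : act 8 n13010 = n13952 := rfl
theorem F55113 : act 1 n13952 = n13014 := d14_1 D13952 (iv D13014) (iv F51331)
theorem F55114 : act 3 n13952 = n13952 := d25_1 D13952 (iv D13952) F51332
theorem F55115 : act 4 n13952 = n13376 := d29_1 D13952 (iv D13376) (iv F51333)
theorem F55116 : act 5 n13952 = n13011 := d32_1 D13952 (iv D13011) D13010
def n13953 : Q := act 7 n13011
theorem D13953 : act 7 n13011 = n13953 := rfl
theorem F55117 : act 1 n13953 = n13015 := d13_1 D13953 (iv D13015) (iv F51334)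
theorem F55118 : act 4 n13953 = n13012 := d28_1 D13953 (iv D13012) (iv F51336)
def n13954 : Q := act 8 n13013
theorem D13954 : act 8 n13013 = n13954 := rfl
theorem F55119 : act 0 n13954 = n13048 := d7_1 D13954 (iv D13048) (iv F51339)
theorem F55120 : act 2 n13954 = n13016 := d20_1 D13954 (iv D13016) (iv F51340)
theorem F55121 : act 3 n13954 = n13954 := d25_1 D13954 (iv D13954) F51341
theorem F55122 : act 4 n13954 = n13378 := d29_1 D13954 (iv D13378) (iv F51342)
theorem F55123 : act 5 n13954 = n13386 := d32_1 D13954 (iv D13386) (iv F51343)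
theorem F55124 : act 6 n13954 = n13014 := d34_1 D13954 (iv D13014) D13013
def n13955 : Q := act 7 n13014
theorem D13955 : act 7 n13014 = n13955 := rfl
theorem F55125 : act 0 n13955 = n13049 := d6_1 D13955 (iv D13049) (iv F51345)
theorem F55126 : act 2 n13955 = n13017 := d19_1 D13955 (iv D13017) (iv F51346)
theorem F55127 : act 4 n13955 = n13379 := d28_1 D13955 (iv D13379) (iv F51348)
theorem F55128 : act 5 n13955 = n13015 := d31_1 D13955 (iv D13015) (iv F51349)
def n13956 : Q := act 3 n13015
theorem D13956 : act 3 n13015 = n13956 := rfl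
theorem F55129 : act 0 n13956 = n13050 := d2_1 D13956 (iv D13050) (iv F51350)
theorem F55130 : act 7 n13956 = n13956 := d24_2 D13015 D13956 (iv D13956) (iv D13015) F47208
def n13957 : Q := act 7 n13016
theorem D13957 : act 7 n13016 = n13957 := rfl
theorem F55131 : act 0 n13957 = n13051 := d6_1 D13957 (iv D13051) (iv F51353)
theorem F55132 : act 4 n13957 = n13381 := d28_1 D13957 (iv D13381) (iv F51355)
theorem F55133 : act 6 n13957 = n13017 := d33_1 D13957 (iv D13017) (iv F51356)
def n13958 : Q := act 3 n13017
theorem D13958 : act 3 n13017 = n13958 := rfl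
theorem F55134 : act 0 n13958 = n13052 := d2_1 D13958 (iv D13052) (iv F51357)
theorem F55135 : act 5 n13958 = n13018 := d22_2 (iv F51359) D13958 (iv D13018)
theorem F55136 : act 7 n13958 = n13023 := d24_2 D13017 D13958 (iv D13023) (iv D12000) (iv F47217)
def n13959 : Q := act 2 n13018
theorem D13959 : act 2 n13018 = n13959 := rfl
theorem F55137 : act 0 n13959 = n13053 := d1_1 D13959 (iv D13053) (iv F51360)
theorem F55138 : act 4 n13959 = n13685 := d16_2 (iv F51361) D13959 (iv D13685)
theorem F55139 : act 7 n13959 = n13024 := d19_2 (iv F51362) D13959 (iv D13024)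
def n13960 : Q := act 3 n13020
theorem D13960 : act 3 n13020 = n13960 := rfl
theorem F55140 : act 0 n13960 = n13054 := d2_1 D13960 (iv D13054) (iv F51369)
theorem F55141 : act 5 n13960 = n13021 := d22_2 (iv F51372) D13960 (iv D13021)
theorem F55142 : act 6 n13960 = n13696 := d23_2 (iv F51373) D13960 F53975
theorem F55143 : act 8 n13960 = n13960 := d25_2 F51374 D13960 (iv D13960)
def n13961 : Q := act 2 n13021
theorem D13961 : act 2 n13021 = n13961 := rfl
theorem F55144 : act 0 n13961 = n13055 := d1_1 D13961 (iv D13055) (iv F51375)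
theorem F55145 : act 3 n13961 = n13961 := d15_2 D13021 D13961 (iv D13961) (iv D13021) F47232
theorem F55146 : act 4 n13961 = n13478 := d16_2 (iv F51376) D13961 (iv D13478)
theorem F55147 : act 6 n13961 = n13024 := d18_2 (iv F51377) D13961 (iv D13024)
theorem F55148 : act 8 n13961 = n13961 := d20_2 F51378 D13961 (iv D13961)
def n13962 : Q := act 2 n13023
theorem D13962 : act 2 n13023 = n13962 := rfl
theorem F55149 : act 0 n13962 = n13056 := d1_1 D13962 (iv D13056) (iv F51385)
theorem F55150 : act 3 n13962 = n13962 := d15_2 D13023 D13962 (iv D13962) (iv D13023) F47241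
theorem F55151 : act 4 n13962 = n13244 := d16_2 F54510 D13962 (iv F54509)
theorem F55152 : act 5 n13962 = n13024 := d17_2 (iv F51386) D13962 (iv D13024)
theorem F55153 : act 6 n13962 = n13630 := d18_2 F54524 D13962 (iv F54522)
theorem F55154 : act 8 n13962 = n13962 := d20_2 F51387 D13962 (iv D13962)
def n13963 : Q := act 1 n13024
theorem D13963 : act 1 n13024 = n13963 := rfl
theorem F55155 : act 3 n13963 = n13963 := d9_2 F51389 D13963 (iv D13963)
theorem F55156 : act 4 n13963 = n13689 := d10_2 (iv F51390) D13963 (iv D13689)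
theorem F55157 : act 8 n13963 = n13963 := d14_2 F51391 D13963 (iv D13963)
def n13964 : Q := act 3 n13028
theorem D13964 : act 3 n13028 = n13964 := rfl
theorem F55158 : act 4 n13964 = n13390 := d21_2 (iv F51413) D13964 (iv D13390) F48830 (iv F47302)
theorem F55159 : act 5 n13964 = n13633 := d22_2 (iv F51414) D13964 (iv D13633)
theorem F55160 : act 6 n13964 = n13035 := d23_2 (iv F51415) D13964 (iv D13035)
theorem F55161 : act 7 n13964 = n13964 := d24_2 D13028 D13964 (iv D13964) (iv D13028) F47298
theorem F55162 : act 8 n13964 = n13042 := d25_2 (iv F51416) D13964 (iv D13042)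
def n13965 : Q := act 7 n13029
theorem D13965 : act 7 n13029 = n13965 := rfl
theorem F55163 : act 0 n13965 = n13030 := d6_1 D13965 (iv D13030) (iv F51417)
theorem F55164 : act 4 n13965 = n13683 := d28_1 D13965 (iv D13683) (iv F51419)
theorem F55165 : act 5 n13965 = n13387 := d31_1 D13965 (iv D13387) (iv F51420)
theorem F55166 : act 6 n13965 = n13281 := d33_1 D13965 (iv D13281) (iv F51421)
theorem F55167 : act 8 n13965 = n13045 := d35_2 D13029 D13965 (iv D13045) (iv D12031) (iv F47309)
def n13966 : Q := act 7 n13031
theorem D13966 : act 7 n13031 = n13966 := rfl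
theorem F55168 : act 1 n13966 = n13397 := d13_1 D13966 (iv D13397) (iv F51427)
theorem F55169 : act 2 n13966 = n13034 := d19_1 D13966 (iv D13034) (iv F51428)
theorem F55170 : act 4 n13966 = n13389 := d28_1 D13966 (iv D13389) (iv F51430)
theorem F55171 : act 5 n13966 = n13032 := d31_1 D13966 (iv D13032) (iv F51431)
theorem F55172 : act 6 n13966 = n13395 := d33_1 D13966 (iv D13395) (iv F51432)
theorem F55173 : act 8 n13966 = n13049 := d35_2 D13031 D13966 (iv D13049) (iv D12036) (iv F47320)
def n13967 : Q := act 3 n13032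
theorem D13967 : act 3 n13032 = n13967 := rfl
theorem F55174 : act 1 n13967 = n13692 := d9_1 D13967 (iv D13692) (iv F51433)
theorem F55175 : act 4 n13967 = n13122 := d21_2 (iv F51435) D13967 (iv D13122) (iv F51401) F51400
theorem F55176 : act 6 n13967 = n13635 := d23_2 (iv F51436) D13967 (iv D13635)
theorem F55177 : act 7 n13967 = n13126 := d24_2 D13032 D13967 F51873 (iv D12681) (iv F47323)
theorem F55178 : act 8 n13967 = n13050 := d25_2 (iv F51437) D13967 (iv D13050)
theorem F55179 : act 2 n13240 = n13967 := d19_3 F55177 F51872 (iv F52302)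
def n13968 : Q := act 7 n13033
theorem D13968 : act 7 n13033 = n13968 := rfl
theorem F55180 : act 1 n13968 = n13238 := d13_1 D13968 (iv D13238) (iv F51438)
theorem F55181 : act 2 n13968 = n13395 := d19_1 D13968 (iv D13395) (iv F51439)
theorem F55182 : act 4 n13968 = n13391 := d28_1 D13968 (iv D13391) (iv F51441)
theorem F55183 : act 5 n13968 = n13236 := d31_1 D13968 (iv D13236) (iv F51442)
theorem F55184 : act 6 n13968 = n13034 := d33_1 D13968 (iv D13034) (iv F51443)
theorem F55185 : act 8 n13968 = n13051 := d35_2 D13033 D13968 (iv D13051) (iv D12038) (iv F47334)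
def n13969 : Q := act 3 n13034
theorem D13969 : act 3 n13034 = n13969 := rfl
theorem F55186 : act 5 n13969 = n13035 := d22_2 (iv F51445) D13969 (iv D13035)
theorem F55187 : act 7 n13969 = n13969 := d24_2 D13034 D13969 (iv D13969) (iv D13034) F47335
theorem F55188 : act 8 n13969 = n13052 := d25_2 (iv F51446) D13969 (iv D13052)
def n13970 : Q := act 2 n13035
theorem D13970 : act 2 n13035 = n13970 := rfl
theorem F55189 : act 3 n13970 = n13240 := d15_2 D13035 D13970 F55179 (iv D13967) F51434
theorem F55190 : act 4 n13970 = n13239 := d16_2 (iv F51447) D13970 F52299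
theorem F55191 : act 7 n13970 = n13970 := d19_2 F51448 D13970 (iv D13970)
theorem F55192 : act 8 n13970 = n13053 := d20_2 (iv F51449) D13970 (iv D13053)
def n13971 : Q := act 3 n13036
theorem D13971 : act 3 n13036 = n13971 := rfl
theorem F55193 : act 2 n13971 = n13228 := d15_1 D13971 (iv D13228) F48236 (iv F47856) (iv F51450)
theorem F55194 : act 4 n13971 = n13050 := d21_2 (iv F51451) D13971 (iv D13050) F47412 (iv F47346)
theorem F55195 : act 5 n13971 = n13631 := d22_2 (iv F51452) D13971 (iv D13631)
theorem F55196 : act 6 n13971 = n13283 := d23_2 (iv F51453) D13971 (iv D13283)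
theorem F55197 : act 7 n13971 = n13971 := d24_2 D13036 D13971 (iv D13971) (iv D13036) F47341
theorem F55198 : act 8 n13971 = n13122 := d25_2 (iv F51454) D13971 (iv D13122)
def n13972 : Q := act 7 n13037
theorem D13972 : act 7 n13037 = n13972 := rfl
theorem F55199 : act 0 n13972 = n13038 := d6_1 D13972 (iv D13038) (iv F51455)
theorem F55200 : act 3 n13972 = n13197 := d24_1 D13972 (iv D13197) F48110 (iv F47451) (iv F51456)
theorem F55201 : act 4 n13972 = n13681 := d28_1 D13972 (iv D13681) (iv F51457)
theorem F55202 : act 5 n13972 = n13109 := d31_1 D13972 (iv D13109) (iv F51458)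
theorem F55203 : act 6 n13972 = n13045 := d33_1 D13972 (iv D13045) (iv F51459)
theorem F55204 : act 8 n13972 = n13281 := d35_2 D13037 D13972 (iv D13281) (iv D12292) (iv F47353)
def n13973 : Q := act 3 n13039
theorem D13973 : act 3 n13039 = n13973 := rfl
theorem F55205 : act 1 n13973 = n13691 := d9_1 D13973 (iv D13691) (iv F51466)
theorem F55206 : act 4 n13973 = n13283 := d21_2 (iv F51468) D13973 (iv D13283) F48495 (iv F47366)
theorem F55207 : act 5 n13973 = n13632 := d22_2 (iv F51469) D13973 (iv D13632)
theorem F55208 : act 6 n13973 = n13050 := d23_2 (iv F51470) D13973 (iv D13050)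
theorem F55209 : act 7 n13973 = n13973 := d24_2 D13039 D13973 (iv D13973) (iv D13039) F47361
theorem F55210 : act 8 n13973 = n13635 := d25_2 (iv F51471) D13973 (iv D13635)
def n13974 : Q := act 7 n13040
theorem D13974 : act 7 n13040 = n13974 := rfl
theorem F55211 : act 1 n13974 = n13227 := d13_1 D13974 (iv D13227) (iv F51472)
theorem F55212 : act 2 n13974 = n13388 := d19_1 D13974 (iv D13388) (iv F51473)
theorem F55213 : act 3 n13974 = n13695 := d24_1 D13974 F53974 F50143 F47425 (iv F51474)
theorem F55214 : act 4 n13974 = n13226 := d28_1 D13974 (iv D13226) (iv F51475)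
theorem F55215 : act 5 n13974 = n13051 := d31_1 D13974 (iv D13051) (iv F51476)
theorem F55216 : act 6 n13974 = n13041 := d33_1 D13974 (iv D13041) (iv F51477)
theorem F55217 : act 8 n13974 = n13236 := d35_2 D13040 D13974 (iv D13236) (iv D12240) (iv F47374)
def n13975 : Q := act 3 n13041
theorem D13975 : act 3 n13041 = n13975 := rfl
theorem F55218 : act 1 n13975 = n13399 := d9_1 D13975 F52814 (iv F51478)
theorem F55219 : act 5 n13975 = n13042 := d22_2 (iv F51481) D13975 (iv D13042)
theorem F55220 : act 6 n13975 = n13695 := d23_2 F55216 D13975 (iv F55213)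
theorem F55221 : act 7 n13975 = n13054 := d24_2 D13041 D13975 (iv D13054) (iv D12042) (iv F47377)
theorem F55222 : act 8 n13975 = n13633 := d25_2 (iv F51482) D13975 (iv D13633)
def n13976 : Q := act 2 n13042
theorem D13976 : act 2 n13042 = n13976 := rfl
theorem F55223 : act 4 n13976 = n13399 := d16_2 (iv F51483) D13976 (iv D13399)
theorem F55224 : act 6 n13976 = n13053 := d18_2 (iv F51484) D13976 (iv D13053)
theorem F55225 : act 7 n13976 = n13055 := d19_2 (iv F51485) D13976 (iv D13055)
def n13977 : Q := act 8 n13043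
theorem D13977 : act 8 n13043 = n13977 := rfl
theorem F55226 : act 0 n13977 = n13046 := d7_1 D13977 (iv D13046) (iv F51486)
theorem F55227 : act 2 n13977 = n13368 := d20_1 D13977 (iv D13368) (iv F51487)
theorem F55228 : act 3 n13977 = n13977 := d25_1 D13977 (iv D13977) F51488
theorem F55229 : act 4 n13977 = n13393 := d29_1 D13977 (iv D13393) (iv F51489)
theorem F55230 : act 5 n13977 = n13044 := d32_1 D13977 (iv D13044) D13043
theorem F55231 : act 6 n13977 = n13366 := d34_1 D13977 (iv D13366) (iv F51490)
def n13978 : Q := act 7 n13044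
theorem D13978 : act 7 n13044 = n13978 := rfl
theorem F55232 : act 0 n13978 = n13047 := d6_1 D13978 (iv D13047) (iv F51492)
theorem F55233 : act 4 n13978 = n13045 := d28_1 D13978 (iv D13045) (iv F51494)
theorem F55234 : act 6 n13978 = n13681 := d33_1 D13978 (iv D13681) (iv F51495)
theorem F55235 : act 8 n13978 = n13683 := d35_2 D13044 D13978 (iv D13683) (iv D12725) (iv F47385)
def n13979 : Q := act 7 n13046
theorem D13979 : act 7 n13046 = n13979 := rfl
theorem F55236 : act 1 n13979 = n13049 := d13_1 D13979 (iv D13049) (iv F51498)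
theorem F55237 : act 2 n13979 = n13391 := d19_1 D13979 (iv D13391) (iv F51499)
theorem F55238 : act 4 n13979 = n13395 := d28_1 D13979 (iv D13395) (iv F51501)
theorem F55239 : act 5 n13979 = n13047 := d31_1 D13979 (iv D13047) (iv F51502)
theorem F55240 : act 6 n13979 = n13389 := d33_1 D13979 (iv D13389) (iv F51503)
theorem F55241 : act 8 n13979 = n13397 := d35_2 D13046 D13979 (iv D13397) (iv D12410) (iv F47394)
def n13980 : Q := act 3 n13047
theorem D13980 : act 3 n13047 = n13980 := rfl
theorem F55242 : act 1 n13980 = n13050 := d9_1 D13980 (iv D13050) (iv F51504)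
theorem F55243 : act 6 n13980 = n13691 := d23_2 (iv F51506) D13980 (iv D13691)
theorem F55244 : act 7 n13980 = n13980 := d24_2 D13047 D13980 (iv D13980) (iv D13047) F47396
theorem F55245 : act 8 n13980 = n13692 := d25_2 (iv F51507) D13980 (iv D13692)
def n13981 : Q := act 7 n13048
theorem D13981 : act 7 n13048 = n13981 := rfl
theorem F55246 : act 1 n13981 = n13389 := d13_1 D13981 (iv D13389) (iv F51508)
theorem F55247 : act 2 n13981 = n13051 := d19_1 D13981 (iv D13051) (iv F51509)
theorem F55248 : act 4 n13981 = n13397 := d28_1 D13981 (iv D13397) (iv F51511)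
theorem F55249 : act 5 n13981 = n13388 := d31_1 D13981 (iv D13388) (iv F51512)
theorem F55250 : act 6 n13981 = n13049 := d33_1 D13981 (iv D13049) (iv F51513)
theorem F55251 : act 8 n13981 = n13395 := d35_2 D13048 D13981 (iv D13395) (iv D12408) (iv F47406)
def n13982 : Q := act 3 n13049
theorem D13982 : act 3 n13049 = n13982 := rfl
theorem F55252 : act 5 n13982 = n13050 := d22_2 (iv F51516) D13982 (iv D13050)
theorem F55253 : act 7 n13982 = n13982 := d24_2 D13049 D13982 (iv D13982) (iv D13049) F47408
def n13983 : Q := act 2 n13050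
theorem D13983 : act 2 n13050 = n13983 := rfl
theorem F55254 : act 3 n13983 = n13053 := d15_2 D13050 D13983 (iv D13053) (iv D12040) (iv F47411)
theorem F55255 : act 4 n13983 = n13228 := d16_2 F55194 D13983 (iv F55193)
theorem F55256 : act 7 n13983 = n13983 := d19_2 F51517 D13983 (iv D13983)
theorem F55257 : act 8 n13983 = n13240 := d20_2 F55178 D13983 F55179
def n13984 : Q := act 2 n13052
theorem D13984 : act 2 n13052 = n13984 := rfl
theorem F55258 : act 1 n13984 = n13240 := d8_1 D13984 F55179 F55174 (iv F54657) F54656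
theorem F55259 : act 4 n13984 = n13237 := d16_2 F54605 D13984 (iv F54604)
theorem F55260 : act 5 n13984 = n13053 := d17_2 (iv F51520) D13984 (iv D13053)
theorem F55261 : act 6 n13984 = n13634 := d18_2 F54646 D13984 (iv F54644)
theorem F55262 : act 7 n13984 = n13056 := d19_2 (iv F51521) D13984 (iv D13056)
def n13985 : Q := act 1 n13053
theorem D13985 : act 1 n13053 = n13985 := rfl
theorem F55263 : act 4 n13985 = n13695 := d10_2 (iv F51522) D13985 (iv D13695)
theorem F55264 : act 5 n13985 = n13240 := d11_2 F55260 D13985 (iv F55258)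
theorem F55265 : act 7 n13985 = n13057 := d13_2 (iv F51523) D13985 (iv D13057)
def n13986 : Q := act 2 n13054
theorem D13986 : act 2 n13054 = n13986 := rfl
theorem F55266 : act 1 n13986 = n13486 := d8_1 D13986 (iv D13486) F49235 D12506 (iv F51524)
theorem F55267 : act 3 n13986 = n13986 := d15_2 D13054 D13986 (iv D13986) (iv D13054) F47427
theorem F55268 : act 5 n13986 = n13055 := d17_2 (iv F51525) D13986 (iv D13055)
theorem F55269 : act 6 n13986 = n13637 := d18_2 (iv F51526) D13986 F53803
theorem F55270 : act 8 n13986 = n13986 := d20_2 F51527 D13986 (iv D13986)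
theorem F55271 : act 4 n13485 = n13986 := d38_3 F49949 (iv F49236) (iv F53188) F55267 (iv D13986) F51524 (iv F52816) F52815 (iv F53971) F54635 (iv D13836) F50900 F47399 (iv D11018) (iv F43356) F43355 (iv F43883) F43882 F40396 F40395 F32615 (iv F32858) (iv F41050) (iv F43909) (iv F47654) F47653 F43707 D11091 F43732 F40281 F40280 F32285 (iv F32486) (iv F40717) (iv D10307) F38987 (iv F32259) (iv F40253) F40252 (iv F40223) F40222 F40227 F40226 (iv F41944) F41943 F41942 (iv F40428) F40427 (iv D8571) F24119 (iv F32652) (iv F40866) (iv F44445) (iv F48490) (iv F50801) D13819 F54538 F50836 (iv F52259) F52258 (iv D12739) (iv F49948)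
def n13987 : Q := act 4 n13054
theorem D13987 : act 4 n13054 = n13987 := rfl
theorem F55272 : act 1 n13987 = n13055 := d10_1 D13987 F51529 (iv F51524)
theorem F55273 : act 2 n13987 = n13485 := d16_1 D13987 F55271 (iv D13986)
theorem F55274 : act 3 n13987 = n13987 := d21_1 D13987 (iv D13987) (iv D13054) F47428 D13054
theorem F55275 : act 5 n13987 = n13486 := d26_2 (iv F51525) D13987 F53191 F49243 (iv F47432)
theorem F55276 : act 6 n13987 = n13057 := d27_2 (iv F51526) D13987 F51539
theorem F55277 : act 8 n13987 = n13987 := d29_2 F51527 D13987 (iv D13987)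
def n13988 : Q := act 0 n13057
theorem D13988 : act 0 n13057 = n13988 := rfl
theorem F55278 : act 3 n13988 = n13988 := d2_2 F51538 D13988 (iv D13988)
theorem F55279 : act 4 n13988 = n13696 := d3_2 (iv F51539) D13988 (iv D13696)
theorem F55280 : act 5 n13988 = n13222 := d4_2 (iv F51540) D13988 F52237
theorem F55281 : act 8 n13988 = n13988 := d7_2 F51541 D13988 (iv D13988)
def n13989 : Q := act 8 n13058
theorem D13989 : act 8 n13058 = n13989 := rfl
theorem F55282 : act 0 n13989 = n13989 := d7_1 D13989 (iv D13989) F51542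
theorem F55283 : act 2 n13989 = n13401 := d20_1 D13989 (iv D13401) (iv F51543)
theorem F55284 : act 3 n13989 = n13059 := d25_1 D13989 (iv D13059) D13058
theorem F55285 : act 5 n13989 = n13062 := d32_1 D13989 (iv D13062) (iv F51544)
theorem F55286 : act 6 n13989 = n13402 := d34_1 D13989 (iv D13402) (iv F51545)
def n13990 : Q := act 1 n13060
theorem D13990 : act 1 n13060 = n13990 := rfl
theorem F55287 : act 3 n13990 = n13070 := d9_2 (iv F51552) D13990 (iv D13070)
theorem F55288 : act 5 n13990 = n13101 := d11_2 (iv F51553) D13990 F51766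
theorem F55289 : act 6 n13990 = n13063 := d12_2 (iv F51554) D13990 (iv D13063)
theorem F55290 : act 7 n13990 = n13845 := d13_2 (iv F51555) D13990 F54683
theorem F55291 : act 0 n13261 = n13990 := d4_3 F55288 F51765 D13261
def n13991 : Q := act 4 n13060
theorem D13991 : act 4 n13060 = n13991 := rfl
theorem F55292 : act 0 n13991 = n13991 := d3_1 D13991 (iv D13991) F51551
theorem F55293 : act 2 n13991 = n13061 := d16_1 D13991 (iv D13061) D13060
theorem F55294 : act 3 n13991 = n13578 := d21_1 D13991 F53606 F53103 (iv D13071) (iv F51552)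
theorem F55295 : act 6 n13991 = n13064 := d27_2 (iv F51554) D13991 (iv D13064)
theorem F55296 : act 7 n13991 = n13581 := d28_2 (iv F51555) D13991 F53619
def n13992 : Q := act 8 n13060
theorem D13992 : act 8 n13060 = n13992 := rfl
theorem F55297 : act 0 n13992 = n13992 := d7_1 D13992 (iv D13992) F51551
theorem F55298 : act 2 n13992 = n13062 := d20_1 D13992 (iv D13062) D13060
theorem F55299 : act 3 n13992 = n13072 := d25_1 D13992 (iv D13072) (iv F51552)
theorem F55300 : act 5 n13992 = n13401 := d32_1 D13992 (iv D13401) (iv F51553)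
theorem F55301 : act 6 n13992 = n13065 := d34_1 D13992 (iv D13065) (iv F51554)
def n13993 : Q := act 5 n13061
theorem D13993 : act 5 n13061 = n13993 := rfl
theorem F55302 : act 0 n13993 = n13993 := d4_1 D13993 (iv D13993) F51556
theorem F55303 : act 3 n13993 = n13993 := d22_1 D13993 (iv D13993) F51557
def n13994 : Q := act 8 n13061
theorem D13994 : act 8 n13061 = n13994 := rfl
theorem F55304 : act 0 n13994 = n13994 := d7_1 D13994 (iv D13994) F51556
theorem F55305 : act 3 n13994 = n13994 := d25_1 D13994 (iv D13994) F51557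
theorem F55306 : act 4 n13994 = n13062 := d29_1 D13994 (iv D13062) D13061
theorem F55307 : act 6 n13994 = n13067 := d34_1 D13994 (iv D13067) (iv F51558)
def n13995 : Q := act 7 n13062
theorem D13995 : act 7 n13062 = n13995 := rfl
theorem F55308 : act 0 n13995 = n13995 := d6_1 D13995 (iv D13995) F51559
theorem F55309 : act 3 n13995 = n13412 := d24_1 D13995 (iv D13412) F48919 (iv F47467) (iv F51560)
theorem F55310 : act 6 n13995 = n13068 := d33_1 D13995 (iv D13068) (iv F51561)
def n13996 : Q := act 0 n13063
theorem D13996 : act 0 n13063 = n13996 := rfl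
theorem F55311 : act 1 n13996 = n13996 := d0_2 D13063 D13996 (iv D13996) (iv D13063) F47468
theorem F55312 : act 3 n13996 = n13074 := d2_2 (iv F51562) D13996 (iv D13074)
theorem F55313 : act 5 n13996 = n13407 := d4_2 (iv F51563) D13996 (iv D13407)
theorem F55314 : act 6 n13996 = n13261 := d5_2 F55289 D13996 F55291
def n13997 : Q := act 4 n13063
theorem D13997 : act 4 n13063 = n13997 := rfl
theorem F55315 : act 1 n13997 = n13064 := d10_1 D13997 (iv D13064) D13063
theorem F55316 : act 7 n13997 = n13551 := d28_2 F52453 D13997 F53491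
theorem F55317 : act 3 n13547 = n13997 := d24_5 F55316 (iv D13551) (iv D12576) (iv F49529) D13547
theorem F55318 : act 5 n13549 = n13997 := d31_3 F55316 F53492 (iv F53485)
def n13998 : Q := act 8 n13063
theorem D13998 : act 8 n13063 = n13998 := rfl
theorem F55319 : act 1 n13998 = n13065 := d14_1 D13998 (iv D13065) D13063
theorem F55320 : act 3 n13998 = n13076 := d25_1 D13998 (iv D13076) (iv F51562)
theorem F55321 : act 5 n13998 = n13409 := d32_1 D13998 (iv D13409) (iv F51563)
def n13999 : Q := act 8 n13064
theorem D13999 : act 8 n13064 = n13999 := rfl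
theorem F55322 : act 0 n13999 = n13999 := d7_1 D13999 (iv D13999) F51564
theorem F55323 : act 2 n13999 = n13067 := d20_1 D13999 (iv D13067) (iv F51565)
theorem F55324 : act 3 n13999 = n13579 := d25_1 D13999 F53614 F51567
theorem F55325 : act 4 n13999 = n13065 := d29_1 D13999 (iv D13065) D13064
theorem F55326 : act 5 n13999 = n13580 := d32_1 D13999 F53616 F51568
def n14000 : Q := act 7 n13065
theorem D14000 : act 7 n13065 = n14000 := rfl
theorem F55327 : act 0 n14000 = n14000 := d6_1 D14000 (iv D14000) F51569
theorem F55328 : act 2 n14000 = n13068 := d19_1 D14000 (iv D13068) (iv F51570)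
theorem F55329 : act 5 n14000 = n13412 := d31_1 D14000 (iv D13412) (iv F51572)
def n14001 : Q := act 6 n13066
theorem D14001 : act 6 n13066 = n14001 := rfl
theorem F55330 : act 0 n14001 = n14001 := d5_1 D14001 (iv D14001) F51573
theorem F55331 : act 2 n14001 = n13571 := d18_1 D14001 F53580 (iv F51574)
theorem F55332 : act 3 n14001 = n14001 := d23_1 D14001 (iv D14001) F51575
theorem F55333 : act 4 n14001 = n13413 := d27_1 D14001 (iv D13413) (iv F51576)
theorem F55334 : act 7 n14001 = n13574 := d33_2 (iv F51577) D14001 F53591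
def n14002 : Q := act 8 n13066
theorem D14002 : act 8 n13066 = n14002 := rfl
theorem F55335 : act 0 n14002 = n14002 := d7_1 D14002 (iv D14002) F51573
theorem F55336 : act 2 n14002 = n13580 := d20_1 D14002 F53616 (iv F51574)
theorem F55337 : act 3 n14002 = n14002 := d25_1 D14002 (iv D14002) F51575
theorem F55338 : act 4 n14002 = n13414 := d29_1 D14002 (iv D13414) (iv F51576)
theorem F55339 : act 5 n14002 = n13067 := d32_1 D14002 (iv D13067) D13066
def n14003 : Q := act 7 n13067
theorem D14003 : act 7 n13067 = n14003 := rfl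
theorem F55340 : act 0 n14003 = n14003 := d6_1 D14003 (iv D14003) F51578
theorem F55341 : act 4 n14003 = n13068 := d28_1 D14003 (iv D13068) (iv F51580)
def n14004 : Q := act 8 n13070
theorem D14004 : act 8 n13070 = n14004 := rfl
theorem F55342 : act 0 n14004 = n13264 := d7_1 D14004 (iv D13264) (iv F51595)
theorem F55343 : act 1 n14004 = n13072 := d14_1 D14004 (iv D13072) D13070
theorem F55344 : act 2 n14004 = n13080 := d20_1 D14004 (iv D13080) (iv F51591)
theorem F55345 : act 4 n14004 = n13104 := d29_1 D14004 (iv D13104) F51596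
theorem F55346 : act 5 n14004 = n13102 := d32_1 D14004 (iv D13102) (iv F51592)
theorem F55347 : act 6 n14004 = n13076 := d34_1 D14004 (iv D13076) (iv F51593)
theorem F55348 : act 7 n14004 = n13285 := d35_1 D14004 (iv D13285) (iv D12302) (iv F47523) (iv F51594)
def n14005 : Q := act 8 n13074
theorem D14005 : act 8 n13074 = n14005 := rfl
theorem F55349 : act 0 n14005 = n13076 := d7_1 D14005 (iv D13076) D13074
theorem F55350 : act 1 n14005 = n14005 := d14_1 D14005 (iv D14005) F51615
theorem F55351 : act 2 n14005 = n13081 := d20_1 D14005 (iv D13081) (iv F51616)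
theorem F55352 : act 4 n14005 = n13270 := d29_1 D14005 (iv D13270) F51620
theorem F55353 : act 5 n14005 = n13416 := d32_1 D14005 (iv D13416) (iv F51617)
theorem F55354 : act 6 n14005 = n13264 := d34_1 D14005 (iv D13264) (iv F51618)
def n14006 : Q := act 3 n13075
theorem D14006 : act 3 n13075 = n14006 := rfl
theorem F55355 : act 0 n14006 = n13267 := d2_1 D14006 F52391 (iv F51621)
theorem F55356 : act 1 n14006 = n13077 := d9_1 D14006 (iv D13077) (iv F51622)
theorem F55357 : act 2 n14006 = n13610 := d15_1 D14006 F53719 F49848 F47581 (iv F51623)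
theorem F55358 : act 4 n14006 = n13547 := d21_2 D13075 D14006 F55317 (iv D13997) F51562
theorem F55359 : act 5 n14006 = n14006 := d22_2 F51624 D14006 (iv D14006)
theorem F55360 : act 6 n14006 = n13103 := d23_2 (iv F51625) D14006 F51778
theorem F55361 : act 7 n14006 = n13544 := d24_2 (iv F51626) D14006 F53467 F51645 (iv D13079)
def n14007 : Q := act 8 n13075
theorem D14007 : act 8 n13075 = n14007 := rfl
theorem F55362 : act 0 n14007 = n13270 := d7_1 D14007 (iv D13270) (iv F51621)
theorem F55363 : act 1 n14007 = n13078 := d14_1 D14007 (iv D13078) (iv F51622)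
theorem F55364 : act 2 n14007 = n13082 := d20_1 D14007 (iv D13082) (iv F51623)
theorem F55365 : act 4 n14007 = n13076 := d29_1 D14007 (iv D13076) D13075
theorem F55366 : act 5 n14007 = n14007 := d32_1 D14007 (iv D14007) F51624
theorem F55367 : act 6 n14007 = n13104 := d34_1 D14007 (iv D13104) (iv F51625)
def n14008 : Q := act 8 n13085
theorem D14008 : act 8 n13085 = n14008 := rfl
theorem F55368 : act 0 n14008 = n13086 := d7_1 D14008 (iv D13086) D13085
theorem F55369 : act 1 n14008 = n13088 := d14_1 D14008 (iv D13088) (iv F51678)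
theorem F55370 : act 2 n14008 = n13727 := d20_1 D14008 (iv D13727) (iv F51679)
theorem F55371 : act 3 n14008 = n13272 := d25_1 D14008 F52415 (iv F51680)
theorem F55372 : act 4 n14008 = n13116 := d29_1 D14008 (iv D13116) (iv F51681)
theorem F55373 : act 5 n14008 = n14008 := d32_1 D14008 (iv D14008) F51682
theorem F55374 : act 6 n14008 = n13273 := d34_1 D14008 F52420 (iv F51683)
theorem F55375 : act 7 n13678 = n14008 := d33_0 F55374 F52419 (iv F53923)
def n14009 : Q := act 7 n13086
theorem D14009 : act 7 n13086 = n14009 := rfl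
theorem F55376 : act 0 n14009 = n13678 := d6_1 D14009 F55375 F55368
theorem F55377 : act 1 n14009 = n13087 := d13_1 D14009 (iv D13087) (iv F51685)
theorem F55378 : act 2 n14009 = n13728 := d19_1 D14009 (iv D13728) (iv F51686)
theorem F55379 : act 3 n14009 = n13615 := d24_1 D14009 (iv D13615) (iv F51659) (iv F54719) F54715
theorem F55380 : act 4 n14009 = n13117 := d28_1 D14009 (iv D13117) (iv F51687)
theorem F55381 : act 5 n14009 = n14009 := d31_1 D14009 (iv D14009) F51688
theorem F55382 : act 6 n14009 = n13616 := d33_1 D14009 F53753 F52686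
theorem F55383 : act 8 n14009 = n14009 := d35_2 D13086 D14009 (iv D14009) (iv D13086) F47634
def n14010 : Q := act 2 n13090
theorem D14010 : act 2 n13090 = n14010 := rfl
theorem F55384 : act 0 n14010 = n13245 := d1_1 D14010 (iv D13245) (iv F51711)
theorem F55385 : act 3 n14010 = n13092 := d15_2 D13090 D14010 (iv D13092) (iv D12098) (iv F47714)
theorem F55386 : act 4 n14010 = n13880 := d16_2 (iv F51713) D14010 F54822
theorem F55387 : act 5 n14010 = n13583 := d17_2 (iv F51714) D14010 (iv D13583)
theorem F55388 : act 6 n14010 = n13255 := d18_2 (iv F51715) D14010 F52351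
theorem F55389 : act 7 n14010 = n13730 := d19_2 (iv F51716) D14010 (iv D13730)
def n14011 : Q := act 8 n13090
theorem D14011 : act 8 n13090 = n14011 := rfl
theorem F55390 : act 0 n14011 = n13247 := d7_1 D14011 (iv D13247) (iv F51711)
theorem F55391 : act 1 n14011 = n14011 := d14_1 D14011 (iv D14011) F51712
theorem F55392 : act 3 n14011 = n13091 := d25_1 D14011 (iv D13091) D13090
theorem F55393 : act 4 n14011 = n13904 := d29_1 D14011 (iv D13904) (iv F51713)
theorem F55394 : act 5 n14011 = n13585 := d32_1 D14011 (iv D13585) (iv F51714)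
theorem F55395 : act 6 n14011 = n13263 := d34_1 D14011 (iv D13263) (iv F51715)
def n14012 : Q := act 8 n13092
theorem D14012 : act 8 n13092 = n14012 := rfl
theorem F55396 : act 0 n14012 = n13249 := d7_1 D14012 (iv D13249) (iv F51724)
theorem F55397 : act 2 n14012 = n13093 := d20_1 D14012 (iv D13093) D13092
theorem F55398 : act 4 n14012 = n13251 := d29_1 D14012 (iv D13251) (iv F51725)
theorem F55399 : act 5 n14012 = n13588 := d32_1 D14012 (iv D13588) (iv F51726)
theorem F55400 : act 6 n14012 = n13257 := d34_1 D14012 (iv D13257) (iv F51727)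
def n14013 : Q := act 7 n13093
theorem D14013 : act 7 n13093 = n14013 := rfl
theorem F55401 : act 0 n14013 = n13250 := d6_1 D14013 (iv D13250) (iv F51729)
theorem F55402 : act 1 n14013 = n13106 := d13_1 D14013 (iv D13106) (iv F51730)
theorem F55403 : act 3 n14013 = n13142 := d24_1 D14013 (iv D13142) F47945 (iv F47729) (iv F51731)
theorem F55404 : act 4 n14013 = n13252 := d28_1 D14013 (iv D13252) (iv F51732)
theorem F55405 : act 5 n14013 = n13590 := d31_1 D14013 (iv D13590) (iv F51733)
theorem F55406 : act 6 n14013 = n13260 := d33_1 D14013 (iv D13260) (iv F51734)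
theorem F55407 : act 8 n14013 = n13100 := d35_2 D13093 D14013 (iv D13100) (iv D12104) (iv F47723)
def n14014 : Q := act 1 n13094
theorem D14014 : act 1 n13094 = n14014 := rfl
theorem F55408 : act 2 n14014 = n13107 := d8_2 D13094 D14014 (iv D13107) (iv D12115) (iv F47731)
theorem F55409 : act 3 n14014 = n13747 := d9_2 (iv F51736) D14014 (iv D13747)
theorem F55410 : act 4 n14014 = n13248 := d10_2 (iv F51737) D14014 (iv D13248)
theorem F55411 : act 6 n14014 = n13096 := d12_2 (iv F51738) D14014 (iv D13096)
theorem F55412 : act 7 n14014 = n13253 := d13_2 (iv F51739) D14014 F52345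
def n14015 : Q := act 8 n13094
theorem D14015 : act 8 n13094 = n14015 := rfl
theorem F55413 : act 0 n14015 = n13251 := d7_1 D14015 (iv D13251) (iv F51735)
theorem F55414 : act 2 n14015 = n13095 := d20_1 D14015 (iv D13095) D13094
theorem F55415 : act 3 n14015 = n13749 := d25_1 D14015 (iv D13749) (iv F51736)
theorem F55416 : act 4 n14015 = n13249 := d29_1 D14015 (iv D13249) (iv F51737)
theorem F55417 : act 6 n14015 = n13098 := d34_1 D14015 (iv D13098) (iv F51738)
def n14016 : Q := act 7 n13095
theorem D14016 : act 7 n13095 = n14016 := rfl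
theorem F55418 : act 0 n14016 = n13252 := d6_1 D14016 (iv D13252) (iv F51740)
theorem F55419 : act 1 n14016 = n13109 := d13_1 D14016 (iv D13109) (iv F51741)
theorem F55420 : act 3 n14016 = n13151 := d24_1 D14016 (iv D13151) F47963 (iv F47740) (iv F51742)
theorem F55421 : act 4 n14016 = n13250 := d28_1 D14016 (iv D13250) (iv F51743)
theorem F55422 : act 6 n14016 = n13100 := d33_1 D14016 (iv D13100) (iv F51744)
theorem F55423 : act 8 n14016 = n13260 := d35_2 D13095 D14016 (iv D13260) (iv D12265) (iv F47734)
def n14017 : Q := act 0 n13096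
theorem D14017 : act 0 n13096 = n14017 := rfl
theorem F55424 : act 1 n14017 = n13143 := d0_2 D13096 D14017 F51936 (iv D12261) (iv F47741)
theorem F55425 : act 2 n14017 = n13110 := d1_2 (iv F51745) D14017 (iv D13110)
theorem F55426 : act 3 n14017 = n13752 := d2_2 (iv F51746) D14017 (iv D13752)
theorem F55427 : act 5 n14017 = n13146 := d4_2 (iv F51747) D14017 F51946
def n14018 : Q := act 8 n13096
theorem D14018 : act 8 n13096 = n14018 := rfl
theorem F55428 : act 1 n14018 = n13098 := d14_1 D14018 (iv D13098) D13096
theorem F55429 : act 2 n14018 = n13111 := d20_1 D14018 (iv D13111) (iv F51745)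
theorem F55430 : act 3 n14018 = n13754 := d25_1 D14018 (iv D13754) (iv F51746)
theorem F55431 : act 5 n14018 = n13592 := d32_1 D14018 (iv D13592) (iv F51747)
def n14019 : Q := act 3 n13097
theorem D14019 : act 3 n13097 = n14019 := rfl
theorem F55432 : act 0 n14019 = n13255 := d2_1 D14019 (iv D13255) (iv F51748)
theorem F55433 : act 2 n14019 = n13101 := d15_1 D14019 (iv D13101) F47755 (iv F47746) (iv F51749)
theorem F55434 : act 4 n14019 = n13755 := d21_2 D13097 D14019 (iv D13755) (iv D12821) (iv F47742)
theorem F55435 : act 6 n14019 = n13245 := d23_2 (iv F51750) D14019 F52319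
theorem F55436 : act 7 n14019 = n13847 := d24_2 (iv F51751) D14019 F54691 F51020 (iv F48342)
def n14020 : Q := act 8 n13097
theorem D14020 : act 8 n13097 = n14020 := rfl
theorem F55437 : act 0 n14020 = n13257 := d7_1 D14020 (iv D13257) (iv F51748)
theorem F55438 : act 2 n14020 = n13099 := d20_1 D14020 (iv D13099) (iv F51749)
theorem F55439 : act 4 n14020 = n13098 := d29_1 D14020 (iv D13098) D13097
theorem F55440 : act 6 n14020 = n13249 := d34_1 D14020 (iv D13249) (iv F51750)
def n14021 : Q := act 7 n13098
theorem D14021 : act 7 n13098 = n14021 := rfl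
theorem F55441 : act 0 n14021 = n13258 := d6_1 D14021 (iv D13258) (iv F51752)
theorem F55442 : act 2 n14021 = n13100 := d19_1 D14021 (iv D13100) (iv F51753)
theorem F55443 : act 5 n14021 = n13596 := d31_1 D14021 (iv D13596) (iv F51755)
def n14022 : Q := act 7 n13099
theorem D14022 : act 7 n13099 = n14022 := rfl
theorem F55444 : act 0 n14022 = n13260 := d6_1 D14022 (iv D13260) (iv F51756)
theorem F55445 : act 1 n14022 = n13113 := d13_1 D14022 (iv D13113) (iv F51757)
theorem F55446 : act 3 n14022 = n13298 := d24_1 D14022 (iv D13298) F48532 (iv F47769) (iv F51758)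
theorem F55447 : act 4 n14022 = n13100 := d28_1 D14022 (iv D13100) (iv F51759)
theorem F55448 : act 6 n14022 = n13250 := d33_1 D14022 (iv D13250) (iv F51760)
theorem F55449 : act 8 n14022 = n13252 := d35_2 D13099 D14022 (iv D13252) (iv D12260) (iv F47748)
def n14023 : Q := act 8 n13101
theorem D14023 : act 8 n13101 = n14023 := rfl
theorem F55450 : act 0 n14023 = n13263 := d7_1 D14023 (iv D13263) (iv F51765)
theorem F55451 : act 1 n14023 = n13401 := d14_1 D14023 (iv D13401) (iv F51766)
theorem F55452 : act 3 n14023 = n13102 := d25_1 D14023 (iv D13102) D13101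
theorem F55453 : act 4 n14023 = n13765 := d29_1 D14023 (iv D13765) (iv F51767)
theorem F55454 : act 6 n14023 = n13247 := d34_1 D14023 (iv D13247) (iv F51768)
def n14024 : Q := act 4 n13103
theorem D14024 : act 4 n13103 = n14024 := rfl
theorem F55455 : act 0 n14024 = n13266 := d3_1 D14024 (iv D13266) (iv F51776)
theorem F55456 : act 1 n14024 = n13578 := d10_1 D14024 F53606 F53101
theorem F55457 : act 2 n14024 = n13609 := d16_1 D14024 (iv D13609) (iv F51777)
theorem F55458 : act 5 n14024 = n13772 := d26_2 D13103 D14024 (iv D13772) (iv D12835) (iv F47772)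
theorem F55459 : act 6 n14024 = n13547 := d27_2 F55360 D14024 (iv F55358)
theorem F55460 : act 7 n14024 = n13545 := d28_2 (iv F52663) D14024 F53473
def n14025 : Q := act 8 n13107
theorem D14025 : act 8 n13107 = n14025 := rfl
theorem F55461 : act 1 n14025 = n13108 := d14_1 D14025 (iv D13108) D13107
theorem F55462 : act 3 n14025 = n13114 := d25_1 D14025 (iv D13114) (iv F51793)
theorem F55463 : act 4 n14025 = n13274 := d29_1 D14025 (iv D13274) (iv F51794)
theorem F55464 : act 6 n14025 = n13111 := d34_1 D14025 (iv D13111) (iv F51795)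
def n14026 : Q := act 7 n13108
theorem D14026 : act 7 n13108 = n14026 := rfl
theorem F55465 : act 0 n14026 = n13119 := d6_1 D14026 (iv D13119) (iv F51797)
theorem F55466 : act 2 n14026 = n13109 := d19_1 D14026 (iv D13109) (iv F51798)
theorem F55467 : act 4 n14026 = n13275 := d28_1 D14026 (iv D13275) (iv F51800)
theorem F55468 : act 6 n14026 = n13112 := d33_1 D14026 (iv D13112) (iv F51801)
theorem F55469 : act 8 n14026 = n13280 := d35_2 D13108 D14026 (iv D13280) (iv D12290) (iv F47805)
def n14027 : Q := act 8 n13110
theorem D14027 : act 8 n13110 = n14027 := rfl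
theorem F55470 : act 0 n14027 = n13111 := d7_1 D14027 (iv D13111) D13110
theorem F55471 : act 1 n14027 = n13120 := d14_1 D14027 (iv D13120) (iv F51807)
theorem F55472 : act 3 n14027 = n13116 := d25_1 D14027 (iv D13116) (iv F51808)
theorem F55473 : act 5 n14027 = n13199 := d32_1 D14027 (iv D13199) (iv F51809)
def n14028 : Q := act 7 n13111
theorem D14028 : act 7 n13111 = n14028 := rfl
theorem F55474 : act 1 n14028 = n13112 := d13_1 D14028 (iv D13112) (iv F51810)
theorem F55475 : act 5 n14028 = n13621 := d31_1 D14028 (iv D13621) (iv F51812)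
def n14029 : Q := act 3 n13112
theorem D14029 : act 3 n13112 = n14029 := rfl
theorem F55476 : act 0 n14029 = n13122 := d2_1 D14029 (iv D13122) (iv F51813)
theorem F55477 : act 2 n14029 = n13211 := d15_1 D14029 (iv D13211) F48148 (iv F47821) (iv F51814)
theorem F55478 : act 5 n14029 = n13623 := d22_2 (iv F51815) D14029 (iv D13623)
theorem F55479 : act 7 n14029 = n13118 := d24_2 D13112 D14029 (iv D13118) (iv D12128) (iv F47814)
def n14030 : Q := act 7 n13114
theorem D14030 : act 7 n13114 = n14030 := rfl
theorem F55480 : act 0 n14030 = n13680 := d6_1 D14030 F54496 F54491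
theorem F55481 : act 1 n14030 = n13115 := d13_1 D14030 (iv D13115) (iv F51821)
theorem F55482 : act 2 n14030 = n13813 := d19_1 D14030 (iv D13813) (iv F51822)
theorem F55483 : act 4 n14030 = n13616 := d28_1 D14030 F53753 F52684
theorem F55484 : act 6 n14030 = n13117 := d33_1 D14030 (iv D13117) (iv F51823)
theorem F55485 : act 8 n14030 = n14030 := d35_2 D13114 D14030 (iv D14030) (iv D13114) F47835
def n14031 : Q := act 3 n13115
theorem D14031 : act 3 n13115 = n14031 := rfl
theorem F55486 : act 0 n14031 = n13123 := d2_1 D14031 (iv D13123) (iv F51824)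
theorem F55487 : act 2 n14031 = n13219 := d15_1 D14031 (iv D13219) F48197 (iv F47841) (iv F51825)
theorem F55488 : act 4 n14031 = n13627 := d21_2 (iv F51826) D14031 (iv D13627) F49913 D12671
theorem F55489 : act 6 n14031 = n13118 := d23_2 (iv F51827) D14031 (iv D13118)
theorem F55490 : act 8 n14031 = n14031 := d25_2 F51828 D14031 (iv D14031)
def n14032 : Q := act 7 n13116
theorem D14032 : act 7 n13116 = n14032 := rfl
theorem F55491 : act 0 n14032 = n13117 := d6_1 D14032 (iv D13117) (iv F51829)
theorem F55492 : act 1 n14032 = n13124 := d13_1 D14032 (iv D13124) (iv F51830)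
theorem F55493 : act 2 n14032 = n13815 := d19_1 D14032 (iv D13815) (iv F51831)
theorem F55494 : act 4 n14032 = n13678 := d28_1 D14032 F55375 F55372
theorem F55495 : act 5 n14032 = n13218 := d31_1 D14032 (iv D13218) (iv F51832)
theorem F55496 : act 6 n14032 = n13680 := d33_1 D14032 F54496 F54495
theorem F55497 : act 8 n14032 = n14032 := d35_2 D13116 D14032 (iv D14032) (iv D13116) F47847
def n14033 : Q := act 3 n13117
theorem D14033 : act 3 n13117 = n14033 := rfl
theorem F55498 : act 1 n14033 = n13118 := d9_1 D14033 (iv D13118) (iv F51833)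
theorem F55499 : act 5 n14033 = n13629 := d22_2 (iv F51835) D14033 (iv D13629)
theorem F55500 : act 8 n14033 = n14033 := d25_2 F51836 D14033 (iv D14033)
def n14034 : Q := act 4 n13118
theorem D14034 : act 4 n13118 = n14034 := rfl
theorem F55501 : act 0 n14034 = n13126 := d3_1 D14034 (iv D13126) (iv F51837)
theorem F55502 : act 2 n14034 = n13222 := d16_1 D14034 (iv D13222) (iv F51838)
theorem F55503 : act 3 n14034 = n13626 := d21_1 D14034 F53778 (iv F51691) F51692 D13118
theorem F55504 : act 6 n14034 = n13627 := d27_2 F55489 D14034 (iv F55488)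
theorem F55505 : act 8 n14034 = n14034 := d29_2 F51840 D14034 (iv D14034)
def n14035 : Q := act 3 n13119
theorem D14035 : act 3 n13119 = n14035 := rfl
theorem F55506 : act 1 n14035 = n13694 := d9_1 D14035 (iv F54581) F54579
theorem F55507 : act 2 n14035 = n13232 := d15_1 D14035 (iv D13232) F48257 (iv F47866) (iv F51841)
theorem F55508 : act 4 n14035 = n13635 := d21_2 (iv F51842) D14035 (iv D13635) (iv F51408) F51407
theorem F55509 : act 6 n14035 = n13122 := d23_2 (iv F51843) D14035 (iv D13122)
theorem F55510 : act 7 n14035 = n13123 := d24_2 D13119 D14035 (iv D13123) (iv D12136) (iv F47862)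
theorem F55511 : act 8 n14035 = n13283 := d25_2 (iv F51844) D14035 (iv D13283)
def n14036 : Q := act 7 n13120
theorem D14036 : act 7 n13120 = n14036 := rfl
theorem F55512 : act 0 n14036 = n13121 := d6_1 D14036 (iv D13121) (iv F51845)
theorem F55513 : act 2 n14036 = n13197 := d19_1 D14036 (iv D13197) (iv F51846)
theorem F55514 : act 5 n14036 = n13201 := d31_1 D14036 (iv D13201) (iv F51848)
def n14037 : Q := act 3 n13121
theorem D14037 : act 3 n13121 = n14037 := rfl
theorem F55515 : act 1 n14037 = n13122 := d9_1 D14037 (iv D13122) (iv F51849)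
theorem F55516 : act 4 n14037 = n13692 := d21_2 F54530 D14037 (iv D13692) (iv F51423) (iv F54529)
theorem F55517 : act 5 n14037 = n13232 := d22_2 (iv F51851) D14037 (iv D13232)
theorem F55518 : act 6 n14037 = n13694 := d23_2 F54584 D14037 (iv F54581)
theorem F55519 : act 7 n14037 = n13125 := d24_2 D13121 D14037 (iv D13125) (iv D12138) (iv F47875)
def n14038 : Q := act 3 n13124
theorem D14038 : act 3 n13124 = n14038 := rfl
theorem F55520 : act 0 n14038 = n13125 := d2_1 D14038 (iv D13125) (iv F51860)
theorem F55521 : act 4 n14038 = n13686 := d21_2 (iv F51862) D14038 (iv D13686) F50102 D12731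
theorem F55522 : act 5 n14038 = n13219 := d22_2 (iv F51863) D14038 (iv D13219)
theorem F55523 : act 6 n14038 = n13688 := d23_2 (iv F51864) D14038 F53954
theorem F55524 : act 8 n14038 = n14038 := d25_2 F51865 D14038 (iv D14038)
def n14039 : Q := act 3 n13127
theorem D14039 : act 3 n13127 = n14039 := rfl
theorem F55525 : act 0 n14039 = n13284 := d2_1 D14039 (iv D13284) (iv F51876)
theorem F55526 : act 1 n14039 = n14039 := d9_1 D14039 (iv D14039) F51877
theorem F55527 : act 5 n14039 = n13128 := d22_2 (iv F51880) D14039 (iv D13128)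
theorem F55528 : act 7 n14039 = n13996 := d24_2 D13127 D14039 F55312 F51619 (iv F47908)
def n14040 : Q := act 8 n13127
theorem D14040 : act 8 n13127 = n14040 := rfl
theorem F55529 : act 0 n14040 = n13285 := d7_1 D14040 (iv D13285) (iv F51876)
theorem F55530 : act 1 n14040 = n14040 := d14_1 D14040 (iv D14040) F51877
theorem F55531 : act 2 n14040 = n13134 := d20_1 D14040 (iv D13134) (iv F51878)
theorem F55532 : act 4 n14040 = n13271 := d29_1 D14040 F52411 (iv F51879)
theorem F55533 : act 5 n14040 = n13129 := d32_1 D14040 (iv D13129) (iv F51880)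
theorem F55534 : act 7 n14040 = n13264 := d35_1 D14040 (iv D13264) F48375 (iv F47910) D13127
def n14041 : Q := act 2 n13128
theorem D14041 : act 2 n13128 = n14041 := rfl
theorem F55535 : act 0 n14041 = n13286 := d1_1 D14041 (iv D13286) (iv F51881)
theorem F55536 : act 3 n14041 = n13135 := d15_2 D13128 D14041 (iv D13135) (iv D12146) (iv F47913)
theorem F55537 : act 6 n14041 = n13130 := d18_2 (iv F51883) D14041 (iv D13130)
def n14042 : Q := act 4 n13128
theorem D14042 : act 4 n13128 = n14042 := rfl
theorem F55538 : act 0 n14042 = n13287 := d3_1 D14042 (iv D13287) (iv F51881)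
theorem F55539 : act 1 n14042 = n14042 := d10_1 D14042 (iv D14042) F51882
theorem F55540 : act 3 n14042 = n13488 := d21_1 D14042 (iv D13488) (iv D12508) (iv F47914) D13128
theorem F55541 : act 6 n14042 = n13131 := d27_2 (iv F51883) D14042 (iv D13131)
def n14043 : Q := act 8 n13128
theorem D14043 : act 8 n13128 = n14043 := rfl
theorem F55542 : act 0 n14043 = n13288 := d7_1 D14043 (iv D13288) (iv F51881)
theorem F55543 : act 1 n14043 = n14043 := d14_1 D14043 (iv D14043) F51882
theorem F55544 : act 3 n14043 = n13129 := d25_1 D14043 (iv D13129) D13128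
theorem F55545 : act 6 n14043 = n13132 := d34_1 D14043 (iv D13132) (iv F51883)
def n14044 : Q := act 1 n13130
theorem D14044 : act 1 n13130 = n14044 := rfl
theorem F55546 : act 2 n14044 = n14044 := d8_2 D13130 D14044 (iv D14044) (iv D13130) F47917
theorem F55547 : act 3 n14044 = n13137 := d9_2 (iv F51891) D14044 (iv D13137)
def n14045 : Q := act 4 n13130
theorem D14045 : act 4 n13130 = n14045 := rfl
theorem F55548 : act 0 n14045 = n13290 := d3_1 D14045 (iv D13290) (iv F51890)
theorem F55549 : act 2 n14045 = n13131 := d16_1 D14045 (iv D13131) D13130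
def n14046 : Q := act 8 n13130
theorem D14046 : act 8 n13130 = n14046 := rfl
theorem F55550 : act 0 n14046 = n13291 := d7_1 D14046 (iv D13291) (iv F51890)
theorem F55551 : act 2 n14046 = n13132 := d20_1 D14046 (iv D13132) D13130
theorem F55552 : act 3 n14046 = n13139 := d25_1 D14046 (iv D13139) (iv F51891)
def n14047 : Q := act 5 n13131
theorem D14047 : act 5 n13131 = n14047 := rfl
theorem F55553 : act 0 n14047 = n13292 := d4_1 D14047 (iv D13292) (iv F51892)
theorem F55554 : act 1 n14047 = n14047 := d11_1 D14047 (iv D14047) F51893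
theorem F55555 : act 3 n14047 = n13490 := d22_1 D14047 (iv D13490) (iv F51894)
def n14048 : Q := act 8 n13131
theorem D14048 : act 8 n13131 = n14048 := rfl
theorem F55556 : act 0 n14048 = n13293 := d7_1 D14048 (iv D13293) (iv F51892)
theorem F55557 : act 1 n14048 = n14048 := d14_1 D14048 (iv D14048) F51893
theorem F55558 : act 3 n14048 = n13491 := d25_1 D14048 (iv D13491) (iv F51894)
theorem F55559 : act 4 n14048 = n13132 := d29_1 D14048 (iv D13132) D13131
def n14049 : Q := act 7 n13132
theorem D14049 : act 7 n13132 = n14049 := rfl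
theorem F55560 : act 0 n14049 = n13294 := d6_1 D14049 (iv D13294) (iv F51895)
theorem F55561 : act 1 n14049 = n14049 := d13_1 D14049 (iv D14049) F51896
def n14050 : Q := act 2 n13133
theorem D14050 : act 2 n13133 = n14050 := rfl
theorem F55562 : act 0 n14050 = n13248 := d1_1 D14050 F52330 (iv F51898)
theorem F55563 : act 5 n14050 = n13135 := d17_2 (iv F51900) D14050 (iv D13135)
theorem F55564 : act 7 n14050 = n13143 := d19_2 (iv F51901) D14050 (iv D13143)
def n14051 : Q := act 8 n13133
theorem D14051 : act 8 n13133 = n14051 := rfl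
theorem F55565 : act 0 n14051 = n13274 := d7_1 D14051 (iv D13274) (iv F51898)
theorem F55566 : act 1 n14051 = n13185 := d14_1 D14051 (iv D13185) (iv F51899)
theorem F55567 : act 3 n14051 = n13134 := d25_1 D14051 (iv D13134) D13133
theorem F55568 : act 5 n14051 = n13136 := d32_1 D14051 (iv D13136) (iv F51900)
def n14052 : Q := act 1 n13135
theorem D14052 : act 1 n13135 = n14052 := rfl
theorem F55569 : act 0 n14052 = n13586 := d0_1 D14052 (iv D13586) F49775 (iv F48523) (iv F51907)
theorem F55570 : act 2 n14052 = n13186 := d8_2 D13135 D14052 (iv D13186) (iv D12185) (iv F47927)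
theorem F55571 : act 4 n14052 = n13555 := d10_2 (iv F51908) D14052 (iv D13555)
theorem F55572 : act 6 n14052 = n13137 := d12_2 (iv F51909) D14052 (iv D13137)
theorem F55573 : act 7 n14052 = n13146 := d13_2 (iv F51910) D14052 (iv D13146)
def n14053 : Q := act 8 n13135
theorem D14053 : act 8 n13135 = n14053 := rfl
theorem F55574 : act 0 n14053 = n13296 := d7_1 D14053 (iv D13296) (iv F51907)
theorem F55575 : act 2 n14053 = n13136 := d20_1 D14053 (iv D13136) D13135
theorem F55576 : act 4 n14053 = n13353 := d29_1 D14053 F52652 (iv F51908)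
theorem F55577 : act 6 n14053 = n13139 := d34_1 D14053 (iv D13139) (iv F51909)
def n14054 : Q := act 7 n13136
theorem D14054 : act 7 n13136 = n14054 := rfl
theorem F55578 : act 0 n14054 = n13298 := d6_1 D14054 (iv D13298) (iv F51911)
theorem F55579 : act 1 n14054 = n13188 := d13_1 D14054 (iv D13188) (iv F51912)
theorem F55580 : act 3 n14054 = n13260 := d24_1 D14054 (iv D13260) F48358 (iv F47935) (iv F51913)
theorem F55581 : act 4 n14054 = n13331 := d28_1 D14054 F52577 (iv F51914)
theorem F55582 : act 6 n14054 = n13142 := d33_1 D14054 (iv D13142) (iv F51915)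
theorem F55583 : act 8 n14054 = n13151 := d35_2 D13136 D14054 (iv D13151) (iv D12155) (iv F47930)
def n14055 : Q := act 0 n13137
theorem D14055 : act 0 n13137 = n14055 := rfl
theorem F55584 : act 1 n14055 = n13299 := d0_2 D13137 D14055 (iv D13299) (iv D12313) (iv F47936)
theorem F55585 : act 2 n14055 = n13189 := d1_2 (iv F51916) D14055 (iv D13189)
theorem F55586 : act 6 n14055 = n13586 := d5_2 F55572 D14055 (iv F55569)
theorem F55587 : act 7 n14055 = n13152 := d6_2 (iv F51917) D14055 (iv D13152)
def n14056 : Q := act 4 n13137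
theorem D14056 : act 4 n13137 = n14056 := rfl
theorem F55588 : act 1 n14056 = n13138 := d10_1 D14056 (iv D13138) D13137
theorem F55589 : act 2 n14056 = n13190 := d16_1 D14056 (iv D13190) (iv F51916)
theorem F55590 : act 6 n14056 = n13555 := d27_2 F55572 D14056 (iv F55571)
theorem F55591 : act 7 n14056 = n13153 := d28_2 (iv F51917) D14056 (iv D13153)
def n14057 : Q := act 8 n13137
theorem D14057 : act 8 n13137 = n14057 := rfl
theorem F55592 : act 1 n14057 = n13139 := d14_1 D14057 (iv D13139) D13137
theorem F55593 : act 2 n14057 = n13191 := d20_1 D14057 (iv D13191) (iv F51916)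
def n14058 : Q := act 3 n13138
theorem D14058 : act 3 n13138 = n14058 := rfl
theorem F55594 : act 0 n14058 = n13302 := d2_1 D14058 (iv D13302) (iv F51918)
theorem F55595 : act 2 n14058 = n13493 := d15_1 D14058 (iv D13493) F49272 (iv F47940) (iv F51919)
theorem F55596 : act 6 n14058 = n13552 := d23_2 (iv F51920) D14058 F53493
def n14059 : Q := act 5 n13138
theorem D14059 : act 5 n13138 = n14059 := rfl
theorem F55597 : act 0 n14059 = n13303 := d4_1 D14059 (iv D13303) (iv F51918)
theorem F55598 : act 2 n14059 = n13140 := d17_1 D14059 (iv D13140) (iv F51919)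
theorem F55599 : act 7 n14059 = n13156 := d31_2 (iv F51921) D14059 (iv D13156)
def n14060 : Q := act 8 n13138
theorem D14060 : act 8 n13138 = n14060 := rfl
theorem F55600 : act 0 n14060 = n13304 := d7_1 D14060 (iv D13304) (iv F51918)
theorem F55601 : act 2 n14060 = n13141 := d20_1 D14060 (iv D13141) (iv F51919)
theorem F55602 : act 4 n14060 = n13139 := d29_1 D14060 (iv D13139) D13138
theorem F55603 : act 6 n14060 = n13353 := d34_1 D14060 F52652 (iv F51920)
def n14061 : Q := act 7 n13139
theorem D14061 : act 7 n13139 = n14061 := rfl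
theorem F55604 : act 0 n14061 = n13305 := d6_1 D14061 (iv D13305) (iv F51922)
theorem F55605 : act 2 n14061 = n13142 := d19_1 D14061 (iv D13142) (iv F51923)
theorem F55606 : act 8 n14061 = n13158 := d35_2 D13139 D14061 (iv D13158) (iv D12158) (iv F47937)
def n14062 : Q := act 8 n13140
theorem D14062 : act 8 n13140 = n14062 := rfl
theorem F55607 : act 0 n14062 = n13307 := d7_1 D14062 (iv D13307) (iv F51924)
theorem F55608 : act 1 n14062 = n13194 := d14_1 D14062 (iv D13194) (iv F51925)
theorem F55609 : act 3 n14062 = n13340 := d25_1 D14062 F52615 (iv F51926)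
theorem F55610 : act 5 n14062 = n13141 := d32_1 D14062 (iv D13141) D13140
def n14063 : Q := act 7 n13141
theorem D14063 : act 7 n13141 = n14063 := rfl
theorem F55611 : act 0 n14063 = n13308 := d6_1 D14063 (iv D13308) (iv F51928)
theorem F55612 : act 1 n14063 = n13195 := d13_1 D14063 (iv D13195) (iv F51929)
theorem F55613 : act 3 n14063 = n13315 := d24_1 D14063 (iv D13315) F48557 D12340 (iv F51930)
theorem F55614 : act 4 n14063 = n13142 := d28_1 D14063 (iv D13142) (iv F51931)
theorem F55615 : act 6 n14063 = n13331 := d33_1 D14063 F52577 (iv F51932)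
theorem F55616 : act 8 n14063 = n13161 := d35_2 D13141 D14063 (iv D13161) (iv D12160) (iv F47942)
def n14064 : Q := act 4 n13143
theorem D14064 : act 4 n13143 = n14064 := rfl
theorem F55617 : act 0 n14064 = n13253 := d3_1 D14064 (iv D13253) (iv F51936)
theorem F55618 : act 2 n14064 = n13144 := d16_1 D14064 (iv D13144) D13143
def n14065 : Q := act 8 n13143
theorem D14065 : act 8 n13143 = n14065 := rfl
theorem F55619 : act 0 n14065 = n13254 := d7_1 D14065 (iv D13254) (iv F51936)
theorem F55620 : act 2 n14065 = n13145 := d20_1 D14065 (iv D13145) D13143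
theorem F55621 : act 3 n14065 = n13888 := d25_1 D14065 (iv D13888) (iv F51937)
theorem F55622 : act 5 n14065 = n13148 := d32_1 D14065 (iv D13148) (iv F51938)
def n14066 : Q := act 8 n13144
theorem D14066 : act 8 n13144 = n14066 := rfl
theorem F55623 : act 0 n14066 = n13277 := d7_1 D14066 (iv D13277) (iv F51939)
theorem F55624 : act 1 n14066 = n13196 := d14_1 D14066 (iv D13196) (iv F51940)
theorem F55625 : act 3 n14066 = n14066 := d25_1 D14066 (iv D14066) F51941
theorem F55626 : act 4 n14066 = n13145 := d29_1 D14066 (iv D13145) D13144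
def n14067 : Q := act 7 n13145
theorem D14067 : act 7 n13145 = n14067 := rfl
theorem F55627 : act 0 n14067 = n13278 := d6_1 D14067 (iv D13278) (iv F51942)
theorem F55628 : act 1 n14067 = n13197 := d13_1 D14067 (iv D13197) (iv F51943)
theorem F55629 : act 5 n14067 = n13151 := d31_1 D14067 (iv D13151) (iv F51945)
def n14068 : Q := act 4 n13146
theorem D14068 : act 4 n13146 = n14068 := rfl
theorem F55630 : act 0 n14068 = n13591 := d3_1 D14068 (iv D13591) (iv F51946)
theorem F55631 : act 1 n14068 = n13147 := d10_1 D14068 (iv D13147) D13146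
theorem F55632 : act 2 n14068 = n13198 := d16_1 D14068 (iv D13198) (iv F51947)
theorem F55633 : act 6 n14068 = n13153 := d27_2 (iv F51948) D14068 (iv D13153)
theorem F55634 : act 7 n14068 = n13555 := d28_2 F55573 D14068 (iv F55571)
def n14069 : Q := act 8 n13146
theorem D14069 : act 8 n13146 = n14069 := rfl
theorem F55635 : act 0 n14069 = n13592 := d7_1 D14069 (iv D13592) (iv F51946)
theorem F55636 : act 1 n14069 = n13148 := d14_1 D14069 (iv D13148) D13146
theorem F55637 : act 2 n14069 = n13199 := d20_1 D14069 (iv D13199) (iv F51947)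
theorem F55638 : act 6 n14069 = n13154 := d34_1 D14069 (iv D13154) (iv F51948)
def n14070 : Q := act 3 n13147
theorem D14070 : act 3 n13147 = n14070 := rfl
theorem F55639 : act 0 n14070 = n13309 := d2_1 D14070 (iv D13309) (iv F51949)
theorem F55640 : act 2 n14070 = n13162 := d15_1 D14070 (iv D13162) F47981 (iv F47958) (iv F51950)
theorem F55641 : act 6 n14070 = n13155 := d23_2 (iv F51951) D14070 (iv D13155)
def n14071 : Q := act 5 n13147
theorem D14071 : act 5 n13147 = n14071 := rfl
theorem F55642 : act 0 n14071 = n13310 := d4_1 D14071 (iv D13310) (iv F51949)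
theorem F55643 : act 2 n14071 = n13149 := d17_1 D14071 (iv D13149) (iv F51950)
theorem F55644 : act 7 n14071 = n13554 := d31_2 (iv F51952) D14071 F53497
def n14072 : Q := act 8 n13147
theorem D14072 : act 8 n13147 = n14072 := rfl
theorem F55645 : act 0 n14072 = n13311 := d7_1 D14072 (iv D13311) (iv F51949)
theorem F55646 : act 2 n14072 = n13150 := d20_1 D14072 (iv D13150) (iv F51950)
theorem F55647 : act 4 n14072 = n13148 := d29_1 D14072 (iv D13148) D13147
theorem F55648 : act 6 n14072 = n13157 := d34_1 D14072 (iv D13157) (iv F51951)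
def n14073 : Q := act 7 n13148
theorem D14073 : act 7 n13148 = n14073 := rfl
theorem F55649 : act 0 n14073 = n13312 := d6_1 D14073 (iv D13312) (iv F51953)
theorem F55650 : act 2 n14073 = n13151 := d19_1 D14073 (iv D13151) (iv F51954)
theorem F55651 : act 6 n14073 = n13158 := d33_1 D14073 (iv D13158) (iv F51955)
def n14074 : Q := act 8 n13149
theorem D14074 : act 8 n13149 = n14074 := rfl
theorem F55652 : act 0 n14074 = n13314 := d7_1 D14074 (iv D13314) (iv F51956)
theorem F55653 : act 1 n14074 = n13202 := d14_1 D14074 (iv D13202) (iv F51957)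
theorem F55654 : act 3 n14074 = n13166 := d25_1 D14074 (iv D13166) (iv F51958)
theorem F55655 : act 5 n14074 = n13150 := d32_1 D14074 (iv D13150) D13149
def n14075 : Q := act 7 n13150
theorem D14075 : act 7 n13150 = n14075 := rfl
theorem F55656 : act 0 n14075 = n13315 := d6_1 D14075 (iv D13315) (iv F51960)
theorem F55657 : act 1 n14075 = n13203 := d13_1 D14075 (iv D13203) (iv F51961)
theorem F55658 : act 3 n14075 = n13308 := d24_1 D14075 (iv D13308) F48544 (iv F47998) (iv F51962)
theorem F55659 : act 4 n14075 = n13151 := d28_1 D14075 (iv D13151) (iv F51963)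
theorem F55660 : act 6 n14075 = n13161 := d33_1 D14075 (iv D13161) (iv F51964)
theorem F55661 : act 8 n14075 = n13331 := d35_2 D13150 D14075 F52577 F48641 (iv F47960)
def n14076 : Q := act 4 n13152
theorem D14076 : act 4 n13152 = n14076 := rfl
theorem F55662 : act 0 n14076 = n13153 := d3_1 D14076 (iv D13153) D13152
theorem F55663 : act 1 n14076 = n13316 := d10_1 D14076 (iv D13316) (iv F51968)
theorem F55664 : act 2 n14076 = n13204 := d16_1 D14076 (iv D13204) (iv F51969)
theorem F55665 : act 6 n14076 = n13591 := d27_2 (iv F51971) D14076 (iv D13591)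
def n14077 : Q := act 8 n13152
theorem D14077 : act 8 n13152 = n14077 := rfl
theorem F55666 : act 0 n14077 = n13154 := d7_1 D14077 (iv D13154) D13152
theorem F55667 : act 1 n14077 = n13317 := d14_1 D14077 (iv D13317) (iv F51968)
theorem F55668 : act 2 n14077 = n13205 := d20_1 D14077 (iv D13205) (iv F51969)
theorem F55669 : act 3 n14077 = n14069 := d25_1 D14077 (iv D14069) (iv F51970)
theorem F55670 : act 6 n14077 = n13592 := d34_1 D14077 (iv D13592) (iv F51971)
def n14078 : Q := act 3 n13153
theorem D14078 : act 3 n13153 = n14078 := rfl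
theorem F55671 : act 1 n14078 = n13155 := d9_1 D14078 (iv D13155) (iv F51972)
theorem F55672 : act 2 n14078 = n14078 := d15_1 D14078 (iv D14078) F51973 F48137 (iv F51973)
def n14079 : Q := act 5 n13153
theorem D14079 : act 5 n13153 = n14079 := rfl
theorem F55673 : act 1 n14079 = n13156 := d11_1 D14079 (iv D13156) (iv F51972)
theorem F55674 : act 2 n14079 = n13206 := d17_1 D14079 (iv D13206) (iv F51973)
def n14080 : Q := act 8 n13153
theorem D14080 : act 8 n13153 = n14080 := rfl
theorem F55675 : act 1 n14080 = n13157 := d14_1 D14080 (iv D13157) (iv F51972)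
theorem F55676 : act 2 n14080 = n13207 := d20_1 D14080 (iv D13207) (iv F51973)
theorem F55677 : act 4 n14080 = n13154 := d29_1 D14080 (iv D13154) D13153
def n14081 : Q := act 7 n13154
theorem D14081 : act 7 n13154 = n14081 := rfl
theorem F55678 : act 1 n14081 = n13158 := d13_1 D14081 (iv D13158) (iv F51974)
theorem F55679 : act 2 n14081 = n13208 := d19_1 D14081 (iv D13208) (iv F51975)
def n14082 : Q := act 5 n13155
theorem D14082 : act 5 n13155 = n14082 := rfl
theorem F55680 : act 0 n14082 = n13322 := d4_1 D14082 (iv D13322) (iv F51976)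
theorem F55681 : act 2 n14082 = n13167 := d17_1 D14082 (iv D13167) (iv F51977)
theorem F55682 : act 3 n14082 = n13156 := d22_1 D14082 (iv D13156) D13155
def n14083 : Q := act 7 n13155
theorem D14083 : act 7 n13155 = n14083 := rfl
theorem F55683 : act 0 n14083 = n13323 := d6_1 D14083 (iv D13323) (iv F51976)
theorem F55684 : act 2 n14083 = n13168 := d19_1 D14083 (iv D13168) (iv F51977)
def n14084 : Q := act 8 n13155
theorem D14084 : act 8 n13155 = n14084 := rfl
theorem F55685 : act 0 n14084 = n13324 := d7_1 D14084 (iv D13324) (iv F51976)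
theorem F55686 : act 2 n14084 = n13169 := d20_1 D14084 (iv D13169) (iv F51977)
theorem F55687 : act 3 n14084 = n13157 := d25_1 D14084 (iv D13157) D13155
def n14085 : Q := act 6 n13156
theorem D14085 : act 6 n13156 = n14085 := rfl
theorem F55688 : act 0 n14085 = n13325 := d5_1 D14085 (iv D13325) (iv F51978)
theorem F55689 : act 2 n14085 = n13159 := d18_1 D14085 (iv D13159) (iv F51979)
def n14086 : Q := act 8 n13156
theorem D14086 : act 8 n13156 = n14086 := rfl
theorem F55690 : act 0 n14086 = n13326 := d7_1 D14086 (iv D13326) (iv F51978)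
theorem F55691 : act 2 n14086 = n13160 := d20_1 D14086 (iv D13160) (iv F51979)
theorem F55692 : act 5 n14086 = n13157 := d32_1 D14086 (iv D13157) D13156
def n14087 : Q := act 7 n13157
theorem D14087 : act 7 n13157 = n14087 := rfl
theorem F55693 : act 0 n14087 = n13327 := d6_1 D14087 (iv D13327) (iv F51980)
theorem F55694 : act 2 n14087 = n13161 := d19_1 D14087 (iv D13161) (iv F51981)
theorem F55695 : act 4 n14087 = n13158 := d28_1 D14087 (iv D13158) (iv F51982)
def n14088 : Q := act 3 n13158
theorem D14088 : act 3 n13158 = n14088 := rfl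
theorem F55696 : act 0 n14088 = n13328 := d2_1 D14088 (iv D13328) (iv F51983)
def n14089 : Q := act 8 n13159
theorem D14089 : act 8 n13159 = n14089 := rfl
theorem F55697 : act 0 n14089 = n13329 := d7_1 D14089 (iv D13329) (iv F51985)
theorem F55698 : act 1 n14089 = n13212 := d14_1 D14089 (iv D13212) (iv F51986)
theorem F55699 : act 3 n14089 = n13174 := d25_1 D14089 (iv D13174) (iv F51987)
theorem F55700 : act 6 n14089 = n13160 := d34_1 D14089 (iv D13160) D13159
def n14090 : Q := act 7 n13160
theorem D14090 : act 7 n13160 = n14090 := rfl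
theorem F55701 : act 0 n14090 = n13330 := d6_1 D14090 (iv D13330) (iv F51988)
theorem F55702 : act 1 n14090 = n13213 := d13_1 D14090 (iv D13213) (iv F51989)
theorem F55703 : act 5 n14090 = n13161 := d31_1 D14090 (iv D13161) (iv F51991)
def n14091 : Q := act 3 n13161
theorem D14091 : act 3 n13161 = n14091 := rfl
theorem F55704 : act 0 n14091 = n13331 := d2_1 D14091 (iv D13331) (iv F51992)
theorem F55705 : act 1 n14091 = n13214 := d9_1 D14091 (iv D13214) (iv F51993)
theorem F55706 : act 4 n14091 = n13298 := d21_2 (iv F51994) D14091 (iv F55446) F55447 F51763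
theorem F55707 : act 6 n14091 = n13308 := d23_2 F55660 D14091 (iv F55658)
theorem F55708 : act 7 n14091 = n13176 := d24_2 D13161 D14091 (iv D13176) (iv D12172) (iv F47975)
theorem F55709 : act 8 n14091 = n13315 := d25_2 F55616 D14091 (iv F55613)
def n14092 : Q := act 5 n13162
theorem D14092 : act 5 n13162 = n14092 := rfl
theorem F55710 : act 0 n14092 = n13332 := d4_1 D14092 (iv D13332) (iv F51995)
theorem F55711 : act 1 n14092 = n14092 := d11_1 D14092 (iv D14092) F51996
theorem F55712 : act 3 n14092 = n13163 := d22_1 D14092 (iv D13163) D13162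
def n14093 : Q := act 7 n13162
theorem D14093 : act 7 n13162 = n14093 := rfl
theorem F55713 : act 0 n14093 = n13333 := d6_1 D14093 (iv D13333) (iv F51995)
theorem F55714 : act 1 n14093 = n14093 := d13_1 D14093 (iv D14093) F51996
theorem F55715 : act 3 n14093 = n13500 := d24_1 D14093 (iv D13500) (iv D12517) (iv F47983) D13162
theorem F55716 : act 6 n14093 = n13168 := d33_1 D14093 (iv D13168) (iv F51997)
def n14094 : Q := act 8 n13162
theorem D14094 : act 8 n13162 = n14094 := rfl
theorem F55717 : act 0 n14094 = n13334 := d7_1 D14094 (iv D13334) (iv F51995)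
theorem F55718 : act 1 n14094 = n14094 := d14_1 D14094 (iv D14094) F51996
theorem F55719 : act 3 n14094 = n13164 := d25_1 D14094 (iv D13164) D13162
theorem F55720 : act 6 n14094 = n13169 := d34_1 D14094 (iv D13169) (iv F51997)
def n14095 : Q := act 6 n13163
theorem D14095 : act 6 n13163 = n14095 := rfl
theorem F55721 : act 0 n14095 = n13335 := d5_1 D14095 (iv D13335) (iv F51998)
theorem F55722 : act 1 n14095 = n14095 := d12_1 D14095 (iv D14095) F51999
theorem F55723 : act 2 n14095 = n13165 := d18_1 D14095 (iv D13165) (iv F52000)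
theorem F55724 : act 4 n14095 = n14095 := d27_1 D14095 (iv D14095) F52001
theorem F55725 : act 5 n14095 = n13170 := d30_1 D14095 (iv D13170) (iv D12167) (iv F47982) D13163
theorem F55726 : act 7 n14095 = n13501 := d33_2 (iv F52002) D14095 (iv D13501)
def n14096 : Q := act 8 n13163
theorem D14096 : act 8 n13163 = n14096 := rfl
theorem F55727 : act 0 n14096 = n13336 := d7_1 D14096 (iv D13336) (iv F51998)
theorem F55728 : act 1 n14096 = n14096 := d14_1 D14096 (iv D14096) F51999
theorem F55729 : act 2 n14096 = n13166 := d20_1 D14096 (iv D13166) (iv F52000)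
theorem F55730 : act 4 n14096 = n14096 := d29_1 D14096 (iv D14096) F52001
theorem F55731 : act 5 n14096 = n13164 := d32_1 D14096 (iv D13164) D13163
theorem F55732 : act 7 n14096 = n13534 := d35_1 D14096 (iv D13534) F49487 (iv F49306) (iv F52002)
def n14097 : Q := act 8 n13165
theorem D14097 : act 8 n13165 = n14097 := rfl
theorem F55733 : act 0 n14097 = n13339 := d7_1 D14097 (iv D13339) (iv F52009)
theorem F55734 : act 1 n14097 = n13215 := d14_1 D14097 (iv D13215) (iv F52010)
theorem F55735 : act 4 n14097 = n14097 := d29_1 D14097 (iv D14097) F52011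
theorem F55736 : act 5 n14097 = n13174 := d32_1 D14097 (iv D13174) (iv F52012)
theorem F55737 : act 6 n14097 = n13166 := d34_1 D14097 (iv D13166) D13165
theorem F55738 : act 7 n14097 = n13535 := d35_1 D14097 (iv D13535) F49493 (iv F49312) (iv F52013)
def n14098 : Q := act 4 n13167
theorem D14098 : act 4 n13167 = n14098 := rfl
theorem F55739 : act 0 n14098 = n13341 := d3_1 D14098 (iv D13341) (iv F52019)
theorem F55740 : act 1 n14098 = n14098 := d10_1 D14098 (iv D14098) F52020
theorem F55741 : act 3 n14098 = n13177 := d21_1 D14098 (iv D13177) F48031 (iv F48004) (iv F52021)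
def n14099 : Q := act 6 n13167
theorem D14099 : act 6 n13167 = n14099 := rfl
theorem F55742 : act 0 n14099 = n13342 := d5_1 D14099 (iv D13342) (iv F52019)
theorem F55743 : act 1 n14099 = n14099 := d12_1 D14099 (iv D14099) F52020
theorem F55744 : act 3 n14099 = n13170 := d23_1 D14099 (iv D13170) (iv F52021)
theorem F55745 : act 7 n14098 = n14099 := d24_0 F55744 F52032 (iv F53279) (iv F53281) (iv F55741)
def n14100 : Q := act 7 n13167
theorem D14100 : act 7 n13167 = n14100 := rfl
theorem F55746 : act 0 n14100 = n13343 := d6_1 D14100 (iv D13343) (iv F52019)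
theorem F55747 : act 1 n14100 = n14100 := d13_1 D14100 (iv D14100) F52020
theorem F55748 : act 3 n14100 = n13504 := d24_1 D14100 (iv D13504) F49315 (iv F48005) (iv F52021)
theorem F55749 : act 4 n14100 = n14099 := d28_1 D14100 (iv F55745) (iv D14098)
theorem F55750 : act 5 n14100 = n13168 := d31_1 D14100 (iv D13168) D13167
theorem F55751 : act 6 n14100 = n14098 := d33_1 D14100 F55745 (iv D14099)
def n14101 : Q := act 8 n13167
theorem D14101 : act 8 n13167 = n14101 := rfl
theorem F55752 : act 0 n14101 = n13344 := d7_1 D14101 (iv D13344) (iv F52019)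
theorem F55753 : act 1 n14101 = n14101 := d14_1 D14101 (iv D14101) F52020
theorem F55754 : act 3 n14101 = n13171 := d25_1 D14101 (iv D13171) (iv F52021)
theorem F55755 : act 5 n14101 = n13169 := d32_1 D14101 (iv D13169) D13167
def n14102 : Q := act 8 n13168
theorem D14102 : act 8 n13168 = n14102 := rfl
theorem F55756 : act 0 n14102 = n13345 := d7_1 D14102 (iv D13345) (iv F52022)
theorem F55757 : act 1 n14102 = n14102 := d14_1 D14102 (iv D14102) F52023
theorem F55758 : act 3 n14102 = n13506 := d25_1 D14102 (iv D13506) (iv F52024)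
def n14103 : Q := act 7 n13169
theorem D14103 : act 7 n13169 = n14103 := rfl
theorem F55759 : act 0 n14103 = n13346 := d6_1 D14103 (iv D13346) (iv F52025)
theorem F55760 : act 1 n14103 = n14103 := d13_1 D14103 (iv D14103) F52026
def n14104 : Q := act 8 n13170
theorem D14104 : act 8 n13170 = n14104 := rfl
theorem F55761 : act 0 n14104 = n13347 := d7_1 D14104 (iv D13347) (iv F52028)
theorem F55762 : act 1 n14104 = n14104 := d14_1 D14104 (iv D14104) F52029
theorem F55763 : act 2 n14104 = n13174 := d20_1 D14104 (iv D13174) (iv F52030)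
theorem F55764 : act 4 n14104 = n13181 := d29_1 D14104 (iv D13181) (iv F52031)
theorem F55765 : act 6 n14104 = n13171 := d34_1 D14104 (iv D13171) D13170
def n14105 : Q := act 7 n13171
theorem D14105 : act 7 n13171 = n14105 := rfl
theorem F55766 : act 0 n14105 = n13348 := d6_1 D14105 (iv D13348) (iv F52033)
theorem F55767 : act 1 n14105 = n14105 := d13_1 D14105 (iv D14105) F52034
theorem F55768 : act 2 n14105 = n13175 := d19_1 D14105 (iv D13175) (iv F52035)
theorem F55769 : act 4 n14105 = n13182 := d28_1 D14105 (iv D13182) (iv F52036)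
theorem F55770 : act 5 n14105 = n13172 := d31_1 D14105 (iv D13172) (iv F52037)
theorem F55771 : act 8 n14105 = n13509 := d35_2 D13171 D14105 (iv D13509) (iv D12524) (iv F48005)
def n14106 : Q := act 3 n13172
theorem D14106 : act 3 n13172 = n14106 := rfl
theorem F55772 : act 0 n14106 = n13349 := d2_1 D14106 (iv D13349) (iv F52038)
theorem F55773 : act 1 n14106 = n14106 := d9_1 D14106 (iv D14106) F52039
theorem F55774 : act 6 n14106 = n13532 := d23_2 (iv F52042) D14106 F53418
theorem F55775 : act 8 n14106 = n13510 := d25_2 (iv F52043) D14106 (iv D13510)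
def n14107 : Q := act 4 n13173
theorem D14107 : act 4 n13173 = n14107 := rfl
theorem F55776 : act 0 n14107 = n13350 := d3_1 D14107 (iv D13350) (iv F52044)
theorem F55777 : act 1 n14107 = n14107 := d10_1 D14107 (iv D14107) F52045
theorem F55778 : act 2 n14107 = n13521 := d16_1 D14107 F53376 (iv F52046)
theorem F55779 : act 6 n14107 = n13525 := d27_2 (iv F52048) D14107 F53394
theorem F55780 : act 8 n14107 = n13511 := d29_2 (iv F52049) D14107 (iv D13511)
def n14108 : Q := act 7 n13174
theorem D14108 : act 7 n13174 = n14108 := rfl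
theorem F55781 : act 0 n14108 = n13351 := d6_1 D14108 (iv D13351) (iv F52050)
theorem F55782 : act 1 n14108 = n13216 := d13_1 D14108 (iv D13216) (iv F52051)
theorem F55783 : act 4 n14108 = n13183 := d28_1 D14108 (iv D13183) (iv F52052)
theorem F55784 : act 5 n14108 = n13535 := d31_1 D14108 (iv F55738) F55736
theorem F55785 : act 6 n14108 = n13175 := d33_1 D14108 (iv D13175) (iv F52053)
theorem F55786 : act 8 n14108 = n13512 := d35_2 D13174 D14108 (iv D13512) (iv D12527) (iv F48019)
def n14109 : Q := act 3 n13175
theorem D14109 : act 3 n13175 = n14109 := rfl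
theorem F55787 : act 0 n14109 = n13352 := d2_1 D14109 (iv D13352) (iv F52054)
theorem F55788 : act 1 n14109 = n13217 := d9_1 D14109 (iv D13217) (iv F52055)
theorem F55789 : act 5 n14109 = n13176 := d22_2 (iv F52057) D14109 (iv D13176)
theorem F55790 : act 8 n14109 = n13297 := d25_2 (iv F52058) D14109 F52489
def n14110 : Q := act 2 n13176
theorem D14110 : act 2 n13176 = n14110 := rfl
theorem F55791 : act 0 n14110 = n13353 := d1_1 D14110 (iv D13353) (iv F52059)
theorem F55792 : act 1 n14110 = n13645 := d8_1 D14110 F53823 F49975 F48179 (iv F52060)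
theorem F55793 : act 4 n14110 = n13296 := d16_2 (iv F52061) D14110 F52485
theorem F55794 : act 6 n14110 = n13304 := d18_2 (iv F52062) D14110 F52507
theorem F55795 : act 8 n14110 = n13295 := d20_2 (iv F52063) D14110 F52481
def n14111 : Q := act 8 n13177
theorem D14111 : act 8 n13177 = n14111 := rfl
theorem F55796 : act 0 n14111 = n13354 := d7_1 D14111 (iv D13354) (iv F52064)
theorem F55797 : act 1 n14111 = n14111 := d14_1 D14111 (iv D14111) F52065
theorem F55798 : act 4 n14111 = n13180 := d29_1 D14111 (iv D13180) D13177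
def n14112 : Q := act 8 n13178
theorem D14112 : act 8 n13178 = n14112 := rfl
theorem F55799 : act 0 n14112 = n13355 := d7_1 D14112 (iv D13355) (iv F52066)
theorem F55800 : act 1 n14112 = n14112 := d14_1 D14112 (iv D14112) F52067
theorem F55801 : act 3 n14112 = n13181 := d25_1 D14112 (iv D13181) (iv F52068)
theorem F55802 : act 5 n14112 = n14112 := d32_1 D14112 (iv D14112) F52069
theorem F55803 : act 6 n14112 = n13180 := d34_1 D14112 (iv D13180) D13178
def n14113 : Q := act 7 n13181
theorem D14113 : act 7 n13181 = n14113 := rfl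
theorem F55804 : act 0 n14113 = n13358 := d6_1 D14113 (iv D13358) (iv F52078)
theorem F55805 : act 1 n14113 = n14113 := d13_1 D14113 (iv D14113) F52079
theorem F55806 : act 2 n14113 = n13183 := d19_1 D14113 (iv D13183) (iv F52080)
theorem F55807 : act 5 n14113 = n14113 := d31_1 D14113 (iv D14113) F52081
theorem F55808 : act 6 n14113 = n13182 := d33_1 D14113 (iv D13182) (iv F52082)
theorem F55809 : act 8 n14113 = n13515 := d35_2 D13181 D14113 (iv D13515) (iv D12533) (iv F48044)
def n14114 : Q := act 7 n13185
theorem D14114 : act 7 n13185 = n14114 := rfl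
theorem F55810 : act 0 n14114 = n13223 := d6_1 D14114 (iv D13223) (iv F52097)
theorem F55811 : act 3 n14114 = n13281 := d24_1 D14114 (iv D13281) F48466 (iv F48078) (iv F52098)
theorem F55812 : act 5 n14114 = n13188 := d31_1 D14114 (iv D13188) (iv F52099)
theorem F55813 : act 8 n14114 = n13197 := d35_2 D13185 D14114 (iv D13197) (iv D12194) (iv F48073)
def n14115 : Q := act 8 n13186
theorem D14115 : act 8 n13186 = n14115 := rfl
theorem F55814 : act 0 n14115 = n13617 := d7_1 D14115 (iv D13617) (iv F52100)
theorem F55815 : act 1 n14115 = n13187 := d14_1 D14115 (iv D13187) D13186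
theorem F55816 : act 3 n14115 = n14115 := d25_1 D14115 (iv D14115) F52101
theorem F55817 : act 4 n14115 = n13385 := d29_1 D14115 F52775 (iv F52102)
theorem F55818 : act 6 n14115 = n13191 := d34_1 D14115 (iv D13191) (iv F52103)
def n14116 : Q := act 7 n13187
theorem D14116 : act 7 n13187 = n14116 := rfl
theorem F55819 : act 0 n14116 = n13224 := d6_1 D14116 (iv D13224) (iv F52105)
theorem F55820 : act 2 n14116 = n13188 := d19_1 D14116 (iv D13188) (iv F52106)
theorem F55821 : act 4 n14116 = n13383 := d28_1 D14116 F52767 (iv F52108)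
theorem F55822 : act 6 n14116 = n13193 := d33_1 D14116 (iv D13193) (iv F52109)
theorem F55823 : act 8 n14116 = n13201 := d35_2 D13187 D14116 (iv D13201) (iv D12197) (iv F48083)
def n14117 : Q := act 8 n13189
theorem D14117 : act 8 n13189 = n14117 := rfl
theorem F55824 : act 0 n14117 = n13191 := d7_1 D14117 (iv D13191) D13189
theorem F55825 : act 1 n14117 = n13225 := d14_1 D14117 (iv D13225) (iv F52115)
theorem F55826 : act 3 n14117 = n14117 := d25_1 D14117 (iv D14117) F52116
theorem F55827 : act 6 n14117 = n13617 := d34_1 D14117 (iv D13617) (iv F52117)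
def n14118 : Q := act 8 n13190
theorem D14118 : act 8 n13190 = n14118 := rfl
theorem F55828 : act 1 n14118 = n13192 := d14_1 D14118 (iv D13192) (iv F52119)
theorem F55829 : act 3 n14118 = n13480 := d25_1 D14118 F53167 F52122
theorem F55830 : act 4 n14118 = n13191 := d29_1 D14118 (iv D13191) D13190
theorem F55831 : act 6 n14118 = n13385 := d34_1 D14118 F52775 (iv F52120)
def n14119 : Q := act 7 n13191
theorem D14119 : act 7 n13191 = n14119 := rfl
theorem F55832 : act 1 n14119 = n13193 := d13_1 D14119 (iv D13193) (iv F52123)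
theorem F55833 : act 8 n14119 = n13208 := d35_2 D13191 D14119 (iv D13208) (iv D12203) (iv F48089)
def n14120 : Q := act 7 n13192
theorem D14120 : act 7 n13192 = n14120 := rfl
theorem F55834 : act 0 n14120 = n13227 := d6_1 D14120 (iv D13227) (iv F52125)
theorem F55835 : act 2 n14120 = n13195 := d19_1 D14120 (iv D13195) (iv F52126)
theorem F55836 : act 3 n14120 = n13685 := d24_1 D14120 F53945 F50109 (iv F49207) (iv F52127)
theorem F55837 : act 4 n14120 = n13193 := d28_1 D14120 (iv D13193) (iv F52128)
theorem F55838 : act 6 n14120 = n13383 := d33_1 D14120 F52767 (iv F52129)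
theorem F55839 : act 8 n14120 = n13210 := d35_2 D13192 D14120 (iv D13210) (iv D12205) (iv F48093)
def n14121 : Q := act 3 n13193
theorem D14121 : act 3 n13193 = n14121 := rfl
theorem F55840 : act 0 n14121 = n13228 := d2_1 D14121 (iv D13228) (iv F52130)
theorem F55841 : act 7 n14121 = n14121 := d24_2 D13193 D14121 (iv D14121) (iv D13193) F48097
theorem F55842 : act 8 n14121 = n13211 := d25_2 (iv F52132) D14121 (iv D13211)
def n14122 : Q := act 7 n13194
theorem D14122 : act 7 n13194 = n14122 := rfl
theorem F55843 : act 0 n14122 = n13229 := d6_1 D14122 (iv D13229) (iv F52133)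
theorem F55844 : act 3 n14122 = n13371 := d24_1 D14122 (iv D13371) F48743 D12390 (iv F52134)
theorem F55845 : act 5 n14122 = n13195 := d31_1 D14122 (iv D13195) (iv F52135)
theorem F55846 : act 8 n14122 = n13213 := d35_2 D13194 D14122 (iv D13213) (iv D12208) (iv F48100)
def n14123 : Q := act 7 n13196
theorem D14123 : act 7 n13196 = n14123 := rfl
theorem F55847 : act 0 n14123 = n13230 := d6_1 D14123 (iv D13230) (iv F52141)
theorem F55848 : act 4 n14123 = n13197 := d28_1 D14123 (iv D13197) (iv F52143)
def n14124 : Q := act 8 n13198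
theorem D14124 : act 8 n13198 = n14124 := rfl
theorem F55849 : act 0 n14124 = n13620 := d7_1 D14124 (iv D13620) (iv F52146)
theorem F55850 : act 1 n14124 = n13200 := d14_1 D14124 (iv D13200) (iv F52147)
theorem F55851 : act 3 n14124 = n14124 := d25_1 D14124 (iv D14124) F52148
theorem F55852 : act 4 n14124 = n13199 := d29_1 D14124 (iv D13199) D13198
theorem F55853 : act 6 n14124 = n13207 := d34_1 D14124 (iv D13207) (iv F52149)
def n14125 : Q := act 7 n13199
theorem D14125 : act 7 n13199 = n14125 := rfl
theorem F55854 : act 0 n14125 = n13621 := d6_1 D14125 (iv D13621) (iv F52151)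
theorem F55855 : act 1 n14125 = n13201 := d13_1 D14125 (iv D13201) (iv F52152)
theorem F55856 : act 6 n14125 = n13208 := d33_1 D14125 (iv D13208) (iv F52154)
def n14126 : Q := act 7 n13200
theorem D14126 : act 7 n13200 = n14126 := rfl
theorem F55857 : act 0 n14126 = n13231 := d6_1 D14126 (iv D13231) (iv F52155)
theorem F55858 : act 2 n14126 = n13203 := d19_1 D14126 (iv D13203) (iv F52156)
theorem F55859 : act 4 n14126 = n13201 := d28_1 D14126 (iv D13201) (iv F52158)
theorem F55860 : act 6 n14126 = n13210 := d33_1 D14126 (iv D13210) (iv F52159)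
theorem F55861 : act 8 n14126 = n13383 := d35_2 D13200 D14126 F52767 F48804 (iv F48119)
def n14127 : Q := act 3 n13201
theorem D14127 : act 3 n13201 = n14127 := rfl
theorem F55862 : act 0 n14127 = n13232 := d2_1 D14127 (iv D13232) (iv F52160)
theorem F55863 : act 6 n14127 = n13211 := d23_2 (iv F52162) D14127 (iv D13211)
theorem F55864 : act 7 n14127 = n13219 := d24_2 D13201 D14127 (iv D13219) (iv D12219) (iv F48122)
def n14128 : Q := act 7 n13202
theorem D14128 : act 7 n13202 = n14128 := rfl
theorem F55865 : act 0 n14128 = n13233 := d6_1 D14128 (iv D13233) (iv F52163)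
theorem F55866 : act 3 n14128 = n13369 := d24_1 D14128 (iv D13369) F48732 (iv F48165) (iv F52164)
theorem F55867 : act 5 n14128 = n13203 := d31_1 D14128 (iv D13203) (iv F52165)
theorem F55868 : act 8 n14128 = n13382 := d35_2 D13202 D14128 F52765 F48801 (iv F48126)
def n14129 : Q := act 8 n13204
theorem D14129 : act 8 n13204 = n14129 := rfl
theorem F55869 : act 0 n14129 = n13207 := d7_1 D14129 (iv D13207) (iv F52171)
theorem F55870 : act 1 n14129 = n13234 := d14_1 D14129 (iv D13234) (iv F52172)
theorem F55871 : act 3 n14129 = n14129 := d25_1 D14129 (iv D14129) F52173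
theorem F55872 : act 4 n14129 = n13205 := d29_1 D14129 (iv D13205) D13204
theorem F55873 : act 6 n14129 = n13620 := d34_1 D14129 (iv D13620) (iv F52174)
def n14130 : Q := act 7 n13205
theorem D14130 : act 7 n13205 = n14130 := rfl
theorem F55874 : act 0 n14130 = n13208 := d6_1 D14130 (iv D13208) (iv F52175)
theorem F55875 : act 1 n14130 = n13235 := d13_1 D14130 (iv D13235) (iv F52176)
theorem F55876 : act 6 n14130 = n13621 := d33_1 D14130 (iv D13621) (iv F52178)
def n14131 : Q := act 8 n13206
theorem D14131 : act 8 n13206 = n14131 := rfl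
theorem F55877 : act 1 n14131 = n13209 := d14_1 D14131 (iv D13209) (iv F52179)
theorem F55878 : act 3 n14131 = n14131 := d25_1 D14131 (iv D14131) F52180
theorem F55879 : act 5 n14131 = n13207 := d32_1 D14131 (iv D13207) D13206
def n14132 : Q := act 7 n13207
theorem D14132 : act 7 n13207 = n14132 := rfl
theorem F55880 : act 1 n14132 = n13210 := d13_1 D14132 (iv D13210) (iv F52181)
theorem F55881 : act 4 n14132 = n13208 := d28_1 D14132 (iv D13208) (iv F52183)
def n14133 : Q := act 3 n13208
theorem D14133 : act 3 n13208 = n14133 := rfl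
theorem F55882 : act 1 n14133 = n13211 := d9_1 D14133 (iv D13211) (iv F52184)
theorem F55883 : act 7 n14133 = n13221 := d24_2 D13208 D14133 (iv D13221) (iv D12221) (iv F48139)
def n14134 : Q := act 7 n13209
theorem D14134 : act 7 n13209 = n14134 := rfl
theorem F55884 : act 0 n14134 = n13238 := d6_1 D14134 (iv D13238) (iv F52185)
theorem F55885 : act 2 n14134 = n13213 := d19_1 D14134 (iv D13213) (iv F52186)
theorem F55886 : act 5 n14134 = n13210 := d31_1 D14134 (iv D13210) (iv F52188)
def n14135 : Q := act 3 n13210
theorem D14135 : act 3 n13210 = n14135 := rfl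
theorem F55887 : act 0 n14135 = n13239 := d2_1 D14135 (iv D13239) (iv F52189)
theorem F55888 : act 2 n14135 = n13682 := d15_1 D14135 (iv D13682) F52204 (iv D13214) (iv F52190)
theorem F55889 : act 7 n14135 = n14135 := d24_2 D13210 D14135 (iv D14135) (iv D13210) F48145
theorem F55890 : act 8 n14135 = n13685 := d25_2 F55839 D14135 (iv F55836)
def n14136 : Q := act 4 n13211
theorem D14136 : act 4 n13211 = n14136 := rfl
theorem F55891 : act 0 n14136 = n13240 := d3_1 D14136 (iv D13240) (iv F52192)
theorem F55892 : act 7 n14136 = n13222 := d28_2 (iv F52193) D14136 (iv D13222)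
def n14137 : Q := act 7 n13212
theorem D14137 : act 7 n13212 = n14137 := rfl
theorem F55893 : act 0 n14137 = n13241 := d6_1 D14137 (iv D13241) (iv F52194)
theorem F55894 : act 6 n14137 = n13213 := d33_1 D14137 (iv D13213) (iv F52196)
def n14138 : Q := act 3 n13213
theorem D14138 : act 3 n13213 = n14138 := rfl
theorem F55895 : act 0 n14138 = n13242 := d2_1 D14138 (iv D13242) (iv F52197)
theorem F55896 : act 5 n14138 = n13214 := d22_2 (iv F52198) D14138 (iv D13214)
theorem F55897 : act 7 n14138 = n13217 := d24_2 D13213 D14138 (iv D13217) (iv D12213) (iv F48152)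
theorem F55898 : act 8 n14138 = n13371 := d25_2 F55846 D14138 (iv F55844)
theorem F55899 : act 2 n13681 = n14138 := d20_3 F55898 F52728 (iv F53935)
def n14139 : Q := act 3 n13218
theorem D14139 : act 3 n13218 = n14139 := rfl
theorem F55900 : act 0 n14139 = n13629 := d2_1 D14139 (iv D13629) (iv F52221)
theorem F55901 : act 1 n14139 = n13219 := d9_1 D14139 (iv D13219) (iv F52222)
theorem F55902 : act 6 n14139 = n13221 := d23_2 (iv F52224) D14139 (iv D13221)
theorem F55903 : act 8 n14139 = n14139 := d25_2 F52225 D14139 (iv D14139)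
def n14140 : Q := act 4 n13219
theorem D14140 : act 4 n13219 = n14140 := rfl
theorem F55904 : act 0 n14140 = n13243 := d3_1 D14140 (iv D13243) (iv F52226)
theorem F55905 : act 2 n14140 = n13627 := d16_1 D14140 (iv F55488) F55487
theorem F55906 : act 3 n14140 = n14140 := d21_1 D14140 (iv D14140) (iv D13219) F48198 D13219
theorem F55907 : act 5 n14140 = n13628 := d26_2 F55522 D14140 (iv F54481) F54482 (iv F55521)
theorem F55908 : act 6 n14140 = n13222 := d27_2 (iv F52227) D14140 (iv D13222)
theorem F55909 : act 8 n14140 = n14140 := d29_2 F52228 D14140 (iv D14140)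
def n14141 : Q := act 3 n13220
theorem D14141 : act 3 n13220 = n14141 := rfl
theorem F55910 : act 0 n14141 = n13221 := d2_1 D14141 (iv D13221) (iv F52229)
theorem F55911 : act 1 n14141 = n13244 := d9_1 D14141 (iv D13244) (iv F52230)
theorem F55912 : act 6 n14141 = n13629 := d23_2 (iv F52233) D14141 (iv D13629)
theorem F55913 : act 8 n14141 = n14141 := d25_2 F52234 D14141 (iv D14141)
def n14142 : Q := act 2 n13221
theorem D14142 : act 2 n13221 = n14142 := rfl
theorem F55914 : act 8 n14142 = n14142 := d20_2 F52236 D14142 (iv D14142)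
def n14143 : Q := act 4 n13221
theorem D14143 : act 4 n13221 = n14143 := rfl
theorem F55915 : act 1 n14143 = n13222 := d10_1 D14143 (iv D13222) (iv F52235)
theorem F55916 : act 3 n14143 = n14143 := d21_1 D14143 (iv D14143) (iv D13221) F48207 D13221
theorem F55917 : act 8 n14143 = n14143 := d29_2 F52236 D14143 (iv D14143)
def n14144 : Q := act 3 n13224
theorem D14144 : act 3 n13224 = n14144 := rfl
theorem F55918 : act 1 n14144 = n13631 := d9_1 D14144 (iv D13631) (iv F52244)
theorem F55919 : act 2 n14144 = n13283 := d15_1 D14144 (iv D13283) F48494 (iv F48220) (iv F52245)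
theorem F55920 : act 6 n14144 = n13228 := d23_2 (iv F52247) D14144 (iv D13228)
theorem F55921 : act 7 n14144 = n14144 := d24_2 D13224 D14144 (iv D14144) (iv D13224) F48216
theorem F55922 : act 8 n14144 = n13232 := d25_2 (iv F52248) D14144 (iv D13232)
def n14145 : Q := act 7 n13225
theorem D14145 : act 7 n13225 = n14145 := rfl
theorem F55923 : act 0 n14145 = n13226 := d6_1 D14145 (iv D13226) (iv F52249)
theorem F55924 : act 2 n14145 = n13387 := d19_1 D14145 (iv D13387) (iv F52250)
theorem F55925 : act 6 n14145 = n13618 := d33_1 D14145 (iv D13618) (iv F52252)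
theorem F55926 : act 8 n14145 = n13235 := d35_2 D13225 D14145 (iv D13235) (iv D12239) (iv F48227)
def n14146 : Q := act 3 n13226
theorem D14146 : act 3 n13226 = n14146 := rfl
theorem F55927 : act 1 n14146 = n13228 := d9_1 D14146 (iv D13228) (iv F52253)
theorem F55928 : act 6 n14146 = n13631 := d23_2 (iv F52255) D14146 (iv D13631)
theorem F55929 : act 7 n14146 = n14146 := d24_2 D13226 D14146 (iv D14146) (iv D13226) F48230
theorem F55930 : act 8 n14146 = n13237 := d25_2 (iv F52256) D14146 (iv D13237)
def n14147 : Q := act 3 n13230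
theorem D14147 : act 3 n13230 = n14147 := rfl
theorem F55931 : act 1 n14147 = n13283 := d9_1 D14147 (iv D13283) (iv F52268)
theorem F55932 : act 4 n14147 = n13691 := d21_2 (iv F52269) D14147 (iv D13691) (iv F51462) F51461
theorem F55933 : act 7 n14147 = n14147 := d24_2 D13230 D14147 (iv D14147) (iv D13230) F48247
theorem F55934 : act 8 n14147 = n13694 := d25_2 F54585 D14147 (iv F54581)
def n14148 : Q := act 3 n13231
theorem D14148 : act 3 n13231 = n14148 := rfl
theorem F55935 : act 1 n14148 = n13633 := d9_1 D14148 (iv D13633) (iv F52270)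
theorem F55936 : act 2 n14148 = n13390 := d15_1 D14148 (iv D13390) F48829 (iv F48263) (iv F52271)
theorem F55937 : act 6 n14148 = n13239 := d23_2 (iv F52273) D14148 (iv D13239)
theorem F55938 : act 7 n14148 = n14148 := d24_2 D13231 D14148 (iv D14148) (iv D13231) F48253
theorem F55939 : act 8 n14148 = n13399 := d25_2 (iv F52274) D14148 F52814
def n14149 : Q := act 4 n13232
theorem D14149 : act 4 n13232 = n14149 := rfl
theorem F55940 : act 1 n14149 = n13634 := d10_1 D14149 (iv D13634) (iv F52275)
theorem F55941 : act 2 n14149 = n13635 := d16_1 D14149 (iv F55508) F55507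
theorem F55942 : act 5 n14149 = n13636 := d26_2 F55517 D14149 (iv F54662) F54663 (iv F55516)
theorem F55943 : act 6 n14149 = n13240 := d27_2 (iv F52276) D14149 (iv D13240)
theorem F55944 : act 7 n14149 = n13243 := d28_2 (iv F52277) D14149 (iv D13243)
def n14150 : Q := act 7 n13234
theorem D14150 : act 7 n13234 = n14150 := rfl
theorem F55945 : act 0 n14150 = n13236 := d6_1 D14150 (iv D13236) (iv F52282)
theorem F55946 : act 2 n14150 = n13394 := d19_1 D14150 (iv D13394) (iv F52283)
theorem F55947 : act 4 n14150 = n13235 := d28_1 D14150 (iv D13235) (iv F52285)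
theorem F55948 : act 6 n14150 = n13622 := d33_1 D14150 (iv D13622) (iv F52286)
def n14151 : Q := act 3 n13235
theorem D14151 : act 3 n13235 = n14151 := rfl
theorem F55949 : act 0 n14151 = n13237 := d2_1 D14151 (iv D13237) (iv F52287)
theorem F55950 : act 6 n14151 = n13623 := d23_2 (iv F52289) D14151 (iv D13623)
theorem F55951 : act 7 n14151 = n13244 := d24_2 D13235 D14151 (iv D13244) (iv D12252) (iv F48273)
def n14152 : Q := act 3 n13236
theorem D14152 : act 3 n13236 = n14152 := rfl
theorem F55952 : act 1 n14152 = n13239 := d9_1 D14152 (iv D13239) (iv F52290)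
theorem F55953 : act 6 n14152 = n13633 := d23_2 (iv F52293) D14152 (iv D13633)
theorem F55954 : act 7 n14152 = n14152 := d24_2 D13236 D14152 (iv D14152) (iv D13236) F48277
theorem F55955 : act 8 n14152 = n13695 := d25_2 F55217 D14152 (iv F55213)
def n14153 : Q := act 3 n13238
theorem D14153 : act 3 n13238 = n14153 := rfl
theorem F55956 : act 2 n14153 = n13691 := d15_1 D14153 (iv D13691) F52309 (iv D13242) (iv F52297)
theorem F55957 : act 5 n14153 = n13239 := d22_2 (iv F52298) D14153 (iv D13239)
theorem F55958 : act 7 n14153 = n14153 := d24_2 D13238 D14153 (iv D14153) (iv D13238) F48284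
theorem F55959 : act 8 n14153 = n13693 := d25_2 F54655 D14153 (iv F54651)
def n14154 : Q := act 1 n13245
theorem D14154 : act 1 n13245 = n14154 := rfl
theorem F55960 : act 2 n14154 = n13284 := d8_2 D13245 D14154 F52451 (iv D12419) (iv F48329)
theorem F55961 : act 3 n14154 = n13248 := d9_2 (iv F52319) D14154 (iv D13248)
theorem F55962 : act 5 n14154 = n13286 := d11_2 (iv F52320) D14154 F52457
theorem F55963 : act 7 n14154 = n13849 := d13_2 (iv F52321) D14154 (iv D13849)
def n14155 : Q := act 4 n13245
theorem D14155 : act 4 n13245 = n14155 := rfl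
theorem F55964 : act 0 n14155 = n13880 := d3_1 D14155 (iv F55386) F55384
theorem F55965 : act 2 n14155 = n13246 := d16_1 D14155 (iv D13246) D13245
theorem F55966 : act 3 n14155 = n13748 := d21_1 D14155 (iv D13748) (iv F51736) F51737 (iv F52319)
theorem F55967 : act 6 n14155 = n13755 := d27_2 F55435 D14155 (iv F55434)
theorem F55968 : act 7 n14155 = n13850 := d28_2 (iv F52321) D14155 (iv D13850)
def n14156 : Q := act 8 n13245
theorem D14156 : act 8 n13245 = n14156 := rfl
theorem F55969 : act 2 n14156 = n13247 := d20_1 D14156 (iv D13247) D13245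
theorem F55970 : act 3 n14156 = n13249 := d25_1 D14156 (iv D13249) (iv F52319)
theorem F55971 : act 5 n14156 = n13639 := d32_1 D14156 (iv D13639) (iv F52320)
def n14157 : Q := act 8 n13246
theorem D14157 : act 8 n13246 = n14157 := rfl
theorem F55972 : act 0 n14157 = n13904 := d7_1 D14157 (iv D13904) (iv F52322)
theorem F55973 : act 1 n14157 = n13403 := d14_1 D14157 (iv D13403) (iv F52323)
theorem F55974 : act 3 n14157 = n13516 := d25_1 D14157 (iv D13516) (iv F52324)
theorem F55975 : act 4 n14157 = n13247 := d29_1 D14157 (iv D13247) D13246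
theorem F55976 : act 6 n14157 = n13765 := d34_1 D14157 (iv D13765) (iv F52325)
def n14158 : Q := act 7 n13247
theorem D14158 : act 7 n13247 = n14158 := rfl
theorem F55977 : act 1 n14158 = n13404 := d13_1 D14158 (iv D13404) (iv F52327)
theorem F55978 : act 3 n14158 = n13294 := d24_1 D14158 (iv D13294) F48516 (iv F48336) (iv F52328)
theorem F55979 : act 5 n14158 = n13642 := d31_1 D14158 (iv D13642) (iv F52329)
theorem F55980 : act 8 n14158 = n13854 := d35_2 D13247 D14158 (iv D13854) (iv D12926) (iv F48331)
def n14159 : Q := act 8 n13248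
theorem D14159 : act 8 n13248 = n14159 := rfl
theorem F55981 : act 1 n14159 = n13249 := d14_1 D14159 (iv D13249) D13248
theorem F55982 : act 2 n14159 = n13274 := d20_1 D14159 (iv D13274) (iv F52330)
theorem F55983 : act 5 n14159 = n13296 := d32_1 D14159 (iv D13296) (iv F52331)
def n14160 : Q := act 7 n13249
theorem D14160 : act 7 n13249 = n14160 := rfl
theorem F55984 : act 2 n14160 = n13250 := d19_1 D14160 (iv D13250) (iv F52333)
theorem F55985 : act 5 n14160 = n13646 := d31_1 D14160 (iv D13646) (iv F52334)
theorem F55986 : act 8 n14160 = n13258 := d35_2 D13249 D14160 (iv D13258) (iv D12263) (iv F48338)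
def n14161 : Q := act 7 n13251
theorem D14161 : act 7 n13251 = n14161 := rfl
theorem F55987 : act 2 n14161 = n13252 := d19_1 D14161 (iv D13252) (iv F52339)
theorem F55988 : act 6 n14161 = n13258 := d33_1 D14161 (iv D13258) (iv F52341)
def n14162 : Q := act 3 n13253
theorem D14162 : act 3 n13253 = n14162 := rfl
theorem F55989 : act 1 n14162 = n13255 := d9_1 D14162 (iv D13255) (iv F52345)
theorem F55990 : act 2 n14162 = n14162 := d15_1 D14162 (iv D14162) F52346 F48450 (iv F52346)
theorem F55991 : act 4 n14162 = n13889 := d21_2 D13253 D14162 (iv D13889) (iv D12949) (iv F48348)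
def n14163 : Q := act 5 n13253
theorem D14163 : act 5 n13253 = n14163 := rfl
theorem F55992 : act 1 n14163 = n13256 := d11_1 D14163 (iv D13256) (iv F52345)
theorem F55993 : act 2 n14163 = n13276 := d17_1 D14163 (iv D13276) (iv F52346)
theorem F55994 : act 4 n14163 = n13310 := d26_1 D14163 (iv D13310) (iv D12319) (iv F48349) D13253
def n14164 : Q := act 8 n13253
theorem D14164 : act 8 n13253 = n14164 := rfl
theorem F55995 : act 1 n14164 = n13257 := d14_1 D14164 (iv D13257) (iv F52345)
theorem F55996 : act 2 n14164 = n13277 := d20_1 D14164 (iv D13277) (iv F52346)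
theorem F55997 : act 4 n14164 = n13254 := d29_1 D14164 (iv D13254) D13253
def n14165 : Q := act 7 n13254
theorem D14165 : act 7 n13254 = n14165 := rfl
theorem F55998 : act 1 n14165 = n13258 := d13_1 D14165 (iv D13258) (iv F52347)
theorem F55999 : act 2 n14165 = n13278 := d19_1 D14165 (iv D13278) (iv F52348)
theorem F56000 : act 5 n14165 = n13312 := d31_1 D14165 (iv D13312) (iv F52350)
def n14166 : Q := act 5 n13255
theorem D14166 : act 5 n13255 = n14166 := rfl
theorem F56001 : act 2 n14166 = n13261 := d17_1 D14166 (iv D13261) (iv F52351)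
theorem F56002 : act 3 n14166 = n13256 := d22_1 D14166 (iv D13256) D13255
def n14167 : Q := act 7 n13255
theorem D14167 : act 7 n13255 = n14167 := rfl
theorem F56003 : act 0 n14167 = n13847 := d6_1 D14167 (iv F55436) F55432
theorem F56004 : act 2 n14167 = n13262 := d19_1 D14167 (iv D13262) (iv F52351)
theorem F56005 : act 3 n14167 = n13735 := d24_1 D14167 F54151 (iv F51736) F51739 D13255
theorem F56006 : act 4 n14167 = n13894 := d28_1 D14167 (iv D13894) (iv F52352)
theorem F56007 : act 6 n14167 = n13730 := d33_1 D14167 (iv F55389) F55388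
def n14168 : Q := act 8 n13255
theorem D14168 : act 8 n13255 = n14168 := rfl
theorem F56008 : act 2 n14168 = n13263 := d20_1 D14168 (iv D13263) (iv F52351)
theorem F56009 : act 3 n14168 = n13257 := d25_1 D14168 (iv D13257) D13255
theorem F56010 : act 4 n14168 = n13895 := d29_1 D14168 (iv D13895) (iv F52352)
def n14169 : Q := act 8 n13256
theorem D14169 : act 8 n13256 = n14169 := rfl
theorem F56011 : act 2 n14169 = n13259 := d20_1 D14169 (iv D13259) (iv F52353)
theorem F56012 : act 4 n14169 = n13653 := d29_1 D14169 (iv D13653) (iv F52354)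
theorem F56013 : act 5 n14169 = n13257 := d32_1 D14169 (iv D13257) D13256
def n14170 : Q := act 7 n13257
theorem D14170 : act 7 n13257 = n14170 := rfl
theorem F56014 : act 2 n14170 = n13260 := d19_1 D14170 (iv D13260) (iv F52355)
theorem F56015 : act 4 n14170 = n13258 := d28_1 D14170 (iv D13258) (iv F52356)
def n14171 : Q := act 3 n13258
theorem D14171 : act 3 n13258 = n14171 := rfl
theorem F56016 : act 2 n14171 = n13328 := d15_1 D14171 (iv D13328) F48576 (iv F48361) (iv F52357)
theorem F56017 : act 5 n14171 = n13655 := d22_2 (iv F52358) D14171 (iv D13655)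
theorem F56018 : act 7 n14171 = n13899 := d24_2 D13258 D14171 (iv D13899) (iv D12954) (iv F48352)
def n14172 : Q := act 7 n13259
theorem D14172 : act 7 n13259 = n14172 := rfl
theorem F56019 : act 1 n14172 = n13281 := d13_1 D14172 (iv D13281) (iv F52359)
theorem F56020 : act 4 n14172 = n13657 := d28_1 D14172 (iv D13657) (iv F52361)
theorem F56021 : act 5 n14172 = n13260 := d31_1 D14172 (iv D13260) (iv F52362)
def n14173 : Q := act 4 n13261
theorem D14173 : act 4 n13261 = n14173 := rfl
theorem F56022 : act 1 n14173 = n14173 := d10_1 D14173 (iv D14173) F52365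
theorem F56023 : act 3 n14173 = n13266 := d21_1 D14173 (iv D13266) F48390 (iv F48374) (iv F52366)
theorem F56024 : act 5 n14173 = n13911 := d26_2 D13261 D14173 (iv D13911) (iv D12965) (iv F48371)
def n14174 : Q := act 7 n13261
theorem D14174 : act 7 n13261 = n14174 := rfl
theorem F56025 : act 0 n14174 = n13845 := d6_1 D14174 (iv F55290) (iv F55291)
theorem F56026 : act 1 n14174 = n14174 := d13_1 D14174 (iv D14174) F52365
theorem F56027 : act 3 n14174 = n13518 := d24_1 D14174 (iv D13518) F49417 (iv F48375) (iv F52366)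
theorem F56028 : act 5 n14174 = n13262 := d31_1 D14174 (iv D13262) D13261
theorem F56029 : act 6 n14174 = n14039 := d33_1 D14174 F55528 F55314
def n14175 : Q := act 8 n13261
theorem D14175 : act 8 n13261 = n14175 := rfl
theorem F56030 : act 1 n14175 = n14175 := d14_1 D14175 (iv D14175) F52365
theorem F56031 : act 3 n14175 = n13264 := d25_1 D14175 (iv D13264) (iv F52366)
theorem F56032 : act 5 n14175 = n13263 := d32_1 D14175 (iv D13263) D13261
def n14176 : Q := act 8 n13262
theorem D14176 : act 8 n13262 = n14176 := rfl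
theorem F56033 : act 0 n14176 = n13848 := d7_1 D14176 (iv D13848) (iv F52367)
theorem F56034 : act 1 n14176 = n14176 := d14_1 D14176 (iv D14176) F52368
theorem F56035 : act 3 n14176 = n13519 := d25_1 D14176 (iv D13519) (iv F52369)
theorem F56036 : act 4 n14176 = n13915 := d29_1 D14176 (iv D13915) (iv F52370)
theorem F56037 : act 6 n14176 = n13732 := d34_1 D14176 (iv D13732) (iv F52371)
def n14177 : Q := act 7 n13263
theorem D14177 : act 7 n13263 = n14177 := rfl
theorem F56038 : act 1 n14177 = n14177 := d13_1 D14177 (iv D14177) F52372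
theorem F56039 : act 4 n14177 = n13916 := d28_1 D14177 (iv D13916) (iv F52374)
def n14178 : Q := act 4 n13265
theorem D14178 : act 4 n13265 = n14178 := rfl
theorem F56040 : act 0 n14178 = n13521 := d3_1 D14178 F53376 (iv F52379)
theorem F56041 : act 1 n14178 = n14178 := d10_1 D14178 (iv D14178) F52380
theorem F56042 : act 2 n14178 = n13350 := d16_1 D14178 (iv D13350) (iv F52381)
theorem F56043 : act 5 n14178 = n14107 := d26_2 (iv F52382) D14178 (iv D14107) F52047 (iv F48418)
theorem F56044 : act 6 n14178 = n13491 := d27_2 (iv F52383) D14178 F53218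
theorem F56045 : act 7 n14178 = n13920 := d28_2 (iv F52384) D14178 (iv D13920)
theorem F56046 : act 8 n14178 = n13488 := d29_2 (iv F52385) D14178 (iv D13488)
def n14179 : Q := act 6 n13266
theorem D14179 : act 6 n13266 = n14179 := rfl
theorem F56047 : act 0 n14179 = n13547 := d5_1 D14179 (iv F55459) F55455
theorem F56048 : act 1 n14179 = n14179 := d12_1 D14179 (iv D14179) F52386
theorem F56049 : act 2 n14179 = n13542 := d18_1 D14179 F53462 (iv F52387)
theorem F56050 : act 4 n14179 = n13267 := d27_1 D14179 (iv D13267) D13266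
theorem F56051 : act 5 n14179 = n13507 := d30_1 D14179 F53299 (iv F53444) F53445 (iv F52388)
theorem F56052 : act 7 n13505 = n14179 := d38_0 (iv D14179) F52388 (iv D12975) F47065 F43139 F39758 F31558 D10088 F39830 (iv F43242) (iv F47214) (iv F51340) (iv F55108) F55112 (iv F55015) (iv D13932) (iv D12990) F47134 (iv F47504) (iv D12060) F43483 (iv F43496) F43495 F41138 F35396 F35395 F26146 D6839 F26195 F19401 (iv F24391) D8695 (iv F40956) (iv F44477) (iv D11290) (iv F43081) (iv D10937) F39717 F39716 (iv F32494) F32493 D8539 F32540 F24033 F22049 D5691 F22055 (iv F22379) F22381 F38557 F24752 D8837 F33526 (iv F33546) (iv F40914) F40916 (iv F41799) D11555 F45470 (iv F49507) (iv F53289) F53288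
def n14180 : Q := act 7 n13266
theorem D14180 : act 7 n13266 = n14180 := rfl
theorem F56053 : act 0 n14180 = n13545 := d6_1 D14180 (iv F55460) F55455
theorem F56054 : act 1 n14180 = n14180 := d13_1 D14180 (iv D14180) F52386
theorem F56055 : act 2 n14180 = n13541 := d19_1 D14180 (iv F53458) (iv F52387)
theorem F56056 : act 4 n14180 = n13268 := d28_1 D14180 (iv D13268) D13266
theorem F56057 : act 5 n14180 = n13537 := d31_1 D14180 (iv F53440) (iv F52388)
theorem F56058 : act 6 n14180 = n13505 := d33_1 D14180 F56052 (iv D14179)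
theorem F56059 : act 3 n13508 = n14180 := d23_3 F56058 F53290 (iv F53305)
theorem F56060 : act 8 n13503 = n14180 := d34_0 F56058 (iv D13505) D13503
def n14181 : Q := act 8 n13266
theorem D14181 : act 8 n13266 = n14181 := rfl
theorem F56061 : act 1 n14181 = n14181 := d14_1 D14181 (iv D14181) F52386
theorem F56062 : act 2 n14181 = n13672 := d20_1 D14181 (iv D13672) (iv F52387)
theorem F56063 : act 4 n14181 = n13269 := d29_1 D14181 (iv D13269) D13266
theorem F56064 : act 5 n14181 = n13924 := d32_1 D14181 (iv D13924) (iv F52388)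
theorem F56065 : act 7 n14181 = n14111 := d35_1 D14181 (iv D14111) F53281 F56060 (iv D14180)
def n14182 : Q := act 7 n13267
theorem D14182 : act 7 n13267 = n14182 := rfl
theorem F56066 : act 0 n14182 = n13544 := d6_1 D14182 (iv F55361) F55355
theorem F56067 : act 1 n14182 = n14182 := d13_1 D14182 (iv D14182) F52389
theorem F56068 : act 2 n14182 = n13540 := d19_1 D14182 F53453 (iv F52390)
theorem F56069 : act 3 n14182 = n13513 := d24_1 D14182 (iv F53331) F49430 (iv F48406) (iv F52391)
theorem F56070 : act 4 n14182 = n13505 := d28_1 D14182 F56052 F56050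
theorem F56071 : act 5 n14182 = n14182 := d31_1 D14182 (iv D14182) F52392
theorem F56072 : act 6 n14182 = n13268 := d33_1 D14182 (iv D13268) D13267
theorem F56073 : act 8 n13502 = n14182 := d34_0 F56072 (iv F52397) (iv F53276)
def n14183 : Q := act 8 n13267
theorem D14183 : act 8 n13267 = n14183 := rfl
theorem F56074 : act 1 n14183 = n14183 := d14_1 D14183 (iv D14183) F52389
theorem F56075 : act 2 n14183 = n13673 := d20_1 D14183 (iv D13673) (iv F52390)
theorem F56076 : act 3 n14183 = n13270 := d25_1 D14183 (iv D13270) (iv F52391)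
theorem F56077 : act 5 n14183 = n14183 := d32_1 D14183 (iv D14183) F52392
theorem F56078 : act 6 n14183 = n13269 := d34_1 D14183 (iv D13269) D13267
theorem F56079 : act 7 n14183 = n14112 := d35_1 D14183 (iv D14112) F53275 F56073 (iv D14182)
def n14184 : Q := act 7 n13270
theorem D14184 : act 7 n13270 = n14184 := rfl
theorem F56080 : act 1 n14184 = n14184 := d13_1 D14184 (iv D14184) F52403
theorem F56081 : act 2 n14184 = n13272 := d19_1 D14184 (iv D13272) (iv F52404)
theorem F56082 : act 3 n14184 = n14113 := d24_1 D14184 (iv D14113) (iv F55801) (iv F56079) F56076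
theorem F56083 : act 5 n14184 = n14184 := d31_1 D14184 (iv D14184) F52405
theorem F56084 : act 6 n14184 = n13271 := d33_1 D14184 (iv D13271) (iv F52406)
theorem F56085 : act 8 n14184 = n13520 := d35_2 D13270 D14184 (iv D13520) (iv D12547) (iv F48406)
def n14185 : Q := act 7 n13274
theorem D14185 : act 7 n13274 = n14185 := rfl
theorem F56086 : act 1 n14185 = n13275 := d13_1 D14185 (iv D13275) (iv F52421)
theorem F56087 : act 5 n14185 = n13298 := d31_1 D14185 (iv D13298) (iv F52423)
theorem F56088 : act 8 n14185 = n13278 := d35_2 D13274 D14185 (iv D13278) (iv D12288) (iv F48437)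
def n14186 : Q := act 8 n13276
theorem D14186 : act 8 n13276 = n14186 := rfl
theorem F56089 : act 1 n14186 = n13279 := d14_1 D14186 (iv D13279) (iv F52428)
theorem F56090 : act 3 n14186 = n14186 := d25_1 D14186 (iv D14186) F52429
theorem F56091 : act 4 n14186 = n13314 := d29_1 D14186 (iv D13314) (iv F52430)
theorem F56092 : act 5 n14186 = n13277 := d32_1 D14186 (iv D13277) D13276
def n14187 : Q := act 7 n13277
theorem D14187 : act 7 n13277 = n14187 := rfl
theorem F56093 : act 1 n14187 = n13280 := d13_1 D14187 (iv D13280) (iv F52431)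
theorem F56094 : act 4 n14187 = n13278 := d28_1 D14187 (iv D13278) (iv F52433)
def n14188 : Q := act 7 n13279
theorem D14188 : act 7 n13279 = n14188 := rfl
theorem F56095 : act 0 n14188 = n13282 := d6_1 D14188 (iv D13282) (iv F52436)
theorem F56096 : act 2 n14188 = n13281 := d19_1 D14188 (iv D13281) (iv F52437)
theorem F56097 : act 4 n14188 = n13371 := d28_1 D14188 (iv D13371) (iv F52439)
theorem F56098 : act 5 n14188 = n13280 := d31_1 D14188 (iv D13280) (iv F52440)
def n14189 : Q := act 3 n13280
theorem D14189 : act 3 n13280 = n14189 := rfl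
theorem F56099 : act 0 n14189 = n13283 := d2_1 D14189 (iv D13283) (iv F52441)
theorem F56100 : act 7 n14189 = n14189 := d24_2 D13280 D14189 (iv D14189) (iv D13280) F48460
def n14190 : Q := act 3 n13282
theorem D14190 : act 3 n13282 = n14190 := rfl
theorem F56101 : act 5 n14190 = n13283 := d22_2 (iv F52449) D14190 (iv D13283)
theorem F56102 : act 7 n14190 = n14190 := d24_2 D13282 D14190 (iv D14190) (iv D13282) F48491
def n14191 : Q := act 8 n13284
theorem D14191 : act 8 n13284 = n14191 := rfl
theorem F56103 : act 1 n14191 = n13402 := d14_1 D14191 (iv D13402) (iv F52451)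
theorem F56104 : act 3 n14191 = n13285 := d25_1 D14191 (iv D13285) D13284
theorem F56105 : act 5 n14191 = n13288 := d32_1 D14191 (iv D13288) (iv F52452)
def n14192 : Q := act 4 n13286
theorem D14192 : act 4 n13286 = n14192 := rfl
theorem F56106 : act 1 n14192 = n13638 := d10_1 D14192 (iv D13638) (iv F52457)
theorem F56107 : act 2 n14192 = n13287 := d16_1 D14192 (iv D13287) D13286
theorem F56108 : act 6 n14192 = n13290 := d27_2 (iv F52459) D14192 (iv D13290)
def n14193 : Q := act 8 n13286
theorem D14193 : act 8 n13286 = n14193 := rfl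
theorem F56109 : act 1 n14193 = n13639 := d14_1 D14193 (iv D13639) (iv F52457)
theorem F56110 : act 2 n14193 = n13288 := d20_1 D14193 (iv D13288) D13286
theorem F56111 : act 3 n14193 = n13296 := d25_1 D14193 (iv D13296) (iv F52458)
theorem F56112 : act 6 n14193 = n13291 := d34_1 D14193 (iv D13291) (iv F52459)
def n14194 : Q := act 8 n13287
theorem D14194 : act 8 n13287 = n14194 := rfl
theorem F56113 : act 1 n14194 = n13405 := d14_1 D14194 (iv D13405) (iv F52460)
theorem F56114 : act 3 n14194 = n13521 := d25_1 D14194 (iv D13521) (iv F52461)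
theorem F56115 : act 4 n14194 = n13288 := d29_1 D14194 (iv D13288) D13287
theorem F56116 : act 6 n14194 = n13293 := d34_1 D14194 (iv D13293) (iv F52462)
def n14195 : Q := act 7 n13288
theorem D14195 : act 7 n13288 = n14195 := rfl
theorem F56117 : act 1 n14195 = n13406 := d13_1 D14195 (iv D13406) (iv F52463)
theorem F56118 : act 6 n14195 = n13294 := d33_1 D14195 (iv D13294) (iv F52465)
def n14196 : Q := act 0 n13289
theorem D14196 : act 0 n13289 = n14196 := rfl
theorem F56119 : act 2 n14196 = n13407 := d1_2 (iv F52466) D14196 (iv D13407)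
theorem F56120 : act 3 n14196 = n13299 := d2_2 (iv F52467) D14196 (iv D13299)
theorem F56121 : act 6 n14196 = n13583 := d5_2 (iv F52468) D14196 F53623
theorem F56122 : act 7 n14196 = n14041 := d6_2 (iv F52469) D14196 F55535
def n14197 : Q := act 4 n13289
theorem D14197 : act 4 n13289 = n14197 := rfl
theorem F56123 : act 1 n14197 = n13290 := d10_1 D14197 (iv D13290) D13289
theorem F56124 : act 2 n14197 = n13408 := d16_1 D14197 (iv D13408) (iv F52466)
theorem F56125 : act 6 n14197 = n13638 := d27_2 (iv F52468) D14197 (iv D13638)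
theorem F56126 : act 7 n14197 = n14192 := d28_2 (iv F52469) D14197 (iv D14192)
def n14198 : Q := act 8 n13289
theorem D14198 : act 8 n13289 = n14198 := rfl
theorem F56127 : act 1 n14198 = n13291 := d14_1 D14198 (iv D13291) D13289
theorem F56128 : act 2 n14198 = n13409 := d20_1 D14198 (iv D13409) (iv F52466)
theorem F56129 : act 3 n14198 = n13301 := d25_1 D14198 (iv D13301) (iv F52467)
theorem F56130 : act 6 n14198 = n13639 := d34_1 D14198 (iv D13639) (iv F52468)
def n14199 : Q := act 3 n13290
theorem D14199 : act 3 n13290 = n14199 := rfl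
theorem F56131 : act 2 n14199 = n13523 := d15_1 D14199 (iv D13523) F49469 (iv F48514) (iv F52470)
theorem F56132 : act 4 n14199 = n13302 := d21_2 D13290 D14199 (iv D13302) (iv D12314) (iv F48512)
def n14200 : Q := act 5 n13290
theorem D14200 : act 5 n13290 = n14200 := rfl
theorem F56133 : act 2 n14200 = n13292 := d17_1 D14200 (iv D13292) (iv F52470)
def n14201 : Q := act 8 n13290
theorem D14201 : act 8 n13290 = n14201 := rfl
theorem F56134 : act 2 n14201 = n13293 := d20_1 D14201 (iv D13293) (iv F52470)
theorem F56135 : act 4 n14201 = n13291 := d29_1 D14201 (iv D13291) D13290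
def n14202 : Q := act 7 n13291
theorem D14202 : act 7 n13291 = n14202 := rfl
theorem F56136 : act 2 n14202 = n13294 := d19_1 D14202 (iv D13294) (iv F52471)
def n14203 : Q := act 6 n13292
theorem D14203 : act 6 n13292 = n14203 := rfl
theorem F56137 : act 1 n14203 = n13413 := d12_1 D14203 (iv D13413) (iv F52473)
theorem F56138 : act 3 n14203 = n13527 := d23_1 D14203 (iv D13527) (iv F52474)
def n14204 : Q := act 8 n13292
theorem D14204 : act 8 n13292 = n14204 := rfl
theorem F56139 : act 1 n14204 = n13414 := d14_1 D14204 (iv D13414) (iv F52473)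
theorem F56140 : act 3 n14204 = n13528 := d25_1 D14204 (iv D13528) (iv F52474)
theorem F56141 : act 5 n14204 = n13293 := d32_1 D14204 (iv D13293) D13292
def n14205 : Q := act 7 n13293
theorem D14205 : act 7 n13293 = n14205 := rfl
theorem F56142 : act 1 n14205 = n13415 := d13_1 D14205 (iv D13415) (iv F52475)
theorem F56143 : act 4 n14205 = n13294 := d28_1 D14205 (iv D13294) (iv F52477)
def n14206 : Q := act 3 n13295
theorem D14206 : act 3 n13295 = n14206 := rfl
theorem F56144 : act 0 n14206 = n13552 := d2_1 D14206 F53493 (iv F52479)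
theorem F56145 : act 1 n14206 = n13643 := d9_1 D14206 (iv D13643) (iv F52480)
theorem F56146 : act 2 n14206 = n13510 := d15_1 D14206 (iv D13510) F49336 (iv F48528) (iv F52481)
theorem F56147 : act 6 n14206 = n13302 := d23_2 (iv F52482) D14206 (iv D13302)
def n14207 : Q := act 5 n13295
theorem D14207 : act 5 n13295 = n14207 := rfl
theorem F56148 : act 0 n14207 = n13554 := d4_1 D14207 F53497 (iv F52479)
theorem F56149 : act 1 n14207 = n13644 := d11_1 D14207 (iv D13644) (iv F52480)
theorem F56150 : act 2 n14207 = n13297 := d17_1 D14207 (iv D13297) (iv F52481)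
theorem F56151 : act 7 n14207 = n13310 := d31_2 (iv F52483) D14207 (iv D13310)
def n14208 : Q := act 7 n13296
theorem D14208 : act 7 n13296 = n14208 := rfl
theorem F56152 : act 1 n14208 = n13646 := d13_1 D14208 (iv D13646) (iv F52484)
theorem F56153 : act 2 n14208 = n13298 := d19_1 D14208 (iv D13298) (iv F52485)
theorem F56154 : act 6 n14208 = n13305 := d33_1 D14208 (iv D13305) (iv F52486)
theorem F56155 : act 8 n14208 = n13312 := d35_2 D13296 D14208 (iv D13312) (iv D12320) (iv F48525)
def n14209 : Q := act 4 n13299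
theorem D14209 : act 4 n13299 = n14209 := rfl
theorem F56156 : act 0 n14209 = n13300 := d3_1 D14209 (iv D13300) D13299
theorem F56157 : act 2 n14209 = n13361 := d16_1 D14209 (iv D13361) (iv F52494)
theorem F56158 : act 6 n14209 = n13587 := d27_2 (iv F52495) D14209 (iv D13587)
theorem F56159 : act 7 n14209 = n13316 := d28_2 (iv F52496) D14209 (iv D13316)
def n14210 : Q := act 8 n13299
theorem D14210 : act 8 n13299 = n14210 := rfl
theorem F56160 : act 0 n14210 = n13301 := d7_1 D14210 (iv D13301) D13299
theorem F56161 : act 2 n14210 = n13362 := d20_1 D14210 (iv D13362) (iv F52494)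
theorem F56162 : act 6 n14210 = n13588 := d34_1 D14210 (iv D13588) (iv F52495)
def n14211 : Q := act 3 n13300
theorem D14211 : act 3 n13300 = n14211 := rfl
theorem F56163 : act 1 n14211 = n13302 := d9_1 D14211 (iv D13302) (iv F52497)
theorem F56164 : act 2 n14211 = n14211 := d15_1 D14211 (iv D14211) F52498 F48709 (iv F52498)
theorem F56165 : act 6 n14211 = n13643 := d23_2 (iv F52499) D14211 (iv D13643)
def n14212 : Q := act 5 n13300
theorem D14212 : act 5 n13300 = n14212 := rfl
theorem F56166 : act 1 n14212 = n13303 := d11_1 D14212 (iv D13303) (iv F52497)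
theorem F56167 : act 2 n14212 = n13363 := d17_1 D14212 (iv D13363) (iv F52498)
theorem F56168 : act 7 n14212 = n13319 := d31_2 (iv F52500) D14212 (iv D13319)
def n14213 : Q := act 8 n13300
theorem D14213 : act 8 n13300 = n14213 := rfl
theorem F56169 : act 1 n14213 = n13304 := d14_1 D14213 (iv D13304) (iv F52497)
theorem F56170 : act 2 n14213 = n13364 := d20_1 D14213 (iv D13364) (iv F52498)
theorem F56171 : act 4 n14213 = n13301 := d29_1 D14213 (iv D13301) D13300
theorem F56172 : act 6 n14213 = n13645 := d34_1 D14213 (iv D13645) (iv F52499)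
def n14214 : Q := act 7 n13301
theorem D14214 : act 7 n13301 = n14214 := rfl
theorem F56173 : act 1 n14214 = n13305 := d13_1 D14214 (iv D13305) (iv F52501)
theorem F56174 : act 2 n14214 = n13365 := d19_1 D14214 (iv D13365) (iv F52502)
theorem F56175 : act 6 n14214 = n13646 := d33_1 D14214 (iv D13646) (iv F52503)
theorem F56176 : act 8 n14214 = n13321 := d35_2 D13301 D14214 (iv D13321) (iv D12326) (iv F48536)
def n14215 : Q := act 5 n13302
theorem D14215 : act 5 n13302 = n14215 := rfl
theorem F56177 : act 2 n14215 = n13530 := d17_1 D14215 (iv D13530) (iv F52504)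
theorem F56178 : act 3 n14215 = n13303 := d22_1 D14215 (iv D13303) D13302
def n14216 : Q := act 7 n13302
theorem D14216 : act 7 n13302 = n14216 := rfl
theorem F56179 : act 2 n14216 = n13531 := d19_1 D14216 (iv D13531) (iv F52504)
theorem F56180 : act 3 n14216 = n13323 := d24_1 D14216 (iv D13323) (iv D12327) (iv F48538) D13302
def n14217 : Q := act 8 n13302
theorem D14217 : act 8 n13302 = n14217 := rfl
theorem F56181 : act 2 n14217 = n13532 := d20_1 D14217 (iv D13532) (iv F52504)
theorem F56182 : act 3 n14217 = n13304 := d25_1 D14217 (iv D13304) D13302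
def n14218 : Q := act 6 n13303
theorem D14218 : act 6 n13303 = n14218 := rfl
theorem F56183 : act 2 n14218 = n13306 := d18_1 D14218 (iv D13306) (iv F52505)
theorem F56184 : act 7 n14218 = n13325 := d33_2 (iv F52506) D14218 (iv D13325)
def n14219 : Q := act 8 n13303
theorem D14219 : act 8 n13303 = n14219 := rfl
theorem F56185 : act 2 n14219 = n13307 := d20_1 D14219 (iv D13307) (iv F52505)
theorem F56186 : act 5 n14219 = n13304 := d32_1 D14219 (iv D13304) D13303
def n14220 : Q := act 7 n13304
theorem D14220 : act 7 n13304 = n14220 := rfl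
theorem F56187 : act 2 n14220 = n13308 := d19_1 D14220 (iv D13308) (iv F52507)
theorem F56188 : act 4 n14220 = n13305 := d28_1 D14220 (iv D13305) (iv F52508)
theorem F56189 : act 8 n14220 = n13327 := d35_2 D13304 D14220 (iv D13327) (iv D12329) (iv F48538)
def n14221 : Q := act 3 n13305
theorem D14221 : act 3 n13305 = n14221 := rfl
theorem F56190 : act 8 n14221 = n13328 := d25_2 (iv F52510) D14221 (iv D13328)
def n14222 : Q := act 8 n13306
theorem D14222 : act 8 n13306 = n14222 := rfl
theorem F56191 : act 1 n14222 = n13368 := d14_1 D14222 (iv D13368) (iv F52511)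
theorem F56192 : act 3 n14222 = n13535 := d25_1 D14222 (iv D13535) (iv F52512)
theorem F56193 : act 6 n14222 = n13307 := d34_1 D14222 (iv D13307) D13306
def n14223 : Q := act 7 n13307
theorem D14223 : act 7 n13307 = n14223 := rfl
theorem F56194 : act 1 n14223 = n13369 := d13_1 D14223 (iv D13369) (iv F52514)
theorem F56195 : act 5 n14223 = n13308 := d31_1 D14223 (iv D13308) (iv F52516)
theorem F56196 : act 8 n14223 = n13330 := d35_2 D13307 D14223 (iv D13330) (iv D12332) (iv F48542)
def n14224 : Q := act 5 n13309
theorem D14224 : act 5 n13309 = n14224 := rfl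
theorem F56197 : act 1 n14224 = n13649 := d11_1 D14224 (iv D13649) (iv F52520)
theorem F56198 : act 2 n14224 = n13332 := d17_1 D14224 (iv D13332) (iv F52521)
theorem F56199 : act 3 n14224 = n13310 := d22_1 D14224 (iv D13310) D13309
def n14225 : Q := act 7 n13309
theorem D14225 : act 7 n13309 = n14225 := rfl
theorem F56200 : act 1 n14225 = n13650 := d13_1 D14225 (iv D13650) (iv F52520)
theorem F56201 : act 2 n14225 = n13333 := d19_1 D14225 (iv D13333) (iv F52521)
theorem F56202 : act 6 n14225 = n13323 := d33_1 D14225 (iv D13323) (iv F52522)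
def n14226 : Q := act 8 n13309
theorem D14226 : act 8 n13309 = n14226 := rfl
theorem F56203 : act 1 n14226 = n13651 := d14_1 D14226 (iv D13651) (iv F52520)
theorem F56204 : act 2 n14226 = n13334 := d20_1 D14226 (iv D13334) (iv F52521)
theorem F56205 : act 3 n14226 = n13311 := d25_1 D14226 (iv D13311) D13309
theorem F56206 : act 6 n14226 = n13324 := d34_1 D14226 (iv D13324) (iv F52522)
def n14227 : Q := act 6 n13310
theorem D14227 : act 6 n13310 = n14227 := rfl
theorem F56207 : act 1 n14227 = n13652 := d12_1 D14227 (iv D13652) (iv F52523)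
theorem F56208 : act 2 n14227 = n13313 := d18_1 D14227 (iv D13313) (iv F52524)
theorem F56209 : act 5 n14227 = n13325 := d30_1 D14227 (iv D13325) (iv D12328) (iv F48550) D13310
def n14228 : Q := act 8 n13310
theorem D14228 : act 8 n13310 = n14228 := rfl
theorem F56210 : act 1 n14228 = n13653 := d14_1 D14228 (iv D13653) (iv F52523)
theorem F56211 : act 2 n14228 = n13314 := d20_1 D14228 (iv D13314) (iv F52524)
theorem F56212 : act 5 n14228 = n13311 := d32_1 D14228 (iv D13311) D13310
def n14229 : Q := act 7 n13311
theorem D14229 : act 7 n13311 = n14229 := rfl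
theorem F56213 : act 1 n14229 = n13654 := d13_1 D14229 (iv D13654) (iv F52525)
theorem F56214 : act 2 n14229 = n13315 := d19_1 D14229 (iv D13315) (iv F52526)
theorem F56215 : act 4 n14229 = n13312 := d28_1 D14229 (iv D13312) (iv F52527)
theorem F56216 : act 6 n14229 = n13327 := d33_1 D14229 (iv D13327) (iv F52528)
def n14230 : Q := act 3 n13312
theorem D14230 : act 3 n13312 = n14230 := rfl
theorem F56217 : act 1 n14230 = n13655 := d9_1 D14230 (iv D13655) (iv F52529)
theorem F56218 : act 6 n14230 = n13328 := d23_2 (iv F52531) D14230 (iv D13328)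
def n14231 : Q := act 8 n13313
theorem D14231 : act 8 n13313 = n14231 := rfl
theorem F56219 : act 1 n14231 = n13370 := d14_1 D14231 (iv D13370) (iv F52532)
theorem F56220 : act 3 n14231 = n13339 := d25_1 D14231 (iv D13339) (iv F52533)
theorem F56221 : act 5 n14231 = n13329 := d32_1 D14231 (iv D13329) (iv F52534)
theorem F56222 : act 6 n14231 = n13314 := d34_1 D14231 (iv D13314) D13313
def n14232 : Q := act 7 n13314
theorem D14232 : act 7 n13314 = n14232 := rfl
theorem F56223 : act 1 n14232 = n13371 := d13_1 D14232 (iv D13371) (iv F52535)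
theorem F56224 : act 5 n14232 = n13315 := d31_1 D14232 (iv D13315) (iv F52537)
def n14233 : Q := act 3 n13316
theorem D14233 : act 3 n13316 = n14233 := rfl
theorem F56225 : act 0 n14233 = n13318 := d2_1 D14233 (iv D13318) (iv F52541)
theorem F56226 : act 2 n14233 = n13417 := d15_1 D14233 (iv D13417) F48942 (iv F48751) (iv F52542)
theorem F56227 : act 4 n14233 = n14070 := d21_2 D13316 D14233 (iv D14070) (iv D13147) (iv F48563)
theorem F56228 : act 6 n14233 = n13593 := d23_2 (iv F52543) D14233 (iv D13593)
def n14234 : Q := act 5 n13316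
theorem D14234 : act 5 n13316 = n14234 := rfl
theorem F56229 : act 0 n14234 = n13319 := d4_1 D14234 (iv D13319) (iv F52541)
theorem F56230 : act 2 n14234 = n13372 := d17_1 D14234 (iv D13372) (iv F52542)
def n14235 : Q := act 8 n13316
theorem D14235 : act 8 n13316 = n14235 := rfl
theorem F56231 : act 0 n14235 = n13320 := d7_1 D14235 (iv D13320) (iv F52541)
theorem F56232 : act 2 n14235 = n13373 := d20_1 D14235 (iv D13373) (iv F52542)
theorem F56233 : act 4 n14235 = n13317 := d29_1 D14235 (iv D13317) D13316
theorem F56234 : act 6 n14235 = n13595 := d34_1 D14235 (iv D13595) (iv F52543)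
def n14236 : Q := act 7 n13317
theorem D14236 : act 7 n13317 = n14236 := rfl
theorem F56235 : act 0 n14236 = n13321 := d6_1 D14236 (iv D13321) (iv F52544)
theorem F56236 : act 2 n14236 = n13374 := d19_1 D14236 (iv D13374) (iv F52545)
theorem F56237 : act 6 n14236 = n13596 := d33_1 D14236 (iv D13596) (iv F52547)
def n14237 : Q := act 5 n13318
theorem D14237 : act 5 n13318 = n14237 := rfl
theorem F56238 : act 1 n14237 = n13322 := d11_1 D14237 (iv D13322) (iv F52548)
theorem F56239 : act 2 n14237 = n13421 := d17_1 D14237 (iv D13421) (iv F52549)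
theorem F56240 : act 3 n14237 = n13319 := d22_1 D14237 (iv D13319) D13318
def n14238 : Q := act 7 n13318
theorem D14238 : act 7 n13318 = n14238 := rfl
theorem F56241 : act 1 n14238 = n13323 := d13_1 D14238 (iv D13323) (iv F52548)
theorem F56242 : act 2 n14238 = n13422 := d19_1 D14238 (iv D13422) (iv F52549)
theorem F56243 : act 4 n14238 = n14225 := d28_1 D14238 (iv D14225) (iv F52550)
theorem F56244 : act 6 n14238 = n13650 := d33_1 D14238 (iv D13650) (iv F52551)
def n14239 : Q := act 8 n13318
theorem D14239 : act 8 n13318 = n14239 := rfl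
theorem F56245 : act 1 n14239 = n13324 := d14_1 D14239 (iv D13324) (iv F52548)
theorem F56246 : act 2 n14239 = n13423 := d20_1 D14239 (iv D13423) (iv F52549)
theorem F56247 : act 3 n14239 = n13320 := d25_1 D14239 (iv D13320) D13318
theorem F56248 : act 4 n14239 = n14226 := d29_1 D14239 (iv D14226) (iv F52550)
theorem F56249 : act 6 n14239 = n13651 := d34_1 D14239 (iv D13651) (iv F52551)
def n14240 : Q := act 6 n13319
theorem D14240 : act 6 n13319 = n14240 := rfl
theorem F56250 : act 1 n14240 = n13325 := d12_1 D14240 (iv D13325) (iv F52552)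
theorem F56251 : act 2 n14240 = n13375 := d18_1 D14240 (iv D13375) (iv F52553)
theorem F56252 : act 5 n14240 = n13652 := d30_1 D14240 (iv D13652) (iv D12694) (iv F48567) D13319
def n14241 : Q := act 8 n13319
theorem D14241 : act 8 n13319 = n14241 := rfl
theorem F56253 : act 1 n14241 = n13326 := d14_1 D14241 (iv D13326) (iv F52552)
theorem F56254 : act 2 n14241 = n13376 := d20_1 D14241 (iv D13376) (iv F52553)
theorem F56255 : act 5 n14241 = n13320 := d32_1 D14241 (iv D13320) D13319
def n14242 : Q := act 7 n13320
theorem D14242 : act 7 n13320 = n14242 := rfl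
theorem F56256 : act 1 n14242 = n13327 := d13_1 D14242 (iv D13327) (iv F52554)
theorem F56257 : act 2 n14242 = n13377 := d19_1 D14242 (iv D13377) (iv F52555)
theorem F56258 : act 4 n14242 = n13321 := d28_1 D14242 (iv D13321) (iv F52556)
theorem F56259 : act 6 n14242 = n13654 := d33_1 D14242 (iv D13654) (iv F52557)
def n14243 : Q := act 3 n13321
theorem D14243 : act 3 n13321 = n14243 := rfl
theorem F56260 : act 1 n14243 = n13328 := d9_1 D14243 (iv D13328) (iv F52558)
theorem F56261 : act 6 n14243 = n13655 := d23_2 (iv F52560) D14243 (iv D13655)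
theorem F56262 : act 7 n14243 = n14230 := d24_2 D13321 D14243 (iv D14230) (iv D13312) (iv F48570)
def n14244 : Q := act 4 n13322
theorem D14244 : act 4 n13322 = n14244 := rfl
theorem F56263 : act 2 n14244 = n13341 := d16_1 D14244 (iv D13341) (iv F52561)
def n14245 : Q := act 6 n13322
theorem D14245 : act 6 n13322 = n14245 := rfl
theorem F56264 : act 2 n14245 = n13342 := d18_1 D14245 (iv D13342) (iv F52561)
theorem F56265 : act 3 n14245 = n13325 := d23_1 D14245 (iv D13325) (iv F52562)
theorem F56266 : act 7 n14244 = n14245 := d19_0 F56264 (iv F52620) (iv F56263)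
def n14246 : Q := act 7 n13322
theorem D14246 : act 7 n13322 = n14246 := rfl
theorem F56267 : act 2 n14246 = n13343 := d19_1 D14246 (iv D13343) (iv F52561)
theorem F56268 : act 4 n14246 = n14245 := d28_1 D14246 (iv F56266) (iv D14244)
theorem F56269 : act 5 n14246 = n13323 := d31_1 D14246 (iv D13323) D13322
theorem F56270 : act 6 n14246 = n14244 := d33_1 D14246 F56266 (iv D14245)
def n14247 : Q := act 8 n13322
theorem D14247 : act 8 n13322 = n14247 := rfl
theorem F56271 : act 2 n14247 = n13344 := d20_1 D14247 (iv D13344) (iv F52561)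
theorem F56272 : act 3 n14247 = n13326 := d25_1 D14247 (iv D13326) (iv F52562)
theorem F56273 : act 5 n14247 = n13324 := d32_1 D14247 (iv D13324) D13322
def n14248 : Q := act 8 n13323
theorem D14248 : act 8 n13323 = n14248 := rfl
theorem F56274 : act 2 n14248 = n13345 := d20_1 D14248 (iv D13345) (iv F52563)
def n14249 : Q := act 7 n13324
theorem D14249 : act 7 n13324 = n14249 := rfl
theorem F56275 : act 2 n14249 = n13346 := d19_1 D14249 (iv D13346) (iv F52564)
def n14250 : Q := act 8 n13325
theorem D14250 : act 8 n13325 = n14250 := rfl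
theorem F56276 : act 2 n14250 = n13329 := d20_1 D14250 (iv D13329) (iv F52566)
theorem F56277 : act 6 n14250 = n13326 := d34_1 D14250 (iv D13326) D13325
def n14251 : Q := act 7 n13326
theorem D14251 : act 7 n13326 = n14251 := rfl
theorem F56278 : act 2 n14251 = n13330 := d19_1 D14251 (iv D13330) (iv F52567)
theorem F56279 : act 5 n14251 = n13327 := d31_1 D14251 (iv D13327) (iv F52568)
def n14252 : Q := act 3 n13327
theorem D14252 : act 3 n13327 = n14252 := rfl
def n14253 : Q := act 4 n13328
theorem D14253 : act 4 n13328 = n14253 := rfl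
def n14254 : Q := act 7 n13329
theorem D14254 : act 7 n13329 = n14254 := rfl
theorem F56280 : act 1 n14254 = n13381 := d13_1 D14254 (iv D13381) (iv F52571)
theorem F56281 : act 6 n14254 = n13330 := d33_1 D14254 (iv D13330) (iv F52573)
def n14255 : Q := act 3 n13330
theorem D14255 : act 3 n13330 = n14255 := rfl
theorem F56282 : act 1 n14255 = n13382 := d9_1 D14255 (iv D13382) (iv F52574)
theorem F56283 : act 5 n14255 = n13331 := d22_2 (iv F52575) D14255 (iv D13331)
theorem F56284 : act 7 n14255 = n13352 := d24_2 D13330 D14255 (iv D13352) (iv D12349) (iv F48580)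
def n14256 : Q := act 2 n13331
theorem D14256 : act 2 n13331 = n14256 := rfl
theorem F56285 : act 7 n14256 = n13353 := d19_2 (iv F52577) D14256 (iv D13353)
def n14257 : Q := act 4 n13332
theorem D14257 : act 4 n13332 = n14257 := rfl
theorem F56286 : act 1 n14257 = n13441 := d10_1 D14257 (iv D13441) (iv F52578)
theorem F56287 : act 3 n14257 = n14257 := d21_1 D14257 (iv D14257) F52579 F48588 (iv F52579)
theorem F56288 : act 6 n13661 = n14257 := d12_0 F56286 (iv F52992) (iv F53858)
theorem F56289 : act 7 n13660 = n14257 := d13_0 F56286 (iv F52993) (iv F53856)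
def n14258 : Q := act 6 n13332
theorem D14258 : act 6 n13332 = n14258 := rfl
theorem F56290 : act 1 n14258 = n13442 := d12_1 D14258 (iv D13442) (iv F52578)
theorem F56291 : act 3 n14258 = n13335 := d23_1 D14258 (iv D13335) (iv F52579)
theorem F56292 : act 4 n14258 = n13661 := d27_1 D14258 F56288 (iv D14257)
theorem F56293 : act 5 n14258 = n13342 := d30_1 D14258 (iv D13342) (iv D12341) (iv F48585) D13332
theorem F56294 : act 7 n13659 = n14258 := d31_0 F56293 (iv F52620) (iv F53855)
def n14259 : Q := act 7 n13332
theorem D14259 : act 7 n13332 = n14259 := rfl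
theorem F56295 : act 1 n14259 = n13443 := d13_1 D14259 (iv D13443) (iv F52578)
theorem F56296 : act 3 n14259 = n13542 := d24_1 D14259 (iv D13542) F49507 (iv F48589) (iv F52579)
theorem F56297 : act 4 n14259 = n13660 := d28_1 D14259 F56289 (iv D14257)
theorem F56298 : act 5 n14259 = n13333 := d31_1 D14259 (iv D13333) D13332
theorem F56299 : act 6 n14259 = n13659 := d33_1 D14259 F56294 (iv D14258)
def n14260 : Q := act 8 n13332
theorem D14260 : act 8 n13332 = n14260 := rfl
theorem F56300 : act 1 n14260 = n13444 := d14_1 D14260 (iv D13444) (iv F52578)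
theorem F56301 : act 3 n14260 = n13336 := d25_1 D14260 (iv D13336) (iv F52579)
theorem F56302 : act 5 n14260 = n13334 := d32_1 D14260 (iv D13334) D13332
def n14261 : Q := act 8 n13333
theorem D14261 : act 8 n13333 = n14261 := rfl
theorem F56303 : act 1 n14261 = n13445 := d14_1 D14261 (iv D13445) (iv F52580)
theorem F56304 : act 3 n14261 = n13543 := d25_1 D14261 (iv D13543) (iv F52581)
theorem F56305 : act 6 n14261 = n13345 := d34_1 D14261 (iv D13345) (iv F52582)
def n14262 : Q := act 7 n13334
theorem D14262 : act 7 n13334 = n14262 := rfl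
theorem F56306 : act 1 n14262 = n13446 := d13_1 D14262 (iv D13446) (iv F52583)
theorem F56307 : act 6 n14262 = n13346 := d33_1 D14262 (iv D13346) (iv F52585)
def n14263 : Q := act 8 n13335
theorem D14263 : act 8 n13335 = n14263 := rfl
theorem F56308 : act 1 n14263 = n13447 := d14_1 D14263 (iv D13447) (iv F52586)
theorem F56309 : act 2 n14263 = n13339 := d20_1 D14263 (iv D13339) (iv F52587)
theorem F56310 : act 4 n14263 = n14263 := d29_1 D14263 (iv D14263) F52588
theorem F56311 : act 5 n14263 = n13347 := d32_1 D14263 (iv D13347) (iv F52589)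
theorem F56312 : act 6 n14263 = n13336 := d34_1 D14263 (iv D13336) D13335
def n14264 : Q := act 7 n13336
theorem D14264 : act 7 n13336 = n14264 := rfl
theorem F56313 : act 0 n14264 = n13534 := d6_1 D14264 (iv F55732) F55727
theorem F56314 : act 1 n14264 = n13448 := d13_1 D14264 (iv D13448) (iv F52591)
theorem F56315 : act 2 n14264 = n13340 := d19_1 D14264 (iv D13340) (iv F52592)
theorem F56316 : act 4 n14264 = n14264 := d28_1 D14264 (iv D14264) F52593
theorem F56317 : act 5 n14264 = n13337 := d31_1 D14264 (iv D13337) (iv F52594)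
theorem F56318 : act 8 n14264 = n13494 := d35_2 D13336 D14264 F53233 F49289 (iv F48589)
def n14265 : Q := act 3 n13337
theorem D14265 : act 3 n13337 = n14265 := rfl
theorem F56319 : act 0 n14265 = n13532 := d2_1 D14265 F53418 (iv F52595)
theorem F56320 : act 1 n14265 = n13449 := d9_1 D14265 (iv D13449) (iv F52596)
theorem F56321 : act 6 n14265 = n13349 := d23_2 (iv F52599) D14265 (iv D13349)
theorem F56322 : act 8 n14265 = n13493 := d25_2 (iv F52600) D14265 (iv D13493)
def n14266 : Q := act 4 n13338
theorem D14266 : act 4 n13338 = n14266 := rfl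
theorem F56323 : act 0 n14266 = n13525 := d3_1 D14266 F53394 (iv F52601)
theorem F56324 : act 1 n14266 = n13450 := d10_1 D14266 (iv D13450) (iv F52602)
theorem F56325 : act 2 n14266 = n13491 := d16_1 D14266 F53218 (iv F52603)
theorem F56326 : act 6 n14266 = n13350 := d27_2 (iv F52605) D14266 (iv D13350)
theorem F56327 : act 8 n14266 = n13489 := d29_2 (iv F52606) D14266 (iv D13489)
def n14267 : Q := act 7 n13339
theorem D14267 : act 7 n13339 = n14267 := rfl
theorem F56328 : act 0 n14267 = n13535 := d6_1 D14267 (iv F55738) F55733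
theorem F56329 : act 1 n14267 = n13384 := d13_1 D14267 (iv D13384) (iv F52607)
theorem F56330 : act 4 n14267 = n14267 := d28_1 D14267 (iv D14267) F52608
theorem F56331 : act 5 n14267 = n13351 := d31_1 D14267 (iv D13351) (iv F52609)
theorem F56332 : act 6 n14267 = n13340 := d33_1 D14267 (iv D13340) (iv F52610)
theorem F56333 : act 8 n14267 = n13495 := d35_2 D13339 D14267 F53238 F49295 (iv F48603)
def n14268 : Q := act 8 n13341
theorem D14268 : act 8 n13341 = n14268 := rfl
theorem F56334 : act 1 n14268 = n13454 := d14_1 D14268 (iv D13454) (iv F52616)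
theorem F56335 : act 3 n14268 = n13354 := d25_1 D14268 (iv D13354) (iv F52617)
theorem F56336 : act 4 n14268 = n13344 := d29_1 D14268 (iv D13344) D13341
def n14269 : Q := act 8 n13342
theorem D14269 : act 8 n13342 = n14269 := rfl
theorem F56337 : act 1 n14269 = n13455 := d14_1 D14269 (iv D13455) (iv F52618)
theorem F56338 : act 3 n14269 = n13347 := d25_1 D14269 (iv D13347) (iv F52619)
theorem F56339 : act 6 n14269 = n13344 := d34_1 D14269 (iv D13344) D13342
def n14270 : Q := act 8 n13343
theorem D14270 : act 8 n13343 = n14270 := rfl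
theorem F56340 : act 1 n14270 = n13456 := d14_1 D14270 (iv D13456) (iv F52621)
theorem F56341 : act 3 n14270 = n13546 := d25_1 D14270 (iv D13546) (iv F52622)
theorem F56342 : act 4 n14270 = n14269 := d29_1 D14270 (iv D14269) (iv F52623)
theorem F56343 : act 5 n14270 = n13345 := d32_1 D14270 (iv D13345) (iv F52624)
theorem F56344 : act 6 n14270 = n14268 := d34_1 D14270 (iv D14268) (iv F52625)
def n14271 : Q := act 7 n13344
theorem D14271 : act 7 n13344 = n14271 := rfl
theorem F56345 : act 1 n14271 = n13457 := d13_1 D14271 (iv D13457) (iv F52626)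
theorem F56346 : act 5 n14271 = n13346 := d31_1 D14271 (iv D13346) (iv F52628)
def n14272 : Q := act 7 n13345
theorem D14272 : act 7 n13345 = n14272 := rfl
theorem F56347 : act 1 n14272 = n13458 := d13_1 D14272 (iv D13458) (iv F52629)
theorem F56348 : act 8 n14272 = n13346 := d35_2 D13345 D14272 (iv D13346) (iv D12343) D12342
def n14273 : Q := act 3 n13346
theorem D14273 : act 3 n13346 = n14273 := rfl
theorem F56349 : act 1 n14273 = n13459 := d9_1 D14273 (iv D13459) (iv F52631)
theorem F56350 : act 7 n14273 = n13349 := d24_2 D13346 D14273 (iv D13349) (iv D12346) (iv F48617)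
def n14274 : Q := act 7 n13347
theorem D14274 : act 7 n13347 = n14274 := rfl
theorem F56351 : act 1 n14274 = n13460 := d13_1 D14274 (iv D13460) (iv F52632)
theorem F56352 : act 2 n14274 = n13351 := d19_1 D14274 (iv D13351) (iv F52633)
theorem F56353 : act 4 n14274 = n13358 := d28_1 D14274 (iv D13358) (iv F52634)
theorem F56354 : act 6 n14274 = n13348 := d33_1 D14274 (iv D13348) (iv F52635)
theorem F56355 : act 8 n14274 = n13550 := d35_2 D13347 D14274 (iv D13550) (iv D12575) (iv F48621)
def n14275 : Q := act 3 n13348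
theorem D14275 : act 3 n13348 = n14275 := rfl
theorem F56356 : act 1 n14275 = n13461 := d9_1 D14275 (iv D13461) (iv F52636)
theorem F56357 : act 4 n14275 = n14191 := d21_2 (iv F52638) D14275 F56104 F52680 (iv D13359)
theorem F56358 : act 5 n14275 = n13349 := d22_2 (iv F52639) D14275 (iv D13349)
theorem F56359 : act 8 n14275 = n13551 := d25_2 (iv F52640) D14275 (iv D13551)
def n14276 : Q := act 2 n13349
theorem D14276 : act 2 n13349 = n14276 := rfl
theorem F56360 : act 3 n14276 = n13353 := d15_2 D13349 D14276 (iv D13353) (iv D12350) (iv F48627)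
theorem F56361 : act 8 n14276 = n13552 := d20_2 (iv F52642) D14276 (iv D13552)
def n14277 : Q := act 4 n13349
theorem D14277 : act 4 n13349 = n14277 := rfl
theorem F56362 : act 1 n14277 = n13463 := d10_1 D14277 (iv D13463) (iv F52641)
theorem F56363 : act 3 n14277 = n13350 := d21_1 D14277 (iv D13350) (iv D12347) (iv F48628) D13349
theorem F56364 : act 5 n14277 = n14194 := d26_2 F56358 D14277 F56115 (iv F56105) (iv F56357)
theorem F56365 : act 8 n14277 = n13553 := d29_2 (iv F52642) D14277 (iv D13553)
def n14278 : Q := act 2 n13352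
theorem D14278 : act 2 n13352 = n14278 := rfl
theorem F56366 : act 5 n14278 = n13353 := d17_2 (iv F52650) D14278 (iv D13353)
theorem F56367 : act 8 n14278 = n13554 := d20_2 (iv F52651) D14278 (iv D13554)
def n14279 : Q := act 1 n13353
theorem D14279 : act 1 n13353 = n14279 := rfl
theorem F56368 : act 2 n14279 = n13385 := d8_2 D13353 D14279 (iv D13385) (iv D12393) (iv F48640)
theorem F56369 : act 8 n14279 = n13555 := d14_2 (iv F52652) D14279 (iv D13555)
def n14280 : Q := act 7 n13354
theorem D14280 : act 7 n13354 = n14280 := rfl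
theorem F56370 : act 0 n14280 = n14181 := d6_1 D14280 F56065 F55796
theorem F56371 : act 1 n14280 = n13465 := d13_1 D14280 (iv D13465) (iv F52653)
theorem F56372 : act 4 n14280 = n13357 := d28_1 D14280 (iv D13357) (iv F52654)
theorem F56373 : act 8 n14280 = n14024 := d35_2 D13354 D14280 F55460 (iv D13545) (iv F49523)
def n14281 : Q := act 7 n13355
theorem D14281 : act 7 n13355 = n14281 := rfl
theorem F56374 : act 0 n14281 = n14183 := d6_1 D14281 F56079 F55799
theorem F56375 : act 1 n14281 = n13466 := d13_1 D14281 (iv D13466) (iv F52655)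
theorem F56376 : act 5 n14281 = n14281 := d31_1 D14281 (iv D14281) F52657
theorem F56377 : act 6 n14281 = n13357 := d33_1 D14281 (iv D13357) (iv F52658)
theorem F56378 : act 8 n14281 = n14006 := d35_2 D13355 D14281 F55361 (iv D13544) (iv F49519)
theorem F56379 : act 3 n14007 = n14281 := d25_3 F56378 (iv D14006) D14007
def n14282 : Q := act 3 n13358
theorem D14282 : act 3 n13358 = n14282 := rfl
theorem F56380 : act 0 n14282 = n14184 := d2_1 D14282 F56082 F55804
theorem F56381 : act 1 n14282 = n13469 := d9_1 D14282 (iv D13469) (iv F52669)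
theorem F56382 : act 2 n14282 = n13855 := d15_1 D14282 F54715 F51686 F50421 (iv F52670)
theorem F56383 : act 5 n14282 = n14282 := d22_2 F52671 D14282 (iv D14282)
theorem F56384 : act 6 n14282 = n13359 := d23_2 (iv F52672) D14282 (iv D13359)
theorem F56385 : act 7 n14282 = n14007 := d24_2 D13358 D14282 F56379 (iv D14281) F52656
theorem F56386 : act 8 n14282 = n13556 := d25_2 (iv F52673) D14282 (iv D13556)
theorem F56387 : act 4 n13846 = n14282 := d38_3 (iv F46968) (iv F50995) (iv F54688) (iv D14282) F52670 F48683 (iv D11355) F41028 F32821 F24234 F17953 F13327 (iv F12235) (iv F12899) F12898 (iv F17337) (iv F23352) (iv F31586) (iv F39863) (iv F43281) (iv F47000) F46999 F44428 F40897 (iv F40911) (iv F44515) F44514 D11422 F44922 F41293 (iv F41327) D11444 (iv F45659) F45658 (iv F43668) F43667 (iv F47568) F47567 F43550 (iv F43174) (iv F46981) F46984 F44855 (iv F44307) F44306 (iv F43777) F43776 F42784 F39557 F38576 F29610 (iv F23772) (iv F32168) (iv F40195) (iv F43652) F43656 F41976 F41975 (iv F41195) F41194 (iv F42433) (iv F45980)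
def n14283 : Q := act 8 n13361
theorem D14283 : act 8 n13361 = n14283 := rfl
theorem F56388 : act 0 n14283 = n13364 := d7_1 D14283 (iv D13364) (iv F52688)
theorem F56389 : act 1 n14283 = n13386 := d14_1 D14283 (iv D13386) (iv F52689)
theorem F56390 : act 3 n14283 = n14283 := d25_1 D14283 (iv D14283) F52690
theorem F56391 : act 4 n14283 = n13362 := d29_1 D14283 (iv D13362) D13361
theorem F56392 : act 6 n14283 = n13589 := d34_1 D14283 (iv D13589) (iv F52691)
def n14284 : Q := act 7 n13362
theorem D14284 : act 7 n13362 = n14284 := rfl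
theorem F56393 : act 0 n14284 = n13365 := d6_1 D14284 (iv D13365) (iv F52693)
theorem F56394 : act 1 n14284 = n13387 := d13_1 D14284 (iv D13387) (iv F52694)
theorem F56395 : act 6 n14284 = n13590 := d33_1 D14284 (iv D13590) (iv F52696)
theorem F56396 : act 8 n14284 = n13374 := d35_2 D13362 D14284 (iv D13374) (iv D12379) (iv F48707)
def n14285 : Q := act 8 n13363
theorem D14285 : act 8 n13363 = n14285 := rfl
theorem F56397 : act 1 n14285 = n13366 := d14_1 D14285 (iv D13366) (iv F52697)
theorem F56398 : act 3 n14285 = n14285 := d25_1 D14285 (iv D14285) F52698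
theorem F56399 : act 5 n14285 = n13364 := d32_1 D14285 (iv D13364) D13363
def n14286 : Q := act 7 n13364
theorem D14286 : act 7 n13364 = n14286 := rfl
theorem F56400 : act 1 n14286 = n13367 := d13_1 D14286 (iv D13367) (iv F52700)
theorem F56401 : act 4 n14286 = n13365 := d28_1 D14286 (iv D13365) (iv F52702)
theorem F56402 : act 6 n14286 = n13648 := d33_1 D14286 (iv D13648) (iv F52703)
theorem F56403 : act 8 n14286 = n13377 := d35_2 D13364 D14286 (iv D13377) (iv D12381) (iv F48711)
def n14287 : Q := act 7 n13366
theorem D14287 : act 7 n13366 = n14287 := rfl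
theorem F56404 : act 0 n14287 = n13389 := d6_1 D14287 (iv D13389) (iv F52707)
theorem F56405 : act 2 n14287 = n13369 := d19_1 D14287 (iv D13369) (iv F52708)
theorem F56406 : act 5 n14287 = n13367 := d31_1 D14287 (iv D13367) (iv F52710)
theorem F56407 : act 8 n14287 = n13379 := d35_2 D13366 D14287 (iv D13379) (iv D12384) (iv F48718)
def n14288 : Q := act 3 n13367
theorem D14288 : act 3 n13367 = n14288 := rfl
theorem F56408 : act 0 n14288 = n13390 := d2_1 D14288 (iv D13390) (iv F52711)
theorem F56409 : act 6 n14288 = n13682 := d23_2 (iv F52714) D14288 (iv D13682)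
theorem F56410 : act 7 n14288 = n14288 := d24_2 D13367 D14288 (iv D14288) (iv D13367) F48721
theorem F56411 : act 8 n14288 = n13380 := d25_2 (iv F52715) D14288 (iv D13380)
def n14289 : Q := act 7 n13368
theorem D14289 : act 7 n13368 = n14289 := rfl
theorem F56412 : act 0 n14289 = n13391 := d6_1 D14289 (iv D13391) (iv F52716)
theorem F56413 : act 6 n14289 = n13369 := d33_1 D14289 (iv D13369) (iv F52718)
theorem F56414 : act 8 n14289 = n13381 := d35_2 D13368 D14289 (iv D13381) (iv D12386) (iv F48730)
def n14290 : Q := act 7 n13370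
theorem D14290 : act 7 n13370 = n14290 := rfl
theorem F56415 : act 0 n14290 = n13392 := d6_1 D14290 (iv D13392) (iv F52722)
theorem F56416 : act 2 n14290 = n13683 := d19_1 D14290 (iv D13683) (iv F52723)
theorem F56417 : act 5 n14290 = n13381 := d31_1 D14290 (iv D13381) (iv F52725)
theorem F56418 : act 6 n14290 = n13371 := d33_1 D14290 (iv D13371) (iv F52726)
def n14291 : Q := act 8 n13372
theorem D14291 : act 8 n13372 = n14291 := rfl
theorem F56419 : act 0 n14291 = n13376 := d7_1 D14291 (iv D13376) (iv F52730)
theorem F56420 : act 1 n14291 = n13393 := d14_1 D14291 (iv D13393) (iv F52731)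
theorem F56421 : act 3 n14291 = n13471 := d25_1 D14291 (iv D13471) (iv F52732)
theorem F56422 : act 5 n14291 = n13373 := d32_1 D14291 (iv D13373) D13372
def n14292 : Q := act 7 n13373
theorem D14292 : act 7 n13373 = n14292 := rfl
theorem F56423 : act 0 n14292 = n13377 := d6_1 D14292 (iv D13377) (iv F52733)
theorem F56424 : act 1 n14292 = n13394 := d13_1 D14292 (iv D13394) (iv F52734)
theorem F56425 : act 4 n14292 = n13374 := d28_1 D14292 (iv D13374) (iv F52736)
theorem F56426 : act 6 n14292 = n13598 := d33_1 D14292 (iv D13598) (iv F52737)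
def n14293 : Q := act 8 n13375
theorem D14293 : act 8 n13375 = n14293 := rfl
theorem F56427 : act 1 n14293 = n13378 := d14_1 D14293 (iv D13378) (iv F52741)
theorem F56428 : act 3 n14293 = n13473 := d25_1 D14293 (iv D13473) (iv F52742)
theorem F56429 : act 5 n14293 = n13656 := d32_1 D14293 (iv D13656) (iv F52743)
theorem F56430 : act 6 n14293 = n13376 := d34_1 D14293 (iv D13376) D13375
def n14294 : Q := act 7 n13376
theorem D14294 : act 7 n13376 = n14294 := rfl
theorem F56431 : act 1 n14294 = n13379 := d13_1 D14294 (iv D13379) (iv F52744)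
theorem F56432 : act 5 n14294 = n13377 := d31_1 D14294 (iv D13377) (iv F52746)
def n14295 : Q := act 3 n13377
theorem D14295 : act 3 n13377 = n14295 := rfl
theorem F56433 : act 1 n14295 = n13380 := d9_1 D14295 (iv D13380) (iv F52747)
theorem F56434 : act 6 n14295 = n13658 := d23_2 (iv F52749) D14295 (iv D13658)
theorem F56435 : act 7 n14295 = n13475 := d24_2 D13377 D14295 (iv D13475) (iv D12487) (iv F48760)
def n14296 : Q := act 7 n13378
theorem D14296 : act 7 n13378 = n14296 := rfl
theorem F56436 : act 0 n14296 = n13397 := d6_1 D14296 (iv D13397) (iv F52750)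
theorem F56437 : act 2 n14296 = n13381 := d19_1 D14296 (iv D13381) (iv F52751)
theorem F56438 : act 5 n14296 = n13683 := d31_1 D14296 (iv D13683) (iv F52753)
theorem F56439 : act 6 n14296 = n13379 := d33_1 D14296 (iv D13379) (iv F52754)
def n14297 : Q := act 3 n13379
theorem D14297 : act 3 n13379 = n14297 := rfl
theorem F56440 : act 0 n14297 = n13398 := d2_1 D14297 (iv D13398) (iv F52755)
theorem F56441 : act 5 n14297 = n13380 := d22_2 (iv F52757) D14297 (iv D13380)
theorem F56442 : act 7 n14297 = n13477 := d24_2 D13379 D14297 (iv D13477) (iv D12489) (iv F48771)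
def n14298 : Q := act 2 n13380
theorem D14298 : act 2 n13380 = n14298 := rfl
theorem F56443 : act 0 n14298 = n13399 := d1_1 D14298 (iv D13399) (iv F52758)
theorem F56444 : act 3 n14298 = n13383 := d15_2 D13380 D14298 (iv D13383) (iv D12388) (iv F48774)
theorem F56445 : act 6 n14298 = n13685 := d18_2 (iv F52759) D14298 (iv D13685)
theorem F56446 : act 7 n14298 = n13478 := d19_2 (iv F52760) D14298 (iv D13478)
def n14299 : Q := act 1 n13383
theorem D14299 : act 1 n13383 = n14299 := rfl
theorem F56447 : act 7 n14299 = n13385 := d13_2 (iv F52767) D14299 (iv D13385)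
def n14300 : Q := act 7 n13386
theorem D14300 : act 7 n13386 = n14300 := rfl
theorem F56448 : act 0 n14300 = n13388 := d6_1 D14300 (iv D13388) (iv F52776)
theorem F56449 : act 4 n14300 = n13387 := d28_1 D14300 (iv D13387) (iv F52778)
theorem F56450 : act 6 n14300 = n13619 := d33_1 D14300 (iv D13619) (iv F52779)
theorem F56451 : act 8 n14300 = n13394 := d35_2 D13386 D14300 (iv D13394) (iv D12406) (iv F48815)
def n14301 : Q := act 3 n13388
theorem D14301 : act 3 n13388 = n14301 := rfl
theorem F56452 : act 1 n14301 = n13390 := d9_1 D14301 (iv D13390) (iv F52783)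
theorem F56453 : act 6 n14301 = n13632 := d23_2 (iv F52785) D14301 (iv D13632)
theorem F56454 : act 7 n14301 = n14301 := d24_2 D13388 D14301 (iv D14301) (iv D13388) F48820
theorem F56455 : act 8 n14301 = n13396 := d25_2 (iv F52786) D14301 (iv D13396)
def n14302 : Q := act 3 n13389
theorem D14302 : act 3 n13389 = n14302 := rfl
theorem F56456 : act 5 n14302 = n13390 := d22_2 (iv F52788) D14302 (iv D13390)
theorem F56457 : act 7 n14302 = n14302 := d24_2 D13389 D14302 (iv D14302) (iv D13389) F48827
theorem F56458 : act 8 n14302 = n13398 := d25_2 (iv F52789) D14302 (iv D13398)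
def n14303 : Q := act 7 n13393
theorem D14303 : act 7 n13393 = n14303 := rfl
theorem F56459 : act 0 n14303 = n13395 := d6_1 D14303 (iv D13395) (iv F52798)
theorem F56460 : act 5 n14303 = n13394 := d31_1 D14303 (iv D13394) (iv F52800)
def n14304 : Q := act 3 n13394
theorem D14304 : act 3 n13394 = n14304 := rfl
theorem F56461 : act 0 n14304 = n13396 := d2_1 D14304 (iv D13396) (iv F52801)
theorem F56462 : act 6 n14304 = n13625 := d23_2 (iv F52803) D14304 (iv D13625)
theorem F56463 : act 7 n14304 = n13483 := d24_2 D13394 D14304 (iv D13483) (iv D12500) (iv F48846)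
def n14305 : Q := act 3 n13395
theorem D14305 : act 3 n13395 = n14305 := rfl
theorem F56464 : act 1 n14305 = n13398 := d9_1 D14305 (iv D13398) (iv F52804)
theorem F56465 : act 5 n14305 = n13396 := d22_2 (iv F52805) D14305 (iv D13396)
theorem F56466 : act 7 n14305 = n13485 := d24_2 D13395 D14305 (iv D13485) (iv D12502) (iv F48852)
def n14306 : Q := act 2 n13396
theorem D14306 : act 2 n13396 = n14306 := rfl
theorem F56467 : act 4 n14306 = n13398 := d16_2 F54611 D14306 (iv F54610)
theorem F56468 : act 6 n14306 = n13636 := d18_2 (iv F52807) D14306 (iv D13636)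
theorem F56469 : act 7 n14306 = n13486 := d19_2 (iv F52808) D14306 (iv D13486)
def n14307 : Q := act 5 n13400
theorem D14307 : act 5 n13400 = n14307 := rfl
theorem F56470 : act 0 n14307 = n14307 := d4_1 D14307 (iv D14307) F52817
theorem F56471 : act 1 n14307 = n13763 := d11_1 D14307 (iv D13763) (iv F52818)
theorem F56472 : act 3 n14307 = n13557 := d22_1 D14307 (iv D13557) (iv F52819)
theorem F56473 : act 7 n14307 = n13993 := d31_2 (iv F52821) D14307 (iv D13993)
def n14308 : Q := act 8 n13400
theorem D14308 : act 8 n13400 = n14308 := rfl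
theorem F56474 : act 0 n14308 = n14308 := d7_1 D14308 (iv D14308) F52817
theorem F56475 : act 1 n14308 = n13765 := d14_1 D14308 (iv D13765) (iv F52818)
theorem F56476 : act 3 n14308 = n13558 := d25_1 D14308 (iv D13558) (iv F52819)
theorem F56477 : act 4 n14308 = n13401 := d29_1 D14308 (iv D13401) D13400
theorem F56478 : act 6 n14308 = n13403 := d34_1 D14308 (iv D13403) (iv F52820)
def n14309 : Q := act 7 n13401
theorem D14309 : act 7 n13401 = n14309 := rfl
theorem F56479 : act 0 n14309 = n14309 := d6_1 D14309 (iv D14309) F52822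
theorem F56480 : act 3 n14309 = n13406 := d24_1 D14309 (iv D13406) F48907 (iv F48882) (iv F52823)
theorem F56481 : act 6 n14309 = n13404 := d33_1 D14309 (iv D13404) (iv F52824)
theorem F56482 : act 8 n14309 = n13995 := d35_2 D13401 D14309 (iv D13995) (iv D13062) (iv F48877)
def n14310 : Q := act 7 n13402
theorem D14310 : act 7 n13402 = n14310 := rfl
theorem F56483 : act 0 n14310 = n14310 := d6_1 D14310 (iv D14310) F52825
theorem F56484 : act 2 n14310 = n13404 := d19_1 D14310 (iv D13404) (iv F52826)
theorem F56485 : act 5 n14310 = n13406 := d31_1 D14310 (iv D13406) (iv F52828)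
theorem F56486 : act 8 n14310 = n14000 := d35_2 D13402 D14310 (iv D14000) (iv D13065) (iv F48886)
def n14311 : Q := act 7 n13403
theorem D14311 : act 7 n13403 = n14311 := rfl
theorem F56487 : act 0 n14311 = n14311 := d6_1 D14311 (iv D14311) F52829
theorem F56488 : act 4 n14311 = n13404 := d28_1 D14311 (iv D13404) (iv F52831)
theorem F56489 : act 8 n14311 = n14003 := d35_2 D13403 D14311 (iv D14003) (iv D13067) (iv F48889)
def n14312 : Q := act 7 n13405
theorem D14312 : act 7 n13405 = n14312 := rfl
theorem F56490 : act 0 n14312 = n14312 := d6_1 D14312 (iv D14312) F52836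
theorem F56491 : act 2 n14312 = n13699 := d19_1 D14312 (iv D13699) (iv F52837)
theorem F56492 : act 4 n14312 = n13406 := d28_1 D14312 (iv D13406) (iv F52839)
theorem F56493 : act 6 n14312 = n13415 := d33_1 D14312 (iv D13415) (iv F52840)
def n14313 : Q := act 4 n13407
theorem D14313 : act 4 n13407 = n14313 := rfl
theorem F56494 : act 0 n14313 = n13408 := d3_1 D14313 (iv D13408) D13407
theorem F56495 : act 1 n14313 = n14313 := d10_1 D14313 (iv D14313) F52844
theorem F56496 : act 3 n14313 = n14313 := d21_1 D14313 (iv D14313) F52845 F48929 (iv F52845)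
theorem F56497 : act 6 n14313 = n13584 := d27_2 (iv F52846) D14313 (iv D13584)
theorem F56498 : act 7 n14313 = n14042 := d28_2 (iv F52847) D14313 (iv D14042)
def n14314 : Q := act 8 n13407
theorem D14314 : act 8 n13407 = n14314 := rfl
theorem F56499 : act 0 n14314 = n13409 := d7_1 D14314 (iv D13409) D13407
theorem F56500 : act 1 n14314 = n14314 := d14_1 D14314 (iv D14314) F52844
theorem F56501 : act 3 n14314 = n13416 := d25_1 D14314 (iv D13416) (iv F52845)
theorem F56502 : act 6 n14314 = n13585 := d34_1 D14314 (iv D13585) (iv F52846)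
def n14315 : Q := act 5 n13408
theorem D14315 : act 5 n13408 = n14315 := rfl
theorem F56503 : act 1 n14315 = n13410 := d11_1 D14315 (iv D13410) (iv F52848)
theorem F56504 : act 3 n14315 = n14315 := d22_1 D14315 (iv D14315) F52849
theorem F56505 : act 4 n14315 = n13549 := d26_1 D14315 F55318 (iv D13997) F51563 D13408
theorem F56506 : act 7 n14315 = n13553 := d31_2 (iv F52851) D14315 F53496
def n14316 : Q := act 8 n13408
theorem D14316 : act 8 n13408 = n14316 := rfl
theorem F56507 : act 1 n14316 = n13411 := d14_1 D14316 (iv D13411) (iv F52848)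
theorem F56508 : act 3 n14316 = n14316 := d25_1 D14316 (iv D14316) F52849
theorem F56509 : act 4 n14316 = n13409 := d29_1 D14316 (iv D13409) D13408
theorem F56510 : act 6 n14316 = n13641 := d34_1 D14316 (iv D13641) (iv F52850)
def n14317 : Q := act 7 n13409
theorem D14317 : act 7 n13409 = n14317 := rfl
theorem F56511 : act 1 n14317 = n13412 := d13_1 D14317 (iv D13412) (iv F52852)
theorem F56512 : act 6 n14317 = n13642 := d33_1 D14317 (iv D13642) (iv F52854)
theorem F56513 : act 8 n14317 = n14195 := d35_2 D13409 D14317 (iv D14195) (iv D13288) (iv F48911)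
def n14318 : Q := act 6 n13410
theorem D14318 : act 6 n13410 = n14318 := rfl
theorem F56514 : act 0 n14318 = n14318 := d5_1 D14318 (iv D14318) F52855
theorem F56515 : act 2 n14318 = n13413 := d18_1 D14318 (iv D13413) (iv F52856)
theorem F56516 : act 3 n14318 = n14318 := d23_1 D14318 (iv D14318) F52857
theorem F56517 : act 4 n14318 = n13571 := d27_1 D14318 F53580 (iv F52858)
theorem F56518 : act 5 n14318 = n13697 := d30_1 D14318 (iv D13697) (iv D12745) (iv F48915) D13410
theorem F56519 : act 7 n14318 = n13575 := d33_2 (iv F52859) D14318 F53594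
def n14319 : Q := act 8 n13410
theorem D14319 : act 8 n13410 = n14319 := rfl
theorem F56520 : act 0 n14319 = n14319 := d7_1 D14319 (iv D14319) F52855
theorem F56521 : act 2 n14319 = n13414 := d20_1 D14319 (iv D13414) (iv F52856)
theorem F56522 : act 3 n14319 = n14319 := d25_1 D14319 (iv D14319) F52857
theorem F56523 : act 4 n14319 = n13580 := d29_1 D14319 F53616 (iv F52858)
theorem F56524 : act 5 n14319 = n13411 := d32_1 D14319 (iv D13411) D13410
def n14320 : Q := act 7 n13411
theorem D14320 : act 7 n13411 = n14320 := rfl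
theorem F56525 : act 0 n14320 = n14320 := d6_1 D14320 (iv D14320) F52860
theorem F56526 : act 2 n14320 = n13415 := d19_1 D14320 (iv D13415) (iv F52861)
theorem F56527 : act 4 n14320 = n13412 := d28_1 D14320 (iv D13412) (iv F52863)
theorem F56528 : act 6 n14320 = n13699 := d33_1 D14320 (iv D13699) (iv F52864)
theorem F56529 : act 8 n14320 = n14312 := d35_2 D13411 D14320 (iv D14312) (iv D13405) (iv F48916)
def n14321 : Q := act 8 n13413
theorem D14321 : act 8 n13413 = n14321 := rfl
theorem F56530 : act 0 n14321 = n14321 := d7_1 D14321 (iv D14321) F52869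
theorem F56531 : act 3 n14321 = n13563 := d25_1 D14321 (iv D13563) (iv F52870)
theorem F56532 : act 6 n14321 = n13414 := d34_1 D14321 (iv D13414) D13413
def n14322 : Q := act 7 n13414
theorem D14322 : act 7 n13414 = n14322 := rfl
theorem F56533 : act 0 n14322 = n14322 := d6_1 D14322 (iv D14322) F52871
theorem F56534 : act 5 n14322 = n13415 := d31_1 D14322 (iv D13415) (iv F52873)
def n14323 : Q := act 3 n13415
theorem D14323 : act 3 n13415 = n14323 := rfl
theorem F56535 : act 0 n14323 = n14323 := d2_1 D14323 (iv D14323) F52874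
theorem F56536 : act 7 n14323 = n13565 := d24_2 D13415 D14323 (iv D13565) (iv D12600) (iv F48924)
def n14324 : Q := act 5 n13417
theorem D14324 : act 5 n13417 = n14324 := rfl
theorem F56537 : act 0 n14324 = n13421 := d4_1 D14324 (iv D13421) (iv F52881)
theorem F56538 : act 1 n14324 = n14324 := d11_1 D14324 (iv D14324) F52882
theorem F56539 : act 3 n14324 = n13418 := d22_1 D14324 (iv D13418) D13417
def n14325 : Q := act 7 n13417
theorem D14325 : act 7 n13417 = n14325 := rfl
theorem F56540 : act 0 n14325 = n13422 := d6_1 D14325 (iv D13422) (iv F52881)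
theorem F56541 : act 1 n14325 = n14325 := d13_1 D14325 (iv D14325) F52882
theorem F56542 : act 3 n14325 = n14325 := d24_1 D14325 (iv D14325) (iv D13417) F48944 D13417
theorem F56543 : act 4 n14325 = n14093 := d28_1 D14325 (iv D14093) (iv F52883)
theorem F56544 : act 6 n14325 = n13600 := d33_1 D14325 (iv D13600) (iv F52884)
def n14326 : Q := act 8 n13417
theorem D14326 : act 8 n13417 = n14326 := rfl
theorem F56545 : act 0 n14326 = n13423 := d7_1 D14326 (iv D13423) (iv F52881)
theorem F56546 : act 1 n14326 = n14326 := d14_1 D14326 (iv D14326) F52882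
theorem F56547 : act 3 n14326 = n13419 := d25_1 D14326 (iv D13419) D13417
theorem F56548 : act 4 n14326 = n14094 := d29_1 D14326 (iv D14094) (iv F52883)
theorem F56549 : act 6 n14326 = n13601 := d34_1 D14326 (iv D13601) (iv F52884)
def n14327 : Q := act 6 n13418
theorem D14327 : act 6 n13418 = n14327 := rfl
theorem F56550 : act 0 n14327 = n13424 := d5_1 D14327 (iv D13424) (iv F52885)
theorem F56551 : act 1 n14327 = n14327 := d12_1 D14327 (iv D14327) F52886
theorem F56552 : act 2 n14327 = n13470 := d18_1 D14327 (iv D13470) (iv F52887)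
theorem F56553 : act 4 n14327 = n14327 := d27_1 D14327 (iv D14327) F52888
theorem F56554 : act 5 n14327 = n13602 := d30_1 D14327 (iv D13602) (iv D12641) (iv F48943) D13418
theorem F56555 : act 7 n14327 = n14327 := d33_2 F52889 D14327 (iv D14327)
def n14328 : Q := act 8 n13418
theorem D14328 : act 8 n13418 = n14328 := rfl
theorem F56556 : act 0 n14328 = n13425 := d7_1 D14328 (iv D13425) (iv F52885)
theorem F56557 : act 1 n14328 = n14328 := d14_1 D14328 (iv D14328) F52886
theorem F56558 : act 2 n14328 = n13471 := d20_1 D14328 (iv D13471) (iv F52887)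
theorem F56559 : act 4 n14328 = n14328 := d29_1 D14328 (iv D14328) F52888
theorem F56560 : act 5 n14328 = n13419 := d32_1 D14328 (iv D13419) D13418
def n14329 : Q := act 7 n13419
theorem D14329 : act 7 n13419 = n14329 := rfl
theorem F56561 : act 0 n14329 = n13426 := d6_1 D14329 (iv D13426) (iv F52890)
theorem F56562 : act 1 n14329 = n14329 := d13_1 D14329 (iv D14329) F52891
theorem F56563 : act 2 n14329 = n13472 := d19_1 D14329 (iv D13472) (iv F52892)
theorem F56564 : act 4 n14329 = n13420 := d28_1 D14329 (iv D13420) (iv F52893)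
theorem F56565 : act 6 n14329 = n13604 := d33_1 D14329 (iv D13604) (iv F52894)
theorem F56566 : act 8 n14329 = n14329 := d35_2 D13419 D14329 (iv D14329) (iv D13419) F48944
def n14330 : Q := act 4 n13421
theorem D14330 : act 4 n13421 = n14330 := rfl
theorem F56567 : act 1 n14330 = n13428 := d10_1 D14330 (iv D13428) (iv F52901)
theorem F56568 : act 3 n14330 = n14330 := d21_1 D14330 (iv D14330) F52902 F48956 (iv F52902)
theorem F56569 : act 5 n14330 = n14257 := d26_2 D13421 D14330 (iv D14257) (iv D13332) (iv F48952)
def n14331 : Q := act 6 n13421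
theorem D14331 : act 6 n13421 = n14331 := rfl
theorem F56570 : act 1 n14331 = n13429 := d12_1 D14331 (iv D13429) (iv F52901)
theorem F56571 : act 3 n14331 = n13424 := d23_1 D14331 (iv D13424) (iv F52902)
theorem F56572 : act 5 n14331 = n13660 := d30_1 D14331 (iv D13660) (iv D12700) (iv F48953) D13421
theorem F56573 : act 7 n14330 = n14331 := d38_0 (iv D14331) (iv D13421) F48952 (iv D12334) F44511 F40907 F32798 F26048 D6798 F26056 F19292 F19291 (iv F19576) (iv F24789) D8851 F33580 (iv F41297) (iv F44893) (iv F48979) (iv F52911) F52915 (iv D13424) (iv D12438) (iv D11410) F41230 (iv D10363) F32737 F24217 F19279 F14297 D3624 F14303 F14302 (iv F14537) (iv F18360) F18359 D6451 (iv F33553) (iv F41244) (iv F44879) (iv F48954) F48957 D13424 F52914 F50003 (iv F50029) (iv F52390) F52389 D14182 F56072 F52396 F48394 F47068 F47067 F44553 (iv D10479) F33565 D10478 D11436 (iv F49065) (iv F52931) (iv F56567)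
def n14332 : Q := act 7 n13421
theorem D14332 : act 7 n13421 = n14332 := rfl
theorem F56574 : act 1 n14332 = n13430 := d13_1 D14332 (iv D13430) (iv F52901)
theorem F56575 : act 3 n14332 = n14332 := d24_1 D14332 (iv D14332) F52902 F48957 (iv F52902)
theorem F56576 : act 4 n14332 = n14331 := d28_1 D14332 (iv F56573) (iv D14330)
theorem F56577 : act 5 n14332 = n13422 := d31_1 D14332 (iv D13422) D13421
theorem F56578 : act 6 n14332 = n14330 := d33_1 D14332 F56573 (iv D14331)
def n14333 : Q := act 8 n13421
theorem D14333 : act 8 n13421 = n14333 := rfl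
theorem F56579 : act 1 n14333 = n13431 := d14_1 D14333 (iv D13431) (iv F52901)
theorem F56580 : act 3 n14333 = n13425 := d25_1 D14333 (iv D13425) (iv F52902)
theorem F56581 : act 5 n14333 = n13423 := d32_1 D14333 (iv D13423) D13421
def n14334 : Q := act 8 n13422
theorem D14334 : act 8 n13422 = n14334 := rfl
theorem F56582 : act 1 n14334 = n13432 := d14_1 D14334 (iv D13432) (iv F52903)
theorem F56583 : act 3 n14334 = n14334 := d25_1 D14334 (iv D14334) F52904
theorem F56584 : act 4 n14334 = n14261 := d29_1 D14334 (iv D14261) (iv F52905)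
theorem F56585 : act 6 n14334 = n13663 := d34_1 D14334 (iv D13663) (iv F52906)
def n14335 : Q := act 7 n13423
theorem D14335 : act 7 n13423 = n14335 := rfl
theorem F56586 : act 1 n14335 = n13433 := d13_1 D14335 (iv D13433) (iv F52907)
theorem F56587 : act 4 n14335 = n14262 := d28_1 D14335 (iv D14262) (iv F52909)
theorem F56588 : act 6 n14335 = n13664 := d33_1 D14335 (iv D13664) (iv F52910)
def n14336 : Q := act 8 n13424
theorem D14336 : act 8 n13424 = n14336 := rfl
theorem F56589 : act 1 n14336 = n13434 := d14_1 D14336 (iv D13434) (iv F52911)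
theorem F56590 : act 2 n14336 = n13473 := d20_1 D14336 (iv D13473) (iv F52912)
theorem F56591 : act 4 n14336 = n14336 := d29_1 D14336 (iv D14336) F52913
theorem F56592 : act 5 n14336 = n13665 := d32_1 D14336 (iv D13665) (iv F52914)
theorem F56593 : act 6 n14336 = n13425 := d34_1 D14336 (iv D13425) D13424
def n14337 : Q := act 7 n13425
theorem D14337 : act 7 n13425 = n14337 := rfl
theorem F56594 : act 1 n14337 = n13435 := d13_1 D14337 (iv D13435) (iv F52916)
theorem F56595 : act 2 n14337 = n13474 := d19_1 D14337 (iv D13474) (iv F52917)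
theorem F56596 : act 4 n14337 = n14337 := d28_1 D14337 (iv D14337) F52918
theorem F56597 : act 5 n14337 = n13426 := d31_1 D14337 (iv D13426) (iv F52919)
theorem F56598 : act 8 n14337 = n14337 := d35_2 D13425 D14337 (iv D14337) (iv D13425) F48957
def n14338 : Q := act 3 n13426
theorem D14338 : act 3 n13426 = n14338 := rfl
theorem F56599 : act 1 n14338 = n13436 := d9_1 D14338 (iv D13436) (iv F52920)
theorem F56600 : act 6 n14338 = n13667 := d23_2 (iv F52923) D14338 (iv D13667)
theorem F56601 : act 8 n14338 = n14338 := d25_2 F52924 D14338 (iv D14338)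
def n14339 : Q := act 4 n13427
theorem D14339 : act 4 n13427 = n14339 := rfl
theorem F56602 : act 1 n14339 = n13437 := d10_1 D14339 (iv D13437) (iv F52925)
theorem F56603 : act 6 n14339 = n13668 := d27_2 (iv F52927) D14339 (iv D13668)
theorem F56604 : act 7 n14339 = n14266 := d28_2 (iv F52928) D14339 (iv D14266)
theorem F56605 : act 8 n14339 = n14339 := d29_2 F52929 D14339 (iv D14339)
def n14340 : Q := act 8 n13428
theorem D14340 : act 8 n13428 = n14340 := rfl
theorem F56606 : act 0 n14340 = n14340 := d7_1 D14340 (iv D14340) F52930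
theorem F56607 : act 2 n14340 = n13454 := d20_1 D14340 (iv D13454) (iv F52931)
theorem F56608 : act 3 n14340 = n14340 := d25_1 D14340 (iv D14340) F52932
theorem F56609 : act 4 n14340 = n13431 := d29_1 D14340 (iv D13431) D13428
def n14341 : Q := act 8 n13429
theorem D14341 : act 8 n13429 = n14341 := rfl
theorem F56610 : act 0 n14341 = n14341 := d7_1 D14341 (iv D14341) F52933
theorem F56611 : act 2 n14341 = n13455 := d20_1 D14341 (iv D13455) (iv F52934)
theorem F56612 : act 3 n14341 = n13434 := d25_1 D14341 (iv D13434) (iv F52935)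
theorem F56613 : act 5 n14341 = n13701 := d32_1 D14341 (iv D13701) (iv F52936)
theorem F56614 : act 6 n14341 = n13431 := d34_1 D14341 (iv D13431) D13429
def n14342 : Q := act 8 n13430
theorem D14342 : act 8 n13430 = n14342 := rfl
theorem F56615 : act 0 n14342 = n14342 := d7_1 D14342 (iv D14342) F52938
theorem F56616 : act 2 n14342 = n13456 := d20_1 D14342 (iv D13456) (iv F52939)
theorem F56617 : act 3 n14342 = n14342 := d25_1 D14342 (iv D14342) F52940
theorem F56618 : act 4 n14342 = n14341 := d29_1 D14342 (iv D14341) (iv F52941)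
theorem F56619 : act 5 n14342 = n13432 := d32_1 D14342 (iv D13432) (iv F52942)
theorem F56620 : act 6 n14342 = n14340 := d34_1 D14342 (iv D14340) (iv F52943)
def n14343 : Q := act 7 n13431
theorem D14343 : act 7 n13431 = n14343 := rfl
theorem F56621 : act 0 n14343 = n14343 := d6_1 D14343 (iv D14343) F52944
theorem F56622 : act 2 n14343 = n13457 := d19_1 D14343 (iv D13457) (iv F52945)
theorem F56623 : act 5 n14343 = n13433 := d31_1 D14343 (iv D13433) (iv F52947)
def n14344 : Q := act 7 n13432
theorem D14344 : act 7 n13432 = n14344 := rfl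
theorem F56624 : act 0 n14344 = n14344 := d6_1 D14344 (iv D14344) F52948
theorem F56625 : act 2 n14344 = n13458 := d19_1 D14344 (iv D13458) (iv F52949)
theorem F56626 : act 6 n14344 = n13704 := d33_1 D14344 (iv D13704) (iv F52951)
theorem F56627 : act 8 n14344 = n13433 := d35_2 D13432 D14344 (iv D13433) (iv D12443) D12442
def n14345 : Q := act 3 n13433
theorem D14345 : act 3 n13433 = n14345 := rfl
theorem F56628 : act 0 n14345 = n14345 := d2_1 D14345 (iv D14345) F52952
theorem F56629 : act 6 n14345 = n13705 := d23_2 (iv F52954) D14345 (iv D13705)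
theorem F56630 : act 7 n14345 = n13436 := d24_2 D13433 D14345 (iv D13436) (iv D12446) (iv F48976)
def n14346 : Q := act 7 n13434
theorem D14346 : act 7 n13434 = n14346 := rfl
theorem F56631 : act 0 n14346 = n14346 := d6_1 D14346 (iv D14346) F52955
theorem F56632 : act 2 n14346 = n13438 := d19_1 D14346 (iv D13438) (iv F52956)
theorem F56633 : act 4 n14346 = n14346 := d28_1 D14346 (iv D14346) F52957
theorem F56634 : act 5 n14346 = n13706 := d31_1 D14346 (iv D13706) (iv F52958)
theorem F56635 : act 6 n14346 = n13435 := d33_1 D14346 (iv D13435) (iv F52959)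
theorem F56636 : act 8 n14346 = n14346 := d35_2 D13434 D14346 (iv D14346) (iv D13434) F48982
def n14347 : Q := act 3 n13435
theorem D14347 : act 3 n13435 = n14347 := rfl
theorem F56637 : act 0 n14347 = n14347 := d2_1 D14347 (iv D14347) F52960
theorem F56638 : act 5 n14347 = n13436 := d22_2 (iv F52963) D14347 (iv D13436)
theorem F56639 : act 8 n14347 = n14347 := d25_2 F52964 D14347 (iv D14347)
def n14348 : Q := act 2 n13436
theorem D14348 : act 2 n13436 = n14348 := rfl
theorem F56640 : act 0 n14348 = n14348 := d1_1 D14348 (iv D14348) F52965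
theorem F56641 : act 3 n14348 = n13440 := d15_2 D13436 D14348 (iv D13440) (iv D12450) (iv F48988)
theorem F56642 : act 6 n14348 = n13708 := d18_2 (iv F52966) D14348 (iv D13708)
theorem F56643 : act 8 n14348 = n14348 := d20_2 F52967 D14348 (iv D14348)
def n14349 : Q := act 4 n13436
theorem D14349 : act 4 n13436 = n14349 := rfl
theorem F56644 : act 0 n14349 = n14349 := d3_1 D14349 (iv D14349) F52965
theorem F56645 : act 3 n14349 = n13437 := d21_1 D14349 (iv D13437) (iv D12447) (iv F48989) D13436
theorem F56646 : act 6 n14349 = n13709 := d27_2 (iv F52966) D14349 (iv D13709)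
theorem F56647 : act 8 n14349 = n14349 := d29_2 F52967 D14349 (iv D14349)
def n14350 : Q := act 5 n13437
theorem D14350 : act 5 n13437 = n14350 := rfl
theorem F56648 : act 0 n14350 = n14350 := d4_1 D14350 (iv D14350) F52968
theorem F56649 : act 2 n14350 = n14350 := d17_1 D14350 (iv D14350) F52969
theorem F56650 : act 4 n14350 = n14350 := d26_1 D14350 (iv D14350) (iv D13437) F48994 D13437
theorem F56651 : act 6 n14350 = n13564 := d30_2 (iv F52970) D14350 F53550 (iv F53540) F53539
theorem F56652 : act 7 n14350 = n13563 := d31_2 F53035 D14350 F53545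
theorem F56653 : act 8 n14350 = n14350 := d32_2 F52971 D14350 (iv D14350)
def n14351 : Q := act 1 n13440
theorem D14351 : act 1 n13440 = n14351 := rfl
theorem F56654 : act 2 n14351 = n13479 := d8_2 D13440 D14351 (iv D13479) (iv D12493) (iv F49009)
theorem F56655 : act 4 n14351 = n14351 := d10_2 F52984 D14351 (iv D14351)
theorem F56656 : act 6 n14351 = n13713 := d12_2 (iv F52985) D14351 (iv D13713)
theorem F56657 : act 7 n14351 = n13464 := d13_2 (iv F52986) D14351 (iv D13464)
theorem F56658 : act 8 n14351 = n14351 := d14_2 F52987 D14351 (iv D14351)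
def n14352 : Q := act 8 n13441
theorem D14352 : act 8 n13441 = n14352 := rfl
theorem F56659 : act 0 n14352 = n14352 := d7_1 D14352 (iv D14352) F52988
theorem F56660 : act 2 n14352 = n13700 := d20_1 D14352 (iv D13700) (iv F52989)
theorem F56661 : act 3 n14352 = n14352 := d25_1 D14352 (iv D14352) F52990
theorem F56662 : act 4 n14352 = n13444 := d29_1 D14352 (iv D13444) D13441
theorem F56663 : act 5 n14352 = n14340 := d32_1 D14352 (iv D14340) (iv F52991)
theorem F56664 : act 6 n14352 = n13702 := d34_1 D14352 (iv D13702) F52992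
def n14353 : Q := act 8 n13442
theorem D14353 : act 8 n13442 = n14353 := rfl
theorem F56665 : act 0 n14353 = n14353 := d7_1 D14353 (iv D14353) F52994
theorem F56666 : act 2 n14353 = n13701 := d20_1 D14353 (iv D13701) (iv F52995)
theorem F56667 : act 3 n14353 = n13447 := d25_1 D14353 (iv D13447) (iv F52996)
theorem F56668 : act 4 n14353 = n13702 := d29_1 D14353 (iv D13702) (iv F52997)
theorem F56669 : act 5 n14353 = n13455 := d32_1 D14353 (iv D13455) (iv F52998)
theorem F56670 : act 6 n14353 = n13444 := d34_1 D14353 (iv D13444) D13442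
def n14354 : Q := act 8 n13443
theorem D14354 : act 8 n13443 = n14354 := rfl
theorem F56671 : act 0 n14354 = n14354 := d7_1 D14354 (iv D14354) F53000
theorem F56672 : act 2 n14354 = n13702 := d20_1 D14354 (iv D13702) (iv F53001)
theorem F56673 : act 3 n14354 = n13568 := d25_1 D14354 (iv D13568) (iv F53002)
theorem F56674 : act 4 n14354 = n13701 := d29_1 D14354 (iv D13701) (iv F53003)
theorem F56675 : act 5 n14354 = n13445 := d32_1 D14354 (iv D13445) (iv F53004)
theorem F56676 : act 6 n14354 = n13700 := d34_1 D14354 (iv D13700) (iv F53005)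
def n14355 : Q := act 7 n13444
theorem D14355 : act 7 n13444 = n14355 := rfl
theorem F56677 : act 0 n14355 = n14355 := d6_1 D14355 (iv D14355) F53006
theorem F56678 : act 2 n14355 = n13703 := d19_1 D14355 (iv D13703) (iv F53007)
theorem F56679 : act 5 n14355 = n13446 := d31_1 D14355 (iv D13446) (iv F53009)
def n14356 : Q := act 7 n13445
theorem D14356 : act 7 n13445 = n14356 := rfl
theorem F56680 : act 0 n14356 = n14356 := d6_1 D14356 (iv D14356) F53010
theorem F56681 : act 2 n14356 = n13704 := d19_1 D14356 (iv D13704) (iv F53011)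
theorem F56682 : act 4 n14356 = n14344 := d28_1 D14356 (iv D14344) (iv F53013)
theorem F56683 : act 6 n14356 = n13458 := d33_1 D14356 (iv D13458) (iv F53014)
theorem F56684 : act 8 n14356 = n13446 := d35_2 D13445 D14356 (iv D13446) (iv D12453) D12452
def n14357 : Q := act 3 n13446
theorem D14357 : act 3 n13446 = n14357 := rfl
theorem F56685 : act 0 n14357 = n14357 := d2_1 D14357 (iv D14357) F53015
theorem F56686 : act 6 n14357 = n13459 := d23_2 (iv F53018) D14357 (iv D13459)
theorem F56687 : act 7 n14357 = n13449 := d24_2 D13446 D14357 (iv D13449) (iv D12456) (iv F49024)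
def n14358 : Q := act 7 n13447
theorem D14358 : act 7 n13447 = n14358 := rfl
theorem F56688 : act 0 n14358 = n14358 := d6_1 D14358 (iv D14358) F53019
theorem F56689 : act 2 n14358 = n13451 := d19_1 D14358 (iv D13451) (iv F53020)
theorem F56690 : act 4 n14358 = n14358 := d28_1 D14358 (iv D14358) F53021
theorem F56691 : act 5 n14358 = n13460 := d31_1 D14358 (iv D13460) (iv F53022)
theorem F56692 : act 6 n14358 = n13448 := d33_1 D14358 (iv D13448) (iv F53023)
theorem F56693 : act 8 n14358 = n13572 := d35_2 D13447 D14358 (iv D13572) (iv D12607) (iv F49031)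
def n14359 : Q := act 3 n13448
theorem D14359 : act 3 n13448 = n14359 := rfl
theorem F56694 : act 0 n14359 = n14359 := d2_1 D14359 (iv D14359) F53024
theorem F56695 : act 5 n14359 = n13449 := d22_2 (iv F53027) D14359 (iv D13449)
theorem F56696 : act 8 n14359 = n13573 := d25_2 (iv F53028) D14359 (iv D13573)
def n14360 : Q := act 2 n13449
theorem D14360 : act 2 n13449 = n14360 := rfl
theorem F56697 : act 0 n14360 = n14360 := d1_1 D14360 (iv D14360) F53029
theorem F56698 : act 3 n14360 = n13453 := d15_2 D13449 D14360 (iv D13453) (iv D12460) (iv F49037)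
theorem F56699 : act 6 n14360 = n13462 := d18_2 (iv F53030) D14360 (iv D13462)
theorem F56700 : act 8 n14360 = n13574 := d20_2 (iv F53031) D14360 (iv D13574)
def n14361 : Q := act 4 n13449
theorem D14361 : act 4 n13449 = n14361 := rfl
theorem F56701 : act 0 n14361 = n14361 := d3_1 D14361 (iv D14361) F53029
theorem F56702 : act 3 n14361 = n13450 := d21_1 D14361 (iv D13450) (iv D12457) (iv F49038) D13449
theorem F56703 : act 6 n14361 = n13463 := d27_2 (iv F53030) D14361 (iv D13463)
theorem F56704 : act 8 n14361 = n13575 := d29_2 (iv F53031) D14361 (iv D13575)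
theorem F56705 : act 5 n14321 = n14361 := d32_3 F56704 (iv F53595) D14321
def n14362 : Q := act 2 n13452
theorem D14362 : act 2 n13452 = n14362 := rfl
theorem F56706 : act 0 n14362 = n14362 := d1_1 D14362 (iv D14362) F53043
theorem F56707 : act 5 n14362 = n13453 := d17_2 (iv F53045) D14362 (iv D13453)
theorem F56708 : act 7 n14362 = n13711 := d19_2 (iv F53046) D14362 (iv D13711)
theorem F56709 : act 8 n14362 = n13576 := d20_2 (iv F53047) D14362 (iv D13576)
def n14363 : Q := act 1 n13453
theorem D14363 : act 1 n13453 = n14363 := rfl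
theorem F56710 : act 2 n14363 = n13480 := d8_2 D13453 D14363 (iv D13480) (iv D12496) (iv F49059)
theorem F56711 : act 4 n14363 = n14363 := d10_2 F53049 D14363 (iv D14363)
theorem F56712 : act 6 n14363 = n13464 := d12_2 (iv F53050) D14363 (iv D13464)
theorem F56713 : act 7 n14363 = n13713 := d13_2 (iv F53051) D14363 (iv D13713)
theorem F56714 : act 8 n14363 = n13577 := d14_2 (iv F53052) D14363 (iv D13577)
def n14364 : Q := act 7 n13454
theorem D14364 : act 7 n13454 = n14364 := rfl
theorem F56715 : act 0 n14364 = n14364 := d6_1 D14364 (iv D14364) F53053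
theorem F56716 : act 4 n14364 = n13457 := d28_1 D14364 (iv D13457) (iv F53055)
def n14365 : Q := act 7 n13455
theorem D14365 : act 7 n13455 = n14365 := rfl
theorem F56717 : act 0 n14365 = n14365 := d6_1 D14365 (iv D14365) F53056
theorem F56718 : act 6 n14365 = n13457 := d33_1 D14365 (iv D13457) (iv F53058)
theorem F56719 : act 8 n14365 = n14364 := d35_2 D13455 D14365 (iv D14364) (iv D13454) F49068
def n14366 : Q := act 7 n13456
theorem D14366 : act 7 n13456 = n14366 := rfl
theorem F56720 : act 0 n14366 = n14366 := d6_1 D14366 (iv D14366) F53059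
theorem F56721 : act 4 n14366 = n14365 := d28_1 D14366 (iv D14365) (iv F53061)
theorem F56722 : act 5 n14366 = n13458 := d31_1 D14366 (iv D13458) (iv F53062)
theorem F56723 : act 6 n14366 = n14364 := d33_1 D14366 (iv D14364) (iv F53063)
theorem F56724 : act 8 n14366 = n13457 := d35_2 D13456 D14366 (iv D13457) (iv D12464) D12463
def n14367 : Q := act 3 n13457
theorem D14367 : act 3 n13457 = n14367 := rfl
theorem F56725 : act 0 n14367 = n14367 := d2_1 D14367 (iv D14367) F53064
theorem F56726 : act 5 n14367 = n13459 := d22_2 (iv F53065) D14367 (iv D13459)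
theorem F56727 : act 7 n14367 = n13461 := d24_2 D13457 D14367 (iv D13461) (iv D12468) (iv F49075)
theorem F56728 : act 2 n14311 = n14367 := d19_3 F56727 F53076 D14311
theorem F56729 : act 4 n14310 = n14367 := d28_3 F56727 F53077 D14310
def n14368 : Q := act 3 n13458
theorem D14368 : act 3 n13458 = n14368 := rfl
theorem F56730 : act 0 n14368 = n14368 := d2_1 D14368 (iv D14368) F53066
theorem F56731 : act 7 n14368 = n13580 := d24_2 D13458 D14368 (iv D13580) (iv D12618) (iv F49078)
theorem F56732 : act 8 n14368 = n13459 := d25_2 (iv F53067) D14368 (iv D13459)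
def n14369 : Q := act 2 n13459
theorem D14369 : act 2 n13459 = n14369 := rfl
theorem F56733 : act 0 n14369 = n14369 := d1_1 D14369 (iv D14369) F53068
theorem F56734 : act 5 n14369 = n14311 := d17_2 F56726 D14369 F56728
theorem F56735 : act 7 n14369 = n13462 := d19_2 (iv F53069) D14369 (iv D13462)
def n14370 : Q := act 4 n13459
theorem D14370 : act 4 n13459 = n14370 := rfl
theorem F56736 : act 0 n14370 = n14370 := d3_1 D14370 (iv D14370) F53068
theorem F56737 : act 5 n14370 = n14312 := d26_2 F56726 D14370 F56492 (iv F56485) F56729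
theorem F56738 : act 7 n14370 = n13463 := d28_2 (iv F53069) D14370 (iv D13463)
def n14371 : Q := act 3 n13460
theorem D14371 : act 3 n13460 = n14371 := rfl
theorem F56739 : act 0 n14371 = n14371 := d2_1 D14371 (iv D14371) F53070
theorem F56740 : act 2 n14371 = n14308 := d15_1 D14371 F56476 F53513 F50350 (iv F53071)
theorem F56741 : act 4 n14371 = n13989 := d21_2 (iv F53072) D14371 F55284 F53121 (iv D13469)
theorem F56742 : act 6 n14371 = n13461 := d23_2 (iv F53073) D14371 (iv D13461)
theorem F56743 : act 8 n14371 = n13581 := d25_2 (iv F53074) D14371 (iv D13581)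
def n14372 : Q := act 1 n13462
theorem D14372 : act 1 n13462 = n14372 := rfl
theorem F56744 : act 3 n14372 = n13464 := d9_2 (iv F53081) D14372 (iv D13464)
theorem F56745 : act 5 n14372 = n14157 := d11_2 (iv F53082) D14372 F55973
theorem F56746 : act 8 n14372 = n13582 := d14_2 (iv F53083) D14372 (iv D13582)
def n14373 : Q := act 3 n13465
theorem D14373 : act 3 n13465 = n14373 := rfl
theorem F56747 : act 0 n14373 = n14373 := d2_1 D14373 (iv D14373) F53091
theorem F56748 : act 4 n14373 = n13992 := d21_2 (iv F53093) D14373 F55299 F53114 (iv D13468)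
theorem F56749 : act 6 n14373 = n13999 := d23_2 F53613 D14373 F55324
theorem F56750 : act 8 n14373 = n13991 := d25_2 F53608 D14373 F55294
theorem F56751 : act 2 n13994 = n14373 := d20_3 F56750 F55293 D13994
def n14374 : Q := act 8 n13470
theorem D14374 : act 8 n13470 = n14374 := rfl
theorem F56752 : act 0 n14374 = n13473 := d7_1 D14374 (iv D13473) (iv F53122)
theorem F56753 : act 1 n14374 = n13481 := d14_1 D14374 (iv D13481) (iv F53123)
theorem F56754 : act 4 n14374 = n14374 := d29_1 D14374 (iv D14374) F53124
theorem F56755 : act 5 n14374 = n13606 := d32_1 D14374 (iv D13606) (iv F53125)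
theorem F56756 : act 6 n14374 = n13471 := d34_1 D14374 (iv D13471) D13470
def n14375 : Q := act 7 n13471
theorem D14375 : act 7 n13471 = n14375 := rfl
theorem F56757 : act 0 n14375 = n13474 := d6_1 D14375 (iv D13474) (iv F53127)
theorem F56758 : act 1 n14375 = n13482 := d13_1 D14375 (iv D13482) (iv F53128)
theorem F56759 : act 4 n14375 = n14375 := d28_1 D14375 (iv D14375) F53129
theorem F56760 : act 5 n14375 = n13472 := d31_1 D14375 (iv D13472) (iv F53130)
theorem F56761 : act 8 n14375 = n14375 := d35_2 D13471 D14375 (iv D14375) (iv D13471) F49147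
def n14376 : Q := act 3 n13472
theorem D14376 : act 3 n13472 = n14376 := rfl
theorem F56762 : act 0 n14376 = n13475 := d2_1 D14376 (iv D13475) (iv F53131)
theorem F56763 : act 1 n14376 = n13483 := d9_1 D14376 (iv D13483) (iv F53132)
theorem F56764 : act 6 n14376 = n13608 := d23_2 (iv F53134) D14376 (iv D13608)
theorem F56765 : act 8 n14376 = n14376 := d25_2 F53135 D14376 (iv D14376)
def n14377 : Q := act 7 n13473
theorem D14377 : act 7 n13473 = n14377 := rfl
theorem F56766 : act 1 n14377 = n13476 := d13_1 D14377 (iv D13476) (iv F53136)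
theorem F56767 : act 4 n14377 = n14377 := d28_1 D14377 (iv D14377) F53137
theorem F56768 : act 5 n14377 = n13669 := d31_1 D14377 (iv D13669) (iv F53138)
theorem F56769 : act 6 n14377 = n13474 := d33_1 D14377 (iv D13474) (iv F53139)
theorem F56770 : act 8 n14377 = n14377 := d35_2 D13473 D14377 (iv D14377) (iv D13473) F49160
def n14378 : Q := act 3 n13474
theorem D14378 : act 3 n13474 = n14378 := rfl
theorem F56771 : act 1 n14378 = n13477 := d9_1 D14378 (iv D13477) (iv F53140)
theorem F56772 : act 5 n14378 = n13475 := d22_2 (iv F53142) D14378 (iv D13475)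
theorem F56773 : act 8 n14378 = n14378 := d25_2 F53143 D14378 (iv D14378)
def n14379 : Q := act 2 n13475
theorem D14379 : act 2 n13475 = n14379 := rfl
theorem F56774 : act 6 n14379 = n13671 := d18_2 (iv F53145) D14379 (iv D13671)
theorem F56775 : act 8 n14379 = n14379 := d20_2 F53146 D14379 (iv D14379)
def n14380 : Q := act 4 n13477
theorem D14380 : act 4 n13477 = n14380 := rfl
theorem F56776 : act 0 n14380 = n13486 := d3_1 D14380 F53191 (iv F53153)
theorem F56777 : act 2 n14380 = n13483 := d16_1 D14380 (iv F54470) F54469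
theorem F56778 : act 3 n14380 = n14380 := d21_1 D14380 (iv D14380) (iv D13477) F49175 D13477
theorem F56779 : act 6 n14380 = n13628 := d27_2 F54483 D14380 (iv F54481)
theorem F56780 : act 8 n14380 = n14380 := d29_2 F53155 D14380 (iv D14380)
def n14381 : Q := act 1 n13478
theorem D14381 : act 1 n13478 = n14381 := rfl
theorem F56781 : act 3 n14381 = n13479 := d9_2 (iv F53157) D14381 (iv D13479)
theorem F56782 : act 6 n14381 = n13689 := d12_2 (iv F53158) D14381 (iv D13689)
theorem F56783 : act 8 n14381 = n14381 := d14_2 F53159 D14381 (iv D14381)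
def n14382 : Q := act 7 n13481
theorem D14382 : act 7 n13481 = n14382 := rfl
theorem F56784 : act 0 n14382 = n13484 := d6_1 D14382 (iv D13484) (iv F53168)
theorem F56785 : act 2 n14382 = n14382 := d19_1 D14382 (iv D14382) F53169
theorem F56786 : act 4 n14382 = n14382 := d28_1 D14382 (iv D14382) F53170
theorem F56787 : act 5 n14382 = n13626 := d31_1 D14382 (iv D13626) (iv F53171)
theorem F56788 : act 6 n14382 = n13482 := d33_1 D14382 (iv D13482) (iv F53172)
theorem F56789 : act 8 n14382 = n14382 := d35_2 D13481 D14382 (iv D14382) (iv D13481) F49215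
def n14383 : Q := act 3 n13482
theorem D14383 : act 3 n13482 = n14383 := rfl
theorem F56790 : act 0 n14383 = n13485 := d2_1 D14383 (iv D13485) (iv F53173)
theorem F56791 : act 5 n14383 = n13483 := d22_2 (iv F53176) D14383 (iv D13483)
theorem F56792 : act 8 n14383 = n14383 := d25_2 F53177 D14383 (iv D14383)
def n14384 : Q := act 3 n13489
theorem D14384 : act 3 n13489 = n14384 := rfl
theorem F56793 : act 0 n14384 = n13523 := d2_1 D14384 (iv D13523) (iv F53207)
theorem F56794 : act 1 n14384 = n13575 := d9_1 D14384 F53593 (iv F53208)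
theorem F56795 : act 4 n14384 = n13493 := d21_2 D13489 D14384 (iv D13493) (iv D12512) (iv F49258)
theorem F56796 : act 5 n14384 = n14203 := d22_2 F53405 D14384 F56138
theorem F56797 : act 6 n14384 = n13553 := d23_2 (iv F53210) D14384 F53495
def n14385 : Q := act 8 n13490
theorem D14385 : act 8 n13490 = n14385 := rfl
theorem F56798 : act 0 n14385 = n13528 := d7_1 D14385 (iv D13528) (iv F53212)
theorem F56799 : act 1 n14385 = n14385 := d14_1 D14385 (iv D14385) F53213
theorem F56800 : act 4 n14385 = n14385 := d29_1 D14385 (iv D14385) F53214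
theorem F56801 : act 5 n14385 = n13491 := d32_1 D14385 (iv D13491) D13490
def n14386 : Q := act 7 n13491
theorem D14386 : act 7 n13491 = n14386 := rfl
theorem F56802 : act 0 n14386 = n13529 := d6_1 D14386 (iv D13529) (iv F53216)
theorem F56803 : act 1 n14386 = n14386 := d13_1 D14386 (iv D14386) F53217
theorem F56804 : act 2 n14386 = n14339 := d19_1 D14386 F56604 F56325
theorem F56805 : act 4 n14386 = n13492 := d28_1 D14386 (iv D13492) (iv F53218)
theorem F56806 : act 6 n14386 = n13920 := d33_1 D14386 (iv F56045) F56044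
theorem F56807 : act 8 n14386 = n14386 := d35_2 D13491 D14386 (iv D14386) (iv D13491) F49265
def n14387 : Q := act 5 n13493
theorem D14387 : act 5 n13493 = n14387 := rfl
theorem F56808 : act 0 n14387 = n13530 := d4_1 D14387 (iv D13530) (iv F53226)
theorem F56809 : act 1 n14387 = n13573 := d11_1 D14387 F53588 (iv F53227)
theorem F56810 : act 3 n14387 = n13494 := d22_1 D14387 (iv D13494) D13493
def n14388 : Q := act 7 n13493
theorem D14388 : act 7 n13493 = n14388 := rfl
theorem F56811 : act 0 n14388 = n13531 := d6_1 D14388 (iv D13531) (iv F53226)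
theorem F56812 : act 1 n14388 = n13571 := d13_1 D14388 F53581 (iv F53227)
theorem F56813 : act 3 n14388 = n13497 := d24_1 D14388 (iv D13497) (iv D12514) (iv F49274) D13493
theorem F56814 : act 6 n14388 = n13549 := d33_1 D14388 F53485 (iv F53228)
def n14389 : Q := act 6 n13494
theorem D14389 : act 6 n13494 = n14389 := rfl
theorem F56815 : act 0 n14389 = n13533 := d5_1 D14389 (iv D13533) (iv F53229)
theorem F56816 : act 1 n14389 = n13572 := d12_1 D14389 F53586 (iv F53230)
theorem F56817 : act 2 n14389 = n13495 := d18_1 D14389 (iv D13495) (iv F53231)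
theorem F56818 : act 4 n14389 = n14389 := d27_1 D14389 (iv D14389) F53232
theorem F56819 : act 5 n14389 = n13550 := d30_1 D14389 F53489 F49542 (iv F49273) D13494
theorem F56820 : act 7 n14389 = n13498 := d33_2 (iv F53233) D14389 (iv D13498)
def n14390 : Q := act 4 n13496
theorem D14390 : act 4 n13496 = n14390 := rfl
theorem F56821 : act 0 n14390 = n13536 := d3_1 D14390 (iv D13536) (iv F53239)
theorem F56822 : act 1 n14390 = n13566 := d10_1 D14390 F53557 (iv F53240)
theorem F56823 : act 2 n14390 = n13502 := d16_1 D14390 (iv D13502) (iv F53241)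
theorem F56824 : act 3 n14390 = n14390 := d21_1 D14390 (iv D14390) F53242 F49288 (iv F53242)
theorem F56825 : act 5 n14390 = n14390 := d26_2 D13496 D14390 (iv D14390) (iv D13496) F49282
theorem F56826 : act 8 n14390 = n13540 := d29_2 (iv F53243) D14390 (iv D13540)
theorem F56827 : act 7 n13773 = n14390 := d37_0 F56825 (iv D14390) F53242 F49287 F45223 F41651 (iv F41687) (iv D10565) (iv D9177) (iv D6687) F18990 F18989 (iv F19258) (iv D4954) F14283 (iv F17929) (iv D4582) F13314 (iv F12224) F12223 D3071 (iv F13279) F13278 F9914 (iv F13264) (iv F17663) (iv F23764) (iv D6153) (iv D4499) F13106 F12166 (iv D3044) F9116 F7358 D1781 (iv F9862) (iv F13202) D4540 D6212 D8515 D10303 F40704 (iv F43032) (iv F46425) F46424 F45337 (iv F49386) F49385 (iv D11577) F41847 (iv F45495) (iv F49309) (iv F53267) F53266 F53265 (iv F52590) F52589 F48620 (iv F48644) (iv F51166) F51165 (iv F54302)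
theorem F56828 : act 6 n14390 = n13674 := d33_1 F56827 (iv F53903) D13773
def n14391 : Q := act 6 n13496
theorem D14391 : act 6 n13496 = n14391 := rfl
theorem F56829 : act 0 n14391 = n13537 := d5_1 D14391 (iv D13537) (iv F53239)
theorem F56830 : act 1 n14391 = n13567 := d12_1 D14391 F53565 (iv F53240)
theorem F56831 : act 2 n14391 = n13503 := d18_1 D14391 (iv D13503) (iv F53241)
theorem F56832 : act 3 n14391 = n13498 := d23_1 D14391 (iv D13498) (iv F53242)
theorem F56833 : act 4 n14391 = n13674 := d27_1 D14391 (iv F56828) (iv D14390)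
theorem F56834 : act 5 n14391 = n13545 := d30_1 D14391 F53474 F49530 (iv F49283) D13496
theorem F56835 : act 8 n14391 = n13541 := d34_2 (iv F53243) D14391 (iv D13541)
theorem F56836 : act 7 n13772 = n14391 := d31_0 F56834 (iv F55460) F55458
def n14392 : Q := act 7 n13496
theorem D14392 : act 7 n13496 = n14392 := rfl
theorem F56837 : act 0 n14392 = n13538 := d6_1 D14392 (iv D13538) (iv F53239)
theorem F56838 : act 1 n14392 = n13569 := d13_1 D14392 (iv D13569) (iv F53240)
theorem F56839 : act 2 n14392 = n13504 := d19_1 D14392 (iv D13504) (iv F53241)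
theorem F56840 : act 4 n14392 = n13773 := d28_1 D14392 F56827 (iv D14390)
theorem F56841 : act 5 n14392 = n13497 := d31_1 D14392 (iv D13497) D13496
theorem F56842 : act 6 n14392 = n13772 := d33_1 D14392 F56836 (iv D14391)
def n14393 : Q := act 8 n13497
theorem D14393 : act 8 n13497 = n14393 := rfl
theorem F56843 : act 0 n14393 = n13539 := d7_1 D14393 (iv D13539) (iv F53244)
theorem F56844 : act 1 n14393 = n13570 := d14_1 D14393 F53578 (iv F53245)
theorem F56845 : act 2 n14393 = n13506 := d20_1 D14393 (iv D13506) (iv F53246)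
theorem F56846 : act 4 n14393 = n14393 := d29_1 D14393 (iv D14393) F53247
theorem F56847 : act 6 n14393 = n13548 := d34_1 D14393 F53483 (iv F53248)
theorem F56848 : act 7 n14393 = n13543 := d35_1 D14393 (iv D13543) (iv D12567) (iv F49284) D13497
def n14394 : Q := act 4 n13499
theorem D14394 : act 4 n13499 = n14394 := rfl
theorem F56849 : act 0 n14394 = n13540 := d3_1 D14394 (iv D13540) (iv F53255)
theorem F56850 : act 1 n14394 = n14394 := d10_1 D14394 (iv D14394) F53256
theorem F56851 : act 2 n14394 = n13544 := d16_1 D14394 F53468 (iv F53257)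
theorem F56852 : act 3 n14394 = n14394 := d21_1 D14394 (iv D14394) F53258 F49305 (iv F53258)
theorem F56853 : act 5 n14394 = n14394 := d26_2 D13499 D14394 (iv D14394) (iv D13499) F49299
theorem F56854 : act 8 n14394 = n13536 := d29_2 (iv F53259) D14394 (iv D13536)
theorem F56855 : act 7 n13610 = n14394 := d37_0 F56853 (iv D14394) F53258 F49304 F45233 F41656 (iv F40663) (iv D10293) (iv D8503) (iv D6202) F17754 F13203 (iv F38477) F10253 F7712 (iv F10150) F10149 (iv D2518) (iv F10133) (iv F13546) (iv F17963) (iv F23349) F23348 (iv D6046) (iv F23315) (iv F31491) (iv F39496) (iv D9998) F31327 (iv D6178) F17712 F14052 F14051 F10478 D2613 F10509 F7859 D2614 F10511 F10510 (iv F10649) (iv F13325) (iv F17942) D6281 (iv F32792) (iv F40986) (iv F44633) (iv F48749) (iv F52692) (iv F55111) F55110 F52742 (iv F52912) F52911 F48978 F48982 F48981 F46134 (iv F46167) F46166 (iv F50028) (iv F53717)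
theorem F56856 : act 6 n13611 = n14394 := d38_1 D13611 F56853 (iv D14394) F53258 F49304 F45233 (iv F44101) D12210 F48159 F44109 (iv F42876) (iv F46339) (iv F50363) F50367 (iv D12791) (iv D11784) (iv D10818) (iv D9965) (iv F31993) F31992 (iv D6130) F17561 D6129 D8396 F38768 F26219 (iv F35443) F40045 F40044 (iv F39023) (iv D7566) F21434 F15939 F15938 F11897 F11896 (iv D2980) F8901 (iv F8638) F8637 (iv F37937) (iv D1341) F4247 D1140 F37836 F6423 (iv F8553) (iv F11437) (iv D2856) (iv F9992) D3377 D4620 D6325 D8677 (iv F40721) D11238 (iv F47756) (iv F51592) (iv F51596) (iv F51778) F51777 F49830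
def n14395 : Q := act 6 n13499
theorem D14395 : act 6 n13499 = n14395 := rfl
theorem F56857 : act 0 n14395 = n13541 := d5_1 D14395 (iv D13541) (iv F53255)
theorem F56858 : act 1 n14395 = n14395 := d12_1 D14395 (iv D14395) F53256
theorem F56859 : act 2 n14395 = n13545 := d18_1 D14395 F53474 (iv F53257)
theorem F56860 : act 3 n14395 = n13501 := d23_1 D14395 (iv D13501) (iv F53258)
theorem F56861 : act 4 n14395 = n13611 := d27_1 D14395 F56856 (iv D14394)
theorem F56862 : act 5 n14395 = n13503 := d30_1 D14395 (iv D13503) (iv D12520) (iv F49300) D13499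
theorem F56863 : act 8 n14395 = n13537 := d34_2 (iv F53259) D14395 (iv D13537)
theorem F56864 : act 7 n13609 = n14395 := d31_0 F56862 (iv F53281) (iv F53716)
def n14396 : Q := act 7 n13499
theorem D14396 : act 7 n13499 = n14396 := rfl
theorem F56865 : act 0 n14396 = n13542 := d6_1 D14396 (iv D13542) (iv F53255)
theorem F56866 : act 1 n14396 = n14396 := d13_1 D14396 (iv D14396) F53256
theorem F56867 : act 2 n14396 = n13547 := d19_1 D14396 (iv D13547) (iv F53257)
theorem F56868 : act 4 n14396 = n13610 := d28_1 D14396 F56855 (iv D14394)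
theorem F56869 : act 5 n14396 = n13500 := d31_1 D14396 (iv D13500) D13499
theorem F56870 : act 6 n14396 = n13609 := d33_1 D14396 F56864 (iv D14395)
def n14397 : Q := act 8 n13500
theorem D14397 : act 8 n13500 = n14397 := rfl
theorem F56871 : act 0 n14397 = n13543 := d7_1 D14397 (iv D13543) (iv F53260)
theorem F56872 : act 1 n14397 = n14397 := d14_1 D14397 (iv D14397) F53261
theorem F56873 : act 2 n14397 = n13548 := d20_1 D14397 F53483 (iv F53262)
theorem F56874 : act 4 n14397 = n14397 := d29_1 D14397 (iv D14397) F53263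
theorem F56875 : act 6 n14397 = n13506 := d34_1 D14397 (iv D13506) (iv F53264)
theorem F56876 : act 7 n14397 = n13539 := d35_1 D14397 (iv D13539) (iv D12564) (iv F49301) D13500
def n14398 : Q := act 8 n13504
theorem D14398 : act 8 n13504 = n14398 := rfl
theorem F56877 : act 0 n14398 = n13546 := d7_1 D14398 (iv D13546) (iv F53282)
theorem F56878 : act 1 n14398 = n14398 := d14_1 D14398 (iv D14398) F53283
theorem F56879 : act 4 n14398 = n14112 := d29_1 D14398 (iv D14112) (iv F53284)
theorem F56880 : act 5 n14398 = n13506 := d32_1 D14398 (iv D13506) (iv F53285)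
theorem F56881 : act 6 n14398 = n14111 := d34_1 D14398 (iv D14111) (iv F53286)
def n14399 : Q := act 7 n13506
theorem D14399 : act 7 n13506 = n14399 := rfl
theorem F56882 : act 0 n14399 = n13548 := d6_1 D14399 (iv D13548) (iv F53292)
theorem F56883 : act 1 n14399 = n14399 := d13_1 D14399 (iv D14399) F53293
theorem F56884 : act 2 n14399 = n13543 := d19_1 D14399 (iv F56848) F56845
theorem F56885 : act 4 n14399 = n14399 := d28_1 D14399 (iv D14399) F53294
theorem F56886 : act 6 n14399 = n13539 := d33_1 D14399 (iv F56876) F56875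
theorem F56887 : act 8 n14399 = n13507 := d35_2 D13506 D14399 (iv D13507) (iv D12522) D12521
def n14400 : Q := act 3 n13507
theorem D14400 : act 3 n13507 = n14400 := rfl
theorem F56888 : act 0 n14400 = n13549 := d2_1 D14400 (iv D13549) (iv F53295)
theorem F56889 : act 1 n14400 = n14400 := d9_1 D14400 (iv D14400) F53296
theorem F56890 : act 6 n14400 = n13531 := d23_2 (iv F53299) D14400 F53416
theorem F56891 : act 7 n14400 = n13510 := d24_2 D13507 D14400 (iv D13510) (iv D12525) (iv F49322)
def n14401 : Q := act 7 n13508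
theorem D14401 : act 7 n13508 = n14401 := rfl
theorem F56892 : act 0 n14401 = n13550 := d6_1 D14401 (iv D13550) (iv F53300)
theorem F56893 : act 1 n14401 = n14401 := d13_1 D14401 (iv D14401) F53301
theorem F56894 : act 2 n14401 = n13512 := d19_1 D14401 (iv D13512) (iv F53302)
theorem F56895 : act 4 n14401 = n13515 := d28_1 D14401 (iv D13515) (iv F53303)
theorem F56896 : act 5 n14401 = n13533 := d31_1 D14401 F53422 (iv F53304)
theorem F56897 : act 6 n14401 = n13509 := d33_1 D14401 (iv D13509) (iv F53305)
def n14402 : Q := act 3 n13509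
theorem D14402 : act 3 n13509 = n14402 := rfl
theorem F56898 : act 0 n14402 = n13551 := d2_1 D14402 (iv D13551) (iv F53306)
theorem F56899 : act 1 n14402 = n14402 := d9_1 D14402 (iv D14402) F53307
theorem F56900 : act 4 n14402 = n14039 := d21_2 (iv F53309) D14402 (iv D14039) F51879 F49452
theorem F56901 : act 5 n14402 = n13510 := d22_2 (iv F53310) D14402 (iv D13510)
def n14403 : Q := act 4 n13510
theorem D14403 : act 4 n13510 = n14403 := rfl
theorem F56902 : act 0 n14403 = n13553 := d3_1 D14403 (iv D13553) (iv F53311)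
theorem F56903 : act 1 n14403 = n14403 := d10_1 D14403 (iv D14403) F53312
theorem F56904 : act 3 n14403 = n13511 := d21_1 D14403 (iv D13511) (iv D12526) (iv F49337) D13510
theorem F56905 : act 5 n14403 = n14042 := d26_2 F56901 D14403 (iv D14042) (iv F55527) (iv F56900)
theorem F56906 : act 6 n14403 = n13523 := d27_2 (iv F53313) D14403 F53386
def n14404 : Q := act 7 n13516
theorem D14404 : act 7 n13516 = n14404 := rfl
theorem F56907 : act 0 n14404 = n13907 := d6_1 D14404 (iv D13907) (iv F53345)
theorem F56908 : act 1 n14404 = n13561 := d13_1 D14404 (iv D13561) (iv F53346)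
theorem F56909 : act 2 n14404 = n13762 := d19_1 D14404 (iv D13762) (iv F53347)
theorem F56910 : act 4 n14404 = n13517 := d28_1 D14404 (iv D13517) (iv F53348)
theorem F56911 : act 5 n14404 = n14351 := d31_1 D14404 F56657 (iv F53349)
theorem F56912 : act 6 n14404 = n13768 := d33_1 D14404 (iv D13768) (iv F53350)
theorem F56913 : act 8 n14404 = n14404 := d35_2 D13516 D14404 (iv D14404) (iv D13516) F49407
def n14405 : Q := act 8 n13518
theorem D14405 : act 8 n13518 = n14405 := rfl
theorem F56914 : act 0 n14405 = n13846 := d7_1 D14405 (iv D13846) (iv F53358)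
theorem F56915 : act 1 n14405 = n14405 := d14_1 D14405 (iv D14405) F53359
theorem F56916 : act 2 n14405 = n13734 := d20_1 D14405 (iv D13734) (iv F53360)
theorem F56917 : act 4 n14405 = n14184 := d29_1 D14405 F56085 F53372
theorem F56918 : act 5 n14405 = n13519 := d32_1 D14405 (iv D13519) (iv F53361)
theorem F56919 : act 6 n14405 = n14040 := d34_1 D14405 (iv D14040) (iv F53362)
theorem F56920 : act 7 n14405 = n14005 := d35_1 D14405 (iv D14005) F51619 (iv F49419) D13518
def n14406 : Q := act 7 n13521
theorem D14406 : act 7 n13521 = n14406 := rfl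
theorem F56921 : act 0 n14406 = n13920 := d6_1 D14406 (iv F56045) F56040
theorem F56922 : act 1 n14406 = n13562 := d13_1 D14406 (iv D13562) (iv F53375)
theorem F56923 : act 4 n14406 = n13522 := d28_1 D14406 (iv D13522) (iv F53376)
theorem F56924 : act 5 n14406 = n13668 := d31_1 D14406 F53881 (iv F53377)
theorem F56925 : act 6 n14406 = n13529 := d33_1 D14406 (iv D13529) (iv F53378)
theorem F56926 : act 8 n14406 = n14406 := d35_2 D13521 D14406 (iv D14406) (iv D13521) F49463
def n14407 : Q := act 5 n13523
theorem D14407 : act 5 n13523 = n14407 := rfl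
theorem F56927 : act 0 n14407 = n14203 := d4_1 D14407 (iv F56796) F56793
theorem F56928 : act 1 n14407 = n14407 := d11_1 D14407 (iv D14407) F53385
theorem F56929 : act 3 n14407 = n13524 := d22_1 D14407 (iv D13524) D13523
theorem F56930 : act 6 n14407 = n14047 := d30_2 F56906 D14407 (iv D14047) (iv F55541) (iv F56905)
def n14408 : Q := act 7 n13523
theorem D14408 : act 7 n13523 = n14408 := rfl
theorem F56931 : act 1 n14408 = n14408 := d13_1 D14408 (iv D14408) F53385
theorem F56932 : act 3 n14408 = n14408 := d24_1 D14408 (iv D14408) (iv D13523) F49470 D13523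
theorem F56933 : act 4 n14408 = n13531 := d28_1 D14408 (iv D13531) (iv F53386)
def n14409 : Q := act 8 n13523
theorem D14409 : act 8 n13523 = n14409 := rfl
theorem F56934 : act 1 n14409 = n14409 := d14_1 D14409 (iv D14409) F53385
theorem F56935 : act 3 n14409 = n13525 := d25_1 D14409 (iv D13525) D13523
theorem F56936 : act 4 n14409 = n13532 := d29_1 D14409 (iv D13532) (iv F53386)
def n14410 : Q := act 8 n13524
theorem D14410 : act 8 n13524 = n14410 := rfl
theorem F56937 : act 1 n14410 = n14410 := d14_1 D14410 (iv D14410) F53387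
theorem F56938 : act 2 n14410 = n13528 := d20_1 D14410 (iv D13528) (iv F53388)
theorem F56939 : act 4 n14410 = n14410 := d29_1 D14410 (iv D14410) F53389
theorem F56940 : act 5 n14410 = n13525 := d32_1 D14410 (iv D13525) D13524
theorem F56941 : act 6 n14410 = n14385 := d34_1 D14410 (iv D14385) (iv F53390)
def n14411 : Q := act 7 n13525
theorem D14411 : act 7 n13525 = n14411 := rfl
theorem F56942 : act 0 n14411 = n14339 := d6_1 D14411 F56604 F56323
theorem F56943 : act 1 n14411 = n14411 := d13_1 D14411 (iv D14411) F53392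
theorem F56944 : act 2 n14411 = n13529 := d19_1 D14411 (iv D13529) (iv F53393)
theorem F56945 : act 4 n14411 = n13526 := d28_1 D14411 (iv D13526) (iv F53394)
theorem F56946 : act 8 n14411 = n14411 := d35_2 D13525 D14411 (iv D14411) (iv D13525) F49470
def n14412 : Q := act 8 n13527
theorem D14412 : act 8 n13527 = n14412 := rfl
theorem F56947 : act 0 n14412 = n14410 := d7_1 D14412 (iv D14410) (iv F53401)
theorem F56948 : act 1 n14412 = n13563 := d14_1 D14412 (iv D13563) (iv F53402)
theorem F56949 : act 2 n14412 = n14385 := d20_1 D14412 (iv D14385) (iv F53403)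
theorem F56950 : act 4 n14412 = n14412 := d29_1 D14412 (iv D14412) F53404
theorem F56951 : act 5 n14412 = n14266 := d32_1 D14412 F56327 (iv F53405)
theorem F56952 : act 6 n14412 = n13528 := d34_1 D14412 (iv D13528) D13527
def n14413 : Q := act 7 n13528
theorem D14413 : act 7 n13528 = n14413 := rfl
theorem F56953 : act 1 n14413 = n13564 := d13_1 D14413 (iv D13564) (iv F53407)
theorem F56954 : act 4 n14413 = n14413 := d28_1 D14413 (iv D14413) F53408
theorem F56955 : act 5 n14413 = n13529 := d31_1 D14413 (iv D13529) (iv F53409)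
theorem F56956 : act 8 n14413 = n14413 := d35_2 D13528 D14413 (iv D14413) (iv D13528) F49477
def n14414 : Q := act 3 n13529
theorem D14414 : act 3 n13529 = n14414 := rfl
theorem F56957 : act 1 n14414 = n13565 := d9_1 D14414 (iv D13565) (iv F53410)
theorem F56958 : act 8 n14414 = n14414 := d25_2 F53412 D14414 (iv D14414)
def n14415 : Q := act 4 n13530
theorem D14415 : act 4 n13530 = n14415 := rfl
theorem F56959 : act 1 n14415 = n14415 := d10_1 D14415 (iv D14415) F53413
theorem F56960 : act 3 n14415 = n14415 := d21_1 D14415 (iv D14415) F53414 F49486 (iv F53414)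
def n14416 : Q := act 6 n13530
theorem D14416 : act 6 n13530 = n14416 := rfl
theorem F56961 : act 1 n14416 = n14416 := d12_1 D14416 (iv D14416) F53413
theorem F56962 : act 3 n14416 = n13533 := d23_1 D14416 (iv D13533) (iv F53414)
theorem F56963 : act 7 n13911 = n14416 := d24_0 F56962 F53422 (iv F53438) (iv F53440) (iv F54929)
theorem F56964 : act 4 n13913 = n14416 := d37_2 D12966 (iv F54934) F56962 F53420 F49491 F45563 F41891 (iv F41704) F41703 F34834 F34833 F34832 (iv F35312) D10625 F41880 (iv F45573) (iv F46639) F46638 (iv F46529) F46528 (iv F46989) D12936 F51038 F48541 (iv F49485) F49484 (iv F53229) F53233 (iv D12515) (iv D11494) F41576 (iv D10540) F34616 F25601 (iv F25664) F25663 D9177 (iv F40626) (iv F44175) (iv F47369) (iv F51308) F51313 (iv F51261) F51260 F48729 F45564 (iv F49491) (iv F53234) F53238 F49294 F45495 F41846 (iv F45532) F45531 F42075 D11630 F45787 (iv F49729) D13581 F53618 F52818 F50548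
theorem F56965 : act 6 n14415 = n13913 := d27_0 F56964 (iv D14416) D14415
theorem F56966 : act 7 n13912 = n14415 := d33_0 F56965 (iv D13913) D13912
def n14417 : Q := act 7 n13530
theorem D14417 : act 7 n13530 = n14417 := rfl
theorem F56967 : act 1 n14417 = n14417 := d13_1 D14417 (iv D14417) F53413
theorem F56968 : act 3 n14417 = n13538 := d24_1 D14417 (iv D13538) F49499 (iv F49487) (iv F53414)
theorem F56969 : act 4 n14417 = n13912 := d28_1 D14417 F56966 (iv D14415)
theorem F56970 : act 5 n14417 = n13531 := d31_1 D14417 (iv D13531) D13530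
theorem F56971 : act 6 n14417 = n13911 := d33_1 D14417 F56963 (iv D14416)
def n14418 : Q := act 8 n13530
theorem D14418 : act 8 n13530 = n14418 := rfl
theorem F56972 : act 1 n14418 = n14418 := d14_1 D14418 (iv D14418) F53413
theorem F56973 : act 3 n14418 = n13534 := d25_1 D14418 (iv D13534) (iv F53414)
theorem F56974 : act 5 n14418 = n13532 := d32_1 D14418 (iv D13532) D13530
def n14419 : Q := act 8 n13531
theorem D14419 : act 8 n13531 = n14419 := rfl
theorem F56975 : act 1 n14419 = n14419 := d14_1 D14419 (iv D14419) F53415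
theorem F56976 : act 3 n14419 = n13539 := d25_1 D14419 (iv D13539) (iv F53416)
def n14420 : Q := act 7 n13532
theorem D14420 : act 7 n13532 = n14420 := rfl
theorem F56977 : act 1 n14420 = n14420 := d13_1 D14420 (iv D14420) F53417
def n14421 : Q := act 8 n13533
theorem D14421 : act 8 n13533 = n14421 := rfl
theorem F56978 : act 1 n14421 = n14421 := d14_1 D14421 (iv D14421) F53419
theorem F56979 : act 2 n14421 = n13535 := d20_1 D14421 (iv D13535) (iv F53420)
theorem F56980 : act 4 n14421 = n14421 := d29_1 D14421 (iv D14421) F53421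
theorem F56981 : act 6 n14421 = n13534 := d34_1 D14421 (iv D13534) D13533
def n14422 : Q := act 8 n13538
theorem D14422 : act 8 n13538 = n14422 := rfl
theorem F56982 : act 1 n14422 = n14422 := d14_1 D14422 (iv D14422) F53441
theorem F56983 : act 2 n14422 = n13546 := d20_1 D14422 (iv D13546) (iv F53442)
theorem F56984 : act 4 n14422 = n13925 := d29_1 D14422 (iv D13925) (iv F53443)
theorem F56985 : act 5 n14422 = n13539 := d32_1 D14422 (iv D13539) (iv F53444)
theorem F56986 : act 6 n14422 = n13924 := d34_1 D14422 (iv D13924) (iv F53445)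
def n14423 : Q := act 8 n13542
theorem D14423 : act 8 n13542 = n14423 := rfl
theorem F56987 : act 1 n14423 = n13568 := d14_1 D14423 (iv D13568) (iv F53459)
theorem F56988 : act 4 n14423 = n13673 := d29_1 D14423 (iv D13673) (iv F53460)
theorem F56989 : act 5 n14423 = n13543 := d32_1 D14423 (iv D13543) (iv F53461)
theorem F56990 : act 6 n14423 = n13672 := d34_1 D14423 (iv D13672) (iv F53462)
def n14424 : Q := act 7 n13546
theorem D14424 : act 7 n13546 = n14424 := rfl
theorem F56991 : act 1 n14424 = n13579 := d13_1 D14424 (iv D13579) (iv F53475)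
theorem F56992 : act 4 n14424 = n14281 := d28_1 D14424 (iv D14281) (iv F53476)
theorem F56993 : act 5 n14424 = n13548 := d31_1 D14424 (iv D13548) (iv F53477)
theorem F56994 : act 6 n14424 = n14280 := d33_1 D14424 (iv D14280) (iv F53478)
theorem F56995 : act 8 n14424 = n13547 := d35_2 D13546 D14424 (iv D13547) (iv D12572) D12571
def n14425 : Q := act 3 n13548
theorem D14425 : act 3 n13548 = n14425 := rfl
theorem F56996 : act 1 n14425 = n13580 := d9_1 D14425 (iv D13580) (iv F53481)
theorem F56997 : act 8 n14425 = n13549 := d25_2 (iv F53483) D14425 (iv D13549)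
def n14426 : Q := act 2 n13549
theorem D14426 : act 2 n13549 = n14426 := rfl
theorem F56998 : act 7 n14426 = n13552 := d19_2 (iv F53485) D14426 (iv D13552)
def n14427 : Q := act 3 n13550
theorem D14427 : act 3 n13550 = n14427 := rfl
theorem F56999 : act 1 n14427 = n13581 := d9_1 D14427 (iv D13581) (iv F53486)
theorem F57000 : act 4 n14427 = n13845 := d21_2 (iv F53488) D14427 (iv D13845) F53505 (iv D13556)
theorem F57001 : act 6 n14427 = n13551 := d23_2 (iv F53489) D14427 (iv D13551)
def n14428 : Q := act 2 n13551
theorem D14428 : act 2 n13551 = n14428 := rfl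
theorem F57002 : act 1 n14428 = n14155 := d8_1 D14428 F55965 F52323 (iv F49732) (iv F53490)
theorem F57003 : act 3 n14428 = n13554 := d15_2 D13551 D14428 (iv D13554) (iv D12580) (iv F49540)
theorem F57004 : act 4 n14428 = n14154 := d16_2 (iv F53491) D14428 F55960
theorem F57005 : act 5 n14428 = n13552 := d17_2 (iv F53492) D14428 (iv D13552)
def n14429 : Q := act 1 n13552
theorem D14429 : act 1 n13552 = n14429 := rfl
theorem F57006 : act 2 n14429 = n13582 := d8_2 D13552 D14429 (iv D13582) (iv D12622) (iv F49543)
theorem F57007 : act 3 n14429 = n13555 := d9_2 (iv F53493) D14429 (iv D13555)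
theorem F57008 : act 5 n14429 = n14155 := d11_2 F57005 D14429 (iv F57002)
def n14430 : Q := act 4 n13552
theorem D14430 : act 4 n13552 = n14430 := rfl
theorem F57009 : act 2 n14430 = n13553 := d16_1 D14430 (iv D13553) D13552
theorem F57010 : act 5 n14430 = n14192 := d26_2 F57005 D14430 (iv D14192) (iv F55962) (iv F57004)
def n14431 : Q := act 8 n13557
theorem D14431 : act 8 n13557 = n14431 := rfl
theorem F57011 : act 0 n14431 = n14431 := d7_1 D14431 (iv D14431) F53506
theorem F57012 : act 1 n14431 = n13767 := d14_1 D14431 (iv D13767) (iv F53507)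
theorem F57013 : act 2 n14431 = n13723 := d20_1 D14431 (iv D13723) (iv F53508)
theorem F57014 : act 4 n14431 = n13717 := d29_1 D14431 F54054 (iv F53509)
theorem F57015 : act 5 n14431 = n13558 := d32_1 D14431 (iv D13558) D13557
theorem F57016 : act 6 n14431 = n14362 := d34_1 D14431 F56709 F53598
theorem F57017 : act 7 n13720 = n14431 := d33_0 F57016 F56708 (iv F54072)
def n14432 : Q := act 7 n13558
theorem D14432 : act 7 n13558 = n14432 := rfl
theorem F57018 : act 0 n14432 = n14432 := d6_1 D14432 (iv D14432) F53511
theorem F57019 : act 1 n14432 = n13768 := d13_1 D14432 (iv D13768) (iv F53512)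
theorem F57020 : act 2 n14432 = n13724 := d19_1 D14432 (iv D13724) (iv F53513)
theorem F57021 : act 4 n14432 = n13559 := d28_1 D14432 (iv D13559) (iv F53514)
theorem F57022 : act 5 n14432 = n13720 := d31_1 D14432 F57017 F57015
theorem F57023 : act 6 n14432 = n13561 := d33_1 D14432 (iv D13561) (iv F53515)
theorem F57024 : act 8 n14432 = n14432 := d35_2 D13558 D14432 (iv D14432) (iv D13558) F49600
def n14433 : Q := act 3 n13561
theorem D14433 : act 3 n13561 = n14433 := rfl
theorem F57025 : act 0 n14433 = n14433 := d2_1 D14433 (iv D14433) F53531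
theorem F57026 : act 2 n14433 = n14347 := d15_1 D14433 (iv D14347) F52961 D13439 (iv F53532)
theorem F57027 : act 4 n14433 = n13565 := d21_2 (iv F53533) D14433 (iv D13565) F49642 (iv F49619)
theorem F57028 : act 5 n14433 = n14348 := d22_2 (iv F53534) D14433 F56641
theorem F57029 : act 8 n14433 = n14433 := d25_2 F53535 D14433 (iv D14433)
def n14434 : Q := act 3 n13562
theorem D14434 : act 3 n13562 = n14434 := rfl
theorem F57030 : act 0 n14434 = n14434 := d2_1 D14434 (iv D14434) F53536
theorem F57031 : act 5 n14434 = n13709 := d22_2 (iv F53539) D14434 F54019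
theorem F57032 : act 6 n14434 = n13565 := d23_2 (iv F53540) D14434 (iv D13565)
theorem F57033 : act 8 n14434 = n14434 := d25_2 F53541 D14434 (iv D14434)
def n14435 : Q := act 3 n13564
theorem D14435 : act 3 n13564 = n14435 := rfl
theorem F57034 : act 0 n14435 = n14435 := d2_1 D14435 (iv D14435) F53547
theorem F57035 : act 5 n14435 = n13565 := d22_2 (iv F53550) D14435 (iv D13565)
theorem F57036 : act 8 n14435 = n14435 := d25_2 F53551 D14435 (iv D14435)
def n14436 : Q := act 2 n13565
theorem D14436 : act 2 n13565 = n14436 := rfl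
theorem F57037 : act 0 n14436 = n14436 := d1_1 D14436 (iv D14436) F53552
theorem F57038 : act 3 n14436 = n14436 := d15_2 D13565 D14436 (iv D14436) (iv D13565) F49641
theorem F57039 : act 4 n14436 = n14347 := d16_2 F57027 D14436 (iv F57026)
theorem F57040 : act 8 n14436 = n14436 := d20_2 F53553 D14436 (iv D14436)
def n14437 : Q := act 7 n13566
theorem D14437 : act 7 n13566 = n14437 := rfl
theorem F57041 : act 0 n14437 = n14437 := d6_1 D14437 (iv D14437) F53554
theorem F57042 : act 1 n14437 = n13773 := d13_1 D14437 F56827 F56822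
theorem F57043 : act 2 n14437 = n14437 := d19_1 D14437 (iv D14437) F53555
theorem F57044 : act 4 n14437 = n13569 := d28_1 D14437 (iv D13569) (iv F53557)
theorem F57045 : act 5 n14437 = n14437 := d31_1 D14437 (iv D14437) F53558
theorem F57046 : act 6 n14437 = n13716 := d33_1 D14437 (iv D13716) (iv F53559)
theorem F57047 : act 8 n14437 = n13715 := d35_2 D13566 D14437 (iv D13715) (iv D12762) (iv F49649)
theorem F57048 : act 3 n13725 = n14437 := d23_3 F57046 (iv F54049) D13725
def n14438 : Q := act 7 n13567
theorem D14438 : act 7 n13567 = n14438 := rfl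
theorem F57049 : act 0 n14438 = n14438 := d6_1 D14438 (iv D14438) F53560
theorem F57050 : act 1 n14438 = n13772 := d13_1 D14438 F56836 F56830
theorem F57051 : act 2 n14438 = n14438 := d19_1 D14438 (iv D14438) F53561
theorem F57052 : act 4 n14438 = n13716 := d28_1 D14438 (iv D13716) (iv F53563)
theorem F57053 : act 5 n14438 = n13578 := d31_1 D14438 (iv D13578) (iv F53564)
theorem F57054 : act 6 n14438 = n13569 := d33_1 D14438 (iv D13569) (iv F53565)
theorem F57055 : act 8 n14438 = n13714 := d35_2 D13567 D14438 (iv D13714) (iv D12761) F49655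
def n14439 : Q := act 7 n13568
theorem D14439 : act 7 n13568 = n14439 := rfl
theorem F57056 : act 0 n14439 = n14439 := d6_1 D14439 (iv D14439) F53566
theorem F57057 : act 2 n14439 = n14439 := d19_1 D14439 (iv D14439) F53567
theorem F57058 : act 4 n14439 = n13715 := d28_1 D14439 (iv D13715) (iv F53568)
theorem F57059 : act 5 n14439 = n13570 := d31_1 D14439 (iv D13570) (iv F53569)
theorem F57060 : act 6 n14439 = n13714 := d33_1 D14439 (iv D13714) (iv F53570)
theorem F57061 : act 8 n14439 = n13569 := d35_2 D13568 D14439 (iv D13569) (iv D12604) D12603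
def n14440 : Q := act 3 n13569
theorem D14440 : act 3 n13569 = n14440 := rfl
theorem F57062 : act 0 n14440 = n14440 := d2_1 D14440 (iv D14440) F53571
theorem F57063 : act 5 n14440 = n13571 := d22_2 (iv F53573) D14440 (iv D13571)
theorem F57064 : act 7 n14440 = n13573 := d24_2 D13569 D14440 (iv D13573) (iv D12608) (iv F49663)
def n14441 : Q := act 3 n13570
theorem D14441 : act 3 n13570 = n14441 := rfl
theorem F57065 : act 0 n14441 = n14441 := d2_1 D14441 (iv D14441) F53574
theorem F57066 : act 6 n14441 = n13580 := d23_2 (iv F53577) D14441 (iv D13580)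
theorem F57067 : act 8 n14441 = n13571 := d25_2 (iv F53578) D14441 (iv D13571)
def n14442 : Q := act 3 n13572
theorem D14442 : act 3 n13572 = n14442 := rfl
theorem F57068 : act 0 n14442 = n14442 := d2_1 D14442 (iv D14442) F53582
theorem F57069 : act 2 n14442 = n14307 := d15_1 D14442 F56472 F53508 F50344 (iv F53583)
theorem F57070 : act 5 n14442 = n13581 := d22_2 (iv F53585) D14442 (iv D13581)
theorem F57071 : act 6 n14442 = n13573 := d23_2 (iv F53586) D14442 (iv D13573)
theorem F57072 : act 4 n13993 = n14442 := d37_2 F52821 D13993 (iv D14442) F53583 F49690 F45794 (iv D10690) F35803 F26459 F19633 F14632 F14631 (iv F19676) D6927 F26531 F26530 (iv F38955) F31217 (iv F23665) F23664 D6141 F23711 F23710 F17596 (iv F17664) F17663 (iv F17818) (iv D4552) (iv D3328) F9880 F9152 (iv D2250) F6870 F5583 D1323 (iv F7456) (iv F9970) D3369 D4611 D6313 D8663 F32931 (iv F31941) F31940 (iv F40144) F40143 (iv F43575) (iv D11063) (iv F43555) F43554 F41210 (iv F44599) (iv F48534) (iv D12313) (iv F47936) F47937 (iv F46527) D12821 D13755 F54231 (iv F52818)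 F52817
def n14443 : Q := act 2 n13573
theorem D14443 : act 2 n13573 = n14443 := rfl
theorem F57073 : act 0 n14443 = n14443 := d1_1 D14443 (iv D14443) F53587
theorem F57074 : act 3 n14443 = n13576 := d15_2 D13573 D14443 (iv D13576) (iv D12612) (iv F49679)
theorem F57075 : act 5 n14443 = n13574 := d17_2 (iv F53588) D14443 (iv D13574)
theorem F57076 : act 6 n14443 = n14307 := d18_2 F57071 D14443 (iv F57069)
theorem F57077 : act 4 n14440 = n14443 := d26_5 F57075 (iv F53980) (iv F56518) F56517 (iv F57063)
def n14444 : Q := act 4 n13573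
theorem D14444 : act 4 n13573 = n14444 := rfl
theorem F57078 : act 0 n14444 = n14444 := d3_1 D14444 (iv D14444) F53587
theorem F57079 : act 2 n14444 = n14440 := d16_1 D14444 F57077 (iv D14443)
theorem F57080 : act 3 n14444 = n14444 := d21_1 D14444 (iv D14444) (iv D13573) F49680 D13573
theorem F57081 : act 5 n14444 = n14001 := d26_2 (iv F53588) D14444 F55333 F53595 (iv D13575)
theorem F57082 : act 6 n14444 = n13993 := d27_2 F57071 D14444 F57072
theorem F57083 : act 7 n14444 = n14443 := d28_2 F57064 D14444 (iv F57077)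
def n14445 : Q := act 1 n13574
theorem D14445 : act 1 n13574 = n14445 := rfl
theorem F57084 : act 3 n14445 = n13577 := d9_2 (iv F53590) D14445 (iv D13577)
theorem F57085 : act 6 n14445 = n13582 := d12_2 (iv F53591) D14445 (iv D13582)
def n14446 : Q := act 1 n13583
theorem D14446 : act 1 n13583 = n14446 := rfl
theorem F57086 : act 2 n14446 = n14446 := d8_2 D13583 D14446 (iv D14446) (iv D13583) F49769
theorem F57087 : act 3 n14446 = n13586 := d9_2 (iv F53624) D14446 (iv D13586)
theorem F57088 : act 7 n14446 = n14044 := d13_2 (iv F53625) D14446 (iv D14044)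
def n14447 : Q := act 4 n13583
theorem D14447 : act 4 n13583 = n14447 := rfl
theorem F57089 : act 0 n14447 = n13638 := d3_1 D14447 (iv D13638) (iv F53623)
theorem F57090 : act 2 n14447 = n13584 := d16_1 D14447 (iv D13584) D13583
theorem F57091 : act 7 n14447 = n14045 := d28_2 (iv F53625) D14447 (iv D14045)
def n14448 : Q := act 8 n13583
theorem D14448 : act 8 n13583 = n14448 := rfl
theorem F57092 : act 0 n14448 = n13639 := d7_1 D14448 (iv D13639) (iv F53623)
theorem F57093 : act 2 n14448 = n13585 := d20_1 D14448 (iv D13585) D13583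
theorem F57094 : act 3 n14448 = n13588 := d25_1 D14448 (iv D13588) (iv F53624)
def n14449 : Q := act 5 n13584
theorem D14449 : act 5 n13584 = n14449 := rfl
theorem F57095 : act 0 n14449 = n13640 := d4_1 D14449 (iv D13640) (iv F53626)
theorem F57096 : act 1 n14449 = n14449 := d11_1 D14449 (iv D14449) F53627
theorem F57097 : act 3 n14449 = n14449 := d22_1 D14449 (iv D14449) F53628
theorem F57098 : act 4 n14449 = n13903 := d26_1 D14449 (iv D13903) (iv F51713) F51714 D13584
theorem F57099 : act 7 n14449 = n14047 := d31_2 (iv F53629) D14449 (iv D14047)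
def n14450 : Q := act 8 n13584
theorem D14450 : act 8 n13584 = n14450 := rfl
theorem F57100 : act 0 n14450 = n13641 := d7_1 D14450 (iv D13641) (iv F53626)
theorem F57101 : act 1 n14450 = n14450 := d14_1 D14450 (iv D14450) F53627
theorem F57102 : act 3 n14450 = n14450 := d25_1 D14450 (iv D14450) F53628
theorem F57103 : act 4 n14450 = n13585 := d29_1 D14450 (iv D13585) D13584
def n14451 : Q := act 7 n13585
theorem D14451 : act 7 n13585 = n14451 := rfl
theorem F57104 : act 0 n14451 = n13642 := d6_1 D14451 (iv D13642) (iv F53630)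
theorem F57105 : act 1 n14451 = n14451 := d13_1 D14451 (iv D14451) F53631
theorem F57106 : act 8 n14451 = n14049 := d35_2 D13585 D14451 (iv D14049) (iv D13132) (iv F49770)
def n14452 : Q := act 8 n13586
theorem D14452 : act 8 n13586 = n14452 := rfl
theorem F57107 : act 1 n14452 = n13588 := d14_1 D14452 (iv D13588) D13586
theorem F57108 : act 2 n14452 = n13617 := d20_1 D14452 (iv D13617) (iv F53633)
def n14453 : Q := act 3 n13587
theorem D14453 : act 3 n13587 = n14453 := rfl
theorem F57109 : act 0 n14453 = n13643 := d2_1 D14453 (iv D13643) (iv F53635)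
theorem F57110 : act 2 n14453 = n14453 := d15_1 D14453 (iv D14453) F53636 F49779 (iv F53636)
def n14454 : Q := act 8 n13587
theorem D14454 : act 8 n13587 = n14454 := rfl
theorem F57111 : act 0 n14454 = n13645 := d7_1 D14454 (iv D13645) (iv F53635)
theorem F57112 : act 2 n14454 = n13589 := d20_1 D14454 (iv D13589) (iv F53636)
theorem F57113 : act 4 n14454 = n13588 := d29_1 D14454 (iv D13588) D13587
def n14455 : Q := act 7 n13588
theorem D14455 : act 7 n13588 = n14455 := rfl
theorem F57114 : act 0 n14455 = n13646 := d6_1 D14455 (iv D13646) (iv F53638)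
theorem F57115 : act 2 n14455 = n13590 := d19_1 D14455 (iv D13590) (iv F53639)
theorem F57116 : act 8 n14455 = n13596 := d35_2 D13588 D14455 (iv D13596) (iv D12636) (iv F49776)
def n14456 : Q := act 7 n13589
theorem D14456 : act 7 n13589 = n14456 := rfl
theorem F57117 : act 0 n14456 = n13648 := d6_1 D14456 (iv D13648) (iv F53640)
theorem F57118 : act 1 n14456 = n13619 := d13_1 D14456 (iv D13619) (iv F53641)
theorem F57119 : act 4 n14456 = n13590 := d28_1 D14456 (iv D13590) (iv F53643)
theorem F57120 : act 8 n14456 = n13598 := d35_2 D13589 D14456 (iv D13598) (iv D12638) (iv F49780)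
def n14457 : Q := act 3 n13591
theorem D14457 : act 3 n13591 = n14457 := rfl
theorem F57121 : act 1 n14457 = n13593 := d9_1 D14457 (iv D13593) (iv F53647)
theorem F57122 : act 2 n14457 = n14457 := d15_1 D14457 (iv D14457) F53648 F49893 (iv F53648)
theorem F57123 : act 4 n14457 = n14078 := d21_2 D13591 D14457 (iv D14078) (iv D13153) (iv F49785)
def n14458 : Q := act 8 n13591
theorem D14458 : act 8 n13591 = n14458 := rfl
theorem F57124 : act 1 n14458 = n13595 := d14_1 D14458 (iv D13595) (iv F53647)
theorem F57125 : act 2 n14458 = n13620 := d20_1 D14458 (iv D13620) (iv F53648)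
theorem F57126 : act 4 n14458 = n13592 := d29_1 D14458 (iv D13592) D13591
def n14459 : Q := act 7 n13592
theorem D14459 : act 7 n13592 = n14459 := rfl
theorem F57127 : act 1 n14459 = n13596 := d13_1 D14459 (iv D13596) (iv F53649)
theorem F57128 : act 2 n14459 = n13621 := d19_1 D14459 (iv D13621) (iv F53650)
def n14460 : Q := act 5 n13593
theorem D14460 : act 5 n13593 = n14460 := rfl
theorem F57129 : act 0 n14460 = n13649 := d4_1 D14460 (iv D13649) (iv F53652)
theorem F57130 : act 2 n14460 = n13599 := d17_1 D14460 (iv D13599) (iv F53653)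
theorem F57131 : act 3 n14460 = n13594 := d22_1 D14460 (iv D13594) D13593
def n14461 : Q := act 7 n13593
theorem D14461 : act 7 n13593 = n14461 := rfl
theorem F57132 : act 0 n14461 = n13650 := d6_1 D14461 (iv D13650) (iv F53652)
theorem F57133 : act 2 n14461 = n13600 := d19_1 D14461 (iv D13600) (iv F53653)
theorem F57134 : act 4 n14461 = n14083 := d28_1 D14461 (iv D14083) (iv F53654)
def n14462 : Q := act 8 n13593
theorem D14462 : act 8 n13593 = n14462 := rfl
theorem F57135 : act 0 n14462 = n13651 := d7_1 D14462 (iv D13651) (iv F53652)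
theorem F57136 : act 2 n14462 = n13601 := d20_1 D14462 (iv D13601) (iv F53653)
theorem F57137 : act 3 n14462 = n13595 := d25_1 D14462 (iv D13595) D13593
theorem F57138 : act 4 n14462 = n14084 := d29_1 D14462 (iv D14084) (iv F53654)
def n14463 : Q := act 8 n13594
theorem D14463 : act 8 n13594 = n14463 := rfl
theorem F57139 : act 0 n14463 = n13653 := d7_1 D14463 (iv D13653) (iv F53655)
theorem F57140 : act 2 n14463 = n13597 := d20_1 D14463 (iv D13597) (iv F53656)
theorem F57141 : act 5 n14463 = n13595 := d32_1 D14463 (iv D13595) D13594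
def n14464 : Q := act 7 n13595
theorem D14464 : act 7 n13595 = n14464 := rfl
theorem F57142 : act 0 n14464 = n13654 := d6_1 D14464 (iv D13654) (iv F53657)
theorem F57143 : act 2 n14464 = n13598 := d19_1 D14464 (iv D13598) (iv F53658)
theorem F57144 : act 4 n14464 = n13596 := d28_1 D14464 (iv D13596) (iv F53659)
def n14465 : Q := act 3 n13596
theorem D14465 : act 3 n13596 = n14465 := rfl
theorem F57145 : act 0 n14465 = n13655 := d2_1 D14465 (iv D13655) (iv F53660)
theorem F57146 : act 7 n14465 = n14088 := d24_2 D13596 D14465 (iv D14088) (iv D13158) (iv F49790)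
def n14466 : Q := act 7 n13597
theorem D14466 : act 7 n13597 = n14466 := rfl
theorem F57147 : act 0 n14466 = n13657 := d6_1 D14466 (iv D13657) (iv F53662)
theorem F57148 : act 1 n14466 = n13624 := d13_1 D14466 (iv D13624) (iv F53663)
theorem F57149 : act 5 n14466 = n13598 := d31_1 D14466 (iv D13598) (iv F53665)
def n14467 : Q := act 3 n13598
theorem D14467 : act 3 n13598 = n14467 := rfl
theorem F57150 : act 0 n14467 = n13658 := d2_1 D14467 (iv D13658) (iv F53666)
theorem F57151 : act 1 n14467 = n13625 := d9_1 D14467 (iv D13625) (iv F53667)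
theorem F57152 : act 7 n14467 = n13608 := d24_2 D13598 D14467 (iv D13608) (iv D12646) (iv F49796)
def n14468 : Q := act 4 n13599
theorem D14468 : act 4 n13599 = n14468 := rfl
theorem F57153 : act 0 n14468 = n13659 := d3_1 D14468 (iv D13659) (iv F53669)
theorem F57154 : act 1 n14468 = n14468 := d10_1 D14468 (iv D14468) F53670
theorem F57155 : act 3 n14468 = n13609 := d21_1 D14468 (iv D13609) F49831 (iv F49806) (iv F53671)
theorem F57156 : act 5 n14468 = n14098 := d26_2 D13599 D14468 (iv D14098) (iv D13167) (iv F49802)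
def n14469 : Q := act 6 n13599
theorem D14469 : act 6 n13599 = n14469 := rfl
theorem F57157 : act 0 n14469 = n13660 := d5_1 D14469 (iv D13660) (iv F53669)
theorem F57158 : act 1 n14469 = n14469 := d12_1 D14469 (iv D14469) F53670
theorem F57159 : act 3 n14469 = n13602 := d23_1 D14469 (iv D13602) (iv F53671)
def n14470 : Q := act 7 n13599
theorem D14470 : act 7 n13599 = n14470 := rfl
theorem F57160 : act 0 n14470 = n13661 := d6_1 D14470 (iv D13661) (iv F53669)
theorem F57161 : act 1 n14470 = n14470 := d13_1 D14470 (iv D14470) F53670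
theorem F57162 : act 3 n14470 = n14470 := d24_1 D14470 (iv D14470) F53671 F49807 (iv F53671)
theorem F57163 : act 5 n14470 = n13600 := d31_1 D14470 (iv D13600) D13599
def n14471 : Q := act 8 n13599
theorem D14471 : act 8 n13599 = n14471 := rfl
theorem F57164 : act 0 n14471 = n13662 := d7_1 D14471 (iv D13662) (iv F53669)
theorem F57165 : act 1 n14471 = n14471 := d14_1 D14471 (iv D14471) F53670
theorem F57166 : act 3 n14471 = n13603 := d25_1 D14471 (iv D13603) (iv F53671)
theorem F57167 : act 5 n14471 = n13601 := d32_1 D14471 (iv D13601) D13599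
def n14472 : Q := act 8 n13600
theorem D14472 : act 8 n13600 = n14472 := rfl
theorem F57168 : act 0 n14472 = n13663 := d7_1 D14472 (iv D13663) (iv F53672)
theorem F57169 : act 1 n14472 = n14472 := d14_1 D14472 (iv D14472) F53673
theorem F57170 : act 3 n14472 = n14472 := d25_1 D14472 (iv D14472) F53674
theorem F57171 : act 4 n14472 = n14102 := d29_1 D14472 (iv D14102) (iv F53675)
def n14473 : Q := act 7 n13601
theorem D14473 : act 7 n13601 = n14473 := rfl
theorem F57172 : act 0 n14473 = n13664 := d6_1 D14473 (iv D13664) (iv F53676)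
theorem F57173 : act 1 n14473 = n14473 := d13_1 D14473 (iv D14473) F53677
theorem F57174 : act 4 n14473 = n14103 := d28_1 D14473 (iv D14103) (iv F53679)
def n14474 : Q := act 8 n13602
theorem D14474 : act 8 n13602 = n14474 := rfl
theorem F57175 : act 0 n14474 = n13665 := d7_1 D14474 (iv D13665) (iv F53680)
theorem F57176 : act 1 n14474 = n14474 := d14_1 D14474 (iv D14474) F53681
theorem F57177 : act 2 n14474 = n13606 := d20_1 D14474 (iv D13606) (iv F53682)
theorem F57178 : act 4 n14474 = n13613 := d29_1 D14474 (iv D13613) (iv F53683)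
theorem F57179 : act 6 n14474 = n13603 := d34_1 D14474 (iv D13603) D13602
def n14475 : Q := act 7 n13603
theorem D14475 : act 7 n13603 = n14475 := rfl
theorem F57180 : act 0 n14475 = n13666 := d6_1 D14475 (iv D13666) (iv F53685)
theorem F57181 : act 1 n14475 = n14475 := d13_1 D14475 (iv D14475) F53686
theorem F57182 : act 2 n14475 = n13607 := d19_1 D14475 (iv D13607) (iv F53687)
theorem F57183 : act 4 n14475 = n13614 := d28_1 D14475 (iv D13614) (iv F53688)
theorem F57184 : act 5 n14475 = n13604 := d31_1 D14475 (iv D13604) (iv F53689)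
theorem F57185 : act 8 n14475 = n14475 := d35_2 D13603 D14475 (iv D14475) (iv D13603) F49807
def n14476 : Q := act 3 n13604
theorem D14476 : act 3 n13604 = n14476 := rfl
theorem F57186 : act 0 n14476 = n13667 := d2_1 D14476 (iv D13667) (iv F53690)
theorem F57187 : act 1 n14476 = n14476 := d9_1 D14476 (iv D14476) F53691
theorem F57188 : act 8 n14476 = n14476 := d25_2 F53694 D14476 (iv D14476)
def n14477 : Q := act 4 n13605
theorem D14477 : act 4 n13605 = n14477 := rfl
theorem F57189 : act 0 n14477 = n13668 := d3_1 D14477 (iv D13668) (iv F53695)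
theorem F57190 : act 1 n14477 = n14477 := d10_1 D14477 (iv D14477) F53696
theorem F57191 : act 2 n14477 = n14406 := d16_1 D14477 F56923 (iv F53697)
theorem F57192 : act 5 n14477 = n13920 := d26_2 (iv F53698) D14477 (iv D13920) F51151 (iv F49864)
theorem F57193 : act 6 n14477 = n14411 := d27_2 (iv F53699) D14477 F56945
theorem F57194 : act 7 n14477 = n14107 := d28_2 (iv F53700) D14477 (iv D14107)
theorem F57195 : act 8 n14477 = n14477 := d29_2 F53701 D14477 (iv D14477)
def n14478 : Q := act 7 n13606
theorem D14478 : act 7 n13606 = n14478 := rfl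
theorem F57196 : act 0 n14478 = n13669 := d6_1 D14478 (iv D13669) (iv F53702)
theorem F57197 : act 1 n14478 = n13626 := d13_1 D14478 (iv D13626) (iv F53703)
theorem F57198 : act 4 n14478 = n13615 := d28_1 D14478 (iv D13615) (iv F53704)
theorem F57199 : act 6 n14478 = n13607 := d33_1 D14478 (iv D13607) (iv F53705)
theorem F57200 : act 8 n14478 = n14478 := d35_2 D13606 D14478 (iv D14478) (iv D13606) F49820
def n14479 : Q := act 3 n13607
theorem D14479 : act 3 n13607 = n14479 := rfl
theorem F57201 : act 0 n14479 = n13670 := d2_1 D14479 (iv D13670) (iv F53706)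
theorem F57202 : act 1 n14479 = n13627 := d9_1 D14479 (iv D13627) (iv F53707)
theorem F57203 : act 5 n14479 = n13608 := d22_2 (iv F53709) D14479 (iv D13608)
theorem F57204 : act 8 n14479 = n14479 := d25_2 F53710 D14479 (iv D14479)
def n14480 : Q := act 2 n13608
theorem D14480 : act 2 n13608 = n14480 := rfl
theorem F57205 : act 0 n14480 = n13671 := d1_1 D14480 (iv D13671) (iv F53711)
theorem F57206 : act 8 n14480 = n14480 := d20_2 F53713 D14480 (iv D14480)
def n14481 : Q := act 8 n13609
theorem D14481 : act 8 n13609 = n14481 := rfl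
theorem F57207 : act 0 n14481 = n13672 := d7_1 D14481 (iv D13672) (iv F53714)
theorem F57208 : act 1 n14481 = n14481 := d14_1 D14481 (iv D14481) F53715
theorem F57209 : act 2 n14481 = n14280 := d20_1 D14481 F56373 F55457
theorem F57210 : act 4 n14481 = n13612 := d29_1 D14481 (iv D13612) D13609
theorem F57211 : act 5 n14481 = n14111 := d32_1 D14481 (iv D14111) (iv F53716)
theorem F57212 : act 7 n14481 = n13924 := d35_1 D14481 (iv D13924) F53440 (iv F56863) (iv F56864)
def n14482 : Q := act 8 n13610
theorem D14482 : act 8 n13610 = n14482 := rfl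
theorem F57213 : act 0 n14482 = n13673 := d7_1 D14482 (iv D13673) (iv F53717)
theorem F57214 : act 1 n14482 = n14482 := d14_1 D14482 (iv D14482) F53718
theorem F57215 : act 2 n14482 = n14281 := d20_1 D14482 F56378 F55357
theorem F57216 : act 3 n14482 = n13613 := d25_1 D14482 (iv D13613) (iv F53719)
theorem F57217 : act 5 n14482 = n14482 := d32_1 D14482 (iv D14482) F53720
theorem F57218 : act 6 n14482 = n13612 := d34_1 D14482 (iv D13612) D13610
theorem F57219 : act 7 n14482 = n13925 := d35_1 D14482 (iv D13925) (iv F53435) (iv F56854) (iv F56855)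
def n14483 : Q := act 7 n13613
theorem D14483 : act 7 n13613 = n14483 := rfl
theorem F57220 : act 0 n14483 = n13676 := d6_1 D14483 (iv D13676) (iv F53733)
theorem F57221 : act 1 n14483 = n14483 := d13_1 D14483 (iv D14483) F53734
theorem F57222 : act 2 n14483 = n13615 := d19_1 D14483 (iv D13615) (iv F53735)
theorem F57223 : act 3 n14483 = n13926 := d24_1 D14483 (iv D13926) (iv F54971) (iv F57219) F57216
theorem F57224 : act 5 n14483 = n14483 := d31_1 D14483 (iv D14483) F53736
theorem F57225 : act 6 n14483 = n13614 := d33_1 D14483 (iv D13614) (iv F53737)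
theorem F57226 : act 8 n14483 = n14483 := d35_2 D13613 D14483 (iv D14483) (iv D13613) F49850
def n14484 : Q := act 7 n13617
theorem D14484 : act 7 n13617 = n14484 := rfl
theorem F57227 : act 1 n14484 = n13618 := d13_1 D14484 (iv D13618) (iv F53755)
theorem F57228 : act 8 n14484 = n13621 := d35_2 D13617 D14484 (iv D13621) (iv D12662) (iv F49883)
def n14485 : Q := act 3 n13618
theorem D14485 : act 3 n13618 = n14485 := rfl
theorem F57229 : act 0 n14485 = n13631 := d2_1 D14485 (iv D13631) (iv F53757)
theorem F57230 : act 7 n14485 = n14485 := d24_2 D13618 D14485 (iv D14485) (iv D13618) F49886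
theorem F57231 : act 8 n14485 = n13623 := d25_2 (iv F53759) D14485 (iv D13623)
def n14486 : Q := act 3 n13619
theorem D14486 : act 3 n13619 = n14486 := rfl
theorem F57232 : act 0 n14486 = n13632 := d2_1 D14486 (iv D13632) (iv F53760)
theorem F57233 : act 7 n14486 = n14486 := d24_2 D13619 D14486 (iv D14486) (iv D13619) F49888
theorem F57234 : act 8 n14486 = n13625 := d25_2 (iv F53762) D14486 (iv D13625)
def n14487 : Q := act 7 n13620
theorem D14487 : act 7 n13620 = n14487 := rfl
theorem F57235 : act 1 n14487 = n13622 := d13_1 D14487 (iv D13622) (iv F53763)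
theorem F57236 : act 4 n14487 = n13621 := d28_1 D14487 (iv D13621) (iv F53765)
def n14488 : Q := act 3 n13621
theorem D14488 : act 3 n13621 = n14488 := rfl
theorem F57237 : act 1 n14488 = n13623 := d9_1 D14488 (iv D13623) (iv F53766)
theorem F57238 : act 7 n14488 = n13629 := d24_2 D13621 D14488 (iv D13629) (iv D12673) (iv F49895)
def n14489 : Q := act 3 n13622
theorem D14489 : act 3 n13622 = n14489 := rfl
theorem F57239 : act 0 n14489 = n13633 := d2_1 D14489 (iv D13633) (iv F53767)
theorem F57240 : act 7 n14489 = n14489 := d24_2 D13622 D14489 (iv D14489) (iv D13622) F49898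
def n14490 : Q := act 4 n13623
theorem D14490 : act 4 n13623 = n14490 := rfl
theorem F57241 : act 0 n14490 = n13634 := d3_1 D14490 (iv D13634) (iv F53770)
theorem F57242 : act 7 n14490 = n13630 := d28_2 (iv F53771) D14490 (iv D13630)
def n14491 : Q := act 3 n13624
theorem D14491 : act 3 n13624 = n14491 := rfl
theorem F57243 : act 0 n14491 = n13635 := d2_1 D14491 (iv D13635) (iv F53772)
theorem F57244 : act 5 n14491 = n13625 := d22_2 (iv F53773) D14491 (iv D13625)
theorem F57245 : act 7 n14491 = n13627 := d24_2 D13624 D14491 (iv D13627) (iv D12668) (iv F49903)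
def n14492 : Q := act 2 n13625
theorem D14492 : act 2 n13625 = n14492 := rfl
theorem F57246 : act 0 n14492 = n13636 := d1_1 D14492 (iv D13636) (iv F53774)
theorem F57247 : act 7 n14492 = n13628 := d19_2 (iv F53775) D14492 (iv D13628)
def n14493 : Q := act 1 n13628
theorem D14493 : act 1 n13628 = n14493 := rfl
theorem F57248 : act 3 n14493 = n14493 := d9_2 F53785 D14493 (iv D14493)
theorem F57249 : act 8 n14493 = n14493 := d14_2 F53786 D14493 (iv D14493)
def n14494 : Q := act 2 n13629
theorem D14494 : act 2 n13629 = n14494 := rfl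
theorem F57250 : act 3 n14494 = n14142 := d15_2 D13629 D14494 (iv D14142) (iv D13221) (iv F49933)
theorem F57251 : act 8 n14494 = n14494 := d20_2 F53788 D14494 (iv D14494)
def n14495 : Q := act 4 n13629
theorem D14495 : act 4 n13629 = n14495 := rfl
theorem F57252 : act 1 n14495 = n13630 := d10_1 D14495 (iv D13630) (iv F53787)
theorem F57253 : act 3 n14495 = n14495 := d21_1 D14495 (iv D14495) (iv D13629) F49934 D13629
theorem F57254 : act 8 n14495 = n14495 := d29_2 F53788 D14495 (iv D14495)
def n14496 : Q := act 5 n13630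
theorem D14496 : act 5 n13630 = n14496 := rfl
theorem F57255 : act 0 n14496 = n13637 := d4_1 D14496 F53805 (iv F53789)
theorem F57256 : act 2 n14496 = n13696 := d17_1 D14496 F54526 F54522
theorem F57257 : act 3 n14496 = n14496 := d22_1 D14496 (iv D14496) F53790
theorem F57258 : act 8 n14496 = n14496 := d32_2 F53791 D14496 (iv D14496)
def n14497 : Q := act 4 n13631
theorem D14497 : act 4 n13631 = n14497 := rfl
theorem F57259 : act 7 n14497 = n14497 := d28_2 F53792 D14497 (iv D14497)
theorem F57260 : act 8 n14497 = n13634 := d29_2 (iv F53793) D14497 (iv D13634)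
def n14498 : Q := act 2 n13632
theorem D14498 : act 2 n13632 = n14498 := rfl
theorem F57261 : act 7 n14498 = n14498 := d19_2 F53795 D14498 (iv D14498)
theorem F57262 : act 8 n14498 = n13636 := d20_2 (iv F53796) D14498 (iv D13636)
def n14499 : Q := act 2 n13633
theorem D14499 : act 2 n13633 = n14499 := rfl
theorem F57263 : act 3 n14499 = n13636 := d15_2 D13633 D14499 (iv D13636) (iv D12680) (iv F49943)
theorem F57264 : act 7 n14499 = n14499 := d19_2 F53797 D14499 (iv D14499)
def n14500 : Q := act 4 n13633
theorem D14500 : act 4 n13633 = n14500 := rfl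
theorem F57265 : act 3 n14500 = n13634 := d21_1 D14500 (iv D13634) (iv D12678) (iv F49944) D13633
theorem F57266 : act 7 n14500 = n14500 := d28_2 F53797 D14500 (iv D14500)
def n14501 : Q := act 5 n13634
theorem D14501 : act 5 n13634 = n14501 := rfl
theorem F57267 : act 1 n14501 = n13636 := d11_1 D14501 (iv F55942) F55940
theorem F57268 : act 2 n14501 = n13695 := d17_1 D14501 F54648 F54644
theorem F57269 : act 7 n14501 = n13637 := d31_2 (iv F53798) D14501 F53805
def n14502 : Q := act 3 n13638
theorem D14502 : act 3 n13638 = n14502 := rfl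
theorem F57270 : act 2 n14502 = n14502 := d15_1 D14502 (iv D14502) F53807 F49965 (iv F53807)
theorem F57271 : act 4 n14502 = n13643 := d21_2 D13638 D14502 (iv D13643) (iv D12688) (iv F49962)
def n14503 : Q := act 5 n13638
theorem D14503 : act 5 n13638 = n14503 := rfl
theorem F57272 : act 1 n14503 = n14430 := d11_1 D14503 F57010 F56106
theorem F57273 : act 2 n14503 = n13640 := d17_1 D14503 (iv D13640) (iv F53807)
theorem F57274 : act 4 n14503 = n14429 := d26_1 D14503 F57008 (iv D14155) F52320 D13638
theorem F57275 : act 7 n14503 = n14200 := d31_2 (iv F53808) D14503 (iv D14200)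
def n14504 : Q := act 8 n13638
theorem D14504 : act 8 n13638 = n14504 := rfl
theorem F57276 : act 2 n14504 = n13641 := d20_1 D14504 (iv D13641) (iv F53807)
theorem F57277 : act 4 n14504 = n13639 := d29_1 D14504 (iv D13639) D13638
def n14505 : Q := act 7 n13639
theorem D14505 : act 7 n13639 = n14505 := rfl
theorem F57278 : act 2 n14505 = n13642 := d19_1 D14505 (iv D13642) (iv F53809)
theorem F57279 : act 8 n14505 = n14202 := d35_2 D13639 D14505 (iv D14202) (iv D13291) (iv F49963)
def n14506 : Q := act 6 n13640
theorem D14506 : act 6 n13640 = n14506 := rfl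
theorem F57280 : act 1 n14506 = n13697 := d12_1 D14506 (iv D13697) (iv F53811)
theorem F57281 : act 3 n14506 = n14506 := d23_1 D14506 (iv D14506) F53812
theorem F57282 : act 4 n14506 = n14445 := d27_1 D14506 F57085 (iv F53813)
theorem F57283 : act 7 n14506 = n14203 := d33_2 (iv F53814) D14506 (iv D14203)
def n14507 : Q := act 8 n13640
theorem D14507 : act 8 n13640 = n14507 := rfl
theorem F57284 : act 1 n14507 = n13698 := d14_1 D14507 (iv D13698) (iv F53811)
theorem F57285 : act 3 n14507 = n14507 := d25_1 D14507 (iv D14507) F53812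
theorem F57286 : act 4 n14507 = n14372 := d29_1 D14507 F56746 (iv F53813)
theorem F57287 : act 5 n14507 = n13641 := d32_1 D14507 (iv D13641) D13640
def n14508 : Q := act 7 n13641
theorem D14508 : act 7 n13641 = n14508 := rfl
theorem F57288 : act 1 n14508 = n13699 := d13_1 D14508 (iv D13699) (iv F53815)
theorem F57289 : act 4 n14508 = n13642 := d28_1 D14508 (iv D13642) (iv F53817)
theorem F57290 : act 8 n14508 = n14205 := d35_2 D13641 D14508 (iv D14205) (iv D13293) (iv F49966)
def n14509 : Q := act 5 n13643
theorem D14509 : act 5 n13643 = n14509 := rfl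
theorem F57291 : act 2 n14509 = n14509 := d17_1 D14509 (iv D14509) F53820
theorem F57292 : act 3 n14509 = n13644 := d22_1 D14509 (iv D13644) D13643
def n14510 : Q := act 7 n13643
theorem D14510 : act 7 n13643 = n14510 := rfl
theorem F57293 : act 2 n14510 = n14510 := d19_1 D14510 (iv D14510) F53820
theorem F57294 : act 3 n14510 = n13650 := d24_1 D14510 (iv D13650) (iv D12693) (iv F49970) D13643
def n14511 : Q := act 8 n13643
theorem D14511 : act 8 n13643 = n14511 := rfl
theorem F57295 : act 2 n14511 = n14511 := d20_1 D14511 (iv D14511) F53820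
theorem F57296 : act 3 n14511 = n13645 := d25_1 D14511 (iv D13645) D13643
def n14512 : Q := act 8 n13644
theorem D14512 : act 8 n13644 = n14512 := rfl
theorem F57297 : act 2 n14512 = n13647 := d20_1 D14512 (iv D13647) (iv F53821)
theorem F57298 : act 5 n14512 = n13645 := d32_1 D14512 (iv D13645) D13644
def n14513 : Q := act 7 n13645
theorem D14513 : act 7 n13645 = n14513 := rfl
theorem F57299 : act 2 n14513 = n13648 := d19_1 D14513 (iv D13648) (iv F53823)
theorem F57300 : act 4 n14513 = n13646 := d28_1 D14513 (iv D13646) (iv F53824)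
theorem F57301 : act 8 n14513 = n13654 := d35_2 D13645 D14513 (iv D13654) (iv D12695) (iv F49970)
def n14514 : Q := act 3 n13646
theorem D14514 : act 3 n13646 = n14514 := rfl
theorem F57302 : act 8 n14514 = n13655 := d25_2 (iv F53826) D14514 (iv D13655)
def n14515 : Q := act 7 n13647
theorem D14515 : act 7 n13647 = n14515 := rfl
theorem F57303 : act 1 n14515 = n13681 := d13_1 D14515 (iv D13681) (iv F53827)
theorem F57304 : act 5 n14515 = n13648 := d31_1 D14515 (iv D13648) (iv F53829)
theorem F57305 : act 8 n14515 = n13657 := d35_2 D13647 D14515 (iv D13657) (iv D12698) (iv F49974)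
def n14516 : Q := act 3 n13648
theorem D14516 : act 3 n13648 = n14516 := rfl
theorem F57306 : act 1 n14516 = n13682 := d9_1 D14516 (iv D13682) (iv F53830)
theorem F57307 : act 7 n14516 = n14516 := d24_2 D13648 D14516 (iv D14516) (iv D13648) F49976
theorem F57308 : act 8 n14516 = n13658 := d25_2 (iv F53832) D14516 (iv D13658)
def n14517 : Q := act 4 n13649
theorem D14517 : act 4 n13649 = n14517 := rfl
theorem F57309 : act 2 n14517 = n13659 := d16_1 D14517 (iv D13659) (iv F53833)
theorem F57310 : act 5 n14517 = n14244 := d26_2 D13649 D14517 (iv D14244) (iv D13322) (iv F49981)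
def n14518 : Q := act 6 n13649
theorem D14518 : act 6 n13649 = n14518 := rfl
theorem F57311 : act 2 n14518 = n13660 := d18_1 D14518 (iv D13660) (iv F53833)
theorem F57312 : act 3 n14518 = n13652 := d23_1 D14518 (iv D13652) (iv F53834)
def n14519 : Q := act 7 n13649
theorem D14519 : act 7 n13649 = n14519 := rfl
theorem F57313 : act 2 n14519 = n13661 := d19_1 D14519 (iv D13661) (iv F53833)
theorem F57314 : act 5 n14519 = n13650 := d31_1 D14519 (iv D13650) D13649
def n14520 : Q := act 8 n13649
theorem D14520 : act 8 n13649 = n14520 := rfl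
theorem F57315 : act 2 n14520 = n13662 := d20_1 D14520 (iv D13662) (iv F53833)
theorem F57316 : act 3 n14520 = n13653 := d25_1 D14520 (iv D13653) (iv F53834)
theorem F57317 : act 5 n14520 = n13651 := d32_1 D14520 (iv D13651) D13649
def n14521 : Q := act 8 n13650
theorem D14521 : act 8 n13650 = n14521 := rfl
theorem F57318 : act 2 n14521 = n13663 := d20_1 D14521 (iv D13663) (iv F53835)
theorem F57319 : act 4 n14521 = n14248 := d29_1 D14521 (iv D14248) (iv F53836)
def n14522 : Q := act 7 n13651
theorem D14522 : act 7 n13651 = n14522 := rfl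
theorem F57320 : act 2 n14522 = n13664 := d19_1 D14522 (iv D13664) (iv F53837)
theorem F57321 : act 4 n14522 = n14249 := d28_1 D14522 (iv D14249) (iv F53839)
def n14523 : Q := act 8 n13652
theorem D14523 : act 8 n13652 = n14523 := rfl
theorem F57322 : act 2 n14523 = n13656 := d20_1 D14523 (iv D13656) (iv F53840)
theorem F57323 : act 6 n14523 = n13653 := d34_1 D14523 (iv D13653) D13652
def n14524 : Q := act 7 n13653
theorem D14524 : act 7 n13653 = n14524 := rfl
theorem F57324 : act 2 n14524 = n13657 := d19_1 D14524 (iv D13657) (iv F53841)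
theorem F57325 : act 5 n14524 = n13654 := d31_1 D14524 (iv D13654) (iv F53842)
def n14525 : Q := act 3 n13654
theorem D14525 : act 3 n13654 = n14525 := rfl
def n14526 : Q := act 4 n13655
theorem D14526 : act 4 n13655 = n14526 := rfl
theorem F57326 : act 7 n14526 = n14253 := d28_2 (iv F53845) D14526 (iv D14253)
def n14527 : Q := act 7 n13656
theorem D14527 : act 7 n13656 = n14527 := rfl
theorem F57327 : act 1 n14527 = n13683 := d13_1 D14527 (iv D13683) (iv F53846)
theorem F57328 : act 6 n14527 = n13657 := d33_1 D14527 (iv D13657) (iv F53848)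
def n14528 : Q := act 3 n13657
theorem D14528 : act 3 n13657 = n14528 := rfl
theorem F57329 : act 1 n14528 = n13684 := d9_1 D14528 (iv D13684) (iv F53849)
theorem F57330 : act 5 n14528 = n13658 := d22_2 (iv F53850) D14528 (iv D13658)
theorem F57331 : act 7 n14528 = n13670 := d24_2 D13657 D14528 (iv D13670) (iv D12708) (iv F49989)
def n14529 : Q := act 2 n13658
theorem D14529 : act 2 n13658 = n14529 := rfl
theorem F57332 : act 7 n14529 = n13671 := d19_2 (iv F53852) D14529 (iv D13671)
def n14530 : Q := act 8 n13659
theorem D14530 : act 8 n13659 = n14530 := rfl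
theorem F57333 : act 1 n14530 = n13700 := d14_1 D14530 (iv D13700) (iv F53853)
theorem F57334 : act 3 n14530 = n13672 := d25_1 D14530 (iv D13672) (iv F53854)
theorem F57335 : act 4 n14530 = n13662 := d29_1 D14530 (iv D13662) D13659
theorem F57336 : act 5 n14530 = n14268 := d32_1 D14530 (iv D14268) (iv F53855)
def n14531 : Q := act 8 n13660
theorem D14531 : act 8 n13660 = n14531 := rfl
theorem F57337 : act 1 n14531 = n13701 := d14_1 D14531 (iv D13701) (iv F53856)
theorem F57338 : act 3 n14531 = n13665 := d25_1 D14531 (iv D13665) (iv F53857)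
theorem F57339 : act 6 n14531 = n13662 := d34_1 D14531 (iv D13662) D13660
def n14532 : Q := act 8 n13661
theorem D14532 : act 8 n13661 = n14532 := rfl
theorem F57340 : act 1 n14532 = n13702 := d14_1 D14532 (iv D13702) (iv F53858)
theorem F57341 : act 3 n14532 = n14532 := d25_1 D14532 (iv D14532) F53859
theorem F57342 : act 5 n14532 = n13663 := d32_1 D14532 (iv D13663) (iv F53860)
def n14533 : Q := act 7 n13662
theorem D14533 : act 7 n13662 = n14533 := rfl
theorem F57343 : act 1 n14533 = n13703 := d13_1 D14533 (iv D13703) (iv F53861)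
theorem F57344 : act 5 n14533 = n13664 := d31_1 D14533 (iv D13664) (iv F53863)
def n14534 : Q := act 7 n13663
theorem D14534 : act 7 n13663 = n14534 := rfl
theorem F57345 : act 1 n14534 = n13704 := d13_1 D14534 (iv D13704) (iv F53864)
theorem F57346 : act 4 n14534 = n14272 := d28_1 D14534 (iv D14272) (iv F53866)
theorem F57347 : act 8 n14534 = n13664 := d35_2 D13663 D14534 (iv D13664) (iv D12702) D12701
def n14535 : Q := act 3 n13664
theorem D14535 : act 3 n13664 = n14535 := rfl
theorem F57348 : act 1 n14535 = n13705 := d9_1 D14535 (iv D13705) (iv F53867)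
theorem F57349 : act 7 n14535 = n13667 := d24_2 D13664 D14535 (iv D13667) (iv D12705) (iv F49999)
def n14536 : Q := act 7 n13665
theorem D14536 : act 7 n13665 = n14536 := rfl
theorem F57350 : act 1 n14536 = n13706 := d13_1 D14536 (iv D13706) (iv F53869)
theorem F57351 : act 2 n14536 = n13669 := d19_1 D14536 (iv D13669) (iv F53870)
theorem F57352 : act 4 n14536 = n13676 := d28_1 D14536 (iv D13676) (iv F53871)
theorem F57353 : act 6 n14536 = n13666 := d33_1 D14536 (iv D13666) (iv F53872)
theorem F57354 : act 8 n14536 = n14536 := d35_2 D13665 D14536 (iv D14536) (iv D13665) F50004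
def n14537 : Q := act 3 n13666
theorem D14537 : act 3 n13666 = n14537 := rfl
theorem F57355 : act 1 n14537 = n13707 := d9_1 D14537 (iv D13707) (iv F53873)
theorem F57356 : act 5 n14537 = n13667 := d22_2 (iv F53876) D14537 (iv D13667)
theorem F57357 : act 8 n14537 = n14537 := d25_2 F53877 D14537 (iv D14537)
def n14538 : Q := act 2 n13667
theorem D14538 : act 2 n13667 = n14538 := rfl
theorem F57358 : act 3 n14538 = n13671 := d15_2 D13667 D14538 (iv D13671) (iv D12709) (iv F50010)
theorem F57359 : act 8 n14538 = n14538 := d20_2 F53879 D14538 (iv D14538)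
def n14539 : Q := act 4 n13667
theorem D14539 : act 4 n13667 = n14539 := rfl
theorem F57360 : act 1 n14539 = n13709 := d10_1 D14539 (iv D13709) (iv F53878)
theorem F57361 : act 3 n14539 = n13668 := d21_1 D14539 (iv D13668) (iv D12706) (iv F50011) D13667
theorem F57362 : act 8 n14539 = n14539 := d29_2 F53879 D14539 (iv D14539)
def n14540 : Q := act 3 n13669
theorem D14540 : act 3 n13669 = n14540 := rfl
theorem F57363 : act 1 n14540 = n13686 := d9_1 D14540 (iv D13686) (iv F53883)
theorem F57364 : act 6 n14540 = n13670 := d23_2 (iv F53885) D14540 (iv D13670)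
theorem F57365 : act 8 n14540 = n14540 := d25_2 F53886 D14540 (iv D14540)
def n14541 : Q := act 2 n13670
theorem D14541 : act 2 n13670 = n14541 := rfl
theorem F57366 : act 5 n14541 = n13671 := d17_2 (iv F53888) D14541 (iv D13671)
theorem F57367 : act 8 n14541 = n14541 := d20_2 F53889 D14541 (iv D14541)
def n14542 : Q := act 4 n13670
theorem D14542 : act 4 n13670 = n14542 := rfl
theorem F57368 : act 1 n14542 = n13688 := d10_1 D14542 (iv D13688) (iv F53887)
theorem F57369 : act 3 n14542 = n13680 := d21_1 D14542 (iv D13680) (iv D12721) (iv F50021) D13670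
theorem F57370 : act 8 n14542 = n14542 := d29_2 F53889 D14542 (iv D14542)
def n14543 : Q := act 1 n13671
theorem D14543 : act 1 n13671 = n14543 := rfl
theorem F57371 : act 2 n14543 = n13689 := d8_2 D13671 D14543 (iv D13689) (iv D12730) (iv F50024)
theorem F57372 : act 8 n14543 = n14543 := d14_2 F53890 D14543 (iv D14543)
def n14544 : Q := act 7 n13672
theorem D14544 : act 7 n13672 = n14544 := rfl
theorem F57373 : act 0 n14544 = n13924 := d6_1 D14544 (iv F57212) F57207
theorem F57374 : act 1 n14544 = n13714 := d13_1 D14544 (iv D13714) (iv F53891)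
theorem F57375 : act 2 n14544 = n14111 := d19_1 D14544 (iv F56065) F56062
theorem F57376 : act 4 n14544 = n13675 := d28_1 D14544 (iv D13675) (iv F53892)
theorem F57377 : act 5 n14544 = n14280 := d31_1 D14544 (iv D14280) (iv F53893)
theorem F57378 : act 8 n14544 = n13772 := d35_2 D13672 D14544 F56836 F56835 (iv F53458)
def n14545 : Q := act 7 n13673
theorem D14545 : act 7 n13673 = n14545 := rfl
theorem F57379 : act 0 n14545 = n13925 := d6_1 D14545 (iv F57219) F57213
theorem F57380 : act 1 n14545 = n13715 := d13_1 D14545 (iv D13715) (iv F53894)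
theorem F57381 : act 2 n14545 = n14112 := d19_1 D14545 (iv F56079) F56075
theorem F57382 : act 5 n14545 = n14545 := d31_1 D14545 (iv D14545) F53896
theorem F57383 : act 6 n14545 = n13675 := d33_1 D14545 (iv D13675) (iv F53897)
theorem F57384 : act 8 n14545 = n13773 := d35_2 D13673 D14545 F56827 F56826 F53453
theorem F57385 : act 3 n13774 = n14545 := d25_3 F57384 F54304 D13774
def n14546 : Q := act 3 n13676
theorem D14546 : act 3 n13676 = n14546 := rfl
theorem F57386 : act 0 n14546 = n13926 := d2_1 D14546 (iv F57223) F57220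
theorem F57387 : act 1 n14546 = n13718 := d9_1 D14546 (iv D13718) (iv F53910)
theorem F57388 : act 5 n14546 = n14546 := d22_2 F53912 D14546 (iv D14546)
theorem F57389 : act 6 n14546 = n13677 := d23_2 (iv F53913) D14546 (iv D13677)
theorem F57390 : act 7 n14546 = n13774 := d24_2 D13676 D14546 F57385 (iv D14545) F53895
theorem F57391 : act 8 n14546 = n14546 := d25_2 F53914 D14546 (iv D14546)
theorem F57392 : act 2 n13775 = n14546 := d19_3 F57390 F54307 D13775
def n14547 : Q := act 4 n13677
theorem D14547 : act 4 n13677 = n14547 := rfl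
theorem F57393 : act 0 n14547 = n13918 := d3_1 D14547 F54947 (iv F53915)
theorem F57394 : act 1 n14547 = n13720 := d10_1 D14547 (iv D13720) (iv F53916)
theorem F57395 : act 2 n14547 = n13770 := d16_1 D14547 F54292 F53920
theorem F57396 : act 5 n14547 = n13768 := d26_2 (iv F53917) D14547 F54282 F50558 F50065
theorem F57397 : act 7 n14547 = n13767 := d28_2 (iv F53918) D14547 F54278
theorem F57398 : act 8 n14547 = n14547 := d29_2 F53919 D14547 (iv D14547)
def n14548 : Q := act 2 n13678
theorem D14548 : act 2 n13678 = n14548 := rfl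
theorem F57399 : act 0 n14548 = n13728 := d1_1 D14548 (iv F55378) F55376
theorem F57400 : act 1 n14548 = n13729 := d8_1 D14548 F54119 (iv F51704) F51705 (iv F53921)
theorem F57401 : act 3 n14548 = n13775 := d15_2 D13678 D14548 F57392 (iv D14546) F53911
theorem F57402 : act 4 n14548 = n13815 := d16_2 F55494 D14548 (iv F55493)
theorem F57403 : act 5 n14548 = n14548 := d17_2 F53922 D14548 (iv D14548)
theorem F57404 : act 6 n14548 = n13679 := d18_2 (iv F53923) D14548 (iv D13679)
theorem F57405 : act 7 n14548 = n13727 := d19_2 (iv F55375) D14548 (iv F55370)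
theorem F57406 : act 8 n14548 = n14548 := d20_2 F53924 D14548 (iv D14548)
def n14549 : Q := act 4 n13679
theorem D14549 : act 4 n13679 = n14549 := rfl
theorem F57407 : act 0 n14549 = n13813 := d3_1 D14549 F54504 (iv F53925)
theorem F57408 : act 1 n14549 = n13810 := d10_1 D14549 (iv D13810) F53930
theorem F57409 : act 2 n14549 = n13680 := d16_1 D14549 (iv D13680) D13679
theorem F57410 : act 5 n14549 = n14030 := d26_2 (iv F53927) D14549 F55483 F53752 (iv F50082)
theorem F57411 : act 6 n14549 = n13815 := d27_2 F57404 D14549 (iv F57402)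
theorem F57412 : act 7 n14549 = n13812 := d28_2 (iv F53928) D14549 F54500
theorem F57413 : act 8 n14549 = n14549 := d29_2 F53929 D14549 (iv D14549)
def n14550 : Q := act 3 n13681
theorem D14550 : act 3 n13681 = n14550 := rfl
theorem F57414 : act 0 n14550 = n13691 := d2_1 D14550 (iv D13691) (iv F53933)
theorem F57415 : act 5 n14550 = n13682 := d22_2 (iv F53934) D14550 (iv D13682)
theorem F57416 : act 7 n14550 = n14550 := d24_2 D13681 D14550 (iv D14550) (iv D13681) F50088
theorem F57417 : act 8 n14550 = n13684 := d25_2 (iv F53935) D14550 (iv D13684)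
def n14551 : Q := act 3 n13683
theorem D14551 : act 3 n13683 = n14551 := rfl
theorem F57418 : act 0 n14551 = n13692 := d2_1 D14551 (iv D13692) (iv F53939)
theorem F57419 : act 6 n14551 = n13684 := d23_2 (iv F53940) D14551 (iv D13684)
theorem F57420 : act 7 n14551 = n13686 := d24_2 D13683 D14551 (iv D13686) (iv D12728) (iv F50094)
def n14552 : Q := act 2 n13684
theorem D14552 : act 2 n13684 = n14552 := rfl

end Cfsg.Agent.Helper17.Fi22bTC
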