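import Cfsg.Agent.Helper17.Fi22bTC.Facts4

set_option autoImplicit false
set_option linter.all false

noncomputable section

namespace Cfsg.Agent.Helper17.Fi22bTC

theorem F57421 : act 0 n14552 = n13693 := d1_1 D14552 (iv D13693) (iv F53941)
theorem F57422 : act 5 n14552 = n13685 := d17_2 (iv F53942) D14552 (iv D13685)
theorem F57423 : act 7 n14552 = n13687 := d19_2 (iv F53943) D14552 (iv D13687)
def n14553 : Q := act 4 n13684
theorem D14553 : act 4 n13684 = n14553 := rfl
theorem F57424 : act 0 n14553 = n13694 := d3_1 D14553 (iv D13694) (iv F53941)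
theorem F57425 : act 7 n14553 = n13688 := d28_2 (iv F53943) D14553 (iv D13688)
def n14554 : Q := act 1 n13685
theorem D14554 : act 1 n13685 = n14554 := rfl
theorem F57426 : act 7 n14554 = n13689 := d13_2 (iv F53945) D14554 (iv D13689)
def n14555 : Q := act 1 n13687
theorem D14555 : act 1 n13687 = n14555 := rfl
theorem F57427 : act 3 n14555 = n13721 := d9_2 (iv F53950) D14555 (iv D13721)
theorem F57428 : act 5 n14555 = n13689 := d11_2 (iv F53951) D14555 (iv D13689)
theorem F57429 : act 8 n14555 = n14555 := d14_2 F53952 D14555 (iv D14555)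
def n14556 : Q := act 0 n13689
theorem D14556 : act 0 n13689 = n14556 := rfl
theorem F57430 : act 1 n14556 = n13696 := d0_2 D13689 D14556 (iv D13696) (iv D12743) (iv F50108)
theorem F57431 : act 3 n14556 = n13722 := d2_2 (iv F53956) D14556 (iv D13722)
theorem F57432 : act 8 n14556 = n14556 := d7_2 F53957 D14556 (iv D14556)
def n14557 : Q := act 0 n13695
theorem D14557 : act 0 n13695 = n14557 := rfl
theorem F57433 : act 7 n14557 = n13696 := d6_2 (iv F53974) D14557 (iv D13696)
def n14558 : Q := act 8 n13697
theorem D14558 : act 8 n13697 = n14558 := rfl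
theorem F57434 : act 0 n14558 = n14558 := d7_1 D14558 (iv D14558) F53977
theorem F57435 : act 2 n14558 = n14361 := d20_1 D14558 F56704 (iv F53978)
theorem F57436 : act 3 n14558 = n14558 := d25_1 D14558 (iv D14558) F53979
theorem F57437 : act 4 n14558 = n14360 := d29_1 D14558 F56700 (iv F53980)
theorem F57438 : act 6 n14558 = n13698 := d34_1 D14558 (iv D13698) D13697
def n14559 : Q := act 7 n13698
theorem D14559 : act 7 n13698 = n14559 := rfl
theorem F57439 : act 0 n14559 = n14559 := d6_1 D14559 (iv D14559) F53982
theorem F57440 : act 2 n14559 = n14370 := d19_1 D14559 F56738 (iv F53983)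
theorem F57441 : act 4 n14559 = n14369 := d28_1 D14559 F56735 (iv F53985)
theorem F57442 : act 5 n14559 = n13699 := d31_1 D14559 (iv D13699) (iv F53986)
theorem F57443 : act 8 n14559 = n14322 := d35_2 D13698 D14559 (iv D14322) (iv D13414) (iv F50157)
def n14560 : Q := act 3 n13699
theorem D14560 : act 3 n13699 = n14560 := rfl
theorem F57444 : act 0 n14560 = n14560 := d2_1 D14560 (iv D14560) F53987
theorem F57445 : act 7 n14560 = n14560 := d24_2 D13699 D14560 (iv D14560) (iv D13699) F50159
theorem F57446 : act 8 n14560 = n14323 := d25_2 (iv F53989) D14560 (iv D14323)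
def n14561 : Q := act 7 n13700
theorem D14561 : act 7 n13700 = n14561 := rfl
theorem F57447 : act 0 n14561 = n14561 := d6_1 D14561 (iv D14561) F53990
theorem F57448 : act 4 n14561 = n13703 := d28_1 D14561 (iv D13703) (iv F53992)
theorem F57449 : act 5 n14561 = n14364 := d31_1 D14561 (iv D14364) (iv F53993)
def n14562 : Q := act 7 n13701
theorem D14562 : act 7 n13701 = n14562 := rfl
theorem F57450 : act 0 n14562 = n14562 := d6_1 D14562 (iv D14562) F53994
theorem F57451 : act 6 n14562 = n13703 := d33_1 D14562 (iv D13703) (iv F53996)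
def n14563 : Q := act 7 n13702
theorem D14563 : act 7 n13702 = n14563 := rfl
theorem F57452 : act 0 n14563 = n14563 := d6_1 D14563 (iv D14563) F53997
theorem F57453 : act 5 n14563 = n13704 := d31_1 D14563 (iv D13704) (iv F53999)
theorem F57454 : act 8 n14563 = n13703 := d35_2 D13702 D14563 (iv D13703) (iv D12751) D12750
def n14564 : Q := act 3 n13703
theorem D14564 : act 3 n13703 = n14564 := rfl
theorem F57455 : act 0 n14564 = n14564 := d2_1 D14564 (iv D14564) F54000
theorem F57456 : act 5 n14564 = n13705 := d22_2 (iv F54001) D14564 (iv D13705)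
theorem F57457 : act 7 n14564 = n13707 := d24_2 D13703 D14564 (iv D13707) (iv D12755) (iv F50172)
def n14565 : Q := act 3 n13704
theorem D14565 : act 3 n13704 = n14565 := rfl
theorem F57458 : act 0 n14565 = n14565 := d2_1 D14565 (iv D14565) F54002
theorem F57459 : act 7 n14565 = n14565 := d24_2 D13704 D14565 (iv D14565) (iv D13704) F50175
theorem F57460 : act 8 n14565 = n13705 := d25_2 (iv F54004) D14565 (iv D13705)
def n14566 : Q := act 2 n13705
theorem D14566 : act 2 n13705 = n14566 := rfl
theorem F57461 : act 0 n14566 = n14566 := d1_1 D14566 (iv D14566) F54005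
theorem F57462 : act 7 n14566 = n13708 := d19_2 (iv F54006) D14566 (iv D13708)
def n14567 : Q := act 4 n13705
theorem D14567 : act 4 n13705 = n14567 := rfl
theorem F57463 : act 0 n14567 = n14567 := d3_1 D14567 (iv D14567) F54005
theorem F57464 : act 3 n14567 = n14370 := d21_1 D14567 (iv D14370) (iv D13459) (iv F50178) D13705
theorem F57465 : act 7 n14567 = n13709 := d28_2 (iv F54006) D14567 (iv D13709)
def n14568 : Q := act 3 n13706
theorem D14568 : act 3 n13706 = n14568 := rfl
theorem F57466 : act 0 n14568 = n14568 := d2_1 D14568 (iv D14568) F54007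
theorem F57467 : act 6 n14568 = n13707 := d23_2 (iv F54010) D14568 (iv D13707)
theorem F57468 : act 8 n14568 = n14568 := d25_2 F54011 D14568 (iv D14568)
def n14569 : Q := act 2 n13707
theorem D14569 : act 2 n13707 = n14569 := rfl
theorem F57469 : act 0 n14569 = n14569 := d1_1 D14569 (iv D14569) F54012
theorem F57470 : act 3 n14569 = n13711 := d15_2 D13707 D14569 (iv D13711) (iv D12759) (iv F50184)
theorem F57471 : act 5 n14569 = n13708 := d17_2 (iv F54013) D14569 (iv D13708)
theorem F57472 : act 8 n14569 = n14569 := d20_2 F54014 D14569 (iv D14569)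
theorem F57473 : act 4 n14568 = n14569 := d21_0 F57470 F54061 (iv D13718) (iv F54009) D14568
def n14570 : Q := act 4 n13707
theorem D14570 : act 4 n13707 = n14570 := rfl
theorem F57474 : act 0 n14570 = n14570 := d3_1 D14570 (iv D14570) F54012
theorem F57475 : act 2 n14570 = n14568 := d16_1 D14570 F57473 (iv D14569)
theorem F57476 : act 3 n14570 = n13720 := d21_1 D14570 (iv D13720) (iv D12768) (iv F50185) D13707
theorem F57477 : act 6 n14570 = n14569 := d27_2 F57467 D14570 (iv F57473)
theorem F57478 : act 8 n14570 = n14570 := d29_2 F54014 D14570 (iv D14570)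
def n14571 : Q := act 1 n13708
theorem D14571 : act 1 n13708 = n14571 := rfl
theorem F57479 : act 3 n14571 = n13713 := d9_2 (iv F54016) D14571 (iv D13713)
theorem F57480 : act 8 n14571 = n14571 := d14_2 F54017 D14571 (iv D14571)
def n14572 : Q := act 4 n13708
theorem D14572 : act 4 n13708 = n14572 := rfl
theorem F57481 : act 0 n14572 = n14572 := d3_1 D14572 (iv D14572) F54015
theorem F57482 : act 2 n14572 = n13709 := d16_1 D14572 (iv D13709) D13708
theorem F57483 : act 3 n14572 = n14572 := d21_1 D14572 (iv D14572) F54016 F50204 (iv F54016)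
theorem F57484 : act 8 n14572 = n14572 := d29_2 F54017 D14572 (iv D14572)
def n14573 : Q := act 1 n13711
theorem D14573 : act 1 n13711 = n14573 := rfl
theorem F57485 : act 2 n14573 = n13721 := d8_2 D13711 D14573 (iv D13721) (iv D12776) (iv F50200)
theorem F57486 : act 4 n14573 = n14546 := d10_2 (iv F54061) D14573 F57387
theorem F57487 : act 5 n14573 = n13713 := d11_2 (iv F54026) D14573 (iv D13713)
theorem F57488 : act 6 n14573 = n14547 := d12_2 F54072 D14573 F57394
theorem F57489 : act 8 n14573 = n14573 := d14_2 F54027 D14573 (iv D14573)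
def n14574 : Q := act 0 n13713
theorem D14574 : act 0 n13713 = n14574 := rfl
theorem F57490 : act 1 n14574 = n14574 := d0_2 D13713 D14574 (iv D14574) (iv D13713) F50203
theorem F57491 : act 2 n14574 = n13722 := d1_2 (iv F54033) D14574 (iv D13722)
theorem F57492 : act 4 n14574 = n14574 := d3_2 F54034 D14574 (iv D14574)
theorem F57493 : act 8 n14574 = n14574 := d7_2 F54035 D14574 (iv D14574)
def n14575 : Q := act 3 n13714
theorem D14575 : act 3 n13714 = n14575 := rfl
theorem F57494 : act 0 n14575 = n14575 := d2_1 D14575 (iv D14575) F54036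
theorem F57495 : act 5 n14575 = n14373 := d22_2 (iv F54039) D14575 (iv D14373)
def n14576 : Q := act 3 n13715
theorem D14576 : act 3 n13715 = n14576 := rfl
theorem F57496 : act 0 n14576 = n14576 := d2_1 D14576 (iv D14576) F54040
theorem F57497 : act 1 n14576 = n13774 := d9_1 D14576 F57385 F57380
theorem F57498 : act 5 n14576 = n14576 := d22_2 F54042 D14576 (iv D14576)
theorem F57499 : act 6 n14576 = n13717 := d23_2 (iv F54043) D14576 (iv D13717)
theorem F57500 : act 7 n14576 = n13718 := d24_2 D13715 D14576 (iv D13718) (iv D12767) (iv F50212)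
theorem F57501 : act 8 n14576 = n13725 := d25_2 F57047 D14576 F57048
theorem F57502 : act 2 n13726 = n14576 := d36_7 D8866 D10499 D11462 (iv F49201) (iv F50396) F50395 (iv F54100) (iv D14576) (iv F57047) (iv D14437) F53556 F53558 F53557 F49663 (iv F49286) F49287 F45224 D11503 D12528 (iv F52489) (iv D13297) (iv D12311) (iv D11291) F40887 F32771 (iv F38234) D7844 (iv F31777) (iv F40071) F40072 F33349 F33348 (iv F33312) (iv F41190) (iv F44835) (iv D11402) (iv F42431) (iv D10782) (iv F41143) F41142 D10634 (iv F45358) F45359 (iv D10859) D10860 F42787 (iv F45032) F45033 (iv F49150) (iv F52735) F52734 (iv F52283) F52284 (iv D13234) (iv F51313) F51310 F47225 F43242 F39829 (iv F40941) (iv F44560) (iv F48644) D13355 D14281 (iv F56379) F55366 F55365 (iv F55320) F55319 F51570 F47474 (iv D11038) (iv D10131) (iv F32967) F32969 F29913 F29912 (iv F32722) (iv D8588) (iv D6264) (iv F24004) D8529 D10312 F40739 D10745 F42329 F39158 F29781 F38558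
theorem F57503 : act 4 n14576 = n14362 := d16_2 (iv F54102) F57502 (iv D14362)
def n14577 : Q := act 1 n13730
theorem D14577 : act 1 n13730 = n14577 := rfl
theorem F57504 : act 2 n14577 = n14577 := d8_2 D13730 D14577 (iv D14577) (iv D13730) F50464
theorem F57505 : act 3 n14577 = n13738 := d9_2 (iv F54126) D14577 (iv D13738)
theorem F57506 : act 5 n14577 = n14044 := d11_2 (iv F54127) D14577 (iv D14044)
def n14578 : Q := act 4 n13730
theorem D14578 : act 4 n13730 = n14578 := rfl
theorem F57507 : act 0 n14578 = n13850 := d3_1 D14578 (iv D13850) (iv F54125)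
theorem F57508 : act 2 n14578 = n13731 := d16_1 D14578 (iv D13731) D13730
theorem F57509 : act 6 n14578 = n13894 := d27_2 F56007 D14578 (iv F56006)
theorem F57510 : act 7 n14578 = n13880 := d28_2 F55389 D14578 (iv F55386)
def n14579 : Q := act 8 n13730
theorem D14579 : act 8 n13730 = n14579 := rfl
theorem F57511 : act 0 n14579 = n13851 := d7_1 D14579 (iv D13851) (iv F54125)
theorem F57512 : act 2 n14579 = n13732 := d20_1 D14579 (iv D13732) D13730
theorem F57513 : act 3 n14579 = n13740 := d25_1 D14579 (iv D13740) (iv F54126)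
theorem F57514 : act 5 n14579 = n14046 := d32_1 D14579 (iv D14046) (iv F54127)
def n14580 : Q := act 5 n13731
theorem D14580 : act 5 n13731 = n14580 := rfl
theorem F57515 : act 0 n14580 = n13852 := d4_1 D14580 (iv D13852) (iv F54128)
theorem F57516 : act 1 n14580 = n14580 := d11_1 D14580 (iv D14580) F54129
theorem F57517 : act 3 n14580 = n14580 := d22_1 D14580 (iv D14580) F54130
theorem F57518 : act 4 n14580 = n14047 := d26_1 D14580 (iv D14047) (iv D13131) (iv F50465) D13731
theorem F57519 : act 7 n14580 = n13903 := d31_2 (iv F54132) D14580 (iv D13903)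
def n14581 : Q := act 8 n13731
theorem D14581 : act 8 n13731 = n14581 := rfl
theorem F57520 : act 0 n14581 = n13853 := d7_1 D14581 (iv D13853) (iv F54128)
theorem F57521 : act 1 n14581 = n14581 := d14_1 D14581 (iv D14581) F54129
theorem F57522 : act 3 n14581 = n14581 := d25_1 D14581 (iv D14581) F54130
theorem F57523 : act 4 n14581 = n13732 := d29_1 D14581 (iv D13732) D13731
theorem F57524 : act 6 n14581 = n13915 := d34_1 D14581 (iv D13915) (iv F54131)
def n14582 : Q := act 7 n13732
theorem D14582 : act 7 n13732 = n14582 := rfl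
theorem F57525 : act 0 n14582 = n13854 := d6_1 D14582 (iv D13854) (iv F54133)
theorem F57526 : act 1 n14582 = n14582 := d13_1 D14582 (iv D14582) F54134
theorem F57527 : act 3 n14582 = n14451 := d24_1 D14582 (iv D14451) F53632 (iv F50471) (iv F54135)
theorem F57528 : act 5 n14582 = n14049 := d31_1 D14582 (iv D14049) (iv F54136)
def n14583 : Q := act 2 n13733
theorem D14583 : act 2 n13733 = n14583 := rfl
theorem F57529 : act 0 n14583 = n13856 := d1_1 D14583 (iv D13856) (iv F54137)
theorem F57530 : act 1 n14583 = n14064 := d8_1 D14583 F55618 F51940 F50597 (iv F54138)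
theorem F57531 : act 4 n14583 = n14017 := d16_2 (iv F54139) D14583 F55425
theorem F57532 : act 5 n14583 = n13735 := d17_2 (iv F54140) D14583 (iv D13735)
theorem F57533 : act 6 n14583 = n14050 := d18_2 (iv F54141) D14583 (iv D14050)
theorem F57534 : act 7 n14583 = n13744 := d19_2 (iv F54142) D14583 (iv D13744)
def n14584 : Q := act 8 n13733
theorem D14584 : act 8 n13733 = n14584 := rfl
theorem F57535 : act 0 n14584 = n13857 := d7_1 D14584 (iv D13857) (iv F54137)
theorem F57536 : act 1 n14584 = n13776 := d14_1 D14584 (iv D13776) (iv F54138)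
theorem F57537 : act 3 n14584 = n13734 := d25_1 D14584 (iv D13734) D13733
theorem F57538 : act 4 n14584 = n14027 := d29_1 D14584 (iv D14027) (iv F54139)
theorem F57539 : act 5 n14584 = n13737 := d32_1 D14584 (iv D13737) (iv F54140)
theorem F57540 : act 6 n14584 = n14051 := d34_1 D14584 (iv D14051) (iv F54141)
def n14585 : Q := act 1 n13735
theorem D14585 : act 1 n13735 = n14585 := rfl
theorem F57541 : act 0 n14585 = n14163 := d0_1 D14585 F55992 F54734 (iv D13858) (iv F54149)
theorem F57542 : act 2 n14585 = n13777 := d8_2 D13735 D14585 (iv D13777) (iv D12842) (iv F50478)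
theorem F57543 : act 5 n14585 = n14064 := d11_2 F57532 D14585 (iv F57530)
theorem F57544 : act 6 n14585 = n13738 := d12_2 (iv F54150) D14585 (iv D13738)
theorem F57545 : act 7 n14585 = n13747 := d13_2 (iv F54151) D14585 (iv D13747)
theorem F57546 : act 4 n14071 = n14585 := d28_3 F57545 (iv F54202) (iv F55644)
def n14586 : Q := act 4 n13735
theorem D14586 : act 4 n13735 = n14586 := rfl
theorem F57547 : act 0 n14586 = n13859 := d3_1 D14586 (iv D13859) (iv F54149)
theorem F57548 : act 1 n14586 = n14071 := d10_1 D14586 F57546 (iv D14585)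
theorem F57549 : act 2 n14586 = n13736 := d16_1 D14586 (iv D13736) D13735
theorem F57550 : act 5 n14586 = n14068 := d26_2 F57532 D14586 (iv D14068) (iv F55427) (iv F57531)
theorem F57551 : act 6 n14586 = n13739 := d27_2 (iv F54150) D14586 (iv D13739)
theorem F57552 : act 7 n14586 = n13748 := d28_2 (iv F54151) D14586 (iv D13748)
def n14587 : Q := act 8 n13735
theorem D14587 : act 8 n13735 = n14587 := rfl
theorem F57553 : act 0 n14587 = n13860 := d7_1 D14587 (iv D13860) (iv F54149)
theorem F57554 : act 2 n14587 = n13737 := d20_1 D14587 (iv D13737) D13735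
theorem F57555 : act 6 n14587 = n13740 := d34_1 D14587 (iv D13740) (iv F54150)
def n14588 : Q := act 8 n13736
theorem D14588 : act 8 n13736 = n14588 := rfl
theorem F57556 : act 0 n14588 = n13861 := d7_1 D14588 (iv D13861) (iv F54152)
theorem F57557 : act 1 n14588 = n13779 := d14_1 D14588 (iv D13779) (iv F54153)
theorem F57558 : act 3 n14588 = n14588 := d25_1 D14588 (iv D14588) F54154
theorem F57559 : act 4 n14588 = n13737 := d29_1 D14588 (iv D13737) D13736
theorem F57560 : act 5 n14588 = n14124 := d32_1 D14588 (iv D14124) (iv F54155)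
theorem F57561 : act 6 n14588 = n13742 := d34_1 D14588 (iv D13742) (iv F54156)
def n14589 : Q := act 7 n13737
theorem D14589 : act 7 n13737 = n14589 := rfl
theorem F57562 : act 0 n14589 = n13862 := d6_1 D14589 (iv D13862) (iv F54158)
theorem F57563 : act 1 n14589 = n13780 := d13_1 D14589 (iv D13780) (iv F54159)
theorem F57564 : act 3 n14589 = n14284 := d24_1 D14589 (iv D14284) F52695 (iv F50485) (iv F54160)
theorem F57565 : act 6 n14589 = n13743 := d33_1 D14589 (iv D13743) (iv F54161)
theorem F57566 : act 8 n14589 = n13751 := d35_2 D13737 D14589 (iv D13751) (iv D12819) (iv F50480)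
def n14590 : Q := act 0 n13738
theorem D14590 : act 0 n13738 = n14590 := rfl
theorem F57567 : act 1 n14590 = n13863 := d0_2 D13738 D14590 (iv D13863) (iv D12933) (iv F50486)
theorem F57568 : act 2 n14590 = n13781 := d1_2 (iv F54162) D14590 (iv D13781)
theorem F57569 : act 5 n14590 = n14055 := d4_2 (iv F54163) D14590 (iv D14055)
theorem F57570 : act 6 n14590 = n14163 := d5_2 F57544 D14590 (iv F57541)
theorem F57571 : act 7 n14590 = n13752 := d6_2 (iv F54164) D14590 (iv D13752)
theorem F57572 : act 4 n14227 = n14590 := d27_3 F57570 F55994 D14227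
def n14591 : Q := act 4 n13738
theorem D14591 : act 4 n13738 = n14591 := rfl
theorem F57573 : act 0 n14591 = n14227 := d3_1 D14591 F57572 (iv D14590)
theorem F57574 : act 1 n14591 = n13739 := d10_1 D14591 (iv D13739) D13738
theorem F57575 : act 2 n14591 = n13782 := d16_1 D14591 (iv D13782) (iv F54162)
theorem F57576 : act 6 n14591 = n14071 := d27_2 F57544 D14591 F57546
theorem F57577 : act 7 n14591 = n13753 := d28_2 (iv F54164) D14591 (iv D13753)
theorem F57578 : act 5 n14085 = n14591 := d30_5 F57576 (iv D14071) F51951 D13156 D14085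
def n14592 : Q := act 8 n13738
theorem D14592 : act 8 n13738 = n14592 := rfl
theorem F57579 : act 1 n14592 = n13740 := d14_1 D14592 (iv D13740) D13738
theorem F57580 : act 2 n14592 = n13783 := d20_1 D14592 (iv D13783) (iv F54162)
theorem F57581 : act 5 n14592 = n14057 := d32_1 D14592 (iv D14057) (iv F54163)
def n14593 : Q := act 3 n13739
theorem D14593 : act 3 n13739 = n14593 := rfl
theorem F57582 : act 0 n14593 = n13866 := d2_1 D14593 (iv D13866) (iv F54165)
theorem F57583 : act 2 n14593 = n14593 := d15_1 D14593 (iv D14593) F54166 F50491 (iv F54166)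
def n14594 : Q := act 5 n13739
theorem D14594 : act 5 n13739 = n14594 := rfl
theorem F57584 : act 0 n14594 = n13867 := d4_1 D14594 (iv D13867) (iv F54165)
theorem F57585 : act 1 n14594 = n14085 := d11_1 D14594 F57578 F57574
theorem F57586 : act 2 n14594 = n13741 := d17_1 D14594 (iv D13741) (iv F54166)
theorem F57587 : act 4 n14594 = n14059 := d26_1 D14594 (iv D14059) (iv D13138) (iv F50487) D13739
theorem F57588 : act 6 n14594 = n14079 := d30_2 F57551 D14594 (iv D14079) (iv F55633) (iv F57550)
theorem F57589 : act 7 n14594 = n13756 := d31_2 (iv F54167) D14594 (iv D13756)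
def n14595 : Q := act 8 n13739
theorem D14595 : act 8 n13739 = n14595 := rfl
theorem F57590 : act 0 n14595 = n13868 := d7_1 D14595 (iv D13868) (iv F54165)
theorem F57591 : act 2 n14595 = n13742 := d20_1 D14595 (iv D13742) (iv F54166)
theorem F57592 : act 4 n14595 = n13740 := d29_1 D14595 (iv D13740) D13739
def n14596 : Q := act 7 n13740
theorem D14596 : act 7 n13740 = n14596 := rfl
theorem F57593 : act 0 n14596 = n13869 := d6_1 D14596 (iv D13869) (iv F54168)
theorem F57594 : act 2 n14596 = n13743 := d19_1 D14596 (iv D13743) (iv F54169)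
theorem F57595 : act 5 n14596 = n14061 := d31_1 D14596 (iv D14061) (iv F54170)
theorem F57596 : act 8 n14596 = n13758 := d35_2 D13740 D14596 (iv D13758) (iv D12822) (iv F50488)
def n14597 : Q := act 8 n13741
theorem D14597 : act 8 n13741 = n14597 := rfl
theorem F57597 : act 0 n14597 = n13871 := d7_1 D14597 (iv D13871) (iv F54171)
theorem F57598 : act 1 n14597 = n13786 := d14_1 D14597 (iv D13786) (iv F54172)
theorem F57599 : act 3 n14597 = n14597 := d25_1 D14597 (iv D14597) F54173
theorem F57600 : act 4 n14597 = n14062 := d29_1 D14597 (iv D14062) (iv F54174)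
theorem F57601 : act 5 n14597 = n13742 := d32_1 D14597 (iv D13742) D13741
theorem F57602 : act 6 n14597 = n14131 := d34_1 D14597 (iv D14131) (iv F54175)
def n14598 : Q := act 7 n13742
theorem D14598 : act 7 n13742 = n14598 := rfl
theorem F57603 : act 0 n14598 = n13872 := d6_1 D14598 (iv D13872) (iv F54177)
theorem F57604 : act 1 n14598 = n13787 := d13_1 D14598 (iv D13787) (iv F54178)
theorem F57605 : act 4 n14598 = n13743 := d28_1 D14598 (iv D13743) (iv F54180)
theorem F57606 : act 8 n14598 = n13761 := d35_2 D13742 D14598 (iv D13761) (iv D12824) (iv F50492)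
def n14599 : Q := act 1 n13744
theorem D14599 : act 1 n13744 = n14599 := rfl
theorem F57607 : act 0 n14599 = n14014 := d0_1 D14599 (iv D14014) F51735 (iv F51047) (iv F54186)
theorem F57608 : act 2 n14599 = n13788 := d8_2 D13744 D14599 (iv D13788) (iv D12851) (iv F50498)
theorem F57609 : act 5 n14599 = n13747 := d11_2 (iv F54187) D14599 (iv D13747)
theorem F57610 : act 6 n14599 = n14017 := d12_2 (iv F54188) D14599 F55424
theorem F57611 : act 7 n14599 = n14064 := d13_2 F57534 D14599 (iv F57530)
theorem F57612 : act 4 n14050 = n14599 := d28_3 F57611 (iv D14064) (iv F55564)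
def n14600 : Q := act 4 n13744
theorem D14600 : act 4 n13744 = n14600 := rfl
theorem F57613 : act 0 n14600 = n13873 := d3_1 D14600 (iv D13873) (iv F54186)
theorem F57614 : act 1 n14600 = n14050 := d10_1 D14600 F57612 (iv D14599)
theorem F57615 : act 2 n14600 = n13745 := d16_1 D14600 (iv D13745) D13744
theorem F57616 : act 5 n14600 = n14052 := d26_2 (iv F54187) D14600 F55571 F54207 (iv D13748)
theorem F57617 : act 6 n14600 = n14064 := d27_2 (iv F54188) D14600 (iv D14064)
theorem F57618 : act 7 n14600 = n14017 := d28_2 F57534 D14600 (iv F57531)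
def n14601 : Q := act 8 n13744
theorem D14601 : act 8 n13744 = n14601 := rfl
theorem F57619 : act 0 n14601 = n13874 := d7_1 D14601 (iv D13874) (iv F54186)
theorem F57620 : act 2 n14601 = n13746 := d20_1 D14601 (iv D13746) D13744
theorem F57621 : act 5 n14601 = n13749 := d32_1 D14601 (iv D13749) (iv F54187)
theorem F57622 : act 6 n14601 = n14065 := d34_1 D14601 (iv D14065) (iv F54188)
def n14602 : Q := act 8 n13745
theorem D14602 : act 8 n13745 = n14602 := rfl
theorem F57623 : act 0 n14602 = n13875 := d7_1 D14602 (iv D13875) (iv F54189)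
theorem F57624 : act 1 n14602 = n13790 := d14_1 D14602 (iv D13790) (iv F54190)
theorem F57625 : act 3 n14602 = n14602 := d25_1 D14602 (iv D14602) F54191
theorem F57626 : act 4 n14602 = n13746 := d29_1 D14602 (iv D13746) D13745
theorem F57627 : act 5 n14602 = n14115 := d32_1 D14602 (iv D14115) (iv F54192)
theorem F57628 : act 6 n14602 = n14066 := d34_1 D14602 (iv D14066) (iv F54193)
def n14603 : Q := act 7 n13746
theorem D14603 : act 7 n13746 = n14603 := rfl
theorem F57629 : act 0 n14603 = n13876 := d6_1 D14603 (iv D13876) (iv F54195)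
theorem F57630 : act 1 n14603 = n13791 := d13_1 D14603 (iv D13791) (iv F54196)
theorem F57631 : act 3 n14603 = n13950 := d24_1 D14603 (iv D13950) F51329 (iv F50506) (iv F54197)
theorem F57632 : act 5 n14603 = n13751 := d31_1 D14603 (iv D13751) (iv F54198)
theorem F57633 : act 6 n14603 = n14067 := d33_1 D14603 (iv D14067) (iv F54199)
def n14604 : Q := act 0 n13747
theorem D14604 : act 0 n13747 = n14604 := rfl
theorem F57634 : act 1 n14604 = n13877 := d0_2 D13747 D14604 (iv D13877) (iv D12942) (iv F50507)
theorem F57635 : act 2 n14604 = n13792 := d1_2 (iv F54200) D14604 (iv D13792)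
theorem F57636 : act 3 n14604 = n14599 := d2_2 F55409 D14604 F57607
theorem F57637 : act 4 n14604 = n14207 := d3_2 F54202 D14604 F56148
theorem F57638 : act 5 n14604 = n14014 := d4_2 F57609 D14604 (iv F57607)
theorem F57639 : act 6 n14604 = n13752 := d5_2 (iv F54201) D14604 (iv D13752)
theorem F57640 : act 7 n14604 = n14163 := d6_2 F57545 D14604 (iv F57541)
def n14605 : Q := act 8 n13747
theorem D14605 : act 8 n13747 = n14605 := rfl
theorem F57641 : act 1 n14605 = n13749 := d14_1 D14605 (iv D13749) D13747
theorem F57642 : act 2 n14605 = n13793 := d20_1 D14605 (iv D13793) (iv F54200)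
theorem F57643 : act 4 n14605 = n14278 := d29_1 D14605 F56367 F54202
theorem F57644 : act 6 n14605 = n13754 := d34_1 D14605 (iv D13754) (iv F54201)
def n14606 : Q := act 8 n13748
theorem D14606 : act 8 n13748 = n14606 := rfl
theorem F57645 : act 0 n14606 = n13882 := d7_1 D14606 (iv D13882) (iv F54203)
theorem F57646 : act 1 n14606 = n14278 := d14_1 D14606 F56367 (iv F54204)
theorem F57647 : act 2 n14606 = n13750 := d20_1 D14606 (iv D13750) (iv F54205)
theorem F57648 : act 4 n14606 = n13749 := d29_1 D14606 (iv D13749) D13748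
theorem F57649 : act 5 n14606 = n14279 := d32_1 D14606 F56369 F54207
theorem F57650 : act 6 n14606 = n13757 := d34_1 D14606 (iv D13757) (iv F54206)
def n14607 : Q := act 7 n13749
theorem D14607 : act 7 n13749 = n14607 := rfl
theorem F57651 : act 0 n14607 = n13883 := d6_1 D14607 (iv D13883) (iv F54208)
theorem F57652 : act 2 n14607 = n13751 := d19_1 D14607 (iv D13751) (iv F54209)
theorem F57653 : act 6 n14607 = n13758 := d33_1 D14607 (iv D13758) (iv F54210)
def n14608 : Q := act 7 n13750
theorem D14608 : act 7 n13750 = n14608 := rfl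
theorem F57654 : act 0 n14608 = n13886 := d6_1 D14608 (iv D13886) (iv F54211)
theorem F57655 : act 1 n14608 = n13795 := d13_1 D14608 (iv D13795) (iv F54212)
theorem F57656 : act 4 n14608 = n13751 := d28_1 D14608 (iv D13751) (iv F54214)
theorem F57657 : act 5 n14608 = n14299 := d31_1 D14608 F56447 (iv F54215)
theorem F57658 : act 6 n14608 = n13761 := d33_1 D14608 (iv D13761) (iv F54216)
def n14609 : Q := act 4 n13752
theorem D14609 : act 4 n13752 = n14609 := rfl
theorem F57659 : act 0 n14609 = n13753 := d3_1 D14609 (iv D13753) D13752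
theorem F57660 : act 1 n14609 = n13887 := d10_1 D14609 (iv D13887) (iv F54221)
theorem F57661 : act 2 n14609 = n13796 := d16_1 D14609 (iv D13796) (iv F54222)
theorem F57662 : act 6 n14609 = n14207 := d27_2 F57639 D14609 (iv F57637)
theorem F57663 : act 7 n14609 = n14227 := d28_2 F57571 D14609 F57572
theorem F57664 : act 5 n14218 = n14609 := d37_1 (iv F56184) (iv D14609) (iv F55426) F55425 F51807 (iv D12132) (iv F46789) F46787 F44164 F41899 (iv D9472) F26464 (iv F35787) F35789 (iv F42126) (iv F42590) (iv D10821) F39356 (iv F32027) F32026 (iv D6142) F17593 (iv F23707) F23706 F38864 F19466 (iv F26215) (iv F35487) D10641 F41935 F41934 (iv F41544) (iv F45188) F45187 (iv D10583) (iv F41748) (iv F43951) F43950 F40474 F40097 (iv D8380) (iv F31662) F31661 F24312 (iv F24895) F24894 (iv D6480) (iv F24813) F24816 F24815 D8860 (iv F40987) F40986 (iv F40899) (iv F43976) (iv F47942) D13140 (iv F54174) F54173 (iv F57586) F57585 F55688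
def n14610 : Q := act 8 n13752
theorem D14610 : act 8 n13752 = n14610 := rfl
theorem F57665 : act 0 n14610 = n13754 := d7_1 D14610 (iv D13754) D13752
theorem F57666 : act 1 n14610 = n13888 := d14_1 D14610 (iv D13888) (iv F54221)
theorem F57667 : act 2 n14610 = n13797 := d20_1 D14610 (iv D13797) (iv F54222)
theorem F57668 : act 5 n14610 = n14077 := d32_1 D14610 (iv D14077) (iv F54223)
def n14611 : Q := act 3 n13753
theorem D14611 : act 3 n13753 = n14611 := rfl
theorem F57669 : act 1 n14611 = n13755 := d9_1 D14611 (iv D13755) (iv F54224)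
theorem F57670 : act 2 n14611 = n14427 := d15_1 D14611 (iv D14427) F53487 (iv F50682) (iv F54225)
theorem F57671 : act 6 n14611 = n14428 := d23_2 (iv F54226) D14611 F57003
def n14612 : Q := act 5 n13753
theorem D14612 : act 5 n13753 = n14612 := rfl
theorem F57672 : act 0 n14612 = n14218 := d4_1 D14612 F57664 F57659
theorem F57673 : act 1 n14612 = n13756 := d11_1 D14612 (iv D13756) (iv F54224)
theorem F57674 : act 2 n14612 = n13798 := d17_1 D14612 (iv D13798) (iv F54225)
theorem F57675 : act 4 n14612 = n14079 := d26_1 D14612 (iv D14079) (iv D13153) (iv F50519) D13753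
theorem F57676 : act 6 n14612 = n14059 := d30_2 (iv F54226) D14612 (iv D14059) F51920 (iv F53497)
theorem F57677 : act 7 n14612 = n14085 := d31_2 F57577 D14612 F57578
def n14613 : Q := act 8 n13753
theorem D14613 : act 8 n13753 = n14613 := rfl
theorem F57678 : act 1 n14613 = n13757 := d14_1 D14613 (iv D13757) (iv F54224)
theorem F57679 : act 2 n14613 = n13799 := d20_1 D14613 (iv D13799) (iv F54225)
theorem F57680 : act 4 n14613 = n13754 := d29_1 D14613 (iv D13754) D13753
theorem F57681 : act 6 n14613 = n14278 := d34_1 D14613 F56367 (iv F54226)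
def n14614 : Q := act 7 n13754
theorem D14614 : act 7 n13754 = n14614 := rfl
theorem F57682 : act 1 n14614 = n13758 := d13_1 D14614 (iv D13758) (iv F54227)
theorem F57683 : act 2 n14614 = n13800 := d19_1 D14614 (iv D13800) (iv F54228)
theorem F57684 : act 5 n14614 = n14081 := d31_1 D14614 (iv D14081) (iv F54229)
def n14615 : Q := act 5 n13755
theorem D14615 : act 5 n13755 = n14615 := rfl
theorem F57685 : act 0 n14615 = n13893 := d4_1 D14615 (iv D13893) (iv F54230)
theorem F57686 : act 2 n14615 = n13763 := d17_1 D14615 (iv D13763) (iv F54231)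
theorem F57687 : act 3 n14615 = n13756 := d22_1 D14615 (iv D13756) D13755
def n14616 : Q := act 7 n13755
theorem D14616 : act 7 n13755 = n14616 := rfl
theorem F57688 : act 0 n14616 = n13894 := d6_1 D14616 (iv D13894) (iv F54230)
theorem F57689 : act 2 n14616 = n13764 := d19_1 D14616 (iv D13764) (iv F54231)
theorem F57690 : act 4 n14616 = n13847 := d28_1 D14616 (iv F55436) F55434
theorem F57691 : act 6 n14616 = n13850 := d33_1 D14616 (iv F55968) F55967
def n14617 : Q := act 8 n13755
theorem D14617 : act 8 n13755 = n14617 := rfl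
theorem F57692 : act 0 n14617 = n13895 := d7_1 D14617 (iv D13895) (iv F54230)
theorem F57693 : act 2 n14617 = n13765 := d20_1 D14617 (iv D13765) (iv F54231)
theorem F57694 : act 3 n14617 = n13757 := d25_1 D14617 (iv D13757) D13755
def n14618 : Q := act 6 n13756
theorem D14618 : act 6 n13756 = n14618 := rfl
theorem F57695 : act 0 n14618 = n13896 := d5_1 D14618 (iv D13896) (iv F54232)
theorem F57696 : act 1 n14618 = n14059 := d12_1 D14618 (iv F57676) F57673
theorem F57697 : act 2 n14618 = n13759 := d18_1 D14618 (iv D13759) (iv F54233)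
theorem F57698 : act 4 n14618 = n14085 := d27_1 D14618 (iv D14085) (iv F54234)
theorem F57699 : act 5 n14618 = n14056 := d30_1 D14618 F55590 F54207 F54206 D13756
theorem F57700 : act 7 n14618 = n14079 := d33_2 F57589 D14618 (iv F57588)
def n14619 : Q := act 8 n13756
theorem D14619 : act 8 n13756 = n14619 := rfl
theorem F57701 : act 0 n14619 = n13897 := d7_1 D14619 (iv D13897) (iv F54232)
theorem F57702 : act 2 n14619 = n13760 := d20_1 D14619 (iv D13760) (iv F54233)
theorem F57703 : act 4 n14619 = n14086 := d29_1 D14619 (iv D14086) (iv F54234)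
theorem F57704 : act 5 n14619 = n13757 := d32_1 D14619 (iv D13757) D13756
def n14620 : Q := act 7 n13757
theorem D14620 : act 7 n13757 = n14620 := rfl
theorem F57705 : act 0 n14620 = n13898 := d6_1 D14620 (iv D13898) (iv F54235)
theorem F57706 : act 2 n14620 = n13761 := d19_1 D14620 (iv D13761) (iv F54236)
theorem F57707 : act 4 n14620 = n13758 := d28_1 D14620 (iv D13758) (iv F54237)
def n14621 : Q := act 3 n13758
theorem D14621 : act 3 n13758 = n14621 := rfl
theorem F57708 : act 0 n14621 = n13899 := d2_1 D14621 (iv D13899) (iv F54238)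
theorem F57709 : act 2 n14621 = n14465 := d15_1 D14621 (iv D14465) F53661 (iv F50535) (iv F54239)
theorem F57710 : act 5 n14621 = n14088 := d22_2 (iv F54240) D14621 (iv D14088)
def n14622 : Q := act 8 n13759
theorem D14622 : act 8 n13759 = n14622 := rfl
theorem F57711 : act 0 n14622 = n13900 := d7_1 D14622 (iv D13900) (iv F54241)
theorem F57712 : act 1 n14622 = n13804 := d14_1 D14622 (iv D13804) (iv F54242)
theorem F57713 : act 3 n14622 = n13769 := d25_1 D14622 (iv D13769) (iv F54243)
theorem F57714 : act 4 n14622 = n14089 := d29_1 D14622 (iv D14089) (iv F54244)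
theorem F57715 : act 5 n14622 = n14118 := d32_1 D14622 (iv D14118) (iv F54245)
theorem F57716 : act 6 n14622 = n13760 := d34_1 D14622 (iv D13760) D13759
def n14623 : Q := act 7 n13760
theorem D14623 : act 7 n13760 = n14623 := rfl
theorem F57717 : act 0 n14623 = n13901 := d6_1 D14623 (iv D13901) (iv F54247)
theorem F57718 : act 1 n14623 = n13805 := d13_1 D14623 (iv D13805) (iv F54248)
theorem F57719 : act 4 n14623 = n14090 := d28_1 D14623 (iv D14090) (iv F54250)
theorem F57720 : act 5 n14623 = n13761 := d31_1 D14623 (iv D13761) (iv F54251)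
def n14624 : Q := act 3 n13761
theorem D14624 : act 3 n13761 = n14624 := rfl
theorem F57721 : act 0 n14624 = n13902 := d2_1 D14624 (iv D13902) (iv F54252)
theorem F57722 : act 1 n14624 = n13806 := d9_1 D14624 (iv D13806) (iv F54253)
theorem F57723 : act 4 n14624 = n14467 := d21_2 (iv F54254) D14624 (iv D14467) F53668 (iv F50535)
theorem F57724 : act 7 n14624 = n13771 := d24_2 D13761 D14624 (iv D13771) (iv D12834) (iv F50531)
def n14625 : Q := act 3 n13762
theorem D14625 : act 3 n13762 = n14625 := rfl
theorem F57725 : act 0 n14625 = n13910 := d2_1 D14625 (iv D13910) (iv F54255)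
theorem F57726 : act 1 n14625 = n13807 := d9_1 D14625 (iv D13807) (iv F54256)
theorem F57727 : act 4 n14625 = n14376 := d21_2 (iv F54257) D14625 (iv D14376) F53133 (iv F50544)
theorem F57728 : act 5 n14625 = n14381 := d22_2 (iv F54258) D14625 F56781
theorem F57729 : act 6 n14625 = n13771 := d23_2 (iv F54259) D14625 (iv D13771)
theorem F57730 : act 8 n14625 = n14625 := d25_2 F54260 D14625 (iv D14625)
def n14626 : Q := act 4 n13763
theorem D14626 : act 4 n13763 = n14626 := rfl
theorem F57731 : act 0 n14626 = n13911 := d3_1 D14626 (iv D13911) (iv F54261)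
theorem F57732 : act 3 n14626 = n13772 := d21_1 D14626 (iv D13772) F50575 (iv F50551) (iv F54262)
def n14627 : Q := act 6 n13763
theorem D14627 : act 6 n13763 = n14627 := rfl
theorem F57733 : act 0 n14627 = n13912 := d5_1 D14627 (iv D13912) (iv F54261)
theorem F57734 : act 1 n14627 = n14443 := d12_1 D14627 F57076 F56471
theorem F57735 : act 3 n14627 = n13766 := d23_1 D14627 (iv D13766) (iv F54262)
theorem F57736 : act 5 n14627 = n14445 := d30_1 D14627 F57085 F53622 F52325 D13763
def n14628 : Q := act 7 n13763
theorem D14628 : act 7 n13763 = n14628 := rfl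
theorem F57737 : act 0 n14628 = n13913 := d6_1 D14628 (iv D13913) (iv F54261)
theorem F57738 : act 1 n14628 = n13993 := d13_1 D14628 (iv F56473) F56471
theorem F57739 : act 3 n14628 = n14628 := d24_1 D14628 (iv D14628) F54262 F50552 (iv F54262)
theorem F57740 : act 5 n14628 = n13764 := d31_1 D14628 (iv D13764) D13763
def n14629 : Q := act 8 n13763
theorem D14629 : act 8 n13763 = n14629 := rfl
theorem F57741 : act 0 n14629 = n13914 := d7_1 D14629 (iv D13914) (iv F54261)
theorem F57742 : act 3 n14629 = n13767 := d25_1 D14629 (iv D13767) (iv F54262)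
theorem F57743 : act 5 n14629 = n13765 := d32_1 D14629 (iv D13765) D13763
def n14630 : Q := act 8 n13764
theorem D14630 : act 8 n13764 = n14630 := rfl
theorem F57744 : act 0 n14630 = n13915 := d7_1 D14630 (iv D13915) (iv F54263)
theorem F57745 : act 1 n14630 = n13994 := d14_1 D14630 (iv D13994) (iv F54264)
theorem F57746 : act 3 n14630 = n14630 := d25_1 D14630 (iv D14630) F54265
theorem F57747 : act 4 n14630 = n13848 := d29_1 D14630 (iv D13848) (iv F54266)
theorem F57748 : act 6 n14630 = n13853 := d34_1 D14630 (iv D13853) (iv F54267)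
def n14631 : Q := act 7 n13765
theorem D14631 : act 7 n13765 = n14631 := rfl
theorem F57749 : act 0 n14631 = n13916 := d6_1 D14631 (iv D13916) (iv F54268)
def n14632 : Q := act 8 n13766
theorem D14632 : act 8 n13766 = n14632 := rfl
theorem F57750 : act 0 n14632 = n13917 := d7_1 D14632 (iv D13917) (iv F54270)
theorem F57751 : act 1 n14632 = n14362 := d14_1 D14632 F56709 (iv F54271)
theorem F57752 : act 2 n14632 = n13769 := d20_1 D14632 (iv D13769) (iv F54272)
theorem F57753 : act 4 n14632 = n13774 := d29_1 D14632 (iv D13774) (iv F54273)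
theorem F57754 : act 5 n14632 = n14363 := d32_1 D14632 F56714 (iv F54274)
theorem F57755 : act 6 n14632 = n13767 := d34_1 D14632 (iv D13767) D13766
theorem F57756 : act 7 n14573 = n14632 := d33_0 F57755 (iv F57397) (iv F57488)
def n14633 : Q := act 3 n13768
theorem D14633 : act 3 n13768 = n14633 := rfl
theorem F57757 : act 0 n14633 = n13919 := d2_1 D14633 (iv D13919) (iv F54280)
theorem F57758 : act 8 n14633 = n14633 := d25_2 F54283 D14633 (iv D14633)
def n14634 : Q := act 3 n13770
theorem D14634 : act 3 n13770 = n14634 := rfl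
theorem F57759 : act 0 n14634 = n13922 := d2_1 D14634 (iv D13922) (iv F54290)
theorem F57760 : act 1 n14634 = n13808 := d9_1 D14634 (iv D13808) (iv F54291)
theorem F57761 : act 5 n14634 = n13771 := d22_2 (iv F54293) D14634 (iv D13771)
theorem F57762 : act 6 n14634 = n14555 := d23_2 (iv F54294) D14634 F57427
theorem F57763 : act 8 n14634 = n14634 := d25_2 F54295 D14634 (iv D14634)
def n14635 : Q := act 2 n13771
theorem D14635 : act 2 n13771 = n14635 := rfl
theorem F57764 : act 0 n14635 = n13923 := d1_1 D14635 (iv D13923) (iv F54296)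
theorem F57765 : act 4 n14635 = n14480 := d16_2 (iv F54298) D14635 (iv D14480)
theorem F57766 : act 8 n14635 = n14635 := d20_2 F54299 D14635 (iv D14635)
def n14636 : Q := act 7 n13776
theorem D14636 : act 7 n13776 = n14636 := rfl
theorem F57767 : act 0 n14636 = n13818 := d6_1 D14636 (iv D13818) (iv F54316)
theorem F57768 : act 2 n14636 = n14123 := d19_1 D14636 (iv D14123) (iv F54317)
theorem F57769 : act 3 n14636 = n13965 := d24_1 D14636 (iv D13965) F51418 (iv F50603) (iv F54318)
theorem F57770 : act 4 n14636 = n14036 := d28_1 D14636 (iv D14036) (iv F54319)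
theorem F57771 : act 5 n14636 = n13780 := d31_1 D14636 (iv D13780) (iv F54320)
theorem F57772 : act 6 n14636 = n14114 := d33_1 D14636 (iv D14114) (iv F54321)
theorem F57773 : act 8 n14636 = n13791 := d35_2 D13776 D14636 (iv D13791) (iv D12853) (iv F50596)
def n14637 : Q := act 8 n13777
theorem D14637 : act 8 n13777 = n14637 := rfl
theorem F57774 : act 0 n14637 = n14186 := d7_1 D14637 (iv D14186) (iv F54322)
theorem F57775 : act 1 n14637 = n13778 := d14_1 D14637 (iv D13778) D13777
theorem F57776 : act 3 n14637 = n14637 := d25_1 D14637 (iv D14637) F54323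
theorem F57777 : act 4 n14637 = n14074 := d29_1 D14637 (iv D14074) (iv F54324)
theorem F57778 : act 5 n14637 = n14066 := d32_1 D14637 (iv D14066) (iv F54325)
theorem F57779 : act 6 n14637 = n13783 := d34_1 D14637 (iv D13783) (iv F54326)
def n14638 : Q := act 7 n13778
theorem D14638 : act 7 n13778 = n14638 := rfl
theorem F57780 : act 0 n14638 = n13819 := d6_1 D14638 (iv D13819) (iv F54328)
theorem F57781 : act 2 n14638 = n13780 := d19_1 D14638 (iv D13780) (iv F54329)
theorem F57782 : act 4 n14638 = n14128 := d28_1 D14638 (iv D14128) (iv F54331)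
theorem F57783 : act 5 n14638 = n14123 := d31_1 D14638 (iv D14123) (iv F54332)
theorem F57784 : act 6 n14638 = n13785 := d33_1 D14638 (iv D13785) (iv F54333)
theorem F57785 : act 8 n14638 = n13794 := d35_2 D13778 D14638 (iv D13794) (iv D12855) (iv F50608)
def n14639 : Q := act 7 n13779
theorem D14639 : act 7 n13779 = n14639 := rfl
theorem F57786 : act 0 n14639 = n13820 := d6_1 D14639 (iv D13820) (iv F54334)
theorem F57787 : act 2 n14639 = n14128 := d19_1 D14639 (iv D14128) (iv F54335)
theorem F57788 : act 4 n14639 = n13780 := d28_1 D14639 (iv D13780) (iv F54337)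
theorem F57789 : act 5 n14639 = n14126 := d31_1 D14639 (iv D14126) (iv F54338)
theorem F57790 : act 6 n14639 = n13787 := d33_1 D14639 (iv D13787) (iv F54339)
theorem F57791 : act 8 n14639 = n13795 := d35_2 D13779 D14639 (iv D13795) (iv D12856) (iv F50615)
def n14640 : Q := act 8 n13781
theorem D14640 : act 8 n13781 = n14640 := rfl
theorem F57792 : act 0 n14640 = n13783 := d7_1 D14640 (iv D13783) D13781
theorem F57793 : act 1 n14640 = n13821 := d14_1 D14640 (iv D13821) (iv F54344)
theorem F57794 : act 3 n14640 = n14640 := d25_1 D14640 (iv D14640) F54345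
theorem F57795 : act 4 n14640 = n14231 := d29_1 D14640 (iv D14231) F54349
theorem F57796 : act 5 n14640 = n14117 := d32_1 D14640 (iv D14117) (iv F54346)
theorem F57797 : act 6 n14640 = n14186 := d34_1 D14640 (iv D14186) (iv F54347)
def n14641 : Q := act 8 n13782
theorem D14641 : act 8 n13782 = n14641 := rfl
theorem F57798 : act 0 n14641 = n14231 := d7_1 D14641 (iv D14231) (iv F54350)
theorem F57799 : act 1 n14641 = n13784 := d14_1 D14641 (iv D13784) (iv F54351)
theorem F57800 : act 3 n14641 = n14097 := d25_1 D14641 (iv D14097) F54355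
theorem F57801 : act 4 n14641 = n13783 := d29_1 D14641 (iv D13783) D13782
theorem F57802 : act 5 n14641 = n14089 := d32_1 D14641 (iv D14089) (iv F54352)
theorem F57803 : act 6 n14641 = n14074 := d34_1 D14641 (iv D14074) (iv F54353)
def n14642 : Q := act 7 n13783
theorem D14642 : act 7 n13783 = n14642 := rfl
theorem F57804 : act 1 n14642 = n13785 := d13_1 D14642 (iv D13785) (iv F54356)
theorem F57805 : act 5 n14642 = n14119 := d31_1 D14642 (iv D14119) (iv F54358)
theorem F57806 : act 8 n14642 = n13800 := d35_2 D13783 D14642 (iv D13800) (iv D12860) (iv F50621)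
def n14643 : Q := act 7 n13784
theorem D14643 : act 7 n13784 = n14643 := rfl
theorem F57807 : act 0 n14643 = n13823 := d6_1 D14643 (iv D13823) (iv F54359)
theorem F57808 : act 2 n14643 = n13787 := d19_1 D14643 (iv D13787) (iv F54360)
theorem F57809 : act 3 n14643 = n14289 := d24_1 D14643 (iv D14289) F52717 (iv F52210) (iv F54361)
theorem F57810 : act 4 n14643 = n13785 := d28_1 D14643 (iv D13785) (iv F54362)
theorem F57811 : act 5 n14643 = n14137 := d31_1 D14643 (iv D14137) (iv F54363)
theorem F57812 : act 6 n14643 = n14128 := d33_1 D14643 (iv D14128) (iv F54364)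
theorem F57813 : act 8 n14643 = n13802 := d35_2 D13784 D14643 (iv D13802) (iv D12862) (iv F50625)
def n14644 : Q := act 3 n13785
theorem D14644 : act 3 n13785 = n14644 := rfl
theorem F57814 : act 0 n14644 = n13824 := d2_1 D14644 (iv D13824) (iv F54365)
theorem F57815 : act 2 n14644 = n14485 := d15_1 D14644 (iv D14485) F53758 (iv F50642) (iv F54366)
theorem F57816 : act 5 n14644 = n14121 := d22_2 (iv F54367) D14644 (iv D14121)
theorem F57817 : act 7 n14644 = n14644 := d24_2 D13785 D14644 (iv D14644) (iv D13785) F50630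
theorem F57818 : act 8 n14644 = n13803 := d25_2 (iv F54368) D14644 (iv D13803)
def n14645 : Q := act 7 n13786
theorem D14645 : act 7 n13786 = n14645 := rfl
theorem F57819 : act 0 n14645 = n13825 := d6_1 D14645 (iv D13825) (iv F54369)
theorem F57820 : act 2 n14645 = n14137 := d19_1 D14645 (iv D14137) (iv F54370)
theorem F57821 : act 4 n14645 = n14122 := d28_1 D14645 (iv D14122) (iv F54372)
theorem F57822 : act 5 n14645 = n13787 := d31_1 D14645 (iv D13787) (iv F54373)
theorem F57823 : act 6 n14645 = n14134 := d33_1 D14645 (iv D14134) (iv F54374)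
theorem F57824 : act 8 n14645 = n13805 := d35_2 D13786 D14645 (iv D13805) (iv D12865) (iv F50637)
def n14646 : Q := act 3 n13787
theorem D14646 : act 3 n13787 = n14646 := rfl
theorem F57825 : act 0 n14646 = n13826 := d2_1 D14646 (iv D13826) (iv F54375)
theorem F57826 : act 4 n14646 = n14486 := d21_2 (iv F54376) D14646 (iv D14486) F53761 (iv F50642)
theorem F57827 : act 7 n14646 = n14646 := d24_2 D13787 D14646 (iv D14646) (iv D13787) F50639
theorem F57828 : act 8 n14646 = n13806 := d25_2 (iv F54377) D14646 (iv D13806)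
def n14647 : Q := act 8 n13788
theorem D14647 : act 8 n13788 = n14647 := rfl
theorem F57829 : act 0 n14647 = n14025 := d7_1 D14647 (iv D14025) (iv F54378)
theorem F57830 : act 1 n14647 = n13789 := d14_1 D14647 (iv D13789) D13788
theorem F57831 : act 3 n14647 = n13811 := d25_1 D14647 (iv D13811) (iv F54379)
theorem F57832 : act 4 n14647 = n14051 := d29_1 D14647 (iv D14051) (iv F54380)
theorem F57833 : act 5 n14647 = n13793 := d32_1 D14647 (iv D13793) (iv F54381)
theorem F57834 : act 6 n14647 = n14027 := d34_1 D14647 (iv D14027) (iv F54382)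
def n14648 : Q := act 7 n13789
theorem D14648 : act 7 n13789 = n14648 := rfl
theorem F57835 : act 0 n14648 = n13827 := d6_1 D14648 (iv D13827) (iv F54384)
theorem F57836 : act 2 n14648 = n13791 := d19_1 D14648 (iv D13791) (iv F54385)
theorem F57837 : act 3 n14648 = n14553 := d24_1 D14648 F57425 F53954 F50754 (iv F54386)
theorem F57838 : act 4 n14648 = n14114 := d28_1 D14648 (iv D14114) (iv F54387)
theorem F57839 : act 5 n14648 = n13794 := d31_1 D14648 (iv D13794) (iv F54388)
theorem F57840 : act 6 n14648 = n14036 := d33_1 D14648 (iv D14036) (iv F54389)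
theorem F57841 : act 8 n14648 = n14123 := d35_2 D13789 D14648 (iv D14123) (iv D13196) (iv F50649)
def n14649 : Q := act 7 n13790
theorem D14649 : act 7 n13790 = n14649 := rfl
theorem F57842 : act 0 n14649 = n13828 := d6_1 D14649 (iv D13828) (iv F54390)
theorem F57843 : act 2 n14649 = n14114 := d19_1 D14649 (iv D14114) (iv F54391)
theorem F57844 : act 4 n14649 = n13791 := d28_1 D14649 (iv D13791) (iv F54393)
theorem F57845 : act 5 n14649 = n14116 := d31_1 D14649 (iv D14116) (iv F54394)
theorem F57846 : act 6 n14649 = n14123 := d33_1 D14649 (iv D14123) (iv F54395)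
theorem F57847 : act 8 n14649 = n14036 := d35_2 D13790 D14649 (iv D14036) (iv D13120) (iv F50656)
def n14650 : Q := act 8 n13792
theorem D14650 : act 8 n13792 = n14650 := rfl
theorem F57848 : act 0 n14650 = n13793 := d7_1 D14650 (iv D13793) D13792
theorem F57849 : act 1 n14650 = n13829 := d14_1 D14650 (iv D13829) (iv F54400)
theorem F57850 : act 3 n14650 = n13812 := d25_1 D14650 (iv D13812) (iv F54401)
theorem F57851 : act 4 n14650 = n14109 := d29_1 D14650 F55790 (iv F54402)
theorem F57852 : act 5 n14650 = n14025 := d32_1 D14650 (iv D14025) (iv F54403)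
theorem F57853 : act 6 n14650 = n13797 := d34_1 D14650 (iv D13797) (iv F54404)
def n14651 : Q := act 7 n13793
theorem D14651 : act 7 n13793 = n14651 := rfl
theorem F57854 : act 1 n14651 = n13794 := d13_1 D14651 (iv D13794) (iv F54406)
theorem F57855 : act 4 n14651 = n14255 := d28_1 D14651 F56284 (iv F54408)
theorem F57856 : act 6 n14651 = n13800 := d33_1 D14651 (iv D13800) (iv F54409)
def n14652 : Q := act 3 n13794
theorem D14652 : act 3 n13794 = n14652 := rfl
theorem F57857 : act 0 n14652 = n13831 := d2_1 D14652 (iv D13831) (iv F54410)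
theorem F57858 : act 2 n14652 = n14151 := d15_1 D14652 (iv D14151) F52288 (iv F50676) (iv F54411)
theorem F57859 : act 4 n14652 = n13958 := d21_2 (iv F54412) D14652 (iv D13958) F51358 D13382
theorem F57860 : act 5 n14652 = n14553 := d22_2 F57839 D14652 (iv F57837)
theorem F57861 : act 6 n14652 = n13803 := d23_2 (iv F54413) D14652 (iv D13803)
theorem F57862 : act 7 n14652 = n13814 := d24_2 D13794 D14652 (iv D13814) (iv D12879) (iv F50666)
def n14653 : Q := act 3 n13795
theorem D14653 : act 3 n13795 = n14653 := rfl
theorem F57863 : act 0 n14653 = n13832 := d2_1 D14653 (iv D13832) (iv F54414)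
theorem F57864 : act 2 n14653 = n14297 := d15_1 D14653 (iv D14297) F52756 D13382 (iv F54415)
theorem F57865 : act 4 n14653 = n14304 := d21_2 (iv F54416) D14653 (iv D14304) F52802 (iv F50676)
theorem F57866 : act 5 n14653 = n14298 := d22_2 (iv F54417) D14653 F56444
theorem F57867 : act 6 n14653 = n13806 := d23_2 (iv F54418) D14653 (iv D13806)
theorem F57868 : act 7 n14653 = n13807 := d24_2 D13795 D14653 (iv D13807) (iv D12867) (iv F50671)
def n14654 : Q := act 8 n13796
theorem D14654 : act 8 n13796 = n14654 := rfl
theorem F57869 : act 0 n14654 = n13799 := d7_1 D14654 (iv D13799) (iv F54419)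
theorem F57870 : act 1 n14654 = n13833 := d14_1 D14654 (iv D13833) (iv F54420)
theorem F57871 : act 3 n14654 = n14108 := d25_1 D14654 F55786 (iv F54421)
theorem F57872 : act 4 n14654 = n13797 := d29_1 D14654 (iv D13797) D13796
theorem F57873 : act 5 n14654 = n14222 := d32_1 D14654 (iv D14222) F54424
theorem F57874 : act 6 n14654 = n14109 := d34_1 D14654 F55790 (iv F54422)
def n14655 : Q := act 7 n13797
theorem D14655 : act 7 n13797 = n14655 := rfl
theorem F57875 : act 0 n14655 = n13800 := d6_1 D14655 (iv D13800) (iv F54425)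
theorem F57876 : act 1 n14655 = n13834 := d13_1 D14655 (iv D13834) (iv F54426)
theorem F57877 : act 5 n14655 = n14130 := d31_1 D14655 (iv D14130) (iv F54428)
def n14656 : Q := act 8 n13798
theorem D14656 : act 8 n13798 = n14656 := rfl
theorem F57878 : act 0 n14656 = n14222 := d7_1 D14656 (iv D14222) (iv F54429)
theorem F57879 : act 1 n14656 = n13801 := d14_1 D14656 (iv D13801) (iv F54430)
theorem F57880 : act 3 n14656 = n14267 := d25_1 D14656 F56333 (iv F54431)
theorem F57881 : act 4 n14656 = n14131 := d29_1 D14656 (iv D14131) (iv F54432)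
theorem F57882 : act 5 n14656 = n13799 := d32_1 D14656 (iv D13799) D13798
theorem F57883 : act 6 n14656 = n14062 := d34_1 D14656 (iv D14062) (iv F54433)
def n14657 : Q := act 7 n13799
theorem D14657 : act 7 n13799 = n14657 := rfl
theorem F57884 : act 1 n14657 = n13802 := d13_1 D14657 (iv D13802) (iv F54435)
theorem F57885 : act 3 n14657 = n14254 := d24_1 D14657 (iv D14254) F52572 D13351 (iv F54436)
theorem F57886 : act 4 n14657 = n13800 := d28_1 D14657 (iv D13800) (iv F54437)
theorem F57887 : act 6 n14657 = n14255 := d33_1 D14657 F56284 (iv F54438)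
def n14658 : Q := act 3 n13800
theorem D14658 : act 3 n13800 = n14658 := rfl
theorem F57888 : act 1 n14658 = n13803 := d9_1 D14658 (iv D13803) (iv F54439)
theorem F57889 : act 5 n14658 = n14133 := d22_2 (iv F54440) D14658 (iv D14133)
theorem F57890 : act 7 n14658 = n13816 := d24_2 D13800 D14658 (iv D13816) (iv D12881) (iv F50685)
def n14659 : Q := act 7 n13801
theorem D14659 : act 7 n13801 = n14659 := rfl
theorem F57891 : act 0 n14659 = n13837 := d6_1 D14659 (iv D13837) (iv F54441)
theorem F57892 : act 2 n14659 = n13805 := d19_1 D14659 (iv D13805) (iv F54442)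
theorem F57893 : act 3 n14659 = n14290 := d24_1 D14659 (iv D14290) F52724 D13384 (iv F54443)
theorem F57894 : act 4 n14659 = n14134 := d28_1 D14659 (iv D14134) (iv F54444)
theorem F57895 : act 5 n14659 = n13802 := d31_1 D14659 (iv D13802) (iv F54445)
theorem F57896 : act 6 n14659 = n14122 := d33_1 D14659 (iv D14122) (iv F54446)
theorem F57897 : act 8 n14659 = n14137 := d35_2 D13801 D14659 (iv D14137) (iv D13212) (iv F50692)
def n14660 : Q := act 4 n13803
theorem D14660 : act 4 n13803 = n14660 := rfl
theorem F57898 : act 0 n14660 = n13838 := d3_1 D14660 (iv D13838) (iv F54452)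
theorem F57899 : act 2 n14660 = n14490 := d16_1 D14660 (iv D14490) (iv F54453)
theorem F57900 : act 3 n14660 = n13957 := d21_1 D14660 F55132 (iv F54449) F54450 D13803
theorem F57901 : act 6 n14660 = n13958 := d27_2 F57861 D14660 (iv F57859)
theorem F57902 : act 7 n14660 = n13817 := d28_2 (iv F54455) D14660 (iv D13817)
theorem F57903 : act 5 n14557 = n14660 := d37_1 (iv F57433) (iv D14660) (iv D13803) F50699 (iv F50534) F50533 (iv D11944) F43108 (iv F44508) F44507 (iv F44536) F44535 F41288 D11431 (iv F49087) F49086 D12481 F49140 F48897 F44817 (iv F43610) F43608 F40231 F32068 F23701 F17598 F13098 F12820 (iv F17217) (iv F23175) (iv F31322) (iv F39479) (iv F42739) (iv F46477) D12806 F50460 F50459 (iv F50765) F50764 (iv F53931) (iv F55480) (iv D14030) (iv F54501) F54500 (iv D13184) (iv F52085) F52084 F52083 (iv D12358) F44565 F40935 (iv F39169) F39168 F29750 F22065 D5712 (iv F29849) (iv F39224) D10778 D11733 D12743 D13696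
def n14661 : Q := act 7 n13804
theorem D14661 : act 7 n13804 = n14661 := rfl
theorem F57904 : act 0 n14661 = n13839 := d6_1 D14661 (iv D13839) (iv F54456)
theorem F57905 : act 2 n14661 = n14122 := d19_1 D14661 (iv D14122) (iv F54457)
theorem F57906 : act 3 n14661 = n14552 := d24_1 D14661 F57423 F53950 F50724 (iv F54458)
theorem F57907 : act 4 n14661 = n14137 := d28_1 D14661 (iv D14137) (iv F54459)
theorem F57908 : act 5 n14661 = n14120 := d31_1 D14661 (iv D14120) (iv F54460)
theorem F57909 : act 6 n14661 = n13805 := d33_1 D14661 (iv D13805) (iv F54461)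
theorem F57910 : act 8 n14661 = n14134 := d35_2 D13804 D14661 (iv D14134) (iv D13209) (iv F50706)
def n14662 : Q := act 3 n13805
theorem D14662 : act 3 n13805 = n14662 := rfl
theorem F57911 : act 0 n14662 = n13840 := d2_1 D14662 (iv D13840) (iv F54462)
theorem F57912 : act 2 n14662 = n14551 := d15_1 D14662 (iv D14551) (iv F56416) (iv F57893) F57892
theorem F57913 : act 5 n14662 = n13806 := d22_2 (iv F54464) D14662 (iv D13806)
theorem F57914 : act 6 n14662 = n14552 := d23_2 F57909 D14662 (iv F57906)
theorem F57915 : act 7 n14662 = n13808 := d24_2 D13805 D14662 (iv D13808) (iv D12869) (iv F50708)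
def n14663 : Q := act 2 n13806
theorem D14663 : act 2 n13806 = n14663 := rfl
theorem F57916 : act 0 n14663 = n13841 := d1_1 D14663 (iv D13841) (iv F54465)
theorem F57917 : act 3 n14663 = n14296 := d15_2 D13806 D14663 F56437 (iv F54449) F54448
theorem F57918 : act 4 n14663 = n14492 := d16_2 (iv F54466) D14663 (iv D14492)
theorem F57919 : act 5 n14663 = n14551 := d17_2 F57913 D14663 (iv F57912)
theorem F57920 : act 6 n14663 = n14297 := d18_2 F57867 D14663 (iv F57864)
theorem F57921 : act 7 n14663 = n13809 := d19_2 (iv F54467) D14663 (iv D13809)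
def n14664 : Q := act 4 n13808
theorem D14664 : act 4 n13808 = n14664 := rfl
theorem F57922 : act 0 n14664 = n13842 := d3_1 D14664 (iv D13842) (iv F54474)
theorem F57923 : act 2 n14664 = n14038 := d16_1 D14664 F55521 (iv F54475)
theorem F57924 : act 3 n14664 = n13810 := d21_1 D14664 (iv D13810) (iv D12872) (iv F50727) D13808
theorem F57925 : act 5 n14664 = n14031 := d26_2 (iv F54476) D14664 F55488 F53782 (iv F50732)
theorem F57926 : act 6 n14664 = n13844 := d27_2 (iv F54477) D14664 F54680
theorem F57927 : act 8 n14664 = n14664 := d29_2 F54478 D14664 (iv D14664)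
def n14665 : Q := act 1 n13809
theorem D14665 : act 1 n13809 = n14665 := rfl
theorem F57928 : act 3 n14665 = n14377 := d9_2 (iv F54480) D14665 F56766
theorem F57929 : act 4 n14665 = n14493 := d10_2 (iv F54481) D14665 (iv D14493)
theorem F57930 : act 5 n14665 = n14540 := d11_2 (iv F54482) D14665 F57363
theorem F57931 : act 6 n14665 = n14378 := d12_2 (iv F54483) D14665 F56771
theorem F57932 : act 8 n14665 = n14665 := d14_2 F54484 D14665 (iv D14665)
def n14666 : Q := act 3 n13813
theorem D14666 : act 3 n13813 = n14666 := rfl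
theorem F57933 : act 1 n14666 = n13814 := d9_1 D14666 (iv D13814) (iv F54503)
theorem F57934 : act 4 n14666 = n13922 := d21_2 (iv F54504) D14666 (iv D13922) F51157 D12982
theorem F57935 : act 5 n14666 = n14542 := d22_2 (iv F54505) D14666 F57369
theorem F57936 : act 6 n14666 = n13816 := d23_2 (iv F54506) D14666 (iv D13816)
theorem F57937 : act 8 n14666 = n14666 := d25_2 F54507 D14666 (iv D14666)
def n14667 : Q := act 3 n13815
theorem D14667 : act 3 n13815 = n14667 := rfl
theorem F57938 : act 0 n14667 = n13816 := d2_1 D14667 (iv D13816) (iv F54514)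
theorem F57939 : act 1 n14667 = n13844 := d9_1 D14667 (iv D13844) (iv F54515)
theorem F57940 : act 4 n14667 = n14555 := d21_2 F57402 D14667 F57427 (iv F54312) (iv F57401)
theorem F57941 : act 5 n14667 = n14141 := d22_2 (iv F54516) D14667 (iv D14141)
theorem F57942 : act 8 n14667 = n14667 := d25_2 F54517 D14667 (iv D14667)
def n14668 : Q := act 2 n13816
theorem D14668 : act 2 n13816 = n14668 := rfl
theorem F57943 : act 1 n14668 = n14494 := d8_1 D14668 (iv D14494) F53787 (iv F50792) (iv F54518)
theorem F57944 : act 5 n14668 = n14142 := d17_2 (iv F54519) D14668 (iv D14142)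
theorem F57945 : act 8 n14668 = n14668 := d20_2 F54520 D14668 (iv D14668)
def n14669 : Q := act 4 n13816
theorem D14669 : act 4 n13816 = n14669 := rfl
theorem F57946 : act 0 n14669 = n14555 := d3_1 D14669 (iv F57940) F57938
theorem F57947 : act 1 n14669 = n13817 := d10_1 D14669 (iv D13817) (iv F54518)
theorem F57948 : act 3 n14669 = n13921 := d21_1 D14669 F54957 (iv F54113) F54114 D13816
theorem F57949 : act 6 n14669 = n13922 := d27_2 F57936 D14669 (iv F57934)
theorem F57950 : act 8 n14669 = n14669 := d29_2 F54520 D14669 (iv D14669)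
theorem F57951 : act 5 n14556 = n14669 := d22_0 F57948 F54958 (iv F57431)
def n14670 : Q := act 3 n13819
theorem D14670 : act 3 n13819 = n14670 := rfl
theorem F57952 : act 1 n14670 = n14190 := d9_1 D14670 (iv D14190) (iv F54534)
theorem F57953 : act 2 n14670 = n14146 := d15_1 D14670 (iv D14146) F52254 (iv F50814) (iv F54535)
theorem F57954 : act 4 n14670 = n13969 := d21_2 (iv F54536) D14670 (iv D13969) F51444 (iv F52279)
theorem F57955 : act 5 n14670 = n14147 := d22_2 (iv F54537) D14670 (iv D14147)
theorem F57956 : act 6 n14670 = n13824 := d23_2 (iv F54538) D14670 (iv D13824)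
theorem F57957 : act 7 n14670 = n14670 := d24_2 D13819 D14670 (iv D14670) (iv D13819) F50803
theorem F57958 : act 8 n14670 = n13831 := d25_2 (iv F54539) D14670 (iv D13831)
def n14671 : Q := act 3 n13820
theorem D14671 : act 3 n13820 = n14671 := rfl
theorem F57959 : act 1 n14671 = n13964 := d9_1 D14671 (iv D13964) (iv F54540)
theorem F57960 : act 2 n14671 = n14302 := d15_1 D14671 (iv D14302) F52787 (iv F52279) (iv F54541)
theorem F57961 : act 4 n14671 = n14301 := d21_2 (iv F54542) D14671 (iv D14301) F52784 (iv F50814)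
theorem F57962 : act 5 n14671 = n14148 := d22_2 (iv F54543) D14671 (iv D14148)
theorem F57963 : act 6 n14671 = n13826 := d23_2 (iv F54544) D14671 (iv D13826)
theorem F57964 : act 7 n14671 = n14671 := d24_2 D13820 D14671 (iv D14671) (iv D13820) F50809
theorem F57965 : act 8 n14671 = n13832 := d25_2 (iv F54545) D14671 (iv D13832)
def n14672 : Q := act 7 n13821
theorem D14672 : act 7 n13821 = n14672 := rfl
theorem F57966 : act 0 n14672 = n13822 := d6_1 D14672 (iv D13822) (iv F54546)
theorem F57967 : act 2 n14672 = n13965 := d19_1 D14672 (iv D13965) (iv F54547)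
theorem F57968 : act 4 n14672 = n14290 := d28_1 D14672 (iv D14290) (iv F54549)
theorem F57969 : act 5 n14672 = n14145 := d31_1 D14672 (iv D14145) (iv F54550)
theorem F57970 : act 6 n14672 = n14188 := d33_1 D14672 (iv D14188) (iv F54551)
theorem F57971 : act 8 n14672 = n13834 := d35_2 D13821 D14672 (iv D13834) (iv D12901) (iv F50822)
def n14673 : Q := act 3 n13822
theorem D14673 : act 3 n13822 = n14673 := rfl
theorem F57972 : act 1 n14673 = n13824 := d9_1 D14673 (iv D13824) (iv F54552)
theorem F57973 : act 2 n14673 = n14147 := d15_1 D14673 (iv D14147) (iv F54528) F54529 (iv F54553)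
theorem F57974 : act 4 n14673 = n14153 := d21_2 (iv F54554) D14673 (iv D14153) (iv F54639) F54638
theorem F57975 : act 5 n14673 = n14146 := d22_2 (iv F54555) D14673 (iv D14146)
theorem F57976 : act 6 n14673 = n14190 := d23_2 (iv F54556) D14673 (iv D14190)
theorem F57977 : act 7 n14673 = n14673 := d24_2 D13822 D14673 (iv D14673) (iv D13822) F50825
theorem F57978 : act 8 n14673 = n13836 := d25_2 (iv F54557) D14673 (iv D13836)
def n14674 : Q := act 4 n13824
theorem D14674 : act 4 n13824 = n14674 := rfl
theorem F57979 : act 1 n14674 = n14153 := d10_1 D14674 (iv F57974) F57972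
theorem F57980 : act 2 n14674 = n14497 := d16_1 D14674 (iv D14497) (iv F54565)
theorem F57981 : act 3 n14674 = n13968 := d21_1 D14674 F55182 (iv F54560) F54561 D13824
theorem F57982 : act 6 n14674 = n13969 := d27_2 F57956 D14674 (iv F57954)
theorem F57983 : act 7 n14674 = n14674 := d28_2 F54567 D14674 (iv D14674)
theorem F57984 : act 8 n14674 = n13838 := d29_2 (iv F54568) D14674 (iv D13838)
theorem F57985 : act 5 n14152 = n14674 := d36_3 D12240 D13236 D14152 (iv D14674) (iv D13824) (iv F54552) F54553 (iv F54529) F54533 (iv D12895) F46791 F42939 F39618 (iv F39634) F39633 F31619 F31620 (iv D6056) (iv D4429) F12904 F12905 (iv F17344) (iv F23361) (iv F31396) F31397 F31398 (iv F38348) (iv F24313) (iv F32874) (iv F39904) D11014 F43370 F43369 F39905 F31613 D8297 D10119 D11027 (iv F47441) (iv F50955) (iv D12915) (iv F50943) F50944 F46947 F43938 (iv D11139) F40455 F32445 F23974 F17784 F17783 F13220 F9985 (iv D1865) (iv D1365) F4302 F3260 F3259 (iv F38311) (iv F3037) F3038 F38251 F3281 (iv F4262) (iv F5675) F5676 F37984 F5627 F5626 F4237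 F4238 D1338 F5653 F4271 (iv F38157) (iv F5450) (iv F7240) (iv F9657) (iv F12903) F12904 (iv F38349) (iv F13728) (iv F18438) F18439 D6481 (iv F32876) (iv F41084) (iv F44217) F44218
def n14675 : Q := act 3 n13825
theorem D14675 : act 3 n13825 = n14675 := rfl
theorem F57986 : act 1 n14675 = n13969 := d9_1 D14675 (iv D13969) (iv F54569)
theorem F57987 : act 2 n14675 = n13980 := d15_1 D14675 (iv D13980) (iv F54625) F54626 (iv F54570)
theorem F57988 : act 4 n14675 = n14190 := d21_2 (iv F54571) D14675 (iv D14190) F52448 (iv F52265)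
theorem F57989 : act 5 n14675 = n13826 := d22_2 (iv F54572) D14675 (iv D13826)
theorem F57990 : act 6 n14675 = n14153 := d23_2 (iv F54573) D14675 (iv D14153)
theorem F57991 : act 7 n14675 = n14675 := d24_2 D13825 D14675 (iv D14675) (iv D13825) F50840
theorem F57992 : act 8 n14675 = n13840 := d25_2 (iv F54574) D14675 (iv D13840)
def n14676 : Q := act 2 n13826
theorem D14676 : act 2 n13826 = n14676 := rfl
theorem F57993 : act 3 n14676 = n13979 := d15_2 D13826 D14676 F55237 (iv F54560) F54559
theorem F57994 : act 4 n14676 = n14498 := d16_2 (iv F54576) D14676 (iv D14498)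
theorem F57995 : act 5 n14676 = n13980 := d17_2 F57989 D14676 (iv F57987)
theorem F57996 : act 6 n14676 = n14302 := d18_2 F57963 D14676 (iv F57960)
theorem F57997 : act 7 n14676 = n14676 := d19_2 F54577 D14676 (iv D14676)
theorem F57998 : act 8 n14676 = n13841 := d20_2 (iv F54578) D14676 (iv D13841)
theorem F57999 : act 1 n13982 = n14676 := d36_6 F45139 (iv F48864) (iv D12412) (iv F48862) (iv F51515) D13982 (iv D14676) (iv D13826) F50846 (iv D11902) F42966 (iv F42988) F42987 F39651 F32432 F24292 F18468 (iv D4740) F13707 F10903 (iv D1997) (iv D1469) (iv D1079) F3512 F3513 F2650 D798 F3520 F3517 F3518 (iv F4603) (iv F5987) F5986 (iv F5912) F5913 (iv D1408) (iv D1031) (iv D758) D759 F3352 (iv F4433) (iv F5889) (iv F7856) (iv F9851) (iv F13126) D4507 D6164 F23810 D6166 F23817 F21984 F16426 F12444 D4267 D5829 D7979 (iv F39324) D10812 (iv F46250) F46249 (iv F46872) (iv F50440) F50444 (iv D12803) F46431 F44263 (iv F48308) (iv F50895) F50893 F46832 F42966 (iv D10036) F31431 (iv F39624) D10908 F42964 F40655 F32417 F24281 (iv F24904) D8899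 D10516 D11477 F45146 F41471 (iv D10517) F33755 (iv F41457) D11475
def n14677 : Q := act 3 n13828
theorem D14677 : act 3 n13828 = n14677 := rfl
theorem F58000 : act 1 n14677 = n13971 := d9_1 D14677 (iv D13971) (iv F54586)
theorem F58001 : act 2 n14677 = n14190 := d15_1 D14677 (iv D14190) F52447 (iv F52241) (iv F54587)
theorem F58002 : act 4 n14677 = n13980 := d21_2 (iv F54588) D14677 (iv D13980) F51505 (iv F50860)
theorem F58003 : act 5 n14677 = n14144 := d22_2 (iv F54589) D14677 (iv D14144)
theorem F58004 : act 6 n14677 = n14147 := d23_2 (iv F54590) D14677 (iv D14147)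
theorem F58005 : act 7 n14677 = n14677 := d24_2 D13828 D14677 (iv D14677) (iv D13828) F50855
theorem F58006 : act 8 n14677 = n14037 := d25_2 (iv F54591) D14677 (iv D14037)
def n14678 : Q := act 7 n13829
theorem D14678 : act 7 n13829 = n14678 := rfl
theorem F58007 : act 0 n14678 = n13830 := d6_1 D14678 (iv D13830) (iv F54592)
theorem F58008 : act 2 n14678 = n13972 := d19_1 D14678 (iv D13972) (iv F54593)
theorem F58009 : act 4 n14678 = n14138 := d28_1 D14678 F55897 (iv F54595)
theorem F58010 : act 5 n14678 = n14026 := d31_1 D14678 (iv D14026) (iv F54596)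
theorem F58011 : act 6 n14678 = n13834 := d33_1 D14678 (iv D13834) (iv F54597)
theorem F58012 : act 8 n14678 = n14188 := d35_2 D13829 D14678 (iv D14188) (iv D13279) (iv F50868)
def n14679 : Q := act 3 n13830
theorem D14679 : act 3 n13830 = n14679 := rfl
theorem F58013 : act 1 n14679 = n13831 := d9_1 D14679 (iv D13831) (iv F54598)
theorem F58014 : act 2 n14679 = n14037 := d15_1 D14679 (iv D14037) F51850 (iv F51461) (iv F54599)
theorem F58015 : act 4 n14679 = n13840 := d21_2 (iv F54600) D14679 (iv D13840) F50922 D13242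
theorem F58016 : act 5 n14679 = n14035 := d22_2 (iv F54601) D14679 (iv D14035)
theorem F58017 : act 6 n14679 = n13836 := d23_2 (iv F54602) D14679 (iv D13836)
theorem F58018 : act 7 n14679 = n13842 := d24_2 D13830 D14679 F54668 F50947 (iv F50871)
theorem F58019 : act 8 n14679 = n14190 := d25_2 (iv F54603) D14679 (iv D14190)
def n14680 : Q := act 7 n13833
theorem D14680 : act 7 n13833 = n14680 := rfl
theorem F58020 : act 0 n14680 = n13835 := d6_1 D14680 (iv D13835) (iv F54615)
theorem F58021 : act 2 n14680 = n13978 := d19_1 D14680 (iv D13978) (iv F54616)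
theorem F58022 : act 3 n14680 = n14137 := d24_1 D14680 (iv D14137) F52195 D13216 (iv F54617)
theorem F58023 : act 4 n14680 = n13834 := d28_1 D14680 (iv D13834) (iv F54618)
theorem F58024 : act 5 n14680 = n14289 := d31_1 D14680 (iv D14289) (iv F54619)
theorem F58025 : act 6 n14680 = n14138 := d33_1 D14680 F55897 (iv F54620)
theorem F58026 : act 8 n14680 = n14290 := d35_2 D13833 D14680 (iv D14290) (iv D13370) (iv F50887)
def n14681 : Q := act 3 n13834
theorem D14681 : act 3 n13834 = n14681 := rfl
theorem F58027 : act 0 n14681 = n13836 := d2_1 D14681 (iv D13836) (iv F54621)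
theorem F58028 : act 2 n14681 = n14553 := d15_1 D14681 (iv F57837) F57836 F54397 (iv F54622)
theorem F58029 : act 4 n14681 = n14552 := d21_2 F58023 D14681 (iv F57906) F57907 (iv F58022)
theorem F58030 : act 5 n14681 = n14151 := d22_2 (iv F54623) D14681 (iv D14151)
theorem F58031 : act 7 n14681 = n13844 := d24_2 D13834 D14681 (iv D13844) (iv D12916) (iv F50891)
def n14682 : Q := act 1 n13841
theorem D14682 : act 1 n13841 = n14682 := rfl
theorem F58032 : act 2 n14682 = n13985 := d8_2 D13841 D14682 (iv D13985) (iv D13053) (iv F50924)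
theorem F58033 : act 3 n14682 = n13966 := d9_2 (iv F54661) D14682 F55168
theorem F58034 : act 4 n14682 = n14501 := d10_2 (iv F54662) D14682 F57267
theorem F58035 : act 5 n14682 = n13967 := d11_2 (iv F54663) D14682 F55174
theorem F58036 : act 6 n14682 = n14305 := d12_2 (iv F54664) D14682 F56464
theorem F58037 : act 7 n14682 = n13843 := d13_2 (iv F54665) D14682 (iv D13843)
theorem F58038 : act 8 n14682 = n13982 := d14_2 F57998 D14682 F57999
def n14683 : Q := act 0 n13843
theorem D14683 : act 0 n13843 = n14683 := rfl
theorem F58039 : act 2 n14683 = n13988 := d1_2 (iv F54672) D14683 (iv D13988)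
theorem F58040 : act 3 n14683 = n14382 := d2_2 (iv F54673) D14683 F56784
theorem F58041 : act 4 n14683 = n14496 := d3_2 (iv F54674) D14683 F57255
theorem F58042 : act 5 n14683 = n14034 := d4_2 (iv F54675) D14683 F55501
theorem F58043 : act 6 n14683 = n14383 := d5_2 (iv F54676) D14683 F56790
theorem F58044 : act 8 n14683 = n14683 := d7_2 F54677 D14683 (iv D14683)
def n14684 : Q := act 2 n13845
theorem D14684 : act 2 n13845 = n14684 := rfl
theorem F58045 : act 1 n14684 = n14019 := d8_1 D14684 F55433 F51766 (iv F51543) (iv F54683)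
theorem F58046 : act 3 n14684 = n13856 := d15_2 D13845 D14684 (iv D13856) (iv D12928) (iv F50987)
theorem F58047 : act 4 n14684 = n14611 := d16_2 F57000 D14684 F57670
theorem F58048 : act 5 n14684 = n13847 := d17_2 (iv F54684) D14684 (iv D13847)
theorem F58049 : act 6 n14684 = n14154 := d18_2 (iv F54685) D14684 F55960
def n14685 : Q := act 8 n13845
theorem D14685 : act 8 n13845 = n14685 := rfl
theorem F58050 : act 1 n14685 = n13989 := d14_1 D14685 (iv D13989) (iv F54683)
theorem F58051 : act 3 n14685 = n13846 := d25_1 D14685 (iv D13846) D13845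
theorem F58052 : act 5 n14685 = n13848 := d32_1 D14685 (iv D13848) (iv F54684)
theorem F58053 : act 6 n14685 = n14191 := d34_1 D14685 (iv D14191) (iv F54685)
def n14686 : Q := act 1 n13847
theorem D14686 : act 1 n13847 = n14686 := rfl
theorem F58054 : act 2 n14686 = n13990 := d8_2 D13847 D14686 (iv D13990) (iv D13060) (iv F50990)
theorem F58055 : act 3 n14686 = n13858 := d9_2 (iv F54691) D14686 (iv D13858)
theorem F58056 : act 5 n14686 = n14019 := d11_2 F58048 D14686 (iv F58045)
theorem F58057 : act 6 n14686 = n13849 := d12_2 (iv F54692) D14686 (iv D13849)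
theorem F58058 : act 7 n14686 = n14684 := d13_2 F55436 D14686 F58045
theorem F58059 : act 0 n14166 = n14686 := d4_3 F58056 F55432 D14166
def n14687 : Q := act 8 n13847
theorem D14687 : act 8 n13847 = n14687 := rfl
theorem F58060 : act 2 n14687 = n13848 := d20_1 D14687 (iv D13848) D13847
theorem F58061 : act 3 n14687 = n13860 := d25_1 D14687 (iv D13860) (iv F54691)
theorem F58062 : act 6 n14687 = n13851 := d34_1 D14687 (iv D13851) (iv F54692)
def n14688 : Q := act 7 n13848
theorem D14688 : act 7 n13848 = n14688 := rfl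
theorem F58063 : act 1 n14688 = n13995 := d13_1 D14688 (iv D13995) (iv F54693)
theorem F58064 : act 3 n14688 = n14317 := d24_1 D14688 (iv D14317) F52853 (iv F50996) (iv F54694)
theorem F58065 : act 6 n14688 = n13854 := d33_1 D14688 (iv D13854) (iv F54695)
def n14689 : Q := act 0 n13849
theorem D14689 : act 0 n13849 = n14689 := rfl
theorem F58066 : act 2 n14689 = n13996 := d1_2 (iv F54696) D14689 (iv D13996)
theorem F58067 : act 3 n14689 = n13863 := d2_2 (iv F54697) D14689 (iv D13863)
theorem F58068 : act 5 n14689 = n14196 := d4_2 (iv F54698) D14689 (iv D14196)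
theorem F58069 : act 6 n14689 = n14166 := d5_2 F58057 D14689 F58059
def n14690 : Q := act 4 n13849
theorem D14690 : act 4 n13849 = n14690 := rfl
theorem F58070 : act 1 n14690 = n13850 := d10_1 D14690 (iv D13850) D13849
theorem F58071 : act 2 n14690 = n13997 := d16_1 D14690 (iv D13997) (iv F54696)
theorem F58072 : act 7 n14690 = n14428 := d28_2 F55963 D14690 F57004
theorem F58073 : act 5 n14426 = n14690 := d37_1 (iv F56998) (iv D14690) F54697 F51029 (iv D11973) F43178 F39883 F31612 D8643 F32876 F24898 F18441 (iv F24817) F24819 D8862 F33624 F33623 (iv F32805) (iv F40920) (iv F44005) F44008 (iv D10546) (iv D9140) (iv D6662) F18925 F18924 F14064 (iv D2613) (iv D1912) F5887 (iv F7365) (iv D1779) F5540 (iv F5166) D1653 (iv F9146) (iv F12204) D4163 F38508 (iv F23969) (iv F32368) F32371 (iv F40452) (iv F43736) F43735 (iv F47666) (iv F51678) (iv D13085) F47634 F47633 F47632 (iv F47810) (iv F51745) (iv D13096) F47741 (iv F48338) F48337 D12688 D13643 F53820 (iv F56145) F56144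
def n14691 : Q := act 8 n13849
theorem D14691 : act 8 n13849 = n14691 := rfl
theorem F58074 : act 1 n14691 = n13851 := d14_1 D14691 (iv D13851) D13849
theorem F58075 : act 2 n14691 = n13998 := d20_1 D14691 (iv D13998) (iv F54696)
theorem F58076 : act 3 n14691 = n13865 := d25_1 D14691 (iv D13865) (iv F54697)
theorem F58077 : act 5 n14691 = n14198 := d32_1 D14691 (iv D14198) (iv F54698)
def n14692 : Q := act 3 n13850
theorem D14692 : act 3 n13850 = n14692 := rfl
theorem F58078 : act 2 n14692 = n14692 := d15_1 D14692 (iv D14692) F54699 F51000 (iv F54699)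
theorem F58079 : act 4 n14692 = n13866 := d21_2 D13850 D14692 (iv D13866) (iv D12934) (iv F50997)
def n14693 : Q := act 5 n13850
theorem D14693 : act 5 n13850 = n14693 := rfl
theorem F58080 : act 1 n14693 = n14426 := d11_1 D14693 F58073 F58070
theorem F58081 : act 2 n14693 = n13852 := d17_1 D14693 (iv D13852) (iv F54699)
theorem F58082 : act 4 n14693 = n14200 := d26_1 D14693 (iv D14200) (iv D13290) (iv F50998) D13850
theorem F58083 : act 7 n14693 = n14429 := d31_2 F55968 D14693 F57008
def n14694 : Q := act 8 n13850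
theorem D14694 : act 8 n13850 = n14694 := rfl
theorem F58084 : act 2 n14694 = n13853 := d20_1 D14694 (iv D13853) (iv F54699)
theorem F58085 : act 4 n14694 = n13851 := d29_1 D14694 (iv D13851) D13850
def n14695 : Q := act 7 n13851
theorem D14695 : act 7 n13851 = n14695 := rfl
theorem F58086 : act 2 n14695 = n13854 := d19_1 D14695 (iv D13854) (iv F54700)
theorem F58087 : act 5 n14695 = n14202 := d31_1 D14695 (iv D14202) (iv F54702)
def n14696 : Q := act 6 n13852
theorem D14696 : act 6 n13852 = n14696 := rfl
theorem F58088 : act 1 n14696 = n14001 := d12_1 D14696 (iv D14001) (iv F54703)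
theorem F58089 : act 3 n14696 = n14696 := d23_1 D14696 (iv D14696) F54704
theorem F58090 : act 4 n14696 = n14203 := d27_1 D14696 (iv D14203) (iv F54705)
theorem F58091 : act 7 n14696 = n14445 := d33_2 (iv F54706) D14696 F57085
def n14697 : Q := act 8 n13852
theorem D14697 : act 8 n13852 = n14697 := rfl
theorem F58092 : act 1 n14697 = n14002 := d14_1 D14697 (iv D14002) (iv F54703)
theorem F58093 : act 3 n14697 = n14697 := d25_1 D14697 (iv D14697) F54704
theorem F58094 : act 4 n14697 = n14204 := d29_1 D14697 (iv D14204) (iv F54705)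
theorem F58095 : act 5 n14697 = n13853 := d32_1 D14697 (iv D13853) D13852
def n14698 : Q := act 7 n13853
theorem D14698 : act 7 n13853 = n14698 := rfl
theorem F58096 : act 1 n14698 = n14003 := d13_1 D14698 (iv D14003) (iv F54707)
theorem F58097 : act 4 n14698 = n13854 := d28_1 D14698 (iv D13854) (iv F54709)
def n14699 : Q := act 8 n13856
theorem D14699 : act 8 n13856 = n14699 := rfl
theorem F58098 : act 1 n14699 = n14020 := d14_1 D14699 (iv D14020) (iv F54720)
theorem F58099 : act 2 n14699 = n13857 := d20_1 D14699 (iv D13857) D13856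
theorem F58100 : act 4 n14699 = n14018 := d29_1 D14699 (iv D14018) (iv F54721)
theorem F58101 : act 5 n14699 = n13860 := d32_1 D14699 (iv D13860) (iv F54722)
theorem F58102 : act 6 n14699 = n14159 := d34_1 D14699 (iv D14159) (iv F54723)
def n14700 : Q := act 7 n13857
theorem D14700 : act 7 n13857 = n14700 := rfl
theorem F58103 : act 1 n14700 = n13927 := d13_1 D14700 (iv D13927) (iv F54725)
theorem F58104 : act 3 n14700 = n13934 := d24_1 D14700 (iv D13934) F51240 (iv F51018) (iv F54726)
theorem F58105 : act 4 n14700 = n14028 := d28_1 D14700 (iv D14028) (iv F54727)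
theorem F58106 : act 5 n14700 = n13862 := d31_1 D14700 (iv D13862) (iv F54728)
theorem F58107 : act 6 n14700 = n14185 := d33_1 D14700 (iv D14185) (iv F54729)
theorem F58108 : act 8 n14700 = n13876 := d35_2 D13857 D14700 (iv D13876) (iv D12941) (iv F51014)
def n14701 : Q := act 8 n13858
theorem D14701 : act 8 n13858 = n14701 := rfl
theorem F58109 : act 0 n14701 = n14169 := d7_1 D14701 (iv D14169) F54734
theorem F58110 : act 1 n14701 = n13860 := d14_1 D14701 (iv D13860) D13858
theorem F58111 : act 2 n14701 = n13928 := d20_1 D14701 (iv D13928) (iv F54730)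
theorem F58112 : act 4 n14701 = n14463 := d29_1 D14701 (iv D14463) F54735
theorem F58113 : act 5 n14701 = n14020 := d32_1 D14701 (iv D14020) (iv F54731)
theorem F58114 : act 6 n14701 = n13865 := d34_1 D14701 (iv D13865) (iv F54732)
def n14702 : Q := act 3 n13859
theorem D14702 : act 3 n13859 = n14702 := rfl
theorem F58115 : act 1 n14702 = n14460 := d9_1 D14702 F57131 (iv F54736)
theorem F58116 : act 2 n14702 = n14702 := d15_1 D14702 (iv D14702) F54737 F51022 (iv F54737)
theorem F58117 : act 5 n14702 = n14457 := d22_2 (iv F54738) D14702 (iv D14457)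
theorem F58118 : act 6 n14702 = n13866 := d23_2 (iv F54739) D14702 (iv D13866)
def n14703 : Q := act 8 n13859
theorem D14703 : act 8 n13859 = n14703 := rfl
theorem F58119 : act 1 n14703 = n14463 := d14_1 D14703 (iv D14463) (iv F54736)
theorem F58120 : act 2 n14703 = n13861 := d20_1 D14703 (iv D13861) (iv F54737)
theorem F58121 : act 4 n14703 = n13860 := d29_1 D14703 (iv D13860) D13859
theorem F58122 : act 5 n14703 = n14458 := d32_1 D14703 (iv D14458) (iv F54738)
theorem F58123 : act 6 n14703 = n13868 := d34_1 D14703 (iv D13868) (iv F54739)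
def n14704 : Q := act 7 n13860
theorem D14704 : act 7 n13860 = n14704 := rfl
theorem F58124 : act 2 n14704 = n13862 := d19_1 D14704 (iv D13862) (iv F54741)
theorem F58125 : act 6 n14704 = n13869 := d33_1 D14704 (iv D13869) (iv F54742)
theorem F58126 : act 8 n14704 = n13883 := d35_2 D13860 D14704 (iv D13883) (iv D12944) (iv F51020)
def n14705 : Q := act 7 n13861
theorem D14705 : act 7 n13861 = n14705 := rfl
theorem F58127 : act 1 n14705 = n13930 := d13_1 D14705 (iv D13930) (iv F54743)
theorem F58128 : act 4 n14705 = n13862 := d28_1 D14705 (iv D13862) (iv F54745)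
theorem F58129 : act 5 n14705 = n14487 := d31_1 D14705 (iv D14487) (iv F54746)
theorem F58130 : act 6 n14705 = n13872 := d33_1 D14705 (iv D13872) (iv F54747)
theorem F58131 : act 8 n14705 = n13886 := d35_2 D13861 D14705 (iv D13886) (iv D12946) (iv F51025)
def n14706 : Q := act 8 n13863
theorem D14706 : act 8 n13863 = n14706 := rfl
theorem F58132 : act 0 n14706 = n13865 := d7_1 D14706 (iv D13865) D13863
theorem F58133 : act 2 n14706 = n13931 := d20_1 D14706 (iv D13931) (iv F54752)
theorem F58134 : act 4 n14706 = n14523 := d29_1 D14706 (iv D14523) F54756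
theorem F58135 : act 5 n14706 = n14210 := d32_1 D14706 (iv D14210) (iv F54753)
theorem F58136 : act 6 n14706 = n14169 := d34_1 D14706 (iv D14169) (iv F54754)
def n14707 : Q := act 3 n13864
theorem D14707 : act 3 n13864 = n14707 := rfl
theorem F58137 : act 0 n14707 = n14518 := d2_1 D14707 F57312 (iv F54757)
theorem F58138 : act 1 n14707 = n13866 := d9_1 D14707 (iv D13866) (iv F54758)
theorem F58139 : act 2 n14707 = n14469 := d15_1 D14707 F57159 F53682 (iv F51236) (iv F54759)
theorem F58140 : act 6 n14707 = n14460 := d23_2 (iv F54760) D14707 F57131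
def n14708 : Q := act 5 n13864
theorem D14708 : act 5 n13864 = n14708 := rfl
theorem F58141 : act 0 n14708 = n14240 := d4_1 D14708 F56252 (iv F54757)
theorem F58142 : act 1 n14708 = n13867 := d11_1 D14708 (iv D13867) (iv F54758)
theorem F58143 : act 2 n14708 = n13932 := d17_1 D14708 (iv D13932) (iv F54759)
theorem F58144 : act 4 n14708 = n14212 := d26_1 D14708 (iv D14212) (iv D13300) (iv F51030) D13864
theorem F58145 : act 6 n14708 = n14234 := d30_2 (iv F54760) D14708 (iv D14234) F52543 D13594
theorem F58146 : act 7 n14708 = n13890 := d31_2 (iv F54761) D14708 (iv D13890)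
def n14709 : Q := act 8 n13864
theorem D14709 : act 8 n13864 = n14709 := rfl
theorem F58147 : act 0 n14709 = n14523 := d7_1 D14709 (iv D14523) (iv F54757)
theorem F58148 : act 1 n14709 = n13868 := d14_1 D14709 (iv D13868) (iv F54758)
theorem F58149 : act 2 n14709 = n13933 := d20_1 D14709 (iv D13933) (iv F54759)
theorem F58150 : act 4 n14709 = n13865 := d29_1 D14709 (iv D13865) D13864
theorem F58151 : act 6 n14709 = n14463 := d34_1 D14709 (iv D14463) (iv F54760)
def n14710 : Q := act 7 n13865
theorem D14710 : act 7 n13865 = n14710 := rfl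
theorem F58152 : act 1 n14710 = n13869 := d13_1 D14710 (iv D13869) (iv F54762)
theorem F58153 : act 2 n14710 = n13934 := d19_1 D14710 (iv D13934) (iv F54763)
theorem F58154 : act 5 n14710 = n14214 := d31_1 D14710 (iv D14214) (iv F54764)
theorem F58155 : act 8 n14710 = n13892 := d35_2 D13865 D14710 (iv D13892) (iv D12950) (iv F51031)
def n14711 : Q := act 5 n13866
theorem D14711 : act 5 n13866 = n14711 := rfl
theorem F58156 : act 2 n14711 = n14711 := d17_1 D14711 (iv D14711) F54765
theorem F58157 : act 3 n14711 = n13867 := d22_1 D14711 (iv D13867) D13866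
def n14712 : Q := act 7 n13866
theorem D14712 : act 7 n13866 = n14712 := rfl
theorem F58158 : act 2 n14712 = n14712 := d19_1 D14712 (iv D14712) F54765
theorem F58159 : act 3 n14712 = n13894 := d24_1 D14712 (iv D13894) (iv D12951) (iv F51033) D13866
def n14713 : Q := act 8 n13866
theorem D14713 : act 8 n13866 = n14713 := rfl
theorem F58160 : act 2 n14713 = n14713 := d20_1 D14713 (iv D14713) F54765
theorem F58161 : act 3 n14713 = n13868 := d25_1 D14713 (iv D13868) D13866
def n14714 : Q := act 6 n13867
theorem D14714 : act 6 n13867 = n14714 := rfl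
theorem F58162 : act 0 n14714 = n14079 := d5_1 D14714 (iv F57588) F57584
theorem F58163 : act 1 n14714 = n14234 := d12_1 D14714 (iv F58145) F58142
theorem F58164 : act 2 n14714 = n13870 := d18_1 D14714 (iv D13870) (iv F54766)
theorem F58165 : act 4 n14714 = n14218 := d27_1 D14714 (iv D14218) (iv F54767)
theorem F58166 : act 5 n14714 = n14076 := d30_1 D14714 F55665 (iv F54738) F54739 D13867
theorem F58167 : act 7 n14714 = n13896 := d33_2 (iv F54768) D14714 (iv D13896)
def n14715 : Q := act 8 n13867
theorem D14715 : act 8 n13867 = n14715 := rfl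
theorem F58168 : act 2 n14715 = n13871 := d20_1 D14715 (iv D13871) (iv F54766)
theorem F58169 : act 4 n14715 = n14219 := d29_1 D14715 (iv D14219) (iv F54767)
theorem F58170 : act 5 n14715 = n13868 := d32_1 D14715 (iv D13868) D13867
def n14716 : Q := act 7 n13868
theorem D14716 : act 7 n13868 = n14716 := rfl
theorem F58171 : act 2 n14716 = n13872 := d19_1 D14716 (iv D13872) (iv F54769)
theorem F58172 : act 4 n14716 = n13869 := d28_1 D14716 (iv D13869) (iv F54770)
theorem F58173 : act 8 n14716 = n13898 := d35_2 D13868 D14716 (iv D13898) (iv D12953) (iv F51033)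
def n14717 : Q := act 3 n13869
theorem D14717 : act 3 n13869 = n14717 := rfl
theorem F58174 : act 2 n14717 = n14514 := d15_1 D14717 (iv D14514) F53825 (iv F51044) (iv F54771)
theorem F58175 : act 5 n14717 = n14221 := d22_2 (iv F54772) D14717 (iv D14221)
theorem F58176 : act 8 n14717 = n13899 := d25_2 (iv F54773) D14717 (iv D13899)
def n14718 : Q := act 8 n13870
theorem D14718 : act 8 n13870 = n14718 := rfl
theorem F58177 : act 0 n14718 = n14131 := d7_1 D14718 (iv D14131) (iv F54774)
theorem F58178 : act 1 n14718 = n13937 := d14_1 D14718 (iv D13937) (iv F54775)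
theorem F58179 : act 3 n14718 = n14718 := d25_1 D14718 (iv D14718) F54776
theorem F58180 : act 4 n14718 = n14222 := d29_1 D14718 (iv D14222) (iv F54777)
theorem F58181 : act 5 n14718 = n14129 := d32_1 D14718 (iv D14129) (iv F54778)
theorem F58182 : act 6 n14718 = n13871 := d34_1 D14718 (iv D13871) D13870
def n14719 : Q := act 7 n13871
theorem D14719 : act 7 n13871 = n14719 := rfl
theorem F58183 : act 1 n14719 = n13938 := d13_1 D14719 (iv D13938) (iv F54780)
theorem F58184 : act 4 n14719 = n14223 := d28_1 D14719 (iv D14223) (iv F54782)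
theorem F58185 : act 5 n14719 = n13872 := d31_1 D14719 (iv D13872) (iv F54783)
theorem F58186 : act 8 n14719 = n13901 := d35_2 D13871 D14719 (iv D13901) (iv D12956) (iv F51039)
def n14720 : Q := act 3 n13872
theorem D14720 : act 3 n13872 = n14720 := rfl
theorem F58187 : act 1 n14720 = n13939 := d9_1 D14720 (iv D13939) (iv F54784)
theorem F58188 : act 4 n14720 = n14516 := d21_2 (iv F54785) D14720 (iv D14516) F53831 (iv F51044)
theorem F58189 : act 7 n14720 = n14720 := d24_2 D13872 D14720 (iv D14720) (iv D13872) F51041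
theorem F58190 : act 8 n14720 = n13902 := d25_2 (iv F54786) D14720 (iv D13902)
def n14721 : Q := act 3 n13873
theorem D14721 : act 3 n13873 = n14721 := rfl
theorem F58191 : act 1 n14721 = n14010 := d9_1 D14721 F55385 (iv F54787)
theorem F58192 : act 2 n14721 = n14721 := d15_1 D14721 (iv D14721) F54788 F51051 (iv F54788)
theorem F58193 : act 5 n14721 = n14446 := d22_2 F54791 D14721 F57087
theorem F58194 : act 6 n14721 = n14162 := d23_2 (iv F54789) D14721 (iv D14162)
theorem F58195 : act 7 n14721 = n14577 := d24_2 (iv F54790) D14721 F57505 F54164 (iv F51746)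
def n14722 : Q := act 8 n13873
theorem D14722 : act 8 n13873 = n14722 := rfl
theorem F58196 : act 1 n14722 = n14012 := d14_1 D14722 (iv D14012) (iv F54787)
theorem F58197 : act 2 n14722 = n13875 := d20_1 D14722 (iv D13875) (iv F54788)
theorem F58198 : act 4 n14722 = n13874 := d29_1 D14722 (iv D13874) D13873
theorem F58199 : act 5 n14722 = n14452 := d32_1 D14722 (iv D14452) F54791
theorem F58200 : act 6 n14722 = n14164 := d34_1 D14722 (iv D14164) (iv F54789)
def n14723 : Q := act 7 n13874
theorem D14723 : act 7 n13874 = n14723 := rfl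
theorem F58201 : act 1 n14723 = n14161 := d13_1 D14723 (iv D14161) (iv F54792)
theorem F58202 : act 2 n14723 = n13876 := d19_1 D14723 (iv D13876) (iv F54793)
theorem F58203 : act 5 n14723 = n13883 := d31_1 D14723 (iv D13883) (iv F54794)
theorem F58204 : act 6 n14723 = n14165 := d33_1 D14723 (iv D14165) (iv F54795)
def n14724 : Q := act 7 n13875
theorem D14724 : act 7 n13875 = n14724 := rfl
theorem F58205 : act 1 n14724 = n13940 := d13_1 D14724 (iv D13940) (iv F54796)
theorem F58206 : act 4 n14724 = n13876 := d28_1 D14724 (iv D13876) (iv F54798)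
theorem F58207 : act 5 n14724 = n14484 := d31_1 D14724 (iv D14484) (iv F54799)
theorem F58208 : act 6 n14724 = n14187 := d33_1 D14724 (iv D14187) (iv F54800)
theorem F58209 : act 8 n14724 = n14028 := d35_2 D13875 D14724 (iv D14028) (iv D13111) (iv F51053)
def n14725 : Q := act 8 n13877
theorem D14725 : act 8 n13877 = n14725 := rfl
theorem F58210 : act 0 n14725 = n13879 := d7_1 D14725 (iv D13879) D13877
theorem F58211 : act 2 n14725 = n13941 := d20_1 D14725 (iv D13941) (iv F54805)
theorem F58212 : act 3 n14725 = n14601 := d25_1 D14725 (iv D14601) (iv F54806)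
theorem F58213 : act 4 n14725 = n14512 := d29_1 D14725 (iv D14512) F54810
theorem F58214 : act 5 n14725 = n14015 := d32_1 D14725 (iv D14015) (iv F54807)
theorem F58215 : act 6 n14725 = n13888 := d34_1 D14725 (iv D13888) (iv F54808)
def n14726 : Q := act 3 n13878
theorem D14726 : act 3 n13878 = n14726 := rfl
theorem F58216 : act 0 n14726 = n14509 := d2_1 D14726 F57292 (iv F54811)
theorem F58217 : act 1 n14726 = n13880 := d9_1 D14726 (iv D13880) (iv F54812)
theorem F58218 : act 2 n14726 = n14726 := d15_1 D14726 (iv D14726) F54813 F51289 (iv F54813)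
theorem F58219 : act 4 n14726 = n14721 := d21_2 D13878 D14726 (iv D14721) (iv D13873) (iv F51060)
theorem F58220 : act 5 n14726 = n14453 := d22_2 (iv F54814) D14726 (iv D14453)
theorem F58221 : act 6 n14726 = n13889 := d23_2 (iv F54815) D14726 (iv D13889)
def n14727 : Q := act 8 n13878
theorem D14727 : act 8 n13878 = n14727 := rfl
theorem F58222 : act 0 n14727 = n14512 := d7_1 D14727 (iv D14512) (iv F54811)
theorem F58223 : act 1 n14727 = n13882 := d14_1 D14727 (iv D13882) (iv F54812)
theorem F58224 : act 2 n14727 = n13942 := d20_1 D14727 (iv D13942) (iv F54813)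
theorem F58225 : act 4 n14727 = n13879 := d29_1 D14727 (iv D13879) D13878
theorem F58226 : act 5 n14727 = n14454 := d32_1 D14727 (iv D14454) (iv F54814)
theorem F58227 : act 6 n14727 = n13891 := d34_1 D14727 (iv D13891) (iv F54815)
def n14728 : Q := act 7 n13879
theorem D14728 : act 7 n13879 = n14728 := rfl
theorem F58228 : act 1 n14728 = n13883 := d13_1 D14728 (iv D13883) (iv F54817)
theorem F58229 : act 2 n14728 = n13943 := d19_1 D14728 (iv D13943) (iv F54818)
theorem F58230 : act 5 n14728 = n14161 := d31_1 D14728 (iv D14161) (iv F54820)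
theorem F58231 : act 6 n14728 = n13892 := d33_1 D14728 (iv D13892) (iv F54821)
def n14729 : Q := act 5 n13880
theorem D14729 : act 5 n13880 = n14729 := rfl
theorem F58232 : act 0 n14729 = n14429 := d4_1 D14729 F57008 F55964
theorem F58233 : act 1 n14729 = n14453 := d11_1 D14729 (iv F58220) F58217
theorem F58234 : act 2 n14729 = n13903 := d17_1 D14729 (iv D13903) (iv F54822)
theorem F58235 : act 3 n14729 = n13881 := d22_1 D14729 (iv D13881) D13880
def n14730 : Q := act 8 n13880
theorem D14730 : act 8 n13880 = n14730 := rfl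
theorem F58236 : act 2 n14730 = n13904 := d20_1 D14730 (iv D13904) (iv F54822)
theorem F58237 : act 3 n14730 = n13882 := d25_1 D14730 (iv D13882) D13880
theorem F58238 : act 6 n14730 = n13895 := d34_1 D14730 (iv D13895) (iv F54823)
def n14731 : Q := act 6 n13881
theorem D14731 : act 6 n13881 = n14731 := rfl
theorem F58239 : act 0 n14731 = n14056 := d5_1 D14731 F55590 (iv F54824)
theorem F58240 : act 1 n14731 = n14209 := d12_1 D14731 F56158 (iv F54825)
theorem F58241 : act 2 n14731 = n13884 := d18_1 D14731 (iv D13884) (iv F54826)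
theorem F58242 : act 4 n14731 = n14055 := d27_1 D14731 F55586 (iv F54827)
theorem F58243 : act 5 n14731 = n13896 := d30_1 D14731 (iv D13896) (iv D12952) (iv F51064) D13881
theorem F58244 : act 7 n14731 = n14076 := d33_2 (iv F54828) D14731 F55665
def n14732 : Q := act 8 n13881
theorem D14732 : act 8 n13881 = n14732 := rfl
theorem F58245 : act 0 n14732 = n14279 := d7_1 D14732 F56369 (iv F54824)
theorem F58246 : act 1 n14732 = n14454 := d14_1 D14732 (iv D14454) (iv F54825)
theorem F58247 : act 2 n14732 = n13885 := d20_1 D14732 (iv D13885) (iv F54826)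
theorem F58248 : act 4 n14732 = n14452 := d29_1 D14732 (iv D14452) (iv F54827)
theorem F58249 : act 5 n14732 = n13882 := d32_1 D14732 (iv D13882) D13881
def n14733 : Q := act 7 n13882
theorem D14733 : act 7 n13882 = n14733 := rfl
theorem F58250 : act 2 n14733 = n13886 := d19_1 D14733 (iv D13886) (iv F54829)
theorem F58251 : act 4 n14733 = n13883 := d28_1 D14733 (iv D13883) (iv F54830)
theorem F58252 : act 6 n14733 = n13898 := d33_1 D14733 (iv D13898) (iv F54831)
def n14734 : Q := act 3 n13883
theorem D14734 : act 3 n13883 = n14734 := rfl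
theorem F58253 : act 2 n14734 = n14243 := d15_1 D14734 (iv D14243) F52559 (iv F51077) (iv F54832)
theorem F58254 : act 6 n14734 = n13899 := d23_2 (iv F54833) D14734 (iv D13899)
def n14735 : Q := act 8 n13884
theorem D14735 : act 8 n13884 = n14735 := rfl
theorem F58255 : act 0 n14735 = n14118 := d7_1 D14735 (iv D14118) (iv F54834)
theorem F58256 : act 1 n14735 = n13945 := d14_1 D14735 (iv D13945) (iv F54835)
theorem F58257 : act 3 n14735 = n13908 := d25_1 D14735 (iv D13908) (iv F54836)
theorem F58258 : act 4 n14735 = n14117 := d29_1 D14735 (iv D14117) (iv F54837)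
theorem F58259 : act 5 n14735 = n13900 := d32_1 D14735 (iv D13900) (iv F54838)
theorem F58260 : act 6 n14735 = n13885 := d34_1 D14735 (iv D13885) D13884
def n14736 : Q := act 7 n13885
theorem D14736 : act 7 n13885 = n14736 := rfl
theorem F58261 : act 0 n14736 = n14299 := d6_1 D14736 F56447 (iv F54840)
theorem F58262 : act 1 n14736 = n13946 := d13_1 D14736 (iv D13946) (iv F54841)
theorem F58263 : act 4 n14736 = n14484 := d28_1 D14736 (iv D14484) (iv F54843)
theorem F58264 : act 5 n14736 = n13886 := d31_1 D14736 (iv D13886) (iv F54844)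
theorem F58265 : act 8 n14736 = n14487 := d35_2 D13885 D14736 (iv D14487) (iv D13620) (iv F51071)
def n14737 : Q := act 3 n13886
theorem D14737 : act 3 n13886 = n14737 := rfl
theorem F58266 : act 1 n14737 = n13947 := d9_1 D14737 (iv D13947) (iv F54845)
theorem F58267 : act 4 n14737 = n14295 := d21_2 (iv F54846) D14737 (iv D14295) F52748 (iv F51077)
theorem F58268 : act 6 n14737 = n13902 := d23_2 (iv F54847) D14737 (iv D13902)
theorem F58269 : act 7 n14737 = n13910 := d24_2 D13886 D14737 (iv D13910) (iv D12964) (iv F51073)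
def n14738 : Q := act 3 n13887
theorem D14738 : act 3 n13887 = n14738 := rfl
theorem F58270 : act 0 n14738 = n13889 := d2_1 D14738 (iv D13889) (iv F54848)
theorem F58271 : act 2 n14738 = n14738 := d15_1 D14738 (iv D14738) F54849 F51324 (iv F54849)
theorem F58272 : act 6 n14738 = n14509 := d23_2 (iv F54850) D14738 F57292
def n14739 : Q := act 5 n13887
theorem D14739 : act 5 n13887 = n14739 := rfl
theorem F58273 : act 0 n14739 = n13890 := d4_1 D14739 (iv D13890) (iv F54848)
theorem F58274 : act 1 n14739 = n14218 := d11_1 D14739 F57664 F57660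
theorem F58275 : act 2 n14739 = n13948 := d17_1 D14739 (iv D13948) (iv F54849)
theorem F58276 : act 4 n14739 = n14234 := d26_1 D14739 (iv D14234) (iv D13316) (iv F51080) D13887
theorem F58277 : act 6 n14739 = n14212 := d30_2 (iv F54850) D14739 (iv D14212) F52499 D13644
theorem F58278 : act 7 n14739 = n14240 := d31_2 (iv F54851) D14739 F56252
def n14740 : Q := act 8 n13887
theorem D14740 : act 8 n13887 = n14740 := rfl
theorem F58279 : act 0 n14740 = n13891 := d7_1 D14740 (iv D13891) (iv F54848)
theorem F58280 : act 2 n14740 = n13949 := d20_1 D14740 (iv D13949) (iv F54849)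
theorem F58281 : act 4 n14740 = n13888 := d29_1 D14740 (iv D13888) D13887
theorem F58282 : act 6 n14740 = n14512 := d34_1 D14740 (iv D14512) (iv F54850)
def n14741 : Q := act 7 n13888
theorem D14741 : act 7 n13888 = n14741 := rfl
theorem F58283 : act 0 n14741 = n13892 := d6_1 D14741 (iv D13892) (iv F54852)
theorem F58284 : act 2 n14741 = n13950 := d19_1 D14741 (iv D13950) (iv F54853)
theorem F58285 : act 5 n14741 = n14236 := d31_1 D14741 (iv D14236) (iv F54854)
def n14742 : Q := act 5 n13889
theorem D14742 : act 5 n13889 = n14742 := rfl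
theorem F58286 : act 1 n14742 = n13893 := d11_1 D14742 (iv D13893) (iv F54855)
theorem F58287 : act 2 n14742 = n14742 := d17_1 D14742 (iv D14742) F54856
theorem F58288 : act 3 n14742 = n13890 := d22_1 D14742 (iv D13890) D13889
def n14743 : Q := act 7 n13889
theorem D14743 : act 7 n13889 = n14743 := rfl
theorem F58289 : act 1 n14743 = n13894 := d13_1 D14743 (iv D13894) (iv F54855)
theorem F58290 : act 2 n14743 = n14743 := d19_1 D14743 (iv D14743) F54856
def n14744 : Q := act 8 n13889
theorem D14744 : act 8 n13889 = n14744 := rfl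
theorem F58291 : act 1 n14744 = n13895 := d14_1 D14744 (iv D13895) (iv F54855)
theorem F58292 : act 2 n14744 = n14744 := d20_1 D14744 (iv D14744) F54856
theorem F58293 : act 3 n14744 = n13891 := d25_1 D14744 (iv D13891) D13889
def n14745 : Q := act 6 n13890
theorem D14745 : act 6 n13890 = n14745 := rfl
theorem F58294 : act 0 n14745 = n14212 := d5_1 D14745 (iv F58277) F58273
theorem F58295 : act 1 n14745 = n13896 := d12_1 D14745 (iv D13896) (iv F54857)
theorem F58296 : act 2 n14745 = n13951 := d18_1 D14745 (iv D13951) (iv F54858)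
theorem F58297 : act 4 n14745 = n14240 := d27_1 D14745 (iv D14240) (iv F54859)
theorem F58298 : act 5 n14745 = n14209 := d30_1 D14745 F56158 (iv F54814) F54815 D13890
theorem F58299 : act 7 n14745 = n14234 := d33_2 F58146 D14745 (iv F58145)
def n14746 : Q := act 8 n13890
theorem D14746 : act 8 n13890 = n14746 := rfl
theorem F58300 : act 1 n14746 = n13897 := d14_1 D14746 (iv D13897) (iv F54857)
theorem F58301 : act 2 n14746 = n13952 := d20_1 D14746 (iv D13952) (iv F54858)
theorem F58302 : act 4 n14746 = n14241 := d29_1 D14746 (iv D14241) (iv F54859)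
theorem F58303 : act 5 n14746 = n13891 := d32_1 D14746 (iv D13891) D13890
def n14747 : Q := act 7 n13891
theorem D14747 : act 7 n13891 = n14747 := rfl
theorem F58304 : act 1 n14747 = n13898 := d13_1 D14747 (iv D13898) (iv F54860)
theorem F58305 : act 2 n14747 = n13953 := d19_1 D14747 (iv D13953) (iv F54861)
theorem F58306 : act 4 n14747 = n13892 := d28_1 D14747 (iv D13892) (iv F54862)
def n14748 : Q := act 3 n13892
theorem D14748 : act 3 n13892 = n14748 := rfl
theorem F58307 : act 1 n14748 = n13899 := d9_1 D14748 (iv D13899) (iv F54863)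
theorem F58308 : act 5 n14748 = n14243 := d22_2 (iv F54865) D14748 (iv D14243)
def n14749 : Q := act 4 n13893
theorem D14749 : act 4 n13893 = n14749 := rfl
theorem F58309 : act 2 n14749 = n13911 := d16_1 D14749 (iv D13911) (iv F54866)
theorem F58310 : act 3 n14749 = n14244 := d21_1 D14749 (iv D14244) F52562 (iv F51088) (iv F54867)
def n14750 : Q := act 6 n13893
theorem D14750 : act 6 n13893 = n14750 := rfl
theorem F58311 : act 2 n14750 = n13912 := d18_1 D14750 (iv D13912) (iv F54866)
theorem F58312 : act 3 n14750 = n13896 := d23_1 D14750 (iv D13896) (iv F54867)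
def n14751 : Q := act 7 n13893
theorem D14751 : act 7 n13893 = n14751 := rfl
theorem F58313 : act 2 n14751 = n13913 := d19_1 D14751 (iv D13913) (iv F54866)
theorem F58314 : act 5 n14751 = n13894 := d31_1 D14751 (iv D13894) D13893
def n14752 : Q := act 8 n13893
theorem D14752 : act 8 n13893 = n14752 := rfl
theorem F58315 : act 2 n14752 = n13914 := d20_1 D14752 (iv D13914) (iv F54866)
theorem F58316 : act 3 n14752 = n13897 := d25_1 D14752 (iv D13897) (iv F54867)
theorem F58317 : act 5 n14752 = n13895 := d32_1 D14752 (iv D13895) D13893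
def n14753 : Q := act 8 n13894
theorem D14753 : act 8 n13894 = n14753 := rfl
theorem F58318 : act 2 n14753 = n13915 := d20_1 D14753 (iv D13915) (iv F54868)
def n14754 : Q := act 7 n13895
theorem D14754 : act 7 n13895 = n14754 := rfl
theorem F58319 : act 2 n14754 = n13916 := d19_1 D14754 (iv D13916) (iv F54869)
def n14755 : Q := act 8 n13896
theorem D14755 : act 8 n13896 = n14755 := rfl
theorem F58320 : act 2 n14755 = n13900 := d20_1 D14755 (iv D13900) (iv F54871)
theorem F58321 : act 4 n14755 = n14250 := d29_1 D14755 (iv D14250) (iv F54872)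
theorem F58322 : act 6 n14755 = n13897 := d34_1 D14755 (iv D13897) D13896
def n14756 : Q := act 7 n13897
theorem D14756 : act 7 n13897 = n14756 := rfl
theorem F58323 : act 2 n14756 = n13901 := d19_1 D14756 (iv D13901) (iv F54873)
theorem F58324 : act 4 n14756 = n14251 := d28_1 D14756 (iv D14251) (iv F54874)
theorem F58325 : act 5 n14756 = n13898 := d31_1 D14756 (iv D13898) (iv F54875)
def n14757 : Q := act 3 n13898
theorem D14757 : act 3 n13898 = n14757 := rfl
def n14758 : Q := act 4 n13899
theorem D14758 : act 4 n13899 = n14758 := rfl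
theorem F58326 : act 2 n14758 = n14526 := d16_1 D14758 (iv D14526) (iv F54878)
def n14759 : Q := act 7 n13900
theorem D14759 : act 7 n13900 = n14759 := rfl
theorem F58327 : act 1 n14759 = n13957 := d13_1 D14759 (iv D13957) (iv F54880)
theorem F58328 : act 4 n14759 = n14254 := d28_1 D14759 (iv D14254) (iv F54882)
theorem F58329 : act 6 n14759 = n13901 := d33_1 D14759 (iv D13901) (iv F54883)
def n14760 : Q := act 3 n13901
theorem D14760 : act 3 n13901 = n14760 := rfl
theorem F58330 : act 1 n14760 = n13958 := d9_1 D14760 (iv D13958) (iv F54884)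
theorem F58331 : act 5 n14760 = n13902 := d22_2 (iv F54886) D14760 (iv D13902)
theorem F58332 : act 7 n14760 = n13922 := d24_2 D13901 D14760 (iv D13922) (iv D12973) (iv F51097)
def n14761 : Q := act 2 n13902
theorem D14761 : act 2 n13902 = n14761 := rfl
theorem F58333 : act 4 n14761 = n14529 := d16_2 (iv F54888) D14761 (iv D14529)
theorem F58334 : act 7 n14761 = n13923 := d19_2 (iv F54889) D14761 (iv D13923)
def n14762 : Q := act 6 n13903
theorem D14762 : act 6 n13903 = n14762 := rfl
theorem F58335 : act 0 n14762 = n14445 := d5_1 D14762 F57085 (iv F54890)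
theorem F58336 : act 1 n14762 = n14762 := d12_1 D14762 (iv D14762) F54891
theorem F58337 : act 3 n14762 = n13905 := d23_1 D14762 (iv D13905) (iv F54892)
theorem F58338 : act 5 n14762 = n13912 := d30_1 D14762 (iv D13912) (iv D12965) (iv F51103) D13903
def n14763 : Q := act 8 n13903
theorem D14763 : act 8 n13903 = n14763 := rfl
theorem F58339 : act 0 n14763 = n14372 := d7_1 D14763 F56746 (iv F54890)
theorem F58340 : act 1 n14763 = n14763 := d14_1 D14763 (iv D14763) F54891
theorem F58341 : act 3 n14763 = n13906 := d25_1 D14763 (iv D13906) (iv F54892)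
theorem F58342 : act 5 n14763 = n13904 := d32_1 D14763 (iv D13904) D13903
def n14764 : Q := act 7 n13904
theorem D14764 : act 7 n13904 = n14764 := rfl
theorem F58343 : act 1 n14764 = n14764 := d13_1 D14764 (iv D14764) F54893
theorem F58344 : act 6 n14764 = n13916 := d33_1 D14764 (iv D13916) (iv F54895)
def n14765 : Q := act 8 n13905
theorem D14765 : act 8 n13905 = n14765 := rfl
theorem F58345 : act 0 n14765 = n14363 := d7_1 D14765 F56714 (iv F54896)
theorem F58346 : act 1 n14765 = n14765 := d14_1 D14765 (iv D14765) F54897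
theorem F58347 : act 2 n14765 = n13908 := d20_1 D14765 (iv D13908) (iv F54898)
theorem F58348 : act 4 n14765 = n14765 := d29_1 D14765 (iv D14765) F54899
theorem F58349 : act 5 n14765 = n13917 := d32_1 D14765 (iv D13917) (iv F54900)
theorem F58350 : act 6 n14765 = n13906 := d34_1 D14765 (iv D13906) D13905
theorem F58351 : act 7 n14574 = n14765 := d19_0 F58347 (iv F54917) (iv F57491)
def n14766 : Q := act 7 n13906
theorem D14766 : act 7 n13906 = n14766 := rfl
theorem F58352 : act 0 n14766 = n14351 := d6_1 D14766 F56657 (iv F54902)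
theorem F58353 : act 1 n14766 = n14766 := d13_1 D14766 (iv D14766) F54903
theorem F58354 : act 2 n14766 = n13909 := d19_1 D14766 (iv D13909) (iv F54904)
theorem F58355 : act 4 n14766 = n14766 := d28_1 D14766 (iv D14766) F54905
theorem F58356 : act 5 n14766 = n13907 := d31_1 D14766 (iv D13907) (iv F54906)
theorem F58357 : act 6 n14766 = n14574 := d33_1 D14766 F58351 F58350
theorem F58358 : act 8 n14766 = n14766 := d35_2 D13906 D14766 (iv D14766) (iv D13906) F51108
def n14767 : Q := act 3 n13907
theorem D14767 : act 3 n13907 = n14767 := rfl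
theorem F58359 : act 1 n14767 = n14767 := d9_1 D14767 (iv D14767) F54907
theorem F58360 : act 6 n14767 = n13919 := d23_2 (iv F54910) D14767 (iv D13919)
theorem F58361 : act 8 n14767 = n14767 := d25_2 F54911 D14767 (iv D14767)
def n14768 : Q := act 3 n13909
theorem D14768 : act 3 n13909 = n14768 := rfl
theorem F58362 : act 0 n14768 = n14381 := d2_1 D14768 F56781 (iv F54918)
theorem F58363 : act 1 n14768 = n13960 := d9_1 D14768 (iv D13960) (iv F54919)
theorem F58364 : act 5 n14768 = n13910 := d22_2 (iv F54921) D14768 (iv D13910)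
theorem F58365 : act 6 n14768 = n14556 := d23_2 (iv F54922) D14768 F57431
theorem F58366 : act 8 n14768 = n14768 := d25_2 F54923 D14768 (iv D14768)
def n14769 : Q := act 2 n13910
theorem D14769 : act 2 n13910 = n14769 := rfl
theorem F58367 : act 4 n14769 = n14379 := d16_2 (iv F54925) D14769 (iv D14379)
theorem F58368 : act 6 n14769 = n13923 := d18_2 (iv F54926) D14769 (iv D13923)
theorem F58369 : act 8 n14769 = n14769 := d20_2 F54927 D14769 (iv D14769)
def n14770 : Q := act 8 n13911
theorem D14770 : act 8 n13911 = n14770 := rfl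
theorem F58370 : act 1 n14770 = n14770 := d14_1 D14770 (iv D14770) F54928
theorem F58371 : act 3 n14770 = n13924 := d25_1 D14770 (iv D13924) (iv F54929)
theorem F58372 : act 4 n14770 = n13914 := d29_1 D14770 (iv D13914) D13911
def n14771 : Q := act 8 n13912
theorem D14771 : act 8 n13912 = n14771 := rfl
theorem F58373 : act 1 n14771 = n14771 := d14_1 D14771 (iv D14771) F54930
theorem F58374 : act 3 n14771 = n13917 := d25_1 D14771 (iv D13917) (iv F54931)
theorem F58375 : act 6 n14771 = n13914 := d34_1 D14771 (iv D13914) D13912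
def n14772 : Q := act 8 n13913
theorem D14772 : act 8 n13913 = n14772 := rfl
theorem F58376 : act 1 n14772 = n14772 := d14_1 D14772 (iv D14772) F54932
theorem F58377 : act 3 n14772 = n14772 := d25_1 D14772 (iv D14772) F54933
theorem F58378 : act 5 n14772 = n13915 := d32_1 D14772 (iv D13915) (iv F54934)
def n14773 : Q := act 7 n13914
theorem D14773 : act 7 n13914 = n14773 := rfl
theorem F58379 : act 1 n14773 = n14773 := d13_1 D14773 (iv D14773) F54935
theorem F58380 : act 5 n14773 = n13916 := d31_1 D14773 (iv D13916) (iv F54937)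
def n14774 : Q := act 7 n13915
theorem D14774 : act 7 n13915 = n14774 := rfl
theorem F58381 : act 1 n14774 = n14774 := d13_1 D14774 (iv D14774) F54938
theorem F58382 : act 8 n14774 = n13916 := d35_2 D13915 D14774 (iv D13916) (iv D12967) D12966
def n14775 : Q := act 3 n13916
theorem D14775 : act 3 n13916 = n14775 := rfl
theorem F58383 : act 1 n14775 = n14775 := d9_1 D14775 (iv D14775) F54940
theorem F58384 : act 7 n14775 = n13919 := d24_2 D13916 D14775 (iv D13919) (iv D12970) (iv F51136)
def n14776 : Q := act 7 n13917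
theorem D14776 : act 7 n13917 = n14776 := rfl
theorem F58385 : act 0 n14776 = n14573 := d6_1 D14776 F57756 F57750
theorem F58386 : act 1 n14776 = n14776 := d13_1 D14776 (iv D14776) F54941
theorem F58387 : act 2 n14776 = n13921 := d19_1 D14776 (iv D13921) (iv F54942)
theorem F58388 : act 4 n14776 = n13926 := d28_1 D14776 (iv D13926) (iv F54943)
theorem F58389 : act 5 n14776 = n14574 := d31_1 D14776 F58351 F58349
theorem F58390 : act 6 n14776 = n13918 := d33_1 D14776 (iv D13918) (iv F54944)
theorem F58391 : act 8 n14776 = n14776 := d35_2 D13917 D14776 (iv D14776) (iv D13917) F51140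
def n14777 : Q := act 3 n13918
theorem D14777 : act 3 n13918 = n14777 := rfl
theorem F58392 : act 1 n14777 = n14777 := d9_1 D14777 (iv D14777) F54945
theorem F58393 : act 5 n14777 = n13919 := d22_2 (iv F54948) D14777 (iv D13919)
theorem F58394 : act 8 n14777 = n14777 := d25_2 F54949 D14777 (iv D14777)
def n14778 : Q := act 2 n13919
theorem D14778 : act 2 n13919 = n14778 := rfl
theorem F58395 : act 3 n14778 = n13923 := d15_2 D13919 D14778 (iv D13923) (iv D12974) (iv F51146)
theorem F58396 : act 8 n14778 = n14778 := d20_2 F54951 D14778 (iv D14778)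
def n14779 : Q := act 4 n13919
theorem D14779 : act 4 n13919 = n14779 := rfl
theorem F58397 : act 1 n14779 = n14779 := d10_1 D14779 (iv D14779) F54950
theorem F58398 : act 3 n14779 = n13920 := d21_1 D14779 (iv D13920) (iv D12971) (iv F51147) D13919
theorem F58399 : act 8 n14779 = n14779 := d29_2 F54951 D14779 (iv D14779)
def n14780 : Q := act 2 n13922
theorem D14780 : act 2 n13922 = n14780 := rfl
theorem F58400 : act 5 n14780 = n13923 := d17_2 (iv F54962) D14780 (iv D13923)
theorem F58401 : act 8 n14780 = n14780 := d20_2 F54963 D14780 (iv D14780)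
def n14781 : Q := act 1 n13923
theorem D14781 : act 1 n13923 = n14781 := rfl
theorem F58402 : act 2 n14781 = n13963 := d8_2 D13923 D14781 (iv D13963) (iv D13024) (iv F51160)
theorem F58403 : act 4 n14781 = n14543 := d10_2 (iv F54964) D14781 (iv D14543)
theorem F58404 : act 8 n14781 = n14781 := d14_2 F54965 D14781 (iv D14781)
def n14782 : Q := act 7 n13928
theorem D14782 : act 7 n13928 = n14782 := rfl
theorem F58405 : act 0 n14782 = n14172 := d6_1 D14782 (iv D14172) (iv F54986)
theorem F58406 : act 1 n14782 = n13929 := d13_1 D14782 (iv D13929) (iv F54987)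
theorem F58407 : act 3 n14782 = n14185 := d24_1 D14782 (iv D14185) F52422 (iv F51651) (iv F54988)
theorem F58408 : act 4 n14782 = n14466 := d28_1 D14782 (iv D14466) (iv F54989)
theorem F58409 : act 5 n14782 = n14022 := d31_1 D14782 (iv D14022) (iv F54990)
theorem F58410 : act 6 n14782 = n13934 := d33_1 D14782 (iv D13934) (iv F54991)
theorem F58411 : act 8 n14782 = n13943 := d35_2 D13928 D14782 (iv D13943) (iv D13002) (iv F51211)
def n14783 : Q := act 3 n13930
theorem D14783 : act 3 n13930 = n14783 := rfl
theorem F58412 : act 0 n14783 = n13964 := d2_1 D14783 (iv D13964) (iv F54999)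
theorem F58413 : act 4 n14783 = n14288 := d21_2 (iv F55001) D14783 (iv D14288) F52713 (iv F51225)
theorem F58414 : act 5 n14783 = n14489 := d22_2 (iv F55002) D14783 (iv D14489)
theorem F58415 : act 6 n14783 = n13939 := d23_2 (iv F55003) D14783 (iv D13939)
theorem F58416 : act 7 n14783 = n14783 := d24_2 D13930 D14783 (iv D14783) (iv D13930) F51220
theorem F58417 : act 8 n14783 = n13947 := d25_2 (iv F55004) D14783 (iv D13947)
def n14784 : Q := act 7 n13931
theorem D14784 : act 7 n13931 = n14784 := rfl
theorem F58418 : act 0 n14784 = n13934 := d6_1 D14784 (iv D13934) (iv F55005)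
theorem F58419 : act 1 n14784 = n13965 := d13_1 D14784 (iv D13965) (iv F55006)
theorem F58420 : act 4 n14784 = n14527 := d28_1 D14784 (iv D14527) (iv F55008)
theorem F58421 : act 5 n14784 = n14284 := d31_1 D14784 (iv D14284) (iv F55009)
theorem F58422 : act 6 n14784 = n14172 := d33_1 D14784 (iv D14172) (iv F55010)
theorem F58423 : act 8 n14784 = n13950 := d35_2 D13931 D14784 (iv D13950) (iv D13009) (iv F51232)
def n14785 : Q := act 8 n13932
theorem D14785 : act 8 n13932 = n14785 := rfl
theorem F58424 : act 0 n14785 = n14293 := d7_1 D14785 (iv D14293) (iv F55011)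
theorem F58425 : act 1 n14785 = n13935 := d14_1 D14785 (iv D13935) (iv F55012)
theorem F58426 : act 3 n14785 = n14374 := d25_1 D14785 (iv D14374) (iv F55013)
theorem F58427 : act 4 n14785 = n14285 := d29_1 D14785 (iv D14285) (iv F55014)
theorem F58428 : act 5 n14785 = n13933 := d32_1 D14785 (iv D13933) D13932
theorem F58429 : act 6 n14785 = n14291 := d34_1 D14785 (iv D14291) (iv F55015)
def n14786 : Q := act 7 n13933
theorem D14786 : act 7 n13933 = n14786 := rfl
theorem F58430 : act 0 n14786 = n14527 := d6_1 D14786 (iv D14527) (iv F55017)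
theorem F58431 : act 1 n14786 = n13936 := d13_1 D14786 (iv D13936) (iv F55018)
theorem F58432 : act 4 n14786 = n13934 := d28_1 D14786 (iv D13934) (iv F55020)
theorem F58433 : act 6 n14786 = n14466 := d33_1 D14786 (iv D14466) (iv F55021)
theorem F58434 : act 8 n14786 = n13953 := d35_2 D13933 D14786 (iv D13953) (iv D13011) (iv F51238)
def n14787 : Q := act 7 n13935
theorem D14787 : act 7 n13935 = n14787 := rfl
theorem F58435 : act 0 n14787 = n13966 := d6_1 D14787 (iv D13966) (iv F55025)
theorem F58436 : act 2 n14787 = n13938 := d19_1 D14787 (iv D13938) (iv F55026)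
theorem F58437 : act 4 n14787 = n14287 := d28_1 D14787 (iv D14287) (iv F55028)
theorem F58438 : act 5 n14787 = n13936 := d31_1 D14787 (iv D13936) (iv F55029)
theorem F58439 : act 6 n14787 = n14303 := d33_1 D14787 (iv D14303) (iv F55030)
theorem F58440 : act 8 n14787 = n13955 := d35_2 D13935 D14787 (iv D13955) (iv D13014) (iv F51247)
def n14788 : Q := act 3 n13936
theorem D14788 : act 3 n13936 = n14788 := rfl
theorem F58441 : act 0 n14788 = n13967 := d2_1 D14788 (iv D13967) (iv F55031)
theorem F58442 : act 4 n14788 = n14029 := d21_2 (iv F55033) D14788 (iv D14029) (iv F54982) F54981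
theorem F58443 : act 6 n14788 = n14491 := d23_2 (iv F55034) D14788 (iv D14491)
theorem F58444 : act 7 n14788 = n14034 := d24_2 D13936 D14788 F55503 (iv D13626) (iv F51250)
theorem F58445 : act 8 n14788 = n13956 := d25_2 (iv F55035) D14788 (iv D13956)
theorem F58446 : act 2 n14136 = n14788 := d19_3 F58444 F55502 (iv F55892)
def n14789 : Q := act 7 n13937
theorem D14789 : act 7 n13937 = n14789 := rfl
theorem F58447 : act 0 n14789 = n13968 := d6_1 D14789 (iv D13968) (iv F55036)
theorem F58448 : act 2 n14789 = n14303 := d19_1 D14789 (iv D14303) (iv F55037)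
theorem F58449 : act 4 n14789 = n14289 := d28_1 D14789 (iv D14289) (iv F55039)
theorem F58450 : act 5 n14789 = n14150 := d31_1 D14789 (iv D14150) (iv F55040)
theorem F58451 : act 6 n14789 = n13938 := d33_1 D14789 (iv D13938) (iv F55041)
theorem F58452 : act 8 n14789 = n13957 := d35_2 D13937 D14789 (iv D13957) (iv D13016) (iv F51262)
def n14790 : Q := act 3 n13938
theorem D14790 : act 3 n13938 = n14790 := rfl
theorem F58453 : act 0 n14790 = n13969 := d2_1 D14790 (iv D13969) (iv F55042)
theorem F58454 : act 5 n14790 = n13939 := d22_2 (iv F55044) D14790 (iv D13939)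
theorem F58455 : act 7 n14790 = n14790 := d24_2 D13938 D14790 (iv D14790) (iv D13938) F51264
theorem F58456 : act 8 n14790 = n13958 := d25_2 (iv F55045) D14790 (iv D13958)
def n14791 : Q := act 2 n13939
theorem D14791 : act 2 n13939 = n14791 := rfl
theorem F58457 : act 0 n14791 = n13970 := d1_1 D14791 (iv D13970) (iv F55046)
theorem F58458 : act 3 n14791 = n14136 := d15_2 D13939 D14791 F58446 (iv D14788) F55032
theorem F58459 : act 4 n14791 = n14135 := d16_2 (iv F55047) D14791 F55888
theorem F58460 : act 7 n14791 = n14791 := d19_2 F55048 D14791 (iv D14791)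
theorem F58461 : act 8 n14791 = n13959 := d20_2 (iv F55049) D14791 (iv D13959)
def n14792 : Q := act 3 n13940
theorem D14792 : act 3 n13940 = n14792 := rfl
theorem F58462 : act 0 n14792 = n13971 := d2_1 D14792 (iv D13971) (iv F55050)
theorem F58463 : act 2 n14792 = n14121 := d15_1 D14792 (iv D14121) F52131 (iv F51788) (iv F55051)
theorem F58464 : act 4 n14792 = n13956 := d21_2 (iv F55052) D14792 (iv D13956) F51352 (iv F51278)
theorem F58465 : act 5 n14792 = n14485 := d22_2 (iv F55053) D14792 (iv D14485)
theorem F58466 : act 6 n14792 = n14189 := d23_2 (iv F55054) D14792 (iv D14189)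
theorem F58467 : act 7 n14792 = n14792 := d24_2 D13940 D14792 (iv D14792) (iv D13940) F51272
theorem F58468 : act 8 n14792 = n14029 := d25_2 (iv F55055) D14792 (iv D14029)
def n14793 : Q := act 7 n13941
theorem D14793 : act 7 n13941 = n14793 := rfl
theorem F58469 : act 0 n14793 = n13943 := d6_1 D14793 (iv D13943) (iv F55056)
theorem F58470 : act 1 n14793 = n13972 := d13_1 D14793 (iv D13972) (iv F55057)
theorem F58471 : act 3 n14793 = n14067 := d24_1 D14793 (iv D14067) F51944 (iv F51398) (iv F55058)
theorem F58472 : act 4 n14793 = n14515 := d28_1 D14793 (iv D14515) (iv F55059)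
theorem F58473 : act 5 n14793 = n14016 := d31_1 D14793 (iv D14016) (iv F55060)
theorem F58474 : act 6 n14793 = n13950 := d33_1 D14793 (iv D13950) (iv F55061)
theorem F58475 : act 8 n14793 = n14172 := d35_2 D13941 D14793 (iv D14172) (iv D13259) (iv F51285)
def n14794 : Q := act 7 n13942
theorem D14794 : act 7 n13942 = n14794 := rfl
theorem F58476 : act 0 n14794 = n14515 := d6_1 D14794 (iv D14515) (iv F55062)
theorem F58477 : act 1 n14794 = n13944 := d13_1 D14794 (iv D13944) (iv F55063)
theorem F58478 : act 4 n14794 = n13943 := d28_1 D14794 (iv D13943) (iv F55065)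
theorem F58479 : act 5 n14794 = n14456 := d31_1 D14794 (iv D14456) (iv F55066)
theorem F58480 : act 6 n14794 = n13953 := d33_1 D14794 (iv D13953) (iv F55067)
theorem F58481 : act 8 n14794 = n14466 := d35_2 D13942 D14794 (iv D14466) (iv D13597) (iv F51292)
def n14795 : Q := act 3 n13944
theorem D14795 : act 3 n13944 = n14795 := rfl
theorem F58482 : act 0 n14795 = n13973 := d2_1 D14795 (iv D13973) (iv F55072)
theorem F58483 : act 4 n14795 = n14189 := d21_2 (iv F55074) D14795 (iv D14189) F52443 (iv F51305)
theorem F58484 : act 5 n14795 = n14486 := d22_2 (iv F55075) D14795 (iv D14486)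
theorem F58485 : act 6 n14795 = n13956 := d23_2 (iv F55076) D14795 (iv D13956)
theorem F58486 : act 7 n14795 = n14795 := d24_2 D13944 D14795 (iv D14795) (iv D13944) F51299
theorem F58487 : act 8 n14795 = n14491 := d25_2 (iv F55077) D14795 (iv D14491)
def n14796 : Q := act 7 n13945
theorem D14796 : act 7 n13945 = n14796 := rfl
theorem F58488 : act 0 n14796 = n13974 := d6_1 D14796 (iv D13974) (iv F55078)
theorem F58489 : act 2 n14796 = n14300 := d19_1 D14796 (iv D14300) (iv F55079)
theorem F58490 : act 3 n14796 = n14557 := d24_1 D14796 F57433 F53975 F51368 (iv F55080)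
theorem F58491 : act 4 n14796 = n14145 := d28_1 D14796 (iv D14145) (iv F55081)
theorem F58492 : act 5 n14796 = n13957 := d31_1 D14796 (iv D13957) (iv F55082)
theorem F58493 : act 6 n14796 = n13946 := d33_1 D14796 (iv D13946) (iv F55083)
theorem F58494 : act 8 n14796 = n14150 := d35_2 D13945 D14796 (iv D14150) (iv D13234) (iv F51313)
def n14797 : Q := act 3 n13946
theorem D14797 : act 3 n13946 = n14797 := rfl
theorem F58495 : act 0 n14797 = n13975 := d2_1 D14797 (iv D13975) (iv F55084)
theorem F58496 : act 5 n14797 = n13947 := d22_2 (iv F55087) D14797 (iv D13947)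
theorem F58497 : act 6 n14797 = n14557 := d23_2 F58493 D14797 (iv F58490)
theorem F58498 : act 7 n14797 = n13960 := d24_2 D13946 D14797 (iv D13960) (iv D13020) (iv F51316)
theorem F58499 : act 8 n14797 = n14489 := d25_2 (iv F55088) D14797 (iv D14489)
def n14798 : Q := act 2 n13947
theorem D14798 : act 2 n13947 = n14798 := rfl
theorem F58500 : act 0 n14798 = n13976 := d1_1 D14798 (iv D13976) (iv F55089)
theorem F58501 : act 4 n14798 = n14298 := d16_2 (iv F55090) D14798 (iv D14298)
theorem F58502 : act 6 n14798 = n13959 := d18_2 (iv F55091) D14798 (iv D13959)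
theorem F58503 : act 7 n14798 = n13961 := d19_2 (iv F55092) D14798 (iv D13961)
def n14799 : Q := act 8 n13948
theorem D14799 : act 8 n13948 = n14799 := rfl
theorem F58504 : act 0 n14799 = n13952 := d7_1 D14799 (iv D13952) (iv F55093)
theorem F58505 : act 1 n14799 = n13977 := d14_1 D14799 (iv D13977) (iv F55094)
theorem F58506 : act 3 n14799 = n14799 := d25_1 D14799 (iv D14799) F55095
theorem F58507 : act 4 n14799 = n14291 := d29_1 D14799 (iv D14291) (iv F55096)
theorem F58508 : act 5 n14799 = n13949 := d32_1 D14799 (iv D13949) D13948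
theorem F58509 : act 6 n14799 = n14285 := d34_1 D14799 (iv D14285) (iv F55097)
def n14800 : Q := act 7 n13949
theorem D14800 : act 7 n13949 = n14800 := rfl
theorem F58510 : act 0 n14800 = n13953 := d6_1 D14800 (iv D13953) (iv F55099)
theorem F58511 : act 1 n14800 = n13978 := d13_1 D14800 (iv D13978) (iv F55100)
theorem F58512 : act 4 n14800 = n13950 := d28_1 D14800 (iv D13950) (iv F55102)
theorem F58513 : act 6 n14800 = n14515 := d33_1 D14800 (iv D14515) (iv F55103)
theorem F58514 : act 8 n14800 = n14527 := d35_2 D13949 D14800 (iv D14527) (iv D13656) (iv F51326)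
def n14801 : Q := act 8 n13951
theorem D14801 : act 8 n13951 = n14801 := rfl
theorem F58515 : act 0 n14801 = n14285 := d7_1 D14801 (iv D14285) (iv F55107)
theorem F58516 : act 1 n14801 = n13954 := d14_1 D14801 (iv D13954) (iv F55108)
theorem F58517 : act 3 n14801 = n14801 := d25_1 D14801 (iv D14801) F55109
theorem F58518 : act 4 n14801 = n14293 := d29_1 D14801 (iv D14293) (iv F55110)
theorem F58519 : act 5 n14801 = n14283 := d32_1 D14801 (iv D14283) (iv F55111)
theorem F58520 : act 6 n14801 = n13952 := d34_1 D14801 (iv D13952) D13951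
def n14802 : Q := act 7 n13952
theorem D14802 : act 7 n13952 = n14802 := rfl
theorem F58521 : act 1 n14802 = n13955 := d13_1 D14802 (iv D13955) (iv F55113)
theorem F58522 : act 4 n14802 = n14294 := d28_1 D14802 (iv D14294) (iv F55115)
theorem F58523 : act 5 n14802 = n13953 := d31_1 D14802 (iv D13953) (iv F55116)
def n14803 : Q := act 3 n13953
theorem D14803 : act 3 n13953 = n14803 := rfl
theorem F58524 : act 1 n14803 = n13956 := d9_1 D14803 (iv D13956) (iv F55117)
theorem F58525 : act 7 n14803 = n14803 := d24_2 D13953 D14803 (iv D14803) (iv D13953) F51335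
def n14804 : Q := act 7 n13954
theorem D14804 : act 7 n13954 = n14804 := rfl
theorem F58526 : act 0 n14804 = n13981 := d6_1 D14804 (iv D13981) (iv F55119)
theorem F58527 : act 2 n14804 = n13957 := d19_1 D14804 (iv D13957) (iv F55120)
theorem F58528 : act 4 n14804 = n14296 := d28_1 D14804 (iv D14296) (iv F55122)
theorem F58529 : act 5 n14804 = n14300 := d31_1 D14804 (iv D14300) (iv F55123)
theorem F58530 : act 6 n14804 = n13955 := d33_1 D14804 (iv D13955) (iv F55124)
theorem F58531 : act 8 n14804 = n14303 := d35_2 D13954 D14804 (iv D14303) (iv D13393) (iv F51344)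
def n14805 : Q := act 3 n13955
theorem D14805 : act 3 n13955 = n14805 := rfl
theorem F58532 : act 0 n14805 = n13982 := d2_1 D14805 (iv D13982) (iv F55125)
theorem F58533 : act 5 n14805 = n13956 := d22_2 (iv F55128) D14805 (iv D13956)
theorem F58534 : act 7 n14805 = n14805 := d24_2 D13955 D14805 (iv D14805) (iv D13955) F51347
def n14806 : Q := act 2 n13956
theorem D14806 : act 2 n13956 = n14806 := rfl
theorem F58535 : act 0 n14806 = n13983 := d1_1 D14806 (iv D13983) (iv F55129)
theorem F58536 : act 3 n14806 = n13959 := d15_2 D13956 D14806 (iv D13959) (iv D13018) (iv F51351)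
theorem F58537 : act 4 n14806 = n14121 := d16_2 F58464 D14806 (iv F58463)
theorem F58538 : act 7 n14806 = n14806 := d19_2 F55130 D14806 (iv D14806)
theorem F58539 : act 8 n14806 = n14136 := d20_2 F58445 D14806 F58446
def n14807 : Q := act 2 n13958
theorem D14807 : act 2 n13958 = n14807 := rfl
theorem F58540 : act 0 n14807 = n13984 := d1_1 D14807 (iv D13984) (iv F55134)
theorem F58541 : act 4 n14807 = n14151 := d16_2 F57859 D14807 (iv F57858)
theorem F58542 : act 5 n14807 = n13959 := d17_2 (iv F55135) D14807 (iv D13959)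
theorem F58543 : act 6 n14807 = n14490 := d18_2 F57901 D14807 (iv F57899)
theorem F58544 : act 7 n14807 = n13962 := d19_2 (iv F55136) D14807 (iv D13962)
def n14808 : Q := act 1 n13959
theorem D14808 : act 1 n13959 = n14808 := rfl
theorem F58545 : act 4 n14808 = n14554 := d10_2 (iv F55138) D14808 (iv D14554)
theorem F58546 : act 7 n14808 = n13963 := d13_2 (iv F55139) D14808 (iv D13963)
def n14809 : Q := act 2 n13960
theorem D14809 : act 2 n13960 = n14809 := rfl
theorem F58547 : act 0 n14809 = n13986 := d1_1 D14809 (iv D13986) (iv F55140)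
theorem F58548 : act 3 n14809 = n14809 := d15_2 D13960 D14809 (iv D14809) (iv D13960) F51370
theorem F58549 : act 5 n14809 = n13961 := d17_2 (iv F55141) D14809 (iv D13961)
theorem F58550 : act 6 n14809 = n14496 := d18_2 (iv F55142) D14809 F57256
theorem F58551 : act 8 n14809 = n14809 := d20_2 F55143 D14809 (iv D14809)
theorem F58552 : act 4 n14383 = n14809 := d27_3 F58550 (iv F58041) F58043
def n14810 : Q := act 4 n13960
theorem D14810 : act 4 n13960 = n14810 := rfl
theorem F58553 : act 0 n14810 = n13987 := d3_1 D14810 (iv D13987) (iv F55140)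
theorem F58554 : act 2 n14810 = n14383 := d16_1 D14810 F58552 (iv D14809)
theorem F58555 : act 3 n14810 = n14810 := d21_1 D14810 (iv D14810) (iv D13960) F51371 D13960
theorem F58556 : act 5 n14810 = n14380 := d26_2 (iv F55141) D14810 (iv D14380) F53154 (iv F51376)
theorem F58557 : act 6 n14810 = n13988 := d27_2 (iv F55142) D14810 F55279
theorem F58558 : act 8 n14810 = n14810 := d29_2 F55143 D14810 (iv D14810)
def n14811 : Q := act 1 n13961
theorem D14811 : act 1 n13961 = n14811 := rfl
theorem F58559 : act 3 n14811 = n14811 := d9_2 F55145 D14811 (iv D14811)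
theorem F58560 : act 4 n14811 = n14381 := d10_2 (iv F55146) D14811 (iv D14381)
theorem F58561 : act 6 n14811 = n13963 := d12_2 (iv F55147) D14811 (iv D13963)
theorem F58562 : act 8 n14811 = n14811 := d14_2 F55148 D14811 (iv D14811)
def n14812 : Q := act 1 n13962
theorem D14812 : act 1 n13962 = n14812 := rfl
theorem F58563 : act 0 n14812 = n14143 := d0_1 D14812 F55915 F52237 F51537 (iv F55149)
theorem F58564 : act 3 n14812 = n14812 := d9_2 F55150 D14812 (iv D14812)
theorem F58565 : act 4 n14812 = n14141 := d10_2 (iv F55151) D14812 F55911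
theorem F58566 : act 5 n14812 = n13963 := d11_2 (iv F55152) D14812 (iv D13963)
theorem F58567 : act 6 n14812 = n14495 := d12_2 (iv F55153) D14812 F57252
theorem F58568 : act 8 n14812 = n14812 := d14_2 F55154 D14812 (iv D14812)
def n14813 : Q := act 0 n13963
theorem D14813 : act 0 n13963 = n14813 := rfl
theorem F58569 : act 1 n14813 = n13988 := d0_2 D13963 D14813 (iv D13988) (iv D13057) (iv F51388)
theorem F58570 : act 3 n14813 = n14813 := d2_2 F55155 D14813 (iv D14813)
theorem F58571 : act 4 n14813 = n14556 := d3_2 (iv F55156) D14813 (iv D14556)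
theorem F58572 : act 5 n14813 = n14143 := d4_2 F58566 D14813 (iv F58563)
theorem F58573 : act 8 n14813 = n14813 := d7_2 F55157 D14813 (iv D14813)
def n14814 : Q := act 2 n13964
theorem D14814 : act 2 n13964 = n14814 := rfl
theorem F58574 : act 3 n14814 = n14149 := d15_2 D13964 D14814 F55941 (iv D13635) (iv F51412)
theorem F58575 : act 4 n14814 = n14148 := d16_2 (iv F55158) D14814 F55936
theorem F58576 : act 5 n14814 = n14499 := d17_2 (iv F55159) D14814 (iv D14499)
theorem F58577 : act 6 n14814 = n13970 := d18_2 (iv F55160) D14814 (iv D13970)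
theorem F58578 : act 7 n14814 = n14814 := d19_2 F55161 D14814 (iv D14814)
theorem F58579 : act 8 n14814 = n13976 := d20_2 (iv F55162) D14814 (iv D13976)
theorem F58580 : act 1 n14500 = n14814 := d36_6 D11128 D12134 D13122 F51853 D13634 (iv F57265) (iv D14814) (iv D13964) F51416 (iv D12029) F43362 (iv F43398) F43397 (iv F47377) F47375 (iv D11388) (iv D10431) F32900 (iv D6823) (iv F38920) D9189 F34813 F38938 (iv F34825) F34826 F38901 (iv F38942) (iv F41687) (iv F44182) (iv D11205) (iv D10280) (iv D8495) F23925 F17973 D4681 D6412 F38282 (iv F40122) F40123 F33150 (iv F38701) F32057 F32058 F23717 (iv D4513) (iv D3300) F9808 (iv D1773) (iv D1303) F4143 (iv D898) (iv D666) (iv D494) (iv F1784) (iv D381) (iv F1775) F1777 F1776 F1775 F1349 F1350 F1044 (iv D213) D212 D285 F1367 F1366 (iv D285) F1038 F817 D223 D302 D408 D553 F2507 D752 F3322 (iv F4137) (iv F5501) D1768 F7319 D2413 F9783 (iv F9830) (iv F13152) D4516 (iv F23831) D8457 (iv F40410)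
def n14815 : Q := act 2 n13969
theorem D14815 : act 2 n13969 = n14815 := rfl
theorem F58581 : act 1 n14815 = n13983 := d8_1 D14815 (iv D13983) (iv F55242) (iv F57987) F57986
theorem F58582 : act 3 n14815 = n13985 := d15_2 D13969 D14815 (iv F58032) F58033 F55169
theorem F58583 : act 4 n14815 = n14146 := d16_2 F57954 D14815 (iv F57953)
theorem F58584 : act 5 n14815 = n13970 := d17_2 (iv F55186) D14815 (iv D13970)
theorem F58585 : act 6 n14815 = n14497 := d18_2 F57982 D14815 (iv F57980)
theorem F58586 : act 7 n14815 = n14815 := d19_2 F55187 D14815 (iv D14815)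
theorem F58587 : act 8 n14815 = n13984 := d20_2 (iv F55188) D14815 (iv D13984)
def n14816 : Q := act 1 n13970
theorem D14816 : act 1 n13970 = n14816 := rfl
theorem F58588 : act 2 n14816 = n13982 := d8_2 D13970 D14816 F57999 (iv D14676) F54575
theorem F58589 : act 3 n14816 = n13984 := d9_2 (iv F55189) D14816 F55258
theorem F58590 : act 4 n14816 = n14152 := d10_2 (iv F55190) D14816 F55952
theorem F58591 : act 5 n14816 = n13983 := d11_2 F58584 D14816 (iv F58581)
theorem F58592 : act 6 n14816 = n14500 := d12_2 F58577 D14816 F58580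
theorem F58593 : act 7 n14816 = n14816 := d13_2 F55191 D14816 (iv D14816)
theorem F58594 : act 8 n14816 = n13985 := d14_2 (iv F55192) D14816 (iv D13985)
def n14817 : Q := act 2 n13973
theorem D14817 : act 2 n13973 = n14817 := rfl
theorem F58595 : act 1 n14817 = n14497 := d8_1 D14817 (iv F57980) F57979 F55956 (iv F55205)
theorem F58596 : act 3 n14817 = n13976 := d15_2 D13973 D14817 (iv D13976) (iv D13042) (iv F51467)
theorem F58597 : act 4 n14817 = n14144 := d16_2 (iv F55206) D14817 F55919
theorem F58598 : act 5 n14817 = n14498 := d17_2 (iv F55207) D14817 (iv D14498)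
theorem F58599 : act 6 n14817 = n13983 := d18_2 (iv F55208) D14817 (iv D13983)
theorem F58600 : act 7 n14817 = n14817 := d19_2 F55209 D14817 (iv D14817)
theorem F58601 : act 8 n14817 = n14149 := d20_2 (iv F55210) D14817 F55941
def n14818 : Q := act 2 n13975
theorem D14818 : act 2 n13975 = n14818 := rfl
theorem F58602 : act 1 n14818 = n14306 := d8_1 D14818 (iv D14306) F52806 D13399 (iv F55218)
theorem F58603 : act 3 n14818 = n14498 := d15_2 D13975 D14818 (iv D14498) (iv D13632) (iv F51479)
theorem F58604 : act 5 n14818 = n13976 := d17_2 (iv F55219) D14818 (iv D13976)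
theorem F58605 : act 6 n14818 = n14501 := d18_2 (iv F55220) D14818 F57268
theorem F58606 : act 7 n14818 = n13986 := d19_2 (iv F55221) D14818 (iv D13986)
theorem F58607 : act 8 n14818 = n14499 := d20_2 (iv F55222) D14818 (iv D14499)
theorem F58608 : act 4 n14305 = n14818 := d28_3 F58606 (iv F55271) (iv F56466)
def n14819 : Q := act 4 n13975
theorem D14819 : act 4 n13975 = n14819 := rfl
theorem F58609 : act 1 n14819 = n13976 := d10_1 D14819 F55223 (iv F55218)
theorem F58610 : act 2 n14819 = n14305 := d16_1 D14819 F58608 (iv D14818)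
theorem F58611 : act 3 n14819 = n14497 := d21_1 D14819 (iv D14497) (iv D13631) (iv F51480) D13975
theorem F58612 : act 5 n14819 = n14306 := d26_2 (iv F55219) D14819 F56467 F52812 (iv F51483)
theorem F58613 : act 6 n14819 = n13985 := d27_2 (iv F55220) D14819 F55263
theorem F58614 : act 7 n14819 = n13987 := d28_2 (iv F55221) D14819 (iv D13987)
theorem F58615 : act 8 n14819 = n14500 := d29_2 (iv F55222) D14819 (iv D14500)
def n14820 : Q := act 7 n13977
theorem D14820 : act 7 n13977 = n14820 := rfl
theorem F58616 : act 0 n14820 = n13979 := d6_1 D14820 (iv D13979) (iv F55226)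
theorem F58617 : act 2 n14820 = n14289 := d19_1 D14820 (iv D14289) (iv F55227)
theorem F58618 : act 4 n14820 = n14303 := d28_1 D14820 (iv D14303) (iv F55229)
theorem F58619 : act 5 n14820 = n13978 := d31_1 D14820 (iv D13978) (iv F55230)
theorem F58620 : act 6 n14820 = n14287 := d33_1 D14820 (iv D14287) (iv F55231)
theorem F58621 : act 8 n14820 = n14296 := d35_2 D13977 D14820 (iv D14296) (iv D13378) (iv F51491)
def n14821 : Q := act 3 n13978
theorem D14821 : act 3 n13978 = n14821 := rfl
theorem F58622 : act 0 n14821 = n13980 := d2_1 D14821 (iv D13980) (iv F55232)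
theorem F58623 : act 6 n14821 = n14550 := d23_2 (iv F55234) D14821 (iv D14550)
theorem F58624 : act 7 n14821 = n14821 := d24_2 D13978 D14821 (iv D14821) (iv D13978) F51493
theorem F58625 : act 8 n14821 = n14551 := d25_2 (iv F55235) D14821 (iv D14551)
def n14822 : Q := act 3 n13981
theorem D14822 : act 3 n13981 = n14822 := rfl
theorem F58626 : act 1 n14822 = n14302 := d9_1 D14822 (iv D14302) (iv F55246)
theorem F58627 : act 2 n14822 = n14500 := d15_1 D14822 F57265 (iv F54644) F54645 (iv F55247)
theorem F58628 : act 4 n14822 = n14499 := d21_2 (iv F55248) D14822 F57263 (iv F54662) F54661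
theorem F58629 : act 5 n14822 = n14301 := d22_2 (iv F55249) D14822 (iv D14301)
theorem F58630 : act 6 n14822 = n13982 := d23_2 (iv F55250) D14822 (iv D13982)
theorem F58631 : act 7 n14822 = n14822 := d24_2 D13981 D14822 (iv D14822) (iv D13981) F51510
theorem F58632 : act 8 n14822 = n14305 := d25_2 (iv F55251) D14822 (iv D14305)
def n14823 : Q := act 4 n13982
theorem D14823 : act 4 n13982 = n14823 := rfl
theorem F58633 : act 1 n14823 = n14498 := d10_1 D14823 (iv F57994) (iv F57999)
theorem F58634 : act 2 n14823 = n14152 := d16_1 D14823 (iv F58590) F58588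
theorem F58635 : act 3 n14823 = n14306 := d21_1 D14823 F56467 (iv D13398) (iv F51515) D13982
theorem F58636 : act 5 n14823 = n14497 := d26_2 (iv F55252) D14823 (iv D14497) (iv F55195) F55194
theorem F58637 : act 6 n14823 = n14499 := d27_2 F58630 D14823 (iv F58628)
theorem F58638 : act 7 n14823 = n14823 := d28_2 F55253 D14823 (iv D14823)
theorem F58639 : act 8 n14823 = n14501 := d29_2 F58038 D14823 (iv F58034)
def n14824 : Q := act 0 n13985
theorem D14824 : act 0 n13985 = n14824 := rfl
theorem F58640 : act 4 n14824 = n14557 := d3_2 (iv F55263) D14824 (iv D14557)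
theorem F58641 : act 5 n14824 = n14136 := d4_2 (iv F55264) D14824 F55891
theorem F58642 : act 7 n14824 = n13988 := d6_2 (iv F55265) D14824 (iv D13988)
def n14825 : Q := act 7 n13989
theorem D14825 : act 7 n13989 = n14825 := rfl
theorem F58643 : act 0 n14825 = n14825 := d6_1 D14825 (iv D14825) F55282
theorem F58644 : act 2 n14825 = n14309 := d19_1 D14825 (iv D14309) (iv F55283)
theorem F58645 : act 3 n14825 = n14000 := d24_1 D14825 (iv D14000) F51571 (iv F51550) (iv F55284)
theorem F58646 : act 5 n14825 = n13995 := d31_1 D14825 (iv D13995) (iv F55285)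
theorem F58647 : act 6 n14825 = n14310 := d33_1 D14825 (iv D14310) (iv F55286)
def n14826 : Q := act 4 n13990
theorem D14826 : act 4 n13990 = n14826 := rfl
theorem F58648 : act 0 n14826 = n14173 := d3_1 D14826 (iv D14173) F55291
theorem F58649 : act 1 n14826 = n13991 := d10_1 D14826 (iv D13991) D13990
theorem F58650 : act 3 n14826 = n14024 := d21_1 D14826 (iv D14024) F51778 F51596 (iv F55287)
theorem F58651 : act 5 n14826 = n14626 := d26_2 (iv F55288) D14826 (iv D14626) (iv D13763) (iv F51767)
theorem F58652 : act 6 n14826 = n13997 := d27_2 (iv F55289) D14826 (iv D13997)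
theorem F58653 : act 7 n14826 = n14427 := d28_2 (iv F55290) D14826 F57000
def n14827 : Q := act 8 n13990
theorem D14827 : act 8 n13990 = n14827 := rfl
theorem F58654 : act 0 n14827 = n14175 := d7_1 D14827 (iv D14175) F55291
theorem F58655 : act 1 n14827 = n13992 := d14_1 D14827 (iv D13992) D13990
theorem F58656 : act 3 n14827 = n14004 := d25_1 D14827 (iv D14004) (iv F55287)
theorem F58657 : act 5 n14827 = n14023 := d32_1 D14827 (iv D14023) (iv F55288)
theorem F58658 : act 6 n14827 = n13998 := d34_1 D14827 (iv D13998) (iv F55289)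
def n14828 : Q := act 5 n13991
theorem D14828 : act 5 n13991 = n14828 := rfl
theorem F58659 : act 0 n14828 = n14828 := d4_1 D14828 (iv D14828) F55292
theorem F58660 : act 1 n14828 = n14626 := d11_1 D14828 (iv F58651) F58649
theorem F58661 : act 2 n14828 = n13993 := d17_1 D14828 (iv D13993) (iv F55293)
theorem F58662 : act 3 n14828 = n14438 := d22_1 D14828 F57053 (iv F55294)
theorem F58663 : act 4 n14828 = n14307 := d26_1 D14828 (iv D14307) (iv D13400) (iv F51553) D13991
theorem F58664 : act 6 n14828 = n14440 := d30_2 (iv F55295) D14828 F57063 F53580 F51568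
theorem F58665 : act 7 n14828 = n14442 := d31_2 (iv F55296) D14828 F57070
theorem F58666 : act 8 n14828 = n14575 := d32_2 F56750 D14828 F57495
def n14829 : Q := act 7 n13992
theorem D14829 : act 7 n13992 = n14829 := rfl
theorem F58667 : act 0 n14829 = n14829 := d6_1 D14829 (iv D14829) F55297
theorem F58668 : act 2 n14829 = n13995 := d19_1 D14829 (iv D13995) (iv F55298)
theorem F58669 : act 3 n14829 = n14310 := d24_1 D14829 (iv D14310) F52827 (iv F51607) (iv F55299)
theorem F58670 : act 5 n14829 = n14309 := d31_1 D14829 (iv D14309) (iv F55300)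
theorem F58671 : act 6 n14829 = n14000 := d33_1 D14829 (iv D14000) (iv F55301)
theorem F58672 : act 8 n14829 = n14825 := d35_2 D13992 D14829 (iv D14825) (iv D13989) (iv F51555)
def n14830 : Q := act 8 n13993
theorem D14830 : act 8 n13993 = n14830 := rfl
theorem F58673 : act 0 n14830 = n14830 := d7_1 D14830 (iv D14830) F55302
theorem F58674 : act 2 n14830 = n14575 := d20_1 D14830 (iv F58666) F58661
theorem F58675 : act 3 n14830 = n14830 := d25_1 D14830 (iv D14830) F55303
theorem F58676 : act 5 n14830 = n13994 := d32_1 D14830 (iv D13994) D13993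
def n14831 : Q := act 7 n13994
theorem D14831 : act 7 n13994 = n14831 := rfl
theorem F58677 : act 0 n14831 = n14831 := d6_1 D14831 (iv D14831) F55304
theorem F58678 : act 4 n14831 = n13995 := d28_1 D14831 (iv D13995) (iv F55306)
theorem F58679 : act 6 n14831 = n14003 := d33_1 D14831 (iv D14003) (iv F55307)
def n14832 : Q := act 4 n13996
theorem D14832 : act 4 n13996 = n14832 := rfl
theorem F58680 : act 0 n14832 = n13997 := d3_1 D14832 (iv D13997) D13996
theorem F58681 : act 1 n14832 = n14832 := d10_1 D14832 (iv D14832) F55311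
theorem F58682 : act 3 n14832 = n14179 := d21_1 D14832 F56050 F52391 F51620 (iv F55312)
theorem F58683 : act 6 n14832 = n14173 := d27_2 (iv F55314) D14832 (iv D14173)
theorem F58684 : act 7 n14832 = n14402 := d28_2 F55528 D14832 F56900
theorem F58685 : act 5 n14400 = n14832 := d37_1 (iv F56891) (iv D14832) F55312 F51616 F47571 (iv D11069) F40129 F31885 F24684 F24683 F18304 (iv D3436) F38340 D3323 (iv F17789) F17788 (iv F38392) (iv D6176) (iv F23831) (iv F32180) F32183 F32182 F29629 (iv D7738) (iv F29598) (iv F39051) F39050 (iv D7768) (iv F24003) (iv D6221) F17803 F14157 F14156 F10557 D2634 F10591 F7913 D2635 F10592 (iv F14007) (iv F18824) (iv F23769) (iv F32157) D10207 (iv F43844) (iv F47109) (iv F51010) (iv F54137) F54142 F50499 D12818 F50511 (iv F49405) F49404 F45605 F45606 (iv F45758) F45757 (iv F49736) (iv D12622) (iv F49543) (iv F53311)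
def n14833 : Q := act 8 n13996
theorem D14833 : act 8 n13996 = n14833 := rfl
theorem F58686 : act 0 n14833 = n13998 := d7_1 D14833 (iv D13998) D13996
theorem F58687 : act 1 n14833 = n14833 := d14_1 D14833 (iv D14833) F55311
theorem F58688 : act 3 n14833 = n14005 := d25_1 D14833 (iv D14005) (iv F55312)
theorem F58689 : act 5 n14833 = n14314 := d32_1 D14833 (iv D14314) (iv F55313)
theorem F58690 : act 6 n14833 = n14175 := d34_1 D14833 (iv D14175) (iv F55314)
def n14834 : Q := act 8 n13997
theorem D14834 : act 8 n13997 = n14834 := rfl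
theorem F58691 : act 1 n14834 = n13999 := d14_1 D14834 (iv D13999) (iv F55315)
theorem F58692 : act 3 n14834 = n14424 := d25_1 D14834 F56995 F55317
theorem F58693 : act 4 n14834 = n13998 := d29_1 D14834 (iv D13998) D13997
theorem F58694 : act 5 n14834 = n14425 := d32_1 D14834 F56997 F55318
def n14835 : Q := act 7 n13998
theorem D14835 : act 7 n13998 = n14835 := rfl
theorem F58695 : act 1 n14835 = n14000 := d13_1 D14835 (iv D14000) (iv F55319)
theorem F58696 : act 5 n14835 = n14317 := d31_1 D14835 (iv D14317) (iv F55321)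
def n14836 : Q := act 7 n13999
theorem D14836 : act 7 n13999 = n14836 := rfl
theorem F58697 : act 0 n14836 = n14836 := d6_1 D14836 (iv D14836) F55322
theorem F58698 : act 2 n14836 = n14003 := d19_1 D14836 (iv D14003) (iv F55323)
theorem F58699 : act 3 n14836 = n14366 := d24_1 D14836 (iv D14366) F53060 D13579 (iv F55324)
theorem F58700 : act 4 n14836 = n14000 := d28_1 D14836 (iv D14000) (iv F55325)
theorem F58701 : act 5 n14836 = n14368 := d31_1 D14836 F56731 (iv F55326)
theorem F58702 : act 8 n14836 = n14367 := d35_2 D13999 D14836 F56727 F53079 (iv F51566)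
def n14837 : Q := act 8 n14001
theorem D14837 : act 8 n14001 = n14837 := rfl
theorem F58703 : act 0 n14837 = n14837 := d7_1 D14837 (iv D14837) F55330
theorem F58704 : act 2 n14837 = n14441 := d20_1 D14837 F57067 (iv F55331)
theorem F58705 : act 3 n14837 = n14837 := d25_1 D14837 (iv D14837) F55332
theorem F58706 : act 4 n14837 = n14321 := d29_1 D14837 (iv D14321) (iv F55333)
theorem F58707 : act 6 n14837 = n14002 := d34_1 D14837 (iv D14002) D14001
def n14838 : Q := act 7 n14002
theorem D14838 : act 7 n14002 = n14838 := rfl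
theorem F58708 : act 0 n14838 = n14838 := d6_1 D14838 (iv D14838) F55335
theorem F58709 : act 2 n14838 = n14368 := d19_1 D14838 F56731 (iv F55336)
theorem F58710 : act 4 n14838 = n14322 := d28_1 D14838 (iv D14322) (iv F55338)
theorem F58711 : act 5 n14838 = n14003 := d31_1 D14838 (iv D14003) (iv F55339)
theorem F58712 : act 8 n14838 = n14369 := d35_2 D14002 D14838 F56735 F53083 (iv F51577)
def n14839 : Q := act 3 n14003
theorem D14839 : act 3 n14003 = n14839 := rfl
theorem F58713 : act 0 n14839 = n14839 := d2_1 D14839 (iv D14839) F55340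
theorem F58714 : act 4 n14839 = n14560 := d21_2 (iv F55341) D14839 (iv D14560) F53988 (iv F51582)
theorem F58715 : act 7 n14839 = n14839 := d24_2 D14003 D14839 (iv D14839) (iv D14003) F51579
def n14840 : Q := act 8 n14010
theorem D14840 : act 8 n14010 = n14840 := rfl
theorem F58716 : act 0 n14840 = n14156 := d7_1 D14840 (iv D14156) (iv F55384)
theorem F58717 : act 2 n14840 = n14011 := d20_1 D14840 (iv D14011) D14010
theorem F58718 : act 3 n14840 = n14012 := d25_1 D14840 (iv D14012) (iv F55385)
theorem F58719 : act 4 n14840 = n14730 := d29_1 D14840 (iv D14730) (iv F55386)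
theorem F58720 : act 5 n14840 = n14448 := d32_1 D14840 (iv D14448) (iv F55387)
theorem F58721 : act 6 n14840 = n14168 := d34_1 D14840 (iv D14168) (iv F55388)
def n14841 : Q := act 7 n14011
theorem D14841 : act 7 n14011 = n14841 := rfl
theorem F58722 : act 0 n14841 = n14158 := d6_1 D14841 (iv D14158) (iv F55390)
theorem F58723 : act 1 n14841 = n14841 := d13_1 D14841 (iv D14841) F55391
theorem F58724 : act 3 n14841 = n14049 := d24_1 D14841 (iv D14049) F51897 (iv F51723) (iv F55392)
theorem F58725 : act 4 n14841 = n14764 := d28_1 D14841 (iv D14764) (iv F55393)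
theorem F58726 : act 5 n14841 = n14451 := d31_1 D14841 (iv D14451) (iv F55394)
theorem F58727 : act 6 n14841 = n14177 := d33_1 D14841 (iv D14177) (iv F55395)
theorem F58728 : act 8 n14841 = n14582 := d35_2 D14011 D14841 (iv D14582) (iv D13732) (iv F51716)
def n14842 : Q := act 7 n14012
theorem D14842 : act 7 n14012 = n14842 := rfl
theorem F58729 : act 0 n14842 = n14160 := d6_1 D14842 (iv D14160) (iv F55396)
theorem F58730 : act 2 n14842 = n14013 := d19_1 D14842 (iv D14013) (iv F55397)
theorem F58731 : act 4 n14842 = n14161 := d28_1 D14842 (iv D14161) (iv F55398)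
theorem F58732 : act 5 n14842 = n14455 := d31_1 D14842 (iv D14455) (iv F55399)
theorem F58733 : act 6 n14842 = n14170 := d33_1 D14842 (iv D14170) (iv F55400)
theorem F58734 : act 8 n14842 = n14021 := d35_2 D14012 D14842 (iv D14021) (iv D13098) (iv F51728)
def n14843 : Q := act 8 n14014
theorem D14843 : act 8 n14014 = n14843 := rfl
theorem F58735 : act 1 n14843 = n14015 := d14_1 D14843 (iv D14015) D14014
theorem F58736 : act 2 n14843 = n14025 := d20_1 D14843 (iv D14025) (iv F55408)
theorem F58737 : act 3 n14843 = n14605 := d25_1 D14843 (iv D14605) (iv F55409)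
theorem F58738 : act 4 n14843 = n14159 := d29_1 D14843 (iv D14159) (iv F55410)
theorem F58739 : act 6 n14843 = n14018 := d34_1 D14843 (iv D14018) (iv F55411)
def n14844 : Q := act 7 n14015
theorem D14844 : act 7 n14015 = n14844 := rfl
theorem F58740 : act 0 n14844 = n14161 := d6_1 D14844 (iv D14161) (iv F55413)
theorem F58741 : act 2 n14844 = n14016 := d19_1 D14844 (iv D14016) (iv F55414)
theorem F58742 : act 4 n14844 = n14160 := d28_1 D14844 (iv D14160) (iv F55416)
theorem F58743 : act 6 n14844 = n14021 := d33_1 D14844 (iv D14021) (iv F55417)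
theorem F58744 : act 8 n14844 = n14170 := d35_2 D14015 D14844 (iv D14170) (iv D13257) (iv F51739)
def n14845 : Q := act 8 n14017
theorem D14845 : act 8 n14017 = n14845 := rfl
theorem F58745 : act 0 n14845 = n14018 := d7_1 D14845 (iv D14018) D14017
theorem F58746 : act 1 n14845 = n14065 := d14_1 D14845 (iv D14065) (iv F55424)
theorem F58747 : act 2 n14845 = n14027 := d20_1 D14845 (iv D14027) (iv F55425)
theorem F58748 : act 3 n14845 = n14610 := d25_1 D14845 (iv D14610) (iv F55426)
theorem F58749 : act 5 n14845 = n14069 := d32_1 D14845 (iv D14069) (iv F55427)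
def n14846 : Q := act 7 n14018
theorem D14846 : act 7 n14018 = n14846 := rfl
theorem F58750 : act 1 n14846 = n14021 := d13_1 D14846 (iv D14021) (iv F55428)
theorem F58751 : act 2 n14846 = n14028 := d19_1 D14846 (iv D14028) (iv F55429)
theorem F58752 : act 5 n14846 = n14459 := d31_1 D14846 (iv D14459) (iv F55431)
def n14847 : Q := act 8 n14019
theorem D14847 : act 8 n14019 = n14847 := rfl
theorem F58753 : act 0 n14847 = n14168 := d7_1 D14847 (iv D14168) (iv F55432)
theorem F58754 : act 2 n14847 = n14023 := d20_1 D14847 (iv D14023) (iv F55433)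
theorem F58755 : act 3 n14847 = n14020 := d25_1 D14847 (iv D14020) D14019
theorem F58756 : act 4 n14847 = n14617 := d29_1 D14847 (iv D14617) (iv F55434)
theorem F58757 : act 6 n14847 = n14156 := d34_1 D14847 (iv D14156) (iv F55435)
def n14848 : Q := act 7 n14020
theorem D14848 : act 7 n14020 = n14848 := rfl
theorem F58758 : act 0 n14848 = n14170 := d6_1 D14848 (iv D14170) (iv F55437)
theorem F58759 : act 2 n14848 = n14022 := d19_1 D14848 (iv D14022) (iv F55438)
theorem F58760 : act 4 n14848 = n14021 := d28_1 D14848 (iv D14021) (iv F55439)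
theorem F58761 : act 6 n14848 = n14160 := d33_1 D14848 (iv D14160) (iv F55440)
theorem F58762 : act 8 n14848 = n14161 := d35_2 D14020 D14848 (iv D14161) (iv D13251) (iv F51751)
def n14849 : Q := act 3 n14021
theorem D14849 : act 3 n14021 = n14849 := rfl
theorem F58763 : act 0 n14849 = n14171 := d2_1 D14849 (iv D14171) (iv F55441)
theorem F58764 : act 2 n14849 = n14088 := d15_1 D14849 (iv D14088) F51984 (iv F51763) (iv F55442)
theorem F58765 : act 5 n14849 = n14465 := d22_2 (iv F55443) D14849 (iv D14465)
theorem F58766 : act 7 n14849 = n14621 := d24_2 D14021 D14849 (iv D14621) (iv D13758) (iv F51754)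
def n14850 : Q := act 7 n14023
theorem D14850 : act 7 n14023 = n14850 := rfl
theorem F58767 : act 0 n14850 = n14177 := d6_1 D14850 (iv D14177) (iv F55450)
theorem F58768 : act 1 n14850 = n14309 := d13_1 D14850 (iv D14309) (iv F55451)
theorem F58769 : act 3 n14850 = n14195 := d24_1 D14850 (iv D14195) F52464 (iv F51775) (iv F55452)
theorem F58770 : act 4 n14850 = n14631 := d28_1 D14850 (iv D14631) (iv F55453)
theorem F58771 : act 6 n14850 = n14158 := d33_1 D14850 (iv D14158) (iv F55454)
theorem F58772 : act 8 n14850 = n14688 := d35_2 D14023 D14850 (iv D14688) (iv D13848) (iv F51769)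
def n14851 : Q := act 7 n14025
theorem D14851 : act 7 n14025 = n14851 := rfl
theorem F58773 : act 1 n14851 = n14026 := d13_1 D14851 (iv D14026) (iv F55461)
theorem F58774 : act 4 n14851 = n14185 := d28_1 D14851 (iv D14185) (iv F55463)
theorem F58775 : act 6 n14851 = n14028 := d33_1 D14851 (iv D14028) (iv F55464)
theorem F58776 : act 8 n14851 = n14187 := d35_2 D14025 D14851 (iv D14187) (iv D13277) (iv F51796)
def n14852 : Q := act 3 n14026
theorem D14852 : act 3 n14026 = n14852 := rfl
theorem F58777 : act 0 n14852 = n14035 := d2_1 D14852 (iv D14035) (iv F55465)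
theorem F58778 : act 2 n14852 = n14127 := d15_1 D14852 (iv D14127) F52161 (iv F51803) (iv F55466)
theorem F58779 : act 4 n14852 = n14491 := d21_2 (iv F55467) D14852 (iv D14491) (iv F54995) F54994
theorem F58780 : act 6 n14852 = n14029 := d23_2 (iv F55468) D14852 (iv D14029)
theorem F58781 : act 7 n14852 = n14031 := d24_2 D14026 D14852 (iv D14031) (iv D13115) (iv F51799)
theorem F58782 : act 8 n14852 = n14189 := d25_2 (iv F55469) D14852 (iv D14189)
def n14853 : Q := act 7 n14027
theorem D14853 : act 7 n14027 = n14853 := rfl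
theorem F58783 : act 0 n14853 = n14028 := d6_1 D14853 (iv D14028) (iv F55470)
theorem F58784 : act 1 n14853 = n14036 := d13_1 D14853 (iv D14036) (iv F55471)
theorem F58785 : act 5 n14853 = n14125 := d31_1 D14853 (iv D14125) (iv F55473)
def n14854 : Q := act 3 n14028
theorem D14854 : act 3 n14028 = n14854 := rfl
theorem F58786 : act 1 n14854 = n14029 := d9_1 D14854 (iv D14029) (iv F55474)
theorem F58787 : act 5 n14854 = n14488 := d22_2 (iv F55475) D14854 (iv D14488)
theorem F58788 : act 7 n14854 = n14033 := d24_2 D14028 D14854 (iv D14033) (iv D13117) (iv F51811)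
def n14855 : Q := act 3 n14030
theorem D14855 : act 3 n14030 = n14855 := rfl
theorem F58789 : act 0 n14855 = n14542 := d2_1 D14855 F57369 (iv F55480)
theorem F58790 : act 1 n14855 = n14031 := d9_1 D14855 (iv D14031) (iv F55481)
theorem F58791 : act 4 n14855 = n14479 := d21_2 (iv F55483) D14855 (iv D14479) F53708 D13616
theorem F58792 : act 6 n14855 = n14033 := d23_2 (iv F55484) D14855 (iv D14033)
theorem F58793 : act 8 n14855 = n14855 := d25_2 F55485 D14855 (iv D14855)
def n14856 : Q := act 3 n14032
theorem D14856 : act 3 n14032 = n14856 := rfl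
theorem F58794 : act 0 n14856 = n14033 := d2_1 D14856 (iv D14033) (iv F55491)
theorem F58795 : act 1 n14856 = n14038 := d9_1 D14856 (iv D14038) (iv F55492)
theorem F58796 : act 4 n14856 = n14540 := d21_2 (iv F55494) D14856 (iv D14540) F53884 D13678
theorem F58797 : act 5 n14856 = n14139 := d22_2 (iv F55495) D14856 (iv D14139)
theorem F58798 : act 6 n14856 = n14542 := d23_2 (iv F55496) D14856 F57369
theorem F58799 : act 8 n14856 = n14856 := d25_2 F55497 D14856 (iv D14856)
def n14857 : Q := act 2 n14033
theorem D14857 : act 2 n14033 = n14857 := rfl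
theorem F58800 : act 1 n14857 = n14142 := d8_1 D14857 (iv D14142) F52235 (iv F51838) (iv F55498)
theorem F58801 : act 3 n14857 = n14668 := d15_2 D14033 D14857 (iv D14668) (iv D13816) (iv F51834)
theorem F58802 : act 5 n14857 = n14494 := d17_2 (iv F55499) D14857 (iv D14494)
theorem F58803 : act 8 n14857 = n14857 := d20_2 F55500 D14857 (iv D14857)
def n14858 : Q := act 4 n14033
theorem D14858 : act 4 n14033 = n14858 := rfl
theorem F58804 : act 0 n14858 = n14540 := d3_1 D14858 (iv F58796) F58794
theorem F58805 : act 1 n14858 = n14034 := d10_1 D14858 (iv D14034) (iv F55498)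
theorem F58806 : act 3 n14858 = n14478 := d21_1 D14858 F57198 (iv F55379) F55380 D14033
theorem F58807 : act 6 n14858 = n14479 := d27_2 F58792 D14858 (iv F58791)
theorem F58808 : act 8 n14858 = n14858 := d29_2 F55500 D14858 (iv D14858)
def n14859 : Q := act 3 n14036
theorem D14859 : act 3 n14036 = n14859 := rfl
theorem F58809 : act 0 n14859 = n14037 := d2_1 D14859 (iv D14037) (iv F55512)
theorem F58810 : act 4 n14859 = n14551 := d21_2 F57770 D14859 (iv D14551) (iv F55164) (iv F57769)
theorem F58811 : act 5 n14859 = n14127 := d22_2 (iv F55514) D14859 (iv D14127)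
theorem F58812 : act 6 n14859 = n14553 := d23_2 F57840 D14859 (iv F57837)
theorem F58813 : act 7 n14859 = n14038 := d24_2 D14036 D14859 (iv D14038) (iv D13124) (iv F51847)
def n14860 : Q := act 2 n14039
theorem D14860 : act 2 n14039 = n14860 := rfl
theorem F58814 : act 0 n14860 = n14154 := d1_1 D14860 F55960 (iv F55525)
theorem F58815 : act 3 n14860 = n14050 := d15_2 D14039 D14860 (iv D14050) (iv D13133) (iv F51878)
theorem F58816 : act 5 n14860 = n14041 := d17_2 (iv F55527) D14860 (iv D14041)
theorem F58817 : act 7 n14860 = n14689 := d19_2 (iv F55528) D14860 F58066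
def n14861 : Q := act 8 n14039
theorem D14861 : act 8 n14039 = n14861 := rfl
theorem F58818 : act 0 n14861 = n14191 := d7_1 D14861 (iv D14191) (iv F55525)
theorem F58819 : act 1 n14861 = n14861 := d14_1 D14861 (iv D14861) F55526
theorem F58820 : act 3 n14861 = n14040 := d25_1 D14861 (iv D14040) D14039
theorem F58821 : act 5 n14861 = n14043 := d32_1 D14861 (iv D14043) (iv F55527)
def n14862 : Q := act 1 n14041
theorem D14862 : act 1 n14041 = n14862 := rfl
theorem F58822 : act 0 n14862 = n14446 := d0_1 D14862 (iv D14446) F53623 (iv F52457) (iv F55535)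
theorem F58823 : act 2 n14862 = n14862 := d8_2 D14041 D14862 (iv D14862) (iv D14041) F51882
theorem F58824 : act 3 n14862 = n14052 := d9_2 (iv F55536) D14862 (iv D14052)
theorem F58825 : act 6 n14862 = n14044 := d12_2 (iv F55537) D14862 (iv D14044)
def n14863 : Q := act 4 n14041
theorem D14863 : act 4 n14041 = n14863 := rfl
theorem F58826 : act 0 n14863 = n14192 := d3_1 D14863 (iv D14192) (iv F55535)
theorem F58827 : act 2 n14863 = n14042 := d16_1 D14863 (iv D14042) D14041
theorem F58828 : act 3 n14863 = n14430 := d21_1 D14863 (iv D14430) F53493 (iv F51908) (iv F55536)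
theorem F58829 : act 6 n14863 = n14045 := d27_2 (iv F55537) D14863 (iv D14045)
def n14864 : Q := act 8 n14041
theorem D14864 : act 8 n14041 = n14864 := rfl
theorem F58830 : act 0 n14864 = n14193 := d7_1 D14864 (iv D14193) (iv F55535)
theorem F58831 : act 2 n14864 = n14043 := d20_1 D14864 (iv D14043) D14041
theorem F58832 : act 3 n14864 = n14053 := d25_1 D14864 (iv D14053) (iv F55536)
theorem F58833 : act 6 n14864 = n14046 := d34_1 D14864 (iv D14046) (iv F55537)
def n14865 : Q := act 8 n14042
theorem D14865 : act 8 n14042 = n14865 := rfl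
theorem F58834 : act 0 n14865 = n14194 := d7_1 D14865 (iv D14194) (iv F55538)
theorem F58835 : act 1 n14865 = n14865 := d14_1 D14865 (iv D14865) F55539
theorem F58836 : act 3 n14865 = n14178 := d25_1 D14865 F56046 (iv F55540)
theorem F58837 : act 4 n14865 = n14043 := d29_1 D14865 (iv D14043) D14042
theorem F58838 : act 6 n14865 = n14048 := d34_1 D14865 (iv D14048) (iv F55541)
def n14866 : Q := act 7 n14043
theorem D14866 : act 7 n14043 = n14866 := rfl
theorem F58839 : act 0 n14866 = n14195 := d6_1 D14866 (iv D14195) (iv F55542)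
theorem F58840 : act 1 n14866 = n14866 := d13_1 D14866 (iv D14866) F55543
theorem F58841 : act 3 n14866 = n14177 := d24_1 D14866 (iv D14177) F52373 (iv F51889) (iv F55544)
theorem F58842 : act 6 n14866 = n14049 := d33_1 D14866 (iv D14049) (iv F55545)
def n14867 : Q := act 0 n14044
theorem D14867 : act 0 n14044 = n14867 := rfl
theorem F58843 : act 1 n14867 = n14196 := d0_2 D14044 D14867 (iv D14196) (iv D13289) (iv F51890)
theorem F58844 : act 2 n14867 = n14867 := d1_2 F55546 D14867 (iv D14867)
theorem F58845 : act 3 n14867 = n14055 := d2_2 (iv F55547) D14867 (iv D14055)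
theorem F58846 : act 6 n14867 = n14446 := d5_2 F58825 D14867 (iv F58822)
theorem F58847 : act 7 n14867 = n14862 := d6_2 F57088 D14867 F58822
def n14868 : Q := act 4 n14044
theorem D14868 : act 4 n14044 = n14868 := rfl
theorem F58848 : act 1 n14868 = n14045 := d10_1 D14868 (iv D14045) D14044
theorem F58849 : act 2 n14868 = n14868 := d16_1 D14868 (iv D14868) F55546
def n14869 : Q := act 8 n14044
theorem D14869 : act 8 n14044 = n14869 := rfl
theorem F58850 : act 1 n14869 = n14046 := d14_1 D14869 (iv D14046) D14044
theorem F58851 : act 2 n14869 = n14869 := d20_1 D14869 (iv D14869) F55546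
theorem F58852 : act 3 n14869 = n14057 := d25_1 D14869 (iv D14057) (iv F55547)
def n14870 : Q := act 3 n14045
theorem D14870 : act 3 n14045 = n14870 := rfl
theorem F58853 : act 0 n14870 = n14199 := d2_1 D14870 (iv D14199) (iv F55548)
theorem F58854 : act 2 n14870 = n14384 := d15_1 D14870 (iv D14384) F53209 (iv F51894) (iv F55549)
theorem F58855 : act 4 n14870 = n14058 := d21_2 D14045 D14870 (iv D14058) (iv D13138) (iv F51891)
theorem F58856 : act 6 n14870 = n14430 := d23_2 F58829 D14870 (iv F58828)
def n14871 : Q := act 5 n14045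
theorem D14871 : act 5 n14045 = n14871 := rfl
theorem F58857 : act 0 n14871 = n14200 := d4_1 D14871 (iv D14200) (iv F55548)
theorem F58858 : act 2 n14871 = n14047 := d17_1 D14871 (iv D14047) (iv F55549)
def n14872 : Q := act 8 n14045
theorem D14872 : act 8 n14045 = n14872 := rfl
theorem F58859 : act 0 n14872 = n14201 := d7_1 D14872 (iv D14201) (iv F55548)
theorem F58860 : act 2 n14872 = n14048 := d20_1 D14872 (iv D14048) (iv F55549)
theorem F58861 : act 4 n14872 = n14046 := d29_1 D14872 (iv D14046) D14045
def n14873 : Q := act 7 n14046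
theorem D14873 : act 7 n14046 = n14873 := rfl
theorem F58862 : act 0 n14873 = n14202 := d6_1 D14873 (iv D14202) (iv F55550)
theorem F58863 : act 2 n14873 = n14049 := d19_1 D14873 (iv D14049) (iv F55551)
def n14874 : Q := act 8 n14047
theorem D14874 : act 8 n14047 = n14874 := rfl
theorem F58864 : act 0 n14874 = n14204 := d7_1 D14874 (iv D14204) (iv F55553)
theorem F58865 : act 1 n14874 = n14874 := d14_1 D14874 (iv D14874) F55554
theorem F58866 : act 3 n14874 = n14385 := d25_1 D14874 (iv D14385) (iv F55555)
theorem F58867 : act 5 n14874 = n14048 := d32_1 D14874 (iv D14048) D14047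
def n14875 : Q := act 7 n14048
theorem D14875 : act 7 n14048 = n14875 := rfl
theorem F58868 : act 0 n14875 = n14205 := d6_1 D14875 (iv D14205) (iv F55556)
theorem F58869 : act 1 n14875 = n14875 := d13_1 D14875 (iv D14875) F55557
theorem F58870 : act 4 n14875 = n14049 := d28_1 D14875 (iv D14049) (iv F55559)
def n14876 : Q := act 8 n14050
theorem D14876 : act 8 n14050 = n14876 := rfl
theorem F58871 : act 0 n14876 = n14159 := d7_1 D14876 (iv D14159) (iv F55562)
theorem F58872 : act 2 n14876 = n14051 := d20_1 D14876 (iv D14051) D14050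
theorem F58873 : act 5 n14876 = n14053 := d32_1 D14876 (iv D14053) (iv F55563)
def n14877 : Q := act 7 n14051
theorem D14877 : act 7 n14051 = n14877 := rfl
theorem F58874 : act 0 n14877 = n14185 := d6_1 D14877 (iv D14185) (iv F55565)
theorem F58875 : act 1 n14877 = n14114 := d13_1 D14877 (iv D14114) (iv F55566)
theorem F58876 : act 3 n14877 = n14172 := d24_1 D14877 (iv D14172) F52360 (iv F51906) (iv F55567)
theorem F58877 : act 5 n14877 = n14054 := d31_1 D14877 (iv D14054) (iv F55568)
theorem F58878 : act 8 n14877 = n14067 := d35_2 D14051 D14877 (iv D14067) (iv D13145) (iv F51901)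
def n14878 : Q := act 8 n14052
theorem D14878 : act 8 n14052 = n14878 := rfl
theorem F58879 : act 0 n14878 = n14452 := d7_1 D14878 (iv D14452) (iv F55569)
theorem F58880 : act 1 n14878 = n14053 := d14_1 D14878 (iv D14053) D14052
theorem F58881 : act 2 n14878 = n14115 := d20_1 D14878 (iv D14115) (iv F55570)
theorem F58882 : act 4 n14878 = n14279 := d29_1 D14878 F56369 (iv F55571)
theorem F58883 : act 6 n14878 = n14057 := d34_1 D14878 (iv D14057) (iv F55572)
def n14879 : Q := act 7 n14053
theorem D14879 : act 7 n14053 = n14879 := rfl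
theorem F58884 : act 0 n14879 = n14208 := d6_1 D14879 (iv D14208) (iv F55574)
theorem F58885 : act 2 n14879 = n14054 := d19_1 D14879 (iv D14054) (iv F55575)
theorem F58886 : act 4 n14879 = n14256 := d28_1 D14879 F56285 (iv F55576)
theorem F58887 : act 6 n14879 = n14061 := d33_1 D14879 (iv D14061) (iv F55577)
theorem F58888 : act 8 n14879 = n14073 := d35_2 D14053 D14879 (iv D14073) (iv D13148) (iv F51910)
def n14880 : Q := act 8 n14055
theorem D14880 : act 8 n14055 = n14880 := rfl
theorem F58889 : act 0 n14880 = n14057 := d7_1 D14880 (iv D14057) D14055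
theorem F58890 : act 1 n14880 = n14210 := d14_1 D14880 (iv D14210) (iv F55584)
theorem F58891 : act 2 n14880 = n14117 := d20_1 D14880 (iv D14117) (iv F55585)
theorem F58892 : act 6 n14880 = n14452 := d34_1 D14880 (iv D14452) (iv F55586)
def n14881 : Q := act 3 n14056
theorem D14881 : act 3 n14056 = n14881 := rfl
theorem F58893 : act 1 n14881 = n14058 := d9_1 D14881 (iv D14058) (iv F55588)
theorem F58894 : act 2 n14881 = n14445 := d15_1 D14881 F57084 F53600 F52122 (iv F55589)
theorem F58895 : act 6 n14881 = n14429 := d23_2 (iv F55590) D14881 F57007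
def n14882 : Q := act 8 n14056
theorem D14882 : act 8 n14056 = n14882 := rfl
theorem F58896 : act 1 n14882 = n14060 := d14_1 D14882 (iv D14060) (iv F55588)
theorem F58897 : act 2 n14882 = n14118 := d20_1 D14882 (iv D14118) (iv F55589)
theorem F58898 : act 4 n14882 = n14057 := d29_1 D14882 (iv D14057) D14056
theorem F58899 : act 6 n14882 = n14279 := d34_1 D14882 F56369 (iv F55590)
def n14883 : Q := act 7 n14057
theorem D14883 : act 7 n14057 = n14883 := rfl
theorem F58900 : act 1 n14883 = n14061 := d13_1 D14883 (iv D14061) (iv F55592)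
theorem F58901 : act 2 n14883 = n14119 := d19_1 D14883 (iv D14119) (iv F55593)
theorem F58902 : act 8 n14883 = n14081 := d35_2 D14057 D14883 (iv D14081) (iv D13154) (iv F51917)
def n14884 : Q := act 5 n14058
theorem D14884 : act 5 n14058 = n14884 := rfl
theorem F58903 : act 0 n14884 = n14215 := d4_1 D14884 (iv D14215) (iv F55594)
theorem F58904 : act 2 n14884 = n14387 := d17_1 D14884 (iv D14387) (iv F55595)
theorem F58905 : act 3 n14884 = n14059 := d22_1 D14884 (iv D14059) D14058
def n14885 : Q := act 7 n14058
theorem D14885 : act 7 n14058 = n14885 := rfl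
theorem F58906 : act 0 n14885 = n14216 := d6_1 D14885 (iv D14216) (iv F55594)
theorem F58907 : act 2 n14885 = n14388 := d19_1 D14885 (iv D14388) (iv F55595)
theorem F58908 : act 3 n14885 = n14083 := d24_1 D14885 (iv D14083) (iv D13155) (iv F51921) D14058
theorem F58909 : act 6 n14885 = n14426 := d33_1 D14885 F56998 (iv F55596)
def n14886 : Q := act 8 n14058
theorem D14886 : act 8 n14058 = n14886 := rfl
theorem F58910 : act 0 n14886 = n14217 := d7_1 D14886 (iv D14217) (iv F55594)
theorem F58911 : act 2 n14886 = n14265 := d20_1 D14886 F56322 (iv F55595)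
theorem F58912 : act 3 n14886 = n14060 := d25_1 D14886 (iv D14060) D14058
theorem F58913 : act 6 n14886 = n14276 := d34_1 D14886 F56361 (iv F55596)
def n14887 : Q := act 8 n14059
theorem D14887 : act 8 n14059 = n14887 := rfl
theorem F58914 : act 0 n14887 = n14219 := d7_1 D14887 (iv D14219) (iv F55597)
theorem F58915 : act 2 n14887 = n14062 := d20_1 D14887 (iv D14062) (iv F55598)
theorem F58916 : act 5 n14887 = n14060 := d32_1 D14887 (iv D14060) D14059
def n14888 : Q := act 7 n14060
theorem D14888 : act 7 n14060 = n14888 := rfl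
theorem F58917 : act 0 n14888 = n14220 := d6_1 D14888 (iv D14220) (iv F55600)
theorem F58918 : act 2 n14888 = n14063 := d19_1 D14888 (iv D14063) (iv F55601)
theorem F58919 : act 4 n14888 = n14061 := d28_1 D14888 (iv D14061) (iv F55602)
theorem F58920 : act 6 n14888 = n14256 := d33_1 D14888 F56285 (iv F55603)
theorem F58921 : act 8 n14888 = n14087 := d35_2 D14060 D14888 (iv D14087) (iv D13157) (iv F51921)
def n14889 : Q := act 3 n14061
theorem D14889 : act 3 n14061 = n14889 := rfl
theorem F58922 : act 0 n14889 = n14221 := d2_1 D14889 (iv D14221) (iv F55604)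
theorem F58923 : act 8 n14889 = n14088 := d25_2 (iv F55606) D14889 (iv D14088)
def n14890 : Q := act 7 n14062
theorem D14890 : act 7 n14062 = n14890 := rfl
theorem F58924 : act 0 n14890 = n14223 := d6_1 D14890 (iv D14223) (iv F55607)
theorem F58925 : act 1 n14890 = n14122 := d13_1 D14890 (iv D14122) (iv F55608)
theorem F58926 : act 3 n14890 = n14232 := d24_1 D14890 (iv D14232) F52536 D13340 (iv F55609)
theorem F58927 : act 5 n14890 = n14063 := d31_1 D14890 (iv D14063) (iv F55610)
theorem F58928 : act 8 n14890 = n14090 := d35_2 D14062 D14890 (iv D14090) (iv D13160) (iv F51927)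
def n14891 : Q := act 3 n14064
theorem D14891 : act 3 n14064 = n14891 := rfl
theorem F58929 : act 0 n14891 = n14162 := d2_1 D14891 (iv D14162) (iv F55617)
theorem F58930 : act 2 n14891 = n14891 := d15_1 D14891 (iv D14891) F55618 F51941 (iv F55618)
theorem F58931 : act 4 n14891 = n14738 := d21_2 D14064 D14891 (iv D14738) (iv D13887) (iv F51937)
def n14892 : Q := act 8 n14064
theorem D14892 : act 8 n14064 = n14892 := rfl
theorem F58932 : act 0 n14892 = n14164 := d7_1 D14892 (iv D14164) (iv F55617)
theorem F58933 : act 2 n14892 = n14066 := d20_1 D14892 (iv D14066) (iv F55618)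
theorem F58934 : act 4 n14892 = n14065 := d29_1 D14892 (iv D14065) D14064
def n14893 : Q := act 7 n14065
theorem D14893 : act 7 n14065 = n14893 := rfl
theorem F58935 : act 0 n14893 = n14165 := d6_1 D14893 (iv D14165) (iv F55619)
theorem F58936 : act 2 n14893 = n14067 := d19_1 D14893 (iv D14067) (iv F55620)
theorem F58937 : act 5 n14893 = n14073 := d31_1 D14893 (iv D14073) (iv F55622)
def n14894 : Q := act 7 n14066
theorem D14894 : act 7 n14066 = n14894 := rfl
theorem F58938 : act 0 n14894 = n14187 := d6_1 D14894 (iv D14187) (iv F55623)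
theorem F58939 : act 1 n14894 = n14123 := d13_1 D14894 (iv D14123) (iv F55624)
theorem F58940 : act 4 n14894 = n14067 := d28_1 D14894 (iv D14067) (iv F55626)
def n14895 : Q := act 3 n14068
theorem D14895 : act 3 n14068 = n14895 := rfl
theorem F58941 : act 0 n14895 = n14457 := d2_1 D14895 (iv D14457) (iv F55630)
theorem F58942 : act 1 n14895 = n14070 := d9_1 D14895 (iv D14070) (iv F55631)
theorem F58943 : act 2 n14895 = n14895 := d15_1 D14895 (iv D14895) F55632 F52148 (iv F55632)
theorem F58944 : act 6 n14895 = n14078 := d23_2 (iv F55633) D14895 (iv D14078)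
def n14896 : Q := act 8 n14068
theorem D14896 : act 8 n14068 = n14896 := rfl
theorem F58945 : act 0 n14896 = n14458 := d7_1 D14896 (iv D14458) (iv F55630)
theorem F58946 : act 1 n14896 = n14072 := d14_1 D14896 (iv D14072) (iv F55631)
theorem F58947 : act 2 n14896 = n14124 := d20_1 D14896 (iv D14124) (iv F55632)
theorem F58948 : act 4 n14896 = n14069 := d29_1 D14896 (iv D14069) D14068
theorem F58949 : act 6 n14896 = n14080 := d34_1 D14896 (iv D14080) (iv F55633)
def n14897 : Q := act 7 n14069
theorem D14897 : act 7 n14069 = n14897 := rfl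
theorem F58950 : act 0 n14897 = n14459 := d6_1 D14897 (iv D14459) (iv F55635)
theorem F58951 : act 1 n14897 = n14073 := d13_1 D14897 (iv D14073) (iv F55636)
theorem F58952 : act 2 n14897 = n14125 := d19_1 D14897 (iv D14125) (iv F55637)
theorem F58953 : act 6 n14897 = n14081 := d33_1 D14897 (iv D14081) (iv F55638)
def n14898 : Q := act 5 n14070
theorem D14898 : act 5 n14070 = n14898 := rfl
theorem F58954 : act 0 n14898 = n14224 := d4_1 D14898 (iv D14224) (iv F55639)
theorem F58955 : act 2 n14898 = n14092 := d17_1 D14898 (iv D14092) (iv F55640)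
theorem F58956 : act 3 n14898 = n14071 := d22_1 D14898 (iv D14071) D14070
def n14899 : Q := act 7 n14070
theorem D14899 : act 7 n14070 = n14899 := rfl
theorem F58957 : act 0 n14899 = n14225 := d6_1 D14899 (iv D14225) (iv F55639)
theorem F58958 : act 2 n14899 = n14093 := d19_1 D14899 (iv D14093) (iv F55640)
theorem F58959 : act 3 n14899 = n14426 := d24_1 D14899 F56998 F53493 (iv F51952) D14070
theorem F58960 : act 6 n14899 = n14083 := d33_1 D14899 (iv D14083) (iv F55641)
def n14900 : Q := act 8 n14070
theorem D14900 : act 8 n14070 = n14900 := rfl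
theorem F58961 : act 0 n14900 = n14226 := d7_1 D14900 (iv D14226) (iv F55639)
theorem F58962 : act 2 n14900 = n14094 := d20_1 D14900 (iv D14094) (iv F55640)
theorem F58963 : act 3 n14900 = n14072 := d25_1 D14900 (iv D14072) D14070
theorem F58964 : act 6 n14900 = n14084 := d34_1 D14900 (iv D14084) (iv F55641)
def n14901 : Q := act 8 n14071
theorem D14901 : act 8 n14071 = n14901 := rfl
theorem F58965 : act 0 n14901 = n14228 := d7_1 D14901 (iv D14228) (iv F55642)
theorem F58966 : act 2 n14901 = n14074 := d20_1 D14901 (iv D14074) (iv F55643)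
theorem F58967 : act 5 n14901 = n14072 := d32_1 D14901 (iv D14072) D14071
def n14902 : Q := act 7 n14072
theorem D14902 : act 7 n14072 = n14902 := rfl
theorem F58968 : act 0 n14902 = n14229 := d6_1 D14902 (iv D14229) (iv F55645)
theorem F58969 : act 2 n14902 = n14075 := d19_1 D14902 (iv D14075) (iv F55646)
theorem F58970 : act 4 n14902 = n14073 := d28_1 D14902 (iv D14073) (iv F55647)
theorem F58971 : act 6 n14902 = n14087 := d33_1 D14902 (iv D14087) (iv F55648)
theorem F58972 : act 8 n14902 = n14256 := d35_2 D14072 D14902 F56285 F52652 (iv F51952)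
def n14903 : Q := act 3 n14073
theorem D14903 : act 3 n14073 = n14903 := rfl
theorem F58973 : act 0 n14903 = n14230 := d2_1 D14903 (iv D14230) (iv F55649)
theorem F58974 : act 6 n14903 = n14088 := d23_2 (iv F55651) D14903 (iv D14088)
def n14904 : Q := act 7 n14074
theorem D14904 : act 7 n14074 = n14904 := rfl
theorem F58975 : act 0 n14904 = n14232 := d6_1 D14904 (iv D14232) (iv F55652)
theorem F58976 : act 1 n14904 = n14128 := d13_1 D14904 (iv D14128) (iv F55653)
theorem F58977 : act 3 n14904 = n14223 := d24_1 D14904 (iv D14223) F52515 (iv F52018) (iv F55654)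
theorem F58978 : act 5 n14904 = n14075 := d31_1 D14904 (iv D14075) (iv F55655)
theorem F58979 : act 8 n14904 = n14255 := d35_2 D14074 D14904 F56284 F52651 (iv F51959)
def n14905 : Q := act 3 n14076
theorem D14905 : act 3 n14076 = n14905 := rfl
theorem F58980 : act 0 n14905 = n14078 := d2_1 D14905 (iv D14078) (iv F55662)
theorem F58981 : act 1 n14905 = n14233 := d9_1 D14905 (iv D14233) (iv F55663)
theorem F58982 : act 2 n14905 = n14905 := d15_1 D14905 (iv D14905) F55664 F52173 (iv F55664)
theorem F58983 : act 4 n14905 = n14895 := d21_2 D14076 D14905 (iv D14895) (iv D14068) (iv F51970)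
theorem F58984 : act 6 n14905 = n14457 := d23_2 (iv F55665) D14905 (iv D14457)
def n14906 : Q := act 8 n14076
theorem D14906 : act 8 n14076 = n14906 := rfl
theorem F58985 : act 0 n14906 = n14080 := d7_1 D14906 (iv D14080) (iv F55662)
theorem F58986 : act 1 n14906 = n14235 := d14_1 D14906 (iv D14235) (iv F55663)
theorem F58987 : act 2 n14906 = n14129 := d20_1 D14906 (iv D14129) (iv F55664)
theorem F58988 : act 4 n14906 = n14077 := d29_1 D14906 (iv D14077) D14076
theorem F58989 : act 6 n14906 = n14458 := d34_1 D14906 (iv D14458) (iv F55665)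
def n14907 : Q := act 7 n14077
theorem D14907 : act 7 n14077 = n14907 := rfl
theorem F58990 : act 0 n14907 = n14081 := d6_1 D14907 (iv D14081) (iv F55666)
theorem F58991 : act 1 n14907 = n14236 := d13_1 D14907 (iv D14236) (iv F55667)
theorem F58992 : act 2 n14907 = n14130 := d19_1 D14907 (iv D14130) (iv F55668)
theorem F58993 : act 6 n14907 = n14459 := d33_1 D14907 (iv D14459) (iv F55670)
def n14908 : Q := act 5 n14078
theorem D14908 : act 5 n14078 = n14908 := rfl
theorem F58994 : act 1 n14908 = n14082 := d11_1 D14908 (iv D14082) (iv F55671)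
theorem F58995 : act 2 n14908 = n14908 := d17_1 D14908 (iv D14908) F55672
theorem F58996 : act 3 n14908 = n14079 := d22_1 D14908 (iv D14079) D14078
def n14909 : Q := act 7 n14078
theorem D14909 : act 7 n14078 = n14909 := rfl
theorem F58997 : act 1 n14909 = n14083 := d13_1 D14909 (iv D14083) (iv F55671)
theorem F58998 : act 2 n14909 = n14909 := d19_1 D14909 (iv D14909) F55672
def n14910 : Q := act 8 n14078
theorem D14910 : act 8 n14078 = n14910 := rfl
theorem F58999 : act 1 n14910 = n14084 := d14_1 D14910 (iv D14084) (iv F55671)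
theorem F59000 : act 2 n14910 = n14910 := d20_1 D14910 (iv D14910) F55672
theorem F59001 : act 3 n14910 = n14080 := d25_1 D14910 (iv D14080) D14078
def n14911 : Q := act 8 n14079
theorem D14911 : act 8 n14079 = n14911 := rfl
theorem F59002 : act 1 n14911 = n14086 := d14_1 D14911 (iv D14086) (iv F55673)
theorem F59003 : act 2 n14911 = n14131 := d20_1 D14911 (iv D14131) (iv F55674)
theorem F59004 : act 5 n14911 = n14080 := d32_1 D14911 (iv D14080) D14079
def n14912 : Q := act 7 n14080
theorem D14912 : act 7 n14080 = n14912 := rfl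
theorem F59005 : act 1 n14912 = n14087 := d13_1 D14912 (iv D14087) (iv F55675)
theorem F59006 : act 2 n14912 = n14132 := d19_1 D14912 (iv D14132) (iv F55676)
theorem F59007 : act 4 n14912 = n14081 := d28_1 D14912 (iv D14081) (iv F55677)
def n14913 : Q := act 3 n14081
theorem D14913 : act 3 n14081 = n14913 := rfl
theorem F59008 : act 1 n14913 = n14088 := d9_1 D14913 (iv D14088) (iv F55678)
def n14914 : Q := act 4 n14082
theorem D14914 : act 4 n14082 = n14914 := rfl
theorem F59009 : act 0 n14914 = n14244 := d3_1 D14914 (iv D14244) (iv F55680)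
theorem F59010 : act 2 n14914 = n14098 := d16_1 D14914 (iv D14098) (iv F55681)
def n14915 : Q := act 6 n14082
theorem D14915 : act 6 n14082 = n14915 := rfl
theorem F59011 : act 0 n14915 = n14245 := d5_1 D14915 (iv D14245) (iv F55680)
theorem F59012 : act 2 n14915 = n14099 := d18_1 D14915 (iv D14099) (iv F55681)
theorem F59013 : act 3 n14915 = n14085 := d23_1 D14915 (iv D14085) (iv F55682)
theorem F59014 : act 7 n14914 = n14915 := d19_0 F59012 (iv F55745) (iv F59010)
def n14916 : Q := act 7 n14082
theorem D14916 : act 7 n14082 = n14916 := rfl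
theorem F59015 : act 0 n14916 = n14246 := d6_1 D14916 (iv D14246) (iv F55680)
theorem F59016 : act 2 n14916 = n14100 := d19_1 D14916 (iv D14100) (iv F55681)
theorem F59017 : act 4 n14916 = n14915 := d28_1 D14916 (iv F59014) (iv D14914)
theorem F59018 : act 5 n14916 = n14083 := d31_1 D14916 (iv D14083) D14082
theorem F59019 : act 6 n14916 = n14914 := d33_1 D14916 F59014 (iv D14915)
def n14917 : Q := act 8 n14082
theorem D14917 : act 8 n14082 = n14917 := rfl
theorem F59020 : act 0 n14917 = n14247 := d7_1 D14917 (iv D14247) (iv F55680)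
theorem F59021 : act 2 n14917 = n14101 := d20_1 D14917 (iv D14101) (iv F55681)
theorem F59022 : act 3 n14917 = n14086 := d25_1 D14917 (iv D14086) (iv F55682)
theorem F59023 : act 5 n14917 = n14084 := d32_1 D14917 (iv D14084) D14082
def n14918 : Q := act 8 n14083
theorem D14918 : act 8 n14083 = n14918 := rfl
theorem F59024 : act 0 n14918 = n14248 := d7_1 D14918 (iv D14248) (iv F55683)
theorem F59025 : act 2 n14918 = n14102 := d20_1 D14918 (iv D14102) (iv F55684)
def n14919 : Q := act 7 n14084
theorem D14919 : act 7 n14084 = n14919 := rfl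
theorem F59026 : act 0 n14919 = n14249 := d6_1 D14919 (iv D14249) (iv F55685)
theorem F59027 : act 2 n14919 = n14103 := d19_1 D14919 (iv D14103) (iv F55686)
def n14920 : Q := act 8 n14085
theorem D14920 : act 8 n14085 = n14920 := rfl
theorem F59028 : act 0 n14920 = n14250 := d7_1 D14920 (iv D14250) (iv F55688)
theorem F59029 : act 2 n14920 = n14089 := d20_1 D14920 (iv D14089) (iv F55689)
theorem F59030 : act 6 n14920 = n14086 := d34_1 D14920 (iv D14086) D14085
def n14921 : Q := act 7 n14086
theorem D14921 : act 7 n14086 = n14921 := rfl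
theorem F59031 : act 0 n14921 = n14251 := d6_1 D14921 (iv D14251) (iv F55690)
theorem F59032 : act 2 n14921 = n14090 := d19_1 D14921 (iv D14090) (iv F55691)
theorem F59033 : act 5 n14921 = n14087 := d31_1 D14921 (iv D14087) (iv F55692)
def n14922 : Q := act 3 n14087
theorem D14922 : act 3 n14087 = n14922 := rfl
theorem F59034 : act 0 n14922 = n14252 := d2_1 D14922 (iv D14252) (iv F55693)
def n14923 : Q := act 4 n14088
theorem D14923 : act 4 n14088 = n14923 := rfl
theorem F59035 : act 0 n14923 = n14253 := d3_1 D14923 (iv D14253) (iv F55696)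
def n14924 : Q := act 7 n14089
theorem D14924 : act 7 n14089 = n14924 := rfl
theorem F59036 : act 0 n14924 = n14254 := d6_1 D14924 (iv D14254) (iv F55697)
theorem F59037 : act 1 n14924 = n14137 := d13_1 D14924 (iv D14137) (iv F55698)
theorem F59038 : act 6 n14924 = n14090 := d33_1 D14924 (iv D14090) (iv F55700)
def n14925 : Q := act 3 n14090
theorem D14925 : act 3 n14090 = n14925 := rfl
theorem F59039 : act 0 n14925 = n14255 := d2_1 D14925 (iv D14255) (iv F55701)
theorem F59040 : act 1 n14925 = n14138 := d9_1 D14925 (iv D14138) (iv F55702)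
theorem F59041 : act 5 n14925 = n14091 := d22_2 (iv F55703) D14925 (iv D14091)
theorem F59042 : act 7 n14925 = n14109 := d24_2 D14090 D14925 (iv D14109) (iv D13175) (iv F51990)
theorem F59043 : act 8 n14925 = n14232 := d25_2 F58928 D14925 (iv F58926)
def n14926 : Q := act 2 n14091
theorem D14926 : act 2 n14091 = n14926 := rfl
theorem F59044 : act 0 n14926 = n14256 := d1_1 D14926 (iv D14256) (iv F55704)
theorem F59045 : act 1 n14926 = n14513 := d8_1 D14926 F57299 F53830 F52204 (iv F55705)
theorem F59046 : act 4 n14926 = n14208 := d16_2 (iv F55706) D14926 F56153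
theorem F59047 : act 6 n14926 = n14220 := d18_2 (iv F55707) D14926 F56187
theorem F59048 : act 7 n14926 = n14110 := d19_2 (iv F55708) D14926 (iv D14110)
theorem F59049 : act 8 n14926 = n14229 := d20_2 (iv F55709) D14926 F56214
def n14927 : Q := act 4 n14092
theorem D14927 : act 4 n14092 = n14927 := rfl
theorem F59050 : act 0 n14927 = n14257 := d3_1 D14927 (iv D14257) (iv F55710)
theorem F59051 : act 1 n14927 = n14927 := d10_1 D14927 (iv D14927) F55711
theorem F59052 : act 3 n14927 = n14927 := d21_1 D14927 (iv D14927) F55712 F52001 (iv F55712)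
theorem F59053 : act 6 n14470 = n14927 := d5_0 F59050 (iv F56288) (iv F57160)
theorem F59054 : act 7 n14469 = n14927 := d6_0 F59050 (iv F56289) (iv F57157)
def n14928 : Q := act 6 n14092
theorem D14928 : act 6 n14092 = n14928 := rfl
theorem F59055 : act 0 n14928 = n14258 := d5_1 D14928 (iv D14258) (iv F55710)
theorem F59056 : act 1 n14928 = n14928 := d12_1 D14928 (iv D14928) F55711
theorem F59057 : act 3 n14928 = n14095 := d23_1 D14928 (iv D14095) (iv F55712)
theorem F59058 : act 4 n14928 = n14470 := d27_1 D14928 F59053 (iv D14927)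
theorem F59059 : act 5 n14928 = n14099 := d30_1 D14928 (iv D14099) (iv D13167) (iv F51997) D14092
theorem F59060 : act 7 n14468 = n14928 := d31_0 F59059 (iv F55745) (iv F57156)
def n14929 : Q := act 7 n14092
theorem D14929 : act 7 n14092 = n14929 := rfl
theorem F59061 : act 0 n14929 = n14259 := d6_1 D14929 (iv D14259) (iv F55710)
theorem F59062 : act 1 n14929 = n14929 := d13_1 D14929 (iv D14929) F55711
theorem F59063 : act 3 n14929 = n14396 := d24_1 D14929 (iv D14396) F53258 (iv F52002) (iv F55712)
theorem F59064 : act 4 n14929 = n14469 := d28_1 D14929 F59054 (iv D14927)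
theorem F59065 : act 5 n14929 = n14093 := d31_1 D14929 (iv D14093) D14092
theorem F59066 : act 6 n14929 = n14468 := d33_1 D14929 F59060 (iv D14928)
def n14930 : Q := act 8 n14092
theorem D14930 : act 8 n14092 = n14930 := rfl
theorem F59067 : act 0 n14930 = n14260 := d7_1 D14930 (iv D14260) (iv F55710)
theorem F59068 : act 1 n14930 = n14930 := d14_1 D14930 (iv D14930) F55711
theorem F59069 : act 3 n14930 = n14096 := d25_1 D14930 (iv D14096) (iv F55712)
theorem F59070 : act 5 n14930 = n14094 := d32_1 D14930 (iv D14094) D14092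
def n14931 : Q := act 8 n14093
theorem D14931 : act 8 n14093 = n14931 := rfl
theorem F59071 : act 0 n14931 = n14261 := d7_1 D14931 (iv D14261) (iv F55713)
theorem F59072 : act 1 n14931 = n14931 := d14_1 D14931 (iv D14931) F55714
theorem F59073 : act 3 n14931 = n14397 := d25_1 D14931 (iv D14397) (iv F55715)
theorem F59074 : act 6 n14931 = n14102 := d34_1 D14931 (iv D14102) (iv F55716)
def n14932 : Q := act 7 n14094
theorem D14932 : act 7 n14094 = n14932 := rfl
theorem F59075 : act 0 n14932 = n14262 := d6_1 D14932 (iv D14262) (iv F55717)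
theorem F59076 : act 1 n14932 = n14932 := d13_1 D14932 (iv D14932) F55718
theorem F59077 : act 3 n14932 = n14420 := d24_1 D14932 (iv D14420) F53418 (iv F52008) (iv F55719)
theorem F59078 : act 6 n14932 = n14103 := d33_1 D14932 (iv D14103) (iv F55720)
def n14933 : Q := act 8 n14095
theorem D14933 : act 8 n14095 = n14933 := rfl
theorem F59079 : act 0 n14933 = n14263 := d7_1 D14933 (iv D14263) (iv F55721)
theorem F59080 : act 1 n14933 = n14933 := d14_1 D14933 (iv D14933) F55722
theorem F59081 : act 2 n14933 = n14097 := d20_1 D14933 (iv D14097) (iv F55723)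
theorem F59082 : act 4 n14933 = n14933 := d29_1 D14933 (iv D14933) F55724
theorem F59083 : act 5 n14933 = n14104 := d32_1 D14933 (iv D14104) (iv F55725)
theorem F59084 : act 6 n14933 = n14096 := d34_1 D14933 (iv D14096) D14095
theorem F59085 : act 7 n14933 = n14421 := d35_1 D14933 (iv D14421) F53422 (iv F53270) (iv F55726)
def n14934 : Q := act 8 n14098
theorem D14934 : act 8 n14098 = n14934 := rfl
theorem F59086 : act 0 n14934 = n14268 := d7_1 D14934 (iv D14268) (iv F55739)
theorem F59087 : act 1 n14934 = n14934 := d14_1 D14934 (iv D14934) F55740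
theorem F59088 : act 3 n14934 = n14111 := d25_1 D14934 (iv D14111) (iv F55741)
theorem F59089 : act 4 n14934 = n14101 := d29_1 D14934 (iv D14101) D14098
def n14935 : Q := act 8 n14099
theorem D14935 : act 8 n14099 = n14935 := rfl
theorem F59090 : act 0 n14935 = n14269 := d7_1 D14935 (iv D14269) (iv F55742)
theorem F59091 : act 1 n14935 = n14935 := d14_1 D14935 (iv D14935) F55743
theorem F59092 : act 3 n14935 = n14104 := d25_1 D14935 (iv D14104) (iv F55744)
theorem F59093 : act 6 n14935 = n14101 := d34_1 D14935 (iv D14101) D14099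
def n14936 : Q := act 8 n14100
theorem D14936 : act 8 n14100 = n14936 := rfl
theorem F59094 : act 0 n14936 = n14270 := d7_1 D14936 (iv D14270) (iv F55746)
theorem F59095 : act 1 n14936 = n14936 := d14_1 D14936 (iv D14936) F55747
theorem F59096 : act 3 n14936 = n14398 := d25_1 D14936 (iv D14398) (iv F55748)
theorem F59097 : act 4 n14936 = n14935 := d29_1 D14936 (iv D14935) (iv F55749)
theorem F59098 : act 5 n14936 = n14102 := d32_1 D14936 (iv D14102) (iv F55750)
theorem F59099 : act 6 n14936 = n14934 := d34_1 D14936 (iv D14934) (iv F55751)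
def n14937 : Q := act 7 n14101
theorem D14937 : act 7 n14101 = n14937 := rfl
theorem F59100 : act 0 n14937 = n14271 := d6_1 D14937 (iv D14271) (iv F55752)
theorem F59101 : act 1 n14937 = n14937 := d13_1 D14937 (iv D14937) F55753
theorem F59102 : act 5 n14937 = n14103 := d31_1 D14937 (iv D14103) (iv F55755)
def n14938 : Q := act 7 n14102
theorem D14938 : act 7 n14102 = n14938 := rfl
theorem F59103 : act 0 n14938 = n14272 := d6_1 D14938 (iv D14272) (iv F55756)
theorem F59104 : act 1 n14938 = n14938 := d13_1 D14938 (iv D14938) F55757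
theorem F59105 : act 8 n14938 = n14103 := d35_2 D14102 D14938 (iv D14103) (iv D13169) D13168
def n14939 : Q := act 3 n14103
theorem D14939 : act 3 n14103 = n14939 := rfl
theorem F59106 : act 0 n14939 = n14273 := d2_1 D14939 (iv D14273) (iv F55759)
theorem F59107 : act 1 n14939 = n14939 := d9_1 D14939 (iv D14939) F55760
theorem F59108 : act 6 n14939 = n14420 := d23_2 F59078 D14939 (iv F59077)
theorem F59109 : act 7 n14939 = n14106 := d24_2 D14103 D14939 (iv D14106) (iv D13172) (iv F52027)
def n14940 : Q := act 7 n14104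
theorem D14940 : act 7 n14104 = n14940 := rfl
theorem F59110 : act 0 n14940 = n14274 := d6_1 D14940 (iv D14274) (iv F55761)
theorem F59111 : act 1 n14940 = n14940 := d13_1 D14940 (iv D14940) F55762
theorem F59112 : act 2 n14940 = n14108 := d19_1 D14940 (iv D14108) (iv F55763)
theorem F59113 : act 4 n14940 = n14113 := d28_1 D14940 (iv D14113) (iv F55764)
theorem F59114 : act 5 n14940 = n14421 := d31_1 D14940 (iv F59085) F59083
theorem F59115 : act 6 n14940 = n14105 := d33_1 D14940 (iv D14105) (iv F55765)
theorem F59116 : act 8 n14940 = n14401 := d35_2 D14104 D14940 (iv D14401) (iv D13508) (iv F52032)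
def n14941 : Q := act 3 n14105
theorem D14941 : act 3 n14105 = n14941 := rfl
theorem F59117 : act 0 n14941 = n14275 := d2_1 D14941 (iv D14275) (iv F55766)
theorem F59118 : act 1 n14941 = n14941 := d9_1 D14941 (iv D14941) F55767
theorem F59119 : act 4 n14941 = n14861 := d21_2 (iv F55769) D14941 F58820 F55532 F52409
theorem F59120 : act 5 n14941 = n14106 := d22_2 (iv F55770) D14941 (iv D14106)
theorem F59121 : act 8 n14941 = n14402 := d25_2 (iv F55771) D14941 (iv D14402)
def n14942 : Q := act 2 n14106
theorem D14942 : act 2 n14106 = n14942 := rfl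
theorem F59122 : act 0 n14942 = n14276 := d1_1 D14942 (iv D14276) (iv F55772)
theorem F59123 : act 3 n14942 = n14110 := d15_2 D14106 D14942 (iv D14110) (iv D13176) (iv F52040)
theorem F59124 : act 6 n14942 = n14217 := d18_2 (iv F55774) D14942 F56181
theorem F59125 : act 8 n14942 = n14206 := d20_2 (iv F55775) D14942 F56146
theorem F59126 : act 1 n14511 = n14942 := d14_3 F59125 F56145 D14511
def n14943 : Q := act 4 n14106
theorem D14943 : act 4 n14106 = n14943 := rfl
theorem F59127 : act 0 n14943 = n14277 := d3_1 D14943 (iv D14277) (iv F55772)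
theorem F59128 : act 1 n14943 = n14943 := d10_1 D14943 (iv D14943) F55773
theorem F59129 : act 3 n14943 = n14107 := d21_1 D14943 (iv D14107) (iv D13173) (iv F52041) D14106
theorem F59130 : act 5 n14943 = n14865 := d26_2 F59120 D14943 F58837 (iv F58821) (iv F59119)
theorem F59131 : act 6 n14943 = n14409 := d27_2 (iv F55774) D14943 F56936
theorem F59132 : act 8 n14943 = n14403 := d29_2 (iv F55775) D14943 (iv D14403)
def n14944 : Q := act 2 n14109
theorem D14944 : act 2 n14109 = n14944 := rfl
theorem F59133 : act 0 n14944 = n14278 := d1_1 D14944 (iv D14278) (iv F55787)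
theorem F59134 : act 1 n14944 = n14512 := d8_1 D14944 F57297 F53827 F52220 (iv F55788)
theorem F59135 : act 5 n14944 = n14110 := d17_2 (iv F55789) D14944 (iv D14110)
theorem F59136 : act 8 n14944 = n14207 := d20_2 (iv F55790) D14944 F56150
def n14945 : Q := act 7 n14115
theorem D14945 : act 7 n14115 = n14945 := rfl
theorem F59137 : act 0 n14945 = n14484 := d6_1 D14945 (iv D14484) (iv F55814)
theorem F59138 : act 1 n14945 = n14116 := d13_1 D14945 (iv D14116) (iv F55815)
theorem F59139 : act 4 n14945 = n14299 := d28_1 D14945 F56447 (iv F55817)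
theorem F59140 : act 6 n14945 = n14119 := d33_1 D14945 (iv D14119) (iv F55818)
theorem F59141 : act 8 n14945 = n14125 := d35_2 D14115 D14945 (iv D14125) (iv D13199) (iv F52104)
def n14946 : Q := act 3 n14116
theorem D14946 : act 3 n14116 = n14946 := rfl
theorem F59142 : act 0 n14946 = n14144 := d2_1 D14946 (iv D14144) (iv F55819)
theorem F59143 : act 2 n14946 = n14189 := d15_1 D14946 (iv D14189) F52442 (iv F52111) (iv F55820)
theorem F59144 : act 6 n14946 = n14121 := d23_2 (iv F55822) D14946 (iv D14121)
theorem F59145 : act 7 n14946 = n14946 := d24_2 D14116 D14946 (iv D14946) (iv D14116) F52107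
theorem F59146 : act 8 n14946 = n14127 := d25_2 (iv F55823) D14946 (iv D14127)
def n14947 : Q := act 7 n14117
theorem D14947 : act 7 n14117 = n14947 := rfl
theorem F59147 : act 0 n14947 = n14119 := d6_1 D14947 (iv D14119) (iv F55824)
theorem F59148 : act 1 n14947 = n14145 := d13_1 D14947 (iv D14145) (iv F55825)
theorem F59149 : act 6 n14947 = n14484 := d33_1 D14947 (iv D14484) (iv F55827)
theorem F59150 : act 8 n14947 = n14130 := d35_2 D14117 D14947 (iv D14130) (iv D13205) (iv F52118)
def n14948 : Q := act 7 n14118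
theorem D14948 : act 7 n14118 = n14948 := rfl
theorem F59151 : act 1 n14948 = n14120 := d13_1 D14948 (iv D14120) (iv F55828)
theorem F59152 : act 3 n14948 = n14554 := d24_1 D14948 F57426 F53956 (iv F53166) (iv F55829)
theorem F59153 : act 4 n14948 = n14119 := d28_1 D14948 (iv D14119) (iv F55830)
theorem F59154 : act 6 n14948 = n14299 := d33_1 D14948 F56447 (iv F55831)
theorem F59155 : act 8 n14948 = n14132 := d35_2 D14118 D14948 (iv D14132) (iv D13207) (iv F52121)
def n14949 : Q := act 3 n14119
theorem D14949 : act 3 n14119 = n14949 := rfl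
theorem F59156 : act 1 n14949 = n14121 := d9_1 D14949 (iv D14121) (iv F55832)
theorem F59157 : act 7 n14949 = n14949 := d24_2 D14119 D14949 (iv D14949) (iv D14119) F52124
theorem F59158 : act 8 n14949 = n14133 := d25_2 (iv F55833) D14949 (iv D14133)
def n14950 : Q := act 3 n14123
theorem D14950 : act 3 n14123 = n14950 := rfl
theorem F59159 : act 0 n14950 = n14147 := d2_1 D14950 (iv D14147) (iv F55847)
theorem F59160 : act 4 n14950 = n14550 := d21_2 (iv F55848) D14950 (iv D14550) (iv F55201) F55200
theorem F59161 : act 7 n14950 = n14950 := d24_2 D14123 D14950 (iv D14950) (iv D14123) F52142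
theorem F59162 : act 8 n14950 = n14553 := d25_2 F57841 D14950 (iv F57837)
def n14951 : Q := act 7 n14124
theorem D14951 : act 7 n14124 = n14951 := rfl
theorem F59163 : act 0 n14951 = n14487 := d6_1 D14951 (iv D14487) (iv F55849)
theorem F59164 : act 1 n14951 = n14126 := d13_1 D14951 (iv D14126) (iv F55850)
theorem F59165 : act 4 n14951 = n14125 := d28_1 D14951 (iv D14125) (iv F55852)
theorem F59166 : act 6 n14951 = n14132 := d33_1 D14951 (iv D14132) (iv F55853)
theorem F59167 : act 8 n14951 = n14299 := d35_2 D14124 D14951 F56447 F52775 (iv F52150)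
def n14952 : Q := act 3 n14125
theorem D14952 : act 3 n14125 = n14952 := rfl
theorem F59168 : act 0 n14952 = n14488 := d2_1 D14952 (iv D14488) (iv F55854)
theorem F59169 : act 1 n14952 = n14127 := d9_1 D14952 (iv D14127) (iv F55855)
theorem F59170 : act 6 n14952 = n14133 := d23_2 (iv F55856) D14952 (iv D14133)
theorem F59171 : act 7 n14952 = n14139 := d24_2 D14125 D14952 (iv D14139) (iv D13218) (iv F52153)
def n14953 : Q := act 3 n14126
theorem D14953 : act 3 n14126 = n14953 := rfl
theorem F59172 : act 0 n14953 = n14148 := d2_1 D14953 (iv D14148) (iv F55857)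
theorem F59173 : act 2 n14953 = n14288 := d15_1 D14953 (iv D14288) F52712 (iv F52167) (iv F55858)
theorem F59174 : act 6 n14953 = n14135 := d23_2 (iv F55860) D14953 (iv D14135)
theorem F59175 : act 7 n14953 = n14953 := d24_2 D14126 D14953 (iv D14953) (iv D14126) F52157
theorem F59176 : act 8 n14953 = n14298 := d25_2 (iv F55861) D14953 F56444
def n14954 : Q := act 4 n14127
theorem D14954 : act 4 n14127 = n14954 := rfl
theorem F59177 : act 0 n14954 = n14149 := d3_1 D14954 (iv D14149) (iv F55862)
theorem F59178 : act 2 n14954 = n14491 := d16_1 D14954 (iv F58779) F58778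
theorem F59179 : act 5 n14954 = n14492 := d26_2 F58811 D14954 (iv F57918) F57919 (iv F58810)
theorem F59180 : act 6 n14954 = n14136 := d27_2 (iv F55863) D14954 (iv D14136)
theorem F59181 : act 7 n14954 = n14140 := d28_2 (iv F55864) D14954 (iv D14140)
def n14955 : Q := act 7 n14129
theorem D14955 : act 7 n14129 = n14955 := rfl
theorem F59182 : act 0 n14955 = n14132 := d6_1 D14955 (iv D14132) (iv F55869)
theorem F59183 : act 1 n14955 = n14150 := d13_1 D14955 (iv D14150) (iv F55870)
theorem F59184 : act 4 n14955 = n14130 := d28_1 D14955 (iv D14130) (iv F55872)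
theorem F59185 : act 6 n14955 = n14487 := d33_1 D14955 (iv D14487) (iv F55873)
def n14956 : Q := act 3 n14130
theorem D14956 : act 3 n14130 = n14956 := rfl
theorem F59186 : act 0 n14956 = n14133 := d2_1 D14956 (iv D14133) (iv F55874)
theorem F59187 : act 1 n14956 = n14151 := d9_1 D14956 (iv D14151) (iv F55875)
theorem F59188 : act 6 n14956 = n14488 := d23_2 (iv F55876) D14956 (iv D14488)
theorem F59189 : act 7 n14956 = n14141 := d24_2 D14130 D14956 (iv D14141) (iv D13220) (iv F52177)
def n14957 : Q := act 7 n14131
theorem D14957 : act 7 n14131 = n14957 := rfl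
theorem F59190 : act 1 n14957 = n14134 := d13_1 D14957 (iv D14134) (iv F55877)
theorem F59191 : act 5 n14957 = n14132 := d31_1 D14957 (iv D14132) (iv F55879)
def n14958 : Q := act 3 n14132
theorem D14958 : act 3 n14132 = n14958 := rfl
theorem F59192 : act 1 n14958 = n14135 := d9_1 D14958 (iv D14135) (iv F55880)
theorem F59193 : act 7 n14958 = n14958 := d24_2 D14132 D14958 (iv D14958) (iv D14132) F52182
theorem F59194 : act 8 n14958 = n14554 := d25_2 F59155 D14958 (iv F59152)
def n14959 : Q := act 2 n14133
theorem D14959 : act 2 n14133 = n14959 := rfl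
theorem F59195 : act 7 n14959 = n14142 := d19_2 (iv F55883) D14959 (iv D14142)
def n14960 : Q := act 4 n14133
theorem D14960 : act 4 n14133 = n14960 := rfl
theorem F59196 : act 1 n14960 = n14136 := d10_1 D14960 (iv D14136) (iv F55882)
theorem F59197 : act 7 n14960 = n14143 := d28_2 (iv F55883) D14960 (iv D14143)
def n14961 : Q := act 3 n14134
theorem D14961 : act 3 n14134 = n14961 := rfl
theorem F59198 : act 0 n14961 = n14153 := d2_1 D14961 (iv D14153) (iv F55884)
theorem F59199 : act 2 n14961 = n14550 := d15_1 D14961 (iv D14550) F55899 (iv D14138) (iv F55885)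
theorem F59200 : act 5 n14961 = n14135 := d22_2 (iv F55886) D14961 (iv D14135)
theorem F59201 : act 7 n14961 = n14961 := d24_2 D14134 D14961 (iv D14961) (iv D14134) F52187
theorem F59202 : act 8 n14961 = n14552 := d25_2 F57910 D14961 (iv F57906)
def n14962 : Q := act 2 n14139
theorem D14962 : act 2 n14139 = n14962 := rfl
theorem F59203 : act 0 n14962 = n14494 := d1_1 D14962 (iv D14494) (iv F55900)
theorem F59204 : act 6 n14962 = n14142 := d18_2 (iv F55902) D14962 (iv D14142)
theorem F59205 : act 8 n14962 = n14962 := d20_2 F55903 D14962 (iv D14962)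
def n14963 : Q := act 4 n14139
theorem D14963 : act 4 n14139 = n14963 := rfl
theorem F59206 : act 0 n14963 = n14495 := d3_1 D14963 (iv D14495) (iv F55900)
theorem F59207 : act 1 n14963 = n14140 := d10_1 D14963 (iv D14140) (iv F55901)
theorem F59208 : act 3 n14963 = n14963 := d21_1 D14963 (iv D14963) (iv D14139) F52223 D14139
theorem F59209 : act 5 n14963 = n14493 := d26_2 F58797 D14963 (iv F57929) F57930 (iv F58796)
theorem F59210 : act 6 n14963 = n14143 := d27_2 (iv F55902) D14963 (iv D14143)
theorem F59211 : act 8 n14963 = n14963 := d29_2 F55903 D14963 (iv D14963)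
def n14964 : Q := act 2 n14141
theorem D14964 : act 2 n14141 = n14964 := rfl
theorem F59212 : act 0 n14964 = n14142 := d1_1 D14964 (iv D14142) (iv F55910)
theorem F59213 : act 3 n14964 = n14962 := d15_2 D14141 D14964 (iv D14962) (iv D14139) (iv F52231)
theorem F59214 : act 6 n14964 = n14494 := d18_2 (iv F55912) D14964 (iv D14494)
theorem F59215 : act 8 n14964 = n14964 := d20_2 F55913 D14964 (iv D14964)
def n14965 : Q := act 4 n14142
theorem D14965 : act 4 n14142 = n14965 := rfl
theorem F59216 : act 2 n14965 = n14143 := d16_1 D14965 (iv D14143) D14142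
theorem F59217 : act 8 n14965 = n14965 := d29_2 F55914 D14965 (iv D14965)
def n14966 : Q := act 3 n14145
theorem D14966 : act 3 n14145 = n14966 := rfl
theorem F59218 : act 0 n14966 = n14146 := d2_1 D14966 (iv D14146) (iv F55923)
theorem F59219 : act 6 n14966 = n14485 := d23_2 (iv F55925) D14966 (iv D14485)
theorem F59220 : act 7 n14966 = n14966 := d24_2 D14145 D14966 (iv D14966) (iv D14145) F52251
theorem F59221 : act 8 n14966 = n14151 := d25_2 (iv F55926) D14966 (iv D14151)
def n14967 : Q := act 3 n14150
theorem D14967 : act 3 n14150 = n14967 := rfl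
theorem F59222 : act 0 n14967 = n14152 := d2_1 D14967 (iv D14152) (iv F55945)
theorem F59223 : act 6 n14967 = n14489 := d23_2 (iv F55948) D14967 (iv D14489)
theorem F59224 : act 7 n14967 = n14967 := d24_2 D14150 D14967 (iv D14967) (iv D14150) F52284
theorem F59225 : act 8 n14967 = n14557 := d25_2 F58494 D14967 (iv F58490)
def n14968 : Q := act 8 n14154
theorem D14968 : act 8 n14154 = n14968 := rfl
theorem F59226 : act 1 n14968 = n14156 := d14_1 D14968 (iv D14156) D14154
theorem F59227 : act 2 n14968 = n14191 := d20_1 D14968 (iv D14191) (iv F55960)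
theorem F59228 : act 3 n14968 = n14159 := d25_1 D14968 (iv D14159) (iv F55961)
theorem F59229 : act 5 n14968 = n14193 := d32_1 D14968 (iv D14193) (iv F55962)
def n14969 : Q := act 8 n14155
theorem D14969 : act 8 n14155 = n14969 := rfl
theorem F59230 : act 0 n14969 = n14730 := d7_1 D14969 (iv D14730) (iv F55964)
theorem F59231 : act 2 n14969 = n14157 := d20_1 D14969 (iv D14157) (iv F55965)
theorem F59232 : act 3 n14969 = n14606 := d25_1 D14969 (iv D14606) (iv F55966)
theorem F59233 : act 4 n14969 = n14156 := d29_1 D14969 (iv D14156) D14155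
theorem F59234 : act 6 n14969 = n14617 := d34_1 D14969 (iv D14617) (iv F55967)
def n14970 : Q := act 7 n14156
theorem D14970 : act 7 n14156 = n14970 := rfl
theorem F59235 : act 2 n14970 = n14158 := d19_1 D14970 (iv D14158) (iv F55969)
theorem F59236 : act 5 n14970 = n14505 := d31_1 D14970 (iv D14505) (iv F55971)
theorem F59237 : act 8 n14970 = n14695 := d35_2 D14156 D14970 (iv D14695) (iv D13851) (iv F52321)
def n14971 : Q := act 7 n14157
theorem D14971 : act 7 n14157 = n14971 := rfl
theorem F59238 : act 0 n14971 = n14764 := d6_1 D14971 (iv D14764) (iv F55972)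
theorem F59239 : act 1 n14971 = n14311 := d13_1 D14971 (iv D14311) (iv F55973)
theorem F59240 : act 4 n14971 = n14158 := d28_1 D14971 (iv D14158) (iv F55975)
theorem F59241 : act 6 n14971 = n14631 := d33_1 D14971 (iv D14631) (iv F55976)
theorem F59242 : act 8 n14971 = n14698 := d35_2 D14157 D14971 (iv D14698) (iv D13853) (iv F52326)
def n14972 : Q := act 7 n14159
theorem D14972 : act 7 n14159 = n14972 := rfl
theorem F59243 : act 1 n14972 = n14160 := d13_1 D14972 (iv D14160) (iv F55981)
theorem F59244 : act 2 n14972 = n14185 := d19_1 D14972 (iv D14185) (iv F55982)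
theorem F59245 : act 5 n14972 = n14208 := d31_1 D14972 (iv D14208) (iv F55983)
theorem F59246 : act 8 n14972 = n14165 := d35_2 D14159 D14972 (iv D14165) (iv D13254) (iv F52332)
def n14973 : Q := act 3 n14160
theorem D14973 : act 3 n14160 = n14973 := rfl
theorem F59247 : act 2 n14973 = n14221 := d15_1 D14973 (iv D14221) F52509 (iv F52336) (iv F55984)
theorem F59248 : act 5 n14973 = n14514 := d22_2 (iv F55985) D14973 (iv D14514)
theorem F59249 : act 8 n14973 = n14171 := d25_2 (iv F55986) D14973 (iv D14171)
def n14974 : Q := act 3 n14161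
theorem D14974 : act 3 n14161 = n14974 := rfl
theorem F59250 : act 2 n14974 = n14230 := d15_1 D14974 (iv D14230) F52530 (iv F52343) (iv F55987)
theorem F59251 : act 6 n14974 = n14171 := d23_2 (iv F55988) D14974 (iv D14171)
theorem F59252 : act 7 n14974 = n14734 := d24_2 D14161 D14974 (iv D14734) (iv D13883) (iv F52340)
def n14975 : Q := act 5 n14162
theorem D14975 : act 5 n14162 = n14975 := rfl
theorem F59253 : act 1 n14975 = n14166 := d11_1 D14975 (iv D14166) (iv F55989)
theorem F59254 : act 2 n14975 = n14975 := d17_1 D14975 (iv D14975) F55990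
theorem F59255 : act 3 n14975 = n14163 := d22_1 D14975 (iv D14163) D14162
theorem F59256 : act 7 n14891 = n14975 := d37_0 (iv D14975) F55991 (iv D13889) F51082 F47197 F43210 (iv F43321) D12015 F47318 F44717 F44716 (iv F44181) (iv F48098) F48100 (iv D11181) (iv D10260) (iv D8479) F23885 (iv F21953) F21952 (iv D4158) (iv F13133) (iv D3298) F9808 F7342 F5862 F4412 (iv F5846) (iv D1391) (iv D1020) (iv F4374) (iv D1017) F3311 F3310 F3314 F3312 D1018 F4381 (iv F5820) (iv F7750) (iv F10348) F10352 D3512 F13870 F38839 (iv F15815) (iv F21248) F21247 (iv D5490) D5489 F38648 D9029 D10524 F41499 F34404 (iv F32515) (iv F40757) D11248 D12268 (iv F52351) (iv F55989) (iv F58929)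
def n14976 : Q := act 7 n14162
theorem D14976 : act 7 n14162 = n14976 := rfl
theorem F59257 : act 0 n14976 = n14975 := d6_1 D14976 (iv F59256) F58929
theorem F59258 : act 1 n14976 = n14167 := d13_1 D14976 (iv D14167) (iv F55989)
theorem F59259 : act 2 n14976 = n14976 := d19_1 D14976 (iv D14976) F55990
theorem F59260 : act 3 n14976 = n14585 := d24_1 D14976 F57545 (iv F55409) F55412 D14162
theorem F59261 : act 4 n14976 = n14743 := d28_1 D14976 (iv D14743) (iv F55991)
theorem F59262 : act 5 n14976 = n14891 := d31_1 D14976 F59256 (iv D14975)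
theorem F59263 : act 6 n14976 = n14577 := d33_1 D14976 (iv F58195) F58194
def n14977 : Q := act 8 n14162
theorem D14977 : act 8 n14162 = n14977 := rfl
theorem F59264 : act 1 n14977 = n14168 := d14_1 D14977 (iv D14168) (iv F55989)
theorem F59265 : act 2 n14977 = n14977 := d20_1 D14977 (iv D14977) F55990
theorem F59266 : act 3 n14977 = n14164 := d25_1 D14977 (iv D14164) D14162
theorem F59267 : act 4 n14977 = n14744 := d29_1 D14977 (iv D14744) (iv F55991)
def n14978 : Q := act 8 n14163
theorem D14978 : act 8 n14163 = n14978 := rfl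
theorem F59268 : act 1 n14978 = n14169 := d14_1 D14978 (iv D14169) (iv F55992)
theorem F59269 : act 2 n14978 = n14186 := d20_1 D14978 (iv D14186) (iv F55993)
theorem F59270 : act 4 n14978 = n14228 := d29_1 D14978 (iv D14228) (iv F55994)
theorem F59271 : act 5 n14978 = n14164 := d32_1 D14978 (iv D14164) D14163
def n14979 : Q := act 7 n14164
theorem D14979 : act 7 n14164 = n14979 := rfl
theorem F59272 : act 1 n14979 = n14170 := d13_1 D14979 (iv D14170) (iv F55995)
theorem F59273 : act 2 n14979 = n14187 := d19_1 D14979 (iv D14187) (iv F55996)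
theorem F59274 : act 4 n14979 = n14165 := d28_1 D14979 (iv D14165) (iv F55997)
def n14980 : Q := act 3 n14165
theorem D14980 : act 3 n14165 = n14980 := rfl
theorem F59275 : act 1 n14980 = n14171 := d9_1 D14980 (iv D14171) (iv F55998)
theorem F59276 : act 5 n14980 = n14230 := d22_2 (iv F56000) D14980 (iv D14230)
theorem F59277 : act 7 n14980 = n14748 := d24_2 D14165 D14980 (iv D14748) (iv D13892) (iv F52349)
def n14981 : Q := act 4 n14166
theorem D14981 : act 4 n14166 = n14981 := rfl
theorem F59278 : act 2 n14981 = n14173 := d16_1 D14981 (iv D14173) (iv F56001)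
theorem F59279 : act 3 n14981 = n14517 := d21_1 D14981 (iv D14517) F53834 (iv F52354) (iv F56002)
theorem F59280 : act 5 n14981 = n14749 := d26_2 D14166 D14981 (iv D14749) (iv D13893) (iv F52352)
def n14982 : Q := act 7 n14166
theorem D14982 : act 7 n14166 = n14982 := rfl
theorem F59281 : act 0 n14982 = n14684 := d6_1 D14982 (iv F58058) (iv F58059)
theorem F59282 : act 1 n14982 = n14891 := d13_1 D14982 F59256 F59253
theorem F59283 : act 2 n14982 = n14174 := d19_1 D14982 (iv D14174) (iv F56001)
theorem F59284 : act 3 n14982 = n14583 := d24_1 D14982 F57534 (iv F54806) F54809 (iv F56002)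
theorem F59285 : act 5 n14982 = n14167 := d31_1 D14982 (iv D14167) D14166
theorem F59286 : act 6 n14982 = n14860 := d33_1 D14982 F58817 F58069
def n14983 : Q := act 8 n14166
theorem D14983 : act 8 n14166 = n14983 := rfl
theorem F59287 : act 2 n14983 = n14175 := d20_1 D14983 (iv D14175) (iv F56001)
theorem F59288 : act 3 n14983 = n14169 := d25_1 D14983 (iv D14169) (iv F56002)
theorem F59289 : act 5 n14983 = n14168 := d32_1 D14983 (iv D14168) D14166
def n14984 : Q := act 8 n14167
theorem D14984 : act 8 n14167 = n14984 := rfl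
theorem F59290 : act 0 n14984 = n14687 := d7_1 D14984 (iv D14687) (iv F56003)
theorem F59291 : act 2 n14984 = n14176 := d20_1 D14984 (iv D14176) (iv F56004)
theorem F59292 : act 3 n14984 = n14587 := d25_1 D14984 (iv D14587) (iv F56005)
theorem F59293 : act 4 n14984 = n14753 := d29_1 D14984 (iv D14753) (iv F56006)
theorem F59294 : act 6 n14984 = n14579 := d34_1 D14984 (iv D14579) (iv F56007)
def n14985 : Q := act 7 n14168
theorem D14985 : act 7 n14168 = n14985 := rfl
theorem F59295 : act 2 n14985 = n14177 := d19_1 D14985 (iv D14177) (iv F56008)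
theorem F59296 : act 4 n14985 = n14754 := d28_1 D14985 (iv D14754) (iv F56010)
def n14986 : Q := act 7 n14169
theorem D14986 : act 7 n14169 = n14986 := rfl
theorem F59297 : act 2 n14986 = n14172 := d19_1 D14986 (iv D14172) (iv F56011)
theorem F59298 : act 4 n14986 = n14524 := d28_1 D14986 (iv D14524) (iv F56012)
theorem F59299 : act 5 n14986 = n14170 := d31_1 D14986 (iv D14170) (iv F56013)
def n14987 : Q := act 3 n14170
theorem D14987 : act 3 n14170 = n14987 := rfl
def n14988 : Q := act 4 n14171
theorem D14988 : act 4 n14171 = n14988 := rfl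
theorem F59300 : act 2 n14988 = n14253 := d16_1 D14988 (iv D14253) (iv F56016)
theorem F59301 : act 7 n14988 = n14758 := d28_2 (iv F56018) D14988 (iv D14758)
def n14989 : Q := act 7 n14173
theorem D14989 : act 7 n14173 = n14989 := rfl
theorem F59302 : act 0 n14989 = n14427 := d6_1 D14989 (iv F58653) F58648
theorem F59303 : act 1 n14989 = n14989 := d13_1 D14989 (iv D14989) F56022
theorem F59304 : act 3 n14989 = n14401 := d24_1 D14989 (iv D14401) F56059 (iv D14180) (iv F56023)
theorem F59305 : act 4 n14989 = n14174 := d28_1 D14989 (iv D14174) D14173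
theorem F59306 : act 5 n14989 = n14416 := d31_1 D14989 (iv F56963) (iv F56024)
theorem F59307 : act 6 n14989 = n14402 := d33_1 D14989 (iv F58684) F58683
def n14990 : Q := act 8 n14173
theorem D14990 : act 8 n14173 = n14990 := rfl
theorem F59308 : act 1 n14990 = n14990 := d14_1 D14990 (iv D14990) F56022
theorem F59309 : act 3 n14990 = n14181 := d25_1 D14990 (iv D14181) (iv F56023)
theorem F59310 : act 4 n14990 = n14175 := d29_1 D14990 (iv D14175) D14173
theorem F59311 : act 5 n14990 = n14770 := d32_1 D14990 (iv D14770) (iv F56024)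
def n14991 : Q := act 8 n14174
theorem D14991 : act 8 n14174 = n14991 := rfl
theorem F59312 : act 0 n14991 = n14685 := d7_1 D14991 (iv D14685) (iv F56025)
theorem F59313 : act 1 n14991 = n14991 := d14_1 D14991 (iv D14991) F56026
theorem F59314 : act 3 n14991 = n14405 := d25_1 D14991 (iv D14405) (iv F56027)
theorem F59315 : act 5 n14991 = n14176 := d32_1 D14991 (iv D14176) (iv F56028)
theorem F59316 : act 6 n14991 = n14861 := d34_1 D14991 (iv D14861) (iv F56029)
def n14992 : Q := act 7 n14175
theorem D14992 : act 7 n14175 = n14992 := rfl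
theorem F59317 : act 1 n14992 = n14992 := d13_1 D14992 (iv D14992) F56030
theorem F59318 : act 5 n14992 = n14177 := d31_1 D14992 (iv D14177) (iv F56032)
def n14993 : Q := act 7 n14176
theorem D14993 : act 7 n14176 = n14993 := rfl
theorem F59319 : act 0 n14993 = n14688 := d6_1 D14993 (iv D14688) (iv F56033)
theorem F59320 : act 1 n14993 = n14993 := d13_1 D14993 (iv D14993) F56034
theorem F59321 : act 4 n14993 = n14774 := d28_1 D14993 (iv D14774) (iv F56036)
theorem F59322 : act 6 n14993 = n14582 := d33_1 D14993 (iv D14582) (iv F56037)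
theorem F59323 : act 8 n14993 = n14177 := d35_2 D14176 D14993 (iv D14177) (iv D13263) D13262
def n14994 : Q := act 8 n14179
theorem D14994 : act 8 n14179 = n14994 := rfl
theorem F59324 : act 0 n14994 = n14424 := d7_1 D14994 F56995 (iv F56047)
theorem F59325 : act 1 n14994 = n14994 := d14_1 D14994 (iv D14994) F56048
theorem F59326 : act 2 n14994 = n14423 := d20_1 D14994 (iv D14423) (iv F56049)
theorem F59327 : act 4 n14994 = n14183 := d29_1 D14994 (iv D14183) (iv F56050)
theorem F59328 : act 5 n14994 = n14399 := d32_1 D14994 F56887 (iv F56051)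
theorem F59329 : act 6 n14994 = n14181 := d34_1 D14994 (iv D14181) D14179
theorem F59330 : act 7 n14994 = n14398 := d35_1 D14994 (iv D14398) (iv D13504) D13505 F56052
def n14995 : Q := act 7 n14186
theorem D14995 : act 7 n14186 = n14995 := rfl
theorem F59331 : act 1 n14995 = n14188 := d13_1 D14995 (iv D14188) (iv F56089)
theorem F59332 : act 4 n14995 = n14232 := d28_1 D14995 (iv D14232) (iv F56091)
theorem F59333 : act 5 n14995 = n14187 := d31_1 D14995 (iv D14187) (iv F56092)
def n14996 : Q := act 3 n14187
theorem D14996 : act 3 n14187 = n14996 := rfl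
theorem F59334 : act 1 n14996 = n14189 := d9_1 D14996 (iv D14189) (iv F56093)
theorem F59335 : act 7 n14996 = n14996 := d24_2 D14187 D14996 (iv D14996) (iv D14187) F52432
def n14997 : Q := act 3 n14188
theorem D14997 : act 3 n14188 = n14997 := rfl
theorem F59336 : act 0 n14997 = n14190 := d2_1 D14997 (iv D14190) (iv F56095)
theorem F59337 : act 5 n14997 = n14189 := d22_2 (iv F56098) D14997 (iv D14189)
theorem F59338 : act 7 n14997 = n14997 := d24_2 D14188 D14997 (iv D14997) (iv D14188) F52438
def n14998 : Q := act 7 n14191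
theorem D14998 : act 7 n14191 = n14998 := rfl
theorem F59339 : act 1 n14998 = n14310 := d13_1 D14998 (iv D14310) (iv F56103)
theorem F59340 : act 5 n14998 = n14195 := d31_1 D14998 (iv D14195) (iv F56105)
theorem F59341 : act 8 n14998 = n14835 := d35_2 D14191 D14998 (iv D14835) (iv D13998) (iv F52453)
def n14999 : Q := act 3 n14192
theorem D14999 : act 3 n14192 = n14999 := rfl
theorem F59342 : act 0 n14999 = n14430 := d2_1 D14999 (iv F58828) F58826
theorem F59343 : act 1 n14999 = n14502 := d9_1 D14999 (iv D14502) (iv F56106)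
theorem F59344 : act 2 n14999 = n14403 := d15_1 D14999 F56904 F53316 (iv F52461) (iv F56107)
theorem F59345 : act 4 n14999 = n14206 := d21_2 D14192 D14999 (iv D14206) (iv D13295) (iv F52458)
theorem F59346 : act 5 n14999 = n14863 := d22_2 F57010 D14999 F58828
theorem F59347 : act 6 n14999 = n14199 := d23_2 (iv F56108) D14999 (iv D14199)
def n15000 : Q := act 8 n14192
theorem D15000 : act 8 n14192 = n15000 := rfl
theorem F59348 : act 1 n15000 = n14504 := d14_1 D15000 (iv D14504) (iv F56106)
theorem F59349 : act 2 n15000 = n14194 := d20_1 D15000 (iv D14194) (iv F56107)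
theorem F59350 : act 4 n15000 = n14193 := d29_1 D15000 (iv D14193) D14192
theorem F59351 : act 6 n15000 = n14201 := d34_1 D15000 (iv D14201) (iv F56108)
def n15001 : Q := act 7 n14193
theorem D15001 : act 7 n14193 = n15001 := rfl
theorem F59352 : act 1 n15001 = n14505 := d13_1 D15001 (iv D14505) (iv F56109)
theorem F59353 : act 2 n15001 = n14195 := d19_1 D15001 (iv D14195) (iv F56110)
theorem F59354 : act 6 n15001 = n14202 := d33_1 D15001 (iv D14202) (iv F56112)
def n15002 : Q := act 7 n14194
theorem D15002 : act 7 n14194 = n15002 := rfl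
theorem F59355 : act 1 n15002 = n14312 := d13_1 D15002 (iv D14312) (iv F56113)
theorem F59356 : act 4 n15002 = n14195 := d28_1 D15002 (iv D14195) (iv F56115)
theorem F59357 : act 6 n15002 = n14205 := d33_1 D15002 (iv D14205) (iv F56116)
def n15003 : Q := act 4 n14196
theorem D15003 : act 4 n14196 = n15003 := rfl
theorem F59358 : act 0 n15003 = n14197 := d3_1 D15003 (iv D14197) D14196
theorem F59359 : act 2 n15003 = n14313 := d16_1 D15003 (iv D14313) (iv F56119)
theorem F59360 : act 6 n15003 = n14447 := d27_2 (iv F56121) D15003 (iv D14447)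
theorem F59361 : act 7 n15003 = n14863 := d28_2 (iv F56122) D15003 (iv D14863)
def n15004 : Q := act 8 n14196
theorem D15004 : act 8 n14196 = n15004 := rfl
theorem F59362 : act 0 n15004 = n14198 := d7_1 D15004 (iv D14198) D14196
theorem F59363 : act 2 n15004 = n14314 := d20_1 D15004 (iv D14314) (iv F56119)
theorem F59364 : act 3 n15004 = n14210 := d25_1 D15004 (iv D14210) (iv F56120)
theorem F59365 : act 6 n15004 = n14448 := d34_1 D15004 (iv D14448) (iv F56121)
def n15005 : Q := act 3 n14197
theorem D15005 : act 3 n14197 = n15005 := rfl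
theorem F59366 : act 1 n15005 = n14199 := d9_1 D15005 (iv D14199) (iv F56123)
theorem F59367 : act 2 n15005 = n15005 := d15_1 D15005 (iv D15005) F56124 F52849 (iv F56124)
theorem F59368 : act 4 n15005 = n14211 := d21_2 D14197 D15005 (iv D14211) (iv D13300) (iv F52467)
theorem F59369 : act 6 n15005 = n14502 := d23_2 (iv F56125) D15005 (iv D14502)
def n15006 : Q := act 5 n14197
theorem D15006 : act 5 n14197 = n15006 := rfl
theorem F59370 : act 1 n15006 = n14200 := d11_1 D15006 (iv D14200) (iv F56123)
theorem F59371 : act 2 n15006 = n14315 := d17_1 D15006 (iv D14315) (iv F56124)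
theorem F59372 : act 4 n15006 = n14426 := d26_1 D15006 F58073 (iv D14690) F54698 D14197
theorem F59373 : act 7 n15006 = n14430 := d31_2 (iv F56126) D15006 F57010
def n15007 : Q := act 8 n14197
theorem D15007 : act 8 n14197 = n15007 := rfl
theorem F59374 : act 1 n15007 = n14201 := d14_1 D15007 (iv D14201) (iv F56123)
theorem F59375 : act 2 n15007 = n14316 := d20_1 D15007 (iv D14316) (iv F56124)
theorem F59376 : act 4 n15007 = n14198 := d29_1 D15007 (iv D14198) D14197
theorem F59377 : act 6 n15007 = n14504 := d34_1 D15007 (iv D14504) (iv F56125)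
def n15008 : Q := act 7 n14198
theorem D15008 : act 7 n14198 = n15008 := rfl
theorem F59378 : act 1 n15008 = n14202 := d13_1 D15008 (iv D14202) (iv F56127)
theorem F59379 : act 2 n15008 = n14317 := d19_1 D15008 (iv D14317) (iv F56128)
theorem F59380 : act 6 n15008 = n14505 := d33_1 D15008 (iv D14505) (iv F56130)
theorem F59381 : act 8 n15008 = n15001 := d35_2 D14198 D15008 (iv D15001) (iv D14193) (iv F52469)
def n15009 : Q := act 5 n14199
theorem D15009 : act 5 n14199 = n15009 := rfl
theorem F59382 : act 2 n15009 = n14407 := d17_1 D15009 (iv D14407) (iv F56131)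
theorem F59383 : act 3 n15009 = n14200 := d22_1 D15009 (iv D14200) D14199
theorem F59384 : act 6 n15009 = n14871 := d30_2 F59347 D15009 (iv D14871) (iv F58829) (iv F59346)
def n15010 : Q := act 7 n14199
theorem D15010 : act 7 n14199 = n15010 := rfl
theorem F59385 : act 2 n15010 = n14408 := d19_1 D15010 (iv D14408) (iv F56131)
theorem F59386 : act 4 n15010 = n14216 := d28_1 D15010 (iv D14216) (iv F56132)
def n15011 : Q := act 8 n14199
theorem D15011 : act 8 n14199 = n15011 := rfl
theorem F59387 : act 2 n15011 = n14409 := d20_1 D15011 (iv D14409) (iv F56131)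
theorem F59388 : act 3 n15011 = n14201 := d25_1 D15011 (iv D14201) D14199
theorem F59389 : act 4 n15011 = n14217 := d29_1 D15011 (iv D14217) (iv F56132)
def n15012 : Q := act 6 n14200
theorem D15012 : act 6 n14200 = n15012 := rfl
theorem F59390 : act 0 n15012 = n15009 := d5_1 D15012 F59384 F58857
theorem F59391 : act 2 n15012 = n14203 := d18_1 D15012 (iv D14203) (iv F56133)
theorem F59392 : act 3 n15012 = n14871 := d23_1 D15012 (iv F59384) F59383
theorem F59393 : act 5 n15012 = n14870 := d30_1 D15012 F58856 F57010 F56108 D14200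
def n15013 : Q := act 8 n14200
theorem D15013 : act 8 n14200 = n15013 := rfl
theorem F59394 : act 2 n15013 = n14204 := d20_1 D15013 (iv D14204) (iv F56133)
theorem F59395 : act 5 n15013 = n14201 := d32_1 D15013 (iv D14201) D14200
def n15014 : Q := act 7 n14201
theorem D15014 : act 7 n14201 = n15014 := rfl
theorem F59396 : act 2 n15014 = n14205 := d19_1 D15014 (iv D14205) (iv F56134)
theorem F59397 : act 4 n15014 = n14202 := d28_1 D15014 (iv D14202) (iv F56135)
def n15015 : Q := act 3 n14202
theorem D15015 : act 3 n14202 = n15015 := rfl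
theorem F59398 : act 7 n15015 = n14221 := d24_2 D14202 D15015 (iv D14221) (iv D13305) (iv F52472)
def n15016 : Q := act 8 n14203
theorem D15016 : act 8 n14203 = n15016 := rfl
theorem F59399 : act 1 n15016 = n14321 := d14_1 D15016 (iv D14321) (iv F56137)
theorem F59400 : act 3 n15016 = n14412 := d25_1 D15016 (iv D14412) (iv F56138)
theorem F59401 : act 6 n15016 = n14204 := d34_1 D15016 (iv D14204) D14203
def n15017 : Q := act 7 n14204
theorem D15017 : act 7 n14204 = n15017 := rfl
theorem F59402 : act 1 n15017 = n14322 := d13_1 D15017 (iv D14322) (iv F56139)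
theorem F59403 : act 5 n15017 = n14205 := d31_1 D15017 (iv D14205) (iv F56141)
def n15018 : Q := act 3 n14205
theorem D15018 : act 3 n14205 = n15018 := rfl
theorem F59404 : act 1 n15018 = n14323 := d9_1 D15018 (iv D14323) (iv F56142)
theorem F59405 : act 7 n15018 = n14414 := d24_2 D14205 D15018 (iv D14414) (iv D13529) (iv F52476)
def n15019 : Q := act 5 n14206
theorem D15019 : act 5 n14206 = n15019 := rfl
theorem F59406 : act 0 n15019 = n14428 := d4_1 D15019 F57005 (iv F56144)
theorem F59407 : act 1 n15019 = n14509 := d11_1 D15019 (iv D14509) (iv F56145)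
theorem F59408 : act 2 n15019 = n14402 := d17_1 D15019 F56901 (iv F56146)
theorem F59409 : act 3 n15019 = n14207 := d22_1 D15019 (iv D14207) D14206
theorem F59410 : act 4 n15019 = n14860 := d26_1 D15019 F58816 D14863 (iv F59346) F59345
def n15020 : Q := act 7 n14206
theorem D15020 : act 7 n14206 = n15020 := rfl
theorem F59411 : act 0 n15020 = n14426 := d6_1 D15020 F56998 (iv F56144)
theorem F59412 : act 1 n15020 = n14510 := d13_1 D15020 (iv D14510) (iv F56145)
theorem F59413 : act 2 n15020 = n14400 := d19_1 D15020 F56891 (iv F56146)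
theorem F59414 : act 3 n15020 = n14225 := d24_1 D15020 (iv D14225) (iv D13309) (iv F52483) D14206
theorem F59415 : act 6 n15020 = n14216 := d33_1 D15020 (iv D14216) (iv F56147)
def n15021 : Q := act 3 n14208
theorem D15021 : act 3 n14208 = n15021 := rfl
theorem F59416 : act 1 n15021 = n14514 := d9_1 D15021 (iv D14514) (iv F56152)
theorem F59417 : act 6 n15021 = n14221 := d23_2 (iv F56154) D15021 (iv D14221)
theorem F59418 : act 8 n15021 = n14230 := d25_2 (iv F56155) D15021 (iv D14230)
def n15022 : Q := act 3 n14209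
theorem D15022 : act 3 n14209 = n15022 := rfl
theorem F59419 : act 0 n15022 = n14211 := d2_1 D15022 (iv D14211) (iv F56156)
theorem F59420 : act 2 n15022 = n15022 := d15_1 D15022 (iv D15022) F56157 F52690 (iv F56157)
theorem F59421 : act 6 n15022 = n14453 := d23_2 (iv F56158) D15022 (iv D14453)
def n15023 : Q := act 8 n14209
theorem D15023 : act 8 n14209 = n15023 := rfl
theorem F59422 : act 0 n15023 = n14213 := d7_1 D15023 (iv D14213) (iv F56156)
theorem F59423 : act 2 n15023 = n14283 := d20_1 D15023 (iv D14283) (iv F56157)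
theorem F59424 : act 4 n15023 = n14210 := d29_1 D15023 (iv D14210) D14209
theorem F59425 : act 6 n15023 = n14454 := d34_1 D15023 (iv D14454) (iv F56158)
def n15024 : Q := act 7 n14210
theorem D15024 : act 7 n14210 = n15024 := rfl
theorem F59426 : act 0 n15024 = n14214 := d6_1 D15024 (iv D14214) (iv F56160)
theorem F59427 : act 2 n15024 = n14284 := d19_1 D15024 (iv D14284) (iv F56161)
theorem F59428 : act 6 n15024 = n14455 := d33_1 D15024 (iv D14455) (iv F56162)
theorem F59429 : act 8 n15024 = n14236 := d35_2 D14210 D15024 (iv D14236) (iv D13317) (iv F52496)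
def n15025 : Q := act 5 n14211
theorem D15025 : act 5 n14211 = n15025 := rfl
theorem F59430 : act 1 n15025 = n14215 := d11_1 D15025 (iv D14215) (iv F56163)
theorem F59431 : act 2 n15025 = n15025 := d17_1 D15025 (iv D15025) F56164
theorem F59432 : act 3 n15025 = n14212 := d22_1 D15025 (iv D14212) D14211
def n15026 : Q := act 7 n14211
theorem D15026 : act 7 n14211 = n15026 := rfl
theorem F59433 : act 1 n15026 = n14216 := d13_1 D15026 (iv D14216) (iv F56163)
theorem F59434 : act 2 n15026 = n15026 := d19_1 D15026 (iv D15026) F56164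
theorem F59435 : act 3 n15026 = n14238 := d24_1 D15026 (iv D14238) (iv D13318) (iv F52500) D14211
theorem F59436 : act 6 n15026 = n14510 := d33_1 D15026 (iv D14510) (iv F56165)
def n15027 : Q := act 8 n14211
theorem D15027 : act 8 n14211 = n15027 := rfl
theorem F59437 : act 1 n15027 = n14217 := d14_1 D15027 (iv D14217) (iv F56163)
theorem F59438 : act 2 n15027 = n15027 := d20_1 D15027 (iv D15027) F56164
theorem F59439 : act 3 n15027 = n14213 := d25_1 D15027 (iv D14213) D14211
theorem F59440 : act 6 n15027 = n14511 := d34_1 D15027 (iv D14511) (iv F56165)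
def n15028 : Q := act 8 n14212
theorem D15028 : act 8 n14212 = n15028 := rfl
theorem F59441 : act 1 n15028 = n14219 := d14_1 D15028 (iv D14219) (iv F56166)
theorem F59442 : act 2 n15028 = n14285 := d20_1 D15028 (iv D14285) (iv F56167)
theorem F59443 : act 5 n15028 = n14213 := d32_1 D15028 (iv D14213) D14212
def n15029 : Q := act 7 n14213
theorem D15029 : act 7 n14213 = n15029 := rfl
theorem F59444 : act 1 n15029 = n14220 := d13_1 D15029 (iv D14220) (iv F56169)
theorem F59445 : act 2 n15029 = n14286 := d19_1 D15029 (iv D14286) (iv F56170)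
theorem F59446 : act 4 n15029 = n14214 := d28_1 D15029 (iv D14214) (iv F56171)
theorem F59447 : act 6 n15029 = n14513 := d33_1 D15029 (iv D14513) (iv F56172)
theorem F59448 : act 8 n15029 = n14242 := d35_2 D14213 D15029 (iv D14242) (iv D13320) (iv F52500)
def n15030 : Q := act 3 n14214
theorem D15030 : act 3 n14214 = n15030 := rfl
theorem F59449 : act 1 n15030 = n14221 := d9_1 D15030 (iv D14221) (iv F56173)
theorem F59450 : act 6 n15030 = n14514 := d23_2 (iv F56175) D15030 (iv D14514)
theorem F59451 : act 8 n15030 = n14243 := d25_2 (iv F56176) D15030 (iv D14243)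
def n15031 : Q := act 4 n14215
theorem D15031 : act 4 n14215 = n15031 := rfl
theorem F59452 : act 2 n15031 = n14415 := d16_1 D15031 (iv D14415) (iv F56177)
theorem F59453 : act 6 n14751 = n15031 := d18_0 F59452 F56965 (iv F58313)
theorem F59454 : act 7 n14750 = n15031 := d19_0 F59452 (iv F56966) (iv F58311)
def n15032 : Q := act 6 n14215
theorem D15032 : act 6 n14215 = n15032 := rfl
theorem F59455 : act 2 n15032 = n14416 := d18_1 D15032 (iv D14416) (iv F56177)
theorem F59456 : act 3 n15032 = n14218 := d23_1 D15032 (iv D14218) (iv F56178)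
theorem F59457 : act 4 n15032 = n14751 := d27_1 D15032 F59453 (iv D15031)
theorem F59458 : act 7 n14749 = n15032 := d28_0 F59457 (iv D14751) D14749
def n15033 : Q := act 7 n14215
theorem D15033 : act 7 n14215 = n15033 := rfl
theorem F59459 : act 2 n15033 = n14417 := d19_1 D15033 (iv D14417) (iv F56177)
theorem F59460 : act 3 n15033 = n14246 := d24_1 D15033 (iv D14246) F52562 (iv F52506) (iv F56178)
theorem F59461 : act 4 n15033 = n14750 := d28_1 D15033 F59454 (iv D15031)
theorem F59462 : act 5 n15033 = n14216 := d31_1 D15033 (iv D14216) D14215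
theorem F59463 : act 6 n15033 = n14749 := d33_1 D15033 F59458 (iv D15032)
def n15034 : Q := act 8 n14215
theorem D15034 : act 8 n14215 = n15034 := rfl
theorem F59464 : act 2 n15034 = n14418 := d20_1 D15034 (iv D14418) (iv F56177)
theorem F59465 : act 3 n15034 = n14219 := d25_1 D15034 (iv D14219) (iv F56178)
theorem F59466 : act 5 n15034 = n14217 := d32_1 D15034 (iv D14217) D14215
def n15035 : Q := act 8 n14216
theorem D15035 : act 8 n14216 = n15035 := rfl
theorem F59467 : act 2 n15035 = n14419 := d20_1 D15035 (iv D14419) (iv F56179)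
theorem F59468 : act 3 n15035 = n14248 := d25_1 D15035 (iv D14248) (iv F56180)
def n15036 : Q := act 7 n14217
theorem D15036 : act 7 n14217 = n15036 := rfl
theorem F59469 : act 2 n15036 = n14420 := d19_1 D15036 (iv D14420) (iv F56181)
def n15037 : Q := act 8 n14218
theorem D15037 : act 8 n14218 = n15037 := rfl
theorem F59470 : act 2 n15037 = n14222 := d20_1 D15037 (iv D14222) (iv F56183)
theorem F59471 : act 6 n15037 = n14219 := d34_1 D15037 (iv D14219) D14218
def n15038 : Q := act 7 n14219
theorem D15038 : act 7 n14219 = n15038 := rfl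
theorem F59472 : act 2 n15038 = n14223 := d19_1 D15038 (iv D14223) (iv F56185)
theorem F59473 : act 5 n15038 = n14220 := d31_1 D15038 (iv D14220) (iv F56186)
theorem F59474 : act 8 n15038 = n14251 := d35_2 D14219 D15038 (iv D14251) (iv D13326) (iv F52506)
def n15039 : Q := act 3 n14220
theorem D15039 : act 3 n14220 = n15039 := rfl
theorem F59475 : act 8 n15039 = n14252 := d25_2 (iv F56189) D15039 (iv D14252)
def n15040 : Q := act 4 n14221
theorem D15040 : act 4 n14221 = n15040 := rfl
theorem F59476 : act 8 n15040 = n14253 := d29_2 (iv F56190) D15040 (iv D14253)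
def n15041 : Q := act 7 n14222
theorem D15041 : act 7 n14222 = n15041 := rfl
theorem F59477 : act 1 n15041 = n14289 := d13_1 D15041 (iv D14289) (iv F56191)
theorem F59478 : act 6 n15041 = n14223 := d33_1 D15041 (iv D14223) (iv F56193)
theorem F59479 : act 8 n15041 = n14254 := d35_2 D14222 D15041 (iv D14254) (iv D13329) (iv F52513)
def n15042 : Q := act 4 n14224
theorem D15042 : act 4 n14224 = n15042 := rfl
theorem F59480 : act 1 n15042 = n14517 := d10_1 D15042 (iv D14517) (iv F56197)
theorem F59481 : act 2 n15042 = n14257 := d16_1 D15042 (iv D14257) (iv F56198)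
theorem F59482 : act 6 n14519 = n15042 := d18_0 F59481 (iv F56288) (iv F57313)
theorem F59483 : act 7 n14518 = n15042 := d19_0 F59481 (iv F56289) (iv F57311)
def n15043 : Q := act 6 n14224
theorem D15043 : act 6 n14224 = n15043 := rfl
theorem F59484 : act 1 n15043 = n14518 := d12_1 D15043 (iv D14518) (iv F56197)
theorem F59485 : act 2 n15043 = n14258 := d18_1 D15043 (iv D14258) (iv F56198)
theorem F59486 : act 3 n15043 = n14227 := d23_1 D15043 (iv D14227) (iv F56199)
theorem F59487 : act 4 n15043 = n14519 := d27_1 D15043 F59482 (iv D15042)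
theorem F59488 : act 5 n15043 = n14245 := d30_1 D15043 (iv D14245) (iv D13322) (iv F52522) D14224
theorem F59489 : act 7 n14517 = n15043 := d38_0 (iv D15043) (iv D14224) (iv F52550) (iv D13318) F48566 F44633 (iv F44606) F44605 D11714 (iv F47350) F47349 F43424 F39966 (iv D10018) F31380 (iv D6191) F17734 F13174 F9845 F7851 F7854 (iv D1911) (iv D1400) (iv D1027) F3339 (iv F4156) (iv F5157) F5161 F5160 F5159 D1649 D2240 D3044 D4145 D5654 F21931 (iv F29582) (iv F39053) D10702 D11641 D12634 (iv F53634) (iv F55586) (iv F57569) (iv F57572) (iv F59486) F59485 F56290 (iv F52999) (iv F53005) F53004 F49020 F48972 F48971 (iv F48614) (iv D12342) (iv F48585) D13332 D14257 F56287 (iv F59481) F59480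
def n15044 : Q := act 7 n14224
theorem D15044 : act 7 n14224 = n15044 := rfl
theorem F59490 : act 1 n15044 = n14519 := d13_1 D15044 (iv D14519) (iv F56197)
theorem F59491 : act 2 n15044 = n14259 := d19_1 D15044 (iv D14259) (iv F56198)
theorem F59492 : act 4 n15044 = n14518 := d28_1 D15044 F59483 (iv D15042)
theorem F59493 : act 5 n15044 = n14225 := d31_1 D15044 (iv D14225) D14224
theorem F59494 : act 6 n15044 = n14517 := d33_1 D15044 F59489 (iv D15043)
def n15045 : Q := act 8 n14224
theorem D15045 : act 8 n14224 = n15045 := rfl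
theorem F59495 : act 1 n15045 = n14520 := d14_1 D15045 (iv D14520) (iv F56197)
theorem F59496 : act 2 n15045 = n14260 := d20_1 D15045 (iv D14260) (iv F56198)
theorem F59497 : act 3 n15045 = n14228 := d25_1 D15045 (iv D14228) (iv F56199)
theorem F59498 : act 5 n15045 = n14226 := d32_1 D15045 (iv D14226) D14224
def n15046 : Q := act 8 n14225
theorem D15046 : act 8 n14225 = n15046 := rfl
theorem F59499 : act 1 n15046 = n14521 := d14_1 D15046 (iv D14521) (iv F56200)
theorem F59500 : act 2 n15046 = n14261 := d20_1 D15046 (iv D14261) (iv F56201)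
theorem F59501 : act 6 n15046 = n14248 := d34_1 D15046 (iv D14248) (iv F56202)
def n15047 : Q := act 7 n14226
theorem D15047 : act 7 n14226 = n15047 := rfl
theorem F59502 : act 1 n15047 = n14522 := d13_1 D15047 (iv D14522) (iv F56203)
theorem F59503 : act 2 n15047 = n14262 := d19_1 D15047 (iv D14262) (iv F56204)
theorem F59504 : act 6 n15047 = n14249 := d33_1 D15047 (iv D14249) (iv F56206)
def n15048 : Q := act 8 n14227
theorem D15048 : act 8 n14227 = n15048 := rfl
theorem F59505 : act 1 n15048 = n14523 := d14_1 D15048 (iv D14523) (iv F56207)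
theorem F59506 : act 2 n15048 = n14231 := d20_1 D15048 (iv D14231) (iv F56208)
theorem F59507 : act 5 n15048 = n14250 := d32_1 D15048 (iv D14250) (iv F56209)
theorem F59508 : act 6 n15048 = n14228 := d34_1 D15048 (iv D14228) D14227
def n15049 : Q := act 7 n14228
theorem D15049 : act 7 n14228 = n15049 := rfl
theorem F59509 : act 1 n15049 = n14524 := d13_1 D15049 (iv D14524) (iv F56210)
theorem F59510 : act 2 n15049 = n14232 := d19_1 D15049 (iv D14232) (iv F56211)
theorem F59511 : act 5 n15049 = n14229 := d31_1 D15049 (iv D14229) (iv F56212)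
def n15050 : Q := act 3 n14229
theorem D15050 : act 3 n14229 = n15050 := rfl
theorem F59512 : act 1 n15050 = n14525 := d9_1 D15050 (iv D14525) (iv F56213)
theorem F59513 : act 6 n15050 = n14252 := d23_2 (iv F56216) D15050 (iv D14252)
def n15051 : Q := act 4 n14230
theorem D15051 : act 4 n14230 = n15051 := rfl
theorem F59514 : act 1 n15051 = n14526 := d10_1 D15051 (iv D14526) (iv F56217)
theorem F59515 : act 6 n15051 = n14253 := d27_2 (iv F56218) D15051 (iv D14253)
def n15052 : Q := act 7 n14231
theorem D15052 : act 7 n14231 = n15052 := rfl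
theorem F59516 : act 1 n15052 = n14290 := d13_1 D15052 (iv D14290) (iv F56219)
theorem F59517 : act 5 n15052 = n14254 := d31_1 D15052 (iv D14254) (iv F56221)
theorem F59518 : act 6 n15052 = n14232 := d33_1 D15052 (iv D14232) (iv F56222)
def n15053 : Q := act 5 n14233
theorem D15053 : act 5 n14233 = n15053 := rfl
theorem F59519 : act 0 n15053 = n14237 := d4_1 D15053 (iv D14237) (iv F56225)
theorem F59520 : act 2 n15053 = n14324 := d17_1 D15053 (iv D14324) (iv F56226)
theorem F59521 : act 3 n15053 = n14234 := d22_1 D15053 (iv D14234) D14233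
def n15054 : Q := act 7 n14233
theorem D15054 : act 7 n14233 = n15054 := rfl
theorem F59522 : act 0 n15054 = n14238 := d6_1 D15054 (iv D14238) (iv F56225)
theorem F59523 : act 2 n15054 = n14325 := d19_1 D15054 (iv D14325) (iv F56226)
theorem F59524 : act 4 n15054 = n14899 := d28_1 D15054 (iv D14899) (iv F56227)
theorem F59525 : act 6 n15054 = n14461 := d33_1 D15054 (iv D14461) (iv F56228)
def n15055 : Q := act 8 n14233
theorem D15055 : act 8 n14233 = n15055 := rfl
theorem F59526 : act 0 n15055 = n14239 := d7_1 D15055 (iv D14239) (iv F56225)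
theorem F59527 : act 2 n15055 = n14326 := d20_1 D15055 (iv D14326) (iv F56226)
theorem F59528 : act 3 n15055 = n14235 := d25_1 D15055 (iv D14235) D14233
theorem F59529 : act 4 n15055 = n14900 := d29_1 D15055 (iv D14900) (iv F56227)
theorem F59530 : act 6 n15055 = n14462 := d34_1 D15055 (iv D14462) (iv F56228)
def n15056 : Q := act 8 n14234
theorem D15056 : act 8 n14234 = n15056 := rfl
theorem F59531 : act 0 n15056 = n14241 := d7_1 D15056 (iv D14241) (iv F56229)
theorem F59532 : act 2 n15056 = n14291 := d20_1 D15056 (iv D14291) (iv F56230)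
theorem F59533 : act 5 n15056 = n14235 := d32_1 D15056 (iv D14235) D14234
def n15057 : Q := act 7 n14235
theorem D15057 : act 7 n14235 = n15057 := rfl
theorem F59534 : act 0 n15057 = n14242 := d6_1 D15057 (iv D14242) (iv F56231)
theorem F59535 : act 2 n15057 = n14292 := d19_1 D15057 (iv D14292) (iv F56232)
theorem F59536 : act 4 n15057 = n14236 := d28_1 D15057 (iv D14236) (iv F56233)
theorem F59537 : act 6 n15057 = n14464 := d33_1 D15057 (iv D14464) (iv F56234)
def n15058 : Q := act 3 n14236
theorem D15058 : act 3 n14236 = n15058 := rfl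
theorem F59538 : act 0 n15058 = n14243 := d2_1 D15058 (iv D14243) (iv F56235)
theorem F59539 : act 6 n15058 = n14465 := d23_2 (iv F56237) D15058 (iv D14465)
theorem F59540 : act 7 n15058 = n14903 := d24_2 D14236 D15058 (iv D14903) (iv D14073) (iv F52546)
def n15059 : Q := act 4 n14237
theorem D15059 : act 4 n14237 = n15059 := rfl
theorem F59541 : act 1 n15059 = n14244 := d10_1 D15059 (iv D14244) (iv F56238)
theorem F59542 : act 2 n15059 = n14330 := d16_1 D15059 (iv D14330) (iv F56239)
theorem F59543 : act 5 n15059 = n15042 := d26_2 D14237 D15059 (iv D15042) (iv D14224) (iv F52550)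
def n15060 : Q := act 6 n14237
theorem D15060 : act 6 n14237 = n15060 := rfl
theorem F59544 : act 1 n15060 = n14245 := d12_1 D15060 (iv D14245) (iv F56238)
theorem F59545 : act 2 n15060 = n14331 := d18_1 D15060 (iv D14331) (iv F56239)
theorem F59546 : act 3 n15060 = n14240 := d23_1 D15060 (iv D14240) (iv F56240)
theorem F59547 : act 5 n15060 = n14518 := d30_1 D15060 (iv D14518) (iv D13649) (iv F52551) D14237
theorem F59548 : act 7 n15059 = n15060 := d38_0 (iv D15060) (iv D14237) F52550 (iv D13309) F48549 F44493 (iv F44594) F44593 D11334 (iv F47148) F47147 (iv F51243) (iv F55012) F55016 D13951 F55111 (iv D13361) F48705 (iv F48928) F48927 F48931 F44848 (iv F43752) F43751 F41511 (iv D10526) F34378 (iv F38781) F32551 F24040 D6232 F24048 F22062 (iv F22392) F22395 F22394 D7925 (iv F39249) (iv F41269) (iv F44912) (iv F48586) F48589 D12568 F49514 F45483 (iv F45506) F45505 F45504 F42059 F42058 F42055 F35735 (iv F41312) F41311 (iv F44553) (iv D11318) F40929 D11317 D12351 (iv F52617) (iv F56263) (iv F59541)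
def n15061 : Q := act 7 n14237
theorem D15061 : act 7 n14237 = n15061 := rfl
theorem F59549 : act 1 n15061 = n14246 := d13_1 D15061 (iv D14246) (iv F56238)
theorem F59550 : act 2 n15061 = n14332 := d19_1 D15061 (iv D14332) (iv F56239)
theorem F59551 : act 4 n15061 = n15060 := d28_1 D15061 (iv F59548) (iv D15059)
theorem F59552 : act 5 n15061 = n14238 := d31_1 D15061 (iv D14238) D14237
theorem F59553 : act 6 n15061 = n15059 := d33_1 D15061 F59548 (iv D15060)
def n15062 : Q := act 8 n14237
theorem D15062 : act 8 n14237 = n15062 := rfl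
theorem F59554 : act 1 n15062 = n14247 := d14_1 D15062 (iv D14247) (iv F56238)
theorem F59555 : act 2 n15062 = n14333 := d20_1 D15062 (iv D14333) (iv F56239)
theorem F59556 : act 3 n15062 = n14241 := d25_1 D15062 (iv D14241) (iv F56240)
theorem F59557 : act 5 n15062 = n14239 := d32_1 D15062 (iv D14239) D14237
def n15063 : Q := act 8 n14238
theorem D15063 : act 8 n14238 = n15063 := rfl
theorem F59558 : act 1 n15063 = n14248 := d14_1 D15063 (iv D14248) (iv F56241)
theorem F59559 : act 2 n15063 = n14334 := d20_1 D15063 (iv D14334) (iv F56242)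
theorem F59560 : act 4 n15063 = n15046 := d29_1 D15063 (iv D15046) (iv F56243)
theorem F59561 : act 6 n15063 = n14521 := d34_1 D15063 (iv D14521) (iv F56244)
def n15064 : Q := act 7 n14239
theorem D15064 : act 7 n14239 = n15064 := rfl
theorem F59562 : act 1 n15064 = n14249 := d13_1 D15064 (iv D14249) (iv F56245)
theorem F59563 : act 2 n15064 = n14335 := d19_1 D15064 (iv D14335) (iv F56246)
theorem F59564 : act 4 n15064 = n15047 := d28_1 D15064 (iv D15047) (iv F56248)
theorem F59565 : act 6 n15064 = n14522 := d33_1 D15064 (iv D14522) (iv F56249)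
def n15065 : Q := act 8 n14240
theorem D15065 : act 8 n14240 = n15065 := rfl
theorem F59566 : act 1 n15065 = n14250 := d14_1 D15065 (iv D14250) (iv F56250)
theorem F59567 : act 2 n15065 = n14293 := d20_1 D15065 (iv D14293) (iv F56251)
theorem F59568 : act 5 n15065 = n14523 := d32_1 D15065 (iv D14523) (iv F56252)
theorem F59569 : act 6 n15065 = n14241 := d34_1 D15065 (iv D14241) D14240
def n15066 : Q := act 7 n14241
theorem D15066 : act 7 n14241 = n15066 := rfl
theorem F59570 : act 1 n15066 = n14251 := d13_1 D15066 (iv D14251) (iv F56253)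
theorem F59571 : act 2 n15066 = n14294 := d19_1 D15066 (iv D14294) (iv F56254)
theorem F59572 : act 5 n15066 = n14242 := d31_1 D15066 (iv D14242) (iv F56255)
def n15067 : Q := act 3 n14242
theorem D15067 : act 3 n14242 = n15067 := rfl
theorem F59573 : act 1 n15067 = n14252 := d9_1 D15067 (iv D14252) (iv F56256)
theorem F59574 : act 6 n15067 = n14525 := d23_2 (iv F56259) D15067 (iv D14525)
def n15068 : Q := act 4 n14243
theorem D15068 : act 4 n14243 = n15068 := rfl
theorem F59575 : act 1 n15068 = n14253 := d10_1 D15068 (iv D14253) (iv F56260)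
theorem F59576 : act 6 n15068 = n14526 := d27_2 (iv F56261) D15068 (iv D14526)
theorem F59577 : act 7 n15068 = n15051 := d28_2 (iv F56262) D15068 (iv D15051)
def n15069 : Q := act 8 n14244
theorem D15069 : act 8 n14244 = n15069 := rfl
theorem F59578 : act 2 n15069 = n14268 := d20_1 D15069 (iv D14268) (iv F56263)
theorem F59579 : act 4 n15069 = n14247 := d29_1 D15069 (iv D14247) D14244
def n15070 : Q := act 8 n14245
theorem D15070 : act 8 n14245 = n15070 := rfl
theorem F59580 : act 2 n15070 = n14269 := d20_1 D15070 (iv D14269) (iv F56264)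
theorem F59581 : act 3 n15070 = n14250 := d25_1 D15070 (iv D14250) (iv F56265)
theorem F59582 : act 6 n15070 = n14247 := d34_1 D15070 (iv D14247) D14245
def n15071 : Q := act 8 n14246
theorem D15071 : act 8 n14246 = n15071 := rfl
theorem F59583 : act 2 n15071 = n14270 := d20_1 D15071 (iv D14270) (iv F56267)
theorem F59584 : act 4 n15071 = n15070 := d29_1 D15071 (iv D15070) (iv F56268)
theorem F59585 : act 5 n15071 = n14248 := d32_1 D15071 (iv D14248) (iv F56269)
theorem F59586 : act 6 n15071 = n15069 := d34_1 D15071 (iv D15069) (iv F56270)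
def n15072 : Q := act 7 n14247
theorem D15072 : act 7 n14247 = n15072 := rfl
theorem F59587 : act 2 n15072 = n14271 := d19_1 D15072 (iv D14271) (iv F56271)
theorem F59588 : act 5 n15072 = n14249 := d31_1 D15072 (iv D14249) (iv F56273)
def n15073 : Q := act 7 n14248
theorem D15073 : act 7 n14248 = n15073 := rfl
theorem F59589 : act 2 n15073 = n14272 := d19_1 D15073 (iv D14272) (iv F56274)
theorem F59590 : act 8 n15073 = n14249 := d35_2 D14248 D15073 (iv D14249) (iv D13324) D13323
def n15074 : Q := act 3 n14249
theorem D15074 : act 3 n14249 = n15074 := rfl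
theorem F59591 : act 7 n15074 = n14252 := d24_2 D14249 D15074 (iv D14252) (iv D13327) (iv F52565)
def n15075 : Q := act 7 n14250
theorem D15075 : act 7 n14250 = n15075 := rfl
theorem F59592 : act 2 n15075 = n14254 := d19_1 D15075 (iv D14254) (iv F56276)
theorem F59593 : act 6 n15075 = n14251 := d33_1 D15075 (iv D14251) (iv F56277)
def n15076 : Q := act 3 n14251
theorem D15076 : act 3 n14251 = n15076 := rfl
theorem F59594 : act 5 n15076 = n14252 := d22_2 (iv F56279) D15076 (iv D14252)
def n15077 : Q := act 2 n14252
theorem D15077 : act 2 n14252 = n15077 := rfl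
theorem F59595 : act 3 n15077 = n14256 := d15_2 D14252 D15077 (iv D14256) (iv D13331) (iv F52569)
def n15078 : Q := act 4 n14252
theorem D15078 : act 4 n14252 = n15078 := rfl
theorem F59596 : act 3 n15078 = n14253 := d21_1 D15078 (iv D14253) (iv D13328) (iv F52570) D14252
def n15079 : Q := act 5 n14253
theorem D15079 : act 5 n14253 = n15079 := rfl
def n15080 : Q := act 2 n14255
theorem D15080 : act 2 n14255 = n15080 := rfl
theorem F59597 : act 5 n15080 = n14256 := d17_2 (iv F56283) D15080 (iv D14256)
theorem F59598 : act 7 n15080 = n14278 := d19_2 (iv F56284) D15080 (iv D14278)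
def n15081 : Q := act 1 n14256
theorem D15081 : act 1 n14256 = n15081 := rfl
theorem F59599 : act 2 n15081 = n14299 := d8_2 D14256 D15081 (iv D14299) (iv D13383) (iv F52576)
theorem F59600 : act 7 n15081 = n14279 := d13_2 (iv F56285) D15081 (iv D14279)
def n15082 : Q := act 8 n14257
theorem D15082 : act 8 n14257 = n15082 := rfl
theorem F59601 : act 1 n15082 = n14352 := d14_1 D15082 (iv D14352) (iv F56286)
theorem F59602 : act 3 n15082 = n15082 := d25_1 D15082 (iv D15082) F56287
theorem F59603 : act 4 n15082 = n14260 := d29_1 D15082 (iv D14260) D14257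
theorem F59604 : act 6 n15082 = n14532 := d34_1 D15082 (iv D14532) F56288
def n15083 : Q := act 8 n14258
theorem D15083 : act 8 n14258 = n15083 := rfl
theorem F59605 : act 1 n15083 = n14353 := d14_1 D15083 (iv D14353) (iv F56290)
theorem F59606 : act 3 n15083 = n14263 := d25_1 D15083 (iv D14263) (iv F56291)
theorem F59607 : act 4 n15083 = n14532 := d29_1 D15083 (iv D14532) (iv F56292)
theorem F59608 : act 5 n15083 = n14269 := d32_1 D15083 (iv D14269) (iv F56293)
theorem F59609 : act 6 n15083 = n14260 := d34_1 D15083 (iv D14260) D14258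
def n15084 : Q := act 8 n14259
theorem D15084 : act 8 n14259 = n15084 := rfl
theorem F59610 : act 1 n15084 = n14354 := d14_1 D15084 (iv D14354) (iv F56295)
theorem F59611 : act 3 n15084 = n14423 := d25_1 D15084 (iv D14423) (iv F56296)
theorem F59612 : act 4 n15084 = n14531 := d29_1 D15084 (iv D14531) (iv F56297)
theorem F59613 : act 5 n15084 = n14261 := d32_1 D15084 (iv D14261) (iv F56298)
theorem F59614 : act 6 n15084 = n14530 := d34_1 D15084 (iv D14530) (iv F56299)
def n15085 : Q := act 7 n14260
theorem D15085 : act 7 n14260 = n15085 := rfl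
theorem F59615 : act 1 n15085 = n14355 := d13_1 D15085 (iv D14355) (iv F56300)
theorem F59616 : act 5 n15085 = n14262 := d31_1 D15085 (iv D14262) (iv F56302)
def n15086 : Q := act 7 n14261
theorem D15086 : act 7 n14261 = n15086 := rfl
theorem F59617 : act 1 n15086 = n14356 := d13_1 D15086 (iv D14356) (iv F56303)
theorem F59618 : act 6 n15086 = n14272 := d33_1 D15086 (iv D14272) (iv F56305)
theorem F59619 : act 8 n15086 = n14262 := d35_2 D14261 D15086 (iv D14262) (iv D13334) D13333
def n15087 : Q := act 3 n14262
theorem D15087 : act 3 n14262 = n15087 := rfl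
theorem F59620 : act 0 n15087 = n14420 := d2_1 D15087 (iv F59077) F59075
theorem F59621 : act 1 n15087 = n14357 := d9_1 D15087 (iv D14357) (iv F56306)
theorem F59622 : act 6 n15087 = n14273 := d23_2 (iv F56307) D15087 (iv D14273)
theorem F59623 : act 7 n15087 = n14265 := d24_2 D14262 D15087 (iv D14265) (iv D13337) (iv F52584)
def n15088 : Q := act 7 n14263
theorem D15088 : act 7 n14263 = n15088 := rfl
theorem F59624 : act 0 n15088 = n14421 := d6_1 D15088 (iv F59085) F59079
theorem F59625 : act 1 n15088 = n14358 := d13_1 D15088 (iv D14358) (iv F56308)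
theorem F59626 : act 2 n15088 = n14267 := d19_1 D15088 (iv D14267) (iv F56309)
theorem F59627 : act 4 n15088 = n15088 := d28_1 D15088 (iv D15088) F56310
theorem F59628 : act 5 n15088 = n14274 := d31_1 D15088 (iv D14274) (iv F56311)
theorem F59629 : act 6 n15088 = n14264 := d33_1 D15088 (iv D14264) (iv F56312)
theorem F59630 : act 8 n15088 = n14389 := d35_2 D14263 D15088 F56820 F53254 (iv F52590)
def n15089 : Q := act 3 n14264
theorem D15089 : act 3 n14264 = n15089 := rfl
theorem F59631 : act 0 n15089 = n14418 := d2_1 D15089 F56973 (iv F56313)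
theorem F59632 : act 1 n15089 = n14359 := d9_1 D15089 (iv D14359) (iv F56314)
theorem F59633 : act 5 n15089 = n14265 := d22_2 (iv F56317) D15089 (iv D14265)
theorem F59634 : act 8 n15089 = n14387 := d25_2 (iv F56318) D15089 F56810
def n15090 : Q := act 4 n14265
theorem D15090 : act 4 n14265 = n15090 := rfl
theorem F59635 : act 0 n15090 = n14409 := d3_1 D15090 F56936 (iv F56319)
theorem F59636 : act 1 n15090 = n14361 := d10_1 D15090 (iv D14361) (iv F56320)
theorem F59637 : act 3 n15090 = n14266 := d21_1 D15090 (iv D14266) (iv D13338) (iv F52598) D14265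
theorem F59638 : act 6 n15090 = n14277 := d27_2 (iv F56321) D15090 (iv D14277)
theorem F59639 : act 8 n15090 = n14384 := d29_2 (iv F56322) D15090 F56795
theorem F59640 : act 5 n15016 = n15090 := d32_3 F59639 F56796 D15016
def n15091 : Q := act 7 n14268
theorem D15091 : act 7 n14268 = n15091 := rfl
theorem F59641 : act 1 n15091 = n14364 := d13_1 D15091 (iv D14364) (iv F56334)
theorem F59642 : act 4 n15091 = n14271 := d28_1 D15091 (iv D14271) (iv F56336)
def n15092 : Q := act 7 n14269
theorem D15092 : act 7 n14269 = n15092 := rfl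
theorem F59643 : act 1 n15092 = n14365 := d13_1 D15092 (iv D14365) (iv F56337)
theorem F59644 : act 6 n15092 = n14271 := d33_1 D15092 (iv D14271) (iv F56339)
theorem F59645 : act 8 n15092 = n15091 := d35_2 D14269 D15092 (iv D15091) (iv D14268) F52620
def n15093 : Q := act 7 n14270
theorem D15093 : act 7 n14270 = n15093 := rfl
theorem F59646 : act 1 n15093 = n14366 := d13_1 D15093 (iv D14366) (iv F56340)
theorem F59647 : act 4 n15093 = n15092 := d28_1 D15093 (iv D15092) (iv F56342)
theorem F59648 : act 5 n15093 = n14272 := d31_1 D15093 (iv D14272) (iv F56343)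
theorem F59649 : act 6 n15093 = n15091 := d33_1 D15093 (iv D15091) (iv F56344)
theorem F59650 : act 8 n15093 = n14271 := d35_2 D14270 D15093 (iv D14271) (iv D13344) D13343
def n15094 : Q := act 3 n14271
theorem D15094 : act 3 n14271 = n15094 := rfl
theorem F59651 : act 1 n15094 = n14367 := d9_1 D15094 (iv D14367) (iv F56345)
theorem F59652 : act 5 n15094 = n14273 := d22_2 (iv F56346) D15094 (iv D14273)
theorem F59653 : act 7 n15094 = n14275 := d24_2 D14271 D15094 (iv D14275) (iv D13348) (iv F52627)
theorem F59654 : act 4 n14998 = n15094 := d28_3 F59653 F56357 D14998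
def n15095 : Q := act 3 n14272
theorem D15095 : act 3 n14272 = n15095 := rfl
theorem F59655 : act 1 n15095 = n14368 := d9_1 D15095 (iv D14368) (iv F56347)
theorem F59656 : act 7 n15095 = n14425 := d24_2 D14272 D15095 (iv D14425) (iv D13548) (iv F52630)
theorem F59657 : act 8 n15095 = n14273 := d25_2 (iv F56348) D15095 (iv D14273)
def n15096 : Q := act 2 n14273
theorem D15096 : act 2 n14273 = n15096 := rfl
theorem F59658 : act 7 n15096 = n14276 := d19_2 (iv F56350) D15096 (iv D14276)
def n15097 : Q := act 4 n14273
theorem D15097 : act 4 n14273 = n15097 := rfl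
theorem F59659 : act 1 n15097 = n14370 := d10_1 D15097 (iv D14370) (iv F56349)
theorem F59660 : act 5 n15097 = n15002 := d26_2 F59652 D15097 F59356 (iv F59340) F59654
theorem F59661 : act 7 n15097 = n14277 := d28_2 (iv F56350) D15097 (iv D14277)
def n15098 : Q := act 3 n14274
theorem D15098 : act 3 n14274 = n15098 := rfl
theorem F59662 : act 1 n15098 = n14371 := d9_1 D15098 (iv D14371) (iv F56351)
theorem F59663 : act 4 n15098 = n14685 := d21_2 (iv F56353) D15098 F58051 F56387 (iv D14282)
theorem F59664 : act 6 n15098 = n14275 := d23_2 (iv F56354) D15098 (iv D14275)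
theorem F59665 : act 8 n15098 = n14427 := d25_2 (iv F56355) D15098 (iv D14427)
def n15099 : Q := act 2 n14275
theorem D15099 : act 2 n14275 = n15099 := rfl
theorem F59666 : act 1 n15099 = n14969 := d8_1 D15099 F59231 F55973 (iv F53076) (iv F56356)
theorem F59667 : act 3 n15099 = n14278 := d15_2 D14275 D15099 (iv D14278) (iv D13352) (iv F52637)
theorem F59668 : act 4 n15099 = n14968 := d16_2 (iv F56357) D15099 F59227
theorem F59669 : act 5 n15099 = n14276 := d17_2 (iv F56358) D15099 (iv D14276)
theorem F59670 : act 8 n15099 = n14428 := d20_2 (iv F56359) D15099 (iv D14428)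
def n15100 : Q := act 1 n14276
theorem D15100 : act 1 n14276 = n15100 := rfl
theorem F59671 : act 2 n15100 = n14372 := d8_2 D14276 D15100 (iv D14372) (iv D13462) (iv F52641)
theorem F59672 : act 3 n15100 = n14279 := d9_2 (iv F56360) D15100 (iv D14279)
theorem F59673 : act 5 n15100 = n14969 := d11_2 F59669 D15100 (iv F59666)
theorem F59674 : act 8 n15100 = n14429 := d14_2 (iv F56361) D15100 (iv D14429)
def n15101 : Q := act 4 n14276
theorem D15101 : act 4 n14276 = n15101 := rfl
theorem F59675 : act 2 n15101 = n14277 := d16_1 D15101 (iv D14277) D14276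
theorem F59676 : act 5 n15101 = n15000 := d26_2 F59669 D15101 F59350 (iv F59229) (iv F59668)
theorem F59677 : act 8 n15101 = n14430 := d29_2 (iv F56361) D15101 (iv D14430)
def n15102 : Q := act 3 n14280
theorem D15102 : act 3 n14280 = n15102 := rfl
theorem F59678 : act 0 n15102 = n14990 := d2_1 D15102 F59309 (iv F56370)
theorem F59679 : act 1 n15102 = n14373 := d9_1 D15102 (iv D14373) (iv F56371)
theorem F59680 : act 4 n15102 = n14827 := d21_2 (iv F56372) D15102 F58656 F55345 F52668
theorem F59681 : act 6 n15102 = n14834 := d23_2 F56994 D15102 F58692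
theorem F59682 : act 8 n15102 = n14826 := d25_2 (iv F56373) D15102 F58650
def n15103 : Q := act 7 n14283
theorem D15103 : act 7 n14283 = n15103 := rfl
theorem F59683 : act 0 n15103 = n14286 := d6_1 D15103 (iv D14286) (iv F56388)
theorem F59684 : act 1 n15103 = n14300 := d13_1 D15103 (iv D14300) (iv F56389)
theorem F59685 : act 4 n15103 = n14284 := d28_1 D15103 (iv D14284) (iv F56391)
theorem F59686 : act 6 n15103 = n14456 := d33_1 D15103 (iv D14456) (iv F56392)
theorem F59687 : act 8 n15103 = n14292 := d35_2 D14283 D15103 (iv D14292) (iv D13373) (iv F52692)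
def n15104 : Q := act 7 n14285
theorem D15104 : act 7 n14285 = n15104 := rfl
theorem F59688 : act 1 n15104 = n14287 := d13_1 D15104 (iv D14287) (iv F56397)
theorem F59689 : act 5 n15104 = n14286 := d31_1 D15104 (iv D14286) (iv F56399)
theorem F59690 : act 8 n15104 = n14294 := d35_2 D14285 D15104 (iv D14294) (iv D13376) (iv F52699)
def n15105 : Q := act 3 n14286
theorem D15105 : act 3 n14286 = n15105 := rfl
theorem F59691 : act 1 n15105 = n14288 := d9_1 D15105 (iv D14288) (iv F56400)
theorem F59692 : act 6 n15105 = n14516 := d23_2 (iv F56402) D15105 (iv D14516)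
theorem F59693 : act 7 n15105 = n15105 := d24_2 D14286 D15105 (iv D15105) (iv D14286) F52701
theorem F59694 : act 8 n15105 = n14295 := d25_2 (iv F56403) D15105 (iv D14295)
def n15106 : Q := act 3 n14287
theorem D15106 : act 3 n14287 = n15106 := rfl
theorem F59695 : act 0 n15106 = n14302 := d2_1 D15106 (iv D14302) (iv F56404)
theorem F59696 : act 5 n15106 = n14288 := d22_2 (iv F56406) D15106 (iv D14288)
theorem F59697 : act 7 n15106 = n15106 := d24_2 D14287 D15106 (iv D15106) (iv D14287) F52709
theorem F59698 : act 8 n15106 = n14297 := d25_2 (iv F56407) D15106 (iv D14297)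
def n15107 : Q := act 7 n14291
theorem D15107 : act 7 n14291 = n15107 := rfl
theorem F59699 : act 0 n15107 = n14294 := d6_1 D15107 (iv D14294) (iv F56419)
theorem F59700 : act 1 n15107 = n14303 := d13_1 D15107 (iv D14303) (iv F56420)
theorem F59701 : act 5 n15107 = n14292 := d31_1 D15107 (iv D14292) (iv F56422)
def n15108 : Q := act 3 n14292
theorem D15108 : act 3 n14292 = n15108 := rfl
theorem F59702 : act 0 n15108 = n14295 := d2_1 D15108 (iv D14295) (iv F56423)
theorem F59703 : act 1 n15108 = n14304 := d9_1 D15108 (iv D14304) (iv F56424)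
theorem F59704 : act 6 n15108 = n14467 := d23_2 (iv F56426) D15108 (iv D14467)
theorem F59705 : act 7 n15108 = n14376 := d24_2 D14292 D15108 (iv D14376) (iv D13472) (iv F52735)
def n15109 : Q := act 7 n14293
theorem D15109 : act 7 n14293 = n15109 := rfl
theorem F59706 : act 1 n15109 = n14296 := d13_1 D15109 (iv D14296) (iv F56427)
theorem F59707 : act 5 n15109 = n14527 := d31_1 D15109 (iv D14527) (iv F56429)
theorem F59708 : act 6 n15109 = n14294 := d33_1 D15109 (iv D14294) (iv F56430)
def n15110 : Q := act 3 n14294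
theorem D15110 : act 3 n14294 = n15110 := rfl
theorem F59709 : act 1 n15110 = n14297 := d9_1 D15110 (iv D14297) (iv F56431)
theorem F59710 : act 5 n15110 = n14295 := d22_2 (iv F56432) D15110 (iv D14295)
theorem F59711 : act 7 n15110 = n14378 := d24_2 D14294 D15110 (iv D14378) (iv D13474) (iv F52745)
def n15111 : Q := act 2 n14295
theorem D15111 : act 2 n14295 = n15111 := rfl
theorem F59712 : act 6 n15111 = n14529 := d18_2 (iv F56434) D15111 (iv D14529)
theorem F59713 : act 7 n15111 = n14379 := d19_2 (iv F56435) D15111 (iv D14379)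
def n15112 : Q := act 4 n14297
theorem D15112 : act 4 n14297 = n15112 := rfl
theorem F59714 : act 0 n15112 = n14306 := d3_1 D15112 F56467 (iv F56440)
theorem F59715 : act 2 n15112 = n14304 := d16_1 D15112 (iv F57865) F57864
theorem F59716 : act 6 n15112 = n14492 := d27_2 F57920 D15112 (iv F57918)
theorem F59717 : act 7 n15112 = n14380 := d28_2 (iv F56442) D15112 (iv D14380)
def n15113 : Q := act 1 n14298
theorem D15113 : act 1 n14298 = n15113 := rfl
theorem F59718 : act 3 n15113 = n14299 := d9_2 (iv F56444) D15113 (iv D14299)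
theorem F59719 : act 6 n15113 = n14554 := d12_2 (iv F56445) D15113 (iv D14554)
theorem F59720 : act 7 n15113 = n14381 := d13_2 (iv F56446) D15113 (iv D14381)
def n15114 : Q := act 3 n14300
theorem D15114 : act 3 n14300 = n15114 := rfl
theorem F59721 : act 0 n15114 = n14301 := d2_1 D15114 (iv D14301) (iv F56448)
theorem F59722 : act 6 n15114 = n14486 := d23_2 (iv F56450) D15114 (iv D14486)
theorem F59723 : act 7 n15114 = n15114 := d24_2 D14300 D15114 (iv D15114) (iv D14300) F52777
theorem F59724 : act 8 n15114 = n14304 := d25_2 (iv F56451) D15114 (iv D14304)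
def n15115 : Q := act 2 n14301
theorem D15115 : act 2 n14301 = n15115 := rfl
theorem F59725 : act 1 n15115 = n14499 := d8_1 D15115 (iv D14499) (iv F55935) F55936 (iv F56452)
theorem F59726 : act 3 n15115 = n14501 := d15_2 D14301 D15115 F57268 (iv F55213) F55212
theorem F59727 : act 4 n15115 = n14302 := d16_2 F57961 D15115 (iv F57960)
theorem F59728 : act 5 n15115 = n14500 := d17_2 F58629 D15115 (iv F58627)
theorem F59729 : act 6 n15115 = n14498 := d18_2 (iv F56453) D15115 (iv D14498)
theorem F59730 : act 7 n15115 = n15115 := d19_2 F56454 D15115 (iv D15115)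
theorem F59731 : act 8 n15115 = n14306 := d20_2 (iv F56455) D15115 (iv D14306)
def n15116 : Q := act 3 n14303
theorem D15116 : act 3 n14303 = n15116 := rfl
theorem F59732 : act 0 n15116 = n14305 := d2_1 D15116 (iv D14305) (iv F56459)
theorem F59733 : act 5 n15116 = n14304 := d22_2 (iv F56460) D15116 (iv D14304)
theorem F59734 : act 7 n15116 = n14383 := d24_2 D14303 D15116 (iv D14383) (iv D13482) (iv F52799)
def n15117 : Q := act 8 n14307
theorem D15117 : act 8 n14307 = n15117 := rfl
theorem F59735 : act 0 n15117 = n15117 := d7_1 D15117 (iv D15117) F56470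
theorem F59736 : act 1 n15117 = n14629 := d14_1 D15117 (iv D14629) (iv F56471)
theorem F59737 : act 3 n15117 = n14431 := d25_1 D15117 (iv D14431) (iv F56472)
theorem F59738 : act 4 n15117 = n14575 := d29_1 D15117 (iv F58666) F58663
theorem F59739 : act 5 n15117 = n14308 := d32_1 D15117 (iv D14308) D14307
def n15118 : Q := act 7 n14308
theorem D15118 : act 7 n14308 = n15118 := rfl
theorem F59740 : act 0 n15118 = n15118 := d6_1 D15118 (iv D15118) F56474
theorem F59741 : act 1 n15118 = n14631 := d13_1 D15118 (iv D14631) (iv F56475)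
theorem F59742 : act 4 n15118 = n14309 := d28_1 D15118 (iv D14309) (iv F56477)
theorem F59743 : act 6 n15118 = n14311 := d33_1 D15118 (iv D14311) (iv F56478)
theorem F59744 : act 8 n15118 = n14831 := d35_2 D14308 D15118 (iv D14831) (iv D13994) (iv F52821)
def n15119 : Q := act 3 n14311
theorem D15119 : act 3 n14311 = n15119 := rfl
theorem F59745 : act 0 n15119 = n15119 := d2_1 D15119 (iv D15119) F56487
theorem F59746 : act 4 n15119 = n14323 := d21_2 (iv F56488) D15119 (iv D14323) F52875 (iv F52833)
theorem F59747 : act 7 n15119 = n14433 := d24_2 D14311 D15119 (iv D14433) (iv D13561) (iv F52830)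
theorem F59748 : act 8 n15119 = n14839 := d25_2 (iv F56489) D15119 (iv D14839)
def n15120 : Q := act 3 n14312
theorem D15120 : act 3 n14312 = n15120 := rfl
theorem F59749 : act 0 n15120 = n15120 := d2_1 D15120 (iv D15120) F56490
theorem F59750 : act 5 n15120 = n14567 := d22_2 F56737 D15120 F57464
theorem F59751 : act 6 n15120 = n14323 := d23_2 (iv F56493) D15120 (iv D14323)
theorem F59752 : act 7 n15120 = n14434 := d24_2 D14312 D15120 (iv D14434) (iv D13562) (iv F52838)
def n15121 : Q := act 5 n14313
theorem D15121 : act 5 n14313 = n15121 := rfl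
theorem F59753 : act 0 n15121 = n14315 := d4_1 D15121 (iv D14315) (iv F56494)
theorem F59754 : act 1 n15121 = n15121 := d11_1 D15121 (iv D15121) F56495
theorem F59755 : act 3 n15121 = n15121 := d22_1 D15121 (iv D15121) F56496
theorem F59756 : act 4 n15121 = n14400 := d26_1 D15121 F58685 (iv D14832) F55313 D14313
theorem F59757 : act 7 n15121 = n14403 := d31_2 (iv F56498) D15121 F56905
theorem F59758 : act 6 n14408 = n15121 := d38_1 D14408 (iv D15121) (iv D14313) F52845 F48928 F44849 F41224 F39010 (iv F32142) F32141 (iv D6620) F18814 F13979 F38833 (iv D2629) (iv D1923) F5918 (iv D1409) (iv F5557) F5556 F5433 F5432 D1743 F7217 (iv F7255) (iv F9686) (iv F12948) D4446 (iv F23461) F37773 (iv F37769) F15326 F11769 F11768 D2956 F11794 F8813 F6609 D2171 F8816 (iv F11777) (iv F15334) (iv F18050) (iv F24364) D8687 (iv F41162) (iv F44815) (iv F48499) (iv F49581) (iv F53503) F53502 (iv F53505) D13845 D14684 F58045 F55436 F54692 F50998 D13290 D14199 F56131 F53385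
def n15122 : Q := act 8 n14313
theorem D15122 : act 8 n14313 = n15122 := rfl
theorem F59759 : act 0 n15122 = n14316 := d7_1 D15122 (iv D14316) (iv F56494)
theorem F59760 : act 1 n15122 = n15122 := d14_1 D15122 (iv D15122) F56495
theorem F59761 : act 3 n15122 = n15122 := d25_1 D15122 (iv D15122) F56496
theorem F59762 : act 4 n15122 = n14314 := d29_1 D15122 (iv D14314) D14313
theorem F59763 : act 6 n15122 = n14450 := d34_1 D15122 (iv D14450) (iv F56497)
def n15123 : Q := act 7 n14314
theorem D15123 : act 7 n14314 = n15123 := rfl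
theorem F59764 : act 0 n15123 = n14317 := d6_1 D15123 (iv D14317) (iv F56499)
theorem F59765 : act 1 n15123 = n15123 := d13_1 D15123 (iv D15123) F56500
theorem F59766 : act 3 n15123 = n14993 := d24_1 D15123 (iv D14993) F56035 F53368 (iv F56501)
theorem F59767 : act 6 n15123 = n14451 := d33_1 D15123 (iv D14451) (iv F56502)
theorem F59768 : act 8 n15123 = n14866 := d35_2 D14314 D15123 (iv D14866) (iv D14043) (iv F52847)
def n15124 : Q := act 6 n14315
theorem D15124 : act 6 n14315 = n15124 := rfl
theorem F59769 : act 0 n15124 = n14408 := d5_1 D15124 F59758 F59753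
theorem F59770 : act 1 n15124 = n14318 := d12_1 D15124 (iv D14318) (iv F56503)
theorem F59771 : act 3 n15124 = n15124 := d23_1 D15124 (iv D15124) F56504
theorem F59772 : act 4 n15124 = n14388 := d27_1 D15124 F56814 (iv F56505)
theorem F59773 : act 5 n15124 = n14506 := d30_1 D15124 (iv D14506) (iv D13640) (iv F52850) D14315
theorem F59774 : act 7 n15124 = n14384 := d33_2 (iv F56506) D15124 F56797
def n15125 : Q := act 8 n14315
theorem D15125 : act 8 n14315 = n15125 := rfl
theorem F59775 : act 1 n15125 = n14319 := d14_1 D15125 (iv D14319) (iv F56503)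
theorem F59776 : act 3 n15125 = n15125 := d25_1 D15125 (iv D15125) F56504
theorem F59777 : act 4 n15125 = n14425 := d29_1 D15125 F56997 (iv F56505)
theorem F59778 : act 5 n15125 = n14316 := d32_1 D15125 (iv D14316) D14315
def n15126 : Q := act 7 n14316
theorem D15126 : act 7 n14316 = n15126 := rfl
theorem F59779 : act 1 n15126 = n14320 := d13_1 D15126 (iv D14320) (iv F56507)
theorem F59780 : act 4 n15126 = n14317 := d28_1 D15126 (iv D14317) (iv F56509)
theorem F59781 : act 6 n15126 = n14508 := d33_1 D15126 (iv D14508) (iv F56510)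
theorem F59782 : act 8 n15126 = n15002 := d35_2 D14316 D15126 (iv D15002) (iv D14194) (iv F52851)
def n15127 : Q := act 8 n14318
theorem D15127 : act 8 n14318 = n15127 := rfl
theorem F59783 : act 0 n15127 = n15127 := d7_1 D15127 (iv D15127) F56514
theorem F59784 : act 2 n15127 = n14321 := d20_1 D15127 (iv D14321) (iv F56515)
theorem F59785 : act 3 n15127 = n15127 := d25_1 D15127 (iv D15127) F56516
theorem F59786 : act 4 n15127 = n14441 := d29_1 D15127 F57067 (iv F56517)
theorem F59787 : act 5 n15127 = n14558 := d32_1 D15127 (iv D14558) (iv F56518)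
theorem F59788 : act 6 n15127 = n14319 := d34_1 D15127 (iv D14319) D14318
def n15128 : Q := act 7 n14319
theorem D15128 : act 7 n14319 = n15128 := rfl
theorem F59789 : act 0 n15128 = n15128 := d6_1 D15128 (iv D15128) F56520
theorem F59790 : act 2 n15128 = n14322 := d19_1 D15128 (iv D14322) (iv F56521)
theorem F59791 : act 4 n15128 = n14368 := d28_1 D15128 F56731 (iv F56523)
theorem F59792 : act 5 n15128 = n14320 := d31_1 D15128 (iv D14320) (iv F56524)
theorem F59793 : act 8 n15128 = n14370 := d35_2 D14319 D15128 F56738 F53087 (iv F52859)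
def n15129 : Q := act 3 n14320
theorem D15129 : act 3 n14320 = n15129 := rfl
theorem F59794 : act 0 n15129 = n15129 := d2_1 D15129 (iv D15129) F56525
theorem F59795 : act 6 n15129 = n14560 := d23_2 (iv F56528) D15129 (iv D14560)
theorem F59796 : act 7 n15129 = n15129 := d24_2 D14320 D15129 (iv D15129) (iv D14320) F52862
theorem F59797 : act 8 n15129 = n15120 := d25_2 (iv F56529) D15129 (iv D15120)
def n15130 : Q := act 7 n14321
theorem D15130 : act 7 n14321 = n15130 := rfl
theorem F59798 : act 0 n15130 = n15130 := d6_1 D15130 (iv D15130) F56530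
theorem F59799 : act 6 n15130 = n14322 := d33_1 D15130 (iv D14322) (iv F56532)
def n15131 : Q := act 3 n14322
theorem D15131 : act 3 n14322 = n15131 := rfl
theorem F59800 : act 0 n15131 = n15131 := d2_1 D15131 (iv D15131) F56533
theorem F59801 : act 5 n15131 = n14323 := d22_2 (iv F56534) D15131 (iv D14323)
theorem F59802 : act 7 n15131 = n14435 := d24_2 D14322 D15131 (iv D14435) (iv D13564) (iv F52872)
def n15132 : Q := act 2 n14323
theorem D15132 : act 2 n14323 = n15132 := rfl
theorem F59803 : act 0 n15132 = n15132 := d1_1 D15132 (iv D15132) F56535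
theorem F59804 : act 7 n15132 = n14436 := d19_2 (iv F56536) D15132 (iv D14436)
def n15133 : Q := act 4 n14324
theorem D15133 : act 4 n14324 = n15133 := rfl
theorem F59805 : act 0 n15133 = n14330 := d3_1 D15133 (iv D14330) (iv F56537)
theorem F59806 : act 1 n15133 = n15133 := d10_1 D15133 (iv D15133) F56538
theorem F59807 : act 3 n15133 = n15133 := d21_1 D15133 (iv D15133) F56539 F52888 (iv F56539)
theorem F59808 : act 5 n15133 = n14927 := d26_2 D14324 D15133 (iv D14927) (iv D14092) (iv F52883)
def n15134 : Q := act 6 n14324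
theorem D15134 : act 6 n14324 = n15134 := rfl
theorem F59809 : act 0 n15134 = n14331 := d5_1 D15134 (iv D14331) (iv F56537)
theorem F59810 : act 1 n15134 = n15134 := d12_1 D15134 (iv D15134) F56538
theorem F59811 : act 3 n15134 = n14327 := d23_1 D15134 (iv D14327) (iv F56539)
theorem F59812 : act 5 n15134 = n14469 := d30_1 D15134 (iv D14469) (iv D13599) (iv F52884) D14324
theorem F59813 : act 7 n15133 = n15134 := d31_0 F59812 F59054 (iv F59808)
def n15135 : Q := act 7 n14324
theorem D15135 : act 7 n14324 = n15135 := rfl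
theorem F59814 : act 0 n15135 = n14332 := d6_1 D15135 (iv D14332) (iv F56537)
theorem F59815 : act 1 n15135 = n15135 := d13_1 D15135 (iv D15135) F56538
theorem F59816 : act 3 n15135 = n15135 := d24_1 D15135 (iv D15135) F56539 F52889 (iv F56539)
theorem F59817 : act 4 n15135 = n15134 := d28_1 D15135 (iv F59813) (iv D15133)
theorem F59818 : act 5 n15135 = n14325 := d31_1 D15135 (iv D14325) D14324
theorem F59819 : act 6 n15135 = n15133 := d33_1 D15135 F59813 (iv D15134)
def n15136 : Q := act 8 n14324
theorem D15136 : act 8 n14324 = n15136 := rfl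
theorem F59820 : act 0 n15136 = n14333 := d7_1 D15136 (iv D14333) (iv F56537)
theorem F59821 : act 1 n15136 = n15136 := d14_1 D15136 (iv D15136) F56538
theorem F59822 : act 3 n15136 = n14328 := d25_1 D15136 (iv D14328) (iv F56539)
theorem F59823 : act 5 n15136 = n14326 := d32_1 D15136 (iv D14326) D14324
def n15137 : Q := act 8 n14325
theorem D15137 : act 8 n14325 = n15137 := rfl
theorem F59824 : act 0 n15137 = n14334 := d7_1 D15137 (iv D14334) (iv F56540)
theorem F59825 : act 1 n15137 = n15137 := d14_1 D15137 (iv D15137) F56541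
theorem F59826 : act 3 n15137 = n15137 := d25_1 D15137 (iv D15137) F56542
theorem F59827 : act 4 n15137 = n14931 := d29_1 D15137 (iv D14931) (iv F56543)
theorem F59828 : act 6 n15137 = n14472 := d34_1 D15137 (iv D14472) (iv F56544)
def n15138 : Q := act 7 n14326
theorem D15138 : act 7 n14326 = n15138 := rfl
theorem F59829 : act 0 n15138 = n14335 := d6_1 D15138 (iv D14335) (iv F56545)
theorem F59830 : act 1 n15138 = n15138 := d13_1 D15138 (iv D15138) F56546
theorem F59831 : act 4 n15138 = n14932 := d28_1 D15138 (iv D14932) (iv F56548)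
theorem F59832 : act 6 n15138 = n14473 := d33_1 D15138 (iv D14473) (iv F56549)
def n15139 : Q := act 8 n14327
theorem D15139 : act 8 n14327 = n15139 := rfl
theorem F59833 : act 0 n15139 = n14336 := d7_1 D15139 (iv D14336) (iv F56550)
theorem F59834 : act 1 n15139 = n15139 := d14_1 D15139 (iv D15139) F56551
theorem F59835 : act 2 n15139 = n14374 := d20_1 D15139 (iv D14374) (iv F56552)
theorem F59836 : act 4 n15139 = n15139 := d29_1 D15139 (iv D15139) F56553
theorem F59837 : act 5 n15139 = n14474 := d32_1 D15139 (iv D14474) (iv F56554)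
theorem F59838 : act 6 n15139 = n14328 := d34_1 D15139 (iv D14328) D14327
def n15140 : Q := act 7 n14328
theorem D15140 : act 7 n14328 = n15140 := rfl
theorem F59839 : act 0 n15140 = n14337 := d6_1 D15140 (iv D14337) (iv F56556)
theorem F59840 : act 1 n15140 = n15140 := d13_1 D15140 (iv D15140) F56557
theorem F59841 : act 2 n15140 = n14375 := d19_1 D15140 (iv D14375) (iv F56558)
theorem F59842 : act 4 n15140 = n15140 := d28_1 D15140 (iv D15140) F56559
theorem F59843 : act 5 n15140 = n14329 := d31_1 D15140 (iv D14329) (iv F56560)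
theorem F59844 : act 8 n15140 = n15140 := d35_2 D14328 D15140 (iv D15140) (iv D14328) F52889
def n15141 : Q := act 3 n14329
theorem D15141 : act 3 n14329 = n15141 := rfl
theorem F59845 : act 0 n15141 = n14338 := d2_1 D15141 (iv D14338) (iv F56561)
theorem F59846 : act 1 n15141 = n15141 := d9_1 D15141 (iv D15141) F56562
theorem F59847 : act 6 n15141 = n14476 := d23_2 (iv F56565) D15141 (iv D14476)
theorem F59848 : act 8 n15141 = n15141 := d25_2 F56566 D15141 (iv D15141)
def n15142 : Q := act 8 n14330
theorem D15142 : act 8 n14330 = n15142 := rfl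
theorem F59849 : act 1 n15142 = n14340 := d14_1 D15142 (iv D14340) (iv F56567)
theorem F59850 : act 3 n15142 = n15142 := d25_1 D15142 (iv D15142) F56568
theorem F59851 : act 4 n15142 = n14333 := d29_1 D15142 (iv D14333) D14330
theorem F59852 : act 5 n15142 = n15082 := d32_1 D15142 (iv D15082) (iv F56569)
def n15143 : Q := act 8 n14331
theorem D15143 : act 8 n14331 = n15143 := rfl
theorem F59853 : act 1 n15143 = n14341 := d14_1 D15143 (iv D14341) (iv F56570)
theorem F59854 : act 3 n15143 = n14336 := d25_1 D15143 (iv D14336) (iv F56571)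
theorem F59855 : act 5 n15143 = n14531 := d32_1 D15143 (iv D14531) (iv F56572)
theorem F59856 : act 6 n15143 = n14333 := d34_1 D15143 (iv D14333) D14331
def n15144 : Q := act 8 n14332
theorem D15144 : act 8 n14332 = n15144 := rfl
theorem F59857 : act 1 n15144 = n14342 := d14_1 D15144 (iv D14342) (iv F56574)
theorem F59858 : act 3 n15144 = n15144 := d25_1 D15144 (iv D15144) F56575
theorem F59859 : act 4 n15144 = n15143 := d29_1 D15144 (iv D15143) (iv F56576)
theorem F59860 : act 5 n15144 = n14334 := d32_1 D15144 (iv D14334) (iv F56577)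
theorem F59861 : act 6 n15144 = n15142 := d34_1 D15144 (iv D15142) (iv F56578)
def n15145 : Q := act 7 n14333
theorem D15145 : act 7 n14333 = n15145 := rfl
theorem F59862 : act 1 n15145 = n14343 := d13_1 D15145 (iv D14343) (iv F56579)
theorem F59863 : act 5 n15145 = n14335 := d31_1 D15145 (iv D14335) (iv F56581)
def n15146 : Q := act 7 n14334
theorem D15146 : act 7 n14334 = n15146 := rfl
theorem F59864 : act 1 n15146 = n14344 := d13_1 D15146 (iv D14344) (iv F56582)
theorem F59865 : act 4 n15146 = n15086 := d28_1 D15146 (iv D15086) (iv F56584)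
theorem F59866 : act 6 n15146 = n14534 := d33_1 D15146 (iv D14534) (iv F56585)
theorem F59867 : act 8 n15146 = n14335 := d35_2 D14334 D15146 (iv D14335) (iv D13423) D13422
def n15147 : Q := act 3 n14335
theorem D15147 : act 3 n14335 = n15147 := rfl
theorem F59868 : act 1 n15147 = n14345 := d9_1 D15147 (iv D14345) (iv F56586)
theorem F59869 : act 6 n15147 = n14535 := d23_2 (iv F56588) D15147 (iv D14535)
theorem F59870 : act 7 n15147 = n14338 := d24_2 D14335 D15147 (iv D14338) (iv D13426) (iv F52908)
def n15148 : Q := act 7 n14336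
theorem D15148 : act 7 n14336 = n15148 := rfl
theorem F59871 : act 1 n15148 = n14346 := d13_1 D15148 (iv D14346) (iv F56589)
theorem F59872 : act 2 n15148 = n14377 := d19_1 D15148 (iv D14377) (iv F56590)
theorem F59873 : act 4 n15148 = n15148 := d28_1 D15148 (iv D15148) F56591
theorem F59874 : act 5 n15148 = n14536 := d31_1 D15148 (iv D14536) (iv F56592)
theorem F59875 : act 6 n15148 = n14337 := d33_1 D15148 (iv D14337) (iv F56593)
theorem F59876 : act 8 n15148 = n15148 := d35_2 D14336 D15148 (iv D15148) (iv D14336) F52915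
def n15149 : Q := act 3 n14337
theorem D15149 : act 3 n14337 = n15149 := rfl
theorem F59877 : act 1 n15149 = n14347 := d9_1 D15149 (iv D14347) (iv F56594)
theorem F59878 : act 5 n15149 = n14338 := d22_2 (iv F56597) D15149 (iv D14338)
theorem F59879 : act 8 n15149 = n15149 := d25_2 F56598 D15149 (iv D15149)
def n15150 : Q := act 2 n14338
theorem D15150 : act 2 n14338 = n15150 := rfl
theorem F59880 : act 3 n15150 = n14379 := d15_2 D14338 D15150 (iv D14379) (iv D13475) (iv F52921)
theorem F59881 : act 6 n15150 = n14538 := d18_2 (iv F56600) D15150 (iv D14538)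
theorem F59882 : act 8 n15150 = n15150 := d20_2 F56601 D15150 (iv D15150)
def n15151 : Q := act 4 n14338
theorem D15151 : act 4 n14338 = n15151 := rfl
theorem F59883 : act 1 n15151 = n14349 := d10_1 D15151 (iv D14349) (iv F56599)
theorem F59884 : act 3 n15151 = n14339 := d21_1 D15151 (iv D14339) (iv D13427) (iv F52922) D14338
theorem F59885 : act 6 n15151 = n14539 := d27_2 (iv F56600) D15151 (iv D14539)
theorem F59886 : act 8 n15151 = n15151 := d29_2 F56601 D15151 (iv D15151)
def n15152 : Q := act 5 n14339
theorem D15152 : act 5 n14339 = n15152 := rfl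
theorem F59887 : act 1 n15152 = n14350 := d11_1 D15152 (iv D14350) (iv F56602)
theorem F59888 : act 4 n15152 = n15152 := d26_1 D15152 (iv D15152) (iv D14339) F52926 D14339
theorem F59889 : act 6 n15152 = n14413 := d30_2 (iv F56603) D15152 F56955 (iv F56925) F56924
theorem F59890 : act 7 n15152 = n14412 := d31_2 (iv F56604) D15152 F56951
theorem F59891 : act 8 n15152 = n15152 := d32_2 F56605 D15152 (iv D15152)
def n15153 : Q := act 7 n14340
theorem D15153 : act 7 n14340 = n15153 := rfl
theorem F59892 : act 0 n15153 = n15153 := d6_1 D15153 (iv D15153) F56606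
theorem F59893 : act 2 n15153 = n14364 := d19_1 D15153 (iv D14364) (iv F56607)
theorem F59894 : act 4 n15153 = n14343 := d28_1 D15153 (iv D14343) (iv F56609)
def n15154 : Q := act 7 n14341
theorem D15154 : act 7 n14341 = n15154 := rfl
theorem F59895 : act 0 n15154 = n15154 := d6_1 D15154 (iv D15154) F56610
theorem F59896 : act 2 n15154 = n14365 := d19_1 D15154 (iv D14365) (iv F56611)
theorem F59897 : act 5 n15154 = n14562 := d31_1 D15154 (iv D14562) (iv F56613)
theorem F59898 : act 6 n15154 = n14343 := d33_1 D15154 (iv D14343) (iv F56614)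
theorem F59899 : act 8 n15154 = n15153 := d35_2 D14341 D15154 (iv D15153) (iv D14340) F52937
def n15155 : Q := act 7 n14342
theorem D15155 : act 7 n14342 = n15155 := rfl
theorem F59900 : act 0 n15155 = n15155 := d6_1 D15155 (iv D15155) F56615
theorem F59901 : act 2 n15155 = n14366 := d19_1 D15155 (iv D14366) (iv F56616)
theorem F59902 : act 4 n15155 = n15154 := d28_1 D15155 (iv D15154) (iv F56618)
theorem F59903 : act 5 n15155 = n14344 := d31_1 D15155 (iv D14344) (iv F56619)
theorem F59904 : act 6 n15155 = n15153 := d33_1 D15155 (iv D15153) (iv F56620)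
theorem F59905 : act 8 n15155 = n14343 := d35_2 D14342 D15155 (iv D14343) (iv D13431) D13430
def n15156 : Q := act 3 n14343
theorem D15156 : act 3 n14343 = n15156 := rfl
theorem F59906 : act 0 n15156 = n15156 := d2_1 D15156 (iv D15156) F56621
theorem F59907 : act 2 n15156 = n15119 := d15_1 D15156 (iv D15119) F56728 (iv D14367) (iv F56622)
theorem F59908 : act 5 n15156 = n14345 := d22_2 (iv F56623) D15156 (iv D14345)
theorem F59909 : act 7 n15156 = n14347 := d24_2 D14343 D15156 (iv D14347) (iv D13435) (iv F52946)
theorem F59910 : act 4 n15132 = n15156 := d28_3 F59909 (iv F57039) (iv F59804)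
def n15157 : Q := act 3 n14344
theorem D15157 : act 3 n14344 = n15157 := rfl
theorem F59911 : act 0 n15157 = n15157 := d2_1 D15157 (iv D15157) F56624
theorem F59912 : act 6 n15157 = n14565 := d23_2 (iv F56626) D15157 (iv D14565)
theorem F59913 : act 7 n15157 = n15157 := d24_2 D14344 D15157 (iv D15157) (iv D14344) F52950
theorem F59914 : act 8 n15157 = n14345 := d25_2 (iv F56627) D15157 (iv D14345)
def n15158 : Q := act 2 n14345
theorem D15158 : act 2 n14345 = n15158 := rfl
theorem F59915 : act 0 n15158 = n15158 := d1_1 D15158 (iv D15158) F56628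
theorem F59916 : act 3 n15158 = n14369 := d15_2 D14345 D15158 (iv D14369) (iv D13459) (iv F52953)
theorem F59917 : act 5 n15158 = n15119 := d17_2 F59908 D15158 (iv F59907)
theorem F59918 : act 6 n15158 = n14566 := d18_2 (iv F56629) D15158 (iv D14566)
theorem F59919 : act 7 n15158 = n14348 := d19_2 (iv F56630) D15158 (iv D14348)
def n15159 : Q := act 4 n14345
theorem D15159 : act 4 n14345 = n15159 := rfl
theorem F59920 : act 0 n15159 = n15159 := d3_1 D15159 (iv D15159) F56628
theorem F59921 : act 6 n15159 = n14567 := d27_2 (iv F56629) D15159 (iv D14567)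
theorem F59922 : act 7 n15159 = n14349 := d28_2 (iv F56630) D15159 (iv D14349)
def n15160 : Q := act 3 n14346
theorem D15160 : act 3 n14346 = n15160 := rfl
theorem F59923 : act 0 n15160 = n15160 := d2_1 D15160 (iv D15160) F56631
theorem F59924 : act 5 n15160 = n14568 := d22_2 (iv F56634) D15160 (iv D14568)
theorem F59925 : act 6 n15160 = n14347 := d23_2 (iv F56635) D15160 (iv D14347)
theorem F59926 : act 8 n15160 = n15160 := d25_2 F56636 D15160 (iv D15160)
def n15161 : Q := act 1 n14348
theorem D15161 : act 1 n14348 = n15161 := rfl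
theorem F59927 : act 3 n15161 = n14351 := d9_2 (iv F56641) D15161 (iv D14351)
theorem F59928 : act 6 n15161 = n14571 := d12_2 (iv F56642) D15161 (iv D14571)
theorem F59929 : act 8 n15161 = n15161 := d14_2 F56643 D15161 (iv D15161)
def n15162 : Q := act 4 n14348
theorem D15162 : act 4 n14348 = n15162 := rfl
theorem F59930 : act 0 n15162 = n15162 := d3_1 D15162 (iv D15162) F56640
theorem F59931 : act 2 n15162 = n14349 := d16_1 D15162 (iv D14349) D14348
theorem F59932 : act 3 n15162 = n15162 := d21_1 D15162 (iv D15162) F56641 F52984 (iv F56641)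
theorem F59933 : act 6 n15162 = n14572 := d27_2 (iv F56642) D15162 (iv D14572)
theorem F59934 : act 8 n15162 = n15162 := d29_2 F56643 D15162 (iv D15162)
def n15163 : Q := act 5 n14349
theorem D15163 : act 5 n14349 = n15163 := rfl
theorem F59935 : act 0 n15163 = n15163 := d4_1 D15163 (iv D15163) F56644
theorem F59936 : act 3 n15163 = n14350 := d22_1 D15163 (iv D14350) (iv F56645)
theorem F59937 : act 6 n15163 = n14435 := d30_2 (iv F56646) D15163 F57035 (iv F57032) F57031
theorem F59938 : act 8 n15163 = n15163 := d32_2 F56647 D15163 (iv D15163)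
def n15164 : Q := act 7 n14352
theorem D15164 : act 7 n14352 = n15164 := rfl
theorem F59939 : act 0 n15164 = n15164 := d6_1 D15164 (iv D15164) F56659
theorem F59940 : act 2 n15164 = n14561 := d19_1 D15164 (iv D14561) (iv F56660)
theorem F59941 : act 4 n15164 = n14355 := d28_1 D15164 (iv D14355) (iv F56662)
theorem F59942 : act 5 n15164 = n15153 := d31_1 D15164 (iv D15153) (iv F56663)
theorem F59943 : act 6 n15164 = n14563 := d33_1 D15164 (iv D14563) (iv F56664)
theorem F59944 : act 8 n15164 = n14562 := d35_2 D14352 D15164 (iv D14562) (iv D13701) F52993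
def n15165 : Q := act 7 n14353
theorem D15165 : act 7 n14353 = n15165 := rfl
theorem F59945 : act 0 n15165 = n15165 := d6_1 D15165 (iv D15165) F56665
theorem F59946 : act 2 n15165 = n14562 := d19_1 D15165 (iv D14562) (iv F56666)
theorem F59947 : act 4 n15165 = n14563 := d28_1 D15165 (iv D14563) (iv F56668)
theorem F59948 : act 5 n15165 = n14365 := d31_1 D15165 (iv D14365) (iv F56669)
theorem F59949 : act 6 n15165 = n14355 := d33_1 D15165 (iv D14355) (iv F56670)
theorem F59950 : act 8 n15165 = n14561 := d35_2 D14353 D15165 (iv D14561) (iv D13700) F52999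
def n15166 : Q := act 7 n14354
theorem D15166 : act 7 n14354 = n15166 := rfl
theorem F59951 : act 0 n15166 = n15166 := d6_1 D15166 (iv D15166) F56671
theorem F59952 : act 2 n15166 = n14563 := d19_1 D15166 (iv D14563) (iv F56672)
theorem F59953 : act 4 n15166 = n14562 := d28_1 D15166 (iv D14562) (iv F56674)
theorem F59954 : act 5 n15166 = n14356 := d31_1 D15166 (iv D14356) (iv F56675)
theorem F59955 : act 6 n15166 = n14561 := d33_1 D15166 (iv D14561) (iv F56676)
theorem F59956 : act 8 n15166 = n14355 := d35_2 D14354 D15166 (iv D14355) (iv D13444) D13443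
def n15167 : Q := act 3 n14355
theorem D15167 : act 3 n14355 = n15167 := rfl
theorem F59957 : act 0 n15167 = n15167 := d2_1 D15167 (iv D15167) F56677
theorem F59958 : act 5 n15167 = n14357 := d22_2 (iv F56679) D15167 (iv D14357)
theorem F59959 : act 7 n15167 = n14359 := d24_2 D14355 D15167 (iv D14359) (iv D13448) (iv F53008)
def n15168 : Q := act 3 n14356
theorem D15168 : act 3 n14356 = n15168 := rfl
theorem F59960 : act 0 n15168 = n15168 := d2_1 D15168 (iv D15168) F56680
theorem F59961 : act 6 n15168 = n14368 := d23_2 (iv F56683) D15168 (iv D14368)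
theorem F59962 : act 7 n15168 = n14441 := d24_2 D14356 D15168 (iv D14441) (iv D13570) (iv F53012)
theorem F59963 : act 8 n15168 = n14357 := d25_2 (iv F56684) D15168 (iv D14357)
def n15169 : Q := act 2 n14357
theorem D15169 : act 2 n14357 = n15169 := rfl
theorem F59964 : act 0 n15169 = n15169 := d1_1 D15169 (iv D15169) F56685
theorem F59965 : act 3 n15169 = n14566 := d15_2 D14357 D15169 (iv D14566) (iv D13705) (iv F53016)
theorem F59966 : act 6 n15169 = n14369 := d18_2 (iv F56686) D15169 (iv D14369)
theorem F59967 : act 7 n15169 = n14360 := d19_2 (iv F56687) D15169 (iv D14360)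
def n15170 : Q := act 4 n14357
theorem D15170 : act 4 n14357 = n15170 := rfl
theorem F59968 : act 0 n15170 = n15170 := d3_1 D15170 (iv D15170) F56685
theorem F59969 : act 3 n15170 = n15159 := d21_1 D15170 (iv D15159) (iv D14345) (iv F53017) D14357
theorem F59970 : act 6 n15170 = n14370 := d27_2 (iv F56686) D15170 (iv D14370)
theorem F59971 : act 7 n15170 = n14361 := d28_2 (iv F56687) D15170 (iv D14361)
theorem F59972 : act 5 n15130 = n15170 := d31_3 F59971 (iv F56705) D15130
def n15171 : Q := act 3 n14358
theorem D15171 : act 3 n14358 = n15171 := rfl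
theorem F59973 : act 0 n15171 = n15171 := d2_1 D15171 (iv D15171) F56688
theorem F59974 : act 2 n15171 = n15117 := d15_1 D15171 F59737 F57013 F54081 (iv F56689)
theorem F59975 : act 5 n15171 = n14371 := d22_2 (iv F56691) D15171 (iv D14371)
theorem F59976 : act 6 n15171 = n14359 := d23_2 (iv F56692) D15171 (iv D14359)
theorem F59977 : act 8 n15171 = n14442 := d25_2 (iv F56693) D15171 (iv D14442)
theorem F59978 : act 4 n14830 = n15171 := d29_3 F59977 (iv F57072) D14830
def n15172 : Q := act 2 n14359
theorem D15172 : act 2 n14359 = n15172 := rfl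
theorem F59979 : act 0 n15172 = n15172 := d1_1 D15172 (iv D15172) F56694
theorem F59980 : act 3 n15172 = n14362 := d15_2 D14359 D15172 (iv D14362) (iv D13452) (iv F53025)
theorem F59981 : act 5 n15172 = n14360 := d17_2 (iv F56695) D15172 (iv D14360)
theorem F59982 : act 6 n15172 = n15117 := d18_2 F59976 D15172 (iv F59974)
theorem F59983 : act 8 n15172 = n14443 := d20_2 (iv F56696) D15172 (iv D14443)
def n15173 : Q := act 4 n14359
theorem D15173 : act 4 n14359 = n15173 := rfl
theorem F59984 : act 0 n15173 = n15173 := d3_1 D15173 (iv D15173) F56694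
theorem F59985 : act 3 n15173 = n15173 := d21_1 D15173 (iv D15173) (iv D14359) F53026 D14359
theorem F59986 : act 5 n15173 = n14837 := d26_2 (iv F56695) D15173 F58706 F56705 (iv D14361)
theorem F59987 : act 6 n15173 = n14830 := d27_2 F59976 D15173 F59978
theorem F59988 : act 8 n15173 = n14444 := d29_2 (iv F56696) D15173 (iv D14444)
def n15174 : Q := act 1 n14360
theorem D15174 : act 1 n14360 = n15174 := rfl
theorem F59989 : act 3 n15174 = n14363 := d9_2 (iv F56698) D15174 (iv D14363)
theorem F59990 : act 6 n15174 = n14372 := d12_2 (iv F56699) D15174 (iv D14372)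
theorem F59991 : act 8 n15174 = n14445 := d14_2 (iv F56700) D15174 (iv D14445)
def n15175 : Q := act 3 n14364
theorem D15175 : act 3 n14364 = n15175 := rfl
theorem F59992 : act 0 n15175 = n15175 := d2_1 D15175 (iv D15175) F56715
theorem F59993 : act 4 n15175 = n14829 := d21_2 (iv F56716) D15175 F58669 F56729 (iv D14367)
theorem F59994 : act 6 n15175 = n14836 := d23_2 F56723 D15175 F58699
theorem F59995 : act 7 n15175 = n14373 := d24_2 D14364 D15175 (iv D14373) (iv D13465) (iv F53054)
theorem F59996 : act 2 n14831 = n15175 := d19_3 F59995 (iv F56751) D14831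
def n15176 : Q := act 3 n14365
theorem D15176 : act 3 n14365 = n15176 := rfl
theorem F59997 : act 0 n15176 = n15176 := d2_1 D15176 (iv D15176) F56717
theorem F59998 : act 4 n15176 = n14825 := d21_2 F56721 D15176 F58645 (iv F58700) F58699
theorem F59999 : act 6 n15176 = n14367 := d23_2 (iv F56718) D15176 (iv D14367)
theorem F60000 : act 7 n15176 = n14371 := d24_2 D14365 D15176 (iv D14371) (iv D13460) (iv F53057)
theorem F60001 : act 8 n15176 = n15175 := d25_2 (iv F56719) D15176 (iv D15175)
theorem F60002 : act 2 n15118 = n15176 := d20_3 F60001 (iv F59996) (iv F59744)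
def n15177 : Q := act 1 n14369
theorem D15177 : act 1 n14369 = n15177 := rfl
theorem F60003 : act 5 n15177 = n14971 := d11_2 (iv F56734) D15177 F59239
theorem F60004 : act 7 n15177 = n14372 := d13_2 (iv F56735) D15177 (iv D14372)
def n15178 : Q := act 7 n14374
theorem D15178 : act 7 n14374 = n15178 := rfl
theorem F60005 : act 0 n15178 = n14377 := d6_1 D15178 (iv D14377) (iv F56752)
theorem F60006 : act 1 n15178 = n14382 := d13_1 D15178 (iv D14382) (iv F56753)
theorem F60007 : act 4 n15178 = n15178 := d28_1 D15178 (iv D15178) F56754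
theorem F60008 : act 5 n15178 = n14478 := d31_1 D15178 (iv D14478) (iv F56755)
theorem F60009 : act 6 n15178 = n14375 := d33_1 D15178 (iv D14375) (iv F56756)
theorem F60010 : act 8 n15178 = n15178 := d35_2 D14374 D15178 (iv D15178) (iv D14374) F53126
def n15179 : Q := act 3 n14375
theorem D15179 : act 3 n14375 = n15179 := rfl
theorem F60011 : act 0 n15179 = n14378 := d2_1 D15179 (iv D14378) (iv F56757)
theorem F60012 : act 1 n15179 = n14383 := d9_1 D15179 (iv D14383) (iv F56758)
theorem F60013 : act 5 n15179 = n14376 := d22_2 (iv F56760) D15179 (iv D14376)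
theorem F60014 : act 8 n15179 = n15179 := d25_2 F56761 D15179 (iv D15179)
def n15180 : Q := act 2 n14376
theorem D15180 : act 2 n14376 = n15180 := rfl
theorem F60015 : act 0 n15180 = n14379 := d1_1 D15180 (iv D14379) (iv F56762)
theorem F60016 : act 6 n15180 = n14480 := d18_2 (iv F56764) D15180 (iv D14480)
theorem F60017 : act 8 n15180 = n15180 := d20_2 F56765 D15180 (iv D15180)
def n15181 : Q := act 2 n14378
theorem D15181 : act 2 n14378 = n15181 := rfl
theorem F60018 : act 5 n15181 = n14379 := d17_2 (iv F56772) D15181 (iv D14379)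
theorem F60019 : act 8 n15181 = n15181 := d20_2 F56773 D15181 (iv D15181)
def n15182 : Q := act 4 n14378
theorem D15182 : act 4 n14378 = n15182 := rfl
theorem F60020 : act 1 n15182 = n14380 := d10_1 D15182 (iv D14380) (iv F56771)
theorem F60021 : act 3 n15182 = n15182 := d21_1 D15182 (iv D15182) (iv D14378) F53141 D14378
theorem F60022 : act 6 n15182 = n14493 := d27_2 F57931 D15182 (iv F57929)
theorem F60023 : act 8 n15182 = n15182 := d29_2 F56773 D15182 (iv D15182)
def n15183 : Q := act 1 n14379
theorem D15183 : act 1 n14379 = n15183 := rfl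
theorem F60024 : act 2 n15183 = n14381 := d8_2 D14379 D15183 (iv D14381) (iv D13478) (iv F53144)
theorem F60025 : act 6 n15183 = n14543 := d12_2 (iv F56774) D15183 (iv D14543)
theorem F60026 : act 8 n15183 = n15183 := d14_2 F56775 D15183 (iv D15183)
def n15184 : Q := act 7 n14385
theorem D15184 : act 7 n14385 = n15184 := rfl
theorem F60027 : act 0 n15184 = n14413 := d6_1 D15184 (iv D14413) (iv F56798)
theorem F60028 : act 1 n15184 = n15184 := d13_1 D15184 (iv D15184) F56799
theorem F60029 : act 2 n15184 = n15152 := d19_1 D15184 F59890 F56949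
theorem F60030 : act 4 n15184 = n15184 := d28_1 D15184 (iv D15184) F56800
theorem F60031 : act 5 n15184 = n14386 := d31_1 D15184 (iv D14386) (iv F56801)
theorem F60032 : act 8 n15184 = n15184 := d35_2 D14385 D15184 (iv D15184) (iv D14385) F53215
def n15185 : Q := act 3 n14386
theorem D15185 : act 3 n14386 = n15185 := rfl
theorem F60033 : act 0 n15185 = n14414 := d2_1 D15185 (iv D14414) (iv F56802)
theorem F60034 : act 1 n15185 = n15185 := d9_1 D15185 (iv D15185) F56803
theorem F60035 : act 4 n15185 = n14767 := d21_2 (iv F56805) D15185 (iv D14767) F54909 (iv F53222)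
theorem F60036 : act 6 n15185 = n14779 := d23_2 (iv F56806) D15185 F58398
theorem F60037 : act 8 n15185 = n15185 := d25_2 F56807 D15185 (iv D15185)
def n15186 : Q := act 4 n14387
theorem D15186 : act 4 n14387 = n15186 := rfl
theorem F60038 : act 0 n15186 = n14415 := d3_1 D15186 (iv D14415) (iv F56808)
theorem F60039 : act 1 n15186 = n14444 := d10_1 D15186 (iv D14444) (iv F56809)
theorem F60040 : act 3 n15186 = n15186 := d21_1 D15186 (iv D15186) F56810 F53232 (iv F56810)
theorem F60041 : act 5 n15186 = n14696 := d26_2 D14387 D15186 F58090 (iv F56796) F56795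
theorem F60042 : act 6 n14628 = n15186 := d30_0 F60041 (iv D14696) (iv D13852) (iv F54267) (iv F57740)
theorem F60043 : act 7 n14627 = n15186 := d31_0 F60041 F58091 (iv F57736)
def n15187 : Q := act 6 n14387
theorem D15187 : act 6 n14387 = n15187 := rfl
theorem F60044 : act 0 n15187 = n14416 := d5_1 D15187 (iv D14416) (iv F56808)
theorem F60045 : act 1 n15187 = n14442 := d12_1 D15187 F57071 (iv F56809)
theorem F60046 : act 3 n15187 = n14389 := d23_1 D15187 (iv D14389) (iv F56810)
theorem F60047 : act 4 n15187 = n14628 := d27_1 D15187 F60042 (iv D15186)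
theorem F60048 : act 5 n15187 = n14427 := d30_1 D15187 F57001 F53492 (iv F53228) D14387
theorem F60049 : act 7 n14626 = n15187 := d31_0 F60048 (iv F58653) F58651
def n15188 : Q := act 7 n14387
theorem D15188 : act 7 n14387 = n15188 := rfl
theorem F60050 : act 0 n15188 = n14417 := d6_1 D15188 (iv D14417) (iv F56808)
theorem F60051 : act 1 n15188 = n14440 := d13_1 D15188 F57064 (iv F56809)
theorem F60052 : act 3 n15188 = n14392 := d24_1 D15188 (iv D14392) F53242 (iv F53233) (iv F56810)
theorem F60053 : act 4 n15188 = n14627 := d28_1 D15188 F60043 (iv D15186)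
theorem F60054 : act 5 n15188 = n14388 := d31_1 D15188 (iv D14388) D14387
theorem F60055 : act 6 n15188 = n14626 := d33_1 D15188 F60049 (iv D15187)
def n15189 : Q := act 8 n14388
theorem D15189 : act 8 n14388 = n15189 := rfl
theorem F60056 : act 0 n15189 = n14419 := d7_1 D15189 (iv D14419) (iv F56811)
theorem F60057 : act 1 n15189 = n14441 := d14_1 D15189 F57067 (iv F56812)
theorem F60058 : act 3 n15189 = n14393 := d25_1 D15189 (iv D14393) (iv F56813)
theorem F60059 : act 6 n15189 = n14425 := d34_1 D15189 F56997 (iv F56814)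
def n15190 : Q := act 8 n14392
theorem D15190 : act 8 n14392 = n15190 := rfl
theorem F60060 : act 0 n15190 = n14422 := d7_1 D15190 (iv D14422) (iv F56837)
theorem F60061 : act 1 n15190 = n14439 := d14_1 D15190 F57061 (iv F56838)
theorem F60062 : act 2 n15190 = n14398 := d20_1 D15190 (iv D14398) (iv F56839)
theorem F60063 : act 4 n15190 = n14545 := d29_1 D15190 F57384 (iv F56840)
theorem F60064 : act 5 n15190 = n14393 := d32_1 D15190 (iv D14393) (iv F56841)
theorem F60065 : act 6 n15190 = n14544 := d34_1 D15190 F57378 (iv F56842)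
theorem F60066 : act 7 n15190 = n14423 := d35_1 D15190 (iv D14423) (iv D13542) (iv F53243) D14392
def n15191 : Q := act 8 n14396
theorem D15191 : act 8 n14396 = n15191 := rfl
theorem F60067 : act 0 n15191 = n14423 := d7_1 D15191 (iv D14423) (iv F56865)
theorem F60068 : act 1 n15191 = n15191 := d14_1 D15191 (iv D15191) F56866
theorem F60069 : act 2 n15191 = n14424 := d20_1 D15191 F56995 (iv F56867)
theorem F60070 : act 4 n15191 = n14482 := d29_1 D15191 (iv D14482) (iv F56868)
theorem F60071 : act 5 n15191 = n14397 := d32_1 D15191 (iv D14397) (iv F56869)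
theorem F60072 : act 6 n15191 = n14481 := d34_1 D15191 (iv D14481) (iv F56870)
theorem F60073 : act 7 n15191 = n14422 := d35_1 D15191 (iv D14422) (iv D13538) (iv F53259) D14396
def n15192 : Q := act 3 n14399
theorem D15192 : act 3 n14399 = n15192 := rfl
theorem F60074 : act 0 n15192 = n14425 := d2_1 D15192 (iv D14425) (iv F56882)
theorem F60075 : act 1 n15192 = n15192 := d9_1 D15192 (iv D15192) F56883
theorem F60076 : act 6 n15192 = n14419 := d23_2 (iv F56886) D15192 F56976
theorem F60077 : act 8 n15192 = n14400 := d25_2 (iv F56887) D15192 (iv D14400)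
def n15193 : Q := act 3 n14404
theorem D15193 : act 3 n14404 = n15193 := rfl
theorem F60078 : act 0 n15193 = n14767 := d2_1 D15193 (iv D14767) (iv F56907)
theorem F60079 : act 1 n15193 = n14433 := d9_1 D15193 (iv D14433) (iv F56908)
theorem F60080 : act 4 n15193 = n14414 := d21_2 (iv F56910) D15193 (iv D14414) F53411 (iv F53354)
theorem F60081 : act 5 n15193 = n15161 := d22_2 (iv F56911) D15193 F59927
theorem F60082 : act 6 n15193 = n14633 := d23_2 (iv F56912) D15193 (iv D14633)
theorem F60083 : act 8 n15193 = n15193 := d25_2 F56913 D15193 (iv D15193)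
def n15194 : Q := act 3 n14406
theorem D15194 : act 3 n14406 = n15194 := rfl
theorem F60084 : act 0 n15194 = n14779 := d2_1 D15194 F58398 (iv F56921)
theorem F60085 : act 1 n15194 = n14434 := d9_1 D15194 (iv D14434) (iv F56922)
theorem F60086 : act 4 n15194 = n14633 := d21_2 (iv F56923) D15194 (iv D14633) F54282 (iv F53381)
theorem F60087 : act 5 n15194 = n14539 := d22_2 (iv F56924) D15194 F57361
theorem F60088 : act 6 n15194 = n14414 := d23_2 (iv F56925) D15194 (iv D14414)
theorem F60089 : act 8 n15194 = n15194 := d25_2 F56926 D15194 (iv D15194)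
def n15195 : Q := act 4 n14407
theorem D15195 : act 4 n14407 = n15195 := rfl
theorem F60090 : act 0 n15195 = n14696 := d3_1 D15195 F58090 (iv F56927)
theorem F60091 : act 1 n15195 = n15195 := d10_1 D15195 (iv D15195) F56928
theorem F60092 : act 3 n15195 = n15195 := d21_1 D15195 (iv D15195) F56929 F53389 (iv F56929)
theorem F60093 : act 5 n15195 = n14415 := d26_2 D14407 D15195 (iv D14415) (iv D13530) (iv F53386)
theorem F60094 : act 6 n15195 = n14580 := d27_2 (iv F56930) D15195 F57518
theorem F60095 : act 7 n14762 = n15195 := d33_0 F60094 F57519 D14762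
def n15196 : Q := act 7 n14407
theorem D15196 : act 7 n14407 = n15196 := rfl
theorem F60096 : act 0 n15196 = n14506 := d6_1 D15196 F57283 (iv F56927)
theorem F60097 : act 1 n15196 = n15196 := d13_1 D15196 (iv D15196) F56928
theorem F60098 : act 3 n15196 = n15196 := d24_1 D15196 (iv D15196) F56929 F53391 (iv F56929)
theorem F60099 : act 4 n15196 = n14762 := d28_1 D15196 F60095 (iv D15195)
theorem F60100 : act 5 n15196 = n14408 := d31_1 D15196 (iv D14408) D14407
theorem F60101 : act 6 n15196 = n14449 := d33_1 D15196 F57099 (iv F56930)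
def n15197 : Q := act 8 n14407
theorem D15197 : act 8 n14407 = n15197 := rfl
theorem F60102 : act 0 n15197 = n15016 := d7_1 D15197 (iv D15016) (iv F56927)
theorem F60103 : act 1 n15197 = n15197 := d14_1 D15197 (iv D15197) F56928
theorem F60104 : act 3 n15197 = n14410 := d25_1 D15197 (iv D14410) (iv F56929)
theorem F60105 : act 5 n15197 = n14409 := d32_1 D15197 (iv D14409) D14407
theorem F60106 : act 6 n15197 = n14874 := d34_1 D15197 (iv D14874) (iv F56930)
def n15198 : Q := act 8 n14408
theorem D15198 : act 8 n14408 = n15198 := rfl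
theorem F60107 : act 1 n15198 = n15198 := d14_1 D15198 (iv D15198) F56931
theorem F60108 : act 3 n15198 = n15198 := d25_1 D15198 (iv D15198) F56932
theorem F60109 : act 4 n15198 = n14419 := d29_1 D15198 (iv D14419) (iv F56933)
def n15199 : Q := act 7 n14409
theorem D15199 : act 7 n14409 = n15199 := rfl
theorem F60110 : act 1 n15199 = n15199 := d13_1 D15199 (iv D15199) F56934
theorem F60111 : act 4 n15199 = n14420 := d28_1 D15199 (iv D14420) (iv F56936)
def n15200 : Q := act 7 n14410
theorem D15200 : act 7 n14410 = n15200 := rfl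
theorem F60112 : act 0 n15200 = n15152 := d6_1 D15200 F59890 F56947
theorem F60113 : act 1 n15200 = n15200 := d13_1 D15200 (iv D15200) F56937
theorem F60114 : act 2 n15200 = n14413 := d19_1 D15200 (iv D14413) (iv F56938)
theorem F60115 : act 4 n15200 = n15200 := d28_1 D15200 (iv D15200) F56939
theorem F60116 : act 5 n15200 = n14411 := d31_1 D15200 (iv D14411) (iv F56940)
theorem F60117 : act 6 n15200 = n15184 := d33_1 D15200 (iv D15184) (iv F56941)
theorem F60118 : act 8 n15200 = n15200 := d35_2 D14410 D15200 (iv D15200) (iv D14410) F53391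
def n15201 : Q := act 3 n14411
theorem D15201 : act 3 n14411 = n15201 := rfl
theorem F60119 : act 0 n15201 = n15151 := d2_1 D15201 F59884 (iv F56942)
theorem F60120 : act 1 n15201 = n15201 := d9_1 D15201 (iv D15201) F56943
theorem F60121 : act 4 n15201 = n15141 := d21_2 (iv F56945) D15201 (iv D15141) F56564 (iv F53398)
theorem F60122 : act 8 n15201 = n15201 := d25_2 F56946 D15201 (iv D15201)
def n15202 : Q := act 3 n14413
theorem D15202 : act 3 n14413 = n15202 := rfl
theorem F60123 : act 1 n15202 = n14435 := d9_1 D15202 (iv D14435) (iv F56953)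
theorem F60124 : act 5 n15202 = n14414 := d22_2 (iv F56955) D15202 (iv D14414)
theorem F60125 : act 8 n15202 = n15202 := d25_2 F56956 D15202 (iv D15202)
def n15203 : Q := act 2 n14414
theorem D15203 : act 2 n14414 = n15203 := rfl
theorem F60126 : act 8 n15203 = n15203 := d20_2 F56958 D15203 (iv D15203)
def n15204 : Q := act 8 n14415
theorem D15204 : act 8 n14415 = n15204 := rfl
theorem F60127 : act 1 n15204 = n15204 := d14_1 D15204 (iv D15204) F56959
theorem F60128 : act 3 n15204 = n15204 := d25_1 D15204 (iv D15204) F56960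
theorem F60129 : act 4 n15204 = n14418 := d29_1 D15204 (iv D14418) D14415
theorem F60130 : act 6 n15204 = n14772 := d34_1 D15204 (iv D14772) (iv F56965)
def n15205 : Q := act 8 n14416
theorem D15205 : act 8 n14416 = n15205 := rfl
theorem F60131 : act 1 n15205 = n15205 := d14_1 D15205 (iv D15205) F56961
theorem F60132 : act 3 n15205 = n14421 := d25_1 D15205 (iv D14421) (iv F56962)
theorem F60133 : act 4 n15205 = n14772 := d29_1 D15205 (iv D14772) F56964
theorem F60134 : act 6 n15205 = n14418 := d34_1 D15205 (iv D14418) D14416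
def n15206 : Q := act 8 n14417
theorem D15206 : act 8 n14417 = n15206 := rfl
theorem F60135 : act 1 n15206 = n15206 := d14_1 D15206 (iv D15206) F56967
theorem F60136 : act 3 n15206 = n14422 := d25_1 D15206 (iv D14422) (iv F56968)
theorem F60137 : act 4 n15206 = n14771 := d29_1 D15206 (iv D14771) (iv F56969)
theorem F60138 : act 5 n15206 = n14419 := d32_1 D15206 (iv D14419) (iv F56970)
theorem F60139 : act 6 n15206 = n14770 := d34_1 D15206 (iv D14770) (iv F56971)
def n15207 : Q := act 7 n14418
theorem D15207 : act 7 n14418 = n15207 := rfl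
theorem F60140 : act 1 n15207 = n15207 := d13_1 D15207 (iv D15207) F56972
theorem F60141 : act 5 n15207 = n14420 := d31_1 D15207 (iv D14420) (iv F56974)
def n15208 : Q := act 7 n14419
theorem D15208 : act 7 n14419 = n15208 := rfl
theorem F60142 : act 1 n15208 = n15208 := d13_1 D15208 (iv D15208) F56975
theorem F60143 : act 8 n15208 = n14420 := d35_2 D14419 D15208 (iv D14420) (iv D13532) D13531
def n15209 : Q := act 2 n14425
theorem D15209 : act 2 n14425 = n15209 := rfl
theorem F60144 : act 8 n15209 = n14426 := d20_2 (iv F56997) D15209 (iv D14426)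
def n15210 : Q := act 3 n14432
theorem D15210 : act 3 n14432 = n15210 := rfl
theorem F60145 : act 0 n15210 = n15210 := d2_1 D15210 (iv D15210) F57018
theorem F60146 : act 1 n15210 = n14633 := d9_1 D15210 (iv D14633) (iv F57019)
theorem F60147 : act 2 n15210 = n15160 := d15_1 D15210 (iv D15160) F56632 (iv F54088) (iv F57020)
theorem F60148 : act 4 n15210 = n14434 := d21_2 (iv F57021) D15210 (iv D14434) F53538 (iv F53519)
theorem F60149 : act 5 n15210 = n14570 := d22_2 (iv F57022) D15210 F57476
theorem F60150 : act 6 n15210 = n14433 := d23_2 (iv F57023) D15210 (iv D14433)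
theorem F60151 : act 8 n15210 = n15210 := d25_2 F57024 D15210 (iv D15210)
def n15211 : Q := act 2 n14434
theorem D15211 : act 2 n14434 = n15211 := rfl
theorem F60152 : act 0 n15211 = n15211 := d1_1 D15211 (iv D15211) F57030
theorem F60153 : act 3 n15211 = n15211 := d15_2 D14434 D15211 (iv D15211) (iv D14434) F53537
theorem F60154 : act 4 n15211 = n15160 := d16_2 F60148 D15211 (iv F60147)
theorem F60155 : act 5 n15211 = n14572 := d17_2 (iv F57031) D15211 F57482
theorem F60156 : act 6 n15211 = n14436 := d18_2 (iv F57032) D15211 (iv D14436)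
theorem F60157 : act 8 n15211 = n15211 := d20_2 F57033 D15211 (iv D15211)
def n15212 : Q := act 2 n14435
theorem D15212 : act 2 n14435 = n15212 := rfl
theorem F60158 : act 0 n15212 = n15212 := d1_1 D15212 (iv D15212) F57034
theorem F60159 : act 3 n15212 = n15212 := d15_2 D14435 D15212 (iv D15212) (iv D14435) F53548
theorem F60160 : act 5 n15212 = n14436 := d17_2 (iv F57035) D15212 (iv D14436)
theorem F60161 : act 8 n15212 = n15212 := d20_2 F57036 D15212 (iv D15212)
theorem F60162 : act 4 n15163 = n15212 := d26_5 F60160 F57039 F56638 D14349 D15163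
def n15213 : Q := act 4 n14435
theorem D15213 : act 4 n14435 = n15213 := rfl
theorem F60163 : act 0 n15213 = n15213 := d3_1 D15213 (iv D15213) F57034
theorem F60164 : act 2 n15213 = n15163 := d16_1 D15213 F60162 (iv D15212)
theorem F60165 : act 3 n15213 = n15213 := d21_1 D15213 (iv D15213) (iv D14435) F53549 D14435
theorem F60166 : act 5 n15213 = n15162 := d26_2 (iv F57035) D15213 (iv D15162) (iv F57028) F57027
theorem F60167 : act 6 n15213 = n15212 := d27_2 F59937 D15213 (iv F60162)
theorem F60168 : act 8 n15213 = n15213 := d29_2 F57036 D15213 (iv D15213)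
def n15214 : Q := act 1 n14436
theorem D15214 : act 1 n14436 = n15214 := rfl
theorem F60169 : act 3 n15214 = n15214 := d9_2 F57038 D15214 (iv D15214)
theorem F60170 : act 4 n15214 = n15149 := d10_2 (iv F57039) D15214 F59877
theorem F60171 : act 8 n15214 = n15214 := d14_2 F57040 D15214 (iv D15214)
def n15215 : Q := act 3 n14439
theorem D15215 : act 3 n14439 = n15215 := rfl
theorem F60172 : act 0 n15215 = n15215 := d2_1 D15215 (iv D15215) F57056
theorem F60173 : act 4 n15215 = n15172 := d21_2 (iv F57058) D15215 F59980 (iv F57503) (iv D14576)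
theorem F60174 : act 5 n15215 = n14441 := d22_2 (iv F57059) D15215 (iv D14441)
theorem F60175 : act 6 n15215 = n14575 := d23_2 (iv F57060) D15215 (iv D14575)
theorem F60176 : act 8 n15215 = n14440 := d25_2 (iv F57061) D15215 (iv D14440)
theorem F60177 : act 2 n15173 = n15215 := d20_3 F60176 (iv F57079) (iv F59988)
def n15216 : Q := act 4 n14446
theorem D15216 : act 4 n14446 = n15216 := rfl
theorem F60178 : act 1 n15216 = n14447 := d10_1 D15216 (iv D14447) D14446
theorem F60179 : act 2 n15216 = n15216 := d16_1 D15216 (iv D15216) F57086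
theorem F60180 : act 7 n15216 = n14868 := d28_2 (iv F57088) D15216 (iv D14868)
def n15217 : Q := act 8 n14446
theorem D15217 : act 8 n14446 = n15217 := rfl
theorem F60181 : act 1 n15217 = n14448 := d14_1 D15217 (iv D14448) D14446
theorem F60182 : act 2 n15217 = n15217 := d20_1 D15217 (iv D15217) F57086
theorem F60183 : act 3 n15217 = n14452 := d25_1 D15217 (iv D14452) (iv F57087)
def n15218 : Q := act 3 n14447
theorem D15218 : act 3 n14447 = n15218 := rfl
theorem F60184 : act 0 n15218 = n14502 := d2_1 D15218 (iv D14502) (iv F57089)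
theorem F60185 : act 2 n15218 = n15218 := d15_1 D15218 (iv D15218) F57090 F53628 (iv F57090)
theorem F60186 : act 4 n15218 = n14453 := d21_2 D14447 D15218 (iv D14453) (iv D13587) (iv F53624)
theorem F60187 : act 5 n15216 = n15218 := d26_0 F60186 (iv F58220) F58219 F58193 D15216
def n15219 : Q := act 5 n14447
theorem D15219 : act 5 n14447 = n15219 := rfl
theorem F60188 : act 0 n15219 = n14503 := d4_1 D15219 (iv D14503) (iv F57089)
theorem F60189 : act 1 n15219 = n15218 := d11_1 D15219 (iv F60187) F60178
theorem F60190 : act 2 n15219 = n14449 := d17_1 D15219 (iv D14449) (iv F57090)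
theorem F60191 : act 3 n15219 = n15216 := d22_1 D15219 F60187 (iv D15218)
theorem F60192 : act 4 n15219 = n14729 := d26_1 D15219 (iv D14729) (iv F55386) F55387 D14447
theorem F60193 : act 7 n15219 = n14871 := d31_2 (iv F57091) D15219 (iv D14871)
def n15220 : Q := act 8 n14447
theorem D15220 : act 8 n14447 = n15220 := rfl
theorem F60194 : act 0 n15220 = n14504 := d7_1 D15220 (iv D14504) (iv F57089)
theorem F60195 : act 2 n15220 = n14450 := d20_1 D15220 (iv D14450) (iv F57090)
theorem F60196 : act 4 n15220 = n14448 := d29_1 D15220 (iv D14448) D14447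
def n15221 : Q := act 7 n14448
theorem D15221 : act 7 n14448 = n15221 := rfl
theorem F60197 : act 0 n15221 = n14505 := d6_1 D15221 (iv D14505) (iv F57092)
theorem F60198 : act 2 n15221 = n14451 := d19_1 D15221 (iv D14451) (iv F57093)
theorem F60199 : act 8 n15221 = n14873 := d35_2 D14448 D15221 (iv D14873) (iv D14046) (iv F53625)
def n15222 : Q := act 8 n14449
theorem D15222 : act 8 n14449 = n15222 := rfl
theorem F60200 : act 0 n15222 = n14507 := d7_1 D15222 (iv D14507) (iv F57095)
theorem F60201 : act 1 n15222 = n15222 := d14_1 D15222 (iv D15222) F57096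
theorem F60202 : act 3 n15222 = n15222 := d25_1 D15222 (iv D15222) F57097
theorem F60203 : act 4 n15222 = n14763 := d29_1 D15222 (iv D14763) (iv F57098)
theorem F60204 : act 5 n15222 = n14450 := d32_1 D15222 (iv D14450) D14449
def n15223 : Q := act 7 n14450
theorem D15223 : act 7 n14450 = n15223 := rfl
theorem F60205 : act 0 n15223 = n14508 := d6_1 D15223 (iv D14508) (iv F57100)
theorem F60206 : act 1 n15223 = n15223 := d13_1 D15223 (iv D15223) F57101
theorem F60207 : act 4 n15223 = n14451 := d28_1 D15223 (iv D14451) (iv F57103)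
theorem F60208 : act 8 n15223 = n14875 := d35_2 D14450 D15223 (iv D14875) (iv D14048) (iv F53629)
def n15224 : Q := act 7 n14452
theorem D15224 : act 7 n14452 = n15224 := rfl
theorem F60209 : act 1 n15224 = n14455 := d13_1 D15224 (iv D14455) (iv F57107)
theorem F60210 : act 2 n15224 = n14484 := d19_1 D15224 (iv D14484) (iv F57108)
theorem F60211 : act 8 n15224 = n14459 := d35_2 D14452 D15224 (iv D14459) (iv D13592) (iv F53634)
def n15225 : Q := act 7 n14453
theorem D15225 : act 7 n14453 = n15225 := rfl
theorem F60212 : act 0 n15225 = n14510 := d6_1 D15225 (iv D14510) (iv F57109)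
theorem F60213 : act 2 n15225 = n15225 := d19_1 D15225 (iv D15225) F57110
theorem F60214 : act 3 n15225 = n14461 := d24_1 D15225 (iv D14461) (iv D13593) (iv F53637) D14453
def n15226 : Q := act 8 n14453
theorem D15226 : act 8 n14453 = n15226 := rfl
theorem F60215 : act 0 n15226 = n14511 := d7_1 D15226 (iv D14511) (iv F57109)
theorem F60216 : act 2 n15226 = n15226 := d20_1 D15226 (iv D15226) F57110
theorem F60217 : act 3 n15226 = n14454 := d25_1 D15226 (iv D14454) D14453
def n15227 : Q := act 7 n14454
theorem D15227 : act 7 n14454 = n15227 := rfl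
theorem F60218 : act 0 n15227 = n14513 := d6_1 D15227 (iv D14513) (iv F57111)
theorem F60219 : act 2 n15227 = n14456 := d19_1 D15227 (iv D14456) (iv F57112)
theorem F60220 : act 4 n15227 = n14455 := d28_1 D15227 (iv D14455) (iv F57113)
theorem F60221 : act 8 n15227 = n14464 := d35_2 D14454 D15227 (iv D14464) (iv D13595) (iv F53637)
def n15228 : Q := act 3 n14455
theorem D15228 : act 3 n14455 = n15228 := rfl
theorem F60222 : act 0 n15228 = n14514 := d2_1 D15228 (iv D14514) (iv F57114)
theorem F60223 : act 8 n15228 = n14465 := d25_2 (iv F57116) D15228 (iv D14465)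
def n15229 : Q := act 3 n14456
theorem D15229 : act 3 n14456 = n15229 := rfl
theorem F60224 : act 0 n15229 = n14516 := d2_1 D15229 (iv D14516) (iv F57117)
theorem F60225 : act 1 n15229 = n14486 := d9_1 D15229 (iv D14486) (iv F57118)
theorem F60226 : act 7 n15229 = n15229 := d24_2 D14456 D15229 (iv D15229) (iv D14456) F53642
theorem F60227 : act 8 n15229 = n14467 := d25_2 (iv F57120) D15229 (iv D14467)
def n15230 : Q := act 7 n14457
theorem D15230 : act 7 n14457 = n15230 := rfl
theorem F60228 : act 1 n15230 = n14461 := d13_1 D15230 (iv D14461) (iv F57121)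
theorem F60229 : act 2 n15230 = n15230 := d19_1 D15230 (iv D15230) F57122
theorem F60230 : act 4 n15230 = n14909 := d28_1 D15230 (iv D14909) (iv F57123)
def n15231 : Q := act 8 n14457
theorem D15231 : act 8 n14457 = n15231 := rfl
theorem F60231 : act 1 n15231 = n14462 := d14_1 D15231 (iv D14462) (iv F57121)
theorem F60232 : act 2 n15231 = n15231 := d20_1 D15231 (iv D15231) F57122
theorem F60233 : act 3 n15231 = n14458 := d25_1 D15231 (iv D14458) D14457
theorem F60234 : act 4 n15231 = n14910 := d29_1 D15231 (iv D14910) (iv F57123)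
def n15232 : Q := act 7 n14458
theorem D15232 : act 7 n14458 = n15232 := rfl
theorem F60235 : act 1 n15232 = n14464 := d13_1 D15232 (iv D14464) (iv F57124)
theorem F60236 : act 2 n15232 = n14487 := d19_1 D15232 (iv D14487) (iv F57125)
theorem F60237 : act 4 n15232 = n14459 := d28_1 D15232 (iv D14459) (iv F57126)
def n15233 : Q := act 3 n14459
theorem D15233 : act 3 n14459 = n15233 := rfl
theorem F60238 : act 1 n15233 = n14465 := d9_1 D15233 (iv D14465) (iv F57127)
theorem F60239 : act 7 n15233 = n14913 := d24_2 D14459 D15233 (iv D14913) (iv D14081) (iv F53651)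
def n15234 : Q := act 4 n14460
theorem D15234 : act 4 n14460 = n15234 := rfl
theorem F60240 : act 0 n15234 = n14517 := d3_1 D15234 (iv D14517) (iv F57129)
theorem F60241 : act 2 n15234 = n14468 := d16_1 D15234 (iv D14468) (iv F57130)
theorem F60242 : act 5 n15234 = n14914 := d26_2 D14460 D15234 (iv D14914) (iv D14082) (iv F53654)
def n15235 : Q := act 7 n14460
theorem D15235 : act 7 n14460 = n15235 := rfl
theorem F60243 : act 0 n15235 = n14519 := d6_1 D15235 (iv D14519) (iv F57129)
theorem F60244 : act 2 n15235 = n14470 := d19_1 D15235 (iv D14470) (iv F57130)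
theorem F60245 : act 5 n15235 = n14461 := d31_1 D15235 (iv D14461) D14460
def n15236 : Q := act 8 n14460
theorem D15236 : act 8 n14460 = n15236 := rfl
theorem F60246 : act 0 n15236 = n14520 := d7_1 D15236 (iv D14520) (iv F57129)
theorem F60247 : act 2 n15236 = n14471 := d20_1 D15236 (iv D14471) (iv F57130)
theorem F60248 : act 3 n15236 = n14463 := d25_1 D15236 (iv D14463) (iv F57131)
theorem F60249 : act 5 n15236 = n14462 := d32_1 D15236 (iv D14462) D14460
def n15237 : Q := act 8 n14461
theorem D15237 : act 8 n14461 = n15237 := rfl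
theorem F60250 : act 0 n15237 = n14521 := d7_1 D15237 (iv D14521) (iv F57132)
theorem F60251 : act 2 n15237 = n14472 := d20_1 D15237 (iv D14472) (iv F57133)
theorem F60252 : act 4 n15237 = n14918 := d29_1 D15237 (iv D14918) (iv F57134)
def n15238 : Q := act 7 n14462
theorem D15238 : act 7 n14462 = n15238 := rfl
theorem F60253 : act 0 n15238 = n14522 := d6_1 D15238 (iv D14522) (iv F57135)
theorem F60254 : act 2 n15238 = n14473 := d19_1 D15238 (iv D14473) (iv F57136)
theorem F60255 : act 4 n15238 = n14919 := d28_1 D15238 (iv D14919) (iv F57138)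
def n15239 : Q := act 7 n14463
theorem D15239 : act 7 n14463 = n15239 := rfl
theorem F60256 : act 0 n15239 = n14524 := d6_1 D15239 (iv D14524) (iv F57139)
theorem F60257 : act 2 n15239 = n14466 := d19_1 D15239 (iv D14466) (iv F57140)
theorem F60258 : act 5 n15239 = n14464 := d31_1 D15239 (iv D14464) (iv F57141)
def n15240 : Q := act 3 n14464
theorem D15240 : act 3 n14464 = n15240 := rfl
theorem F60259 : act 0 n15240 = n14525 := d2_1 D15240 (iv D14525) (iv F57142)
def n15241 : Q := act 4 n14465
theorem D15241 : act 4 n14465 = n15241 := rfl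
theorem F60260 : act 0 n15241 = n14526 := d3_1 D15241 (iv D14526) (iv F57145)
theorem F60261 : act 7 n15241 = n14923 := d28_2 (iv F57146) D15241 (iv D14923)
def n15242 : Q := act 3 n14466
theorem D15242 : act 3 n14466 = n15242 := rfl
theorem F60262 : act 0 n15242 = n14528 := d2_1 D15242 (iv D14528) (iv F57147)
theorem F60263 : act 1 n15242 = n14491 := d9_1 D15242 (iv D14491) (iv F57148)
theorem F60264 : act 5 n15242 = n14467 := d22_2 (iv F57149) D15242 (iv D14467)
theorem F60265 : act 7 n15242 = n14479 := d24_2 D14466 D15242 (iv D14479) (iv D13607) (iv F53664)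
def n15243 : Q := act 2 n14467
theorem D15243 : act 2 n14467 = n15243 := rfl
theorem F60266 : act 0 n15243 = n14529 := d1_1 D15243 (iv D14529) (iv F57150)
theorem F60267 : act 7 n15243 = n14480 := d19_2 (iv F57152) D15243 (iv D14480)
def n15244 : Q := act 8 n14468
theorem D15244 : act 8 n14468 = n15244 := rfl
theorem F60268 : act 0 n15244 = n14530 := d7_1 D15244 (iv D14530) (iv F57153)
theorem F60269 : act 1 n15244 = n15244 := d14_1 D15244 (iv D15244) F57154
theorem F60270 : act 3 n15244 = n14481 := d25_1 D15244 (iv D14481) (iv F57155)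
theorem F60271 : act 4 n15244 = n14471 := d29_1 D15244 (iv D14471) D14468
theorem F60272 : act 5 n15244 = n14934 := d32_1 D15244 (iv D14934) (iv F57156)
def n15245 : Q := act 8 n14469
theorem D15245 : act 8 n14469 = n15245 := rfl
theorem F60273 : act 0 n15245 = n14531 := d7_1 D15245 (iv D14531) (iv F57157)
theorem F60274 : act 1 n15245 = n15245 := d14_1 D15245 (iv D15245) F57158
theorem F60275 : act 3 n15245 = n14474 := d25_1 D15245 (iv D14474) (iv F57159)
theorem F60276 : act 6 n15245 = n14471 := d34_1 D15245 (iv D14471) D14469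
def n15246 : Q := act 8 n14470
theorem D15246 : act 8 n14470 = n15246 := rfl
theorem F60277 : act 0 n15246 = n14532 := d7_1 D15246 (iv D14532) (iv F57160)
theorem F60278 : act 1 n15246 = n15246 := d14_1 D15246 (iv D15246) F57161
theorem F60279 : act 3 n15246 = n15246 := d25_1 D15246 (iv D15246) F57162
theorem F60280 : act 5 n15246 = n14472 := d32_1 D15246 (iv D14472) (iv F57163)
def n15247 : Q := act 7 n14471
theorem D15247 : act 7 n14471 = n15247 := rfl
theorem F60281 : act 0 n15247 = n14533 := d6_1 D15247 (iv D14533) (iv F57164)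
theorem F60282 : act 1 n15247 = n15247 := d13_1 D15247 (iv D15247) F57165
theorem F60283 : act 5 n15247 = n14473 := d31_1 D15247 (iv D14473) (iv F57167)
def n15248 : Q := act 7 n14472
theorem D15248 : act 7 n14472 = n15248 := rfl
theorem F60284 : act 0 n15248 = n14534 := d6_1 D15248 (iv D14534) (iv F57168)
theorem F60285 : act 1 n15248 = n15248 := d13_1 D15248 (iv D15248) F57169
theorem F60286 : act 4 n15248 = n14938 := d28_1 D15248 (iv D14938) (iv F57171)
theorem F60287 : act 8 n15248 = n14473 := d35_2 D14472 D15248 (iv D14473) (iv D13601) D13600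
def n15249 : Q := act 3 n14473
theorem D15249 : act 3 n14473 = n15249 := rfl
theorem F60288 : act 0 n15249 = n14535 := d2_1 D15249 (iv D14535) (iv F57172)
theorem F60289 : act 1 n15249 = n15249 := d9_1 D15249 (iv D15249) F57173
theorem F60290 : act 7 n15249 = n14476 := d24_2 D14473 D15249 (iv D14476) (iv D13604) (iv F53678)
def n15250 : Q := act 7 n14474
theorem D15250 : act 7 n14474 = n15250 := rfl
theorem F60291 : act 0 n15250 = n14536 := d6_1 D15250 (iv D14536) (iv F57175)
theorem F60292 : act 1 n15250 = n15250 := d13_1 D15250 (iv D15250) F57176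
theorem F60293 : act 2 n15250 = n14478 := d19_1 D15250 (iv D14478) (iv F57177)
theorem F60294 : act 4 n15250 = n14483 := d28_1 D15250 (iv D14483) (iv F57178)
theorem F60295 : act 6 n15250 = n14475 := d33_1 D15250 (iv D14475) (iv F57179)
theorem F60296 : act 8 n15250 = n15250 := d35_2 D14474 D15250 (iv D15250) (iv D14474) F53684
def n15251 : Q := act 3 n14475
theorem D15251 : act 3 n14475 = n15251 := rfl
theorem F60297 : act 0 n15251 = n14537 := d2_1 D15251 (iv D14537) (iv F57180)
theorem F60298 : act 1 n15251 = n15251 := d9_1 D15251 (iv D15251) F57181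
theorem F60299 : act 4 n15251 = n14777 := d21_2 (iv F57183) D15251 (iv D14777) F54947 (iv F53741)
theorem F60300 : act 5 n15251 = n14476 := d22_2 (iv F57184) D15251 (iv D14476)
theorem F60301 : act 8 n15251 = n15251 := d25_2 F57185 D15251 (iv D15251)
def n15252 : Q := act 2 n14476
theorem D15252 : act 2 n14476 = n15252 := rfl
theorem F60302 : act 0 n15252 = n14538 := d1_1 D15252 (iv D14538) (iv F57186)
theorem F60303 : act 3 n15252 = n14480 := d15_2 D14476 D15252 (iv D14480) (iv D13608) (iv F53692)
theorem F60304 : act 8 n15252 = n15252 := d20_2 F57188 D15252 (iv D15252)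
def n15253 : Q := act 4 n14476
theorem D15253 : act 4 n14476 = n15253 := rfl
theorem F60305 : act 0 n15253 = n14539 := d3_1 D15253 (iv D14539) (iv F57186)
theorem F60306 : act 1 n15253 = n15253 := d10_1 D15253 (iv D15253) F57187
theorem F60307 : act 3 n15253 = n14477 := d21_1 D15253 (iv D14477) (iv D13605) (iv F53693) D14476
theorem F60308 : act 5 n15253 = n14779 := d26_2 F60300 D15253 (iv D14779) (iv F58393) (iv F60299)
theorem F60309 : act 6 n15253 = n15201 := d27_2 F59847 D15253 F60121
theorem F60310 : act 8 n15253 = n15253 := d29_2 F57188 D15253 (iv D15253)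
def n15254 : Q := act 2 n14479
theorem D15254 : act 2 n14479 = n15254 := rfl
theorem F60311 : act 0 n15254 = n14541 := d1_1 D15254 (iv D14541) (iv F57201)
theorem F60312 : act 5 n15254 = n14480 := d17_2 (iv F57203) D15254 (iv D14480)
theorem F60313 : act 8 n15254 = n15254 := d20_2 F57204 D15254 (iv D15254)
def n15255 : Q := act 1 n14480
theorem D15255 : act 1 n14480 = n15255 := rfl
theorem F60314 : act 2 n15255 = n14493 := d8_2 D14480 D15255 (iv D14493) (iv D13628) (iv F53712)
theorem F60315 : act 8 n15255 = n15255 := d14_2 F57206 D15255 (iv D15255)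
def n15256 : Q := act 3 n14484
theorem D15256 : act 3 n14484 = n15256 := rfl
theorem F60316 : act 1 n15256 = n14485 := d9_1 D15256 (iv D14485) (iv F57227)
theorem F60317 : act 7 n15256 = n15256 := d24_2 D14484 D15256 (iv D15256) (iv D14484) F53756
theorem F60318 : act 8 n15256 = n14488 := d25_2 (iv F57228) D15256 (iv D14488)
def n15257 : Q := act 4 n14485
theorem D15257 : act 4 n14485 = n15257 := rfl
theorem F60319 : act 0 n15257 = n14497 := d3_1 D15257 (iv D14497) (iv F57229)
theorem F60320 : act 7 n15257 = n15257 := d28_2 F57230 D15257 (iv D15257)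
theorem F60321 : act 8 n15257 = n14490 := d29_2 (iv F57231) D15257 (iv D14490)
def n15258 : Q := act 2 n14486
theorem D15258 : act 2 n14486 = n15258 := rfl
theorem F60322 : act 0 n15258 = n14498 := d1_1 D15258 (iv D14498) (iv F57232)
theorem F60323 : act 7 n15258 = n15258 := d19_2 F57233 D15258 (iv D15258)
theorem F60324 : act 8 n15258 = n14492 := d20_2 (iv F57234) D15258 (iv D14492)
def n15259 : Q := act 3 n14487
theorem D15259 : act 3 n14487 = n15259 := rfl
theorem F60325 : act 1 n15259 = n14489 := d9_1 D15259 (iv D14489) (iv F57235)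
theorem F60326 : act 7 n15259 = n15259 := d24_2 D14487 D15259 (iv D15259) (iv D14487) F53764
def n15260 : Q := act 2 n14488
theorem D15260 : act 2 n14488 = n15260 := rfl
theorem F60327 : act 7 n15260 = n14494 := d19_2 (iv F57238) D15260 (iv D14494)
def n15261 : Q := act 4 n14488
theorem D15261 : act 4 n14488 = n15261 := rfl
theorem F60328 : act 1 n15261 = n14490 := d10_1 D15261 (iv D14490) (iv F57237)
theorem F60329 : act 7 n15261 = n14495 := d28_2 (iv F57238) D15261 (iv D14495)
def n15262 : Q := act 2 n14489
theorem D15262 : act 2 n14489 = n15262 := rfl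
theorem F60330 : act 0 n15262 = n14499 := d1_1 D15262 (iv D14499) (iv F57239)
theorem F60331 : act 3 n15262 = n14492 := d15_2 D14489 D15262 (iv D14492) (iv D13625) (iv F53768)
theorem F60332 : act 7 n15262 = n15262 := d19_2 F57240 D15262 (iv D15262)
def n15263 : Q := act 4 n14489
theorem D15263 : act 4 n14489 = n15263 := rfl
theorem F60333 : act 0 n15263 = n14500 := d3_1 D15263 (iv D14500) (iv F57239)
theorem F60334 : act 3 n15263 = n14490 := d21_1 D15263 (iv D14490) (iv D13623) (iv F53769) D14489
theorem F60335 : act 7 n15263 = n15263 := d28_2 F57240 D15263 (iv D15263)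
def n15264 : Q := act 5 n14490
theorem D15264 : act 5 n14490 = n15264 := rfl
theorem F60336 : act 0 n15264 = n14501 := d4_1 D15264 (iv D14501) (iv F57241)
theorem F60337 : act 2 n15264 = n14557 := d17_1 D15264 F57903 F57899
theorem F60338 : act 7 n15264 = n14496 := d31_2 (iv F57242) D15264 (iv D14496)
def n15265 : Q := act 1 n14492
theorem D15265 : act 1 n14492 = n15265 := rfl
theorem F60339 : act 7 n15265 = n14493 := d13_2 (iv F57247) D15265 (iv D14493)
def n15266 : Q := act 0 n14493
theorem D15266 : act 0 n14493 = n15266 := rfl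
theorem F60340 : act 1 n15266 = n14496 := d0_2 D14493 D15266 F57255 (iv D13637) (iv F53784)
theorem F60341 : act 3 n15266 = n15266 := d2_2 F57248 D15266 (iv D15266)
theorem F60342 : act 5 n15266 = n14495 := d4_2 F59209 D15266 (iv F59206)
theorem F60343 : act 8 n15266 = n15266 := d7_2 F57249 D15266 (iv D15266)
def n15267 : Q := act 4 n14494
theorem D15267 : act 4 n14494 = n15267 := rfl
theorem F60344 : act 2 n15267 = n14495 := d16_1 D15267 (iv D14495) D14494
theorem F60345 : act 8 n15267 = n15267 := d29_2 F57251 D15267 (iv D15267)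
def n15268 : Q := act 5 n14502
theorem D15268 : act 5 n14502 = n15268 := rfl
theorem F60346 : act 0 n15268 = n15216 := d4_1 D15268 F60187 F60184
theorem F60347 : act 1 n15268 = n14863 := d11_1 D15268 (iv F59346) F59343
theorem F60348 : act 2 n15268 = n15268 := d17_1 D15268 (iv D15268) F57270
theorem F60349 : act 3 n15268 = n14503 := d22_1 D15268 (iv D14503) D14502
theorem F60350 : act 6 n14868 = n15268 := d38_1 F60180 (iv D15268) F57271 (iv D13643) F49969 F45984 F42372 (iv F40988) D11343 (iv F47205) F47204 F47203 (iv F47013) (iv F51039) D13870 F54778 (iv D13204) F48134 F44144 (iv D11192) F40597 F40596 (iv F39586) (iv F42637) F42636 F41879 (iv F42094) (iv D10680) F35760 F26411 F19581 F14542 F10860 F10859 F8133 F8132 (iv F10874) F10873 (iv F14556) (iv F19287) (iv F25995) D9307 (iv F41569) F41568 D11493 (iv F47940) (iv F51919) (iv F55588) F55591 (iv F55633) (iv F57550) (iv D14586) (iv F56005) F56004 F52368 (iv D13262) (iv F51715) F51714 D13584 F53628 (iv F57090) (iv F60178)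
theorem F60351 : act 4 n15268 = n14862 := d27_1 F60350 F58825 D14868
def n15269 : Q := act 7 n14502
theorem D15269 : act 7 n14502 = n15269 := rfl
theorem F60352 : act 2 n15269 = n15269 := d19_1 D15269 (iv D15269) F57270
theorem F60353 : act 3 n15269 = n15010 := d24_1 D15269 (iv D15010) (iv D14199) (iv F53808) D14502
theorem F60354 : act 4 n15269 = n14510 := d28_1 D15269 (iv D14510) (iv F57271)
def n15270 : Q := act 8 n14502
theorem D15270 : act 8 n14502 = n15270 := rfl
theorem F60355 : act 2 n15270 = n15270 := d20_1 D15270 (iv D15270) F57270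
theorem F60356 : act 3 n15270 = n14504 := d25_1 D15270 (iv D14504) D14502
theorem F60357 : act 4 n15270 = n14511 := d29_1 D15270 (iv D14511) (iv F57271)
def n15271 : Q := act 6 n14503
theorem D15271 : act 6 n14503 = n15271 := rfl
theorem F60358 : act 1 n15271 = n14870 := d12_1 D15271 F58856 (iv F57272)
theorem F60359 : act 2 n15271 = n14506 := d18_1 D15271 (iv D14506) (iv F57273)
theorem F60360 : act 3 n15271 = n14868 := d23_1 D15271 F60350 F60349
theorem F60361 : act 4 n15271 = n14881 := d27_1 D15271 F58895 (iv F57274)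
theorem F60362 : act 7 n15271 = n15012 := d33_2 (iv F57275) D15271 (iv D15012)
def n15272 : Q := act 8 n14503
theorem D15272 : act 8 n14503 = n15272 := rfl
theorem F60363 : act 1 n15272 = n15101 := d14_1 D15272 F59677 (iv F57272)
theorem F60364 : act 2 n15272 = n14507 := d20_1 D15272 (iv D14507) (iv F57273)
theorem F60365 : act 4 n15272 = n15100 := d29_1 D15272 F59674 (iv F57274)
theorem F60366 : act 5 n15272 = n14504 := d32_1 D15272 (iv D14504) D14503
def n15273 : Q := act 7 n14504
theorem D15273 : act 7 n14504 = n15273 := rfl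
theorem F60367 : act 2 n15273 = n14508 := d19_1 D15273 (iv D14508) (iv F57276)
theorem F60368 : act 4 n15273 = n14505 := d28_1 D15273 (iv D14505) (iv F57277)
theorem F60369 : act 8 n15273 = n15014 := d35_2 D14504 D15273 (iv D15014) (iv D14201) (iv F53808)
def n15274 : Q := act 3 n14505
theorem D15274 : act 3 n14505 = n15274 := rfl
theorem F60370 : act 7 n15274 = n14514 := d24_2 D14505 D15274 (iv D14514) (iv D13646) (iv F53810)
theorem F60371 : act 8 n15274 = n15015 := d25_2 (iv F57279) D15274 (iv D15015)
def n15275 : Q := act 8 n14506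
theorem D15275 : act 8 n14506 = n15275 := rfl
theorem F60372 : act 1 n15275 = n14558 := d14_1 D15275 (iv D14558) (iv F57280)
theorem F60373 : act 3 n15275 = n15275 := d25_1 D15275 (iv D15275) F57281
theorem F60374 : act 4 n15275 = n15174 := d29_1 D15275 F59991 (iv F57282)
theorem F60375 : act 6 n15275 = n14507 := d34_1 D15275 (iv D14507) D14506
def n15276 : Q := act 7 n14507
theorem D15276 : act 7 n14507 = n15276 := rfl
theorem F60376 : act 1 n15276 = n14559 := d13_1 D15276 (iv D14559) (iv F57284)
theorem F60377 : act 4 n15276 = n15177 := d28_1 D15276 F60004 (iv F57286)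
theorem F60378 : act 5 n15276 = n14508 := d31_1 D15276 (iv D14508) (iv F57287)
theorem F60379 : act 8 n15276 = n15017 := d35_2 D14507 D15276 (iv D15017) (iv D14204) (iv F53814)
def n15277 : Q := act 3 n14508
theorem D15277 : act 3 n14508 = n15277 := rfl
theorem F60380 : act 1 n15277 = n14560 := d9_1 D15277 (iv D14560) (iv F57288)
theorem F60381 : act 7 n15277 = n15277 := d24_2 D14508 D15277 (iv D15277) (iv D14508) F53816
theorem F60382 : act 8 n15277 = n15018 := d25_2 (iv F57290) D15277 (iv D15018)
def n15278 : Q := act 4 n14509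
theorem D15278 : act 4 n14509 = n15278 := rfl
theorem F60383 : act 0 n15278 = n14721 := d3_1 D15278 (iv F58219) F58216
theorem F60384 : act 1 n15278 = n14860 := d10_1 D15278 (iv F59410) F59407
theorem F60385 : act 2 n15278 = n15278 := d16_1 D15278 (iv D15278) F57291
theorem F60386 : act 3 n15278 = n14600 := d21_1 D15278 (iv D14600) (iv F54806) (iv F54810) (iv F57292)
theorem F60387 : act 5 n15278 = n14862 := d26_2 D14509 D15278 (iv F60351) (iv D15268) F57271
theorem F60388 : act 6 n15278 = n14891 := d27_2 F58272 D15278 F58931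
def n15279 : Q := act 7 n14509
theorem D15279 : act 7 n14509 = n15279 := rfl
theorem F60389 : act 2 n15279 = n15279 := d19_1 D15279 (iv D15279) F57291
theorem F60390 : act 3 n15279 = n14519 := d24_1 D15279 (iv D14519) F53834 (iv F53822) (iv F57292)
theorem F60391 : act 5 n15279 = n14510 := d31_1 D15279 (iv D14510) D14509
def n15280 : Q := act 8 n14509
theorem D15280 : act 8 n14509 = n15280 := rfl
theorem F60392 : act 2 n15280 = n15280 := d20_1 D15280 (iv D15280) F57291
theorem F60393 : act 3 n15280 = n14512 := d25_1 D15280 (iv D14512) (iv F57292)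
theorem F60394 : act 5 n15280 = n14511 := d32_1 D15280 (iv D14511) D14509
def n15281 : Q := act 8 n14510
theorem D15281 : act 8 n14510 = n15281 := rfl
theorem F60395 : act 2 n15281 = n15281 := d20_1 D15281 (iv D15281) F57293
theorem F60396 : act 3 n15281 = n14521 := d25_1 D15281 (iv D14521) (iv F57294)
def n15282 : Q := act 7 n14511
theorem D15282 : act 7 n14511 = n15282 := rfl
theorem F60397 : act 2 n15282 = n15282 := d19_1 D15282 (iv D15282) F57295
def n15283 : Q := act 7 n14512
theorem D15283 : act 7 n14512 = n15283 := rfl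
theorem F60398 : act 2 n15283 = n14515 := d19_1 D15283 (iv D14515) (iv F57297)
theorem F60399 : act 5 n15283 = n14513 := d31_1 D15283 (iv D14513) (iv F57298)
theorem F60400 : act 8 n15283 = n14524 := d35_2 D14512 D15283 (iv D14524) (iv D13653) (iv F53822)
def n15284 : Q := act 3 n14513
theorem D15284 : act 3 n14513 = n15284 := rfl
theorem F60401 : act 8 n15284 = n14525 := d25_2 (iv F57301) D15284 (iv D14525)
def n15285 : Q := act 4 n14514
theorem D15285 : act 4 n14514 = n15285 := rfl
theorem F60402 : act 8 n15285 = n14526 := d29_2 (iv F57302) D15285 (iv D14526)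
def n15286 : Q := act 3 n14515
theorem D15286 : act 3 n14515 = n15286 := rfl
theorem F60403 : act 1 n15286 = n14550 := d9_1 D15286 (iv D14550) (iv F57303)
theorem F60404 : act 5 n15286 = n14516 := d22_2 (iv F57304) D15286 (iv D14516)
theorem F60405 : act 7 n15286 = n15286 := d24_2 D14515 D15286 (iv D15286) (iv D14515) F53828
theorem F60406 : act 8 n15286 = n14528 := d25_2 (iv F57305) D15286 (iv D14528)
def n15287 : Q := act 2 n14516
theorem D15287 : act 2 n14516 = n15287 := rfl
theorem F60407 : act 7 n15287 = n15287 := d19_2 F57307 D15287 (iv D15287)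
theorem F60408 : act 8 n15287 = n14529 := d20_2 (iv F57308) D15287 (iv D14529)
def n15288 : Q := act 8 n14517
theorem D15288 : act 8 n14517 = n15288 := rfl
theorem F60409 : act 2 n15288 = n14530 := d20_1 D15288 (iv D14530) (iv F57309)
theorem F60410 : act 4 n15288 = n14520 := d29_1 D15288 (iv D14520) D14517
theorem F60411 : act 5 n15288 = n15069 := d32_1 D15288 (iv D15069) (iv F57310)
def n15289 : Q := act 8 n14518
theorem D15289 : act 8 n14518 = n15289 := rfl
theorem F60412 : act 2 n15289 = n14531 := d20_1 D15289 (iv D14531) (iv F57311)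
theorem F60413 : act 3 n15289 = n14523 := d25_1 D15289 (iv D14523) (iv F57312)
theorem F60414 : act 6 n15289 = n14520 := d34_1 D15289 (iv D14520) D14518
def n15290 : Q := act 8 n14519
theorem D15290 : act 8 n14519 = n15290 := rfl
theorem F60415 : act 2 n15290 = n14532 := d20_1 D15290 (iv D14532) (iv F57313)
theorem F60416 : act 5 n15290 = n14521 := d32_1 D15290 (iv D14521) (iv F57314)
def n15291 : Q := act 7 n14520
theorem D15291 : act 7 n14520 = n15291 := rfl
theorem F60417 : act 2 n15291 = n14533 := d19_1 D15291 (iv D14533) (iv F57315)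
theorem F60418 : act 5 n15291 = n14522 := d31_1 D15291 (iv D14522) (iv F57317)
def n15292 : Q := act 7 n14521
theorem D15292 : act 7 n14521 = n15292 := rfl
theorem F60419 : act 2 n15292 = n14534 := d19_1 D15292 (iv D14534) (iv F57318)
theorem F60420 : act 4 n15292 = n15073 := d28_1 D15292 (iv D15073) (iv F57319)
theorem F60421 : act 8 n15292 = n14522 := d35_2 D14521 D15292 (iv D14522) (iv D13651) D13650
def n15293 : Q := act 3 n14522
theorem D15293 : act 3 n14522 = n15293 := rfl
theorem F60422 : act 7 n15293 = n14525 := d24_2 D14522 D15293 (iv D14525) (iv D13654) (iv F53838)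
def n15294 : Q := act 7 n14523
theorem D15294 : act 7 n14523 = n15294 := rfl
theorem F60423 : act 2 n15294 = n14527 := d19_1 D15294 (iv D14527) (iv F57322)
theorem F60424 : act 6 n15294 = n14524 := d33_1 D15294 (iv D14524) (iv F57323)
def n15295 : Q := act 3 n14524
theorem D15295 : act 3 n14524 = n15295 := rfl
theorem F60425 : act 5 n15295 = n14525 := d22_2 (iv F57325) D15295 (iv D14525)
def n15296 : Q := act 2 n14525
theorem D15296 : act 2 n14525 = n15296 := rfl
theorem F60426 : act 3 n15296 = n14529 := d15_2 D14525 D15296 (iv D14529) (iv D13658) (iv F53843)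
def n15297 : Q := act 4 n14525
theorem D15297 : act 4 n14525 = n15297 := rfl
theorem F60427 : act 3 n15297 = n14526 := d21_1 D15297 (iv D14526) (iv D13655) (iv F53844) D14525
def n15298 : Q := act 5 n14526
theorem D15298 : act 5 n14526 = n15298 := rfl
theorem F60428 : act 7 n15298 = n15079 := d31_2 (iv F57326) D15298 (iv D15079)
def n15299 : Q := act 3 n14527
theorem D15299 : act 3 n14527 = n15299 := rfl
theorem F60429 : act 1 n15299 = n14551 := d9_1 D15299 (iv D14551) (iv F57327)
theorem F60430 : act 6 n15299 = n14528 := d23_2 (iv F57328) D15299 (iv D14528)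
theorem F60431 : act 7 n15299 = n14540 := d24_2 D14527 D15299 (iv D14540) (iv D13669) (iv F53847)
def n15300 : Q := act 2 n14528
theorem D15300 : act 2 n14528 = n15300 := rfl
theorem F60432 : act 5 n15300 = n14529 := d17_2 (iv F57330) D15300 (iv D14529)
theorem F60433 : act 7 n15300 = n14541 := d19_2 (iv F57331) D15300 (iv D14541)
def n15301 : Q := act 4 n14528
theorem D15301 : act 4 n14528 = n15301 := rfl
theorem F60434 : act 1 n15301 = n14553 := d10_1 D15301 (iv D14553) (iv F57329)
theorem F60435 : act 7 n15301 = n14542 := d28_2 (iv F57331) D15301 (iv D14542)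
def n15302 : Q := act 1 n14529
theorem D15302 : act 1 n14529 = n15302 := rfl
theorem F60436 : act 2 n15302 = n14554 := d8_2 D14529 D15302 (iv D14554) (iv D13685) (iv F53851)
theorem F60437 : act 7 n15302 = n14543 := d13_2 (iv F57332) D15302 (iv D14543)
def n15303 : Q := act 7 n14530
theorem D15303 : act 7 n14530 = n15303 := rfl
theorem F60438 : act 1 n15303 = n14561 := d13_1 D15303 (iv D14561) (iv F57333)
theorem F60439 : act 4 n15303 = n14533 := d28_1 D15303 (iv D14533) (iv F57335)
theorem F60440 : act 5 n15303 = n15091 := d31_1 D15303 (iv D15091) (iv F57336)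
def n15304 : Q := act 7 n14531
theorem D15304 : act 7 n14531 = n15304 := rfl
theorem F60441 : act 1 n15304 = n14562 := d13_1 D15304 (iv D14562) (iv F57337)
theorem F60442 : act 6 n15304 = n14533 := d33_1 D15304 (iv D14533) (iv F57339)
def n15305 : Q := act 7 n14532
theorem D15305 : act 7 n14532 = n15305 := rfl
theorem F60443 : act 1 n15305 = n14563 := d13_1 D15305 (iv D14563) (iv F57340)
theorem F60444 : act 5 n15305 = n14534 := d31_1 D15305 (iv D14534) (iv F57342)
theorem F60445 : act 8 n15305 = n14533 := d35_2 D14532 D15305 (iv D14533) (iv D13662) D13661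
def n15306 : Q := act 3 n14533
theorem D15306 : act 3 n14533 = n15306 := rfl
theorem F60446 : act 1 n15306 = n14564 := d9_1 D15306 (iv D14564) (iv F57343)
theorem F60447 : act 5 n15306 = n14535 := d22_2 (iv F57344) D15306 (iv D14535)
theorem F60448 : act 7 n15306 = n14537 := d24_2 D14533 D15306 (iv D14537) (iv D13666) (iv F53862)
def n15307 : Q := act 3 n14534
theorem D15307 : act 3 n14534 = n15307 := rfl
theorem F60449 : act 1 n15307 = n14565 := d9_1 D15307 (iv D14565) (iv F57345)
theorem F60450 : act 7 n15307 = n15307 := d24_2 D14534 D15307 (iv D15307) (iv D14534) F53865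
theorem F60451 : act 8 n15307 = n14535 := d25_2 (iv F57347) D15307 (iv D14535)
def n15308 : Q := act 2 n14535
theorem D15308 : act 2 n14535 = n15308 := rfl
theorem F60452 : act 7 n15308 = n14538 := d19_2 (iv F57349) D15308 (iv D14538)
def n15309 : Q := act 4 n14535
theorem D15309 : act 4 n14535 = n15309 := rfl
theorem F60453 : act 1 n15309 = n14567 := d10_1 D15309 (iv D14567) (iv F57348)
theorem F60454 : act 3 n15309 = n15097 := d21_1 D15309 (iv D15097) (iv D14273) (iv F53868) D14535
theorem F60455 : act 7 n15309 = n14539 := d28_2 (iv F57349) D15309 (iv D14539)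
def n15310 : Q := act 3 n14536
theorem D15310 : act 3 n14536 = n15310 := rfl
theorem F60456 : act 1 n15310 = n14568 := d9_1 D15310 (iv D14568) (iv F57350)
theorem F60457 : act 6 n15310 = n14537 := d23_2 (iv F57353) D15310 (iv D14537)
theorem F60458 : act 8 n15310 = n15310 := d25_2 F57354 D15310 (iv D15310)
def n15311 : Q := act 2 n14537
theorem D15311 : act 2 n14537 = n15311 := rfl
theorem F60459 : act 3 n15311 = n14541 := d15_2 D14537 D15311 (iv D14541) (iv D13670) (iv F53874)
theorem F60460 : act 5 n15311 = n14538 := d17_2 (iv F57356) D15311 (iv D14538)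
theorem F60461 : act 8 n15311 = n15311 := d20_2 F57357 D15311 (iv D15311)
def n15312 : Q := act 4 n14537
theorem D15312 : act 4 n14537 = n15312 := rfl
theorem F60462 : act 0 n15312 = n14777 := d3_1 D15312 (iv F60299) F60297
theorem F60463 : act 1 n15312 = n14570 := d10_1 D15312 (iv D14570) (iv F57355)
theorem F60464 : act 3 n15312 = n14547 := d21_1 D15312 (iv D14547) (iv D13677) (iv F53875) D14537
theorem F60465 : act 5 n15312 = n14633 := d26_2 (iv F57356) D15312 (iv F60086) F60087 (iv D14539)
theorem F60466 : act 8 n15312 = n15312 := d29_2 F57357 D15312 (iv D15312)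
def n15313 : Q := act 1 n14538
theorem D15313 : act 1 n14538 = n15313 := rfl
theorem F60467 : act 2 n15313 = n14571 := d8_2 D14538 D15313 (iv D14571) (iv D13708) (iv F53878)
theorem F60468 : act 3 n15313 = n14543 := d9_2 (iv F57358) D15313 (iv D14543)
theorem F60469 : act 8 n15313 = n15313 := d14_2 F57359 D15313 (iv D15313)
def n15314 : Q := act 4 n14538
theorem D15314 : act 4 n14538 = n15314 := rfl
theorem F60470 : act 2 n15314 = n14539 := d16_1 D15314 (iv D14539) D14538
theorem F60471 : act 8 n15314 = n15314 := d29_2 F57359 D15314 (iv D15314)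
def n15315 : Q := act 2 n14540
theorem D15315 : act 2 n14540 = n15315 := rfl
theorem F60472 : act 6 n15315 = n14541 := d18_2 (iv F57364) D15315 (iv D14541)
theorem F60473 : act 8 n15315 = n15315 := d20_2 F57365 D15315 (iv D15315)
def n15316 : Q := act 1 n14541
theorem D15316 : act 1 n14541 = n15316 := rfl
theorem F60474 : act 2 n15316 = n14555 := d8_2 D14541 D15316 (iv D14555) (iv D13687) (iv F53887)
theorem F60475 : act 5 n15316 = n14543 := d11_2 (iv F57366) D15316 (iv D14543)
theorem F60476 : act 8 n15316 = n15316 := d14_2 F57367 D15316 (iv D15316)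
def n15317 : Q := act 4 n14541
theorem D15317 : act 4 n14541 = n15317 := rfl
theorem F60477 : act 2 n15317 = n14542 := d16_1 D15317 (iv D14542) D14541
theorem F60478 : act 8 n15317 = n15317 := d29_2 F57367 D15317 (iv D15317)
def n15318 : Q := act 0 n14543
theorem D15318 : act 0 n14543 = n15318 := rfl
theorem F60479 : act 2 n15318 = n14556 := d1_2 (iv F57371) D15318 (iv D14556)
theorem F60480 : act 8 n15318 = n15318 := d7_2 F57372 D15318 (iv D15318)
def n15319 : Q := act 3 n14544
theorem D15319 : act 3 n14544 = n15319 := rfl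
theorem F60481 : act 0 n15319 = n14770 := d2_1 D15319 F58371 (iv F57373)
theorem F60482 : act 1 n15319 = n14575 := d9_1 D15319 (iv D14575) (iv F57374)
theorem F60483 : act 4 n15319 = n14629 := d21_2 (iv F57376) D15319 F57742 F54278 F53909
theorem F60484 : act 5 n15319 = n15102 := d22_2 (iv F57377) D15319 (iv D15102)
theorem F60485 : act 8 n15319 = n14626 := d25_2 (iv F57378) D15319 F57732
def n15320 : Q := act 3 n14549
theorem D15320 : act 3 n14549 = n15320 := rfl
theorem F60486 : act 0 n15320 = n14666 := d2_1 D15320 (iv D14666) (iv F57407)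
theorem F60487 : act 1 n15320 = n14664 := d9_1 D15320 F57924 (iv F57408)
theorem F60488 : act 4 n15320 = n14634 := d21_2 D14549 D15320 (iv D14634) F54292 (iv F53926)
theorem F60489 : act 5 n15320 = n14855 := d22_2 (iv F57410) D15320 (iv D14855)
theorem F60490 : act 6 n15320 = n14667 := d23_2 (iv F57411) D15320 (iv D14667)
theorem F60491 : act 8 n15320 = n15320 := d25_2 F57413 D15320 (iv D15320)
def n15321 : Q := act 1 n14552
theorem D15321 : act 1 n14552 = n15321 := rfl
theorem F60492 : act 5 n15321 = n14554 := d11_2 (iv F57422) D15321 (iv D14554)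
theorem F60493 : act 7 n15321 = n14555 := d13_2 (iv F57423) D15321 (iv D14555)
def n15322 : Q := act 0 n14554
theorem D15322 : act 0 n14554 = n15322 := rfl
theorem F60494 : act 1 n15322 = n14557 := d0_2 D14554 D15322 (iv D14557) (iv D13695) (iv F53944)
theorem F60495 : act 7 n15322 = n14556 := d6_2 (iv F57426) D15322 (iv D14556)
def n15323 : Q := act 7 n14558
theorem D15323 : act 7 n14558 = n15323 := rfl
theorem F60496 : act 0 n15323 = n15323 := d6_1 D15323 (iv D15323) F57434
theorem F60497 : act 2 n15323 = n15170 := d19_1 D15323 F59971 (iv F57435)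
theorem F60498 : act 4 n15323 = n15169 := d28_1 D15323 F59967 (iv F57437)
theorem F60499 : act 6 n15323 = n14559 := d33_1 D15323 (iv D14559) (iv F57438)
theorem F60500 : act 8 n15323 = n15130 := d35_2 D14558 D15323 (iv D15130) (iv D14321) (iv F53981)
def n15324 : Q := act 3 n14559
theorem D15324 : act 3 n14559 = n15324 := rfl
theorem F60501 : act 0 n15324 = n15324 := d2_1 D15324 (iv D15324) F57439
theorem F60502 : act 5 n15324 = n14560 := d22_2 (iv F57442) D15324 (iv D14560)
theorem F60503 : act 7 n15324 = n15324 := d24_2 D14559 D15324 (iv D15324) (iv D14559) F53984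
theorem F60504 : act 8 n15324 = n15131 := d25_2 (iv F57443) D15324 (iv D15131)
def n15325 : Q := act 2 n14560
theorem D15325 : act 2 n14560 = n15325 := rfl
theorem F60505 : act 0 n15325 = n15325 := d1_1 D15325 (iv D15325) F57444
theorem F60506 : act 7 n15325 = n15325 := d19_2 F57445 D15325 (iv D15325)
theorem F60507 : act 8 n15325 = n15132 := d20_2 (iv F57446) D15325 (iv D15132)
def n15326 : Q := act 3 n14561
theorem D15326 : act 3 n14561 = n15326 := rfl
theorem F60508 : act 0 n15326 = n15326 := d2_1 D15326 (iv D15326) F57447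
theorem F60509 : act 5 n15326 = n15175 := d22_2 (iv F57449) D15326 (iv D15175)
theorem F60510 : act 7 n15326 = n14575 := d24_2 D14561 D15326 (iv D14575) (iv D13714) (iv F53991)
def n15327 : Q := act 3 n14562
theorem D15327 : act 3 n14562 = n15327 := rfl
theorem F60511 : act 0 n15327 = n15327 := d2_1 D15327 (iv D15327) F57450
theorem F60512 : act 6 n15327 = n14564 := d23_2 (iv F57451) D15327 (iv D14564)
theorem F60513 : act 7 n15327 = n14568 := d24_2 D14562 D15327 (iv D14568) (iv D13706) (iv F53995)
def n15328 : Q := act 3 n14563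
theorem D15328 : act 3 n14563 = n15328 := rfl
theorem F60514 : act 0 n15328 = n15328 := d2_1 D15328 (iv D15328) F57452
theorem F60515 : act 5 n15328 = n14565 := d22_2 (iv F57453) D15328 (iv D14565)
theorem F60516 : act 7 n15328 = n15328 := d24_2 D14563 D15328 (iv D15328) (iv D14563) F53998
theorem F60517 : act 8 n15328 = n14564 := d25_2 (iv F57454) D15328 (iv D14564)
def n15329 : Q := act 2 n14564
theorem D15329 : act 2 n14564 = n15329 := rfl
theorem F60518 : act 0 n15329 = n15329 := d1_1 D15329 (iv D15329) F57455
theorem F60519 : act 5 n15329 = n14566 := d17_2 (iv F57456) D15329 (iv D14566)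
theorem F60520 : act 7 n15329 = n14569 := d19_2 (iv F57457) D15329 (iv D14569)
theorem F60521 : act 4 n15327 = n15329 := d28_3 F60520 (iv F57473) (iv F60513)
def n15330 : Q := act 4 n14564
theorem D15330 : act 4 n14564 = n15330 := rfl
theorem F60522 : act 0 n15330 = n15330 := d3_1 D15330 (iv D15330) F57455
theorem F60523 : act 2 n15330 = n15327 := d16_1 D15330 F60521 (iv D15329)
theorem F60524 : act 6 n15330 = n15329 := d27_2 F60512 D15330 (iv F60521)
theorem F60525 : act 7 n15330 = n14570 := d28_2 (iv F57457) D15330 (iv D14570)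
def n15331 : Q := act 2 n14565
theorem D15331 : act 2 n14565 = n15331 := rfl
theorem F60526 : act 0 n15331 = n15331 := d1_1 D15331 (iv D15331) F57458
theorem F60527 : act 7 n15331 = n15331 := d19_2 F57459 D15331 (iv D15331)
theorem F60528 : act 8 n15331 = n14566 := d20_2 (iv F57460) D15331 (iv D14566)
def n15332 : Q := act 4 n14565
theorem D15332 : act 4 n14565 = n15332 := rfl
theorem F60529 : act 0 n15332 = n15332 := d3_1 D15332 (iv D15332) F57458
theorem F60530 : act 3 n15332 = n15128 := d21_1 D15332 F59791 (iv D14368) (iv F54003) D14565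
theorem F60531 : act 7 n15332 = n15332 := d28_2 F57459 D15332 (iv D15332)
theorem F60532 : act 8 n15332 = n14567 := d29_2 (iv F57460) D15332 (iv D14567)
theorem F60533 : act 5 n15129 = n15332 := d32_3 F60532 (iv F59750) (iv F59797)
def n15333 : Q := act 1 n14566
theorem D15333 : act 1 n14566 = n15333 := rfl
theorem F60534 : act 7 n15333 = n14571 := d13_2 (iv F57462) D15333 (iv D14571)
def n15334 : Q := act 4 n14566
theorem D15334 : act 4 n14566 = n15334 := rfl
theorem F60535 : act 0 n15334 = n15334 := d3_1 D15334 (iv D15334) F57461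
theorem F60536 : act 2 n15334 = n14567 := d16_1 D15334 (iv D14567) D14566
theorem F60537 : act 7 n15334 = n14572 := d28_2 (iv F57462) D15334 (iv D14572)
def n15335 : Q := act 1 n14569
theorem D15335 : act 1 n14569 = n15335 := rfl
theorem F60538 : act 3 n15335 = n14573 := d9_2 (iv F57470) D15335 (iv D14573)
theorem F60539 : act 4 n15335 = n15310 := d10_2 F57473 D15335 F60456
theorem F60540 : act 5 n15335 = n14571 := d11_2 (iv F57471) D15335 (iv D14571)
theorem F60541 : act 6 n15335 = n15312 := d12_2 F57477 D15335 F60463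
theorem F60542 : act 8 n15335 = n15335 := d14_2 F57472 D15335 (iv D15335)
def n15336 : Q := act 0 n14571
theorem D15336 : act 0 n14571 = n15336 := rfl
theorem F60543 : act 1 n15336 = n15336 := d0_2 D14571 D15336 (iv D15336) (iv D14571) F54015
theorem F60544 : act 3 n15336 = n14574 := d2_2 (iv F57479) D15336 (iv D14574)
theorem F60545 : act 8 n15336 = n15336 := d7_2 F57480 D15336 (iv D15336)
def n15337 : Q := act 4 n14571
theorem D15337 : act 4 n14571 = n15337 := rfl
theorem F60546 : act 1 n15337 = n14572 := d10_1 D15337 (iv D14572) D14571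
theorem F60547 : act 3 n15337 = n15337 := d21_1 D15337 (iv D15337) F57479 F54034 (iv F57479)
theorem F60548 : act 8 n15337 = n15337 := d29_2 F57480 D15337 (iv D15337)
def n15338 : Q := act 0 n14577
theorem D15338 : act 0 n14577 = n15338 := rfl
theorem F60549 : act 1 n15338 = n14689 := d0_2 D14577 D15338 (iv D14689) (iv D13849) (iv F54125)
theorem F60550 : act 2 n15338 = n15338 := d1_2 F57504 D15338 (iv D15338)
theorem F60551 : act 3 n15338 = n14590 := d2_2 (iv F57505) D15338 (iv D14590)
theorem F60552 : act 5 n15338 = n14867 := d4_2 (iv F57506) D15338 (iv D14867)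
theorem F60553 : act 6 n15338 = n14975 := d5_2 F59263 D15338 (iv F59257)
theorem F60554 : act 7 n15338 = n15278 := d6_2 F58195 D15338 F60383
theorem F60555 : act 4 n15279 = n15338 := d28_3 F60554 (iv D15278) D15279
def n15339 : Q := act 4 n14577
theorem D15339 : act 4 n14577 = n15339 := rfl
theorem F60556 : act 0 n15339 = n15279 := d3_1 D15339 F60555 (iv D15338)
theorem F60557 : act 1 n15339 = n14578 := d10_1 D15339 (iv D14578) D14577
theorem F60558 : act 2 n15339 = n15339 := d16_1 D15339 (iv D15339) F57504
theorem F60559 : act 6 n15339 = n14743 := d27_2 F59263 D15339 (iv F59261)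
theorem F60560 : act 7 n15339 = n14726 := d28_2 F58195 D15339 F58219
theorem F60561 : act 3 n15339 = n15235 := d37_3 F57088 (iv F57506) D15339 F60244 F57161 F57160 (iv D13661) (iv D12700) F45999 (iv D11310) F40915 F32747 F24222 F17990 D4979 F19343 F14355 F14354 F10902 (iv F14558) (iv F18399) (iv D4720) (iv D3449) (iv D2525) F7596 (iv F6956) F6955 (iv D1241) D1240 F38377 F5723 F4293 F3478 F2626 (iv F3403) F3402 F3401 (iv F3455) F3454 (iv F4560) (iv F6069) F6073 F6072 (iv F6680) F6679 (iv F8900) (iv F11883) F11882 F11886 D4058 (iv F19525) (iv F26333) (iv F35644) (iv F41525) F41524 D10580 (iv F45198) (iv F47914) D13128 D14041 D14862 F58822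
theorem F60562 : act 5 n15225 = n15339 := d36_3 (iv D14462) D14461 (iv F60214) (iv D15339) F57505 (iv D13738) (iv D12812) (iv D11820) D11821 F46512 (iv F49783) (iv F51733) F51732 F48345 F44311 F40794 (iv F39842) (iv D10091) (iv D8279) F23340 (iv D4456) F12978 F9697 (iv F7483) F7484 (iv F8032) F8034 F6073 F6071 F4552 F3793 (iv F5025) F5024 (iv F6675) (iv F8638) (iv F11447) F37850 (iv F17449) (iv F23520) (iv F31810) (iv F40047) (iv F43461) (iv F47453) F49750 F49749 (iv F47546) (iv F49704) F49706 F49705 F45725 (iv F45484) F45485 (iv F45234) F45236 (iv F45453) (iv F48541) (iv D12316) (iv D11294) (iv D10356) F32727 F24200 D6393 D8775 (iv F40062) (iv F43550) F43551 F41170 (iv F40185) (iv F43634) F43635 (iv F46291) (iv D11781) F42563 (iv D10815) F39339 F31214 D9965 F39341 F31229 (iv D6007) D6008 F23210 (iv F29617) (iv F39088) (iv F42250) (iv F45906) (iv F49795) (iv F53658) (iv F57137)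
def n15340 : Q := act 8 n14577
theorem D15340 : act 8 n14577 = n15340 := rfl
theorem F60563 : act 1 n15340 = n14579 := d14_1 D15340 (iv D14579) D14577
theorem F60564 : act 2 n15340 = n15340 := d20_1 D15340 (iv D15340) F57504
theorem F60565 : act 3 n15340 = n14592 := d25_1 D15340 (iv D14592) (iv F57505)
theorem F60566 : act 5 n15340 = n14869 := d32_1 D15340 (iv D14869) (iv F57506)
def n15341 : Q := act 3 n14578
theorem D15341 : act 3 n14578 = n15341 := rfl
theorem F60567 : act 0 n15341 = n14692 := d2_1 D15341 (iv D14692) (iv F57507)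
theorem F60568 : act 1 n15341 = n15235 := d9_1 D15341 (iv F60561) F60557
theorem F60569 : act 2 n15341 = n15341 := d15_1 D15341 (iv D15341) F57508 F54130 (iv F57508)
theorem F60570 : act 4 n15341 = n14593 := d21_2 D14578 D15341 (iv D14593) (iv D13739) (iv F54126)
theorem F60571 : act 6 n15341 = n14712 := d23_2 (iv F57509) D15341 F58159
theorem F60572 : act 7 n15341 = n14702 := d24_2 (iv F57510) D15341 (iv D14702) F54740 D13880
theorem F60573 : act 5 n15230 = n15341 := d31_3 F60572 F58117 D15230
def n15342 : Q := act 5 n14578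
theorem D15342 : act 5 n14578 = n15342 := rfl
theorem F60574 : act 0 n15342 = n14693 := d4_1 D15342 (iv D14693) (iv F57507)
theorem F60575 : act 1 n15342 = n15225 := d11_1 D15342 F60562 F60557
theorem F60576 : act 2 n15342 = n14580 := d17_1 D15342 (iv D14580) (iv F57508)
theorem F60577 : act 3 n15342 = n15230 := d22_1 D15342 F60573 (iv D15341)
theorem F60578 : act 4 n15342 = n14871 := d26_1 D15342 (iv D14871) (iv D14045) (iv F54127) D14578
theorem F60579 : act 7 n15342 = n14729 := d31_2 (iv F57510) D15342 (iv D14729)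
def n15343 : Q := act 8 n14578
theorem D15343 : act 8 n14578 = n15343 := rfl
theorem F60580 : act 0 n15343 = n14694 := d7_1 D15343 (iv D14694) (iv F57507)
theorem F60581 : act 2 n15343 = n14581 := d20_1 D15343 (iv D14581) (iv F57508)
theorem F60582 : act 4 n15343 = n14579 := d29_1 D15343 (iv D14579) D14578
theorem F60583 : act 6 n15343 = n14753 := d34_1 D15343 (iv D14753) (iv F57509)
def n15344 : Q := act 7 n14579
theorem D15344 : act 7 n14579 = n15344 := rfl
theorem F60584 : act 0 n15344 = n14695 := d6_1 D15344 (iv D14695) (iv F57511)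
theorem F60585 : act 2 n15344 = n14582 := d19_1 D15344 (iv D14582) (iv F57512)
theorem F60586 : act 5 n15344 = n14873 := d31_1 D15344 (iv D14873) (iv F57514)
def n15345 : Q := act 8 n14580
theorem D15345 : act 8 n14580 = n15345 := rfl
theorem F60587 : act 0 n15345 = n14697 := d7_1 D15345 (iv D14697) (iv F57515)
theorem F60588 : act 1 n15345 = n15345 := d14_1 D15345 (iv D15345) F57516
theorem F60589 : act 3 n15345 = n15345 := d25_1 D15345 (iv D15345) F57517
theorem F60590 : act 4 n15345 = n14874 := d29_1 D15345 (iv D14874) (iv F57518)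
theorem F60591 : act 5 n15345 = n14581 := d32_1 D15345 (iv D14581) D14580
def n15346 : Q := act 7 n14581
theorem D15346 : act 7 n14581 = n15346 := rfl
theorem F60592 : act 0 n15346 = n14698 := d6_1 D15346 (iv D14698) (iv F57520)
theorem F60593 : act 1 n15346 = n15346 := d13_1 D15346 (iv D15346) F57521
theorem F60594 : act 4 n15346 = n14582 := d28_1 D15346 (iv D14582) (iv F57523)
theorem F60595 : act 6 n15346 = n14774 := d33_1 D15346 (iv D14774) (iv F57524)
theorem F60596 : act 8 n15346 = n14764 := d35_2 D14581 D15346 (iv D14764) (iv D13904) (iv F54132)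
def n15347 : Q := act 8 n14583
theorem D15347 : act 8 n14583 = n15347 := rfl
theorem F60597 : act 0 n15347 = n14699 := d7_1 D15347 (iv D14699) (iv F57529)
theorem F60598 : act 1 n15347 = n14892 := d14_1 D15347 (iv D14892) (iv F57530)
theorem F60599 : act 2 n15347 = n14584 := d20_1 D15347 (iv D14584) D14583
theorem F60600 : act 4 n15347 = n14845 := d29_1 D15347 (iv D14845) (iv F57531)
theorem F60601 : act 5 n15347 = n14587 := d32_1 D15347 (iv D14587) (iv F57532)
theorem F60602 : act 6 n15347 = n14876 := d34_1 D15347 (iv D14876) (iv F57533)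
def n15348 : Q := act 7 n14584
theorem D15348 : act 7 n14584 = n15348 := rfl
theorem F60603 : act 0 n15348 = n14700 := d6_1 D15348 (iv D14700) (iv F57535)
theorem F60604 : act 1 n15348 = n14636 := d13_1 D15348 (iv D14636) (iv F57536)
theorem F60605 : act 3 n15348 = n14784 := d24_1 D15348 (iv D14784) F55007 (iv F54148) (iv F57537)
theorem F60606 : act 4 n15348 = n14853 := d28_1 D15348 (iv D14853) (iv F57538)
theorem F60607 : act 5 n15348 = n14589 := d31_1 D15348 (iv D14589) (iv F57539)
theorem F60608 : act 6 n15348 = n14877 := d33_1 D15348 (iv D14877) (iv F57540)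
theorem F60609 : act 8 n15348 = n14603 := d35_2 D14584 D15348 (iv D14603) (iv D13746) (iv F54142)
def n15349 : Q := act 8 n14585
theorem D15349 : act 8 n14585 = n15349 := rfl
theorem F60610 : act 0 n15349 = n14978 := d7_1 D15349 (iv D14978) (iv F57541)
theorem F60611 : act 1 n15349 = n14587 := d14_1 D15349 (iv D14587) D14585
theorem F60612 : act 2 n15349 = n14637 := d20_1 D15349 (iv D14637) (iv F57542)
theorem F60613 : act 4 n15349 = n14901 := d29_1 D15349 (iv D14901) F57546
theorem F60614 : act 5 n15349 = n14892 := d32_1 D15349 (iv D14892) (iv F57543)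
theorem F60615 : act 6 n15349 = n14592 := d34_1 D15349 (iv D14592) (iv F57544)
def n15350 : Q := act 3 n14586
theorem D15350 : act 3 n14586 = n15350 := rfl
theorem F60616 : act 0 n15350 = n14702 := d2_1 D15350 (iv D14702) (iv F57547)
theorem F60617 : act 1 n15350 = n14898 := d9_1 D15350 F58956 (iv F57548)
theorem F60618 : act 2 n15350 = n15350 := d15_1 D15350 (iv D15350) F57549 F54154 (iv F57549)
theorem F60619 : act 4 n15350 = n14712 := d21_2 D14586 D15350 F58159 (iv F56006) F56005
theorem F60620 : act 5 n15350 = n14895 := d22_2 (iv F57550) D15350 (iv D14895)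
theorem F60621 : act 6 n15350 = n14593 := d23_2 (iv F57551) D15350 (iv D14593)
theorem F60622 : act 7 n15350 = n14692 := d24_2 (iv F57552) D15350 (iv D14692) (iv F55968) F55966
def n15351 : Q := act 8 n14586
theorem D15351 : act 8 n14586 = n15351 := rfl
theorem F60623 : act 0 n15351 = n14703 := d7_1 D15351 (iv D14703) (iv F57547)
theorem F60624 : act 1 n15351 = n14901 := d14_1 D15351 (iv D14901) (iv F57548)
theorem F60625 : act 2 n15351 = n14588 := d20_1 D15351 (iv D14588) (iv F57549)
theorem F60626 : act 4 n15351 = n14587 := d29_1 D15351 (iv D14587) D14586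
theorem F60627 : act 5 n15351 = n14896 := d32_1 D15351 (iv D14896) (iv F57550)
theorem F60628 : act 6 n15351 = n14595 := d34_1 D15351 (iv D14595) (iv F57551)
def n15352 : Q := act 7 n14587
theorem D15352 : act 7 n14587 = n15352 := rfl
theorem F60629 : act 0 n15352 = n14704 := d6_1 D15352 (iv D14704) (iv F57553)
theorem F60630 : act 2 n15352 = n14589 := d19_1 D15352 (iv D14589) (iv F57554)
theorem F60631 : act 6 n15352 = n14596 := d33_1 D15352 (iv D14596) (iv F57555)
theorem F60632 : act 8 n15352 = n14607 := d35_2 D14587 D15352 (iv D14607) (iv D13749) (iv F54151)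
def n15353 : Q := act 7 n14588
theorem D15353 : act 7 n14588 = n15353 := rfl
theorem F60633 : act 0 n15353 = n14705 := d6_1 D15353 (iv D14705) (iv F57556)
theorem F60634 : act 1 n15353 = n14639 := d13_1 D15353 (iv D14639) (iv F57557)
theorem F60635 : act 4 n15353 = n14589 := d28_1 D15353 (iv D14589) (iv F57559)
theorem F60636 : act 5 n15353 = n14951 := d31_1 D15353 (iv D14951) (iv F57560)
theorem F60637 : act 6 n15353 = n14598 := d33_1 D15353 (iv D14598) (iv F57561)
theorem F60638 : act 8 n15353 = n14608 := d35_2 D14588 D15353 (iv D14608) (iv D13750) (iv F54157)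
def n15354 : Q := act 8 n14590
theorem D15354 : act 8 n14590 = n15354 := rfl
theorem F60639 : act 0 n15354 = n14592 := d7_1 D15354 (iv D14592) D14590
theorem F60640 : act 1 n15354 = n14706 := d14_1 D15354 (iv D14706) (iv F57567)
theorem F60641 : act 2 n15354 = n14640 := d20_1 D15354 (iv D14640) (iv F57568)
theorem F60642 : act 4 n15354 = n15048 := d29_1 D15354 (iv D15048) F57572
theorem F60643 : act 5 n15354 = n14880 := d32_1 D15354 (iv D14880) (iv F57569)
theorem F60644 : act 6 n15354 = n14978 := d34_1 D15354 (iv D14978) (iv F57570)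
def n15355 : Q := act 3 n14591
theorem D15355 : act 3 n14591 = n15355 := rfl
theorem F60645 : act 0 n15355 = n15043 := d2_1 D15355 F59486 (iv F57573)
theorem F60646 : act 1 n15355 = n14593 := d9_1 D15355 (iv D14593) (iv F57574)
theorem F60647 : act 2 n15355 = n14928 := d15_1 D15355 F59057 F55723 F54355 (iv F57575)
theorem F60648 : act 4 n15355 = n15235 := d21_2 D14591 D15355 (iv F60561) (iv D15339) F57505
theorem F60649 : act 5 n15355 = n14915 := d22_2 F57578 D15355 F59013
theorem F60650 : act 6 n15355 = n14898 := d23_2 (iv F57576) D15355 F58956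
theorem F60651 : act 7 n15234 = n15355 := d31_0 F60649 (iv F59014) (iv F60242)
def n15356 : Q := act 8 n14591
theorem D15356 : act 8 n14591 = n15356 := rfl
theorem F60652 : act 0 n15356 = n15048 := d7_1 D15356 (iv D15048) (iv F57573)
theorem F60653 : act 1 n15356 = n14595 := d14_1 D15356 (iv D14595) (iv F57574)
theorem F60654 : act 2 n15356 = n14641 := d20_1 D15356 (iv D14641) (iv F57575)
theorem F60655 : act 4 n15356 = n14592 := d29_1 D15356 (iv D14592) D14591
theorem F60656 : act 5 n15356 = n14920 := d32_1 D15356 (iv D14920) F57578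
theorem F60657 : act 6 n15356 = n14901 := d34_1 D15356 (iv D14901) (iv F57576)
def n15357 : Q := act 7 n14592
theorem D15357 : act 7 n14592 = n15357 := rfl
theorem F60658 : act 1 n15357 = n14596 := d13_1 D15357 (iv D14596) (iv F57579)
theorem F60659 : act 2 n15357 = n14642 := d19_1 D15357 (iv D14642) (iv F57580)
theorem F60660 : act 5 n15357 = n14883 := d31_1 D15357 (iv D14883) (iv F57581)
theorem F60661 : act 8 n15357 = n14614 := d35_2 D14592 D15357 (iv D14614) (iv D13754) (iv F54164)
def n15358 : Q := act 5 n14593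
theorem D15358 : act 5 n14593 = n15358 := rfl
theorem F60662 : act 0 n15358 = n14711 := d4_1 D15358 (iv D14711) (iv F57582)
theorem F60663 : act 1 n15358 = n14915 := d11_1 D15358 (iv F60649) F60646
theorem F60664 : act 2 n15358 = n15358 := d17_1 D15358 (iv D15358) F57583
theorem F60665 : act 3 n15358 = n14594 := d22_1 D15358 (iv D14594) D14593
theorem F60666 : act 6 n15358 = n14908 := d30_2 F60621 D15358 (iv D14908) (iv F58944) (iv F60620)
def n15359 : Q := act 7 n14593
theorem D15359 : act 7 n14593 = n15359 := rfl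
theorem F60667 : act 0 n15359 = n14712 := d6_1 D15359 (iv D14712) (iv F57582)
theorem F60668 : act 1 n15359 = n15234 := d13_1 D15359 F60651 F60646
theorem F60669 : act 2 n15359 = n15359 := d19_1 D15359 (iv D15359) F57583
theorem F60670 : act 3 n15359 = n14616 := d24_1 D15359 (iv D14616) (iv D13755) (iv F54167) D14593
theorem F60671 : act 4 n15359 = n14702 := d28_1 D15359 (iv F60572) F60570
theorem F60672 : act 6 n15359 = n14692 := d33_1 D15359 (iv F60622) F60621
def n15360 : Q := act 8 n14593
theorem D15360 : act 8 n14593 = n15360 := rfl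
theorem F60673 : act 0 n15360 = n14713 := d7_1 D15360 (iv D14713) (iv F57582)
theorem F60674 : act 2 n15360 = n15360 := d20_1 D15360 (iv D15360) F57583
theorem F60675 : act 3 n15360 = n14595 := d25_1 D15360 (iv D14595) D14593
def n15361 : Q := act 8 n14594
theorem D15361 : act 8 n14594 = n15361 := rfl
theorem F60676 : act 0 n15361 = n14715 := d7_1 D15361 (iv D14715) (iv F57584)
theorem F60677 : act 1 n15361 = n14920 := d14_1 D15361 (iv D14920) (iv F57585)
theorem F60678 : act 2 n15361 = n14597 := d20_1 D15361 (iv D14597) (iv F57586)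
theorem F60679 : act 4 n15361 = n14887 := d29_1 D15361 (iv D14887) (iv F57587)
theorem F60680 : act 5 n15361 = n14595 := d32_1 D15361 (iv D14595) D14594
theorem F60681 : act 6 n15361 = n14911 := d34_1 D15361 (iv D14911) (iv F57588)
def n15362 : Q := act 7 n14595
theorem D15362 : act 7 n14595 = n15362 := rfl
theorem F60682 : act 0 n15362 = n14716 := d6_1 D15362 (iv D14716) (iv F57590)
theorem F60683 : act 2 n15362 = n14598 := d19_1 D15362 (iv D14598) (iv F57591)
theorem F60684 : act 4 n15362 = n14596 := d28_1 D15362 (iv D14596) (iv F57592)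
theorem F60685 : act 8 n15362 = n14620 := d35_2 D14595 D15362 (iv D14620) (iv D13757) (iv F54167)
def n15363 : Q := act 3 n14596
theorem D15363 : act 3 n14596 = n15363 := rfl
theorem F60686 : act 0 n15363 = n14717 := d2_1 D15363 (iv D14717) (iv F57593)
theorem F60687 : act 2 n15363 = n15228 := d15_1 D15363 (iv D15228) F57115 (iv F54183) (iv F57594)
theorem F60688 : act 5 n15363 = n14889 := d22_2 (iv F57595) D15363 (iv D14889)
theorem F60689 : act 8 n15363 = n14621 := d25_2 (iv F57596) D15363 (iv D14621)
def n15364 : Q := act 7 n14597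
theorem D15364 : act 7 n14597 = n15364 := rfl
theorem F60690 : act 0 n15364 = n14719 := d6_1 D15364 (iv D14719) (iv F57597)
theorem F60691 : act 1 n15364 = n14645 := d13_1 D15364 (iv D14645) (iv F57598)
theorem F60692 : act 4 n15364 = n14890 := d28_1 D15364 (iv D14890) (iv F57600)
theorem F60693 : act 5 n15364 = n14598 := d31_1 D15364 (iv D14598) (iv F57601)
theorem F60694 : act 6 n15364 = n14957 := d33_1 D15364 (iv D14957) (iv F57602)
theorem F60695 : act 8 n15364 = n14623 := d35_2 D14597 D15364 (iv D14623) (iv D13760) (iv F54176)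
def n15365 : Q := act 3 n14598
theorem D15365 : act 3 n14598 = n15365 := rfl
theorem F60696 : act 0 n15365 = n14720 := d2_1 D15365 (iv D14720) (iv F57603)
theorem F60697 : act 1 n15365 = n14646 := d9_1 D15365 (iv D14646) (iv F57604)
theorem F60698 : act 4 n15365 = n15229 := d21_2 (iv F57605) D15365 (iv D15229) F57119 (iv F54183)
theorem F60699 : act 7 n15365 = n15365 := d24_2 D14598 D15365 (iv D15365) (iv D14598) F54179
theorem F60700 : act 8 n15365 = n14624 := d25_2 (iv F57606) D15365 (iv D14624)
def n15366 : Q := act 8 n14599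
theorem D15366 : act 8 n14599 = n15366 := rfl
theorem F60701 : act 0 n15366 = n14843 := d7_1 D15366 (iv D14843) (iv F57607)
theorem F60702 : act 1 n15366 = n14601 := d14_1 D15366 (iv D14601) D14599
theorem F60703 : act 2 n15366 = n14647 := d20_1 D15366 (iv D14647) (iv F57608)
theorem F60704 : act 4 n15366 = n14876 := d29_1 D15366 (iv D14876) F57612
theorem F60705 : act 5 n15366 = n14605 := d32_1 D15366 (iv D14605) (iv F57609)
theorem F60706 : act 6 n15366 = n14845 := d34_1 D15366 (iv D14845) (iv F57610)
def n15367 : Q := act 8 n14600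
theorem D15367 : act 8 n14600 = n15367 := rfl
theorem F60707 : act 0 n15367 = n14722 := d7_1 D15367 (iv D14722) (iv F57613)
theorem F60708 : act 1 n15367 = n14876 := d14_1 D15367 (iv D14876) (iv F57614)
theorem F60709 : act 2 n15367 = n14602 := d20_1 D15367 (iv D14602) (iv F57615)
theorem F60710 : act 4 n15367 = n14601 := d29_1 D15367 (iv D14601) D14600
theorem F60711 : act 5 n15367 = n14878 := d32_1 D15367 (iv D14878) (iv F57616)
theorem F60712 : act 6 n15367 = n14892 := d34_1 D15367 (iv D14892) (iv F57617)
def n15368 : Q := act 7 n14601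
theorem D15368 : act 7 n14601 = n15368 := rfl
theorem F60713 : act 0 n15368 = n14723 := d6_1 D15368 (iv D14723) (iv F57619)
theorem F60714 : act 2 n15368 = n14603 := d19_1 D15368 (iv D14603) (iv F57620)
theorem F60715 : act 5 n15368 = n14607 := d31_1 D15368 (iv D14607) (iv F57621)
theorem F60716 : act 6 n15368 = n14893 := d33_1 D15368 (iv D14893) (iv F57622)
def n15369 : Q := act 7 n14602
theorem D15369 : act 7 n14602 = n15369 := rfl
theorem F60717 : act 0 n15369 = n14724 := d6_1 D15369 (iv D14724) (iv F57623)
theorem F60718 : act 1 n15369 = n14649 := d13_1 D15369 (iv D14649) (iv F57624)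
theorem F60719 : act 4 n15369 = n14603 := d28_1 D15369 (iv D14603) (iv F57626)
theorem F60720 : act 5 n15369 = n14945 := d31_1 D15369 (iv D14945) (iv F57627)
theorem F60721 : act 6 n15369 = n14894 := d33_1 D15369 (iv D14894) (iv F57628)
theorem F60722 : act 8 n15369 = n14853 := d35_2 D14602 D15369 (iv D14853) (iv D14027) (iv F54194)
def n15370 : Q := act 8 n14604
theorem D15370 : act 8 n14604 = n15370 := rfl
theorem F60723 : act 0 n15370 = n14605 := d7_1 D15370 (iv D14605) D14604
theorem F60724 : act 1 n15370 = n14725 := d14_1 D15370 (iv D14725) (iv F57634)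
theorem F60725 : act 2 n15370 = n14650 := d20_1 D15370 (iv D14650) (iv F57635)
theorem F60726 : act 3 n15370 = n15366 := d25_1 D15370 (iv D15366) (iv F57636)
theorem F60727 : act 4 n15370 = n14944 := d29_1 D15370 F59136 (iv F57637)
theorem F60728 : act 5 n15370 = n14843 := d32_1 D15370 (iv D14843) (iv F57638)
theorem F60729 : act 6 n15370 = n14610 := d34_1 D15370 (iv D14610) (iv F57639)
def n15371 : Q := act 7 n14605
theorem D15371 : act 7 n14605 = n15371 := rfl
theorem F60730 : act 1 n15371 = n14607 := d13_1 D15371 (iv D14607) (iv F57641)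
theorem F60731 : act 2 n15371 = n14651 := d19_1 D15371 (iv D14651) (iv F57642)
theorem F60732 : act 4 n15371 = n15080 := d28_1 D15371 F59598 (iv F57643)
theorem F60733 : act 6 n15371 = n14614 := d33_1 D15371 (iv D14614) (iv F57644)
def n15372 : Q := act 7 n14606
theorem D15372 : act 7 n14606 = n15372 := rfl
theorem F60734 : act 0 n15372 = n14733 := d6_1 D15372 (iv D14733) (iv F57645)
theorem F60735 : act 1 n15372 = n15080 := d13_1 D15372 F59598 (iv F57646)
theorem F60736 : act 2 n15372 = n14608 := d19_1 D15372 (iv D14608) (iv F57647)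
theorem F60737 : act 4 n15372 = n14607 := d28_1 D15372 (iv D14607) (iv F57648)
theorem F60738 : act 5 n15372 = n15081 := d31_1 D15372 F59600 (iv F57649)
theorem F60739 : act 6 n15372 = n14620 := d33_1 D15372 (iv D14620) (iv F57650)
def n15373 : Q := act 3 n14607
theorem D15373 : act 3 n14607 = n15373 := rfl
theorem F60740 : act 0 n15373 = n14734 := d2_1 D15373 (iv D14734) (iv F57651)
theorem F60741 : act 2 n15373 = n15058 := d15_1 D15373 (iv D15058) F56236 (iv F54219) (iv F57652)
theorem F60742 : act 6 n15373 = n14621 := d23_2 (iv F57653) D15373 (iv D14621)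
def n15374 : Q := act 3 n14608
theorem D15374 : act 3 n14608 = n15374 := rfl
theorem F60743 : act 0 n15374 = n14737 := d2_1 D15374 (iv D14737) (iv F57654)
theorem F60744 : act 1 n15374 = n14653 := d9_1 D15374 (iv D14653) (iv F57655)
theorem F60745 : act 4 n15374 = n15108 := d21_2 (iv F57656) D15374 (iv D15108) F56425 (iv F54219)
theorem F60746 : act 5 n15374 = n15113 := d22_2 (iv F57657) D15374 F59718
theorem F60747 : act 6 n15374 = n14624 := d23_2 (iv F57658) D15374 (iv D14624)
theorem F60748 : act 7 n15374 = n14625 := d24_2 D14608 D15374 (iv D14625) (iv D13762) (iv F54213)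
def n15375 : Q := act 3 n14609
theorem D15375 : act 3 n14609 = n15375 := rfl
theorem F60749 : act 0 n15375 = n14611 := d2_1 D15375 (iv D14611) (iv F57659)
theorem F60750 : act 1 n15375 = n14738 := d9_1 D15375 (iv D14738) (iv F57660)
theorem F60751 : act 2 n15375 = n14989 := d15_1 D15375 F59304 F56894 (iv F54421) (iv F57661)
theorem F60752 : act 4 n15375 = n14982 := d21_2 D14609 D15375 F59284 F57531 F55426
theorem F60753 : act 5 n15375 = n15032 := d22_2 F57664 D15375 F59456
theorem F60754 : act 6 n15375 = n15019 := d23_2 (iv F57662) D15375 F59409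
theorem F60755 : act 7 n15375 = n14981 := d24_2 (iv F57663) D15375 F59279 F59489 F59486
def n15376 : Q := act 8 n14609
theorem D15376 : act 8 n14609 = n15376 := rfl
theorem F60756 : act 0 n15376 = n14613 := d7_1 D15376 (iv D14613) (iv F57659)
theorem F60757 : act 1 n15376 = n14740 := d14_1 D15376 (iv D14740) (iv F57660)
theorem F60758 : act 2 n15376 = n14654 := d20_1 D15376 (iv D14654) (iv F57661)
theorem F60759 : act 4 n15376 = n14610 := d29_1 D15376 (iv D14610) D14609
theorem F60760 : act 5 n15376 = n15037 := d32_1 D15376 (iv D15037) F57664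
theorem F60761 : act 6 n15376 = n14944 := d34_1 D15376 F59136 (iv F57662)
def n15377 : Q := act 7 n14610
theorem D15377 : act 7 n14610 = n15377 := rfl
theorem F60762 : act 0 n15377 = n14614 := d6_1 D15377 (iv D14614) (iv F57665)
theorem F60763 : act 1 n15377 = n14741 := d13_1 D15377 (iv D14741) (iv F57666)
theorem F60764 : act 2 n15377 = n14655 := d19_1 D15377 (iv D14655) (iv F57667)
theorem F60765 : act 5 n15377 = n14907 := d31_1 D15377 (iv D14907) (iv F57668)
def n15378 : Q := act 5 n14611
theorem D15378 : act 5 n14611 = n15378 := rfl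
theorem F60766 : act 0 n15378 = n15032 := d4_1 D15378 (iv F60753) F60749
theorem F60767 : act 1 n15378 = n14615 := d11_1 D15378 (iv D14615) (iv F57669)
theorem F60768 : act 2 n15378 = n15187 := d17_1 D15378 F60048 (iv F57670)
theorem F60769 : act 3 n15378 = n14612 := d22_1 D15378 (iv D14612) D14611
theorem F60770 : act 6 n15378 = n14884 := d30_2 (iv F57671) D15378 (iv D14884) F55596 (iv F57005)
def n15379 : Q := act 7 n14611
theorem D15379 : act 7 n14611 = n15379 := rfl
theorem F60771 : act 0 n15379 = n14981 := d6_1 D15379 (iv F60755) F60749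
theorem F60772 : act 1 n15379 = n14616 := d13_1 D15379 (iv D14616) (iv F57669)
theorem F60773 : act 2 n15379 = n14826 := d19_1 D15379 F58653 (iv F57670)
theorem F60774 : act 3 n15379 = n15234 := d24_1 D15379 F60651 (iv D15355) F57577 D14611
theorem F60775 : act 4 n15379 = n14686 := d28_1 D15379 F58058 F58047
theorem F60776 : act 6 n15379 = n14690 := d33_1 D15379 F58072 (iv F57671)
def n15380 : Q := act 8 n14611
theorem D15380 : act 8 n14611 = n15380 := rfl
theorem F60777 : act 1 n15380 = n14617 := d14_1 D15380 (iv D14617) (iv F57669)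
theorem F60778 : act 2 n15380 = n15098 := d20_1 D15380 F59665 (iv F57670)
theorem F60779 : act 3 n15380 = n14613 := d25_1 D15380 (iv D14613) D14611
theorem F60780 : act 6 n15380 = n15099 := d34_1 D15380 F59670 (iv F57671)
def n15381 : Q := act 8 n14612
theorem D15381 : act 8 n14612 = n15381 := rfl
theorem F60781 : act 0 n15381 = n15037 := d7_1 D15381 (iv D15037) (iv F57672)
theorem F60782 : act 1 n15381 = n14619 := d14_1 D15381 (iv D14619) (iv F57673)
theorem F60783 : act 2 n15381 = n14656 := d20_1 D15381 (iv D14656) (iv F57674)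
theorem F60784 : act 4 n15381 = n14911 := d29_1 D15381 (iv D14911) (iv F57675)
theorem F60785 : act 5 n15381 = n14613 := d32_1 D15381 (iv D14613) D14612
theorem F60786 : act 6 n15381 = n14887 := d34_1 D15381 (iv D14887) (iv F57676)
def n15382 : Q := act 7 n14613
theorem D15382 : act 7 n14613 = n15382 := rfl
theorem F60787 : act 1 n15382 = n14620 := d13_1 D15382 (iv D14620) (iv F57678)
theorem F60788 : act 2 n15382 = n14657 := d19_1 D15382 (iv D14657) (iv F57679)
theorem F60789 : act 4 n15382 = n14614 := d28_1 D15382 (iv D14614) (iv F57680)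
theorem F60790 : act 6 n15382 = n15080 := d33_1 D15382 F59598 (iv F57681)
def n15383 : Q := act 3 n14614
theorem D15383 : act 3 n14614 = n15383 := rfl
theorem F60791 : act 1 n15383 = n14621 := d9_1 D15383 (iv D14621) (iv F57682)
theorem F60792 : act 5 n15383 = n14913 := d22_2 (iv F57684) D15383 (iv D14913)
def n15384 : Q := act 4 n14615
theorem D15384 : act 4 n14615 = n15384 := rfl
theorem F60793 : act 0 n15384 = n14749 := d3_1 D15384 (iv D14749) (iv F57685)
theorem F60794 : act 2 n15384 = n14626 := d16_1 D15384 (iv D14626) (iv F57686)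
theorem F60795 : act 3 n15384 = n14914 := d21_1 D15384 (iv D14914) F55682 (iv F54234) (iv F57687)
theorem F60796 : act 5 n15384 = n15379 := d26_2 D14615 D15384 F60775 F58056 F55434
theorem F60797 : act 7 n15378 = n15384 := d31_0 F60796 (iv D15379) D15378
def n15385 : Q := act 6 n14615
theorem D15385 : act 6 n14615 = n15385 := rfl
theorem F60798 : act 0 n15385 = n14750 := d5_1 D15385 (iv D14750) (iv F57685)
theorem F60799 : act 1 n15385 = n14884 := d12_1 D15385 (iv F60770) F60767
theorem F60800 : act 2 n15385 = n14627 := d18_1 D15385 (iv D14627) (iv F57686)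
theorem F60801 : act 3 n15385 = n14618 := d23_1 D15385 (iv D14618) (iv F57687)
theorem F60802 : act 5 n15385 = n14881 := d30_1 D15385 F58895 F57008 F55967 D14615
def n15386 : Q := act 7 n14615
theorem D15386 : act 7 n14615 = n15386 := rfl
theorem F60803 : act 0 n15386 = n14751 := d6_1 D15386 (iv D14751) (iv F57685)
theorem F60804 : act 1 n15386 = n15384 := d13_1 D15386 (iv F60797) F60767
theorem F60805 : act 2 n15386 = n14628 := d19_1 D15386 (iv D14628) (iv F57686)
theorem F60806 : act 4 n15386 = n15378 := d28_1 D15386 F60797 (iv D15384)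
theorem F60807 : act 5 n15386 = n14616 := d31_1 D15386 (iv D14616) D14615
def n15387 : Q := act 8 n14615
theorem D15387 : act 8 n14615 = n15387 := rfl
theorem F60808 : act 0 n15387 = n14752 := d7_1 D15387 (iv D14752) (iv F57685)
theorem F60809 : act 2 n15387 = n14629 := d20_1 D15387 (iv D14629) (iv F57686)
theorem F60810 : act 3 n15387 = n14619 := d25_1 D15387 (iv D14619) (iv F57687)
theorem F60811 : act 5 n15387 = n14617 := d32_1 D15387 (iv D14617) D14615
def n15388 : Q := act 8 n14616
theorem D15388 : act 8 n14616 = n15388 := rfl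
theorem F60812 : act 0 n15388 = n14753 := d7_1 D15388 (iv D14753) (iv F57688)
theorem F60813 : act 2 n15388 = n14630 := d20_1 D15388 (iv D14630) (iv F57689)
theorem F60814 : act 4 n15388 = n14687 := d29_1 D15388 (iv D14687) (iv F57690)
theorem F60815 : act 6 n15388 = n14694 := d34_1 D15388 (iv D14694) (iv F57691)
def n15389 : Q := act 7 n14617
theorem D15389 : act 7 n14617 = n15389 := rfl
theorem F60816 : act 0 n15389 = n14754 := d6_1 D15389 (iv D14754) (iv F57692)
theorem F60817 : act 2 n15389 = n14631 := d19_1 D15389 (iv D14631) (iv F57693)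
def n15390 : Q := act 8 n14618
theorem D15390 : act 8 n14618 = n15390 := rfl
theorem F60818 : act 0 n15390 = n14755 := d7_1 D15390 (iv D14755) (iv F57695)
theorem F60819 : act 1 n15390 = n14887 := d14_1 D15390 (iv D14887) (iv F57696)
theorem F60820 : act 2 n15390 = n14622 := d20_1 D15390 (iv D14622) (iv F57697)
theorem F60821 : act 4 n15390 = n14920 := d29_1 D15390 (iv D14920) (iv F57698)
theorem F60822 : act 5 n15390 = n14882 := d32_1 D15390 (iv D14882) (iv F57699)
theorem F60823 : act 6 n15390 = n14619 := d34_1 D15390 (iv D14619) D14618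
def n15391 : Q := act 7 n14619
theorem D15391 : act 7 n14619 = n15391 := rfl
theorem F60824 : act 0 n15391 = n14756 := d6_1 D15391 (iv D14756) (iv F57701)
theorem F60825 : act 2 n15391 = n14623 := d19_1 D15391 (iv D14623) (iv F57702)
theorem F60826 : act 4 n15391 = n14921 := d28_1 D15391 (iv D14921) (iv F57703)
theorem F60827 : act 5 n15391 = n14620 := d31_1 D15391 (iv D14620) (iv F57704)
def n15392 : Q := act 3 n14620
theorem D15392 : act 3 n14620 = n15392 := rfl
theorem F60828 : act 0 n15392 = n14757 := d2_1 D15392 (iv D14757) (iv F57705)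
def n15393 : Q := act 4 n14621
theorem D15393 : act 4 n14621 = n15393 := rfl
theorem F60829 : act 0 n15393 = n14758 := d3_1 D15393 (iv D14758) (iv F57708)
theorem F60830 : act 2 n15393 = n15241 := d16_1 D15393 (iv D15241) (iv F57709)
def n15394 : Q := act 7 n14622
theorem D15394 : act 7 n14622 = n15394 := rfl
theorem F60831 : act 0 n15394 = n14759 := d6_1 D15394 (iv D14759) (iv F57711)
theorem F60832 : act 1 n15394 = n14661 := d13_1 D15394 (iv D14661) (iv F57712)
theorem F60833 : act 3 n15394 = n15321 := d24_1 D15394 F60493 F57427 F54289 (iv F57713)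
theorem F60834 : act 4 n15394 = n14924 := d28_1 D15394 (iv D14924) (iv F57714)
theorem F60835 : act 5 n15394 = n14948 := d31_1 D15394 (iv D14948) (iv F57715)
theorem F60836 : act 6 n15394 = n14623 := d33_1 D15394 (iv D14623) (iv F57716)
theorem F60837 : act 8 n15394 = n14957 := d35_2 D14622 D15394 (iv D14957) (iv D14131) (iv F54246)
def n15395 : Q := act 3 n14623
theorem D15395 : act 3 n14623 = n15395 := rfl
theorem F60838 : act 0 n15395 = n14760 := d2_1 D15395 (iv D14760) (iv F57717)
theorem F60839 : act 1 n15395 = n14662 := d9_1 D15395 (iv D14662) (iv F57718)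
theorem F60840 : act 5 n15395 = n14624 := d22_2 (iv F57720) D15395 (iv D14624)
theorem F60841 : act 6 n15395 = n15321 := d23_2 F60836 D15395 (iv F60833)
theorem F60842 : act 7 n15395 = n14634 := d24_2 D14623 D15395 (iv D14634) (iv D13770) (iv F54249)
def n15396 : Q := act 2 n14624
theorem D15396 : act 2 n14624 = n15396 := rfl
theorem F60843 : act 0 n15396 = n14761 := d1_1 D15396 (iv D14761) (iv F57721)
theorem F60844 : act 4 n15396 = n15243 := d16_2 (iv F57723) D15396 (iv D15243)
theorem F60845 : act 7 n15396 = n14635 := d19_2 (iv F57724) D15396 (iv D14635)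
def n15397 : Q := act 2 n14625
theorem D15397 : act 2 n14625 = n15397 := rfl
theorem F60846 : act 0 n15397 = n14769 := d1_1 D15397 (iv D14769) (iv F57725)
theorem F60847 : act 1 n15397 = n15181 := d8_1 D15397 (iv D15181) F56771 (iv F54469) (iv F57726)
theorem F60848 : act 4 n15397 = n15180 := d16_2 (iv F57727) D15397 (iv D15180)
theorem F60849 : act 5 n15397 = n15183 := d17_2 (iv F57728) D15397 F60024
theorem F60850 : act 6 n15397 = n14635 := d18_2 (iv F57729) D15397 (iv D14635)
theorem F60851 : act 8 n15397 = n15397 := d20_2 F57730 D15397 (iv D15397)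
def n15398 : Q := act 8 n14627
theorem D15398 : act 8 n14627 = n15398 := rfl
theorem F60852 : act 0 n15398 = n14771 := d7_1 D15398 (iv D14771) (iv F57733)
theorem F60853 : act 1 n15398 = n15172 := d14_1 D15398 F59983 (iv F57734)
theorem F60854 : act 3 n15398 = n14632 := d25_1 D15398 (iv D14632) (iv F57735)
theorem F60855 : act 5 n15398 = n15174 := d32_1 D15398 F59991 (iv F57736)
theorem F60856 : act 6 n15398 = n14629 := d34_1 D15398 (iv D14629) D14627
def n15399 : Q := act 8 n14628
theorem D15399 : act 8 n14628 = n15399 := rfl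
theorem F60857 : act 0 n15399 = n14772 := d7_1 D15399 (iv D14772) (iv F57737)
theorem F60858 : act 1 n15399 = n14830 := d14_1 D15399 (iv D14830) (iv F57738)
theorem F60859 : act 3 n15399 = n15399 := d25_1 D15399 (iv D15399) F57739
theorem F60860 : act 5 n15399 = n14630 := d32_1 D15399 (iv D14630) (iv F57740)
def n15400 : Q := act 7 n14629
theorem D15400 : act 7 n14629 = n15400 := rfl
theorem F60861 : act 0 n15400 = n14773 := d6_1 D15400 (iv D14773) (iv F57741)
theorem F60862 : act 5 n15400 = n14631 := d31_1 D15400 (iv D14631) (iv F57743)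
def n15401 : Q := act 7 n14630
theorem D15401 : act 7 n14630 = n15401 := rfl
theorem F60863 : act 0 n15401 = n14774 := d6_1 D15401 (iv D14774) (iv F57744)
theorem F60864 : act 1 n15401 = n14831 := d13_1 D15401 (iv D14831) (iv F57745)
theorem F60865 : act 4 n15401 = n14688 := d28_1 D15401 (iv D14688) (iv F57747)
theorem F60866 : act 6 n15401 = n14698 := d33_1 D15401 (iv D14698) (iv F57748)
theorem F60867 : act 8 n15401 = n14631 := d35_2 D14630 D15401 (iv D14631) (iv D13765) D13764
def n15402 : Q := act 3 n14631
theorem D15402 : act 3 n14631 = n15402 := rfl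
theorem F60868 : act 0 n15402 = n14775 := d2_1 D15402 (iv D14775) (iv F57749)
theorem F60869 : act 7 n15402 = n14633 := d24_2 D14631 D15402 (iv D14633) (iv D13768) (iv F54269)
def n15403 : Q := act 2 n14633
theorem D15403 : act 2 n14633 = n15403 := rfl
theorem F60870 : act 0 n15403 = n14778 := d1_1 D15403 (iv D14778) (iv F57757)
theorem F60871 : act 3 n15403 = n14635 := d15_2 D14633 D15403 (iv D14635) (iv D13771) (iv F54281)
theorem F60872 : act 8 n15403 = n15403 := d20_2 F57758 D15403 (iv D15403)
def n15404 : Q := act 2 n14634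
theorem D15404 : act 2 n14634 = n15404 := rfl
theorem F60873 : act 0 n15404 = n14780 := d1_1 D15404 (iv D14780) (iv F57759)
theorem F60874 : act 1 n15404 = n15315 := d8_1 D15404 (iv D15315) F57363 (iv F54475) (iv F57760)
theorem F60875 : act 5 n15404 = n14635 := d17_2 (iv F57761) D15404 (iv D14635)
theorem F60876 : act 6 n15404 = n15316 := d18_2 (iv F57762) D15404 F60474
theorem F60877 : act 8 n15404 = n15404 := d20_2 F57763 D15404 (iv D15404)
def n15405 : Q := act 1 n14635
theorem D15405 : act 1 n14635 = n15405 := rfl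
theorem F60878 : act 2 n15405 = n14665 := d8_2 D14635 D15405 (iv D14665) (iv D13809) (iv F54297)
theorem F60879 : act 4 n15405 = n15255 := d10_2 (iv F57765) D15405 (iv D15255)
theorem F60880 : act 5 n15405 = n15315 := d11_2 F60875 D15405 (iv F60874)
theorem F60881 : act 6 n15405 = n15181 := d12_2 F60850 D15405 (iv F60847)
theorem F60882 : act 8 n15405 = n15405 := d14_2 F57766 D15405 (iv D15405)
def n15406 : Q := act 7 n14637
theorem D15406 : act 7 n14637 = n15406 := rfl
theorem F60883 : act 0 n15406 = n14995 := d6_1 D15406 (iv D14995) (iv F57774)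
theorem F60884 : act 1 n15406 = n14638 := d13_1 D15406 (iv D14638) (iv F57775)
theorem F60885 : act 4 n15406 = n14904 := d28_1 D15406 (iv D14904) (iv F57777)
theorem F60886 : act 5 n15406 = n14894 := d31_1 D15406 (iv D14894) (iv F57778)
theorem F60887 : act 6 n15406 = n14642 := d33_1 D15406 (iv D14642) (iv F57779)
theorem F60888 : act 8 n15406 = n14651 := d35_2 D14637 D15406 (iv D14651) (iv D13793) (iv F54327)
def n15407 : Q := act 3 n14638
theorem D15407 : act 3 n14638 = n15407 := rfl
theorem F60889 : act 0 n15407 = n14670 := d2_1 D15407 (iv D14670) (iv F57780)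
theorem F60890 : act 2 n15407 = n14966 := d15_1 D15407 (iv D14966) F55924 (iv F54341) (iv F57781)
theorem F60891 : act 4 n15407 = n14790 := d21_2 (iv F57782) D15407 (iv D14790) F55043 (iv F55866)
theorem F60892 : act 5 n15407 = n14950 := d22_2 (iv F57783) D15407 (iv D14950)
theorem F60893 : act 6 n15407 = n14644 := d23_2 (iv F57784) D15407 (iv D14644)
theorem F60894 : act 7 n15407 = n15407 := d24_2 D14638 D15407 (iv D15407) (iv D14638) F54330
theorem F60895 : act 8 n15407 = n14652 := d25_2 (iv F57785) D15407 (iv D14652)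
def n15408 : Q := act 3 n14639
theorem D15408 : act 3 n14639 = n15408 := rfl
theorem F60896 : act 0 n15408 = n14671 := d2_1 D15408 (iv D14671) (iv F57786)
theorem F60897 : act 2 n15408 = n15106 := d15_1 D15408 (iv D15106) F56405 (iv F55866) (iv F57787)
theorem F60898 : act 4 n15408 = n15114 := d21_2 (iv F57788) D15408 (iv D15114) F56449 (iv F54341)
theorem F60899 : act 5 n15408 = n14953 := d22_2 (iv F57789) D15408 (iv D14953)
theorem F60900 : act 6 n15408 = n14646 := d23_2 (iv F57790) D15408 (iv D14646)
theorem F60901 : act 7 n15408 = n15408 := d24_2 D14639 D15408 (iv D15408) (iv D14639) F54336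
theorem F60902 : act 8 n15408 = n14653 := d25_2 (iv F57791) D15408 (iv D14653)
def n15409 : Q := act 7 n14640
theorem D15409 : act 7 n14640 = n15409 := rfl
theorem F60903 : act 0 n15409 = n14642 := d6_1 D15409 (iv D14642) (iv F57792)
theorem F60904 : act 1 n15409 = n14672 := d13_1 D15409 (iv D14672) (iv F57793)
theorem F60905 : act 4 n15409 = n15052 := d28_1 D15409 (iv D15052) (iv F57795)
theorem F60906 : act 5 n15409 = n14947 := d31_1 D15409 (iv D14947) (iv F57796)
theorem F60907 : act 6 n15409 = n14995 := d33_1 D15409 (iv D14995) (iv F57797)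
theorem F60908 : act 8 n15409 = n14655 := d35_2 D14640 D15409 (iv D14655) (iv D13797) (iv F54348)
def n15410 : Q := act 7 n14641
theorem D15410 : act 7 n14641 = n15410 := rfl
theorem F60909 : act 0 n15410 = n15052 := d6_1 D15410 (iv D15052) (iv F57798)
theorem F60910 : act 1 n15410 = n14643 := d13_1 D15410 (iv D14643) (iv F57799)
theorem F60911 : act 3 n15410 = n15041 := d24_1 D15410 (iv D15041) F56192 (iv F55738) (iv F57800)
theorem F60912 : act 4 n15410 = n14642 := d28_1 D15410 (iv D14642) (iv F57801)
theorem F60913 : act 5 n15410 = n14924 := d31_1 D15410 (iv D14924) (iv F57802)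
theorem F60914 : act 6 n15410 = n14904 := d33_1 D15410 (iv D14904) (iv F57803)
theorem F60915 : act 8 n15410 = n14657 := d35_2 D14641 D15410 (iv D14657) (iv D13799) (iv F54354)
def n15411 : Q := act 3 n14642
theorem D15411 : act 3 n14642 = n15411 := rfl
theorem F60916 : act 1 n15411 = n14644 := d9_1 D15411 (iv D14644) (iv F57804)
theorem F60917 : act 5 n15411 = n14949 := d22_2 (iv F57805) D15411 (iv D14949)
theorem F60918 : act 7 n15411 = n15411 := d24_2 D14642 D15411 (iv D15411) (iv D14642) F54357
theorem F60919 : act 8 n15411 = n14658 := d25_2 (iv F57806) D15411 (iv D14658)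
def n15412 : Q := act 4 n14644
theorem D15412 : act 4 n14644 = n15412 := rfl
theorem F60920 : act 0 n15412 = n14674 := d3_1 D15412 (iv D14674) (iv F57814)
theorem F60921 : act 2 n15412 = n15257 := d16_1 D15412 (iv D15257) (iv F57815)
theorem F60922 : act 3 n15412 = n14789 := d21_1 D15412 F58449 (iv F57809) F57810 D14644
theorem F60923 : act 6 n15412 = n14790 := d27_2 F60893 D15412 (iv F60891)
theorem F60924 : act 7 n15412 = n15412 := d28_2 F57817 D15412 (iv D15412)
theorem F60925 : act 8 n15412 = n14660 := d29_2 (iv F57818) D15412 (iv D14660)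
theorem F60926 : act 5 n14967 = n15412 := d32_3 F60925 (iv F57903) (iv F59225)
def n15413 : Q := act 3 n14645
theorem D15413 : act 3 n14645 = n15413 := rfl
theorem F60927 : act 0 n15413 = n14675 := d2_1 D15413 (iv D14675) (iv F57819)
theorem F60928 : act 2 n15413 = n14821 := d15_1 D15413 (iv D14821) (iv F58021) F58022 (iv F57820)
theorem F60929 : act 4 n15413 = n14997 := d21_2 (iv F57821) D15413 (iv D14997) F56097 (iv F55844)
theorem F60930 : act 5 n15413 = n14646 := d22_2 (iv F57822) D15413 (iv D14646)
theorem F60931 : act 6 n15413 = n14961 := d23_2 (iv F57823) D15413 (iv D14961)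
theorem F60932 : act 7 n15413 = n15413 := d24_2 D14645 D15413 (iv D15413) (iv D14645) F54371
theorem F60933 : act 8 n15413 = n14662 := d25_2 (iv F57824) D15413 (iv D14662)
def n15414 : Q := act 2 n14646
theorem D15414 : act 2 n14646 = n15414 := rfl
theorem F60934 : act 0 n15414 = n14676 := d1_1 D15414 (iv D14676) (iv F57825)
theorem F60935 : act 3 n15414 = n14820 := d15_2 D14646 D15414 F58617 (iv F57809) F57808
theorem F60936 : act 4 n15414 = n15258 := d16_2 (iv F57826) D15414 (iv D15258)
theorem F60937 : act 5 n15414 = n14821 := d17_2 F60930 D15414 (iv F60928)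
theorem F60938 : act 6 n15414 = n15106 := d18_2 F60900 D15414 (iv F60897)
theorem F60939 : act 7 n15414 = n15414 := d19_2 F57827 D15414 (iv D15414)
theorem F60940 : act 8 n15414 = n14663 := d20_2 (iv F57828) D15414 (iv D14663)
def n15415 : Q := act 7 n14647
theorem D15415 : act 7 n14647 = n15415 := rfl
theorem F60941 : act 0 n15415 = n14851 := d6_1 D15415 (iv D14851) (iv F57829)
theorem F60942 : act 1 n15415 = n14648 := d13_1 D15415 (iv D14648) (iv F57830)
theorem F60943 : act 3 n15415 = n15301 := d24_1 D15415 F60435 F57369 F54496 (iv F57831)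
theorem F60944 : act 4 n15415 = n14877 := d28_1 D15415 (iv D14877) (iv F57832)
theorem F60945 : act 5 n15415 = n14651 := d31_1 D15415 (iv D14651) (iv F57833)
theorem F60946 : act 6 n15415 = n14853 := d33_1 D15415 (iv D14853) (iv F57834)
theorem F60947 : act 8 n15415 = n14894 := d35_2 D14647 D15415 (iv D14894) (iv D14066) (iv F54383)
def n15416 : Q := act 3 n14649
theorem D15416 : act 3 n14649 = n15416 := rfl
theorem F60948 : act 0 n15416 = n14677 := d2_1 D15416 (iv D14677) (iv F57842)
theorem F60949 : act 2 n15416 = n14997 := d15_1 D15416 (iv D14997) F56096 (iv F55811) (iv F57843)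
theorem F60950 : act 4 n15416 = n14821 := d21_2 (iv F57844) D15416 (iv D14821) F55233 (iv F54397)
theorem F60951 : act 5 n15416 = n14946 := d22_2 (iv F57845) D15416 (iv D14946)
theorem F60952 : act 6 n15416 = n14950 := d23_2 (iv F57846) D15416 (iv D14950)
theorem F60953 : act 7 n15416 = n15416 := d24_2 D14649 D15416 (iv D15416) (iv D14649) F54392
theorem F60954 : act 8 n15416 = n14859 := d25_2 (iv F57847) D15416 (iv D14859)
def n15417 : Q := act 7 n14650
theorem D15417 : act 7 n14650 = n15417 := rfl
theorem F60955 : act 0 n15417 = n14651 := d6_1 D15417 (iv D14651) (iv F57848)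
theorem F60956 : act 1 n15417 = n14678 := d13_1 D15417 (iv D14678) (iv F57849)
theorem F60957 : act 4 n15417 = n14925 := d28_1 D15417 F59042 (iv F57851)
theorem F60958 : act 5 n15417 = n14851 := d31_1 D15417 (iv D14851) (iv F57852)
theorem F60959 : act 6 n15417 = n14655 := d33_1 D15417 (iv D14655) (iv F57853)
theorem F60960 : act 8 n15417 = n14995 := d35_2 D14650 D15417 (iv D14995) (iv D14186) (iv F54405)
def n15418 : Q := act 3 n14651
theorem D15418 : act 3 n14651 = n15418 := rfl
theorem F60961 : act 1 n15418 = n14652 := d9_1 D15418 (iv D14652) (iv F57854)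
theorem F60962 : act 4 n15418 = n14760 := d21_2 (iv F57855) D15418 (iv D14760) F54885 D14255
theorem F60963 : act 5 n15418 = n15301 := d22_2 F60945 D15418 (iv F60943)
theorem F60964 : act 6 n15418 = n14658 := d23_2 (iv F57856) D15418 (iv D14658)
theorem F60965 : act 7 n15418 = n14666 := d24_2 D14651 D15418 (iv D14666) (iv D13813) (iv F54407)
def n15419 : Q := act 7 n14654
theorem D15419 : act 7 n14654 = n15419 := rfl
theorem F60966 : act 0 n15419 = n14657 := d6_1 D15419 (iv D14657) (iv F57869)
theorem F60967 : act 1 n15419 = n14680 := d13_1 D15419 (iv D14680) (iv F57870)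
theorem F60968 : act 3 n15419 = n14924 := d24_1 D15419 (iv D14924) F55699 D14108 (iv F57871)
theorem F60969 : act 4 n15419 = n14655 := d28_1 D15419 (iv D14655) (iv F57872)
theorem F60970 : act 5 n15419 = n15041 := d31_1 D15419 (iv D15041) (iv F57873)
theorem F60971 : act 6 n15419 = n14925 := d33_1 D15419 F59042 (iv F57874)
theorem F60972 : act 8 n15419 = n15052 := d35_2 D14654 D15419 (iv D15052) (iv D14231) (iv F54423)
def n15420 : Q := act 3 n14655
theorem D15420 : act 3 n14655 = n15420 := rfl
theorem F60973 : act 0 n15420 = n14658 := d2_1 D15420 (iv D14658) (iv F57875)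
theorem F60974 : act 1 n15420 = n14681 := d9_1 D15420 (iv D14681) (iv F57876)
theorem F60975 : act 4 n15420 = n15321 := d21_2 F60969 D15420 (iv F60833) F60834 (iv F60968)
theorem F60976 : act 5 n15420 = n14956 := d22_2 (iv F57877) D15420 (iv D14956)
theorem F60977 : act 7 n15420 = n14667 := d24_2 D14655 D15420 (iv D14667) (iv D13815) (iv F54427)
def n15421 : Q := act 7 n14656
theorem D15421 : act 7 n14656 = n15421 := rfl
theorem F60978 : act 0 n15421 = n15041 := d6_1 D15421 (iv D15041) (iv F57878)
theorem F60979 : act 1 n15421 = n14659 := d13_1 D15421 (iv D14659) (iv F57879)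
theorem F60980 : act 3 n15421 = n15052 := d24_1 D15421 (iv D15052) F56220 D14267 (iv F57880)
theorem F60981 : act 4 n15421 = n14957 := d28_1 D15421 (iv D14957) (iv F57881)
theorem F60982 : act 5 n15421 = n14657 := d31_1 D15421 (iv D14657) (iv F57882)
theorem F60983 : act 6 n15421 = n14890 := d33_1 D15421 (iv D14890) (iv F57883)
theorem F60984 : act 8 n15421 = n14924 := d35_2 D14656 D15421 (iv D14924) (iv D14089) (iv F54434)
def n15422 : Q := act 2 n14658
theorem D15422 : act 2 n14658 = n15422 := rfl
theorem F60985 : act 1 n15422 = n15260 := d8_1 D15422 (iv D15260) F57237 (iv F54453) (iv F57888)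
theorem F60986 : act 5 n15422 = n14959 := d17_2 (iv F57889) D15422 (iv D14959)
theorem F60987 : act 7 n15422 = n14668 := d19_2 (iv F57890) D15422 (iv D14668)
def n15423 : Q := act 4 n14658
theorem D15423 : act 4 n14658 = n15423 := rfl
theorem F60988 : act 0 n15423 = n15321 := d3_1 D15423 (iv F60975) F60973
theorem F60989 : act 1 n15423 = n14660 := d10_1 D15423 (iv D14660) (iv F57888)
theorem F60990 : act 3 n15423 = n14759 := d21_1 D15423 F58328 (iv F57885) F57886 D14658
theorem F60991 : act 6 n15423 = n14760 := d27_2 F60964 D15423 (iv F60962)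
theorem F60992 : act 7 n15423 = n14669 := d28_2 (iv F57890) D15423 (iv D14669)
theorem F60993 : act 5 n15322 = n15423 := d37_1 (iv F60495) (iv D15423) (iv D14658) (iv F57683) F57682 F54238 (iv D12954) F47012 (iv F48575) (iv F52565) F52564 F48616 F44944 D12466 (iv F53065) (iv F56716) D15175 (iv F59996) (iv F60864) F60863 (iv D14774) (iv F58378) (iv F60133) F60132 F56979 F53427 F49591 (iv F48305) F48303 F44249 (iv F42993) (iv F46397) F46396 (iv F50393) (iv F50399) F50288 (iv D12777) (iv D11764) (iv F46075) (iv F50020) (iv F53706) (iv D13607) F49824 F45853 F42210 F39060 F32306 F23895 (iv F23815) F23814 F17671 (iv F21990) F21989 F21988 (iv F22065) D7787 (iv F39197) (iv F42391) D11722 D12730 D13689 D14556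
def n15424 : Q := act 4 n14662
theorem D15424 : act 4 n14662 = n15424 := rfl
theorem F60994 : act 0 n15424 = n14679 := d3_1 D15424 F58015 (iv F57911)
theorem F60995 : act 2 n15424 = n14859 := d16_1 D15424 F58810 (iv F57912)
theorem F60996 : act 3 n15424 = n14678 := d21_1 D15424 F58009 (iv D14138) (iv F54463) D14662
theorem F60997 : act 5 n15424 = n14852 := d26_2 (iv F57913) D15424 F58779 F57244 (iv F54466)
theorem F60998 : act 6 n15424 = n14681 := d27_2 (iv F57914) D15424 F58029
theorem F60999 : act 7 n15424 = n14664 := d28_2 (iv F57915) D15424 (iv D14664)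
theorem F61000 : act 8 n15424 = n14997 := d29_2 F60933 D15424 (iv F60929)
def n15425 : Q := act 1 n14663
theorem D15425 : act 1 n14663 = n15425 := rfl
theorem F61001 : act 3 n15425 = n15109 := d9_2 (iv F57917) D15425 F59706
theorem F61002 : act 4 n15425 = n15265 := d10_2 (iv F57918) D15425 (iv D15265)
theorem F61003 : act 5 n15425 = n15299 := d11_2 (iv F57919) D15425 F60429
theorem F61004 : act 6 n15425 = n15110 := d12_2 (iv F57920) D15425 F59709
theorem F61005 : act 7 n15425 = n14665 := d13_2 (iv F57921) D15425 (iv D14665)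
def n15426 : Q := act 0 n14665
theorem D15426 : act 0 n14665 = n15426 := rfl
theorem F61006 : act 1 n15426 = n14683 := d0_2 D14665 D15426 (iv D14683) (iv D13843) (iv F54479)
theorem F61007 : act 3 n15426 = n15178 := d2_2 (iv F57928) D15426 F60005
theorem F61008 : act 4 n15426 = n15266 := d3_2 (iv F57929) D15426 (iv D15266)
theorem F61009 : act 5 n15426 = n14858 := d4_2 (iv F57930) D15426 F58804
theorem F61010 : act 6 n15426 = n15179 := d5_2 (iv F57931) D15426 F60011
theorem F61011 : act 8 n15426 = n15426 := d7_2 F57932 D15426 (iv D15426)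
def n15427 : Q := act 2 n14666
theorem D15427 : act 2 n14666 = n15427 := rfl
theorem F61012 : act 1 n15427 = n14964 := d8_1 D15427 (iv D14964) F55911 (iv F54509) (iv F57933)
theorem F61013 : act 4 n15427 = n14780 := d16_2 (iv F57934) D15427 (iv D14780)
theorem F61014 : act 5 n15427 = n15317 := d17_2 (iv F57935) D15427 F60477
theorem F61015 : act 6 n15427 = n14668 := d18_2 (iv F57936) D15427 (iv D14668)
theorem F61016 : act 8 n15427 = n15427 := d20_2 F57937 D15427 (iv D15427)
def n15428 : Q := act 2 n14667
theorem D15428 : act 2 n14667 = n15428 := rfl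
theorem F61017 : act 0 n15428 = n14668 := d1_1 D15428 (iv D14668) (iv F57938)
theorem F61018 : act 1 n15428 = n15317 := d8_1 D15428 F60477 F57368 (iv F54679) (iv F57939)
theorem F61019 : act 4 n15428 = n15316 := d16_2 (iv F57940) D15428 F60474
theorem F61020 : act 5 n15428 = n14964 := d17_2 (iv F57941) D15428 (iv D14964)
theorem F61021 : act 8 n15428 = n15428 := d20_2 F57942 D15428 (iv D15428)
def n15429 : Q := act 4 n14668
theorem D15429 : act 4 n14668 = n15429 := rfl
theorem F61022 : act 0 n15429 = n15316 := d3_1 D15429 (iv F61019) F61017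
theorem F61023 : act 1 n15429 = n15267 := d10_1 D15429 (iv D15267) (iv F57943)
theorem F61024 : act 2 n15429 = n14669 := d16_1 D15429 (iv D14669) D14668
theorem F61025 : act 6 n15429 = n14780 := d27_2 F61015 D15429 (iv F61013)
theorem F61026 : act 8 n15429 = n15429 := d29_2 F57945 D15429 (iv D15429)
theorem F61027 : act 5 n15318 = n15429 := d17_0 F61024 (iv F57951) (iv F60479)
def n15430 : Q := act 3 n14672
theorem D15430 : act 3 n14672 = n15430 := rfl
theorem F61028 : act 0 n15430 = n14673 := d2_1 D15430 (iv D14673) (iv F57966)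
theorem F61029 : act 2 n15430 = n14950 := d15_1 D15430 (iv D14950) (iv F57768) F57769 (iv F57967)
theorem F61030 : act 4 n15430 = n14961 := d21_2 (iv F57968) D15430 (iv D14961) (iv F57894) F57893
theorem F61031 : act 5 n15430 = n14966 := d22_2 (iv F57969) D15430 (iv D14966)
theorem F61032 : act 6 n15430 = n14997 := d23_2 (iv F57970) D15430 (iv D14997)
theorem F61033 : act 7 n15430 = n15430 := d24_2 D14672 D15430 (iv D15430) (iv D14672) F54548
theorem F61034 : act 8 n15430 = n14681 := d25_2 (iv F57971) D15430 (iv D14681)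
def n15431 : Q := act 0 n14682
theorem D15431 : act 0 n14682 = n15431 := rfl
theorem F61035 : act 2 n15431 = n14824 := d1_2 (iv F58032) D15431 (iv D14824)
theorem F61036 : act 3 n15431 = n14787 := d2_2 (iv F58033) D15431 F58435
theorem F61037 : act 4 n15431 = n15264 := d3_2 (iv F58034) D15431 F60336
theorem F61038 : act 5 n15431 = n14788 := d4_2 (iv F58035) D15431 F58441
theorem F61039 : act 6 n15431 = n15116 := d5_2 (iv F58036) D15431 F59732
theorem F61040 : act 7 n15431 = n14683 := d6_2 (iv F58037) D15431 (iv D14683)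
theorem F61041 : act 8 n15431 = n14805 := d7_2 (iv F58038) D15431 F58532
def n15432 : Q := act 8 n14684
theorem D15432 : act 8 n14684 = n15432 := rfl
theorem F61042 : act 1 n15432 = n14847 := d14_1 D15432 (iv D14847) (iv F58045)
theorem F61043 : act 2 n15432 = n14685 := d20_1 D15432 (iv D14685) D14684
theorem F61044 : act 3 n15432 = n14699 := d25_1 D15432 (iv D14699) (iv F58046)
theorem F61045 : act 4 n15432 = n15380 := d29_1 D15432 (iv D15380) (iv F58047)
theorem F61046 : act 5 n15432 = n14687 := d32_1 D15432 (iv D14687) (iv F58048)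
theorem F61047 : act 6 n15432 = n14968 := d34_1 D15432 (iv D14968) (iv F58049)
def n15433 : Q := act 7 n14685
theorem D15433 : act 7 n14685 = n15433 := rfl
theorem F61048 : act 1 n15433 = n14825 := d13_1 D15433 (iv D14825) (iv F58050)
theorem F61049 : act 3 n15433 = n14835 := d24_1 D15433 (iv D14835) F55320 (iv F54690) (iv F58051)
theorem F61050 : act 5 n15433 = n14688 := d31_1 D15433 (iv D14688) (iv F58052)
theorem F61051 : act 6 n15433 = n14998 := d33_1 D15433 (iv D14998) (iv F58053)
def n15434 : Q := act 8 n14686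
theorem D15434 : act 8 n14686 = n15434 := rfl
theorem F61052 : act 0 n15434 = n14983 := d7_1 D15434 (iv D14983) F58059
theorem F61053 : act 1 n15434 = n14687 := d14_1 D15434 (iv D14687) D14686
theorem F61054 : act 2 n15434 = n14827 := d20_1 D15434 (iv D14827) (iv F58054)
theorem F61055 : act 3 n15434 = n14701 := d25_1 D15434 (iv D14701) (iv F58055)
theorem F61056 : act 5 n15434 = n14847 := d32_1 D15434 (iv D14847) (iv F58056)
theorem F61057 : act 6 n15434 = n14691 := d34_1 D15434 (iv D14691) (iv F58057)
def n15435 : Q := act 7 n14687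
theorem D15435 : act 7 n14687 = n15435 := rfl
theorem F61058 : act 2 n15435 = n14688 := d19_1 D15435 (iv D14688) (iv F58060)
theorem F61059 : act 6 n15435 = n14695 := d33_1 D15435 (iv D14695) (iv F58062)
def n15436 : Q := act 4 n14689
theorem D15436 : act 4 n14689 = n15436 := rfl
theorem F61060 : act 0 n15436 = n14690 := d3_1 D15436 (iv D14690) D14689
theorem F61061 : act 1 n15436 = n15279 := d10_1 D15436 F60555 F60549
theorem F61062 : act 2 n15436 = n14832 := d16_1 D15436 (iv D14832) (iv F58066)
theorem F61063 : act 3 n15436 = n15044 := d21_1 D15436 F59492 F57312 F54756 (iv F58067)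
theorem F61064 : act 6 n15436 = n14981 := d27_2 (iv F58069) D15436 (iv D14981)
theorem F61065 : act 7 n15436 = n15019 := d28_2 F58817 D15436 F59410
theorem F61066 : act 5 n15020 = n15436 := d37_1 D15020 (iv D15436) F58067 F54752 F51228 (iv D12013) F43315 F39904 D10418 F41085 F33733 F33732 (iv F33615) F33617 D10491 F41363 (iv F44641) F44640 (iv F44504) (iv F47970) (iv F51927) (iv D13140) (iv D12149) (iv D11144) (iv F43946) F43945 F43944 (iv D10353) (iv F39713) F39712 (iv F40722) (iv D10308) F32489 F24021 D6240 F24087 F22093 D7795 F39008 (iv F40614) (iv F44051) F44054 (iv F44070) D12193 F48108 F50597 (iv F54138) F54137 F51014 F46994 D11937 F47003 (iv F47023) F47022 (iv F49403) F49407 (iv F49743) F49742 (iv F53621) (iv F57006) (iv D14429) (iv F56144)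
def n15437 : Q := act 8 n14689
theorem D15437 : act 8 n14689 = n15437 := rfl
theorem F61067 : act 0 n15437 = n14691 := d7_1 D15437 (iv D14691) D14689
theorem F61068 : act 2 n15437 = n14833 := d20_1 D15437 (iv D14833) (iv F58066)
theorem F61069 : act 3 n15437 = n14706 := d25_1 D15437 (iv D14706) (iv F58067)
theorem F61070 : act 5 n15437 = n15004 := d32_1 D15437 (iv D15004) (iv F58068)
theorem F61071 : act 6 n15437 = n14983 := d34_1 D15437 (iv D14983) (iv F58069)
def n15438 : Q := act 3 n14690
theorem D15438 : act 3 n14690 = n15438 := rfl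
theorem F61072 : act 0 n15438 = n15044 := d2_1 D15438 (iv F61063) F61060
theorem F61073 : act 1 n15438 = n14692 := d9_1 D15438 (iv D14692) (iv F58070)
theorem F61074 : act 2 n15438 = n14929 := d15_1 D15438 F59063 F56867 F55317 (iv F58071)
theorem F61075 : act 4 n15438 = n14707 := d21_2 D14690 D15438 (iv D14707) (iv D13864) (iv F54697)
theorem F61076 : act 5 n15438 = n14899 := d22_2 F58073 D15438 F58959
theorem F61077 : act 6 n15438 = n15234 := d23_2 F60776 D15438 (iv F60774)
theorem F61078 : act 7 n15438 = n14898 := d24_2 (iv F58072) D15438 F58956 F55644 (iv F57003)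
def n15439 : Q := act 8 n14690
theorem D15439 : act 8 n14690 = n15439 := rfl
theorem F61079 : act 1 n15439 = n14694 := d14_1 D15439 (iv D14694) (iv F58070)
theorem F61080 : act 2 n15439 = n14834 := d20_1 D15439 (iv D14834) (iv F58071)
theorem F61081 : act 4 n15439 = n14691 := d29_1 D15439 (iv D14691) D14690
theorem F61082 : act 5 n15439 = n15209 := d32_1 D15439 F60144 F58073
def n15440 : Q := act 7 n14691
theorem D15440 : act 7 n14691 = n15440 := rfl
theorem F61083 : act 1 n15440 = n14695 := d13_1 D15440 (iv D14695) (iv F58074)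
theorem F61084 : act 2 n15440 = n14835 := d19_1 D15440 (iv D14835) (iv F58075)
theorem F61085 : act 5 n15440 = n15008 := d31_1 D15440 (iv D15008) (iv F58077)
def n15441 : Q := act 5 n14692
theorem D15441 : act 5 n14692 = n15441 := rfl
theorem F61086 : act 0 n15441 = n15230 := d4_1 D15441 F60573 F60567
theorem F61087 : act 1 n15441 = n14899 := d11_1 D15441 (iv F61076) F61073
theorem F61088 : act 2 n15441 = n15441 := d17_1 D15441 (iv D15441) F58078
theorem F61089 : act 3 n15441 = n14693 := d22_1 D15441 (iv D14693) D14692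
theorem F61090 : act 7 n15441 = n14895 := d31_2 F60622 D15441 (iv F60620)
theorem F61091 : act 6 n14909 = n15441 := d38_1 D14909 (iv D15441) F58079 (iv D13866) F51032 F46987 F43184 (iv F43204) D11984 F47185 F45889 (iv D11656) (iv F45825) F45826 (iv F44632) (iv F47196) D13008 F51324 (iv F54849) (iv F57660) F57663 (iv D14227) (iv D13310) (iv D12319) (iv F44500) F44499 (iv D10387) (iv F40969) F40968 (iv F40784) (iv F43832) (iv D11111) F40335 F32177 (iv D8228) (iv D6009) F17234 (iv D3309) F9840 F7361 F5883 F5885 D1911 F7853 F7852 (iv F10490) (iv F14062) (iv F18920) D6661 F25567 F18926 F14056 D4865 D6664 F25576 (iv F32311) F32310 (iv F40496) D11155 D12166 (iv F51977) (iv F55671)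
def n15442 : Q := act 8 n14692
theorem D15442 : act 8 n14692 = n15442 := rfl
theorem F61092 : act 2 n15442 = n15442 := d20_1 D15442 (iv D15442) F58078
theorem F61093 : act 3 n15442 = n14694 := d25_1 D15442 (iv D14694) D14692
theorem F61094 : act 4 n15442 = n14713 := d29_1 D15442 (iv D14713) (iv F58079)
def n15443 : Q := act 6 n14693
theorem D15443 : act 6 n14693 = n15443 := rfl
theorem F61095 : act 1 n15443 = n14885 := d12_1 D15443 F58909 (iv F58080)
theorem F61096 : act 2 n15443 = n14696 := d18_1 D15443 (iv D14696) (iv F58081)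
theorem F61097 : act 3 n15443 = n14909 := d23_1 D15443 F61091 F61089
theorem F61098 : act 4 n15443 = n15012 := d27_1 D15443 (iv D15012) (iv F58082)
theorem F61099 : act 7 n15443 = n14881 := d33_2 (iv F58083) D15443 F58895
def n15444 : Q := act 8 n14693
theorem D15444 : act 8 n14693 = n15444 := rfl
theorem F61100 : act 1 n15444 = n15209 := d14_1 D15444 F60144 (iv F58080)
theorem F61101 : act 2 n15444 = n14697 := d20_1 D15444 (iv D14697) (iv F58081)
theorem F61102 : act 4 n15444 = n15013 := d29_1 D15444 (iv D15013) (iv F58082)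
theorem F61103 : act 5 n15444 = n14694 := d32_1 D15444 (iv D14694) D14693
def n15445 : Q := act 7 n14694
theorem D15445 : act 7 n14694 = n15445 := rfl
theorem F61104 : act 2 n15445 = n14698 := d19_1 D15445 (iv D14698) (iv F58084)
theorem F61105 : act 4 n15445 = n14695 := d28_1 D15445 (iv D14695) (iv F58085)
def n15446 : Q := act 3 n14695
theorem D15446 : act 3 n14695 = n15446 := rfl
theorem F61106 : act 2 n15446 = n15274 := d15_1 D15446 (iv D15274) F57278 (iv F54711) (iv F58086)
theorem F61107 : act 5 n15446 = n15015 := d22_2 (iv F58087) D15446 (iv D15015)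
theorem F61108 : act 7 n15446 = n14717 := d24_2 D14695 D15446 (iv D14717) (iv D13869) (iv F54701)
def n15447 : Q := act 8 n14696
theorem D15447 : act 8 n14696 = n15447 := rfl
theorem F61109 : act 1 n15447 = n14837 := d14_1 D15447 (iv D14837) (iv F58088)
theorem F61110 : act 3 n15447 = n15447 := d25_1 D15447 (iv D15447) F58089
theorem F61111 : act 4 n15447 = n15016 := d29_1 D15447 (iv D15016) (iv F58090)
theorem F61112 : act 6 n15447 = n14697 := d34_1 D15447 (iv D14697) D14696
def n15448 : Q := act 7 n14697
theorem D15448 : act 7 n14697 = n15448 := rfl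
theorem F61113 : act 1 n15448 = n14838 := d13_1 D15448 (iv D14838) (iv F58092)
theorem F61114 : act 4 n15448 = n15017 := d28_1 D15448 (iv D15017) (iv F58094)
theorem F61115 : act 5 n15448 = n14698 := d31_1 D15448 (iv D14698) (iv F58095)
theorem F61116 : act 8 n15448 = n15177 := d35_2 D14697 D15448 F60004 F56746 (iv F54706)
def n15449 : Q := act 3 n14698
theorem D15449 : act 3 n14698 = n15449 := rfl
theorem F61117 : act 1 n15449 = n14839 := d9_1 D15449 (iv D14839) (iv F58096)
theorem F61118 : act 4 n15449 = n15277 := d21_2 (iv F58097) D15449 (iv D15277) F57289 (iv F54711)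
theorem F61119 : act 7 n15449 = n15449 := d24_2 D14698 D15449 (iv D15449) (iv D14698) F54708
def n15450 : Q := act 7 n14699
theorem D15450 : act 7 n14699 = n15450 := rfl
theorem F61120 : act 1 n15450 = n14848 := d13_1 D15450 (iv D14848) (iv F58098)
theorem F61121 : act 2 n15450 = n14700 := d19_1 D15450 (iv D14700) (iv F58099)
theorem F61122 : act 4 n15450 = n14846 := d28_1 D15450 (iv D14846) (iv F58100)
theorem F61123 : act 5 n15450 = n14704 := d31_1 D15450 (iv D14704) (iv F58101)
theorem F61124 : act 6 n15450 = n14972 := d33_1 D15450 (iv D14972) (iv F58102)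
theorem F61125 : act 8 n15450 = n14723 := d35_2 D14699 D15450 (iv D14723) (iv D13874) (iv F54724)
def n15451 : Q := act 7 n14701
theorem D15451 : act 7 n14701 = n15451 := rfl
theorem F61126 : act 0 n15451 = n14986 := d6_1 D15451 (iv D14986) (iv F58109)
theorem F61127 : act 1 n15451 = n14704 := d13_1 D15451 (iv D14704) (iv F58110)
theorem F61128 : act 2 n15451 = n14782 := d19_1 D15451 (iv D14782) (iv F58111)
theorem F61129 : act 4 n15451 = n15239 := d28_1 D15451 (iv D15239) (iv F58112)
theorem F61130 : act 5 n15451 = n14848 := d31_1 D15451 (iv D14848) (iv F58113)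
theorem F61131 : act 6 n15451 = n14710 := d33_1 D15451 (iv D14710) (iv F58114)
theorem F61132 : act 8 n15451 = n14728 := d35_2 D14701 D15451 (iv D14728) (iv D13879) (iv F54733)
def n15452 : Q := act 8 n14702
theorem D15452 : act 8 n14702 = n15452 := rfl
theorem F61133 : act 1 n15452 = n15236 := d14_1 D15452 (iv D15236) (iv F58115)
theorem F61134 : act 2 n15452 = n15452 := d20_1 D15452 (iv D15452) F58116
theorem F61135 : act 3 n15452 = n14703 := d25_1 D15452 (iv D14703) D14702
theorem F61136 : act 5 n15452 = n15231 := d32_1 D15452 (iv D15231) (iv F58117)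
theorem F61137 : act 6 n15452 = n14713 := d34_1 D15452 (iv D14713) (iv F58118)
def n15453 : Q := act 7 n14703
theorem D15453 : act 7 n14703 = n15453 := rfl
theorem F61138 : act 1 n15453 = n15239 := d13_1 D15453 (iv D15239) (iv F58119)
theorem F61139 : act 2 n15453 = n14705 := d19_1 D15453 (iv D14705) (iv F58120)
theorem F61140 : act 4 n15453 = n14704 := d28_1 D15453 (iv D14704) (iv F58121)
theorem F61141 : act 5 n15453 = n15232 := d31_1 D15453 (iv D15232) (iv F58122)
theorem F61142 : act 6 n15453 = n14716 := d33_1 D15453 (iv D14716) (iv F58123)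
theorem F61143 : act 8 n15453 = n14733 := d35_2 D14703 D15453 (iv D14733) (iv D13882) (iv F54740)
def n15454 : Q := act 3 n14704
theorem D15454 : act 3 n14704 = n15454 := rfl
theorem F61144 : act 2 n15454 = n15030 := d15_1 D15454 (iv D15030) F56174 (iv F54749) (iv F58124)
theorem F61145 : act 6 n15454 = n14717 := d23_2 (iv F58125) D15454 (iv D14717)
theorem F61146 : act 8 n15454 = n14734 := d25_2 (iv F58126) D15454 (iv D14734)
def n15455 : Q := act 3 n14705
theorem D15455 : act 3 n14705 = n15455 := rfl
theorem F61147 : act 1 n15455 = n14783 := d9_1 D15455 (iv D14783) (iv F58127)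
theorem F61148 : act 4 n15455 = n15105 := d21_2 (iv F58128) D15455 (iv D15105) F56401 (iv F54749)
theorem F61149 : act 5 n15455 = n15259 := d22_2 (iv F58129) D15455 (iv D15259)
theorem F61150 : act 6 n15455 = n14720 := d23_2 (iv F58130) D15455 (iv D14720)
theorem F61151 : act 7 n15455 = n15455 := d24_2 D14705 D15455 (iv D15455) (iv D14705) F54744
theorem F61152 : act 8 n15455 = n14737 := d25_2 (iv F58131) D15455 (iv D14737)
def n15456 : Q := act 7 n14706
theorem D15456 : act 7 n14706 = n15456 := rfl
theorem F61153 : act 0 n15456 = n14710 := d6_1 D15456 (iv D14710) (iv F58132)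
theorem F61154 : act 2 n15456 = n14784 := d19_1 D15456 (iv D14784) (iv F58133)
theorem F61155 : act 4 n15456 = n15294 := d28_1 D15456 (iv D15294) (iv F58134)
theorem F61156 : act 5 n15456 = n15024 := d31_1 D15456 (iv D15024) (iv F58135)
theorem F61157 : act 6 n15456 = n14986 := d33_1 D15456 (iv D14986) (iv F58136)
theorem F61158 : act 8 n15456 = n14741 := d35_2 D14706 D15456 (iv D14741) (iv D13888) (iv F54755)
def n15457 : Q := act 5 n14707
theorem D15457 : act 5 n14707 = n15457 := rfl
theorem F61159 : act 0 n15457 = n15060 := d4_1 D15457 F59547 (iv F58137)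
theorem F61160 : act 1 n15457 = n14711 := d11_1 D15457 (iv D14711) (iv F58138)
theorem F61161 : act 2 n15457 = n15134 := d17_1 D15457 F59812 (iv F58139)
theorem F61162 : act 3 n15457 = n14708 := d22_1 D15457 (iv D14708) D14707
theorem F61163 : act 6 n15457 = n15053 := d30_2 (iv F58140) D15457 (iv D15053) F56228 D14460
def n15458 : Q := act 7 n14707
theorem D15458 : act 7 n14707 = n15458 := rfl
theorem F61164 : act 0 n15458 = n15042 := d6_1 D15458 (iv F59483) (iv F58137)
theorem F61165 : act 1 n15458 = n14712 := d13_1 D15458 (iv D14712) (iv F58138)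
theorem F61166 : act 2 n15458 = n14927 := d19_1 D15458 (iv F59054) (iv F58139)
theorem F61167 : act 3 n15458 = n14743 := d24_1 D15458 (iv D14743) (iv D13889) (iv F54761) D14707
theorem F61168 : act 4 n15458 = n14898 := d28_1 D15458 (iv F61078) F61075
theorem F61169 : act 6 n15458 = n15235 := d33_1 D15458 (iv D15235) (iv F58140)
def n15459 : Q := act 8 n14707
theorem D15459 : act 8 n14707 = n15459 := rfl
theorem F61170 : act 0 n15459 = n15289 := d7_1 D15459 (iv D15289) (iv F58137)
theorem F61171 : act 1 n15459 = n14713 := d14_1 D15459 (iv D14713) (iv F58138)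
theorem F61172 : act 2 n15459 = n15245 := d20_1 D15459 (iv D15245) (iv F58139)
theorem F61173 : act 3 n15459 = n14709 := d25_1 D15459 (iv D14709) D14707
theorem F61174 : act 6 n15459 = n15236 := d34_1 D15459 (iv D15236) (iv F58140)
def n15460 : Q := act 8 n14708
theorem D15460 : act 8 n14708 = n15460 := rfl
theorem F61175 : act 0 n15460 = n15065 := d7_1 D15460 (iv D15065) (iv F58141)
theorem F61176 : act 1 n15460 = n14715 := d14_1 D15460 (iv D14715) (iv F58142)
theorem F61177 : act 2 n15460 = n14785 := d20_1 D15460 (iv D14785) (iv F58143)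
theorem F61178 : act 4 n15460 = n15028 := d29_1 D15460 (iv D15028) (iv F58144)
theorem F61179 : act 5 n15460 = n14709 := d32_1 D15460 (iv D14709) D14708
theorem F61180 : act 6 n15460 = n15056 := d34_1 D15460 (iv D15056) (iv F58145)
def n15461 : Q := act 7 n14709
theorem D15461 : act 7 n14709 = n15461 := rfl
theorem F61181 : act 0 n15461 = n15294 := d6_1 D15461 (iv D15294) (iv F58147)
theorem F61182 : act 1 n15461 = n14716 := d13_1 D15461 (iv D14716) (iv F58148)
theorem F61183 : act 2 n15461 = n14786 := d19_1 D15461 (iv D14786) (iv F58149)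
theorem F61184 : act 4 n15461 = n14710 := d28_1 D15461 (iv D14710) (iv F58150)
theorem F61185 : act 6 n15461 = n15239 := d33_1 D15461 (iv D15239) (iv F58151)
theorem F61186 : act 8 n15461 = n14747 := d35_2 D14709 D15461 (iv D14747) (iv D13891) (iv F54761)
def n15462 : Q := act 3 n14710
theorem D15462 : act 3 n14710 = n15462 := rfl
theorem F61187 : act 1 n15462 = n14717 := d9_1 D15462 (iv D14717) (iv F58152)
theorem F61188 : act 5 n15462 = n15030 := d22_2 (iv F58154) D15462 (iv D15030)
theorem F61189 : act 8 n15462 = n14748 := d25_2 (iv F58155) D15462 (iv D14748)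
def n15463 : Q := act 4 n14711
theorem D15463 : act 4 n14711 = n15463 := rfl
theorem F61190 : act 2 n15463 = n15463 := d16_1 D15463 (iv D15463) F58156
theorem F61191 : act 3 n15463 = n15031 := d21_1 D15463 (iv D15031) F56178 (iv F54767) (iv F58157)
def n15464 : Q := act 6 n14711
theorem D15464 : act 6 n14711 = n15464 := rfl
theorem F61192 : act 0 n15464 = n14908 := d5_1 D15464 (iv F60666) F60662
theorem F61193 : act 1 n15464 = n15053 := d12_1 D15464 (iv F61163) F61160
theorem F61194 : act 2 n15464 = n15464 := d18_1 D15464 (iv D15464) F58156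
theorem F61195 : act 3 n15464 = n14714 := d23_1 D15464 (iv D14714) (iv F58157)
theorem F61196 : act 5 n15464 = n14905 := d30_1 D15464 F58984 (iv F58117) F58118 D14711
theorem F61197 : act 7 n15463 = n15464 := d24_0 F61195 F58167 (iv F58312) F59454 (iv F61191)
def n15465 : Q := act 7 n14711
theorem D15465 : act 7 n14711 = n15465 := rfl
theorem F61198 : act 2 n15465 = n15465 := d19_1 D15465 (iv D15465) F58156
theorem F61199 : act 3 n15465 = n14751 := d24_1 D15465 (iv D14751) F54867 (iv F54768) (iv F58157)
theorem F61200 : act 4 n15465 = n15464 := d28_1 D15465 (iv F61197) (iv D15463)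
theorem F61201 : act 5 n15465 = n14712 := d31_1 D15465 (iv D14712) D14711
theorem F61202 : act 6 n15465 = n15463 := d33_1 D15465 F61197 (iv D15464)
def n15466 : Q := act 8 n14711
theorem D15466 : act 8 n14711 = n15466 := rfl
theorem F61203 : act 2 n15466 = n15466 := d20_1 D15466 (iv D15466) F58156
theorem F61204 : act 3 n15466 = n14715 := d25_1 D15466 (iv D14715) (iv F58157)
theorem F61205 : act 5 n15466 = n14713 := d32_1 D15466 (iv D14713) D14711
def n15467 : Q := act 8 n14712
theorem D15467 : act 8 n14712 = n15467 := rfl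
theorem F61206 : act 2 n15467 = n15467 := d20_1 D15467 (iv D15467) F58158
theorem F61207 : act 3 n15467 = n14753 := d25_1 D15467 (iv D14753) (iv F58159)
def n15468 : Q := act 7 n14713
theorem D15468 : act 7 n14713 = n15468 := rfl
theorem F61208 : act 2 n15468 = n15468 := d19_1 D15468 (iv D15468) F58160
def n15469 : Q := act 8 n14714
theorem D15469 : act 8 n14714 = n15469 := rfl
theorem F61209 : act 0 n15469 = n14911 := d7_1 D15469 (iv D14911) (iv F58162)
theorem F61210 : act 1 n15469 = n15056 := d14_1 D15469 (iv D15056) (iv F58163)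
theorem F61211 : act 2 n15469 = n14718 := d20_1 D15469 (iv D14718) (iv F58164)
theorem F61212 : act 4 n15469 = n15037 := d29_1 D15469 (iv D15037) (iv F58165)
theorem F61213 : act 5 n15469 = n14906 := d32_1 D15469 (iv D14906) (iv F58166)
theorem F61214 : act 6 n15469 = n14715 := d34_1 D15469 (iv D14715) D14714
def n15470 : Q := act 7 n14715
theorem D15470 : act 7 n14715 = n15470 := rfl
theorem F61215 : act 2 n15470 = n14719 := d19_1 D15470 (iv D14719) (iv F58168)
theorem F61216 : act 4 n15470 = n15038 := d28_1 D15470 (iv D15038) (iv F58169)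
theorem F61217 : act 5 n15470 = n14716 := d31_1 D15470 (iv D14716) (iv F58170)
theorem F61218 : act 8 n15470 = n14756 := d35_2 D14715 D15470 (iv D14756) (iv D13897) (iv F54768)
def n15471 : Q := act 3 n14716
theorem D15471 : act 3 n14716 = n15471 := rfl
theorem F61219 : act 8 n15471 = n14757 := d25_2 (iv F58173) D15471 (iv D14757)
def n15472 : Q := act 4 n14717
theorem D15472 : act 4 n14717 = n15472 := rfl
theorem F61220 : act 2 n15472 = n15285 := d16_1 D15472 (iv D15285) (iv F58174)
theorem F61221 : act 8 n15472 = n14758 := d29_2 (iv F58176) D15472 (iv D14758)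
def n15473 : Q := act 7 n14718
theorem D15473 : act 7 n14718 = n15473 := rfl
theorem F61222 : act 0 n15473 = n14957 := d6_1 D15473 (iv D14957) (iv F58177)
theorem F61223 : act 1 n15473 = n14789 := d13_1 D15473 (iv D14789) (iv F58178)
theorem F61224 : act 4 n15473 = n15041 := d28_1 D15473 (iv D15041) (iv F58180)
theorem F61225 : act 5 n15473 = n14955 := d31_1 D15473 (iv D14955) (iv F58181)
theorem F61226 : act 6 n15473 = n14719 := d33_1 D15473 (iv D14719) (iv F58182)
theorem F61227 : act 8 n15473 = n14759 := d35_2 D14718 D15473 (iv D14759) (iv D13900) (iv F54779)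
def n15474 : Q := act 3 n14719
theorem D15474 : act 3 n14719 = n15474 := rfl
theorem F61228 : act 1 n15474 = n14790 := d9_1 D15474 (iv D14790) (iv F58183)
theorem F61229 : act 5 n15474 = n14720 := d22_2 (iv F58185) D15474 (iv D14720)
theorem F61230 : act 7 n15474 = n15474 := d24_2 D14719 D15474 (iv D15474) (iv D14719) F54781
theorem F61231 : act 8 n15474 = n14760 := d25_2 (iv F58186) D15474 (iv D14760)
def n15475 : Q := act 2 n14720
theorem D15475 : act 2 n14720 = n15475 := rfl
theorem F61232 : act 4 n15475 = n15287 := d16_2 (iv F58188) D15475 (iv D15287)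
theorem F61233 : act 7 n15475 = n15475 := d19_2 F58189 D15475 (iv D15475)
theorem F61234 : act 8 n15475 = n14761 := d20_2 (iv F58190) D15475 (iv D14761)
def n15476 : Q := act 8 n14721
theorem D15476 : act 8 n14721 = n15476 := rfl
theorem F61235 : act 1 n15476 = n14840 := d14_1 D15476 (iv D14840) (iv F58191)
theorem F61236 : act 2 n15476 = n15476 := d20_1 D15476 (iv D15476) F58192
theorem F61237 : act 3 n15476 = n14722 := d25_1 D15476 (iv D14722) D14721
theorem F61238 : act 5 n15476 = n15217 := d32_1 D15476 (iv D15217) (iv F58193)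
theorem F61239 : act 6 n15476 = n14977 := d34_1 D15476 (iv D14977) (iv F58194)
def n15477 : Q := act 7 n14722
theorem D15477 : act 7 n14722 = n15477 := rfl
theorem F61240 : act 1 n15477 = n14842 := d13_1 D15477 (iv D14842) (iv F58196)
theorem F61241 : act 2 n15477 = n14724 := d19_1 D15477 (iv D14724) (iv F58197)
theorem F61242 : act 4 n15477 = n14723 := d28_1 D15477 (iv D14723) (iv F58198)
theorem F61243 : act 5 n15477 = n15224 := d31_1 D15477 (iv D15224) (iv F58199)
theorem F61244 : act 6 n15477 = n14979 := d33_1 D15477 (iv D14979) (iv F58200)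
theorem F61245 : act 8 n15477 = n14846 := d35_2 D14722 D15477 (iv D14846) (iv D14018) (iv F54790)
def n15478 : Q := act 3 n14723
theorem D15478 : act 3 n14723 = n15478 := rfl
theorem F61246 : act 1 n15478 = n14974 := d9_1 D15478 (iv D14974) (iv F58201)
theorem F61247 : act 2 n15478 = n14748 := d15_1 D15478 (iv D14748) F54864 (iv F54802) (iv F58202)
theorem F61248 : act 5 n15478 = n14734 := d22_2 (iv F58203) D15478 (iv D14734)
theorem F61249 : act 6 n15478 = n14980 := d23_2 (iv F58204) D15478 (iv D14980)
def n15479 : Q := act 3 n14724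
theorem D15479 : act 3 n14724 = n15479 := rfl
theorem F61250 : act 1 n15479 = n14792 := d9_1 D15479 (iv D14792) (iv F58205)
theorem F61251 : act 4 n15479 = n14803 := d21_2 (iv F58206) D15479 (iv D14803) F55118 (iv F54802)
theorem F61252 : act 5 n15479 = n15256 := d22_2 (iv F58207) D15479 (iv D15256)
theorem F61253 : act 6 n15479 = n14996 := d23_2 (iv F58208) D15479 (iv D14996)
theorem F61254 : act 7 n15479 = n15479 := d24_2 D14724 D15479 (iv D15479) (iv D14724) F54797
theorem F61255 : act 8 n15479 = n14854 := d25_2 (iv F58209) D15479 (iv D14854)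
def n15480 : Q := act 7 n14725
theorem D15480 : act 7 n14725 = n15480 := rfl
theorem F61256 : act 0 n15480 = n14728 := d6_1 D15480 (iv D14728) (iv F58210)
theorem F61257 : act 2 n15480 = n14793 := d19_1 D15480 (iv D14793) (iv F58211)
theorem F61258 : act 4 n15480 = n15283 := d28_1 D15480 (iv D15283) (iv F58213)
theorem F61259 : act 5 n15480 = n14844 := d31_1 D15480 (iv D14844) (iv F58214)
theorem F61260 : act 6 n15480 = n14741 := d33_1 D15480 (iv D14741) (iv F58215)
theorem F61261 : act 8 n15480 = n14986 := d35_2 D14725 D15480 (iv D14986) (iv D14169) (iv F54809)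
def n15481 : Q := act 8 n14726
theorem D15481 : act 8 n14726 = n15481 := rfl
theorem F61262 : act 0 n15481 = n15280 := d7_1 D15481 (iv D15280) (iv F58216)
theorem F61263 : act 1 n15481 = n14730 := d14_1 D15481 (iv D14730) (iv F58217)
theorem F61264 : act 2 n15481 = n15481 := d20_1 D15481 (iv D15481) F58218
theorem F61265 : act 3 n15481 = n14727 := d25_1 D15481 (iv D14727) D14726
theorem F61266 : act 4 n15481 = n15476 := d29_1 D15481 (iv D15476) (iv F58219)
theorem F61267 : act 5 n15481 = n15226 := d32_1 D15481 (iv D15226) (iv F58220)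
theorem F61268 : act 6 n15481 = n14744 := d34_1 D15481 (iv D14744) (iv F58221)
def n15482 : Q := act 7 n14727
theorem D15482 : act 7 n14727 = n15482 := rfl
theorem F61269 : act 0 n15482 = n15283 := d6_1 D15482 (iv D15283) (iv F58222)
theorem F61270 : act 1 n15482 = n14733 := d13_1 D15482 (iv D14733) (iv F58223)
theorem F61271 : act 2 n15482 = n14794 := d19_1 D15482 (iv D14794) (iv F58224)
theorem F61272 : act 4 n15482 = n14728 := d28_1 D15482 (iv D14728) (iv F58225)
theorem F61273 : act 5 n15482 = n15227 := d31_1 D15482 (iv D15227) (iv F58226)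
theorem F61274 : act 6 n15482 = n14747 := d33_1 D15482 (iv D14747) (iv F58227)
theorem F61275 : act 8 n15482 = n15239 := d35_2 D14727 D15482 (iv D15239) (iv D14463) (iv F54816)
def n15483 : Q := act 3 n14728
theorem D15483 : act 3 n14728 = n15483 := rfl
theorem F61276 : act 1 n15483 = n14734 := d9_1 D15483 (iv D14734) (iv F58228)
theorem F61277 : act 2 n15483 = n14980 := d15_1 D15483 (iv D14980) F55999 (iv F55069) (iv F58229)
theorem F61278 : act 5 n15483 = n14974 := d22_2 (iv F58230) D15483 (iv D14974)
theorem F61279 : act 6 n15483 = n14748 := d23_2 (iv F58231) D15483 (iv D14748)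
theorem F61280 : act 7 n15483 = n15478 := d24_2 D14728 D15483 (iv D15478) (iv D14723) (iv F54819)
def n15484 : Q := act 6 n14729
theorem D15484 : act 6 n14729 = n15484 := rfl
theorem F61281 : act 0 n15484 = n14881 := d5_1 D15484 F58895 (iv F58232)
theorem F61282 : act 1 n15484 = n15022 := d12_1 D15484 F59421 (iv F58233)
theorem F61283 : act 2 n15484 = n14762 := d18_1 D15484 (iv D14762) (iv F58234)
theorem F61284 : act 3 n15484 = n14731 := d23_1 D15484 (iv D14731) (iv F58235)
theorem F61285 : act 5 n15484 = n14750 := d30_1 D15484 (iv D14750) (iv D13893) (iv F54823) D14729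
def n15485 : Q := act 8 n14729
theorem D15485 : act 8 n14729 = n15485 := rfl
theorem F61286 : act 0 n15485 = n15100 := d7_1 D15485 F59674 (iv F58232)
theorem F61287 : act 1 n15485 = n15226 := d14_1 D15485 (iv D15226) (iv F58233)
theorem F61288 : act 2 n15485 = n14763 := d20_1 D15485 (iv D14763) (iv F58234)
theorem F61289 : act 3 n15485 = n14732 := d25_1 D15485 (iv D14732) (iv F58235)
theorem F61290 : act 5 n15485 = n14730 := d32_1 D15485 (iv D14730) D14729
def n15486 : Q := act 7 n14730
theorem D15486 : act 7 n14730 = n15486 := rfl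
theorem F61291 : act 2 n15486 = n14764 := d19_1 D15486 (iv D14764) (iv F58236)
theorem F61292 : act 6 n15486 = n14754 := d33_1 D15486 (iv D14754) (iv F58238)
def n15487 : Q := act 8 n14731
theorem D15487 : act 8 n14731 = n15487 := rfl
theorem F61293 : act 0 n15487 = n14882 := d7_1 D15487 (iv D14882) (iv F58239)
theorem F61294 : act 1 n15487 = n15023 := d14_1 D15487 (iv D15023) (iv F58240)
theorem F61295 : act 2 n15487 = n14735 := d20_1 D15487 (iv D14735) (iv F58241)
theorem F61296 : act 4 n15487 = n14880 := d29_1 D15487 (iv D14880) (iv F58242)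
theorem F61297 : act 5 n15487 = n14755 := d32_1 D15487 (iv D14755) (iv F58243)
theorem F61298 : act 6 n15487 = n14732 := d34_1 D15487 (iv D14732) D14731
def n15488 : Q := act 7 n14732
theorem D15488 : act 7 n14732 = n15488 := rfl
theorem F61299 : act 0 n15488 = n15081 := d6_1 D15488 F59600 (iv F58245)
theorem F61300 : act 1 n15488 = n15227 := d13_1 D15488 (iv D15227) (iv F58246)
theorem F61301 : act 2 n15488 = n14736 := d19_1 D15488 (iv D14736) (iv F58247)
theorem F61302 : act 4 n15488 = n15224 := d28_1 D15488 (iv D15224) (iv F58248)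
theorem F61303 : act 5 n15488 = n14733 := d31_1 D15488 (iv D14733) (iv F58249)
theorem F61304 : act 8 n15488 = n15232 := d35_2 D14732 D15488 (iv D15232) (iv D14458) (iv F54828)
def n15489 : Q := act 3 n14733
theorem D15489 : act 3 n14733 = n15489 := rfl
theorem F61305 : act 6 n15489 = n14757 := d23_2 (iv F58252) D15489 (iv D14757)
def n15490 : Q := act 4 n14734
theorem D15490 : act 4 n14734 = n15490 := rfl
theorem F61306 : act 2 n15490 = n15068 := d16_1 D15490 (iv D15068) (iv F58253)
theorem F61307 : act 6 n15490 = n14758 := d27_2 (iv F58254) D15490 (iv D14758)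
def n15491 : Q := act 7 n14735
theorem D15491 : act 7 n14735 = n15491 := rfl
theorem F61308 : act 0 n15491 = n14948 := d6_1 D15491 (iv D14948) (iv F58255)
theorem F61309 : act 1 n15491 = n14796 := d13_1 D15491 (iv D14796) (iv F58256)
theorem F61310 : act 3 n15491 = n15322 := d24_1 D15491 F60495 F57431 F54917 (iv F58257)
theorem F61311 : act 4 n15491 = n14947 := d28_1 D15491 (iv D14947) (iv F58258)
theorem F61312 : act 5 n15491 = n14759 := d31_1 D15491 (iv D14759) (iv F58259)
theorem F61313 : act 6 n15491 = n14736 := d33_1 D15491 (iv D14736) (iv F58260)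
theorem F61314 : act 8 n15491 = n14955 := d35_2 D14735 D15491 (iv D14955) (iv D14129) (iv F54839)
def n15492 : Q := act 3 n14736
theorem D15492 : act 3 n14736 = n15492 := rfl
theorem F61315 : act 0 n15492 = n15113 := d2_1 D15492 F59718 (iv F58261)
theorem F61316 : act 1 n15492 = n14797 := d9_1 D15492 (iv D14797) (iv F58262)
theorem F61317 : act 5 n15492 = n14737 := d22_2 (iv F58264) D15492 (iv D14737)
theorem F61318 : act 6 n15492 = n15322 := d23_2 F61313 D15492 (iv F61310)
theorem F61319 : act 7 n15492 = n14768 := d24_2 D14736 D15492 (iv D14768) (iv D13909) (iv F54842)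
theorem F61320 : act 8 n15492 = n15259 := d25_2 (iv F58265) D15492 (iv D15259)
def n15493 : Q := act 2 n14737
theorem D15493 : act 2 n14737 = n15493 := rfl
theorem F61321 : act 4 n15493 = n15111 := d16_2 (iv F58267) D15493 (iv D15111)
theorem F61322 : act 6 n15493 = n14761 := d18_2 (iv F58268) D15493 (iv D14761)
theorem F61323 : act 7 n15493 = n14769 := d19_2 (iv F58269) D15493 (iv D14769)
def n15494 : Q := act 5 n14738
theorem D15494 : act 5 n14738 = n15494 := rfl
theorem F61324 : act 0 n15494 = n14742 := d4_1 D15494 (iv D14742) (iv F58270)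
theorem F61325 : act 1 n15494 = n15032 := d11_1 D15494 (iv F60753) F60750
theorem F61326 : act 2 n15494 = n15494 := d17_1 D15494 (iv D15494) F58271
theorem F61327 : act 3 n15494 = n14739 := d22_1 D15494 (iv D14739) D14738
theorem F61328 : act 6 n15494 = n15025 := d30_2 (iv F58272) D15494 (iv D15025) F56165 D14509
def n15495 : Q := act 7 n14738
theorem D15495 : act 7 n14738 = n15495 := rfl
theorem F61329 : act 0 n15495 = n14743 := d6_1 D15495 (iv D14743) (iv F58270)
theorem F61330 : act 1 n15495 = n14981 := d13_1 D15495 (iv F60755) F60750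
theorem F61331 : act 2 n15495 = n15495 := d19_1 D15495 (iv D15495) F58271
theorem F61332 : act 3 n15495 = n15042 := d24_1 D15495 (iv F59483) F57312 (iv F54851) D14738
theorem F61333 : act 4 n15495 = n14975 := d28_1 D15495 (iv F59256) F58931
theorem F61334 : act 6 n15495 = n15279 := d33_1 D15495 (iv D15279) (iv F58272)
def n15496 : Q := act 8 n14738
theorem D15496 : act 8 n14738 = n15496 := rfl
theorem F61335 : act 0 n15496 = n14744 := d7_1 D15496 (iv D14744) (iv F58270)
theorem F61336 : act 2 n15496 = n15496 := d20_1 D15496 (iv D15496) F58271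
theorem F61337 : act 3 n15496 = n14740 := d25_1 D15496 (iv D14740) D14738
theorem F61338 : act 6 n15496 = n15280 := d34_1 D15496 (iv D15280) (iv F58272)
def n15497 : Q := act 8 n14739
theorem D15497 : act 8 n14739 = n15497 := rfl
theorem F61339 : act 0 n15497 = n14746 := d7_1 D15497 (iv D14746) (iv F58273)
theorem F61340 : act 1 n15497 = n15037 := d14_1 D15497 (iv D15037) (iv F58274)
theorem F61341 : act 2 n15497 = n14799 := d20_1 D15497 (iv D14799) (iv F58275)
theorem F61342 : act 4 n15497 = n15056 := d29_1 D15497 (iv D15056) (iv F58276)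
theorem F61343 : act 5 n15497 = n14740 := d32_1 D15497 (iv D14740) D14739
theorem F61344 : act 6 n15497 = n15028 := d34_1 D15497 (iv D15028) (iv F58277)
def n15498 : Q := act 7 n14740
theorem D15498 : act 7 n14740 = n15498 := rfl
theorem F61345 : act 0 n15498 = n14747 := d6_1 D15498 (iv D14747) (iv F58279)
theorem F61346 : act 2 n15498 = n14800 := d19_1 D15498 (iv D14800) (iv F58280)
theorem F61347 : act 4 n15498 = n14741 := d28_1 D15498 (iv D14741) (iv F58281)
theorem F61348 : act 6 n15498 = n15283 := d33_1 D15498 (iv D15283) (iv F58282)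
theorem F61349 : act 8 n15498 = n15294 := d35_2 D14740 D15498 (iv D15294) (iv D14523) (iv F54851)
def n15499 : Q := act 3 n14741
theorem D15499 : act 3 n14741 = n15499 := rfl
theorem F61350 : act 0 n15499 = n14748 := d2_1 D15499 (iv D14748) (iv F58283)
theorem F61351 : act 5 n15499 = n15058 := d22_2 (iv F58285) D15499 (iv D15058)
def n15500 : Q := act 4 n14742
theorem D15500 : act 4 n14742 = n15500 := rfl
theorem F61352 : act 1 n15500 = n14749 := d10_1 D15500 (iv D14749) (iv F58286)
theorem F61353 : act 2 n15500 = n15500 := d16_1 D15500 (iv D15500) F58287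
theorem F61354 : act 3 n15500 = n15059 := d21_1 D15500 (iv D15059) F56240 (iv F54859) (iv F58288)
theorem F61355 : act 5 n15500 = n15495 := d26_2 D14742 D15500 F61333 (iv D14975) F55991
theorem F61356 : act 7 n15494 = n15500 := d31_0 F61355 (iv D15495) D15494
def n15501 : Q := act 6 n14742
theorem D15501 : act 6 n14742 = n15501 := rfl
theorem F61357 : act 0 n15501 = n15025 := d5_1 D15501 (iv F61328) F61324
theorem F61358 : act 1 n15501 = n14750 := d12_1 D15501 (iv D14750) (iv F58286)
theorem F61359 : act 2 n15501 = n15501 := d18_1 D15501 (iv D15501) F58287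
theorem F61360 : act 3 n15501 = n14745 := d23_1 D15501 (iv D14745) (iv F58288)
theorem F61361 : act 5 n15501 = n15022 := d30_1 D15501 F59421 (iv F58220) F58221 D14742
def n15502 : Q := act 7 n14742
theorem D15502 : act 7 n14742 = n15502 := rfl
theorem F61362 : act 0 n15502 = n15500 := d6_1 D15502 (iv F61356) F61324
theorem F61363 : act 1 n15502 = n14751 := d13_1 D15502 (iv D14751) (iv F58286)
theorem F61364 : act 2 n15502 = n15502 := d19_1 D15502 (iv D15502) F58287
theorem F61365 : act 4 n15502 = n15494 := d28_1 D15502 F61356 (iv D15500)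
theorem F61366 : act 5 n15502 = n14743 := d31_1 D15502 (iv D14743) D14742
def n15503 : Q := act 8 n14742
theorem D15503 : act 8 n14742 = n15503 := rfl
theorem F61367 : act 1 n15503 = n14752 := d14_1 D15503 (iv D14752) (iv F58286)
theorem F61368 : act 2 n15503 = n15503 := d20_1 D15503 (iv D15503) F58287
theorem F61369 : act 3 n15503 = n14746 := d25_1 D15503 (iv D14746) (iv F58288)
theorem F61370 : act 5 n15503 = n14744 := d32_1 D15503 (iv D14744) D14742
def n15504 : Q := act 8 n14743
theorem D15504 : act 8 n14743 = n15504 := rfl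
theorem F61371 : act 1 n15504 = n14753 := d14_1 D15504 (iv D14753) (iv F58289)
theorem F61372 : act 2 n15504 = n15504 := d20_1 D15504 (iv D15504) F58290
def n15505 : Q := act 7 n14744
theorem D15505 : act 7 n14744 = n15505 := rfl
theorem F61373 : act 1 n15505 = n14754 := d13_1 D15505 (iv D14754) (iv F58291)
theorem F61374 : act 2 n15505 = n15505 := d19_1 D15505 (iv D15505) F58292
def n15506 : Q := act 8 n14745
theorem D15506 : act 8 n14745 = n15506 := rfl
theorem F61375 : act 0 n15506 = n15028 := d7_1 D15506 (iv D15028) (iv F58294)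
theorem F61376 : act 1 n15506 = n14755 := d14_1 D15506 (iv D14755) (iv F58295)
theorem F61377 : act 2 n15506 = n14801 := d20_1 D15506 (iv D14801) (iv F58296)
theorem F61378 : act 4 n15506 = n15065 := d29_1 D15506 (iv D15065) (iv F58297)
theorem F61379 : act 5 n15506 = n15023 := d32_1 D15506 (iv D15023) (iv F58298)
theorem F61380 : act 6 n15506 = n14746 := d34_1 D15506 (iv D14746) D14745
def n15507 : Q := act 7 n14746
theorem D15507 : act 7 n14746 = n15507 := rfl
theorem F61381 : act 1 n15507 = n14756 := d13_1 D15507 (iv D14756) (iv F58300)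
theorem F61382 : act 2 n15507 = n14802 := d19_1 D15507 (iv D14802) (iv F58301)
theorem F61383 : act 4 n15507 = n15066 := d28_1 D15507 (iv D15066) (iv F58302)
theorem F61384 : act 5 n15507 = n14747 := d31_1 D15507 (iv D14747) (iv F58303)
def n15508 : Q := act 3 n14747
theorem D15508 : act 3 n14747 = n15508 := rfl
theorem F61385 : act 1 n15508 = n14757 := d9_1 D15508 (iv D14757) (iv F58304)
def n15509 : Q := act 4 n14748
theorem D15509 : act 4 n14748 = n15509 := rfl
theorem F61386 : act 1 n15509 = n14758 := d10_1 D15509 (iv D14758) (iv F58307)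
def n15510 : Q := act 8 n14749
theorem D15510 : act 8 n14749 = n15510 := rfl
theorem F61387 : act 2 n15510 = n14770 := d20_1 D15510 (iv D14770) (iv F58309)
theorem F61388 : act 3 n15510 = n15069 := d25_1 D15510 (iv D15069) (iv F58310)
theorem F61389 : act 4 n15510 = n14752 := d29_1 D15510 (iv D14752) D14749
def n15511 : Q := act 8 n14750
theorem D15511 : act 8 n14750 = n15511 := rfl
theorem F61390 : act 2 n15511 = n14771 := d20_1 D15511 (iv D14771) (iv F58311)
theorem F61391 : act 3 n15511 = n14755 := d25_1 D15511 (iv D14755) (iv F58312)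
theorem F61392 : act 6 n15511 = n14752 := d34_1 D15511 (iv D14752) D14750
def n15512 : Q := act 8 n14751
theorem D15512 : act 8 n14751 = n15512 := rfl
theorem F61393 : act 2 n15512 = n14772 := d20_1 D15512 (iv D14772) (iv F58313)
theorem F61394 : act 5 n15512 = n14753 := d32_1 D15512 (iv D14753) (iv F58314)
def n15513 : Q := act 7 n14752
theorem D15513 : act 7 n14752 = n15513 := rfl
theorem F61395 : act 2 n15513 = n14773 := d19_1 D15513 (iv D14773) (iv F58315)
theorem F61396 : act 5 n15513 = n14754 := d31_1 D15513 (iv D14754) (iv F58317)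
def n15514 : Q := act 7 n14753
theorem D15514 : act 7 n14753 = n15514 := rfl
theorem F61397 : act 2 n15514 = n14774 := d19_1 D15514 (iv D14774) (iv F58318)
theorem F61398 : act 8 n15514 = n14754 := d35_2 D14753 D15514 (iv D14754) (iv D13895) D13894
def n15515 : Q := act 3 n14754
theorem D15515 : act 3 n14754 = n15515 := rfl
theorem F61399 : act 7 n15515 = n14757 := d24_2 D14754 D15515 (iv D14757) (iv D13898) (iv F54870)
def n15516 : Q := act 7 n14755
theorem D15516 : act 7 n14755 = n15516 := rfl
theorem F61400 : act 2 n15516 = n14759 := d19_1 D15516 (iv D14759) (iv F58320)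
theorem F61401 : act 4 n15516 = n15075 := d28_1 D15516 (iv D15075) (iv F58321)
theorem F61402 : act 6 n15516 = n14756 := d33_1 D15516 (iv D14756) (iv F58322)
def n15517 : Q := act 3 n14756
theorem D15517 : act 3 n14756 = n15517 := rfl
theorem F61403 : act 5 n15517 = n14757 := d22_2 (iv F58325) D15517 (iv D14757)
def n15518 : Q := act 2 n14757
theorem D15518 : act 2 n14757 = n15518 := rfl
theorem F61404 : act 3 n15518 = n14761 := d15_2 D14757 D15518 (iv D14761) (iv D13902) (iv F54876)
def n15519 : Q := act 4 n14757
theorem D15519 : act 4 n14757 = n15519 := rfl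
theorem F61405 : act 3 n15519 = n14758 := d21_1 D15519 (iv D14758) (iv D13899) (iv F54877) D14757
def n15520 : Q := act 5 n14758
theorem D15520 : act 5 n14758 = n15520 := rfl
theorem F61406 : act 2 n15520 = n15298 := d17_1 D15520 (iv D15298) (iv F58326)
theorem F61407 : act 4 n15520 = n15079 := d26_1 D15520 (iv D15079) (iv D14253) (iv F54879) D14758
def n15521 : Q := act 2 n14760
theorem D15521 : act 2 n14760 = n15521 := rfl
theorem F61408 : act 5 n15521 = n14761 := d17_2 (iv F58331) D15521 (iv D14761)
theorem F61409 : act 7 n15521 = n14780 := d19_2 (iv F58332) D15521 (iv D14780)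
def n15522 : Q := act 1 n14761
theorem D15522 : act 1 n14761 = n15522 := rfl
theorem F61410 : act 2 n15522 = n14808 := d8_2 D14761 D15522 (iv D14808) (iv D13959) (iv F54887)
theorem F61411 : act 4 n15522 = n15302 := d10_2 (iv F58333) D15522 (iv D15302)
theorem F61412 : act 7 n15522 = n14781 := d13_2 (iv F58334) D15522 (iv D14781)
def n15523 : Q := act 8 n14762
theorem D15523 : act 8 n14762 = n15523 := rfl
theorem F61413 : act 0 n15523 = n15174 := d7_1 D15523 F59991 (iv F58335)
theorem F61414 : act 1 n15523 = n15523 := d14_1 D15523 (iv D15523) F58336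
theorem F61415 : act 3 n15523 = n14765 := d25_1 D15523 (iv D14765) (iv F58337)
theorem F61416 : act 5 n15523 = n14771 := d32_1 D15523 (iv D14771) (iv F58338)
theorem F61417 : act 6 n15523 = n14763 := d34_1 D15523 (iv D14763) D14762
def n15524 : Q := act 7 n14763
theorem D15524 : act 7 n14763 = n15524 := rfl
theorem F61418 : act 0 n15524 = n15177 := d6_1 D15524 F60004 (iv F58339)
theorem F61419 : act 1 n15524 = n15524 := d13_1 D15524 (iv D15524) F58340
theorem F61420 : act 5 n15524 = n14764 := d31_1 D15524 (iv D14764) (iv F58342)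
def n15525 : Q := act 3 n14764
theorem D15525 : act 3 n14764 = n15525 := rfl
theorem F61421 : act 1 n15525 = n15525 := d9_1 D15525 (iv D15525) F58343
theorem F61422 : act 6 n15525 = n14775 := d23_2 (iv F58344) D15525 (iv D14775)
theorem F61423 : act 7 n15525 = n14767 := d24_2 D14764 D15525 (iv D14767) (iv D13907) (iv F54894)
def n15526 : Q := act 3 n14766
theorem D15526 : act 3 n14766 = n15526 := rfl
theorem F61424 : act 0 n15526 = n15161 := d2_1 D15526 F59927 (iv F58352)
theorem F61425 : act 1 n15526 = n15526 := d9_1 D15526 (iv D15526) F58353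
theorem F61426 : act 5 n15526 = n14767 := d22_2 (iv F58356) D15526 (iv D14767)
theorem F61427 : act 6 n15526 = n15336 := d23_2 (iv F58357) D15526 F60544
theorem F61428 : act 8 n15526 = n15526 := d25_2 F58358 D15526 (iv D15526)
def n15527 : Q := act 2 n14767
theorem D15527 : act 2 n14767 = n15527 := rfl
theorem F61429 : act 3 n15527 = n14769 := d15_2 D14767 D15527 (iv D14769) (iv D13910) (iv F54908)
theorem F61430 : act 6 n15527 = n14778 := d18_2 (iv F58360) D15527 (iv D14778)
theorem F61431 : act 8 n15527 = n15527 := d20_2 F58361 D15527 (iv D15527)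
def n15528 : Q := act 2 n14768
theorem D15528 : act 2 n14768 = n15528 := rfl
theorem F61432 : act 0 n15528 = n15183 := d1_1 D15528 F60024 (iv F58362)
theorem F61433 : act 5 n15528 = n14769 := d17_2 (iv F58364) D15528 (iv D14769)
theorem F61434 : act 6 n15528 = n15318 := d18_2 (iv F58365) D15528 F60479
theorem F61435 : act 8 n15528 = n15528 := d20_2 F58366 D15528 (iv D15528)
def n15529 : Q := act 4 n14768
theorem D15529 : act 4 n14768 = n15529 := rfl
theorem F61436 : act 0 n15529 = n14811 := d3_1 D15529 F58560 (iv F58362)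
theorem F61437 : act 1 n15529 = n14810 := d10_1 D15529 (iv D14810) (iv F58363)
theorem F61438 : act 3 n15529 = n15529 := d21_1 D15529 (iv D15529) (iv D14768) F54920 D14768
theorem F61439 : act 5 n15529 = n15182 := d26_2 (iv F58364) D15529 (iv D15182) F56772 (iv F54925)
theorem F61440 : act 6 n15529 = n14813 := d27_2 (iv F58365) D15529 F58571
theorem F61441 : act 8 n15529 = n15529 := d29_2 F58366 D15529 (iv D15529)
def n15530 : Q := act 1 n14769
theorem D15530 : act 1 n14769 = n15530 := rfl
theorem F61442 : act 2 n15530 = n14811 := d8_2 D14769 D15530 (iv D14811) (iv D13961) (iv F54924)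
theorem F61443 : act 4 n15530 = n15183 := d10_2 (iv F58367) D15530 (iv D15183)
theorem F61444 : act 6 n15530 = n14781 := d12_2 (iv F58368) D15530 (iv D14781)
theorem F61445 : act 8 n15530 = n15530 := d14_2 F58369 D15530 (iv D15530)
def n15531 : Q := act 7 n14770
theorem D15531 : act 7 n14770 = n15531 := rfl
theorem F61446 : act 1 n15531 = n15531 := d13_1 D15531 (iv D15531) F58370
theorem F61447 : act 4 n15531 = n14773 := d28_1 D15531 (iv D14773) (iv F58372)
def n15532 : Q := act 7 n14771
theorem D15532 : act 7 n14771 = n15532 := rfl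
theorem F61448 : act 1 n15532 = n15532 := d13_1 D15532 (iv D15532) F58373
theorem F61449 : act 6 n15532 = n14773 := d33_1 D15532 (iv D14773) (iv F58375)
def n15533 : Q := act 7 n14772
theorem D15533 : act 7 n14772 = n15533 := rfl
theorem F61450 : act 1 n15533 = n15533 := d13_1 D15533 (iv D15533) F58376
theorem F61451 : act 5 n15533 = n14774 := d31_1 D15533 (iv D14774) (iv F58378)
theorem F61452 : act 8 n15533 = n14773 := d35_2 D14772 D15533 (iv D14773) (iv D13914) D13913
def n15534 : Q := act 3 n14773
theorem D15534 : act 3 n14773 = n15534 := rfl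
theorem F61453 : act 1 n15534 = n15534 := d9_1 D15534 (iv D15534) F58379
theorem F61454 : act 5 n15534 = n14775 := d22_2 (iv F58380) D15534 (iv D14775)
theorem F61455 : act 7 n15534 = n14777 := d24_2 D14773 D15534 (iv D14777) (iv D13918) (iv F54936)
def n15535 : Q := act 3 n14774
theorem D15535 : act 3 n14774 = n15535 := rfl
theorem F61456 : act 1 n15535 = n15535 := d9_1 D15535 (iv D15535) F58381
theorem F61457 : act 7 n15535 = n15535 := d24_2 D14774 D15535 (iv D15535) (iv D14774) F54939
theorem F61458 : act 8 n15535 = n14775 := d25_2 (iv F58382) D15535 (iv D14775)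
def n15536 : Q := act 2 n14775
theorem D15536 : act 2 n14775 = n15536 := rfl
theorem F61459 : act 7 n15536 = n14778 := d19_2 (iv F58384) D15536 (iv D14778)
def n15537 : Q := act 4 n14775
theorem D15537 : act 4 n14775 = n15537 := rfl
theorem F61460 : act 1 n15537 = n15537 := d10_1 D15537 (iv D15537) F58383
theorem F61461 : act 7 n15537 = n14779 := d28_2 (iv F58384) D15537 (iv D14779)
def n15538 : Q := act 3 n14776
theorem D15538 : act 3 n14776 = n15538 := rfl
theorem F61462 : act 0 n15538 = n15335 := d2_1 D15538 F60538 (iv F58385)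
theorem F61463 : act 1 n15538 = n15538 := d9_1 D15538 (iv D15538) F58386
theorem F61464 : act 5 n15538 = n15336 := d22_2 (iv F58389) D15538 F60544
theorem F61465 : act 6 n15538 = n14777 := d23_2 (iv F58390) D15538 (iv D14777)
theorem F61466 : act 8 n15538 = n15538 := d25_2 F58391 D15538 (iv D15538)
def n15539 : Q := act 2 n14777
theorem D15539 : act 2 n14777 = n15539 := rfl
theorem F61467 : act 3 n15539 = n14780 := d15_2 D14777 D15539 (iv D14780) (iv D13922) (iv F54946)
theorem F61468 : act 5 n15539 = n14778 := d17_2 (iv F58393) D15539 (iv D14778)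
theorem F61469 : act 8 n15539 = n15539 := d20_2 F58394 D15539 (iv D15539)
def n15540 : Q := act 1 n14778
theorem D15540 : act 1 n14778 = n15540 := rfl
theorem F61470 : act 2 n15540 = n15540 := d8_2 D14778 D15540 (iv D15540) (iv D14778) F54950
theorem F61471 : act 3 n15540 = n14781 := d9_2 (iv F58395) D15540 (iv D14781)
theorem F61472 : act 8 n15540 = n15540 := d14_2 F58396 D15540 (iv D15540)
def n15541 : Q := act 4 n14778
theorem D15541 : act 4 n14778 = n15541 := rfl
theorem F61473 : act 2 n15541 = n14779 := d16_1 D15541 (iv D14779) D14778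
theorem F61474 : act 3 n15541 = n15314 := d21_1 D15541 (iv D15314) F57358 (iv F54964) (iv F58395)
theorem F61475 : act 8 n15541 = n15541 := d29_2 F58396 D15541 (iv D15541)
def n15542 : Q := act 1 n14780
theorem D15542 : act 1 n14780 = n15542 := rfl
theorem F61476 : act 2 n15542 = n14812 := d8_2 D14780 D15542 (iv D14812) (iv D13962) (iv F54961)
theorem F61477 : act 4 n15542 = n14964 := d10_2 F61013 D15542 (iv F61012)
theorem F61478 : act 5 n15542 = n14781 := d11_2 (iv F58400) D15542 (iv D14781)
theorem F61479 : act 6 n15542 = n15267 := d12_2 F61025 D15542 (iv F61023)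
theorem F61480 : act 8 n15542 = n15542 := d14_2 F58401 D15542 (iv D15542)
theorem F61481 : act 0 n14965 = n15542 := d3_3 F61477 F59212 D14965
def n15543 : Q := act 0 n14781
theorem D15543 : act 0 n14781 = n15543 := rfl
theorem F61482 : act 2 n15543 = n14813 := d1_2 (iv F58402) D15543 (iv D14813)
theorem F61483 : act 4 n15543 = n15318 := d3_2 (iv F58403) D15543 (iv D15318)
theorem F61484 : act 5 n15543 = n14965 := d4_2 F61478 D15543 F61481
theorem F61485 : act 8 n15543 = n15543 := d7_2 F58404 D15543 (iv D15543)
def n15544 : Q := act 2 n14783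
theorem D15544 : act 2 n14783 = n15544 := rfl
theorem F61486 : act 0 n15544 = n14814 := d1_1 D15544 (iv D14814) (iv F58412)
theorem F61487 : act 3 n15544 = n14954 := d15_2 D14783 D15544 F59178 (iv D14491) (iv F55000)
theorem F61488 : act 4 n15544 = n14953 := d16_2 (iv F58413) D15544 F59173
theorem F61489 : act 5 n15544 = n15262 := d17_2 (iv F58414) D15544 (iv D15262)
theorem F61490 : act 6 n15544 = n14791 := d18_2 (iv F58415) D15544 (iv D14791)
theorem F61491 : act 7 n15544 = n15544 := d19_2 F58416 D15544 (iv D15544)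
theorem F61492 : act 8 n15544 = n14798 := d20_2 (iv F58417) D15544 (iv D14798)
def n15545 : Q := act 7 n14785
theorem D15545 : act 7 n14785 = n15545 := rfl
theorem F61493 : act 0 n15545 = n15109 := d6_1 D15545 (iv D15109) (iv F58424)
theorem F61494 : act 1 n15545 = n14787 := d13_1 D15545 (iv D14787) (iv F58425)
theorem F61495 : act 4 n15545 = n15104 := d28_1 D15545 (iv D15104) (iv F58427)
theorem F61496 : act 5 n15545 = n14786 := d31_1 D15545 (iv D14786) (iv F58428)
theorem F61497 : act 6 n15545 = n15107 := d33_1 D15545 (iv D15107) (iv F58429)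
theorem F61498 : act 8 n15545 = n14802 := d35_2 D14785 D15545 (iv D14802) (iv D13952) (iv F55016)
def n15546 : Q := act 3 n14786
theorem D15546 : act 3 n14786 = n15546 := rfl
theorem F61499 : act 0 n15546 = n15299 := d2_1 D15546 (iv D15299) (iv F58430)
theorem F61500 : act 1 n15546 = n14788 := d9_1 D15546 (iv D14788) (iv F58431)
theorem F61501 : act 4 n15546 = n14854 := d21_2 (iv F58432) D15546 (iv D14854) (iv F58105) F58104
theorem F61502 : act 6 n15546 = n15242 := d23_2 (iv F58433) D15546 (iv D15242)
theorem F61503 : act 7 n15546 = n14858 := d24_2 D14786 D15546 F58806 (iv D14478) (iv F55019)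
theorem F61504 : act 8 n15546 = n14803 := d25_2 (iv F58434) D15546 (iv D14803)
def n15547 : Q := act 2 n14790
theorem D15547 : act 2 n14790 = n15547 := rfl
theorem F61505 : act 0 n15547 = n14815 := d1_1 D15547 (iv D14815) (iv F58453)
theorem F61506 : act 3 n15547 = n14824 := d15_2 D14790 D15547 (iv F61035) F61036 F58436
theorem F61507 : act 4 n15547 = n14966 := d16_2 F60891 D15547 (iv F60890)
theorem F61508 : act 5 n15547 = n14791 := d17_2 (iv F58454) D15547 (iv D14791)
theorem F61509 : act 6 n15547 = n15257 := d18_2 F60923 D15547 (iv F60921)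
theorem F61510 : act 7 n15547 = n15547 := d19_2 F58455 D15547 (iv D15547)
theorem F61511 : act 8 n15547 = n14807 := d20_2 (iv F58456) D15547 (iv D14807)
def n15548 : Q := act 1 n14791
theorem D15548 : act 1 n14791 = n15548 := rfl
theorem F61512 : act 3 n15548 = n14960 := d9_2 (iv F58458) D15548 F59196
theorem F61513 : act 4 n15548 = n14958 := d10_2 (iv F58459) D15548 F59192
theorem F61514 : act 7 n15548 = n15548 := d13_2 F58460 D15548 (iv D15548)
theorem F61515 : act 8 n15548 = n14808 := d14_2 (iv F58461) D15548 (iv D14808)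
def n15549 : Q := act 3 n14794
theorem D15549 : act 3 n14794 = n15549 := rfl
theorem F61516 : act 0 n15549 = n15286 := d2_1 D15549 (iv D15286) (iv F58476)
theorem F61517 : act 1 n15549 = n14795 := d9_1 D15549 (iv D14795) (iv F58477)
theorem F61518 : act 4 n15549 = n14996 := d21_2 (iv F58478) D15549 (iv D14996) F56094 (iv F55069)
theorem F61519 : act 5 n15549 = n15229 := d22_2 (iv F58479) D15549 (iv D15229)
theorem F61520 : act 6 n15549 = n14803 := d23_2 (iv F58480) D15549 (iv D14803)
theorem F61521 : act 7 n15549 = n15549 := d24_2 D14794 D15549 (iv D15549) (iv D14794) F55064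
theorem F61522 : act 8 n15549 = n15242 := d25_2 (iv F58481) D15549 (iv D15242)
def n15550 : Q := act 2 n14795
theorem D15550 : act 2 n14795 = n15550 := rfl
theorem F61523 : act 0 n15550 = n14817 := d1_1 D15550 (iv D14817) (iv F58482)
theorem F61524 : act 3 n15550 = n14798 := d15_2 D14795 D15550 (iv D14798) (iv D13947) (iv F55073)
theorem F61525 : act 4 n15550 = n14946 := d16_2 (iv F58483) D15550 F59143
theorem F61526 : act 5 n15550 = n15258 := d17_2 (iv F58484) D15550 (iv D15258)
theorem F61527 : act 6 n15550 = n14806 := d18_2 (iv F58485) D15550 (iv D14806)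
theorem F61528 : act 7 n15550 = n15550 := d19_2 F58486 D15550 (iv D15550)
theorem F61529 : act 8 n15550 = n14954 := d20_2 (iv F58487) D15550 F59178
def n15551 : Q := act 2 n14797
theorem D15551 : act 2 n14797 = n15551 := rfl
theorem F61530 : act 0 n15551 = n14818 := d1_1 D15551 (iv D14818) (iv F58495)
theorem F61531 : act 3 n15551 = n15258 := d15_2 D14797 D15551 (iv D15258) (iv D14486) (iv F55085)
theorem F61532 : act 5 n15551 = n14798 := d17_2 (iv F58496) D15551 (iv D14798)
theorem F61533 : act 6 n15551 = n15264 := d18_2 (iv F58497) D15551 F60337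
theorem F61534 : act 7 n15551 = n14809 := d19_2 (iv F58498) D15551 (iv D14809)
theorem F61535 : act 8 n15551 = n15262 := d20_2 (iv F58499) D15551 (iv D15262)
theorem F61536 : act 4 n15116 = n15551 := d28_3 F61534 (iv F58552) (iv F59734)
def n15552 : Q := act 4 n14797
theorem D15552 : act 4 n14797 = n15552 := rfl
theorem F61537 : act 0 n15552 = n14819 := d3_1 D15552 (iv D14819) (iv F58495)
theorem F61538 : act 2 n15552 = n15116 := d16_1 D15552 F61536 (iv D15551)
theorem F61539 : act 3 n15552 = n15257 := d21_1 D15552 (iv D15257) (iv D14485) (iv F55086) D14797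
theorem F61540 : act 5 n15552 = n15112 := d26_2 (iv F58496) D15552 (iv D15112) F56441 (iv F55090)
theorem F61541 : act 6 n15552 = n14824 := d27_2 (iv F58497) D15552 F58640
theorem F61542 : act 7 n15552 = n14810 := d28_2 (iv F58498) D15552 (iv D14810)
theorem F61543 : act 8 n15552 = n15263 := d29_2 (iv F58499) D15552 (iv D15263)
def n15553 : Q := act 1 n14798
theorem D15553 : act 1 n14798 = n15553 := rfl
theorem F61544 : act 4 n15553 = n15113 := d10_2 (iv F58501) D15553 (iv D15113)
theorem F61545 : act 6 n15553 = n14808 := d12_2 (iv F58502) D15553 (iv D14808)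
theorem F61546 : act 7 n15553 = n14811 := d13_2 (iv F58503) D15553 (iv D14811)
def n15554 : Q := act 7 n14799
theorem D15554 : act 7 n14799 = n15554 := rfl
theorem F61547 : act 0 n15554 = n14802 := d6_1 D15554 (iv D14802) (iv F58504)
theorem F61548 : act 1 n15554 = n14820 := d13_1 D15554 (iv D14820) (iv F58505)
theorem F61549 : act 4 n15554 = n15107 := d28_1 D15554 (iv D15107) (iv F58507)
theorem F61550 : act 5 n15554 = n14800 := d31_1 D15554 (iv D14800) (iv F58508)
theorem F61551 : act 6 n15554 = n15104 := d33_1 D15554 (iv D15104) (iv F58509)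
theorem F61552 : act 8 n15554 = n15109 := d35_2 D14799 D15554 (iv D15109) (iv D14293) (iv F55098)
def n15555 : Q := act 3 n14800
theorem D15555 : act 3 n14800 = n15555 := rfl
theorem F61553 : act 0 n15555 = n14803 := d2_1 D15555 (iv D14803) (iv F58510)
theorem F61554 : act 1 n15555 = n14821 := d9_1 D15555 (iv D14821) (iv F58511)
theorem F61555 : act 6 n15555 = n15286 := d23_2 (iv F58513) D15555 (iv D15286)
theorem F61556 : act 7 n15555 = n15555 := d24_2 D14800 D15555 (iv D15555) (iv D14800) F55101
theorem F61557 : act 8 n15555 = n15299 := d25_2 (iv F58514) D15555 (iv D15299)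
def n15556 : Q := act 7 n14801
theorem D15556 : act 7 n14801 = n15556 := rfl
theorem F61558 : act 0 n15556 = n15104 := d6_1 D15556 (iv D15104) (iv F58515)
theorem F61559 : act 1 n15556 = n14804 := d13_1 D15556 (iv D14804) (iv F58516)
theorem F61560 : act 4 n15556 = n15109 := d28_1 D15556 (iv D15109) (iv F58518)
theorem F61561 : act 5 n15556 = n15103 := d31_1 D15556 (iv D15103) (iv F58519)
theorem F61562 : act 6 n15556 = n14802 := d33_1 D15556 (iv D14802) (iv F58520)
theorem F61563 : act 8 n15556 = n15107 := d35_2 D14801 D15556 (iv D15107) (iv D14291) (iv F55112)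
def n15557 : Q := act 3 n14802
theorem D15557 : act 3 n14802 = n15557 := rfl
theorem F61564 : act 1 n15557 = n14805 := d9_1 D15557 (iv D14805) (iv F58521)
theorem F61565 : act 5 n15557 = n14803 := d22_2 (iv F58523) D15557 (iv D14803)
theorem F61566 : act 7 n15557 = n15557 := d24_2 D14802 D15557 (iv D15557) (iv D14802) F55114
def n15558 : Q := act 2 n14803
theorem D15558 : act 2 n14803 = n15558 := rfl
theorem F61567 : act 7 n15558 = n15558 := d19_2 F58525 D15558 (iv D15558)
def n15559 : Q := act 3 n14804
theorem D15559 : act 3 n14804 = n15559 := rfl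
theorem F61568 : act 0 n15559 = n14822 := d2_1 D15559 (iv D14822) (iv F58526)
theorem F61569 : act 2 n15559 = n15263 := d15_1 D15559 F60334 (iv F57899) F57900 (iv F58527)
theorem F61570 : act 4 n15559 = n15262 := d21_2 (iv F58528) D15559 F60331 (iv F57918) F57917
theorem F61571 : act 5 n15559 = n15114 := d22_2 (iv F58529) D15559 (iv D15114)
theorem F61572 : act 6 n15559 = n14805 := d23_2 (iv F58530) D15559 (iv D14805)
theorem F61573 : act 7 n15559 = n15559 := d24_2 D14804 D15559 (iv D15559) (iv D14804) F55121
theorem F61574 : act 8 n15559 = n15116 := d25_2 (iv F58531) D15559 (iv D15116)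
def n15560 : Q := act 2 n14805
theorem D15560 : act 2 n14805 = n15560 := rfl
theorem F61575 : act 0 n15560 = n14816 := d1_1 D15560 F58588 (iv F58532)
theorem F61576 : act 3 n15560 = n14807 := d15_2 D14805 D15560 (iv D14807) (iv D13958) (iv F55126)
theorem F61577 : act 5 n15560 = n14806 := d17_2 (iv F58533) D15560 (iv D14806)
theorem F61578 : act 6 n15560 = n15263 := d18_2 F61572 D15560 (iv F61569)
theorem F61579 : act 7 n15560 = n15560 := d19_2 F58534 D15560 (iv D15560)
theorem F61580 : act 8 n15560 = n14824 := d20_2 F61041 D15560 (iv F61035)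
theorem F61581 : act 4 n14967 = n15560 := d29_3 F61580 F58640 (iv F59225)
def n15561 : Q := act 4 n14805
theorem D15561 : act 4 n14805 = n15561 := rfl
theorem F61582 : act 0 n15561 = n14823 := d3_1 D15561 (iv D14823) (iv F58532)
theorem F61583 : act 2 n15561 = n14967 := d16_1 D15561 F61581 (iv D15560)
theorem F61584 : act 3 n15561 = n15112 := d21_1 D15561 (iv D15112) (iv D14297) (iv F55127) D14805
theorem F61585 : act 5 n15561 = n15257 := d26_2 (iv F58533) D15561 (iv D15257) (iv F58465) F58464
theorem F61586 : act 6 n15561 = n15262 := d27_2 F61572 D15561 (iv F61570)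
theorem F61587 : act 7 n15561 = n15561 := d28_2 F58534 D15561 (iv D15561)
theorem F61588 : act 8 n15561 = n15264 := d29_2 F61041 D15561 (iv F61037)
def n15562 : Q := act 1 n14806
theorem D15562 : act 1 n14806 = n15562 := rfl
theorem F61589 : act 3 n15562 = n14808 := d9_2 (iv F58536) D15562 (iv D14808)
theorem F61590 : act 4 n15562 = n14949 := d10_2 (iv F58537) D15562 F59156
theorem F61591 : act 7 n15562 = n15562 := d13_2 F58538 D15562 (iv D15562)
theorem F61592 : act 8 n15562 = n14960 := d14_2 (iv F58539) D15562 F59196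
def n15563 : Q := act 1 n14807
theorem D15563 : act 1 n14807 = n15563 := rfl
theorem F61593 : act 0 n15563 = n14960 := d0_1 D15563 F59196 F55891 (iv F55258) (iv F58540)
theorem F61594 : act 4 n15563 = n14956 := d10_2 (iv F58541) D15563 F59187
theorem F61595 : act 5 n15563 = n14808 := d11_2 (iv F58542) D15563 (iv D14808)
theorem F61596 : act 6 n15563 = n15261 := d12_2 (iv F58543) D15563 F60328
theorem F61597 : act 7 n15563 = n14812 := d13_2 (iv F58544) D15563 (iv D14812)
def n15564 : Q := act 0 n14808
theorem D15564 : act 0 n14808 = n15564 := rfl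
theorem F61598 : act 1 n15564 = n14824 := d0_2 D14808 D15564 (iv D14824) (iv D13985) (iv F55137)
theorem F61599 : act 4 n15564 = n15322 := d3_2 (iv F58545) D15564 (iv D15322)
theorem F61600 : act 5 n15564 = n14960 := d4_2 F61595 D15564 (iv F61593)
theorem F61601 : act 7 n15564 = n14813 := d6_2 (iv F58546) D15564 (iv D14813)
def n15565 : Q := act 1 n14809
theorem D15565 : act 1 n14809 = n15565 := rfl
theorem F61602 : act 0 n15565 = n15182 := d0_1 D15565 F60020 F56776 (iv F55266) (iv F58547)
theorem F61603 : act 3 n15565 = n15565 := d9_2 F58548 D15565 (iv D15565)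
theorem F61604 : act 4 n15565 = n15179 := d10_2 F58552 D15565 F60012
theorem F61605 : act 5 n15565 = n14811 := d11_2 (iv F58549) D15565 (iv D14811)
theorem F61606 : act 6 n15565 = n15266 := d12_2 (iv F58550) D15565 F60340
theorem F61607 : act 8 n15565 = n15565 := d14_2 F58551 D15565 (iv D15565)
def n15566 : Q := act 7 n14827
theorem D15566 : act 7 n14827 = n15566 := rfl
theorem F61608 : act 0 n15566 = n14992 := d6_1 D15566 (iv D14992) (iv F58654)
theorem F61609 : act 1 n15566 = n14829 := d13_1 D15566 (iv D14829) (iv F58655)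
theorem F61610 : act 3 n15566 = n14998 := d24_1 D15566 (iv D14998) F56104 (iv F55348) (iv F58656)
theorem F61611 : act 5 n15566 = n14850 := d31_1 D15566 (iv D14850) (iv F58657)
theorem F61612 : act 6 n15566 = n14835 := d33_1 D15566 (iv D14835) (iv F58658)
theorem F61613 : act 8 n15566 = n15433 := d35_2 D14827 D15566 (iv D15433) (iv D14685) (iv F55290)
def n15567 : Q := act 7 n14830
theorem D15567 : act 7 n14830 = n15567 := rfl
theorem F61614 : act 0 n15567 = n15567 := d6_1 D15567 (iv D15567) F58673
theorem F61615 : act 2 n15567 = n15326 := d19_1 D15567 F60510 (iv F58674)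
theorem F61616 : act 5 n15567 = n14831 := d31_1 D15567 (iv D14831) (iv F58676)
def n15568 : Q := act 3 n14831
theorem D15568 : act 3 n14831 = n15568 := rfl
theorem F61617 : act 0 n15568 = n15568 := d2_1 D15568 (iv D15568) F58677
theorem F61618 : act 4 n15568 = n15129 := d21_2 (iv F58678) D15568 (iv D15129) F56527 (iv F55309)
theorem F61619 : act 6 n15568 = n14839 := d23_2 (iv F58679) D15568 (iv D14839)
theorem F61620 : act 7 n15568 = n15568 := d24_2 D14831 D15568 (iv D15568) (iv D14831) F55305
def n15569 : Q := act 8 n14832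
theorem D15569 : act 8 n14832 = n15569 := rfl
theorem F61621 : act 0 n15569 = n14834 := d7_1 D15569 (iv D14834) (iv F58680)
theorem F61622 : act 1 n15569 = n15569 := d14_1 D15569 (iv D15569) F58681
theorem F61623 : act 3 n15569 = n14994 := d25_1 D15569 (iv D14994) (iv F58682)
theorem F61624 : act 4 n15569 = n14833 := d29_1 D15569 (iv D14833) D14832
theorem F61625 : act 5 n15569 = n15192 := d32_1 D15569 F60077 F58685
theorem F61626 : act 6 n15569 = n14990 := d34_1 D15569 (iv D14990) (iv F58683)
def n15570 : Q := act 7 n14833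
theorem D15570 : act 7 n14833 = n15570 := rfl
theorem F61627 : act 0 n15570 = n14835 := d6_1 D15570 (iv D14835) (iv F58686)
theorem F61628 : act 1 n15570 = n15570 := d13_1 D15570 (iv D15570) F58687
theorem F61629 : act 5 n15570 = n15123 := d31_1 D15570 (iv D15123) (iv F58689)
theorem F61630 : act 6 n15570 = n14992 := d33_1 D15570 (iv D14992) (iv F58690)
def n15571 : Q := act 7 n14834
theorem D15571 : act 7 n14834 = n15571 := rfl
theorem F61631 : act 1 n15571 = n14836 := d13_1 D15571 (iv D14836) (iv F58691)
theorem F61632 : act 3 n15571 = n15093 := d24_1 D15571 (iv D15093) F56341 D14424 (iv F58692)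
theorem F61633 : act 4 n15571 = n14835 := d28_1 D15571 (iv D14835) (iv F58693)
theorem F61634 : act 5 n15571 = n15095 := d31_1 D15571 F59656 (iv F58694)
theorem F61635 : act 8 n15571 = n15094 := d35_2 D14834 D15571 F59653 F56359 (iv F55316)
def n15572 : Q := act 7 n14837
theorem D15572 : act 7 n14837 = n15572 := rfl
theorem F61636 : act 0 n15572 = n15572 := d6_1 D15572 (iv D15572) F58703
theorem F61637 : act 2 n15572 = n15168 := d19_1 D15572 F59962 (iv F58704)
theorem F61638 : act 4 n15572 = n15130 := d28_1 D15572 (iv D15130) (iv F58706)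
theorem F61639 : act 6 n15572 = n14838 := d33_1 D15572 (iv D14838) (iv F58707)
theorem F61640 : act 8 n15572 = n15169 := d35_2 D14837 D15572 F59967 F56700 (iv F55334)
theorem F61641 : act 3 n15331 = n15572 := d25_3 F61640 F59965 (iv F60528)
def n15573 : Q := act 3 n14838
theorem D15573 : act 3 n14838 = n15573 := rfl
theorem F61642 : act 0 n15573 = n15573 := d2_1 D15573 (iv D15573) F58708
theorem F61643 : act 2 n15573 = n15157 := d15_1 D15573 (iv D15157) F56625 D14368 (iv F58709)
theorem F61644 : act 5 n15573 = n14839 := d22_2 (iv F58711) D15573 (iv D14839)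
theorem F61645 : act 6 n15573 = n15331 := d23_2 F61639 D15573 F61641
theorem F61646 : act 7 n15573 = n15573 := d24_2 D14838 D15573 (iv D15573) (iv D14838) F55337
theorem F61647 : act 8 n15573 = n15158 := d25_2 (iv F58712) D15573 F59916
def n15574 : Q := act 2 n14839
theorem D15574 : act 2 n14839 = n15574 := rfl
theorem F61648 : act 0 n15574 = n15574 := d1_1 D15574 (iv D15574) F58713
theorem F61649 : act 3 n15574 = n15155 := d15_2 D14839 D15574 F59901 (iv F58699) F58698
theorem F61650 : act 4 n15574 = n15325 := d16_2 (iv F58714) D15574 (iv D15325)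
theorem F61651 : act 5 n15574 = n15157 := d17_2 F61644 D15574 (iv F61643)
theorem F61652 : act 7 n15574 = n15574 := d19_2 F58715 D15574 (iv D15574)
theorem F61653 : act 8 n15574 = n15156 := d20_2 F59748 D15574 F59907
def n15575 : Q := act 7 n14840
theorem D15575 : act 7 n14840 = n15575 := rfl
theorem F61654 : act 0 n15575 = n14970 := d6_1 D15575 (iv D14970) (iv F58716)
theorem F61655 : act 2 n15575 = n14841 := d19_1 D15575 (iv D14841) (iv F58717)
theorem F61656 : act 4 n15575 = n15486 := d28_1 D15575 (iv D15486) (iv F58719)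
theorem F61657 : act 5 n15575 = n15221 := d31_1 D15575 (iv D15221) (iv F58720)
theorem F61658 : act 6 n15575 = n14985 := d33_1 D15575 (iv D14985) (iv F58721)
theorem F61659 : act 8 n15575 = n15344 := d35_2 D14840 D15575 (iv D15344) (iv D14579) (iv F55389)
def n15576 : Q := act 3 n14842
theorem D15576 : act 3 n14842 = n15576 := rfl
theorem F61660 : act 0 n15576 = n14973 := d2_1 D15576 (iv D14973) (iv F58729)
theorem F61661 : act 2 n15576 = n14889 := d15_1 D15576 (iv D14889) F55605 (iv F55403) (iv F58730)
theorem F61662 : act 5 n15576 = n15228 := d22_2 (iv F58732) D15576 (iv D15228)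
theorem F61663 : act 6 n15576 = n14987 := d23_2 (iv F58733) D15576 (iv D14987)
theorem F61664 : act 8 n15576 = n14849 := d25_2 (iv F58734) D15576 (iv D14849)
def n15577 : Q := act 7 n14843
theorem D15577 : act 7 n14843 = n15577 := rfl
theorem F61665 : act 1 n15577 = n14844 := d13_1 D15577 (iv D14844) (iv F58735)
theorem F61666 : act 2 n15577 = n14851 := d19_1 D15577 (iv D14851) (iv F58736)
theorem F61667 : act 4 n15577 = n14972 := d28_1 D15577 (iv D14972) (iv F58738)
theorem F61668 : act 6 n15577 = n14846 := d33_1 D15577 (iv D14846) (iv F58739)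
theorem F61669 : act 8 n15577 = n14979 := d35_2 D14843 D15577 (iv D14979) (iv D14164) (iv F55412)
def n15578 : Q := act 3 n14844
theorem D15578 : act 3 n14844 = n15578 := rfl
theorem F61670 : act 0 n15578 = n14974 := d2_1 D15578 (iv D14974) (iv F58740)
theorem F61671 : act 2 n15578 = n14903 := d15_1 D15578 (iv D14903) F55650 (iv F55420) (iv F58741)
theorem F61672 : act 6 n15578 = n14849 := d23_2 (iv F58743) D15578 (iv D14849)
theorem F61673 : act 7 n15578 = n15373 := d24_2 D14844 D15578 (iv D15373) (iv D14607) (iv F55415)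
theorem F61674 : act 8 n15578 = n14987 := d25_2 (iv F58744) D15578 (iv D14987)
def n15579 : Q := act 7 n14845
theorem D15579 : act 7 n14845 = n15579 := rfl
theorem F61675 : act 0 n15579 = n14846 := d6_1 D15579 (iv D14846) (iv F58745)
theorem F61676 : act 1 n15579 = n14893 := d13_1 D15579 (iv D14893) (iv F58746)
theorem F61677 : act 2 n15579 = n14853 := d19_1 D15579 (iv D14853) (iv F58747)
theorem F61678 : act 5 n15579 = n14897 := d31_1 D15579 (iv D14897) (iv F58749)
def n15580 : Q := act 3 n14846
theorem D15580 : act 3 n14846 = n15580 := rfl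
theorem F61679 : act 1 n15580 = n14849 := d9_1 D15580 (iv D14849) (iv F58750)
theorem F61680 : act 5 n15580 = n15233 := d22_2 (iv F58752) D15580 (iv D15233)
theorem F61681 : act 7 n15580 = n15383 := d24_2 D14846 D15580 (iv D15383) (iv D14614) (iv F55430)
def n15581 : Q := act 7 n14847
theorem D15581 : act 7 n14847 = n15581 := rfl
theorem F61682 : act 0 n15581 = n14985 := d6_1 D15581 (iv D14985) (iv F58753)
theorem F61683 : act 2 n15581 = n14850 := d19_1 D15581 (iv D14850) (iv F58754)
theorem F61684 : act 4 n15581 = n15389 := d28_1 D15581 (iv D15389) (iv F58756)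
theorem F61685 : act 6 n15581 = n14970 := d33_1 D15581 (iv D14970) (iv F58757)
theorem F61686 : act 8 n15581 = n15435 := d35_2 D14847 D15581 (iv D15435) (iv D14687) (iv F55436)
def n15582 : Q := act 3 n14848
theorem D15582 : act 3 n14848 = n15582 := rfl
theorem F61687 : act 0 n15582 = n14987 := d2_1 D15582 (iv D14987) (iv F58758)
theorem F61688 : act 2 n15582 = n15021 := d15_1 D15582 (iv D15021) F56153 (iv F55446) (iv F58759)
theorem F61689 : act 6 n15582 = n14973 := d23_2 (iv F58761) D15582 (iv D14973)
theorem F61690 : act 8 n15582 = n14974 := d25_2 (iv F58762) D15582 (iv D14974)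
def n15583 : Q := act 4 n14849
theorem D15583 : act 4 n14849 = n15583 := rfl
theorem F61691 : act 0 n15583 = n14988 := d3_1 D15583 (iv D14988) (iv F58763)
theorem F61692 : act 2 n15583 = n14923 := d16_1 D15583 (iv D14923) (iv F58764)
theorem F61693 : act 7 n15583 = n15393 := d28_2 (iv F58766) D15583 (iv D15393)
def n15584 : Q := act 3 n14851
theorem D15584 : act 3 n14851 = n15584 := rfl
theorem F61694 : act 0 n15584 = n15301 := d2_1 D15584 (iv F60943) F60941
theorem F61695 : act 1 n15584 = n14852 := d9_1 D15584 (iv D14852) (iv F58773)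
theorem F61696 : act 4 n15584 = n15242 := d21_2 (iv F58774) D15584 (iv D15242) (iv F58408) F58407
theorem F61697 : act 6 n15584 = n14854 := d23_2 (iv F58775) D15584 (iv D14854)
theorem F61698 : act 7 n15584 = n14855 := d24_2 D14851 D15584 (iv D14855) (iv D14030) (iv F55462)
theorem F61699 : act 8 n15584 = n14996 := d25_2 (iv F58776) D15584 (iv D14996)
def n15585 : Q := act 3 n14853
theorem D15585 : act 3 n14853 = n15585 := rfl
theorem F61700 : act 0 n15585 = n14854 := d2_1 D15585 (iv D14854) (iv F58783)
theorem F61701 : act 1 n15585 = n14859 := d9_1 D15585 (iv D14859) (iv F58784)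
theorem F61702 : act 4 n15585 = n15299 := d21_2 F60606 D15585 (iv D15299) (iv F58420) (iv F60605)
theorem F61703 : act 5 n15585 = n14952 := d22_2 (iv F58785) D15585 (iv D14952)
theorem F61704 : act 6 n15585 = n15301 := d23_2 F60946 D15585 (iv F60943)
theorem F61705 : act 7 n15585 = n14856 := d24_2 D14853 D15585 (iv D14856) (iv D14032) (iv F55472)
def n15586 : Q := act 2 n14854
theorem D15586 : act 2 n14854 = n15586 := rfl
theorem F61706 : act 1 n15586 = n14959 := d8_1 D15586 (iv D14959) F55882 (iv F55477) (iv F58786)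
theorem F61707 : act 5 n15586 = n15260 := d17_2 (iv F58787) D15586 (iv D15260)
theorem F61708 : act 7 n15586 = n14857 := d19_2 (iv F58788) D15586 (iv D14857)
def n15587 : Q := act 2 n14855
theorem D15587 : act 2 n14855 = n15587 := rfl
theorem F61709 : act 0 n15587 = n15317 := d1_1 D15587 F60477 (iv F58789)
theorem F61710 : act 1 n15587 = n14962 := d8_1 D15587 (iv D14962) F55901 (iv F55487) (iv F58790)
theorem F61711 : act 3 n15587 = n15427 := d15_2 D14855 D15587 (iv D15427) (iv D14666) (iv F55482)
theorem F61712 : act 4 n15587 = n15254 := d16_2 (iv F58791) D15587 (iv D15254)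
theorem F61713 : act 6 n15587 = n14857 := d18_2 (iv F58792) D15587 (iv D14857)
theorem F61714 : act 8 n15587 = n15587 := d20_2 F58793 D15587 (iv D15587)
def n15588 : Q := act 2 n14856
theorem D15588 : act 2 n14856 = n15588 := rfl
theorem F61715 : act 0 n15588 = n14857 := d1_1 D15588 (iv D14857) (iv F58794)
theorem F61716 : act 3 n15588 = n15428 := d15_2 D14856 D15588 (iv D15428) (iv D14667) (iv F55493)
theorem F61717 : act 4 n15588 = n15315 := d16_2 (iv F58796) D15588 (iv D15315)
theorem F61718 : act 5 n15588 = n14962 := d17_2 (iv F58797) D15588 (iv D14962)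
theorem F61719 : act 6 n15588 = n15317 := d18_2 (iv F58798) D15588 F60477
theorem F61720 : act 8 n15588 = n15588 := d20_2 F58799 D15588 (iv D15588)
def n15589 : Q := act 4 n14857
theorem D15589 : act 4 n14857 = n15589 := rfl
theorem F61721 : act 0 n15589 = n15315 := d3_1 D15589 (iv F61717) F61715
theorem F61722 : act 1 n15589 = n14965 := d10_1 D15589 (iv D14965) (iv F58800)
theorem F61723 : act 2 n15589 = n14858 := d16_1 D15589 (iv D14858) D14857
theorem F61724 : act 6 n15589 = n15254 := d27_2 F61713 D15589 (iv F61712)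
theorem F61725 : act 8 n15589 = n15589 := d29_2 F58803 D15589 (iv D15589)
def n15590 : Q := act 8 n14860
theorem D15590 : act 8 n14860 = n15590 := rfl
theorem F61726 : act 0 n15590 = n14968 := d7_1 D15590 (iv D14968) (iv F58814)
theorem F61727 : act 2 n15590 = n14861 := d20_1 D15590 (iv D14861) D14860
theorem F61728 : act 3 n15590 = n14876 := d25_1 D15590 (iv D14876) (iv F58815)
theorem F61729 : act 5 n15590 = n14864 := d32_1 D15590 (iv D14864) (iv F58816)
def n15591 : Q := act 7 n14861
theorem D15591 : act 7 n14861 = n15591 := rfl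
theorem F61730 : act 0 n15591 = n14998 := d6_1 D15591 (iv D14998) (iv F58818)
theorem F61731 : act 1 n15591 = n15591 := d13_1 D15591 (iv D15591) F58819
theorem F61732 : act 3 n15591 = n14992 := d24_1 D15591 (iv D14992) F56031 (iv F55534) (iv F58820)
theorem F61733 : act 5 n15591 = n14866 := d31_1 D15591 (iv D14866) (iv F58821)
theorem F61734 : act 8 n15591 = n15570 := d35_2 D14861 D15591 (iv D15570) (iv D14833) (iv F55528)
def n15592 : Q := act 8 n14862
theorem D15592 : act 8 n14862 = n15592 := rfl
theorem F61735 : act 0 n15592 = n15217 := d7_1 D15592 (iv D15217) (iv F58822)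
theorem F61736 : act 1 n15592 = n14864 := d14_1 D15592 (iv D14864) D14862
theorem F61737 : act 2 n15592 = n15592 := d20_1 D15592 (iv D15592) F58823
theorem F61738 : act 3 n15592 = n14878 := d25_1 D15592 (iv D14878) (iv F58824)
theorem F61739 : act 6 n15592 = n14869 := d34_1 D15592 (iv D14869) (iv F58825)
def n15593 : Q := act 8 n14863
theorem D15593 : act 8 n14863 = n15593 := rfl
theorem F61740 : act 0 n15593 = n15000 := d7_1 D15593 (iv D15000) (iv F58826)
theorem F61741 : act 2 n15593 = n14865 := d20_1 D15593 (iv D14865) (iv F58827)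
theorem F61742 : act 3 n15593 = n15101 := d25_1 D15593 F59677 (iv F58828)
theorem F61743 : act 4 n15593 = n14864 := d29_1 D15593 (iv D14864) D14863
theorem F61744 : act 6 n15593 = n14872 := d34_1 D15593 (iv D14872) (iv F58829)
def n15594 : Q := act 7 n14864
theorem D15594 : act 7 n14864 = n15594 := rfl
theorem F61745 : act 0 n15594 = n15001 := d6_1 D15594 (iv D15001) (iv F58830)
theorem F61746 : act 2 n15594 = n14866 := d19_1 D15594 (iv D14866) (iv F58831)
theorem F61747 : act 6 n15594 = n14873 := d33_1 D15594 (iv D14873) (iv F58833)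
def n15595 : Q := act 7 n14865
theorem D15595 : act 7 n14865 = n15595 := rfl
theorem F61748 : act 0 n15595 = n15002 := d6_1 D15595 (iv D15002) (iv F58834)
theorem F61749 : act 1 n15595 = n15595 := d13_1 D15595 (iv D15595) F58835
theorem F61750 : act 3 n15595 = n15537 := d24_1 D15595 F61461 F58398 (iv F56045) (iv F58836)
theorem F61751 : act 4 n15595 = n14866 := d28_1 D15595 (iv D14866) (iv F58837)
theorem F61752 : act 6 n15595 = n14875 := d33_1 D15595 (iv D14875) (iv F58838)
def n15596 : Q := act 4 n14867
theorem D15596 : act 4 n14867 = n15596 := rfl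
theorem F61753 : act 0 n15596 = n14868 := d3_1 D15596 (iv D14868) D14867
theorem F61754 : act 1 n15596 = n15003 := d10_1 D15596 (iv D15003) (iv F58843)
theorem F61755 : act 2 n15596 = n15596 := d16_1 D15596 (iv D15596) F58844
theorem F61756 : act 5 n15596 = n15269 := d26_2 F60552 D15596 F60354 (iv F60391) F60555
theorem F61757 : act 6 n15596 = n15216 := d27_2 (iv F58846) D15596 (iv D15216)
theorem F61758 : act 7 n15596 = n15268 := d28_2 (iv F58847) D15596 F60351
def n15597 : Q := act 8 n14867
theorem D15597 : act 8 n14867 = n15597 := rfl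
theorem F61759 : act 0 n15597 = n14869 := d7_1 D15597 (iv D14869) D14867
theorem F61760 : act 1 n15597 = n15004 := d14_1 D15597 (iv D15004) (iv F58843)
theorem F61761 : act 2 n15597 = n15597 := d20_1 D15597 (iv D15597) F58844
theorem F61762 : act 3 n15597 = n14880 := d25_1 D15597 (iv D14880) (iv F58845)
theorem F61763 : act 6 n15597 = n15217 := d34_1 D15597 (iv D15217) (iv F58846)
def n15598 : Q := act 5 n14868
theorem D15598 : act 5 n14868 = n15598 := rfl
theorem F61764 : act 0 n15598 = n15269 := d4_1 D15598 (iv F61756) F61753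
theorem F61765 : act 1 n15598 = n14871 := d11_1 D15598 (iv D14871) (iv F58848)
theorem F61766 : act 2 n15598 = n15598 := d17_1 D15598 (iv D15598) F58849
theorem F61767 : act 4 n15598 = n15225 := d26_1 D15598 F60562 (iv D15339) F57506 D14868
theorem F61768 : act 7 n15598 = n15218 := d31_2 F60180 D15598 (iv F60187)
def n15599 : Q := act 8 n14868
theorem D15599 : act 8 n14868 = n15599 := rfl
theorem F61769 : act 1 n15599 = n14872 := d14_1 D15599 (iv D14872) (iv F58848)
theorem F61770 : act 2 n15599 = n15599 := d20_1 D15599 (iv D15599) F58849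
theorem F61771 : act 4 n15599 = n14869 := d29_1 D15599 (iv D14869) D14868
def n15600 : Q := act 7 n14869
theorem D15600 : act 7 n14869 = n15600 := rfl
theorem F61772 : act 1 n15600 = n14873 := d13_1 D15600 (iv D14873) (iv F58850)
theorem F61773 : act 2 n15600 = n15600 := d19_1 D15600 (iv D15600) F58851
def n15601 : Q := act 7 n14870
theorem D15601 : act 7 n14870 = n15601 := rfl
theorem F61774 : act 0 n15601 = n15010 := d6_1 D15601 (iv D15010) (iv F58853)
theorem F61775 : act 1 n15601 = n15012 := d13_1 D15601 (iv F60362) F60358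
theorem F61776 : act 2 n15601 = n15124 := d19_1 D15601 F59774 (iv F58854)
theorem F61777 : act 3 n15601 = n15598 := d24_1 D15601 F61768 (iv D15218) F57091 D14870
theorem F61778 : act 4 n15601 = n14885 := d28_1 D15601 (iv D14885) (iv F58855)
theorem F61779 : act 5 n15601 = n15271 := d31_1 D15601 F60362 F59393
theorem F61780 : act 6 n15601 = n15006 := d33_1 D15601 F59373 (iv F58856)
def n15602 : Q := act 8 n14870
theorem D15602 : act 8 n14870 = n15602 := rfl
theorem F61781 : act 0 n15602 = n15011 := d7_1 D15602 (iv D15011) (iv F58853)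
theorem F61782 : act 2 n15602 = n15090 := d20_1 D15602 F59639 (iv F58854)
theorem F61783 : act 3 n15602 = n14872 := d25_1 D15602 (iv D14872) D14870
theorem F61784 : act 4 n15602 = n14886 := d29_1 D15602 (iv D14886) (iv F58855)
theorem F61785 : act 6 n15602 = n15101 := d34_1 D15602 F59677 (iv F58856)
def n15603 : Q := act 8 n14871
theorem D15603 : act 8 n14871 = n15603 := rfl
theorem F61786 : act 0 n15603 = n15013 := d7_1 D15603 (iv D15013) (iv F58857)
theorem F61787 : act 2 n15603 = n14874 := d20_1 D15603 (iv D14874) (iv F58858)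
theorem F61788 : act 5 n15603 = n14872 := d32_1 D15603 (iv D14872) D14871
def n15604 : Q := act 7 n14872
theorem D15604 : act 7 n14872 = n15604 := rfl
theorem F61789 : act 0 n15604 = n15014 := d6_1 D15604 (iv D15014) (iv F58859)
theorem F61790 : act 2 n15604 = n14875 := d19_1 D15604 (iv D14875) (iv F58860)
theorem F61791 : act 4 n15604 = n14873 := d28_1 D15604 (iv D14873) (iv F58861)
def n15605 : Q := act 3 n14873
theorem D15605 : act 3 n14873 = n15605 := rfl
theorem F61792 : act 0 n15605 = n15015 := d2_1 D15605 (iv D15015) (iv F58862)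
theorem F61793 : act 7 n15605 = n14889 := d24_2 D14873 D15605 (iv D14889) (iv D14061) (iv F55552)
def n15606 : Q := act 7 n14874
theorem D15606 : act 7 n14874 = n15606 := rfl
theorem F61794 : act 0 n15606 = n15017 := d6_1 D15606 (iv D15017) (iv F58864)
theorem F61795 : act 1 n15606 = n15606 := d13_1 D15606 (iv D15606) F58865
theorem F61796 : act 5 n15606 = n14875 := d31_1 D15606 (iv D14875) (iv F58867)
def n15607 : Q := act 3 n14875
theorem D15607 : act 3 n14875 = n15607 := rfl
theorem F61797 : act 0 n15607 = n15018 := d2_1 D15607 (iv D15018) (iv F58868)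
theorem F61798 : act 1 n15607 = n15607 := d9_1 D15607 (iv D15607) F58869
theorem F61799 : act 4 n15607 = n15525 := d21_2 (iv F58870) D15607 (iv D15525) (iv F58725) F58724
theorem F61800 : act 6 n15607 = n15537 := d23_2 F61752 D15607 (iv F61750)
theorem F61801 : act 7 n15607 = n15185 := d24_2 D14875 D15607 (iv D15185) (iv D14386) (iv F55558)
def n15608 : Q := act 7 n14876
theorem D15608 : act 7 n14876 = n15608 := rfl
theorem F61802 : act 0 n15608 = n14972 := d6_1 D15608 (iv D14972) (iv F58871)
theorem F61803 : act 2 n15608 = n14877 := d19_1 D15608 (iv D14877) (iv F58872)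
theorem F61804 : act 5 n15608 = n14879 := d31_1 D15608 (iv D14879) (iv F58873)
theorem F61805 : act 8 n15608 = n14893 := d35_2 D14876 D15608 (iv D14893) (iv D14065) (iv F55564)
def n15609 : Q := act 7 n14878
theorem D15609 : act 7 n14878 = n15609 := rfl
theorem F61806 : act 0 n15609 = n15224 := d6_1 D15609 (iv D15224) (iv F58879)
theorem F61807 : act 1 n15609 = n14879 := d13_1 D15609 (iv D14879) (iv F58880)
theorem F61808 : act 2 n15609 = n14945 := d19_1 D15609 (iv D14945) (iv F58881)
theorem F61809 : act 4 n15609 = n15081 := d28_1 D15609 F59600 (iv F58882)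
theorem F61810 : act 6 n15609 = n14883 := d33_1 D15609 (iv D14883) (iv F58883)
theorem F61811 : act 8 n15609 = n14897 := d35_2 D14878 D15609 (iv D14897) (iv D14069) (iv F55573)
def n15610 : Q := act 3 n14879
theorem D15610 : act 3 n14879 = n15610 := rfl
theorem F61812 : act 0 n15610 = n15021 := d2_1 D15610 (iv D15021) (iv F58884)
theorem F61813 : act 2 n15610 = n14987 := d15_1 D15610 (iv D14987) F56014 (iv F55580) (iv F58885)
theorem F61814 : act 6 n15610 = n14889 := d23_2 (iv F58887) D15610 (iv D14889)
theorem F61815 : act 8 n15610 = n14903 := d25_2 (iv F58888) D15610 (iv D14903)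
def n15611 : Q := act 7 n14880
theorem D15611 : act 7 n14880 = n15611 := rfl
theorem F61816 : act 0 n15611 = n14883 := d6_1 D15611 (iv D14883) (iv F58889)
theorem F61817 : act 1 n15611 = n15024 := d13_1 D15611 (iv D15024) (iv F58890)
theorem F61818 : act 2 n15611 = n14947 := d19_1 D15611 (iv D14947) (iv F58891)
theorem F61819 : act 6 n15611 = n15224 := d33_1 D15611 (iv D15224) (iv F58892)
theorem F61820 : act 8 n15611 = n14907 := d35_2 D14880 D15611 (iv D14907) (iv D14077) (iv F55587)
def n15612 : Q := act 8 n14881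
theorem D15612 : act 8 n14881 = n15612 := rfl
theorem F61821 : act 1 n15612 = n14886 := d14_1 D15612 (iv D14886) (iv F58893)
theorem F61822 : act 2 n15612 = n15174 := d20_1 D15612 F59991 (iv F58894)
theorem F61823 : act 3 n15612 = n14882 := d25_1 D15612 (iv D14882) D14881
theorem F61824 : act 6 n15612 = n15100 := d34_1 D15612 F59674 (iv F58895)
def n15613 : Q := act 7 n14882
theorem D15613 : act 7 n14882 = n15613 := rfl
theorem F61825 : act 1 n15613 = n14888 := d13_1 D15613 (iv D14888) (iv F58896)
theorem F61826 : act 2 n15613 = n14948 := d19_1 D15613 (iv D14948) (iv F58897)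
theorem F61827 : act 4 n15613 = n14883 := d28_1 D15613 (iv D14883) (iv F58898)
theorem F61828 : act 6 n15613 = n15081 := d33_1 D15613 F59600 (iv F58899)
theorem F61829 : act 8 n15613 = n14912 := d35_2 D14882 D15613 (iv D14912) (iv D14080) (iv F55591)
def n15614 : Q := act 3 n14883
theorem D15614 : act 3 n14883 = n15614 := rfl
theorem F61830 : act 1 n15614 = n14889 := d9_1 D15614 (iv D14889) (iv F58900)
theorem F61831 : act 8 n15614 = n14913 := d25_2 (iv F58902) D15614 (iv D14913)
def n15615 : Q := act 4 n14884
theorem D15615 : act 4 n14884 = n15615 := rfl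
theorem F61832 : act 0 n15615 = n15031 := d3_1 D15615 (iv D15031) (iv F58903)
theorem F61833 : act 2 n15615 = n15186 := d16_1 D15615 (iv D15186) (iv F58904)
theorem F61834 : act 5 n15615 = n15443 := d26_2 D14884 D15615 F61098 F59393 F58855
theorem F61835 : act 6 n15615 = n15386 := d27_2 F60770 D15615 F60806
theorem F61836 : act 7 n15385 = n15615 := d33_0 F61835 (iv D15386) D15385
def n15616 : Q := act 7 n14884
theorem D15616 : act 7 n14884 = n15616 := rfl
theorem F61837 : act 0 n15616 = n15033 := d6_1 D15616 (iv D15033) (iv F58903)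
theorem F61838 : act 1 n15616 = n15615 := d13_1 D15616 (iv F61836) F60799
theorem F61839 : act 2 n15616 = n15188 := d19_1 D15616 (iv D15188) (iv F58904)
theorem F61840 : act 3 n15616 = n14916 := d24_1 D15616 (iv D14916) F55682 (iv F55599) (iv F58905)
theorem F61841 : act 4 n15616 = n15385 := d28_1 D15616 F61836 (iv D15615)
theorem F61842 : act 5 n15616 = n14885 := d31_1 D15616 (iv D14885) D14884
theorem F61843 : act 6 n15616 = n15384 := d33_1 D15616 (iv F60797) F60770
def n15617 : Q := act 8 n14884
theorem D15617 : act 8 n14884 = n15617 := rfl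
theorem F61844 : act 0 n15617 = n15034 := d7_1 D15617 (iv D15034) (iv F58903)
theorem F61845 : act 2 n15617 = n15089 := d20_1 D15617 F59634 (iv F58904)
theorem F61846 : act 3 n15617 = n14887 := d25_1 D15617 (iv D14887) (iv F58905)
theorem F61847 : act 5 n15617 = n14886 := d32_1 D15617 (iv D14886) D14884
def n15618 : Q := act 8 n14885
theorem D15618 : act 8 n14885 = n15618 := rfl
theorem F61848 : act 0 n15618 = n15035 := d7_1 D15618 (iv D15035) (iv F58906)
theorem F61849 : act 2 n15618 = n15189 := d20_1 D15618 (iv D15189) (iv F58907)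
theorem F61850 : act 3 n15618 = n14918 := d25_1 D15618 (iv D14918) (iv F58908)
theorem F61851 : act 6 n15618 = n15209 := d34_1 D15618 F60144 (iv F58909)
def n15619 : Q := act 7 n14886
theorem D15619 : act 7 n14886 = n15619 := rfl
theorem F61852 : act 0 n15619 = n15036 := d6_1 D15619 (iv D15036) (iv F58910)
theorem F61853 : act 2 n15619 = n15087 := d19_1 D15619 F59623 (iv F58911)
theorem F61854 : act 6 n15619 = n15096 := d33_1 D15619 F59658 (iv F58913)
def n15620 : Q := act 7 n14887
theorem D15620 : act 7 n14887 = n15620 := rfl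
theorem F61855 : act 0 n15620 = n15038 := d6_1 D15620 (iv D15038) (iv F58914)
theorem F61856 : act 2 n15620 = n14890 := d19_1 D15620 (iv D14890) (iv F58915)
theorem F61857 : act 5 n15620 = n14888 := d31_1 D15620 (iv D14888) (iv F58916)
theorem F61858 : act 8 n15620 = n14921 := d35_2 D14887 D15620 (iv D14921) (iv D14086) (iv F55599)
def n15621 : Q := act 3 n14888
theorem D15621 : act 3 n14888 = n15621 := rfl
theorem F61859 : act 0 n15621 = n15039 := d2_1 D15621 (iv D15039) (iv F58917)
theorem F61860 : act 2 n15621 = n15050 := d15_1 D15621 (iv D15050) F56214 (iv F55613) (iv F58918)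
theorem F61861 : act 6 n15621 = n15077 := d23_2 (iv F58920) D15621 F59595
theorem F61862 : act 8 n15621 = n14922 := d25_2 (iv F58921) D15621 (iv D14922)
def n15622 : Q := act 4 n14889
theorem D15622 : act 4 n14889 = n15622 := rfl
theorem F61863 : act 0 n15622 = n15040 := d3_1 D15622 (iv D15040) (iv F58922)
theorem F61864 : act 8 n15622 = n14923 := d29_2 (iv F58923) D15622 (iv D14923)
def n15623 : Q := act 8 n14891
theorem D15623 : act 8 n14891 = n15623 := rfl
theorem F61865 : act 0 n15623 = n14977 := d7_1 D15623 (iv D14977) (iv F58929)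
theorem F61866 : act 2 n15623 = n15623 := d20_1 D15623 (iv D15623) F58930
theorem F61867 : act 3 n15623 = n14892 := d25_1 D15623 (iv D14892) D14891
theorem F61868 : act 4 n15623 = n15496 := d29_1 D15623 (iv D15496) (iv F58931)
def n15624 : Q := act 7 n14892
theorem D15624 : act 7 n14892 = n15624 := rfl
theorem F61869 : act 0 n15624 = n14979 := d6_1 D15624 (iv D14979) (iv F58932)
theorem F61870 : act 2 n15624 = n14894 := d19_1 D15624 (iv D14894) (iv F58933)
theorem F61871 : act 4 n15624 = n14893 := d28_1 D15624 (iv D14893) (iv F58934)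
def n15625 : Q := act 3 n14893
theorem D15625 : act 3 n14893 = n15625 := rfl
theorem F61872 : act 0 n15625 = n14980 := d2_1 D15625 (iv D14980) (iv F58935)
theorem F61873 : act 5 n15625 = n14903 := d22_2 (iv F58937) D15625 (iv D14903)
theorem F61874 : act 7 n15625 = n15499 := d24_2 D14893 D15625 (iv D15499) (iv D14741) (iv F55621)
def n15626 : Q := act 3 n14894
theorem D15626 : act 3 n14894 = n15626 := rfl
theorem F61875 : act 0 n15626 = n14996 := d2_1 D15626 (iv D14996) (iv F58938)
theorem F61876 : act 1 n15626 = n14950 := d9_1 D15626 (iv D14950) (iv F58939)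
theorem F61877 : act 4 n15626 = n15286 := d21_2 (iv F58940) D15626 (iv D15286) (iv F58472) F58471
theorem F61878 : act 7 n15626 = n15626 := d24_2 D14894 D15626 (iv D15626) (iv D14894) F55625
theorem F61879 : act 8 n15626 = n15301 := d25_2 F60947 D15626 (iv F60943)
def n15627 : Q := act 8 n14895
theorem D15627 : act 8 n14895 = n15627 := rfl
theorem F61880 : act 0 n15627 = n15231 := d7_1 D15627 (iv D15231) (iv F58941)
theorem F61881 : act 1 n15627 = n14900 := d14_1 D15627 (iv D14900) (iv F58942)
theorem F61882 : act 2 n15627 = n15627 := d20_1 D15627 (iv D15627) F58943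
theorem F61883 : act 3 n15627 = n14896 := d25_1 D15627 (iv D14896) D14895
theorem F61884 : act 6 n15627 = n14910 := d34_1 D15627 (iv D14910) (iv F58944)
def n15628 : Q := act 7 n14896
theorem D15628 : act 7 n14896 = n15628 := rfl
theorem F61885 : act 0 n15628 = n15232 := d6_1 D15628 (iv D15232) (iv F58945)
theorem F61886 : act 1 n15628 = n14902 := d13_1 D15628 (iv D14902) (iv F58946)
theorem F61887 : act 2 n15628 = n14951 := d19_1 D15628 (iv D14951) (iv F58947)
theorem F61888 : act 4 n15628 = n14897 := d28_1 D15628 (iv D14897) (iv F58948)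
theorem F61889 : act 6 n15628 = n14912 := d33_1 D15628 (iv D14912) (iv F58949)
theorem F61890 : act 8 n15628 = n15081 := d35_2 D14896 D15628 F59600 F56369 (iv F55634)
def n15629 : Q := act 3 n14897
theorem D15629 : act 3 n14897 = n15629 := rfl
theorem F61891 : act 0 n15629 = n15233 := d2_1 D15629 (iv D15233) (iv F58950)
theorem F61892 : act 1 n15629 = n14903 := d9_1 D15629 (iv D14903) (iv F58951)
theorem F61893 : act 6 n15629 = n14913 := d23_2 (iv F58953) D15629 (iv D14913)
def n15630 : Q := act 8 n14898
theorem D15630 : act 8 n14898 = n15630 := rfl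
theorem F61894 : act 0 n15630 = n15045 := d7_1 D15630 (iv D15045) (iv F58954)
theorem F61895 : act 2 n15630 = n14930 := d20_1 D15630 (iv D14930) (iv F58955)
theorem F61896 : act 3 n15630 = n14901 := d25_1 D15630 (iv D14901) (iv F58956)
theorem F61897 : act 5 n15630 = n14900 := d32_1 D15630 (iv D14900) D14898
def n15631 : Q := act 8 n14899
theorem D15631 : act 8 n14899 = n15631 := rfl
theorem F61898 : act 0 n15631 = n15046 := d7_1 D15631 (iv D15046) (iv F58957)
theorem F61899 : act 2 n15631 = n14931 := d20_1 D15631 (iv D14931) (iv F58958)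
theorem F61900 : act 3 n15631 = n15209 := d25_1 D15631 F60144 (iv F58959)
theorem F61901 : act 6 n15631 = n14918 := d34_1 D15631 (iv D14918) (iv F58960)
def n15632 : Q := act 7 n14900
theorem D15632 : act 7 n14900 = n15632 := rfl
theorem F61902 : act 0 n15632 = n15047 := d6_1 D15632 (iv D15047) (iv F58961)
theorem F61903 : act 2 n15632 = n14932 := d19_1 D15632 (iv D14932) (iv F58962)
theorem F61904 : act 6 n15632 = n14919 := d33_1 D15632 (iv D14919) (iv F58964)
def n15633 : Q := act 7 n14901
theorem D15633 : act 7 n14901 = n15633 := rfl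
theorem F61905 : act 0 n15633 = n15049 := d6_1 D15633 (iv D15049) (iv F58965)
theorem F61906 : act 2 n15633 = n14904 := d19_1 D15633 (iv D14904) (iv F58966)
theorem F61907 : act 5 n15633 = n14902 := d31_1 D15633 (iv D14902) (iv F58967)
theorem F61908 : act 8 n15633 = n15080 := d35_2 D14901 D15633 F59598 F56367 (iv F55644)
def n15634 : Q := act 3 n14902
theorem D15634 : act 3 n14902 = n15634 := rfl
theorem F61909 : act 0 n15634 = n15050 := d2_1 D15634 (iv D15050) (iv F58968)
theorem F61910 : act 2 n15634 = n15039 := d15_1 D15634 (iv D15039) F56187 (iv F55658) (iv F58969)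
theorem F61911 : act 6 n15634 = n14922 := d23_2 (iv F58971) D15634 (iv D14922)
theorem F61912 : act 8 n15634 = n15077 := d25_2 (iv F58972) D15634 F59595
def n15635 : Q := act 4 n14903
theorem D15635 : act 4 n14903 = n15635 := rfl
theorem F61913 : act 0 n15635 = n15051 := d3_1 D15635 (iv D15051) (iv F58973)
theorem F61914 : act 6 n15635 = n14923 := d27_2 (iv F58974) D15635 (iv D14923)
def n15636 : Q := act 7 n14905
theorem D15636 : act 7 n14905 = n15636 := rfl
theorem F61915 : act 0 n15636 = n14909 := d6_1 D15636 (iv D14909) (iv F58980)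
theorem F61916 : act 1 n15636 = n15054 := d13_1 D15636 (iv D15054) (iv F58981)
theorem F61917 : act 2 n15636 = n15636 := d19_1 D15636 (iv D15636) F58982
theorem F61918 : act 4 n15636 = n15441 := d28_1 D15636 F61090 (iv F58983)
theorem F61919 : act 5 n15636 = n15463 := d31_1 D15636 F61197 F61196
theorem F61920 : act 6 n15636 = n15230 := d33_1 D15636 (iv D15230) (iv F58984)
def n15637 : Q := act 8 n14905
theorem D15637 : act 8 n14905 = n15637 := rfl
theorem F61921 : act 0 n15637 = n14910 := d7_1 D15637 (iv D14910) (iv F58980)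
theorem F61922 : act 1 n15637 = n15055 := d14_1 D15637 (iv D15055) (iv F58981)
theorem F61923 : act 2 n15637 = n15637 := d20_1 D15637 (iv D15637) F58982
theorem F61924 : act 3 n15637 = n14906 := d25_1 D15637 (iv D14906) D14905
theorem F61925 : act 4 n15637 = n15627 := d29_1 D15637 (iv D15627) (iv F58983)
theorem F61926 : act 6 n15637 = n15231 := d34_1 D15637 (iv D15231) (iv F58984)
def n15638 : Q := act 7 n14906
theorem D15638 : act 7 n14906 = n15638 := rfl
theorem F61927 : act 0 n15638 = n14912 := d6_1 D15638 (iv D14912) (iv F58985)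
theorem F61928 : act 1 n15638 = n15057 := d13_1 D15638 (iv D15057) (iv F58986)
theorem F61929 : act 2 n15638 = n14955 := d19_1 D15638 (iv D14955) (iv F58987)
theorem F61930 : act 4 n15638 = n14907 := d28_1 D15638 (iv D14907) (iv F58988)
theorem F61931 : act 6 n15638 = n15232 := d33_1 D15638 (iv D15232) (iv F58989)
def n15639 : Q := act 3 n14907
theorem D15639 : act 3 n14907 = n15639 := rfl
theorem F61932 : act 0 n15639 = n14913 := d2_1 D15639 (iv D14913) (iv F58990)
theorem F61933 : act 1 n15639 = n15058 := d9_1 D15639 (iv D15058) (iv F58991)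
theorem F61934 : act 6 n15639 = n15233 := d23_2 (iv F58993) D15639 (iv D15233)
theorem F61935 : act 7 n15639 = n15629 := d24_2 D14907 D15639 (iv D15629) (iv D14897) (iv F55669)
def n15640 : Q := act 4 n14908
theorem D15640 : act 4 n14908 = n15640 := rfl
theorem F61936 : act 0 n15640 = n15465 := d3_1 D15640 F61200 F61192
theorem F61937 : act 1 n15640 = n14914 := d10_1 D15640 (iv D14914) (iv F58994)
theorem F61938 : act 2 n15640 = n15640 := d16_1 D15640 (iv D15640) F58995
theorem F61939 : act 3 n15640 = n15386 := d21_1 D15640 F60806 F60769 F57675 (iv F58996)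
theorem F61940 : act 5 n15640 = n15359 := d26_2 D14908 D15640 F60671 F58117 F57123
theorem F61941 : act 7 n15358 = n15640 := d31_0 F61940 (iv D15359) D15358
def n15641 : Q := act 7 n14908
theorem D15641 : act 7 n14908 = n15641 := rfl
theorem F61942 : act 0 n15641 = n15463 := d6_1 D15641 F61197 F61192
theorem F61943 : act 1 n15641 = n14916 := d13_1 D15641 (iv D14916) (iv F58994)
theorem F61944 : act 2 n15641 = n15641 := d19_1 D15641 (iv D15641) F58995
theorem F61945 : act 3 n15641 = n15615 := d24_1 D15641 (iv F61836) F60801 F57700 (iv F58996)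
theorem F61946 : act 4 n15641 = n15358 := d28_1 D15641 F61941 (iv D15640)
theorem F61947 : act 5 n15641 = n14909 := d31_1 D15641 (iv D14909) D14908
theorem F61948 : act 6 n15641 = n15640 := d33_1 D15641 (iv F61941) F60666
def n15642 : Q := act 8 n14908
theorem D15642 : act 8 n14908 = n15642 := rfl
theorem F61949 : act 1 n15642 = n14917 := d14_1 D15642 (iv D14917) (iv F58994)
theorem F61950 : act 2 n15642 = n15642 := d20_1 D15642 (iv D15642) F58995
theorem F61951 : act 3 n15642 = n14911 := d25_1 D15642 (iv D14911) (iv F58996)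
theorem F61952 : act 5 n15642 = n14910 := d32_1 D15642 (iv D14910) D14908
def n15643 : Q := act 8 n14909
theorem D15643 : act 8 n14909 = n15643 := rfl
theorem F61953 : act 1 n15643 = n14918 := d14_1 D15643 (iv D14918) (iv F58997)
theorem F61954 : act 2 n15643 = n15643 := d20_1 D15643 (iv D15643) F58998
def n15644 : Q := act 7 n14910
theorem D15644 : act 7 n14910 = n15644 := rfl
theorem F61955 : act 1 n15644 = n14919 := d13_1 D15644 (iv D14919) (iv F58999)
theorem F61956 : act 2 n15644 = n15644 := d19_1 D15644 (iv D15644) F59000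
def n15645 : Q := act 7 n14911
theorem D15645 : act 7 n14911 = n15645 := rfl
theorem F61957 : act 1 n15645 = n14921 := d13_1 D15645 (iv D14921) (iv F59002)
theorem F61958 : act 2 n15645 = n14957 := d19_1 D15645 (iv D14957) (iv F59003)
theorem F61959 : act 5 n15645 = n14912 := d31_1 D15645 (iv D14912) (iv F59004)
def n15646 : Q := act 3 n14912
theorem D15646 : act 3 n14912 = n15646 := rfl
theorem F61960 : act 1 n15646 = n14922 := d9_1 D15646 (iv D14922) (iv F59005)
def n15647 : Q := act 2 n14913
theorem D15647 : act 2 n14913 = n15647 := rfl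
theorem F61961 : act 3 n15647 = n14959 := d15_2 D14913 D15647 (iv D14959) (iv D14133) (iv F55679)
def n15648 : Q := act 4 n14913
theorem D15648 : act 4 n14913 = n15648 := rfl
theorem F61962 : act 1 n15648 = n14923 := d10_1 D15648 (iv D14923) (iv F59008)
def n15649 : Q := act 8 n14914
theorem D15649 : act 8 n14914 = n15649 := rfl
theorem F61963 : act 0 n15649 = n15069 := d7_1 D15649 (iv D15069) (iv F59009)
theorem F61964 : act 2 n15649 = n14934 := d20_1 D15649 (iv D14934) (iv F59010)
theorem F61965 : act 4 n15649 = n14917 := d29_1 D15649 (iv D14917) D14914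
def n15650 : Q := act 8 n14915
theorem D15650 : act 8 n14915 = n15650 := rfl
theorem F61966 : act 0 n15650 = n15070 := d7_1 D15650 (iv D15070) (iv F59011)
theorem F61967 : act 2 n15650 = n14935 := d20_1 D15650 (iv D14935) (iv F59012)
theorem F61968 : act 3 n15650 = n14920 := d25_1 D15650 (iv D14920) (iv F59013)
theorem F61969 : act 6 n15650 = n14917 := d34_1 D15650 (iv D14917) D14915
def n15651 : Q := act 8 n14916
theorem D15651 : act 8 n14916 = n15651 := rfl
theorem F61970 : act 0 n15651 = n15071 := d7_1 D15651 (iv D15071) (iv F59015)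
theorem F61971 : act 2 n15651 = n14936 := d20_1 D15651 (iv D14936) (iv F59016)
theorem F61972 : act 4 n15651 = n15650 := d29_1 D15651 (iv D15650) (iv F59017)
theorem F61973 : act 5 n15651 = n14918 := d32_1 D15651 (iv D14918) (iv F59018)
theorem F61974 : act 6 n15651 = n15649 := d34_1 D15651 (iv D15649) (iv F59019)
def n15652 : Q := act 7 n14917
theorem D15652 : act 7 n14917 = n15652 := rfl
theorem F61975 : act 0 n15652 = n15072 := d6_1 D15652 (iv D15072) (iv F59020)
theorem F61976 : act 2 n15652 = n14937 := d19_1 D15652 (iv D14937) (iv F59021)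
theorem F61977 : act 5 n15652 = n14919 := d31_1 D15652 (iv D14919) (iv F59023)
def n15653 : Q := act 7 n14918
theorem D15653 : act 7 n14918 = n15653 := rfl
theorem F61978 : act 0 n15653 = n15073 := d6_1 D15653 (iv D15073) (iv F59024)
theorem F61979 : act 2 n15653 = n14938 := d19_1 D15653 (iv D14938) (iv F59025)
theorem F61980 : act 8 n15653 = n14919 := d35_2 D14918 D15653 (iv D14919) (iv D14084) D14083
def n15654 : Q := act 3 n14919
theorem D15654 : act 3 n14919 = n15654 := rfl
theorem F61981 : act 0 n15654 = n15074 := d2_1 D15654 (iv D15074) (iv F59026)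
theorem F61982 : act 7 n15654 = n14922 := d24_2 D14919 D15654 (iv D14922) (iv D14087) (iv F55687)
def n15655 : Q := act 7 n14920
theorem D15655 : act 7 n14920 = n15655 := rfl
theorem F61983 : act 0 n15655 = n15075 := d6_1 D15655 (iv D15075) (iv F59028)
theorem F61984 : act 2 n15655 = n14924 := d19_1 D15655 (iv D14924) (iv F59029)
theorem F61985 : act 6 n15655 = n14921 := d33_1 D15655 (iv D14921) (iv F59030)
def n15656 : Q := act 3 n14921
theorem D15656 : act 3 n14921 = n15656 := rfl
theorem F61986 : act 0 n15656 = n15076 := d2_1 D15656 (iv D15076) (iv F59031)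
theorem F61987 : act 5 n15656 = n14922 := d22_2 (iv F59033) D15656 (iv D14922)
def n15657 : Q := act 2 n14922
theorem D15657 : act 2 n14922 = n15657 := rfl
theorem F61988 : act 0 n15657 = n15077 := d1_1 D15657 (iv D15077) (iv F59034)
theorem F61989 : act 3 n15657 = n14926 := d15_2 D14922 D15657 (iv D14926) (iv D14091) (iv F55694)
theorem F61990 : act 6 n15657 = n15039 := d18_2 F61911 D15657 (iv F61910)
theorem F61991 : act 8 n15657 = n15050 := d20_2 F61862 D15657 (iv F61860)
theorem F61992 : act 1 n15284 = n15657 := d14_3 F61991 F59512 (iv F60401)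
def n15658 : Q := act 4 n14922
theorem D15658 : act 4 n14922 = n15658 := rfl
theorem F61993 : act 0 n15658 = n15078 := d3_1 D15658 (iv D15078) (iv F59034)
theorem F61994 : act 3 n15658 = n14923 := d21_1 D15658 (iv D14923) (iv D14088) (iv F55695) D14922
def n15659 : Q := act 5 n14923
theorem D15659 : act 5 n14923 = n15659 := rfl
theorem F61995 : act 0 n15659 = n15079 := d4_1 D15659 (iv D15079) (iv F59035)
def n15660 : Q := act 2 n14925
theorem D15660 : act 2 n14925 = n15660 := rfl
theorem F61996 : act 0 n15660 = n15080 := d1_1 D15660 (iv D15080) (iv F59039)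
theorem F61997 : act 1 n15660 = n15283 := d8_1 D15660 F60398 F57303 F55899 (iv F59040)
theorem F61998 : act 5 n15660 = n14926 := d17_2 (iv F59041) D15660 (iv D14926)
theorem F61999 : act 7 n15660 = n14944 := d19_2 (iv F59042) D15660 (iv D14944)
theorem F62000 : act 8 n15660 = n15049 := d20_2 (iv F59043) D15660 F59510
def n15661 : Q := act 8 n14927
theorem D15661 : act 8 n14927 = n15661 := rfl
theorem F62001 : act 0 n15661 = n15082 := d7_1 D15661 (iv D15082) (iv F59050)
theorem F62002 : act 1 n15661 = n15661 := d14_1 D15661 (iv D15661) F59051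
theorem F62003 : act 3 n15661 = n15661 := d25_1 D15661 (iv D15661) F59052
theorem F62004 : act 4 n15661 = n14930 := d29_1 D15661 (iv D14930) D14927
theorem F62005 : act 6 n15661 = n15246 := d34_1 D15661 (iv D15246) F59053
def n15662 : Q := act 8 n14928
theorem D15662 : act 8 n14928 = n15662 := rfl
theorem F62006 : act 0 n15662 = n15083 := d7_1 D15662 (iv D15083) (iv F59055)
theorem F62007 : act 1 n15662 = n15662 := d14_1 D15662 (iv D15662) F59056
theorem F62008 : act 3 n15662 = n14933 := d25_1 D15662 (iv D14933) (iv F59057)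
theorem F62009 : act 4 n15662 = n15246 := d29_1 D15662 (iv D15246) (iv F59058)
theorem F62010 : act 5 n15662 = n14935 := d32_1 D15662 (iv D14935) (iv F59059)
theorem F62011 : act 6 n15662 = n14930 := d34_1 D15662 (iv D14930) D14928
def n15663 : Q := act 8 n14929
theorem D15663 : act 8 n14929 = n15663 := rfl
theorem F62012 : act 0 n15663 = n15084 := d7_1 D15663 (iv D15084) (iv F59061)
theorem F62013 : act 1 n15663 = n15663 := d14_1 D15663 (iv D15663) F59062
theorem F62014 : act 3 n15663 = n15191 := d25_1 D15663 (iv D15191) (iv F59063)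
theorem F62015 : act 4 n15663 = n15245 := d29_1 D15663 (iv D15245) (iv F59064)
theorem F62016 : act 5 n15663 = n14931 := d32_1 D15663 (iv D14931) (iv F59065)
theorem F62017 : act 6 n15663 = n15244 := d34_1 D15663 (iv D15244) (iv F59066)
def n15664 : Q := act 7 n14930
theorem D15664 : act 7 n14930 = n15664 := rfl
theorem F62018 : act 0 n15664 = n15085 := d6_1 D15664 (iv D15085) (iv F59067)
theorem F62019 : act 1 n15664 = n15664 := d13_1 D15664 (iv D15664) F59068
theorem F62020 : act 3 n15664 = n15207 := d24_1 D15664 (iv D15207) F56973 (iv F55732) (iv F59069)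
theorem F62021 : act 5 n15664 = n14932 := d31_1 D15664 (iv D14932) (iv F59070)
def n15665 : Q := act 7 n14931
theorem D15665 : act 7 n14931 = n15665 := rfl
theorem F62022 : act 0 n15665 = n15086 := d6_1 D15665 (iv D15086) (iv F59071)
theorem F62023 : act 1 n15665 = n15665 := d13_1 D15665 (iv D15665) F59072
theorem F62024 : act 3 n15665 = n15208 := d24_1 D15665 (iv D15208) F56976 (iv F56876) (iv F59073)
theorem F62025 : act 6 n15665 = n14938 := d33_1 D15665 (iv D14938) (iv F59074)
theorem F62026 : act 8 n15665 = n14932 := d35_2 D14931 D15665 (iv D14932) (iv D14094) D14093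
def n15666 : Q := act 7 n14934
theorem D15666 : act 7 n14934 = n15666 := rfl
theorem F62027 : act 0 n15666 = n15091 := d6_1 D15666 (iv D15091) (iv F59086)
theorem F62028 : act 1 n15666 = n15666 := d13_1 D15666 (iv D15666) F59087
theorem F62029 : act 4 n15666 = n14937 := d28_1 D15666 (iv D14937) (iv F59089)
def n15667 : Q := act 7 n14935
theorem D15667 : act 7 n14935 = n15667 := rfl
theorem F62030 : act 0 n15667 = n15092 := d6_1 D15667 (iv D15092) (iv F59090)
theorem F62031 : act 1 n15667 = n15667 := d13_1 D15667 (iv D15667) F59091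
theorem F62032 : act 6 n15667 = n14937 := d33_1 D15667 (iv D14937) (iv F59093)
theorem F62033 : act 8 n15667 = n15666 := d35_2 D14935 D15667 (iv D15666) (iv D14934) F55745
def n15668 : Q := act 7 n14936
theorem D15668 : act 7 n14936 = n15668 := rfl
theorem F62034 : act 0 n15668 = n15093 := d6_1 D15668 (iv D15093) (iv F59094)
theorem F62035 : act 1 n15668 = n15668 := d13_1 D15668 (iv D15668) F59095
theorem F62036 : act 4 n15668 = n15667 := d28_1 D15668 (iv D15667) (iv F59097)
theorem F62037 : act 5 n15668 = n14938 := d31_1 D15668 (iv D14938) (iv F59098)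
theorem F62038 : act 6 n15668 = n15666 := d33_1 D15668 (iv D15666) (iv F59099)
theorem F62039 : act 8 n15668 = n14937 := d35_2 D14936 D15668 (iv D14937) (iv D14101) D14100
def n15669 : Q := act 3 n14937
theorem D15669 : act 3 n14937 = n15669 := rfl
theorem F62040 : act 0 n15669 = n15094 := d2_1 D15669 (iv D15094) (iv F59100)
theorem F62041 : act 1 n15669 = n15669 := d9_1 D15669 (iv D15669) F59101
theorem F62042 : act 5 n15669 = n14939 := d22_2 (iv F59102) D15669 (iv D14939)
theorem F62043 : act 7 n15669 = n14941 := d24_2 D14937 D15669 (iv D14941) (iv D14105) (iv F55754)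
theorem F62044 : act 4 n15591 = n15669 := d28_3 F62043 F59119 D15591
def n15670 : Q := act 3 n14938
theorem D15670 : act 3 n14938 = n15670 := rfl
theorem F62045 : act 0 n15670 = n15095 := d2_1 D15670 (iv D15095) (iv F59103)
theorem F62046 : act 1 n15670 = n15670 := d9_1 D15670 (iv D15670) F59104
theorem F62047 : act 6 n15670 = n15208 := d23_2 F62025 D15670 (iv F62024)
theorem F62048 : act 7 n15670 = n15192 := d24_2 D14938 D15670 (iv D15192) (iv D14399) (iv F55758)
theorem F62049 : act 8 n15670 = n14939 := d25_2 (iv F59105) D15670 (iv D14939)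
def n15671 : Q := act 2 n14939
theorem D15671 : act 2 n14939 = n15671 := rfl
theorem F62050 : act 0 n15671 = n15096 := d1_1 D15671 (iv D15096) (iv F59106)
theorem F62051 : act 6 n15671 = n15036 := d18_2 (iv F59108) D15671 F59469
theorem F62052 : act 7 n15671 = n14942 := d19_2 (iv F59109) D15671 (iv D14942)
theorem F62053 : act 1 n15282 = n15671 := d13_3 F62052 (iv F59126) D15282
def n15672 : Q := act 4 n14939
theorem D15672 : act 4 n14939 = n15672 := rfl
theorem F62054 : act 0 n15672 = n15097 := d3_1 D15672 (iv D15097) (iv F59106)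
theorem F62055 : act 1 n15672 = n15672 := d10_1 D15672 (iv D15672) F59107
theorem F62056 : act 5 n15672 = n15595 := d26_2 F62042 D15672 F61751 (iv F61733) F62044
theorem F62057 : act 6 n15672 = n15199 := d27_2 (iv F59108) D15672 F60111
theorem F62058 : act 7 n15672 = n14943 := d28_2 (iv F59109) D15672 (iv D14943)
def n15673 : Q := act 3 n14940
theorem D15673 : act 3 n14940 = n15673 := rfl
theorem F62059 : act 0 n15673 = n15098 := d2_1 D15673 (iv D15098) (iv F59110)
theorem F62060 : act 1 n15673 = n15673 := d9_1 D15673 (iv D15673) F59111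
theorem F62061 : act 4 n15673 = n14991 := d21_2 (iv F59113) D15673 F59314 F56917 F56082
theorem F62062 : act 5 n15673 = n15205 := d22_2 (iv F59114) D15673 F60132
theorem F62063 : act 6 n15673 = n14941 := d23_2 (iv F59115) D15673 (iv D14941)
theorem F62064 : act 8 n15673 = n14989 := d25_2 (iv F59116) D15673 F59304
def n15674 : Q := act 2 n14941
theorem D15674 : act 2 n14941 = n15674 := rfl
theorem F62065 : act 0 n15674 = n15099 := d1_1 D15674 (iv D15099) (iv F59117)
theorem F62066 : act 3 n15674 = n14944 := d15_2 D14941 D15674 (iv D14944) (iv D14109) (iv F55768)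
theorem F62067 : act 4 n15674 = n15590 := d16_2 (iv F59119) D15674 F61727
theorem F62068 : act 5 n15674 = n14942 := d17_2 (iv F59120) D15674 (iv D14942)
theorem F62069 : act 8 n15674 = n15019 := d20_2 (iv F59121) D15674 F59408
theorem F62070 : act 1 n15280 = n15674 := d14_3 F62069 F59407 D15280
def n15675 : Q := act 4 n14942
theorem D15675 : act 4 n14942 = n15675 := rfl
theorem F62071 : act 0 n15675 = n15101 := d3_1 D15675 (iv D15101) (iv F59122)
theorem F62072 : act 1 n15675 = n15270 := d10_1 D15675 F60357 F59126
theorem F62073 : act 2 n15675 = n14943 := d16_1 D15675 (iv D14943) D14942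
theorem F62074 : act 3 n15675 = n15000 := d21_1 D15675 F59350 F56111 (iv F55793) (iv F59123)
theorem F62075 : act 5 n15675 = n15593 := d26_2 F62068 D15675 F61743 (iv F61729) (iv F62067)
theorem F62076 : act 6 n15675 = n15011 := d27_2 (iv F59124) D15675 F59389
theorem F62077 : act 8 n15675 = n14999 := d29_2 (iv F59125) D15675 F59345
def n15676 : Q := act 3 n14945
theorem D15676 : act 3 n14945 = n15676 := rfl
theorem F62078 : act 0 n15676 = n15256 := d2_1 D15676 (iv D15256) (iv F59137)
theorem F62079 : act 1 n15676 = n14946 := d9_1 D15676 (iv D14946) (iv F59138)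
theorem F62080 : act 6 n15676 = n14949 := d23_2 (iv F59140) D15676 (iv D14949)
theorem F62081 : act 7 n15676 = n15676 := d24_2 D14945 D15676 (iv D15676) (iv D14945) F55816
theorem F62082 : act 8 n15676 = n14952 := d25_2 (iv F59141) D15676 (iv D14952)
def n15677 : Q := act 3 n14947
theorem D15677 : act 3 n14947 = n15677 := rfl
theorem F62083 : act 0 n15677 = n14949 := d2_1 D15677 (iv D14949) (iv F59147)
theorem F62084 : act 1 n15677 = n14966 := d9_1 D15677 (iv D14966) (iv F59148)
theorem F62085 : act 6 n15677 = n15256 := d23_2 (iv F59149) D15677 (iv D15256)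
theorem F62086 : act 7 n15677 = n15677 := d24_2 D14947 D15677 (iv D15677) (iv D14947) F55826
theorem F62087 : act 8 n15677 = n14956 := d25_2 (iv F59150) D15677 (iv D14956)
def n15678 : Q := act 2 n14949
theorem D15678 : act 2 n14949 = n15678 := rfl
theorem F62088 : act 7 n15678 = n15678 := d19_2 F59157 D15678 (iv D15678)
theorem F62089 : act 8 n15678 = n14959 := d20_2 (iv F59158) D15678 (iv D14959)
def n15679 : Q := act 3 n14951
theorem D15679 : act 3 n14951 = n15679 := rfl
theorem F62090 : act 0 n15679 = n15259 := d2_1 D15679 (iv D15259) (iv F59163)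
theorem F62091 : act 1 n15679 = n14953 := d9_1 D15679 (iv D14953) (iv F59164)
theorem F62092 : act 6 n15679 = n14958 := d23_2 (iv F59166) D15679 (iv D14958)
theorem F62093 : act 7 n15679 = n15679 := d24_2 D14951 D15679 (iv D15679) (iv D14951) F55851
theorem F62094 : act 8 n15679 = n15113 := d25_2 (iv F59167) D15679 F59718
def n15680 : Q := act 2 n14952
theorem D15680 : act 2 n14952 = n15680 := rfl
theorem F62095 : act 0 n15680 = n15260 := d1_1 D15680 (iv D15260) (iv F59168)
theorem F62096 : act 6 n15680 = n14959 := d18_2 (iv F59170) D15680 (iv D14959)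
theorem F62097 : act 7 n15680 = n14962 := d19_2 (iv F59171) D15680 (iv D14962)
def n15681 : Q := act 4 n14952
theorem D15681 : act 4 n14952 = n15681 := rfl
theorem F62098 : act 0 n15681 = n15261 := d3_1 D15681 (iv D15261) (iv F59168)
theorem F62099 : act 1 n15681 = n14954 := d10_1 D15681 (iv D14954) (iv F59169)
theorem F62100 : act 5 n15681 = n15265 := d26_2 F61703 D15681 (iv F61002) F61003 (iv F61702)
theorem F62101 : act 6 n15681 = n14960 := d27_2 (iv F59170) D15681 (iv D14960)
theorem F62102 : act 7 n15681 = n14963 := d28_2 (iv F59171) D15681 (iv D14963)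
def n15682 : Q := act 3 n14955
theorem D15682 : act 3 n14955 = n15682 := rfl
theorem F62103 : act 0 n15682 = n14958 := d2_1 D15682 (iv D14958) (iv F59182)
theorem F62104 : act 1 n15682 = n14967 := d9_1 D15682 (iv D14967) (iv F59183)
theorem F62105 : act 6 n15682 = n15259 := d23_2 (iv F59185) D15682 (iv D15259)
theorem F62106 : act 7 n15682 = n15682 := d24_2 D14955 D15682 (iv D15682) (iv D14955) F55871
theorem F62107 : act 8 n15682 = n15322 := d25_2 F61314 D15682 (iv F61310)
def n15683 : Q := act 2 n14956
theorem D15683 : act 2 n14956 = n15683 := rfl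
theorem F62108 : act 0 n15683 = n14959 := d1_1 D15683 (iv D14959) (iv F59186)
theorem F62109 : act 6 n15683 = n15260 := d18_2 (iv F59188) D15683 (iv D15260)
theorem F62110 : act 7 n15683 = n14964 := d19_2 (iv F59189) D15683 (iv D14964)
def n15684 : Q := act 3 n14957
theorem D15684 : act 3 n14957 = n15684 := rfl
theorem F62111 : act 1 n15684 = n14961 := d9_1 D15684 (iv D14961) (iv F59190)
theorem F62112 : act 5 n15684 = n14958 := d22_2 (iv F59191) D15684 (iv D14958)
theorem F62113 : act 7 n15684 = n15684 := d24_2 D14957 D15684 (iv D15684) (iv D14957) F55878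
theorem F62114 : act 8 n15684 = n15321 := d25_2 F60837 D15684 (iv F60833)
def n15685 : Q := act 2 n14958
theorem D15685 : act 2 n14958 = n15685 := rfl
theorem F62115 : act 1 n15685 = n15287 := d8_1 D15685 (iv D15287) F57306 (iv F55888) (iv F59192)
theorem F62116 : act 7 n15685 = n15685 := d19_2 F59193 D15685 (iv D15685)
theorem F62117 : act 8 n15685 = n15302 := d20_2 (iv F59194) D15685 F60436
def n15686 : Q := act 4 n14959
theorem D15686 : act 4 n14959 = n15686 := rfl
theorem F62118 : act 2 n15686 = n14960 := d16_1 D15686 (iv D14960) D14959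
theorem F62119 : act 7 n15686 = n14965 := d28_2 (iv F59195) D15686 (iv D14965)
def n15687 : Q := act 4 n14962
theorem D15687 : act 4 n14962 = n15687 := rfl
theorem F62120 : act 0 n15687 = n15267 := d3_1 D15687 (iv D15267) (iv F59203)
theorem F62121 : act 1 n15687 = n15254 := d10_1 D15687 (iv F61712) F61710
theorem F62122 : act 2 n15687 = n14963 := d16_1 D15687 (iv D14963) D14962
theorem F62123 : act 5 n15687 = n15255 := d26_2 F61718 D15687 (iv F60879) F60880 (iv F61717)
theorem F62124 : act 6 n15687 = n14965 := d27_2 (iv F59204) D15687 (iv D14965)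
theorem F62125 : act 8 n15687 = n15687 := d29_2 F59205 D15687 (iv D15687)
def n15688 : Q := act 3 n14965
theorem D15688 : act 3 n14965 = n15688 := rfl
theorem F62126 : act 2 n15688 = n15688 := d15_1 D15688 (iv D15688) F59216 F55916 (iv F59216)
theorem F62127 : act 8 n15688 = n15688 := d25_2 F59217 D15688 (iv D15688)
def n15689 : Q := act 7 n14968
theorem D15689 : act 7 n14968 = n15689 := rfl
theorem F62128 : act 1 n15689 = n14970 := d13_1 D15689 (iv D14970) (iv F59226)
theorem F62129 : act 2 n15689 = n14998 := d19_1 D15689 (iv D14998) (iv F59227)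
theorem F62130 : act 5 n15689 = n15001 := d31_1 D15689 (iv D15001) (iv F59229)
theorem F62131 : act 8 n15689 = n15440 := d35_2 D14968 D15689 (iv D15440) (iv D14691) (iv F55963)
def n15690 : Q := act 7 n14969
theorem D15690 : act 7 n14969 = n15690 := rfl
theorem F62132 : act 0 n15690 = n15486 := d6_1 D15690 (iv D15486) (iv F59230)
theorem F62133 : act 2 n15690 = n14971 := d19_1 D15690 (iv D14971) (iv F59231)
theorem F62134 : act 4 n15690 = n14970 := d28_1 D15690 (iv D14970) (iv F59233)
theorem F62135 : act 6 n15690 = n15389 := d33_1 D15690 (iv D15389) (iv F59234)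
theorem F62136 : act 8 n15690 = n15445 := d35_2 D14969 D15690 (iv D15445) (iv D14694) (iv F55968)
def n15691 : Q := act 3 n14970
theorem D15691 : act 3 n14970 = n15691 := rfl
theorem F62137 : act 2 n15691 = n15015 := d15_1 D15691 (iv D15015) F56136 (iv F55978) (iv F59235)
theorem F62138 : act 5 n15691 = n15274 := d22_2 (iv F59236) D15691 (iv D15274)
theorem F62139 : act 7 n15691 = n14973 := d24_2 D14970 D15691 (iv D14973) (iv D14160) (iv F55970)
theorem F62140 : act 8 n15691 = n15446 := d25_2 (iv F59237) D15691 (iv D15446)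
def n15692 : Q := act 3 n14971
theorem D15692 : act 3 n14971 = n15692 := rfl
theorem F62141 : act 0 n15692 = n15525 := d2_1 D15692 (iv D15525) (iv F59238)
theorem F62142 : act 1 n15692 = n15119 := d9_1 D15692 (iv D15119) (iv F59239)
theorem F62143 : act 4 n15692 = n15018 := d21_2 (iv F59240) D15692 (iv D15018) F56143 (iv F55978)
theorem F62144 : act 6 n15692 = n15402 := d23_2 (iv F59241) D15692 (iv D15402)
theorem F62145 : act 7 n15692 = n15193 := d24_2 D14971 D15692 (iv D15193) (iv D14404) (iv F55974)
theorem F62146 : act 8 n15692 = n15449 := d25_2 (iv F59242) D15692 (iv D15449)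
def n15693 : Q := act 3 n14972
theorem D15693 : act 3 n14972 = n15693 := rfl
theorem F62147 : act 1 n15693 = n14973 := d9_1 D15693 (iv D14973) (iv F59243)
theorem F62148 : act 5 n15693 = n15021 := d22_2 (iv F59245) D15693 (iv D15021)
theorem F62149 : act 8 n15693 = n14980 := d25_2 (iv F59246) D15693 (iv D14980)
def n15694 : Q := act 4 n14973
theorem D15694 : act 4 n14973 = n15694 := rfl
theorem F62150 : act 2 n15694 = n15040 := d16_1 D15694 (iv D15040) (iv F59247)
theorem F62151 : act 8 n15694 = n14988 := d29_2 (iv F59249) D15694 (iv D14988)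
def n15695 : Q := act 4 n14974
theorem D15695 : act 4 n14974 = n15695 := rfl
theorem F62152 : act 2 n15695 = n15051 := d16_1 D15695 (iv D15051) (iv F59250)
theorem F62153 : act 6 n15695 = n14988 := d27_2 (iv F59251) D15695 (iv D14988)
theorem F62154 : act 7 n15695 = n15490 := d28_2 (iv F59252) D15695 (iv D15490)
def n15696 : Q := act 8 n14975
theorem D15696 : act 8 n14975 = n15696 := rfl
theorem F62155 : act 1 n15696 = n14983 := d14_1 D15696 (iv D14983) (iv F59253)
theorem F62156 : act 2 n15696 = n15696 := d20_1 D15696 (iv D15696) F59254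
theorem F62157 : act 3 n15696 = n14978 := d25_1 D15696 (iv D14978) (iv F59255)
theorem F62158 : act 5 n15696 = n14977 := d32_1 D15696 (iv D14977) D14975
def n15697 : Q := act 8 n14976
theorem D15697 : act 8 n14976 = n15697 := rfl
theorem F62159 : act 0 n15697 = n15696 := d7_1 D15697 (iv D15696) (iv F59257)
theorem F62160 : act 1 n15697 = n14984 := d14_1 D15697 (iv D14984) (iv F59258)
theorem F62161 : act 2 n15697 = n15697 := d20_1 D15697 (iv D15697) F59259
theorem F62162 : act 3 n15697 = n15349 := d25_1 D15697 (iv D15349) (iv F59260)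
theorem F62163 : act 4 n15697 = n15504 := d29_1 D15697 (iv D15504) (iv F59261)
theorem F62164 : act 5 n15697 = n15623 := d32_1 D15697 (iv D15623) (iv F59262)
theorem F62165 : act 6 n15697 = n15340 := d34_1 D15697 (iv D15340) (iv F59263)
def n15698 : Q := act 7 n14977
theorem D15698 : act 7 n14977 = n15698 := rfl
theorem F62166 : act 1 n15698 = n14985 := d13_1 D15698 (iv D14985) (iv F59264)
theorem F62167 : act 2 n15698 = n15698 := d19_1 D15698 (iv D15698) F59265
theorem F62168 : act 4 n15698 = n15505 := d28_1 D15698 (iv D15505) (iv F59267)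
def n15699 : Q := act 7 n14978
theorem D15699 : act 7 n14978 = n15699 := rfl
theorem F62169 : act 1 n15699 = n14986 := d13_1 D15699 (iv D14986) (iv F59268)
theorem F62170 : act 2 n15699 = n14995 := d19_1 D15699 (iv D14995) (iv F59269)
theorem F62171 : act 4 n15699 = n15049 := d28_1 D15699 (iv D15049) (iv F59270)
theorem F62172 : act 5 n15699 = n14979 := d31_1 D15699 (iv D14979) (iv F59271)
def n15700 : Q := act 3 n14979
theorem D15700 : act 3 n14979 = n15700 := rfl
theorem F62173 : act 1 n15700 = n14987 := d9_1 D15700 (iv D14987) (iv F59272)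
def n15701 : Q := act 4 n14980
theorem D15701 : act 4 n14980 = n15701 := rfl
theorem F62174 : act 1 n15701 = n14988 := d10_1 D15701 (iv D14988) (iv F59275)
theorem F62175 : act 7 n15701 = n15509 := d28_2 (iv F59277) D15701 (iv D15509)
def n15702 : Q := act 8 n14981
theorem D15702 : act 8 n14981 = n15702 := rfl
theorem F62176 : act 2 n15702 = n14990 := d20_1 D15702 (iv D14990) (iv F59278)
theorem F62177 : act 3 n15702 = n15288 := d25_1 D15702 (iv D15288) (iv F59279)
theorem F62178 : act 4 n15702 = n14983 := d29_1 D15702 (iv D14983) D14981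
theorem F62179 : act 5 n15702 = n15510 := d32_1 D15702 (iv D15510) (iv F59280)
def n15703 : Q := act 8 n14982
theorem D15703 : act 8 n14982 = n15703 := rfl
theorem F62180 : act 0 n15703 = n15432 := d7_1 D15703 (iv D15432) (iv F59281)
theorem F62181 : act 1 n15703 = n15623 := d14_1 D15703 (iv D15623) (iv F59282)
theorem F62182 : act 2 n15703 = n14991 := d20_1 D15703 (iv D14991) (iv F59283)
theorem F62183 : act 3 n15703 = n15347 := d25_1 D15703 (iv D15347) (iv F59284)
theorem F62184 : act 5 n15703 = n14984 := d32_1 D15703 (iv D14984) (iv F59285)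
theorem F62185 : act 6 n15703 = n15590 := d34_1 D15703 (iv D15590) (iv F59286)
def n15704 : Q := act 7 n14983
theorem D15704 : act 7 n14983 = n15704 := rfl
theorem F62186 : act 2 n15704 = n14992 := d19_1 D15704 (iv D14992) (iv F59287)
theorem F62187 : act 5 n15704 = n14985 := d31_1 D15704 (iv D14985) (iv F59289)
def n15705 : Q := act 7 n14984
theorem D15705 : act 7 n14984 = n15705 := rfl
theorem F62188 : act 0 n15705 = n15435 := d6_1 D15705 (iv D15435) (iv F59290)
theorem F62189 : act 2 n15705 = n14993 := d19_1 D15705 (iv D14993) (iv F59291)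
theorem F62190 : act 4 n15705 = n15514 := d28_1 D15705 (iv D15514) (iv F59293)
theorem F62191 : act 6 n15705 = n15344 := d33_1 D15705 (iv D15344) (iv F59294)
theorem F62192 : act 8 n15705 = n14985 := d35_2 D14984 D15705 (iv D14985) (iv D14168) D14167
def n15706 : Q := act 3 n14985
theorem D15706 : act 3 n14985 = n15706 := rfl
theorem F62193 : act 7 n15706 = n14987 := d24_2 D14985 D15706 (iv D14987) (iv D14170) (iv F56009)
def n15707 : Q := act 3 n14986
theorem D15707 : act 3 n14986 = n15707 := rfl
theorem F62194 : act 5 n15707 = n14987 := d22_2 (iv F59299) D15707 (iv D14987)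
def n15708 : Q := act 4 n14987
theorem D15708 : act 4 n14987 = n15708 := rfl
theorem F62195 : act 3 n15708 = n14988 := d21_1 D15708 (iv D14988) (iv D14171) (iv F56015) D14987
def n15709 : Q := act 5 n14988
theorem D15709 : act 5 n14988 = n15709 := rfl
theorem F62196 : act 2 n15709 = n15079 := d17_1 D15709 (iv D15079) (iv F59300)
theorem F62197 : act 4 n15709 = n15298 := d26_1 D15709 (iv D15298) (iv D14526) (iv F56017) D14988
theorem F62198 : act 7 n15709 = n15520 := d31_2 (iv F59301) D15709 (iv D15520)
def n15710 : Q := act 7 n14990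
theorem D15710 : act 7 n14990 = n15710 := rfl
theorem F62199 : act 1 n15710 = n15710 := d13_1 D15710 (iv D15710) F59308
theorem F62200 : act 3 n15710 = n15666 := d24_1 D15710 (iv D15666) F59088 (iv F56065) (iv F59309)
theorem F62201 : act 4 n15710 = n14992 := d28_1 D15710 (iv D14992) (iv F59310)
theorem F62202 : act 5 n15710 = n15531 := d31_1 D15710 (iv D15531) (iv F59311)
def n15711 : Q := act 7 n14991
theorem D15711 : act 7 n14991 = n15711 := rfl
theorem F62203 : act 0 n15711 = n15433 := d6_1 D15711 (iv D15433) (iv F59312)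
theorem F62204 : act 1 n15711 = n15711 := d13_1 D15711 (iv D15711) F59313
theorem F62205 : act 3 n15711 = n15570 := d24_1 D15711 (iv D15570) F58688 (iv F56920) (iv F59314)
theorem F62206 : act 5 n15711 = n14993 := d31_1 D15711 (iv D14993) (iv F59315)
theorem F62207 : act 6 n15711 = n15591 := d33_1 D15711 (iv D15591) (iv F59316)
theorem F62208 : act 8 n15711 = n14992 := d35_2 D14991 D15711 (iv D14992) (iv D14175) D14174
def n15712 : Q := act 3 n14995
theorem D15712 : act 3 n14995 = n15712 := rfl
theorem F62209 : act 1 n15712 = n14997 := d9_1 D15712 (iv D14997) (iv F59331)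
theorem F62210 : act 5 n15712 = n14996 := d22_2 (iv F59333) D15712 (iv D14996)
theorem F62211 : act 7 n15712 = n15712 := d24_2 D14995 D15712 (iv D15712) (iv D14995) F56090
def n15713 : Q := act 2 n14996
theorem D15713 : act 2 n14996 = n15713 := rfl
theorem F62212 : act 7 n15713 = n15713 := d19_2 F59335 D15713 (iv D15713)
def n15714 : Q := act 7 n14999
theorem D15714 : act 7 n14999 = n15714 := rfl
theorem F62213 : act 0 n15714 = n15006 := d6_1 D15714 F59373 (iv F59342)
theorem F62214 : act 1 n15714 = n15269 := d13_1 D15714 (iv D15269) (iv F59343)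
theorem F62215 : act 2 n15714 = n15121 := d19_1 D15714 F59757 (iv F59344)
theorem F62216 : act 4 n15714 = n15020 := d28_1 D15714 (iv D15020) (iv F59345)
theorem F62217 : act 5 n15714 = n15003 := d31_1 D15714 F59361 (iv F59346)
theorem F62218 : act 6 n15714 = n15010 := d33_1 D15714 (iv D15010) (iv F59347)
def n15715 : Q := act 7 n15000
theorem D15715 : act 7 n15000 = n15715 := rfl
theorem F62219 : act 1 n15715 = n15273 := d13_1 D15715 (iv D15273) (iv F59348)
theorem F62220 : act 2 n15715 = n15002 := d19_1 D15715 (iv D15002) (iv F59349)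
theorem F62221 : act 4 n15715 = n15001 := d28_1 D15715 (iv D15001) (iv F59350)
theorem F62222 : act 6 n15715 = n15014 := d33_1 D15715 (iv D15014) (iv F59351)
def n15716 : Q := act 3 n15001
theorem D15716 : act 3 n15001 = n15716 := rfl
theorem F62223 : act 1 n15716 = n15274 := d9_1 D15716 (iv D15274) (iv F59352)
theorem F62224 : act 6 n15716 = n15015 := d23_2 (iv F59354) D15716 (iv D15015)
theorem F62225 : act 7 n15716 = n15021 := d24_2 D15001 D15716 (iv D15021) (iv D14208) (iv F56111)
def n15717 : Q := act 3 n15002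
theorem D15717 : act 3 n15002 = n15717 := rfl
theorem F62226 : act 0 n15717 = n15537 := d2_1 D15717 (iv F61750) F61748
theorem F62227 : act 1 n15717 = n15120 := d9_1 D15717 (iv D15120) (iv F59355)
theorem F62228 : act 4 n15717 = n15402 := d21_2 (iv F59356) D15717 (iv D15402) (iv F58770) F58769
theorem F62229 : act 5 n15717 = n15309 := d22_2 F59660 D15717 F60454
theorem F62230 : act 6 n15717 = n15018 := d23_2 (iv F59357) D15717 (iv D15018)
theorem F62231 : act 7 n15717 = n15194 := d24_2 D15002 D15717 (iv D15194) (iv D14406) (iv F56114)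
def n15718 : Q := act 3 n15003
theorem D15718 : act 3 n15003 = n15718 := rfl
theorem F62232 : act 0 n15718 = n15005 := d2_1 D15718 (iv D15005) (iv F59358)
theorem F62233 : act 2 n15718 = n15718 := d15_1 D15718 (iv D15718) F59359 F56496 (iv F59359)
theorem F62234 : act 4 n15718 = n15022 := d21_2 D15003 D15718 (iv D15022) (iv D14209) (iv F56120)
theorem F62235 : act 6 n15718 = n15218 := d23_2 (iv F59360) D15718 (iv D15218)
def n15719 : Q := act 8 n15003
theorem D15719 : act 8 n15003 = n15719 := rfl
theorem F62236 : act 0 n15719 = n15007 := d7_1 D15719 (iv D15007) (iv F59358)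
theorem F62237 : act 2 n15719 = n15122 := d20_1 D15719 (iv D15122) (iv F59359)
theorem F62238 : act 4 n15719 = n15004 := d29_1 D15719 (iv D15004) D15003
theorem F62239 : act 6 n15719 = n15220 := d34_1 D15719 (iv D15220) (iv F59360)
def n15720 : Q := act 7 n15004
theorem D15720 : act 7 n15004 = n15720 := rfl
theorem F62240 : act 0 n15720 = n15008 := d6_1 D15720 (iv D15008) (iv F59362)
theorem F62241 : act 2 n15720 = n15123 := d19_1 D15720 (iv D15123) (iv F59363)
theorem F62242 : act 6 n15720 = n15221 := d33_1 D15720 (iv D15221) (iv F59365)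
theorem F62243 : act 8 n15720 = n15594 := d35_2 D15004 D15720 (iv D15594) (iv D14864) (iv F56122)
def n15721 : Q := act 5 n15005
theorem D15721 : act 5 n15005 = n15721 := rfl
theorem F62244 : act 1 n15721 = n15009 := d11_1 D15721 (iv D15009) (iv F59366)
theorem F62245 : act 2 n15721 = n15721 := d17_1 D15721 (iv D15721) F59367
theorem F62246 : act 3 n15721 = n15006 := d22_1 D15721 (iv D15006) D15005
theorem F62247 : act 6 n15721 = n15598 := d30_2 (iv F59369) D15721 (iv D15598) F60350 (iv D15268)
theorem F62248 : act 7 n15718 = n15721 := d37_0 (iv D15721) F59368 (iv D14211) F52498 F48708 F44602 F41065 D10420 (iv F43378) F43377 F43376 (iv F42962) (iv F46645) (iv F50637) (iv D12848) (iv D11846) (iv D10871) F39530 (iv F42758) F42757 (iv D10058) F31486 F24173 (iv D4944) F14267 F14266 F10640 D2659 F10680 F10679 D2661 F10684 F8149 (iv F10869) (iv F13642) F13641 D3449 F13648 (iv F17948) (iv F24189) (iv F32312) F32315 D9144 (iv F41607) (iv F45224) (iv F49287) F49286 F45679 D12608 F49681 F45685 D11608 F45688 F49262 F49257 F45439 F45438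 D12553 D13523 (iv F56131) (iv F59366) (iv F62232)
def n15722 : Q := act 7 n15005
theorem D15722 : act 7 n15005 = n15722 := rfl
theorem F62249 : act 0 n15722 = n15721 := d6_1 D15722 (iv F62248) F62232
theorem F62250 : act 1 n15722 = n15010 := d13_1 D15722 (iv D15010) (iv F59366)
theorem F62251 : act 2 n15722 = n15722 := d19_1 D15722 (iv D15722) F59367
theorem F62252 : act 3 n15722 = n15714 := d24_1 D15722 (iv D15714) (iv D14999) (iv F56126) D15005
theorem F62253 : act 4 n15722 = n15026 := d28_1 D15722 (iv D15026) (iv F59368)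
theorem F62254 : act 5 n15722 = n15718 := d31_1 D15722 F62248 (iv D15721)
theorem F62255 : act 6 n15722 = n15269 := d33_1 D15722 (iv D15269) (iv F59369)
def n15723 : Q := act 8 n15005
theorem D15723 : act 8 n15005 = n15723 := rfl
theorem F62256 : act 1 n15723 = n15011 := d14_1 D15723 (iv D15011) (iv F59366)
theorem F62257 : act 2 n15723 = n15723 := d20_1 D15723 (iv D15723) F59367
theorem F62258 : act 3 n15723 = n15007 := d25_1 D15723 (iv D15007) D15005
theorem F62259 : act 4 n15723 = n15027 := d29_1 D15723 (iv D15027) (iv F59368)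
theorem F62260 : act 6 n15723 = n15270 := d34_1 D15723 (iv D15270) (iv F59369)
def n15724 : Q := act 8 n15006
theorem D15724 : act 8 n15006 = n15724 := rfl
theorem F62261 : act 1 n15724 = n15013 := d14_1 D15724 (iv D15013) (iv F59370)
theorem F62262 : act 2 n15724 = n15125 := d20_1 D15724 (iv D15125) (iv F59371)
theorem F62263 : act 4 n15724 = n15209 := d29_1 D15724 F60144 (iv F59372)
theorem F62264 : act 5 n15724 = n15007 := d32_1 D15724 (iv D15007) D15006
def n15725 : Q := act 7 n15007
theorem D15725 : act 7 n15007 = n15725 := rfl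
theorem F62265 : act 1 n15725 = n15014 := d13_1 D15725 (iv D15014) (iv F59374)
theorem F62266 : act 2 n15725 = n15126 := d19_1 D15725 (iv D15126) (iv F59375)
theorem F62267 : act 4 n15725 = n15008 := d28_1 D15725 (iv D15008) (iv F59376)
theorem F62268 : act 6 n15725 = n15273 := d33_1 D15725 (iv D15273) (iv F59377)
theorem F62269 : act 8 n15725 = n15715 := d35_2 D15007 D15725 (iv D15715) (iv D15000) (iv F56126)
def n15726 : Q := act 3 n15008
theorem D15726 : act 3 n15008 = n15726 := rfl
theorem F62270 : act 1 n15726 = n15015 := d9_1 D15726 (iv D15015) (iv F59378)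
theorem F62271 : act 6 n15726 = n15274 := d23_2 (iv F59380) D15726 (iv D15274)
theorem F62272 : act 7 n15726 = n15030 := d24_2 D15008 D15726 (iv D15030) (iv D14214) (iv F56129)
theorem F62273 : act 8 n15726 = n15716 := d25_2 (iv F59381) D15726 (iv D15716)
def n15727 : Q := act 4 n15009
theorem D15727 : act 4 n15009 = n15727 := rfl
theorem F62274 : act 0 n15727 = n15443 := d3_1 D15727 F61098 F59390
theorem F62275 : act 2 n15727 = n15195 := d16_1 D15727 (iv D15195) (iv F59382)
theorem F62276 : act 3 n15727 = n15636 := d21_1 D15727 F61918 F61089 F58082 (iv F59383)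
theorem F62277 : act 5 n15727 = n15031 := d26_2 D15009 D15727 (iv D15031) (iv D14215) (iv F56132)
theorem F62278 : act 6 n15727 = n15342 := d27_2 (iv F59384) D15727 F60578
theorem F62279 : act 7 n15484 = n15727 := d33_0 F62278 F60579 D15484
def n15728 : Q := act 7 n15009
theorem D15728 : act 7 n15009 = n15728 := rfl
theorem F62280 : act 0 n15728 = n15271 := d6_1 D15728 F60362 F59390
theorem F62281 : act 1 n15728 = n15718 := d13_1 D15728 F62248 F62244
theorem F62282 : act 2 n15728 = n15196 := d19_1 D15728 (iv D15196) (iv F59382)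
theorem F62283 : act 3 n15728 = n15596 := d24_1 D15728 F61758 F60349 F57275 (iv F59383)
theorem F62284 : act 4 n15728 = n15484 := d28_1 D15728 F62279 (iv D15727)
theorem F62285 : act 5 n15728 = n15010 := d31_1 D15728 (iv D15010) D15009
theorem F62286 : act 6 n15728 = n15219 := d33_1 D15728 F60193 (iv F59384)
def n15729 : Q := act 8 n15009
theorem D15729 : act 8 n15009 = n15729 := rfl
theorem F62287 : act 2 n15729 = n15197 := d20_1 D15729 (iv D15197) (iv F59382)
theorem F62288 : act 3 n15729 = n15013 := d25_1 D15729 (iv D15013) (iv F59383)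
theorem F62289 : act 5 n15729 = n15011 := d32_1 D15729 (iv D15011) D15009
theorem F62290 : act 6 n15729 = n15603 := d34_1 D15729 (iv D15603) (iv F59384)
def n15730 : Q := act 8 n15010
theorem D15730 : act 8 n15010 = n15730 := rfl
theorem F62291 : act 2 n15730 = n15198 := d20_1 D15730 (iv D15198) (iv F59385)
theorem F62292 : act 4 n15730 = n15035 := d29_1 D15730 (iv D15035) (iv F59386)
def n15731 : Q := act 7 n15011
theorem D15731 : act 7 n15011 = n15731 := rfl
theorem F62293 : act 2 n15731 = n15199 := d19_1 D15731 (iv D15199) (iv F59387)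
theorem F62294 : act 4 n15731 = n15036 := d28_1 D15731 (iv D15036) (iv F59389)
def n15732 : Q := act 8 n15012
theorem D15732 : act 8 n15012 = n15732 := rfl
theorem F62295 : act 0 n15732 = n15729 := d7_1 D15732 (iv D15729) (iv F59390)
theorem F62296 : act 2 n15732 = n15016 := d20_1 D15732 (iv D15016) (iv F59391)
theorem F62297 : act 3 n15732 = n15603 := d25_1 D15732 (iv D15603) (iv F59392)
theorem F62298 : act 5 n15732 = n15602 := d32_1 D15732 (iv D15602) (iv F59393)
theorem F62299 : act 6 n15732 = n15013 := d34_1 D15732 (iv D15013) D15012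
def n15733 : Q := act 7 n15013
theorem D15733 : act 7 n15013 = n15733 := rfl
theorem F62300 : act 2 n15733 = n15017 := d19_1 D15733 (iv D15017) (iv F59394)
theorem F62301 : act 5 n15733 = n15014 := d31_1 D15733 (iv D15014) (iv F59395)
def n15734 : Q := act 3 n15014
theorem D15734 : act 3 n15014 = n15734 := rfl
def n15735 : Q := act 4 n15015
theorem D15735 : act 4 n15015 = n15735 := rfl
theorem F62302 : act 7 n15735 = n15040 := d28_2 (iv F59398) D15735 (iv D15040)
def n15736 : Q := act 7 n15016
theorem D15736 : act 7 n15016 = n15736 := rfl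
theorem F62303 : act 1 n15736 = n15130 := d13_1 D15736 (iv D15130) (iv F59399)
theorem F62304 : act 6 n15736 = n15017 := d33_1 D15736 (iv D15017) (iv F59401)
def n15737 : Q := act 3 n15017
theorem D15737 : act 3 n15017 = n15737 := rfl
theorem F62305 : act 1 n15737 = n15131 := d9_1 D15737 (iv D15131) (iv F59402)
theorem F62306 : act 5 n15737 = n15018 := d22_2 (iv F59403) D15737 (iv D15018)
theorem F62307 : act 7 n15737 = n15202 := d24_2 D15017 D15737 (iv D15202) (iv D14413) (iv F56140)
def n15738 : Q := act 2 n15018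
theorem D15738 : act 2 n15018 = n15738 := rfl
theorem F62308 : act 7 n15738 = n15203 := d19_2 (iv F59405) D15738 (iv D15203)
def n15739 : Q := act 8 n15020
theorem D15739 : act 8 n15020 = n15739 := rfl
theorem F62309 : act 0 n15739 = n15209 := d7_1 D15739 F60144 (iv F59411)
theorem F62310 : act 1 n15739 = n15281 := d14_1 D15739 (iv D15281) (iv F59412)
theorem F62311 : act 2 n15739 = n15192 := d20_1 D15739 F60077 (iv F59413)
theorem F62312 : act 3 n15739 = n15046 := d25_1 D15739 (iv D15046) (iv F59414)
theorem F62313 : act 6 n15739 = n15035 := d34_1 D15739 (iv D15035) (iv F59415)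
def n15740 : Q := act 4 n15021
theorem D15740 : act 4 n15021 = n15740 := rfl
theorem F62314 : act 1 n15740 = n15285 := d10_1 D15740 (iv D15285) (iv F59416)
theorem F62315 : act 6 n15740 = n15040 := d27_2 (iv F59417) D15740 (iv D15040)
theorem F62316 : act 8 n15740 = n15051 := d29_2 (iv F59418) D15740 (iv D15051)
def n15741 : Q := act 7 n15022
theorem D15741 : act 7 n15022 = n15741 := rfl
theorem F62317 : act 0 n15741 = n15026 := d6_1 D15741 (iv D15026) (iv F59419)
theorem F62318 : act 1 n15741 = n15727 := d13_1 D15741 (iv F62279) F61282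
theorem F62319 : act 2 n15741 = n15741 := d19_1 D15741 (iv D15741) F59420
theorem F62320 : act 3 n15741 = n15054 := d24_1 D15741 (iv D15054) (iv D14233) (iv F56159) D15022
theorem F62321 : act 4 n15741 = n15721 := d28_1 D15741 (iv F62248) F62234
theorem F62322 : act 6 n15741 = n15225 := d33_1 D15741 (iv D15225) (iv F59421)
def n15742 : Q := act 8 n15022
theorem D15742 : act 8 n15022 = n15742 := rfl
theorem F62323 : act 0 n15742 = n15027 := d7_1 D15742 (iv D15027) (iv F59419)
theorem F62324 : act 2 n15742 = n15742 := d20_1 D15742 (iv D15742) F59420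
theorem F62325 : act 3 n15742 = n15023 := d25_1 D15742 (iv D15023) D15022
theorem F62326 : act 6 n15742 = n15226 := d34_1 D15742 (iv D15226) (iv F59421)
def n15743 : Q := act 7 n15023
theorem D15743 : act 7 n15023 = n15743 := rfl
theorem F62327 : act 0 n15743 = n15029 := d6_1 D15743 (iv D15029) (iv F59422)
theorem F62328 : act 2 n15743 = n15103 := d19_1 D15743 (iv D15103) (iv F59423)
theorem F62329 : act 4 n15743 = n15024 := d28_1 D15743 (iv D15024) (iv F59424)
theorem F62330 : act 6 n15743 = n15227 := d33_1 D15743 (iv D15227) (iv F59425)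
theorem F62331 : act 8 n15743 = n15057 := d35_2 D15023 D15743 (iv D15057) (iv D14235) (iv F56159)
def n15744 : Q := act 3 n15024
theorem D15744 : act 3 n15024 = n15744 := rfl
theorem F62332 : act 0 n15744 = n15030 := d2_1 D15744 (iv D15030) (iv F59426)
theorem F62333 : act 6 n15744 = n15228 := d23_2 (iv F59428) D15744 (iv D15228)
theorem F62334 : act 8 n15744 = n15058 := d25_2 (iv F59429) D15744 (iv D15058)
def n15745 : Q := act 4 n15025
theorem D15745 : act 4 n15025 = n15745 := rfl
theorem F62335 : act 1 n15745 = n15031 := d10_1 D15745 (iv D15031) (iv F59430)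
theorem F62336 : act 2 n15745 = n15745 := d16_1 D15745 (iv D15745) F59431
theorem F62337 : act 5 n15745 = n15741 := d26_2 D15025 D15745 F62321 (iv D15721) F59368
theorem F62338 : act 6 n15745 = n15502 := d27_2 F61328 D15745 F61365
theorem F62339 : act 7 n15501 = n15745 := d33_0 F62338 (iv D15502) D15501
def n15746 : Q := act 7 n15025
theorem D15746 : act 7 n15025 = n15746 := rfl
theorem F62340 : act 0 n15746 = n15745 := d6_1 D15746 (iv F62339) F61357
theorem F62341 : act 1 n15746 = n15033 := d13_1 D15746 (iv D15033) (iv F59430)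
theorem F62342 : act 2 n15746 = n15746 := d19_1 D15746 (iv D15746) F59431
theorem F62343 : act 3 n15746 = n15061 := d24_1 D15746 (iv D15061) F56240 (iv F56168) (iv F59432)
theorem F62344 : act 4 n15746 = n15501 := d28_1 D15746 F62339 (iv D15745)
theorem F62345 : act 5 n15746 = n15026 := d31_1 D15746 (iv D15026) D15025
theorem F62346 : act 6 n15746 = n15500 := d33_1 D15746 (iv F61356) F61328
def n15747 : Q := act 8 n15025
theorem D15747 : act 8 n15025 = n15747 := rfl
theorem F62347 : act 1 n15747 = n15034 := d14_1 D15747 (iv D15034) (iv F59430)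
theorem F62348 : act 2 n15747 = n15747 := d20_1 D15747 (iv D15747) F59431
theorem F62349 : act 3 n15747 = n15028 := d25_1 D15747 (iv D15028) (iv F59432)
theorem F62350 : act 5 n15747 = n15027 := d32_1 D15747 (iv D15027) D15025
def n15748 : Q := act 8 n15026
theorem D15748 : act 8 n15026 = n15748 := rfl
theorem F62351 : act 1 n15748 = n15035 := d14_1 D15748 (iv D15035) (iv F59433)
theorem F62352 : act 2 n15748 = n15748 := d20_1 D15748 (iv D15748) F59434
theorem F62353 : act 3 n15748 = n15063 := d25_1 D15748 (iv D15063) (iv F59435)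
theorem F62354 : act 6 n15748 = n15281 := d34_1 D15748 (iv D15281) (iv F59436)
def n15749 : Q := act 7 n15027
theorem D15749 : act 7 n15027 = n15749 := rfl
theorem F62355 : act 1 n15749 = n15036 := d13_1 D15749 (iv D15036) (iv F59437)
theorem F62356 : act 2 n15749 = n15749 := d19_1 D15749 (iv D15749) F59438
theorem F62357 : act 6 n15749 = n15282 := d33_1 D15749 (iv D15282) (iv F59440)
def n15750 : Q := act 7 n15028
theorem D15750 : act 7 n15028 = n15750 := rfl
theorem F62358 : act 1 n15750 = n15038 := d13_1 D15750 (iv D15038) (iv F59441)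
theorem F62359 : act 2 n15750 = n15104 := d19_1 D15750 (iv D15104) (iv F59442)
theorem F62360 : act 5 n15750 = n15029 := d31_1 D15750 (iv D15029) (iv F59443)
theorem F62361 : act 8 n15750 = n15066 := d35_2 D15028 D15750 (iv D15066) (iv D14241) (iv F56168)
def n15751 : Q := act 3 n15029
theorem D15751 : act 3 n15029 = n15751 := rfl
theorem F62362 : act 1 n15751 = n15039 := d9_1 D15751 (iv D15039) (iv F59444)
theorem F62363 : act 6 n15751 = n15284 := d23_2 (iv F59447) D15751 (iv D15284)
theorem F62364 : act 8 n15751 = n15067 := d25_2 (iv F59448) D15751 (iv D15067)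
def n15752 : Q := act 4 n15030
theorem D15752 : act 4 n15030 = n15752 := rfl
theorem F62365 : act 1 n15752 = n15040 := d10_1 D15752 (iv D15040) (iv F59449)
theorem F62366 : act 6 n15752 = n15285 := d27_2 (iv F59450) D15752 (iv D15285)
theorem F62367 : act 8 n15752 = n15068 := d29_2 (iv F59451) D15752 (iv D15068)
def n15753 : Q := act 8 n15031
theorem D15753 : act 8 n15031 = n15753 := rfl
theorem F62368 : act 2 n15753 = n15204 := d20_1 D15753 (iv D15204) (iv F59452)
theorem F62369 : act 4 n15753 = n15034 := d29_1 D15753 (iv D15034) D15031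
theorem F62370 : act 6 n15753 = n15512 := d34_1 D15753 (iv D15512) F59453
def n15754 : Q := act 8 n15032
theorem D15754 : act 8 n15032 = n15754 := rfl
theorem F62371 : act 2 n15754 = n15205 := d20_1 D15754 (iv D15205) (iv F59455)
theorem F62372 : act 3 n15754 = n15037 := d25_1 D15754 (iv D15037) (iv F59456)
theorem F62373 : act 4 n15754 = n15512 := d29_1 D15754 (iv D15512) (iv F59457)
theorem F62374 : act 6 n15754 = n15034 := d34_1 D15754 (iv D15034) D15032
def n15755 : Q := act 8 n15033
theorem D15755 : act 8 n15033 = n15755 := rfl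
theorem F62375 : act 2 n15755 = n15206 := d20_1 D15755 (iv D15206) (iv F59459)
theorem F62376 : act 3 n15755 = n15071 := d25_1 D15755 (iv D15071) (iv F59460)
theorem F62377 : act 4 n15755 = n15511 := d29_1 D15755 (iv D15511) (iv F59461)
theorem F62378 : act 5 n15755 = n15035 := d32_1 D15755 (iv D15035) (iv F59462)
theorem F62379 : act 6 n15755 = n15510 := d34_1 D15755 (iv D15510) (iv F59463)
def n15756 : Q := act 7 n15034
theorem D15756 : act 7 n15034 = n15756 := rfl
theorem F62380 : act 2 n15756 = n15207 := d19_1 D15756 (iv D15207) (iv F59464)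
theorem F62381 : act 5 n15756 = n15036 := d31_1 D15756 (iv D15036) (iv F59466)
def n15757 : Q := act 7 n15035
theorem D15757 : act 7 n15035 = n15757 := rfl
theorem F62382 : act 2 n15757 = n15208 := d19_1 D15757 (iv D15208) (iv F59467)
theorem F62383 : act 8 n15757 = n15036 := d35_2 D15035 D15757 (iv D15036) (iv D14217) D14216
def n15758 : Q := act 3 n15036
theorem D15758 : act 3 n15036 = n15758 := rfl
theorem F62384 : act 7 n15758 = n15039 := d24_2 D15036 D15758 (iv D15039) (iv D14220) (iv F56182)
def n15759 : Q := act 7 n15037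
theorem D15759 : act 7 n15037 = n15759 := rfl
theorem F62385 : act 2 n15759 = n15041 := d19_1 D15759 (iv D15041) (iv F59470)
theorem F62386 : act 6 n15759 = n15038 := d33_1 D15759 (iv D15038) (iv F59471)
theorem F62387 : act 8 n15759 = n15075 := d35_2 D15037 D15759 (iv D15075) (iv D14250) (iv F56184)
def n15760 : Q := act 3 n15038
theorem D15760 : act 3 n15038 = n15760 := rfl
theorem F62388 : act 5 n15760 = n15039 := d22_2 (iv F59473) D15760 (iv D15039)
theorem F62389 : act 8 n15760 = n15076 := d25_2 (iv F59474) D15760 (iv D15076)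
def n15761 : Q := act 4 n15039
theorem D15761 : act 4 n15039 = n15761 := rfl
theorem F62390 : act 3 n15761 = n15040 := d21_1 D15761 (iv D15040) (iv D14221) (iv F56188) D15039
theorem F62391 : act 8 n15761 = n15078 := d29_2 (iv F59475) D15761 (iv D15078)
def n15762 : Q := act 5 n15040
theorem D15762 : act 5 n15040 = n15762 := rfl
theorem F62392 : act 8 n15762 = n15079 := d32_2 (iv F59476) D15762 (iv D15079)
def n15763 : Q := act 8 n15042
theorem D15763 : act 8 n15042 = n15763 := rfl
theorem F62393 : act 1 n15763 = n15288 := d14_1 D15763 (iv D15288) (iv F59480)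
theorem F62394 : act 2 n15763 = n15082 := d20_1 D15763 (iv D15082) (iv F59481)
theorem F62395 : act 4 n15763 = n15045 := d29_1 D15763 (iv D15045) D15042
theorem F62396 : act 6 n15763 = n15290 := d34_1 D15763 (iv D15290) F59482
def n15764 : Q := act 8 n15043
theorem D15764 : act 8 n15043 = n15764 := rfl
theorem F62397 : act 1 n15764 = n15289 := d14_1 D15764 (iv D15289) (iv F59484)
theorem F62398 : act 2 n15764 = n15083 := d20_1 D15764 (iv D15083) (iv F59485)
theorem F62399 : act 3 n15764 = n15048 := d25_1 D15764 (iv D15048) (iv F59486)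
theorem F62400 : act 4 n15764 = n15290 := d29_1 D15764 (iv D15290) (iv F59487)
theorem F62401 : act 5 n15764 = n15070 := d32_1 D15764 (iv D15070) (iv F59488)
theorem F62402 : act 6 n15764 = n15045 := d34_1 D15764 (iv D15045) D15043
def n15765 : Q := act 8 n15044
theorem D15765 : act 8 n15044 = n15765 := rfl
theorem F62403 : act 1 n15765 = n15290 := d14_1 D15765 (iv D15290) (iv F59490)
theorem F62404 : act 2 n15765 = n15084 := d20_1 D15765 (iv D15084) (iv F59491)
theorem F62405 : act 4 n15765 = n15289 := d29_1 D15765 (iv D15289) (iv F59492)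
theorem F62406 : act 5 n15765 = n15046 := d32_1 D15765 (iv D15046) (iv F59493)
theorem F62407 : act 6 n15765 = n15288 := d34_1 D15765 (iv D15288) (iv F59494)
def n15766 : Q := act 7 n15045
theorem D15766 : act 7 n15045 = n15766 := rfl
theorem F62408 : act 1 n15766 = n15291 := d13_1 D15766 (iv D15291) (iv F59495)
theorem F62409 : act 2 n15766 = n15085 := d19_1 D15766 (iv D15085) (iv F59496)
theorem F62410 : act 5 n15766 = n15047 := d31_1 D15766 (iv D15047) (iv F59498)
def n15767 : Q := act 7 n15046
theorem D15767 : act 7 n15046 = n15767 := rfl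
theorem F62411 : act 1 n15767 = n15292 := d13_1 D15767 (iv D15292) (iv F59499)
theorem F62412 : act 2 n15767 = n15086 := d19_1 D15767 (iv D15086) (iv F59500)
theorem F62413 : act 6 n15767 = n15073 := d33_1 D15767 (iv D15073) (iv F59501)
theorem F62414 : act 8 n15767 = n15047 := d35_2 D15046 D15767 (iv D15047) (iv D14226) D14225
def n15768 : Q := act 3 n15047
theorem D15768 : act 3 n15047 = n15768 := rfl
theorem F62415 : act 1 n15768 = n15293 := d9_1 D15768 (iv D15293) (iv F59502)
theorem F62416 : act 6 n15768 = n15074 := d23_2 (iv F59504) D15768 (iv D15074)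
theorem F62417 : act 7 n15768 = n15050 := d24_2 D15047 D15768 (iv D15050) (iv D14229) (iv F56205)
def n15769 : Q := act 7 n15048
theorem D15769 : act 7 n15048 = n15769 := rfl
theorem F62418 : act 1 n15769 = n15294 := d13_1 D15769 (iv D15294) (iv F59505)
theorem F62419 : act 2 n15769 = n15052 := d19_1 D15769 (iv D15052) (iv F59506)
theorem F62420 : act 5 n15769 = n15075 := d31_1 D15769 (iv D15075) (iv F59507)
theorem F62421 : act 6 n15769 = n15049 := d33_1 D15769 (iv D15049) (iv F59508)
def n15770 : Q := act 3 n15049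
theorem D15770 : act 3 n15049 = n15770 := rfl
theorem F62422 : act 1 n15770 = n15295 := d9_1 D15770 (iv D15295) (iv F59509)
theorem F62423 : act 5 n15770 = n15050 := d22_2 (iv F59511) D15770 (iv D15050)
def n15771 : Q := act 4 n15050
theorem D15771 : act 4 n15050 = n15771 := rfl
theorem F62424 : act 1 n15771 = n15297 := d10_1 D15771 (iv D15297) (iv F59512)
theorem F62425 : act 3 n15771 = n15051 := d21_1 D15771 (iv D15051) (iv D14230) (iv F56215) D15050
theorem F62426 : act 6 n15771 = n15078 := d27_2 (iv F59513) D15771 (iv D15078)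
def n15772 : Q := act 5 n15051
theorem D15772 : act 5 n15051 = n15772 := rfl
theorem F62427 : act 1 n15772 = n15298 := d11_1 D15772 (iv D15298) (iv F59514)
def n15773 : Q := act 4 n15053
theorem D15773 : act 4 n15053 = n15773 := rfl
theorem F62428 : act 0 n15773 = n15059 := d3_1 D15773 (iv D15059) (iv F59519)
theorem F62429 : act 1 n15773 = n15465 := d10_1 D15773 F61200 F61193
theorem F62430 : act 2 n15773 = n15133 := d16_1 D15773 (iv D15133) (iv F59520)
theorem F62431 : act 3 n15773 = n15502 := d21_1 D15773 F61365 F61327 F58276 (iv F59521)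
theorem F62432 : act 5 n15773 = n15458 := d26_2 D15053 D15773 F61168 (iv D14898) (iv F56227)
theorem F62433 : act 7 n15457 = n15773 := d31_0 F62432 (iv D15458) D15457
def n15774 : Q := act 7 n15053
theorem D15774 : act 7 n15053 = n15774 := rfl
theorem F62434 : act 0 n15774 = n15061 := d6_1 D15774 (iv D15061) (iv F59519)
theorem F62435 : act 1 n15774 = n15463 := d13_1 D15774 F61197 F61193
theorem F62436 : act 2 n15774 = n15135 := d19_1 D15774 (iv D15135) (iv F59520)
theorem F62437 : act 3 n15774 = n15745 := d24_1 D15774 (iv F62339) F61360 F58299 (iv F59521)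
theorem F62438 : act 4 n15774 = n15457 := d28_1 D15774 F62433 (iv D15773)
theorem F62439 : act 5 n15774 = n15054 := d31_1 D15774 (iv D15054) D15053
theorem F62440 : act 6 n15774 = n15773 := d33_1 D15774 (iv F62433) F61163
def n15775 : Q := act 8 n15053
theorem D15775 : act 8 n15053 = n15775 := rfl
theorem F62441 : act 0 n15775 = n15062 := d7_1 D15775 (iv D15062) (iv F59519)
theorem F62442 : act 2 n15775 = n15136 := d20_1 D15775 (iv D15136) (iv F59520)
theorem F62443 : act 3 n15775 = n15056 := d25_1 D15775 (iv D15056) (iv F59521)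
theorem F62444 : act 5 n15775 = n15055 := d32_1 D15775 (iv D15055) D15053
def n15776 : Q := act 8 n15054
theorem D15776 : act 8 n15054 = n15776 := rfl
theorem F62445 : act 0 n15776 = n15063 := d7_1 D15776 (iv D15063) (iv F59522)
theorem F62446 : act 2 n15776 = n15137 := d20_1 D15776 (iv D15137) (iv F59523)
theorem F62447 : act 4 n15776 = n15631 := d29_1 D15776 (iv D15631) (iv F59524)
theorem F62448 : act 6 n15776 = n15237 := d34_1 D15776 (iv D15237) (iv F59525)
def n15777 : Q := act 7 n15055
theorem D15777 : act 7 n15055 = n15777 := rfl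
theorem F62449 : act 0 n15777 = n15064 := d6_1 D15777 (iv D15064) (iv F59526)
theorem F62450 : act 2 n15777 = n15138 := d19_1 D15777 (iv D15138) (iv F59527)
theorem F62451 : act 4 n15777 = n15632 := d28_1 D15777 (iv D15632) (iv F59529)
theorem F62452 : act 6 n15777 = n15238 := d33_1 D15777 (iv D15238) (iv F59530)
def n15778 : Q := act 7 n15056
theorem D15778 : act 7 n15056 = n15778 := rfl
theorem F62453 : act 0 n15778 = n15066 := d6_1 D15778 (iv D15066) (iv F59531)
theorem F62454 : act 2 n15778 = n15107 := d19_1 D15778 (iv D15107) (iv F59532)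
theorem F62455 : act 5 n15778 = n15057 := d31_1 D15778 (iv D15057) (iv F59533)
def n15779 : Q := act 3 n15057
theorem D15779 : act 3 n15057 = n15779 := rfl
theorem F62456 : act 0 n15779 = n15067 := d2_1 D15779 (iv D15067) (iv F59534)
theorem F62457 : act 6 n15779 = n15240 := d23_2 (iv F59537) D15779 (iv D15240)
def n15780 : Q := act 4 n15058
theorem D15780 : act 4 n15058 = n15780 := rfl
theorem F62458 : act 0 n15780 = n15068 := d3_1 D15780 (iv D15068) (iv F59538)
theorem F62459 : act 6 n15780 = n15241 := d27_2 (iv F59539) D15780 (iv D15241)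
theorem F62460 : act 7 n15780 = n15635 := d28_2 (iv F59540) D15780 (iv D15635)
def n15781 : Q := act 8 n15059
theorem D15781 : act 8 n15059 = n15781 := rfl
theorem F62461 : act 1 n15781 = n15069 := d14_1 D15781 (iv D15069) (iv F59541)
theorem F62462 : act 2 n15781 = n15142 := d20_1 D15781 (iv D15142) (iv F59542)
theorem F62463 : act 4 n15781 = n15062 := d29_1 D15781 (iv D15062) D15059
theorem F62464 : act 5 n15781 = n15763 := d32_1 D15781 (iv D15763) (iv F59543)
def n15782 : Q := act 8 n15060
theorem D15782 : act 8 n15060 = n15782 := rfl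
theorem F62465 : act 1 n15782 = n15070 := d14_1 D15782 (iv D15070) (iv F59544)
theorem F62466 : act 2 n15782 = n15143 := d20_1 D15782 (iv D15143) (iv F59545)
theorem F62467 : act 3 n15782 = n15065 := d25_1 D15782 (iv D15065) (iv F59546)
theorem F62468 : act 5 n15782 = n15289 := d32_1 D15782 (iv D15289) (iv F59547)
theorem F62469 : act 6 n15782 = n15062 := d34_1 D15782 (iv D15062) D15060
def n15783 : Q := act 8 n15061
theorem D15783 : act 8 n15061 = n15783 := rfl
theorem F62470 : act 1 n15783 = n15071 := d14_1 D15783 (iv D15071) (iv F59549)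
theorem F62471 : act 2 n15783 = n15144 := d20_1 D15783 (iv D15144) (iv F59550)
theorem F62472 : act 4 n15783 = n15782 := d29_1 D15783 (iv D15782) (iv F59551)
theorem F62473 : act 5 n15783 = n15063 := d32_1 D15783 (iv D15063) (iv F59552)
theorem F62474 : act 6 n15783 = n15781 := d34_1 D15783 (iv D15781) (iv F59553)
def n15784 : Q := act 7 n15062
theorem D15784 : act 7 n15062 = n15784 := rfl
theorem F62475 : act 1 n15784 = n15072 := d13_1 D15784 (iv D15072) (iv F59554)
theorem F62476 : act 2 n15784 = n15145 := d19_1 D15784 (iv D15145) (iv F59555)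
theorem F62477 : act 5 n15784 = n15064 := d31_1 D15784 (iv D15064) (iv F59557)
def n15785 : Q := act 7 n15063
theorem D15785 : act 7 n15063 = n15785 := rfl
theorem F62478 : act 1 n15785 = n15073 := d13_1 D15785 (iv D15073) (iv F59558)
theorem F62479 : act 2 n15785 = n15146 := d19_1 D15785 (iv D15146) (iv F59559)
theorem F62480 : act 4 n15785 = n15767 := d28_1 D15785 (iv D15767) (iv F59560)
theorem F62481 : act 6 n15785 = n15292 := d33_1 D15785 (iv D15292) (iv F59561)
theorem F62482 : act 8 n15785 = n15064 := d35_2 D15063 D15785 (iv D15064) (iv D14239) D14238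
def n15786 : Q := act 3 n15064
theorem D15786 : act 3 n15064 = n15786 := rfl
theorem F62483 : act 1 n15786 = n15074 := d9_1 D15786 (iv D15074) (iv F59562)
theorem F62484 : act 6 n15786 = n15293 := d23_2 (iv F59565) D15786 (iv D15293)
theorem F62485 : act 7 n15786 = n15067 := d24_2 D15064 D15786 (iv D15067) (iv D14242) (iv F56247)
def n15787 : Q := act 7 n15065
theorem D15787 : act 7 n15065 = n15787 := rfl
theorem F62486 : act 1 n15787 = n15075 := d13_1 D15787 (iv D15075) (iv F59566)
theorem F62487 : act 2 n15787 = n15109 := d19_1 D15787 (iv D15109) (iv F59567)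
theorem F62488 : act 5 n15787 = n15294 := d31_1 D15787 (iv D15294) (iv F59568)
theorem F62489 : act 6 n15787 = n15066 := d33_1 D15787 (iv D15066) (iv F59569)
def n15788 : Q := act 3 n15066
theorem D15788 : act 3 n15066 = n15788 := rfl
theorem F62490 : act 1 n15788 = n15076 := d9_1 D15788 (iv D15076) (iv F59570)
theorem F62491 : act 5 n15788 = n15067 := d22_2 (iv F59572) D15788 (iv D15067)
def n15789 : Q := act 2 n15067
theorem D15789 : act 2 n15067 = n15789 := rfl
theorem F62492 : act 3 n15789 = n15111 := d15_2 D15067 D15789 (iv D15111) (iv D14295) (iv F56257)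
theorem F62493 : act 6 n15789 = n15296 := d18_2 (iv F59574) D15789 (iv D15296)
def n15790 : Q := act 4 n15067
theorem D15790 : act 4 n15067 = n15790 := rfl
theorem F62494 : act 1 n15790 = n15078 := d10_1 D15790 (iv D15078) (iv F59573)
theorem F62495 : act 3 n15790 = n15068 := d21_1 D15790 (iv D15068) (iv D14243) (iv F56258) D15067
theorem F62496 : act 6 n15790 = n15297 := d27_2 (iv F59574) D15790 (iv D15297)
def n15791 : Q := act 5 n15068
theorem D15791 : act 5 n15068 = n15791 := rfl
theorem F62497 : act 1 n15791 = n15079 := d11_1 D15791 (iv D15079) (iv F59575)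
theorem F62498 : act 7 n15791 = n15772 := d31_2 (iv F59577) D15791 (iv D15772)
def n15792 : Q := act 7 n15069
theorem D15792 : act 7 n15069 = n15792 := rfl
theorem F62499 : act 2 n15792 = n15091 := d19_1 D15792 (iv D15091) (iv F59578)
theorem F62500 : act 4 n15792 = n15072 := d28_1 D15792 (iv D15072) (iv F59579)
def n15793 : Q := act 7 n15070
theorem D15793 : act 7 n15070 = n15793 := rfl
theorem F62501 : act 2 n15793 = n15092 := d19_1 D15793 (iv D15092) (iv F59580)
theorem F62502 : act 6 n15793 = n15072 := d33_1 D15793 (iv D15072) (iv F59582)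
theorem F62503 : act 8 n15793 = n15792 := d35_2 D15070 D15793 (iv D15792) (iv D15069) F56266
def n15794 : Q := act 7 n15071
theorem D15794 : act 7 n15071 = n15794 := rfl
theorem F62504 : act 2 n15794 = n15093 := d19_1 D15794 (iv D15093) (iv F59583)
theorem F62505 : act 4 n15794 = n15793 := d28_1 D15794 (iv D15793) (iv F59584)
theorem F62506 : act 5 n15794 = n15073 := d31_1 D15794 (iv D15073) (iv F59585)
theorem F62507 : act 6 n15794 = n15792 := d33_1 D15794 (iv D15792) (iv F59586)
theorem F62508 : act 8 n15794 = n15072 := d35_2 D15071 D15794 (iv D15072) (iv D14247) D14246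
def n15795 : Q := act 3 n15072
theorem D15795 : act 3 n15072 = n15795 := rfl
theorem F62509 : act 5 n15795 = n15074 := d22_2 (iv F59588) D15795 (iv D15074)
theorem F62510 : act 7 n15795 = n15076 := d24_2 D15072 D15795 (iv D15076) (iv D14251) (iv F56272)
def n15796 : Q := act 3 n15073
theorem D15796 : act 3 n15073 = n15796 := rfl
theorem F62511 : act 8 n15796 = n15074 := d25_2 (iv F59590) D15796 (iv D15074)
def n15797 : Q := act 2 n15074
theorem D15797 : act 2 n15074 = n15797 := rfl
theorem F62512 : act 3 n15797 = n15096 := d15_2 D15074 D15797 (iv D15096) (iv D14273) (iv F56275)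
theorem F62513 : act 7 n15797 = n15077 := d19_2 (iv F59591) D15797 (iv D15077)
def n15798 : Q := act 4 n15074
theorem D15798 : act 4 n15074 = n15798 := rfl
theorem F62514 : act 7 n15798 = n15078 := d28_2 (iv F59591) D15798 (iv D15078)
def n15799 : Q := act 3 n15075
theorem D15799 : act 3 n15075 = n15799 := rfl
theorem F62515 : act 6 n15799 = n15076 := d23_2 (iv F59593) D15799 (iv D15076)
def n15800 : Q := act 2 n15076
theorem D15800 : act 2 n15076 = n15800 := rfl
theorem F62516 : act 3 n15800 = n15080 := d15_2 D15076 D15800 (iv D15080) (iv D14255) (iv F56278)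
theorem F62517 : act 5 n15800 = n15077 := d17_2 (iv F59594) D15800 (iv D15077)
def n15801 : Q := act 4 n15076
theorem D15801 : act 4 n15076 = n15801 := rfl
def n15802 : Q := act 1 n15077
theorem D15802 : act 1 n15077 = n15802 := rfl
theorem F62518 : act 3 n15802 = n15081 := d9_2 (iv F59595) D15802 (iv D15081)
def n15803 : Q := act 4 n15077
theorem D15803 : act 4 n15077 = n15803 := rfl
theorem F62519 : act 2 n15803 = n15078 := d16_1 D15803 (iv D15078) D15077
def n15804 : Q := act 5 n15078
theorem D15804 : act 5 n15078 = n15804 := rfl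
theorem F62520 : act 3 n15804 = n15079 := d22_1 D15804 (iv D15079) (iv F59596)
def n15805 : Q := act 6 n15079
theorem D15805 : act 6 n15079 = n15805 := rfl
def n15806 : Q := act 7 n15082
theorem D15806 : act 7 n15082 = n15806 := rfl
theorem F62521 : act 1 n15806 = n15164 := d13_1 D15806 (iv D15164) (iv F59601)
theorem F62522 : act 4 n15806 = n15085 := d28_1 D15806 (iv D15085) (iv F59603)
theorem F62523 : act 6 n15806 = n15305 := d33_1 D15806 (iv D15305) (iv F59604)
theorem F62524 : act 8 n15806 = n15304 := d35_2 D15082 D15806 (iv D15304) (iv D14531) F56289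
def n15807 : Q := act 7 n15083
theorem D15807 : act 7 n15083 = n15807 := rfl
theorem F62525 : act 1 n15807 = n15165 := d13_1 D15807 (iv D15165) (iv F59605)
theorem F62526 : act 4 n15807 = n15305 := d28_1 D15807 (iv D15305) (iv F59607)
theorem F62527 : act 5 n15807 = n15092 := d31_1 D15807 (iv D15092) (iv F59608)
theorem F62528 : act 6 n15807 = n15085 := d33_1 D15807 (iv D15085) (iv F59609)
theorem F62529 : act 8 n15807 = n15303 := d35_2 D15083 D15807 (iv D15303) (iv D14530) F56294
def n15808 : Q := act 7 n15084
theorem D15808 : act 7 n15084 = n15808 := rfl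
theorem F62530 : act 1 n15808 = n15166 := d13_1 D15808 (iv D15166) (iv F59610)
theorem F62531 : act 4 n15808 = n15304 := d28_1 D15808 (iv D15304) (iv F59612)
theorem F62532 : act 5 n15808 = n15086 := d31_1 D15808 (iv D15086) (iv F59613)
theorem F62533 : act 6 n15808 = n15303 := d33_1 D15808 (iv D15303) (iv F59614)
theorem F62534 : act 8 n15808 = n15085 := d35_2 D15084 D15808 (iv D15085) (iv D14260) D14259
def n15809 : Q := act 3 n15085
theorem D15809 : act 3 n15085 = n15809 := rfl
theorem F62535 : act 0 n15809 = n15207 := d2_1 D15809 (iv F62020) F62018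
theorem F62536 : act 1 n15809 = n15167 := d9_1 D15809 (iv D15167) (iv F59615)
theorem F62537 : act 5 n15809 = n15087 := d22_2 (iv F59616) D15809 (iv D15087)
theorem F62538 : act 7 n15809 = n15089 := d24_2 D15085 D15809 (iv D15089) (iv D14264) (iv F56301)
def n15810 : Q := act 3 n15086
theorem D15810 : act 3 n15086 = n15810 := rfl
theorem F62539 : act 0 n15810 = n15208 := d2_1 D15810 (iv F62024) F62022
theorem F62540 : act 1 n15810 = n15168 := d9_1 D15810 (iv D15168) (iv F59617)
theorem F62541 : act 6 n15810 = n15095 := d23_2 (iv F59618) D15810 (iv D15095)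
theorem F62542 : act 7 n15810 = n15189 := d24_2 D15086 D15810 F60058 F56848 (iv F56304)
theorem F62543 : act 8 n15810 = n15087 := d25_2 (iv F59619) D15810 (iv D15087)
def n15811 : Q := act 4 n15087
theorem D15811 : act 4 n15087 = n15811 := rfl
theorem F62544 : act 0 n15811 = n15199 := d3_1 D15811 F60111 (iv F59620)
theorem F62545 : act 1 n15811 = n15170 := d10_1 D15811 (iv D15170) (iv F59621)
theorem F62546 : act 6 n15811 = n15097 := d27_2 (iv F59622) D15811 (iv D15097)
theorem F62547 : act 7 n15811 = n15090 := d28_2 (iv F59623) D15811 (iv D15090)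
theorem F62548 : act 5 n15736 = n15811 := d31_3 F62547 (iv F59640) D15736
def n15812 : Q := act 3 n15088
theorem D15812 : act 3 n15088 = n15812 := rfl
theorem F62549 : act 0 n15812 = n15205 := d2_1 D15812 F60132 (iv F59624)
theorem F62550 : act 1 n15812 = n15171 := d9_1 D15812 (iv D15171) (iv F59625)
theorem F62551 : act 5 n15812 = n15098 := d22_2 (iv F59628) D15812 (iv D15098)
theorem F62552 : act 6 n15812 = n15089 := d23_2 (iv F59629) D15812 (iv D15089)
theorem F62553 : act 8 n15812 = n15187 := d25_2 (iv F59630) D15812 F60046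
theorem F62554 : act 4 n15399 = n15812 := d38_3 (iv D14698) (iv F57748) (iv F60860) (iv D15812) F59626 F56329 (iv D13384) F48788 F44665 F41005 F32801 F24219 (iv F38367) F38368 F23358 F17337 F12897 F9953 (iv F10178) (iv F13623) F13626 F13625 (iv F18351) (iv F24756) (iv F33530) (iv F41239) (iv F44870) D12440 F48965 F46009 (iv F46039) D12718 (iv F50064) F46587 (iv D10886) F39569 (iv F42881) (iv F46670) (iv F50708) (iv F54442) (iv F57879) D15421 F60983 F58927 F55614 (iv F55403) (iv F58730) (iv F61240) (iv D15477) F58200 (iv F59271) F59270 (iv F59497) F59496 F56300 D14355 (iv F59949) F59948 (iv F56721) (iv F58699) F58698 (iv F58096)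
def n15813 : Q := act 4 n15089
theorem D15813 : act 4 n15089 = n15813 := rfl
theorem F62555 : act 0 n15813 = n15204 := d3_1 D15813 F60129 (iv F59631)
theorem F62556 : act 1 n15813 = n15173 := d10_1 D15813 (iv D15173) (iv F59632)
theorem F62557 : act 3 n15813 = n15813 := d21_1 D15813 (iv D15813) (iv D15089) F56316 D15089
theorem F62558 : act 5 n15813 = n15447 := d26_2 (iv F59633) D15813 F61111 F59640 (iv D15090)
theorem F62559 : act 6 n15813 = n15399 := d27_2 F62552 D15813 F62554
theorem F62560 : act 8 n15813 = n15186 := d29_2 (iv F59634) D15813 (iv D15186)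
def n15814 : Q := act 3 n15091
theorem D15814 : act 3 n15091 = n15814 := rfl
theorem F62561 : act 0 n15814 = n15710 := d2_1 D15814 F62200 F62027
theorem F62562 : act 1 n15814 = n15175 := d9_1 D15814 (iv D15175) (iv F59641)
theorem F62563 : act 4 n15814 = n15566 := d21_2 (iv F59642) D15814 F61610 F59654 (iv D15094)
theorem F62564 : act 6 n15814 = n15571 := d23_2 F59649 D15814 F61632
theorem F62565 : act 7 n15814 = n15102 := d24_2 D15091 D15814 (iv D15102) (iv D14280) (iv F56335)
def n15815 : Q := act 3 n15092
theorem D15815 : act 3 n15092 = n15815 := rfl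
theorem F62566 : act 1 n15815 = n15176 := d9_1 D15815 (iv D15176) (iv F59643)
theorem F62567 : act 4 n15815 = n15433 := d21_2 F59647 D15815 F61049 (iv F61633) F61632
theorem F62568 : act 6 n15815 = n15094 := d23_2 (iv F59644) D15815 (iv D15094)
theorem F62569 : act 7 n15815 = n15098 := d24_2 D15092 D15815 (iv D15098) (iv D14274) (iv F56338)
theorem F62570 : act 8 n15815 = n15814 := d25_2 (iv F59645) D15815 (iv D15814)
def n15816 : Q := act 2 n15094
theorem D15816 : act 2 n15094 = n15816 := rfl
theorem F62571 : act 1 n15816 = n15690 := d8_1 D15816 F62133 F59239 F56728 (iv F59651)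
theorem F62572 : act 4 n15816 = n15689 := d16_2 F59654 D15816 F62129
theorem F62573 : act 5 n15816 = n15096 := d17_2 (iv F59652) D15816 (iv D15096)
theorem F62574 : act 7 n15816 = n15099 := d19_2 (iv F59653) D15816 (iv D15099)
def n15817 : Q := act 2 n15095
theorem D15817 : act 2 n15095 = n15817 := rfl
theorem F62575 : act 7 n15817 = n15209 := d19_2 (iv F59656) D15817 (iv D15209)
theorem F62576 : act 8 n15817 = n15096 := d20_2 (iv F59657) D15817 (iv D15096)
def n15818 : Q := act 4 n15095
theorem D15818 : act 4 n15095 = n15818 := rfl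
theorem F62577 : act 1 n15818 = n15128 := d10_1 D15818 F59791 (iv F59655)
theorem F62578 : act 5 n15818 = n15126 := d26_2 F61634 D15818 F59780 (iv F58696) (iv F61633)
theorem F62579 : act 7 n15818 = n15125 := d28_2 (iv F59656) D15818 F59777
theorem F62580 : act 8 n15818 = n15097 := d29_2 (iv F59657) D15818 (iv D15097)
def n15819 : Q := act 1 n15096
theorem D15819 : act 1 n15096 = n15819 := rfl
theorem F62581 : act 2 n15819 = n15177 := d8_2 D15096 D15819 (iv D15177) (iv D14369) (iv F56349)
theorem F62582 : act 5 n15819 = n15690 := d11_2 F62573 D15819 (iv F62571)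
theorem F62583 : act 7 n15819 = n15100 := d13_2 (iv F59658) D15819 (iv D15100)
def n15820 : Q := act 4 n15096
theorem D15820 : act 4 n15096 = n15820 := rfl
theorem F62584 : act 2 n15820 = n15097 := d16_1 D15820 (iv D15097) D15096
theorem F62585 : act 5 n15820 = n15715 := d26_2 F62573 D15820 F62221 (iv F62130) (iv F62572)
theorem F62586 : act 7 n15820 = n15101 := d28_2 (iv F59658) D15820 (iv D15101)
def n15821 : Q := act 2 n15102
theorem D15821 : act 2 n15102 = n15821 := rfl
theorem F62587 : act 0 n15821 = n15702 := d1_1 D15821 F62176 (iv F59678)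
theorem F62588 : act 1 n15821 = n15388 := d8_1 D15821 F60813 F57745 F56751 (iv F59679)
theorem F62589 : act 4 n15821 = n15434 := d16_2 (iv F59680) D15821 F61054
theorem F62590 : act 6 n15821 = n15439 := d18_2 (iv F59681) D15821 F61080
theorem F62591 : act 8 n15821 = n15379 := d20_2 (iv F59682) D15821 F60773
def n15822 : Q := act 3 n15103
theorem D15822 : act 3 n15103 = n15822 := rfl
theorem F62592 : act 0 n15822 = n15105 := d2_1 D15822 (iv D15105) (iv F59683)
theorem F62593 : act 1 n15822 = n15114 := d9_1 D15822 (iv D15114) (iv F59684)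
theorem F62594 : act 6 n15822 = n15229 := d23_2 (iv F59686) D15822 (iv D15229)
theorem F62595 : act 7 n15822 = n15822 := d24_2 D15103 D15822 (iv D15822) (iv D15103) F56390
theorem F62596 : act 8 n15822 = n15108 := d25_2 (iv F59687) D15822 (iv D15108)
def n15823 : Q := act 3 n15104
theorem D15823 : act 3 n15104 = n15823 := rfl
theorem F62597 : act 1 n15823 = n15106 := d9_1 D15823 (iv D15106) (iv F59688)
theorem F62598 : act 5 n15823 = n15105 := d22_2 (iv F59689) D15823 (iv D15105)
theorem F62599 : act 7 n15823 = n15823 := d24_2 D15104 D15823 (iv D15823) (iv D15104) F56398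
theorem F62600 : act 8 n15823 = n15110 := d25_2 (iv F59690) D15823 (iv D15110)
def n15824 : Q := act 2 n15105
theorem D15824 : act 2 n15105 = n15824 := rfl
theorem F62601 : act 6 n15824 = n15287 := d18_2 (iv F59692) D15824 (iv D15287)
theorem F62602 : act 7 n15824 = n15824 := d19_2 F59693 D15824 (iv D15824)
theorem F62603 : act 8 n15824 = n15111 := d20_2 (iv F59694) D15824 (iv D15111)
def n15825 : Q := act 4 n15106
theorem D15825 : act 4 n15106 = n15825 := rfl
theorem F62604 : act 0 n15825 = n15115 := d3_1 D15825 F59727 (iv F59695)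
theorem F62605 : act 2 n15825 = n15114 := d16_1 D15825 (iv F60898) F60897
theorem F62606 : act 3 n15825 = n15264 := d21_1 D15825 (iv F61037) F61036 F58437 D15106
theorem F62607 : act 5 n15825 = n15263 := d26_2 (iv F59696) D15825 (iv D15263) (iv F58414) F58413
theorem F62608 : act 6 n15825 = n15258 := d27_2 F60938 D15825 (iv F60936)
theorem F62609 : act 7 n15825 = n15825 := d28_2 F59697 D15825 (iv D15825)
theorem F62610 : act 8 n15825 = n15112 := d29_2 (iv F59698) D15825 (iv D15112)
def n15826 : Q := act 3 n15107
theorem D15826 : act 3 n15107 = n15826 := rfl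
theorem F62611 : act 0 n15826 = n15110 := d2_1 D15826 (iv D15110) (iv F59699)
theorem F62612 : act 1 n15826 = n15116 := d9_1 D15826 (iv D15116) (iv F59700)
theorem F62613 : act 5 n15826 = n15108 := d22_2 (iv F59701) D15826 (iv D15108)
theorem F62614 : act 7 n15826 = n15179 := d24_2 D15107 D15826 (iv D15179) (iv D14375) (iv F56421)
def n15827 : Q := act 2 n15108
theorem D15827 : act 2 n15108 = n15827 := rfl
theorem F62615 : act 0 n15827 = n15111 := d1_1 D15827 (iv D15111) (iv F59702)
theorem F62616 : act 6 n15827 = n15243 := d18_2 (iv F59704) D15827 (iv D15243)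
theorem F62617 : act 7 n15827 = n15180 := d19_2 (iv F59705) D15827 (iv D15180)
def n15828 : Q := act 2 n15110
theorem D15828 : act 2 n15110 = n15828 := rfl
theorem F62618 : act 5 n15828 = n15111 := d17_2 (iv F59710) D15828 (iv D15111)
theorem F62619 : act 7 n15828 = n15181 := d19_2 (iv F59711) D15828 (iv D15181)
def n15829 : Q := act 4 n15110
theorem D15829 : act 4 n15110 = n15829 := rfl
theorem F62620 : act 1 n15829 = n15112 := d10_1 D15829 (iv D15112) (iv F59709)
theorem F62621 : act 6 n15829 = n15265 := d27_2 F61004 D15829 (iv F61002)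
theorem F62622 : act 7 n15829 = n15182 := d28_2 (iv F59711) D15829 (iv D15182)
def n15830 : Q := act 1 n15111
theorem D15830 : act 1 n15111 = n15830 := rfl
theorem F62623 : act 2 n15830 = n15113 := d8_2 D15111 D15830 (iv D15113) (iv D14298) (iv F56433)
theorem F62624 : act 6 n15830 = n15302 := d12_2 (iv F59712) D15830 (iv D15302)
theorem F62625 : act 7 n15830 = n15183 := d13_2 (iv F59713) D15830 (iv D15183)
def n15831 : Q := act 7 n15117
theorem D15831 : act 7 n15117 = n15831 := rfl
theorem F62626 : act 0 n15831 = n15831 := d6_1 D15831 (iv D15831) F59735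
theorem F62627 : act 1 n15831 = n15400 := d13_1 D15831 (iv D15400) (iv F59736)
theorem F62628 : act 3 n15831 = n15330 := d24_1 D15831 F60525 F57476 F57017 (iv F59737)
theorem F62629 : act 4 n15831 = n15326 := d28_1 D15831 F60510 (iv F59738)
theorem F62630 : act 5 n15831 = n15118 := d31_1 D15831 (iv D15118) (iv F59739)
theorem F62631 : act 8 n15831 = n15567 := d35_2 D15117 D15831 (iv D15567) (iv D14830) (iv F56473)
def n15832 : Q := act 3 n15118
theorem D15832 : act 3 n15118 = n15832 := rfl
theorem F62632 : act 0 n15832 = n15832 := d2_1 D15832 (iv D15832) F59740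
theorem F62633 : act 1 n15832 = n15402 := d9_1 D15832 (iv D15402) (iv F59741)
theorem F62634 : act 4 n15832 = n15120 := d21_2 (iv F59742) D15832 (iv D15120) F56492 (iv F56480)
theorem F62635 : act 5 n15832 = n15330 := d22_2 F62630 D15832 (iv F62628)
theorem F62636 : act 6 n15832 = n15119 := d23_2 (iv F59743) D15832 (iv D15119)
theorem F62637 : act 7 n15832 = n15210 := d24_2 D15118 D15832 (iv D15210) (iv D14432) (iv F56476)
theorem F62638 : act 8 n15832 = n15568 := d25_2 (iv F59744) D15832 (iv D15568)
def n15833 : Q := act 2 n15120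
theorem D15833 : act 2 n15120 = n15833 := rfl
theorem F62639 : act 0 n15833 = n15833 := d1_1 D15833 (iv D15833) F59749
theorem F62640 : act 3 n15833 = n15325 := d15_2 D15120 D15833 (iv D15325) (iv D14560) (iv F56491)
theorem F62641 : act 5 n15833 = n15334 := d17_2 (iv F59750) D15833 F60536
theorem F62642 : act 6 n15833 = n15132 := d18_2 (iv F59751) D15833 (iv D15132)
theorem F62643 : act 7 n15833 = n15211 := d19_2 (iv F59752) D15833 (iv D15211)
def n15834 : Q := act 8 n15121
theorem D15834 : act 8 n15121 = n15834 := rfl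
theorem F62644 : act 0 n15834 = n15125 := d7_1 D15834 (iv D15125) (iv F59753)
theorem F62645 : act 1 n15834 = n15834 := d14_1 D15834 (iv D15834) F59754
theorem F62646 : act 3 n15834 = n15834 := d25_1 D15834 (iv D15834) F59755
theorem F62647 : act 4 n15834 = n15192 := d29_1 D15834 F60077 (iv F59756)
theorem F62648 : act 5 n15834 = n15122 := d32_1 D15834 (iv D15122) D15121
theorem F62649 : act 6 n15834 = n15198 := d34_1 D15834 (iv D15198) F59758
def n15835 : Q := act 7 n15122
theorem D15835 : act 7 n15122 = n15835 := rfl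
theorem F62650 : act 0 n15835 = n15126 := d6_1 D15835 (iv D15126) (iv F59759)
theorem F62651 : act 1 n15835 = n15835 := d13_1 D15835 (iv D15835) F59760
theorem F62652 : act 4 n15835 = n15123 := d28_1 D15835 (iv D15123) (iv F59762)
theorem F62653 : act 6 n15835 = n15223 := d33_1 D15835 (iv D15223) (iv F59763)
theorem F62654 : act 8 n15835 = n15595 := d35_2 D15122 D15835 (iv D15595) (iv D14865) (iv F56498)
def n15836 : Q := act 8 n15124
theorem D15836 : act 8 n15124 = n15836 := rfl
theorem F62655 : act 0 n15836 = n15198 := d7_1 D15836 (iv D15198) (iv F59769)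
theorem F62656 : act 1 n15836 = n15127 := d14_1 D15836 (iv D15127) (iv F59770)
theorem F62657 : act 3 n15836 = n15836 := d25_1 D15836 (iv D15836) F59771
theorem F62658 : act 4 n15836 = n15189 := d29_1 D15836 (iv D15189) (iv F59772)
theorem F62659 : act 5 n15836 = n15275 := d32_1 D15836 (iv D15275) (iv F59773)
theorem F62660 : act 6 n15836 = n15125 := d34_1 D15836 (iv D15125) D15124
def n15837 : Q := act 3 n15126
theorem D15837 : act 3 n15126 = n15837 := rfl
theorem F62661 : act 1 n15837 = n15129 := d9_1 D15837 (iv D15129) (iv F59779)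
theorem F62662 : act 6 n15837 = n15277 := d23_2 (iv F59781) D15837 (iv D15277)
theorem F62663 : act 7 n15837 = n15837 := d24_2 D15126 D15837 (iv D15837) (iv D15126) F56508
theorem F62664 : act 8 n15837 = n15717 := d25_2 (iv F59782) D15837 (iv D15717)
def n15838 : Q := act 7 n15127
theorem D15838 : act 7 n15127 = n15838 := rfl
theorem F62665 : act 0 n15838 = n15838 := d6_1 D15838 (iv D15838) F59783
theorem F62666 : act 2 n15838 = n15130 := d19_1 D15838 (iv D15130) (iv F59784)
theorem F62667 : act 4 n15838 = n15168 := d28_1 D15838 F59962 (iv F59786)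
theorem F62668 : act 5 n15838 = n15323 := d31_1 D15838 (iv D15323) (iv F59787)
theorem F62669 : act 6 n15838 = n15128 := d33_1 D15838 (iv D15128) (iv F59788)
theorem F62670 : act 8 n15838 = n15170 := d35_2 D15127 D15838 F59971 F56704 (iv F56519)
def n15839 : Q := act 2 n15129
theorem D15839 : act 2 n15129 = n15839 := rfl
theorem F62671 : act 0 n15839 = n15839 := d1_1 D15839 (iv D15839) F59794
theorem F62672 : act 3 n15839 = n15132 := d15_2 D15129 D15839 (iv D15132) (iv D14323) (iv F56526)
theorem F62673 : act 6 n15839 = n15325 := d18_2 (iv F59795) D15839 (iv D15325)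
theorem F62674 : act 7 n15839 = n15839 := d19_2 F59796 D15839 (iv D15839)
theorem F62675 : act 8 n15839 = n15833 := d20_2 (iv F59797) D15839 (iv D15833)
def n15840 : Q := act 3 n15130
theorem D15840 : act 3 n15130 = n15840 := rfl
theorem F62676 : act 0 n15840 = n15840 := d2_1 D15840 (iv D15840) F59798
theorem F62677 : act 5 n15840 = n15159 := d22_2 (iv F59972) D15840 (iv F59969)
theorem F62678 : act 6 n15840 = n15131 := d23_2 (iv F59799) D15840 (iv D15131)
theorem F62679 : act 7 n15840 = n15163 := d24_2 D15130 D15840 F59936 F56652 (iv F56531)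
def n15841 : Q := act 2 n15131
theorem D15841 : act 2 n15131 = n15841 := rfl
theorem F62680 : act 0 n15841 = n15841 := d1_1 D15841 (iv D15841) F59800
theorem F62681 : act 5 n15841 = n15132 := d17_2 (iv F59801) D15841 (iv D15132)
theorem F62682 : act 7 n15841 = n15212 := d19_2 (iv F59802) D15841 (iv D15212)
theorem F62683 : act 4 n15840 = n15841 := d28_3 F62682 (iv F60162) (iv F62679)
def n15842 : Q := act 4 n15131
theorem D15842 : act 4 n15131 = n15842 := rfl
theorem F62684 : act 0 n15842 = n15842 := d3_1 D15842 (iv D15842) F59800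
theorem F62685 : act 2 n15842 = n15840 := d16_1 D15842 F62683 (iv D15841)
theorem F62686 : act 6 n15842 = n15841 := d27_2 F62678 D15842 (iv F62683)
theorem F62687 : act 7 n15842 = n15213 := d28_2 (iv F59802) D15842 (iv D15213)
def n15843 : Q := act 1 n15132
theorem D15843 : act 1 n15132 = n15843 := rfl
theorem F62688 : act 7 n15843 = n15214 := d13_2 (iv F59804) D15843 (iv D15214)
def n15844 : Q := act 8 n15133
theorem D15844 : act 8 n15133 = n15844 := rfl
theorem F62689 : act 0 n15844 = n15142 := d7_1 D15844 (iv D15142) (iv F59805)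
theorem F62690 : act 1 n15844 = n15844 := d14_1 D15844 (iv D15844) F59806
theorem F62691 : act 3 n15844 = n15844 := d25_1 D15844 (iv D15844) F59807
theorem F62692 : act 4 n15844 = n15136 := d29_1 D15844 (iv D15136) D15133
theorem F62693 : act 5 n15844 = n15661 := d32_1 D15844 (iv D15661) (iv F59808)
def n15845 : Q := act 8 n15134
theorem D15845 : act 8 n15134 = n15845 := rfl
theorem F62694 : act 0 n15845 = n15143 := d7_1 D15845 (iv D15143) (iv F59809)
theorem F62695 : act 1 n15845 = n15845 := d14_1 D15845 (iv D15845) F59810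
theorem F62696 : act 3 n15845 = n15139 := d25_1 D15845 (iv D15139) (iv F59811)
theorem F62697 : act 5 n15845 = n15245 := d32_1 D15845 (iv D15245) (iv F59812)
theorem F62698 : act 6 n15845 = n15136 := d34_1 D15845 (iv D15136) D15134
def n15846 : Q := act 8 n15135
theorem D15846 : act 8 n15135 = n15846 := rfl
theorem F62699 : act 0 n15846 = n15144 := d7_1 D15846 (iv D15144) (iv F59814)
theorem F62700 : act 1 n15846 = n15846 := d14_1 D15846 (iv D15846) F59815
theorem F62701 : act 3 n15846 = n15846 := d25_1 D15846 (iv D15846) F59816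
theorem F62702 : act 4 n15846 = n15845 := d29_1 D15846 (iv D15845) (iv F59817)
theorem F62703 : act 5 n15846 = n15137 := d32_1 D15846 (iv D15137) (iv F59818)
theorem F62704 : act 6 n15846 = n15844 := d34_1 D15846 (iv D15844) (iv F59819)
def n15847 : Q := act 7 n15136
theorem D15847 : act 7 n15136 = n15847 := rfl
theorem F62705 : act 0 n15847 = n15145 := d6_1 D15847 (iv D15145) (iv F59820)
theorem F62706 : act 1 n15847 = n15847 := d13_1 D15847 (iv D15847) F59821
theorem F62707 : act 5 n15847 = n15138 := d31_1 D15847 (iv D15138) (iv F59823)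
def n15848 : Q := act 7 n15137
theorem D15848 : act 7 n15137 = n15848 := rfl
theorem F62708 : act 0 n15848 = n15146 := d6_1 D15848 (iv D15146) (iv F59824)
theorem F62709 : act 1 n15848 = n15848 := d13_1 D15848 (iv D15848) F59825
theorem F62710 : act 4 n15848 = n15665 := d28_1 D15848 (iv D15665) (iv F59827)
theorem F62711 : act 6 n15848 = n15248 := d33_1 D15848 (iv D15248) (iv F59828)
theorem F62712 : act 8 n15848 = n15138 := d35_2 D15137 D15848 (iv D15138) (iv D14326) D14325
def n15849 : Q := act 3 n15138
theorem D15849 : act 3 n15138 = n15849 := rfl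
theorem F62713 : act 0 n15849 = n15147 := d2_1 D15849 (iv D15147) (iv F59829)
theorem F62714 : act 1 n15849 = n15849 := d9_1 D15849 (iv D15849) F59830
theorem F62715 : act 6 n15849 = n15249 := d23_2 (iv F59832) D15849 (iv D15249)
theorem F62716 : act 7 n15849 = n15141 := d24_2 D15138 D15849 (iv D15141) (iv D14329) (iv F56547)
def n15850 : Q := act 7 n15139
theorem D15850 : act 7 n15139 = n15850 := rfl
theorem F62717 : act 0 n15850 = n15148 := d6_1 D15850 (iv D15148) (iv F59833)
theorem F62718 : act 1 n15850 = n15850 := d13_1 D15850 (iv D15850) F59834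
theorem F62719 : act 2 n15850 = n15178 := d19_1 D15850 (iv D15178) (iv F59835)
theorem F62720 : act 4 n15850 = n15850 := d28_1 D15850 (iv D15850) F59836
theorem F62721 : act 5 n15850 = n15250 := d31_1 D15850 (iv D15250) (iv F59837)
theorem F62722 : act 6 n15850 = n15140 := d33_1 D15850 (iv D15140) (iv F59838)
theorem F62723 : act 8 n15850 = n15850 := d35_2 D15139 D15850 (iv D15850) (iv D15139) F56555
def n15851 : Q := act 3 n15140
theorem D15851 : act 3 n15140 = n15851 := rfl
theorem F62724 : act 0 n15851 = n15149 := d2_1 D15851 (iv D15149) (iv F59839)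
theorem F62725 : act 1 n15851 = n15851 := d9_1 D15851 (iv D15851) F59840
theorem F62726 : act 5 n15851 = n15141 := d22_2 (iv F59843) D15851 (iv D15141)
theorem F62727 : act 8 n15851 = n15851 := d25_2 F59844 D15851 (iv D15851)
def n15852 : Q := act 2 n15141
theorem D15852 : act 2 n15141 = n15852 := rfl
theorem F62728 : act 0 n15852 = n15150 := d1_1 D15852 (iv D15150) (iv F59845)
theorem F62729 : act 3 n15852 = n15180 := d15_2 D15141 D15852 (iv D15180) (iv D14376) (iv F56563)
theorem F62730 : act 6 n15852 = n15252 := d18_2 (iv F59847) D15852 (iv D15252)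
theorem F62731 : act 8 n15852 = n15852 := d20_2 F59848 D15852 (iv D15852)
def n15853 : Q := act 7 n15142
theorem D15853 : act 7 n15142 = n15853 := rfl
theorem F62732 : act 1 n15853 = n15153 := d13_1 D15853 (iv D15153) (iv F59849)
theorem F62733 : act 4 n15853 = n15145 := d28_1 D15853 (iv D15145) (iv F59851)
theorem F62734 : act 5 n15853 = n15806 := d31_1 D15853 (iv D15806) (iv F59852)
def n15854 : Q := act 7 n15143
theorem D15854 : act 7 n15143 = n15854 := rfl
theorem F62735 : act 1 n15854 = n15154 := d13_1 D15854 (iv D15154) (iv F59853)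
theorem F62736 : act 5 n15854 = n15304 := d31_1 D15854 (iv D15304) (iv F59855)
theorem F62737 : act 6 n15854 = n15145 := d33_1 D15854 (iv D15145) (iv F59856)
theorem F62738 : act 8 n15854 = n15853 := d35_2 D15143 D15854 (iv D15853) (iv D15142) F56573
def n15855 : Q := act 7 n15144
theorem D15855 : act 7 n15144 = n15855 := rfl
theorem F62739 : act 1 n15855 = n15155 := d13_1 D15855 (iv D15155) (iv F59857)
theorem F62740 : act 4 n15855 = n15854 := d28_1 D15855 (iv D15854) (iv F59859)
theorem F62741 : act 5 n15855 = n15146 := d31_1 D15855 (iv D15146) (iv F59860)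
theorem F62742 : act 6 n15855 = n15853 := d33_1 D15855 (iv D15853) (iv F59861)
theorem F62743 : act 8 n15855 = n15145 := d35_2 D15144 D15855 (iv D15145) (iv D14333) D14332
def n15856 : Q := act 3 n15145
theorem D15856 : act 3 n15145 = n15856 := rfl
theorem F62744 : act 1 n15856 = n15156 := d9_1 D15856 (iv D15156) (iv F59862)
theorem F62745 : act 5 n15856 = n15147 := d22_2 (iv F59863) D15856 (iv D15147)
theorem F62746 : act 7 n15856 = n15149 := d24_2 D15145 D15856 (iv D15149) (iv D14337) (iv F56580)
theorem F62747 : act 4 n15843 = n15856 := d28_3 F62746 (iv F60170) (iv F62688)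
def n15857 : Q := act 3 n15146
theorem D15857 : act 3 n15146 = n15857 := rfl
theorem F62748 : act 1 n15857 = n15157 := d9_1 D15857 (iv D15157) (iv F59864)
theorem F62749 : act 6 n15857 = n15307 := d23_2 (iv F59866) D15857 (iv D15307)
theorem F62750 : act 7 n15857 = n15857 := d24_2 D15146 D15857 (iv D15857) (iv D15146) F56583
theorem F62751 : act 8 n15857 = n15147 := d25_2 (iv F59867) D15857 (iv D15147)
def n15858 : Q := act 2 n15147
theorem D15858 : act 2 n15147 = n15858 := rfl
theorem F62752 : act 6 n15858 = n15308 := d18_2 (iv F59869) D15858 (iv D15308)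
theorem F62753 : act 7 n15858 = n15150 := d19_2 (iv F59870) D15858 (iv D15150)
def n15859 : Q := act 4 n15147
theorem D15859 : act 4 n15147 = n15859 := rfl
theorem F62754 : act 1 n15859 = n15159 := d10_1 D15859 (iv D15159) (iv F59868)
theorem F62755 : act 3 n15859 = n15811 := d21_1 D15859 (iv D15811) (iv D15087) (iv F56587) D15147
theorem F62756 : act 6 n15859 = n15309 := d27_2 (iv F59869) D15859 (iv D15309)
theorem F62757 : act 7 n15859 = n15151 := d28_2 (iv F59870) D15859 (iv D15151)
def n15860 : Q := act 3 n15148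
theorem D15860 : act 3 n15148 = n15860 := rfl
theorem F62758 : act 1 n15860 = n15160 := d9_1 D15860 (iv D15160) (iv F59871)
theorem F62759 : act 5 n15860 = n15310 := d22_2 (iv F59874) D15860 (iv D15310)
theorem F62760 : act 6 n15860 = n15149 := d23_2 (iv F59875) D15860 (iv D15149)
theorem F62761 : act 8 n15860 = n15860 := d25_2 F59876 D15860 (iv D15860)
def n15861 : Q := act 2 n15149
theorem D15861 : act 2 n15149 = n15861 := rfl
theorem F62762 : act 3 n15861 = n15181 := d15_2 D15149 D15861 (iv D15181) (iv D14378) (iv F56595)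
theorem F62763 : act 5 n15861 = n15150 := d17_2 (iv F59878) D15861 (iv D15150)
theorem F62764 : act 8 n15861 = n15861 := d20_2 F59879 D15861 (iv D15861)
def n15862 : Q := act 1 n15150
theorem D15862 : act 1 n15150 = n15862 := rfl
theorem F62765 : act 2 n15862 = n15161 := d8_2 D15150 D15862 (iv D15161) (iv D14348) (iv F56599)
theorem F62766 : act 3 n15862 = n15183 := d9_2 (iv F59880) D15862 (iv D15183)
theorem F62767 : act 6 n15862 = n15313 := d12_2 (iv F59881) D15862 (iv D15313)
theorem F62768 : act 8 n15862 = n15862 := d14_2 F59882 D15862 (iv D15862)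
def n15863 : Q := act 4 n15150
theorem D15863 : act 4 n15150 = n15863 := rfl
theorem F62769 : act 2 n15863 = n15151 := d16_1 D15863 (iv D15151) D15150
theorem F62770 : act 6 n15863 = n15314 := d27_2 (iv F59881) D15863 (iv D15314)
theorem F62771 : act 8 n15863 = n15863 := d29_2 F59882 D15863 (iv D15863)
def n15864 : Q := act 5 n15151
theorem D15864 : act 5 n15151 = n15864 := rfl
theorem F62772 : act 1 n15864 = n15163 := d11_1 D15864 (iv D15163) (iv F59883)
theorem F62773 : act 3 n15864 = n15152 := d22_1 D15864 (iv D15152) (iv F59884)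
theorem F62774 : act 6 n15864 = n15202 := d30_2 (iv F59885) D15864 F60124 (iv F60088) F60087
theorem F62775 : act 8 n15864 = n15864 := d32_2 F59886 D15864 (iv D15864)
def n15865 : Q := act 3 n15153
theorem D15865 : act 3 n15153 = n15865 := rfl
theorem F62776 : act 0 n15865 = n15865 := d2_1 D15865 (iv D15865) F59892
theorem F62777 : act 2 n15865 = n15568 := d15_1 D15865 (iv D15568) F59996 (iv D15175) (iv F59893)
theorem F62778 : act 4 n15865 = n15839 := d21_2 (iv F59894) D15865 F62672 F59910 (iv D15156)
theorem F62779 : act 6 n15865 = n15574 := d23_2 F59904 D15865 F61649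
theorem F62780 : act 7 n15865 = n15865 := d24_2 D15153 D15865 (iv D15865) (iv D15153) F56608
def n15866 : Q := act 3 n15154
theorem D15866 : act 3 n15154 = n15866 := rfl
theorem F62781 : act 0 n15866 = n15866 := d2_1 D15866 (iv D15866) F59895
theorem F62782 : act 2 n15866 = n15832 := d15_1 D15866 (iv D15832) F60002 (iv D15176) (iv F59896)
theorem F62783 : act 4 n15866 = n15833 := d21_2 F59902 D15866 F62640 (iv F61650) F61649
theorem F62784 : act 5 n15866 = n15327 := d22_2 (iv F59897) D15866 (iv D15327)
theorem F62785 : act 6 n15866 = n15156 := d23_2 (iv F59898) D15866 (iv D15156)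
theorem F62786 : act 7 n15866 = n15160 := d24_2 D15154 D15866 (iv D15160) (iv D14346) (iv F56612)
theorem F62787 : act 8 n15866 = n15865 := d25_2 (iv F59899) D15866 (iv D15865)
def n15867 : Q := act 4 n15157
theorem D15867 : act 4 n15157 = n15867 := rfl
theorem F62788 : act 0 n15867 = n15867 := d3_1 D15867 (iv D15867) F59911
theorem F62789 : act 3 n15867 = n15838 := d21_1 D15867 F62667 (iv D15168) F56682 D15157
theorem F62790 : act 6 n15867 = n15332 := d27_2 (iv F59912) D15867 (iv D15332)
theorem F62791 : act 7 n15867 = n15867 := d28_2 F59913 D15867 (iv D15867)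
theorem F62792 : act 8 n15867 = n15159 := d29_2 (iv F59914) D15867 (iv D15159)
def n15868 : Q := act 1 n15158
theorem D15868 : act 1 n15158 = n15868 := rfl
theorem F62793 : act 3 n15868 = n15177 := d9_2 (iv F59916) D15868 (iv D15177)
theorem F62794 : act 5 n15868 = n15692 := d11_2 (iv F59917) D15868 F62142
theorem F62795 : act 6 n15868 = n15333 := d12_2 (iv F59918) D15868 (iv D15333)
theorem F62796 : act 7 n15868 = n15161 := d13_2 (iv F59919) D15868 (iv D15161)
def n15869 : Q := act 4 n15158
theorem D15869 : act 4 n15158 = n15869 := rfl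
theorem F62797 : act 0 n15869 = n15869 := d3_1 D15869 (iv D15869) F59915
theorem F62798 : act 2 n15869 = n15159 := d16_1 D15869 (iv D15159) D15158
theorem F62799 : act 5 n15869 = n15842 := d26_2 (iv F59917) D15869 (iv D15842) F59801 (iv F59746)
theorem F62800 : act 6 n15869 = n15334 := d27_2 (iv F59918) D15869 (iv D15334)
theorem F62801 : act 7 n15869 = n15162 := d28_2 (iv F59919) D15869 (iv D15162)
def n15870 : Q := act 4 n15161
theorem D15870 : act 4 n15161 = n15870 := rfl
theorem F62802 : act 1 n15870 = n15162 := d10_1 D15870 (iv D15162) D15161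
theorem F62803 : act 3 n15870 = n15870 := d21_1 D15870 (iv D15870) F59927 F56655 (iv F59927)
theorem F62804 : act 6 n15870 = n15337 := d27_2 (iv F59928) D15870 (iv D15337)
theorem F62805 : act 8 n15870 = n15870 := d29_2 F59929 D15870 (iv D15870)
def n15871 : Q := act 3 n15164
theorem D15871 : act 3 n15164 = n15871 := rfl
theorem F62806 : act 0 n15871 = n15871 := d2_1 D15871 (iv D15871) F59939
theorem F62807 : act 5 n15871 = n15865 := d22_2 (iv F59942) D15871 (iv D15865)
theorem F62808 : act 6 n15871 = n15328 := d23_2 (iv F59943) D15871 (iv D15328)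
theorem F62809 : act 7 n15871 = n15871 := d24_2 D15164 D15871 (iv D15871) (iv D15164) F56661
theorem F62810 : act 8 n15871 = n15327 := d25_2 (iv F59944) D15871 (iv D15327)
def n15872 : Q := act 3 n15165
theorem D15872 : act 3 n15165 = n15872 := rfl
theorem F62811 : act 0 n15872 = n15872 := d2_1 D15872 (iv D15872) F59945
theorem F62812 : act 2 n15872 = n15831 := d15_1 D15872 F62628 F60523 (iv D15327) (iv F59946)
theorem F62813 : act 5 n15872 = n15176 := d22_2 (iv F59948) D15872 (iv D15176)
theorem F62814 : act 6 n15872 = n15167 := d23_2 (iv F59949) D15872 (iv D15167)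
theorem F62815 : act 7 n15872 = n15171 := d24_2 D15165 D15872 (iv D15171) (iv D14358) (iv F56667)
theorem F62816 : act 8 n15872 = n15326 := d25_2 (iv F59950) D15872 (iv D15326)
theorem F62817 : act 4 n15567 = n15872 := d29_3 F62816 (iv F62629) F62631
def n15873 : Q := act 3 n15166
theorem D15873 : act 3 n15166 = n15873 := rfl
theorem F62818 : act 0 n15873 = n15873 := d2_1 D15873 (iv D15873) F59951
theorem F62819 : act 5 n15873 = n15168 := d22_2 (iv F59954) D15873 (iv D15168)
theorem F62820 : act 6 n15873 = n15326 := d23_2 (iv F59955) D15873 (iv D15326)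
theorem F62821 : act 7 n15873 = n15215 := d24_2 D15166 D15873 (iv D15215) (iv D14439) (iv F56673)
theorem F62822 : act 8 n15873 = n15167 := d25_2 (iv F59956) D15873 (iv D15167)
def n15874 : Q := act 2 n15167
theorem D15874 : act 2 n15167 = n15874 := rfl
theorem F62823 : act 0 n15874 = n15874 := d1_1 D15874 (iv D15874) F59957
theorem F62824 : act 3 n15874 = n15329 := d15_2 D15167 D15874 (iv D15329) (iv D14564) (iv F56678)
theorem F62825 : act 5 n15874 = n15169 := d17_2 (iv F59958) D15874 (iv D15169)
theorem F62826 : act 6 n15874 = n15831 := d18_2 F62814 D15874 (iv F62812)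
theorem F62827 : act 7 n15874 = n15172 := d19_2 (iv F59959) D15874 (iv D15172)
theorem F62828 : act 4 n15873 = n15874 := d28_3 F62827 (iv F60173) (iv F62821)
def n15875 : Q := act 4 n15167
theorem D15875 : act 4 n15167 = n15875 := rfl
theorem F62829 : act 0 n15875 = n15875 := d3_1 D15875 (iv D15875) F59957
theorem F62830 : act 2 n15875 = n15873 := d16_1 D15875 F62828 (iv D15874)
theorem F62831 : act 5 n15875 = n15572 := d26_2 (iv F59958) D15875 F61638 F59972 (iv D15170)
theorem F62832 : act 6 n15875 = n15567 := d27_2 F62814 D15875 F62817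
theorem F62833 : act 7 n15875 = n15173 := d28_2 (iv F59959) D15875 (iv D15173)
theorem F62834 : act 8 n15875 = n15874 := d29_2 F62822 D15875 (iv F62828)
def n15876 : Q := act 1 n15169
theorem D15876 : act 1 n15169 = n15876 := rfl
theorem F62835 : act 3 n15876 = n15333 := d9_2 (iv F59965) D15876 (iv D15333)
theorem F62836 : act 6 n15876 = n15177 := d12_2 (iv F59966) D15876 (iv D15177)
theorem F62837 : act 7 n15876 = n15174 := d13_2 (iv F59967) D15876 (iv D15174)
def n15877 : Q := act 2 n15179
theorem D15877 : act 2 n15179 = n15877 := rfl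
theorem F62838 : act 0 n15877 = n15181 := d1_1 D15877 (iv D15181) (iv F60011)
theorem F62839 : act 5 n15877 = n15180 := d17_2 (iv F60013) D15877 (iv D15180)
theorem F62840 : act 8 n15877 = n15877 := d20_2 F60014 D15877 (iv D15877)
def n15878 : Q := act 1 n15180
theorem D15878 : act 1 n15180 = n15878 := rfl
theorem F62841 : act 2 n15878 = n15182 := d8_2 D15180 D15878 F60020 F56777 (iv F56763)
theorem F62842 : act 4 n15878 = n15181 := d10_2 F60848 D15878 (iv F60847)
theorem F62843 : act 6 n15878 = n15255 := d12_2 (iv F60016) D15878 (iv D15255)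
theorem F62844 : act 8 n15878 = n15878 := d14_2 F60017 D15878 (iv D15878)
def n15879 : Q := act 3 n15184
theorem D15879 : act 3 n15184 = n15879 := rfl
theorem F62845 : act 0 n15879 = n15202 := d2_1 D15879 (iv D15202) (iv F60027)
theorem F62846 : act 1 n15879 = n15879 := d9_1 D15879 (iv D15879) F60028
theorem F62847 : act 5 n15879 = n15185 := d22_2 (iv F60031) D15879 (iv D15185)
theorem F62848 : act 8 n15879 = n15879 := d25_2 F60032 D15879 (iv D15879)
def n15880 : Q := act 2 n15185
theorem D15880 : act 2 n15185 = n15880 := rfl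
theorem F62849 : act 0 n15880 = n15203 := d1_1 D15880 (iv D15203) (iv F60033)
theorem F62850 : act 3 n15880 = n15863 := d15_2 D15185 D15880 F62769 F59884 (iv F56804)
theorem F62851 : act 4 n15880 = n15527 := d16_2 (iv F60035) D15880 (iv D15527)
theorem F62852 : act 6 n15880 = n15541 := d18_2 (iv F60036) D15880 F61473
theorem F62853 : act 8 n15880 = n15880 := d20_2 F60037 D15880 (iv D15880)
def n15881 : Q := act 8 n15188
theorem D15881 : act 8 n15188 = n15881 := rfl
theorem F62854 : act 0 n15881 = n15206 := d7_1 D15881 (iv D15206) (iv F60050)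
theorem F62855 : act 1 n15881 = n15215 := d14_1 D15881 F60176 (iv F60051)
theorem F62856 : act 3 n15881 = n15190 := d25_1 D15881 (iv D15190) (iv F60052)
theorem F62857 : act 4 n15881 = n15398 := d29_1 D15881 (iv D15398) (iv F60053)
theorem F62858 : act 5 n15881 = n15189 := d32_1 D15881 (iv D15189) (iv F60054)
theorem F62859 : act 6 n15881 = n15319 := d34_1 D15881 F60485 (iv F60055)
def n15882 : Q := act 2 n15193
theorem D15882 : act 2 n15193 = n15882 := rfl
theorem F62860 : act 0 n15882 = n15527 := d1_1 D15882 (iv D15527) (iv F60078)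
theorem F62861 : act 1 n15882 = n15861 := d8_1 D15882 (iv D15861) F59877 (iv F57026) (iv F60079)
theorem F62862 : act 3 n15882 = n15397 := d15_2 D15193 D15882 (iv D15397) (iv D14625) (iv F56909)
theorem F62863 : act 4 n15882 = n15203 := d16_2 (iv F60080) D15882 (iv D15203)
theorem F62864 : act 5 n15882 = n15862 := d17_2 (iv F60081) D15882 F62765
theorem F62865 : act 6 n15882 = n15403 := d18_2 (iv F60082) D15882 (iv D15403)
theorem F62866 : act 8 n15882 = n15882 := d20_2 F60083 D15882 (iv D15882)
def n15883 : Q := act 2 n15194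
theorem D15883 : act 2 n15194 = n15883 := rfl
theorem F62867 : act 0 n15883 = n15541 := d1_1 D15883 F61473 (iv F60084)
theorem F62868 : act 4 n15883 = n15403 := d16_2 (iv F60086) D15883 (iv D15403)
theorem F62869 : act 5 n15883 = n15314 := d17_2 (iv F60087) D15883 F60470
theorem F62870 : act 6 n15883 = n15203 := d18_2 (iv F60088) D15883 (iv D15203)
theorem F62871 : act 8 n15883 = n15883 := d20_2 F60089 D15883 (iv D15883)
def n15884 : Q := act 8 n15195
theorem D15884 : act 8 n15195 = n15884 := rfl
theorem F62872 : act 0 n15884 = n15447 := d7_1 D15884 (iv D15447) (iv F60090)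
theorem F62873 : act 1 n15884 = n15884 := d14_1 D15884 (iv D15884) F60091
theorem F62874 : act 3 n15884 = n15884 := d25_1 D15884 (iv D15884) F60092
theorem F62875 : act 4 n15884 = n15197 := d29_1 D15884 (iv D15197) D15195
theorem F62876 : act 5 n15884 = n15204 := d32_1 D15884 (iv D15204) (iv F60093)
theorem F62877 : act 6 n15884 = n15345 := d34_1 D15884 (iv D15345) (iv F60094)
def n15885 : Q := act 8 n15196
theorem D15885 : act 8 n15196 = n15885 := rfl
theorem F62878 : act 0 n15885 = n15275 := d7_1 D15885 (iv D15275) (iv F60096)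
theorem F62879 : act 1 n15885 = n15885 := d14_1 D15885 (iv D15885) F60097
theorem F62880 : act 3 n15885 = n15885 := d25_1 D15885 (iv D15885) F60098
theorem F62881 : act 4 n15885 = n15523 := d29_1 D15885 (iv D15523) (iv F60099)
theorem F62882 : act 5 n15885 = n15198 := d32_1 D15885 (iv D15198) (iv F60100)
theorem F62883 : act 6 n15885 = n15222 := d34_1 D15885 (iv D15222) (iv F60101)
def n15886 : Q := act 7 n15197
theorem D15886 : act 7 n15197 = n15886 := rfl
theorem F62884 : act 0 n15886 = n15736 := d6_1 D15886 (iv D15736) (iv F60102)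
theorem F62885 : act 1 n15886 = n15886 := d13_1 D15886 (iv D15886) F60103
theorem F62886 : act 5 n15886 = n15199 := d31_1 D15886 (iv D15199) (iv F60105)
theorem F62887 : act 6 n15886 = n15606 := d33_1 D15886 (iv D15606) (iv F60106)
def n15887 : Q := act 7 n15198
theorem D15887 : act 7 n15198 = n15887 := rfl
theorem F62888 : act 1 n15887 = n15887 := d13_1 D15887 (iv D15887) F60107
theorem F62889 : act 4 n15887 = n15208 := d28_1 D15887 (iv D15208) (iv F60109)
theorem F62890 : act 8 n15887 = n15199 := d35_2 D15198 D15887 (iv D15199) (iv D14409) D14408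
def n15888 : Q := act 3 n15199
theorem D15888 : act 3 n15199 = n15888 := rfl
theorem F62891 : act 0 n15888 = n15859 := d2_1 D15888 F62755 F62544
theorem F62892 : act 1 n15888 = n15888 := d9_1 D15888 (iv D15888) F60110
theorem F62893 : act 4 n15888 = n15849 := d21_2 (iv F60111) D15888 (iv D15849) F59831 F59077
theorem F62894 : act 7 n15888 = n15201 := d24_2 D15199 D15888 (iv D15201) (iv D14411) (iv F56935)
def n15889 : Q := act 3 n15200
theorem D15889 : act 3 n15200 = n15889 := rfl
theorem F62895 : act 0 n15889 = n15864 := d2_1 D15889 F62773 (iv F60112)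
theorem F62896 : act 1 n15889 = n15889 := d9_1 D15889 (iv D15889) F60113
theorem F62897 : act 5 n15889 = n15201 := d22_2 (iv F60116) D15889 (iv D15201)
theorem F62898 : act 6 n15889 = n15879 := d23_2 (iv F60117) D15889 (iv D15879)
theorem F62899 : act 8 n15889 = n15889 := d25_2 F60118 D15889 (iv D15889)
def n15890 : Q := act 2 n15201
theorem D15890 : act 2 n15201 = n15890 := rfl
theorem F62900 : act 0 n15890 = n15863 := d1_1 D15890 F62769 (iv F60119)
theorem F62901 : act 3 n15890 = n15203 := d15_2 D15201 D15890 (iv D15203) (iv D14414) (iv F56944)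
theorem F62902 : act 4 n15890 = n15852 := d16_2 (iv F60121) D15890 (iv D15852)
theorem F62903 : act 8 n15890 = n15890 := d20_2 F60122 D15890 (iv D15890)
def n15891 : Q := act 2 n15202
theorem D15891 : act 2 n15202 = n15891 := rfl
theorem F62904 : act 5 n15891 = n15203 := d17_2 (iv F60124) D15891 (iv D15203)
theorem F62905 : act 8 n15891 = n15891 := d20_2 F60125 D15891 (iv D15891)
def n15892 : Q := act 4 n15202
theorem D15892 : act 4 n15202 = n15892 := rfl
theorem F62906 : act 1 n15892 = n15213 := d10_1 D15892 (iv D15213) (iv F60123)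
theorem F62907 : act 3 n15892 = n15892 := d21_1 D15892 (iv D15892) (iv D15202) F56954 D15202
theorem F62908 : act 5 n15892 = n15870 := d26_2 (iv F60124) D15892 (iv D15870) (iv F60081) F60080
theorem F62909 : act 8 n15892 = n15892 := d29_2 F60125 D15892 (iv D15892)
def n15893 : Q := act 1 n15203
theorem D15893 : act 1 n15203 = n15893 := rfl
theorem F62910 : act 2 n15893 = n15214 := d8_2 D15203 D15893 (iv D15214) (iv D14436) (iv F56957)
theorem F62911 : act 4 n15893 = n15861 := d10_2 F62863 D15893 (iv F62861)
theorem F62912 : act 8 n15893 = n15893 := d14_2 F60126 D15893 (iv D15893)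
def n15894 : Q := act 7 n15204
theorem D15894 : act 7 n15204 = n15894 := rfl
theorem F62913 : act 1 n15894 = n15894 := d13_1 D15894 (iv D15894) F60127
theorem F62914 : act 4 n15894 = n15207 := d28_1 D15894 (iv D15207) (iv F60129)
theorem F62915 : act 6 n15894 = n15533 := d33_1 D15894 (iv D15533) (iv F60130)
theorem F62916 : act 8 n15894 = n15532 := d35_2 D15204 D15894 (iv D15532) (iv D14771) F56966
def n15895 : Q := act 7 n15205
theorem D15895 : act 7 n15205 = n15895 := rfl
theorem F62917 : act 1 n15895 = n15895 := d13_1 D15895 (iv D15895) F60131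
theorem F62918 : act 4 n15895 = n15533 := d28_1 D15895 (iv D15533) (iv F60133)
theorem F62919 : act 6 n15895 = n15207 := d33_1 D15895 (iv D15207) (iv F60134)
theorem F62920 : act 8 n15895 = n15531 := d35_2 D15205 D15895 (iv D15531) (iv D14770) F56963
def n15896 : Q := act 7 n15206
theorem D15896 : act 7 n15206 = n15896 := rfl
theorem F62921 : act 1 n15896 = n15896 := d13_1 D15896 (iv D15896) F60135
theorem F62922 : act 4 n15896 = n15532 := d28_1 D15896 (iv D15532) (iv F60137)
theorem F62923 : act 5 n15896 = n15208 := d31_1 D15896 (iv D15208) (iv F60138)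
theorem F62924 : act 6 n15896 = n15531 := d33_1 D15896 (iv D15531) (iv F60139)
theorem F62925 : act 8 n15896 = n15207 := d35_2 D15206 D15896 (iv D15207) (iv D14418) D14417
def n15897 : Q := act 1 n15211
theorem D15897 : act 1 n15211 = n15897 := rfl
theorem F62926 : act 3 n15897 = n15897 := d9_2 F60153 D15897 (iv D15897)
theorem F62927 : act 4 n15897 = n15860 := d10_2 (iv F60154) D15897 F62758
theorem F62928 : act 5 n15897 = n15337 := d11_2 (iv F60155) D15897 F60546
theorem F62929 : act 6 n15897 = n15214 := d12_2 (iv F60156) D15897 (iv D15214)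
theorem F62930 : act 8 n15897 = n15897 := d14_2 F60157 D15897 (iv D15897)
def n15898 : Q := act 1 n15212
theorem D15898 : act 1 n15212 = n15898 := rfl
theorem F62931 : act 3 n15898 = n15898 := d9_2 F60159 D15898 (iv D15898)
theorem F62932 : act 4 n15898 = n15864 := d10_2 F60162 D15898 F62772
theorem F62933 : act 5 n15898 = n15214 := d11_2 (iv F60160) D15898 (iv D15214)
theorem F62934 : act 6 n15898 = n15892 := d12_2 F60167 D15898 F62906
theorem F62935 : act 8 n15898 = n15898 := d14_2 F60161 D15898 (iv D15898)
def n15899 : Q := act 0 n15214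
theorem D15899 : act 0 n15214 = n15899 := rfl
theorem F62936 : act 1 n15899 = n15899 := d0_2 D15214 D15899 (iv D15899) (iv D15214) F57037
theorem F62937 : act 3 n15899 = n15899 := d2_2 F60169 D15899 (iv D15899)
theorem F62938 : act 4 n15899 = n15851 := d3_2 (iv F60170) D15899 F62724
theorem F62939 : act 8 n15899 = n15899 := d7_2 F60171 D15899 (iv D15899)
def n15900 : Q := act 8 n15216
theorem D15900 : act 8 n15216 = n15900 := rfl
theorem F62940 : act 1 n15900 = n15220 := d14_1 D15900 (iv D15220) (iv F60178)
theorem F62941 : act 2 n15900 = n15900 := d20_1 D15900 (iv D15900) F60179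
theorem F62942 : act 4 n15900 = n15217 := d29_1 D15900 (iv D15217) D15216
def n15901 : Q := act 7 n15217
theorem D15901 : act 7 n15217 = n15901 := rfl
theorem F62943 : act 1 n15901 = n15221 := d13_1 D15901 (iv D15221) (iv F60181)
theorem F62944 : act 2 n15901 = n15901 := d19_1 D15901 (iv D15901) F60182
theorem F62945 : act 8 n15901 = n15600 := d35_2 D15217 D15901 (iv D15600) (iv D14869) (iv F57088)
def n15902 : Q := act 8 n15218
theorem D15902 : act 8 n15218 = n15902 := rfl
theorem F62946 : act 0 n15902 = n15270 := d7_1 D15902 (iv D15270) (iv F60184)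
theorem F62947 : act 2 n15902 = n15902 := d20_1 D15902 (iv D15902) F60185
theorem F62948 : act 3 n15902 = n15220 := d25_1 D15902 (iv D15220) D15218
theorem F62949 : act 4 n15902 = n15226 := d29_1 D15902 (iv D15226) (iv F60186)
theorem F62950 : act 5 n15902 = n15900 := d32_1 D15902 (iv D15900) F60187
def n15903 : Q := act 8 n15219
theorem D15903 : act 8 n15219 = n15903 := rfl
theorem F62951 : act 0 n15903 = n15272 := d7_1 D15903 (iv D15272) (iv F60188)
theorem F62952 : act 1 n15903 = n15902 := d14_1 D15903 (iv D15902) (iv F60189)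
theorem F62953 : act 2 n15903 = n15222 := d20_1 D15903 (iv D15222) (iv F60190)
theorem F62954 : act 3 n15903 = n15900 := d25_1 D15903 (iv D15900) (iv F60191)
theorem F62955 : act 4 n15903 = n15485 := d29_1 D15903 (iv D15485) (iv F60192)
theorem F62956 : act 5 n15903 = n15220 := d32_1 D15903 (iv D15220) D15219
def n15904 : Q := act 7 n15220
theorem D15904 : act 7 n15220 = n15904 := rfl
theorem F62957 : act 0 n15904 = n15273 := d6_1 D15904 (iv D15273) (iv F60194)
theorem F62958 : act 2 n15904 = n15223 := d19_1 D15904 (iv D15223) (iv F60195)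
theorem F62959 : act 4 n15904 = n15221 := d28_1 D15904 (iv D15221) (iv F60196)
theorem F62960 : act 8 n15904 = n15604 := d35_2 D15220 D15904 (iv D15604) (iv D14872) (iv F57091)
def n15905 : Q := act 3 n15221
theorem D15905 : act 3 n15221 = n15905 := rfl
theorem F62961 : act 0 n15905 = n15274 := d2_1 D15905 (iv D15274) (iv F60197)
theorem F62962 : act 7 n15905 = n15228 := d24_2 D15221 D15905 (iv D15228) (iv D14455) (iv F57094)
theorem F62963 : act 8 n15905 = n15605 := d25_2 (iv F60199) D15905 (iv D15605)
def n15906 : Q := act 7 n15222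
theorem D15906 : act 7 n15222 = n15906 := rfl
theorem F62964 : act 0 n15906 = n15276 := d6_1 D15906 (iv D15276) (iv F60200)
theorem F62965 : act 1 n15906 = n15906 := d13_1 D15906 (iv D15906) F60201
theorem F62966 : act 4 n15906 = n15524 := d28_1 D15906 (iv D15524) (iv F60203)
theorem F62967 : act 5 n15906 = n15223 := d31_1 D15906 (iv D15223) (iv F60204)
theorem F62968 : act 8 n15906 = n15606 := d35_2 D15222 D15906 (iv D15606) (iv D14874) (iv F57099)
def n15907 : Q := act 3 n15223
theorem D15907 : act 3 n15223 = n15907 := rfl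
theorem F62969 : act 0 n15907 = n15277 := d2_1 D15907 (iv D15277) (iv F60205)
theorem F62970 : act 1 n15907 = n15907 := d9_1 D15907 (iv D15907) F60206
theorem F62971 : act 7 n15907 = n15907 := d24_2 D15223 D15907 (iv D15907) (iv D15223) F57102
theorem F62972 : act 8 n15907 = n15607 := d25_2 (iv F60208) D15907 (iv D15607)
def n15908 : Q := act 3 n15224
theorem D15908 : act 3 n15224 = n15908 := rfl
theorem F62973 : act 1 n15908 = n15228 := d9_1 D15908 (iv D15228) (iv F60209)
theorem F62974 : act 8 n15908 = n15233 := d25_2 (iv F60211) D15908 (iv D15233)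
def n15909 : Q := act 8 n15225
theorem D15909 : act 8 n15225 = n15909 := rfl
theorem F62975 : act 0 n15909 = n15281 := d7_1 D15909 (iv D15281) (iv F60212)
theorem F62976 : act 2 n15909 = n15909 := d20_1 D15909 (iv D15909) F60213
theorem F62977 : act 3 n15909 = n15237 := d25_1 D15909 (iv D15237) (iv F60214)
def n15910 : Q := act 7 n15226
theorem D15910 : act 7 n15226 = n15910 := rfl
theorem F62978 : act 0 n15910 = n15282 := d6_1 D15910 (iv D15282) (iv F60215)
theorem F62979 : act 2 n15910 = n15910 := d19_1 D15910 (iv D15910) F60216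
def n15911 : Q := act 3 n15227
theorem D15911 : act 3 n15227 = n15911 := rfl
theorem F62980 : act 0 n15911 = n15284 := d2_1 D15911 (iv D15284) (iv F60218)
theorem F62981 : act 8 n15911 = n15240 := d25_2 (iv F60221) D15911 (iv D15240)
def n15912 : Q := act 4 n15228
theorem D15912 : act 4 n15228 = n15912 := rfl
theorem F62982 : act 0 n15912 = n15285 := d3_1 D15912 (iv D15285) (iv F60222)
theorem F62983 : act 8 n15912 = n15241 := d29_2 (iv F60223) D15912 (iv D15241)
def n15913 : Q := act 2 n15229
theorem D15913 : act 2 n15229 = n15913 := rfl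
theorem F62984 : act 0 n15913 = n15287 := d1_1 D15913 (iv D15287) (iv F60224)
theorem F62985 : act 7 n15913 = n15913 := d19_2 F60226 D15913 (iv D15913)
theorem F62986 : act 8 n15913 = n15243 := d20_2 (iv F60227) D15913 (iv D15243)
def n15914 : Q := act 8 n15230
theorem D15914 : act 8 n15230 = n15914 := rfl
theorem F62987 : act 1 n15914 = n15237 := d14_1 D15914 (iv D15237) (iv F60228)
theorem F62988 : act 2 n15914 = n15914 := d20_1 D15914 (iv D15914) F60229
theorem F62989 : act 4 n15914 = n15643 := d29_1 D15914 (iv D15643) (iv F60230)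
def n15915 : Q := act 7 n15231
theorem D15915 : act 7 n15231 = n15915 := rfl
theorem F62990 : act 1 n15915 = n15238 := d13_1 D15915 (iv D15238) (iv F60231)
theorem F62991 : act 2 n15915 = n15915 := d19_1 D15915 (iv D15915) F60232
theorem F62992 : act 4 n15915 = n15644 := d28_1 D15915 (iv D15644) (iv F60234)
def n15916 : Q := act 3 n15232
theorem D15916 : act 3 n15232 = n15916 := rfl
theorem F62993 : act 1 n15916 = n15240 := d9_1 D15916 (iv D15240) (iv F60235)
def n15917 : Q := act 2 n15233
theorem D15917 : act 2 n15233 = n15917 := rfl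
theorem F62994 : act 3 n15917 = n15260 := d15_2 D15233 D15917 (iv D15260) (iv D14488) (iv F57128)
theorem F62995 : act 7 n15917 = n15647 := d19_2 (iv F60239) D15917 (iv D15647)
def n15918 : Q := act 4 n15233
theorem D15918 : act 4 n15233 = n15918 := rfl
theorem F62996 : act 1 n15918 = n15241 := d10_1 D15918 (iv D15241) (iv F60238)
theorem F62997 : act 7 n15918 = n15648 := d28_2 (iv F60239) D15918 (iv D15648)
def n15919 : Q := act 8 n15234
theorem D15919 : act 8 n15234 = n15919 := rfl
theorem F62998 : act 0 n15919 = n15288 := d7_1 D15919 (iv D15288) (iv F60240)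
theorem F62999 : act 2 n15919 = n15244 := d20_1 D15919 (iv D15244) (iv F60241)
theorem F63000 : act 3 n15919 = n15821 := d25_1 D15919 F62591 F60774
theorem F63001 : act 4 n15919 = n15236 := d29_1 D15919 (iv D15236) D15234
theorem F63002 : act 5 n15919 = n15649 := d32_1 D15919 (iv D15649) (iv F60242)
def n15920 : Q := act 8 n15235
theorem D15920 : act 8 n15235 = n15920 := rfl
theorem F63003 : act 0 n15920 = n15290 := d7_1 D15920 (iv D15290) (iv F60243)
theorem F63004 : act 2 n15920 = n15246 := d20_1 D15920 (iv D15246) (iv F60244)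
theorem F63005 : act 5 n15920 = n15237 := d32_1 D15920 (iv D15237) (iv F60245)
def n15921 : Q := act 7 n15236
theorem D15921 : act 7 n15236 = n15921 := rfl
theorem F63006 : act 0 n15921 = n15291 := d6_1 D15921 (iv D15291) (iv F60246)
theorem F63007 : act 2 n15921 = n15247 := d19_1 D15921 (iv D15247) (iv F60247)
theorem F63008 : act 5 n15921 = n15238 := d31_1 D15921 (iv D15238) (iv F60249)
def n15922 : Q := act 7 n15237
theorem D15922 : act 7 n15237 = n15922 := rfl
theorem F63009 : act 0 n15922 = n15292 := d6_1 D15922 (iv D15292) (iv F60250)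
theorem F63010 : act 2 n15922 = n15248 := d19_1 D15922 (iv D15248) (iv F60251)
theorem F63011 : act 4 n15922 = n15653 := d28_1 D15922 (iv D15653) (iv F60252)
theorem F63012 : act 8 n15922 = n15238 := d35_2 D15237 D15922 (iv D15238) (iv D14462) D14461
def n15923 : Q := act 3 n15238
theorem D15923 : act 3 n15238 = n15923 := rfl
theorem F63013 : act 0 n15923 = n15293 := d2_1 D15923 (iv D15293) (iv F60253)
theorem F63014 : act 7 n15923 = n15240 := d24_2 D15238 D15923 (iv D15240) (iv D14464) (iv F57137)
def n15924 : Q := act 3 n15239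
theorem D15924 : act 3 n15239 = n15924 := rfl
theorem F63015 : act 0 n15924 = n15295 := d2_1 D15924 (iv D15295) (iv F60256)
theorem F63016 : act 5 n15924 = n15240 := d22_2 (iv F60258) D15924 (iv D15240)
def n15925 : Q := act 2 n15240
theorem D15925 : act 2 n15240 = n15925 := rfl
theorem F63017 : act 0 n15925 = n15296 := d1_1 D15925 (iv D15296) (iv F60259)
theorem F63018 : act 3 n15925 = n15243 := d15_2 D15240 D15925 (iv D15243) (iv D14467) (iv F57143)
def n15926 : Q := act 4 n15240
theorem D15926 : act 4 n15240 = n15926 := rfl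
theorem F63019 : act 0 n15926 = n15297 := d3_1 D15926 (iv D15297) (iv F60259)
theorem F63020 : act 3 n15926 = n15241 := d21_1 D15926 (iv D15241) (iv D14465) (iv F57144) D15240
def n15927 : Q := act 5 n15241
theorem D15927 : act 5 n15241 = n15927 := rfl
theorem F63021 : act 0 n15927 = n15298 := d4_1 D15927 (iv D15298) (iv F60260)
theorem F63022 : act 7 n15927 = n15659 := d31_2 (iv F60261) D15927 (iv D15659)
def n15928 : Q := act 2 n15242
theorem D15928 : act 2 n15242 = n15928 := rfl
theorem F63023 : act 0 n15928 = n15300 := d1_1 D15928 (iv D15300) (iv F60262)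
theorem F63024 : act 5 n15928 = n15243 := d17_2 (iv F60264) D15928 (iv D15243)
theorem F63025 : act 7 n15928 = n15254 := d19_2 (iv F60265) D15928 (iv D15254)
def n15929 : Q := act 1 n15243
theorem D15929 : act 1 n15243 = n15929 := rfl
theorem F63026 : act 2 n15929 = n15265 := d8_2 D15243 D15929 (iv D15265) (iv D14492) (iv F57151)
theorem F63027 : act 7 n15929 = n15255 := d13_2 (iv F60267) D15929 (iv D15255)
def n15930 : Q := act 7 n15244
theorem D15930 : act 7 n15244 = n15930 := rfl
theorem F63028 : act 0 n15930 = n15303 := d6_1 D15930 (iv D15303) (iv F60268)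
theorem F63029 : act 1 n15930 = n15930 := d13_1 D15930 (iv D15930) F60269
theorem F63030 : act 3 n15930 = n15531 := d24_1 D15930 (iv D15531) F58371 (iv F57212) (iv F60270)
theorem F63031 : act 4 n15930 = n15247 := d28_1 D15930 (iv D15247) (iv F60271)
theorem F63032 : act 5 n15930 = n15666 := d31_1 D15930 (iv D15666) (iv F60272)
def n15931 : Q := act 7 n15245
theorem D15931 : act 7 n15245 = n15931 := rfl
theorem F63033 : act 0 n15931 = n15304 := d6_1 D15931 (iv D15304) (iv F60273)
theorem F63034 : act 1 n15931 = n15931 := d13_1 D15931 (iv D15931) F60274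
theorem F63035 : act 6 n15931 = n15247 := d33_1 D15931 (iv D15247) (iv F60276)
def n15932 : Q := act 7 n15246
theorem D15932 : act 7 n15246 = n15932 := rfl
theorem F63036 : act 0 n15932 = n15305 := d6_1 D15932 (iv D15305) (iv F60277)
theorem F63037 : act 1 n15932 = n15932 := d13_1 D15932 (iv D15932) F60278
theorem F63038 : act 5 n15932 = n15248 := d31_1 D15932 (iv D15248) (iv F60280)
theorem F63039 : act 8 n15932 = n15247 := d35_2 D15246 D15932 (iv D15247) (iv D14471) D14470
def n15933 : Q := act 3 n15247
theorem D15933 : act 3 n15247 = n15933 := rfl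
theorem F63040 : act 0 n15933 = n15306 := d2_1 D15933 (iv D15306) (iv F60281)
theorem F63041 : act 1 n15933 = n15933 := d9_1 D15933 (iv D15933) F60282
theorem F63042 : act 4 n15933 = n15534 := d21_2 F63031 D15933 (iv D15534) (iv F61447) (iv F63030)
theorem F63043 : act 5 n15933 = n15249 := d22_2 (iv F60283) D15933 (iv D15249)
theorem F63044 : act 7 n15933 = n15251 := d24_2 D15247 D15933 (iv D15251) (iv D14475) (iv F57166)
def n15934 : Q := act 3 n15248
theorem D15934 : act 3 n15248 = n15934 := rfl
theorem F63045 : act 0 n15934 = n15307 := d2_1 D15934 (iv D15307) (iv F60284)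
theorem F63046 : act 1 n15934 = n15934 := d9_1 D15934 (iv D15934) F60285
theorem F63047 : act 7 n15934 = n15934 := d24_2 D15248 D15934 (iv D15934) (iv D15248) F57170
theorem F63048 : act 8 n15934 = n15249 := d25_2 (iv F60287) D15934 (iv D15249)
def n15935 : Q := act 2 n15249
theorem D15935 : act 2 n15249 = n15935 := rfl
theorem F63049 : act 0 n15935 = n15308 := d1_1 D15935 (iv D15308) (iv F60288)
theorem F63050 : act 7 n15935 = n15252 := d19_2 (iv F60290) D15935 (iv D15252)
def n15936 : Q := act 4 n15249
theorem D15936 : act 4 n15249 = n15936 := rfl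
theorem F63051 : act 0 n15936 = n15309 := d3_1 D15936 (iv D15309) (iv F60288)
theorem F63052 : act 1 n15936 = n15936 := d10_1 D15936 (iv D15936) F60289
theorem F63053 : act 3 n15936 = n15672 := d21_1 D15936 (iv D15672) (iv D14939) (iv F57174) D15249
theorem F63054 : act 5 n15936 = n15537 := d26_2 F63043 D15936 (iv D15537) (iv F61454) (iv F63042)
theorem F63055 : act 6 n15936 = n15888 := d27_2 F62715 D15936 F62893
theorem F63056 : act 7 n15936 = n15253 := d28_2 (iv F60290) D15936 (iv D15253)
def n15937 : Q := act 3 n15250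
theorem D15937 : act 3 n15250 = n15937 := rfl
theorem F63057 : act 0 n15937 = n15310 := d2_1 D15937 (iv D15310) (iv F60291)
theorem F63058 : act 1 n15937 = n15937 := d9_1 D15937 (iv D15937) F60292
theorem F63059 : act 4 n15937 = n15538 := d21_2 (iv F60294) D15937 (iv D15538) F58388 (iv F57223)
theorem F63060 : act 6 n15937 = n15251 := d23_2 (iv F60295) D15937 (iv D15251)
theorem F63061 : act 8 n15937 = n15937 := d25_2 F60296 D15937 (iv D15937)
def n15938 : Q := act 2 n15251
theorem D15938 : act 2 n15251 = n15938 := rfl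
theorem F63062 : act 0 n15938 = n15311 := d1_1 D15938 (iv D15311) (iv F60297)
theorem F63063 : act 3 n15938 = n15254 := d15_2 D15251 D15938 (iv D15254) (iv D14479) (iv F57182)
theorem F63064 : act 4 n15938 = n15539 := d16_2 (iv F60299) D15938 (iv D15539)
theorem F63065 : act 5 n15938 = n15252 := d17_2 (iv F60300) D15938 (iv D15252)
theorem F63066 : act 8 n15938 = n15938 := d20_2 F60301 D15938 (iv D15938)
def n15939 : Q := act 1 n15252
theorem D15939 : act 1 n15252 = n15939 := rfl
theorem F63067 : act 2 n15939 = n15939 := d8_2 D15252 D15939 (iv D15939) (iv D15252) F57187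
theorem F63068 : act 3 n15939 = n15255 := d9_2 (iv F60303) D15939 (iv D15255)
theorem F63069 : act 8 n15939 = n15939 := d14_2 F60304 D15939 (iv D15939)
def n15940 : Q := act 4 n15252
theorem D15940 : act 4 n15252 = n15940 := rfl
theorem F63070 : act 0 n15940 = n15314 := d3_1 D15940 (iv D15314) (iv F60302)
theorem F63071 : act 2 n15940 = n15253 := d16_1 D15940 (iv D15253) D15252
theorem F63072 : act 3 n15940 = n15883 := d21_1 D15940 F62868 F60871 F57765 (iv F60303)
theorem F63073 : act 5 n15940 = n15541 := d26_2 F63065 D15940 (iv D15541) (iv F61468) (iv F63064)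
theorem F63074 : act 6 n15940 = n15890 := d27_2 F62730 D15940 F62902
theorem F63075 : act 8 n15940 = n15940 := d29_2 F60304 D15940 (iv D15940)
def n15941 : Q := act 0 n15255
theorem D15941 : act 0 n15255 = n15941 := rfl
theorem F63076 : act 1 n15941 = n15318 := d0_2 D15255 D15941 (iv D15318) (iv D14543) (iv F57205)
theorem F63077 : act 2 n15941 = n15266 := d1_2 (iv F60314) D15941 (iv D15266)
theorem F63078 : act 5 n15941 = n15267 := d4_2 F62123 D15941 (iv F62120)
theorem F63079 : act 8 n15941 = n15941 := d7_2 F60315 D15941 (iv D15941)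
def n15942 : Q := act 2 n15256
theorem D15942 : act 2 n15256 = n15942 := rfl
theorem F63080 : act 7 n15942 = n15942 := d19_2 F60317 D15942 (iv D15942)
theorem F63081 : act 8 n15942 = n15260 := d20_2 (iv F60318) D15942 (iv D15260)
def n15943 : Q := act 4 n15256
theorem D15943 : act 4 n15256 = n15943 := rfl
theorem F63082 : act 1 n15943 = n15257 := d10_1 D15943 (iv D15257) (iv F60316)
theorem F63083 : act 7 n15943 = n15943 := d28_2 F60317 D15943 (iv D15943)
theorem F63084 : act 8 n15943 = n15261 := d29_2 (iv F60318) D15943 (iv D15261)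
def n15944 : Q := act 1 n15258
theorem D15944 : act 1 n15258 = n15944 := rfl
theorem F63085 : act 7 n15944 = n15944 := d13_2 F60323 D15944 (iv D15944)
theorem F63086 : act 8 n15944 = n15265 := d14_2 (iv F60324) D15944 (iv D15265)
def n15945 : Q := act 2 n15259
theorem D15945 : act 2 n15259 = n15945 := rfl
theorem F63087 : act 7 n15945 = n15945 := d19_2 F60326 D15945 (iv D15945)
def n15946 : Q := act 4 n15259
theorem D15946 : act 4 n15259 = n15946 := rfl
theorem F63088 : act 1 n15946 = n15263 := d10_1 D15946 (iv D15263) (iv F60325)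
theorem F63089 : act 3 n15946 = n15261 := d21_1 D15946 (iv D15261) (iv D14488) (iv F57236) D15259
theorem F63090 : act 7 n15946 = n15946 := d28_2 F60326 D15946 (iv D15946)
def n15947 : Q := act 4 n15260
theorem D15947 : act 4 n15260 = n15947 := rfl
theorem F63091 : act 2 n15947 = n15261 := d16_1 D15947 (iv D15261) D15260
theorem F63092 : act 7 n15947 = n15267 := d28_2 (iv F60327) D15947 (iv D15267)
def n15948 : Q := act 5 n15261
theorem D15948 : act 5 n15261 = n15948 := rfl
theorem F63093 : act 0 n15948 = n15265 := d4_1 D15948 (iv F62100) F62098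
theorem F63094 : act 1 n15948 = n15264 := d11_1 D15948 (iv D15264) (iv F60328)
theorem F63095 : act 7 n15948 = n15266 := d31_2 (iv F60329) D15948 F60342
def n15949 : Q := act 1 n15262
theorem D15949 : act 1 n15262 = n15949 := rfl
theorem F63096 : act 3 n15949 = n15265 := d9_2 (iv F60331) D15949 (iv D15265)
theorem F63097 : act 7 n15949 = n15949 := d13_2 F60332 D15949 (iv D15949)
def n15950 : Q := act 3 n15267
theorem D15950 : act 3 n15267 = n15950 := rfl
theorem F63098 : act 2 n15950 = n15950 := d15_1 D15950 (iv D15950) F60344 F57253 (iv F60344)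
theorem F63099 : act 4 n15950 = n15688 := d21_2 D15267 D15950 (iv D15688) (iv D14965) (iv F57250)
theorem F63100 : act 8 n15950 = n15950 := d25_2 F60345 D15950 (iv D15950)
def n15951 : Q := act 8 n15268
theorem D15951 : act 8 n15268 = n15951 := rfl
theorem F63101 : act 0 n15951 = n15900 := d7_1 D15951 (iv D15900) (iv F60346)
theorem F63102 : act 1 n15951 = n15593 := d14_1 D15951 (iv D15593) (iv F60347)
theorem F63103 : act 2 n15951 = n15951 := d20_1 D15951 (iv D15951) F60348
theorem F63104 : act 3 n15951 = n15272 := d25_1 D15951 (iv D15272) (iv F60349)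
theorem F63105 : act 4 n15951 = n15592 := d29_1 D15951 (iv D15592) (iv F60351)
theorem F63106 : act 5 n15951 = n15270 := d32_1 D15951 (iv D15270) D15268
theorem F63107 : act 6 n15951 = n15599 := d34_1 D15951 (iv D15599) F60350
def n15952 : Q := act 8 n15269
theorem D15952 : act 8 n15269 = n15952 := rfl
theorem F63108 : act 2 n15952 = n15952 := d20_1 D15952 (iv D15952) F60352
theorem F63109 : act 3 n15952 = n15730 := d25_1 D15952 (iv D15730) (iv F60353)
theorem F63110 : act 4 n15952 = n15281 := d29_1 D15952 (iv D15281) (iv F60354)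
def n15953 : Q := act 7 n15270
theorem D15953 : act 7 n15270 = n15953 := rfl
theorem F63111 : act 2 n15953 = n15953 := d19_1 D15953 (iv D15953) F60355
theorem F63112 : act 4 n15953 = n15282 := d28_1 D15953 (iv D15282) (iv F60357)
def n15954 : Q := act 8 n15271
theorem D15954 : act 8 n15271 = n15954 := rfl
theorem F63113 : act 1 n15954 = n15602 := d14_1 D15954 (iv D15602) (iv F60358)
theorem F63114 : act 2 n15954 = n15275 := d20_1 D15954 (iv D15275) (iv F60359)
theorem F63115 : act 3 n15954 = n15599 := d25_1 D15954 (iv D15599) (iv F60360)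
theorem F63116 : act 4 n15954 = n15612 := d29_1 D15954 (iv D15612) (iv F60361)
theorem F63117 : act 6 n15954 = n15272 := d34_1 D15954 (iv D15272) D15271
def n15955 : Q := act 7 n15272
theorem D15955 : act 7 n15272 = n15955 := rfl
theorem F63118 : act 1 n15955 = n15820 := d13_1 D15955 F62586 (iv F60363)
theorem F63119 : act 2 n15955 = n15276 := d19_1 D15955 (iv D15276) (iv F60364)
theorem F63120 : act 4 n15955 = n15819 := d28_1 D15955 F62583 (iv F60365)
theorem F63121 : act 5 n15955 = n15273 := d31_1 D15955 (iv D15273) (iv F60366)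
theorem F63122 : act 8 n15955 = n15733 := d35_2 D15272 D15955 (iv D15733) (iv D15013) (iv F57275)
def n15956 : Q := act 3 n15273
theorem D15956 : act 3 n15273 = n15956 := rfl
theorem F63123 : act 8 n15956 = n15734 := d25_2 (iv F60369) D15956 (iv D15734)
def n15957 : Q := act 4 n15274
theorem D15957 : act 4 n15274 = n15957 := rfl
theorem F63124 : act 7 n15957 = n15285 := d28_2 (iv F60370) D15957 (iv D15285)
theorem F63125 : act 8 n15957 = n15735 := d29_2 (iv F60371) D15957 (iv D15735)
def n15958 : Q := act 7 n15275
theorem D15958 : act 7 n15275 = n15958 := rfl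
theorem F63126 : act 1 n15958 = n15323 := d13_1 D15958 (iv D15323) (iv F60372)
theorem F63127 : act 4 n15958 = n15876 := d28_1 D15958 F62837 (iv F60374)
theorem F63128 : act 6 n15958 = n15276 := d33_1 D15958 (iv D15276) (iv F60375)
theorem F63129 : act 8 n15958 = n15736 := d35_2 D15275 D15958 (iv D15736) (iv D15016) (iv F57283)
def n15959 : Q := act 3 n15276
theorem D15959 : act 3 n15276 = n15959 := rfl
theorem F63130 : act 1 n15959 = n15324 := d9_1 D15959 (iv D15324) (iv F60376)
theorem F63131 : act 5 n15959 = n15277 := d22_2 (iv F60378) D15959 (iv D15277)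
theorem F63132 : act 7 n15959 = n15959 := d24_2 D15276 D15959 (iv D15959) (iv D15276) F57285
theorem F63133 : act 8 n15959 = n15737 := d25_2 (iv F60379) D15959 (iv D15737)
def n15960 : Q := act 2 n15277
theorem D15960 : act 2 n15277 = n15960 := rfl
theorem F63134 : act 7 n15960 = n15960 := d19_2 F60381 D15960 (iv D15960)
theorem F63135 : act 8 n15960 = n15738 := d20_2 (iv F60382) D15960 (iv D15738)
def n15961 : Q := act 8 n15278
theorem D15961 : act 8 n15278 = n15961 := rfl
theorem F63136 : act 0 n15961 = n15476 := d7_1 D15961 (iv D15476) (iv F60383)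
theorem F63137 : act 1 n15961 = n15590 := d14_1 D15961 (iv D15590) (iv F60384)
theorem F63138 : act 2 n15961 = n15961 := d20_1 D15961 (iv D15961) F60385
theorem F63139 : act 3 n15961 = n15367 := d25_1 D15961 (iv D15367) (iv F60386)
theorem F63140 : act 4 n15961 = n15280 := d29_1 D15961 (iv D15280) D15278
theorem F63141 : act 5 n15961 = n15592 := d32_1 D15961 (iv D15592) (iv F60387)
theorem F63142 : act 6 n15961 = n15623 := d34_1 D15961 (iv D15623) (iv F60388)
def n15962 : Q := act 8 n15279
theorem D15962 : act 8 n15279 = n15962 := rfl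
theorem F63143 : act 2 n15962 = n15962 := d20_1 D15962 (iv D15962) F60389
theorem F63144 : act 3 n15962 = n15290 := d25_1 D15962 (iv D15290) (iv F60390)
theorem F63145 : act 5 n15962 = n15281 := d32_1 D15962 (iv D15281) (iv F60391)
def n15963 : Q := act 7 n15280
theorem D15963 : act 7 n15280 = n15963 := rfl
theorem F63146 : act 2 n15963 = n15963 := d19_1 D15963 (iv D15963) F60392
theorem F63147 : act 5 n15963 = n15282 := d31_1 D15963 (iv D15282) (iv F60394)
def n15964 : Q := act 7 n15281
theorem D15964 : act 7 n15281 = n15964 := rfl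
theorem F63148 : act 2 n15964 = n15964 := d19_1 D15964 (iv D15964) F60395
theorem F63149 : act 8 n15964 = n15282 := d35_2 D15281 D15964 (iv D15282) (iv D14511) D14510
def n15965 : Q := act 3 n15282
theorem D15965 : act 3 n15282 = n15965 := rfl
theorem F63150 : act 7 n15965 = n15284 := d24_2 D15282 D15965 (iv D15284) (iv D14513) (iv F57296)
def n15966 : Q := act 3 n15283
theorem D15966 : act 3 n15283 = n15966 := rfl
theorem F63151 : act 5 n15966 = n15284 := d22_2 (iv F60399) D15966 (iv D15284)
theorem F63152 : act 8 n15966 = n15295 := d25_2 (iv F60400) D15966 (iv D15295)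
def n15967 : Q := act 2 n15284
theorem D15967 : act 2 n15284 = n15967 := rfl
theorem F63153 : act 3 n15967 = n15287 := d15_2 D15284 D15967 (iv D15287) (iv D14516) (iv F57299)
theorem F63154 : act 8 n15967 = n15296 := d20_2 (iv F60401) D15967 (iv D15296)
def n15968 : Q := act 4 n15284
theorem D15968 : act 4 n15284 = n15968 := rfl
theorem F63155 : act 3 n15968 = n15285 := d21_1 D15968 (iv D15285) (iv D14514) (iv F57300) D15284
theorem F63156 : act 8 n15968 = n15297 := d29_2 (iv F60401) D15968 (iv D15297)
def n15969 : Q := act 5 n15285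
theorem D15969 : act 5 n15285 = n15969 := rfl
theorem F63157 : act 8 n15969 = n15298 := d32_2 (iv F60402) D15969 (iv D15298)
def n15970 : Q := act 2 n15286
theorem D15970 : act 2 n15286 = n15970 := rfl
theorem F63158 : act 5 n15970 = n15287 := d17_2 (iv F60404) D15970 (iv D15287)
theorem F63159 : act 7 n15970 = n15970 := d19_2 F60405 D15970 (iv D15970)
theorem F63160 : act 8 n15970 = n15300 := d20_2 (iv F60406) D15970 (iv D15300)
def n15971 : Q := act 7 n15288
theorem D15971 : act 7 n15288 = n15971 := rfl
theorem F63161 : act 2 n15971 = n15303 := d19_1 D15971 (iv D15303) (iv F60409)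
theorem F63162 : act 4 n15971 = n15291 := d28_1 D15971 (iv D15291) (iv F60410)
theorem F63163 : act 5 n15971 = n15792 := d31_1 D15971 (iv D15792) (iv F60411)
def n15972 : Q := act 7 n15289
theorem D15972 : act 7 n15289 = n15972 := rfl
theorem F63164 : act 2 n15972 = n15304 := d19_1 D15972 (iv D15304) (iv F60412)
theorem F63165 : act 6 n15972 = n15291 := d33_1 D15972 (iv D15291) (iv F60414)
def n15973 : Q := act 7 n15290
theorem D15973 : act 7 n15290 = n15973 := rfl
theorem F63166 : act 2 n15973 = n15305 := d19_1 D15973 (iv D15305) (iv F60415)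
theorem F63167 : act 5 n15973 = n15292 := d31_1 D15973 (iv D15292) (iv F60416)
theorem F63168 : act 8 n15973 = n15291 := d35_2 D15290 D15973 (iv D15291) (iv D14520) D14519
def n15974 : Q := act 3 n15291
theorem D15974 : act 3 n15291 = n15974 := rfl
theorem F63169 : act 5 n15974 = n15293 := d22_2 (iv F60418) D15974 (iv D15293)
theorem F63170 : act 7 n15974 = n15295 := d24_2 D15291 D15974 (iv D15295) (iv D14524) (iv F57316)
def n15975 : Q := act 3 n15292
theorem D15975 : act 3 n15292 = n15975 := rfl
theorem F63171 : act 8 n15975 = n15293 := d25_2 (iv F60421) D15975 (iv D15293)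
def n15976 : Q := act 2 n15293
theorem D15976 : act 2 n15293 = n15976 := rfl
theorem F63172 : act 3 n15976 = n15308 := d15_2 D15293 D15976 (iv D15308) (iv D14535) (iv F57320)
theorem F63173 : act 7 n15976 = n15296 := d19_2 (iv F60422) D15976 (iv D15296)
def n15977 : Q := act 4 n15293
theorem D15977 : act 4 n15293 = n15977 := rfl
theorem F63174 : act 3 n15977 = n15798 := d21_1 D15977 (iv D15798) (iv D15074) (iv F57321) D15293
theorem F63175 : act 7 n15977 = n15297 := d28_2 (iv F60422) D15977 (iv D15297)
def n15978 : Q := act 3 n15294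
theorem D15978 : act 3 n15294 = n15978 := rfl
theorem F63176 : act 6 n15978 = n15295 := d23_2 (iv F60424) D15978 (iv D15295)
def n15979 : Q := act 2 n15295
theorem D15979 : act 2 n15295 = n15979 := rfl
theorem F63177 : act 3 n15979 = n15300 := d15_2 D15295 D15979 (iv D15300) (iv D14528) (iv F57324)
theorem F63178 : act 5 n15979 = n15296 := d17_2 (iv F60425) D15979 (iv D15296)
def n15980 : Q := act 4 n15295
theorem D15980 : act 4 n15295 = n15980 := rfl
def n15981 : Q := act 1 n15296
theorem D15981 : act 1 n15296 = n15981 := rfl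
theorem F63179 : act 3 n15981 = n15302 := d9_2 (iv F60426) D15981 (iv D15302)
def n15982 : Q := act 4 n15296
theorem D15982 : act 4 n15296 = n15982 := rfl
theorem F63180 : act 2 n15982 = n15297 := d16_1 D15982 (iv D15297) D15296
def n15983 : Q := act 5 n15297
theorem D15983 : act 5 n15297 = n15983 := rfl
theorem F63181 : act 3 n15983 = n15298 := d22_1 D15983 (iv D15298) (iv F60427)
def n15984 : Q := act 6 n15298
theorem D15984 : act 6 n15298 = n15984 := rfl
theorem F63182 : act 7 n15984 = n15805 := d33_2 (iv F60428) D15984 (iv D15805)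
def n15985 : Q := act 2 n15299
theorem D15985 : act 2 n15299 = n15985 := rfl
theorem F63183 : act 6 n15985 = n15300 := d18_2 (iv F60430) D15985 (iv D15300)
theorem F63184 : act 7 n15985 = n15315 := d19_2 (iv F60431) D15985 (iv D15315)
def n15986 : Q := act 1 n15300
theorem D15986 : act 1 n15300 = n15986 := rfl
theorem F63185 : act 2 n15986 = n15321 := d8_2 D15300 D15986 (iv D15321) (iv D14552) (iv F57329)
theorem F63186 : act 5 n15986 = n15302 := d11_2 (iv F60432) D15986 (iv D15302)
theorem F63187 : act 7 n15986 = n15316 := d13_2 (iv F60433) D15986 (iv D15316)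
def n15987 : Q := act 4 n15300
theorem D15987 : act 4 n15300 = n15987 := rfl
theorem F63188 : act 2 n15987 = n15301 := d16_1 D15987 (iv D15301) D15300
theorem F63189 : act 7 n15987 = n15317 := d28_2 (iv F60433) D15987 (iv D15317)
def n15988 : Q := act 0 n15302
theorem D15988 : act 0 n15302 = n15988 := rfl
theorem F63190 : act 2 n15988 = n15322 := d1_2 (iv F60436) D15988 (iv D15322)
theorem F63191 : act 7 n15988 = n15318 := d6_2 (iv F60437) D15988 (iv D15318)
def n15989 : Q := act 3 n15303
theorem D15989 : act 3 n15303 = n15989 := rfl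
theorem F63192 : act 0 n15989 = n15531 := d2_1 D15989 (iv F63030) F63028
theorem F63193 : act 1 n15989 = n15326 := d9_1 D15989 (iv D15326) (iv F60438)
theorem F63194 : act 5 n15989 = n15814 := d22_2 (iv F60440) D15989 (iv D15814)
theorem F63195 : act 7 n15989 = n15319 := d24_2 D15303 D15989 (iv D15319) (iv D14544) (iv F57334)
theorem F63196 : act 4 n15400 = n15989 := d28_3 F63195 F60483 D15400
def n15990 : Q := act 3 n15304
theorem D15990 : act 3 n15304 = n15990 := rfl
theorem F63197 : act 1 n15990 = n15327 := d9_1 D15990 (iv D15327) (iv F60441)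
theorem F63198 : act 6 n15990 = n15306 := d23_2 (iv F60442) D15990 (iv D15306)
theorem F63199 : act 7 n15990 = n15310 := d24_2 D15304 D15990 (iv D15310) (iv D14536) (iv F57338)
def n15991 : Q := act 3 n15305
theorem D15991 : act 3 n15305 = n15991 := rfl
theorem F63200 : act 1 n15991 = n15328 := d9_1 D15991 (iv D15328) (iv F60443)
theorem F63201 : act 5 n15991 = n15307 := d22_2 (iv F60444) D15991 (iv D15307)
theorem F63202 : act 7 n15991 = n15991 := d24_2 D15305 D15991 (iv D15991) (iv D15305) F57341
theorem F63203 : act 8 n15991 = n15306 := d25_2 (iv F60445) D15991 (iv D15306)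
def n15992 : Q := act 2 n15306
theorem D15992 : act 2 n15306 = n15992 := rfl
theorem F63204 : act 5 n15992 = n15308 := d17_2 (iv F60447) D15992 (iv D15308)
theorem F63205 : act 7 n15992 = n15311 := d19_2 (iv F60448) D15992 (iv D15311)
def n15993 : Q := act 4 n15306
theorem D15993 : act 4 n15306 = n15993 := rfl
theorem F63206 : act 0 n15993 = n15534 := d3_1 D15993 (iv F63042) F63040
theorem F63207 : act 1 n15993 = n15330 := d10_1 D15993 (iv D15330) (iv F60446)
theorem F63208 : act 3 n15993 = n15400 := d21_1 D15993 F63196 (iv D15989) F60439 D15306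
theorem F63209 : act 5 n15993 = n15402 := d26_2 (iv F60447) D15993 (iv F62228) F62229 (iv D15309)
theorem F63210 : act 7 n15993 = n15312 := d28_2 (iv F60448) D15993 (iv D15312)
def n15994 : Q := act 2 n15307
theorem D15994 : act 2 n15307 = n15994 := rfl
theorem F63211 : act 7 n15994 = n15994 := d19_2 F60450 D15994 (iv D15994)
theorem F63212 : act 8 n15994 = n15308 := d20_2 (iv F60451) D15994 (iv D15308)
def n15995 : Q := act 4 n15307
theorem D15995 : act 4 n15307 = n15995 := rfl
theorem F63213 : act 1 n15995 = n15332 := d10_1 D15995 (iv D15332) (iv F60449)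
theorem F63214 : act 3 n15995 = n15818 := d21_1 D15995 (iv D15818) (iv D15095) (iv F57346) D15307
theorem F63215 : act 7 n15995 = n15995 := d28_2 F60450 D15995 (iv D15995)
theorem F63216 : act 8 n15995 = n15309 := d29_2 (iv F60451) D15995 (iv D15309)
theorem F63217 : act 5 n15837 = n15995 := d36_3 D14316 D15126 D15837 (iv D15995) (iv D15307) F57345 (iv F56681) D15168 F59963 F56687 (iv D13449) (iv F53027) F53026 D14359 (iv F59632) (iv F61845) F61846 (iv D14887) F55599 (iv F55682) (iv D14082) (iv F53654) (iv D13593) (iv F53647) F53648 F49893 D13620 D14487 D15259 (iv F61149) F61148 (iv D15105) F56400 F52712 (iv F52167) F52170 F48783 (iv D11354) (iv F44678) F44677 D11356 (iv F48687) D13360 F52683 F51786 (iv D12308) F44474 F44475 F41536 F34413 F25406 F18827 F38706 F38664 (iv D3523) (iv D2580) D2581 F10384 (iv F13916) F13915 (iv F18728) (iv F23658) F23659 D8398 F38697 (iv F38616) D10174 F40191 (iv F43647) (iv F47604) (iv F49124) F49126 (iv D11441) F41316 (iv F41324) (iv F44952) (iv F49075) (iv F52626) (iv F56271) F56272 (iv D13326)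 (iv F52506) (iv F56178) (iv D14215) (iv F56132) (iv D14199) (iv F56123) F56124 F52849
def n15996 : Q := act 1 n15308
theorem D15996 : act 1 n15308 = n15996 := rfl
theorem F63218 : act 2 n15996 = n15333 := d8_2 D15308 D15996 (iv D15333) (iv D14566) (iv F57348)
theorem F63219 : act 7 n15996 = n15313 := d13_2 (iv F60452) D15996 (iv D15313)
def n15997 : Q := act 4 n15308
theorem D15997 : act 4 n15308 = n15997 := rfl
theorem F63220 : act 2 n15997 = n15309 := d16_1 D15997 (iv D15309) D15308
theorem F63221 : act 7 n15997 = n15314 := d28_2 (iv F60452) D15997 (iv D15314)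
def n15998 : Q := act 2 n15310
theorem D15998 : act 2 n15310 = n15998 := rfl
theorem F63222 : act 3 n15998 = n15315 := d15_2 D15310 D15998 (iv D15315) (iv D14540) (iv F57351)
theorem F63223 : act 6 n15998 = n15311 := d18_2 (iv F60457) D15998 (iv D15311)
theorem F63224 : act 8 n15998 = n15998 := d20_2 F60458 D15998 (iv D15998)
def n15999 : Q := act 1 n15311
theorem D15999 : act 1 n15311 = n15999 := rfl
theorem F63225 : act 2 n15999 = n15335 := d8_2 D15311 D15999 (iv D15335) (iv D14569) (iv F57355)
theorem F63226 : act 3 n15999 = n15316 := d9_2 (iv F60459) D15999 (iv D15316)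
theorem F63227 : act 5 n15999 = n15313 := d11_2 (iv F60460) D15999 (iv D15313)
theorem F63228 : act 8 n15999 = n15999 := d14_2 F60461 D15999 (iv D15999)
theorem F63229 : act 4 n15998 = n15999 := d21_0 F63226 (iv F61019) (iv F61716) F61717 (iv F63222)
def n16000 : Q := act 4 n15311
theorem D16000 : act 4 n15311 = n16000 := rfl
theorem F63230 : act 0 n16000 = n15539 := d3_1 D16000 (iv F63064) F63062
theorem F63231 : act 1 n16000 = n15998 := d10_1 D16000 F63229 (iv D15999)
theorem F63232 : act 2 n16000 = n15312 := d16_1 D16000 (iv D15312) D15311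
theorem F63233 : act 5 n16000 = n15403 := d26_2 (iv F60460) D16000 (iv F62868) F62869 (iv D15314)
theorem F63234 : act 6 n16000 = n15999 := d27_2 F63223 D16000 (iv F63229)
theorem F63235 : act 8 n16000 = n16000 := d29_2 F60461 D16000 (iv D16000)
theorem F63236 : act 3 n15404 = n16000 := d23_3 F63234 F63226 (iv F60876)
def n16001 : Q := act 0 n15313
theorem D16001 : act 0 n15313 = n16001 := rfl
theorem F63237 : act 2 n16001 = n15336 := d1_2 (iv F60467) D16001 (iv D15336)
theorem F63238 : act 3 n16001 = n15318 := d2_2 (iv F60468) D16001 (iv D15318)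
theorem F63239 : act 8 n16001 = n16001 := d7_2 F60469 D16001 (iv D16001)
def n16002 : Q := act 4 n15313
theorem D16002 : act 4 n15313 = n16002 := rfl
theorem F63240 : act 1 n16002 = n15314 := d10_1 D16002 (iv D15314) D15313
theorem F63241 : act 2 n16002 = n15337 := d16_1 D16002 (iv D15337) (iv F60467)
theorem F63242 : act 8 n16002 = n16002 := d29_2 F60469 D16002 (iv D16002)
def n16003 : Q := act 3 n15317
theorem D16003 : act 3 n15317 = n16003 := rfl
theorem F63243 : act 0 n16003 = n15427 := d2_1 D16003 (iv F61711) F61709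
theorem F63244 : act 1 n16003 = n15588 := d9_1 D16003 F61716 F61018
theorem F63245 : act 2 n16003 = n15320 := d15_1 D16003 (iv D15320) F57409 (iv F57369) (iv F60477)
theorem F63246 : act 4 n16003 = n15404 := d21_2 D15317 D16003 F63236 (iv D16000) F60459
theorem F63247 : act 5 n16003 = n15587 := d22_2 F61014 D16003 F61711
theorem F63248 : act 6 n16003 = n15428 := d23_2 F61719 D16003 (iv F61716)
theorem F63249 : act 8 n16003 = n16003 := d25_2 F60478 D16003 (iv D16003)
def n16004 : Q := act 2 n15319
theorem D16004 : act 2 n15319 = n16004 := rfl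
theorem F63250 : act 0 n16004 = n15510 := d1_1 D16004 F61387 (iv F60481)
theorem F63251 : act 3 n16004 = n15649 := d15_2 D15319 D16004 F61964 F59088 (iv F57375)
theorem F63252 : act 4 n16004 = n15387 := d16_2 (iv F60483) D16004 F60809
theorem F63253 : act 5 n16004 = n15821 := d17_2 (iv F60484) D16004 (iv D15821)
theorem F63254 : act 8 n16004 = n15384 := d20_2 (iv F60485) D16004 F60794
def n16005 : Q := act 7 n15320
theorem D16005 : act 7 n15320 = n16005 := rfl
theorem F63255 : act 0 n16005 = n15418 := d6_1 D16005 F60965 (iv F60486)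
theorem F63256 : act 1 n16005 = n15424 := d13_1 D16005 F60999 (iv F60487)
theorem F63257 : act 3 n16005 = n15417 := d24_1 D16005 (iv D15417) F57850 (iv F57412) D15320
theorem F63258 : act 4 n16005 = n15395 := d28_1 D16005 F60842 (iv F60488)
theorem F63259 : act 5 n16005 = n15584 := d31_1 D16005 F61698 (iv F60489)
theorem F63260 : act 6 n16005 = n15420 := d33_1 D16005 F60977 (iv F60490)
theorem F63261 : act 8 n15712 = n16005 := d32_0 F63259 F61699 (iv F62210)
def n16006 : Q := act 3 n15323
theorem D16006 : act 3 n15323 = n16006 := rfl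
theorem F63262 : act 0 n16006 = n16006 := d2_1 D16006 (iv D16006) F60496
theorem F63263 : act 5 n16006 = n15867 := d22_2 F62668 D16006 F62789
theorem F63264 : act 6 n16006 = n15324 := d23_2 (iv F60499) D16006 (iv D15324)
theorem F63265 : act 7 n16006 = n16006 := d24_2 D15323 D16006 (iv D16006) (iv D15323) F57436
theorem F63266 : act 8 n16006 = n15840 := d25_2 (iv F60500) D16006 (iv D15840)
def n16007 : Q := act 2 n15324
theorem D16007 : act 2 n15324 = n16007 := rfl
theorem F63267 : act 0 n16007 = n16007 := d1_1 D16007 (iv D16007) F60501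
theorem F63268 : act 3 n16007 = n15334 := d15_2 D15324 D16007 F60536 F57464 (iv F57440)
theorem F63269 : act 5 n16007 = n15325 := d17_2 (iv F60502) D16007 (iv D15325)
theorem F63270 : act 7 n16007 = n16007 := d19_2 F60503 D16007 (iv D16007)
theorem F63271 : act 8 n16007 = n15841 := d20_2 (iv F60504) D16007 (iv D15841)
theorem F63272 : act 4 n16006 = n16007 := d29_3 F63271 (iv F62683) (iv F63266)
def n16008 : Q := act 4 n15324
theorem D16008 : act 4 n15324 = n16008 := rfl
theorem F63273 : act 0 n16008 = n16008 := d3_1 D16008 (iv D16008) F60501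
theorem F63274 : act 2 n16008 = n16006 := d16_1 D16008 F63272 (iv D16007)
theorem F63275 : act 3 n16008 = n15869 := d21_1 D16008 (iv D15869) F59916 (iv F57441) D15324
theorem F63276 : act 6 n16008 = n16007 := d27_2 F63264 D16008 (iv F63272)
theorem F63277 : act 7 n16008 = n16008 := d28_2 F60503 D16008 (iv D16008)
theorem F63278 : act 8 n16008 = n15842 := d29_2 (iv F60504) D16008 (iv D15842)
def n16009 : Q := act 1 n15325
theorem D16009 : act 1 n15325 = n16009 := rfl
theorem F63279 : act 7 n16009 = n16009 := d13_2 F60506 D16009 (iv D16009)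
theorem F63280 : act 8 n16009 = n15843 := d14_2 (iv F60507) D16009 (iv D15843)
def n16010 : Q := act 2 n15328
theorem D16010 : act 2 n15328 = n16010 := rfl
theorem F63281 : act 0 n16010 = n16010 := d1_1 D16010 (iv D16010) F60514
theorem F63282 : act 3 n16010 = n15875 := d15_2 D15328 D16010 F62830 (iv D15873) F59952
theorem F63283 : act 5 n16010 = n15331 := d17_2 (iv F60515) D16010 (iv D15331)
theorem F63284 : act 7 n16010 = n16010 := d19_2 F60516 D16010 (iv D16010)
theorem F63285 : act 8 n16010 = n15329 := d20_2 (iv F60517) D16010 (iv D15329)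
theorem F63286 : act 4 n15871 = n16010 := d29_3 F63285 (iv F60521) (iv F62810)
def n16011 : Q := act 4 n15328
theorem D16011 : act 4 n15328 = n16011 := rfl
theorem F63287 : act 0 n16011 = n16011 := d3_1 D16011 (iv D16011) F60514
theorem F63288 : act 2 n16011 = n15871 := d16_1 D16011 F63286 (iv D16010)
theorem F63289 : act 3 n16011 = n15567 := d21_1 D16011 F62817 (iv D15872) F59947 D15328
theorem F63290 : act 5 n16011 = n15568 := d26_2 (iv F60515) D16011 F61618 F60533 (iv D15332)
theorem F63291 : act 6 n16011 = n16010 := d27_2 F62808 D16011 (iv F63286)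
theorem F63292 : act 7 n16011 = n16011 := d28_2 F60516 D16011 (iv D16011)
theorem F63293 : act 8 n16011 = n15330 := d29_2 (iv F60517) D16011 (iv D15330)
def n16012 : Q := act 1 n15329
theorem D16012 : act 1 n15329 = n16012 := rfl
theorem F63294 : act 4 n16012 = n15990 := d10_2 F60521 D16012 F63197
theorem F63295 : act 5 n16012 = n15333 := d11_2 (iv F60519) D16012 (iv D15333)
theorem F63296 : act 6 n16012 = n15993 := d12_2 F60524 D16012 F63207
theorem F63297 : act 7 n16012 = n15335 := d13_2 (iv F60520) D16012 (iv D15335)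
def n16013 : Q := act 1 n15331
theorem D16013 : act 1 n15331 = n16013 := rfl
theorem F63298 : act 7 n16013 = n16013 := d13_2 F60527 D16013 (iv D16013)
theorem F63299 : act 8 n16013 = n15333 := d14_2 (iv F60528) D16013 (iv D15333)
def n16014 : Q := act 4 n15331
theorem D16014 : act 4 n15331 = n16014 := rfl
theorem F63300 : act 0 n16014 = n16014 := d3_1 D16014 (iv D16014) F60526
theorem F63301 : act 2 n16014 = n15332 := d16_1 D16014 (iv D15332) D15331
theorem F63302 : act 3 n16014 = n15841 := d21_1 D16014 (iv F62683) (iv D15840) (iv F61638) (iv F61641)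
theorem F63303 : act 5 n16014 = n15839 := d26_2 F63283 D16014 (iv F62778) (iv F62807) F63286
theorem F63304 : act 7 n16014 = n16014 := d28_2 F60527 D16014 (iv D16014)
theorem F63305 : act 8 n16014 = n15334 := d29_2 (iv F60528) D16014 (iv D15334)
def n16015 : Q := act 0 n15333
theorem D16015 : act 0 n15333 = n16015 := rfl
theorem F63306 : act 1 n16015 = n16015 := d0_2 D15333 D16015 (iv D16015) (iv D15333) F57461
theorem F63307 : act 7 n16015 = n15336 := d6_2 (iv F60534) D16015 (iv D15336)
def n16016 : Q := act 4 n15333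
theorem D16016 : act 4 n15333 = n16016 := rfl
theorem F63308 : act 1 n16016 = n15334 := d10_1 D16016 (iv D15334) D15333
theorem F63309 : act 7 n16016 = n15337 := d28_2 (iv F60534) D16016 (iv D15337)
def n16017 : Q := act 4 n15336
theorem D16017 : act 4 n15336 = n16017 := rfl
theorem F63310 : act 0 n16017 = n15337 := d3_1 D16017 (iv D15337) D15336
theorem F63311 : act 1 n16017 = n16017 := d10_1 D16017 (iv D16017) F60543
theorem F63312 : act 3 n16017 = n16017 := d21_1 D16017 (iv D16017) F60544 F57492 (iv F60544)
theorem F63313 : act 8 n16017 = n16017 := d29_2 F60545 D16017 (iv D16017)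
def n16018 : Q := act 8 n15338
theorem D16018 : act 8 n15338 = n16018 := rfl
theorem F63314 : act 0 n16018 = n15340 := d7_1 D16018 (iv D15340) D15338
theorem F63315 : act 1 n16018 = n15437 := d14_1 D16018 (iv D15437) (iv F60549)
theorem F63316 : act 2 n16018 = n16018 := d20_1 D16018 (iv D16018) F60550
theorem F63317 : act 3 n16018 = n15354 := d25_1 D16018 (iv D15354) (iv F60551)
theorem F63318 : act 4 n16018 = n15962 := d29_1 D16018 (iv D15962) F60555
theorem F63319 : act 5 n16018 = n15597 := d32_1 D16018 (iv D15597) (iv F60552)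
theorem F63320 : act 6 n16018 = n15696 := d34_1 D16018 (iv D15696) (iv F60553)
def n16019 : Q := act 8 n15339
theorem D16019 : act 8 n15339 = n16019 := rfl
theorem F63321 : act 0 n16019 = n15962 := d7_1 D16019 (iv D15962) (iv F60556)
theorem F63322 : act 1 n16019 = n15343 := d14_1 D16019 (iv D15343) (iv F60557)
theorem F63323 : act 2 n16019 = n16019 := d20_1 D16019 (iv D16019) F60558
theorem F63324 : act 3 n16019 = n15920 := d25_1 D16019 (iv D15920) (iv F60561)
theorem F63325 : act 4 n16019 = n15340 := d29_1 D16019 (iv D15340) D15339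
theorem F63326 : act 5 n16019 = n15909 := d32_1 D16019 (iv D15909) F60562
theorem F63327 : act 6 n16019 = n15504 := d34_1 D16019 (iv D15504) (iv F60559)
def n16020 : Q := act 7 n15340
theorem D16020 : act 7 n15340 = n16020 := rfl
theorem F63328 : act 1 n16020 = n15344 := d13_1 D16020 (iv D15344) (iv F60563)
theorem F63329 : act 2 n16020 = n16020 := d19_1 D16020 (iv D16020) F60564
theorem F63330 : act 5 n16020 = n15600 := d31_1 D16020 (iv D15600) (iv F60566)
def n16021 : Q := act 8 n15341
theorem D16021 : act 8 n15341 = n16021 := rfl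
theorem F63331 : act 0 n16021 = n15442 := d7_1 D16021 (iv D15442) (iv F60567)
theorem F63332 : act 1 n16021 = n15920 := d14_1 D16021 (iv D15920) (iv F60568)
theorem F63333 : act 2 n16021 = n16021 := d20_1 D16021 (iv D16021) F60569
theorem F63334 : act 3 n16021 = n15343 := d25_1 D16021 (iv D15343) D15341
theorem F63335 : act 4 n16021 = n15360 := d29_1 D16021 (iv D15360) (iv F60570)
theorem F63336 : act 5 n16021 = n15914 := d32_1 D16021 (iv D15914) F60573
theorem F63337 : act 6 n16021 = n15467 := d34_1 D16021 (iv D15467) (iv F60571)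
def n16022 : Q := act 8 n15342
theorem D16022 : act 8 n15342 = n16022 := rfl
theorem F63338 : act 0 n16022 = n15444 := d7_1 D16022 (iv D15444) (iv F60574)
theorem F63339 : act 1 n16022 = n15909 := d14_1 D16022 (iv D15909) (iv F60575)
theorem F63340 : act 2 n16022 = n15345 := d20_1 D16022 (iv D15345) (iv F60576)
theorem F63341 : act 3 n16022 = n15914 := d25_1 D16022 (iv D15914) (iv F60577)
theorem F63342 : act 4 n16022 = n15603 := d29_1 D16022 (iv D15603) (iv F60578)
theorem F63343 : act 5 n16022 = n15343 := d32_1 D16022 (iv D15343) D15342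
def n16023 : Q := act 7 n15343
theorem D16023 : act 7 n15343 = n16023 := rfl
theorem F63344 : act 0 n16023 = n15445 := d6_1 D16023 (iv D15445) (iv F60580)
theorem F63345 : act 2 n16023 = n15346 := d19_1 D16023 (iv D15346) (iv F60581)
theorem F63346 : act 4 n16023 = n15344 := d28_1 D16023 (iv D15344) (iv F60582)
theorem F63347 : act 6 n16023 = n15514 := d33_1 D16023 (iv D15514) (iv F60583)
theorem F63348 : act 8 n16023 = n15486 := d35_2 D15343 D16023 (iv D15486) (iv D14730) (iv F57510)
def n16024 : Q := act 3 n15344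
theorem D16024 : act 3 n15344 = n16024 := rfl
theorem F63349 : act 0 n16024 = n15446 := d2_1 D16024 (iv D15446) (iv F60584)
theorem F63350 : act 2 n16024 = n15905 := d15_1 D16024 (iv D15905) F60198 (iv F57527) (iv F60585)
theorem F63351 : act 5 n16024 = n15605 := d22_2 (iv F60586) D16024 (iv D15605)
theorem F63352 : act 7 n16024 = n15363 := d24_2 D15344 D16024 (iv D15363) (iv D14596) (iv F57513)
def n16025 : Q := act 7 n15345
theorem D16025 : act 7 n15345 = n16025 := rfl
theorem F63353 : act 0 n16025 = n15448 := d6_1 D16025 (iv D15448) (iv F60587)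
theorem F63354 : act 1 n16025 = n16025 := d13_1 D16025 (iv D16025) F60588
theorem F63355 : act 4 n16025 = n15606 := d28_1 D16025 (iv D15606) (iv F60590)
theorem F63356 : act 5 n16025 = n15346 := d31_1 D16025 (iv D15346) (iv F60591)
theorem F63357 : act 8 n16025 = n15524 := d35_2 D15345 D16025 (iv D15524) (iv D14763) (iv F57519)
def n16026 : Q := act 3 n15346
theorem D16026 : act 3 n15346 = n16026 := rfl
theorem F63358 : act 0 n16026 = n15449 := d2_1 D16026 (iv D15449) (iv F60592)
theorem F63359 : act 1 n16026 = n16026 := d9_1 D16026 (iv D16026) F60593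
theorem F63360 : act 4 n16026 = n15907 := d21_2 (iv F60594) D16026 (iv D15907) F60207 (iv F57527)
theorem F63361 : act 6 n16026 = n15535 := d23_2 (iv F60595) D16026 (iv D15535)
theorem F63362 : act 7 n16026 = n16026 := d24_2 D15346 D16026 (iv D16026) (iv D15346) F57522
theorem F63363 : act 8 n16026 = n15525 := d25_2 (iv F60596) D16026 (iv D15525)
def n16027 : Q := act 7 n15347
theorem D16027 : act 7 n15347 = n16027 := rfl
theorem F63364 : act 0 n16027 = n15450 := d6_1 D16027 (iv D15450) (iv F60597)
theorem F63365 : act 1 n16027 = n15624 := d13_1 D16027 (iv D15624) (iv F60598)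
theorem F63366 : act 2 n16027 = n15348 := d19_1 D16027 (iv D15348) (iv F60599)
theorem F63367 : act 4 n16027 = n15579 := d28_1 D16027 (iv D15579) (iv F60600)
theorem F63368 : act 5 n16027 = n15352 := d31_1 D16027 (iv D15352) (iv F60601)
theorem F63369 : act 6 n16027 = n15608 := d33_1 D16027 (iv D15608) (iv F60602)
theorem F63370 : act 8 n16027 = n15368 := d35_2 D15347 D16027 (iv D15368) (iv D14601) (iv F57534)
def n16028 : Q := act 7 n15349
theorem D16028 : act 7 n15349 = n16028 := rfl
theorem F63371 : act 0 n16028 = n15699 := d6_1 D16028 (iv D15699) (iv F60610)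
theorem F63372 : act 1 n16028 = n15352 := d13_1 D16028 (iv D15352) (iv F60611)
theorem F63373 : act 2 n16028 = n15406 := d19_1 D16028 (iv D15406) (iv F60612)
theorem F63374 : act 4 n16028 = n15633 := d28_1 D16028 (iv D15633) (iv F60613)
theorem F63375 : act 5 n16028 = n15624 := d31_1 D16028 (iv D15624) (iv F60614)
theorem F63376 : act 6 n16028 = n15357 := d33_1 D16028 (iv D15357) (iv F60615)
theorem F63377 : act 8 n16028 = n15371 := d35_2 D15349 D16028 (iv D15371) (iv D14605) (iv F57545)
def n16029 : Q := act 8 n15350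
theorem D16029 : act 8 n15350 = n16029 := rfl
theorem F63378 : act 0 n16029 = n15452 := d7_1 D16029 (iv D15452) (iv F60616)
theorem F63379 : act 1 n16029 = n15630 := d14_1 D16029 (iv D15630) (iv F60617)
theorem F63380 : act 2 n16029 = n16029 := d20_1 D16029 (iv D16029) F60618
theorem F63381 : act 3 n16029 = n15351 := d25_1 D16029 (iv D15351) D15350
theorem F63382 : act 4 n16029 = n15467 := d29_1 D16029 (iv D15467) (iv F60619)
theorem F63383 : act 5 n16029 = n15627 := d32_1 D16029 (iv D15627) (iv F60620)
theorem F63384 : act 6 n16029 = n15360 := d34_1 D16029 (iv D15360) (iv F60621)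
def n16030 : Q := act 7 n15351
theorem D16030 : act 7 n15351 = n16030 := rfl
theorem F63385 : act 0 n16030 = n15453 := d6_1 D16030 (iv D15453) (iv F60623)
theorem F63386 : act 1 n16030 = n15633 := d13_1 D16030 (iv D15633) (iv F60624)
theorem F63387 : act 2 n16030 = n15353 := d19_1 D16030 (iv D15353) (iv F60625)
theorem F63388 : act 4 n16030 = n15352 := d28_1 D16030 (iv D15352) (iv F60626)
theorem F63389 : act 5 n16030 = n15628 := d31_1 D16030 (iv D15628) (iv F60627)
theorem F63390 : act 6 n16030 = n15362 := d33_1 D16030 (iv D15362) (iv F60628)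
theorem F63391 : act 8 n16030 = n15372 := d35_2 D15351 D16030 (iv D15372) (iv D14606) (iv F57552)
def n16031 : Q := act 3 n15352
theorem D16031 : act 3 n15352 = n16031 := rfl
theorem F63392 : act 0 n16031 = n15454 := d2_1 D16031 (iv D15454) (iv F60629)
theorem F63393 : act 2 n16031 = n15744 := d15_1 D16031 (iv D15744) F59427 (iv F57564) (iv F60630)
theorem F63394 : act 6 n16031 = n15363 := d23_2 (iv F60631) D16031 (iv D15363)
theorem F63395 : act 8 n16031 = n15373 := d25_2 (iv F60632) D16031 (iv D15373)
def n16032 : Q := act 3 n15353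
theorem D16032 : act 3 n15353 = n16032 := rfl
theorem F63396 : act 0 n16032 = n15455 := d2_1 D16032 (iv D15455) (iv F60633)
theorem F63397 : act 1 n16032 = n15408 := d9_1 D16032 (iv D15408) (iv F60634)
theorem F63398 : act 4 n16032 = n15822 := d21_2 (iv F60635) D16032 (iv D15822) F59685 (iv F57564)
theorem F63399 : act 5 n16032 = n15679 := d22_2 (iv F60636) D16032 (iv D15679)
theorem F63400 : act 6 n16032 = n15365 := d23_2 (iv F60637) D16032 (iv D15365)
theorem F63401 : act 7 n16032 = n16032 := d24_2 D15353 D16032 (iv D16032) (iv D15353) F57558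
theorem F63402 : act 8 n16032 = n15374 := d25_2 (iv F60638) D16032 (iv D15374)
def n16033 : Q := act 7 n15354
theorem D16033 : act 7 n15354 = n16033 := rfl
theorem F63403 : act 0 n16033 = n15357 := d6_1 D16033 (iv D15357) (iv F60639)
theorem F63404 : act 1 n16033 = n15456 := d13_1 D16033 (iv D15456) (iv F60640)
theorem F63405 : act 2 n16033 = n15409 := d19_1 D16033 (iv D15409) (iv F60641)
theorem F63406 : act 4 n16033 = n15769 := d28_1 D16033 (iv D15769) (iv F60642)
theorem F63407 : act 5 n16033 = n15611 := d31_1 D16033 (iv D15611) (iv F60643)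
theorem F63408 : act 6 n16033 = n15699 := d33_1 D16033 (iv D15699) (iv F60644)
theorem F63409 : act 8 n16033 = n15377 := d35_2 D15354 D16033 (iv D15377) (iv D14610) (iv F57571)
def n16034 : Q := act 8 n15355
theorem D16034 : act 8 n15355 = n16034 := rfl
theorem F63410 : act 0 n16034 = n15764 := d7_1 D16034 (iv D15764) (iv F60645)
theorem F63411 : act 1 n16034 = n15360 := d14_1 D16034 (iv D15360) (iv F60646)
theorem F63412 : act 2 n16034 = n15662 := d20_1 D16034 (iv D15662) (iv F60647)
theorem F63413 : act 3 n16034 = n15356 := d25_1 D16034 (iv D15356) D15355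
theorem F63414 : act 4 n16034 = n15920 := d29_1 D16034 (iv D15920) (iv F60648)
theorem F63415 : act 5 n16034 = n15650 := d32_1 D16034 (iv D15650) (iv F60649)
theorem F63416 : act 6 n16034 = n15630 := d34_1 D16034 (iv D15630) (iv F60650)
def n16035 : Q := act 7 n15356
theorem D16035 : act 7 n15356 = n16035 := rfl
theorem F63417 : act 0 n16035 = n15769 := d6_1 D16035 (iv D15769) (iv F60652)
theorem F63418 : act 1 n16035 = n15362 := d13_1 D16035 (iv D15362) (iv F60653)
theorem F63419 : act 2 n16035 = n15410 := d19_1 D16035 (iv D15410) (iv F60654)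
theorem F63420 : act 4 n16035 = n15357 := d28_1 D16035 (iv D15357) (iv F60655)
theorem F63421 : act 5 n16035 = n15655 := d31_1 D16035 (iv D15655) (iv F60656)
theorem F63422 : act 6 n16035 = n15633 := d33_1 D16035 (iv D15633) (iv F60657)
theorem F63423 : act 8 n16035 = n15382 := d35_2 D15356 D16035 (iv D15382) (iv D14613) (iv F57577)
def n16036 : Q := act 3 n15357
theorem D16036 : act 3 n15357 = n16036 := rfl
theorem F63424 : act 1 n16036 = n15363 := d9_1 D16036 (iv D15363) (iv F60658)
theorem F63425 : act 5 n16036 = n15614 := d22_2 (iv F60660) D16036 (iv D15614)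
theorem F63426 : act 8 n16036 = n15383 := d25_2 (iv F60661) D16036 (iv D15383)
def n16037 : Q := act 8 n15358
theorem D16037 : act 8 n15358 = n16037 := rfl
theorem F63427 : act 0 n16037 = n15466 := d7_1 D16037 (iv D15466) (iv F60662)
theorem F63428 : act 1 n16037 = n15650 := d14_1 D16037 (iv D15650) (iv F60663)
theorem F63429 : act 2 n16037 = n16037 := d20_1 D16037 (iv D16037) F60664
theorem F63430 : act 3 n16037 = n15361 := d25_1 D16037 (iv D15361) (iv F60665)
theorem F63431 : act 5 n16037 = n15360 := d32_1 D16037 (iv D15360) D15358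
theorem F63432 : act 6 n16037 = n15642 := d34_1 D16037 (iv D15642) (iv F60666)
def n16038 : Q := act 8 n15359
theorem D16038 : act 8 n15359 = n16038 := rfl
theorem F63433 : act 0 n16038 = n15467 := d7_1 D16038 (iv D15467) (iv F60667)
theorem F63434 : act 1 n16038 = n15919 := d14_1 D16038 (iv D15919) (iv F60668)
theorem F63435 : act 2 n16038 = n16038 := d20_1 D16038 (iv D16038) F60669
theorem F63436 : act 3 n16038 = n15388 := d25_1 D16038 (iv D15388) (iv F60670)
theorem F63437 : act 4 n16038 = n15452 := d29_1 D16038 (iv D15452) (iv F60671)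
theorem F63438 : act 6 n16038 = n15442 := d34_1 D16038 (iv D15442) (iv F60672)
def n16039 : Q := act 7 n15360
theorem D16039 : act 7 n15360 = n16039 := rfl
theorem F63439 : act 0 n16039 = n15468 := d6_1 D16039 (iv D15468) (iv F60673)
theorem F63440 : act 2 n16039 = n16039 := d19_1 D16039 (iv D16039) F60674
def n16040 : Q := act 7 n15361
theorem D16040 : act 7 n15361 = n16040 := rfl
theorem F63441 : act 0 n16040 = n15470 := d6_1 D16040 (iv D15470) (iv F60676)
theorem F63442 : act 1 n16040 = n15655 := d13_1 D16040 (iv D15655) (iv F60677)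
theorem F63443 : act 2 n16040 = n15364 := d19_1 D16040 (iv D15364) (iv F60678)
theorem F63444 : act 4 n16040 = n15620 := d28_1 D16040 (iv D15620) (iv F60679)
theorem F63445 : act 5 n16040 = n15362 := d31_1 D16040 (iv D15362) (iv F60680)
theorem F63446 : act 6 n16040 = n15645 := d33_1 D16040 (iv D15645) (iv F60681)
theorem F63447 : act 8 n16040 = n15391 := d35_2 D15361 D16040 (iv D15391) (iv D14619) (iv F57589)
def n16041 : Q := act 3 n15362
theorem D16041 : act 3 n15362 = n16041 := rfl
theorem F63448 : act 0 n16041 = n15471 := d2_1 D16041 (iv D15471) (iv F60682)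
theorem F63449 : act 8 n16041 = n15392 := d25_2 (iv F60685) D16041 (iv D15392)
def n16042 : Q := act 4 n15363
theorem D16042 : act 4 n15363 = n16042 := rfl
theorem F63450 : act 0 n16042 = n15472 := d3_1 D16042 (iv D15472) (iv F60686)
theorem F63451 : act 2 n16042 = n15912 := d16_1 D16042 (iv D15912) (iv F60687)
theorem F63452 : act 8 n16042 = n15393 := d29_2 (iv F60689) D16042 (iv D15393)
def n16043 : Q := act 3 n15364
theorem D16043 : act 3 n15364 = n16043 := rfl
theorem F63453 : act 0 n16043 = n15474 := d2_1 D16043 (iv D15474) (iv F60690)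
theorem F63454 : act 1 n16043 = n15413 := d9_1 D16043 (iv D15413) (iv F60691)
theorem F63455 : act 4 n16043 = n15712 := d21_2 (iv F60692) D16043 (iv D15712) F59332 (iv F58926)
theorem F63456 : act 5 n16043 = n15365 := d22_2 (iv F60693) D16043 (iv D15365)
theorem F63457 : act 6 n16043 = n15684 := d23_2 (iv F60694) D16043 (iv D15684)
theorem F63458 : act 7 n16043 = n16043 := d24_2 D15364 D16043 (iv D16043) (iv D15364) F57599
theorem F63459 : act 8 n16043 = n15395 := d25_2 (iv F60695) D16043 (iv D15395)
def n16044 : Q := act 2 n15365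
theorem D16044 : act 2 n15365 = n16044 := rfl
theorem F63460 : act 0 n16044 = n15475 := d1_1 D16044 (iv D15475) (iv F60696)
theorem F63461 : act 4 n16044 = n15913 := d16_2 (iv F60698) D16044 (iv D15913)
theorem F63462 : act 7 n16044 = n16044 := d19_2 F60699 D16044 (iv D16044)
theorem F63463 : act 8 n16044 = n15396 := d20_2 (iv F60700) D16044 (iv D15396)
def n16045 : Q := act 7 n15366
theorem D16045 : act 7 n15366 = n16045 := rfl
theorem F63464 : act 0 n16045 = n15577 := d6_1 D16045 (iv D15577) (iv F60701)
theorem F63465 : act 1 n16045 = n15368 := d13_1 D16045 (iv D15368) (iv F60702)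
theorem F63466 : act 2 n16045 = n15415 := d19_1 D16045 (iv D15415) (iv F60703)
theorem F63467 : act 4 n16045 = n15608 := d28_1 D16045 (iv D15608) (iv F60704)
theorem F63468 : act 5 n16045 = n15371 := d31_1 D16045 (iv D15371) (iv F60705)
theorem F63469 : act 6 n16045 = n15579 := d33_1 D16045 (iv D15579) (iv F60706)
theorem F63470 : act 8 n16045 = n15624 := d35_2 D15366 D16045 (iv D15624) (iv D14892) (iv F57611)
def n16046 : Q := act 7 n15367
theorem D16046 : act 7 n15367 = n16046 := rfl
theorem F63471 : act 0 n16046 = n15477 := d6_1 D16046 (iv D15477) (iv F60707)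
theorem F63472 : act 1 n16046 = n15608 := d13_1 D16046 (iv D15608) (iv F60708)
theorem F63473 : act 2 n16046 = n15369 := d19_1 D16046 (iv D15369) (iv F60709)
theorem F63474 : act 4 n16046 = n15368 := d28_1 D16046 (iv D15368) (iv F60710)
theorem F63475 : act 5 n16046 = n15609 := d31_1 D16046 (iv D15609) (iv F60711)
theorem F63476 : act 6 n16046 = n15624 := d33_1 D16046 (iv D15624) (iv F60712)
theorem F63477 : act 8 n16046 = n15579 := d35_2 D15367 D16046 (iv D15579) (iv D14845) (iv F57618)
def n16047 : Q := act 3 n15368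
theorem D16047 : act 3 n15368 = n16047 := rfl
theorem F63478 : act 0 n16047 = n15478 := d2_1 D16047 (iv D15478) (iv F60713)
theorem F63479 : act 2 n16047 = n15499 := d15_1 D16047 (iv D15499) F58284 (iv F57631) (iv F60714)
theorem F63480 : act 5 n16047 = n15373 := d22_2 (iv F60715) D16047 (iv D15373)
theorem F63481 : act 6 n16047 = n15625 := d23_2 (iv F60716) D16047 (iv D15625)
def n16048 : Q := act 3 n15369
theorem D16048 : act 3 n15369 = n16048 := rfl
theorem F63482 : act 0 n16048 = n15479 := d2_1 D16048 (iv D15479) (iv F60717)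
theorem F63483 : act 1 n16048 = n15416 := d9_1 D16048 (iv D15416) (iv F60718)
theorem F63484 : act 4 n16048 = n15555 := d21_2 (iv F60719) D16048 (iv D15555) F58512 (iv F57631)
theorem F63485 : act 5 n16048 = n15676 := d22_2 (iv F60720) D16048 (iv D15676)
theorem F63486 : act 6 n16048 = n15626 := d23_2 (iv F60721) D16048 (iv D15626)
theorem F63487 : act 7 n16048 = n16048 := d24_2 D15369 D16048 (iv D16048) (iv D15369) F57625
theorem F63488 : act 8 n16048 = n15585 := d25_2 (iv F60722) D16048 (iv D15585)
def n16049 : Q := act 7 n15370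
theorem D16049 : act 7 n15370 = n16049 := rfl
theorem F63489 : act 0 n16049 = n15371 := d6_1 D16049 (iv D15371) (iv F60723)
theorem F63490 : act 1 n16049 = n15480 := d13_1 D16049 (iv D15480) (iv F60724)
theorem F63491 : act 2 n16049 = n15417 := d19_1 D16049 (iv D15417) (iv F60725)
theorem F63492 : act 4 n16049 = n15660 := d28_1 D16049 F61999 (iv F60727)
theorem F63493 : act 5 n16049 = n15577 := d31_1 D16049 (iv D15577) (iv F60728)
theorem F63494 : act 6 n16049 = n15377 := d33_1 D16049 (iv D15377) (iv F60729)
theorem F63495 : act 8 n16049 = n15699 := d35_2 D15370 D16049 (iv D15699) (iv D14978) (iv F57640)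
def n16050 : Q := act 3 n15371
theorem D16050 : act 3 n15371 = n16050 := rfl
theorem F63496 : act 1 n16050 = n15373 := d9_1 D16050 (iv D15373) (iv F60730)
theorem F63497 : act 6 n16050 = n15383 := d23_2 (iv F60733) D16050 (iv D15383)
def n16051 : Q := act 3 n15372
theorem D16051 : act 3 n15372 = n16051 := rfl
theorem F63498 : act 0 n16051 = n15489 := d2_1 D16051 (iv D15489) (iv F60734)
theorem F63499 : act 1 n16051 = n15800 := d9_1 D16051 F62516 (iv F60735)
theorem F63500 : act 5 n16051 = n15802 := d22_2 (iv F60738) D16051 F62518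
theorem F63501 : act 6 n16051 = n15392 := d23_2 (iv F60739) D16051 (iv D15392)
def n16052 : Q := act 4 n15373
theorem D16052 : act 4 n15373 = n16052 := rfl
theorem F63502 : act 0 n16052 = n15490 := d3_1 D16052 (iv D15490) (iv F60740)
theorem F63503 : act 2 n16052 = n15780 := d16_1 D16052 (iv D15780) (iv F60741)
theorem F63504 : act 6 n16052 = n15393 := d27_2 (iv F60742) D16052 (iv D15393)
def n16053 : Q := act 2 n15374
theorem D16053 : act 2 n15374 = n16053 := rfl
theorem F63505 : act 0 n16053 = n15493 := d1_1 D16053 (iv D15493) (iv F60743)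
theorem F63506 : act 1 n16053 = n15828 := d8_1 D16053 (iv D15828) F59709 (iv F57864) (iv F60744)
theorem F63507 : act 4 n16053 = n15827 := d16_2 (iv F60745) D16053 (iv D15827)
theorem F63508 : act 5 n16053 = n15830 := d17_2 (iv F60746) D16053 F62623
theorem F63509 : act 6 n16053 = n15396 := d18_2 (iv F60747) D16053 (iv D15396)
theorem F63510 : act 7 n16053 = n15397 := d19_2 (iv F60748) D16053 (iv D15397)
def n16054 : Q := act 8 n15375
theorem D16054 : act 8 n15375 = n16054 := rfl
theorem F63511 : act 0 n16054 = n15380 := d7_1 D16054 (iv D15380) (iv F60749)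
theorem F63512 : act 1 n16054 = n15496 := d14_1 D16054 (iv D15496) (iv F60750)
theorem F63513 : act 2 n16054 = n15673 := d20_1 D16054 F62064 (iv F60751)
theorem F63514 : act 3 n16054 = n15376 := d25_1 D16054 (iv D15376) D15375
theorem F63515 : act 4 n16054 = n15703 := d29_1 D16054 (iv D15703) (iv F60752)
theorem F63516 : act 5 n16054 = n15754 := d32_1 D16054 (iv D15754) (iv F60753)
theorem F63517 : act 6 n16054 = n15674 := d34_1 D16054 F62069 (iv F60754)
def n16055 : Q := act 7 n15376
theorem D16055 : act 7 n15376 = n16055 := rfl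
theorem F63518 : act 0 n16055 = n15382 := d6_1 D16055 (iv D15382) (iv F60756)
theorem F63519 : act 1 n16055 = n15498 := d13_1 D16055 (iv D15498) (iv F60757)
theorem F63520 : act 2 n16055 = n15419 := d19_1 D16055 (iv D15419) (iv F60758)
theorem F63521 : act 4 n16055 = n15377 := d28_1 D16055 (iv D15377) (iv F60759)
theorem F63522 : act 5 n16055 = n15759 := d31_1 D16055 (iv D15759) (iv F60760)
theorem F63523 : act 6 n16055 = n15660 := d33_1 D16055 F61999 (iv F60761)
theorem F63524 : act 8 n16055 = n15769 := d35_2 D15376 D16055 (iv D15769) (iv D15048) (iv F57663)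
def n16056 : Q := act 3 n15377
theorem D16056 : act 3 n15377 = n16056 := rfl
theorem F63525 : act 0 n16056 = n15383 := d2_1 D16056 (iv D15383) (iv F60762)
theorem F63526 : act 1 n16056 = n15499 := d9_1 D16056 (iv D15499) (iv F60763)
theorem F63527 : act 5 n16056 = n15639 := d22_2 (iv F60765) D16056 (iv D15639)
def n16057 : Q := act 8 n15378
theorem D16057 : act 8 n15378 = n16057 := rfl
theorem F63528 : act 0 n16057 = n15754 := d7_1 D16057 (iv D15754) (iv F60766)
theorem F63529 : act 1 n16057 = n15387 := d14_1 D16057 (iv D15387) (iv F60767)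
theorem F63530 : act 2 n16057 = n15812 := d20_1 D16057 F62553 (iv F60768)
theorem F63531 : act 3 n16057 = n15381 := d25_1 D16057 (iv D15381) (iv F60769)
theorem F63532 : act 5 n16057 = n15380 := d32_1 D16057 (iv D15380) D15378
theorem F63533 : act 6 n16057 = n15617 := d34_1 D16057 (iv D15617) (iv F60770)
def n16058 : Q := act 7 n15380
theorem D16058 : act 7 n15380 = n16058 := rfl
theorem F63534 : act 1 n16058 = n15389 := d13_1 D16058 (iv D15389) (iv F60777)
theorem F63535 : act 2 n16058 = n15815 := d19_1 D16058 F62569 (iv F60778)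
theorem F63536 : act 6 n16058 = n15816 := d33_1 D16058 F62574 (iv F60780)
def n16059 : Q := act 7 n15381
theorem D16059 : act 7 n15381 = n16059 := rfl
theorem F63537 : act 0 n16059 = n15759 := d6_1 D16059 (iv D15759) (iv F60781)
theorem F63538 : act 1 n16059 = n15391 := d13_1 D16059 (iv D15391) (iv F60782)
theorem F63539 : act 2 n16059 = n15421 := d19_1 D16059 (iv D15421) (iv F60783)
theorem F63540 : act 4 n16059 = n15645 := d28_1 D16059 (iv D15645) (iv F60784)
theorem F63541 : act 5 n16059 = n15382 := d31_1 D16059 (iv D15382) (iv F60785)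
theorem F63542 : act 6 n16059 = n15620 := d33_1 D16059 (iv D15620) (iv F60786)
theorem F63543 : act 8 n16059 = n15655 := d35_2 D15381 D16059 (iv D15655) (iv D14920) (iv F57677)
def n16060 : Q := act 3 n15382
theorem D16060 : act 3 n15382 = n16060 := rfl
theorem F63544 : act 1 n16060 = n15392 := d9_1 D16060 (iv D15392) (iv F60787)
theorem F63545 : act 2 n16060 = n15799 := d15_1 D16060 (iv D15799) F59592 (iv F57885) (iv F60788)
theorem F63546 : act 6 n16060 = n15800 := d23_2 (iv F60790) D16060 F62516
def n16061 : Q := act 2 n15383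
theorem D16061 : act 2 n15383 = n16061 := rfl
theorem F63547 : act 1 n16061 = n15917 := d8_1 D16061 (iv D15917) F60238 (iv F57709) (iv F60791)
theorem F63548 : act 3 n16061 = n15422 := d15_2 D15383 D16061 (iv D15422) (iv D14658) (iv F57683)
theorem F63549 : act 5 n16061 = n15647 := d17_2 (iv F60792) D16061 (iv D15647)
def n16062 : Q := act 4 n15383
theorem D16062 : act 4 n15383 = n16062 := rfl
theorem F63550 : act 1 n16062 = n15393 := d10_1 D16062 (iv D15393) (iv F60791)
def n16063 : Q := act 8 n15385
theorem D16063 : act 8 n15385 = n16063 := rfl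
theorem F63551 : act 0 n16063 = n15511 := d7_1 D16063 (iv D15511) (iv F60798)
theorem F63552 : act 1 n16063 = n15617 := d14_1 D16063 (iv D15617) (iv F60799)
theorem F63553 : act 2 n16063 = n15398 := d20_1 D16063 (iv D15398) (iv F60800)
theorem F63554 : act 3 n16063 = n15390 := d25_1 D16063 (iv D15390) (iv F60801)
theorem F63555 : act 5 n16063 = n15612 := d32_1 D16063 (iv D15612) (iv F60802)
theorem F63556 : act 6 n16063 = n15387 := d34_1 D16063 (iv D15387) D15385
def n16064 : Q := act 8 n15386
theorem D16064 : act 8 n15386 = n16064 := rfl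
theorem F63557 : act 0 n16064 = n15512 := d7_1 D16064 (iv D15512) (iv F60803)
theorem F63558 : act 1 n16064 = n16004 := d14_1 D16064 F63254 (iv F60804)
theorem F63559 : act 2 n16064 = n15399 := d20_1 D16064 (iv D15399) (iv F60805)
theorem F63560 : act 4 n16064 = n16057 := d29_1 D16064 (iv D16057) (iv F60806)
theorem F63561 : act 5 n16064 = n15388 := d32_1 D16064 (iv D15388) (iv F60807)
def n16065 : Q := act 7 n15387
theorem D16065 : act 7 n15387 = n16065 := rfl
theorem F63562 : act 0 n16065 = n15513 := d6_1 D16065 (iv D15513) (iv F60808)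
theorem F63563 : act 2 n16065 = n15400 := d19_1 D16065 (iv D15400) (iv F60809)
theorem F63564 : act 5 n16065 = n15389 := d31_1 D16065 (iv D15389) (iv F60811)
def n16066 : Q := act 7 n15388
theorem D16066 : act 7 n15388 = n16066 := rfl
theorem F63565 : act 0 n16066 = n15514 := d6_1 D16066 (iv D15514) (iv F60812)
theorem F63566 : act 2 n16066 = n15401 := d19_1 D16066 (iv D15401) (iv F60813)
theorem F63567 : act 4 n16066 = n15435 := d28_1 D16066 (iv D15435) (iv F60814)
theorem F63568 : act 6 n16066 = n15445 := d33_1 D16066 (iv D15445) (iv F60815)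
theorem F63569 : act 8 n16066 = n15389 := d35_2 D15388 D16066 (iv D15389) (iv D14617) D14616
def n16067 : Q := act 3 n15389
theorem D16067 : act 3 n15389 = n16067 := rfl
theorem F63570 : act 0 n16067 = n15515 := d2_1 D16067 (iv D15515) (iv F60816)
theorem F63571 : act 7 n16067 = n15392 := d24_2 D15389 D16067 (iv D15392) (iv D14620) (iv F57694)
def n16068 : Q := act 7 n15390
theorem D16068 : act 7 n15390 = n16068 := rfl
theorem F63572 : act 0 n16068 = n15516 := d6_1 D16068 (iv D15516) (iv F60818)
theorem F63573 : act 1 n16068 = n15620 := d13_1 D16068 (iv D15620) (iv F60819)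
theorem F63574 : act 2 n16068 = n15394 := d19_1 D16068 (iv D15394) (iv F60820)
theorem F63575 : act 4 n16068 = n15655 := d28_1 D16068 (iv D15655) (iv F60821)
theorem F63576 : act 5 n16068 = n15613 := d31_1 D16068 (iv D15613) (iv F60822)
theorem F63577 : act 6 n16068 = n15391 := d33_1 D16068 (iv D15391) (iv F60823)
theorem F63578 : act 8 n16068 = n15645 := d35_2 D15390 D16068 (iv D15645) (iv D14911) (iv F57700)
def n16069 : Q := act 3 n15391
theorem D16069 : act 3 n15391 = n16069 := rfl
theorem F63579 : act 0 n16069 = n15517 := d2_1 D16069 (iv D15517) (iv F60824)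
theorem F63580 : act 5 n16069 = n15392 := d22_2 (iv F60827) D16069 (iv D15392)
def n16070 : Q := act 2 n15392
theorem D16070 : act 2 n15392 = n16070 := rfl
theorem F63581 : act 0 n16070 = n15518 := d1_1 D16070 (iv D15518) (iv F60828)
theorem F63582 : act 3 n16070 = n15396 := d15_2 D15392 D16070 (iv D15396) (iv D14624) (iv F57706)
def n16071 : Q := act 4 n15392
theorem D16071 : act 4 n15392 = n16071 := rfl
theorem F63583 : act 0 n16071 = n15519 := d3_1 D16071 (iv D15519) (iv F60828)
theorem F63584 : act 3 n16071 = n15393 := d21_1 D16071 (iv D15393) (iv D14621) (iv F57707) D15392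
def n16072 : Q := act 5 n15393
theorem D16072 : act 5 n15393 = n16072 := rfl
theorem F63585 : act 0 n16072 = n15520 := d4_1 D16072 (iv D15520) (iv F60829)
theorem F63586 : act 2 n16072 = n15927 := d17_1 D16072 (iv D15927) (iv F60830)
theorem F63587 : act 4 n16072 = n15659 := d26_1 D16072 (iv D15659) (iv D14923) (iv F57710) D15393
def n16073 : Q := act 2 n15395
theorem D16073 : act 2 n15395 = n16073 := rfl
theorem F63588 : act 0 n16073 = n15521 := d1_1 D16073 (iv D15521) (iv F60838)
theorem F63589 : act 1 n16073 = n15985 := d8_1 D16073 (iv D15985) F60429 (iv F57912) (iv F60839)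
theorem F63590 : act 5 n16073 = n15396 := d17_2 (iv F60840) D16073 (iv D15396)
theorem F63591 : act 6 n16073 = n15986 := d18_2 (iv F60841) D16073 F63185
theorem F63592 : act 7 n16073 = n15404 := d19_2 (iv F60842) D16073 (iv D15404)
def n16074 : Q := act 1 n15396
theorem D16074 : act 1 n15396 = n16074 := rfl
theorem F63593 : act 2 n16074 = n15425 := d8_2 D15396 D16074 (iv D15425) (iv D14663) (iv F57722)
theorem F63594 : act 4 n16074 = n15929 := d10_2 (iv F60844) D16074 (iv D15929)
theorem F63595 : act 5 n16074 = n15985 := d11_2 F63590 D16074 (iv F63589)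
theorem F63596 : act 6 n16074 = n15828 := d12_2 F63509 D16074 (iv F63506)
theorem F63597 : act 7 n16074 = n15405 := d13_2 (iv F60845) D16074 (iv D15405)
def n16075 : Q := act 7 n15398
theorem D16075 : act 7 n15398 = n16075 := rfl
theorem F63598 : act 0 n16075 = n15532 := d6_1 D16075 (iv D15532) (iv F60852)
theorem F63599 : act 1 n16075 = n15874 := d13_1 D16075 F62827 (iv F60853)
theorem F63600 : act 3 n16075 = n16012 := d24_1 D16075 F63297 F60538 F57756 (iv F60854)
theorem F63601 : act 5 n16075 = n15876 := d31_1 D16075 F62837 (iv F60855)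
theorem F63602 : act 6 n16075 = n15400 := d33_1 D16075 (iv D15400) (iv F60856)
def n16076 : Q := act 7 n15399
theorem D16076 : act 7 n15399 = n16076 := rfl
theorem F63603 : act 0 n16076 = n15533 := d6_1 D16076 (iv D15533) (iv F60857)
theorem F63604 : act 1 n16076 = n15567 := d13_1 D16076 (iv D15567) (iv F60858)
theorem F63605 : act 5 n16076 = n15401 := d31_1 D16076 (iv D15401) (iv F60860)
theorem F63606 : act 8 n16076 = n15400 := d35_2 D15399 D16076 (iv D15400) (iv D14629) D14628
def n16077 : Q := act 3 n15401
theorem D16077 : act 3 n15401 = n16077 := rfl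
theorem F63607 : act 0 n16077 = n15535 := d2_1 D16077 (iv D15535) (iv F60863)
theorem F63608 : act 1 n16077 = n15568 := d9_1 D16077 (iv D15568) (iv F60864)
theorem F63609 : act 4 n16077 = n15837 := d21_2 (iv F60865) D16077 (iv D15837) F59780 (iv F58064)
theorem F63610 : act 6 n16077 = n15449 := d23_2 (iv F60866) D16077 (iv D15449)
theorem F63611 : act 7 n16077 = n16077 := d24_2 D15401 D16077 (iv D16077) (iv D15401) F57746
theorem F63612 : act 8 n16077 = n15402 := d25_2 (iv F60867) D16077 (iv D15402)
def n16078 : Q := act 2 n15402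
theorem D16078 : act 2 n15402 = n16078 := rfl
theorem F63613 : act 0 n16078 = n15536 := d1_1 D16078 (iv D15536) (iv F60868)
theorem F63614 : act 7 n16078 = n15403 := d19_2 (iv F60869) D16078 (iv D15403)
def n16079 : Q := act 1 n15403
theorem D16079 : act 1 n15403 = n16079 := rfl
theorem F63615 : act 2 n16079 = n15860 := d8_2 D15403 D16079 F62758 (iv F60147) F60146
theorem F63616 : act 3 n16079 = n15405 := d9_2 (iv F60871) D16079 (iv D15405)
theorem F63617 : act 5 n16079 = n15998 := d11_2 F63233 D16079 (iv F63231)
theorem F63618 : act 6 n16079 = n15861 := d12_2 F62865 D16079 (iv F62861)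
theorem F63619 : act 8 n16079 = n16079 := d14_2 F60872 D16079 (iv D16079)
def n16080 : Q := act 0 n15405
theorem D16080 : act 0 n15405 = n16080 := rfl
theorem F63620 : act 1 n16080 = n15543 := d0_2 D15405 D16080 (iv D15543) (iv D14781) (iv F57764)
theorem F63621 : act 2 n16080 = n15426 := d1_2 (iv F60878) D16080 (iv D15426)
theorem F63622 : act 4 n16080 = n15941 := d3_2 (iv F60879) D16080 (iv D15941)
theorem F63623 : act 5 n16080 = n15589 := d4_2 (iv F60880) D16080 F61721
theorem F63624 : act 6 n16080 = n15877 := d5_2 (iv F60881) D16080 F62838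
theorem F63625 : act 8 n16080 = n16080 := d7_2 F60882 D16080 (iv D16080)
def n16081 : Q := act 3 n15406
theorem D16081 : act 3 n15406 = n16081 := rfl
theorem F63626 : act 0 n16081 = n15712 := d2_1 D16081 (iv D15712) (iv F60883)
theorem F63627 : act 1 n16081 = n15407 := d9_1 D16081 (iv D15407) (iv F60884)
theorem F63628 : act 4 n16081 = n15474 := d21_2 (iv F60885) D16081 (iv D15474) F58184 (iv F58977)
theorem F63629 : act 5 n16081 = n15626 := d22_2 (iv F60886) D16081 (iv D15626)
theorem F63630 : act 6 n16081 = n15411 := d23_2 (iv F60887) D16081 (iv D15411)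
theorem F63631 : act 7 n16081 = n16081 := d24_2 D15406 D16081 (iv D16081) (iv D15406) F57776
theorem F63632 : act 8 n16081 = n15418 := d25_2 (iv F60888) D16081 (iv D15418)
def n16082 : Q := act 3 n15409
theorem D16082 : act 3 n15409 = n16082 := rfl
theorem F63633 : act 0 n16082 = n15411 := d2_1 D16082 (iv D15411) (iv F60903)
theorem F63634 : act 1 n16082 = n15430 := d9_1 D16082 (iv D15430) (iv F60904)
theorem F63635 : act 4 n16082 = n15684 := d21_2 (iv F60905) D16082 (iv D15684) (iv F60981) F60980
theorem F63636 : act 5 n16082 = n15677 := d22_2 (iv F60906) D16082 (iv D15677)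
theorem F63637 : act 6 n16082 = n15712 := d23_2 (iv F60907) D16082 (iv D15712)
theorem F63638 : act 7 n16082 = n16082 := d24_2 D15409 D16082 (iv D16082) (iv D15409) F57794
theorem F63639 : act 8 n16082 = n15420 := d25_2 (iv F60908) D16082 (iv D15420)
def n16083 : Q := act 2 n15411
theorem D16083 : act 2 n15411 = n16083 := rfl
theorem F63640 : act 1 n16083 = n15942 := d8_1 D16083 (iv D15942) F60316 (iv F57815) (iv F60916)
theorem F63641 : act 5 n16083 = n15678 := d17_2 (iv F60917) D16083 (iv D15678)
theorem F63642 : act 7 n16083 = n16083 := d19_2 F60918 D16083 (iv D16083)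
theorem F63643 : act 8 n16083 = n15422 := d20_2 (iv F60919) D16083 (iv D15422)
def n16084 : Q := act 4 n15411
theorem D16084 : act 4 n15411 = n16084 := rfl
theorem F63644 : act 0 n16084 = n15684 := d3_1 D16084 (iv F63635) F63633
theorem F63645 : act 1 n16084 = n15412 := d10_1 D16084 (iv D15412) (iv F60916)
theorem F63646 : act 3 n16084 = n15473 := d21_1 D16084 F61224 (iv F60911) F60912 D15411
theorem F63647 : act 6 n16084 = n15474 := d27_2 F63630 D16084 (iv F63628)
theorem F63648 : act 7 n16084 = n16084 := d28_2 F60918 D16084 (iv D16084)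
theorem F63649 : act 8 n16084 = n15423 := d29_2 (iv F60919) D16084 (iv D15423)
theorem F63650 : act 5 n15682 = n16084 := d32_3 F63649 (iv F60993) (iv F62107)
def n16085 : Q := act 1 n15414
theorem D16085 : act 1 n15414 = n16085 := rfl
theorem F63651 : act 0 n16085 = n15557 := d0_1 D16085 F61564 F58532 F57999 (iv F60934)
theorem F63652 : act 3 n16085 = n15554 := d9_2 (iv F60935) D16085 F61548
theorem F63653 : act 4 n16085 = n15944 := d10_2 (iv F60936) D16085 (iv D15944)
theorem F63654 : act 5 n16085 = n15555 := d11_2 (iv F60937) D16085 F61554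
theorem F63655 : act 6 n16085 = n15823 := d12_2 (iv F60938) D16085 F62597
theorem F63656 : act 7 n16085 = n16085 := d13_2 F60939 D16085 (iv D16085)
theorem F63657 : act 8 n16085 = n15425 := d14_2 (iv F60940) D16085 (iv D15425)
def n16086 : Q := act 2 n15418
theorem D16086 : act 2 n15418 = n16086 := rfl
theorem F63658 : act 1 n16086 = n15683 := d8_1 D16086 (iv D15683) F59187 (iv F57858) (iv F60961)
theorem F63659 : act 4 n16086 = n15521 := d16_2 (iv F60962) D16086 (iv D15521)
theorem F63660 : act 5 n16086 = n15987 := d17_2 (iv F60963) D16086 F63188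
theorem F63661 : act 6 n16086 = n15422 := d18_2 (iv F60964) D16086 (iv D15422)
theorem F63662 : act 7 n16086 = n15427 := d19_2 (iv F60965) D16086 (iv D15427)
def n16087 : Q := act 2 n15420
theorem D16087 : act 2 n15420 = n16087 := rfl
theorem F63663 : act 0 n16087 = n15422 := d1_1 D16087 (iv D15422) (iv F60973)
theorem F63664 : act 1 n16087 = n15987 := d8_1 D16087 F63188 F60434 (iv F58028) (iv F60974)
theorem F63665 : act 4 n16087 = n15986 := d16_2 (iv F60975) D16087 F63185
theorem F63666 : act 5 n16087 = n15683 := d17_2 (iv F60976) D16087 (iv D15683)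
theorem F63667 : act 7 n16087 = n15428 := d19_2 (iv F60977) D16087 (iv D15428)
def n16088 : Q := act 4 n15422
theorem D16088 : act 4 n15422 = n16088 := rfl
theorem F63668 : act 0 n16088 = n15986 := d3_1 D16088 (iv F63665) F63663
theorem F63669 : act 1 n16088 = n15947 := d10_1 D16088 (iv D15947) (iv F60985)
theorem F63670 : act 2 n16088 = n15423 := d16_1 D16088 (iv D15423) D15422
theorem F63671 : act 6 n16088 = n15521 := d27_2 F63661 D16088 (iv F63659)
theorem F63672 : act 7 n16088 = n15429 := d28_2 (iv F60987) D16088 (iv D15429)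
theorem F63673 : act 5 n15988 = n16088 := d31_3 F63672 (iv F61027) (iv F63191)
def n16089 : Q := act 0 n15425
theorem D16089 : act 0 n15425 = n16089 := rfl
theorem F63674 : act 1 n16089 = n15431 := d0_2 D15425 D16089 (iv D15431) (iv D14682) (iv F57916)
theorem F63675 : act 3 n16089 = n15545 := d2_2 (iv F61001) D16089 F61493
theorem F63676 : act 4 n16089 = n15948 := d3_2 (iv F61002) D16089 F63093
theorem F63677 : act 5 n16089 = n15546 := d4_2 (iv F61003) D16089 F61499
theorem F63678 : act 6 n16089 = n15826 := d5_2 (iv F61004) D16089 F62611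
theorem F63679 : act 7 n16089 = n15426 := d6_2 (iv F61005) D16089 (iv D15426)
theorem F63680 : act 8 n16089 = n15557 := d7_2 F63657 D16089 (iv F63651)
def n16090 : Q := act 3 n15429
theorem D16090 : act 3 n15429 = n16090 := rfl
theorem F63681 : act 0 n16090 = n15999 := d2_1 D16090 F63226 (iv F61022)
theorem F63682 : act 1 n16090 = n15950 := d9_1 D16090 (iv D15950) (iv F61023)
theorem F63683 : act 2 n16090 = n15538 := d15_1 D16090 (iv D15538) F58387 (iv F57948) (iv F61024)
theorem F63684 : act 5 n16090 = n16001 := d22_2 F61027 D16090 F63238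
theorem F63685 : act 6 n16090 = n15539 := d23_2 (iv F61025) D16090 F61467
theorem F63686 : act 8 n16090 = n16090 := d25_2 F61026 D16090 (iv D16090)
def n16091 : Q := act 7 n15432
theorem D16091 : act 7 n15432 = n16091 := rfl
theorem F63687 : act 1 n16091 = n15581 := d13_1 D16091 (iv D15581) (iv F61042)
theorem F63688 : act 2 n16091 = n15433 := d19_1 D16091 (iv D15433) (iv F61043)
theorem F63689 : act 4 n16091 = n16058 := d28_1 D16091 (iv D16058) (iv F61045)
theorem F63690 : act 5 n16091 = n15435 := d31_1 D16091 (iv D15435) (iv F61046)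
theorem F63691 : act 6 n16091 = n15689 := d33_1 D16091 (iv D15689) (iv F61047)
def n16092 : Q := act 7 n15434
theorem D16092 : act 7 n15434 = n16092 := rfl
theorem F63692 : act 0 n16092 = n15704 := d6_1 D16092 (iv D15704) (iv F61052)
theorem F63693 : act 1 n16092 = n15435 := d13_1 D16092 (iv D15435) (iv F61053)
theorem F63694 : act 2 n16092 = n15566 := d19_1 D16092 (iv D15566) (iv F61054)
theorem F63695 : act 5 n16092 = n15581 := d31_1 D16092 (iv D15581) (iv F61056)
theorem F63696 : act 6 n16092 = n15440 := d33_1 D16092 (iv D15440) (iv F61057)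
theorem F63697 : act 8 n16092 = n16091 := d35_2 D15434 D16092 (iv D16091) (iv D15432) (iv F58058)
def n16093 : Q := act 3 n15435
theorem D16093 : act 3 n15435 = n16093 := rfl
theorem F63698 : act 2 n16093 = n15726 := d15_1 D16093 (iv D15726) F59379 (iv F58064) (iv F61058)
theorem F63699 : act 6 n16093 = n15446 := d23_2 (iv F61059) D16093 (iv D15446)
theorem F63700 : act 7 n16093 = n15454 := d24_2 D15435 D16093 (iv D15454) (iv D14704) (iv F58061)
def n16094 : Q := act 8 n15436
theorem D16094 : act 8 n15436 = n16094 := rfl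
theorem F63701 : act 0 n16094 = n15439 := d7_1 D16094 (iv D15439) (iv F61060)
theorem F63702 : act 1 n16094 = n15962 := d14_1 D16094 (iv D15962) (iv F61061)
theorem F63703 : act 2 n16094 = n15569 := d20_1 D16094 (iv D15569) (iv F61062)
theorem F63704 : act 3 n16094 = n15765 := d25_1 D16094 (iv D15765) (iv F61063)
theorem F63705 : act 4 n16094 = n15437 := d29_1 D16094 (iv D15437) D15436
theorem F63706 : act 5 n16094 = n15739 := d32_1 D16094 (iv D15739) F61066
theorem F63707 : act 6 n16094 = n15702 := d34_1 D16094 (iv D15702) (iv F61064)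
def n16095 : Q := act 7 n15437
theorem D16095 : act 7 n15437 = n16095 := rfl
theorem F63708 : act 0 n16095 = n15440 := d6_1 D16095 (iv D15440) (iv F61067)
theorem F63709 : act 2 n16095 = n15570 := d19_1 D16095 (iv D15570) (iv F61068)
theorem F63710 : act 5 n16095 = n15720 := d31_1 D16095 (iv D15720) (iv F61070)
theorem F63711 : act 6 n16095 = n15704 := d33_1 D16095 (iv D15704) (iv F61071)
def n16096 : Q := act 8 n15438
theorem D16096 : act 8 n15438 = n16096 := rfl
theorem F63712 : act 0 n16096 = n15765 := d7_1 D16096 (iv D15765) (iv F61072)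
theorem F63713 : act 1 n16096 = n15442 := d14_1 D16096 (iv D15442) (iv F61073)
theorem F63714 : act 2 n16096 = n15663 := d20_1 D16096 (iv D15663) (iv F61074)
theorem F63715 : act 3 n16096 = n15439 := d25_1 D16096 (iv D15439) D15438
theorem F63716 : act 4 n16096 = n15459 := d29_1 D16096 (iv D15459) (iv F61075)
theorem F63717 : act 5 n16096 = n15631 := d32_1 D16096 (iv D15631) (iv F61076)
theorem F63718 : act 6 n16096 = n15919 := d34_1 D16096 (iv D15919) (iv F61077)
def n16097 : Q := act 7 n15439
theorem D16097 : act 7 n15439 = n16097 := rfl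
theorem F63719 : act 1 n16097 = n15445 := d13_1 D16097 (iv D15445) (iv F61079)
theorem F63720 : act 2 n16097 = n15571 := d19_1 D16097 (iv D15571) (iv F61080)
theorem F63721 : act 4 n16097 = n15440 := d28_1 D16097 (iv D15440) (iv F61081)
theorem F63722 : act 5 n16097 = n15817 := d31_1 D16097 F62575 (iv F61082)
theorem F63723 : act 8 n16097 = n15816 := d35_2 D15439 D16097 F62574 F59670 (iv F58072)
def n16098 : Q := act 3 n15440
theorem D16098 : act 3 n15440 = n16098 := rfl
theorem F63724 : act 1 n16098 = n15446 := d9_1 D16098 (iv D15446) (iv F61083)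
theorem F63725 : act 5 n16098 = n15726 := d22_2 (iv F61085) D16098 (iv D15726)
theorem F63726 : act 7 n16098 = n15462 := d24_2 D15440 D16098 (iv D15462) (iv D14710) (iv F58076)
def n16099 : Q := act 8 n15441
theorem D16099 : act 8 n15441 = n16099 := rfl
theorem F63727 : act 0 n16099 = n15914 := d7_1 D16099 (iv D15914) (iv F61086)
theorem F63728 : act 1 n16099 = n15631 := d14_1 D16099 (iv D15631) (iv F61087)
theorem F63729 : act 2 n16099 = n16099 := d20_1 D16099 (iv D16099) F61088
theorem F63730 : act 3 n16099 = n15444 := d25_1 D16099 (iv D15444) (iv F61089)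
theorem F63731 : act 5 n16099 = n15442 := d32_1 D16099 (iv D15442) D15441
theorem F63732 : act 6 n16099 = n15643 := d34_1 D16099 (iv D15643) F61091
def n16100 : Q := act 7 n15442
theorem D16100 : act 7 n15442 = n16100 := rfl
theorem F63733 : act 2 n16100 = n16100 := d19_1 D16100 (iv D16100) F61092
theorem F63734 : act 4 n16100 = n15468 := d28_1 D16100 (iv D15468) (iv F61094)
def n16101 : Q := act 8 n15443
theorem D16101 : act 8 n15443 = n16101 := rfl
theorem F63735 : act 1 n16101 = n15618 := d14_1 D16101 (iv D15618) (iv F61095)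
theorem F63736 : act 2 n16101 = n15447 := d20_1 D16101 (iv D15447) (iv F61096)
theorem F63737 : act 3 n16101 = n15643 := d25_1 D16101 (iv D15643) (iv F61097)
theorem F63738 : act 4 n16101 = n15732 := d29_1 D16101 (iv D15732) (iv F61098)
theorem F63739 : act 6 n16101 = n15444 := d34_1 D16101 (iv D15444) D15443
def n16102 : Q := act 7 n15444
theorem D16102 : act 7 n15444 = n16102 := rfl
theorem F63740 : act 1 n16102 = n15817 := d13_1 D16102 F62575 (iv F61100)
theorem F63741 : act 2 n16102 = n15448 := d19_1 D16102 (iv D15448) (iv F61101)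
theorem F63742 : act 4 n16102 = n15733 := d28_1 D16102 (iv D15733) (iv F61102)
theorem F63743 : act 5 n16102 = n15445 := d31_1 D16102 (iv D15445) (iv F61103)
theorem F63744 : act 8 n16102 = n15819 := d35_2 D15444 D16102 F62583 F59674 (iv F58083)
def n16103 : Q := act 3 n15445
theorem D16103 : act 3 n15445 = n16103 := rfl
def n16104 : Q := act 4 n15446
theorem D16104 : act 4 n15446 = n16104 := rfl
theorem F63745 : act 2 n16104 = n15957 := d16_1 D16104 (iv D15957) (iv F61106)
theorem F63746 : act 7 n16104 = n15472 := d28_2 (iv F61108) D16104 (iv D15472)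
def n16105 : Q := act 7 n15447
theorem D16105 : act 7 n15447 = n16105 := rfl
theorem F63747 : act 1 n16105 = n15572 := d13_1 D16105 (iv D15572) (iv F61109)
theorem F63748 : act 4 n16105 = n15736 := d28_1 D16105 (iv D15736) (iv F61111)
theorem F63749 : act 6 n16105 = n15448 := d33_1 D16105 (iv D15448) (iv F61112)
theorem F63750 : act 8 n16105 = n15876 := d35_2 D15447 D16105 F62837 F59991 (iv F58091)
theorem F63751 : act 3 n16013 = n16105 := d25_3 F63750 F62835 (iv F63299)
def n16106 : Q := act 3 n15448
theorem D16106 : act 3 n15448 = n16106 := rfl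
theorem F63752 : act 1 n16106 = n15573 := d9_1 D16106 (iv D15573) (iv F61113)
theorem F63753 : act 5 n16106 = n15449 := d22_2 (iv F61115) D16106 (iv D15449)
theorem F63754 : act 6 n16106 = n16013 := d23_2 F63749 D16106 F63751
theorem F63755 : act 7 n16106 = n16106 := d24_2 D15448 D16106 (iv D16106) (iv D15448) F58093
theorem F63756 : act 8 n16106 = n15868 := d25_2 (iv F61116) D16106 F62793
def n16107 : Q := act 2 n15449
theorem D16107 : act 2 n15449 = n16107 := rfl
theorem F63757 : act 4 n16107 = n15960 := d16_2 (iv F61118) D16107 (iv D15960)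
theorem F63758 : act 7 n16107 = n16107 := d19_2 F61119 D16107 (iv D16107)
def n16108 : Q := act 3 n15450
theorem D16108 : act 3 n15450 = n16108 := rfl
theorem F63759 : act 1 n16108 = n15582 := d9_1 D16108 (iv D15582) (iv F61120)
theorem F63760 : act 2 n16108 = n15462 := d15_1 D16108 (iv D15462) F58153 (iv F58104) (iv F61121)
theorem F63761 : act 5 n16108 = n15454 := d22_2 (iv F61123) D16108 (iv D15454)
theorem F63762 : act 6 n16108 = n15693 := d23_2 (iv F61124) D16108 (iv D15693)
theorem F63763 : act 8 n16108 = n15478 := d25_2 (iv F61125) D16108 (iv D15478)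
def n16109 : Q := act 3 n15451
theorem D16109 : act 3 n15451 = n16109 := rfl
theorem F63764 : act 0 n16109 = n15707 := d2_1 D16109 (iv D15707) (iv F61126)
theorem F63765 : act 1 n16109 = n15454 := d9_1 D16109 (iv D15454) (iv F61127)
theorem F63766 : act 2 n16109 = n15693 := d15_1 D16109 (iv D15693) F59244 (iv F58407) (iv F61128)
theorem F63767 : act 5 n16109 = n15582 := d22_2 (iv F61130) D16109 (iv D15582)
theorem F63768 : act 6 n16109 = n15462 := d23_2 (iv F61131) D16109 (iv D15462)
theorem F63769 : act 8 n16109 = n15483 := d25_2 (iv F61132) D16109 (iv D15483)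
def n16110 : Q := act 7 n15452
theorem D16110 : act 7 n15452 = n16110 := rfl
theorem F63770 : act 1 n16110 = n15921 := d13_1 D16110 (iv D15921) (iv F61133)
theorem F63771 : act 2 n16110 = n16110 := d19_1 D16110 (iv D16110) F61134
theorem F63772 : act 5 n16110 = n15915 := d31_1 D16110 (iv D15915) (iv F61136)
theorem F63773 : act 6 n16110 = n15468 := d33_1 D16110 (iv D15468) (iv F61137)
def n16111 : Q := act 3 n15453
theorem D16111 : act 3 n15453 = n16111 := rfl
theorem F63774 : act 1 n16111 = n15924 := d9_1 D16111 (iv D15924) (iv F61138)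
theorem F63775 : act 5 n16111 = n15916 := d22_2 (iv F61141) D16111 (iv D15916)
theorem F63776 : act 6 n16111 = n15471 := d23_2 (iv F61142) D16111 (iv D15471)
theorem F63777 : act 8 n16111 = n15489 := d25_2 (iv F61143) D16111 (iv D15489)
def n16112 : Q := act 4 n15454
theorem D16112 : act 4 n15454 = n16112 := rfl
theorem F63778 : act 2 n16112 = n15752 := d16_1 D16112 (iv D15752) (iv F61144)
theorem F63779 : act 6 n16112 = n15472 := d27_2 (iv F61145) D16112 (iv D15472)
theorem F63780 : act 8 n16112 = n15490 := d29_2 (iv F61146) D16112 (iv D15490)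
def n16113 : Q := act 2 n15455
theorem D16113 : act 2 n15455 = n16113 := rfl
theorem F63781 : act 4 n16113 = n15824 := d16_2 (iv F61148) D16113 (iv D15824)
theorem F63782 : act 5 n16113 = n15945 := d17_2 (iv F61149) D16113 (iv D15945)
theorem F63783 : act 6 n16113 = n15475 := d18_2 (iv F61150) D16113 (iv D15475)
theorem F63784 : act 7 n16113 = n16113 := d19_2 F61151 D16113 (iv D16113)
theorem F63785 : act 8 n16113 = n15493 := d20_2 (iv F61152) D16113 (iv D15493)
def n16114 : Q := act 3 n15456
theorem D16114 : act 3 n15456 = n16114 := rfl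
theorem F63786 : act 0 n16114 = n15462 := d2_1 D16114 (iv D15462) (iv F61153)
theorem F63787 : act 5 n16114 = n15744 := d22_2 (iv F61156) D16114 (iv D15744)
theorem F63788 : act 6 n16114 = n15707 := d23_2 (iv F61157) D16114 (iv D15707)
theorem F63789 : act 8 n16114 = n15499 := d25_2 (iv F61158) D16114 (iv D15499)
def n16115 : Q := act 8 n15457
theorem D16115 : act 8 n15457 = n16115 := rfl
theorem F63790 : act 0 n16115 = n15782 := d7_1 D16115 (iv D15782) (iv F61159)
theorem F63791 : act 1 n16115 = n15466 := d14_1 D16115 (iv D15466) (iv F61160)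
theorem F63792 : act 2 n16115 = n15845 := d20_1 D16115 (iv D15845) (iv F61161)
theorem F63793 : act 3 n16115 = n15460 := d25_1 D16115 (iv D15460) (iv F61162)
theorem F63794 : act 5 n16115 = n15459 := d32_1 D16115 (iv D15459) D15457
theorem F63795 : act 6 n16115 = n15775 := d34_1 D16115 (iv D15775) (iv F61163)
def n16116 : Q := act 8 n15458
theorem D16116 : act 8 n15458 = n16116 := rfl
theorem F63796 : act 0 n16116 = n15763 := d7_1 D16116 (iv D15763) (iv F61164)
theorem F63797 : act 1 n16116 = n15467 := d14_1 D16116 (iv D15467) (iv F61165)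
theorem F63798 : act 2 n16116 = n15661 := d20_1 D16116 (iv D15661) (iv F61166)
theorem F63799 : act 3 n16116 = n15504 := d25_1 D16116 (iv D15504) (iv F61167)
theorem F63800 : act 4 n16116 = n15630 := d29_1 D16116 (iv D15630) (iv F61168)
theorem F63801 : act 6 n16116 = n15920 := d34_1 D16116 (iv D15920) (iv F61169)
def n16117 : Q := act 7 n15459
theorem D16117 : act 7 n15459 = n16117 := rfl
theorem F63802 : act 0 n16117 = n15972 := d6_1 D16117 (iv D15972) (iv F61170)
theorem F63803 : act 1 n16117 = n15468 := d13_1 D16117 (iv D15468) (iv F61171)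
theorem F63804 : act 2 n16117 = n15931 := d19_1 D16117 (iv D15931) (iv F61172)
theorem F63805 : act 6 n16117 = n15921 := d33_1 D16117 (iv D15921) (iv F61174)
def n16118 : Q := act 7 n15460
theorem D16118 : act 7 n15460 = n16118 := rfl
theorem F63806 : act 0 n16118 = n15787 := d6_1 D16118 (iv D15787) (iv F61175)
theorem F63807 : act 1 n16118 = n15470 := d13_1 D16118 (iv D15470) (iv F61176)
theorem F63808 : act 2 n16118 = n15545 := d19_1 D16118 (iv D15545) (iv F61177)
theorem F63809 : act 4 n16118 = n15750 := d28_1 D16118 (iv D15750) (iv F61178)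
theorem F63810 : act 5 n16118 = n15461 := d31_1 D16118 (iv D15461) (iv F61179)
theorem F63811 : act 6 n16118 = n15778 := d33_1 D16118 (iv D15778) (iv F61180)
theorem F63812 : act 8 n16118 = n15507 := d35_2 D15460 D16118 (iv D15507) (iv D14746) (iv F58146)
def n16119 : Q := act 3 n15461
theorem D16119 : act 3 n15461 = n16119 := rfl
theorem F63813 : act 0 n16119 = n15978 := d2_1 D16119 (iv D15978) (iv F61181)
theorem F63814 : act 1 n16119 = n15471 := d9_1 D16119 (iv D15471) (iv F61182)
theorem F63815 : act 6 n16119 = n15924 := d23_2 (iv F61185) D16119 (iv D15924)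
theorem F63816 : act 8 n16119 = n15508 := d25_2 (iv F61186) D16119 (iv D15508)
def n16120 : Q := act 4 n15462
theorem D16120 : act 4 n15462 = n16120 := rfl
theorem F63817 : act 1 n16120 = n15472 := d10_1 D16120 (iv D15472) (iv F61187)
theorem F63818 : act 8 n16120 = n15509 := d29_2 (iv F61189) D16120 (iv D15509)
def n16121 : Q := act 8 n15463
theorem D16121 : act 8 n15463 = n16121 := rfl
theorem F63819 : act 2 n16121 = n16121 := d20_1 D16121 (iv D16121) F61190
theorem F63820 : act 3 n16121 = n15753 := d25_1 D16121 (iv D15753) (iv F61191)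
theorem F63821 : act 4 n16121 = n15466 := d29_1 D16121 (iv D15466) D15463
def n16122 : Q := act 8 n15464
theorem D16122 : act 8 n15464 = n16122 := rfl
theorem F63822 : act 0 n16122 = n15642 := d7_1 D16122 (iv D15642) (iv F61192)
theorem F63823 : act 1 n16122 = n15775 := d14_1 D16122 (iv D15775) (iv F61193)
theorem F63824 : act 2 n16122 = n16122 := d20_1 D16122 (iv D16122) F61194
theorem F63825 : act 3 n16122 = n15469 := d25_1 D16122 (iv D15469) (iv F61195)
theorem F63826 : act 5 n16122 = n15637 := d32_1 D16122 (iv D15637) (iv F61196)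
theorem F63827 : act 6 n16122 = n15466 := d34_1 D16122 (iv D15466) D15464
def n16123 : Q := act 8 n15465
theorem D16123 : act 8 n15465 = n16123 := rfl
theorem F63828 : act 2 n16123 = n16123 := d20_1 D16123 (iv D16123) F61198
theorem F63829 : act 3 n16123 = n15512 := d25_1 D16123 (iv D15512) (iv F61199)
theorem F63830 : act 4 n16123 = n16122 := d29_1 D16123 (iv D16122) (iv F61200)
theorem F63831 : act 5 n16123 = n15467 := d32_1 D16123 (iv D15467) (iv F61201)
theorem F63832 : act 6 n16123 = n16121 := d34_1 D16123 (iv D16121) (iv F61202)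
def n16124 : Q := act 7 n15466
theorem D16124 : act 7 n15466 = n16124 := rfl
theorem F63833 : act 2 n16124 = n16124 := d19_1 D16124 (iv D16124) F61203
theorem F63834 : act 5 n16124 = n15468 := d31_1 D16124 (iv D15468) (iv F61205)
def n16125 : Q := act 7 n15467
theorem D16125 : act 7 n15467 = n16125 := rfl
theorem F63835 : act 2 n16125 = n16125 := d19_1 D16125 (iv D16125) F61206
theorem F63836 : act 8 n16125 = n15468 := d35_2 D15467 D16125 (iv D15468) (iv D14713) D14712
def n16126 : Q := act 3 n15468
theorem D16126 : act 3 n15468 = n16126 := rfl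
theorem F63837 : act 7 n16126 = n15471 := d24_2 D15468 D16126 (iv D15471) (iv D14716) (iv F58161)
def n16127 : Q := act 7 n15469
theorem D16127 : act 7 n15469 = n16127 := rfl
theorem F63838 : act 0 n16127 = n15645 := d6_1 D16127 (iv D15645) (iv F61209)
theorem F63839 : act 1 n16127 = n15778 := d13_1 D16127 (iv D15778) (iv F61210)
theorem F63840 : act 2 n16127 = n15473 := d19_1 D16127 (iv D15473) (iv F61211)
theorem F63841 : act 4 n16127 = n15759 := d28_1 D16127 (iv D15759) (iv F61212)
theorem F63842 : act 5 n16127 = n15638 := d31_1 D16127 (iv D15638) (iv F61213)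
theorem F63843 : act 6 n16127 = n15470 := d33_1 D16127 (iv D15470) (iv F61214)
theorem F63844 : act 8 n16127 = n15516 := d35_2 D15469 D16127 (iv D15516) (iv D14755) (iv F58167)
def n16128 : Q := act 3 n15470
theorem D16128 : act 3 n15470 = n16128 := rfl
theorem F63845 : act 5 n16128 = n15471 := d22_2 (iv F61217) D16128 (iv D15471)
theorem F63846 : act 8 n16128 = n15517 := d25_2 (iv F61218) D16128 (iv D15517)
def n16129 : Q := act 2 n15471
theorem D16129 : act 2 n15471 = n16129 := rfl
theorem F63847 : act 3 n16129 = n15475 := d15_2 D15471 D16129 (iv D15475) (iv D14720) (iv F58171)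
theorem F63848 : act 8 n16129 = n15518 := d20_2 (iv F61219) D16129 (iv D15518)
def n16130 : Q := act 4 n15471
theorem D16130 : act 4 n15471 = n16130 := rfl
theorem F63849 : act 3 n16130 = n15472 := d21_1 D16130 (iv D15472) (iv D14717) (iv F58172) D15471
theorem F63850 : act 8 n16130 = n15519 := d29_2 (iv F61219) D16130 (iv D15519)
def n16131 : Q := act 5 n15472
theorem D16131 : act 5 n15472 = n16131 := rfl
theorem F63851 : act 2 n16131 = n15969 := d17_1 D16131 (iv D15969) (iv F61220)
theorem F63852 : act 4 n16131 = n15762 := d26_1 D16131 (iv D15762) (iv D15040) (iv F58175) D15472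
theorem F63853 : act 8 n16131 = n15520 := d32_2 (iv F61221) D16131 (iv D15520)
def n16132 : Q := act 2 n15474
theorem D16132 : act 2 n15474 = n16132 := rfl
theorem F63854 : act 5 n16132 = n15475 := d17_2 (iv F61229) D16132 (iv D15475)
theorem F63855 : act 7 n16132 = n16132 := d19_2 F61230 D16132 (iv D16132)
theorem F63856 : act 8 n16132 = n15521 := d20_2 (iv F61231) D16132 (iv D15521)
def n16133 : Q := act 1 n15475
theorem D16133 : act 1 n15475 = n16133 := rfl
theorem F63857 : act 2 n16133 = n15548 := d8_2 D15475 D16133 (iv D15548) (iv D14791) (iv F58187)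
theorem F63858 : act 4 n16133 = n15685 := d10_2 (iv F61232) D16133 F62115
theorem F63859 : act 7 n16133 = n16133 := d13_2 F61233 D16133 (iv D16133)
theorem F63860 : act 8 n16133 = n15522 := d14_2 (iv F61234) D16133 (iv D15522)
def n16134 : Q := act 7 n15476
theorem D16134 : act 7 n15476 = n16134 := rfl
theorem F63861 : act 1 n16134 = n15575 := d13_1 D16134 (iv D15575) (iv F61235)
theorem F63862 : act 2 n16134 = n16134 := d19_1 D16134 (iv D16134) F61236
theorem F63863 : act 5 n16134 = n15901 := d31_1 D16134 (iv D15901) (iv F61238)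
theorem F63864 : act 6 n16134 = n15698 := d33_1 D16134 (iv D15698) (iv F61239)
theorem F63865 : act 8 n16134 = n16020 := d35_2 D15476 D16134 (iv D16020) (iv D15340) (iv F58195)
def n16135 : Q := act 3 n15477
theorem D16135 : act 3 n15477 = n16135 := rfl
theorem F63866 : act 1 n16135 = n15576 := d9_1 D16135 (iv D15576) (iv F61240)
theorem F63867 : act 5 n16135 = n15908 := d22_2 (iv F61243) D16135 (iv D15908)
theorem F63868 : act 6 n16135 = n15700 := d23_2 (iv F61244) D16135 (iv D15700)
theorem F63869 : act 8 n16135 = n15580 := d25_2 (iv F61245) D16135 (iv D15580)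
def n16136 : Q := act 4 n15478
theorem D16136 : act 4 n15478 = n16136 := rfl
theorem F63870 : act 1 n16136 = n15695 := d10_1 D16136 (iv D15695) (iv F61246)
theorem F63871 : act 2 n16136 = n15509 := d16_1 D16136 (iv D15509) (iv F61247)
theorem F63872 : act 6 n16136 = n15701 := d27_2 (iv F61249) D16136 (iv D15701)
def n16137 : Q := act 2 n15479
theorem D16137 : act 2 n15479 = n16137 := rfl
theorem F63873 : act 1 n16137 = n15678 := d8_1 D16137 (iv D15678) F59156 (iv F58463) (iv F61250)
theorem F63874 : act 4 n16137 = n15558 := d16_2 (iv F61251) D16137 (iv D15558)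
theorem F63875 : act 5 n16137 = n15942 := d17_2 (iv F61252) D16137 (iv D15942)
theorem F63876 : act 6 n16137 = n15713 := d18_2 (iv F61253) D16137 (iv D15713)
theorem F63877 : act 7 n16137 = n16137 := d19_2 F61254 D16137 (iv D16137)
theorem F63878 : act 8 n16137 = n15586 := d20_2 (iv F61255) D16137 (iv D15586)
def n16138 : Q := act 3 n15480
theorem D16138 : act 3 n15480 = n16138 := rfl
theorem F63879 : act 0 n16138 = n15483 := d2_1 D16138 (iv D15483) (iv F61256)
theorem F63880 : act 2 n16138 = n15625 := d15_1 D16138 (iv D15625) F58936 (iv F58471) (iv F61257)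
theorem F63881 : act 5 n16138 = n15578 := d22_2 (iv F61259) D16138 (iv D15578)
theorem F63882 : act 6 n16138 = n15499 := d23_2 (iv F61260) D16138 (iv D15499)
theorem F63883 : act 7 n16138 = n16047 := d24_2 D15480 D16138 (iv D16047) (iv D15368) (iv F58212)
theorem F63884 : act 8 n16138 = n15707 := d25_2 (iv F61261) D16138 (iv D15707)
def n16139 : Q := act 7 n15481
theorem D16139 : act 7 n15481 = n16139 := rfl
theorem F63885 : act 0 n16139 = n15963 := d6_1 D16139 (iv D15963) (iv F61262)
theorem F63886 : act 1 n16139 = n15486 := d13_1 D16139 (iv D15486) (iv F61263)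
theorem F63887 : act 2 n16139 = n16139 := d19_1 D16139 (iv D16139) F61264
theorem F63888 : act 4 n16139 = n16134 := d28_1 D16139 (iv D16134) (iv F61266)
theorem F63889 : act 5 n16139 = n15910 := d31_1 D16139 (iv D15910) (iv F61267)
theorem F63890 : act 6 n16139 = n15505 := d33_1 D16139 (iv D15505) (iv F61268)
def n16140 : Q := act 3 n15482
theorem D16140 : act 3 n15482 = n16140 := rfl
theorem F63891 : act 0 n16140 = n15966 := d2_1 D16140 (iv D15966) (iv F61269)
theorem F63892 : act 1 n16140 = n15489 := d9_1 D16140 (iv D15489) (iv F61270)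
theorem F63893 : act 5 n16140 = n15911 := d22_2 (iv F61273) D16140 (iv D15911)
theorem F63894 : act 6 n16140 = n15508 := d23_2 (iv F61274) D16140 (iv D15508)
theorem F63895 : act 8 n16140 = n15924 := d25_2 (iv F61275) D16140 (iv D15924)
def n16141 : Q := act 4 n15483
theorem D16141 : act 4 n15483 = n16141 := rfl
theorem F63896 : act 1 n16141 = n15490 := d10_1 D16141 (iv D15490) (iv F61276)
theorem F63897 : act 2 n16141 = n15701 := d16_1 D16141 (iv D15701) (iv F61277)
theorem F63898 : act 6 n16141 = n15509 := d27_2 (iv F61279) D16141 (iv D15509)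
theorem F63899 : act 7 n16141 = n16136 := d28_2 (iv F61280) D16141 (iv D16136)
def n16142 : Q := act 8 n15484
theorem D16142 : act 8 n15484 = n16142 := rfl
theorem F63900 : act 0 n16142 = n15612 := d7_1 D16142 (iv D15612) (iv F61281)
theorem F63901 : act 1 n16142 = n15742 := d14_1 D16142 (iv D15742) (iv F61282)
theorem F63902 : act 2 n16142 = n15523 := d20_1 D16142 (iv D15523) (iv F61283)
theorem F63903 : act 3 n16142 = n15487 := d25_1 D16142 (iv D15487) (iv F61284)
theorem F63904 : act 5 n16142 = n15511 := d32_1 D16142 (iv D15511) (iv F61285)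
theorem F63905 : act 6 n16142 = n15485 := d34_1 D16142 (iv D15485) D15484
def n16143 : Q := act 7 n15485
theorem D16143 : act 7 n15485 = n16143 := rfl
theorem F63906 : act 0 n16143 = n15819 := d6_1 D16143 F62583 (iv F61286)
theorem F63907 : act 1 n16143 = n15910 := d13_1 D16143 (iv D15910) (iv F61287)
theorem F63908 : act 2 n16143 = n15524 := d19_1 D16143 (iv D15524) (iv F61288)
theorem F63909 : act 5 n16143 = n15486 := d31_1 D16143 (iv D15486) (iv F61290)
def n16144 : Q := act 3 n15486
theorem D16144 : act 3 n15486 = n16144 := rfl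
theorem F63910 : act 6 n16144 = n15515 := d23_2 (iv F61292) D16144 (iv D15515)
theorem F63911 : act 7 n16144 = n15489 := d24_2 D15486 D16144 (iv D15489) (iv D14733) (iv F58237)
def n16145 : Q := act 7 n15487
theorem D16145 : act 7 n15487 = n16145 := rfl
theorem F63912 : act 0 n16145 = n15613 := d6_1 D16145 (iv D15613) (iv F61293)
theorem F63913 : act 1 n16145 = n15743 := d13_1 D16145 (iv D15743) (iv F61294)
theorem F63914 : act 2 n16145 = n15491 := d19_1 D16145 (iv D15491) (iv F61295)
theorem F63915 : act 4 n16145 = n15611 := d28_1 D16145 (iv D15611) (iv F61296)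
theorem F63916 : act 5 n16145 = n15516 := d31_1 D16145 (iv D15516) (iv F61297)
theorem F63917 : act 6 n16145 = n15488 := d33_1 D16145 (iv D15488) (iv F61298)
theorem F63918 : act 8 n16145 = n15638 := d35_2 D15487 D16145 (iv D15638) (iv D14906) (iv F58244)
def n16146 : Q := act 3 n15488
theorem D16146 : act 3 n15488 = n16146 := rfl
theorem F63919 : act 0 n16146 = n15802 := d2_1 D16146 F62518 (iv F61299)
theorem F63920 : act 1 n16146 = n15911 := d9_1 D16146 (iv D15911) (iv F61300)
theorem F63921 : act 5 n16146 = n15489 := d22_2 (iv F61303) D16146 (iv D15489)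
theorem F63922 : act 8 n16146 = n15916 := d25_2 (iv F61304) D16146 (iv D15916)
def n16147 : Q := act 2 n15489
theorem D16147 : act 2 n15489 = n16147 := rfl
theorem F63923 : act 3 n16147 = n15493 := d15_2 D15489 D16147 (iv D15493) (iv D14737) (iv F58250)
theorem F63924 : act 6 n16147 = n15518 := d18_2 (iv F61305) D16147 (iv D15518)
def n16148 : Q := act 4 n15489
theorem D16148 : act 4 n15489 = n16148 := rfl
theorem F63925 : act 3 n16148 = n15490 := d21_1 D16148 (iv D15490) (iv D14734) (iv F58251) D15489
theorem F63926 : act 6 n16148 = n15519 := d27_2 (iv F61305) D16148 (iv D15519)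
def n16149 : Q := act 5 n15490
theorem D16149 : act 5 n15490 = n16149 := rfl
theorem F63927 : act 2 n16149 = n15791 := d17_1 D16149 (iv D15791) (iv F61306)
def n16150 : Q := act 2 n15492
theorem D16150 : act 2 n15492 = n16150 := rfl
theorem F63928 : act 0 n16150 = n15830 := d1_1 D16150 F62623 (iv F61315)
theorem F63929 : act 5 n16150 = n15493 := d17_2 (iv F61317) D16150 (iv D15493)
theorem F63930 : act 6 n16150 = n15988 := d18_2 (iv F61318) D16150 F63190
theorem F63931 : act 7 n16150 = n15528 := d19_2 (iv F61319) D16150 (iv D15528)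
theorem F63932 : act 8 n16150 = n15945 := d20_2 (iv F61320) D16150 (iv D15945)
def n16151 : Q := act 4 n15492
theorem D16151 : act 4 n15492 = n16151 := rfl
theorem F63933 : act 0 n16151 = n15553 := d3_1 D16151 F61544 (iv F61315)
theorem F63934 : act 1 n16151 = n15552 := d10_1 D16151 (iv D15552) (iv F61316)
theorem F63935 : act 3 n16151 = n15943 := d21_1 D16151 (iv D15943) (iv D15256) (iv F58263) D15492
theorem F63936 : act 5 n16151 = n15829 := d26_2 (iv F61317) D16151 (iv D15829) F59710 (iv F58267)
theorem F63937 : act 6 n16151 = n15564 := d27_2 (iv F61318) D16151 F61599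
theorem F63938 : act 7 n16151 = n15529 := d28_2 (iv F61319) D16151 (iv D15529)
theorem F63939 : act 8 n16151 = n15946 := d29_2 (iv F61320) D16151 (iv D15946)
def n16152 : Q := act 1 n15493
theorem D16152 : act 1 n15493 = n16152 := rfl
theorem F63940 : act 2 n16152 = n15553 := d8_2 D15493 D16152 (iv D15553) (iv D14798) (iv F58266)
theorem F63941 : act 4 n16152 = n15830 := d10_2 (iv F61321) D16152 (iv D15830)
theorem F63942 : act 6 n16152 = n15522 := d12_2 (iv F61322) D16152 (iv D15522)
theorem F63943 : act 7 n16152 = n15530 := d13_2 (iv F61323) D16152 (iv D15530)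
def n16153 : Q := act 8 n15494
theorem D16153 : act 8 n15494 = n16153 := rfl
theorem F63944 : act 0 n16153 = n15503 := d7_1 D16153 (iv D15503) (iv F61324)
theorem F63945 : act 1 n16153 = n15754 := d14_1 D16153 (iv D15754) (iv F61325)
theorem F63946 : act 2 n16153 = n16153 := d20_1 D16153 (iv D16153) F61326
theorem F63947 : act 3 n16153 = n15497 := d25_1 D16153 (iv D15497) (iv F61327)
theorem F63948 : act 5 n16153 = n15496 := d32_1 D16153 (iv D15496) D15494
theorem F63949 : act 6 n16153 = n15747 := d34_1 D16153 (iv D15747) (iv F61328)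
def n16154 : Q := act 8 n15495
theorem D16154 : act 8 n15495 = n16154 := rfl
theorem F63950 : act 0 n16154 = n15504 := d7_1 D16154 (iv D15504) (iv F61329)
theorem F63951 : act 1 n16154 = n15702 := d14_1 D16154 (iv D15702) (iv F61330)
theorem F63952 : act 2 n16154 = n16154 := d20_1 D16154 (iv D16154) F61331
theorem F63953 : act 3 n16154 = n15763 := d25_1 D16154 (iv D15763) (iv F61332)
theorem F63954 : act 4 n16154 = n15696 := d29_1 D16154 (iv D15696) (iv F61333)
theorem F63955 : act 6 n16154 = n15962 := d34_1 D16154 (iv D15962) (iv F61334)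
def n16155 : Q := act 7 n15496
theorem D16155 : act 7 n15496 = n16155 := rfl
theorem F63956 : act 0 n16155 = n15505 := d6_1 D16155 (iv D15505) (iv F61335)
theorem F63957 : act 2 n16155 = n16155 := d19_1 D16155 (iv D16155) F61336
theorem F63958 : act 6 n16155 = n15963 := d33_1 D16155 (iv D15963) (iv F61338)
def n16156 : Q := act 7 n15497
theorem D16156 : act 7 n15497 = n16156 := rfl
theorem F63959 : act 0 n16156 = n15507 := d6_1 D16156 (iv D15507) (iv F61339)
theorem F63960 : act 1 n16156 = n15759 := d13_1 D16156 (iv D15759) (iv F61340)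
theorem F63961 : act 2 n16156 = n15554 := d19_1 D16156 (iv D15554) (iv F61341)
theorem F63962 : act 4 n16156 = n15778 := d28_1 D16156 (iv D15778) (iv F61342)
theorem F63963 : act 5 n16156 = n15498 := d31_1 D16156 (iv D15498) (iv F61343)
theorem F63964 : act 6 n16156 = n15750 := d33_1 D16156 (iv D15750) (iv F61344)
theorem F63965 : act 8 n16156 = n15787 := d35_2 D15497 D16156 (iv D15787) (iv D15065) (iv F58278)
def n16157 : Q := act 3 n15498
theorem D16157 : act 3 n15498 = n16157 := rfl
theorem F63966 : act 0 n16157 = n15508 := d2_1 D16157 (iv D15508) (iv F61345)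
theorem F63967 : act 6 n16157 = n15966 := d23_2 (iv F61348) D16157 (iv D15966)
theorem F63968 : act 8 n16157 = n15978 := d25_2 (iv F61349) D16157 (iv D15978)
def n16158 : Q := act 4 n15499
theorem D16158 : act 4 n15499 = n16158 := rfl
theorem F63969 : act 0 n16158 = n15509 := d3_1 D16158 (iv D15509) (iv F61350)
def n16159 : Q := act 8 n15500
theorem D16159 : act 8 n15500 = n16159 := rfl
theorem F63970 : act 1 n16159 = n15510 := d14_1 D16159 (iv D15510) (iv F61352)
theorem F63971 : act 2 n16159 = n16159 := d20_1 D16159 (iv D16159) F61353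
theorem F63972 : act 3 n16159 = n15781 := d25_1 D16159 (iv D15781) (iv F61354)
theorem F63973 : act 4 n16159 = n15503 := d29_1 D16159 (iv D15503) D15500
theorem F63974 : act 5 n16159 = n16154 := d32_1 D16159 (iv D16154) (iv F61355)
def n16160 : Q := act 8 n15501
theorem D16160 : act 8 n15501 = n16160 := rfl
theorem F63975 : act 0 n16160 = n15747 := d7_1 D16160 (iv D15747) (iv F61357)
theorem F63976 : act 1 n16160 = n15511 := d14_1 D16160 (iv D15511) (iv F61358)
theorem F63977 : act 2 n16160 = n16160 := d20_1 D16160 (iv D16160) F61359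
theorem F63978 : act 3 n16160 = n15506 := d25_1 D16160 (iv D15506) (iv F61360)
theorem F63979 : act 5 n16160 = n15742 := d32_1 D16160 (iv D15742) (iv F61361)
theorem F63980 : act 6 n16160 = n15503 := d34_1 D16160 (iv D15503) D15501
def n16161 : Q := act 8 n15502
theorem D16161 : act 8 n15502 = n16161 := rfl
theorem F63981 : act 0 n16161 = n16159 := d7_1 D16161 (iv D16159) (iv F61362)
theorem F63982 : act 1 n16161 = n15512 := d14_1 D16161 (iv D15512) (iv F61363)
theorem F63983 : act 2 n16161 = n16161 := d20_1 D16161 (iv D16161) F61364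
theorem F63984 : act 4 n16161 = n16153 := d29_1 D16161 (iv D16153) (iv F61365)
theorem F63985 : act 5 n16161 = n15504 := d32_1 D16161 (iv D15504) (iv F61366)
def n16162 : Q := act 7 n15503
theorem D16162 : act 7 n15503 = n16162 := rfl
theorem F63986 : act 1 n16162 = n15513 := d13_1 D16162 (iv D15513) (iv F61367)
theorem F63987 : act 2 n16162 = n16162 := d19_1 D16162 (iv D16162) F61368
theorem F63988 : act 5 n16162 = n15505 := d31_1 D16162 (iv D15505) (iv F61370)
def n16163 : Q := act 7 n15504
theorem D16163 : act 7 n15504 = n16163 := rfl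
theorem F63989 : act 1 n16163 = n15514 := d13_1 D16163 (iv D15514) (iv F61371)
theorem F63990 : act 2 n16163 = n16163 := d19_1 D16163 (iv D16163) F61372
theorem F63991 : act 8 n16163 = n15505 := d35_2 D15504 D16163 (iv D15505) (iv D14744) D14743
def n16164 : Q := act 3 n15505
theorem D16164 : act 3 n15505 = n16164 := rfl
theorem F63992 : act 1 n16164 = n15515 := d9_1 D16164 (iv D15515) (iv F61373)
theorem F63993 : act 7 n16164 = n15508 := d24_2 D15505 D16164 (iv D15508) (iv D14747) (iv F58293)
def n16165 : Q := act 7 n15506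
theorem D16165 : act 7 n15506 = n16165 := rfl
theorem F63994 : act 0 n16165 = n15750 := d6_1 D16165 (iv D15750) (iv F61375)
theorem F63995 : act 1 n16165 = n15516 := d13_1 D16165 (iv D15516) (iv F61376)
theorem F63996 : act 2 n16165 = n15556 := d19_1 D16165 (iv D15556) (iv F61377)
theorem F63997 : act 4 n16165 = n15787 := d28_1 D16165 (iv D15787) (iv F61378)
theorem F63998 : act 5 n16165 = n15743 := d31_1 D16165 (iv D15743) (iv F61379)
theorem F63999 : act 6 n16165 = n15507 := d33_1 D16165 (iv D15507) (iv F61380)
theorem F64000 : act 8 n16165 = n15778 := d35_2 D15506 D16165 (iv D15778) (iv D15056) (iv F58299)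
def n16166 : Q := act 3 n15507
theorem D16166 : act 3 n15507 = n16166 := rfl
theorem F64001 : act 1 n16166 = n15517 := d9_1 D16166 (iv D15517) (iv F61381)
theorem F64002 : act 5 n16166 = n15508 := d22_2 (iv F61384) D16166 (iv D15508)
def n16167 : Q := act 2 n15508
theorem D16167 : act 2 n15508 = n16167 := rfl
theorem F64003 : act 3 n16167 = n15558 := d15_2 D15508 D16167 (iv D15558) (iv D14803) (iv F58305)
def n16168 : Q := act 4 n15508
theorem D16168 : act 4 n15508 = n16168 := rfl
theorem F64004 : act 1 n16168 = n15519 := d10_1 D16168 (iv D15519) (iv F61385)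
theorem F64005 : act 3 n16168 = n15509 := d21_1 D16168 (iv D15509) (iv D14748) (iv F58306) D15508
def n16169 : Q := act 5 n15509
theorem D16169 : act 5 n15509 = n16169 := rfl
theorem F64006 : act 1 n16169 = n15520 := d11_1 D16169 (iv D15520) (iv F61386)
theorem F64007 : act 4 n16169 = n15791 := d26_1 D16169 (iv D15791) (iv D15068) (iv F58308) D15509
def n16170 : Q := act 7 n15510
theorem D16170 : act 7 n15510 = n16170 := rfl
theorem F64008 : act 2 n16170 = n15531 := d19_1 D16170 (iv D15531) (iv F61387)
theorem F64009 : act 4 n16170 = n15513 := d28_1 D16170 (iv D15513) (iv F61389)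
def n16171 : Q := act 7 n15511
theorem D16171 : act 7 n15511 = n16171 := rfl
theorem F64010 : act 2 n16171 = n15532 := d19_1 D16171 (iv D15532) (iv F61390)
theorem F64011 : act 6 n16171 = n15513 := d33_1 D16171 (iv D15513) (iv F61392)
def n16172 : Q := act 7 n15512
theorem D16172 : act 7 n15512 = n16172 := rfl
theorem F64012 : act 2 n16172 = n15533 := d19_1 D16172 (iv D15533) (iv F61393)
theorem F64013 : act 5 n16172 = n15514 := d31_1 D16172 (iv D15514) (iv F61394)
theorem F64014 : act 8 n16172 = n15513 := d35_2 D15512 D16172 (iv D15513) (iv D14752) D14751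
def n16173 : Q := act 3 n15513
theorem D16173 : act 3 n15513 = n16173 := rfl
theorem F64015 : act 5 n16173 = n15515 := d22_2 (iv F61396) D16173 (iv D15515)
theorem F64016 : act 7 n16173 = n15517 := d24_2 D15513 D16173 (iv D15517) (iv D14756) (iv F58316)
def n16174 : Q := act 3 n15514
theorem D16174 : act 3 n15514 = n16174 := rfl
theorem F64017 : act 8 n16174 = n15515 := d25_2 (iv F61398) D16174 (iv D15515)
def n16175 : Q := act 2 n15515
theorem D16175 : act 2 n15515 = n16175 := rfl
theorem F64018 : act 3 n16175 = n15536 := d15_2 D15515 D16175 (iv D15536) (iv D14775) (iv F58319)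
theorem F64019 : act 7 n16175 = n15518 := d19_2 (iv F61399) D16175 (iv D15518)
def n16176 : Q := act 4 n15515
theorem D16176 : act 4 n15515 = n16176 := rfl
theorem F64020 : act 7 n16176 = n15519 := d28_2 (iv F61399) D16176 (iv D15519)
def n16177 : Q := act 3 n15516
theorem D16177 : act 3 n15516 = n16177 := rfl
theorem F64021 : act 6 n16177 = n15517 := d23_2 (iv F61402) D16177 (iv D15517)
def n16178 : Q := act 2 n15517
theorem D16178 : act 2 n15517 = n16178 := rfl
theorem F64022 : act 3 n16178 = n15521 := d15_2 D15517 D16178 (iv D15521) (iv D14760) (iv F58323)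
theorem F64023 : act 5 n16178 = n15518 := d17_2 (iv F61403) D16178 (iv D15518)
def n16179 : Q := act 4 n15517
theorem D16179 : act 4 n15517 = n16179 := rfl
theorem F64024 : act 3 n16179 = n15801 := d21_1 D16179 (iv D15801) (iv D15076) (iv F58324) D15517
def n16180 : Q := act 1 n15518
theorem D16180 : act 1 n15518 = n16180 := rfl
theorem F64025 : act 3 n16180 = n15522 := d9_2 (iv F61404) D16180 (iv D15522)
def n16181 : Q := act 4 n15518
theorem D16181 : act 4 n15518 = n16181 := rfl
theorem F64026 : act 2 n16181 = n15519 := d16_1 D16181 (iv D15519) D15518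
theorem F64027 : act 3 n16181 = n15982 := d21_1 D16181 (iv D15982) F60426 (iv F58333) (iv F61404)
def n16182 : Q := act 5 n15519
theorem D16182 : act 5 n15519 = n16182 := rfl
theorem F64028 : act 3 n16182 = n15520 := d22_1 D16182 (iv D15520) (iv F61405)
def n16183 : Q := act 6 n15520
theorem D16183 : act 6 n15520 = n16183 := rfl
theorem F64029 : act 2 n16183 = n15984 := d18_1 D16183 (iv D15984) (iv F61406)
theorem F64030 : act 4 n16183 = n15805 := d27_1 D16183 (iv D15805) (iv F61407)
def n16184 : Q := act 1 n15521
theorem D16184 : act 1 n15521 = n16184 := rfl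
theorem F64031 : act 2 n16184 = n15563 := d8_2 D15521 D16184 (iv D15563) (iv D14807) (iv F58330)
theorem F64032 : act 4 n16184 = n15683 := d10_2 F63659 D16184 (iv F63658)
theorem F64033 : act 5 n16184 = n15522 := d11_2 (iv F61408) D16184 (iv D15522)
theorem F64034 : act 6 n16184 = n15947 := d12_2 F63671 D16184 (iv F63669)
theorem F64035 : act 7 n16184 = n15542 := d13_2 (iv F61409) D16184 (iv D15542)
theorem F64036 : act 0 n15686 = n16184 := d6_3 F64035 (iv F61481) (iv F62119)
def n16185 : Q := act 0 n15522
theorem D16185 : act 0 n15522 = n16185 := rfl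
theorem F64037 : act 2 n16185 = n15564 := d1_2 (iv F61410) D16185 (iv D15564)
theorem F64038 : act 4 n16185 = n15988 := d3_2 (iv F61411) D16185 (iv D15988)
theorem F64039 : act 5 n16185 = n15686 := d4_2 F64033 D16185 F64036
theorem F64040 : act 7 n16185 = n15543 := d6_2 (iv F61412) D16185 (iv D15543)
def n16186 : Q := act 7 n15523
theorem D16186 : act 7 n15523 = n16186 := rfl
theorem F64041 : act 0 n16186 = n15876 := d6_1 D16186 F62837 (iv F61413)
theorem F64042 : act 1 n16186 = n16186 := d13_1 D16186 (iv D16186) F61414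
theorem F64043 : act 3 n16186 = n16015 := d24_1 D16186 F63307 F60544 F58351 (iv F61415)
theorem F64044 : act 5 n16186 = n15532 := d31_1 D16186 (iv D15532) (iv F61416)
theorem F64045 : act 6 n16186 = n15524 := d33_1 D16186 (iv D15524) (iv F61417)
def n16187 : Q := act 3 n15524
theorem D16187 : act 3 n15524 = n16187 := rfl
theorem F64046 : act 0 n16187 = n15868 := d2_1 D16187 F62793 (iv F61418)
theorem F64047 : act 1 n16187 = n16187 := d9_1 D16187 (iv D16187) F61419
theorem F64048 : act 5 n16187 = n15525 := d22_2 (iv F61420) D16187 (iv D15525)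
theorem F64049 : act 6 n16187 = n16015 := d23_2 F64045 D16187 (iv F64043)
theorem F64050 : act 7 n16187 = n15526 := d24_2 D15524 D16187 (iv D15526) (iv D14766) (iv F58341)
def n16188 : Q := act 2 n15525
theorem D16188 : act 2 n15525 = n16188 := rfl
theorem F64051 : act 6 n16188 = n15536 := d18_2 (iv F61422) D16188 (iv D15536)
theorem F64052 : act 7 n16188 = n15527 := d19_2 (iv F61423) D16188 (iv D15527)
def n16189 : Q := act 2 n15526
theorem D16189 : act 2 n15526 = n16189 := rfl
theorem F64053 : act 0 n16189 = n15862 := d1_1 D16189 F62765 (iv F61424)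
theorem F64054 : act 3 n16189 = n15528 := d15_2 D15526 D16189 (iv D15528) (iv D14768) (iv F58354)
theorem F64055 : act 5 n16189 = n15527 := d17_2 (iv F61426) D16189 (iv D15527)
theorem F64056 : act 6 n16189 = n16001 := d18_2 (iv F61427) D16189 F63237
theorem F64057 : act 8 n16189 = n16189 := d20_2 F61428 D16189 (iv D16189)
def n16190 : Q := act 4 n15526
theorem D16190 : act 4 n15526 = n16190 := rfl
theorem F64058 : act 0 n16190 = n15870 := d3_1 D16190 (iv D15870) (iv F61424)
theorem F64059 : act 1 n16190 = n16190 := d10_1 D16190 (iv D16190) F61425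
theorem F64060 : act 3 n16190 = n16190 := d21_1 D16190 (iv D16190) (iv D15526) F58355 D15526
theorem F64061 : act 6 n16190 = n16017 := d27_2 (iv F61427) D16190 (iv D16017)
theorem F64062 : act 8 n16190 = n16190 := d29_2 F61428 D16190 (iv D16190)
def n16191 : Q := act 1 n15527
theorem D16191 : act 1 n15527 = n16191 := rfl
theorem F64063 : act 2 n16191 = n16191 := d8_2 D15527 D16191 (iv D16191) (iv D15527) F58359
theorem F64064 : act 3 n16191 = n15530 := d9_2 (iv F61429) D16191 (iv D15530)
theorem F64065 : act 6 n16191 = n15540 := d12_2 (iv F61430) D16191 (iv D15540)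
theorem F64066 : act 8 n16191 = n16191 := d14_2 F61431 D16191 (iv D16191)
def n16192 : Q := act 1 n15528
theorem D16192 : act 1 n15528 = n16192 := rfl
theorem F64067 : act 0 n16192 = n15878 := d0_1 D16192 (iv D15878) F60015 D15183 (iv F61432)
theorem F64068 : act 2 n16192 = n15565 := d8_2 D15528 D16192 (iv D15565) (iv D14809) (iv F58363)
theorem F64069 : act 5 n16192 = n15530 := d11_2 (iv F61433) D16192 (iv D15530)
theorem F64070 : act 6 n16192 = n15941 := d12_2 (iv F61434) D16192 F63076
theorem F64071 : act 8 n16192 = n16192 := d14_2 F61435 D16192 (iv D16192)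
theorem F64072 : act 4 n15877 = n16192 := d27_3 F64070 (iv F63622) F63624
def n16193 : Q := act 4 n15528
theorem D16193 : act 4 n15528 = n16193 := rfl
theorem F64073 : act 0 n16193 = n15530 := d3_1 D16193 F61443 (iv F61432)
theorem F64074 : act 1 n16193 = n15877 := d10_1 D16193 F64072 (iv D16192)
theorem F64075 : act 2 n16193 = n15529 := d16_1 D16193 (iv D15529) D15528
theorem F64076 : act 5 n16193 = n15878 := d26_2 (iv F61433) D16193 F62842 F60018 (iv F58367)
theorem F64077 : act 6 n16193 = n15543 := d27_2 (iv F61434) D16193 F61483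
theorem F64078 : act 8 n16193 = n16193 := d29_2 F61435 D16193 (iv D16193)
def n16194 : Q := act 3 n15532
theorem D16194 : act 3 n15532 = n16194 := rfl
theorem F64079 : act 0 n16194 = n16012 := d2_1 D16194 (iv F63600) F63598
theorem F64080 : act 1 n16194 = n16194 := d9_1 D16194 (iv D16194) F61448
theorem F64081 : act 5 n16194 = n16015 := d22_2 F64044 D16194 (iv F64043)
theorem F64082 : act 6 n16194 = n15534 := d23_2 (iv F61449) D16194 (iv D15534)
theorem F64083 : act 7 n16194 = n15538 := d24_2 D15532 D16194 (iv D15538) (iv D14776) (iv F58374)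
def n16195 : Q := act 3 n15533
theorem D16195 : act 3 n15533 = n16195 := rfl
theorem F64084 : act 1 n16195 = n16195 := d9_1 D16195 (iv D16195) F61450
theorem F64085 : act 5 n16195 = n15535 := d22_2 (iv F61451) D16195 (iv D15535)
theorem F64086 : act 7 n16195 = n16195 := d24_2 D15533 D16195 (iv D16195) (iv D15533) F58377
theorem F64087 : act 8 n16195 = n15534 := d25_2 (iv F61452) D16195 (iv D15534)
def n16196 : Q := act 2 n15534
theorem D16196 : act 2 n15534 = n16196 := rfl
theorem F64088 : act 5 n16196 = n15536 := d17_2 (iv F61454) D16196 (iv D15536)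
theorem F64089 : act 7 n16196 = n15539 := d19_2 (iv F61455) D16196 (iv D15539)
def n16197 : Q := act 2 n15535
theorem D16197 : act 2 n15535 = n16197 := rfl
theorem F64090 : act 7 n16197 = n16197 := d19_2 F61457 D16197 (iv D16197)
theorem F64091 : act 8 n16197 = n15536 := d20_2 (iv F61458) D16197 (iv D15536)
def n16198 : Q := act 4 n15535
theorem D16198 : act 4 n15535 = n16198 := rfl
theorem F64092 : act 0 n16198 = n15837 := d3_1 D16198 (iv F63609) F63607
theorem F64093 : act 1 n16198 = n16198 := d10_1 D16198 (iv D16198) F61456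
theorem F64094 : act 3 n16198 = n15835 := d21_1 D16198 F62652 F59766 F59321 D15535
theorem F64095 : act 6 n16198 = n15907 := d27_2 F63361 D16198 (iv F63360)
theorem F64096 : act 7 n16198 = n16198 := d28_2 F61457 D16198 (iv D16198)
theorem F64097 : act 8 n16198 = n15537 := d29_2 (iv F61458) D16198 (iv D15537)
def n16199 : Q := act 1 n15536
theorem D16199 : act 1 n15536 = n16199 := rfl
theorem F64098 : act 2 n16199 = n16199 := d8_2 D15536 D16199 (iv D16199) (iv D15536) F58383
theorem F64099 : act 7 n16199 = n15540 := d13_2 (iv F61459) D16199 (iv D15540)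
def n16200 : Q := act 4 n15536
theorem D16200 : act 4 n15536 = n16200 := rfl
theorem F64100 : act 2 n16200 = n15537 := d16_1 D16200 (iv D15537) D15536
theorem F64101 : act 7 n16200 = n15541 := d28_2 (iv F61459) D16200 (iv D15541)
def n16201 : Q := act 1 n15539
theorem D16201 : act 1 n15539 = n16201 := rfl
theorem F64102 : act 2 n16201 = n16201 := d8_2 D15539 D16201 (iv D16201) (iv D15539) F58392
theorem F64103 : act 3 n16201 = n15542 := d9_2 (iv F61467) D16201 (iv D15542)
theorem F64104 : act 5 n16201 = n15540 := d11_2 (iv F61468) D16201 (iv D15540)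
theorem F64105 : act 6 n16201 = n15950 := d12_2 F63685 D16201 (iv F63682)
theorem F64106 : act 8 n16201 = n16201 := d14_2 F61469 D16201 (iv D16201)
theorem F64107 : act 0 n15688 = n16201 := d2_3 F64103 (iv F61481) D15688
def n16202 : Q := act 0 n15540
theorem D16202 : act 0 n15540 = n16202 := rfl
theorem F64108 : act 2 n16202 = n16202 := d1_2 F61470 D16202 (iv D16202)
theorem F64109 : act 3 n16202 = n15543 := d2_2 (iv F61471) D16202 (iv D15543)
theorem F64110 : act 5 n16202 = n15688 := d4_2 F64104 D16202 F64107
theorem F64111 : act 8 n16202 = n16202 := d7_2 F61472 D16202 (iv D16202)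
def n16203 : Q := act 4 n15540
theorem D16203 : act 4 n15540 = n16203 := rfl
theorem F64112 : act 1 n16203 = n15541 := d10_1 D16203 (iv D15541) D15540
theorem F64113 : act 2 n16203 = n16203 := d16_1 D16203 (iv D16203) F61470
theorem F64114 : act 3 n16203 = n16002 := d21_1 D16203 (iv D16002) F60468 (iv F58403) (iv F61471)
theorem F64115 : act 8 n16203 = n16203 := d29_2 F61472 D16203 (iv D16203)
def n16204 : Q := act 1 n15544
theorem D16204 : act 1 n15544 = n16204 := rfl
theorem F64116 : act 0 n16204 = n15946 := d0_1 D16204 F63088 F60333 F58580 (iv F61486)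
theorem F64117 : act 3 n16204 = n15681 := d9_2 (iv F61487) D16204 F62099
theorem F64118 : act 4 n16204 = n15679 := d10_2 (iv F61488) D16204 F62091
theorem F64119 : act 5 n16204 = n15949 := d11_2 (iv F61489) D16204 (iv D15949)
theorem F64120 : act 6 n16204 = n15548 := d12_2 (iv F61490) D16204 (iv D15548)
theorem F64121 : act 7 n16204 = n16204 := d13_2 F61491 D16204 (iv D16204)
theorem F64122 : act 8 n16204 = n15553 := d14_2 (iv F61492) D16204 (iv D15553)
def n16205 : Q := act 2 n15546
theorem D16205 : act 2 n15546 = n16205 := rfl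
theorem F64123 : act 0 n16205 = n15985 := d1_1 D16205 (iv D15985) (iv F61499)
theorem F64124 : act 1 n16205 = n15686 := d8_1 D16205 F62118 F59196 F58446 (iv F61500)
theorem F64125 : act 4 n16205 = n15586 := d16_2 (iv F61501) D16205 (iv D15586)
theorem F64126 : act 6 n16205 = n15928 := d18_2 (iv F61502) D16205 (iv D15928)
theorem F64127 : act 7 n16205 = n15589 := d19_2 (iv F61503) D16205 F61723
theorem F64128 : act 8 n16205 = n15558 := d20_2 (iv F61504) D16205 (iv D15558)
def n16206 : Q := act 1 n15547
theorem D16206 : act 1 n15547 = n16206 := rfl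
theorem F64129 : act 0 n16206 = n15562 := d0_1 D16206 (iv D15562) F58535 (iv F58581) (iv F61505)
theorem F64130 : act 3 n16206 = n15564 := d9_2 (iv F61506) D16206 F61598
theorem F64131 : act 4 n16206 = n15677 := d10_2 (iv F61507) D16206 F62084
theorem F64132 : act 5 n16206 = n15548 := d11_2 (iv F61508) D16206 (iv D15548)
theorem F64133 : act 6 n16206 = n15943 := d12_2 (iv F61509) D16206 F63082
theorem F64134 : act 7 n16206 = n16206 := d13_2 F61510 D16206 (iv D16206)
theorem F64135 : act 8 n16206 = n15563 := d14_2 (iv F61511) D16206 (iv D15563)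
def n16207 : Q := act 0 n15548
theorem D16207 : act 0 n15548 = n16207 := rfl
theorem F64136 : act 1 n16207 = n15560 := d0_2 D15548 D16207 F61575 (iv D14816) (iv F58457)
theorem F64137 : act 3 n16207 = n15563 := d2_2 (iv F61512) D16207 F61593
theorem F64138 : act 4 n16207 = n15682 := d3_2 (iv F61513) D16207 F62103
theorem F64139 : act 5 n16207 = n15562 := d4_2 F64132 D16207 (iv F64129)
theorem F64140 : act 6 n16207 = n15946 := d5_2 F64120 D16207 (iv F64116)
theorem F64141 : act 7 n16207 = n16207 := d6_2 F61514 D16207 (iv D16207)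
theorem F64142 : act 8 n16207 = n15564 := d7_2 (iv F61515) D16207 (iv D15564)
def n16208 : Q := act 2 n15549
theorem D16208 : act 2 n15549 = n16208 := rfl
theorem F64143 : act 0 n16208 = n15970 := d1_1 D16208 (iv D15970) (iv F61516)
theorem F64144 : act 4 n16208 = n15713 := d16_2 (iv F61518) D16208 (iv D15713)
theorem F64145 : act 5 n16208 = n15913 := d17_2 (iv F61519) D16208 (iv D15913)
theorem F64146 : act 6 n16208 = n15558 := d18_2 (iv F61520) D16208 (iv D15558)
theorem F64147 : act 7 n16208 = n16208 := d19_2 F61521 D16208 (iv D16208)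
theorem F64148 : act 8 n16208 = n15928 := d20_2 (iv F61522) D16208 (iv D15928)
def n16209 : Q := act 1 n15550
theorem D16209 : act 1 n15550 = n16209 := rfl
theorem F64149 : act 0 n16209 = n15943 := d0_1 D16209 F63082 F60319 (iv F58595) (iv F61523)
theorem F64150 : act 3 n16209 = n15553 := d9_2 (iv F61524) D16209 (iv D15553)
theorem F64151 : act 4 n16209 = n15676 := d10_2 (iv F61525) D16209 F62079
theorem F64152 : act 5 n16209 = n15944 := d11_2 (iv F61526) D16209 (iv D15944)
theorem F64153 : act 6 n16209 = n15562 := d12_2 (iv F61527) D16209 (iv D15562)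
theorem F64154 : act 7 n16209 = n16209 := d13_2 F61528 D16209 (iv D16209)
theorem F64155 : act 8 n16209 = n15681 := d14_2 (iv F61529) D16209 F62099
def n16210 : Q := act 1 n15551
theorem D16210 : act 1 n15551 = n16210 := rfl
theorem F64156 : act 0 n16210 = n15829 := d0_1 D16210 F62620 F59714 (iv F58602) (iv F61530)
theorem F64157 : act 3 n16210 = n15944 := d9_2 (iv F61531) D16210 (iv D15944)
theorem F64158 : act 4 n16210 = n15826 := d10_2 F61536 D16210 F62612
theorem F64159 : act 5 n16210 = n15553 := d11_2 (iv F61532) D16210 (iv D15553)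
theorem F64160 : act 6 n16210 = n15948 := d12_2 (iv F61533) D16210 F63094
theorem F64161 : act 7 n16210 = n15565 := d13_2 (iv F61534) D16210 (iv D15565)
theorem F64162 : act 8 n16210 = n15949 := d14_2 (iv F61535) D16210 (iv D15949)
def n16211 : Q := act 2 n15555
theorem D16211 : act 2 n15555 = n16211 := rfl
theorem F64163 : act 0 n16211 = n15558 := d1_1 D16211 (iv D15558) (iv F61553)
theorem F64164 : act 6 n16211 = n15970 := d18_2 (iv F61555) D16211 (iv D15970)
theorem F64165 : act 7 n16211 = n16211 := d19_2 F61556 D16211 (iv D16211)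
theorem F64166 : act 8 n16211 = n15985 := d20_2 (iv F61557) D16211 (iv D15985)
def n16212 : Q := act 3 n15556
theorem D16212 : act 3 n15556 = n16212 := rfl
theorem F64167 : act 0 n16212 = n15823 := d2_1 D16212 (iv D15823) (iv F61558)
theorem F64168 : act 1 n16212 = n15559 := d9_1 D16212 (iv D15559) (iv F61559)
theorem F64169 : act 4 n16212 = n15949 := d21_2 (iv F61560) D16212 F63096 (iv F61002) F61001
theorem F64170 : act 5 n16212 = n15822 := d22_2 (iv F61561) D16212 (iv D15822)
theorem F64171 : act 6 n16212 = n15557 := d23_2 (iv F61562) D16212 (iv D15557)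
theorem F64172 : act 7 n16212 = n16212 := d24_2 D15556 D16212 (iv D16212) (iv D15556) F58517
theorem F64173 : act 8 n16212 = n15826 := d25_2 (iv F61563) D16212 (iv D15826)
def n16213 : Q := act 2 n15557
theorem D16213 : act 2 n15557 = n16213 := rfl
theorem F64174 : act 5 n16213 = n15558 := d17_2 (iv F61565) D16213 (iv D15558)
theorem F64175 : act 7 n16213 = n16213 := d19_2 F61566 D16213 (iv D16213)
def n16214 : Q := act 4 n15557
theorem D16214 : act 4 n15557 = n16214 := rfl
theorem F64176 : act 0 n16214 = n15944 := d3_1 D16214 (iv F63653) F63651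
theorem F64177 : act 1 n16214 = n15561 := d10_1 D16214 (iv D15561) (iv F61564)
theorem F64178 : act 3 n16214 = n15829 := d21_1 D16214 (iv D15829) (iv D15110) (iv F58522) D15557
theorem F64179 : act 5 n16214 = n15943 := d26_2 (iv F61565) D16214 (iv D15943) (iv F61252) F61251
theorem F64180 : act 6 n16214 = n15949 := d27_2 F64171 D16214 (iv F64169)
theorem F64181 : act 7 n16214 = n16214 := d28_2 F61566 D16214 (iv D16214)
theorem F64182 : act 8 n16214 = n15948 := d29_2 F63680 D16214 (iv F63676)
def n16215 : Q := act 1 n15558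
theorem D16215 : act 1 n15558 = n16215 := rfl
theorem F64183 : act 2 n16215 = n15562 := d8_2 D15558 D16215 (iv D15562) (iv D14806) (iv F58524)
theorem F64184 : act 4 n16215 = n15678 := d10_2 F63874 D16215 (iv F63873)
theorem F64185 : act 7 n16215 = n16215 := d13_2 F61567 D16215 (iv D16215)
theorem F64186 : act 8 n16215 = n15686 := d14_2 F64128 D16215 (iv F64124)
def n16216 : Q := act 7 n15569
theorem D16216 : act 7 n15569 = n16216 := rfl
theorem F64187 : act 0 n16216 = n15571 := d6_1 D16216 (iv D15571) (iv F61621)
theorem F64188 : act 1 n16216 = n16216 := d13_1 D16216 (iv D16216) F61622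
theorem F64189 : act 3 n16216 = n15668 := d24_1 D16216 (iv D15668) F59096 (iv F59330) (iv F61623)
theorem F64190 : act 4 n16216 = n15570 := d28_1 D16216 (iv D15570) (iv F61624)
theorem F64191 : act 5 n16216 = n15670 := d31_1 D16216 F62048 (iv F61625)
theorem F64192 : act 6 n16216 = n15710 := d33_1 D16216 (iv D15710) (iv F61626)
theorem F64193 : act 8 n16216 = n15669 := d35_2 D15569 D16216 F62043 F59121 (iv F58684)
def n16217 : Q := act 4 n15573
theorem D16217 : act 4 n15573 = n16217 := rfl
theorem F64194 : act 0 n16217 = n16217 := d3_1 D16217 (iv D16217) F61642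
theorem F64195 : act 2 n16217 = n15867 := d16_1 D16217 (iv D15867) (iv F61643)
theorem F64196 : act 3 n16217 = n15842 := d21_1 D16217 (iv D15842) (iv D15131) (iv F58710) D15573
theorem F64197 : act 5 n16217 = n16008 := d26_2 (iv F61644) D16217 (iv D16008) F60502 (iv F58714)
theorem F64198 : act 6 n16217 = n16014 := d27_2 (iv F61645) D16217 (iv D16014)
theorem F64199 : act 7 n16217 = n16217 := d28_2 F61646 D16217 (iv D16217)
theorem F64200 : act 8 n16217 = n15869 := d29_2 (iv F61647) D16217 (iv D15869)
def n16218 : Q := act 1 n15574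
theorem D16218 : act 1 n15574 = n16218 := rfl
theorem F64201 : act 3 n16218 = n15855 := d9_2 (iv F61649) D16218 F62739
theorem F64202 : act 4 n16218 = n16009 := d10_2 (iv F61650) D16218 (iv D16009)
theorem F64203 : act 5 n16218 = n15857 := d11_2 (iv F61651) D16218 F62748
theorem F64204 : act 7 n16218 = n16218 := d13_2 F61652 D16218 (iv D16218)
theorem F64205 : act 8 n16218 = n15856 := d14_2 (iv F61653) D16218 F62744
def n16219 : Q := act 3 n15575
theorem D16219 : act 3 n15575 = n16219 := rfl
theorem F64206 : act 0 n16219 = n15691 := d2_1 D16219 (iv D15691) (iv F61654)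
theorem F64207 : act 2 n16219 = n15605 := d15_1 D16219 (iv D15605) F58863 (iv F58724) (iv F61655)
theorem F64208 : act 5 n16219 = n15905 := d22_2 (iv F61657) D16219 (iv D15905)
theorem F64209 : act 6 n16219 = n15706 := d23_2 (iv F61658) D16219 (iv D15706)
theorem F64210 : act 7 n16219 = n15576 := d24_2 D15575 D16219 (iv D15576) (iv D14842) (iv F58718)
theorem F64211 : act 8 n16219 = n16024 := d25_2 (iv F61659) D16219 (iv D16024)
def n16220 : Q := act 4 n15576
theorem D16220 : act 4 n15576 = n16220 := rfl
theorem F64212 : act 0 n16220 = n15694 := d3_1 D16220 (iv D15694) (iv F61660)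
theorem F64213 : act 2 n16220 = n15622 := d16_1 D16220 (iv D15622) (iv F61661)
theorem F64214 : act 3 n16220 = n15695 := d21_1 D16220 (iv D15695) (iv D14974) (iv F58731) D15576
theorem F64215 : act 6 n16220 = n15708 := d27_2 (iv F61663) D16220 (iv D15708)
theorem F64216 : act 8 n16220 = n15583 := d29_2 (iv F61664) D16220 (iv D15583)
def n16221 : Q := act 3 n15577
theorem D16221 : act 3 n15577 = n16221 := rfl
theorem F64217 : act 1 n16221 = n15578 := d9_1 D16221 (iv D15578) (iv F61665)
theorem F64218 : act 6 n16221 = n15580 := d23_2 (iv F61668) D16221 (iv D15580)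
theorem F64219 : act 7 n16221 = n16050 := d24_2 D15577 D16221 (iv D16050) (iv D15371) (iv F58737)
theorem F64220 : act 8 n16221 = n15700 := d25_2 (iv F61669) D16221 (iv D15700)
def n16222 : Q := act 4 n15578
theorem D16222 : act 4 n15578 = n16222 := rfl
theorem F64221 : act 0 n16222 = n15695 := d3_1 D16222 (iv D15695) (iv F61670)
theorem F64222 : act 2 n16222 = n15635 := d16_1 D16222 (iv D15635) (iv F61671)
theorem F64223 : act 3 n16222 = n15694 := d21_1 D16222 (iv D15694) (iv D14973) (iv F58742) D15578
theorem F64224 : act 6 n16222 = n15583 := d27_2 (iv F61672) D16222 (iv D15583)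
theorem F64225 : act 7 n16222 = n16052 := d28_2 (iv F61673) D16222 (iv D16052)
theorem F64226 : act 8 n16222 = n15708 := d29_2 (iv F61674) D16222 (iv D15708)
def n16223 : Q := act 3 n15579
theorem D16223 : act 3 n15579 = n16223 := rfl
theorem F64227 : act 0 n16223 = n15580 := d2_1 D16223 (iv D15580) (iv F61675)
theorem F64228 : act 1 n16223 = n15625 := d9_1 D16223 (iv D15625) (iv F61676)
theorem F64229 : act 5 n16223 = n15629 := d22_2 (iv F61678) D16223 (iv D15629)
theorem F64230 : act 7 n16223 = n16056 := d24_2 D15579 D16223 (iv D16056) (iv D15377) (iv F58748)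
def n16224 : Q := act 2 n15580
theorem D16224 : act 2 n15580 = n16224 := rfl
theorem F64231 : act 1 n16224 = n15647 := d8_1 D16224 (iv D15647) F59008 (iv F58764) (iv F61679)
theorem F64232 : act 3 n16224 = n15586 := d15_2 D15580 D16224 (iv D15586) (iv D14854) (iv F58751)
theorem F64233 : act 5 n16224 = n15917 := d17_2 (iv F61680) D16224 (iv D15917)
theorem F64234 : act 7 n16224 = n16061 := d19_2 (iv F61681) D16224 (iv D16061)
def n16225 : Q := act 4 n15580
theorem D16225 : act 4 n15580 = n16225 := rfl
theorem F64235 : act 1 n16225 = n15583 := d10_1 D16225 (iv D15583) (iv F61679)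
theorem F64236 : act 7 n16225 = n16062 := d28_2 (iv F61681) D16225 (iv D16062)
def n16226 : Q := act 3 n15581
theorem D16226 : act 3 n15581 = n16226 := rfl
theorem F64237 : act 0 n16226 = n15706 := d2_1 D16226 (iv D15706) (iv F61682)
theorem F64238 : act 2 n16226 = n15716 := d15_1 D16226 (iv D15716) F59353 (iv F58769) (iv F61683)
theorem F64239 : act 6 n16226 = n15691 := d23_2 (iv F61685) D16226 (iv D15691)
theorem F64240 : act 7 n16226 = n15582 := d24_2 D15581 D16226 (iv D15582) (iv D14848) (iv F58755)
theorem F64241 : act 8 n16226 = n16093 := d25_2 (iv F61686) D16226 (iv D16093)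
def n16227 : Q := act 4 n15582
theorem D16227 : act 4 n15582 = n16227 := rfl
theorem F64242 : act 0 n16227 = n15708 := d3_1 D16227 (iv D15708) (iv F61687)
theorem F64243 : act 2 n16227 = n15740 := d16_1 D16227 (iv D15740) (iv F61688)
theorem F64244 : act 3 n16227 = n15583 := d21_1 D16227 (iv D15583) (iv D14849) (iv F58760) D15582
theorem F64245 : act 6 n16227 = n15694 := d27_2 (iv F61689) D16227 (iv D15694)
theorem F64246 : act 8 n16227 = n15695 := d29_2 (iv F61690) D16227 (iv D15695)
def n16228 : Q := act 5 n15583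
theorem D16228 : act 5 n15583 = n16228 := rfl
theorem F64247 : act 0 n16228 = n15709 := d4_1 D16228 (iv D15709) (iv F61691)
theorem F64248 : act 2 n16228 = n15659 := d17_1 D16228 (iv D15659) (iv F61692)
theorem F64249 : act 4 n16228 = n15927 := d26_1 D16228 (iv D15927) (iv D15241) (iv F58765) D15583
theorem F64250 : act 7 n16228 = n16072 := d31_2 (iv F61693) D16228 (iv D16072)
def n16229 : Q := act 2 n15584
theorem D16229 : act 2 n15584 = n16229 := rfl
theorem F64251 : act 0 n16229 = n15987 := d1_1 D16229 F63188 (iv F61694)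
theorem F64252 : act 1 n16229 = n15680 := d8_1 D16229 (iv D15680) F59169 (iv F58778) (iv F61695)
theorem F64253 : act 4 n16229 = n15928 := d16_2 (iv F61696) D16229 (iv D15928)
theorem F64254 : act 6 n16229 = n15586 := d18_2 (iv F61697) D16229 (iv D15586)
theorem F64255 : act 7 n16229 = n15587 := d19_2 (iv F61698) D16229 (iv D15587)
theorem F64256 : act 8 n16229 = n15713 := d20_2 (iv F61699) D16229 (iv D15713)
def n16230 : Q := act 2 n15585
theorem D16230 : act 2 n15585 = n16230 := rfl
theorem F64257 : act 0 n16230 = n15586 := d1_1 D16230 (iv D15586) (iv F61700)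
theorem F64258 : act 4 n16230 = n15985 := d16_2 (iv F61702) D16230 (iv D15985)
theorem F64259 : act 5 n16230 = n15680 := d17_2 (iv F61703) D16230 (iv D15680)
theorem F64260 : act 6 n16230 = n15987 := d18_2 (iv F61704) D16230 F63188
theorem F64261 : act 7 n16230 = n15588 := d19_2 (iv F61705) D16230 (iv D15588)
def n16231 : Q := act 3 n15589
theorem D16231 : act 3 n15589 = n16231 := rfl
theorem F64262 : act 0 n16231 = n15998 := d2_1 D16231 F63222 (iv F61721)
theorem F64263 : act 1 n16231 = n15688 := d9_1 D16231 (iv D15688) (iv F61722)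
theorem F64264 : act 2 n16231 = n15937 := d15_1 D16231 (iv D15937) F60293 (iv F58806) (iv F61723)
theorem F64265 : act 4 n16231 = n16090 := d21_2 D15589 D16231 (iv D16090) (iv D15429) (iv F58801)
theorem F64266 : act 6 n16231 = n15938 := d23_2 (iv F61724) D16231 F63063
theorem F64267 : act 8 n16231 = n16231 := d25_2 F61725 D16231 (iv D16231)
def n16232 : Q := act 7 n15590
theorem D16232 : act 7 n15590 = n16232 := rfl
theorem F64268 : act 0 n16232 = n15689 := d6_1 D16232 (iv D15689) (iv F61726)
theorem F64269 : act 2 n16232 = n15591 := d19_1 D16232 (iv D15591) (iv F61727)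
theorem F64270 : act 5 n16232 = n15594 := d31_1 D16232 (iv D15594) (iv F61729)
theorem F64271 : act 8 n16232 = n16095 := d35_2 D15590 D16232 (iv D16095) (iv D15437) (iv F58817)
def n16233 : Q := act 7 n15592
theorem D16233 : act 7 n15592 = n16233 := rfl
theorem F64272 : act 0 n16233 = n15901 := d6_1 D16233 (iv D15901) (iv F61735)
theorem F64273 : act 1 n16233 = n15594 := d13_1 D16233 (iv D15594) (iv F61736)
theorem F64274 : act 2 n16233 = n16233 := d19_1 D16233 (iv D16233) F61737
theorem F64275 : act 6 n16233 = n15600 := d33_1 D16233 (iv D15600) (iv F61739)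
def n16234 : Q := act 7 n15593
theorem D16234 : act 7 n15593 = n16234 := rfl
theorem F64276 : act 0 n16234 = n15715 := d6_1 D16234 (iv D15715) (iv F61740)
theorem F64277 : act 2 n16234 = n15595 := d19_1 D16234 (iv D15595) (iv F61741)
theorem F64278 : act 4 n16234 = n15594 := d28_1 D16234 (iv D15594) (iv F61743)
theorem F64279 : act 6 n16234 = n15604 := d33_1 D16234 (iv D15604) (iv F61744)
def n16235 : Q := act 3 n15594
theorem D16235 : act 3 n15594 = n16235 := rfl
theorem F64280 : act 0 n16235 = n15716 := d2_1 D16235 (iv D15716) (iv F61745)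
theorem F64281 : act 2 n16235 = n15706 := d15_1 D16235 (iv D15706) F59295 (iv F58841) (iv F61746)
theorem F64282 : act 6 n16235 = n15605 := d23_2 (iv F61747) D16235 (iv D15605)
theorem F64283 : act 7 n16235 = n15610 := d24_2 D15594 D16235 (iv D15610) (iv D14879) (iv F58832)
def n16236 : Q := act 8 n15596
theorem D16236 : act 8 n15596 = n16236 := rfl
theorem F64284 : act 0 n16236 = n15599 := d7_1 D16236 (iv D15599) (iv F61753)
theorem F64285 : act 1 n16236 = n15719 := d14_1 D16236 (iv D15719) (iv F61754)
theorem F64286 : act 2 n16236 = n16236 := d20_1 D16236 (iv D16236) F61755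
theorem F64287 : act 4 n16236 = n15597 := d29_1 D16236 (iv D15597) D15596
theorem F64288 : act 5 n16236 = n15952 := d32_1 D16236 (iv D15952) (iv F61756)
theorem F64289 : act 6 n16236 = n15900 := d34_1 D16236 (iv D15900) (iv F61757)
def n16237 : Q := act 7 n15597
theorem D16237 : act 7 n15597 = n16237 := rfl
theorem F64290 : act 0 n16237 = n15600 := d6_1 D16237 (iv D15600) (iv F61759)
theorem F64291 : act 1 n16237 = n15720 := d13_1 D16237 (iv D15720) (iv F61760)
theorem F64292 : act 2 n16237 = n16237 := d19_1 D16237 (iv D16237) F61761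
theorem F64293 : act 6 n16237 = n15901 := d33_1 D16237 (iv D15901) (iv F61763)
theorem F64294 : act 8 n16237 = n16233 := d35_2 D15597 D16237 (iv D16233) (iv D15592) (iv F58847)
def n16238 : Q := act 8 n15598
theorem D16238 : act 8 n15598 = n16238 := rfl
theorem F64295 : act 0 n16238 = n15952 := d7_1 D16238 (iv D15952) (iv F61764)
theorem F64296 : act 1 n16238 = n15603 := d14_1 D16238 (iv D15603) (iv F61765)
theorem F64297 : act 2 n16238 = n16238 := d20_1 D16238 (iv D16238) F61766
theorem F64298 : act 4 n16238 = n15909 := d29_1 D16238 (iv D15909) (iv F61767)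
theorem F64299 : act 5 n16238 = n15599 := d32_1 D16238 (iv D15599) D15598
def n16239 : Q := act 7 n15599
theorem D16239 : act 7 n15599 = n16239 := rfl
theorem F64300 : act 1 n16239 = n15604 := d13_1 D16239 (iv D15604) (iv F61769)
theorem F64301 : act 2 n16239 = n16239 := d19_1 D16239 (iv D16239) F61770
theorem F64302 : act 4 n16239 = n15600 := d28_1 D16239 (iv D15600) (iv F61771)
def n16240 : Q := act 3 n15600
theorem D16240 : act 3 n15600 = n16240 := rfl
theorem F64303 : act 1 n16240 = n15605 := d9_1 D16240 (iv D15605) (iv F61772)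
theorem F64304 : act 7 n16240 = n15614 := d24_2 D15600 D16240 (iv D15614) (iv D14883) (iv F58852)
def n16241 : Q := act 8 n15601
theorem D16241 : act 8 n15601 = n16241 := rfl
theorem F64305 : act 0 n16241 = n15730 := d7_1 D16241 (iv D15730) (iv F61774)
theorem F64306 : act 1 n16241 = n15732 := d14_1 D16241 (iv D15732) (iv F61775)
theorem F64307 : act 2 n16241 = n15836 := d20_1 D16241 (iv D15836) (iv F61776)
theorem F64308 : act 3 n16241 = n16238 := d25_1 D16241 (iv D16238) (iv F61777)
theorem F64309 : act 4 n16241 = n15618 := d29_1 D16241 (iv D15618) (iv F61778)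
theorem F64310 : act 5 n16241 = n15954 := d32_1 D16241 (iv D15954) (iv F61779)
theorem F64311 : act 6 n16241 = n15724 := d34_1 D16241 (iv D15724) (iv F61780)
def n16242 : Q := act 7 n15602
theorem D16242 : act 7 n15602 = n16242 := rfl
theorem F64312 : act 0 n16242 = n15731 := d6_1 D16242 (iv D15731) (iv F61781)
theorem F64313 : act 2 n16242 = n15811 := d19_1 D16242 F62547 (iv F61782)
theorem F64314 : act 4 n16242 = n15619 := d28_1 D16242 (iv D15619) (iv F61784)
theorem F64315 : act 6 n16242 = n15820 := d33_1 D16242 F62586 (iv F61785)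
def n16243 : Q := act 7 n15603
theorem D16243 : act 7 n15603 = n16243 := rfl
theorem F64316 : act 0 n16243 = n15733 := d6_1 D16243 (iv D15733) (iv F61786)
theorem F64317 : act 2 n16243 = n15606 := d19_1 D16243 (iv D15606) (iv F61787)
theorem F64318 : act 5 n16243 = n15604 := d31_1 D16243 (iv D15604) (iv F61788)
def n16244 : Q := act 3 n15604
theorem D16244 : act 3 n15604 = n16244 := rfl
theorem F64319 : act 0 n16244 = n15734 := d2_1 D16244 (iv D15734) (iv F61789)
def n16245 : Q := act 4 n15605
theorem D16245 : act 4 n15605 = n16245 := rfl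
theorem F64320 : act 0 n16245 = n15735 := d3_1 D16245 (iv D15735) (iv F61792)
theorem F64321 : act 7 n16245 = n15622 := d28_2 (iv F61793) D16245 (iv D15622)
def n16246 : Q := act 3 n15606
theorem D16246 : act 3 n15606 = n16246 := rfl
theorem F64322 : act 0 n16246 = n15737 := d2_1 D16246 (iv D15737) (iv F61794)
theorem F64323 : act 1 n16246 = n16246 := d9_1 D16246 (iv D16246) F61795
theorem F64324 : act 5 n16246 = n15607 := d22_2 (iv F61796) D16246 (iv D15607)
theorem F64325 : act 7 n16246 = n15879 := d24_2 D15606 D16246 (iv D15879) (iv D15184) (iv F58866)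
def n16247 : Q := act 2 n15607
theorem D16247 : act 2 n15607 = n16247 := rfl
theorem F64326 : act 0 n16247 = n15738 := d1_1 D16247 (iv D15738) (iv F61797)
theorem F64327 : act 4 n16247 = n16188 := d16_2 (iv F61799) D16247 (iv D16188)
theorem F64328 : act 6 n16247 = n16200 := d18_2 (iv F61800) D16247 F64100
theorem F64329 : act 7 n16247 = n15880 := d19_2 (iv F61801) D16247 (iv D15880)
def n16248 : Q := act 3 n15608
theorem D16248 : act 3 n15608 = n16248 := rfl
theorem F64330 : act 0 n16248 = n15693 := d2_1 D16248 (iv D15693) (iv F61802)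
theorem F64331 : act 2 n16248 = n15707 := d15_1 D16248 (iv D15707) F59297 (iv F58876) (iv F61803)
theorem F64332 : act 5 n16248 = n15610 := d22_2 (iv F61804) D16248 (iv D15610)
theorem F64333 : act 8 n16248 = n15625 := d25_2 (iv F61805) D16248 (iv D15625)
def n16249 : Q := act 3 n15609
theorem D16249 : act 3 n15609 = n16249 := rfl
theorem F64334 : act 0 n16249 = n15908 := d2_1 D16249 (iv D15908) (iv F61806)
theorem F64335 : act 1 n16249 = n15610 := d9_1 D16249 (iv D15610) (iv F61807)
theorem F64336 : act 6 n16249 = n15614 := d23_2 (iv F61810) D16249 (iv D15614)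
theorem F64337 : act 8 n16249 = n15629 := d25_2 (iv F61811) D16249 (iv D15629)
def n16250 : Q := act 4 n15610
theorem D16250 : act 4 n15610 = n16250 := rfl
theorem F64338 : act 0 n16250 = n15740 := d3_1 D16250 (iv D15740) (iv F61812)
theorem F64339 : act 2 n16250 = n15708 := d16_1 D16250 (iv D15708) (iv F61813)
theorem F64340 : act 3 n16250 = n15803 := d21_1 D16250 (iv D15803) F59595 (iv F58886) D15610
theorem F64341 : act 6 n16250 = n15622 := d27_2 (iv F61814) D16250 (iv D15622)
theorem F64342 : act 8 n16250 = n15635 := d29_2 (iv F61815) D16250 (iv D15635)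
def n16251 : Q := act 3 n15611
theorem D16251 : act 3 n15611 = n16251 := rfl
theorem F64343 : act 0 n16251 = n15614 := d2_1 D16251 (iv D15614) (iv F61816)
theorem F64344 : act 1 n16251 = n15744 := d9_1 D16251 (iv D15744) (iv F61817)
theorem F64345 : act 6 n16251 = n15908 := d23_2 (iv F61819) D16251 (iv D15908)
theorem F64346 : act 8 n16251 = n15639 := d25_2 (iv F61820) D16251 (iv D15639)
def n16252 : Q := act 7 n15612
theorem D16252 : act 7 n15612 = n16252 := rfl
theorem F64347 : act 1 n16252 = n15619 := d13_1 D16252 (iv D15619) (iv F61821)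
theorem F64348 : act 2 n16252 = n15876 := d19_1 D16252 F62837 (iv F61822)
theorem F64349 : act 6 n16252 = n15819 := d33_1 D16252 F62583 (iv F61824)
def n16253 : Q := act 3 n15613
theorem D16253 : act 3 n15613 = n16253 := rfl
theorem F64350 : act 1 n16253 = n15621 := d9_1 D16253 (iv D15621) (iv F61825)
theorem F64351 : act 2 n16253 = n15981 := d15_1 D16253 F63179 F60436 (iv F59152) (iv F61826)
theorem F64352 : act 6 n16253 = n15802 := d23_2 (iv F61828) D16253 F62518
theorem F64353 : act 8 n16253 = n15646 := d25_2 (iv F61829) D16253 (iv D15646)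
def n16254 : Q := act 2 n15614
theorem D16254 : act 2 n15614 = n16254 := rfl
theorem F64354 : act 3 n16254 = n15678 := d15_2 D15614 D16254 (iv D15678) (iv D14949) (iv F58901)
theorem F64355 : act 8 n16254 = n15647 := d20_2 (iv F61831) D16254 (iv D15647)
def n16255 : Q := act 4 n15614
theorem D16255 : act 4 n15614 = n16255 := rfl
theorem F64356 : act 1 n16255 = n15622 := d10_1 D16255 (iv D15622) (iv F61830)
theorem F64357 : act 8 n16255 = n15648 := d29_2 (iv F61831) D16255 (iv D15648)
def n16256 : Q := act 8 n15615
theorem D16256 : act 8 n15615 = n16256 := rfl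
theorem F64358 : act 0 n16256 = n15753 := d7_1 D16256 (iv D15753) (iv F61832)
theorem F64359 : act 2 n16256 = n15813 := d20_1 D16256 F62560 (iv F61833)
theorem F64360 : act 4 n16256 = n15617 := d29_1 D16256 (iv D15617) D15615
theorem F64361 : act 5 n16256 = n16101 := d32_1 D16256 (iv D16101) (iv F61834)
theorem F64362 : act 6 n16256 = n16064 := d34_1 D16256 (iv D16064) (iv F61835)
def n16257 : Q := act 8 n15616
theorem D16257 : act 8 n15616 = n16257 := rfl
theorem F64363 : act 0 n16257 = n15755 := d7_1 D16257 (iv D15755) (iv F61837)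
theorem F64364 : act 1 n16257 = n16256 := d14_1 D16257 (iv D16256) (iv F61838)
theorem F64365 : act 2 n16257 = n15881 := d20_1 D16257 (iv D15881) (iv F61839)
theorem F64366 : act 3 n16257 = n15651 := d25_1 D16257 (iv D15651) (iv F61840)
theorem F64367 : act 4 n16257 = n16063 := d29_1 D16257 (iv D16063) (iv F61841)
theorem F64368 : act 5 n16257 = n15618 := d32_1 D16257 (iv D15618) (iv F61842)
theorem F64369 : act 6 n16257 = n16004 := d34_1 D16257 F63254 (iv F61843)
def n16258 : Q := act 7 n15617
theorem D16258 : act 7 n15617 = n16258 := rfl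
theorem F64370 : act 0 n16258 = n15756 := d6_1 D16258 (iv D15756) (iv F61844)
theorem F64371 : act 2 n16258 = n15809 := d19_1 D16258 F62538 (iv F61845)
theorem F64372 : act 5 n16258 = n15619 := d31_1 D16258 (iv D15619) (iv F61847)
def n16259 : Q := act 7 n15618
theorem D16259 : act 7 n15618 = n16259 := rfl
theorem F64373 : act 0 n16259 = n15757 := d6_1 D16259 (iv D15757) (iv F61848)
theorem F64374 : act 2 n16259 = n15810 := d19_1 D16259 F62542 (iv F61849)
theorem F64375 : act 6 n16259 = n15817 := d33_1 D16259 F62575 (iv F61851)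
theorem F64376 : act 8 n16259 = n15619 := d35_2 D15618 D16259 (iv D15619) (iv D14886) D14885
def n16260 : Q := act 3 n15619
theorem D16260 : act 3 n15619 = n16260 := rfl
theorem F64377 : act 0 n16260 = n15758 := d2_1 D16260 (iv D15758) (iv F61852)
theorem F64378 : act 2 n16260 = n15768 := d15_1 D16260 (iv D15768) F59503 D15087 (iv F61853)
theorem F64379 : act 6 n16260 = n15797 := d23_2 (iv F61854) D16260 F62512
theorem F64380 : act 7 n16260 = n15621 := d24_2 D15619 D16260 (iv D15621) (iv D14888) (iv F58912)
def n16261 : Q := act 3 n15620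
theorem D16261 : act 3 n15620 = n16261 := rfl
theorem F64381 : act 0 n16261 = n15760 := d2_1 D16261 (iv D15760) (iv F61855)
theorem F64382 : act 2 n16261 = n15770 := d15_1 D16261 (iv D15770) F59510 (iv F58926) (iv F61856)
theorem F64383 : act 5 n16261 = n15621 := d22_2 (iv F61857) D16261 (iv D15621)
theorem F64384 : act 8 n16261 = n15656 := d25_2 (iv F61858) D16261 (iv D15656)
def n16262 : Q := act 4 n15621
theorem D16262 : act 4 n15621 = n16262 := rfl
theorem F64385 : act 0 n16262 = n15761 := d3_1 D16262 (iv D15761) (iv F61859)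
theorem F64386 : act 2 n16262 = n15771 := d16_1 D16262 (iv D15771) (iv F61860)
theorem F64387 : act 3 n16262 = n15622 := d21_1 D16262 (iv D15622) (iv D14889) (iv F58919) D15621
theorem F64388 : act 6 n16262 = n15803 := d27_2 (iv F61861) D16262 (iv D15803)
theorem F64389 : act 8 n16262 = n15658 := d29_2 (iv F61862) D16262 (iv D15658)
def n16263 : Q := act 5 n15622
theorem D16263 : act 5 n15622 = n16263 := rfl
theorem F64390 : act 0 n16263 = n15762 := d4_1 D16263 (iv D15762) (iv F61863)
theorem F64391 : act 8 n16263 = n15659 := d32_2 (iv F61864) D16263 (iv D15659)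
def n16264 : Q := act 7 n15623
theorem D16264 : act 7 n15623 = n16264 := rfl
theorem F64392 : act 0 n16264 = n15698 := d6_1 D16264 (iv D15698) (iv F61865)
theorem F64393 : act 2 n16264 = n16264 := d19_1 D16264 (iv D16264) F61866
theorem F64394 : act 4 n16264 = n16155 := d28_1 D16264 (iv D16155) (iv F61868)
def n16265 : Q := act 3 n15624
theorem D16265 : act 3 n15624 = n16265 := rfl
theorem F64395 : act 0 n16265 = n15700 := d2_1 D16265 (iv D15700) (iv F61869)
def n16266 : Q := act 4 n15625
theorem D16266 : act 4 n15625 = n16266 := rfl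
theorem F64396 : act 0 n16266 = n15701 := d3_1 D16266 (iv D15701) (iv F61872)
theorem F64397 : act 7 n16266 = n16158 := d28_2 (iv F61874) D16266 (iv D16158)
def n16267 : Q := act 2 n15626
theorem D16267 : act 2 n15626 = n16267 := rfl
theorem F64398 : act 0 n16267 = n15713 := d1_1 D16267 (iv D15713) (iv F61875)
theorem F64399 : act 4 n16267 = n15970 := d16_2 (iv F61877) D16267 (iv D15970)
theorem F64400 : act 7 n16267 = n16267 := d19_2 F61878 D16267 (iv D16267)
theorem F64401 : act 8 n16267 = n15987 := d20_2 (iv F61879) D16267 F63188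
def n16268 : Q := act 7 n15627
theorem D16268 : act 7 n15627 = n16268 := rfl
theorem F64402 : act 0 n16268 = n15915 := d6_1 D16268 (iv D15915) (iv F61880)
theorem F64403 : act 1 n16268 = n15632 := d13_1 D16268 (iv D15632) (iv F61881)
theorem F64404 : act 2 n16268 = n16268 := d19_1 D16268 (iv D16268) F61882
theorem F64405 : act 6 n16268 = n15644 := d33_1 D16268 (iv D15644) (iv F61884)
def n16269 : Q := act 3 n15628
theorem D16269 : act 3 n15628 = n16269 := rfl
theorem F64406 : act 0 n16269 = n15916 := d2_1 D16269 (iv D15916) (iv F61885)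
theorem F64407 : act 1 n16269 = n15634 := d9_1 D16269 (iv D15634) (iv F61886)
theorem F64408 : act 6 n16269 = n15646 := d23_2 (iv F61889) D16269 (iv D15646)
theorem F64409 : act 8 n16269 = n15802 := d25_2 (iv F61890) D16269 F62518
def n16270 : Q := act 2 n15629
theorem D16270 : act 2 n15629 = n16270 := rfl
theorem F64410 : act 0 n16270 = n15917 := d1_1 D16270 (iv D15917) (iv F61891)
theorem F64411 : act 3 n16270 = n15680 := d15_2 D15629 D16270 (iv D15680) (iv D14952) (iv F58952)
theorem F64412 : act 6 n16270 = n15647 := d18_2 (iv F61893) D16270 (iv D15647)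
def n16271 : Q := act 4 n15629
theorem D16271 : act 4 n15629 = n16271 := rfl
theorem F64413 : act 0 n16271 = n15918 := d3_1 D16271 (iv D15918) (iv F61891)
theorem F64414 : act 1 n16271 = n15635 := d10_1 D16271 (iv D15635) (iv F61892)
theorem F64415 : act 6 n16271 = n15648 := d27_2 (iv F61893) D16271 (iv D15648)
def n16272 : Q := act 7 n15630
theorem D16272 : act 7 n15630 = n16272 := rfl
theorem F64416 : act 0 n16272 = n15766 := d6_1 D16272 (iv D15766) (iv F61894)
theorem F64417 : act 2 n16272 = n15664 := d19_1 D16272 (iv D15664) (iv F61895)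
theorem F64418 : act 5 n16272 = n15632 := d31_1 D16272 (iv D15632) (iv F61897)
def n16273 : Q := act 7 n15631
theorem D16273 : act 7 n15631 = n16273 := rfl
theorem F64419 : act 0 n16273 = n15767 := d6_1 D16273 (iv D15767) (iv F61898)
theorem F64420 : act 2 n16273 = n15665 := d19_1 D16273 (iv D15665) (iv F61899)
theorem F64421 : act 6 n16273 = n15653 := d33_1 D16273 (iv D15653) (iv F61901)
theorem F64422 : act 8 n16273 = n15632 := d35_2 D15631 D16273 (iv D15632) (iv D14900) D14899
def n16274 : Q := act 3 n15632
theorem D16274 : act 3 n15632 = n16274 := rfl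
theorem F64423 : act 0 n16274 = n15768 := d2_1 D16274 (iv D15768) (iv F61902)
theorem F64424 : act 2 n16274 = n15758 := d15_1 D16274 (iv D15758) F59469 (iv F59077) (iv F61903)
theorem F64425 : act 6 n16274 = n15654 := d23_2 (iv F61904) D16274 (iv D15654)
theorem F64426 : act 7 n16274 = n15634 := d24_2 D15632 D16274 (iv D15634) (iv D14902) (iv F58963)
def n16275 : Q := act 3 n15633
theorem D16275 : act 3 n15633 = n16275 := rfl
theorem F64427 : act 0 n16275 = n15770 := d2_1 D16275 (iv D15770) (iv F61905)
theorem F64428 : act 2 n16275 = n15760 := d15_1 D16275 (iv D15760) F59472 (iv F58977) (iv F61906)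
theorem F64429 : act 5 n16275 = n15634 := d22_2 (iv F61907) D16275 (iv D15634)
theorem F64430 : act 8 n16275 = n15800 := d25_2 (iv F61908) D16275 F62516
def n16276 : Q := act 4 n15634
theorem D16276 : act 4 n15634 = n16276 := rfl
theorem F64431 : act 0 n16276 = n15771 := d3_1 D16276 (iv D15771) (iv F61909)
theorem F64432 : act 2 n16276 = n15761 := d16_1 D16276 (iv D15761) (iv F61910)
theorem F64433 : act 3 n16276 = n15635 := d21_1 D16276 (iv D15635) (iv D14903) (iv F58970) D15634
theorem F64434 : act 6 n16276 = n15658 := d27_2 (iv F61911) D16276 (iv D15658)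
theorem F64435 : act 8 n16276 = n15803 := d29_2 (iv F61912) D16276 (iv D15803)
def n16277 : Q := act 5 n15635
theorem D16277 : act 5 n15635 = n16277 := rfl
theorem F64436 : act 0 n16277 = n15772 := d4_1 D16277 (iv D15772) (iv F61913)
def n16278 : Q := act 8 n15636
theorem D16278 : act 8 n15636 = n16278 := rfl
theorem F64437 : act 0 n16278 = n15643 := d7_1 D16278 (iv D15643) (iv F61915)
theorem F64438 : act 1 n16278 = n15776 := d14_1 D16278 (iv D15776) (iv F61916)
theorem F64439 : act 2 n16278 = n16278 := d20_1 D16278 (iv D16278) F61917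
theorem F64440 : act 4 n16278 = n16099 := d29_1 D16278 (iv D16099) (iv F61918)
theorem F64441 : act 5 n16278 = n16121 := d32_1 D16278 (iv D16121) (iv F61919)
theorem F64442 : act 6 n16278 = n15914 := d34_1 D16278 (iv D15914) (iv F61920)
def n16279 : Q := act 7 n15637
theorem D16279 : act 7 n15637 = n16279 := rfl
theorem F64443 : act 0 n16279 = n15644 := d6_1 D16279 (iv D15644) (iv F61921)
theorem F64444 : act 1 n16279 = n15777 := d13_1 D16279 (iv D15777) (iv F61922)
theorem F64445 : act 2 n16279 = n16279 := d19_1 D16279 (iv D16279) F61923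
theorem F64446 : act 4 n16279 = n16268 := d28_1 D16279 (iv D16268) (iv F61925)
theorem F64447 : act 6 n16279 = n15915 := d33_1 D16279 (iv D15915) (iv F61926)
def n16280 : Q := act 3 n15638
theorem D16280 : act 3 n15638 = n16280 := rfl
theorem F64448 : act 0 n16280 = n15646 := d2_1 D16280 (iv D15646) (iv F61927)
theorem F64449 : act 1 n16280 = n15779 := d9_1 D16280 (iv D15779) (iv F61928)
theorem F64450 : act 6 n16280 = n15916 := d23_2 (iv F61931) D16280 (iv D15916)
def n16281 : Q := act 2 n15639
theorem D16281 : act 2 n15639 = n16281 := rfl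
theorem F64451 : act 0 n16281 = n15647 := d1_1 D16281 (iv D15647) (iv F61932)
theorem F64452 : act 3 n16281 = n15683 := d15_2 D15639 D16281 (iv D15683) (iv D14956) (iv F58992)
theorem F64453 : act 6 n16281 = n15917 := d18_2 (iv F61934) D16281 (iv D15917)
theorem F64454 : act 7 n16281 = n16270 := d19_2 (iv F61935) D16281 (iv D16270)
def n16282 : Q := act 4 n15639
theorem D16282 : act 4 n15639 = n16282 := rfl
theorem F64455 : act 0 n16282 = n15648 := d3_1 D16282 (iv D15648) (iv F61932)
theorem F64456 : act 1 n16282 = n15780 := d10_1 D16282 (iv D15780) (iv F61933)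
theorem F64457 : act 6 n16282 = n15918 := d27_2 (iv F61934) D16282 (iv D15918)
theorem F64458 : act 7 n16282 = n16271 := d28_2 (iv F61935) D16282 (iv D16271)
def n16283 : Q := act 8 n15640
theorem D16283 : act 8 n15640 = n16283 := rfl
theorem F64459 : act 0 n16283 = n16123 := d7_1 D16283 (iv D16123) (iv F61936)
theorem F64460 : act 1 n16283 = n15649 := d14_1 D16283 (iv D15649) (iv F61937)
theorem F64461 : act 2 n16283 = n16283 := d20_1 D16283 (iv D16283) F61938
theorem F64462 : act 3 n16283 = n16064 := d25_1 D16283 (iv D16064) (iv F61939)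
theorem F64463 : act 4 n16283 = n15642 := d29_1 D16283 (iv D15642) D15640
theorem F64464 : act 5 n16283 = n16038 := d32_1 D16283 (iv D16038) (iv F61940)
def n16284 : Q := act 8 n15641
theorem D16284 : act 8 n15641 = n16284 := rfl
theorem F64465 : act 0 n16284 = n16121 := d7_1 D16284 (iv D16121) (iv F61942)
theorem F64466 : act 1 n16284 = n15651 := d14_1 D16284 (iv D15651) (iv F61943)
theorem F64467 : act 2 n16284 = n16284 := d20_1 D16284 (iv D16284) F61944
theorem F64468 : act 3 n16284 = n16256 := d25_1 D16284 (iv D16256) (iv F61945)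
theorem F64469 : act 4 n16284 = n16037 := d29_1 D16284 (iv D16037) (iv F61946)
theorem F64470 : act 5 n16284 = n15643 := d32_1 D16284 (iv D15643) (iv F61947)
theorem F64471 : act 6 n16284 = n16283 := d34_1 D16284 (iv D16283) (iv F61948)
def n16285 : Q := act 7 n15642
theorem D16285 : act 7 n15642 = n16285 := rfl
theorem F64472 : act 1 n16285 = n15652 := d13_1 D16285 (iv D15652) (iv F61949)
theorem F64473 : act 2 n16285 = n16285 := d19_1 D16285 (iv D16285) F61950
theorem F64474 : act 5 n16285 = n15644 := d31_1 D16285 (iv D15644) (iv F61952)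
def n16286 : Q := act 7 n15643
theorem D16286 : act 7 n15643 = n16286 := rfl
theorem F64475 : act 1 n16286 = n15653 := d13_1 D16286 (iv D15653) (iv F61953)
theorem F64476 : act 2 n16286 = n16286 := d19_1 D16286 (iv D16286) F61954
theorem F64477 : act 8 n16286 = n15644 := d35_2 D15643 D16286 (iv D15644) (iv D14910) D14909
def n16287 : Q := act 3 n15644
theorem D16287 : act 3 n15644 = n16287 := rfl
theorem F64478 : act 1 n16287 = n15654 := d9_1 D16287 (iv D15654) (iv F61955)
theorem F64479 : act 7 n16287 = n15646 := d24_2 D15644 D16287 (iv D15646) (iv D14912) (iv F59001)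
def n16288 : Q := act 3 n15645
theorem D16288 : act 3 n15645 = n16288 := rfl
theorem F64480 : act 1 n16288 = n15656 := d9_1 D16288 (iv D15656) (iv F61957)
theorem F64481 : act 5 n16288 = n15646 := d22_2 (iv F61959) D16288 (iv D15646)
def n16289 : Q := act 2 n15646
theorem D16289 : act 2 n15646 = n16289 := rfl
theorem F64482 : act 1 n16289 = n15967 := d8_1 D16289 (iv D15967) F61992 (iv D15657) (iv F61960)
theorem F64483 : act 3 n16289 = n15685 := d15_2 D15646 D16289 (iv D15685) (iv D14958) (iv F59006)
theorem F64484 : act 8 n16289 = n15981 := d20_2 F64353 D16289 (iv F64351)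
def n16290 : Q := act 4 n15646
theorem D16290 : act 4 n15646 = n16290 := rfl
theorem F64485 : act 1 n16290 = n15658 := d10_1 D16290 (iv D15658) (iv F61960)
theorem F64486 : act 3 n16290 = n15648 := d21_1 D16290 (iv D15648) (iv D14913) (iv F59007) D15646
def n16291 : Q := act 4 n15647
theorem D16291 : act 4 n15647 = n16291 := rfl
theorem F64487 : act 2 n16291 = n15648 := d16_1 D16291 (iv D15648) D15647
def n16292 : Q := act 5 n15648
theorem D16292 : act 5 n15648 = n16292 := rfl
theorem F64488 : act 1 n16292 = n15659 := d11_1 D16292 (iv D15659) (iv F61962)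
def n16293 : Q := act 7 n15649
theorem D16293 : act 7 n15649 = n16293 := rfl
theorem F64489 : act 0 n16293 = n15792 := d6_1 D16293 (iv D15792) (iv F61963)
theorem F64490 : act 2 n16293 = n15666 := d19_1 D16293 (iv D15666) (iv F61964)
theorem F64491 : act 4 n16293 = n15652 := d28_1 D16293 (iv D15652) (iv F61965)
def n16294 : Q := act 7 n15650
theorem D16294 : act 7 n15650 = n16294 := rfl
theorem F64492 : act 0 n16294 = n15793 := d6_1 D16294 (iv D15793) (iv F61966)
theorem F64493 : act 2 n16294 = n15667 := d19_1 D16294 (iv D15667) (iv F61967)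
theorem F64494 : act 6 n16294 = n15652 := d33_1 D16294 (iv D15652) (iv F61969)
theorem F64495 : act 8 n16294 = n16293 := d35_2 D15650 D16294 (iv D16293) (iv D15649) F59014
def n16295 : Q := act 7 n15651
theorem D16295 : act 7 n15651 = n16295 := rfl
theorem F64496 : act 0 n16295 = n15794 := d6_1 D16295 (iv D15794) (iv F61970)
theorem F64497 : act 2 n16295 = n15668 := d19_1 D16295 (iv D15668) (iv F61971)
theorem F64498 : act 4 n16295 = n16294 := d28_1 D16295 (iv D16294) (iv F61972)
theorem F64499 : act 5 n16295 = n15653 := d31_1 D16295 (iv D15653) (iv F61973)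
theorem F64500 : act 6 n16295 = n16293 := d33_1 D16295 (iv D16293) (iv F61974)
theorem F64501 : act 8 n16295 = n15652 := d35_2 D15651 D16295 (iv D15652) (iv D14917) D14916
def n16296 : Q := act 3 n15652
theorem D16296 : act 3 n15652 = n16296 := rfl
theorem F64502 : act 0 n16296 = n15795 := d2_1 D16296 (iv D15795) (iv F61975)
theorem F64503 : act 5 n16296 = n15654 := d22_2 (iv F61977) D16296 (iv D15654)
theorem F64504 : act 7 n16296 = n15656 := d24_2 D15652 D16296 (iv D15656) (iv D14921) (iv F59022)
def n16297 : Q := act 3 n15653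
theorem D16297 : act 3 n15653 = n16297 := rfl
theorem F64505 : act 0 n16297 = n15796 := d2_1 D16297 (iv D15796) (iv F61978)
theorem F64506 : act 8 n16297 = n15654 := d25_2 (iv F61980) D16297 (iv D15654)
def n16298 : Q := act 2 n15654
theorem D16298 : act 2 n15654 = n16298 := rfl
theorem F64507 : act 0 n16298 = n15797 := d1_1 D16298 (iv D15797) (iv F61981)
theorem F64508 : act 3 n16298 = n15671 := d15_2 D15654 D16298 (iv D15671) (iv D14939) (iv F59027)
theorem F64509 : act 6 n16298 = n15758 := d18_2 F64425 D16298 (iv F64424)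
theorem F64510 : act 7 n16298 = n15657 := d19_2 (iv F61982) D16298 (iv D15657)
theorem F64511 : act 1 n15965 = n16298 := d13_3 F64510 (iv F61992) (iv F63150)
def n16299 : Q := act 4 n15654
theorem D16299 : act 4 n15654 = n16299 := rfl
theorem F64512 : act 0 n16299 = n15798 := d3_1 D16299 (iv D15798) (iv F61981)
theorem F64513 : act 7 n16299 = n15658 := d28_2 (iv F61982) D16299 (iv D15658)
def n16300 : Q := act 3 n15655
theorem D16300 : act 3 n15655 = n16300 := rfl
theorem F64514 : act 0 n16300 = n15799 := d2_1 D16300 (iv D15799) (iv F61983)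
theorem F64515 : act 6 n16300 = n15656 := d23_2 (iv F61985) D16300 (iv D15656)
def n16301 : Q := act 2 n15656
theorem D16301 : act 2 n15656 = n16301 := rfl
theorem F64516 : act 0 n16301 = n15800 := d1_1 D16301 (iv D15800) (iv F61986)
theorem F64517 : act 3 n16301 = n15660 := d15_2 D15656 D16301 (iv D15660) (iv D14925) (iv F59032)
theorem F64518 : act 5 n16301 = n15657 := d17_2 (iv F61987) D16301 (iv D15657)
theorem F64519 : act 8 n16301 = n15770 := d20_2 F64384 D16301 (iv F64382)
theorem F64520 : act 1 n15966 = n16301 := d14_3 F64519 F62422 (iv F63152)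
def n16302 : Q := act 4 n15656
theorem D16302 : act 4 n15656 = n16302 := rfl
theorem F64521 : act 0 n16302 = n15801 := d3_1 D16302 (iv D15801) (iv F61986)
def n16303 : Q := act 4 n15657
theorem D16303 : act 4 n15657 = n16303 := rfl
theorem F64522 : act 0 n16303 = n15803 := d3_1 D16303 (iv D15803) (iv F61988)
theorem F64523 : act 1 n16303 = n15968 := d10_1 D16303 (iv D15968) F61992
theorem F64524 : act 2 n16303 = n15658 := d16_1 D16303 (iv D15658) D15657
theorem F64525 : act 3 n16303 = n15740 := d21_1 D16303 (iv D15740) (iv D15021) (iv F59046) (iv F61989)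
theorem F64526 : act 6 n16303 = n15761 := d27_2 (iv F61990) D16303 (iv D15761)
theorem F64527 : act 8 n16303 = n15771 := d29_2 (iv F61991) D16303 (iv D15771)
def n16304 : Q := act 5 n15658
theorem D16304 : act 5 n15658 = n16304 := rfl
theorem F64528 : act 0 n16304 = n15804 := d4_1 D16304 (iv D15804) (iv F61993)
theorem F64529 : act 3 n16304 = n15659 := d22_1 D16304 (iv D15659) (iv F61994)
def n16305 : Q := act 6 n15659
theorem D16305 : act 6 n15659 = n16305 := rfl
theorem F64530 : act 0 n16305 = n15805 := d5_1 D16305 (iv D15805) (iv F61995)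
def n16306 : Q := act 7 n15661
theorem D16306 : act 7 n15661 = n16306 := rfl
theorem F64531 : act 0 n16306 = n15806 := d6_1 D16306 (iv D15806) (iv F62001)
theorem F64532 : act 1 n16306 = n16306 := d13_1 D16306 (iv D16306) F62002
theorem F64533 : act 4 n16306 = n15664 := d28_1 D16306 (iv D15664) (iv F62004)
theorem F64534 : act 6 n16306 = n15932 := d33_1 D16306 (iv D15932) (iv F62005)
theorem F64535 : act 8 n16306 = n15931 := d35_2 D15661 D16306 (iv D15931) (iv D15245) F59054
def n16307 : Q := act 7 n15662
theorem D16307 : act 7 n15662 = n16307 := rfl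
theorem F64536 : act 0 n16307 = n15807 := d6_1 D16307 (iv D15807) (iv F62006)
theorem F64537 : act 1 n16307 = n16307 := d13_1 D16307 (iv D16307) F62007
theorem F64538 : act 3 n16307 = n15895 := d24_1 D16307 (iv D15895) F60132 (iv F59085) (iv F62008)
theorem F64539 : act 4 n16307 = n15932 := d28_1 D16307 (iv D15932) (iv F62009)
theorem F64540 : act 5 n16307 = n15667 := d31_1 D16307 (iv D15667) (iv F62010)
theorem F64541 : act 6 n16307 = n15664 := d33_1 D16307 (iv D15664) (iv F62011)
theorem F64542 : act 8 n16307 = n15930 := d35_2 D15662 D16307 (iv D15930) (iv D15244) F59060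
def n16308 : Q := act 7 n15663
theorem D16308 : act 7 n15663 = n16308 := rfl
theorem F64543 : act 0 n16308 = n15808 := d6_1 D16308 (iv D15808) (iv F62012)
theorem F64544 : act 1 n16308 = n16308 := d13_1 D16308 (iv D16308) F62013
theorem F64545 : act 3 n16308 = n15896 := d24_1 D16308 (iv D15896) F60136 (iv F60073) (iv F62014)
theorem F64546 : act 4 n16308 = n15931 := d28_1 D16308 (iv D15931) (iv F62015)
theorem F64547 : act 5 n16308 = n15665 := d31_1 D16308 (iv D15665) (iv F62016)
theorem F64548 : act 6 n16308 = n15930 := d33_1 D16308 (iv D15930) (iv F62017)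
theorem F64549 : act 8 n16308 = n15664 := d35_2 D15663 D16308 (iv D15664) (iv D14930) D14929
def n16309 : Q := act 3 n15667
theorem D16309 : act 3 n15667 = n16309 := rfl
theorem F64550 : act 0 n16309 = n15815 := d2_1 D16309 (iv D15815) (iv F62030)
theorem F64551 : act 1 n16309 = n16309 := d9_1 D16309 (iv D16309) F62031
theorem F64552 : act 4 n16309 = n15711 := d21_2 F62036 D16309 F62205 (iv F64190) F64189
theorem F64553 : act 5 n16309 = n15895 := d22_2 F64540 D16309 (iv F64538)
theorem F64554 : act 6 n16309 = n15669 := d23_2 (iv F62032) D16309 (iv D15669)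
theorem F64555 : act 7 n16309 = n15673 := d24_2 D15667 D16309 (iv D15673) (iv D14940) (iv F59092)
theorem F64556 : act 8 n16309 = n15710 := d25_2 (iv F62033) D16309 F62200
def n16310 : Q := act 2 n15669
theorem D16310 : act 2 n15669 = n16310 := rfl
theorem F64557 : act 0 n16310 = n15816 := d1_1 D16310 (iv D15816) (iv F62040)
theorem F64558 : act 4 n16310 = n16232 := d16_2 F62044 D16310 F64269
theorem F64559 : act 5 n16310 = n15671 := d17_2 (iv F62042) D16310 (iv D15671)
theorem F64560 : act 7 n16310 = n15674 := d19_2 (iv F62043) D16310 (iv D15674)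
theorem F64561 : act 1 n15963 = n16310 := d13_3 F64560 (iv F62070) D15963
def n16311 : Q := act 2 n15670
theorem D16311 : act 2 n15670 = n16311 := rfl
theorem F64562 : act 0 n16311 = n15817 := d1_1 D16311 (iv D15817) (iv F62045)
theorem F64563 : act 6 n16311 = n15757 := d18_2 (iv F62047) D16311 F62382
theorem F64564 : act 7 n16311 = n15739 := d19_2 (iv F62048) D16311 F62311
theorem F64565 : act 8 n16311 = n15671 := d20_2 (iv F62049) D16311 (iv D15671)
theorem F64566 : act 1 n15964 = n16311 := d14_3 F64565 (iv F62053) (iv F63149)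
def n16312 : Q := act 4 n15670
theorem D16312 : act 4 n15670 = n16312 := rfl
theorem F64567 : act 0 n16312 = n15818 := d3_1 D16312 (iv D15818) (iv F62045)
theorem F64568 : act 1 n16312 = n16312 := d10_1 D16312 (iv D16312) F62046
theorem F64569 : act 5 n16312 = n15835 := d26_2 F64191 D16312 F62652 (iv F61629) (iv F64190)
theorem F64570 : act 6 n16312 = n15887 := d27_2 (iv F62047) D16312 F62889
theorem F64571 : act 7 n16312 = n15834 := d28_2 (iv F62048) D16312 F62647
theorem F64572 : act 8 n16312 = n15672 := d29_2 (iv F62049) D16312 (iv D15672)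
def n16313 : Q := act 4 n15671
theorem D16313 : act 4 n15671 = n16313 := rfl
theorem F64573 : act 0 n16313 = n15820 := d3_1 D16313 (iv D15820) (iv F62050)
theorem F64574 : act 1 n16313 = n15953 := d10_1 D16313 F63112 F62053
theorem F64575 : act 2 n16313 = n15672 := d16_1 D16313 (iv D15672) D15671
theorem F64576 : act 5 n16313 = n16234 := d26_2 F64559 D16313 F64278 (iv F64270) (iv F64558)
theorem F64577 : act 6 n16313 = n15731 := d27_2 (iv F62051) D16313 F62294
theorem F64578 : act 7 n16313 = n15675 := d28_2 (iv F62052) D16313 (iv D15675)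
def n16314 : Q := act 2 n15676
theorem D16314 : act 2 n15676 = n16314 := rfl
theorem F64579 : act 0 n16314 = n15942 := d1_1 D16314 (iv D15942) (iv F62078)
theorem F64580 : act 1 n16314 = n15713 := d8_1 D16314 (iv D15713) F59334 (iv F59143) (iv F62079)
theorem F64581 : act 6 n16314 = n15678 := d18_2 (iv F62080) D16314 (iv D15678)
theorem F64582 : act 7 n16314 = n16314 := d19_2 F62081 D16314 (iv D16314)
theorem F64583 : act 8 n16314 = n15680 := d20_2 (iv F62082) D16314 (iv D15680)
def n16315 : Q := act 2 n15677
theorem D16315 : act 2 n15677 = n16315 := rfl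
theorem F64584 : act 0 n16315 = n15678 := d1_1 D16315 (iv D15678) (iv F62083)
theorem F64585 : act 6 n16315 = n15942 := d18_2 (iv F62085) D16315 (iv D15942)
theorem F64586 : act 7 n16315 = n16315 := d19_2 F62086 D16315 (iv D16315)
theorem F64587 : act 8 n16315 = n15683 := d20_2 (iv F62087) D16315 (iv D15683)
def n16316 : Q := act 2 n15679
theorem D16316 : act 2 n15679 = n16316 := rfl
theorem F64588 : act 0 n16316 = n15945 := d1_1 D16316 (iv D15945) (iv F62090)
theorem F64589 : act 1 n16316 = n15824 := d8_1 D16316 (iv D15824) F59691 (iv F59173) (iv F62091)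
theorem F64590 : act 6 n16316 = n15685 := d18_2 (iv F62092) D16316 (iv D15685)
theorem F64591 : act 7 n16316 = n16316 := d19_2 F62093 D16316 (iv D16316)
theorem F64592 : act 8 n16316 = n15830 := d20_2 (iv F62094) D16316 F62623
def n16317 : Q := act 4 n15680
theorem D16317 : act 4 n15680 = n16317 := rfl
theorem F64593 : act 0 n16317 = n15947 := d3_1 D16317 (iv D15947) (iv F62095)
theorem F64594 : act 1 n16317 = n15928 := d10_1 D16317 (iv F64253) F64252
theorem F64595 : act 2 n16317 = n15681 := d16_1 D16317 (iv D15681) D15680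
theorem F64596 : act 5 n16317 = n15929 := d26_2 F64259 D16317 (iv F63594) F63595 (iv F64258)
theorem F64597 : act 6 n16317 = n15686 := d27_2 (iv F62096) D16317 (iv D15686)
theorem F64598 : act 7 n16317 = n15687 := d28_2 (iv F62097) D16317 (iv D15687)
def n16318 : Q := act 2 n15682
theorem D16318 : act 2 n15682 = n16318 := rfl
theorem F64599 : act 0 n16318 = n15685 := d1_1 D16318 (iv D15685) (iv F62103)
theorem F64600 : act 6 n16318 = n15945 := d18_2 (iv F62105) D16318 (iv D15945)
theorem F64601 : act 7 n16318 = n16318 := d19_2 F62106 D16318 (iv D16318)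
theorem F64602 : act 8 n16318 = n15988 := d20_2 (iv F62107) D16318 F63190
def n16319 : Q := act 2 n15684
theorem D16319 : act 2 n15684 = n16319 := rfl
theorem F64603 : act 1 n16319 = n15970 := d8_1 D16319 (iv D15970) F60403 (iv F59199) (iv F62111)
theorem F64604 : act 5 n16319 = n15685 := d17_2 (iv F62112) D16319 (iv D15685)
theorem F64605 : act 7 n16319 = n16319 := d19_2 F62113 D16319 (iv D16319)
theorem F64606 : act 8 n16319 = n15986 := d20_2 (iv F62114) D16319 F63185
def n16320 : Q := act 3 n15686
theorem D16320 : act 3 n15686 = n16320 := rfl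
def n16321 : Q := act 3 n15687
theorem D16321 : act 3 n15687 = n16321 := rfl
theorem F64607 : act 0 n16321 = n15950 := d2_1 D16321 (iv D15950) (iv F62120)
theorem F64608 : act 1 n16321 = n15938 := d9_1 D16321 F63063 (iv F62121)
theorem F64609 : act 2 n16321 = n16321 := d15_1 D16321 (iv D16321) F62122 F59208 (iv F62122)
theorem F64610 : act 4 n16321 = n16201 := d21_2 D15687 D16321 F64103 F61477 F59213
theorem F64611 : act 5 n16321 = n15939 := d22_2 (iv F62123) D16321 F63068
theorem F64612 : act 6 n16321 = n15688 := d23_2 (iv F62124) D16321 (iv D15688)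
theorem F64613 : act 8 n16321 = n16321 := d25_2 F62125 D16321 (iv D16321)
def n16322 : Q := act 7 n15688
theorem D16322 : act 7 n15688 = n16322 := rfl
theorem F64614 : act 2 n16322 = n16322 := d19_1 D16322 (iv D16322) F62126
def n16323 : Q := act 3 n15689
theorem D16323 : act 3 n15689 = n16323 := rfl
theorem F64615 : act 1 n16323 = n15691 := d9_1 D16323 (iv D15691) (iv F62128)
theorem F64616 : act 5 n16323 = n15716 := d22_2 (iv F62130) D16323 (iv D15716)
theorem F64617 : act 7 n16323 = n15693 := d24_2 D15689 D16323 (iv D15693) (iv D14972) (iv F59228)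
theorem F64618 : act 8 n16323 = n16098 := d25_2 (iv F62131) D16323 (iv D16098)
def n16324 : Q := act 3 n15690
theorem D16324 : act 3 n15690 = n16324 := rfl
theorem F64619 : act 0 n16324 = n16144 := d2_1 D16324 (iv D16144) (iv F62132)
theorem F64620 : act 6 n16324 = n16067 := d23_2 (iv F62135) D16324 (iv D16067)
theorem F64621 : act 7 n16324 = n16051 := d24_2 D15690 D16324 (iv D16051) (iv D15372) (iv F59232)
theorem F64622 : act 8 n16324 = n16103 := d25_2 (iv F62136) D16324 (iv D16103)
def n16325 : Q := act 4 n15691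
theorem D16325 : act 4 n15691 = n16325 := rfl
theorem F64623 : act 2 n16325 = n15735 := d16_1 D16325 (iv D15735) (iv F62137)
theorem F64624 : act 7 n16325 = n15694 := d28_2 (iv F62139) D16325 (iv D15694)
theorem F64625 : act 8 n16325 = n16104 := d29_2 (iv F62140) D16325 (iv D16104)
def n16326 : Q := act 2 n15692
theorem D16326 : act 2 n15692 = n16326 := rfl
theorem F64626 : act 0 n16326 = n16188 := d1_1 D16326 (iv D16188) (iv F62141)
theorem F64627 : act 4 n16326 = n15738 := d16_2 (iv F62143) D16326 (iv D15738)
theorem F64628 : act 6 n16326 = n16078 := d18_2 (iv F62144) D16326 (iv D16078)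
theorem F64629 : act 7 n16326 = n15882 := d19_2 (iv F62145) D16326 (iv D15882)
theorem F64630 : act 8 n16326 = n16107 := d20_2 (iv F62146) D16326 (iv D16107)
def n16327 : Q := act 4 n15693
theorem D16327 : act 4 n15693 = n16327 := rfl
theorem F64631 : act 1 n16327 = n15694 := d10_1 D16327 (iv D15694) (iv F62147)
theorem F64632 : act 8 n16327 = n15701 := d29_2 (iv F62149) D16327 (iv D15701)
def n16328 : Q := act 5 n15694
theorem D16328 : act 5 n15694 = n16328 := rfl
theorem F64633 : act 2 n16328 = n15762 := d17_1 D16328 (iv D15762) (iv F62150)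
theorem F64634 : act 4 n16328 = n15969 := d26_1 D16328 (iv D15969) (iv D15285) (iv F59248) D15694
theorem F64635 : act 8 n16328 = n15709 := d32_2 (iv F62151) D16328 (iv D15709)
def n16329 : Q := act 5 n15695
theorem D16329 : act 5 n15695 = n16329 := rfl
theorem F64636 : act 2 n16329 = n15772 := d17_1 D16329 (iv D15772) (iv F62152)
theorem F64637 : act 7 n16329 = n16149 := d31_2 (iv F62154) D16329 (iv D16149)
def n16330 : Q := act 7 n15696
theorem D16330 : act 7 n15696 = n16330 := rfl
theorem F64638 : act 1 n16330 = n15704 := d13_1 D16330 (iv D15704) (iv F62155)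
theorem F64639 : act 2 n16330 = n16330 := d19_1 D16330 (iv D16330) F62156
theorem F64640 : act 5 n16330 = n15698 := d31_1 D16330 (iv D15698) (iv F62158)
theorem F64641 : act 8 n16330 = n16264 := d35_2 D15696 D16330 (iv D16264) (iv D15623) F59256
def n16331 : Q := act 7 n15697
theorem D16331 : act 7 n15697 = n16331 := rfl
theorem F64642 : act 0 n16331 = n16330 := d6_1 D16331 (iv D16330) (iv F62159)
theorem F64643 : act 1 n16331 = n15705 := d13_1 D16331 (iv D15705) (iv F62160)
theorem F64644 : act 2 n16331 = n16331 := d19_1 D16331 (iv D16331) F62161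
theorem F64645 : act 4 n16331 = n16163 := d28_1 D16331 (iv D16163) (iv F62163)
theorem F64646 : act 5 n16331 = n16264 := d31_1 D16331 (iv D16264) (iv F62164)
theorem F64647 : act 6 n16331 = n16020 := d33_1 D16331 (iv D16020) (iv F62165)
theorem F64648 : act 8 n16331 = n15698 := d35_2 D15697 D16331 (iv D15698) (iv D14977) D14976
def n16332 : Q := act 3 n15698
theorem D16332 : act 3 n15698 = n16332 := rfl
theorem F64649 : act 1 n16332 = n15706 := d9_1 D16332 (iv D15706) (iv F62166)
theorem F64650 : act 7 n16332 = n15700 := d24_2 D15698 D16332 (iv D15700) (iv D14979) (iv F59266)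
def n16333 : Q := act 3 n15699
theorem D16333 : act 3 n15699 = n16333 := rfl
theorem F64651 : act 1 n16333 = n15707 := d9_1 D16333 (iv D15707) (iv F62169)
theorem F64652 : act 5 n16333 = n15700 := d22_2 (iv F62172) D16333 (iv D15700)
def n16334 : Q := act 2 n15700
theorem D16334 : act 2 n15700 = n16334 := rfl
theorem F64653 : act 3 n16334 = n15713 := d15_2 D15700 D16334 (iv D15713) (iv D14996) (iv F59273)
def n16335 : Q := act 4 n15700
theorem D16335 : act 4 n15700 = n16335 := rfl
theorem F64654 : act 1 n16335 = n15708 := d10_1 D16335 (iv D15708) (iv F62173)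
theorem F64655 : act 3 n16335 = n15701 := d21_1 D16335 (iv D15701) (iv D14980) (iv F59274) D15700
def n16336 : Q := act 5 n15701
theorem D16336 : act 5 n15701 = n16336 := rfl
theorem F64656 : act 1 n16336 = n15709 := d11_1 D16336 (iv D15709) (iv F62174)
theorem F64657 : act 4 n16336 = n15772 := d26_1 D16336 (iv D15772) (iv D15051) (iv F59276) D15701
theorem F64658 : act 7 n16336 = n16169 := d31_2 (iv F62175) D16336 (iv D16169)
def n16337 : Q := act 7 n15702
theorem D16337 : act 7 n15702 = n16337 := rfl
theorem F64659 : act 2 n16337 = n15710 := d19_1 D16337 (iv D15710) (iv F62176)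
theorem F64660 : act 4 n16337 = n15704 := d28_1 D16337 (iv D15704) (iv F62178)
theorem F64661 : act 5 n16337 = n16170 := d31_1 D16337 (iv D16170) (iv F62179)
def n16338 : Q := act 7 n15703
theorem D16338 : act 7 n15703 = n16338 := rfl
theorem F64662 : act 0 n16338 = n16091 := d6_1 D16338 (iv D16091) (iv F62180)
theorem F64663 : act 1 n16338 = n16264 := d13_1 D16338 (iv D16264) (iv F62181)
theorem F64664 : act 2 n16338 = n15711 := d19_1 D16338 (iv D15711) (iv F62182)
theorem F64665 : act 5 n16338 = n15705 := d31_1 D16338 (iv D15705) (iv F62184)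
theorem F64666 : act 6 n16338 = n16232 := d33_1 D16338 (iv D16232) (iv F62185)
theorem F64667 : act 8 n16338 = n15704 := d35_2 D15703 D16338 (iv D15704) (iv D14983) D14982
def n16339 : Q := act 3 n15704
theorem D16339 : act 3 n15704 = n16339 := rfl
theorem F64668 : act 5 n16339 = n15706 := d22_2 (iv F62187) D16339 (iv D15706)
theorem F64669 : act 7 n16339 = n15707 := d24_2 D15704 D16339 (iv D15707) (iv D14986) (iv F59288)
def n16340 : Q := act 3 n15705
theorem D16340 : act 3 n15705 = n16340 := rfl
theorem F64670 : act 0 n16340 = n16093 := d2_1 D16340 (iv D16093) (iv F62188)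
theorem F64671 : act 6 n16340 = n16024 := d23_2 (iv F62191) D16340 (iv D16024)
theorem F64672 : act 7 n16340 = n16031 := d24_2 D15705 D16340 (iv D16031) (iv D15352) (iv F59292)
theorem F64673 : act 8 n16340 = n15706 := d25_2 (iv F62192) D16340 (iv D15706)
def n16341 : Q := act 4 n15706
theorem D16341 : act 4 n15706 = n16341 := rfl
theorem F64674 : act 3 n16341 = n16176 := d21_1 D16341 (iv D16176) (iv D15515) (iv F59296) D15706
theorem F64675 : act 7 n16341 = n15708 := d28_2 (iv F62193) D16341 (iv D15708)
def n16342 : Q := act 4 n15707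
theorem D16342 : act 4 n15707 = n16342 := rfl
theorem F64676 : act 3 n16342 = n15980 := d21_1 D16342 (iv D15980) (iv D15295) (iv F59298) D15707
def n16343 : Q := act 5 n15708
theorem D16343 : act 5 n15708 = n16343 := rfl
theorem F64677 : act 3 n16343 = n15709 := d22_1 D16343 (iv D15709) (iv F62195)
def n16344 : Q := act 6 n15709
theorem D16344 : act 6 n15709 = n16344 := rfl
theorem F64678 : act 2 n16344 = n15805 := d18_1 D16344 (iv D15805) (iv F62196)
theorem F64679 : act 4 n16344 = n15984 := d27_1 D16344 (iv D15984) (iv F62197)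
theorem F64680 : act 7 n16344 = n16183 := d33_2 (iv F62198) D16344 (iv D16183)
def n16345 : Q := act 2 n15712
theorem D16345 : act 2 n15712 = n16345 := rfl
theorem F64681 : act 5 n16345 = n15713 := d17_2 (iv F62210) D16345 (iv D15713)
theorem F64682 : act 7 n16345 = n16345 := d19_2 F62211 D16345 (iv D16345)
def n16346 : Q := act 8 n15714
theorem D16346 : act 8 n15714 = n16346 := rfl
theorem F64683 : act 0 n16346 = n15724 := d7_1 D16346 (iv D15724) (iv F62213)
theorem F64684 : act 1 n16346 = n15952 := d14_1 D16346 (iv D15952) (iv F62214)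
theorem F64685 : act 2 n16346 = n15834 := d20_1 D16346 (iv D15834) (iv F62215)
theorem F64686 : act 4 n16346 = n15739 := d29_1 D16346 (iv D15739) (iv F62216)
theorem F64687 : act 5 n16346 = n15719 := d32_1 D16346 (iv D15719) (iv F62217)
theorem F64688 : act 6 n16346 = n15730 := d34_1 D16346 (iv D15730) (iv F62218)
def n16347 : Q := act 3 n15715
theorem D16347 : act 3 n15715 = n16347 := rfl
theorem F64689 : act 1 n16347 = n15956 := d9_1 D16347 (iv D15956) (iv F62219)
theorem F64690 : act 6 n16347 = n15734 := d23_2 (iv F62222) D16347 (iv D15734)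
def n16348 : Q := act 4 n15716
theorem D16348 : act 4 n15716 = n16348 := rfl
theorem F64691 : act 1 n16348 = n15957 := d10_1 D16348 (iv D15957) (iv F62223)
theorem F64692 : act 6 n16348 = n15735 := d27_2 (iv F62224) D16348 (iv D15735)
theorem F64693 : act 7 n16348 = n15740 := d28_2 (iv F62225) D16348 (iv D15740)
def n16349 : Q := act 2 n15717
theorem D16349 : act 2 n15717 = n16349 := rfl
theorem F64694 : act 0 n16349 = n16200 := d1_1 D16349 F64100 (iv F62226)
theorem F64695 : act 4 n16349 = n16078 := d16_2 (iv F62228) D16349 (iv D16078)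
theorem F64696 : act 5 n16349 = n15997 := d17_2 (iv F62229) D16349 F63220
theorem F64697 : act 6 n16349 = n15738 := d18_2 (iv F62230) D16349 (iv D15738)
theorem F64698 : act 7 n16349 = n15883 := d19_2 (iv F62231) D16349 (iv D15883)
def n16350 : Q := act 8 n15718
theorem D16350 : act 8 n15718 = n16350 := rfl
theorem F64699 : act 0 n16350 = n15723 := d7_1 D16350 (iv D15723) (iv F62232)
theorem F64700 : act 2 n16350 = n16350 := d20_1 D16350 (iv D16350) F62233
theorem F64701 : act 3 n16350 = n15719 := d25_1 D16350 (iv D15719) D15718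
theorem F64702 : act 4 n16350 = n15742 := d29_1 D16350 (iv D15742) (iv F62234)
theorem F64703 : act 6 n16350 = n15902 := d34_1 D16350 (iv D15902) (iv F62235)
def n16351 : Q := act 7 n15719
theorem D16351 : act 7 n15719 = n16351 := rfl
theorem F64704 : act 0 n16351 = n15725 := d6_1 D16351 (iv D15725) (iv F62236)
theorem F64705 : act 2 n16351 = n15835 := d19_1 D16351 (iv D15835) (iv F62237)
theorem F64706 : act 4 n16351 = n15720 := d28_1 D16351 (iv D15720) (iv F62238)
theorem F64707 : act 6 n16351 = n15904 := d33_1 D16351 (iv D15904) (iv F62239)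
theorem F64708 : act 8 n16351 = n16234 := d35_2 D15719 D16351 (iv D16234) (iv D15593) (iv F59361)
def n16352 : Q := act 3 n15720
theorem D16352 : act 3 n15720 = n16352 := rfl
theorem F64709 : act 0 n16352 = n15726 := d2_1 D16352 (iv D15726) (iv F62240)
theorem F64710 : act 2 n16352 = n16340 := d15_1 D16352 (iv D16340) F62189 (iv F59766) (iv F62241)
theorem F64711 : act 6 n16352 = n15905 := d23_2 (iv F62242) D16352 (iv D15905)
theorem F64712 : act 7 n16352 = n15744 := d24_2 D15720 D16352 (iv D15744) (iv D15024) (iv F59364)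
theorem F64713 : act 8 n16352 = n16235 := d25_2 (iv F62243) D16352 (iv D16235)
def n16353 : Q := act 8 n15721
theorem D16353 : act 8 n15721 = n16353 := rfl
theorem F64714 : act 1 n16353 = n15729 := d14_1 D16353 (iv D15729) (iv F62244)
theorem F64715 : act 2 n16353 = n16353 := d20_1 D16353 (iv D16353) F62245
theorem F64716 : act 3 n16353 = n15724 := d25_1 D16353 (iv D15724) (iv F62246)
theorem F64717 : act 5 n16353 = n15723 := d32_1 D16353 (iv D15723) D15721
theorem F64718 : act 6 n16353 = n16238 := d34_1 D16353 (iv D16238) (iv F62247)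
def n16354 : Q := act 8 n15722
theorem D16354 : act 8 n15722 = n16354 := rfl
theorem F64719 : act 0 n16354 = n16353 := d7_1 D16354 (iv D16353) (iv F62249)
theorem F64720 : act 1 n16354 = n15730 := d14_1 D16354 (iv D15730) (iv F62250)
theorem F64721 : act 2 n16354 = n16354 := d20_1 D16354 (iv D16354) F62251
theorem F64722 : act 3 n16354 = n16346 := d25_1 D16354 (iv D16346) (iv F62252)
theorem F64723 : act 4 n16354 = n15748 := d29_1 D16354 (iv D15748) (iv F62253)
theorem F64724 : act 5 n16354 = n16350 := d32_1 D16354 (iv D16350) (iv F62254)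
theorem F64725 : act 6 n16354 = n15952 := d34_1 D16354 (iv D15952) (iv F62255)
def n16355 : Q := act 7 n15723
theorem D16355 : act 7 n15723 = n16355 := rfl
theorem F64726 : act 1 n16355 = n15731 := d13_1 D16355 (iv D15731) (iv F62256)
theorem F64727 : act 2 n16355 = n16355 := d19_1 D16355 (iv D16355) F62257
theorem F64728 : act 4 n16355 = n15749 := d28_1 D16355 (iv D15749) (iv F62259)
theorem F64729 : act 6 n16355 = n15953 := d33_1 D16355 (iv D15953) (iv F62260)
def n16356 : Q := act 7 n15724
theorem D16356 : act 7 n15724 = n16356 := rfl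
theorem F64730 : act 1 n16356 = n15733 := d13_1 D16356 (iv D15733) (iv F62261)
theorem F64731 : act 2 n16356 = n15818 := d19_1 D16356 F62579 (iv F62262)
theorem F64732 : act 4 n16356 = n15817 := d28_1 D16356 F62575 (iv F62263)
theorem F64733 : act 5 n16356 = n15725 := d31_1 D16356 (iv D15725) (iv F62264)
theorem F64734 : act 8 n16356 = n15820 := d35_2 D15724 D16356 F62586 F59677 (iv F59373)
def n16357 : Q := act 3 n15725
theorem D16357 : act 3 n15725 = n16357 := rfl
theorem F64735 : act 1 n16357 = n15734 := d9_1 D16357 (iv D15734) (iv F62265)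
theorem F64736 : act 6 n16357 = n15956 := d23_2 (iv F62268) D16357 (iv D15956)
theorem F64737 : act 8 n16357 = n16347 := d25_2 (iv F62269) D16357 (iv D16347)
def n16358 : Q := act 4 n15726
theorem D16358 : act 4 n15726 = n16358 := rfl
theorem F64738 : act 1 n16358 = n15735 := d10_1 D16358 (iv D15735) (iv F62270)
theorem F64739 : act 6 n16358 = n15957 := d27_2 (iv F62271) D16358 (iv D15957)
theorem F64740 : act 7 n16358 = n15752 := d28_2 (iv F62272) D16358 (iv D15752)
theorem F64741 : act 8 n16358 = n16348 := d29_2 (iv F62273) D16358 (iv D16348)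
def n16359 : Q := act 8 n15727
theorem D16359 : act 8 n15727 = n16359 := rfl
theorem F64742 : act 0 n16359 = n16101 := d7_1 D16359 (iv D16101) (iv F62274)
theorem F64743 : act 2 n16359 = n15884 := d20_1 D16359 (iv D15884) (iv F62275)
theorem F64744 : act 3 n16359 = n16278 := d25_1 D16359 (iv D16278) (iv F62276)
theorem F64745 : act 4 n16359 = n15729 := d29_1 D16359 (iv D15729) D15727
theorem F64746 : act 5 n16359 = n15753 := d32_1 D16359 (iv D15753) (iv F62277)
theorem F64747 : act 6 n16359 = n16022 := d34_1 D16359 (iv D16022) (iv F62278)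
def n16360 : Q := act 8 n15728
theorem D16360 : act 8 n15728 = n16360 := rfl
theorem F64748 : act 0 n16360 = n15954 := d7_1 D16360 (iv D15954) (iv F62280)
theorem F64749 : act 1 n16360 = n16350 := d14_1 D16360 (iv D16350) (iv F62281)
theorem F64750 : act 2 n16360 = n15885 := d20_1 D16360 (iv D15885) (iv F62282)
theorem F64751 : act 3 n16360 = n16236 := d25_1 D16360 (iv D16236) (iv F62283)
theorem F64752 : act 4 n16360 = n16142 := d29_1 D16360 (iv D16142) (iv F62284)
theorem F64753 : act 5 n16360 = n15730 := d32_1 D16360 (iv D15730) (iv F62285)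
theorem F64754 : act 6 n16360 = n15903 := d34_1 D16360 (iv D15903) (iv F62286)
def n16361 : Q := act 7 n15729
theorem D16361 : act 7 n15729 = n16361 := rfl
theorem F64755 : act 2 n16361 = n15886 := d19_1 D16361 (iv D15886) (iv F62287)
theorem F64756 : act 5 n16361 = n15731 := d31_1 D16361 (iv D15731) (iv F62289)
theorem F64757 : act 6 n16361 = n16243 := d33_1 D16361 (iv D16243) (iv F62290)
def n16362 : Q := act 7 n15730
theorem D16362 : act 7 n15730 = n16362 := rfl
theorem F64758 : act 2 n16362 = n15887 := d19_1 D16362 (iv D15887) (iv F62291)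
theorem F64759 : act 4 n16362 = n15757 := d28_1 D16362 (iv D15757) (iv F62292)
theorem F64760 : act 8 n16362 = n15731 := d35_2 D15730 D16362 (iv D15731) (iv D15011) D15010
def n16363 : Q := act 3 n15731
theorem D16363 : act 3 n15731 = n16363 := rfl
theorem F64761 : act 7 n16363 = n15734 := d24_2 D15731 D16363 (iv D15734) (iv D15014) (iv F59388)
def n16364 : Q := act 7 n15732
theorem D16364 : act 7 n15732 = n16364 := rfl
theorem F64762 : act 0 n16364 = n16361 := d6_1 D16364 (iv D16361) (iv F62295)
theorem F64763 : act 2 n16364 = n15736 := d19_1 D16364 (iv D15736) (iv F62296)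
theorem F64764 : act 5 n16364 = n16242 := d31_1 D16364 (iv D16242) (iv F62298)
theorem F64765 : act 6 n16364 = n15733 := d33_1 D16364 (iv D15733) (iv F62299)
def n16365 : Q := act 3 n15733
theorem D16365 : act 3 n15733 = n16365 := rfl
theorem F64766 : act 5 n16365 = n15734 := d22_2 (iv F62301) D16365 (iv D15734)
def n16366 : Q := act 2 n15734
theorem D16366 : act 2 n15734 = n16366 := rfl
theorem F64767 : act 3 n16366 = n15738 := d15_2 D15734 D16366 (iv D15738) (iv D15018) (iv F59396)
def n16367 : Q := act 4 n15734
theorem D16367 : act 4 n15734 = n16367 := rfl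
theorem F64768 : act 3 n16367 = n15735 := d21_1 D16367 (iv D15735) (iv D15015) (iv F59397) D15734
def n16368 : Q := act 5 n15735
theorem D16368 : act 5 n15735 = n16368 := rfl
theorem F64769 : act 7 n16368 = n15762 := d31_2 (iv F62302) D16368 (iv D15762)
def n16369 : Q := act 3 n15736
theorem D16369 : act 3 n15736 = n16369 := rfl
theorem F64770 : act 1 n16369 = n15840 := d9_1 D16369 (iv D15840) (iv F62303)
theorem F64771 : act 5 n16369 = n15859 := d22_2 (iv F62548) D16369 F62755
theorem F64772 : act 6 n16369 = n15737 := d23_2 (iv F62304) D16369 (iv D15737)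
theorem F64773 : act 7 n16369 = n15864 := d24_2 D15736 D16369 F62773 F59890 (iv F59400)
def n16370 : Q := act 2 n15737
theorem D16370 : act 2 n15737 = n16370 := rfl
theorem F64774 : act 5 n16370 = n15738 := d17_2 (iv F62306) D16370 (iv D15738)
theorem F64775 : act 7 n16370 = n15891 := d19_2 (iv F62307) D16370 (iv D15891)
def n16371 : Q := act 4 n15737
theorem D16371 : act 4 n15737 = n16371 := rfl
theorem F64776 : act 1 n16371 = n15842 := d10_1 D16371 (iv D15842) (iv F62305)
theorem F64777 : act 7 n16371 = n15892 := d28_2 (iv F62307) D16371 (iv D15892)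
def n16372 : Q := act 1 n15738
theorem D16372 : act 1 n15738 = n16372 := rfl
theorem F64778 : act 2 n16372 = n15843 := d8_2 D15738 D16372 (iv D15843) (iv D15132) (iv F59404)
theorem F64779 : act 7 n16372 = n15893 := d13_2 (iv F62308) D16372 (iv D15893)
def n16373 : Q := act 5 n15740
theorem D16373 : act 5 n15740 = n16373 := rfl
theorem F64780 : act 1 n16373 = n15969 := d11_1 D16373 (iv D15969) (iv F62314)
theorem F64781 : act 8 n16373 = n15772 := d32_2 (iv F62316) D16373 (iv D15772)
def n16374 : Q := act 8 n15741
theorem D16374 : act 8 n15741 = n16374 := rfl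
theorem F64782 : act 0 n16374 = n15748 := d7_1 D16374 (iv D15748) (iv F62317)
theorem F64783 : act 1 n16374 = n16359 := d14_1 D16374 (iv D16359) (iv F62318)
theorem F64784 : act 2 n16374 = n16374 := d20_1 D16374 (iv D16374) F62319
theorem F64785 : act 3 n16374 = n15776 := d25_1 D16374 (iv D15776) (iv F62320)
theorem F64786 : act 4 n16374 = n16353 := d29_1 D16374 (iv D16353) (iv F62321)
theorem F64787 : act 6 n16374 = n15909 := d34_1 D16374 (iv D15909) (iv F62322)
def n16375 : Q := act 7 n15742
theorem D16375 : act 7 n15742 = n16375 := rfl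
theorem F64788 : act 0 n16375 = n15749 := d6_1 D16375 (iv D15749) (iv F62323)
theorem F64789 : act 2 n16375 = n16375 := d19_1 D16375 (iv D16375) F62324
theorem F64790 : act 6 n16375 = n15910 := d33_1 D16375 (iv D15910) (iv F62326)
def n16376 : Q := act 3 n15743
theorem D16376 : act 3 n15743 = n16376 := rfl
theorem F64791 : act 0 n16376 = n15751 := d2_1 D16376 (iv D15751) (iv F62327)
theorem F64792 : act 6 n16376 = n15911 := d23_2 (iv F62330) D16376 (iv D15911)
theorem F64793 : act 8 n16376 = n15779 := d25_2 (iv F62331) D16376 (iv D15779)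
def n16377 : Q := act 4 n15744
theorem D16377 : act 4 n15744 = n16377 := rfl
theorem F64794 : act 0 n16377 = n15752 := d3_1 D16377 (iv D15752) (iv F62332)
theorem F64795 : act 6 n16377 = n15912 := d27_2 (iv F62333) D16377 (iv D15912)
theorem F64796 : act 8 n16377 = n15780 := d29_2 (iv F62334) D16377 (iv D15780)
def n16378 : Q := act 8 n15745
theorem D16378 : act 8 n15745 = n16378 := rfl
theorem F64797 : act 1 n16378 = n15753 := d14_1 D16378 (iv D15753) (iv F62335)
theorem F64798 : act 2 n16378 = n16378 := d20_1 D16378 (iv D16378) F62336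
theorem F64799 : act 4 n16378 = n15747 := d29_1 D16378 (iv D15747) D15745
theorem F64800 : act 5 n16378 = n16374 := d32_1 D16378 (iv D16374) (iv F62337)
theorem F64801 : act 6 n16378 = n16161 := d34_1 D16378 (iv D16161) (iv F62338)
def n16379 : Q := act 8 n15746
theorem D16379 : act 8 n15746 = n16379 := rfl
theorem F64802 : act 0 n16379 = n16378 := d7_1 D16379 (iv D16378) (iv F62340)
theorem F64803 : act 1 n16379 = n15755 := d14_1 D16379 (iv D15755) (iv F62341)
theorem F64804 : act 2 n16379 = n16379 := d20_1 D16379 (iv D16379) F62342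
theorem F64805 : act 3 n16379 = n15783 := d25_1 D16379 (iv D15783) (iv F62343)
theorem F64806 : act 4 n16379 = n16160 := d29_1 D16379 (iv D16160) (iv F62344)
theorem F64807 : act 5 n16379 = n15748 := d32_1 D16379 (iv D15748) (iv F62345)
theorem F64808 : act 6 n16379 = n16159 := d34_1 D16379 (iv D16159) (iv F62346)
def n16380 : Q := act 7 n15747
theorem D16380 : act 7 n15747 = n16380 := rfl
theorem F64809 : act 1 n16380 = n15756 := d13_1 D16380 (iv D15756) (iv F62347)
theorem F64810 : act 2 n16380 = n16380 := d19_1 D16380 (iv D16380) F62348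
theorem F64811 : act 5 n16380 = n15749 := d31_1 D16380 (iv D15749) (iv F62350)
def n16381 : Q := act 7 n15748
theorem D16381 : act 7 n15748 = n16381 := rfl
theorem F64812 : act 1 n16381 = n15757 := d13_1 D16381 (iv D15757) (iv F62351)
theorem F64813 : act 2 n16381 = n16381 := d19_1 D16381 (iv D16381) F62352
theorem F64814 : act 6 n16381 = n15964 := d33_1 D16381 (iv D15964) (iv F62354)
theorem F64815 : act 8 n16381 = n15749 := d35_2 D15748 D16381 (iv D15749) (iv D15027) D15026
def n16382 : Q := act 3 n15749
theorem D16382 : act 3 n15749 = n16382 := rfl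
theorem F64816 : act 1 n16382 = n15758 := d9_1 D16382 (iv D15758) (iv F62355)
theorem F64817 : act 6 n16382 = n15965 := d23_2 (iv F62357) D16382 (iv D15965)
theorem F64818 : act 7 n16382 = n15751 := d24_2 D15749 D16382 (iv D15751) (iv D15029) (iv F59439)
def n16383 : Q := act 3 n15750
theorem D16383 : act 3 n15750 = n16383 := rfl
theorem F64819 : act 1 n16383 = n15760 := d9_1 D16383 (iv D15760) (iv F62358)
theorem F64820 : act 5 n16383 = n15751 := d22_2 (iv F62360) D16383 (iv D15751)
theorem F64821 : act 8 n16383 = n15788 := d25_2 (iv F62361) D16383 (iv D15788)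
def n16384 : Q := act 2 n15751
theorem D16384 : act 2 n15751 = n16384 := rfl
theorem F64822 : act 3 n16384 = n15824 := d15_2 D15751 D16384 (iv D15824) (iv D15105) (iv F59445)
theorem F64823 : act 6 n16384 = n15967 := d18_2 (iv F62363) D16384 (iv D15967)
theorem F64824 : act 8 n16384 = n15789 := d20_2 (iv F62364) D16384 (iv D15789)
def n16385 : Q := act 4 n15751
theorem D16385 : act 4 n15751 = n16385 := rfl
theorem F64825 : act 1 n16385 = n15761 := d10_1 D16385 (iv D15761) (iv F62362)
theorem F64826 : act 3 n16385 = n15752 := d21_1 D16385 (iv D15752) (iv D15030) (iv F59446) D15751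
theorem F64827 : act 6 n16385 = n15968 := d27_2 (iv F62363) D16385 (iv D15968)
theorem F64828 : act 8 n16385 = n15790 := d29_2 (iv F62364) D16385 (iv D15790)
def n16386 : Q := act 5 n15752
theorem D16386 : act 5 n15752 = n16386 := rfl
theorem F64829 : act 1 n16386 = n15762 := d11_1 D16386 (iv D15762) (iv F62365)
theorem F64830 : act 8 n16386 = n15791 := d32_2 (iv F62367) D16386 (iv D15791)
def n16387 : Q := act 7 n15753
theorem D16387 : act 7 n15753 = n16387 := rfl
theorem F64831 : act 2 n16387 = n15894 := d19_1 D16387 (iv D15894) (iv F62368)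
theorem F64832 : act 4 n16387 = n15756 := d28_1 D16387 (iv D15756) (iv F62369)
theorem F64833 : act 6 n16387 = n16172 := d33_1 D16387 (iv D16172) (iv F62370)
theorem F64834 : act 8 n16387 = n16171 := d35_2 D15753 D16387 (iv D16171) (iv D15511) F59454
def n16388 : Q := act 7 n15754
theorem D16388 : act 7 n15754 = n16388 := rfl
theorem F64835 : act 2 n16388 = n15895 := d19_1 D16388 (iv D15895) (iv F62371)
theorem F64836 : act 4 n16388 = n16172 := d28_1 D16388 (iv D16172) (iv F62373)
theorem F64837 : act 6 n16388 = n15756 := d33_1 D16388 (iv D15756) (iv F62374)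
theorem F64838 : act 8 n16388 = n16170 := d35_2 D15754 D16388 (iv D16170) (iv D15510) F59458
def n16389 : Q := act 7 n15755
theorem D16389 : act 7 n15755 = n16389 := rfl
theorem F64839 : act 2 n16389 = n15896 := d19_1 D16389 (iv D15896) (iv F62375)
theorem F64840 : act 4 n16389 = n16171 := d28_1 D16389 (iv D16171) (iv F62377)
theorem F64841 : act 5 n16389 = n15757 := d31_1 D16389 (iv D15757) (iv F62378)
theorem F64842 : act 6 n16389 = n16170 := d33_1 D16389 (iv D16170) (iv F62379)
theorem F64843 : act 8 n16389 = n15756 := d35_2 D15755 D16389 (iv D15756) (iv D15034) D15033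
def n16390 : Q := act 3 n15756
theorem D16390 : act 3 n15756 = n16390 := rfl
theorem F64844 : act 5 n16390 = n15758 := d22_2 (iv F62381) D16390 (iv D15758)
theorem F64845 : act 7 n16390 = n15760 := d24_2 D15756 D16390 (iv D15760) (iv D15038) (iv F59465)
def n16391 : Q := act 3 n15757
theorem D16391 : act 3 n15757 = n16391 := rfl
theorem F64846 : act 7 n16391 = n15796 := d24_2 D15757 D16391 (iv D15796) (iv D15073) (iv F59468)
theorem F64847 : act 8 n16391 = n15758 := d25_2 (iv F62383) D16391 (iv D15758)
def n16392 : Q := act 4 n15758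
theorem D16392 : act 4 n15758 = n16392 := rfl
theorem F64848 : act 7 n16392 = n15761 := d28_2 (iv F62384) D16392 (iv D15761)
def n16393 : Q := act 3 n15759
theorem D16393 : act 3 n15759 = n16393 := rfl
theorem F64849 : act 6 n16393 = n15760 := d23_2 (iv F62386) D16393 (iv D15760)
theorem F64850 : act 8 n16393 = n15799 := d25_2 (iv F62387) D16393 (iv D15799)
def n16394 : Q := act 4 n15760
theorem D16394 : act 4 n15760 = n16394 := rfl
theorem F64851 : act 8 n16394 = n15801 := d29_2 (iv F62389) D16394 (iv D15801)
def n16395 : Q := act 5 n15761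
theorem D16395 : act 5 n15761 = n16395 := rfl
theorem F64852 : act 3 n16395 = n15762 := d22_1 D16395 (iv D15762) (iv F62390)
theorem F64853 : act 8 n16395 = n15804 := d32_2 (iv F62391) D16395 (iv D15804)
def n16396 : Q := act 6 n15762
theorem D16396 : act 6 n15762 = n16396 := rfl
theorem F64854 : act 8 n16396 = n15805 := d34_2 (iv F62392) D16396 (iv D15805)
def n16397 : Q := act 7 n15763
theorem D16397 : act 7 n15763 = n16397 := rfl
theorem F64855 : act 1 n16397 = n15971 := d13_1 D16397 (iv D15971) (iv F62393)
theorem F64856 : act 2 n16397 = n15806 := d19_1 D16397 (iv D15806) (iv F62394)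
theorem F64857 : act 4 n16397 = n15766 := d28_1 D16397 (iv D15766) (iv F62395)
theorem F64858 : act 6 n16397 = n15973 := d33_1 D16397 (iv D15973) (iv F62396)
theorem F64859 : act 8 n16397 = n15972 := d35_2 D15763 D16397 (iv D15972) (iv D15289) F59483
def n16398 : Q := act 7 n15764
theorem D16398 : act 7 n15764 = n16398 := rfl
theorem F64860 : act 1 n16398 = n15972 := d13_1 D16398 (iv D15972) (iv F62397)
theorem F64861 : act 2 n16398 = n15807 := d19_1 D16398 (iv D15807) (iv F62398)
theorem F64862 : act 4 n16398 = n15973 := d28_1 D16398 (iv D15973) (iv F62400)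
theorem F64863 : act 5 n16398 = n15793 := d31_1 D16398 (iv D15793) (iv F62401)
theorem F64864 : act 6 n16398 = n15766 := d33_1 D16398 (iv D15766) (iv F62402)
theorem F64865 : act 8 n16398 = n15971 := d35_2 D15764 D16398 (iv D15971) (iv D15288) F59489
def n16399 : Q := act 7 n15765
theorem D16399 : act 7 n15765 = n16399 := rfl
theorem F64866 : act 1 n16399 = n15973 := d13_1 D16399 (iv D15973) (iv F62403)
theorem F64867 : act 2 n16399 = n15808 := d19_1 D16399 (iv D15808) (iv F62404)
theorem F64868 : act 4 n16399 = n15972 := d28_1 D16399 (iv D15972) (iv F62405)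
theorem F64869 : act 5 n16399 = n15767 := d31_1 D16399 (iv D15767) (iv F62406)
theorem F64870 : act 6 n16399 = n15971 := d33_1 D16399 (iv D15971) (iv F62407)
theorem F64871 : act 8 n16399 = n15766 := d35_2 D15765 D16399 (iv D15766) (iv D15045) D15044
def n16400 : Q := act 3 n15766
theorem D16400 : act 3 n15766 = n16400 := rfl
theorem F64872 : act 1 n16400 = n15974 := d9_1 D16400 (iv D15974) (iv F62408)
theorem F64873 : act 5 n16400 = n15768 := d22_2 (iv F62410) D16400 (iv D15768)
theorem F64874 : act 7 n16400 = n15770 := d24_2 D15766 D16400 (iv D15770) (iv D15049) (iv F59497)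
def n16401 : Q := act 3 n15767
theorem D16401 : act 3 n15767 = n16401 := rfl
theorem F64875 : act 1 n16401 = n15975 := d9_1 D16401 (iv D15975) (iv F62411)
theorem F64876 : act 6 n16401 = n15796 := d23_2 (iv F62413) D16401 (iv D15796)
theorem F64877 : act 8 n16401 = n15768 := d25_2 (iv F62414) D16401 (iv D15768)
def n16402 : Q := act 4 n15768
theorem D16402 : act 4 n15768 = n16402 := rfl
theorem F64878 : act 1 n16402 = n15977 := d10_1 D16402 (iv D15977) (iv F62415)
theorem F64879 : act 6 n16402 = n15798 := d27_2 (iv F62416) D16402 (iv D15798)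
theorem F64880 : act 7 n16402 = n15771 := d28_2 (iv F62417) D16402 (iv D15771)
def n16403 : Q := act 3 n15769
theorem D16403 : act 3 n15769 = n16403 := rfl
theorem F64881 : act 1 n16403 = n15978 := d9_1 D16403 (iv D15978) (iv F62418)
theorem F64882 : act 5 n16403 = n15799 := d22_2 (iv F62420) D16403 (iv D15799)
theorem F64883 : act 6 n16403 = n15770 := d23_2 (iv F62421) D16403 (iv D15770)
def n16404 : Q := act 4 n15770
theorem D16404 : act 4 n15770 = n16404 := rfl
theorem F64884 : act 1 n16404 = n15980 := d10_1 D16404 (iv D15980) (iv F62422)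
def n16405 : Q := act 5 n15771
theorem D16405 : act 5 n15771 = n16405 := rfl
theorem F64885 : act 1 n16405 = n15983 := d11_1 D16405 (iv D15983) (iv F62424)
theorem F64886 : act 3 n16405 = n15772 := d22_1 D16405 (iv D15772) (iv F62425)
def n16406 : Q := act 6 n15772
theorem D16406 : act 6 n15772 = n16406 := rfl
theorem F64887 : act 1 n16406 = n15984 := d12_1 D16406 (iv D15984) (iv F62427)
theorem F64888 : act 5 n16406 = n15805 := d30_1 D16406 (iv D15805) (iv D15079) (iv F59515) D15772
def n16407 : Q := act 8 n15773
theorem D16407 : act 8 n15773 = n16407 := rfl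
theorem F64889 : act 0 n16407 = n15781 := d7_1 D16407 (iv D15781) (iv F62428)
theorem F64890 : act 1 n16407 = n16123 := d14_1 D16407 (iv D16123) (iv F62429)
theorem F64891 : act 2 n16407 = n15844 := d20_1 D16407 (iv D15844) (iv F62430)
theorem F64892 : act 3 n16407 = n16161 := d25_1 D16407 (iv D16161) (iv F62431)
theorem F64893 : act 4 n16407 = n15775 := d29_1 D16407 (iv D15775) D15773
theorem F64894 : act 5 n16407 = n16116 := d32_1 D16407 (iv D16116) (iv F62432)
def n16408 : Q := act 8 n15774
theorem D16408 : act 8 n15774 = n16408 := rfl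
theorem F64895 : act 0 n16408 = n15783 := d7_1 D16408 (iv D15783) (iv F62434)
theorem F64896 : act 1 n16408 = n16121 := d14_1 D16408 (iv D16121) (iv F62435)
theorem F64897 : act 2 n16408 = n15846 := d20_1 D16408 (iv D15846) (iv F62436)
theorem F64898 : act 3 n16408 = n16378 := d25_1 D16408 (iv D16378) (iv F62437)
theorem F64899 : act 4 n16408 = n16115 := d29_1 D16408 (iv D16115) (iv F62438)
theorem F64900 : act 5 n16408 = n15776 := d32_1 D16408 (iv D15776) (iv F62439)
theorem F64901 : act 6 n16408 = n16407 := d34_1 D16408 (iv D16407) (iv F62440)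
def n16409 : Q := act 7 n15775
theorem D16409 : act 7 n15775 = n16409 := rfl
theorem F64902 : act 0 n16409 = n15784 := d6_1 D16409 (iv D15784) (iv F62441)
theorem F64903 : act 2 n16409 = n15847 := d19_1 D16409 (iv D15847) (iv F62442)
theorem F64904 : act 5 n16409 = n15777 := d31_1 D16409 (iv D15777) (iv F62444)
def n16410 : Q := act 7 n15776
theorem D16410 : act 7 n15776 = n16410 := rfl
theorem F64905 : act 0 n16410 = n15785 := d6_1 D16410 (iv D15785) (iv F62445)
theorem F64906 : act 2 n16410 = n15848 := d19_1 D16410 (iv D15848) (iv F62446)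
theorem F64907 : act 4 n16410 = n16273 := d28_1 D16410 (iv D16273) (iv F62447)
theorem F64908 : act 6 n16410 = n15922 := d33_1 D16410 (iv D15922) (iv F62448)
theorem F64909 : act 8 n16410 = n15777 := d35_2 D15776 D16410 (iv D15777) (iv D15055) D15054
def n16411 : Q := act 3 n15777
theorem D16411 : act 3 n15777 = n16411 := rfl
theorem F64910 : act 0 n16411 = n15786 := d2_1 D16411 (iv D15786) (iv F62449)
theorem F64911 : act 6 n16411 = n15923 := d23_2 (iv F62452) D16411 (iv D15923)
theorem F64912 : act 7 n16411 = n15779 := d24_2 D15777 D16411 (iv D15779) (iv D15057) (iv F59528)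
def n16412 : Q := act 3 n15778
theorem D16412 : act 3 n15778 = n16412 := rfl
theorem F64913 : act 0 n16412 = n15788 := d2_1 D16412 (iv D15788) (iv F62453)
theorem F64914 : act 5 n16412 = n15779 := d22_2 (iv F62455) D16412 (iv D15779)
def n16413 : Q := act 2 n15779
theorem D16413 : act 2 n15779 = n16413 := rfl
theorem F64915 : act 0 n16413 = n15789 := d1_1 D16413 (iv D15789) (iv F62456)
theorem F64916 : act 3 n16413 = n15827 := d15_2 D15779 D16413 (iv D15827) (iv D15108) (iv F59535)
theorem F64917 : act 6 n16413 = n15925 := d18_2 (iv F62457) D16413 (iv D15925)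
def n16414 : Q := act 4 n15779
theorem D16414 : act 4 n15779 = n16414 := rfl
theorem F64918 : act 0 n16414 = n15790 := d3_1 D16414 (iv D15790) (iv F62456)
theorem F64919 : act 3 n16414 = n15780 := d21_1 D16414 (iv D15780) (iv D15058) (iv F59536) D15779
theorem F64920 : act 6 n16414 = n15926 := d27_2 (iv F62457) D16414 (iv D15926)
def n16415 : Q := act 5 n15780
theorem D16415 : act 5 n15780 = n16415 := rfl
theorem F64921 : act 0 n16415 = n15791 := d4_1 D16415 (iv D15791) (iv F62458)
theorem F64922 : act 7 n16415 = n16277 := d31_2 (iv F62460) D16415 (iv D16277)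
def n16416 : Q := act 7 n15781
theorem D16416 : act 7 n15781 = n16416 := rfl
theorem F64923 : act 1 n16416 = n15792 := d13_1 D16416 (iv D15792) (iv F62461)
theorem F64924 : act 2 n16416 = n15853 := d19_1 D16416 (iv D15853) (iv F62462)
theorem F64925 : act 4 n16416 = n15784 := d28_1 D16416 (iv D15784) (iv F62463)
theorem F64926 : act 5 n16416 = n16397 := d31_1 D16416 (iv D16397) (iv F62464)
def n16417 : Q := act 7 n15782
theorem D16417 : act 7 n15782 = n16417 := rfl
theorem F64927 : act 1 n16417 = n15793 := d13_1 D16417 (iv D15793) (iv F62465)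
theorem F64928 : act 2 n16417 = n15854 := d19_1 D16417 (iv D15854) (iv F62466)
theorem F64929 : act 5 n16417 = n15972 := d31_1 D16417 (iv D15972) (iv F62468)
theorem F64930 : act 6 n16417 = n15784 := d33_1 D16417 (iv D15784) (iv F62469)
theorem F64931 : act 8 n16417 = n16416 := d35_2 D15782 D16417 (iv D16416) (iv D15781) F59548
def n16418 : Q := act 7 n15783
theorem D16418 : act 7 n15783 = n16418 := rfl
theorem F64932 : act 1 n16418 = n15794 := d13_1 D16418 (iv D15794) (iv F62470)
theorem F64933 : act 2 n16418 = n15855 := d19_1 D16418 (iv D15855) (iv F62471)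
theorem F64934 : act 4 n16418 = n16417 := d28_1 D16418 (iv D16417) (iv F62472)
theorem F64935 : act 5 n16418 = n15785 := d31_1 D16418 (iv D15785) (iv F62473)
theorem F64936 : act 6 n16418 = n16416 := d33_1 D16418 (iv D16416) (iv F62474)
theorem F64937 : act 8 n16418 = n15784 := d35_2 D15783 D16418 (iv D15784) (iv D15062) D15061
def n16419 : Q := act 3 n15784
theorem D16419 : act 3 n15784 = n16419 := rfl
theorem F64938 : act 1 n16419 = n15795 := d9_1 D16419 (iv D15795) (iv F62475)
theorem F64939 : act 5 n16419 = n15786 := d22_2 (iv F62477) D16419 (iv D15786)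
theorem F64940 : act 7 n16419 = n15788 := d24_2 D15784 D16419 (iv D15788) (iv D15066) (iv F59556)
def n16420 : Q := act 3 n15785
theorem D16420 : act 3 n15785 = n16420 := rfl
theorem F64941 : act 1 n16420 = n15796 := d9_1 D16420 (iv D15796) (iv F62478)
theorem F64942 : act 6 n16420 = n15975 := d23_2 (iv F62481) D16420 (iv D15975)
theorem F64943 : act 8 n16420 = n15786 := d25_2 (iv F62482) D16420 (iv D15786)
def n16421 : Q := act 2 n15786
theorem D16421 : act 2 n15786 = n16421 := rfl
theorem F64944 : act 3 n16421 = n15858 := d15_2 D15786 D16421 (iv D15858) (iv D15147) (iv F59563)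
theorem F64945 : act 6 n16421 = n15976 := d18_2 (iv F62484) D16421 (iv D15976)
theorem F64946 : act 7 n16421 = n15789 := d19_2 (iv F62485) D16421 (iv D15789)
def n16422 : Q := act 4 n15786
theorem D16422 : act 4 n15786 = n16422 := rfl
theorem F64947 : act 1 n16422 = n15798 := d10_1 D16422 (iv D15798) (iv F62483)
theorem F64948 : act 3 n16422 = n16402 := d21_1 D16422 (iv D16402) (iv D15768) (iv F59564) D15786
theorem F64949 : act 6 n16422 = n15977 := d27_2 (iv F62484) D16422 (iv D15977)
theorem F64950 : act 7 n16422 = n15790 := d28_2 (iv F62485) D16422 (iv D15790)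
def n16423 : Q := act 3 n15787
theorem D16423 : act 3 n15787 = n16423 := rfl
theorem F64951 : act 1 n16423 = n15799 := d9_1 D16423 (iv D15799) (iv F62486)
theorem F64952 : act 5 n16423 = n15978 := d22_2 (iv F62488) D16423 (iv D15978)
theorem F64953 : act 6 n16423 = n15788 := d23_2 (iv F62489) D16423 (iv D15788)
def n16424 : Q := act 2 n15788
theorem D16424 : act 2 n15788 = n16424 := rfl
theorem F64954 : act 3 n16424 = n15828 := d15_2 D15788 D16424 (iv D15828) (iv D15110) (iv F59571)
theorem F64955 : act 5 n16424 = n15789 := d17_2 (iv F62491) D16424 (iv D15789)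
def n16425 : Q := act 4 n15788
theorem D16425 : act 4 n15788 = n16425 := rfl
theorem F64956 : act 1 n16425 = n15801 := d10_1 D16425 (iv D15801) (iv F62490)
def n16426 : Q := act 1 n15789
theorem D16426 : act 1 n15789 = n16426 := rfl
theorem F64957 : act 2 n16426 = n15802 := d8_2 D15789 D16426 (iv D15802) (iv D15077) (iv F59573)
theorem F64958 : act 3 n16426 = n15830 := d9_2 (iv F62492) D16426 (iv D15830)
theorem F64959 : act 6 n16426 = n15981 := d12_2 (iv F62493) D16426 (iv D15981)
def n16427 : Q := act 4 n15789
theorem D16427 : act 4 n15789 = n16427 := rfl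
theorem F64960 : act 2 n16427 = n15790 := d16_1 D16427 (iv D15790) D15789
theorem F64961 : act 6 n16427 = n15982 := d27_2 (iv F62493) D16427 (iv D15982)
def n16428 : Q := act 5 n15790
theorem D16428 : act 5 n15790 = n16428 := rfl
theorem F64962 : act 1 n16428 = n15804 := d11_1 D16428 (iv D15804) (iv F62494)
theorem F64963 : act 3 n16428 = n15791 := d22_1 D16428 (iv D15791) (iv F62495)
def n16429 : Q := act 6 n15791
theorem D16429 : act 6 n15791 = n16429 := rfl
theorem F64964 : act 1 n16429 = n15805 := d12_1 D16429 (iv D15805) (iv F62497)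
theorem F64965 : act 5 n16429 = n15984 := d30_1 D16429 (iv D15984) (iv D15298) (iv F59576) D15791
theorem F64966 : act 7 n16429 = n16406 := d33_2 (iv F62498) D16429 (iv D16406)
def n16430 : Q := act 3 n15792
theorem D16430 : act 3 n15792 = n16430 := rfl
def n16431 : Q := act 3 n15793
theorem D16431 : act 3 n15793 = n16431 := rfl
theorem F64967 : act 6 n16431 = n15795 := d23_2 (iv F62502) D16431 (iv D15795)
theorem F64968 : act 7 n16431 = n15799 := d24_2 D15793 D16431 (iv D15799) (iv D15075) (iv F59581)
theorem F64969 : act 8 n16431 = n16430 := d25_2 (iv F62503) D16431 (iv D16430)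
def n16432 : Q := act 3 n15794
theorem D16432 : act 3 n15794 = n16432 := rfl
theorem F64970 : act 5 n16432 = n15796 := d22_2 (iv F62506) D16432 (iv D15796)
theorem F64971 : act 6 n16432 = n16430 := d23_2 (iv F62507) D16432 (iv D16430)
theorem F64972 : act 8 n16432 = n15795 := d25_2 (iv F62508) D16432 (iv D15795)
def n16433 : Q := act 2 n15795
theorem D16433 : act 2 n15795 = n16433 := rfl
theorem F64973 : act 3 n16433 = n15816 := d15_2 D15795 D16433 (iv D15816) (iv D15094) (iv F59587)
theorem F64974 : act 5 n16433 = n15797 := d17_2 (iv F62509) D16433 (iv D15797)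
theorem F64975 : act 7 n16433 = n15800 := d19_2 (iv F62510) D16433 (iv D15800)
theorem F64976 : act 1 n16324 = n16433 := d36_6 (iv F57302) (iv F60370) (iv D15274) (iv F59236) (iv F62134) D16324 (iv D16433) (iv D15795) (iv F62508) (iv D15794) (iv F62376) F62378 (iv F62292) (iv F63109) (iv F64684) F64685 F62646 (iv D15834) F59757 F56904 F53317 (iv D13488) (iv D12508) F45196 F45197 F41563 (iv F40927) (iv D10370) F32750 F24185 (iv F23302) (iv F31511) F31510 F23336 F23337 (iv D4421) (iv D3235) F9630 D3234 D4417 D6036 (iv F31484) D10056 (iv F40722) F40725 D10353 D11287 (iv F46963) D12925 F51000 F50999 (iv F51565) (iv F51567) (iv F53614) (iv D13579) (iv F53060) F53062 (iv F50176) F50175 (iv F53864) (iv F57318) (iv F60396) (iv D15281) (iv D14510) (iv D13643) D13644 F54810 F54806 D14599 F57608 F54379 D13811 (iv F54496) (iv F57369) (iv F57935) F57934 (iv D13922) F51156 F47241 D13023 F51387 (iv F55136) (iv D13958) F51359 F47221 F43224 (iv F45997) (iv F49985) D13655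
def n16434 : Q := act 4 n15795
theorem D16434 : act 4 n15795 = n16434 := rfl
theorem F64977 : act 7 n16434 = n15801 := d28_2 (iv F62510) D16434 (iv D15801)
def n16435 : Q := act 2 n15796
theorem D16435 : act 2 n15796 = n16435 := rfl
theorem F64978 : act 3 n16435 = n15817 := d15_2 D15796 D16435 (iv D15817) (iv D15095) (iv F59589)
theorem F64979 : act 8 n16435 = n15797 := d20_2 (iv F62511) D16435 (iv D15797)
def n16436 : Q := act 4 n15796
theorem D16436 : act 4 n15796 = n16436 := rfl
theorem F64980 : act 8 n16436 = n15798 := d29_2 (iv F62511) D16436 (iv D15798)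
def n16437 : Q := act 1 n15797
theorem D16437 : act 1 n15797 = n16437 := rfl
theorem F64981 : act 3 n16437 = n15819 := d9_2 (iv F62512) D16437 (iv D15819)
theorem F64982 : act 5 n16437 = n16324 := d11_2 F64974 D16437 F64976
theorem F64983 : act 7 n16437 = n15802 := d13_2 (iv F62513) D16437 (iv D15802)
def n16438 : Q := act 4 n15797
theorem D16438 : act 4 n15797 = n16438 := rfl
theorem F64984 : act 2 n16438 = n15798 := d16_1 D16438 (iv D15798) D15797
theorem F64985 : act 7 n16438 = n15803 := d28_2 (iv F62513) D16438 (iv D15803)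
def n16439 : Q := act 5 n15798
theorem D16439 : act 5 n15798 = n16439 := rfl
theorem F64986 : act 7 n16439 = n15804 := d31_2 (iv F62514) D16439 (iv D15804)
def n16440 : Q := act 4 n15799
theorem D16440 : act 4 n15799 = n16440 := rfl
theorem F64987 : act 6 n16440 = n15801 := d27_2 (iv F62515) D16440 (iv D15801)
def n16441 : Q := act 4 n15800
theorem D16441 : act 4 n15800 = n16441 := rfl
theorem F64988 : act 2 n16441 = n15801 := d16_1 D16441 (iv D15801) D15800
def n16442 : Q := act 5 n15801
theorem D16442 : act 5 n15801 = n16442 := rfl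
theorem F64989 : act 4 n16442 = n15804 := d26_1 D16442 (iv D15804) (iv D15078) (iv F59594) D15801
def n16443 : Q := act 4 n15802
theorem D16443 : act 4 n15802 = n16443 := rfl
theorem F64990 : act 1 n16443 = n15803 := d10_1 D16443 (iv D15803) D15802
def n16444 : Q := act 5 n15803
theorem D16444 : act 5 n15803 = n16444 := rfl
theorem F64991 : act 2 n16444 = n15804 := d17_1 D16444 (iv D15804) (iv F62519)
def n16445 : Q := act 6 n15804
theorem D16445 : act 6 n15804 = n16445 := rfl
theorem F64992 : act 3 n16445 = n15805 := d23_1 D16445 (iv D15805) (iv F62520)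
def n16446 : Q := act 3 n15806
theorem D16446 : act 3 n15806 = n16446 := rfl
theorem F64993 : act 1 n16446 = n15871 := d9_1 D16446 (iv D15871) (iv F62521)
theorem F64994 : act 6 n16446 = n15991 := d23_2 (iv F62523) D16446 (iv D15991)
theorem F64995 : act 7 n16446 = n16446 := d24_2 D15806 D16446 (iv D16446) (iv D15806) F59602
theorem F64996 : act 8 n16446 = n15990 := d25_2 (iv F62524) D16446 (iv D15990)
def n16447 : Q := act 3 n15807
theorem D16447 : act 3 n15807 = n16447 := rfl
theorem F64997 : act 0 n16447 = n15895 := d2_1 D16447 (iv F64538) F64536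
theorem F64998 : act 1 n16447 = n15872 := d9_1 D16447 (iv D15872) (iv F62525)
theorem F64999 : act 5 n16447 = n15815 := d22_2 (iv F62527) D16447 (iv D15815)
theorem F65000 : act 6 n16447 = n15809 := d23_2 (iv F62528) D16447 (iv D15809)
theorem F65001 : act 7 n16447 = n15812 := d24_2 D15807 D16447 (iv D15812) (iv D15088) (iv F59606)
theorem F65002 : act 8 n16447 = n15989 := d25_2 (iv F62529) D16447 (iv D15989)
theorem F65003 : act 4 n16076 = n16447 := d38_3 D14698 (iv F60866) (iv F63605) (iv D16447) (iv F64861) F64860 (iv D15972) F60414 F57317 F53839 F52565 F48574 F44506 D11348 (iv F48748) (iv F52729) (iv F56097) D14997 (iv F60949) (iv F63483) F63487 F63486 (iv F63629) F63628 (iv D15474) (iv F61215) (iv F63807) (iv D16118) F61180 F59533 F56233 F52546 F51954 F47962 D12200 F48132 (iv F46653) (iv F50712) D13806 D14663 D15425 F61005 F57931 F56772 (iv F54925) (iv D13910) (iv F54908) F54907 (iv D13907) F51112 (iv F51144) F51143 (iv F51175) F51174 F48649 D12477 (iv F53097) F53096 (iv F53611) (iv F55324) F55323 (iv F54707)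
def n16448 : Q := act 3 n15808
theorem D16448 : act 3 n15808 = n16448 := rfl
theorem F65004 : act 0 n16448 = n15896 := d2_1 D16448 (iv F64545) F64543
theorem F65005 : act 1 n16448 = n15873 := d9_1 D16448 (iv D15873) (iv F62530)
theorem F65006 : act 4 n16448 = n16075 := d21_2 (iv F62531) D16448 F63600 F63294 (iv D15990)
theorem F65007 : act 5 n16448 = n15810 := d22_2 (iv F62532) D16448 (iv D15810)
theorem F65008 : act 6 n16448 = n15989 := d23_2 (iv F62533) D16448 (iv D15989)
theorem F65009 : act 7 n16448 = n15881 := d24_2 D15808 D16448 F62856 F60066 (iv F59611)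
theorem F65010 : act 8 n16448 = n15809 := d25_2 (iv F62534) D16448 (iv D15809)
def n16449 : Q := act 4 n15809
theorem D16449 : act 4 n15809 = n16449 := rfl
theorem F65011 : act 0 n16449 = n15894 := d3_1 D16449 F62914 (iv F62535)
theorem F65012 : act 1 n16449 = n15875 := d10_1 D16449 (iv D15875) (iv F62536)
theorem F65013 : act 5 n16449 = n16105 := d26_2 (iv F62537) D16449 F63748 F62548 (iv D15811)
theorem F65014 : act 6 n16449 = n16076 := d27_2 F65000 D16449 F65003
theorem F65015 : act 7 n16449 = n15813 := d28_2 (iv F62538) D16449 (iv D15813)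
theorem F65016 : act 8 n16449 = n16075 := d29_2 F65010 D16449 (iv F65006)
def n16450 : Q := act 4 n15810
theorem D16450 : act 4 n15810 = n16450 := rfl
theorem F65017 : act 0 n16450 = n15887 := d3_1 D16450 F62889 (iv F62539)
theorem F65018 : act 1 n16450 = n15838 := d10_1 D16450 F62667 (iv F62540)
theorem F65019 : act 5 n16450 = n15958 := d26_2 F65007 D16450 F63127 (iv F63601) (iv F65006)
theorem F65020 : act 6 n16450 = n15818 := d27_2 (iv F62541) D16450 (iv D15818)
theorem F65021 : act 7 n16450 = n15836 := d28_2 (iv F62542) D16450 F62658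
theorem F65022 : act 8 n16450 = n15811 := d29_2 (iv F62543) D16450 (iv D15811)
def n16451 : Q := act 2 n15814
theorem D16451 : act 2 n15814 = n16451 := rfl
theorem F65023 : act 0 n16451 = n16337 := d1_1 D16451 F64659 (iv F62561)
theorem F65024 : act 1 n16451 = n16066 := d8_1 D16451 F63566 F60864 F59996 (iv F62562)
theorem F65025 : act 4 n16451 = n16092 := d16_2 (iv F62563) D16451 F63694
theorem F65026 : act 6 n16451 = n16097 := d18_2 (iv F62564) D16451 F63720
theorem F65027 : act 7 n16451 = n15821 := d19_2 (iv F62565) D16451 (iv D15821)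
theorem F65028 : act 8 n16451 = n16058 := d20_2 F62570 D16451 F63535
def n16452 : Q := act 3 n15820
theorem D16452 : act 3 n15820 = n16452 := rfl
theorem F65029 : act 5 n16452 = n16347 := d22_2 (iv F62585) D16452 (iv D16347)
def n16453 : Q := act 2 n15822
theorem D16453 : act 2 n15822 = n16453 := rfl
theorem F65030 : act 0 n16453 = n15824 := d1_1 D16453 (iv D15824) (iv F62592)
theorem F65031 : act 6 n16453 = n15913 := d18_2 (iv F62594) D16453 (iv D15913)
theorem F65032 : act 7 n16453 = n16453 := d19_2 F62595 D16453 (iv D16453)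
theorem F65033 : act 8 n16453 = n15827 := d20_2 (iv F62596) D16453 (iv D15827)
def n16454 : Q := act 2 n15823
theorem D16454 : act 2 n15823 = n16454 := rfl
theorem F65034 : act 5 n16454 = n15824 := d17_2 (iv F62598) D16454 (iv D15824)
theorem F65035 : act 7 n16454 = n16454 := d19_2 F62599 D16454 (iv D16454)
theorem F65036 : act 8 n16454 = n15828 := d20_2 (iv F62600) D16454 (iv D15828)
def n16455 : Q := act 4 n15823
theorem D16455 : act 4 n15823 = n16455 := rfl
theorem F65037 : act 0 n16455 = n15949 := d3_1 D16455 (iv F64169) F64167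
theorem F65038 : act 1 n16455 = n15825 := d10_1 D16455 (iv D15825) (iv F62597)
theorem F65039 : act 3 n16455 = n15948 := d21_1 D16455 (iv F63676) F63675 F61495 D15823
theorem F65040 : act 5 n16455 = n15946 := d26_2 (iv F62598) D16455 (iv D15946) (iv F61149) F61148
theorem F65041 : act 6 n16455 = n15944 := d27_2 F63655 D16455 (iv F63653)
theorem F65042 : act 7 n16455 = n16455 := d28_2 F62599 D16455 (iv D16455)
theorem F65043 : act 8 n16455 = n15829 := d29_2 (iv F62600) D16455 (iv D15829)
def n16456 : Q := act 2 n15826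
theorem D16456 : act 2 n15826 = n16456 := rfl
theorem F65044 : act 0 n16456 = n15828 := d1_1 D16456 (iv D15828) (iv F62611)
theorem F65045 : act 5 n16456 = n15827 := d17_2 (iv F62613) D16456 (iv D15827)
theorem F65046 : act 7 n16456 = n15877 := d19_2 (iv F62614) D16456 (iv D15877)
def n16457 : Q := act 1 n15827
theorem D16457 : act 1 n15827 = n16457 := rfl
theorem F65047 : act 2 n16457 = n15829 := d8_2 D15827 D16457 F62620 F59715 (iv F59703)
theorem F65048 : act 4 n16457 = n15828 := d10_2 F63507 D16457 (iv F63506)
theorem F65049 : act 6 n16457 = n15929 := d12_2 (iv F62616) D16457 (iv D15929)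
theorem F65050 : act 7 n16457 = n15878 := d13_2 (iv F62617) D16457 (iv D15878)
def n16458 : Q := act 1 n15833
theorem D16458 : act 1 n15833 = n16458 := rfl
theorem F65051 : act 3 n16458 = n16009 := d9_2 (iv F62640) D16458 (iv D16009)
theorem F65052 : act 5 n16458 = n16016 := d11_2 (iv F62641) D16458 F63308
theorem F65053 : act 6 n16458 = n15843 := d12_2 (iv F62642) D16458 (iv D15843)
theorem F65054 : act 7 n16458 = n15897 := d13_2 (iv F62643) D16458 (iv D15897)
def n16459 : Q := act 2 n15837
theorem D16459 : act 2 n15837 = n16459 := rfl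
theorem F65055 : act 6 n16459 = n15960 := d18_2 (iv F62662) D16459 (iv D15960)
theorem F65056 : act 7 n16459 = n16459 := d19_2 F62663 D16459 (iv D16459)
theorem F65057 : act 8 n16459 = n16349 := d20_2 (iv F62664) D16459 (iv D16349)
def n16460 : Q := act 1 n15839
theorem D16460 : act 1 n15839 = n16460 := rfl
theorem F65058 : act 3 n16460 = n15843 := d9_2 (iv F62672) D16460 (iv D15843)
theorem F65059 : act 6 n16460 = n16009 := d12_2 (iv F62673) D16460 (iv D16009)
theorem F65060 : act 7 n16460 = n16460 := d13_2 F62674 D16460 (iv D16460)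
theorem F65061 : act 8 n16460 = n16458 := d14_2 (iv F62675) D16460 (iv D16458)
def n16461 : Q := act 1 n15841
theorem D16461 : act 1 n15841 = n16461 := rfl
theorem F65062 : act 4 n16461 = n16369 := d10_2 F62683 D16461 F64770
theorem F65063 : act 5 n16461 = n15843 := d11_2 (iv F62681) D16461 (iv D15843)
theorem F65064 : act 6 n16461 = n16371 := d12_2 F62686 D16461 F64776
theorem F65065 : act 7 n16461 = n15898 := d13_2 (iv F62682) D16461 (iv D15898)
def n16462 : Q := act 0 n15843
theorem D16462 : act 0 n15843 = n16462 := rfl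
theorem F65066 : act 1 n16462 = n16462 := d0_2 D15843 D16462 (iv D16462) (iv D15843) F59803
theorem F65067 : act 7 n16462 = n15899 := d6_2 (iv F62688) D16462 (iv D15899)
def n16463 : Q := act 7 n15844
theorem D16463 : act 7 n15844 = n16463 := rfl
theorem F65068 : act 0 n16463 = n15853 := d6_1 D16463 (iv D15853) (iv F62689)
theorem F65069 : act 1 n16463 = n16463 := d13_1 D16463 (iv D16463) F62690
theorem F65070 : act 4 n16463 = n15847 := d28_1 D16463 (iv D15847) (iv F62692)
theorem F65071 : act 5 n16463 = n16306 := d31_1 D16463 (iv D16306) (iv F62693)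
def n16464 : Q := act 7 n15845
theorem D16464 : act 7 n15845 = n16464 := rfl
theorem F65072 : act 0 n16464 = n15854 := d6_1 D16464 (iv D15854) (iv F62694)
theorem F65073 : act 1 n16464 = n16464 := d13_1 D16464 (iv D16464) F62695
theorem F65074 : act 5 n16464 = n15931 := d31_1 D16464 (iv D15931) (iv F62697)
theorem F65075 : act 6 n16464 = n15847 := d33_1 D16464 (iv D15847) (iv F62698)
theorem F65076 : act 8 n16464 = n16463 := d35_2 D15845 D16464 (iv D16463) (iv D15844) F59813
def n16465 : Q := act 7 n15846
theorem D16465 : act 7 n15846 = n16465 := rfl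
theorem F65077 : act 0 n16465 = n15855 := d6_1 D16465 (iv D15855) (iv F62699)
theorem F65078 : act 1 n16465 = n16465 := d13_1 D16465 (iv D16465) F62700
theorem F65079 : act 4 n16465 = n16464 := d28_1 D16465 (iv D16464) (iv F62702)
theorem F65080 : act 5 n16465 = n15848 := d31_1 D16465 (iv D15848) (iv F62703)
theorem F65081 : act 6 n16465 = n16463 := d33_1 D16465 (iv D16463) (iv F62704)
theorem F65082 : act 8 n16465 = n15847 := d35_2 D15846 D16465 (iv D15847) (iv D15136) D15135
def n16466 : Q := act 3 n15847
theorem D16466 : act 3 n15847 = n16466 := rfl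
theorem F65083 : act 0 n16466 = n15856 := d2_1 D16466 (iv D15856) (iv F62705)
theorem F65084 : act 1 n16466 = n16466 := d9_1 D16466 (iv D16466) F62706
theorem F65085 : act 5 n16466 = n15849 := d22_2 (iv F62707) D16466 (iv D15849)
theorem F65086 : act 7 n16466 = n15851 := d24_2 D15847 D16466 (iv D15851) (iv D15140) (iv F59822)
theorem F65087 : act 4 n16462 = n16466 := d28_3 F65086 (iv F62938) (iv F65067)
def n16467 : Q := act 3 n15848
theorem D16467 : act 3 n15848 = n16467 := rfl
theorem F65088 : act 0 n16467 = n15857 := d2_1 D16467 (iv D15857) (iv F62708)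
theorem F65089 : act 1 n16467 = n16467 := d9_1 D16467 (iv D16467) F62709
theorem F65090 : act 6 n16467 = n15934 := d23_2 (iv F62711) D16467 (iv D15934)
theorem F65091 : act 7 n16467 = n16467 := d24_2 D15848 D16467 (iv D16467) (iv D15848) F59826
theorem F65092 : act 8 n16467 = n15849 := d25_2 (iv F62712) D16467 (iv D15849)
def n16468 : Q := act 2 n15849
theorem D16468 : act 2 n15849 = n16468 := rfl
theorem F65093 : act 0 n16468 = n15858 := d1_1 D16468 (iv D15858) (iv F62713)
theorem F65094 : act 6 n16468 = n15935 := d18_2 (iv F62715) D16468 (iv D15935)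
theorem F65095 : act 7 n16468 = n15852 := d19_2 (iv F62716) D16468 (iv D15852)
def n16469 : Q := act 3 n15850
theorem D16469 : act 3 n15850 = n16469 := rfl
theorem F65096 : act 0 n16469 = n15860 := d2_1 D16469 (iv D15860) (iv F62717)
theorem F65097 : act 1 n16469 = n16469 := d9_1 D16469 (iv D16469) F62718
theorem F65098 : act 5 n16469 = n15937 := d22_2 (iv F62721) D16469 (iv D15937)
theorem F65099 : act 6 n16469 = n15851 := d23_2 (iv F62722) D16469 (iv D15851)
theorem F65100 : act 8 n16469 = n16469 := d25_2 F62723 D16469 (iv D16469)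
def n16470 : Q := act 2 n15851
theorem D16470 : act 2 n15851 = n16470 := rfl
theorem F65101 : act 0 n16470 = n15861 := d1_1 D16470 (iv D15861) (iv F62724)
theorem F65102 : act 3 n16470 = n15877 := d15_2 D15851 D16470 (iv D15877) (iv D15179) (iv F59841)
theorem F65103 : act 5 n16470 = n15852 := d17_2 (iv F62726) D16470 (iv D15852)
theorem F65104 : act 8 n16470 = n16470 := d20_2 F62727 D16470 (iv D16470)
def n16471 : Q := act 1 n15852
theorem D16471 : act 1 n15852 = n16471 := rfl
theorem F65105 : act 2 n16471 = n16471 := d8_2 D15852 D16471 (iv D16471) (iv D15852) F59846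
theorem F65106 : act 3 n16471 = n15878 := d9_2 (iv F62729) D16471 (iv D15878)
theorem F65107 : act 6 n16471 = n15939 := d12_2 (iv F62730) D16471 (iv D15939)
theorem F65108 : act 8 n16471 = n16471 := d14_2 F62731 D16471 (iv D16471)
def n16472 : Q := act 3 n15853
theorem D16472 : act 3 n15853 = n16472 := rfl
theorem F65109 : act 1 n16472 = n15865 := d9_1 D16472 (iv D15865) (iv F62732)
theorem F65110 : act 4 n16472 = n16460 := d21_2 (iv F62733) D16472 F65058 F62747 (iv D15856)
theorem F65111 : act 5 n16472 = n16446 := d22_2 (iv F62734) D16472 (iv D16446)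
theorem F65112 : act 6 n16472 = n16218 := d23_2 F62742 D16472 F64201
theorem F65113 : act 7 n16472 = n16472 := d24_2 D15853 D16472 (iv D16472) (iv D15853) F59850
def n16473 : Q := act 3 n15854
theorem D16473 : act 3 n15854 = n16473 := rfl
theorem F65114 : act 1 n16473 = n15866 := d9_1 D16473 (iv D15866) (iv F62735)
theorem F65115 : act 4 n16473 = n16458 := d21_2 F62740 D16473 F65051 (iv F64202) F64201
theorem F65116 : act 5 n16473 = n15990 := d22_2 (iv F62736) D16473 (iv D15990)
theorem F65117 : act 6 n16473 = n15856 := d23_2 (iv F62737) D16473 (iv D15856)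
theorem F65118 : act 7 n16473 = n15860 := d24_2 D15854 D16473 (iv D15860) (iv D15148) (iv F59854)
theorem F65119 : act 8 n16473 = n16472 := d25_2 (iv F62738) D16473 (iv D16472)
def n16474 : Q := act 2 n15856
theorem D16474 : act 2 n15856 = n16474 := rfl
theorem F65120 : act 1 n16474 = n16326 := d8_1 D16474 (iv D16326) F62142 (iv F59907) (iv F62744)
theorem F65121 : act 4 n16474 = n16372 := d16_2 F62747 D16474 F64778
theorem F65122 : act 5 n16474 = n15858 := d17_2 (iv F62745) D16474 (iv D15858)
theorem F65123 : act 7 n16474 = n15861 := d19_2 (iv F62746) D16474 (iv D15861)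
def n16475 : Q := act 2 n15857
theorem D16475 : act 2 n15857 = n16475 := rfl
theorem F65124 : act 6 n16475 = n15994 := d18_2 (iv F62749) D16475 (iv D15994)
theorem F65125 : act 7 n16475 = n16475 := d19_2 F62750 D16475 (iv D16475)
theorem F65126 : act 8 n16475 = n15858 := d20_2 (iv F62751) D16475 (iv D15858)
def n16476 : Q := act 4 n15857
theorem D16476 : act 4 n15857 = n16476 := rfl
theorem F65127 : act 1 n16476 = n15867 := d10_1 D16476 (iv D15867) (iv F62748)
theorem F65128 : act 3 n16476 = n16450 := d21_1 D16476 (iv D16450) (iv D15810) (iv F59865) D15857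
theorem F65129 : act 6 n16476 = n15995 := d27_2 (iv F62749) D16476 (iv D15995)
theorem F65130 : act 7 n16476 = n16476 := d28_2 F62750 D16476 (iv D16476)
theorem F65131 : act 8 n16476 = n15859 := d29_2 (iv F62751) D16476 (iv D15859)
def n16477 : Q := act 1 n15858
theorem D16477 : act 1 n15858 = n16477 := rfl
theorem F65132 : act 2 n16477 = n15868 := d8_2 D15858 D16477 (iv D15868) (iv D15158) (iv F59868)
theorem F65133 : act 5 n16477 = n16326 := d11_2 F65122 D16477 (iv F65120)
theorem F65134 : act 6 n16477 = n15996 := d12_2 (iv F62752) D16477 (iv D15996)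
theorem F65135 : act 7 n16477 = n15862 := d13_2 (iv F62753) D16477 (iv D15862)
def n16478 : Q := act 4 n15858
theorem D16478 : act 4 n15858 = n16478 := rfl
theorem F65136 : act 2 n16478 = n15859 := d16_1 D16478 (iv D15859) D15858
theorem F65137 : act 6 n16478 = n15997 := d27_2 (iv F62752) D16478 (iv D15997)
theorem F65138 : act 7 n16478 = n15863 := d28_2 (iv F62753) D16478 (iv D15863)
def n16479 : Q := act 4 n15862
theorem D16479 : act 4 n15862 = n16479 := rfl
theorem F65139 : act 1 n16479 = n15863 := d10_1 D16479 (iv D15863) D15862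
theorem F65140 : act 2 n16479 = n15870 := d16_1 D16479 (iv D15870) (iv F62765)
theorem F65141 : act 6 n16479 = n16002 := d27_2 (iv F62767) D16479 (iv D16002)
theorem F65142 : act 8 n16479 = n16479 := d29_2 F62768 D16479 (iv D16479)
def n16480 : Q := act 5 n15863
theorem D16480 : act 5 n15863 = n16480 := rfl
theorem F65143 : act 2 n16480 = n15864 := d17_1 D16480 (iv D15864) (iv F62769)
theorem F65144 : act 6 n16480 = n15891 := d30_2 (iv F62770) D16480 F62904 (iv F62870) F62869
theorem F65145 : act 8 n16480 = n16480 := d32_2 F62771 D16480 (iv D16480)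
def n16481 : Q := act 4 n15868
theorem D16481 : act 4 n15868 = n16481 := rfl
theorem F65146 : act 1 n16481 = n15869 := d10_1 D16481 (iv D15869) D15868
theorem F65147 : act 5 n16481 = n16371 := d26_2 (iv F62794) D16481 (iv D16371) F62306 (iv F62143)
theorem F65148 : act 6 n16481 = n16016 := d27_2 (iv F62795) D16481 (iv D16016)
theorem F65149 : act 7 n16481 = n15870 := d28_2 (iv F62796) D16481 (iv D15870)
def n16482 : Q := act 2 n15879
theorem D16482 : act 2 n15879 = n16482 := rfl
theorem F65150 : act 0 n16482 = n15891 := d1_1 D16482 (iv D15891) (iv F62845)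
theorem F65151 : act 3 n16482 = n16480 := d15_2 D15879 D16482 F65143 F62773 (iv F60029)
theorem F65152 : act 5 n16482 = n15880 := d17_2 (iv F62847) D16482 (iv D15880)
theorem F65153 : act 8 n16482 = n16482 := d20_2 F62848 D16482 (iv D16482)
def n16483 : Q := act 4 n15879
theorem D16483 : act 4 n15879 = n16483 := rfl
theorem F65154 : act 0 n16483 = n15892 := d3_1 D16483 (iv D15892) (iv F62845)
theorem F65155 : act 1 n16483 = n16483 := d10_1 D16483 (iv D16483) F62846
theorem F65156 : act 3 n16483 = n16483 := d21_1 D16483 (iv D16483) (iv D15879) F60030 D15879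
theorem F65157 : act 5 n16483 = n16190 := d26_2 (iv F62847) D16483 (iv D16190) F61426 (iv F60035)
theorem F65158 : act 8 n16483 = n16483 := d29_2 F62848 D16483 (iv D16483)
def n16484 : Q := act 1 n15880
theorem D16484 : act 1 n15880 = n16484 := rfl
theorem F65159 : act 2 n16484 = n16484 := d8_2 D15880 D16484 (iv D16484) (iv D15880) F60034
theorem F65160 : act 3 n16484 = n16479 := d9_2 (iv F62850) D16484 F65139
theorem F65161 : act 4 n16484 = n16191 := d10_2 (iv F62851) D16484 (iv D16191)
theorem F65162 : act 6 n16484 = n16203 := d12_2 (iv F62852) D16484 F64112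
theorem F65163 : act 8 n16484 = n16484 := d14_2 F62853 D16484 (iv D16484)
def n16485 : Q := act 1 n15883
theorem D16485 : act 1 n15883 = n16485 := rfl
theorem F65164 : act 2 n16485 = n15897 := d8_2 D15883 D16485 (iv D15897) (iv D15211) (iv F60085)
theorem F65165 : act 4 n16485 = n16079 := d10_2 (iv F62868) D16485 (iv D16079)
theorem F65166 : act 5 n16485 = n16002 := d11_2 (iv F62869) D16485 F63240
theorem F65167 : act 6 n16485 = n15893 := d12_2 (iv F62870) D16485 (iv D15893)
theorem F65168 : act 8 n16485 = n16485 := d14_2 F62871 D16485 (iv D16485)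
def n16486 : Q := act 7 n15884
theorem D16486 : act 7 n15884 = n16486 := rfl
theorem F65169 : act 0 n16486 = n16105 := d6_1 D16486 (iv D16105) (iv F62872)
theorem F65170 : act 1 n16486 = n16486 := d13_1 D16486 (iv D16486) F62873
theorem F65171 : act 4 n16486 = n15886 := d28_1 D16486 (iv D15886) (iv F62875)
theorem F65172 : act 5 n16486 = n15894 := d31_1 D16486 (iv D15894) (iv F62876)
theorem F65173 : act 6 n16486 = n16025 := d33_1 D16486 (iv D16025) (iv F62877)
theorem F65174 : act 8 n16486 = n16186 := d35_2 D15884 D16486 (iv D16186) (iv D15523) F60095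
def n16487 : Q := act 7 n15885
theorem D16487 : act 7 n15885 = n16487 := rfl
theorem F65175 : act 0 n16487 = n15958 := d6_1 D16487 (iv D15958) (iv F62878)
theorem F65176 : act 1 n16487 = n16487 := d13_1 D16487 (iv D16487) F62879
theorem F65177 : act 4 n16487 = n16186 := d28_1 D16487 (iv D16186) (iv F62881)
theorem F65178 : act 5 n16487 = n15887 := d31_1 D16487 (iv D15887) (iv F62882)
theorem F65179 : act 6 n16487 = n15906 := d33_1 D16487 (iv D15906) (iv F62883)
theorem F65180 : act 8 n16487 = n15886 := d35_2 D15885 D16487 (iv D15886) (iv D15197) D15196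
def n16488 : Q := act 3 n15886
theorem D16488 : act 3 n15886 = n16488 := rfl
theorem F65181 : act 0 n16488 = n16369 := d2_1 D16488 (iv D16369) (iv F62884)
theorem F65182 : act 1 n16488 = n16488 := d9_1 D16488 (iv D16488) F62885
theorem F65183 : act 5 n16488 = n15888 := d22_2 (iv F62886) D16488 (iv D15888)
theorem F65184 : act 6 n16488 = n16246 := d23_2 (iv F62887) D16488 (iv D16246)
theorem F65185 : act 7 n16488 = n15889 := d24_2 D15886 D16488 (iv D15889) (iv D15200) (iv F60104)
def n16489 : Q := act 3 n15887
theorem D16489 : act 3 n15887 = n16489 := rfl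
theorem F65186 : act 0 n16489 = n16476 := d2_1 D16489 F65128 F65017
theorem F65187 : act 1 n16489 = n16489 := d9_1 D16489 (iv D16489) F62888
theorem F65188 : act 4 n16489 = n16467 := d21_2 (iv F62889) D16489 (iv D16467) F62710 F62024
theorem F65189 : act 7 n16489 = n16489 := d24_2 D15887 D16489 (iv D16489) (iv D15887) F60108
theorem F65190 : act 8 n16489 = n15888 := d25_2 (iv F62890) D16489 (iv D15888)
def n16490 : Q := act 2 n15888
theorem D16490 : act 2 n15888 = n16490 := rfl
theorem F65191 : act 0 n16490 = n16478 := d1_1 D16490 F65136 (iv F62891)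
theorem F65192 : act 4 n16490 = n16468 := d16_2 (iv F62893) D16490 (iv D16468)
theorem F65193 : act 7 n16490 = n15890 := d19_2 (iv F62894) D16490 (iv D15890)
def n16491 : Q := act 2 n15889
theorem D16491 : act 2 n15889 = n16491 := rfl
theorem F65194 : act 0 n16491 = n16480 := d1_1 D16491 F65143 (iv F62895)
theorem F65195 : act 3 n16491 = n15891 := d15_2 D15889 D16491 (iv D15891) (iv D15202) (iv F60114)
theorem F65196 : act 5 n16491 = n15890 := d17_2 (iv F62897) D16491 (iv D15890)
theorem F65197 : act 6 n16491 = n16482 := d18_2 (iv F62898) D16491 (iv D16482)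
theorem F65198 : act 8 n16491 = n16491 := d20_2 F62899 D16491 (iv D16491)
def n16492 : Q := act 4 n15889
theorem D16492 : act 4 n15889 = n16492 := rfl
theorem F65199 : act 0 n16492 = n15898 := d3_1 D16492 F62932 (iv F62895)
theorem F65200 : act 1 n16492 = n16492 := d10_1 D16492 (iv D16492) F62896
theorem F65201 : act 3 n16492 = n16492 := d21_1 D16492 (iv D16492) (iv D15889) F60115 D15889
theorem F65202 : act 5 n16492 = n15899 := d26_2 (iv F62897) D16492 F62938 F62726 (iv F60121)
theorem F65203 : act 6 n16492 = n16483 := d27_2 (iv F62898) D16492 (iv D16483)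
theorem F65204 : act 8 n16492 = n16492 := d29_2 F62899 D16492 (iv D16492)
def n16493 : Q := act 1 n15890
theorem D16493 : act 1 n15890 = n16493 := rfl
theorem F65205 : act 2 n16493 = n16493 := d8_2 D15890 D16493 (iv D16493) (iv D15890) F60120
theorem F65206 : act 3 n16493 = n15893 := d9_2 (iv F62901) D16493 (iv D15893)
theorem F65207 : act 4 n16493 = n16471 := d10_2 (iv F62902) D16493 (iv D16471)
theorem F65208 : act 8 n16493 = n16493 := d14_2 F62903 D16493 (iv D16493)
def n16494 : Q := act 1 n15891
theorem D16494 : act 1 n15891 = n16494 := rfl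
theorem F65209 : act 2 n16494 = n15898 := d8_2 D15891 D16494 (iv D15898) (iv D15212) (iv F60123)
theorem F65210 : act 5 n16494 = n15893 := d11_2 (iv F62904) D16494 (iv D15893)
theorem F65211 : act 8 n16494 = n16494 := d14_2 F62905 D16494 (iv D16494)
theorem F65212 : act 4 n16480 = n16494 := d26_5 F65210 F62911 F62763 D15863 D16480
def n16495 : Q := act 4 n15891
theorem D16495 : act 4 n15891 = n16495 := rfl
theorem F65213 : act 1 n16495 = n16480 := d10_1 D16495 F65212 (iv D16494)
theorem F65214 : act 2 n16495 = n15892 := d16_1 D16495 (iv D15892) D15891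
theorem F65215 : act 5 n16495 = n16479 := d26_2 (iv F62904) D16495 (iv D16479) (iv F62864) F62863
theorem F65216 : act 6 n16495 = n16494 := d27_2 F65144 D16495 (iv F65212)
theorem F65217 : act 8 n16495 = n16495 := d29_2 F62905 D16495 (iv D16495)
def n16496 : Q := act 0 n15893
theorem D16496 : act 0 n15893 = n16496 := rfl
theorem F65218 : act 2 n16496 = n15899 := d1_2 (iv F62910) D16496 (iv D15899)
theorem F65219 : act 4 n16496 = n16470 := d3_2 (iv F62911) D16496 F65101
theorem F65220 : act 8 n16496 = n16496 := d7_2 F62912 D16496 (iv D16496)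
def n16497 : Q := act 3 n15894
theorem D16497 : act 3 n15894 = n16497 := rfl
theorem F65221 : act 1 n16497 = n16497 := d9_1 D16497 (iv D16497) F62913
theorem F65222 : act 6 n16497 = n16195 := d23_2 (iv F62915) D16497 (iv D16195)
theorem F65223 : act 7 n16497 = n16497 := d24_2 D15894 D16497 (iv D16497) (iv D15894) F60128
theorem F65224 : act 8 n16497 = n16194 := d25_2 (iv F62916) D16497 (iv D16194)
def n16498 : Q := act 0 n15897
theorem D16498 : act 0 n15897 = n16498 := rfl
theorem F65225 : act 1 n16498 = n16498 := d0_2 D15897 D16498 (iv D16498) (iv D15897) F60152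
theorem F65226 : act 3 n16498 = n16498 := d2_2 F62926 D16498 (iv D16498)
theorem F65227 : act 4 n16498 = n16469 := d3_2 (iv F62927) D16498 F65096
theorem F65228 : act 5 n16498 = n16017 := d4_2 (iv F62928) D16498 F63310
theorem F65229 : act 6 n16498 = n15899 := d5_2 (iv F62929) D16498 (iv D15899)
theorem F65230 : act 8 n16498 = n16498 := d7_2 F62930 D16498 (iv D16498)
def n16499 : Q := act 7 n15900
theorem D16499 : act 7 n15900 = n16499 := rfl
theorem F65231 : act 1 n16499 = n15904 := d13_1 D16499 (iv D15904) (iv F62940)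
theorem F65232 : act 2 n16499 = n16499 := d19_1 D16499 (iv D16499) F62941
theorem F65233 : act 4 n16499 = n15901 := d28_1 D16499 (iv D15901) (iv F62942)
theorem F65234 : act 8 n16499 = n16239 := d35_2 D15900 D16499 (iv D16239) (iv D15599) (iv F60180)
def n16500 : Q := act 3 n15901
theorem D16500 : act 3 n15901 = n16500 := rfl
theorem F65235 : act 1 n16500 = n15905 := d9_1 D16500 (iv D15905) (iv F62943)
theorem F65236 : act 7 n16500 = n15908 := d24_2 D15901 D16500 (iv D15908) (iv D15224) (iv F60183)
theorem F65237 : act 8 n16500 = n16240 := d25_2 (iv F62945) D16500 (iv D16240)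
def n16501 : Q := act 7 n15902
theorem D16501 : act 7 n15902 = n16501 := rfl
theorem F65238 : act 0 n16501 = n15953 := d6_1 D16501 (iv D15953) (iv F62946)
theorem F65239 : act 2 n16501 = n16501 := d19_1 D16501 (iv D16501) F62947
theorem F65240 : act 4 n16501 = n15910 := d28_1 D16501 (iv D15910) (iv F62949)
theorem F65241 : act 5 n16501 = n16499 := d31_1 D16501 (iv D16499) (iv F62950)
def n16502 : Q := act 7 n15903
theorem D16502 : act 7 n15903 = n16502 := rfl
theorem F65242 : act 0 n16502 = n15955 := d6_1 D16502 (iv D15955) (iv F62951)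
theorem F65243 : act 1 n16502 = n16501 := d13_1 D16502 (iv D16501) (iv F62952)
theorem F65244 : act 2 n16502 = n15906 := d19_1 D16502 (iv D15906) (iv F62953)
theorem F65245 : act 4 n16502 = n16143 := d28_1 D16502 (iv D16143) (iv F62955)
theorem F65246 : act 5 n16502 = n15904 := d31_1 D16502 (iv D15904) (iv F62956)
theorem F65247 : act 8 n16502 = n16243 := d35_2 D15903 D16502 (iv D16243) (iv D15603) (iv F60193)
def n16503 : Q := act 3 n15904
theorem D16503 : act 3 n15904 = n16503 := rfl
theorem F65248 : act 0 n16503 = n15956 := d2_1 D16503 (iv D15956) (iv F62957)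
theorem F65249 : act 8 n16503 = n16244 := d25_2 (iv F62960) D16503 (iv D16244)
def n16504 : Q := act 4 n15905
theorem D16504 : act 4 n15905 = n16504 := rfl
theorem F65250 : act 0 n16504 = n15957 := d3_1 D16504 (iv D15957) (iv F62961)
theorem F65251 : act 7 n16504 = n15912 := d28_2 (iv F62962) D16504 (iv D15912)
theorem F65252 : act 8 n16504 = n16245 := d29_2 (iv F62963) D16504 (iv D16245)
def n16505 : Q := act 3 n15906
theorem D16505 : act 3 n15906 = n16505 := rfl
theorem F65253 : act 0 n16505 = n15959 := d2_1 D16505 (iv D15959) (iv F62964)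
theorem F65254 : act 1 n16505 = n16505 := d9_1 D16505 (iv D16505) F62965
theorem F65255 : act 5 n16505 = n15907 := d22_2 (iv F62967) D16505 (iv D15907)
theorem F65256 : act 7 n16505 = n16505 := d24_2 D15906 D16505 (iv D16505) (iv D15906) F60202
theorem F65257 : act 8 n16505 = n16246 := d25_2 (iv F62968) D16505 (iv D16246)
def n16506 : Q := act 2 n15907
theorem D16506 : act 2 n15907 = n16506 := rfl
theorem F65258 : act 0 n16506 = n15960 := d1_1 D16506 (iv D15960) (iv F62969)
theorem F65259 : act 7 n16506 = n16506 := d19_2 F62971 D16506 (iv D16506)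
theorem F65260 : act 8 n16506 = n16247 := d20_2 (iv F62972) D16506 (iv D16247)
def n16507 : Q := act 2 n15908
theorem D16507 : act 2 n15908 = n16507 := rfl
theorem F65261 : act 3 n16507 = n15942 := d15_2 D15908 D16507 (iv D15942) (iv D15256) (iv F60210)
theorem F65262 : act 8 n16507 = n15917 := d20_2 (iv F62974) D16507 (iv D15917)
def n16508 : Q := act 4 n15908
theorem D16508 : act 4 n15908 = n16508 := rfl
theorem F65263 : act 1 n16508 = n15912 := d10_1 D16508 (iv D15912) (iv F62973)
theorem F65264 : act 8 n16508 = n15918 := d29_2 (iv F62974) D16508 (iv D15918)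
def n16509 : Q := act 7 n15909
theorem D16509 : act 7 n15909 = n16509 := rfl
theorem F65265 : act 0 n16509 = n15964 := d6_1 D16509 (iv D15964) (iv F62975)
theorem F65266 : act 2 n16509 = n16509 := d19_1 D16509 (iv D16509) F62976
theorem F65267 : act 8 n16509 = n15910 := d35_2 D15909 D16509 (iv D15910) (iv D15226) D15225
def n16510 : Q := act 3 n15910
theorem D16510 : act 3 n15910 = n16510 := rfl
theorem F65268 : act 0 n16510 = n15965 := d2_1 D16510 (iv D15965) (iv F62978)
theorem F65269 : act 7 n16510 = n15911 := d24_2 D15910 D16510 (iv D15911) (iv D15227) (iv F60217)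
def n16511 : Q := act 2 n15911
theorem D16511 : act 2 n15911 = n16511 := rfl
theorem F65270 : act 0 n16511 = n15967 := d1_1 D16511 (iv D15967) (iv F62980)
theorem F65271 : act 3 n16511 = n15913 := d15_2 D15911 D16511 (iv D15913) (iv D15229) (iv F60219)
theorem F65272 : act 8 n16511 = n15925 := d20_2 (iv F62981) D16511 (iv D15925)
def n16512 : Q := act 4 n15911
theorem D16512 : act 4 n15911 = n16512 := rfl
theorem F65273 : act 0 n16512 = n15968 := d3_1 D16512 (iv D15968) (iv F62980)
theorem F65274 : act 3 n16512 = n15912 := d21_1 D16512 (iv D15912) (iv D15228) (iv F60220) D15911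
theorem F65275 : act 8 n16512 = n15926 := d29_2 (iv F62981) D16512 (iv D15926)
def n16513 : Q := act 5 n15912
theorem D16513 : act 5 n15912 = n16513 := rfl
theorem F65276 : act 0 n16513 = n15969 := d4_1 D16513 (iv D15969) (iv F62982)
theorem F65277 : act 8 n16513 = n15927 := d32_2 (iv F62983) D16513 (iv D15927)
def n16514 : Q := act 1 n15913
theorem D16514 : act 1 n15913 = n16514 := rfl
theorem F65278 : act 2 n16514 = n15944 := d8_2 D15913 D16514 (iv D15944) (iv D15258) (iv F60225)
theorem F65279 : act 7 n16514 = n16514 := d13_2 F62985 D16514 (iv D16514)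
theorem F65280 : act 8 n16514 = n15929 := d14_2 (iv F62986) D16514 (iv D15929)
def n16515 : Q := act 7 n15914
theorem D16515 : act 7 n15914 = n16515 := rfl
theorem F65281 : act 1 n16515 = n15922 := d13_1 D16515 (iv D15922) (iv F62987)
theorem F65282 : act 2 n16515 = n16515 := d19_1 D16515 (iv D16515) F62988
theorem F65283 : act 4 n16515 = n16286 := d28_1 D16515 (iv D16286) (iv F62989)
theorem F65284 : act 8 n16515 = n15915 := d35_2 D15914 D16515 (iv D15915) (iv D15231) D15230
def n16516 : Q := act 3 n15915
theorem D16516 : act 3 n15915 = n16516 := rfl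
theorem F65285 : act 1 n16516 = n15923 := d9_1 D16516 (iv D15923) (iv F62990)
theorem F65286 : act 7 n16516 = n15916 := d24_2 D15915 D16516 (iv D15916) (iv D15232) (iv F60233)
def n16517 : Q := act 2 n15916
theorem D16517 : act 2 n15916 = n16517 := rfl
theorem F65287 : act 3 n16517 = n15945 := d15_2 D15916 D16517 (iv D15945) (iv D15259) (iv F60236)
def n16518 : Q := act 4 n15916
theorem D16518 : act 4 n15916 = n16518 := rfl
theorem F65288 : act 1 n16518 = n15926 := d10_1 D16518 (iv D15926) (iv F62993)
theorem F65289 : act 3 n16518 = n15918 := d21_1 D16518 (iv D15918) (iv D15233) (iv F60237) D15916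
def n16519 : Q := act 4 n15917
theorem D16519 : act 4 n15917 = n16519 := rfl
theorem F65290 : act 2 n16519 = n15918 := d16_1 D16519 (iv D15918) D15917
theorem F65291 : act 7 n16519 = n16291 := d28_2 (iv F62995) D16519 (iv D16291)
def n16520 : Q := act 5 n15918
theorem D16520 : act 5 n15918 = n16520 := rfl
theorem F65292 : act 1 n16520 = n15927 := d11_1 D16520 (iv D15927) (iv F62996)
theorem F65293 : act 7 n16520 = n16292 := d31_2 (iv F62997) D16520 (iv D16292)
def n16521 : Q := act 7 n15919
theorem D16521 : act 7 n15919 = n16521 := rfl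
theorem F65294 : act 0 n16521 = n15971 := d6_1 D16521 (iv D15971) (iv F62998)
theorem F65295 : act 2 n16521 = n15930 := d19_1 D16521 (iv D15930) (iv F62999)
theorem F65296 : act 4 n16521 = n15921 := d28_1 D16521 (iv D15921) (iv F63001)
theorem F65297 : act 5 n16521 = n16293 := d31_1 D16521 (iv D16293) (iv F63002)
def n16522 : Q := act 7 n15920
theorem D16522 : act 7 n15920 = n16522 := rfl
theorem F65298 : act 0 n16522 = n15973 := d6_1 D16522 (iv D15973) (iv F63003)
theorem F65299 : act 2 n16522 = n15932 := d19_1 D16522 (iv D15932) (iv F63004)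
theorem F65300 : act 5 n16522 = n15922 := d31_1 D16522 (iv D15922) (iv F63005)
theorem F65301 : act 8 n16522 = n15921 := d35_2 D15920 D16522 (iv D15921) (iv D15236) D15235
def n16523 : Q := act 3 n15921
theorem D16523 : act 3 n15921 = n16523 := rfl
theorem F65302 : act 0 n16523 = n15974 := d2_1 D16523 (iv D15974) (iv F63006)
theorem F65303 : act 5 n16523 = n15923 := d22_2 (iv F63008) D16523 (iv D15923)
theorem F65304 : act 7 n16523 = n15924 := d24_2 D15921 D16523 (iv D15924) (iv D15239) (iv F60248)
def n16524 : Q := act 3 n15922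
theorem D16524 : act 3 n15922 = n16524 := rfl
theorem F65305 : act 0 n16524 = n15975 := d2_1 D16524 (iv D15975) (iv F63009)
theorem F65306 : act 8 n16524 = n15923 := d25_2 (iv F63012) D16524 (iv D15923)
def n16525 : Q := act 2 n15923
theorem D16525 : act 2 n15923 = n16525 := rfl
theorem F65307 : act 0 n16525 = n15976 := d1_1 D16525 (iv D15976) (iv F63013)
theorem F65308 : act 3 n16525 = n15935 := d15_2 D15923 D16525 (iv D15935) (iv D15249) (iv F60254)
theorem F65309 : act 7 n16525 = n15925 := d19_2 (iv F63014) D16525 (iv D15925)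
def n16526 : Q := act 4 n15923
theorem D16526 : act 4 n15923 = n16526 := rfl
theorem F65310 : act 0 n16526 = n15977 := d3_1 D16526 (iv D15977) (iv F63013)
theorem F65311 : act 3 n16526 = n16299 := d21_1 D16526 (iv D16299) (iv D15654) (iv F60255) D15923
theorem F65312 : act 7 n16526 = n15926 := d28_2 (iv F63014) D16526 (iv D15926)
def n16527 : Q := act 2 n15924
theorem D16527 : act 2 n15924 = n16527 := rfl
theorem F65313 : act 0 n16527 = n15979 := d1_1 D16527 (iv D15979) (iv F63015)
theorem F65314 : act 3 n16527 = n15928 := d15_2 D15924 D16527 (iv D15928) (iv D15242) (iv F60257)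
theorem F65315 : act 5 n16527 = n15925 := d17_2 (iv F63016) D16527 (iv D15925)
def n16528 : Q := act 4 n15924
theorem D16528 : act 4 n15924 = n16528 := rfl
theorem F65316 : act 0 n16528 = n15980 := d3_1 D16528 (iv D15980) (iv F63015)
def n16529 : Q := act 1 n15925
theorem D16529 : act 1 n15925 = n16529 := rfl
theorem F65317 : act 3 n16529 = n15929 := d9_2 (iv F63018) D16529 (iv D15929)
def n16530 : Q := act 4 n15925
theorem D16530 : act 4 n15925 = n16530 := rfl
theorem F65318 : act 0 n16530 = n15982 := d3_1 D16530 (iv D15982) (iv F63017)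
theorem F65319 : act 2 n16530 = n15926 := d16_1 D16530 (iv D15926) D15925
def n16531 : Q := act 5 n15926
theorem D16531 : act 5 n15926 = n16531 := rfl
theorem F65320 : act 0 n16531 = n15983 := d4_1 D16531 (iv D15983) (iv F63019)
theorem F65321 : act 3 n16531 = n15927 := d22_1 D16531 (iv D15927) (iv F63020)
def n16532 : Q := act 6 n15927
theorem D16532 : act 6 n15927 = n16532 := rfl
theorem F65322 : act 0 n16532 = n15984 := d5_1 D16532 (iv D15984) (iv F63021)
theorem F65323 : act 7 n16532 = n16305 := d33_2 (iv F63022) D16532 (iv D16305)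
def n16533 : Q := act 0 n15929
theorem D16533 : act 0 n15929 = n16533 := rfl
theorem F65324 : act 1 n16533 = n15988 := d0_2 D15929 D16533 (iv D15988) (iv D15302) (iv F60266)
theorem F65325 : act 2 n16533 = n15948 := d1_2 (iv F63026) D16533 F63093
theorem F65326 : act 5 n16533 = n15947 := d4_2 F64596 D16533 (iv F64593)
theorem F65327 : act 7 n16533 = n15941 := d6_2 (iv F63027) D16533 (iv D15941)
def n16534 : Q := act 3 n15931
theorem D16534 : act 3 n15931 = n16534 := rfl
theorem F65328 : act 0 n16534 = n15990 := d2_1 D16534 (iv D15990) (iv F63033)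
theorem F65329 : act 1 n16534 = n16534 := d9_1 D16534 (iv D16534) F63034
theorem F65330 : act 4 n16534 = n16194 := d21_2 F64546 D16534 (iv D16194) (iv F62922) (iv F64545)
theorem F65331 : act 6 n16534 = n15933 := d23_2 (iv F63035) D16534 (iv D15933)
theorem F65332 : act 7 n16534 = n15937 := d24_2 D15931 D16534 (iv D15937) (iv D15250) (iv F60275)
def n16535 : Q := act 3 n15932
theorem D16535 : act 3 n15932 = n16535 := rfl
theorem F65333 : act 0 n16535 = n15991 := d2_1 D16535 (iv D15991) (iv F63036)
theorem F65334 : act 1 n16535 = n16535 := d9_1 D16535 (iv D16535) F63037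
theorem F65335 : act 4 n16535 = n16195 := d21_2 F64539 D16535 (iv D16195) (iv F62918) (iv F64538)
theorem F65336 : act 5 n16535 = n15934 := d22_2 (iv F63038) D16535 (iv D15934)
theorem F65337 : act 7 n16535 = n16535 := d24_2 D15932 D16535 (iv D16535) (iv D15932) F60279
theorem F65338 : act 8 n16535 = n15933 := d25_2 (iv F63039) D16535 (iv D15933)
def n16536 : Q := act 2 n15933
theorem D16536 : act 2 n15933 = n16536 := rfl
theorem F65339 : act 0 n16536 = n15992 := d1_1 D16536 (iv D15992) (iv F63040)
theorem F65340 : act 4 n16536 = n16196 := d16_2 (iv F63042) D16536 (iv D16196)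
theorem F65341 : act 5 n16536 = n15935 := d17_2 (iv F63043) D16536 (iv D15935)
theorem F65342 : act 7 n16536 = n15938 := d19_2 (iv F63044) D16536 (iv D15938)
def n16537 : Q := act 2 n15934
theorem D16537 : act 2 n15934 = n16537 := rfl
theorem F65343 : act 0 n16537 = n15994 := d1_1 D16537 (iv D15994) (iv F63045)
theorem F65344 : act 7 n16537 = n16537 := d19_2 F63047 D16537 (iv D16537)
theorem F65345 : act 8 n16537 = n15935 := d20_2 (iv F63048) D16537 (iv D15935)
def n16538 : Q := act 4 n15934
theorem D16538 : act 4 n15934 = n16538 := rfl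
theorem F65346 : act 0 n16538 = n15995 := d3_1 D16538 (iv D15995) (iv F63045)
theorem F65347 : act 1 n16538 = n16538 := d10_1 D16538 (iv D16538) F63046
theorem F65348 : act 3 n16538 = n16312 := d21_1 D16538 (iv D16312) (iv D15670) (iv F60286) D15934
theorem F65349 : act 5 n16538 = n16198 := d26_2 F65336 D16538 (iv D16198) (iv F64085) (iv F65335)
theorem F65350 : act 6 n16538 = n16489 := d27_2 F65090 D16538 F65188
theorem F65351 : act 7 n16538 = n16538 := d28_2 F63047 D16538 (iv D16538)
theorem F65352 : act 8 n16538 = n15936 := d29_2 (iv F63048) D16538 (iv D15936)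
def n16539 : Q := act 1 n15935
theorem D16539 : act 1 n15935 = n16539 := rfl
theorem F65353 : act 2 n16539 = n16539 := d8_2 D15935 D16539 (iv D16539) (iv D15935) F60289
theorem F65354 : act 7 n16539 = n15939 := d13_2 (iv F63050) D16539 (iv D15939)
def n16540 : Q := act 4 n15935
theorem D16540 : act 4 n15935 = n16540 := rfl
theorem F65355 : act 0 n16540 = n15997 := d3_1 D16540 (iv D15997) (iv F63049)
theorem F65356 : act 2 n16540 = n15936 := d16_1 D16540 (iv D15936) D15935
theorem F65357 : act 5 n16540 = n16200 := d26_2 F65341 D16540 (iv D16200) (iv F64088) (iv F65340)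
theorem F65358 : act 6 n16540 = n16490 := d27_2 F65094 D16540 F65192
theorem F65359 : act 7 n16540 = n15940 := d28_2 (iv F63050) D16540 (iv D15940)
def n16541 : Q := act 0 n15939
theorem D16541 : act 0 n15939 = n16541 := rfl
theorem F65360 : act 1 n16541 = n16001 := d0_2 D15939 D16541 (iv D16001) (iv D15313) (iv F60302)
theorem F65361 : act 2 n16541 = n16541 := d1_2 F63067 D16541 (iv D16541)
theorem F65362 : act 3 n16541 = n15941 := d2_2 (iv F63068) D16541 (iv D15941)
theorem F65363 : act 5 n16541 = n15950 := d4_2 F64611 D16541 (iv F64607)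
theorem F65364 : act 8 n16541 = n16541 := d7_2 F63069 D16541 (iv D16541)
def n16542 : Q := act 4 n15939
theorem D16542 : act 4 n15939 = n16542 := rfl
theorem F65365 : act 1 n16542 = n15940 := d10_1 D16542 (iv D15940) D15939
theorem F65366 : act 2 n16542 = n16542 := d16_1 D16542 (iv D16542) F63067
theorem F65367 : act 3 n16542 = n16485 := d21_1 D16542 F65165 F63616 F60879 (iv F63068)
theorem F65368 : act 5 n16542 = n16203 := d26_2 F64611 D16542 (iv D16203) (iv F64104) (iv F64610)
theorem F65369 : act 6 n16542 = n16493 := d27_2 F65107 D16542 F65207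
theorem F65370 : act 8 n16542 = n16542 := d29_2 F63069 D16542 (iv D16542)
def n16543 : Q := act 4 n15942
theorem D16543 : act 4 n15942 = n16543 := rfl
theorem F65371 : act 2 n16543 = n15943 := d16_1 D16543 (iv D15943) D15942
theorem F65372 : act 7 n16543 = n16543 := d28_2 F63080 D16543 (iv D16543)
theorem F65373 : act 8 n16543 = n15947 := d29_2 (iv F63081) D16543 (iv D15947)
def n16544 : Q := act 1 n15945
theorem D16544 : act 1 n15945 = n16544 := rfl
theorem F65374 : act 2 n16544 = n15949 := d8_2 D15945 D16544 (iv D15949) (iv D15262) (iv F60325)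
theorem F65375 : act 7 n16544 = n16544 := d13_2 F63087 D16544 (iv D16544)
def n16545 : Q := act 4 n15945
theorem D16545 : act 4 n15945 = n16545 := rfl
theorem F65376 : act 2 n16545 = n15946 := d16_1 D16545 (iv D15946) D15945
theorem F65377 : act 7 n16545 = n16545 := d28_2 F63087 D16545 (iv D16545)
def n16546 : Q := act 3 n15947
theorem D16546 : act 3 n15947 = n16546 := rfl
def n16547 : Q := act 7 n15950
theorem D16547 : act 7 n15950 = n16547 := rfl
theorem F65378 : act 2 n16547 = n16547 := d19_1 D16547 (iv D16547) F63098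
theorem F65379 : act 4 n16547 = n16322 := d28_1 D16547 (iv D16322) (iv F63099)
def n16548 : Q := act 7 n15951
theorem D16548 : act 7 n15951 = n16548 := rfl
theorem F65380 : act 0 n16548 = n16499 := d6_1 D16548 (iv D16499) (iv F63101)
theorem F65381 : act 1 n16548 = n16234 := d13_1 D16548 (iv D16234) (iv F63102)
theorem F65382 : act 2 n16548 = n16548 := d19_1 D16548 (iv D16548) F63103
theorem F65383 : act 4 n16548 = n16233 := d28_1 D16548 (iv D16233) (iv F63105)
theorem F65384 : act 5 n16548 = n15953 := d31_1 D16548 (iv D15953) (iv F63106)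
theorem F65385 : act 6 n16548 = n16239 := d33_1 D16548 (iv D16239) (iv F63107)
def n16549 : Q := act 7 n15952
theorem D16549 : act 7 n15952 = n16549 := rfl
theorem F65386 : act 2 n16549 = n16549 := d19_1 D16549 (iv D16549) F63108
theorem F65387 : act 4 n16549 = n15964 := d28_1 D16549 (iv D15964) (iv F63110)
theorem F65388 : act 8 n16549 = n15953 := d35_2 D15952 D16549 (iv D15953) (iv D15270) D15269
def n16550 : Q := act 3 n15953
theorem D16550 : act 3 n15953 = n16550 := rfl
theorem F65389 : act 7 n16550 = n15956 := d24_2 D15953 D16550 (iv D15956) (iv D15273) (iv F60356)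
def n16551 : Q := act 7 n15954
theorem D16551 : act 7 n15954 = n16551 := rfl
theorem F65390 : act 1 n16551 = n16242 := d13_1 D16551 (iv D16242) (iv F63113)
theorem F65391 : act 2 n16551 = n15958 := d19_1 D16551 (iv D15958) (iv F63114)
theorem F65392 : act 4 n16551 = n16252 := d28_1 D16551 (iv D16252) (iv F63116)
theorem F65393 : act 6 n16551 = n15955 := d33_1 D16551 (iv D15955) (iv F63117)
theorem F65394 : act 8 n16551 = n16364 := d35_2 D15954 D16551 (iv D16364) (iv D15732) (iv F60362)
def n16552 : Q := act 3 n15955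
theorem D16552 : act 3 n15955 = n16552 := rfl
theorem F65395 : act 1 n16552 = n16452 := d9_1 D16552 (iv D16452) (iv F63118)
theorem F65396 : act 5 n16552 = n15956 := d22_2 (iv F63121) D16552 (iv D15956)
theorem F65397 : act 8 n16552 = n16365 := d25_2 (iv F63122) D16552 (iv D16365)
def n16553 : Q := act 2 n15956
theorem D16553 : act 2 n15956 = n16553 := rfl
theorem F65398 : act 3 n16553 = n15960 := d15_2 D15956 D16553 (iv D15960) (iv D15277) (iv F60367)
theorem F65399 : act 8 n16553 = n16366 := d20_2 (iv F63123) D16553 (iv D16366)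
def n16554 : Q := act 4 n15956
theorem D16554 : act 4 n15956 = n16554 := rfl
theorem F65400 : act 3 n16554 = n15957 := d21_1 D16554 (iv D15957) (iv D15274) (iv F60368) D15956
theorem F65401 : act 8 n16554 = n16367 := d29_2 (iv F63123) D16554 (iv D16367)
def n16555 : Q := act 5 n15957
theorem D16555 : act 5 n15957 = n16555 := rfl
theorem F65402 : act 7 n16555 = n15969 := d31_2 (iv F63124) D16555 (iv D15969)
theorem F65403 : act 8 n16555 = n16368 := d32_2 (iv F63125) D16555 (iv D16368)
def n16556 : Q := act 3 n15958
theorem D16556 : act 3 n15958 = n16556 := rfl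
theorem F65404 : act 1 n16556 = n16006 := d9_1 D16556 (iv D16006) (iv F63126)
theorem F65405 : act 5 n16556 = n16476 := d22_2 F65019 D16556 F65128
theorem F65406 : act 6 n16556 = n15959 := d23_2 (iv F63128) D16556 (iv D15959)
theorem F65407 : act 7 n16556 = n16556 := d24_2 D15958 D16556 (iv D16556) (iv D15958) F60373
theorem F65408 : act 8 n16556 = n16369 := d25_2 (iv F63129) D16556 (iv D16369)
def n16557 : Q := act 2 n15959
theorem D16557 : act 2 n15959 = n16557 := rfl
theorem F65409 : act 5 n16557 = n15960 := d17_2 (iv F63131) D16557 (iv D15960)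
theorem F65410 : act 7 n16557 = n16557 := d19_2 F63132 D16557 (iv D16557)
theorem F65411 : act 8 n16557 = n16370 := d20_2 (iv F63133) D16557 (iv D16370)
def n16558 : Q := act 4 n15959
theorem D16558 : act 4 n15959 = n16558 := rfl
theorem F65412 : act 1 n16558 = n16008 := d10_1 D16558 (iv D16008) (iv F63130)
theorem F65413 : act 3 n16558 = n16481 := d21_1 D16558 (iv D16481) F62793 (iv F60377) D15959
theorem F65414 : act 7 n16558 = n16558 := d28_2 F63132 D16558 (iv D16558)
theorem F65415 : act 8 n16558 = n16371 := d29_2 (iv F63133) D16558 (iv D16371)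
def n16559 : Q := act 1 n15960
theorem D16559 : act 1 n15960 = n16559 := rfl
theorem F65416 : act 2 n16559 = n16009 := d8_2 D15960 D16559 (iv D16009) (iv D15325) (iv F60380)
theorem F65417 : act 7 n16559 = n16559 := d13_2 F63134 D16559 (iv D16559)
theorem F65418 : act 8 n16559 = n16372 := d14_2 (iv F63135) D16559 (iv D16372)
def n16560 : Q := act 7 n15961
theorem D16560 : act 7 n15961 = n16560 := rfl
theorem F65419 : act 0 n16560 = n16134 := d6_1 D16560 (iv D16134) (iv F63136)
theorem F65420 : act 1 n16560 = n16232 := d13_1 D16560 (iv D16232) (iv F63137)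
theorem F65421 : act 2 n16560 = n16560 := d19_1 D16560 (iv D16560) F63138
theorem F65422 : act 4 n16560 = n15963 := d28_1 D16560 (iv D15963) (iv F63140)
theorem F65423 : act 5 n16560 = n16233 := d31_1 D16560 (iv D16233) (iv F63141)
theorem F65424 : act 6 n16560 = n16264 := d33_1 D16560 (iv D16264) (iv F63142)
def n16561 : Q := act 7 n15962
theorem D16561 : act 7 n15962 = n16561 := rfl
theorem F65425 : act 2 n16561 = n16561 := d19_1 D16561 (iv D16561) F63143
theorem F65426 : act 5 n16561 = n15964 := d31_1 D16561 (iv D15964) (iv F63145)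
theorem F65427 : act 8 n16561 = n15963 := d35_2 D15962 D16561 (iv D15963) (iv D15280) D15279
def n16562 : Q := act 3 n15963
theorem D16562 : act 3 n15963 = n16562 := rfl
theorem F65428 : act 5 n16562 = n15965 := d22_2 (iv F63147) D16562 (iv D15965)
theorem F65429 : act 7 n16562 = n15966 := d24_2 D15963 D16562 (iv D15966) (iv D15283) (iv F60393)
def n16563 : Q := act 3 n15964
theorem D16563 : act 3 n15964 = n16563 := rfl
theorem F65430 : act 7 n16563 = n15975 := d24_2 D15964 D16563 (iv D15975) (iv D15292) (iv F60396)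
theorem F65431 : act 8 n16563 = n15965 := d25_2 (iv F63149) D16563 (iv D15965)
def n16564 : Q := act 2 n15965
theorem D16564 : act 2 n15965 = n16564 := rfl
theorem F65432 : act 3 n16564 = n16564 := d15_2 D15965 D16564 (iv D16564) (iv D15965) F60397
theorem F65433 : act 7 n16564 = n15967 := d19_2 (iv F63150) D16564 (iv D15967)
def n16565 : Q := act 4 n15965
theorem D16565 : act 4 n15965 = n16565 := rfl
theorem F65434 : act 7 n16565 = n15968 := d28_2 (iv F63150) D16565 (iv D15968)
def n16566 : Q := act 2 n15966
theorem D16566 : act 2 n15966 = n16566 := rfl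
theorem F65435 : act 3 n16566 = n15970 := d15_2 D15966 D16566 (iv D15970) (iv D15286) (iv F60398)
theorem F65436 : act 5 n16566 = n15967 := d17_2 (iv F63151) D16566 (iv D15967)
theorem F65437 : act 8 n16566 = n15979 := d20_2 (iv F63152) D16566 (iv D15979)
def n16567 : Q := act 4 n15966
theorem D16567 : act 4 n15966 = n16567 := rfl
theorem F65438 : act 8 n16567 = n15980 := d29_2 (iv F63152) D16567 (iv D15980)
def n16568 : Q := act 4 n15967
theorem D16568 : act 4 n15967 = n16568 := rfl
theorem F65439 : act 2 n16568 = n15968 := d16_1 D16568 (iv D15968) D15967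
theorem F65440 : act 8 n16568 = n15982 := d29_2 (iv F63154) D16568 (iv D15982)
def n16569 : Q := act 5 n15968
theorem D16569 : act 5 n15968 = n16569 := rfl
theorem F65441 : act 3 n16569 = n15969 := d22_1 D16569 (iv D15969) (iv F63155)
theorem F65442 : act 8 n16569 = n15983 := d32_2 (iv F63156) D16569 (iv D15983)
def n16570 : Q := act 6 n15969
theorem D16570 : act 6 n15969 = n16570 := rfl
theorem F65443 : act 8 n16570 = n15984 := d34_2 (iv F63157) D16570 (iv D15984)
def n16571 : Q := act 3 n15971
theorem D16571 : act 3 n15971 = n16571 := rfl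
theorem F65444 : act 5 n16571 = n16430 := d22_2 (iv F63163) D16571 (iv D16430)
def n16572 : Q := act 3 n15972
theorem D16572 : act 3 n15972 = n16572 := rfl
theorem F65445 : act 6 n16572 = n15974 := d23_2 (iv F63165) D16572 (iv D15974)
theorem F65446 : act 7 n16572 = n15978 := d24_2 D15972 D16572 (iv D15978) (iv D15294) (iv F60413)
def n16573 : Q := act 3 n15973
theorem D16573 : act 3 n15973 = n16573 := rfl
theorem F65447 : act 5 n16573 = n15975 := d22_2 (iv F63167) D16573 (iv D15975)
theorem F65448 : act 8 n16573 = n15974 := d25_2 (iv F63168) D16573 (iv D15974)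
def n16574 : Q := act 2 n15974
theorem D16574 : act 2 n15974 = n16574 := rfl
theorem F65449 : act 3 n16574 = n15992 := d15_2 D15974 D16574 (iv D15992) (iv D15306) (iv F60417)
theorem F65450 : act 5 n16574 = n15976 := d17_2 (iv F63169) D16574 (iv D15976)
theorem F65451 : act 7 n16574 = n15979 := d19_2 (iv F63170) D16574 (iv D15979)
def n16575 : Q := act 4 n15974
theorem D16575 : act 4 n15974 = n16575 := rfl
theorem F65452 : act 7 n16575 = n15980 := d28_2 (iv F63170) D16575 (iv D15980)
def n16576 : Q := act 2 n15975
theorem D16576 : act 2 n15975 = n16576 := rfl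
theorem F65453 : act 3 n16576 = n15994 := d15_2 D15975 D16576 (iv D15994) (iv D15307) (iv F60419)
theorem F65454 : act 8 n16576 = n15976 := d20_2 (iv F63171) D16576 (iv D15976)
def n16577 : Q := act 4 n15975
theorem D16577 : act 4 n15975 = n16577 := rfl
theorem F65455 : act 3 n16577 = n16436 := d21_1 D16577 (iv D16436) (iv D15796) (iv F60420) D15975
theorem F65456 : act 8 n16577 = n15977 := d29_2 (iv F63171) D16577 (iv D15977)
def n16578 : Q := act 1 n15976
theorem D16578 : act 1 n15976 = n16578 := rfl
theorem F65457 : act 3 n16578 = n15996 := d9_2 (iv F63172) D16578 (iv D15996)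
theorem F65458 : act 7 n16578 = n15981 := d13_2 (iv F63173) D16578 (iv D15981)
def n16579 : Q := act 4 n15976
theorem D16579 : act 4 n15976 = n16579 := rfl
theorem F65459 : act 2 n16579 = n15977 := d16_1 D16579 (iv D15977) D15976
theorem F65460 : act 7 n16579 = n15982 := d28_2 (iv F63173) D16579 (iv D15982)
def n16580 : Q := act 5 n15977
theorem D16580 : act 5 n15977 = n16580 := rfl
theorem F65461 : act 3 n16580 = n16439 := d22_1 D16580 (iv D16439) (iv F63174)
theorem F65462 : act 7 n16580 = n15983 := d31_2 (iv F63175) D16580 (iv D15983)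
def n16581 : Q := act 2 n15978
theorem D16581 : act 2 n15978 = n16581 := rfl
theorem F65463 : act 3 n16581 = n15985 := d15_2 D15978 D16581 (iv D15985) (iv D15299) (iv F60423)
theorem F65464 : act 6 n16581 = n15979 := d18_2 (iv F63176) D16581 (iv D15979)
def n16582 : Q := act 4 n15978
theorem D16582 : act 4 n15978 = n16582 := rfl
theorem F65465 : act 6 n16582 = n15980 := d27_2 (iv F63176) D16582 (iv D15980)
def n16583 : Q := act 1 n15979
theorem D16583 : act 1 n15979 = n16583 := rfl
theorem F65466 : act 3 n16583 = n15986 := d9_2 (iv F63177) D16583 (iv D15986)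
theorem F65467 : act 5 n16583 = n15981 := d11_2 (iv F63178) D16583 (iv D15981)
def n16584 : Q := act 4 n15979
theorem D16584 : act 4 n15979 = n16584 := rfl
theorem F65468 : act 2 n16584 = n15980 := d16_1 D16584 (iv D15980) D15979
def n16585 : Q := act 5 n15980
theorem D16585 : act 5 n15980 = n16585 := rfl
theorem F65469 : act 4 n16585 = n15983 := d26_1 D16585 (iv D15983) (iv D15297) (iv F60425) D15980
def n16586 : Q := act 0 n15981
theorem D16586 : act 0 n15981 = n16586 := rfl
theorem F65470 : act 3 n16586 = n15988 := d2_2 (iv F63179) D16586 (iv D15988)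
def n16587 : Q := act 4 n15981
theorem D16587 : act 4 n15981 = n16587 := rfl
theorem F65471 : act 1 n16587 = n15982 := d10_1 D16587 (iv D15982) D15981
def n16588 : Q := act 5 n15982
theorem D16588 : act 5 n15982 = n16588 := rfl
theorem F65472 : act 2 n16588 = n15983 := d17_1 D16588 (iv D15983) (iv F63180)
def n16589 : Q := act 6 n15983
theorem D16589 : act 6 n15983 = n16589 := rfl
theorem F65473 : act 3 n16589 = n15984 := d23_1 D16589 (iv D15984) (iv F63181)
def n16590 : Q := act 3 n15987
theorem D16590 : act 3 n15987 = n16590 := rfl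
def n16591 : Q := act 2 n15989
theorem D16591 : act 2 n15989 = n16591 := rfl
theorem F65474 : act 0 n16591 = n16170 := d1_1 D16591 F64008 (iv F63192)
theorem F65475 : act 4 n16591 = n16065 := d16_2 F63196 D16591 F63563
theorem F65476 : act 5 n16591 = n16451 := d17_2 (iv F63194) D16591 (iv D16451)
theorem F65477 : act 7 n16591 = n16004 := d19_2 (iv F63195) D16591 (iv D16004)
def n16592 : Q := act 2 n15990
theorem D16592 : act 2 n15990 = n16592 := rfl
theorem F65478 : act 6 n16592 = n15992 := d18_2 (iv F63198) D16592 (iv D15992)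
theorem F65479 : act 7 n16592 = n15998 := d19_2 (iv F63199) D16592 (iv D15998)
def n16593 : Q := act 2 n15991
theorem D16593 : act 2 n15991 = n16593 := rfl
theorem F65480 : act 5 n16593 = n15994 := d17_2 (iv F63201) D16593 (iv D15994)
theorem F65481 : act 7 n16593 = n16593 := d19_2 F63202 D16593 (iv D16593)
theorem F65482 : act 8 n16593 = n15992 := d20_2 (iv F63203) D16593 (iv D15992)
def n16594 : Q := act 4 n15991
theorem D16594 : act 4 n15991 = n16594 := rfl
theorem F65483 : act 0 n16594 = n16195 := d3_1 D16594 (iv F65335) F65333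
theorem F65484 : act 1 n16594 = n16011 := d10_1 D16594 (iv D16011) (iv F63200)
theorem F65485 : act 3 n16594 = n16076 := d21_1 D16594 F65003 (iv D16447) F62526 D15991
theorem F65486 : act 5 n16594 = n16077 := d26_2 (iv F63201) D16594 F63609 F63217 (iv D15995)
theorem F65487 : act 7 n16594 = n16594 := d28_2 F63202 D16594 (iv D16594)
theorem F65488 : act 8 n16594 = n15993 := d29_2 (iv F63203) D16594 (iv D15993)
def n16595 : Q := act 1 n15992
theorem D16595 : act 1 n15992 = n16595 := rfl
theorem F65489 : act 2 n16595 = n16012 := d8_2 D15992 D16595 (iv D16012) (iv D15329) (iv F60446)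
theorem F65490 : act 5 n16595 = n15996 := d11_2 (iv F63204) D16595 (iv D15996)
theorem F65491 : act 7 n16595 = n15999 := d13_2 (iv F63205) D16595 (iv D15999)
theorem F65492 : act 4 n16592 = n16595 := d28_3 F65491 (iv F63229) (iv F65479)
def n16596 : Q := act 4 n15992
theorem D16596 : act 4 n15992 = n16596 := rfl
theorem F65493 : act 0 n16596 = n16196 := d3_1 D16596 (iv F65340) F65339
theorem F65494 : act 1 n16596 = n16592 := d10_1 D16596 F65492 (iv D16595)
theorem F65495 : act 2 n16596 = n15993 := d16_1 D16596 (iv D15993) D15992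
theorem F65496 : act 5 n16596 = n16078 := d26_2 (iv F63204) D16596 (iv F64695) F64696 (iv D15997)
theorem F65497 : act 6 n16596 = n16595 := d27_2 F65478 D16596 (iv F65492)
theorem F65498 : act 7 n16596 = n16000 := d28_2 (iv F63205) D16596 (iv D16000)
def n16597 : Q := act 1 n15994
theorem D16597 : act 1 n15994 = n16597 := rfl
theorem F65499 : act 2 n16597 = n16013 := d8_2 D15994 D16597 (iv D16013) (iv D15331) (iv F60449)
theorem F65500 : act 7 n16597 = n16597 := d13_2 F63211 D16597 (iv D16597)
theorem F65501 : act 8 n16597 = n15996 := d14_2 (iv F63212) D16597 (iv D15996)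
def n16598 : Q := act 4 n15994
theorem D16598 : act 4 n15994 = n16598 := rfl
theorem F65502 : act 2 n16598 = n15995 := d16_1 D16598 (iv D15995) D15994
theorem F65503 : act 7 n16598 = n16598 := d28_2 F63211 D16598 (iv D16598)
theorem F65504 : act 8 n16598 = n15997 := d29_2 (iv F63212) D16598 (iv D15997)
theorem F65505 : act 5 n16459 = n16598 := d32_3 F65504 (iv F64696) (iv F65057)
def n16599 : Q := act 0 n15996
theorem D16599 : act 0 n15996 = n16599 := rfl
theorem F65506 : act 2 n16599 = n16015 := d1_2 (iv F63218) D16599 (iv D16015)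
theorem F65507 : act 7 n16599 = n16001 := d6_2 (iv F63219) D16599 (iv D16001)
def n16600 : Q := act 4 n15996
theorem D16600 : act 4 n15996 = n16600 := rfl
theorem F65508 : act 1 n16600 = n15997 := d10_1 D16600 (iv D15997) D15996
theorem F65509 : act 2 n16600 = n16016 := d16_1 D16600 (iv D16016) (iv F63218)
theorem F65510 : act 7 n16600 = n16002 := d28_2 (iv F63219) D16600 (iv D16002)
def n16601 : Q := act 3 n15997
theorem D16601 : act 3 n15997 = n16601 := rfl
theorem F65511 : act 2 n16601 = n16452 := d15_1 D16601 (iv D16452) F62584 (iv F60454) (iv F63220)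
def n16602 : Q := act 4 n16001
theorem D16602 : act 4 n16001 = n16602 := rfl
theorem F65512 : act 0 n16602 = n16002 := d3_1 D16602 (iv D16002) D16001
theorem F65513 : act 2 n16602 = n16017 := d16_1 D16602 (iv D16017) (iv F63237)
theorem F65514 : act 8 n16602 = n16602 := d29_2 F63239 D16602 (iv D16602)
def n16603 : Q := act 7 n16003
theorem D16603 : act 7 n16003 = n16603 := rfl
theorem F65515 : act 0 n16603 = n16086 := d6_1 D16603 F63662 (iv F63243)
theorem F65516 : act 1 n16603 = n16230 := d13_1 D16603 F64261 (iv F63244)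
theorem F65517 : act 2 n16603 = n16005 := d19_1 D16603 (iv D16005) (iv F63245)
theorem F65518 : act 4 n16603 = n16073 := d28_1 D16603 F63592 (iv F63246)
theorem F65519 : act 5 n16603 = n16229 := d31_1 D16603 F64255 (iv F63247)
theorem F65520 : act 6 n16603 = n16087 := d33_1 D16603 F63667 (iv F63248)
theorem F65521 : act 8 n16345 = n16603 := d32_0 F65519 F64256 (iv F64681)
def n16604 : Q := act 1 n16007
theorem D16604 : act 1 n16007 = n16604 := rfl
theorem F65522 : act 3 n16604 = n16016 := d9_2 (iv F63268) D16604 F63308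
theorem F65523 : act 4 n16604 = n16556 := d10_2 F63272 D16604 F65404
theorem F65524 : act 5 n16604 = n16009 := d11_2 (iv F63269) D16604 (iv D16009)
theorem F65525 : act 6 n16604 = n16558 := d12_2 F63276 D16604 F65412
theorem F65526 : act 7 n16604 = n16604 := d13_2 F63270 D16604 (iv D16604)
theorem F65527 : act 8 n16604 = n16461 := d14_2 (iv F63271) D16604 (iv D16461)
def n16605 : Q := act 0 n16009
theorem D16605 : act 0 n16009 = n16605 := rfl
theorem F65528 : act 1 n16605 = n16605 := d0_2 D16009 D16605 (iv D16605) (iv D16009) F60505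
theorem F65529 : act 7 n16605 = n16605 := d6_2 F63279 D16605 (iv D16605)
theorem F65530 : act 8 n16605 = n16462 := d7_2 (iv F63280) D16605 (iv D16462)
def n16606 : Q := act 1 n16010
theorem D16606 : act 1 n16010 = n16606 := rfl
theorem F65531 : act 3 n16606 = n16449 := d9_2 (iv F63282) D16606 F65012
theorem F65532 : act 4 n16606 = n16446 := d10_2 F63286 D16606 F64993
theorem F65533 : act 5 n16606 = n16013 := d11_2 (iv F63283) D16606 (iv D16013)
theorem F65534 : act 6 n16606 = n16594 := d12_2 F63291 D16606 F65484
theorem F65535 : act 7 n16606 = n16606 := d13_2 F63284 D16606 (iv D16606)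
theorem F65536 : act 8 n16606 = n16012 := d14_2 (iv F63285) D16606 (iv D16012)
theorem F65537 : act 0 n16497 = n16606 := d7_3 F65536 (iv F64079) (iv F65224)
def n16607 : Q := act 0 n16013
theorem D16607 : act 0 n16013 = n16607 := rfl
theorem F65538 : act 1 n16607 = n16607 := d0_2 D16013 D16607 (iv D16607) (iv D16013) F60526
theorem F65539 : act 3 n16607 = n16486 := d2_2 (iv F63751) D16607 F65169
theorem F65540 : act 5 n16607 = n16497 := d4_2 F65533 D16607 F65537
theorem F65541 : act 7 n16607 = n16607 := d6_2 F63298 D16607 (iv D16607)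
theorem F65542 : act 8 n16607 = n16015 := d7_2 (iv F63299) D16607 (iv D16015)
def n16608 : Q := act 4 n16013
theorem D16608 : act 4 n16013 = n16608 := rfl
theorem F65543 : act 1 n16608 = n16014 := d10_1 D16608 (iv D16014) D16013
theorem F65544 : act 3 n16608 = n16461 := d21_1 D16608 F65062 (iv D16369) (iv F63748) (iv F63751)
theorem F65545 : act 5 n16608 = n16460 := d26_2 F65533 D16608 (iv F65110) F65111 (iv F65532)
theorem F65546 : act 7 n16608 = n16608 := d28_2 F63298 D16608 (iv D16608)
theorem F65547 : act 8 n16608 = n16016 := d29_2 (iv F63299) D16608 (iv D16016)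
def n16609 : Q := act 4 n16015
theorem D16609 : act 4 n16015 = n16609 := rfl
theorem F65548 : act 0 n16609 = n16016 := d3_1 D16609 (iv D16016) D16015
theorem F65549 : act 1 n16609 = n16609 := d10_1 D16609 (iv D16609) F63306
theorem F65550 : act 7 n16609 = n16017 := d28_2 (iv F63307) D16609 (iv D16017)
def n16610 : Q := act 7 n16018
theorem D16610 : act 7 n16018 = n16610 := rfl
theorem F65551 : act 0 n16610 = n16020 := d6_1 D16610 (iv D16020) (iv F63314)
theorem F65552 : act 1 n16610 = n16095 := d13_1 D16610 (iv D16095) (iv F63315)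
theorem F65553 : act 2 n16610 = n16610 := d19_1 D16610 (iv D16610) F63316
theorem F65554 : act 4 n16610 = n16561 := d28_1 D16610 (iv D16561) (iv F63318)
theorem F65555 : act 5 n16610 = n16237 := d31_1 D16610 (iv D16237) (iv F63319)
theorem F65556 : act 6 n16610 = n16330 := d33_1 D16610 (iv D16330) (iv F63320)
theorem F65557 : act 8 n16610 = n16560 := d35_2 D16018 D16610 (iv D16560) (iv D15961) (iv F60554)
def n16611 : Q := act 7 n16019
theorem D16611 : act 7 n16019 = n16611 := rfl
theorem F65558 : act 0 n16611 = n16561 := d6_1 D16611 (iv D16561) (iv F63321)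
theorem F65559 : act 1 n16611 = n16023 := d13_1 D16611 (iv D16023) (iv F63322)
theorem F65560 : act 2 n16611 = n16611 := d19_1 D16611 (iv D16611) F63323
theorem F65561 : act 4 n16611 = n16020 := d28_1 D16611 (iv D16020) (iv F63325)
theorem F65562 : act 5 n16611 = n16509 := d31_1 D16611 (iv D16509) (iv F63326)
theorem F65563 : act 6 n16611 = n16163 := d33_1 D16611 (iv D16163) (iv F63327)
theorem F65564 : act 8 n16611 = n16139 := d35_2 D16019 D16611 (iv D16139) (iv D15481) (iv F60560)
def n16612 : Q := act 3 n16020
theorem D16612 : act 3 n16020 = n16612 := rfl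
theorem F65565 : act 1 n16612 = n16024 := d9_1 D16612 (iv D16024) (iv F63328)
theorem F65566 : act 5 n16612 = n16240 := d22_2 (iv F63330) D16612 (iv D16240)
theorem F65567 : act 7 n16612 = n16036 := d24_2 D16020 D16612 (iv D16036) (iv D15357) (iv F60565)
def n16613 : Q := act 7 n16021
theorem D16613 : act 7 n16021 = n16613 := rfl
theorem F65568 : act 0 n16613 = n16100 := d6_1 D16613 (iv D16100) (iv F63331)
theorem F65569 : act 1 n16613 = n16522 := d13_1 D16613 (iv D16522) (iv F63332)
theorem F65570 : act 2 n16613 = n16613 := d19_1 D16613 (iv D16613) F63333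
theorem F65571 : act 4 n16613 = n16039 := d28_1 D16613 (iv D16039) (iv F63335)
theorem F65572 : act 5 n16613 = n16515 := d31_1 D16613 (iv D16515) (iv F63336)
theorem F65573 : act 6 n16613 = n16125 := d33_1 D16613 (iv D16125) (iv F63337)
theorem F65574 : act 8 n16613 = n16110 := d35_2 D16021 D16613 (iv D16110) (iv D15452) (iv F60572)
def n16614 : Q := act 7 n16022
theorem D16614 : act 7 n16022 = n16614 := rfl
theorem F65575 : act 0 n16614 = n16102 := d6_1 D16614 (iv D16102) (iv F63338)
theorem F65576 : act 1 n16614 = n16509 := d13_1 D16614 (iv D16509) (iv F63339)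
theorem F65577 : act 2 n16614 = n16025 := d19_1 D16614 (iv D16025) (iv F63340)
theorem F65578 : act 4 n16614 = n16243 := d28_1 D16614 (iv D16243) (iv F63342)
theorem F65579 : act 5 n16614 = n16023 := d31_1 D16614 (iv D16023) (iv F63343)
theorem F65580 : act 8 n16614 = n16143 := d35_2 D16022 D16614 (iv D16143) (iv D15485) (iv F60579)
def n16615 : Q := act 3 n16023
theorem D16615 : act 3 n16023 = n16615 := rfl
theorem F65581 : act 0 n16615 = n16103 := d2_1 D16615 (iv D16103) (iv F63344)
theorem F65582 : act 6 n16615 = n16174 := d23_2 (iv F63347) D16615 (iv D16174)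
theorem F65583 : act 8 n16615 = n16144 := d25_2 (iv F63348) D16615 (iv D16144)
def n16616 : Q := act 4 n16024
theorem D16616 : act 4 n16024 = n16616 := rfl
theorem F65584 : act 0 n16616 = n16104 := d3_1 D16616 (iv D16104) (iv F63349)
theorem F65585 : act 2 n16616 = n16504 := d16_1 D16616 (iv D16504) (iv F63350)
theorem F65586 : act 7 n16616 = n16042 := d28_2 (iv F63352) D16616 (iv D16042)
def n16617 : Q := act 3 n16025
theorem D16617 : act 3 n16025 = n16617 := rfl
theorem F65587 : act 0 n16617 = n16106 := d2_1 D16617 (iv D16106) (iv F63353)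
theorem F65588 : act 1 n16617 = n16617 := d9_1 D16617 (iv D16617) F63354
theorem F65589 : act 5 n16617 = n16026 := d22_2 (iv F63356) D16617 (iv D16026)
theorem F65590 : act 6 n16617 = n16607 := d23_2 F65173 D16617 F65539
theorem F65591 : act 7 n16617 = n16617 := d24_2 D16025 D16617 (iv D16617) (iv D16025) F60589
theorem F65592 : act 8 n16617 = n16187 := d25_2 (iv F63357) D16617 (iv D16187)
def n16618 : Q := act 2 n16026
theorem D16618 : act 2 n16026 = n16618 := rfl
theorem F65593 : act 0 n16618 = n16107 := d1_1 D16618 (iv D16107) (iv F63358)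
theorem F65594 : act 4 n16618 = n16506 := d16_2 (iv F63360) D16618 (iv D16506)
theorem F65595 : act 6 n16618 = n16197 := d18_2 (iv F63361) D16618 (iv D16197)
theorem F65596 : act 7 n16618 = n16618 := d19_2 F63362 D16618 (iv D16618)
theorem F65597 : act 8 n16618 = n16188 := d20_2 (iv F63363) D16618 (iv D16188)
def n16619 : Q := act 3 n16027
theorem D16619 : act 3 n16027 = n16619 := rfl
theorem F65598 : act 0 n16619 = n16108 := d2_1 D16619 (iv D16108) (iv F63364)
theorem F65599 : act 1 n16619 = n16265 := d9_1 D16619 (iv D16265) (iv F63365)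
theorem F65600 : act 2 n16619 = n16114 := d15_1 D16619 (iv D16114) F61154 (iv F60605) (iv F63366)
theorem F65601 : act 5 n16619 = n16031 := d22_2 (iv F63368) D16619 (iv D16031)
theorem F65602 : act 6 n16619 = n16248 := d23_2 (iv F63369) D16619 (iv D16248)
theorem F65603 : act 8 n16619 = n16047 := d25_2 (iv F63370) D16619 (iv D16047)
def n16620 : Q := act 3 n16028
theorem D16620 : act 3 n16028 = n16620 := rfl
theorem F65604 : act 0 n16620 = n16333 := d2_1 D16620 (iv D16333) (iv F63371)
theorem F65605 : act 1 n16620 = n16031 := d9_1 D16620 (iv D16031) (iv F63372)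
theorem F65606 : act 5 n16620 = n16265 := d22_2 (iv F63375) D16620 (iv D16265)
theorem F65607 : act 6 n16620 = n16036 := d23_2 (iv F63376) D16620 (iv D16036)
theorem F65608 : act 8 n16620 = n16050 := d25_2 (iv F63377) D16620 (iv D16050)
def n16621 : Q := act 7 n16029
theorem D16621 : act 7 n16029 = n16621 := rfl
theorem F65609 : act 0 n16621 = n16110 := d6_1 D16621 (iv D16110) (iv F63378)
theorem F65610 : act 1 n16621 = n16272 := d13_1 D16621 (iv D16272) (iv F63379)
theorem F65611 : act 2 n16621 = n16621 := d19_1 D16621 (iv D16621) F63380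
theorem F65612 : act 4 n16621 = n16125 := d28_1 D16621 (iv D16125) (iv F63382)
theorem F65613 : act 5 n16621 = n16268 := d31_1 D16621 (iv D16268) (iv F63383)
theorem F65614 : act 6 n16621 = n16039 := d33_1 D16621 (iv D16039) (iv F63384)
theorem F65615 : act 8 n16621 = n16100 := d35_2 D16029 D16621 (iv D16100) (iv D15442) (iv F60622)
def n16622 : Q := act 3 n16030
theorem D16622 : act 3 n16030 = n16622 := rfl
theorem F65616 : act 0 n16622 = n16111 := d2_1 D16622 (iv D16111) (iv F63385)
theorem F65617 : act 1 n16622 = n16275 := d9_1 D16622 (iv D16275) (iv F63386)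
theorem F65618 : act 5 n16622 = n16269 := d22_2 (iv F63389) D16622 (iv D16269)
theorem F65619 : act 6 n16622 = n16041 := d23_2 (iv F63390) D16622 (iv D16041)
theorem F65620 : act 8 n16622 = n16051 := d25_2 (iv F63391) D16622 (iv D16051)
def n16623 : Q := act 4 n16031
theorem D16623 : act 4 n16031 = n16623 := rfl
theorem F65621 : act 0 n16623 = n16112 := d3_1 D16623 (iv D16112) (iv F63392)
theorem F65622 : act 2 n16623 = n16377 := d16_1 D16623 (iv D16377) (iv F63393)
theorem F65623 : act 6 n16623 = n16042 := d27_2 (iv F63394) D16623 (iv D16042)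
theorem F65624 : act 8 n16623 = n16052 := d29_2 (iv F63395) D16623 (iv D16052)
def n16624 : Q := act 2 n16032
theorem D16624 : act 2 n16032 = n16624 := rfl
theorem F65625 : act 0 n16624 = n16113 := d1_1 D16624 (iv D16113) (iv F63396)
theorem F65626 : act 1 n16624 = n16454 := d8_1 D16624 (iv D16454) F62597 (iv F60897) (iv F63397)
theorem F65627 : act 4 n16624 = n16453 := d16_2 (iv F63398) D16624 (iv D16453)
theorem F65628 : act 5 n16624 = n16316 := d17_2 (iv F63399) D16624 (iv D16316)
theorem F65629 : act 6 n16624 = n16044 := d18_2 (iv F63400) D16624 (iv D16044)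
theorem F65630 : act 7 n16624 = n16624 := d19_2 F63401 D16624 (iv D16624)
theorem F65631 : act 8 n16624 = n16053 := d20_2 (iv F63402) D16624 (iv D16053)
def n16625 : Q := act 3 n16033
theorem D16625 : act 3 n16033 = n16625 := rfl
theorem F65632 : act 0 n16625 = n16036 := d2_1 D16625 (iv D16036) (iv F63403)
theorem F65633 : act 1 n16625 = n16114 := d9_1 D16625 (iv D16114) (iv F63404)
theorem F65634 : act 5 n16625 = n16251 := d22_2 (iv F63407) D16625 (iv D16251)
theorem F65635 : act 6 n16625 = n16333 := d23_2 (iv F63408) D16625 (iv D16333)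
theorem F65636 : act 8 n16625 = n16056 := d25_2 (iv F63409) D16625 (iv D16056)
def n16626 : Q := act 7 n16034
theorem D16626 : act 7 n16034 = n16626 := rfl
theorem F65637 : act 0 n16626 = n16398 := d6_1 D16626 (iv D16398) (iv F63410)
theorem F65638 : act 1 n16626 = n16039 := d13_1 D16626 (iv D16039) (iv F63411)
theorem F65639 : act 2 n16626 = n16307 := d19_1 D16626 (iv D16307) (iv F63412)
theorem F65640 : act 4 n16626 = n16522 := d28_1 D16626 (iv D16522) (iv F63414)
theorem F65641 : act 5 n16626 = n16294 := d31_1 D16626 (iv D16294) (iv F63415)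
theorem F65642 : act 6 n16626 = n16272 := d33_1 D16626 (iv D16272) (iv F63416)
theorem F65643 : act 8 n16626 = n16521 := d35_2 D16034 D16626 (iv D16521) (iv D15919) F60651
def n16627 : Q := act 3 n16035
theorem D16627 : act 3 n16035 = n16627 := rfl
theorem F65644 : act 0 n16627 = n16403 := d2_1 D16627 (iv D16403) (iv F63417)
theorem F65645 : act 1 n16627 = n16041 := d9_1 D16627 (iv D16041) (iv F63418)
theorem F65646 : act 2 n16627 = n16393 := d15_1 D16627 (iv D16393) F62385 (iv F60911) (iv F63419)
theorem F65647 : act 5 n16627 = n16300 := d22_2 (iv F63421) D16627 (iv D16300)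
theorem F65648 : act 6 n16627 = n16275 := d23_2 (iv F63422) D16627 (iv D16275)
theorem F65649 : act 8 n16627 = n16060 := d25_2 (iv F63423) D16627 (iv D16060)
def n16628 : Q := act 2 n16036
theorem D16628 : act 2 n16036 = n16628 := rfl
theorem F65650 : act 1 n16628 = n16507 := d8_1 D16628 (iv D16507) F62973 (iv F60687) (iv F63424)
theorem F65651 : act 3 n16628 = n16083 := d15_2 D16036 D16628 (iv D16083) (iv D15411) (iv F60659)
theorem F65652 : act 5 n16628 = n16254 := d17_2 (iv F63425) D16628 (iv D16254)
theorem F65653 : act 8 n16628 = n16061 := d20_2 (iv F63426) D16628 (iv D16061)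
def n16629 : Q := act 4 n16036
theorem D16629 : act 4 n16036 = n16629 := rfl
theorem F65654 : act 1 n16629 = n16042 := d10_1 D16629 (iv D16042) (iv F63424)
theorem F65655 : act 8 n16629 = n16062 := d29_2 (iv F63426) D16629 (iv D16062)
def n16630 : Q := act 7 n16037
theorem D16630 : act 7 n16037 = n16630 := rfl
theorem F65656 : act 0 n16630 = n16124 := d6_1 D16630 (iv D16124) (iv F63427)
theorem F65657 : act 1 n16630 = n16294 := d13_1 D16630 (iv D16294) (iv F63428)
theorem F65658 : act 2 n16630 = n16630 := d19_1 D16630 (iv D16630) F63429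
theorem F65659 : act 5 n16630 = n16039 := d31_1 D16630 (iv D16039) (iv F63431)
theorem F65660 : act 6 n16630 = n16285 := d33_1 D16630 (iv D16285) (iv F63432)
def n16631 : Q := act 7 n16038
theorem D16631 : act 7 n16038 = n16631 := rfl
theorem F65661 : act 0 n16631 = n16125 := d6_1 D16631 (iv D16125) (iv F63433)
theorem F65662 : act 1 n16631 = n16521 := d13_1 D16631 (iv D16521) (iv F63434)
theorem F65663 : act 2 n16631 = n16631 := d19_1 D16631 (iv D16631) F63435
theorem F65664 : act 4 n16631 = n16110 := d28_1 D16631 (iv D16110) (iv F63437)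
theorem F65665 : act 6 n16631 = n16100 := d33_1 D16631 (iv D16100) (iv F63438)
theorem F65666 : act 8 n16631 = n16039 := d35_2 D16038 D16631 (iv D16039) (iv D15360) D15359
def n16632 : Q := act 3 n16039
theorem D16632 : act 3 n16039 = n16632 := rfl
theorem F65667 : act 0 n16632 = n16126 := d2_1 D16632 (iv D16126) (iv F63439)
theorem F65668 : act 7 n16632 = n16041 := d24_2 D16039 D16632 (iv D16041) (iv D15362) (iv F60675)
def n16633 : Q := act 3 n16040
theorem D16633 : act 3 n16040 = n16633 := rfl
theorem F65669 : act 0 n16633 = n16128 := d2_1 D16633 (iv D16128) (iv F63441)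
theorem F65670 : act 1 n16633 = n16300 := d9_1 D16633 (iv D16300) (iv F63442)
theorem F65671 : act 5 n16633 = n16041 := d22_2 (iv F63445) D16633 (iv D16041)
theorem F65672 : act 6 n16633 = n16288 := d23_2 (iv F63446) D16633 (iv D16288)
theorem F65673 : act 8 n16633 = n16069 := d25_2 (iv F63447) D16633 (iv D16069)
def n16634 : Q := act 2 n16041
theorem D16634 : act 2 n16041 = n16634 := rfl
theorem F65674 : act 0 n16634 = n16129 := d1_1 D16634 (iv D16129) (iv F63448)
theorem F65675 : act 3 n16634 = n16044 := d15_2 D16041 D16634 (iv D16044) (iv D15365) (iv F60683)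
theorem F65676 : act 8 n16634 = n16070 := d20_2 (iv F63449) D16634 (iv D16070)
def n16635 : Q := act 4 n16041
theorem D16635 : act 4 n16041 = n16635 := rfl
theorem F65677 : act 0 n16635 = n16130 := d3_1 D16635 (iv D16130) (iv F63448)
theorem F65678 : act 3 n16635 = n16042 := d21_1 D16635 (iv D16042) (iv D15363) (iv F60684) D16041
theorem F65679 : act 8 n16635 = n16071 := d29_2 (iv F63449) D16635 (iv D16071)
def n16636 : Q := act 5 n16042
theorem D16636 : act 5 n16042 = n16636 := rfl
theorem F65680 : act 0 n16636 = n16131 := d4_1 D16636 (iv D16131) (iv F63450)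
theorem F65681 : act 2 n16636 = n16513 := d17_1 D16636 (iv D16513) (iv F63451)
theorem F65682 : act 4 n16636 = n16263 := d26_1 D16636 (iv D16263) (iv D15622) (iv F60688) D16042
theorem F65683 : act 8 n16636 = n16072 := d32_2 (iv F63452) D16636 (iv D16072)
def n16637 : Q := act 2 n16043
theorem D16637 : act 2 n16043 = n16637 := rfl
theorem F65684 : act 0 n16637 = n16132 := d1_1 D16637 (iv D16132) (iv F63453)
theorem F65685 : act 1 n16637 = n16211 := d8_1 D16637 (iv D16211) F61554 (iv F60928) (iv F63454)
theorem F65686 : act 4 n16637 = n16345 := d16_2 (iv F63455) D16637 (iv D16345)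
theorem F65687 : act 5 n16637 = n16044 := d17_2 (iv F63456) D16637 (iv D16044)
theorem F65688 : act 6 n16637 = n16319 := d18_2 (iv F63457) D16637 (iv D16319)
theorem F65689 : act 7 n16637 = n16637 := d19_2 F63458 D16637 (iv D16637)
theorem F65690 : act 8 n16637 = n16073 := d20_2 (iv F63459) D16637 (iv D16073)
def n16638 : Q := act 1 n16044
theorem D16638 : act 1 n16044 = n16638 := rfl
theorem F65691 : act 2 n16638 = n16085 := d8_2 D16044 D16638 (iv D16085) (iv D15414) (iv F60697)
theorem F65692 : act 4 n16638 = n16514 := d10_2 (iv F63461) D16638 (iv D16514)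
theorem F65693 : act 5 n16638 = n16211 := d11_2 F65687 D16638 (iv F65685)
theorem F65694 : act 6 n16638 = n16454 := d12_2 F65629 D16638 (iv F65626)
theorem F65695 : act 7 n16638 = n16638 := d13_2 F63462 D16638 (iv D16638)
theorem F65696 : act 8 n16638 = n16074 := d14_2 (iv F63463) D16638 (iv D16074)
theorem F65697 : act 0 n16213 = n16638 := d4_3 F65693 F64163 (iv F64174)
def n16639 : Q := act 3 n16045
theorem D16639 : act 3 n16045 = n16639 := rfl
theorem F65698 : act 0 n16639 = n16221 := d2_1 D16639 (iv D16221) (iv F63464)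
theorem F65699 : act 1 n16639 = n16047 := d9_1 D16639 (iv D16047) (iv F63465)
theorem F65700 : act 2 n16639 = n16590 := d15_1 D16639 (iv D16590) F63188 (iv F60943) (iv F63466)
theorem F65701 : act 5 n16639 = n16050 := d22_2 (iv F63468) D16639 (iv D16050)
theorem F65702 : act 6 n16639 = n16223 := d23_2 (iv F63469) D16639 (iv D16223)
theorem F65703 : act 8 n16639 = n16265 := d25_2 (iv F63470) D16639 (iv D16265)
def n16640 : Q := act 3 n16046
theorem D16640 : act 3 n16046 = n16640 := rfl
theorem F65704 : act 0 n16640 = n16135 := d2_1 D16640 (iv D16135) (iv F63471)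
theorem F65705 : act 1 n16640 = n16248 := d9_1 D16640 (iv D16248) (iv F63472)
theorem F65706 : act 5 n16640 = n16249 := d22_2 (iv F63475) D16640 (iv D16249)
theorem F65707 : act 6 n16640 = n16265 := d23_2 (iv F63476) D16640 (iv D16265)
theorem F65708 : act 8 n16640 = n16223 := d25_2 (iv F63477) D16640 (iv D16223)
def n16641 : Q := act 4 n16047
theorem D16641 : act 4 n16047 = n16641 := rfl
theorem F65709 : act 0 n16641 = n16136 := d3_1 D16641 (iv D16136) (iv F63478)
theorem F65710 : act 2 n16641 = n16158 := d16_1 D16641 (iv D16158) (iv F63479)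
theorem F65711 : act 6 n16641 = n16266 := d27_2 (iv F63481) D16641 (iv D16266)
def n16642 : Q := act 2 n16048
theorem D16642 : act 2 n16048 = n16642 := rfl
theorem F65712 : act 0 n16642 = n16137 := d1_1 D16642 (iv D16137) (iv F63482)
theorem F65713 : act 1 n16642 = n16345 := d8_1 D16642 (iv D16345) F62209 (iv F60949) (iv F63483)
theorem F65714 : act 4 n16642 = n16211 := d16_2 (iv F63484) D16642 (iv D16211)
theorem F65715 : act 5 n16642 = n16314 := d17_2 (iv F63485) D16642 (iv D16314)
theorem F65716 : act 6 n16642 = n16267 := d18_2 (iv F63486) D16642 (iv D16267)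
theorem F65717 : act 7 n16642 = n16642 := d19_2 F63487 D16642 (iv D16642)
theorem F65718 : act 8 n16642 = n16230 := d20_2 (iv F63488) D16642 (iv D16230)
def n16643 : Q := act 3 n16049
theorem D16643 : act 3 n16049 = n16643 := rfl
theorem F65719 : act 0 n16643 = n16050 := d2_1 D16643 (iv D16050) (iv F63489)
theorem F65720 : act 1 n16643 = n16138 := d9_1 D16643 (iv D16138) (iv F63490)
theorem F65721 : act 5 n16643 = n16221 := d22_2 (iv F63493) D16643 (iv D16221)
theorem F65722 : act 6 n16643 = n16056 := d23_2 (iv F63494) D16643 (iv D16056)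
theorem F65723 : act 7 n16643 = n16639 := d24_2 D16049 D16643 (iv D16639) (iv D16045) (iv F60726)
theorem F65724 : act 8 n16643 = n16333 := d25_2 (iv F63495) D16643 (iv D16333)
def n16644 : Q := act 2 n16050
theorem D16644 : act 2 n16050 = n16644 := rfl
theorem F65725 : act 1 n16644 = n16281 := d8_1 D16644 (iv D16281) F61933 (iv F60741) (iv F63496)
theorem F65726 : act 3 n16644 = n16086 := d15_2 D16050 D16644 (iv D16086) (iv D15418) (iv F60731)
theorem F65727 : act 5 n16644 = n16590 := d17_2 F65701 D16644 (iv F65700)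
theorem F65728 : act 6 n16644 = n16061 := d18_2 (iv F63497) D16644 (iv D16061)
def n16645 : Q := act 4 n16050
theorem D16645 : act 4 n16050 = n16645 := rfl
theorem F65729 : act 1 n16645 = n16052 := d10_1 D16645 (iv D16052) (iv F63496)
theorem F65730 : act 3 n16645 = n16441 := d21_1 D16645 (iv D16441) F62516 (iv F60732) D16050
theorem F65731 : act 6 n16645 = n16062 := d27_2 (iv F63497) D16645 (iv D16062)
def n16646 : Q := act 2 n16051
theorem D16646 : act 2 n16051 = n16646 := rfl
theorem F65732 : act 0 n16646 = n16147 := d1_1 D16646 (iv D16147) (iv F63498)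
theorem F65733 : act 1 n16646 = n16424 := d8_1 D16646 (iv D16424) F62490 D15800 (iv F63499)
theorem F65734 : act 3 n16646 = n16053 := d15_2 D16051 D16646 (iv D16053) (iv D15374) (iv F60736)
theorem F65735 : act 5 n16646 = n16426 := d17_2 (iv F63500) D16646 F64957
theorem F65736 : act 6 n16646 = n16070 := d18_2 (iv F63501) D16646 (iv D16070)
def n16647 : Q := act 4 n16051
theorem D16647 : act 4 n16051 = n16647 := rfl
theorem F65737 : act 0 n16647 = n16148 := d3_1 D16647 (iv D16148) (iv F63498)
theorem F65738 : act 1 n16647 = n16441 := d10_1 D16647 (iv D16441) (iv F63499)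
theorem F65739 : act 3 n16647 = n16052 := d21_1 D16647 (iv D16052) (iv D15373) (iv F60737) D16051
theorem F65740 : act 6 n16647 = n16071 := d27_2 (iv F63501) D16647 (iv D16071)
def n16648 : Q := act 5 n16052
theorem D16648 : act 5 n16052 = n16648 := rfl
theorem F65741 : act 0 n16648 = n16149 := d4_1 D16648 (iv D16149) (iv F63502)
theorem F65742 : act 2 n16648 = n16415 := d17_1 D16648 (iv D16415) (iv F63503)
def n16649 : Q := act 7 n16054
theorem D16649 : act 7 n16054 = n16649 := rfl
theorem F65743 : act 0 n16649 = n16058 := d6_1 D16649 (iv D16058) (iv F63511)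
theorem F65744 : act 1 n16649 = n16155 := d13_1 D16649 (iv D16155) (iv F63512)
theorem F65745 : act 2 n16649 = n16309 := d19_1 D16649 F64555 (iv F63513)
theorem F65746 : act 4 n16649 = n16338 := d28_1 D16649 (iv D16338) (iv F63515)
theorem F65747 : act 5 n16649 = n16388 := d31_1 D16649 (iv D16388) (iv F63516)
theorem F65748 : act 6 n16649 = n16310 := d33_1 D16649 F64560 (iv F63517)
theorem F65749 : act 8 n16649 = n16337 := d35_2 D16054 D16649 (iv D16337) (iv D15702) (iv F60755)
def n16650 : Q := act 3 n16055
theorem D16650 : act 3 n16055 = n16650 := rfl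
theorem F65750 : act 0 n16650 = n16060 := d2_1 D16650 (iv D16060) (iv F63518)
theorem F65751 : act 1 n16650 = n16157 := d9_1 D16650 (iv D16157) (iv F63519)
theorem F65752 : act 2 n16650 = n16300 := d15_1 D16650 (iv D16300) F61984 (iv F60968) (iv F63520)
theorem F65753 : act 5 n16650 = n16393 := d22_2 (iv F63522) D16650 (iv D16393)
theorem F65754 : act 6 n16650 = n16301 := d23_2 (iv F63523) D16650 F64517
theorem F65755 : act 8 n16650 = n16403 := d25_2 (iv F63524) D16650 (iv D16403)
def n16651 : Q := act 2 n16056
theorem D16651 : act 2 n16056 = n16651 := rfl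
theorem F65756 : act 0 n16651 = n16061 := d1_1 D16651 (iv D16061) (iv F63525)
theorem F65757 : act 1 n16651 = n16590 := d8_1 D16651 (iv F65700) F65699 F63479 (iv F63526)
theorem F65758 : act 3 n16651 = n16087 := d15_2 D16056 D16651 (iv D16087) (iv D15420) (iv F60764)
theorem F65759 : act 5 n16651 = n16281 := d17_2 (iv F63527) D16651 (iv D16281)
def n16652 : Q := act 4 n16056
theorem D16652 : act 4 n16056 = n16652 := rfl
theorem F65760 : act 0 n16652 = n16062 := d3_1 D16652 (iv D16062) (iv F63525)
theorem F65761 : act 1 n16652 = n16158 := d10_1 D16652 (iv D16158) (iv F63526)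
def n16653 : Q := act 7 n16057
theorem D16653 : act 7 n16057 = n16653 := rfl
theorem F65762 : act 0 n16653 = n16388 := d6_1 D16653 (iv D16388) (iv F63528)
theorem F65763 : act 1 n16653 = n16065 := d13_1 D16653 (iv D16065) (iv F63529)
theorem F65764 : act 2 n16653 = n16447 := d19_1 D16653 F65001 (iv F63530)
theorem F65765 : act 5 n16653 = n16058 := d31_1 D16653 (iv D16058) (iv F63532)
theorem F65766 : act 6 n16653 = n16258 := d33_1 D16653 (iv D16258) (iv F63533)
theorem F65767 : act 8 n16653 = n16591 := d35_2 D16057 D16653 F65477 F63254 (iv F60797)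
def n16654 : Q := act 3 n16058
theorem D16654 : act 3 n16058 = n16654 := rfl
theorem F65768 : act 1 n16654 = n16067 := d9_1 D16654 (iv D16067) (iv F63534)
theorem F65769 : act 2 n16654 = n16431 := d15_1 D16654 (iv D16431) F62501 D15815 (iv F63535)
theorem F65770 : act 6 n16654 = n16433 := d23_2 (iv F63536) D16654 F64973
theorem F65771 : act 7 n16654 = n16060 := d24_2 D16058 D16654 (iv D16060) (iv D15382) (iv F60779)
def n16655 : Q := act 3 n16059
theorem D16655 : act 3 n16059 = n16655 := rfl
theorem F65772 : act 0 n16655 = n16393 := d2_1 D16655 (iv D16393) (iv F63537)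
theorem F65773 : act 1 n16655 = n16069 := d9_1 D16655 (iv D16069) (iv F63538)
theorem F65774 : act 2 n16655 = n16403 := d15_1 D16655 (iv D16403) F62419 (iv F60980) (iv F63539)
theorem F65775 : act 5 n16655 = n16060 := d22_2 (iv F63541) D16655 (iv D16060)
theorem F65776 : act 6 n16655 = n16261 := d23_2 (iv F63542) D16655 (iv D16261)
theorem F65777 : act 8 n16655 = n16300 := d25_2 (iv F63543) D16655 (iv D16300)
def n16656 : Q := act 4 n16060
theorem D16656 : act 4 n16060 = n16656 := rfl
theorem F65778 : act 1 n16656 = n16071 := d10_1 D16656 (iv D16071) (iv F63544)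
theorem F65779 : act 2 n16656 = n16440 := d16_1 D16656 (iv D16440) (iv F63545)
theorem F65780 : act 3 n16656 = n16062 := d21_1 D16656 (iv D16062) (iv D15383) (iv F60789) D16060
theorem F65781 : act 6 n16656 = n16441 := d27_2 (iv F63546) D16656 (iv D16441)
def n16657 : Q := act 4 n16061
theorem D16657 : act 4 n16061 = n16657 := rfl
theorem F65782 : act 1 n16657 = n16519 := d10_1 D16657 (iv D16519) (iv F63547)
theorem F65783 : act 2 n16657 = n16062 := d16_1 D16657 (iv D16062) D16061
def n16658 : Q := act 5 n16062
theorem D16658 : act 5 n16062 = n16658 := rfl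
theorem F65784 : act 1 n16658 = n16072 := d11_1 D16658 (iv D16072) (iv F63550)
theorem F65785 : act 4 n16658 = n16292 := d26_1 D16658 (iv D16292) (iv D15648) (iv F60792) D16062
def n16659 : Q := act 7 n16063
theorem D16659 : act 7 n16063 = n16659 := rfl
theorem F65786 : act 0 n16659 = n16171 := d6_1 D16659 (iv D16171) (iv F63551)
theorem F65787 : act 1 n16659 = n16258 := d13_1 D16659 (iv D16258) (iv F63552)
theorem F65788 : act 2 n16659 = n16075 := d19_1 D16659 (iv D16075) (iv F63553)
theorem F65789 : act 5 n16659 = n16252 := d31_1 D16659 (iv D16252) (iv F63555)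
theorem F65790 : act 6 n16659 = n16065 := d33_1 D16659 (iv D16065) (iv F63556)
def n16660 : Q := act 7 n16064
theorem D16660 : act 7 n16064 = n16660 := rfl
theorem F65791 : act 0 n16660 = n16172 := d6_1 D16660 (iv D16172) (iv F63557)
theorem F65792 : act 1 n16660 = n16591 := d13_1 D16660 F65477 (iv F63558)
theorem F65793 : act 2 n16660 = n16076 := d19_1 D16660 (iv D16076) (iv F63559)
theorem F65794 : act 4 n16660 = n16653 := d28_1 D16660 (iv D16653) (iv F63560)
theorem F65795 : act 5 n16660 = n16066 := d31_1 D16660 (iv D16066) (iv F63561)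
theorem F65796 : act 8 n16660 = n16065 := d35_2 D16064 D16660 (iv D16065) (iv D15387) D15386
def n16661 : Q := act 3 n16065
theorem D16661 : act 3 n16065 = n16661 := rfl
theorem F65797 : act 0 n16661 = n16173 := d2_1 D16661 (iv D16173) (iv F63562)
theorem F65798 : act 5 n16661 = n16067 := d22_2 (iv F63564) D16661 (iv D16067)
theorem F65799 : act 7 n16661 = n16069 := d24_2 D16065 D16661 (iv D16069) (iv D15391) (iv F60810)
def n16662 : Q := act 3 n16066
theorem D16662 : act 3 n16066 = n16662 := rfl
theorem F65800 : act 0 n16662 = n16174 := d2_1 D16662 (iv D16174) (iv F63565)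
theorem F65801 : act 6 n16662 = n16103 := d23_2 (iv F63568) D16662 (iv D16103)
theorem F65802 : act 8 n16662 = n16067 := d25_2 (iv F63569) D16662 (iv D16067)
def n16663 : Q := act 2 n16067
theorem D16663 : act 2 n16067 = n16663 := rfl
theorem F65803 : act 0 n16663 = n16175 := d1_1 D16663 (iv D16175) (iv F63570)
theorem F65804 : act 3 n16663 = n16078 := d15_2 D16067 D16663 (iv D16078) (iv D15402) (iv F60817)
theorem F65805 : act 7 n16663 = n16070 := d19_2 (iv F63571) D16663 (iv D16070)
def n16664 : Q := act 4 n16067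
theorem D16664 : act 4 n16067 = n16664 := rfl
theorem F65806 : act 0 n16664 = n16176 := d3_1 D16664 (iv D16176) (iv F63570)
theorem F65807 : act 7 n16664 = n16071 := d28_2 (iv F63571) D16664 (iv D16071)
def n16665 : Q := act 3 n16068
theorem D16665 : act 3 n16068 = n16665 := rfl
theorem F65808 : act 0 n16665 = n16177 := d2_1 D16665 (iv D16177) (iv F63572)
theorem F65809 : act 1 n16665 = n16261 := d9_1 D16665 (iv D16261) (iv F63573)
theorem F65810 : act 2 n16665 = n16583 := d15_1 D16665 F65466 F63185 (iv F60833) (iv F63574)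
theorem F65811 : act 5 n16665 = n16253 := d22_2 (iv F63576) D16665 (iv D16253)
theorem F65812 : act 6 n16665 = n16069 := d23_2 (iv F63577) D16665 (iv D16069)
theorem F65813 : act 8 n16665 = n16288 := d25_2 (iv F63578) D16665 (iv D16288)
def n16666 : Q := act 2 n16069
theorem D16666 : act 2 n16069 = n16666 := rfl
theorem F65814 : act 0 n16666 = n16178 := d1_1 D16666 (iv D16178) (iv F63579)
theorem F65815 : act 1 n16666 = n16581 := d8_1 D16666 (iv D16581) (iv F64881) (iv F65774) F65773
theorem F65816 : act 3 n16666 = n16073 := d15_2 D16069 D16666 (iv D16073) (iv D15395) (iv F60825)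
theorem F65817 : act 5 n16666 = n16070 := d17_2 (iv F63580) D16666 (iv D16070)
theorem F65818 : act 6 n16666 = n16583 := d18_2 F65812 D16666 (iv F65810)
def n16667 : Q := act 4 n16069
theorem D16667 : act 4 n16069 = n16667 := rfl
theorem F65819 : act 0 n16667 = n16179 := d3_1 D16667 (iv D16179) (iv F63579)
theorem F65820 : act 3 n16667 = n16302 := d21_1 D16667 (iv D16302) (iv D15656) (iv F60826) D16069
def n16668 : Q := act 1 n16070
theorem D16668 : act 1 n16070 = n16668 := rfl
theorem F65821 : act 2 n16668 = n16423 := d8_2 D16070 D16668 F64951 (iv F63545) F63544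
theorem F65822 : act 3 n16668 = n16074 := d9_2 (iv F63582) D16668 (iv D16074)
theorem F65823 : act 5 n16668 = n16581 := d11_2 F65817 D16668 (iv F65815)
theorem F65824 : act 6 n16668 = n16424 := d12_2 F65736 D16668 (iv F65733)
def n16669 : Q := act 4 n16070
theorem D16669 : act 4 n16070 = n16669 := rfl
theorem F65825 : act 0 n16669 = n16181 := d3_1 D16669 (iv D16181) (iv F63581)
theorem F65826 : act 2 n16669 = n16071 := d16_1 D16669 (iv D16071) D16070
theorem F65827 : act 3 n16669 = n16530 := d21_1 D16669 (iv D16530) F63018 (iv F60844) (iv F63582)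
def n16670 : Q := act 5 n16071
theorem D16670 : act 5 n16071 = n16670 := rfl
theorem F65828 : act 0 n16670 = n16182 := d4_1 D16670 (iv D16182) (iv F63583)
theorem F65829 : act 3 n16670 = n16072 := d22_1 D16670 (iv D16072) (iv F63584)
def n16671 : Q := act 6 n16072
theorem D16671 : act 6 n16072 = n16671 := rfl
theorem F65830 : act 0 n16671 = n16183 := d5_1 D16671 (iv D16183) (iv F63585)
theorem F65831 : act 2 n16671 = n16532 := d18_1 D16671 (iv D16532) (iv F63586)
theorem F65832 : act 4 n16671 = n16305 := d27_1 D16671 (iv D16305) (iv F63587)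
def n16672 : Q := act 0 n16074
theorem D16672 : act 0 n16074 = n16672 := rfl
theorem F65833 : act 1 n16672 = n16185 := d0_2 D16074 D16672 (iv D16185) (iv D15522) (iv F60843)
theorem F65834 : act 2 n16672 = n16089 := d1_2 (iv F63593) D16672 (iv D16089)
theorem F65835 : act 4 n16672 = n16533 := d3_2 (iv F63594) D16672 (iv D16533)
theorem F65836 : act 5 n16672 = n16205 := d4_2 (iv F63595) D16672 F64123
theorem F65837 : act 6 n16672 = n16456 := d5_2 (iv F63596) D16672 F65044
theorem F65838 : act 7 n16672 = n16080 := d6_2 (iv F63597) D16672 (iv D16080)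
theorem F65839 : act 8 n16672 = n16213 := d7_2 F65696 D16672 F65697
def n16673 : Q := act 2 n16077
theorem D16673 : act 2 n16077 = n16673 := rfl
theorem F65840 : act 0 n16673 = n16197 := d1_1 D16673 (iv D16197) (iv F63607)
theorem F65841 : act 4 n16673 = n16459 := d16_2 (iv F63609) D16673 (iv D16459)
theorem F65842 : act 6 n16673 = n16107 := d18_2 (iv F63610) D16673 (iv D16107)
theorem F65843 : act 7 n16673 = n16673 := d19_2 F63611 D16673 (iv D16673)
theorem F65844 : act 8 n16673 = n16078 := d20_2 (iv F63612) D16673 (iv D16078)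
def n16674 : Q := act 1 n16078
theorem D16674 : act 1 n16078 = n16674 := rfl
theorem F65845 : act 2 n16674 = n16473 := d8_2 D16078 D16674 F65114 F62782 F62633
theorem F65846 : act 5 n16674 = n16592 := d11_2 F65496 D16674 (iv F65494)
theorem F65847 : act 6 n16674 = n16474 := d12_2 F64628 D16674 F65120
theorem F65848 : act 7 n16674 = n16079 := d13_2 (iv F63614) D16674 (iv D16079)
def n16675 : Q := act 0 n16079
theorem D16675 : act 0 n16079 = n16675 := rfl
theorem F65849 : act 1 n16675 = n16202 := d0_2 D16079 D16675 (iv D16202) (iv D15540) (iv F60870)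
theorem F65850 : act 2 n16675 = n16469 := d1_2 (iv F63615) D16675 F65096
theorem F65851 : act 3 n16675 = n16080 := d2_2 (iv F63616) D16675 (iv D16080)
theorem F65852 : act 5 n16675 = n16231 := d4_2 (iv F63617) D16675 F64262
theorem F65853 : act 6 n16675 = n16470 := d5_2 (iv F63618) D16675 F65101
theorem F65854 : act 8 n16675 = n16675 := d7_2 F63619 D16675 (iv D16675)
def n16676 : Q := act 2 n16081
theorem D16676 : act 2 n16081 = n16676 := rfl
theorem F65855 : act 0 n16676 = n16345 := d1_1 D16676 (iv D16345) (iv F63626)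
theorem F65856 : act 1 n16676 = n16315 := d8_1 D16676 (iv D16315) F62084 (iv F60890) (iv F63627)
theorem F65857 : act 4 n16676 = n16132 := d16_2 (iv F63628) D16676 (iv D16132)
theorem F65858 : act 5 n16676 = n16267 := d17_2 (iv F63629) D16676 (iv D16267)
theorem F65859 : act 6 n16676 = n16083 := d18_2 (iv F63630) D16676 (iv D16083)
theorem F65860 : act 7 n16676 = n16676 := d19_2 F63631 D16676 (iv D16676)
theorem F65861 : act 8 n16676 = n16086 := d20_2 (iv F63632) D16676 (iv D16086)
def n16677 : Q := act 2 n16082
theorem D16677 : act 2 n16082 = n16677 := rfl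
theorem F65862 : act 0 n16677 = n16083 := d1_1 D16677 (iv D16083) (iv F63633)
theorem F65863 : act 1 n16677 = n16267 := d8_1 D16677 (iv D16267) F61876 (iv F61029) (iv F63634)
theorem F65864 : act 4 n16677 = n16319 := d16_2 (iv F63635) D16677 (iv D16319)
theorem F65865 : act 5 n16677 = n16315 := d17_2 (iv F63636) D16677 (iv D16315)
theorem F65866 : act 6 n16677 = n16345 := d18_2 (iv F63637) D16677 (iv D16345)
theorem F65867 : act 7 n16677 = n16677 := d19_2 F63638 D16677 (iv D16677)
theorem F65868 : act 8 n16677 = n16087 := d20_2 (iv F63639) D16677 (iv D16087)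
def n16678 : Q := act 4 n16083
theorem D16678 : act 4 n16083 = n16678 := rfl
theorem F65869 : act 0 n16678 = n16319 := d3_1 D16678 (iv F65864) F65862
theorem F65870 : act 1 n16678 = n16543 := d10_1 D16678 (iv D16543) (iv F63640)
theorem F65871 : act 2 n16678 = n16084 := d16_1 D16678 (iv D16084) D16083
theorem F65872 : act 6 n16678 = n16132 := d27_2 F65859 D16678 (iv F65857)
theorem F65873 : act 7 n16678 = n16678 := d28_2 F63642 D16678 (iv D16678)
theorem F65874 : act 8 n16678 = n16088 := d29_2 (iv F63643) D16678 (iv D16088)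
theorem F65875 : act 5 n16318 = n16678 := d32_3 F65874 (iv F63673) (iv F64602)
def n16679 : Q := act 3 n16088
theorem D16679 : act 3 n16088 = n16679 := rfl
theorem F65876 : act 0 n16679 = n16583 := d2_1 D16679 F65466 (iv F63668)
theorem F65877 : act 1 n16679 = n16546 := d9_1 D16679 (iv D16546) (iv F63669)
theorem F65878 : act 2 n16679 = n16177 := d15_1 D16679 (iv D16177) F61400 (iv F60990) (iv F63670)
theorem F65879 : act 5 n16679 = n16586 := d22_2 F63673 D16679 F65470
theorem F65880 : act 6 n16679 = n16178 := d23_2 (iv F63671) D16679 F64022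
def n16680 : Q := act 7 n16090
theorem D16680 : act 7 n16090 = n16680 := rfl
theorem F65881 : act 0 n16680 = n16595 := d6_1 D16680 F65491 (iv F63681)
theorem F65882 : act 1 n16680 = n16547 := d13_1 D16680 (iv D16547) (iv F63682)
theorem F65883 : act 2 n16680 = n16194 := d19_1 D16680 F64083 (iv F63683)
theorem F65884 : act 5 n16680 = n16599 := d31_1 D16680 F65507 (iv F63684)
theorem F65885 : act 6 n16680 = n16196 := d33_1 D16680 F64089 (iv F63685)
def n16681 : Q := act 3 n16091
theorem D16681 : act 3 n16091 = n16681 := rfl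
theorem F65886 : act 1 n16681 = n16226 := d9_1 D16681 (iv D16226) (iv F63687)
theorem F65887 : act 2 n16681 = n16098 := d15_1 D16681 (iv D16098) F61084 (iv F61049) (iv F63688)
theorem F65888 : act 5 n16681 = n16093 := d22_2 (iv F63690) D16681 (iv D16093)
theorem F65889 : act 6 n16681 = n16323 := d23_2 (iv F63691) D16681 (iv D16323)
theorem F65890 : act 7 n16681 = n16108 := d24_2 D16091 D16681 (iv D16108) (iv D15450) (iv F61044)
def n16682 : Q := act 3 n16092
theorem D16682 : act 3 n16092 = n16682 := rfl
theorem F65891 : act 0 n16682 = n16339 := d2_1 D16682 (iv D16339) (iv F63692)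
theorem F65892 : act 1 n16682 = n16093 := d9_1 D16682 (iv D16093) (iv F63693)
theorem F65893 : act 2 n16682 = n16323 := d15_1 D16682 (iv D16323) F62129 (iv F61610) (iv F63694)
theorem F65894 : act 5 n16682 = n16226 := d22_2 (iv F63695) D16682 (iv D16226)
theorem F65895 : act 6 n16682 = n16098 := d23_2 (iv F63696) D16682 (iv D16098)
theorem F65896 : act 7 n16682 = n16109 := d24_2 D16092 D16682 (iv D16109) (iv D15451) (iv F61055)
theorem F65897 : act 8 n16682 = n16681 := d25_2 (iv F63697) D16682 (iv D16681)
def n16683 : Q := act 4 n16093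
theorem D16683 : act 4 n16093 = n16683 := rfl
theorem F65898 : act 2 n16683 = n16358 := d16_1 D16683 (iv D16358) (iv F63698)
theorem F65899 : act 6 n16683 = n16104 := d27_2 (iv F63699) D16683 (iv D16104)
theorem F65900 : act 7 n16683 = n16112 := d28_2 (iv F63700) D16683 (iv D16112)
def n16684 : Q := act 7 n16094
theorem D16684 : act 7 n16094 = n16684 := rfl
theorem F65901 : act 0 n16684 = n16097 := d6_1 D16684 (iv D16097) (iv F63701)
theorem F65902 : act 1 n16684 = n16561 := d13_1 D16684 (iv D16561) (iv F63702)
theorem F65903 : act 2 n16684 = n16216 := d19_1 D16684 (iv D16216) (iv F63703)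
theorem F65904 : act 4 n16684 = n16095 := d28_1 D16684 (iv D16095) (iv F63705)
theorem F65905 : act 5 n16684 = n16311 := d31_1 D16684 F64564 (iv F63706)
theorem F65906 : act 6 n16684 = n16337 := d33_1 D16684 (iv D16337) (iv F63707)
theorem F65907 : act 8 n16684 = n16310 := d35_2 D16094 D16684 F64560 F62069 (iv F61065)
def n16685 : Q := act 3 n16095
theorem D16685 : act 3 n16095 = n16685 := rfl
theorem F65908 : act 0 n16685 = n16098 := d2_1 D16685 (iv D16098) (iv F63708)
theorem F65909 : act 5 n16685 = n16352 := d22_2 (iv F63710) D16685 (iv D16352)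
theorem F65910 : act 6 n16685 = n16339 := d23_2 (iv F63711) D16685 (iv D16339)
theorem F65911 : act 7 n16685 = n16114 := d24_2 D16095 D16685 (iv D16114) (iv D15456) (iv F61069)
def n16686 : Q := act 7 n16096
theorem D16686 : act 7 n16096 = n16686 := rfl
theorem F65912 : act 0 n16686 = n16399 := d6_1 D16686 (iv D16399) (iv F63712)
theorem F65913 : act 1 n16686 = n16100 := d13_1 D16686 (iv D16100) (iv F63713)
theorem F65914 : act 2 n16686 = n16308 := d19_1 D16686 (iv D16308) (iv F63714)
theorem F65915 : act 4 n16686 = n16117 := d28_1 D16686 (iv D16117) (iv F63716)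
theorem F65916 : act 5 n16686 = n16273 := d31_1 D16686 (iv D16273) (iv F63717)
theorem F65917 : act 6 n16686 = n16521 := d33_1 D16686 (iv D16521) (iv F63718)
theorem F65918 : act 8 n16686 = n16272 := d35_2 D16096 D16686 (iv D16272) (iv D15630) (iv F61078)
def n16687 : Q := act 3 n16097
theorem D16687 : act 3 n16097 = n16687 := rfl
theorem F65919 : act 1 n16687 = n16103 := d9_1 D16687 (iv D16103) (iv F63719)
theorem F65920 : act 2 n16687 = n16432 := d15_1 D16687 (iv D16432) F62504 (iv F61632) (iv F63720)
theorem F65921 : act 5 n16687 = n16435 := d22_2 (iv F63722) D16687 F64978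
theorem F65922 : act 8 n16687 = n16433 := d25_2 (iv F63723) D16687 F64973
def n16688 : Q := act 4 n16098
theorem D16688 : act 4 n16098 = n16688 := rfl
theorem F65923 : act 1 n16688 = n16104 := d10_1 D16688 (iv D16104) (iv F63724)
theorem F65924 : act 7 n16688 = n16120 := d28_2 (iv F63726) D16688 (iv D16120)
def n16689 : Q := act 7 n16099
theorem D16689 : act 7 n16099 = n16689 := rfl
theorem F65925 : act 0 n16689 = n16515 := d6_1 D16689 (iv D16515) (iv F63727)
theorem F65926 : act 1 n16689 = n16273 := d13_1 D16689 (iv D16273) (iv F63728)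
theorem F65927 : act 2 n16689 = n16689 := d19_1 D16689 (iv D16689) F63729
theorem F65928 : act 5 n16689 = n16100 := d31_1 D16689 (iv D16100) (iv F63731)
theorem F65929 : act 6 n16689 = n16286 := d33_1 D16689 (iv D16286) (iv F63732)
theorem F65930 : act 8 n16689 = n16268 := d35_2 D16099 D16689 (iv D16268) (iv D15627) (iv F61090)
def n16690 : Q := act 3 n16100
theorem D16690 : act 3 n16100 = n16690 := rfl
theorem F65931 : act 7 n16690 = n16103 := d24_2 D16100 D16690 (iv D16103) (iv D15445) (iv F61093)
def n16691 : Q := act 7 n16101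
theorem D16691 : act 7 n16101 = n16691 := rfl
theorem F65932 : act 1 n16691 = n16259 := d13_1 D16691 (iv D16259) (iv F63735)
theorem F65933 : act 2 n16691 = n16105 := d19_1 D16691 (iv D16105) (iv F63736)
theorem F65934 : act 4 n16691 = n16364 := d28_1 D16691 (iv D16364) (iv F63738)
theorem F65935 : act 6 n16691 = n16102 := d33_1 D16691 (iv D16102) (iv F63739)
theorem F65936 : act 8 n16691 = n16252 := d35_2 D16101 D16691 (iv D16252) (iv D15612) (iv F61099)
def n16692 : Q := act 3 n16102
theorem D16692 : act 3 n16102 = n16692 := rfl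
theorem F65937 : act 1 n16692 = n16435 := d9_1 D16692 F64978 (iv F63740)
theorem F65938 : act 5 n16692 = n16103 := d22_2 (iv F63743) D16692 (iv D16103)
theorem F65939 : act 8 n16692 = n16437 := d25_2 (iv F63744) D16692 F64981
def n16693 : Q := act 2 n16103
theorem D16693 : act 2 n16103 = n16693 := rfl
theorem F65940 : act 3 n16693 = n16107 := d15_2 D16103 D16693 (iv D16107) (iv D15449) (iv F61104)
def n16694 : Q := act 4 n16103
theorem D16694 : act 4 n16103 = n16694 := rfl
theorem F65941 : act 3 n16694 = n16104 := d21_1 D16694 (iv D16104) (iv D15446) (iv F61105) D16103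
def n16695 : Q := act 5 n16104
theorem D16695 : act 5 n16104 = n16695 := rfl
theorem F65942 : act 2 n16695 = n16555 := d17_1 D16695 (iv D16555) (iv F63745)
theorem F65943 : act 4 n16695 = n16368 := d26_1 D16695 (iv D16368) (iv D15735) (iv F61107) D16104
theorem F65944 : act 7 n16695 = n16131 := d31_2 (iv F63746) D16695 (iv D16131)
def n16696 : Q := act 2 n16106
theorem D16696 : act 2 n16106 = n16696 := rfl
theorem F65945 : act 1 n16696 = n16475 := d8_1 D16696 (iv D16475) F62748 (iv F61643) (iv F63752)
theorem F65946 : act 5 n16696 = n16107 := d17_2 (iv F63753) D16696 (iv D16107)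
theorem F65947 : act 6 n16696 = n16597 := d18_2 (iv F63754) D16696 F65499
theorem F65948 : act 7 n16696 = n16696 := d19_2 F63755 D16696 (iv D16696)
theorem F65949 : act 8 n16696 = n16477 := d20_2 (iv F63756) D16696 F65132
def n16697 : Q := act 4 n16106
theorem D16697 : act 4 n16106 = n16697 := rfl
theorem F65950 : act 1 n16697 = n16217 := d10_1 D16697 (iv D16217) (iv F63752)
theorem F65951 : act 3 n16697 = n16371 := d21_1 D16697 (iv D16371) (iv D15737) (iv F61114) D16106
theorem F65952 : act 5 n16697 = n16558 := d26_2 (iv F63753) D16697 (iv D16558) F63131 (iv F61118)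
theorem F65953 : act 6 n16697 = n16608 := d27_2 (iv F63754) D16697 (iv D16608)
theorem F65954 : act 7 n16697 = n16697 := d28_2 F63755 D16697 (iv D16697)
theorem F65955 : act 8 n16697 = n16481 := d29_2 (iv F63756) D16697 (iv D16481)
def n16698 : Q := act 1 n16107
theorem D16698 : act 1 n16107 = n16698 := rfl
theorem F65956 : act 2 n16698 = n16218 := d8_2 D16107 D16698 (iv D16218) (iv D15574) (iv F61117)
theorem F65957 : act 4 n16698 = n16559 := d10_2 (iv F63757) D16698 (iv D16559)
theorem F65958 : act 5 n16698 = n16475 := d11_2 F65946 D16698 (iv F65945)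
theorem F65959 : act 7 n16698 = n16698 := d13_2 F63758 D16698 (iv D16698)
theorem F65960 : act 8 n16698 = n16474 := d14_2 F64630 D16698 F65120
def n16699 : Q := act 4 n16108
theorem D16699 : act 4 n16108 = n16699 := rfl
theorem F65961 : act 1 n16699 = n16227 := d10_1 D16699 (iv D16227) (iv F63759)
theorem F65962 : act 2 n16699 = n16120 := d16_1 D16699 (iv D16120) (iv F63760)
theorem F65963 : act 3 n16699 = n16225 := d21_1 D16699 (iv D16225) (iv D15580) (iv F61122) D16108
theorem F65964 : act 6 n16699 = n16327 := d27_2 (iv F63762) D16699 (iv D16327)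
theorem F65965 : act 8 n16699 = n16136 := d29_2 (iv F63763) D16699 (iv D16136)
def n16700 : Q := act 4 n16109
theorem D16700 : act 4 n16109 = n16700 := rfl
theorem F65966 : act 0 n16700 = n16342 := d3_1 D16700 (iv D16342) (iv F63764)
theorem F65967 : act 1 n16700 = n16112 := d10_1 D16700 (iv D16112) (iv F63765)
theorem F65968 : act 2 n16700 = n16327 := d16_1 D16700 (iv D16327) (iv F63766)
theorem F65969 : act 3 n16700 = n16528 := d21_1 D16700 (iv D16528) (iv D15924) (iv F61129) D16109
theorem F65970 : act 6 n16700 = n16120 := d27_2 (iv F63768) D16700 (iv D16120)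
theorem F65971 : act 8 n16700 = n16141 := d29_2 (iv F63769) D16700 (iv D16141)
def n16701 : Q := act 3 n16110
theorem D16701 : act 3 n16110 = n16701 := rfl
theorem F65972 : act 1 n16701 = n16523 := d9_1 D16701 (iv D16523) (iv F63770)
theorem F65973 : act 5 n16701 = n16516 := d22_2 (iv F63772) D16701 (iv D16516)
theorem F65974 : act 6 n16701 = n16126 := d23_2 (iv F63773) D16701 (iv D16126)
theorem F65975 : act 7 n16701 = n16111 := d24_2 D16110 D16701 (iv D16111) (iv D15453) (iv F61135)
def n16702 : Q := act 2 n16111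
theorem D16702 : act 2 n16111 = n16702 := rfl
theorem F65976 : act 3 n16702 = n16113 := d15_2 D16111 D16702 (iv D16113) (iv D15455) (iv F61139)
theorem F65977 : act 5 n16702 = n16517 := d17_2 (iv F63775) D16702 (iv D16517)
theorem F65978 : act 6 n16702 = n16129 := d18_2 (iv F63776) D16702 (iv D16129)
theorem F65979 : act 8 n16702 = n16147 := d20_2 (iv F63777) D16702 (iv D16147)
def n16703 : Q := act 4 n16111
theorem D16703 : act 4 n16111 = n16703 := rfl
theorem F65980 : act 1 n16703 = n16528 := d10_1 D16703 (iv D16528) (iv F63774)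
theorem F65981 : act 3 n16703 = n16112 := d21_1 D16703 (iv D16112) (iv D15454) (iv F61140) D16111
theorem F65982 : act 6 n16703 = n16130 := d27_2 (iv F63776) D16703 (iv D16130)
theorem F65983 : act 8 n16703 = n16148 := d29_2 (iv F63777) D16703 (iv D16148)
def n16704 : Q := act 5 n16112
theorem D16704 : act 5 n16112 = n16704 := rfl
theorem F65984 : act 2 n16704 = n16386 := d17_1 D16704 (iv D16386) (iv F63778)
theorem F65985 : act 8 n16704 = n16149 := d32_2 (iv F63780) D16704 (iv D16149)
def n16705 : Q := act 1 n16113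
theorem D16705 : act 1 n16113 = n16705 := rfl
theorem F65986 : act 2 n16705 = n16204 := d8_2 D16113 D16705 (iv D16204) (iv D15544) (iv F61147)
theorem F65987 : act 4 n16705 = n16316 := d10_2 (iv F63781) D16705 F64589
theorem F65988 : act 5 n16705 = n16544 := d11_2 (iv F63782) D16705 (iv D16544)
theorem F65989 : act 6 n16705 = n16133 := d12_2 (iv F63783) D16705 (iv D16133)
theorem F65990 : act 7 n16705 = n16705 := d13_2 F63784 D16705 (iv D16705)
theorem F65991 : act 8 n16705 = n16152 := d14_2 (iv F63785) D16705 (iv D16152)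
theorem F65992 : act 0 n16545 = n16705 := d3_3 F65987 F64588 D16545
def n16706 : Q := act 4 n16114
theorem D16706 : act 4 n16114 = n16706 := rfl
theorem F65993 : act 0 n16706 = n16120 := d3_1 D16706 (iv D16120) (iv F63786)
theorem F65994 : act 3 n16706 = n16582 := d21_1 D16706 (iv D16582) (iv D15978) (iv F61155) D16114
theorem F65995 : act 6 n16706 = n16342 := d27_2 (iv F63788) D16706 (iv D16342)
theorem F65996 : act 8 n16706 = n16158 := d29_2 (iv F63789) D16706 (iv D16158)
def n16707 : Q := act 7 n16115
theorem D16707 : act 7 n16115 = n16707 := rfl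
theorem F65997 : act 0 n16707 = n16417 := d6_1 D16707 (iv D16417) (iv F63790)
theorem F65998 : act 1 n16707 = n16124 := d13_1 D16707 (iv D16124) (iv F63791)
theorem F65999 : act 2 n16707 = n16464 := d19_1 D16707 (iv D16464) (iv F63792)
theorem F66000 : act 5 n16707 = n16117 := d31_1 D16707 (iv D16117) (iv F63794)
theorem F66001 : act 6 n16707 = n16409 := d33_1 D16707 (iv D16409) (iv F63795)
def n16708 : Q := act 7 n16116
theorem D16708 : act 7 n16116 = n16708 := rfl
theorem F66002 : act 0 n16708 = n16397 := d6_1 D16708 (iv D16397) (iv F63796)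
theorem F66003 : act 1 n16708 = n16125 := d13_1 D16708 (iv D16125) (iv F63797)
theorem F66004 : act 2 n16708 = n16306 := d19_1 D16708 (iv D16306) (iv F63798)
theorem F66005 : act 4 n16708 = n16272 := d28_1 D16708 (iv D16272) (iv F63800)
theorem F66006 : act 6 n16708 = n16522 := d33_1 D16708 (iv D16522) (iv F63801)
theorem F66007 : act 8 n16708 = n16117 := d35_2 D16116 D16708 (iv D16117) (iv D15459) D15458
def n16709 : Q := act 3 n16117
theorem D16709 : act 3 n16117 = n16709 := rfl
theorem F66008 : act 0 n16709 = n16572 := d2_1 D16709 (iv D16572) (iv F63802)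
theorem F66009 : act 1 n16709 = n16126 := d9_1 D16709 (iv D16126) (iv F63803)
theorem F66010 : act 6 n16709 = n16523 := d23_2 (iv F63805) D16709 (iv D16523)
theorem F66011 : act 7 n16709 = n16119 := d24_2 D16117 D16709 (iv D16119) (iv D15461) (iv F61173)
def n16710 : Q := act 3 n16118
theorem D16710 : act 3 n16118 = n16710 := rfl
theorem F66012 : act 0 n16710 = n16423 := d2_1 D16710 (iv D16423) (iv F63806)
theorem F66013 : act 1 n16710 = n16128 := d9_1 D16710 (iv D16128) (iv F63807)
theorem F66014 : act 5 n16710 = n16119 := d22_2 (iv F63810) D16710 (iv D16119)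
theorem F66015 : act 6 n16710 = n16412 := d23_2 (iv F63811) D16710 (iv D16412)
theorem F66016 : act 8 n16710 = n16166 := d25_2 (iv F63812) D16710 (iv D16166)
def n16711 : Q := act 2 n16119
theorem D16711 : act 2 n16119 = n16711 := rfl
theorem F66017 : act 0 n16711 = n16581 := d1_1 D16711 (iv D16581) (iv F63813)
theorem F66018 : act 3 n16711 = n16205 := d15_2 D16119 D16711 (iv D16205) (iv D15546) (iv F61183)
theorem F66019 : act 6 n16711 = n16527 := d18_2 (iv F63815) D16711 (iv D16527)
theorem F66020 : act 8 n16711 = n16167 := d20_2 (iv F63816) D16711 (iv D16167)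
theorem F66021 : act 1 n16320 = n16711 := d9_3 F66018 F64124 D16320
def n16712 : Q := act 4 n16119
theorem D16712 : act 4 n16119 = n16712 := rfl
theorem F66022 : act 0 n16712 = n16582 := d3_1 D16712 (iv D16582) (iv F63813)
theorem F66023 : act 1 n16712 = n16130 := d10_1 D16712 (iv D16130) (iv F63814)
theorem F66024 : act 3 n16712 = n16120 := d21_1 D16712 (iv D16120) (iv D15462) (iv F61184) D16119
theorem F66025 : act 6 n16712 = n16528 := d27_2 (iv F63815) D16712 (iv D16528)
theorem F66026 : act 8 n16712 = n16168 := d29_2 (iv F63816) D16712 (iv D16168)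
def n16713 : Q := act 5 n16120
theorem D16713 : act 5 n16120 = n16713 := rfl
theorem F66027 : act 1 n16713 = n16131 := d11_1 D16713 (iv D16131) (iv F63817)
theorem F66028 : act 4 n16713 = n16386 := d26_1 D16713 (iv D16386) (iv D15752) (iv F61188) D16120
theorem F66029 : act 8 n16713 = n16169 := d32_2 (iv F63818) D16713 (iv D16169)
def n16714 : Q := act 7 n16121
theorem D16714 : act 7 n16121 = n16714 := rfl
theorem F66030 : act 2 n16714 = n16714 := d19_1 D16714 (iv D16714) F63819
theorem F66031 : act 4 n16714 = n16124 := d28_1 D16714 (iv D16124) (iv F63821)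
def n16715 : Q := act 7 n16122
theorem D16715 : act 7 n16122 = n16715 := rfl
theorem F66032 : act 0 n16715 = n16285 := d6_1 D16715 (iv D16285) (iv F63822)
theorem F66033 : act 1 n16715 = n16409 := d13_1 D16715 (iv D16409) (iv F63823)
theorem F66034 : act 2 n16715 = n16715 := d19_1 D16715 (iv D16715) F63824
theorem F66035 : act 5 n16715 = n16279 := d31_1 D16715 (iv D16279) (iv F63826)
theorem F66036 : act 6 n16715 = n16124 := d33_1 D16715 (iv D16124) (iv F63827)
theorem F66037 : act 8 n16715 = n16714 := d35_2 D16122 D16715 (iv D16714) (iv D16121) F61197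
def n16716 : Q := act 7 n16123
theorem D16716 : act 7 n16123 = n16716 := rfl
theorem F66038 : act 2 n16716 = n16716 := d19_1 D16716 (iv D16716) F63828
theorem F66039 : act 4 n16716 = n16715 := d28_1 D16716 (iv D16715) (iv F63830)
theorem F66040 : act 5 n16716 = n16125 := d31_1 D16716 (iv D16125) (iv F63831)
theorem F66041 : act 6 n16716 = n16714 := d33_1 D16716 (iv D16714) (iv F63832)
theorem F66042 : act 8 n16716 = n16124 := d35_2 D16123 D16716 (iv D16124) (iv D15466) D15465
def n16717 : Q := act 3 n16124
theorem D16717 : act 3 n16124 = n16717 := rfl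
theorem F66043 : act 5 n16717 = n16126 := d22_2 (iv F63834) D16717 (iv D16126)
theorem F66044 : act 7 n16717 = n16128 := d24_2 D16124 D16717 (iv D16128) (iv D15470) (iv F61204)
def n16718 : Q := act 3 n16125
theorem D16718 : act 3 n16125 = n16718 := rfl
theorem F66045 : act 7 n16718 = n16174 := d24_2 D16125 D16718 (iv D16174) (iv D15514) (iv F61207)
theorem F66046 : act 8 n16718 = n16126 := d25_2 (iv F63836) D16718 (iv D16126)
def n16719 : Q := act 2 n16126
theorem D16719 : act 2 n16126 = n16719 := rfl
theorem F66047 : act 3 n16719 = n16719 := d15_2 D16126 D16719 (iv D16719) (iv D16126) F61208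
theorem F66048 : act 7 n16719 = n16129 := d19_2 (iv F63837) D16719 (iv D16129)
def n16720 : Q := act 4 n16126
theorem D16720 : act 4 n16126 = n16720 := rfl
theorem F66049 : act 7 n16720 = n16130 := d28_2 (iv F63837) D16720 (iv D16130)
def n16721 : Q := act 3 n16127
theorem D16721 : act 3 n16127 = n16721 := rfl
theorem F66050 : act 0 n16721 = n16288 := d2_1 D16721 (iv D16288) (iv F63838)
theorem F66051 : act 1 n16721 = n16412 := d9_1 D16721 (iv D16412) (iv F63839)
theorem F66052 : act 5 n16721 = n16280 := d22_2 (iv F63842) D16721 (iv D16280)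
theorem F66053 : act 6 n16721 = n16128 := d23_2 (iv F63843) D16721 (iv D16128)
theorem F66054 : act 8 n16721 = n16177 := d25_2 (iv F63844) D16721 (iv D16177)
def n16722 : Q := act 2 n16128
theorem D16722 : act 2 n16128 = n16722 := rfl
theorem F66055 : act 3 n16722 = n16132 := d15_2 D16128 D16722 (iv D16132) (iv D15474) (iv F61215)
theorem F66056 : act 5 n16722 = n16129 := d17_2 (iv F63845) D16722 (iv D16129)
theorem F66057 : act 8 n16722 = n16178 := d20_2 (iv F63846) D16722 (iv D16178)
def n16723 : Q := act 4 n16128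
theorem D16723 : act 4 n16128 = n16723 := rfl
theorem F66058 : act 3 n16723 = n16394 := d21_1 D16723 (iv D16394) (iv D15760) (iv F61216) D16128
theorem F66059 : act 8 n16723 = n16179 := d29_2 (iv F63846) D16723 (iv D16179)
def n16724 : Q := act 1 n16129
theorem D16724 : act 1 n16129 = n16724 := rfl
theorem F66060 : act 2 n16724 = n16320 := d8_2 D16129 D16724 F66021 (iv D16711) F63814
theorem F66061 : act 3 n16724 = n16133 := d9_2 (iv F63847) D16724 (iv D16133)
theorem F66062 : act 8 n16724 = n16180 := d14_2 (iv F63848) D16724 (iv D16180)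
def n16725 : Q := act 4 n16129
theorem D16725 : act 4 n16129 = n16725 := rfl
theorem F66063 : act 2 n16725 = n16130 := d16_1 D16725 (iv D16130) D16129
theorem F66064 : act 3 n16725 = n16568 := d21_1 D16725 (iv D16568) F63153 (iv F61232) (iv F63847)
theorem F66065 : act 8 n16725 = n16181 := d29_2 (iv F63848) D16725 (iv D16181)
def n16726 : Q := act 5 n16130
theorem D16726 : act 5 n16130 = n16726 := rfl
theorem F66066 : act 3 n16726 = n16131 := d22_1 D16726 (iv D16131) (iv F63849)
theorem F66067 : act 8 n16726 = n16182 := d32_2 (iv F63850) D16726 (iv D16182)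
def n16727 : Q := act 6 n16131
theorem D16727 : act 6 n16131 = n16727 := rfl
theorem F66068 : act 2 n16727 = n16570 := d18_1 D16727 (iv D16570) (iv F63851)
theorem F66069 : act 4 n16727 = n16396 := d27_1 D16727 (iv D16396) (iv F63852)
theorem F66070 : act 8 n16727 = n16183 := d34_2 (iv F63853) D16727 (iv D16183)
def n16728 : Q := act 1 n16132
theorem D16728 : act 1 n16132 = n16728 := rfl
theorem F66071 : act 0 n16728 = n16215 := d0_1 D16728 (iv D16215) (iv F64163) (iv F65685) F65684
theorem F66072 : act 2 n16728 = n16206 := d8_2 D16132 D16728 (iv D16206) (iv D15547) (iv F61228)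
theorem F66073 : act 4 n16728 = n16315 := d10_2 F65857 D16728 (iv F65856)
theorem F66074 : act 5 n16728 = n16133 := d11_2 (iv F63854) D16728 (iv D16133)
theorem F66075 : act 6 n16728 = n16543 := d12_2 F65872 D16728 (iv F65870)
theorem F66076 : act 7 n16728 = n16728 := d13_2 F63855 D16728 (iv D16728)
theorem F66077 : act 8 n16728 = n16184 := d14_2 (iv F63856) D16728 (iv D16184)
def n16729 : Q := act 0 n16133
theorem D16729 : act 0 n16133 = n16729 := rfl
theorem F66078 : act 1 n16729 = n16213 := d0_2 D16133 D16729 F65697 (iv D16638) F63460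
theorem F66079 : act 2 n16729 = n16207 := d1_2 (iv F63857) D16729 (iv D16207)
theorem F66080 : act 4 n16729 = n16318 := d3_2 (iv F63858) D16729 F64599
theorem F66081 : act 5 n16729 = n16215 := d4_2 F66074 D16729 (iv F66071)
theorem F66082 : act 6 n16729 = n16545 := d5_2 F65989 D16729 F65992
theorem F66083 : act 7 n16729 = n16729 := d6_2 F63859 D16729 (iv D16729)
theorem F66084 : act 8 n16729 = n16185 := d7_2 (iv F63860) D16729 (iv D16185)
def n16730 : Q := act 3 n16134
theorem D16730 : act 3 n16134 = n16730 := rfl
theorem F66085 : act 1 n16730 = n16219 := d9_1 D16730 (iv D16219) (iv F63861)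
theorem F66086 : act 5 n16730 = n16500 := d22_2 (iv F63863) D16730 (iv D16500)
theorem F66087 : act 6 n16730 = n16332 := d23_2 (iv F63864) D16730 (iv D16332)
theorem F66088 : act 7 n16730 = n16135 := d24_2 D16134 D16730 (iv D16135) (iv D15477) (iv F61237)
theorem F66089 : act 8 n16730 = n16612 := d25_2 (iv F63865) D16730 (iv D16612)
def n16731 : Q := act 2 n16135
theorem D16731 : act 2 n16135 = n16731 := rfl
theorem F66090 : act 1 n16731 = n16254 := d8_1 D16731 (iv D16254) F61830 (iv F61661) (iv F63866)
theorem F66091 : act 3 n16731 = n16137 := d15_2 D16135 D16731 (iv D16137) (iv D15479) (iv F61241)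
theorem F66092 : act 5 n16731 = n16507 := d17_2 (iv F63867) D16731 (iv D16507)
theorem F66093 : act 6 n16731 = n16334 := d18_2 (iv F63868) D16731 (iv D16334)
theorem F66094 : act 8 n16731 = n16224 := d20_2 (iv F63869) D16731 (iv D16224)
def n16732 : Q := act 4 n16135
theorem D16732 : act 4 n16135 = n16732 := rfl
theorem F66095 : act 1 n16732 = n16220 := d10_1 D16732 (iv D16220) (iv F63866)
theorem F66096 : act 3 n16732 = n16136 := d21_1 D16732 (iv D16136) (iv D15478) (iv F61242) D16135
theorem F66097 : act 6 n16732 = n16335 := d27_2 (iv F63868) D16732 (iv D16335)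
theorem F66098 : act 8 n16732 = n16225 := d29_2 (iv F63869) D16732 (iv D16225)
def n16733 : Q := act 5 n16136
theorem D16733 : act 5 n16136 = n16733 := rfl
theorem F66099 : act 1 n16733 = n16329 := d11_1 D16733 (iv D16329) (iv F63870)
theorem F66100 : act 2 n16733 = n16169 := d17_1 D16733 (iv D16169) (iv F63871)
theorem F66101 : act 4 n16733 = n16149 := d26_1 D16733 (iv D16149) (iv D15490) (iv F61248) D16136
def n16734 : Q := act 4 n16138
theorem D16734 : act 4 n16138 = n16734 := rfl
theorem F66102 : act 0 n16734 = n16141 := d3_1 D16734 (iv D16141) (iv F63879)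
theorem F66103 : act 2 n16734 = n16266 := d16_1 D16734 (iv D16266) (iv F63880)
theorem F66104 : act 3 n16734 = n16567 := d21_1 D16734 (iv D16567) (iv D15966) (iv F61258) D16138
theorem F66105 : act 6 n16734 = n16158 := d27_2 (iv F63882) D16734 (iv D16158)
theorem F66106 : act 7 n16734 = n16641 := d28_2 (iv F63883) D16734 (iv D16641)
theorem F66107 : act 8 n16734 = n16342 := d29_2 (iv F63884) D16734 (iv D16342)
def n16735 : Q := act 3 n16139
theorem D16735 : act 3 n16139 = n16735 := rfl
theorem F66108 : act 0 n16735 = n16562 := d2_1 D16735 (iv D16562) (iv F63885)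
theorem F66109 : act 1 n16735 = n16144 := d9_1 D16735 (iv D16144) (iv F63886)
theorem F66110 : act 5 n16735 = n16510 := d22_2 (iv F63889) D16735 (iv D16510)
theorem F66111 : act 6 n16735 = n16164 := d23_2 (iv F63890) D16735 (iv D16164)
theorem F66112 : act 7 n16735 = n16140 := d24_2 D16139 D16735 (iv D16140) (iv D15482) (iv F61265)
def n16736 : Q := act 2 n16140
theorem D16736 : act 2 n16140 = n16736 := rfl
theorem F66113 : act 0 n16736 = n16566 := d1_1 D16736 (iv D16566) (iv F63891)
theorem F66114 : act 3 n16736 = n16208 := d15_2 D16140 D16736 (iv D16208) (iv D15549) (iv F61271)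
theorem F66115 : act 5 n16736 = n16511 := d17_2 (iv F63893) D16736 (iv D16511)
theorem F66116 : act 6 n16736 = n16167 := d18_2 (iv F63894) D16736 (iv D16167)
theorem F66117 : act 8 n16736 = n16527 := d20_2 (iv F63895) D16736 (iv D16527)
def n16737 : Q := act 4 n16140
theorem D16737 : act 4 n16140 = n16737 := rfl
theorem F66118 : act 0 n16737 = n16567 := d3_1 D16737 (iv D16567) (iv F63891)
theorem F66119 : act 1 n16737 = n16148 := d10_1 D16737 (iv D16148) (iv F63892)
theorem F66120 : act 3 n16737 = n16141 := d21_1 D16737 (iv D16141) (iv D15483) (iv F61272) D16140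
theorem F66121 : act 6 n16737 = n16168 := d27_2 (iv F63894) D16737 (iv D16168)
theorem F66122 : act 8 n16737 = n16528 := d29_2 (iv F63895) D16737 (iv D16528)
def n16738 : Q := act 5 n16141
theorem D16738 : act 5 n16141 = n16738 := rfl
theorem F66123 : act 1 n16738 = n16149 := d11_1 D16738 (iv D16149) (iv F63896)
theorem F66124 : act 2 n16738 = n16336 := d17_1 D16738 (iv D16336) (iv F63897)
theorem F66125 : act 4 n16738 = n16329 := d26_1 D16738 (iv D16329) (iv D15695) (iv F61278) D16141
theorem F66126 : act 7 n16738 = n16733 := d31_2 (iv F63899) D16738 (iv D16733)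
def n16739 : Q := act 7 n16142
theorem D16739 : act 7 n16142 = n16739 := rfl
theorem F66127 : act 0 n16739 = n16252 := d6_1 D16739 (iv D16252) (iv F63900)
theorem F66128 : act 1 n16739 = n16375 := d13_1 D16739 (iv D16375) (iv F63901)
theorem F66129 : act 2 n16739 = n16186 := d19_1 D16739 (iv D16186) (iv F63902)
theorem F66130 : act 5 n16739 = n16171 := d31_1 D16739 (iv D16171) (iv F63904)
theorem F66131 : act 6 n16739 = n16143 := d33_1 D16739 (iv D16143) (iv F63905)
def n16740 : Q := act 3 n16143
theorem D16740 : act 3 n16143 = n16740 := rfl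
theorem F66132 : act 0 n16740 = n16437 := d2_1 D16740 F64981 (iv F63906)
theorem F66133 : act 1 n16740 = n16510 := d9_1 D16740 (iv D16510) (iv F63907)
theorem F66134 : act 5 n16740 = n16144 := d22_2 (iv F63909) D16740 (iv D16144)
theorem F66135 : act 7 n16740 = n16146 := d24_2 D16143 D16740 (iv D16146) (iv D15488) (iv F61289)
def n16741 : Q := act 2 n16144
theorem D16741 : act 2 n16144 = n16741 := rfl
theorem F66136 : act 3 n16741 = n16188 := d15_2 D16144 D16741 (iv D16188) (iv D15525) (iv F61291)
theorem F66137 : act 6 n16741 = n16175 := d18_2 (iv F63910) D16741 (iv D16175)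
theorem F66138 : act 7 n16741 = n16147 := d19_2 (iv F63911) D16741 (iv D16147)
def n16742 : Q := act 4 n16144
theorem D16742 : act 4 n16144 = n16742 := rfl
theorem F66139 : act 6 n16742 = n16176 := d27_2 (iv F63910) D16742 (iv D16176)
theorem F66140 : act 7 n16742 = n16148 := d28_2 (iv F63911) D16742 (iv D16148)
def n16743 : Q := act 3 n16145
theorem D16743 : act 3 n16145 = n16743 := rfl
theorem F66141 : act 0 n16743 = n16253 := d2_1 D16743 (iv D16253) (iv F63912)
theorem F66142 : act 1 n16743 = n16376 := d9_1 D16743 (iv D16376) (iv F63913)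
theorem F66143 : act 2 n16743 = n16586 := d15_1 D16743 F65470 F63190 (iv F61310) (iv F63914)
theorem F66144 : act 5 n16743 = n16177 := d22_2 (iv F63916) D16743 (iv D16177)
theorem F66145 : act 6 n16743 = n16146 := d23_2 (iv F63917) D16743 (iv D16146)
theorem F66146 : act 8 n16743 = n16280 := d25_2 (iv F63918) D16743 (iv D16280)
def n16744 : Q := act 2 n16146
theorem D16744 : act 2 n16146 = n16744 := rfl
theorem F66147 : act 0 n16744 = n16426 := d1_1 D16744 F64957 (iv F63919)
theorem F66148 : act 3 n16744 = n16150 := d15_2 D16146 D16744 (iv D16150) (iv D15492) (iv F61301)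
theorem F66149 : act 5 n16744 = n16147 := d17_2 (iv F63921) D16744 (iv D16147)
theorem F66150 : act 6 n16744 = n16586 := d18_2 F66145 D16744 (iv F66143)
theorem F66151 : act 8 n16744 = n16517 := d20_2 (iv F63922) D16744 (iv D16517)
def n16745 : Q := act 4 n16146
theorem D16745 : act 4 n16146 = n16745 := rfl
theorem F66152 : act 0 n16745 = n16443 := d3_1 D16745 (iv D16443) (iv F63919)
theorem F66153 : act 1 n16745 = n16512 := d10_1 D16745 (iv D16512) (iv F63920)
theorem F66154 : act 3 n16745 = n16508 := d21_1 D16745 (iv D16508) (iv D15908) (iv F61302) D16146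
theorem F66155 : act 8 n16745 = n16518 := d29_2 (iv F63922) D16745 (iv D16518)
def n16746 : Q := act 1 n16147
theorem D16746 : act 1 n16147 = n16746 := rfl
theorem F66156 : act 3 n16746 = n16152 := d9_2 (iv F63923) D16746 (iv D16152)
theorem F66157 : act 6 n16746 = n16180 := d12_2 (iv F63924) D16746 (iv D16180)
def n16747 : Q := act 4 n16147
theorem D16747 : act 4 n16147 = n16747 := rfl
theorem F66158 : act 2 n16747 = n16148 := d16_1 D16747 (iv D16148) D16147
theorem F66159 : act 3 n16747 = n16427 := d21_1 D16747 (iv D16427) F62492 (iv F61321) (iv F63923)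
theorem F66160 : act 6 n16747 = n16181 := d27_2 (iv F63924) D16747 (iv D16181)
def n16748 : Q := act 5 n16148
theorem D16748 : act 5 n16148 = n16748 := rfl
theorem F66161 : act 3 n16748 = n16149 := d22_1 D16748 (iv D16149) (iv F63925)
def n16749 : Q := act 6 n16149
theorem D16749 : act 6 n16149 = n16749 := rfl
theorem F66162 : act 2 n16749 = n16429 := d18_1 D16749 (iv D16429) (iv F63927)
theorem F66163 : act 5 n16749 = n16183 := d30_1 D16749 (iv D16183) (iv D15520) (iv F61307) D16149
def n16750 : Q := act 1 n16150
theorem D16750 : act 1 n16150 = n16750 := rfl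
theorem F66164 : act 0 n16750 = n16457 := d0_1 D16750 (iv D16457) F62615 D15830 (iv F63928)
theorem F66165 : act 2 n16750 = n16210 := d8_2 D16150 D16750 (iv D16210) (iv D15551) (iv F61316)
theorem F66166 : act 5 n16750 = n16152 := d11_2 (iv F63929) D16750 (iv D16152)
theorem F66167 : act 6 n16750 = n16533 := d12_2 (iv F63930) D16750 F65324
theorem F66168 : act 7 n16750 = n16192 := d13_2 (iv F63931) D16750 (iv D16192)
theorem F66169 : act 8 n16750 = n16544 := d14_2 (iv F63932) D16750 (iv D16544)
theorem F66170 : act 4 n16456 = n16750 := d28_3 F66168 (iv F64072) (iv F65046)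
def n16751 : Q := act 4 n16150
theorem D16751 : act 4 n16150 = n16751 := rfl
theorem F66171 : act 0 n16751 = n16152 := d3_1 D16751 F63941 (iv F63928)
theorem F66172 : act 1 n16751 = n16456 := d10_1 D16751 F66170 (iv D16750)
theorem F66173 : act 2 n16751 = n16151 := d16_1 D16751 (iv D16151) D16150
theorem F66174 : act 5 n16751 = n16457 := d26_2 (iv F63929) D16751 F65048 F62618 (iv F61321)
theorem F66175 : act 6 n16751 = n16185 := d27_2 (iv F63930) D16751 F64038
theorem F66176 : act 7 n16751 = n16193 := d28_2 (iv F63931) D16751 (iv D16193)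
theorem F66177 : act 8 n16751 = n16545 := d29_2 (iv F63932) D16751 (iv D16545)
def n16752 : Q := act 7 n16153
theorem D16752 : act 7 n16153 = n16752 := rfl
theorem F66178 : act 0 n16752 = n16162 := d6_1 D16752 (iv D16162) (iv F63944)
theorem F66179 : act 1 n16752 = n16388 := d13_1 D16752 (iv D16388) (iv F63945)
theorem F66180 : act 2 n16752 = n16752 := d19_1 D16752 (iv D16752) F63946
theorem F66181 : act 5 n16752 = n16155 := d31_1 D16752 (iv D16155) (iv F63948)
theorem F66182 : act 6 n16752 = n16380 := d33_1 D16752 (iv D16380) (iv F63949)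
def n16753 : Q := act 7 n16154
theorem D16753 : act 7 n16154 = n16753 := rfl
theorem F66183 : act 0 n16753 = n16163 := d6_1 D16753 (iv D16163) (iv F63950)
theorem F66184 : act 1 n16753 = n16337 := d13_1 D16753 (iv D16337) (iv F63951)
theorem F66185 : act 2 n16753 = n16753 := d19_1 D16753 (iv D16753) F63952
theorem F66186 : act 4 n16753 = n16330 := d28_1 D16753 (iv D16330) (iv F63954)
theorem F66187 : act 6 n16753 = n16561 := d33_1 D16753 (iv D16561) (iv F63955)
theorem F66188 : act 8 n16753 = n16155 := d35_2 D16154 D16753 (iv D16155) (iv D15496) D15495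
def n16754 : Q := act 3 n16155
theorem D16754 : act 3 n16155 = n16754 := rfl
theorem F66189 : act 0 n16754 = n16164 := d2_1 D16754 (iv D16164) (iv F63956)
theorem F66190 : act 6 n16754 = n16562 := d23_2 (iv F63958) D16754 (iv D16562)
theorem F66191 : act 7 n16754 = n16157 := d24_2 D16155 D16754 (iv D16157) (iv D15498) (iv F61337)
def n16755 : Q := act 3 n16156
theorem D16755 : act 3 n16156 = n16755 := rfl
theorem F66192 : act 0 n16755 = n16166 := d2_1 D16755 (iv D16166) (iv F63959)
theorem F66193 : act 1 n16755 = n16393 := d9_1 D16755 (iv D16393) (iv F63960)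
theorem F66194 : act 5 n16755 = n16157 := d22_2 (iv F63963) D16755 (iv D16157)
theorem F66195 : act 6 n16755 = n16383 := d23_2 (iv F63964) D16755 (iv D16383)
theorem F66196 : act 8 n16755 = n16423 := d25_2 (iv F63965) D16755 (iv D16423)
def n16756 : Q := act 2 n16157
theorem D16756 : act 2 n16157 = n16756 := rfl
theorem F66197 : act 0 n16756 = n16167 := d1_1 D16756 (iv D16167) (iv F63966)
theorem F66198 : act 3 n16756 = n16211 := d15_2 D16157 D16756 (iv D16211) (iv D15555) (iv F61346)
theorem F66199 : act 6 n16756 = n16566 := d18_2 (iv F63967) D16756 (iv D16566)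
theorem F66200 : act 8 n16756 = n16581 := d20_2 (iv F63968) D16756 (iv D16581)
def n16757 : Q := act 4 n16157
theorem D16757 : act 4 n16157 = n16757 := rfl
theorem F66201 : act 0 n16757 = n16168 := d3_1 D16757 (iv D16168) (iv F63966)
theorem F66202 : act 3 n16757 = n16158 := d21_1 D16757 (iv D16158) (iv D15499) (iv F61347) D16157
theorem F66203 : act 6 n16757 = n16567 := d27_2 (iv F63967) D16757 (iv D16567)
theorem F66204 : act 8 n16757 = n16582 := d29_2 (iv F63968) D16757 (iv D16582)
def n16758 : Q := act 5 n16158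
theorem D16758 : act 5 n16158 = n16758 := rfl
theorem F66205 : act 0 n16758 = n16169 := d4_1 D16758 (iv D16169) (iv F63969)
theorem F66206 : act 4 n16758 = n16415 := d26_1 D16758 (iv D16415) (iv D15780) (iv F61351) D16158
def n16759 : Q := act 7 n16159
theorem D16759 : act 7 n16159 = n16759 := rfl
theorem F66207 : act 1 n16759 = n16170 := d13_1 D16759 (iv D16170) (iv F63970)
theorem F66208 : act 2 n16759 = n16759 := d19_1 D16759 (iv D16759) F63971
theorem F66209 : act 4 n16759 = n16162 := d28_1 D16759 (iv D16162) (iv F63973)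
theorem F66210 : act 5 n16759 = n16753 := d31_1 D16759 (iv D16753) (iv F63974)
theorem F66211 : act 8 n16759 = n16752 := d35_2 D16159 D16759 (iv D16752) (iv D16153) F61356
def n16760 : Q := act 7 n16160
theorem D16760 : act 7 n16160 = n16760 := rfl
theorem F66212 : act 0 n16760 = n16380 := d6_1 D16760 (iv D16380) (iv F63975)
theorem F66213 : act 1 n16760 = n16171 := d13_1 D16760 (iv D16171) (iv F63976)
theorem F66214 : act 2 n16760 = n16760 := d19_1 D16760 (iv D16760) F63977
theorem F66215 : act 5 n16760 = n16375 := d31_1 D16760 (iv D16375) (iv F63979)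
theorem F66216 : act 6 n16760 = n16162 := d33_1 D16760 (iv D16162) (iv F63980)
def n16761 : Q := act 7 n16161
theorem D16761 : act 7 n16161 = n16761 := rfl
theorem F66217 : act 0 n16761 = n16759 := d6_1 D16761 (iv D16759) (iv F63981)
theorem F66218 : act 1 n16761 = n16172 := d13_1 D16761 (iv D16172) (iv F63982)
theorem F66219 : act 2 n16761 = n16761 := d19_1 D16761 (iv D16761) F63983
theorem F66220 : act 4 n16761 = n16752 := d28_1 D16761 (iv D16752) (iv F63984)
theorem F66221 : act 5 n16761 = n16163 := d31_1 D16761 (iv D16163) (iv F63985)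
theorem F66222 : act 8 n16761 = n16162 := d35_2 D16161 D16761 (iv D16162) (iv D15503) D15502
def n16762 : Q := act 3 n16162
theorem D16762 : act 3 n16162 = n16762 := rfl
theorem F66223 : act 1 n16762 = n16173 := d9_1 D16762 (iv D16173) (iv F63986)
theorem F66224 : act 5 n16762 = n16164 := d22_2 (iv F63988) D16762 (iv D16164)
theorem F66225 : act 7 n16762 = n16166 := d24_2 D16162 D16762 (iv D16166) (iv D15507) (iv F61369)
def n16763 : Q := act 3 n16163
theorem D16763 : act 3 n16163 = n16763 := rfl
theorem F66226 : act 1 n16763 = n16174 := d9_1 D16763 (iv D16174) (iv F63989)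
theorem F66227 : act 8 n16763 = n16164 := d25_2 (iv F63991) D16763 (iv D16164)
def n16764 : Q := act 2 n16164
theorem D16764 : act 2 n16164 = n16764 := rfl
theorem F66228 : act 3 n16764 = n16764 := d15_2 D16164 D16764 (iv D16764) (iv D16164) F61374
theorem F66229 : act 7 n16764 = n16167 := d19_2 (iv F63993) D16764 (iv D16167)
def n16765 : Q := act 4 n16164
theorem D16765 : act 4 n16164 = n16765 := rfl
theorem F66230 : act 1 n16765 = n16176 := d10_1 D16765 (iv D16176) (iv F63992)
theorem F66231 : act 7 n16765 = n16168 := d28_2 (iv F63993) D16765 (iv D16168)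
def n16766 : Q := act 3 n16165
theorem D16766 : act 3 n16165 = n16766 := rfl
theorem F66232 : act 0 n16766 = n16383 := d2_1 D16766 (iv D16383) (iv F63994)
theorem F66233 : act 1 n16766 = n16177 := d9_1 D16766 (iv D16177) (iv F63995)
theorem F66234 : act 5 n16766 = n16376 := d22_2 (iv F63998) D16766 (iv D16376)
theorem F66235 : act 6 n16766 = n16166 := d23_2 (iv F63999) D16766 (iv D16166)
theorem F66236 : act 8 n16766 = n16412 := d25_2 (iv F64000) D16766 (iv D16412)
def n16767 : Q := act 2 n16166
theorem D16767 : act 2 n16166 = n16767 := rfl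
theorem F66237 : act 3 n16767 = n16213 := d15_2 D16166 D16767 (iv D16213) (iv D15557) (iv F61382)
theorem F66238 : act 5 n16767 = n16167 := d17_2 (iv F64002) D16767 (iv D16167)
def n16768 : Q := act 4 n16166
theorem D16768 : act 4 n16166 = n16768 := rfl
theorem F66239 : act 1 n16768 = n16179 := d10_1 D16768 (iv D16179) (iv F64001)
theorem F66240 : act 3 n16768 = n16425 := d21_1 D16768 (iv D16425) (iv D15788) (iv F61383) D16166
def n16769 : Q := act 1 n16167
theorem D16769 : act 1 n16167 = n16769 := rfl
theorem F66241 : act 2 n16769 = n16180 := d8_2 D16167 D16769 (iv D16180) (iv D15518) (iv F61385)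
theorem F66242 : act 3 n16769 = n16215 := d9_2 (iv F64003) D16769 (iv D16215)
theorem F66243 : act 8 n16769 = n16320 := d14_2 F66020 D16769 F66021
def n16770 : Q := act 4 n16167
theorem D16770 : act 4 n16167 = n16770 := rfl
theorem F66244 : act 2 n16770 = n16168 := d16_1 D16770 (iv D16168) D16167
def n16771 : Q := act 5 n16168
theorem D16771 : act 5 n16168 = n16771 := rfl
theorem F66245 : act 1 n16771 = n16182 := d11_1 D16771 (iv D16182) (iv F64004)
theorem F66246 : act 3 n16771 = n16169 := d22_1 D16771 (iv D16169) (iv F64005)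
def n16772 : Q := act 6 n16169
theorem D16772 : act 6 n16169 = n16772 := rfl
theorem F66247 : act 1 n16772 = n16183 := d12_1 D16772 (iv D16183) (iv F64006)
theorem F66248 : act 4 n16772 = n16429 := d27_1 D16772 (iv D16429) (iv F64007)
def n16773 : Q := act 3 n16170
theorem D16773 : act 3 n16170 = n16773 := rfl
theorem F66249 : act 7 n16773 = n16430 := d24_2 D16170 D16773 (iv D16430) (iv D15792) (iv F61388)
def n16774 : Q := act 3 n16171
theorem D16774 : act 3 n16171 = n16774 := rfl
theorem F66250 : act 6 n16774 = n16173 := d23_2 (iv F64011) D16774 (iv D16173)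
theorem F66251 : act 7 n16774 = n16177 := d24_2 D16171 D16774 (iv D16177) (iv D15516) (iv F61391)
def n16775 : Q := act 3 n16172
theorem D16775 : act 3 n16172 = n16775 := rfl
theorem F66252 : act 5 n16775 = n16174 := d22_2 (iv F64013) D16775 (iv D16174)
theorem F66253 : act 8 n16775 = n16173 := d25_2 (iv F64014) D16775 (iv D16173)
def n16776 : Q := act 2 n16173
theorem D16776 : act 2 n16173 = n16776 := rfl
theorem F66254 : act 3 n16776 = n16196 := d15_2 D16173 D16776 (iv D16196) (iv D15534) (iv F61395)
theorem F66255 : act 5 n16776 = n16175 := d17_2 (iv F64015) D16776 (iv D16175)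
theorem F66256 : act 7 n16776 = n16178 := d19_2 (iv F64016) D16776 (iv D16178)
def n16777 : Q := act 4 n16173
theorem D16777 : act 4 n16173 = n16777 := rfl
theorem F66257 : act 7 n16777 = n16179 := d28_2 (iv F64016) D16777 (iv D16179)
def n16778 : Q := act 2 n16174
theorem D16778 : act 2 n16174 = n16778 := rfl
theorem F66258 : act 3 n16778 = n16197 := d15_2 D16174 D16778 (iv D16197) (iv D15535) (iv F61397)
theorem F66259 : act 8 n16778 = n16175 := d20_2 (iv F64017) D16778 (iv D16175)
def n16779 : Q := act 4 n16174
theorem D16779 : act 4 n16174 = n16779 := rfl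
theorem F66260 : act 8 n16779 = n16176 := d29_2 (iv F64017) D16779 (iv D16176)
def n16780 : Q := act 1 n16175
theorem D16780 : act 1 n16175 = n16780 := rfl
theorem F66261 : act 3 n16780 = n16199 := d9_2 (iv F64018) D16780 (iv D16199)
theorem F66262 : act 7 n16780 = n16180 := d13_2 (iv F64019) D16780 (iv D16180)
def n16781 : Q := act 4 n16175
theorem D16781 : act 4 n16175 = n16781 := rfl
theorem F66263 : act 2 n16781 = n16176 := d16_1 D16781 (iv D16176) D16175
theorem F66264 : act 7 n16781 = n16181 := d28_2 (iv F64019) D16781 (iv D16181)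
def n16782 : Q := act 5 n16176
theorem D16782 : act 5 n16176 = n16782 := rfl
theorem F66265 : act 7 n16782 = n16182 := d31_2 (iv F64020) D16782 (iv D16182)
def n16783 : Q := act 4 n16177
theorem D16783 : act 4 n16177 = n16783 := rfl
theorem F66266 : act 3 n16783 = n16440 := d21_1 D16783 (iv D16440) (iv D15799) (iv F61401) D16177
theorem F66267 : act 6 n16783 = n16179 := d27_2 (iv F64021) D16783 (iv D16179)
def n16784 : Q := act 1 n16178
theorem D16784 : act 1 n16178 = n16784 := rfl
theorem F66268 : act 0 n16784 = n16320 := d0_1 D16784 F66021 F66017 (iv F65815) F65814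
theorem F66269 : act 3 n16784 = n16184 := d9_2 (iv F64022) D16784 (iv D16184)
theorem F66270 : act 5 n16784 = n16180 := d11_2 (iv F64023) D16784 (iv D16180)
theorem F66271 : act 6 n16784 = n16546 := d12_2 F65880 D16784 (iv F65877)
def n16785 : Q := act 4 n16178
theorem D16785 : act 4 n16178 = n16785 := rfl
theorem F66272 : act 2 n16785 = n16179 := d16_1 D16785 (iv D16179) D16178
def n16786 : Q := act 5 n16179
theorem D16786 : act 5 n16179 = n16786 := rfl
theorem F66273 : act 3 n16786 = n16442 := d22_1 D16786 (iv D16442) (iv F64024)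
theorem F66274 : act 4 n16786 = n16182 := d26_1 D16786 (iv D16182) (iv D15519) (iv F61403) D16179
def n16787 : Q := act 0 n16180
theorem D16787 : act 0 n16180 = n16787 := rfl
theorem F66275 : act 3 n16787 = n16185 := d2_2 (iv F64025) D16787 (iv D16185)
theorem F66276 : act 5 n16787 = n16320 := d4_2 F66270 D16787 (iv F66268)
def n16788 : Q := act 4 n16180
theorem D16788 : act 4 n16180 = n16788 := rfl
theorem F66277 : act 1 n16788 = n16181 := d10_1 D16788 (iv D16181) D16180
theorem F66278 : act 3 n16788 = n16587 := d21_1 D16788 (iv D16587) F63179 (iv F61411) (iv F64025)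
def n16789 : Q := act 5 n16181
theorem D16789 : act 5 n16181 = n16789 := rfl
theorem F66279 : act 2 n16789 = n16182 := d17_1 D16789 (iv D16182) (iv F64026)
theorem F66280 : act 3 n16789 = n16588 := d22_1 D16789 (iv D16588) (iv F64027)
def n16790 : Q := act 6 n16182
theorem D16790 : act 6 n16182 = n16790 := rfl
theorem F66281 : act 3 n16790 = n16183 := d23_1 D16790 (iv D16183) (iv F64028)
def n16791 : Q := act 2 n16187
theorem D16791 : act 2 n16187 = n16791 := rfl
theorem F66282 : act 0 n16791 = n16477 := d1_1 D16791 F65132 (iv F64046)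
theorem F66283 : act 5 n16791 = n16188 := d17_2 (iv F64048) D16791 (iv D16188)
theorem F66284 : act 6 n16791 = n16599 := d18_2 (iv F64049) D16791 F65506
theorem F66285 : act 7 n16791 = n16189 := d19_2 (iv F64050) D16791 (iv D16189)
def n16792 : Q := act 4 n16187
theorem D16792 : act 4 n16187 = n16792 := rfl
theorem F66286 : act 0 n16792 = n16481 := d3_1 D16792 (iv D16481) (iv F64046)
theorem F66287 : act 1 n16792 = n16792 := d10_1 D16792 (iv D16792) F64047
theorem F66288 : act 6 n16792 = n16609 := d27_2 (iv F64049) D16792 (iv D16609)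
theorem F66289 : act 7 n16792 = n16190 := d28_2 (iv F64050) D16792 (iv D16190)
def n16793 : Q := act 1 n16188
theorem D16793 : act 1 n16188 = n16793 := rfl
theorem F66290 : act 2 n16793 = n16793 := d8_2 D16188 D16793 (iv D16793) (iv D16188) F61421
theorem F66291 : act 6 n16793 = n16199 := d12_2 (iv F64051) D16793 (iv D16199)
theorem F66292 : act 7 n16793 = n16191 := d13_2 (iv F64052) D16793 (iv D16191)
def n16794 : Q := act 1 n16189
theorem D16794 : act 1 n16189 = n16794 := rfl
theorem F66293 : act 0 n16794 = n16471 := d0_1 D16794 (iv D16471) F62728 D15862 (iv F64053)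
theorem F66294 : act 2 n16794 = n16794 := d8_2 D16189 D16794 (iv D16794) (iv D16189) F61425
theorem F66295 : act 3 n16794 = n16192 := d9_2 (iv F64054) D16794 (iv D16192)
theorem F66296 : act 5 n16794 = n16191 := d11_2 (iv F64055) D16794 (iv D16191)
theorem F66297 : act 6 n16794 = n16541 := d12_2 (iv F64056) D16794 F65360
theorem F66298 : act 8 n16794 = n16794 := d14_2 F64057 D16794 (iv D16794)
def n16795 : Q := act 4 n16189
theorem D16795 : act 4 n16189 = n16795 := rfl
theorem F66299 : act 0 n16795 = n16479 := d3_1 D16795 (iv D16479) (iv F64053)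
theorem F66300 : act 2 n16795 = n16190 := d16_1 D16795 (iv D16190) D16189
theorem F66301 : act 6 n16795 = n16602 := d27_2 (iv F64056) D16795 (iv D16602)
theorem F66302 : act 8 n16795 = n16795 := d29_2 F64057 D16795 (iv D16795)
def n16796 : Q := act 0 n16191
theorem D16796 : act 0 n16191 = n16796 := rfl
theorem F66303 : act 1 n16796 = n16470 := d0_2 D16191 D16796 F65101 (iv F62861) F62860
theorem F66304 : act 2 n16796 = n16796 := d1_2 F64063 D16796 (iv D16796)
theorem F66305 : act 3 n16796 = n16193 := d2_2 (iv F64064) D16796 F64073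
theorem F66306 : act 5 n16796 = n16471 := d4_2 F66296 D16796 (iv F66293)
theorem F66307 : act 6 n16796 = n16202 := d5_2 (iv F64065) D16796 (iv D16202)
theorem F66308 : act 8 n16796 = n16796 := d7_2 F64066 D16796 (iv D16796)
def n16797 : Q := act 2 n16195
theorem D16797 : act 2 n16195 = n16797 := rfl
theorem F66309 : act 5 n16797 = n16197 := d17_2 (iv F64085) D16797 (iv D16197)
theorem F66310 : act 7 n16797 = n16797 := d19_2 F64086 D16797 (iv D16797)
theorem F66311 : act 8 n16797 = n16196 := d20_2 (iv F64087) D16797 (iv D16196)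
def n16798 : Q := act 1 n16196
theorem D16798 : act 1 n16196 = n16798 := rfl
theorem F66312 : act 2 n16798 = n16798 := d8_2 D16196 D16798 (iv D16798) (iv D16196) F61453
theorem F66313 : act 5 n16798 = n16199 := d11_2 (iv F64088) D16798 (iv D16199)
theorem F66314 : act 6 n16798 = n16547 := d12_2 F65885 D16798 (iv F65882)
theorem F66315 : act 7 n16798 = n16201 := d13_2 (iv F64089) D16798 (iv D16201)
theorem F66316 : act 0 n16322 = n16798 := d6_3 F66315 (iv F64107) D16322
def n16799 : Q := act 1 n16197
theorem D16799 : act 1 n16197 = n16799 := rfl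
theorem F66317 : act 2 n16799 = n16799 := d8_2 D16197 D16799 (iv D16799) (iv D16197) F61456
theorem F66318 : act 7 n16799 = n16799 := d13_2 F64090 D16799 (iv D16799)
theorem F66319 : act 8 n16799 = n16199 := d14_2 (iv F64091) D16799 (iv D16199)
def n16800 : Q := act 4 n16197
theorem D16800 : act 4 n16197 = n16800 := rfl
theorem F66320 : act 0 n16800 = n16459 := d3_1 D16800 (iv F65841) F65840
theorem F66321 : act 2 n16800 = n16198 := d16_1 D16800 (iv D16198) D16197
theorem F66322 : act 6 n16800 = n16506 := d27_2 F65595 D16800 (iv F65594)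
theorem F66323 : act 7 n16800 = n16800 := d28_2 F64090 D16800 (iv D16800)
theorem F66324 : act 8 n16800 = n16200 := d29_2 (iv F64091) D16800 (iv D16200)
def n16801 : Q := act 0 n16199
theorem D16801 : act 0 n16199 = n16801 := rfl
theorem F66325 : act 2 n16801 = n16801 := d1_2 F64098 D16801 (iv D16801)
theorem F66326 : act 5 n16801 = n16322 := d4_2 F66313 D16801 F66316
theorem F66327 : act 7 n16801 = n16202 := d6_2 (iv F64099) D16801 (iv D16202)
def n16802 : Q := act 4 n16199
theorem D16802 : act 4 n16199 = n16802 := rfl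
theorem F66328 : act 1 n16802 = n16200 := d10_1 D16802 (iv D16200) D16199
theorem F66329 : act 2 n16802 = n16802 := d16_1 D16802 (iv D16802) F64098
theorem F66330 : act 7 n16802 = n16203 := d28_2 (iv F64099) D16802 (iv D16203)
def n16803 : Q := act 3 n16200
theorem D16803 : act 3 n16200 = n16803 := rfl
theorem F66331 : act 7 n16803 = n16601 := d24_2 (iv F64101) D16803 (iv D16601) F63221 (iv F61474)
def n16804 : Q := act 4 n16202
theorem D16804 : act 4 n16202 = n16804 := rfl
theorem F66332 : act 0 n16804 = n16203 := d3_1 D16804 (iv D16203) D16202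
theorem F66333 : act 2 n16804 = n16804 := d16_1 D16804 (iv D16804) F64108
theorem F66334 : act 3 n16804 = n16602 := d21_1 D16804 (iv D16602) F63238 (iv F61483) (iv F64109)
theorem F66335 : act 8 n16804 = n16804 := d29_2 F64111 D16804 (iv D16804)
def n16805 : Q := act 1 n16208
theorem D16805 : act 1 n16208 = n16805 := rfl
theorem F66336 : act 0 n16805 = n16543 := d0_1 D16805 (iv F65870) F65869 F64603 (iv F64143)
theorem F66337 : act 2 n16805 = n16209 := d8_2 D16208 D16805 (iv D16209) (iv D15550) (iv F61517)
theorem F66338 : act 4 n16805 = n16314 := d10_2 (iv F64144) D16805 F64580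
theorem F66339 : act 5 n16805 = n16514 := d11_2 (iv F64145) D16805 (iv D16514)
theorem F66340 : act 6 n16805 = n16215 := d12_2 (iv F64146) D16805 (iv D16215)
theorem F66341 : act 7 n16805 = n16805 := d13_2 F64147 D16805 (iv D16805)
theorem F66342 : act 8 n16805 = n16317 := d14_2 (iv F64148) D16805 F64594
def n16806 : Q := act 2 n16212
theorem D16806 : act 2 n16212 = n16806 := rfl
theorem F66343 : act 0 n16806 = n16454 := d1_1 D16806 (iv D16454) (iv F64167)
theorem F66344 : act 1 n16806 = n16545 := d8_1 D16806 F65376 F63088 (iv F61569) (iv F64168)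
theorem F66345 : act 4 n16806 = n16544 := d16_2 (iv F64169) D16806 F65374
theorem F66346 : act 5 n16806 = n16453 := d17_2 (iv F64170) D16806 (iv D16453)
theorem F66347 : act 6 n16806 = n16213 := d18_2 (iv F64171) D16806 (iv D16213)
theorem F66348 : act 7 n16806 = n16806 := d19_2 F64172 D16806 (iv D16806)
theorem F66349 : act 8 n16806 = n16456 := d20_2 (iv F64173) D16806 (iv D16456)
def n16807 : Q := act 4 n16213
theorem D16807 : act 4 n16213 = n16807 := rfl
theorem F66350 : act 0 n16807 = n16514 := d3_1 D16807 (iv F65692) (iv F65697)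
theorem F66351 : act 1 n16807 = n16318 := d10_1 D16807 (iv F66080) F66078
theorem F66352 : act 2 n16807 = n16214 := d16_1 D16807 (iv D16214) D16213
theorem F66353 : act 5 n16807 = n16543 := d26_2 (iv F64174) D16807 (iv D16543) (iv F63875) F63874
theorem F66354 : act 6 n16807 = n16544 := d27_2 F66347 D16807 (iv F66345)
theorem F66355 : act 7 n16807 = n16807 := d28_2 F64175 D16807 (iv D16807)
theorem F66356 : act 8 n16807 = n16533 := d29_2 F65839 D16807 (iv F65835)
def n16808 : Q := act 0 n16218
theorem D16808 : act 0 n16218 = n16808 := rfl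
theorem F66357 : act 1 n16808 = n16808 := d0_2 D16218 D16808 (iv D16808) (iv D16218) F61648
theorem F66358 : act 3 n16808 = n16465 := d2_2 (iv F64201) D16808 F65077
theorem F66359 : act 4 n16808 = n16605 := d3_2 (iv F64202) D16808 (iv D16605)
theorem F66360 : act 5 n16808 = n16467 := d4_2 (iv F64203) D16808 F65088
theorem F66361 : act 7 n16808 = n16808 := d6_2 F64204 D16808 (iv D16808)
theorem F66362 : act 8 n16808 = n16466 := d7_2 (iv F64205) D16808 F65083
def n16809 : Q := act 4 n16219
theorem D16809 : act 4 n16219 = n16809 := rfl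
theorem F66363 : act 0 n16809 = n16325 := d3_1 D16809 (iv D16325) (iv F64206)
theorem F66364 : act 2 n16809 = n16245 := d16_1 D16809 (iv D16245) (iv F64207)
theorem F66365 : act 3 n16809 = n16742 := d21_1 D16809 (iv D16742) (iv D16144) (iv F61656) D16219
theorem F66366 : act 6 n16809 = n16341 := d27_2 (iv F64209) D16809 (iv D16341)
theorem F66367 : act 7 n16809 = n16220 := d28_2 (iv F64210) D16809 (iv D16220)
theorem F66368 : act 8 n16809 = n16616 := d29_2 (iv F64211) D16809 (iv D16616)
def n16810 : Q := act 5 n16220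
theorem D16810 : act 5 n16220 = n16810 := rfl
theorem F66369 : act 0 n16810 = n16328 := d4_1 D16810 (iv D16328) (iv F64212)
theorem F66370 : act 2 n16810 = n16263 := d17_1 D16810 (iv D16263) (iv F64213)
theorem F66371 : act 3 n16810 = n16329 := d22_1 D16810 (iv D16329) (iv F64214)
theorem F66372 : act 4 n16810 = n16513 := d26_1 D16810 (iv D16513) (iv D15912) (iv F61662) D16220
theorem F66373 : act 8 n16810 = n16228 := d32_2 (iv F64216) D16810 (iv D16228)
def n16811 : Q := act 2 n16221
theorem D16811 : act 2 n16221 = n16811 := rfl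
theorem F66374 : act 0 n16811 = n16590 := d1_1 D16811 (iv F65700) F65698
theorem F66375 : act 1 n16811 = n16270 := d8_1 D16811 (iv D16270) F61892 (iv F61671) (iv F64217)
theorem F66376 : act 3 n16811 = n16229 := d15_2 D16221 D16811 (iv D16229) (iv D15584) (iv F61666)
theorem F66377 : act 6 n16811 = n16224 := d18_2 (iv F64218) D16811 (iv D16224)
theorem F66378 : act 7 n16811 = n16644 := d19_2 (iv F64219) D16811 (iv D16644)
theorem F66379 : act 8 n16811 = n16334 := d20_2 (iv F64220) D16811 (iv D16334)
def n16812 : Q := act 4 n16221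
theorem D16812 : act 4 n16221 = n16812 := rfl
theorem F66380 : act 1 n16812 = n16222 := d10_1 D16812 (iv D16222) (iv F64217)
theorem F66381 : act 3 n16812 = n16327 := d21_1 D16812 (iv D16327) (iv D15693) (iv F61667) D16221
theorem F66382 : act 6 n16812 = n16225 := d27_2 (iv F64218) D16812 (iv D16225)
theorem F66383 : act 7 n16812 = n16645 := d28_2 (iv F64219) D16812 (iv D16645)
theorem F66384 : act 8 n16812 = n16335 := d29_2 (iv F64220) D16812 (iv D16335)
def n16813 : Q := act 5 n16222
theorem D16813 : act 5 n16222 = n16813 := rfl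
theorem F66385 : act 0 n16813 = n16329 := d4_1 D16813 (iv D16329) (iv F64221)
theorem F66386 : act 2 n16813 = n16277 := d17_1 D16813 (iv D16277) (iv F64222)
theorem F66387 : act 3 n16813 = n16328 := d22_1 D16813 (iv D16328) (iv F64223)
theorem F66388 : act 7 n16813 = n16648 := d31_2 (iv F64225) D16813 (iv D16648)
theorem F66389 : act 8 n16813 = n16343 := d32_2 (iv F64226) D16813 (iv D16343)
def n16814 : Q := act 2 n16223
theorem D16814 : act 2 n16223 = n16814 := rfl
theorem F66390 : act 0 n16814 = n16224 := d1_1 D16814 (iv D16224) (iv F64227)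
theorem F66391 : act 3 n16814 = n16230 := d15_2 D16223 D16814 (iv D16230) (iv D15585) (iv F61677)
theorem F66392 : act 5 n16814 = n16270 := d17_2 (iv F64229) D16814 (iv D16270)
theorem F66393 : act 6 n16814 = n16590 := d18_2 F65702 D16814 (iv F65700)
theorem F66394 : act 7 n16814 = n16651 := d19_2 (iv F64230) D16814 (iv D16651)
def n16815 : Q := act 4 n16223
theorem D16815 : act 4 n16223 = n16815 := rfl
theorem F66395 : act 0 n16815 = n16225 := d3_1 D16815 (iv D16225) (iv F64227)
theorem F66396 : act 1 n16815 = n16266 := d10_1 D16815 (iv D16266) (iv F64228)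
theorem F66397 : act 7 n16815 = n16652 := d28_2 (iv F64230) D16815 (iv D16652)
def n16816 : Q := act 4 n16224
theorem D16816 : act 4 n16224 = n16816 := rfl
theorem F66398 : act 1 n16816 = n16291 := d10_1 D16816 (iv D16291) (iv F64231)
theorem F66399 : act 2 n16816 = n16225 := d16_1 D16816 (iv D16225) D16224
theorem F66400 : act 7 n16816 = n16657 := d28_2 (iv F64234) D16816 (iv D16657)
def n16817 : Q := act 5 n16225
theorem D16817 : act 5 n16225 = n16817 := rfl
theorem F66401 : act 1 n16817 = n16228 := d11_1 D16817 (iv D16228) (iv F64235)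
theorem F66402 : act 4 n16817 = n16520 := d26_1 D16817 (iv D16520) (iv D15918) (iv F61680) D16225
theorem F66403 : act 7 n16817 = n16658 := d31_2 (iv F64236) D16817 (iv D16658)
def n16818 : Q := act 4 n16226
theorem D16818 : act 4 n16226 = n16818 := rfl
theorem F66404 : act 0 n16818 = n16341 := d3_1 D16818 (iv D16341) (iv F64237)
theorem F66405 : act 2 n16818 = n16348 := d16_1 D16818 (iv D16348) (iv F64238)
theorem F66406 : act 3 n16818 = n16664 := d21_1 D16818 (iv D16664) (iv D16067) (iv F61684) D16226
theorem F66407 : act 6 n16818 = n16325 := d27_2 (iv F64239) D16818 (iv D16325)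
theorem F66408 : act 7 n16818 = n16227 := d28_2 (iv F64240) D16818 (iv D16227)
theorem F66409 : act 8 n16818 = n16683 := d29_2 (iv F64241) D16818 (iv D16683)
def n16819 : Q := act 5 n16227
theorem D16819 : act 5 n16227 = n16819 := rfl
theorem F66410 : act 0 n16819 = n16343 := d4_1 D16819 (iv D16343) (iv F64242)
theorem F66411 : act 2 n16819 = n16373 := d17_1 D16819 (iv D16373) (iv F64243)
theorem F66412 : act 3 n16819 = n16228 := d22_1 D16819 (iv D16228) (iv F64244)
theorem F66413 : act 8 n16819 = n16329 := d32_2 (iv F64246) D16819 (iv D16329)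
def n16820 : Q := act 6 n16228
theorem D16820 : act 6 n16228 = n16820 := rfl
theorem F66414 : act 0 n16820 = n16344 := d5_1 D16820 (iv D16344) (iv F64247)
theorem F66415 : act 2 n16820 = n16305 := d18_1 D16820 (iv D16305) (iv F64248)
theorem F66416 : act 4 n16820 = n16532 := d27_1 D16820 (iv D16532) (iv F64249)
theorem F66417 : act 7 n16820 = n16671 := d33_2 (iv F64250) D16820 (iv D16671)
def n16821 : Q := act 7 n16231
theorem D16821 : act 7 n16231 = n16821 := rfl
theorem F66418 : act 0 n16821 = n16592 := d6_1 D16821 F65479 (iv F64262)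
theorem F66419 : act 1 n16821 = n16322 := d13_1 D16821 (iv D16322) (iv F64263)
theorem F66420 : act 2 n16821 = n16534 := d19_1 D16821 F65332 (iv F64264)
theorem F66421 : act 4 n16821 = n16680 := d28_1 D16821 (iv D16680) (iv F64265)
theorem F66422 : act 6 n16821 = n16536 := d33_1 D16821 F65342 (iv F64266)
def n16822 : Q := act 3 n16232
theorem D16822 : act 3 n16232 = n16822 := rfl
theorem F66423 : act 0 n16822 = n16323 := d2_1 D16822 (iv D16323) (iv F64268)
theorem F66424 : act 2 n16822 = n16339 := d15_1 D16822 (iv D16339) F62186 (iv F61732) (iv F64269)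
theorem F66425 : act 5 n16822 = n16235 := d22_2 (iv F64270) D16822 (iv D16235)
theorem F66426 : act 7 n16822 = n16248 := d24_2 D16232 D16822 (iv D16248) (iv D15608) (iv F61728)
theorem F66427 : act 8 n16822 = n16685 := d25_2 (iv F64271) D16822 (iv D16685)
def n16823 : Q := act 3 n16233
theorem D16823 : act 3 n16233 = n16823 := rfl
theorem F66428 : act 0 n16823 = n16500 := d2_1 D16823 (iv D16500) (iv F64272)
theorem F66429 : act 1 n16823 = n16235 := d9_1 D16823 (iv D16235) (iv F64273)
theorem F66430 : act 6 n16823 = n16240 := d23_2 (iv F64275) D16823 (iv D16240)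
theorem F66431 : act 7 n16823 = n16249 := d24_2 D16233 D16823 (iv D16249) (iv D15609) (iv F61738)
def n16824 : Q := act 3 n16234
theorem D16824 : act 3 n16234 = n16824 := rfl
theorem F66432 : act 0 n16824 = n16347 := d2_1 D16824 (iv D16347) (iv F64276)
theorem F66433 : act 2 n16824 = n16803 := d15_1 D16824 (iv D16803) F64100 (iv F61750) (iv F64277)
theorem F66434 : act 6 n16824 = n16244 := d23_2 (iv F64279) D16824 (iv D16244)
theorem F66435 : act 7 n16824 = n16452 := d24_2 D16234 D16824 (iv D16452) F62586 (iv F61742)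
def n16825 : Q := act 4 n16235
theorem D16825 : act 4 n16235 = n16825 := rfl
theorem F66436 : act 0 n16825 = n16348 := d3_1 D16825 (iv D16348) (iv F64280)
theorem F66437 : act 2 n16825 = n16341 := d16_1 D16825 (iv D16341) (iv F64281)
theorem F66438 : act 6 n16825 = n16245 := d27_2 (iv F64282) D16825 (iv D16245)
theorem F66439 : act 7 n16825 = n16250 := d28_2 (iv F64283) D16825 (iv D16250)
def n16826 : Q := act 7 n16236
theorem D16826 : act 7 n16236 = n16826 := rfl
theorem F66440 : act 0 n16826 = n16239 := d6_1 D16826 (iv D16239) (iv F64284)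
theorem F66441 : act 1 n16826 = n16351 := d13_1 D16826 (iv D16351) (iv F64285)
theorem F66442 : act 2 n16826 = n16826 := d19_1 D16826 (iv D16826) F64286
theorem F66443 : act 4 n16826 = n16237 := d28_1 D16826 (iv D16237) (iv F64287)
theorem F66444 : act 5 n16826 = n16549 := d31_1 D16826 (iv D16549) (iv F64288)
theorem F66445 : act 6 n16826 = n16499 := d33_1 D16826 (iv D16499) (iv F64289)
theorem F66446 : act 8 n16826 = n16548 := d35_2 D16236 D16826 (iv D16548) (iv D15951) (iv F61758)
def n16827 : Q := act 3 n16237
theorem D16827 : act 3 n16237 = n16827 := rfl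
theorem F66447 : act 0 n16827 = n16240 := d2_1 D16827 (iv D16240) (iv F64290)
theorem F66448 : act 1 n16827 = n16352 := d9_1 D16827 (iv D16352) (iv F64291)
theorem F66449 : act 6 n16827 = n16500 := d23_2 (iv F64293) D16827 (iv D16500)
theorem F66450 : act 7 n16827 = n16251 := d24_2 D16237 D16827 (iv D16251) (iv D15611) (iv F61762)
theorem F66451 : act 8 n16827 = n16823 := d25_2 (iv F64294) D16827 (iv D16823)
def n16828 : Q := act 7 n16238
theorem D16828 : act 7 n16238 = n16828 := rfl
theorem F66452 : act 0 n16828 = n16549 := d6_1 D16828 (iv D16549) (iv F64295)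
theorem F66453 : act 1 n16828 = n16243 := d13_1 D16828 (iv D16243) (iv F64296)
theorem F66454 : act 2 n16828 = n16828 := d19_1 D16828 (iv D16828) F64297
theorem F66455 : act 4 n16828 = n16509 := d28_1 D16828 (iv D16509) (iv F64298)
theorem F66456 : act 5 n16828 = n16239 := d31_1 D16828 (iv D16239) (iv F64299)
theorem F66457 : act 8 n16828 = n16501 := d35_2 D16238 D16828 (iv D16501) (iv D15902) (iv F61768)
def n16829 : Q := act 3 n16239
theorem D16829 : act 3 n16239 = n16829 := rfl
theorem F66458 : act 1 n16829 = n16244 := d9_1 D16829 (iv D16244) (iv F64300)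
def n16830 : Q := act 2 n16240
theorem D16830 : act 2 n16240 = n16830 := rfl
theorem F66459 : act 3 n16830 = n16830 := d15_2 D16240 D16830 (iv D16830) (iv D16240) F61773
theorem F66460 : act 7 n16830 = n16254 := d19_2 (iv F64304) D16830 (iv D16254)
def n16831 : Q := act 4 n16240
theorem D16831 : act 4 n16240 = n16831 := rfl
theorem F66461 : act 1 n16831 = n16245 := d10_1 D16831 (iv D16245) (iv F64303)
theorem F66462 : act 7 n16831 = n16255 := d28_2 (iv F64304) D16831 (iv D16255)
def n16832 : Q := act 7 n16241
theorem D16832 : act 7 n16241 = n16832 := rfl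
theorem F66463 : act 0 n16832 = n16362 := d6_1 D16832 (iv D16362) (iv F64305)
theorem F66464 : act 1 n16832 = n16364 := d13_1 D16832 (iv D16364) (iv F64306)
theorem F66465 : act 2 n16832 = n16450 := d19_1 D16832 F65021 (iv F64307)
theorem F66466 : act 4 n16832 = n16259 := d28_1 D16832 (iv D16259) (iv F64309)
theorem F66467 : act 5 n16832 = n16551 := d31_1 D16832 (iv D16551) (iv F64310)
theorem F66468 : act 6 n16832 = n16356 := d33_1 D16832 (iv D16356) (iv F64311)
theorem F66469 : act 8 n16832 = n16242 := d35_2 D16241 D16832 (iv D16242) (iv D15602) D15601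
def n16833 : Q := act 3 n16242
theorem D16833 : act 3 n16242 = n16833 := rfl
theorem F66470 : act 0 n16833 = n16363 := d2_1 D16833 (iv D16363) (iv F64312)
theorem F66471 : act 6 n16833 = n16452 := d23_2 (iv F64315) D16833 (iv D16452)
theorem F66472 : act 7 n16833 = n16244 := d24_2 D16242 D16833 (iv D16244) (iv D15604) (iv F61783)
def n16834 : Q := act 3 n16243
theorem D16834 : act 3 n16243 = n16834 := rfl
theorem F66473 : act 0 n16834 = n16365 := d2_1 D16834 (iv D16365) (iv F64316)
theorem F66474 : act 5 n16834 = n16244 := d22_2 (iv F64318) D16834 (iv D16244)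
def n16835 : Q := act 2 n16244
theorem D16835 : act 2 n16244 = n16835 := rfl
theorem F66475 : act 0 n16835 = n16366 := d1_1 D16835 (iv D16366) (iv F64319)
theorem F66476 : act 3 n16835 = n16247 := d15_2 D16244 D16835 (iv D16247) (iv D15607) (iv F61790)
theorem F66477 : act 6 n16835 = n16803 := d18_2 F66434 D16835 (iv F66433)
def n16836 : Q := act 4 n16244
theorem D16836 : act 4 n16244 = n16836 := rfl
theorem F66478 : act 0 n16836 = n16367 := d3_1 D16836 (iv D16367) (iv F64319)
theorem F66479 : act 3 n16836 = n16245 := d21_1 D16836 (iv D16245) (iv D15605) (iv F61791) D16244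
def n16837 : Q := act 5 n16245
theorem D16837 : act 5 n16245 = n16837 := rfl
theorem F66480 : act 0 n16837 = n16368 := d4_1 D16837 (iv D16368) (iv F64320)
theorem F66481 : act 7 n16837 = n16263 := d31_2 (iv F64321) D16837 (iv D16263)
def n16838 : Q := act 2 n16246
theorem D16838 : act 2 n16246 = n16838 := rfl
theorem F66482 : act 0 n16838 = n16370 := d1_1 D16838 (iv D16370) (iv F64322)
theorem F66483 : act 5 n16838 = n16247 := d17_2 (iv F64324) D16838 (iv D16247)
theorem F66484 : act 7 n16838 = n16482 := d19_2 (iv F64325) D16838 (iv D16482)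
def n16839 : Q := act 4 n16246
theorem D16839 : act 4 n16246 = n16839 := rfl
theorem F66485 : act 0 n16839 = n16371 := d3_1 D16839 (iv D16371) (iv F64322)
theorem F66486 : act 1 n16839 = n16839 := d10_1 D16839 (iv D16839) F64323
theorem F66487 : act 5 n16839 = n16792 := d26_2 (iv F64324) D16839 (iv D16792) F64048 (iv F61799)
theorem F66488 : act 7 n16839 = n16483 := d28_2 (iv F64325) D16839 (iv D16483)
def n16840 : Q := act 1 n16247
theorem D16840 : act 1 n16247 = n16840 := rfl
theorem F66489 : act 2 n16840 = n16840 := d8_2 D16247 D16840 (iv D16840) (iv D16247) F61798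
theorem F66490 : act 4 n16840 = n16793 := d10_2 (iv F64327) D16840 (iv D16793)
theorem F66491 : act 6 n16840 = n16802 := d12_2 (iv F64328) D16840 F66328
theorem F66492 : act 7 n16840 = n16484 := d13_2 (iv F64329) D16840 (iv D16484)
def n16841 : Q := act 4 n16248
theorem D16841 : act 4 n16248 = n16841 := rfl
theorem F66493 : act 0 n16841 = n16327 := d3_1 D16841 (iv D16327) (iv F64330)
theorem F66494 : act 2 n16841 = n16342 := d16_1 D16841 (iv D16342) (iv F64331)
theorem F66495 : act 8 n16841 = n16266 := d29_2 (iv F64333) D16841 (iv D16266)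
def n16842 : Q := act 2 n16249
theorem D16842 : act 2 n16249 = n16842 := rfl
theorem F66496 : act 0 n16842 = n16507 := d1_1 D16842 (iv D16507) (iv F64334)
theorem F66497 : act 1 n16842 = n16334 := d8_1 D16842 (iv D16334) F62173 (iv F61813) (iv F64335)
theorem F66498 : act 3 n16842 = n16314 := d15_2 D16249 D16842 (iv D16314) (iv D15676) (iv F61808)
theorem F66499 : act 6 n16842 = n16254 := d18_2 (iv F64336) D16842 (iv D16254)
theorem F66500 : act 8 n16842 = n16270 := d20_2 (iv F64337) D16842 (iv D16270)
def n16843 : Q := act 4 n16249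
theorem D16843 : act 4 n16249 = n16843 := rfl
theorem F66501 : act 0 n16843 = n16508 := d3_1 D16843 (iv D16508) (iv F64334)
theorem F66502 : act 1 n16843 = n16250 := d10_1 D16843 (iv D16250) (iv F64335)
theorem F66503 : act 3 n16843 = n16443 := d21_1 D16843 (iv D16443) F62518 (iv F61809) D16249
theorem F66504 : act 6 n16843 = n16255 := d27_2 (iv F64336) D16843 (iv D16255)
theorem F66505 : act 8 n16843 = n16271 := d29_2 (iv F64337) D16843 (iv D16271)
def n16844 : Q := act 5 n16250
theorem D16844 : act 5 n16250 = n16844 := rfl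
theorem F66506 : act 0 n16844 = n16373 := d4_1 D16844 (iv D16373) (iv F64338)
theorem F66507 : act 2 n16844 = n16343 := d17_1 D16844 (iv D16343) (iv F64339)
theorem F66508 : act 3 n16844 = n16444 := d22_1 D16844 (iv D16444) (iv F64340)
theorem F66509 : act 8 n16844 = n16277 := d32_2 (iv F64342) D16844 (iv D16277)
def n16845 : Q := act 2 n16251
theorem D16845 : act 2 n16251 = n16845 := rfl
theorem F66510 : act 0 n16845 = n16254 := d1_1 D16845 (iv D16254) (iv F64343)
theorem F66511 : act 3 n16845 = n16315 := d15_2 D16251 D16845 (iv D16315) (iv D15677) (iv F61818)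
theorem F66512 : act 6 n16845 = n16507 := d18_2 (iv F64345) D16845 (iv D16507)
theorem F66513 : act 8 n16845 = n16281 := d20_2 (iv F64346) D16845 (iv D16281)
def n16846 : Q := act 4 n16251
theorem D16846 : act 4 n16251 = n16846 := rfl
theorem F66514 : act 0 n16846 = n16255 := d3_1 D16846 (iv D16255) (iv F64343)
theorem F66515 : act 1 n16846 = n16377 := d10_1 D16846 (iv D16377) (iv F64344)
theorem F66516 : act 6 n16846 = n16508 := d27_2 (iv F64345) D16846 (iv D16508)
theorem F66517 : act 8 n16846 = n16282 := d29_2 (iv F64346) D16846 (iv D16282)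
def n16847 : Q := act 3 n16252
theorem D16847 : act 3 n16252 = n16847 := rfl
theorem F66518 : act 1 n16847 = n16260 := d9_1 D16847 (iv D16260) (iv F64347)
theorem F66519 : act 2 n16847 = n16578 := d15_1 D16847 F65457 F63218 (iv F62835) (iv F64348)
theorem F66520 : act 6 n16847 = n16437 := d23_2 (iv F64349) D16847 F64981
theorem F66521 : act 7 n16847 = n16253 := d24_2 D16252 D16847 (iv D16253) (iv D15613) (iv F61823)
def n16848 : Q := act 4 n16253
theorem D16848 : act 4 n16253 = n16848 := rfl
theorem F66522 : act 1 n16848 = n16262 := d10_1 D16848 (iv D16262) (iv F64350)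
theorem F66523 : act 2 n16848 = n16587 := d16_1 D16848 (iv D16587) (iv F64351)
theorem F66524 : act 3 n16848 = n16255 := d21_1 D16848 (iv D16255) (iv D15614) (iv F61827) D16253
theorem F66525 : act 6 n16848 = n16443 := d27_2 (iv F64352) D16848 (iv D16443)
theorem F66526 : act 8 n16848 = n16290 := d29_2 (iv F64353) D16848 (iv D16290)
def n16849 : Q := act 4 n16254
theorem D16849 : act 4 n16254 = n16849 := rfl
theorem F66527 : act 2 n16849 = n16255 := d16_1 D16849 (iv D16255) D16254
theorem F66528 : act 8 n16849 = n16291 := d29_2 (iv F64355) D16849 (iv D16291)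
def n16850 : Q := act 5 n16255
theorem D16850 : act 5 n16255 = n16850 := rfl
theorem F66529 : act 1 n16850 = n16263 := d11_1 D16850 (iv D16263) (iv F64356)
theorem F66530 : act 8 n16850 = n16292 := d32_2 (iv F64357) D16850 (iv D16292)
def n16851 : Q := act 7 n16256
theorem D16851 : act 7 n16256 = n16851 := rfl
theorem F66531 : act 0 n16851 = n16387 := d6_1 D16851 (iv D16387) (iv F64358)
theorem F66532 : act 2 n16851 = n16449 := d19_1 D16851 F65015 (iv F64359)
theorem F66533 : act 4 n16851 = n16258 := d28_1 D16851 (iv D16258) (iv F64360)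
theorem F66534 : act 5 n16851 = n16691 := d31_1 D16851 (iv D16691) (iv F64361)
theorem F66535 : act 6 n16851 = n16660 := d33_1 D16851 (iv D16660) (iv F64362)
theorem F66536 : act 8 n16851 = n16659 := d35_2 D16256 D16851 (iv D16659) (iv D16063) F61836
def n16852 : Q := act 7 n16257
theorem D16852 : act 7 n16257 = n16852 := rfl
theorem F66537 : act 0 n16852 = n16389 := d6_1 D16852 (iv D16389) (iv F64363)
theorem F66538 : act 1 n16852 = n16851 := d13_1 D16852 (iv D16851) (iv F64364)
theorem F66539 : act 2 n16852 = n16448 := d19_1 D16852 F65009 (iv F64365)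
theorem F66540 : act 4 n16852 = n16659 := d28_1 D16852 (iv D16659) (iv F64367)
theorem F66541 : act 5 n16852 = n16259 := d31_1 D16852 (iv D16259) (iv F64368)
theorem F66542 : act 6 n16852 = n16591 := d33_1 D16852 F65477 (iv F64369)
theorem F66543 : act 8 n16852 = n16258 := d35_2 D16257 D16852 (iv D16258) (iv D15617) D15616
def n16853 : Q := act 3 n16258
theorem D16853 : act 3 n16258 = n16853 := rfl
theorem F66544 : act 0 n16853 = n16390 := d2_1 D16853 (iv D16390) (iv F64370)
theorem F66545 : act 2 n16853 = n16400 := d15_1 D16853 (iv D16400) F62409 D15809 (iv F64371)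
theorem F66546 : act 5 n16853 = n16260 := d22_2 (iv F64372) D16853 (iv D16260)
theorem F66547 : act 7 n16853 = n16261 := d24_2 D16258 D16853 (iv D16261) (iv D15620) (iv F61846)
def n16854 : Q := act 3 n16259
theorem D16854 : act 3 n16259 = n16854 := rfl
theorem F66548 : act 0 n16854 = n16391 := d2_1 D16854 (iv D16391) (iv F64373)
theorem F66549 : act 2 n16854 = n16401 := d15_1 D16854 (iv D16401) F62412 D15810 (iv F64374)
theorem F66550 : act 6 n16854 = n16435 := d23_2 (iv F64375) D16854 F64978
theorem F66551 : act 7 n16854 = n16297 := d24_2 D16259 D16854 (iv D16297) (iv D15653) (iv F61850)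
theorem F66552 : act 8 n16854 = n16260 := d25_2 (iv F64376) D16854 (iv D16260)
def n16855 : Q := act 4 n16260
theorem D16855 : act 4 n16260 = n16855 := rfl
theorem F66553 : act 0 n16855 = n16392 := d3_1 D16855 (iv D16392) (iv F64377)
theorem F66554 : act 2 n16855 = n16402 := d16_1 D16855 (iv D16402) (iv F64378)
theorem F66555 : act 6 n16855 = n16438 := d27_2 (iv F64379) D16855 (iv D16438)
theorem F66556 : act 7 n16855 = n16262 := d28_2 (iv F64380) D16855 (iv D16262)
def n16856 : Q := act 4 n16261
theorem D16856 : act 4 n16261 = n16856 := rfl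
theorem F66557 : act 0 n16856 = n16394 := d3_1 D16856 (iv D16394) (iv F64381)
theorem F66558 : act 2 n16856 = n16404 := d16_1 D16856 (iv D16404) (iv F64382)
theorem F66559 : act 8 n16856 = n16302 := d29_2 (iv F64384) D16856 (iv D16302)
def n16857 : Q := act 5 n16262
theorem D16857 : act 5 n16262 = n16857 := rfl
theorem F66560 : act 0 n16857 = n16395 := d4_1 D16857 (iv D16395) (iv F64385)
theorem F66561 : act 2 n16857 = n16405 := d17_1 D16857 (iv D16405) (iv F64386)
theorem F66562 : act 3 n16857 = n16263 := d22_1 D16857 (iv D16263) (iv F64387)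
theorem F66563 : act 8 n16857 = n16304 := d32_2 (iv F64389) D16857 (iv D16304)
def n16858 : Q := act 6 n16263
theorem D16858 : act 6 n16263 = n16858 := rfl
theorem F66564 : act 0 n16858 = n16396 := d5_1 D16858 (iv D16396) (iv F64390)
theorem F66565 : act 8 n16858 = n16305 := d34_2 (iv F64391) D16858 (iv D16305)
def n16859 : Q := act 3 n16264
theorem D16859 : act 3 n16264 = n16859 := rfl
theorem F66566 : act 0 n16859 = n16332 := d2_1 D16859 (iv D16332) (iv F64392)
theorem F66567 : act 7 n16859 = n16265 := d24_2 D16264 D16859 (iv D16265) (iv D15624) (iv F61867)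
def n16860 : Q := act 2 n16265
theorem D16860 : act 2 n16265 = n16860 := rfl
theorem F66568 : act 0 n16860 = n16334 := d1_1 D16860 (iv D16334) (iv F64395)
theorem F66569 : act 3 n16860 = n16267 := d15_2 D16265 D16860 (iv D16267) (iv D15626) (iv F61870)
theorem F66570 : act 8 n16860 = n16590 := d20_2 F65703 D16860 (iv F65700)
def n16861 : Q := act 4 n16265
theorem D16861 : act 4 n16265 = n16861 := rfl
theorem F66571 : act 0 n16861 = n16335 := d3_1 D16861 (iv D16335) (iv F64395)
theorem F66572 : act 3 n16861 = n16266 := d21_1 D16861 (iv D16266) (iv D15625) (iv F61871) D16265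
def n16862 : Q := act 5 n16266
theorem D16862 : act 5 n16266 = n16862 := rfl
theorem F66573 : act 0 n16862 = n16336 := d4_1 D16862 (iv D16336) (iv F64396)
theorem F66574 : act 4 n16862 = n16277 := d26_1 D16862 (iv D16277) (iv D15635) (iv F61873) D16266
theorem F66575 : act 7 n16862 = n16758 := d31_2 (iv F64397) D16862 (iv D16758)
def n16863 : Q := act 3 n16268
theorem D16863 : act 3 n16268 = n16863 := rfl
theorem F66576 : act 0 n16863 = n16516 := d2_1 D16863 (iv D16516) (iv F64402)
theorem F66577 : act 1 n16863 = n16274 := d9_1 D16863 (iv D16274) (iv F64403)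
theorem F66578 : act 6 n16863 = n16287 := d23_2 (iv F64405) D16863 (iv D16287)
theorem F66579 : act 7 n16863 = n16269 := d24_2 D16268 D16863 (iv D16269) (iv D15628) (iv F61883)
def n16864 : Q := act 2 n16269
theorem D16864 : act 2 n16269 = n16864 := rfl
theorem F66580 : act 0 n16864 = n16517 := d1_1 D16864 (iv D16517) (iv F64406)
theorem F66581 : act 1 n16864 = n16384 := d8_1 D16864 (iv D16384) F62362 (iv F61910) (iv F64407)
theorem F66582 : act 3 n16864 = n16316 := d15_2 D16269 D16864 (iv D16316) (iv D15679) (iv F61887)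
theorem F66583 : act 6 n16864 = n16289 := d18_2 (iv F64408) D16864 (iv D16289)
theorem F66584 : act 8 n16864 = n16426 := d20_2 (iv F64409) D16864 F64957
def n16865 : Q := act 4 n16269
theorem D16865 : act 4 n16269 = n16865 := rfl
theorem F66585 : act 0 n16865 = n16518 := d3_1 D16865 (iv D16518) (iv F64406)
theorem F66586 : act 1 n16865 = n16276 := d10_1 D16865 (iv D16276) (iv F64407)
theorem F66587 : act 3 n16865 = n16271 := d21_1 D16865 (iv D16271) (iv D15629) (iv F61888) D16269
theorem F66588 : act 6 n16865 = n16290 := d27_2 (iv F64408) D16865 (iv D16290)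
theorem F66589 : act 8 n16865 = n16443 := d29_2 (iv F64409) D16865 (iv D16443)
def n16866 : Q := act 4 n16270
theorem D16866 : act 4 n16270 = n16866 := rfl
theorem F66590 : act 0 n16866 = n16519 := d3_1 D16866 (iv D16519) (iv F64410)
theorem F66591 : act 2 n16866 = n16271 := d16_1 D16866 (iv D16271) D16270
theorem F66592 : act 6 n16866 = n16291 := d27_2 (iv F64412) D16866 (iv D16291)
def n16867 : Q := act 5 n16271
theorem D16867 : act 5 n16271 = n16867 := rfl
theorem F66593 : act 0 n16867 = n16520 := d4_1 D16867 (iv D16520) (iv F64413)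
theorem F66594 : act 1 n16867 = n16277 := d11_1 D16867 (iv D16277) (iv F64414)
def n16868 : Q := act 3 n16272
theorem D16868 : act 3 n16272 = n16868 := rfl
theorem F66595 : act 0 n16868 = n16400 := d2_1 D16868 (iv D16400) (iv F64416)
theorem F66596 : act 2 n16868 = n16390 := d15_1 D16868 (iv D16390) F62380 (iv F62020) (iv F64417)
theorem F66597 : act 5 n16868 = n16274 := d22_2 (iv F64418) D16868 (iv D16274)
theorem F66598 : act 7 n16868 = n16275 := d24_2 D16272 D16868 (iv D16275) (iv D15633) (iv F61896)
def n16869 : Q := act 3 n16273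
theorem D16869 : act 3 n16273 = n16869 := rfl
theorem F66599 : act 0 n16869 = n16401 := d2_1 D16869 (iv D16401) (iv F64419)
theorem F66600 : act 2 n16869 = n16391 := d15_1 D16869 (iv D16391) F62382 (iv F62024) (iv F64420)
theorem F66601 : act 6 n16869 = n16297 := d23_2 (iv F64421) D16869 (iv D16297)
theorem F66602 : act 7 n16869 = n16435 := d24_2 D16273 D16869 F64978 F62575 (iv F61900)
theorem F66603 : act 8 n16869 = n16274 := d25_2 (iv F64422) D16869 (iv D16274)
def n16870 : Q := act 4 n16274
theorem D16870 : act 4 n16274 = n16870 := rfl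
theorem F66604 : act 0 n16870 = n16402 := d3_1 D16870 (iv D16402) (iv F64423)
theorem F66605 : act 2 n16870 = n16392 := d16_1 D16870 (iv D16392) (iv F64424)
theorem F66606 : act 6 n16870 = n16299 := d27_2 (iv F64425) D16870 (iv D16299)
theorem F66607 : act 7 n16870 = n16276 := d28_2 (iv F64426) D16870 (iv D16276)
def n16871 : Q := act 4 n16275
theorem D16871 : act 4 n16275 = n16871 := rfl
theorem F66608 : act 0 n16871 = n16404 := d3_1 D16871 (iv D16404) (iv F64427)
theorem F66609 : act 2 n16871 = n16394 := d16_1 D16871 (iv D16394) (iv F64428)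
theorem F66610 : act 8 n16871 = n16441 := d29_2 (iv F64430) D16871 (iv D16441)
def n16872 : Q := act 5 n16276
theorem D16872 : act 5 n16276 = n16872 := rfl
theorem F66611 : act 0 n16872 = n16405 := d4_1 D16872 (iv D16405) (iv F64431)
theorem F66612 : act 2 n16872 = n16395 := d17_1 D16872 (iv D16395) (iv F64432)
theorem F66613 : act 3 n16872 = n16277 := d22_1 D16872 (iv D16277) (iv F64433)
theorem F66614 : act 8 n16872 = n16444 := d32_2 (iv F64435) D16872 (iv D16444)
def n16873 : Q := act 6 n16277
theorem D16873 : act 6 n16277 = n16873 := rfl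
theorem F66615 : act 0 n16873 = n16406 := d5_1 D16873 (iv D16406) (iv F64436)
theorem F66616 : act 5 n16873 = n16305 := d30_1 D16873 (iv D16305) (iv D15659) (iv F61914) D16277
def n16874 : Q := act 7 n16278
theorem D16874 : act 7 n16278 = n16874 := rfl
theorem F66617 : act 0 n16874 = n16286 := d6_1 D16874 (iv D16286) (iv F64437)
theorem F66618 : act 1 n16874 = n16410 := d13_1 D16874 (iv D16410) (iv F64438)
theorem F66619 : act 2 n16874 = n16874 := d19_1 D16874 (iv D16874) F64439
theorem F66620 : act 4 n16874 = n16689 := d28_1 D16874 (iv D16689) (iv F64440)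
theorem F66621 : act 5 n16874 = n16714 := d31_1 D16874 (iv D16714) (iv F64441)
theorem F66622 : act 6 n16874 = n16515 := d33_1 D16874 (iv D16515) (iv F64442)
theorem F66623 : act 8 n16874 = n16279 := d35_2 D16278 D16874 (iv D16279) (iv D15637) D15636
def n16875 : Q := act 3 n16279
theorem D16875 : act 3 n16279 = n16875 := rfl
theorem F66624 : act 0 n16875 = n16287 := d2_1 D16875 (iv D16287) (iv F64443)
theorem F66625 : act 1 n16875 = n16411 := d9_1 D16875 (iv D16411) (iv F64444)
theorem F66626 : act 6 n16875 = n16516 := d23_2 (iv F64447) D16875 (iv D16516)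
theorem F66627 : act 7 n16875 = n16280 := d24_2 D16279 D16875 (iv D16280) (iv D15638) (iv F61924)
def n16876 : Q := act 2 n16280
theorem D16876 : act 2 n16280 = n16876 := rfl
theorem F66628 : act 0 n16876 = n16289 := d1_1 D16876 (iv D16289) (iv F64448)
theorem F66629 : act 3 n16876 = n16318 := d15_2 D16280 D16876 (iv D16318) (iv D15682) (iv F61929)
theorem F66630 : act 6 n16876 = n16517 := d18_2 (iv F64450) D16876 (iv D16517)
theorem F66631 : act 8 n16876 = n16586 := d20_2 F66146 D16876 (iv F66143)
def n16877 : Q := act 4 n16280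
theorem D16877 : act 4 n16280 = n16877 := rfl
theorem F66632 : act 0 n16877 = n16290 := d3_1 D16877 (iv D16290) (iv F64448)
theorem F66633 : act 1 n16877 = n16414 := d10_1 D16877 (iv D16414) (iv F64449)
theorem F66634 : act 3 n16877 = n16282 := d21_1 D16877 (iv D16282) (iv D15639) (iv F61930) D16280
theorem F66635 : act 6 n16877 = n16518 := d27_2 (iv F64450) D16877 (iv D16518)
def n16878 : Q := act 4 n16281
theorem D16878 : act 4 n16281 = n16878 := rfl
theorem F66636 : act 0 n16878 = n16291 := d3_1 D16878 (iv D16291) (iv F64451)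
theorem F66637 : act 2 n16878 = n16282 := d16_1 D16878 (iv D16282) D16281
theorem F66638 : act 6 n16878 = n16519 := d27_2 (iv F64453) D16878 (iv D16519)
theorem F66639 : act 7 n16878 = n16866 := d28_2 (iv F64454) D16878 (iv D16866)
def n16879 : Q := act 5 n16282
theorem D16879 : act 5 n16282 = n16879 := rfl
theorem F66640 : act 0 n16879 = n16292 := d4_1 D16879 (iv D16292) (iv F64455)
theorem F66641 : act 1 n16879 = n16415 := d11_1 D16879 (iv D16415) (iv F64456)
theorem F66642 : act 7 n16879 = n16867 := d31_2 (iv F64458) D16879 (iv D16867)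
def n16880 : Q := act 7 n16283
theorem D16880 : act 7 n16283 = n16880 := rfl
theorem F66643 : act 0 n16880 = n16716 := d6_1 D16880 (iv D16716) (iv F64459)
theorem F66644 : act 1 n16880 = n16293 := d13_1 D16880 (iv D16293) (iv F64460)
theorem F66645 : act 2 n16880 = n16880 := d19_1 D16880 (iv D16880) F64461
theorem F66646 : act 4 n16880 = n16285 := d28_1 D16880 (iv D16285) (iv F64463)
theorem F66647 : act 5 n16880 = n16631 := d31_1 D16880 (iv D16631) (iv F64464)
theorem F66648 : act 8 n16880 = n16630 := d35_2 D16283 D16880 (iv D16630) (iv D16037) F61941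
def n16881 : Q := act 7 n16284
theorem D16881 : act 7 n16284 = n16881 := rfl
theorem F66649 : act 0 n16881 = n16714 := d6_1 D16881 (iv D16714) (iv F64465)
theorem F66650 : act 1 n16881 = n16295 := d13_1 D16881 (iv D16295) (iv F64466)
theorem F66651 : act 2 n16881 = n16881 := d19_1 D16881 (iv D16881) F64467
theorem F66652 : act 4 n16881 = n16630 := d28_1 D16881 (iv D16630) (iv F64469)
theorem F66653 : act 5 n16881 = n16286 := d31_1 D16881 (iv D16286) (iv F64470)
theorem F66654 : act 6 n16881 = n16880 := d33_1 D16881 (iv D16880) (iv F64471)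
theorem F66655 : act 8 n16881 = n16285 := d35_2 D16284 D16881 (iv D16285) (iv D15642) D15641
def n16882 : Q := act 3 n16285
theorem D16882 : act 3 n16285 = n16882 := rfl
theorem F66656 : act 1 n16882 = n16296 := d9_1 D16882 (iv D16296) (iv F64472)
theorem F66657 : act 5 n16882 = n16287 := d22_2 (iv F64474) D16882 (iv D16287)
theorem F66658 : act 7 n16882 = n16288 := d24_2 D16285 D16882 (iv D16288) (iv D15645) (iv F61951)
def n16883 : Q := act 3 n16286
theorem D16883 : act 3 n16286 = n16883 := rfl
theorem F66659 : act 1 n16883 = n16297 := d9_1 D16883 (iv D16297) (iv F64475)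
theorem F66660 : act 8 n16883 = n16287 := d25_2 (iv F64477) D16883 (iv D16287)
def n16884 : Q := act 2 n16287
theorem D16884 : act 2 n16287 = n16884 := rfl
theorem F66661 : act 1 n16884 = n16564 := d8_1 D16884 (iv D16564) F64511 (iv D16298) (iv F64478)
theorem F66662 : act 3 n16884 = n16884 := d15_2 D16287 D16884 (iv D16884) (iv D16287) F61956
theorem F66663 : act 7 n16884 = n16289 := d19_2 (iv F64479) D16884 (iv D16289)
def n16885 : Q := act 4 n16287
theorem D16885 : act 4 n16287 = n16885 := rfl
theorem F66664 : act 1 n16885 = n16299 := d10_1 D16885 (iv D16299) (iv F64478)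
theorem F66665 : act 7 n16885 = n16290 := d28_2 (iv F64479) D16885 (iv D16290)
def n16886 : Q := act 2 n16288
theorem D16886 : act 2 n16288 = n16886 := rfl
theorem F66666 : act 1 n16886 = n16566 := d8_1 D16886 (iv D16566) F64520 (iv D16301) (iv F64480)
theorem F66667 : act 3 n16886 = n16319 := d15_2 D16288 D16886 (iv D16319) (iv D15684) (iv F61958)
theorem F66668 : act 5 n16886 = n16289 := d17_2 (iv F64481) D16886 (iv D16289)
theorem F66669 : act 8 n16886 = n16583 := d20_2 F65813 D16886 (iv F65810)
def n16887 : Q := act 4 n16288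
theorem D16887 : act 4 n16288 = n16887 := rfl
theorem F66670 : act 1 n16887 = n16302 := d10_1 D16887 (iv D16302) (iv F64480)
def n16888 : Q := act 4 n16289
theorem D16888 : act 4 n16289 = n16888 := rfl
theorem F66671 : act 1 n16888 = n16568 := d10_1 D16888 (iv D16568) (iv F64482)
theorem F66672 : act 2 n16888 = n16290 := d16_1 D16888 (iv D16290) D16289
theorem F66673 : act 8 n16888 = n16587 := d29_2 (iv F64484) D16888 (iv D16587)
def n16889 : Q := act 5 n16290
theorem D16889 : act 5 n16290 = n16889 := rfl
theorem F66674 : act 1 n16889 = n16304 := d11_1 D16889 (iv D16304) (iv F64485)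
theorem F66675 : act 3 n16889 = n16292 := d22_1 D16889 (iv D16292) (iv F64486)
def n16890 : Q := act 3 n16291
theorem D16890 : act 3 n16291 = n16890 := rfl
theorem F66676 : act 4 n16890 = n16320 := d21_2 D16291 D16890 (iv D16320) (iv D15686) (iv F61961)
def n16891 : Q := act 5 n16291
theorem D16891 : act 5 n16291 = n16891 := rfl
theorem F66677 : act 2 n16891 = n16292 := d17_1 D16891 (iv D16292) (iv F64487)
def n16892 : Q := act 6 n16292
theorem D16892 : act 6 n16292 = n16892 := rfl
theorem F66678 : act 1 n16892 = n16305 := d12_1 D16892 (iv D16305) (iv F64488)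
def n16893 : Q := act 3 n16293
theorem D16893 : act 3 n16293 = n16893 := rfl
theorem F66679 : act 0 n16893 = n16430 := d2_1 D16893 (iv D16430) (iv F64489)
def n16894 : Q := act 3 n16294
theorem D16894 : act 3 n16294 = n16894 := rfl
theorem F66680 : act 0 n16894 = n16431 := d2_1 D16894 (iv D16431) (iv F64492)
theorem F66681 : act 6 n16894 = n16296 := d23_2 (iv F64494) D16894 (iv D16296)
theorem F66682 : act 7 n16894 = n16300 := d24_2 D16294 D16894 (iv D16300) (iv D15655) (iv F61968)
theorem F66683 : act 8 n16894 = n16893 := d25_2 (iv F64495) D16894 (iv D16893)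
def n16895 : Q := act 3 n16295
theorem D16895 : act 3 n16295 = n16895 := rfl
theorem F66684 : act 0 n16895 = n16432 := d2_1 D16895 (iv D16432) (iv F64496)
theorem F66685 : act 5 n16895 = n16297 := d22_2 (iv F64499) D16895 (iv D16297)
theorem F66686 : act 6 n16895 = n16893 := d23_2 (iv F64500) D16895 (iv D16893)
theorem F66687 : act 8 n16895 = n16296 := d25_2 (iv F64501) D16895 (iv D16296)
def n16896 : Q := act 2 n16296
theorem D16896 : act 2 n16296 = n16896 := rfl
theorem F66688 : act 0 n16896 = n16433 := d1_1 D16896 (iv D16433) (iv F64502)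
theorem F66689 : act 3 n16896 = n16310 := d15_2 D16296 D16896 (iv D16310) (iv D15669) (iv F61976)
theorem F66690 : act 5 n16896 = n16298 := d17_2 (iv F64503) D16896 (iv D16298)
theorem F66691 : act 7 n16896 = n16301 := d19_2 (iv F64504) D16896 (iv D16301)
theorem F66692 : act 1 n16562 = n16896 := d13_3 F66691 (iv F64520) (iv F65429)
def n16897 : Q := act 4 n16296
theorem D16897 : act 4 n16296 = n16897 := rfl
theorem F66693 : act 0 n16897 = n16434 := d3_1 D16897 (iv D16434) (iv F64502)
theorem F66694 : act 7 n16897 = n16302 := d28_2 (iv F64504) D16897 (iv D16302)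
def n16898 : Q := act 2 n16297
theorem D16898 : act 2 n16297 = n16898 := rfl
theorem F66695 : act 0 n16898 = n16435 := d1_1 D16898 (iv D16435) (iv F64505)
theorem F66696 : act 3 n16898 = n16311 := d15_2 D16297 D16898 (iv D16311) (iv D15670) (iv F61979)
theorem F66697 : act 6 n16898 = n16391 := d18_2 F66601 D16898 (iv F66600)
theorem F66698 : act 7 n16898 = n16401 := d19_2 F66551 D16898 (iv F66549)
theorem F66699 : act 8 n16898 = n16298 := d20_2 (iv F64506) D16898 (iv D16298)
theorem F66700 : act 1 n16563 = n16898 := d14_3 F66699 (iv F64511) (iv F65431)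
def n16899 : Q := act 4 n16297
theorem D16899 : act 4 n16297 = n16899 := rfl
theorem F66701 : act 0 n16899 = n16436 := d3_1 D16899 (iv D16436) (iv F64505)
theorem F66702 : act 8 n16899 = n16299 := d29_2 (iv F64506) D16899 (iv D16299)
def n16900 : Q := act 4 n16298
theorem D16900 : act 4 n16298 = n16900 := rfl
theorem F66703 : act 0 n16900 = n16438 := d3_1 D16900 (iv D16438) (iv F64507)
theorem F66704 : act 1 n16900 = n16565 := d10_1 D16900 (iv D16565) F64511
theorem F66705 : act 2 n16900 = n16299 := d16_1 D16900 (iv D16299) D16298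
theorem F66706 : act 6 n16900 = n16392 := d27_2 (iv F64509) D16900 (iv D16392)
theorem F66707 : act 7 n16900 = n16303 := d28_2 (iv F64510) D16900 (iv D16303)
def n16901 : Q := act 5 n16299
theorem D16901 : act 5 n16299 = n16901 := rfl
theorem F66708 : act 0 n16901 = n16439 := d4_1 D16901 (iv D16439) (iv F64512)
theorem F66709 : act 7 n16901 = n16304 := d31_2 (iv F64513) D16901 (iv D16304)
def n16902 : Q := act 4 n16300
theorem D16902 : act 4 n16300 = n16902 := rfl
theorem F66710 : act 0 n16902 = n16440 := d3_1 D16902 (iv D16440) (iv F64514)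
theorem F66711 : act 6 n16902 = n16302 := d27_2 (iv F64515) D16902 (iv D16302)
def n16903 : Q := act 4 n16301
theorem D16903 : act 4 n16301 = n16903 := rfl
theorem F66712 : act 0 n16903 = n16441 := d3_1 D16903 (iv D16441) (iv F64516)
theorem F66713 : act 1 n16903 = n16567 := d10_1 D16903 (iv D16567) F64520
theorem F66714 : act 2 n16903 = n16302 := d16_1 D16903 (iv D16302) D16301
theorem F66715 : act 8 n16903 = n16404 := d29_2 (iv F64519) D16903 (iv D16404)
def n16904 : Q := act 5 n16302
theorem D16904 : act 5 n16302 = n16904 := rfl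
theorem F66716 : act 0 n16904 = n16442 := d4_1 D16904 (iv D16442) (iv F64521)
theorem F66717 : act 4 n16904 = n16304 := d26_1 D16904 (iv D16304) (iv D15658) (iv F61987) D16302
def n16905 : Q := act 5 n16303
theorem D16905 : act 5 n16303 = n16905 := rfl
theorem F66718 : act 0 n16905 = n16444 := d4_1 D16905 (iv D16444) (iv F64522)
theorem F66719 : act 1 n16905 = n16569 := d11_1 D16905 (iv D16569) (iv F64523)
theorem F66720 : act 2 n16905 = n16304 := d17_1 D16905 (iv D16304) (iv F64524)
theorem F66721 : act 3 n16905 = n16373 := d22_1 D16905 (iv D16373) (iv F64525)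
theorem F66722 : act 8 n16905 = n16405 := d32_2 (iv F64527) D16905 (iv D16405)
def n16906 : Q := act 6 n16304
theorem D16906 : act 6 n16304 = n16906 := rfl
theorem F66723 : act 0 n16906 = n16445 := d5_1 D16906 (iv D16445) (iv F64528)
theorem F66724 : act 3 n16906 = n16305 := d23_1 D16906 (iv D16305) (iv F64529)
def n16907 : Q := act 3 n16306
theorem D16907 : act 3 n16306 = n16907 := rfl
theorem F66725 : act 0 n16907 = n16446 := d2_1 D16907 (iv D16446) (iv F64531)
theorem F66726 : act 1 n16907 = n16907 := d9_1 D16907 (iv D16907) F64532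
theorem F66727 : act 4 n16907 = n16497 := d21_2 (iv F64533) D16907 (iv D16497) F62914 (iv F62020)
theorem F66728 : act 6 n16907 = n16535 := d23_2 (iv F64534) D16907 (iv D16535)
theorem F66729 : act 7 n16907 = n16907 := d24_2 D16306 D16907 (iv D16907) (iv D16306) F62003
theorem F66730 : act 8 n16907 = n16534 := d25_2 (iv F64535) D16907 (iv D16534)
def n16908 : Q := act 4 n16311
theorem D16908 : act 4 n16311 = n16908 := rfl
theorem F66731 : act 0 n16908 = n16356 := d3_1 D16908 F64732 (iv F64562)
theorem F66732 : act 1 n16908 = n16549 := d10_1 D16908 F65387 F64566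
theorem F66733 : act 2 n16908 = n16312 := d16_1 D16908 (iv D16312) D16311
theorem F66734 : act 5 n16908 = n16351 := d26_2 F65905 D16908 F64706 (iv F63710) (iv F65904)
theorem F66735 : act 6 n16908 = n16362 := d27_2 (iv F64563) D16908 F64759
theorem F66736 : act 7 n16908 = n16346 := d28_2 (iv F64564) D16908 F64686
theorem F66737 : act 8 n16908 = n16313 := d29_2 (iv F64565) D16908 (iv D16313)
def n16909 : Q := act 3 n16313
theorem D16909 : act 3 n16313 = n16909 := rfl
theorem F66738 : act 0 n16909 = n16452 := d2_1 D16909 (iv D16452) (iv F64573)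
theorem F66739 : act 1 n16909 = n16550 := d9_1 D16909 (iv D16550) (iv F64574)
theorem F66740 : act 5 n16909 = n16824 := d22_2 (iv F64576) D16909 (iv D16824)
theorem F66741 : act 6 n16909 = n16363 := d23_2 (iv F64577) D16909 (iv D16363)
theorem F66742 : act 7 n16909 = n16347 := d24_2 (iv F64578) D16909 (iv D16347) (iv D15715) (iv F62074)
def n16910 : Q := act 3 n16317
theorem D16910 : act 3 n16317 = n16910 := rfl
theorem F66743 : act 0 n16910 = n16546 := d2_1 D16910 (iv D16546) (iv F64593)
theorem F66744 : act 1 n16910 = n16527 := d9_1 D16910 F65314 (iv F64594)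
theorem F66745 : act 5 n16910 = n16529 := d22_2 (iv F64596) D16910 F65317
theorem F66746 : act 6 n16910 = n16320 := d23_2 (iv F64597) D16910 (iv D16320)
def n16911 : Q := act 7 n16320
theorem D16911 : act 7 n16320 = n16911 := rfl
theorem F66747 : act 3 n16911 = n16322 := d24_1 D16911 (iv D16322) (iv D15688) (iv F62119) D16320
def n16912 : Q := act 7 n16321
theorem D16912 : act 7 n16321 = n16912 := rfl
theorem F66748 : act 0 n16912 = n16547 := d6_1 D16912 (iv D16547) (iv F64607)
theorem F66749 : act 1 n16912 = n16536 := d13_1 D16912 F65342 (iv F64608)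
theorem F66750 : act 2 n16912 = n16912 := d19_1 D16912 (iv D16912) F64609
theorem F66751 : act 4 n16912 = n16798 := d28_1 D16912 F66315 (iv F64610)
theorem F66752 : act 5 n16912 = n16539 := d31_1 D16912 F65354 (iv F64611)
theorem F66753 : act 6 n16912 = n16322 := d33_1 D16912 (iv D16322) (iv F64612)
def n16913 : Q := act 8 n16322
theorem D16913 : act 8 n16322 = n16913 := rfl
theorem F66754 : act 2 n16913 = n16913 := d20_1 D16913 (iv D16913) F64614
theorem F66755 : act 7 n16913 = n16913 := d35_1 D16913 (iv D16913) (iv D16322) F62127 D16322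
def n16914 : Q := act 4 n16323
theorem D16914 : act 4 n16323 = n16914 := rfl
theorem F66756 : act 1 n16914 = n16325 := d10_1 D16914 (iv D16325) (iv F64615)
theorem F66757 : act 7 n16914 = n16327 := d28_2 (iv F64617) D16914 (iv D16327)
theorem F66758 : act 8 n16914 = n16688 := d29_2 (iv F64618) D16914 (iv D16688)
def n16915 : Q := act 2 n16324
theorem D16915 : act 2 n16324 = n16915 := rfl
theorem F66759 : act 0 n16915 = n16741 := d1_1 D16915 (iv D16741) (iv F64619)
theorem F66760 : act 3 n16915 = n16326 := d15_2 D16324 D16915 (iv D16326) (iv D15692) (iv F62133)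
theorem F66761 : act 6 n16915 = n16663 := d18_2 (iv F64620) D16915 (iv D16663)
theorem F66762 : act 7 n16915 = n16646 := d19_2 (iv F64621) D16915 (iv D16646)
theorem F66763 : act 8 n16915 = n16693 := d20_2 (iv F64622) D16915 (iv D16693)
def n16916 : Q := act 4 n16324
theorem D16916 : act 4 n16324 = n16916 := rfl
theorem F66764 : act 0 n16916 = n16742 := d3_1 D16916 (iv D16742) (iv F64619)
theorem F66765 : act 3 n16916 = n16325 := d21_1 D16916 (iv D16325) (iv D15691) (iv F62134) D16324
theorem F66766 : act 6 n16916 = n16664 := d27_2 (iv F64620) D16916 (iv D16664)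
theorem F66767 : act 7 n16916 = n16647 := d28_2 (iv F64621) D16916 (iv D16647)
theorem F66768 : act 8 n16916 = n16694 := d29_2 (iv F64622) D16916 (iv D16694)
def n16917 : Q := act 5 n16325
theorem D16917 : act 5 n16325 = n16917 := rfl
theorem F66769 : act 2 n16917 = n16368 := d17_1 D16917 (iv D16368) (iv F64623)
theorem F66770 : act 4 n16917 = n16555 := d26_1 D16917 (iv D16555) (iv D15957) (iv F62138) D16325
theorem F66771 : act 7 n16917 = n16328 := d31_2 (iv F64624) D16917 (iv D16328)
theorem F66772 : act 8 n16917 = n16695 := d32_2 (iv F64625) D16917 (iv D16695)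
def n16918 : Q := act 5 n16327
theorem D16918 : act 5 n16327 = n16918 := rfl
theorem F66773 : act 1 n16918 = n16328 := d11_1 D16918 (iv D16328) (iv F64631)
theorem F66774 : act 4 n16918 = n16373 := d26_1 D16918 (iv D16373) (iv D15740) (iv F62148) D16327
theorem F66775 : act 8 n16918 = n16336 := d32_2 (iv F64632) D16918 (iv D16336)
def n16919 : Q := act 6 n16328
theorem D16919 : act 6 n16328 = n16919 := rfl
theorem F66776 : act 2 n16919 = n16396 := d18_1 D16919 (iv D16396) (iv F64633)
theorem F66777 : act 4 n16919 = n16570 := d27_1 D16919 (iv D16570) (iv F64634)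
theorem F66778 : act 8 n16919 = n16344 := d34_2 (iv F64635) D16919 (iv D16344)
def n16920 : Q := act 6 n16329
theorem D16920 : act 6 n16329 = n16920 := rfl
theorem F66779 : act 2 n16920 = n16406 := d18_1 D16920 (iv D16406) (iv F64636)
theorem F66780 : act 5 n16920 = n16344 := d30_1 D16920 (iv D16344) (iv D15709) (iv F62153) D16329
theorem F66781 : act 7 n16920 = n16749 := d33_2 (iv F64637) D16920 (iv D16749)
def n16921 : Q := act 3 n16330
theorem D16921 : act 3 n16330 = n16921 := rfl
theorem F66782 : act 1 n16921 = n16339 := d9_1 D16921 (iv D16339) (iv F64638)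
theorem F66783 : act 5 n16921 = n16332 := d22_2 (iv F64640) D16921 (iv D16332)
theorem F66784 : act 7 n16921 = n16333 := d24_2 D16330 D16921 (iv D16333) (iv D15699) (iv F62157)
theorem F66785 : act 8 n16921 = n16859 := d25_2 (iv F64641) D16921 (iv D16859)
def n16922 : Q := act 3 n16331
theorem D16922 : act 3 n16331 = n16922 := rfl
theorem F66786 : act 0 n16922 = n16921 := d2_1 D16922 (iv D16921) (iv F64642)
theorem F66787 : act 1 n16922 = n16340 := d9_1 D16922 (iv D16340) (iv F64643)
theorem F66788 : act 5 n16922 = n16859 := d22_2 (iv F64646) D16922 (iv D16859)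
theorem F66789 : act 6 n16922 = n16612 := d23_2 (iv F64647) D16922 (iv D16612)
theorem F66790 : act 7 n16922 = n16620 := d24_2 D16331 D16922 (iv D16620) (iv D16028) (iv F62162)
theorem F66791 : act 8 n16922 = n16332 := d25_2 (iv F64648) D16922 (iv D16332)
def n16923 : Q := act 2 n16332
theorem D16923 : act 2 n16332 = n16923 := rfl
theorem F66792 : act 3 n16923 = n16923 := d15_2 D16332 D16923 (iv D16923) (iv D16332) F62167
theorem F66793 : act 7 n16923 = n16334 := d19_2 (iv F64650) D16923 (iv D16334)
def n16924 : Q := act 4 n16332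
theorem D16924 : act 4 n16332 = n16924 := rfl
theorem F66794 : act 1 n16924 = n16341 := d10_1 D16924 (iv D16341) (iv F64649)
theorem F66795 : act 3 n16924 = n16765 := d21_1 D16924 (iv D16765) (iv D16164) (iv F62168) D16332
theorem F66796 : act 7 n16924 = n16335 := d28_2 (iv F64650) D16924 (iv D16335)
def n16925 : Q := act 2 n16333
theorem D16925 : act 2 n16333 = n16925 := rfl
theorem F66797 : act 3 n16925 = n16345 := d15_2 D16333 D16925 (iv D16345) (iv D15712) (iv F62170)
theorem F66798 : act 5 n16925 = n16334 := d17_2 (iv F64652) D16925 (iv D16334)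
def n16926 : Q := act 4 n16333
theorem D16926 : act 4 n16333 = n16926 := rfl
theorem F66799 : act 1 n16926 = n16342 := d10_1 D16926 (iv D16342) (iv F64651)
theorem F66800 : act 3 n16926 = n16404 := d21_1 D16926 (iv D16404) (iv D15770) (iv F62171) D16333
def n16927 : Q := act 4 n16334
theorem D16927 : act 4 n16334 = n16927 := rfl
theorem F66801 : act 2 n16927 = n16335 := d16_1 D16927 (iv D16335) D16334
def n16928 : Q := act 5 n16335
theorem D16928 : act 5 n16335 = n16928 := rfl
theorem F66802 : act 1 n16928 = n16343 := d11_1 D16928 (iv D16343) (iv F64654)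
theorem F66803 : act 3 n16928 = n16336 := d22_1 D16928 (iv D16336) (iv F64655)
def n16929 : Q := act 6 n16336
theorem D16929 : act 6 n16336 = n16929 := rfl
theorem F66804 : act 1 n16929 = n16344 := d12_1 D16929 (iv D16344) (iv F64656)
theorem F66805 : act 4 n16929 = n16406 := d27_1 D16929 (iv D16406) (iv F64657)
theorem F66806 : act 7 n16929 = n16772 := d33_2 (iv F64658) D16929 (iv D16772)
def n16930 : Q := act 3 n16337
theorem D16930 : act 3 n16337 = n16930 := rfl
theorem F66807 : act 2 n16930 = n16893 := d15_1 D16930 (iv D16893) F64490 (iv F62200) (iv F64659)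
theorem F66808 : act 5 n16930 = n16773 := d22_2 (iv F64661) D16930 (iv D16773)
theorem F66809 : act 7 n16930 = n16571 := d24_2 D16337 D16930 (iv D16571) (iv D15971) (iv F62177)
def n16931 : Q := act 3 n16338
theorem D16931 : act 3 n16338 = n16931 := rfl
theorem F66810 : act 0 n16931 = n16681 := d2_1 D16931 (iv D16681) (iv F64662)
theorem F66811 : act 1 n16931 = n16859 := d9_1 D16931 (iv D16859) (iv F64663)
theorem F66812 : act 2 n16931 = n16685 := d15_1 D16931 (iv D16685) F63709 (iv F62205) (iv F64664)
theorem F66813 : act 5 n16931 = n16340 := d22_2 (iv F64665) D16931 (iv D16340)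
theorem F66814 : act 6 n16931 = n16822 := d23_2 (iv F64666) D16931 (iv D16822)
theorem F66815 : act 7 n16931 = n16619 := d24_2 D16338 D16931 (iv D16619) (iv D16027) (iv F62183)
theorem F66816 : act 8 n16931 = n16339 := d25_2 (iv F64667) D16931 (iv D16339)
def n16932 : Q := act 4 n16339
theorem D16932 : act 4 n16339 = n16932 := rfl
theorem F66817 : act 7 n16932 = n16342 := d28_2 (iv F64669) D16932 (iv D16342)
def n16933 : Q := act 4 n16340
theorem D16933 : act 4 n16340 = n16933 := rfl
theorem F66818 : act 0 n16933 = n16683 := d3_1 D16933 (iv D16683) (iv F64670)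
theorem F66819 : act 3 n16933 = n16779 := d21_1 D16933 (iv D16779) (iv D16174) (iv F62190) D16340
theorem F66820 : act 6 n16933 = n16616 := d27_2 (iv F64671) D16933 (iv D16616)
theorem F66821 : act 7 n16933 = n16623 := d28_2 (iv F64672) D16933 (iv D16623)
theorem F66822 : act 8 n16933 = n16341 := d29_2 (iv F64673) D16933 (iv D16341)
def n16934 : Q := act 5 n16341
theorem D16934 : act 5 n16341 = n16934 := rfl
theorem F66823 : act 3 n16934 = n16782 := d22_1 D16934 (iv D16782) (iv F64674)
theorem F66824 : act 7 n16934 = n16343 := d31_2 (iv F64675) D16934 (iv D16343)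
def n16935 : Q := act 5 n16342
theorem D16935 : act 5 n16342 = n16935 := rfl
theorem F66825 : act 3 n16935 = n16585 := d22_1 D16935 (iv D16585) (iv F64676)
theorem F66826 : act 4 n16935 = n16343 := d26_1 D16935 (iv D16343) (iv D15708) (iv F62194) D16342
def n16936 : Q := act 6 n16343
theorem D16936 : act 6 n16343 = n16936 := rfl
theorem F66827 : act 3 n16936 = n16344 := d23_1 D16936 (iv D16344) (iv F64677)
def n16937 : Q := act 2 n16347
theorem D16937 : act 2 n16347 = n16937 := rfl
theorem F66828 : act 0 n16937 = n16803 := d1_1 D16937 (iv F66433) F66432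
theorem F66829 : act 3 n16937 = n16349 := d15_2 D16347 D16937 (iv D16349) (iv D15717) (iv F62220)
theorem F66830 : act 5 n16937 = n16601 := d17_2 F65029 D16937 F65511
theorem F66831 : act 6 n16937 = n16366 := d18_2 (iv F64690) D16937 (iv D16366)
def n16938 : Q := act 4 n16347
theorem D16938 : act 4 n16347 = n16938 := rfl
theorem F66832 : act 1 n16938 = n16554 := d10_1 D16938 (iv D16554) (iv F64689)
theorem F66833 : act 3 n16938 = n16348 := d21_1 D16938 (iv D16348) (iv D15716) (iv F62221) D16347
theorem F66834 : act 6 n16938 = n16367 := d27_2 (iv F64690) D16938 (iv D16367)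
def n16939 : Q := act 5 n16348
theorem D16939 : act 5 n16348 = n16939 := rfl
theorem F66835 : act 1 n16939 = n16555 := d11_1 D16939 (iv D16555) (iv F64691)
theorem F66836 : act 7 n16939 = n16373 := d31_2 (iv F64693) D16939 (iv D16373)
def n16940 : Q := act 1 n16349
theorem D16940 : act 1 n16349 = n16940 := rfl
theorem F66837 : act 2 n16940 = n16458 := d8_2 D16349 D16940 (iv D16458) (iv D15833) (iv F62227)
theorem F66838 : act 4 n16940 = n16674 := d10_2 (iv F64695) D16940 (iv D16674)
theorem F66839 : act 5 n16940 = n16600 := d11_2 (iv F64696) D16940 F65508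
theorem F66840 : act 6 n16940 = n16372 := d12_2 (iv F64697) D16940 (iv D16372)
theorem F66841 : act 7 n16940 = n16485 := d13_2 (iv F64698) D16940 (iv D16485)
def n16941 : Q := act 7 n16350
theorem D16941 : act 7 n16350 = n16941 := rfl
theorem F66842 : act 0 n16941 = n16355 := d6_1 D16941 (iv D16355) (iv F64699)
theorem F66843 : act 2 n16941 = n16941 := d19_1 D16941 (iv D16941) F64700
theorem F66844 : act 4 n16941 = n16375 := d28_1 D16941 (iv D16375) (iv F64702)
theorem F66845 : act 6 n16941 = n16501 := d33_1 D16941 (iv D16501) (iv F64703)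
def n16942 : Q := act 3 n16351
theorem D16942 : act 3 n16351 = n16942 := rfl
theorem F66846 : act 0 n16942 = n16357 := d2_1 D16942 (iv D16357) (iv F64704)
theorem F66847 : act 6 n16942 = n16503 := d23_2 (iv F64707) D16942 (iv D16503)
theorem F66848 : act 8 n16942 = n16824 := d25_2 (iv F64708) D16942 (iv D16824)
def n16943 : Q := act 4 n16352
theorem D16943 : act 4 n16352 = n16943 := rfl
theorem F66849 : act 0 n16943 = n16358 := d3_1 D16943 (iv D16358) (iv F64709)
theorem F66850 : act 2 n16943 = n16933 := d16_1 D16943 (iv D16933) (iv F64710)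
theorem F66851 : act 6 n16943 = n16504 := d27_2 (iv F64711) D16943 (iv D16504)
theorem F66852 : act 7 n16943 = n16377 := d28_2 (iv F64712) D16943 (iv D16377)
theorem F66853 : act 8 n16943 = n16825 := d29_2 (iv F64713) D16943 (iv D16825)
def n16944 : Q := act 7 n16353
theorem D16944 : act 7 n16353 = n16944 := rfl
theorem F66854 : act 1 n16944 = n16361 := d13_1 D16944 (iv D16361) (iv F64714)
theorem F66855 : act 2 n16944 = n16944 := d19_1 D16944 (iv D16944) F64715
theorem F66856 : act 5 n16944 = n16355 := d31_1 D16944 (iv D16355) (iv F64717)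
theorem F66857 : act 6 n16944 = n16828 := d33_1 D16944 (iv D16828) (iv F64718)
theorem F66858 : act 8 n16944 = n16941 := d35_2 D16353 D16944 (iv D16941) (iv D16350) F62248
def n16945 : Q := act 7 n16354
theorem D16945 : act 7 n16354 = n16945 := rfl
theorem F66859 : act 0 n16945 = n16944 := d6_1 D16945 (iv D16944) (iv F64719)
theorem F66860 : act 1 n16945 = n16362 := d13_1 D16945 (iv D16362) (iv F64720)
theorem F66861 : act 2 n16945 = n16945 := d19_1 D16945 (iv D16945) F64721
theorem F66862 : act 4 n16945 = n16381 := d28_1 D16945 (iv D16381) (iv F64723)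
theorem F66863 : act 5 n16945 = n16941 := d31_1 D16945 (iv D16941) (iv F64724)
theorem F66864 : act 6 n16945 = n16549 := d33_1 D16945 (iv D16549) (iv F64725)
theorem F66865 : act 8 n16945 = n16355 := d35_2 D16354 D16945 (iv D16355) (iv D15723) D15722
def n16946 : Q := act 3 n16355
theorem D16946 : act 3 n16355 = n16946 := rfl
theorem F66866 : act 1 n16946 = n16363 := d9_1 D16946 (iv D16363) (iv F64726)
theorem F66867 : act 6 n16946 = n16550 := d23_2 (iv F64729) D16946 (iv D16550)
theorem F66868 : act 7 n16946 = n16357 := d24_2 D16355 D16946 (iv D16357) (iv D15725) (iv F62258)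
def n16947 : Q := act 3 n16356
theorem D16947 : act 3 n16356 = n16947 := rfl
theorem F66869 : act 1 n16947 = n16365 := d9_1 D16947 (iv D16365) (iv F64730)
theorem F66870 : act 5 n16947 = n16357 := d22_2 (iv F64733) D16947 (iv D16357)
theorem F66871 : act 8 n16947 = n16452 := d25_2 (iv F64734) D16947 (iv D16452)
def n16948 : Q := act 2 n16357
theorem D16948 : act 2 n16357 = n16948 := rfl
theorem F66872 : act 3 n16948 = n16459 := d15_2 D16357 D16948 (iv D16459) (iv D15837) (iv F62266)
theorem F66873 : act 6 n16948 = n16553 := d18_2 (iv F64736) D16948 (iv D16553)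
theorem F66874 : act 8 n16948 = n16937 := d20_2 (iv F64737) D16948 (iv D16937)
def n16949 : Q := act 4 n16357
theorem D16949 : act 4 n16357 = n16949 := rfl
theorem F66875 : act 1 n16949 = n16367 := d10_1 D16949 (iv D16367) (iv F64735)
theorem F66876 : act 3 n16949 = n16358 := d21_1 D16949 (iv D16358) (iv D15726) (iv F62267) D16357
theorem F66877 : act 6 n16949 = n16554 := d27_2 (iv F64736) D16949 (iv D16554)
theorem F66878 : act 8 n16949 = n16938 := d29_2 (iv F64737) D16949 (iv D16938)
def n16950 : Q := act 5 n16358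
theorem D16950 : act 5 n16358 = n16950 := rfl
theorem F66879 : act 1 n16950 = n16368 := d11_1 D16950 (iv D16368) (iv F64738)
theorem F66880 : act 7 n16950 = n16386 := d31_2 (iv F64740) D16950 (iv D16386)
theorem F66881 : act 8 n16950 = n16939 := d32_2 (iv F64741) D16950 (iv D16939)
def n16951 : Q := act 7 n16359
theorem D16951 : act 7 n16359 = n16951 := rfl
theorem F66882 : act 0 n16951 = n16691 := d6_1 D16951 (iv D16691) (iv F64742)
theorem F66883 : act 2 n16951 = n16486 := d19_1 D16951 (iv D16486) (iv F64743)
theorem F66884 : act 4 n16951 = n16361 := d28_1 D16951 (iv D16361) (iv F64745)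
theorem F66885 : act 5 n16951 = n16387 := d31_1 D16951 (iv D16387) (iv F64746)
theorem F66886 : act 6 n16951 = n16614 := d33_1 D16951 (iv D16614) (iv F64747)
theorem F66887 : act 8 n16951 = n16739 := d35_2 D16359 D16951 (iv D16739) (iv D16142) F62279
def n16952 : Q := act 7 n16360
theorem D16952 : act 7 n16360 = n16952 := rfl
theorem F66888 : act 0 n16952 = n16551 := d6_1 D16952 (iv D16551) (iv F64748)
theorem F66889 : act 1 n16952 = n16941 := d13_1 D16952 (iv D16941) (iv F64749)
theorem F66890 : act 2 n16952 = n16487 := d19_1 D16952 (iv D16487) (iv F64750)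
theorem F66891 : act 4 n16952 = n16739 := d28_1 D16952 (iv D16739) (iv F64752)
theorem F66892 : act 5 n16952 = n16362 := d31_1 D16952 (iv D16362) (iv F64753)
theorem F66893 : act 6 n16952 = n16502 := d33_1 D16952 (iv D16502) (iv F64754)
theorem F66894 : act 8 n16952 = n16361 := d35_2 D16360 D16952 (iv D16361) (iv D15729) D15728
def n16953 : Q := act 3 n16361
theorem D16953 : act 3 n16361 = n16953 := rfl
theorem F66895 : act 5 n16953 = n16363 := d22_2 (iv F64756) D16953 (iv D16363)
theorem F66896 : act 6 n16953 = n16834 := d23_2 (iv F64757) D16953 (iv D16834)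
theorem F66897 : act 7 n16953 = n16365 := d24_2 D16361 D16953 (iv D16365) (iv D15733) (iv F62288)
def n16954 : Q := act 3 n16362
theorem D16954 : act 3 n16362 = n16954 := rfl
theorem F66898 : act 8 n16954 = n16363 := d25_2 (iv F64760) D16954 (iv D16363)
def n16955 : Q := act 2 n16363
theorem D16955 : act 2 n16363 = n16955 := rfl
theorem F66899 : act 3 n16955 = n16490 := d15_2 D16363 D16955 (iv D16490) (iv D15888) (iv F62293)
theorem F66900 : act 7 n16955 = n16366 := d19_2 (iv F64761) D16955 (iv D16366)
def n16956 : Q := act 4 n16363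
theorem D16956 : act 4 n16363 = n16956 := rfl
theorem F66901 : act 3 n16956 = n16392 := d21_1 D16956 (iv D16392) (iv D15758) (iv F62294) D16363
theorem F66902 : act 7 n16956 = n16367 := d28_2 (iv F64761) D16956 (iv D16367)
def n16957 : Q := act 3 n16364
theorem D16957 : act 3 n16364 = n16957 := rfl
theorem F66903 : act 0 n16957 = n16953 := d2_1 D16957 (iv D16953) (iv F64762)
theorem F66904 : act 5 n16957 = n16833 := d22_2 (iv F64764) D16957 (iv D16833)
theorem F66905 : act 6 n16957 = n16365 := d23_2 (iv F64765) D16957 (iv D16365)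
theorem F66906 : act 7 n16957 = n16834 := d24_2 D16364 D16957 (iv D16834) (iv D16243) (iv F62297)
def n16958 : Q := act 2 n16365
theorem D16958 : act 2 n16365 = n16958 := rfl
theorem F66907 : act 3 n16958 = n16370 := d15_2 D16365 D16958 (iv D16370) (iv D15737) (iv F62300)
theorem F66908 : act 5 n16958 = n16366 := d17_2 (iv F64766) D16958 (iv D16366)
def n16959 : Q := act 4 n16365
theorem D16959 : act 4 n16365 = n16959 := rfl
def n16960 : Q := act 1 n16366
theorem D16960 : act 1 n16366 = n16960 := rfl
theorem F66909 : act 3 n16960 = n16372 := d9_2 (iv F64767) D16960 (iv D16372)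
def n16961 : Q := act 4 n16366
theorem D16961 : act 4 n16366 = n16961 := rfl
theorem F66910 : act 2 n16961 = n16367 := d16_1 D16961 (iv D16367) D16366
def n16962 : Q := act 5 n16367
theorem D16962 : act 5 n16367 = n16962 := rfl
theorem F66911 : act 3 n16962 = n16368 := d22_1 D16962 (iv D16368) (iv F64768)
def n16963 : Q := act 6 n16368
theorem D16963 : act 6 n16368 = n16963 := rfl
theorem F66912 : act 7 n16963 = n16396 := d33_2 (iv F64769) D16963 (iv D16396)
def n16964 : Q := act 2 n16369
theorem D16964 : act 2 n16369 = n16964 := rfl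
theorem F66913 : act 5 n16964 = n16478 := d17_2 (iv F64771) D16964 F65136
theorem F66914 : act 6 n16964 = n16370 := d18_2 (iv F64772) D16964 (iv D16370)
theorem F66915 : act 7 n16964 = n16480 := d19_2 (iv F64773) D16964 F65143
def n16965 : Q := act 1 n16370
theorem D16965 : act 1 n16370 = n16965 := rfl
theorem F66916 : act 2 n16965 = n16461 := d8_2 D16370 D16965 (iv D16461) (iv D15841) (iv F62305)
theorem F66917 : act 5 n16965 = n16372 := d11_2 (iv F64774) D16965 (iv D16372)
theorem F66918 : act 7 n16965 = n16494 := d13_2 (iv F64775) D16965 (iv D16494)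
theorem F66919 : act 4 n16964 = n16965 := d28_3 F66918 (iv F65212) (iv F66915)
def n16966 : Q := act 4 n16370
theorem D16966 : act 4 n16370 = n16966 := rfl
theorem F66920 : act 1 n16966 = n16964 := d10_1 D16966 F66919 (iv D16965)
theorem F66921 : act 2 n16966 = n16371 := d16_1 D16966 (iv D16371) D16370
theorem F66922 : act 6 n16966 = n16965 := d27_2 F66914 D16966 (iv F66919)
theorem F66923 : act 7 n16966 = n16495 := d28_2 (iv F64775) D16966 (iv D16495)
def n16967 : Q := act 0 n16372
theorem D16967 : act 0 n16372 = n16967 := rfl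
theorem F66924 : act 2 n16967 = n16462 := d1_2 (iv F64778) D16967 (iv D16462)
theorem F66925 : act 7 n16967 = n16496 := d6_2 (iv F64779) D16967 (iv D16496)
def n16968 : Q := act 6 n16373
theorem D16968 : act 6 n16373 = n16968 := rfl
theorem F66926 : act 1 n16968 = n16570 := d12_1 D16968 (iv D16570) (iv F64780)
theorem F66927 : act 5 n16968 = n16396 := d30_1 D16968 (iv D16396) (iv D15762) (iv F62315) D16373
theorem F66928 : act 8 n16968 = n16406 := d34_2 (iv F64781) D16968 (iv D16406)
def n16969 : Q := act 7 n16374
theorem D16969 : act 7 n16374 = n16969 := rfl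
theorem F66929 : act 0 n16969 = n16381 := d6_1 D16969 (iv D16381) (iv F64782)
theorem F66930 : act 1 n16969 = n16951 := d13_1 D16969 (iv D16951) (iv F64783)
theorem F66931 : act 2 n16969 = n16969 := d19_1 D16969 (iv D16969) F64784
theorem F66932 : act 4 n16969 = n16944 := d28_1 D16969 (iv D16944) (iv F64786)
theorem F66933 : act 6 n16969 = n16509 := d33_1 D16969 (iv D16509) (iv F64787)
theorem F66934 : act 8 n16969 = n16375 := d35_2 D16374 D16969 (iv D16375) (iv D15742) D15741
def n16970 : Q := act 3 n16375
theorem D16970 : act 3 n16375 = n16970 := rfl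
theorem F66935 : act 0 n16970 = n16382 := d2_1 D16970 (iv D16382) (iv F64788)
theorem F66936 : act 6 n16970 = n16510 := d23_2 (iv F64790) D16970 (iv D16510)
theorem F66937 : act 7 n16970 = n16376 := d24_2 D16375 D16970 (iv D16376) (iv D15743) (iv F62325)
def n16971 : Q := act 2 n16376
theorem D16971 : act 2 n16376 = n16971 := rfl
theorem F66938 : act 0 n16971 = n16384 := d1_1 D16971 (iv D16384) (iv F64791)
theorem F66939 : act 3 n16971 = n16453 := d15_2 D16376 D16971 (iv D16453) (iv D15822) (iv F62328)
theorem F66940 : act 6 n16971 = n16511 := d18_2 (iv F64792) D16971 (iv D16511)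
theorem F66941 : act 8 n16971 = n16413 := d20_2 (iv F64793) D16971 (iv D16413)
def n16972 : Q := act 4 n16376
theorem D16972 : act 4 n16376 = n16972 := rfl
theorem F66942 : act 0 n16972 = n16385 := d3_1 D16972 (iv D16385) (iv F64791)
theorem F66943 : act 3 n16972 = n16377 := d21_1 D16972 (iv D16377) (iv D15744) (iv F62329) D16376
theorem F66944 : act 6 n16972 = n16512 := d27_2 (iv F64792) D16972 (iv D16512)
theorem F66945 : act 8 n16972 = n16414 := d29_2 (iv F64793) D16972 (iv D16414)
def n16973 : Q := act 5 n16377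
theorem D16973 : act 5 n16377 = n16973 := rfl
theorem F66946 : act 0 n16973 = n16386 := d4_1 D16973 (iv D16386) (iv F64794)
theorem F66947 : act 8 n16973 = n16415 := d32_2 (iv F64796) D16973 (iv D16415)
def n16974 : Q := act 7 n16378
theorem D16974 : act 7 n16378 = n16974 := rfl
theorem F66948 : act 1 n16974 = n16387 := d13_1 D16974 (iv D16387) (iv F64797)
theorem F66949 : act 2 n16974 = n16974 := d19_1 D16974 (iv D16974) F64798
theorem F66950 : act 4 n16974 = n16380 := d28_1 D16974 (iv D16380) (iv F64799)
theorem F66951 : act 5 n16974 = n16969 := d31_1 D16974 (iv D16969) (iv F64800)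
theorem F66952 : act 6 n16974 = n16761 := d33_1 D16974 (iv D16761) (iv F64801)
theorem F66953 : act 8 n16974 = n16760 := d35_2 D16378 D16974 (iv D16760) (iv D16160) F62339
def n16975 : Q := act 7 n16379
theorem D16975 : act 7 n16379 = n16975 := rfl
theorem F66954 : act 0 n16975 = n16974 := d6_1 D16975 (iv D16974) (iv F64802)
theorem F66955 : act 1 n16975 = n16389 := d13_1 D16975 (iv D16389) (iv F64803)
theorem F66956 : act 2 n16975 = n16975 := d19_1 D16975 (iv D16975) F64804
theorem F66957 : act 4 n16975 = n16760 := d28_1 D16975 (iv D16760) (iv F64806)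
theorem F66958 : act 5 n16975 = n16381 := d31_1 D16975 (iv D16381) (iv F64807)
theorem F66959 : act 6 n16975 = n16759 := d33_1 D16975 (iv D16759) (iv F64808)
theorem F66960 : act 8 n16975 = n16380 := d35_2 D16379 D16975 (iv D16380) (iv D15747) D15746
def n16976 : Q := act 3 n16380
theorem D16976 : act 3 n16380 = n16976 := rfl
theorem F66961 : act 1 n16976 = n16390 := d9_1 D16976 (iv D16390) (iv F64809)
theorem F66962 : act 5 n16976 = n16382 := d22_2 (iv F64811) D16976 (iv D16382)
theorem F66963 : act 7 n16976 = n16383 := d24_2 D16380 D16976 (iv D16383) (iv D15750) (iv F62349)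
def n16977 : Q := act 3 n16381
theorem D16977 : act 3 n16381 = n16977 := rfl
theorem F66964 : act 1 n16977 = n16391 := d9_1 D16977 (iv D16391) (iv F64812)
theorem F66965 : act 6 n16977 = n16563 := d23_2 (iv F64814) D16977 (iv D16563)
theorem F66966 : act 7 n16977 = n16420 := d24_2 D16381 D16977 (iv D16420) (iv D15785) (iv F62353)
theorem F66967 : act 8 n16977 = n16382 := d25_2 (iv F64815) D16977 (iv D16382)
def n16978 : Q := act 2 n16382
theorem D16978 : act 2 n16382 = n16978 := rfl
theorem F66968 : act 3 n16978 = n16978 := d15_2 D16382 D16978 (iv D16978) (iv D16382) F62356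
theorem F66969 : act 6 n16978 = n16564 := d18_2 (iv F64817) D16978 (iv D16564)
theorem F66970 : act 7 n16978 = n16384 := d19_2 (iv F64818) D16978 (iv D16384)
def n16979 : Q := act 4 n16382
theorem D16979 : act 4 n16382 = n16979 := rfl
theorem F66971 : act 1 n16979 = n16392 := d10_1 D16979 (iv D16392) (iv F64816)
theorem F66972 : act 6 n16979 = n16565 := d27_2 (iv F64817) D16979 (iv D16565)
theorem F66973 : act 7 n16979 = n16385 := d28_2 (iv F64818) D16979 (iv D16385)
def n16980 : Q := act 2 n16383
theorem D16980 : act 2 n16383 = n16980 := rfl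
theorem F66974 : act 3 n16980 = n16454 := d15_2 D16383 D16980 (iv D16454) (iv D15823) (iv F62359)
theorem F66975 : act 5 n16980 = n16384 := d17_2 (iv F64820) D16980 (iv D16384)
theorem F66976 : act 8 n16980 = n16424 := d20_2 (iv F64821) D16980 (iv D16424)
def n16981 : Q := act 4 n16383
theorem D16981 : act 4 n16383 = n16981 := rfl
theorem F66977 : act 1 n16981 = n16394 := d10_1 D16981 (iv D16394) (iv F64819)
theorem F66978 : act 8 n16981 = n16425 := d29_2 (iv F64821) D16981 (iv D16425)
def n16982 : Q := act 4 n16384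
theorem D16982 : act 4 n16384 = n16982 := rfl
theorem F66979 : act 2 n16982 = n16385 := d16_1 D16982 (iv D16385) D16384
theorem F66980 : act 6 n16982 = n16568 := d27_2 (iv F64823) D16982 (iv D16568)
theorem F66981 : act 8 n16982 = n16427 := d29_2 (iv F64824) D16982 (iv D16427)
def n16983 : Q := act 5 n16385
theorem D16983 : act 5 n16385 = n16983 := rfl
theorem F66982 : act 1 n16983 = n16395 := d11_1 D16983 (iv D16395) (iv F64825)
theorem F66983 : act 3 n16983 = n16386 := d22_1 D16983 (iv D16386) (iv F64826)
theorem F66984 : act 8 n16983 = n16428 := d32_2 (iv F64828) D16983 (iv D16428)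
def n16984 : Q := act 6 n16386
theorem D16984 : act 6 n16386 = n16984 := rfl
theorem F66985 : act 1 n16984 = n16396 := d12_1 D16984 (iv D16396) (iv F64829)
theorem F66986 : act 5 n16984 = n16570 := d30_1 D16984 (iv D16570) (iv D15969) (iv F62366) D16386
theorem F66987 : act 8 n16984 = n16429 := d34_2 (iv F64830) D16984 (iv D16429)
def n16985 : Q := act 3 n16387
theorem D16985 : act 3 n16387 = n16985 := rfl

end Cfsg.Agent.Helper17.Fi22bTC
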