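import Cfsg.Agent.Helper17.Fi22bTC.Facts5

set_option autoImplicit false
set_option linter.all false

noncomputable section

namespace Cfsg.Agent.Helper17.Fi22bTC

theorem F66988 : act 6 n16985 = n16775 := d23_2 (iv F64833) D16985 (iv D16775)
theorem F66989 : act 8 n16985 = n16774 := d25_2 (iv F64834) D16985 (iv D16774)
def n16986 : Q := act 3 n16388
theorem D16986 : act 3 n16388 = n16986 := rfl
theorem F66990 : act 6 n16986 = n16390 := d23_2 (iv F64837) D16986 (iv D16390)
theorem F66991 : act 7 n16986 = n16393 := d24_2 D16388 D16986 (iv D16393) (iv D15759) (iv F62372)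
theorem F66992 : act 8 n16986 = n16773 := d25_2 (iv F64838) D16986 (iv D16773)
def n16987 : Q := act 3 n16389
theorem D16987 : act 3 n16389 = n16987 := rfl
theorem F66993 : act 5 n16987 = n16391 := d22_2 (iv F64841) D16987 (iv D16391)
theorem F66994 : act 6 n16987 = n16773 := d23_2 (iv F64842) D16987 (iv D16773)
theorem F66995 : act 7 n16987 = n16432 := d24_2 D16389 D16987 (iv D16432) (iv D15794) (iv F62376)
theorem F66996 : act 8 n16987 = n16390 := d25_2 (iv F64843) D16987 (iv D16390)
def n16988 : Q := act 4 n16390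
theorem D16988 : act 4 n16390 = n16988 := rfl
theorem F66997 : act 7 n16988 = n16394 := d28_2 (iv F64845) D16988 (iv D16394)
def n16989 : Q := act 4 n16391
theorem D16989 : act 4 n16391 = n16989 := rfl
theorem F66998 : act 7 n16989 = n16436 := d28_2 (iv F64846) D16989 (iv D16436)
theorem F66999 : act 8 n16989 = n16392 := d29_2 (iv F64847) D16989 (iv D16392)
def n16990 : Q := act 5 n16392
theorem D16990 : act 5 n16392 = n16990 := rfl
theorem F67000 : act 7 n16990 = n16395 := d31_2 (iv F64848) D16990 (iv D16395)
def n16991 : Q := act 4 n16393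
theorem D16991 : act 4 n16393 = n16991 := rfl
theorem F67001 : act 6 n16991 = n16394 := d27_2 (iv F64849) D16991 (iv D16394)
theorem F67002 : act 8 n16991 = n16440 := d29_2 (iv F64850) D16991 (iv D16440)
def n16992 : Q := act 5 n16394
theorem D16992 : act 5 n16394 = n16992 := rfl
theorem F67003 : act 4 n16992 = n16395 := d26_1 D16992 (iv D16395) (iv D15761) (iv F62388) D16394
theorem F67004 : act 8 n16992 = n16442 := d32_2 (iv F64851) D16992 (iv D16442)
def n16993 : Q := act 6 n16395
theorem D16993 : act 6 n16395 = n16993 := rfl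
theorem F67005 : act 3 n16993 = n16396 := d23_1 D16993 (iv D16396) (iv F64852)
theorem F67006 : act 8 n16993 = n16445 := d34_2 (iv F64853) D16993 (iv D16445)
def n16994 : Q := act 3 n16397
theorem D16994 : act 3 n16397 = n16994 := rfl
theorem F67007 : act 1 n16994 = n16571 := d9_1 D16994 (iv D16571) (iv F64855)
theorem F67008 : act 6 n16994 = n16573 := d23_2 (iv F64858) D16994 (iv D16573)
theorem F67009 : act 8 n16994 = n16572 := d25_2 (iv F64859) D16994 (iv D16572)
def n16995 : Q := act 3 n16398
theorem D16995 : act 3 n16398 = n16995 := rfl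
theorem F67010 : act 1 n16995 = n16572 := d9_1 D16995 (iv D16572) (iv F64860)
theorem F67011 : act 5 n16995 = n16431 := d22_2 (iv F64863) D16995 (iv D16431)
theorem F67012 : act 6 n16995 = n16400 := d23_2 (iv F64864) D16995 (iv D16400)
theorem F67013 : act 7 n16995 = n16403 := d24_2 D16398 D16995 (iv D16403) (iv D15769) (iv F62399)
theorem F67014 : act 8 n16995 = n16571 := d25_2 (iv F64865) D16995 (iv D16571)
def n16996 : Q := act 3 n16399
theorem D16996 : act 3 n16399 = n16996 := rfl
theorem F67015 : act 1 n16996 = n16573 := d9_1 D16996 (iv D16573) (iv F64866)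
theorem F67016 : act 5 n16996 = n16401 := d22_2 (iv F64869) D16996 (iv D16401)
theorem F67017 : act 6 n16996 = n16571 := d23_2 (iv F64870) D16996 (iv D16571)
theorem F67018 : act 8 n16996 = n16400 := d25_2 (iv F64871) D16996 (iv D16400)
def n16997 : Q := act 4 n16400
theorem D16997 : act 4 n16400 = n16997 := rfl
theorem F67019 : act 1 n16997 = n16575 := d10_1 D16997 (iv D16575) (iv F64872)
theorem F67020 : act 7 n16997 = n16404 := d28_2 (iv F64874) D16997 (iv D16404)
def n16998 : Q := act 4 n16401
theorem D16998 : act 4 n16401 = n16998 := rfl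
theorem F67021 : act 1 n16998 = n16577 := d10_1 D16998 (iv D16577) (iv F64875)
theorem F67022 : act 6 n16998 = n16436 := d27_2 (iv F64876) D16998 (iv D16436)
theorem F67023 : act 8 n16998 = n16402 := d29_2 (iv F64877) D16998 (iv D16402)
def n16999 : Q := act 5 n16402
theorem D16999 : act 5 n16402 = n16999 := rfl
theorem F67024 : act 1 n16999 = n16580 := d11_1 D16999 (iv D16580) (iv F64878)
theorem F67025 : act 7 n16999 = n16405 := d31_2 (iv F64880) D16999 (iv D16405)
def n17000 : Q := act 4 n16403
theorem D17000 : act 4 n16403 = n17000 := rfl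
theorem F67026 : act 1 n17000 = n16582 := d10_1 D17000 (iv D16582) (iv F64881)
theorem F67027 : act 6 n17000 = n16404 := d27_2 (iv F64883) D17000 (iv D16404)
def n17001 : Q := act 5 n16404
theorem D17001 : act 5 n16404 = n17001 := rfl
theorem F67028 : act 1 n17001 = n16585 := d11_1 D17001 (iv D16585) (iv F64884)
theorem F67029 : act 4 n17001 = n16405 := d26_1 D17001 (iv D16405) (iv D15771) (iv F62423) D16404
def n17002 : Q := act 6 n16405
theorem D17002 : act 6 n16405 = n17002 := rfl
theorem F67030 : act 1 n17002 = n16589 := d12_1 D17002 (iv D16589) (iv F64885)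
theorem F67031 : act 3 n17002 = n16406 := d23_1 D17002 (iv D16406) (iv F64886)
theorem F67032 : act 5 n17002 = n16445 := d30_1 D17002 (iv D16445) (iv D15804) (iv F62426) D16405
def n17003 : Q := act 7 n16407
theorem D17003 : act 7 n16407 = n17003 := rfl
theorem F67033 : act 0 n17003 = n16416 := d6_1 D17003 (iv D16416) (iv F64889)
theorem F67034 : act 1 n17003 = n16716 := d13_1 D17003 (iv D16716) (iv F64890)
theorem F67035 : act 2 n17003 = n16463 := d19_1 D17003 (iv D16463) (iv F64891)
theorem F67036 : act 4 n17003 = n16409 := d28_1 D17003 (iv D16409) (iv F64893)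
theorem F67037 : act 5 n17003 = n16708 := d31_1 D17003 (iv D16708) (iv F64894)
theorem F67038 : act 8 n17003 = n16707 := d35_2 D16407 D17003 (iv D16707) (iv D16115) F62433
def n17004 : Q := act 7 n16408
theorem D17004 : act 7 n16408 = n17004 := rfl
theorem F67039 : act 0 n17004 = n16418 := d6_1 D17004 (iv D16418) (iv F64895)
theorem F67040 : act 1 n17004 = n16714 := d13_1 D17004 (iv D16714) (iv F64896)
theorem F67041 : act 2 n17004 = n16465 := d19_1 D17004 (iv D16465) (iv F64897)
theorem F67042 : act 4 n17004 = n16707 := d28_1 D17004 (iv D16707) (iv F64899)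
theorem F67043 : act 5 n17004 = n16410 := d31_1 D17004 (iv D16410) (iv F64900)
theorem F67044 : act 6 n17004 = n17003 := d33_1 D17004 (iv D17003) (iv F64901)
theorem F67045 : act 8 n17004 = n16409 := d35_2 D16408 D17004 (iv D16409) (iv D15775) D15774
def n17005 : Q := act 3 n16409
theorem D17005 : act 3 n16409 = n17005 := rfl
theorem F67046 : act 0 n17005 = n16419 := d2_1 D17005 (iv D16419) (iv F64902)
theorem F67047 : act 5 n17005 = n16411 := d22_2 (iv F64904) D17005 (iv D16411)
theorem F67048 : act 7 n17005 = n16412 := d24_2 D16409 D17005 (iv D16412) (iv D15778) (iv F62443)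
def n17006 : Q := act 3 n16410
theorem D17006 : act 3 n16410 = n17006 := rfl
theorem F67049 : act 0 n17006 = n16420 := d2_1 D17006 (iv D16420) (iv F64905)
theorem F67050 : act 6 n17006 = n16524 := d23_2 (iv F64908) D17006 (iv D16524)
theorem F67051 : act 8 n17006 = n16411 := d25_2 (iv F64909) D17006 (iv D16411)
def n17007 : Q := act 2 n16411
theorem D17007 : act 2 n16411 = n17007 := rfl
theorem F67052 : act 0 n17007 = n16421 := d1_1 D17007 (iv D16421) (iv F64910)
theorem F67053 : act 3 n17007 = n16468 := d15_2 D16411 D17007 (iv D16468) (iv D15849) (iv F62450)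
theorem F67054 : act 6 n17007 = n16525 := d18_2 (iv F64911) D17007 (iv D16525)
theorem F67055 : act 7 n17007 = n16413 := d19_2 (iv F64912) D17007 (iv D16413)
def n17008 : Q := act 4 n16411
theorem D17008 : act 4 n16411 = n17008 := rfl
theorem F67056 : act 0 n17008 = n16422 := d3_1 D17008 (iv D16422) (iv F64910)
theorem F67057 : act 3 n17008 = n16870 := d21_1 D17008 (iv D16870) (iv D16274) (iv F62451) D16411
theorem F67058 : act 6 n17008 = n16526 := d27_2 (iv F64911) D17008 (iv D16526)
theorem F67059 : act 7 n17008 = n16414 := d28_2 (iv F64912) D17008 (iv D16414)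
def n17009 : Q := act 2 n16412
theorem D17009 : act 2 n16412 = n17009 := rfl
theorem F67060 : act 0 n17009 = n16424 := d1_1 D17009 (iv D16424) (iv F64913)
theorem F67061 : act 3 n17009 = n16456 := d15_2 D16412 D17009 (iv D16456) (iv D15826) (iv F62454)
theorem F67062 : act 5 n17009 = n16413 := d17_2 (iv F64914) D17009 (iv D16413)
def n17010 : Q := act 4 n16412
theorem D17010 : act 4 n16412 = n17010 := rfl
theorem F67063 : act 0 n17010 = n16425 := d3_1 D17010 (iv D16425) (iv F64913)
def n17011 : Q := act 1 n16413
theorem D17011 : act 1 n16413 = n17011 := rfl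
theorem F67064 : act 3 n17011 = n16457 := d9_2 (iv F64916) D17011 (iv D16457)
theorem F67065 : act 6 n17011 = n16529 := d12_2 (iv F64917) D17011 (iv D16529)
def n17012 : Q := act 4 n16413
theorem D17012 : act 4 n16413 = n17012 := rfl
theorem F67066 : act 0 n17012 = n16427 := d3_1 D17012 (iv D16427) (iv F64915)
theorem F67067 : act 2 n17012 = n16414 := d16_1 D17012 (iv D16414) D16413
theorem F67068 : act 6 n17012 = n16530 := d27_2 (iv F64917) D17012 (iv D16530)
def n17013 : Q := act 5 n16414
theorem D17013 : act 5 n16414 = n17013 := rfl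
theorem F67069 : act 0 n17013 = n16428 := d4_1 D17013 (iv D16428) (iv F64918)
theorem F67070 : act 3 n17013 = n16415 := d22_1 D17013 (iv D16415) (iv F64919)
def n17014 : Q := act 6 n16415
theorem D17014 : act 6 n16415 = n17014 := rfl
theorem F67071 : act 0 n17014 = n16429 := d5_1 D17014 (iv D16429) (iv F64921)
theorem F67072 : act 5 n17014 = n16532 := d30_1 D17014 (iv D16532) (iv D15927) (iv F62459) D16415
theorem F67073 : act 7 n17014 = n16873 := d33_2 (iv F64922) D17014 (iv D16873)
def n17015 : Q := act 3 n16416
theorem D17015 : act 3 n16416 = n17015 := rfl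
theorem F67074 : act 1 n17015 = n16430 := d9_1 D17015 (iv D16430) (iv F64923)
theorem F67075 : act 5 n17015 = n16994 := d22_2 (iv F64926) D17015 (iv D16994)
def n17016 : Q := act 3 n16417
theorem D17016 : act 3 n16417 = n17016 := rfl
theorem F67076 : act 1 n17016 = n16431 := d9_1 D17016 (iv D16431) (iv F64927)
theorem F67077 : act 5 n17016 = n16572 := d22_2 (iv F64929) D17016 (iv D16572)
theorem F67078 : act 6 n17016 = n16419 := d23_2 (iv F64930) D17016 (iv D16419)
theorem F67079 : act 7 n17016 = n16423 := d24_2 D16417 D17016 (iv D16423) (iv D15787) (iv F62467)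
theorem F67080 : act 8 n17016 = n17015 := d25_2 (iv F64931) D17016 (iv D17015)
def n17017 : Q := act 3 n16418
theorem D17017 : act 3 n16418 = n17017 := rfl
theorem F67081 : act 1 n17017 = n16432 := d9_1 D17017 (iv D16432) (iv F64932)
theorem F67082 : act 5 n17017 = n16420 := d22_2 (iv F64935) D17017 (iv D16420)
theorem F67083 : act 6 n17017 = n17015 := d23_2 (iv F64936) D17017 (iv D17015)
theorem F67084 : act 8 n17017 = n16419 := d25_2 (iv F64937) D17017 (iv D16419)
def n17018 : Q := act 2 n16419
theorem D17018 : act 2 n16419 = n17018 := rfl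
theorem F67085 : act 1 n17018 = n16915 := d8_1 D17018 (iv D16915) F64976 (iv D16433) (iv F64938)
theorem F67086 : act 3 n17018 = n16474 := d15_2 D16419 D17018 (iv D16474) (iv D15856) (iv F62476)
theorem F67087 : act 5 n17018 = n16421 := d17_2 (iv F64939) D17018 (iv D16421)
theorem F67088 : act 7 n17018 = n16424 := d19_2 (iv F64940) D17018 (iv D16424)
def n17019 : Q := act 4 n16419
theorem D17019 : act 4 n16419 = n17019 := rfl
theorem F67089 : act 1 n17019 = n16434 := d10_1 D17019 (iv D16434) (iv F64938)
theorem F67090 : act 7 n17019 = n16425 := d28_2 (iv F64940) D17019 (iv D16425)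
def n17020 : Q := act 2 n16420
theorem D17020 : act 2 n16420 = n17020 := rfl
theorem F67091 : act 3 n17020 = n16475 := d15_2 D16420 D17020 (iv D16475) (iv D15857) (iv F62479)
theorem F67092 : act 6 n17020 = n16576 := d18_2 (iv F64942) D17020 (iv D16576)
theorem F67093 : act 8 n17020 = n16421 := d20_2 (iv F64943) D17020 (iv D16421)
def n17021 : Q := act 4 n16420
theorem D17021 : act 4 n16420 = n17021 := rfl
theorem F67094 : act 1 n17021 = n16436 := d10_1 D17021 (iv D16436) (iv F64941)
theorem F67095 : act 3 n17021 = n16998 := d21_1 D17021 (iv D16998) (iv D16401) (iv F62480) D16420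
theorem F67096 : act 6 n17021 = n16577 := d27_2 (iv F64942) D17021 (iv D16577)
theorem F67097 : act 8 n17021 = n16422 := d29_2 (iv F64943) D17021 (iv D16422)
def n17022 : Q := act 1 n16421
theorem D17022 : act 1 n16421 = n17022 := rfl
theorem F67098 : act 2 n17022 = n16437 := d8_2 D16421 D17022 (iv D16437) (iv D15797) (iv F62483)
theorem F67099 : act 3 n17022 = n16477 := d9_2 (iv F64944) D17022 (iv D16477)
theorem F67100 : act 5 n17022 = n16915 := d11_2 F67087 D17022 (iv F67085)
theorem F67101 : act 6 n17022 = n16578 := d12_2 (iv F64945) D17022 (iv D16578)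
theorem F67102 : act 7 n17022 = n16426 := d13_2 (iv F64946) D17022 (iv D16426)
def n17023 : Q := act 4 n16421
theorem D17023 : act 4 n16421 = n17023 := rfl
theorem F67103 : act 2 n17023 = n16422 := d16_1 D17023 (iv D16422) D16421
theorem F67104 : act 6 n17023 = n16579 := d27_2 (iv F64945) D17023 (iv D16579)
theorem F67105 : act 7 n17023 = n16427 := d28_2 (iv F64946) D17023 (iv D16427)
def n17024 : Q := act 5 n16422
theorem D17024 : act 5 n16422 = n17024 := rfl
theorem F67106 : act 1 n17024 = n16439 := d11_1 D17024 (iv D16439) (iv F64947)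
theorem F67107 : act 3 n17024 = n16999 := d22_1 D17024 (iv D16999) (iv F64948)
theorem F67108 : act 7 n17024 = n16428 := d31_2 (iv F64950) D17024 (iv D16428)
def n17025 : Q := act 4 n16423
theorem D17025 : act 4 n16423 = n17025 := rfl
theorem F67109 : act 1 n17025 = n16440 := d10_1 D17025 (iv D16440) (iv F64951)
theorem F67110 : act 6 n17025 = n16425 := d27_2 (iv F64953) D17025 (iv D16425)
def n17026 : Q := act 4 n16424
theorem D17026 : act 4 n16424 = n17026 := rfl
theorem F67111 : act 2 n17026 = n16425 := d16_1 D17026 (iv D16425) D16424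
def n17027 : Q := act 5 n16425
theorem D17027 : act 5 n16425 = n17027 := rfl
theorem F67112 : act 1 n17027 = n16442 := d11_1 D17027 (iv D16442) (iv F64956)
theorem F67113 : act 4 n17027 = n16428 := d26_1 D17027 (iv D16428) (iv D15790) (iv F62491) D16425
def n17028 : Q := act 4 n16426
theorem D17028 : act 4 n16426 = n17028 := rfl
theorem F67114 : act 1 n17028 = n16427 := d10_1 D17028 (iv D16427) D16426
theorem F67115 : act 2 n17028 = n16443 := d16_1 D17028 (iv D16443) (iv F64957)
theorem F67116 : act 6 n17028 = n16587 := d27_2 (iv F64959) D17028 (iv D16587)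
def n17029 : Q := act 5 n16427
theorem D17029 : act 5 n16427 = n17029 := rfl
theorem F67117 : act 2 n17029 = n16428 := d17_1 D17029 (iv D16428) (iv F64960)
def n17030 : Q := act 6 n16428
theorem D17030 : act 6 n16428 = n17030 := rfl
theorem F67118 : act 1 n17030 = n16445 := d12_1 D17030 (iv D16445) (iv F64962)
theorem F67119 : act 3 n17030 = n16429 := d23_1 D17030 (iv D16429) (iv F64963)
theorem F67120 : act 5 n17030 = n16589 := d30_1 D17030 (iv D16589) (iv D15983) (iv F62496) D16428
def n17031 : Q := act 2 n16430
theorem D17031 : act 2 n16430 = n17031 := rfl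
theorem F67121 : act 0 n17031 = n16930 := d1_1 D17031 F66807 F66679
theorem F67122 : act 3 n17031 = n16451 := d15_2 D16430 D17031 (iv D16451) (iv D15814) (iv F62499)
theorem F67123 : act 6 n17031 = n16687 := d18_2 F64971 D17031 F65920
theorem F67124 : act 8 n17031 = n16654 := d20_2 F64969 D17031 F65769
theorem F67125 : act 1 n16662 = n17031 := d36_6 (iv F63763) (iv F65890) (iv D16681) F63690 (iv F63567) D16662 (iv D17031) (iv D16430) (iv F62503) (iv D15793) F59581 (iv F59507) (iv F60642) (iv F63317) F63315 F61068 F58688 (iv D14005) F51619 (iv F47908) (iv D12141) F43942 F41554 F41552 F41553 F34601 F38830 (iv D4904) (iv F17803) (iv D4548) F13226 F12215 (iv D3058) (iv D2250) (iv D1655) (iv F5434) F5433 D1742 D2375 D3236 F12885 (iv F10003) (iv F13398) D4625 F18061 D4668 D6393 (iv F31772) D10149 F40067 (iv F43485) (iv F47508) D13077 (iv F53098) (iv D13466) F49111 F44998 (iv F49082) (iv F53057) (iv F56337) (iv F59580) F59581 (iv D14250) (iv F56184) (iv F59456) (iv F60753) F60752 F59284 F57530 F55618 F51941 D14066 D14894 D15626 (iv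 F63629) F63628 (iv D15474) F58183 (iv F58436) (iv F61036) F61041 F58534 (iv D14805) F55128 F51352 (iv F51278) (iv F54801) (iv F58202) D15478
def n17032 : Q := act 4 n16430
theorem D17032 : act 4 n16430 = n17032 := rfl
theorem F67126 : act 3 n17032 = n16434 := d21_1 D17032 (iv D16434) (iv D15795) (iv F62500) D16430
def n17033 : Q := act 4 n16431
theorem D17033 : act 4 n16431 = n17033 := rfl
theorem F67127 : act 6 n17033 = n16434 := d27_2 (iv F64967) D17033 (iv D16434)
theorem F67128 : act 7 n17033 = n16440 := d28_2 (iv F64968) D17033 (iv D16440)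
theorem F67129 : act 8 n17033 = n17032 := d29_2 (iv F64969) D17033 (iv D17032)
def n17034 : Q := act 4 n16432
theorem D17034 : act 4 n16432 = n17034 := rfl
theorem F67130 : act 3 n17034 = n17033 := d21_1 D17034 (iv D17033) (iv D16431) (iv F62505) D16432
theorem F67131 : act 6 n17034 = n17032 := d27_2 (iv F64971) D17034 (iv D17032)
theorem F67132 : act 8 n17034 = n16434 := d29_2 (iv F64972) D17034 (iv D16434)
def n17035 : Q := act 4 n16433
theorem D17035 : act 4 n16433 = n17035 := rfl
theorem F67133 : act 1 n17035 = n16916 := d10_1 D17035 (iv D16916) F64976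
theorem F67134 : act 2 n17035 = n16434 := d16_1 D17035 (iv D16434) D16433
theorem F67135 : act 3 n17035 = n16914 := d21_1 D17035 (iv D16914) (iv D16323) (iv F62572) (iv F64973)
theorem F67136 : act 7 n17035 = n16441 := d28_2 (iv F64975) D17035 (iv D16441)
def n17036 : Q := act 5 n16434
theorem D17036 : act 5 n16434 = n17036 := rfl
theorem F67137 : act 4 n17036 = n16439 := d26_1 D17036 (iv D16439) (iv D15798) (iv F62509) D16434
theorem F67138 : act 7 n17036 = n16442 := d31_2 (iv F64977) D17036 (iv D16442)
def n17037 : Q := act 4 n16435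
theorem D17037 : act 4 n16435 = n17037 := rfl
theorem F67139 : act 2 n17037 = n16436 := d16_1 D17037 (iv D16436) D16435
theorem F67140 : act 8 n17037 = n16438 := d29_2 (iv F64979) D17037 (iv D16438)
def n17038 : Q := act 5 n16436
theorem D17038 : act 5 n16436 = n17038 := rfl
theorem F67141 : act 8 n17038 = n16439 := d32_2 (iv F64980) D17038 (iv D16439)
def n17039 : Q := act 4 n16437
theorem D17039 : act 4 n16437 = n17039 := rfl
theorem F67142 : act 1 n17039 = n16438 := d10_1 D17039 (iv D16438) D16437
theorem F67143 : act 7 n17039 = n16443 := d28_2 (iv F64983) D17039 (iv D16443)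
def n17040 : Q := act 3 n16438
theorem D17040 : act 3 n16438 = n17040 := rfl
theorem F67144 : act 4 n17040 = n16452 := d21_2 D16438 D17040 (iv D16452) (iv D15820) (iv F62512)
def n17041 : Q := act 5 n16438
theorem D17041 : act 5 n16438 = n17041 := rfl
theorem F67145 : act 2 n17041 = n16439 := d17_1 D17041 (iv D16439) (iv F64984)
theorem F67146 : act 7 n17041 = n16444 := d31_2 (iv F64985) D17041 (iv D16444)
def n17042 : Q := act 6 n16439
theorem D17042 : act 6 n16439 = n17042 := rfl
theorem F67147 : act 7 n17042 = n16445 := d33_2 (iv F64986) D17042 (iv D16445)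
def n17043 : Q := act 5 n16440
theorem D17043 : act 5 n16440 = n17043 := rfl
def n17044 : Q := act 5 n16441
theorem D17044 : act 5 n16441 = n17044 := rfl
theorem F67148 : act 2 n17044 = n16442 := d17_1 D17044 (iv D16442) (iv F64988)
theorem F67149 : act 4 n17044 = n16444 := d26_1 D17044 (iv D16444) (iv D15803) (iv F62517) D16441
def n17045 : Q := act 6 n16442
theorem D17045 : act 6 n16442 = n17045 := rfl
theorem F67150 : act 4 n17045 = n16445 := d27_1 D17045 (iv D16445) (iv F64989)
def n17046 : Q := act 5 n16443
theorem D17046 : act 5 n16443 = n17046 := rfl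
theorem F67151 : act 1 n17046 = n16444 := d11_1 D17046 (iv D16444) (iv F64990)
def n17047 : Q := act 6 n16444
theorem D17047 : act 6 n16444 = n17047 := rfl
theorem F67152 : act 2 n17047 = n16445 := d18_1 D17047 (iv D16445) (iv F64991)
def n17048 : Q := act 2 n16446
theorem D17048 : act 2 n16446 = n17048 := rfl
theorem F67153 : act 6 n17048 = n16593 := d18_2 (iv F64994) D17048 (iv D16593)
theorem F67154 : act 7 n17048 = n17048 := d19_2 F64995 D17048 (iv D17048)
theorem F67155 : act 8 n17048 = n16592 := d20_2 (iv F64996) D17048 (iv D16592)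
def n17049 : Q := act 1 n16453
theorem D17049 : act 1 n16453 = n17049 := rfl
theorem F67156 : act 0 n17049 = n16544 := d0_1 D17049 (iv D16544) (iv F64588) F64589 (iv F65030)
theorem F67157 : act 2 n17049 = n16455 := d8_2 D16453 D17049 F65038 F62605 (iv F62593)
theorem F67158 : act 4 n17049 = n16454 := d10_2 F65627 D17049 (iv F65626)
theorem F67159 : act 5 n17049 = n16545 := d11_2 F66346 D17049 (iv F66344)
theorem F67160 : act 6 n17049 = n16514 := d12_2 (iv F65031) D17049 (iv D16514)
theorem F67161 : act 7 n17049 = n17049 := d13_2 F65032 D17049 (iv D17049)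
theorem F67162 : act 8 n17049 = n16457 := d14_2 (iv F65033) D17049 (iv D16457)
def n17050 : Q := act 0 n16458
theorem D17050 : act 0 n16458 = n17050 := rfl
theorem F67163 : act 1 n17050 = n17050 := d0_2 D16458 D17050 (iv D17050) (iv D16458) F62639
theorem F67164 : act 3 n17050 = n16605 := d2_2 (iv F65051) D17050 (iv D16605)
theorem F67165 : act 5 n17050 = n16609 := d4_2 (iv F65052) D17050 F65548
theorem F67166 : act 6 n17050 = n16462 := d5_2 (iv F65053) D17050 (iv D16462)
theorem F67167 : act 7 n17050 = n16498 := d6_2 (iv F65054) D17050 (iv D16498)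
def n17051 : Q := act 1 n16459
theorem D17051 : act 1 n16459 = n17051 := rfl
theorem F67168 : act 2 n17051 = n16460 := d8_2 D16459 D17051 (iv D16460) (iv D15839) (iv F62661)
theorem F67169 : act 6 n17051 = n16559 := d12_2 (iv F65055) D17051 (iv D16559)
theorem F67170 : act 7 n17051 = n17051 := d13_2 F65056 D17051 (iv D17051)
theorem F67171 : act 8 n17051 = n16940 := d14_2 (iv F65057) D17051 (iv D16940)
def n17052 : Q := act 0 n16460
theorem D17052 : act 0 n16460 = n17052 := rfl
theorem F67172 : act 1 n17052 = n17052 := d0_2 D16460 D17052 (iv D17052) (iv D16460) F62671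
theorem F67173 : act 3 n17052 = n16462 := d2_2 (iv F65058) D17052 (iv D16462)
theorem F67174 : act 6 n17052 = n16605 := d5_2 (iv F65059) D17052 (iv D16605)
theorem F67175 : act 7 n17052 = n17052 := d6_2 F65060 D17052 (iv D17052)
theorem F67176 : act 8 n17052 = n17050 := d7_2 (iv F65061) D17052 (iv D17050)
def n17053 : Q := act 0 n16461
theorem D17053 : act 0 n16461 = n17053 := rfl
theorem F67177 : act 1 n17053 = n17053 := d0_2 D16461 D17053 (iv D17053) (iv D16461) F62680
theorem F67178 : act 4 n17053 = n16488 := d3_2 (iv F65062) D17053 F65181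
theorem F67179 : act 5 n17053 = n16462 := d4_2 (iv F65063) D17053 (iv D16462)
theorem F67180 : act 6 n17053 = n16839 := d5_2 (iv F65064) D17053 F66485
theorem F67181 : act 7 n17053 = n16492 := d6_2 (iv F65065) D17053 F65199
def n17054 : Q := act 3 n16463
theorem D17054 : act 3 n16463 = n17054 := rfl
theorem F67182 : act 0 n17054 = n16472 := d2_1 D17054 (iv D16472) (iv F65068)
theorem F67183 : act 1 n17054 = n17054 := d9_1 D17054 (iv D17054) F65069
theorem F67184 : act 4 n17054 = n17052 := d21_2 (iv F65070) D17054 F67173 F65087 (iv D16466)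
theorem F67185 : act 5 n17054 = n16907 := d22_2 (iv F65071) D17054 (iv D16907)
theorem F67186 : act 6 n17054 = n16808 := d23_2 F65081 D17054 F66358
theorem F67187 : act 7 n17054 = n17054 := d24_2 D16463 D17054 (iv D17054) (iv D16463) F62691
def n17055 : Q := act 3 n16464
theorem D17055 : act 3 n16464 = n17055 := rfl
theorem F67188 : act 0 n17055 = n16473 := d2_1 D17055 (iv D16473) (iv F65072)
theorem F67189 : act 1 n17055 = n17055 := d9_1 D17055 (iv D17055) F65073
theorem F67190 : act 4 n17055 = n17050 := d21_2 F65079 D17055 F67164 (iv F66359) F66358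
theorem F67191 : act 5 n17055 = n16534 := d22_2 (iv F65074) D17055 (iv D16534)
theorem F67192 : act 6 n17055 = n16466 := d23_2 (iv F65075) D17055 (iv D16466)
theorem F67193 : act 7 n17055 = n16469 := d24_2 D16464 D17055 (iv D16469) (iv D15850) (iv F62696)
theorem F67194 : act 8 n17055 = n17054 := d25_2 (iv F65076) D17055 (iv D17054)
def n17056 : Q := act 2 n16466
theorem D17056 : act 2 n16466 = n17056 := rfl
theorem F67195 : act 0 n17056 = n16474 := d1_1 D17056 (iv D16474) (iv F65083)
theorem F67196 : act 4 n17056 = n16967 := d16_2 F65087 D17056 F66924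
theorem F67197 : act 5 n17056 = n16468 := d17_2 (iv F65085) D17056 (iv D16468)
theorem F67198 : act 7 n17056 = n16470 := d19_2 (iv F65086) D17056 (iv D16470)
def n17057 : Q := act 2 n16467
theorem D17057 : act 2 n16467 = n17057 := rfl
theorem F67199 : act 0 n17057 = n16475 := d1_1 D17057 (iv D16475) (iv F65088)
theorem F67200 : act 6 n17057 = n16537 := d18_2 (iv F65090) D17057 (iv D16537)
theorem F67201 : act 7 n17057 = n17057 := d19_2 F65091 D17057 (iv D17057)
theorem F67202 : act 8 n17057 = n16468 := d20_2 (iv F65092) D17057 (iv D16468)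
def n17058 : Q := act 1 n16468
theorem D17058 : act 1 n16468 = n17058 := rfl
theorem F67203 : act 2 n17058 = n17058 := d8_2 D16468 D17058 (iv D17058) (iv D16468) F62714
theorem F67204 : act 6 n17058 = n16539 := d12_2 (iv F65094) D17058 (iv D16539)
theorem F67205 : act 7 n17058 = n16471 := d13_2 (iv F65095) D17058 (iv D16471)
def n17059 : Q := act 2 n16472
theorem D17059 : act 2 n16472 = n17059 := rfl
theorem F67206 : act 1 n17059 = n16673 := d8_1 D17059 (iv D16673) F63608 (iv F62777) (iv F65109)
theorem F67207 : act 4 n17059 = n17051 := d16_2 (iv F65110) D17059 F67168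
theorem F67208 : act 5 n17059 = n17048 := d17_2 (iv F65111) D17059 (iv D17048)
theorem F67209 : act 6 n17059 = n16698 := d18_2 (iv F65112) D17059 F65956
theorem F67210 : act 7 n17059 = n17059 := d19_2 F65113 D17059 (iv D17059)
theorem F67211 : act 8 n17059 = n16674 := d20_2 F65119 D17059 F65845
def n17060 : Q := act 4 n16475
theorem D17060 : act 4 n16475 = n17060 := rfl
theorem F67212 : act 2 n17060 = n16476 := d16_1 D17060 (iv D16476) D16475
theorem F67213 : act 6 n17060 = n16598 := d27_2 (iv F65124) D17060 (iv D16598)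
theorem F67214 : act 7 n17060 = n17060 := d28_2 F65125 D17060 (iv D17060)
theorem F67215 : act 8 n17060 = n16478 := d29_2 (iv F65126) D17060 (iv D16478)
def n17061 : Q := act 4 n16477
theorem D17061 : act 4 n16477 = n17061 := rfl
theorem F67216 : act 1 n17061 = n16478 := d10_1 D17061 (iv D16478) D16477
theorem F67217 : act 2 n17061 = n16481 := d16_1 D17061 (iv D16481) (iv F65132)
theorem F67218 : act 5 n17061 = n16966 := d26_2 (iv F65133) D17061 (iv D16966) F64774 (iv F64627)
theorem F67219 : act 6 n17061 = n16600 := d27_2 (iv F65134) D17061 (iv D16600)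
theorem F67220 : act 7 n17061 = n16479 := d28_2 (iv F65135) D17061 (iv D16479)
def n17062 : Q := act 3 n16478
theorem D17062 : act 3 n16478 = n17062 := rfl
theorem F67221 : act 0 n17062 = n16955 := d2_1 D17062 F66899 F65191
theorem F67222 : act 2 n17062 = n16833 := d15_1 D17062 (iv D16833) F64313 (iv F62755) (iv F65136)
theorem F67223 : act 6 n17062 = n16601 := d23_2 (iv F65137) D17062 (iv D16601)
theorem F67224 : act 7 n17062 = n16835 := d24_2 (iv F65138) D17062 F66476 F64329 F62850
def n17063 : Q := act 1 n16482
theorem D17063 : act 1 n16482 = n17063 := rfl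
theorem F67225 : act 2 n17063 = n17063 := d8_2 D16482 D17063 (iv D17063) (iv D16482) F62846
theorem F67226 : act 3 n17063 = n16495 := d9_2 (iv F65151) D17063 F65213
theorem F67227 : act 5 n17063 = n16484 := d11_2 (iv F65152) D17063 (iv D16484)
theorem F67228 : act 8 n17063 = n17063 := d14_2 F65153 D17063 (iv D17063)
def n17064 : Q := act 4 n16482
theorem D17064 : act 4 n16482 = n17064 := rfl
theorem F67229 : act 0 n17064 = n16495 := d3_1 D17064 (iv D16495) (iv F65150)
theorem F67230 : act 2 n17064 = n16483 := d16_1 D17064 (iv D16483) D16482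
theorem F67231 : act 5 n17064 = n16795 := d26_2 (iv F65152) D17064 (iv D16795) F64055 (iv F62851)
theorem F67232 : act 8 n17064 = n17064 := d29_2 F65153 D17064 (iv D17064)
def n17065 : Q := act 0 n16484
theorem D17065 : act 0 n16484 = n17065 := rfl
theorem F67233 : act 1 n17065 = n16496 := d0_2 D16484 D17065 (iv D16496) (iv D15893) (iv F62849)
theorem F67234 : act 2 n17065 = n17065 := d1_2 F65159 D17065 (iv D17065)
theorem F67235 : act 3 n17065 = n16795 := d2_2 (iv F65160) D17065 F66299
theorem F67236 : act 4 n17065 = n16796 := d3_2 (iv F65161) D17065 (iv D16796)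
theorem F67237 : act 6 n17065 = n16804 := d5_2 (iv F65162) D17065 F66332
theorem F67238 : act 8 n17065 = n17065 := d7_2 F65163 D17065 (iv D17065)
def n17066 : Q := act 0 n16485
theorem D17066 : act 0 n16485 = n17066 := rfl
theorem F67239 : act 1 n17066 = n16804 := d0_2 D16485 D17066 F66332 F64112 (iv F62867)
theorem F67240 : act 2 n17066 = n16498 := d1_2 (iv F65164) D17066 (iv D16498)
theorem F67241 : act 4 n17066 = n16675 := d3_2 (iv F65165) D17066 (iv D16675)
theorem F67242 : act 5 n17066 = n16602 := d4_2 (iv F65166) D17066 F65512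
theorem F67243 : act 6 n17066 = n16496 := d5_2 (iv F65167) D17066 (iv D16496)
theorem F67244 : act 8 n17066 = n17066 := d7_2 F65168 D17066 (iv D17066)
def n17067 : Q := act 3 n16487
theorem D17067 : act 3 n16487 = n17067 := rfl
theorem F67245 : act 0 n17067 = n16556 := d2_1 D17067 (iv D16556) (iv F65175)
theorem F67246 : act 1 n17067 = n17067 := d9_1 D17067 (iv D17067) F65176
theorem F67247 : act 5 n17067 = n16489 := d22_2 (iv F65178) D17067 (iv D16489)
theorem F67248 : act 6 n17067 = n16505 := d23_2 (iv F65179) D17067 (iv D16505)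
theorem F67249 : act 7 n17067 = n17067 := d24_2 D16487 D17067 (iv D17067) (iv D16487) F62880
theorem F67250 : act 8 n17067 = n16488 := d25_2 (iv F65180) D17067 (iv D16488)
def n17068 : Q := act 2 n16488
theorem D17068 : act 2 n16488 = n17068 := rfl
theorem F67251 : act 0 n17068 = n16964 := d1_1 D17068 (iv D16964) (iv F65181)
theorem F67252 : act 5 n17068 = n16490 := d17_2 (iv F65183) D17068 (iv D16490)
theorem F67253 : act 6 n17068 = n16838 := d18_2 (iv F65184) D17068 (iv D16838)
theorem F67254 : act 7 n17068 = n16491 := d19_2 (iv F65185) D17068 (iv D16491)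
def n17069 : Q := act 2 n16489
theorem D17069 : act 2 n16489 = n17069 := rfl
theorem F67255 : act 0 n17069 = n17060 := d1_1 D17069 F67212 (iv F65186)
theorem F67256 : act 4 n17069 = n17057 := d16_2 (iv F65188) D17069 (iv D17057)
theorem F67257 : act 7 n17069 = n17069 := d19_2 F65189 D17069 (iv D17069)
theorem F67258 : act 8 n17069 = n16490 := d20_2 (iv F65190) D17069 (iv D16490)
def n17070 : Q := act 1 n16490
theorem D17070 : act 1 n16490 = n17070 := rfl
theorem F67259 : act 2 n17070 = n17070 := d8_2 D16490 D17070 (iv D17070) (iv D16490) F62892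
theorem F67260 : act 4 n17070 = n17058 := d10_2 (iv F65192) D17070 (iv D17058)
theorem F67261 : act 7 n17070 = n16493 := d13_2 (iv F65193) D17070 (iv D16493)
def n17071 : Q := act 1 n16491
theorem D17071 : act 1 n16491 = n17071 := rfl
theorem F67262 : act 2 n17071 = n17071 := d8_2 D16491 D17071 (iv D17071) (iv D16491) F62896
theorem F67263 : act 3 n17071 = n16494 := d9_2 (iv F65195) D17071 (iv D16494)
theorem F67264 : act 5 n17071 = n16493 := d11_2 (iv F65196) D17071 (iv D16493)
theorem F67265 : act 6 n17071 = n17063 := d12_2 (iv F65197) D17071 (iv D17063)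
theorem F67266 : act 8 n17071 = n17071 := d14_2 F65198 D17071 (iv D17071)
def n17072 : Q := act 4 n16491
theorem D17072 : act 4 n16491 = n17072 := rfl
theorem F67267 : act 0 n17072 = n16494 := d3_1 D17072 (iv F65212) (iv F65194)
theorem F67268 : act 2 n17072 = n16492 := d16_1 D17072 (iv D16492) D16491
theorem F67269 : act 5 n17072 = n16496 := d26_2 (iv F65196) D17072 F65219 F65103 (iv F62902)
theorem F67270 : act 6 n17072 = n17064 := d27_2 (iv F65197) D17072 (iv D17064)
theorem F67271 : act 8 n17072 = n17072 := d29_2 F65198 D17072 (iv D17072)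
def n17073 : Q := act 0 n16493
theorem D17073 : act 0 n16493 = n17073 := rfl
theorem F67272 : act 1 n17073 = n16795 := d0_2 D16493 D17073 F66299 F65139 (iv F62900)
theorem F67273 : act 2 n17073 = n17073 := d1_2 F65205 D17073 (iv D17073)
theorem F67274 : act 3 n17073 = n16496 := d2_2 (iv F65206) D17073 (iv D16496)
theorem F67275 : act 4 n17073 = n16794 := d3_2 (iv F65207) D17073 F66293
theorem F67276 : act 8 n17073 = n17073 := d7_2 F65208 D17073 (iv D17073)
def n17074 : Q := act 2 n16497
theorem D17074 : act 2 n16497 = n17074 := rfl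
theorem F67277 : act 6 n17074 = n16797 := d18_2 (iv F65222) D17074 (iv D16797)
theorem F67278 : act 7 n17074 = n17074 := d19_2 F65223 D17074 (iv D17074)
theorem F67279 : act 8 n17074 = n16680 := d20_2 (iv F65224) D17074 F65883
def n17075 : Q := act 3 n16499
theorem D17075 : act 3 n16499 = n17075 := rfl
theorem F67280 : act 1 n17075 = n16503 := d9_1 D17075 (iv D16503) (iv F65231)
theorem F67281 : act 8 n17075 = n16829 := d25_2 (iv F65234) D17075 (iv D16829)
def n17076 : Q := act 2 n16500
theorem D17076 : act 2 n16500 = n17076 := rfl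
theorem F67282 : act 3 n17076 = n17076 := d15_2 D16500 D17076 (iv D17076) (iv D16500) F62944
theorem F67283 : act 7 n17076 = n16507 := d19_2 (iv F65236) D17076 (iv D16507)
theorem F67284 : act 8 n17076 = n16830 := d20_2 (iv F65237) D17076 (iv D16830)
def n17077 : Q := act 4 n16500
theorem D17077 : act 4 n16500 = n17077 := rfl
theorem F67285 : act 1 n17077 = n16504 := d10_1 D17077 (iv D16504) (iv F65235)
theorem F67286 : act 7 n17077 = n16508 := d28_2 (iv F65236) D17077 (iv D16508)
theorem F67287 : act 8 n17077 = n16831 := d29_2 (iv F65237) D17077 (iv D16831)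
def n17078 : Q := act 3 n16501
theorem D17078 : act 3 n16501 = n17078 := rfl
theorem F67288 : act 0 n17078 = n16550 := d2_1 D17078 (iv D16550) (iv F65238)
theorem F67289 : act 5 n17078 = n17075 := d22_2 (iv F65241) D17078 (iv D17075)
theorem F67290 : act 7 n17078 = n16503 := d24_2 D16501 D17078 (iv D16503) (iv D15904) (iv F62948)
def n17079 : Q := act 3 n16502
theorem D17079 : act 3 n16502 = n17079 := rfl
theorem F67291 : act 0 n17079 = n16552 := d2_1 D17079 (iv D16552) (iv F65242)
theorem F67292 : act 1 n17079 = n17078 := d9_1 D17079 (iv D17078) (iv F65243)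
theorem F67293 : act 5 n17079 = n16503 := d22_2 (iv F65246) D17079 (iv D16503)
theorem F67294 : act 7 n17079 = n17075 := d24_2 D16502 D17079 (iv D17075) (iv D16499) (iv F62954)
theorem F67295 : act 8 n17079 = n16834 := d25_2 (iv F65247) D17079 (iv D16834)
def n17080 : Q := act 2 n16503
theorem D17080 : act 2 n16503 = n17080 := rfl
theorem F67296 : act 0 n17080 = n16553 := d1_1 D17080 (iv D16553) (iv F65248)
theorem F67297 : act 3 n17080 = n16506 := d15_2 D16503 D17080 (iv D16506) (iv D15907) (iv F62958)
theorem F67298 : act 8 n17080 = n16835 := d20_2 (iv F65249) D17080 (iv D16835)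
def n17081 : Q := act 4 n16503
theorem D17081 : act 4 n16503 = n17081 := rfl
theorem F67299 : act 0 n17081 = n16554 := d3_1 D17081 (iv D16554) (iv F65248)
theorem F67300 : act 3 n17081 = n16504 := d21_1 D17081 (iv D16504) (iv D15905) (iv F62959) D16503
theorem F67301 : act 8 n17081 = n16836 := d29_2 (iv F65249) D17081 (iv D16836)
def n17082 : Q := act 5 n16504
theorem D17082 : act 5 n16504 = n17082 := rfl
theorem F67302 : act 0 n17082 = n16555 := d4_1 D17082 (iv D16555) (iv F65250)
theorem F67303 : act 7 n17082 = n16513 := d31_2 (iv F65251) D17082 (iv D16513)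
theorem F67304 : act 8 n17082 = n16837 := d32_2 (iv F65252) D17082 (iv D16837)
def n17083 : Q := act 2 n16505
theorem D17083 : act 2 n16505 = n17083 := rfl
theorem F67305 : act 0 n17083 = n16557 := d1_1 D17083 (iv D16557) (iv F65253)
theorem F67306 : act 5 n17083 = n16506 := d17_2 (iv F65255) D17083 (iv D16506)
theorem F67307 : act 7 n17083 = n17083 := d19_2 F65256 D17083 (iv D17083)
theorem F67308 : act 8 n17083 = n16838 := d20_2 (iv F65257) D17083 (iv D16838)
def n17084 : Q := act 4 n16505
theorem D17084 : act 4 n16505 = n17084 := rfl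
theorem F67309 : act 0 n17084 = n16558 := d3_1 D17084 (iv D16558) (iv F65253)
theorem F67310 : act 1 n17084 = n17084 := d10_1 D17084 (iv D17084) F65254
theorem F67311 : act 3 n17084 = n16792 := d21_1 D17084 (iv D16792) (iv D16187) (iv F62966) D16505
theorem F67312 : act 7 n17084 = n17084 := d28_2 F65256 D17084 (iv D17084)
theorem F67313 : act 8 n17084 = n16839 := d29_2 (iv F65257) D17084 (iv D16839)
def n17085 : Q := act 1 n16506
theorem D17085 : act 1 n16506 = n17085 := rfl
theorem F67314 : act 2 n17085 = n17085 := d8_2 D16506 D17085 (iv D17085) (iv D16506) F62970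
theorem F67315 : act 7 n17085 = n17085 := d13_2 F65259 D17085 (iv D17085)
theorem F67316 : act 8 n17085 = n16840 := d14_2 (iv F65260) D17085 (iv D16840)
def n17086 : Q := act 4 n16507
theorem D17086 : act 4 n16507 = n17086 := rfl
theorem F67317 : act 2 n17086 = n16508 := d16_1 D17086 (iv D16508) D16507
theorem F67318 : act 8 n17086 = n16519 := d29_2 (iv F65262) D17086 (iv D16519)
def n17087 : Q := act 5 n16508
theorem D17087 : act 5 n16508 = n17087 := rfl
theorem F67319 : act 1 n17087 = n16513 := d11_1 D17087 (iv D16513) (iv F65263)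
theorem F67320 : act 8 n17087 = n16520 := d32_2 (iv F65264) D17087 (iv D16520)
def n17088 : Q := act 3 n16509
theorem D17088 : act 3 n16509 = n17088 := rfl
theorem F67321 : act 0 n17088 = n16563 := d2_1 D17088 (iv D16563) (iv F65265)
theorem F67322 : act 7 n17088 = n16524 := d24_2 D16509 D17088 (iv D16524) (iv D15922) (iv F62977)
theorem F67323 : act 8 n17088 = n16510 := d25_2 (iv F65267) D17088 (iv D16510)
def n17089 : Q := act 2 n16510
theorem D17089 : act 2 n16510 = n17089 := rfl
theorem F67324 : act 0 n17089 = n16564 := d1_1 D17089 (iv D16564) (iv F65268)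
theorem F67325 : act 3 n17089 = n17089 := d15_2 D16510 D17089 (iv D17089) (iv D16510) F62979
theorem F67326 : act 7 n17089 = n16511 := d19_2 (iv F65269) D17089 (iv D16511)
def n17090 : Q := act 4 n16510
theorem D17090 : act 4 n16510 = n17090 := rfl
theorem F67327 : act 0 n17090 = n16565 := d3_1 D17090 (iv D16565) (iv F65268)
theorem F67328 : act 7 n17090 = n16512 := d28_2 (iv F65269) D17090 (iv D16512)
def n17091 : Q := act 1 n16511
theorem D17091 : act 1 n16511 = n17091 := rfl
theorem F67329 : act 3 n17091 = n16514 := d9_2 (iv F65271) D17091 (iv D16514)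
theorem F67330 : act 8 n17091 = n16529 := d14_2 (iv F65272) D17091 (iv D16529)
def n17092 : Q := act 4 n16511
theorem D17092 : act 4 n16511 = n17092 := rfl
theorem F67331 : act 0 n17092 = n16568 := d3_1 D17092 (iv D16568) (iv F65270)
theorem F67332 : act 2 n17092 = n16512 := d16_1 D17092 (iv D16512) D16511
theorem F67333 : act 8 n17092 = n16530 := d29_2 (iv F65272) D17092 (iv D16530)
def n17093 : Q := act 5 n16512
theorem D17093 : act 5 n16512 = n17093 := rfl
theorem F67334 : act 0 n17093 = n16569 := d4_1 D17093 (iv D16569) (iv F65273)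
theorem F67335 : act 3 n17093 = n16513 := d22_1 D17093 (iv D16513) (iv F65274)
theorem F67336 : act 8 n17093 = n16531 := d32_2 (iv F65275) D17093 (iv D16531)
def n17094 : Q := act 6 n16513
theorem D17094 : act 6 n16513 = n17094 := rfl
theorem F67337 : act 0 n17094 = n16570 := d5_1 D17094 (iv D16570) (iv F65276)
theorem F67338 : act 8 n17094 = n16532 := d34_2 (iv F65277) D17094 (iv D16532)
def n17095 : Q := act 3 n16515
theorem D17095 : act 3 n16515 = n17095 := rfl
theorem F67339 : act 1 n17095 = n16524 := d9_1 D17095 (iv D16524) (iv F65281)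
theorem F67340 : act 8 n17095 = n16516 := d25_2 (iv F65284) D17095 (iv D16516)
def n17096 : Q := act 2 n16516
theorem D17096 : act 2 n16516 = n17096 := rfl
theorem F67341 : act 3 n17096 = n17096 := d15_2 D16516 D17096 (iv D17096) (iv D16516) F62991
theorem F67342 : act 7 n17096 = n16517 := d19_2 (iv F65286) D17096 (iv D16517)
def n17097 : Q := act 4 n16516
theorem D17097 : act 4 n16516 = n17097 := rfl
theorem F67343 : act 1 n17097 = n16526 := d10_1 D17097 (iv D16526) (iv F65285)
theorem F67344 : act 3 n17097 = n16885 := d21_1 D17097 (iv D16885) (iv D16287) (iv F62992) D16516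
theorem F67345 : act 7 n17097 = n16518 := d28_2 (iv F65286) D17097 (iv D16518)
def n17098 : Q := act 1 n16517
theorem D17098 : act 1 n16517 = n17098 := rfl
theorem F67346 : act 2 n17098 = n16529 := d8_2 D16517 D17098 (iv D16529) (iv D15925) (iv F62993)
theorem F67347 : act 3 n17098 = n16544 := d9_2 (iv F65287) D17098 (iv D16544)
def n17099 : Q := act 4 n16517
theorem D17099 : act 4 n16517 = n17099 := rfl
theorem F67348 : act 2 n17099 = n16518 := d16_1 D17099 (iv D16518) D16517
def n17100 : Q := act 5 n16518
theorem D17100 : act 5 n16518 = n17100 := rfl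
theorem F67349 : act 1 n17100 = n16531 := d11_1 D17100 (iv D16531) (iv F65288)
theorem F67350 : act 3 n17100 = n16520 := d22_1 D17100 (iv D16520) (iv F65289)
def n17101 : Q := act 3 n16519
theorem D17101 : act 3 n16519 = n17101 := rfl
theorem F67351 : act 4 n17101 = n16546 := d21_2 D16519 D17101 (iv D16546) (iv D15947) (iv F62994)
def n17102 : Q := act 5 n16519
theorem D17102 : act 5 n16519 = n17102 := rfl
theorem F67352 : act 2 n17102 = n16520 := d17_1 D17102 (iv D16520) (iv F65290)
theorem F67353 : act 7 n17102 = n16891 := d31_2 (iv F65291) D17102 (iv D16891)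
def n17103 : Q := act 6 n16520
theorem D17103 : act 6 n16520 = n17103 := rfl
theorem F67354 : act 1 n17103 = n16532 := d12_1 D17103 (iv D16532) (iv F65292)
theorem F67355 : act 7 n17103 = n16892 := d33_2 (iv F65293) D17103 (iv D16892)
def n17104 : Q := act 3 n16521
theorem D17104 : act 3 n16521 = n17104 := rfl
theorem F67356 : act 0 n17104 = n16571 := d2_1 D17104 (iv D16571) (iv F65294)
theorem F67357 : act 2 n17104 = n16773 := d15_1 D17104 (iv D16773) F64008 (iv F63030) (iv F65295)
theorem F67358 : act 5 n17104 = n16893 := d22_2 (iv F65297) D17104 (iv D16893)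
theorem F67359 : act 7 n17104 = n17031 := d24_2 D16521 D17104 F67122 F65027 (iv F63000)
def n17105 : Q := act 3 n16522
theorem D17105 : act 3 n16522 = n17105 := rfl
theorem F67360 : act 0 n17105 = n16573 := d2_1 D17105 (iv D16573) (iv F65298)
theorem F67361 : act 5 n17105 = n16524 := d22_2 (iv F65300) D17105 (iv D16524)
theorem F67362 : act 8 n17105 = n16523 := d25_2 (iv F65301) D17105 (iv D16523)
def n17106 : Q := act 2 n16523
theorem D17106 : act 2 n16523 = n17106 := rfl
theorem F67363 : act 0 n17106 = n16574 := d1_1 D17106 (iv D16574) (iv F65302)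
theorem F67364 : act 3 n17106 = n16536 := d15_2 D16523 D17106 (iv D16536) (iv D15933) (iv F63007)
theorem F67365 : act 5 n17106 = n16525 := d17_2 (iv F65303) D17106 (iv D16525)
theorem F67366 : act 7 n17106 = n16527 := d19_2 (iv F65304) D17106 (iv D16527)
def n17107 : Q := act 4 n16523
theorem D17107 : act 4 n16523 = n17107 := rfl
theorem F67367 : act 0 n17107 = n16575 := d3_1 D17107 (iv D16575) (iv F65302)
theorem F67368 : act 7 n17107 = n16528 := d28_2 (iv F65304) D17107 (iv D16528)
def n17108 : Q := act 2 n16524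
theorem D17108 : act 2 n16524 = n17108 := rfl
theorem F67369 : act 0 n17108 = n16576 := d1_1 D17108 (iv D16576) (iv F65305)
theorem F67370 : act 3 n17108 = n16537 := d15_2 D16524 D17108 (iv D16537) (iv D15934) (iv F63010)
theorem F67371 : act 8 n17108 = n16525 := d20_2 (iv F65306) D17108 (iv D16525)
def n17109 : Q := act 4 n16524
theorem D17109 : act 4 n16524 = n17109 := rfl
theorem F67372 : act 0 n17109 = n16577 := d3_1 D17109 (iv D16577) (iv F65305)
theorem F67373 : act 3 n17109 = n16899 := d21_1 D17109 (iv D16899) (iv D16297) (iv F63011) D16524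
theorem F67374 : act 8 n17109 = n16526 := d29_2 (iv F65306) D17109 (iv D16526)
def n17110 : Q := act 1 n16525
theorem D17110 : act 1 n16525 = n17110 := rfl
theorem F67375 : act 3 n17110 = n16539 := d9_2 (iv F65308) D17110 (iv D16539)
theorem F67376 : act 7 n17110 = n16529 := d13_2 (iv F65309) D17110 (iv D16529)
def n17111 : Q := act 4 n16525
theorem D17111 : act 4 n16525 = n17111 := rfl
theorem F67377 : act 0 n17111 = n16579 := d3_1 D17111 (iv D16579) (iv F65307)
theorem F67378 : act 2 n17111 = n16526 := d16_1 D17111 (iv D16526) D16525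
theorem F67379 : act 7 n17111 = n16530 := d28_2 (iv F65309) D17111 (iv D16530)
def n17112 : Q := act 5 n16526
theorem D17112 : act 5 n16526 = n17112 := rfl
theorem F67380 : act 0 n17112 = n16580 := d4_1 D17112 (iv D16580) (iv F65310)
theorem F67381 : act 3 n17112 = n16901 := d22_1 D17112 (iv D16901) (iv F65311)
theorem F67382 : act 7 n17112 = n16531 := d31_2 (iv F65312) D17112 (iv D16531)
def n17113 : Q := act 4 n16527
theorem D17113 : act 4 n16527 = n17113 := rfl
theorem F67383 : act 0 n17113 = n16584 := d3_1 D17113 (iv D16584) (iv F65313)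
theorem F67384 : act 2 n17113 = n16528 := d16_1 D17113 (iv D16528) D16527
def n17114 : Q := act 5 n16528
theorem D17114 : act 5 n16528 = n17114 := rfl
theorem F67385 : act 0 n17114 = n16585 := d4_1 D17114 (iv D16585) (iv F65316)
theorem F67386 : act 4 n17114 = n16531 := d26_1 D17114 (iv D16531) (iv D15926) (iv F63016) D16528
def n17115 : Q := act 0 n16529
theorem D17115 : act 0 n16529 = n17115 := rfl
theorem F67387 : act 1 n17115 = n16586 := d0_2 D16529 D17115 (iv D16586) (iv D15981) (iv F63017)
theorem F67388 : act 3 n17115 = n16533 := d2_2 (iv F65317) D17115 (iv D16533)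
theorem F67389 : act 5 n17115 = n16546 := d4_2 F66745 D17115 (iv F66743)
def n17116 : Q := act 4 n16529
theorem D17116 : act 4 n16529 = n17116 := rfl
theorem F67390 : act 1 n17116 = n16530 := d10_1 D17116 (iv D16530) D16529
def n17117 : Q := act 5 n16530
theorem D17117 : act 5 n16530 = n17117 := rfl
theorem F67391 : act 0 n17117 = n16588 := d4_1 D17117 (iv D16588) (iv F65318)
theorem F67392 : act 2 n17117 = n16531 := d17_1 D17117 (iv D16531) (iv F65319)
def n17118 : Q := act 6 n16531
theorem D17118 : act 6 n16531 = n17118 := rfl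
theorem F67393 : act 0 n17118 = n16589 := d5_1 D17118 (iv D16589) (iv F65320)
theorem F67394 : act 3 n17118 = n16532 := d23_1 D17118 (iv D16532) (iv F65321)
def n17119 : Q := act 2 n16535
theorem D17119 : act 2 n16535 = n17119 := rfl
theorem F67395 : act 0 n17119 = n16593 := d1_1 D17119 (iv D16593) (iv F65333)
theorem F67396 : act 4 n17119 = n16797 := d16_2 (iv F65335) D17119 (iv D16797)
theorem F67397 : act 5 n17119 = n16537 := d17_2 (iv F65336) D17119 (iv D16537)
theorem F67398 : act 7 n17119 = n17119 := d19_2 F65337 D17119 (iv D17119)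
theorem F67399 : act 8 n17119 = n16536 := d20_2 (iv F65338) D17119 (iv D16536)
def n17120 : Q := act 1 n16537
theorem D17120 : act 1 n16537 = n17120 := rfl
theorem F67400 : act 2 n17120 = n17120 := d8_2 D16537 D17120 (iv D17120) (iv D16537) F63046
theorem F67401 : act 7 n17120 = n17120 := d13_2 F65344 D17120 (iv D17120)
theorem F67402 : act 8 n17120 = n16539 := d14_2 (iv F65345) D17120 (iv D16539)
def n17121 : Q := act 4 n16537
theorem D17121 : act 4 n16537 = n17121 := rfl
theorem F67403 : act 0 n17121 = n16598 := d3_1 D17121 (iv D16598) (iv F65343)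
theorem F67404 : act 2 n17121 = n16538 := d16_1 D17121 (iv D16538) D16537
theorem F67405 : act 5 n17121 = n16800 := d26_2 F67397 D17121 (iv D16800) (iv F66309) (iv F67396)
theorem F67406 : act 6 n17121 = n17069 := d27_2 F67200 D17121 F67256
theorem F67407 : act 7 n17121 = n17121 := d28_2 F65344 D17121 (iv D17121)
theorem F67408 : act 8 n17121 = n16540 := d29_2 (iv F65345) D17121 (iv D16540)
def n17122 : Q := act 0 n16539
theorem D17122 : act 0 n16539 = n17122 := rfl
theorem F67409 : act 1 n17122 = n16599 := d0_2 D16539 D17122 (iv D16599) (iv D15996) (iv F63049)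
theorem F67410 : act 2 n17122 = n17122 := d1_2 F65353 D17122 (iv D17122)
theorem F67411 : act 5 n17122 = n16547 := d4_2 F66752 D17122 (iv F66748)
theorem F67412 : act 7 n17122 = n16541 := d6_2 (iv F65354) D17122 (iv D16541)
def n17123 : Q := act 4 n16539
theorem D17123 : act 4 n16539 = n17123 := rfl
theorem F67413 : act 1 n17123 = n16540 := d10_1 D17123 (iv D16540) D16539
theorem F67414 : act 2 n17123 = n17123 := d16_1 D17123 (iv D17123) F65353
theorem F67415 : act 5 n17123 = n16802 := d26_2 F66752 D17123 (iv D16802) (iv F66313) (iv F66751)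
theorem F67416 : act 6 n17123 = n17070 := d27_2 F67204 D17123 F67260
theorem F67417 : act 7 n17123 = n16542 := d28_2 (iv F65354) D17123 (iv D16542)
def n17124 : Q := act 3 n16540
theorem D17124 : act 3 n16540 = n17124 := rfl
theorem F67418 : act 0 n17124 = n16601 := d2_1 D17124 (iv D16601) (iv F65355)
theorem F67419 : act 2 n17124 = n16909 := d15_1 D17124 (iv D16909) F64575 (iv F63053) (iv F65356)
theorem F67420 : act 5 n17124 = n16803 := d22_2 (iv F65357) D17124 (iv D16803)
theorem F67421 : act 6 n17124 = n16955 := d23_2 (iv F65358) D17124 F66899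
theorem F67422 : act 7 n17124 = n16937 := d24_2 (iv F65359) D17124 F66829 F64698 (iv F63072)
def n17125 : Q := act 4 n16541
theorem D17125 : act 4 n16541 = n17125 := rfl
theorem F67423 : act 0 n17125 = n16542 := d3_1 D17125 (iv D16542) D16541
theorem F67424 : act 1 n17125 = n16602 := d10_1 D17125 (iv D16602) (iv F65360)
theorem F67425 : act 2 n17125 = n17125 := d16_1 D17125 (iv D17125) F65361
theorem F67426 : act 3 n17125 = n17066 := d21_1 D17125 F67241 F65851 F63622 (iv F65362)
theorem F67427 : act 5 n17125 = n16804 := d26_2 (iv F65363) D17125 (iv D16804) F64110 (iv F63099)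
theorem F67428 : act 6 n17125 = n17073 := d27_2 F66297 D17125 F67275
theorem F67429 : act 8 n17125 = n17125 := d29_2 F65364 D17125 (iv D17125)
def n17126 : Q := act 3 n16543
theorem D17126 : act 3 n16543 = n17126 := rfl
theorem F67430 : act 8 n17126 = n16546 := d25_2 (iv F65373) D17126 (iv D16546)
def n17127 : Q := act 3 n16545
theorem D17127 : act 3 n16545 = n17127 := rfl
theorem F67431 : act 2 n17127 = n16546 := d15_1 D17127 (iv D16546) F63091 (iv F63089) (iv F65376)
def n17128 : Q := act 7 n16546
theorem D17128 : act 7 n16546 = n17128 := rfl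
theorem F67432 : act 3 n17128 = n16547 := d24_1 D17128 (iv D16547) (iv D15950) (iv F63092) D16546
def n17129 : Q := act 8 n16547
theorem D17129 : act 8 n16547 = n17129 := rfl
theorem F67433 : act 1 n17129 = n17074 := d14_1 D17129 F67279 F65882
theorem F67434 : act 2 n17129 = n17129 := d20_1 D17129 (iv D17129) F65378
theorem F67435 : act 4 n17129 = n16913 := d29_1 D17129 (iv D16913) (iv F65379)
theorem F67436 : act 7 n17129 = n17129 := d35_1 D17129 (iv D17129) (iv D16547) F63100 D16547
def n17130 : Q := act 3 n16548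
theorem D17130 : act 3 n16548 = n17130 := rfl
theorem F67437 : act 0 n17130 = n17075 := d2_1 D17130 (iv D17075) (iv F65380)
theorem F67438 : act 1 n17130 = n16824 := d9_1 D17130 (iv D16824) (iv F65381)
theorem F67439 : act 5 n17130 = n16550 := d22_2 (iv F65384) D17130 (iv D16550)
theorem F67440 : act 6 n17130 = n16829 := d23_2 (iv F65385) D17130 (iv D16829)
theorem F67441 : act 7 n17130 = n16552 := d24_2 D16548 D17130 (iv D16552) (iv D15955) (iv F63104)
def n17131 : Q := act 3 n16549
theorem D17131 : act 3 n16549 = n17131 := rfl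
theorem F67442 : act 7 n17131 = n16954 := d24_2 D16549 D17131 (iv D16954) (iv D16362) (iv F63109)
theorem F67443 : act 8 n17131 = n16550 := d25_2 (iv F65388) D17131 (iv D16550)
def n17132 : Q := act 2 n16550
theorem D17132 : act 2 n16550 = n17132 := rfl
theorem F67444 : act 3 n17132 = n17132 := d15_2 D16550 D17132 (iv D17132) (iv D16550) F63111
theorem F67445 : act 7 n17132 = n16553 := d19_2 (iv F65389) D17132 (iv D16553)
def n17133 : Q := act 4 n16550
theorem D17133 : act 4 n16550 = n17133 := rfl
theorem F67446 : act 3 n17133 = n16565 := d21_1 D17133 (iv D16565) (iv D15965) (iv F63112) D16550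
theorem F67447 : act 7 n17133 = n16554 := d28_2 (iv F65389) D17133 (iv D16554)
def n17134 : Q := act 3 n16551
theorem D17134 : act 3 n16551 = n17134 := rfl
theorem F67448 : act 1 n17134 = n16833 := d9_1 D17134 (iv D16833) (iv F65390)
theorem F67449 : act 6 n17134 = n16552 := d23_2 (iv F65393) D17134 (iv D16552)
theorem F67450 : act 7 n17134 = n16829 := d24_2 D16551 D17134 (iv D16829) (iv D16239) (iv F63115)
theorem F67451 : act 8 n17134 = n16957 := d25_2 (iv F65394) D17134 (iv D16957)
def n17135 : Q := act 2 n16552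
theorem D17135 : act 2 n16552 = n17135 := rfl
theorem F67452 : act 3 n17135 = n16557 := d15_2 D16552 D17135 (iv D16557) (iv D15959) (iv F63119)
theorem F67453 : act 5 n17135 = n16553 := d17_2 (iv F65396) D17135 (iv D16553)
theorem F67454 : act 8 n17135 = n16958 := d20_2 (iv F65397) D17135 (iv D16958)
def n17136 : Q := act 4 n16552
theorem D17136 : act 4 n16552 = n17136 := rfl
theorem F67455 : act 1 n17136 = n17040 := d10_1 D17136 F67144 (iv F65395)
theorem F67456 : act 3 n17136 = n17039 := d21_1 D17136 (iv D17039) F64981 (iv F63120) D16552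
theorem F67457 : act 8 n17136 = n16959 := d29_2 (iv F65397) D17136 (iv D16959)
def n17137 : Q := act 1 n16553
theorem D17137 : act 1 n16553 = n17137 := rfl
theorem F67458 : act 3 n17137 = n16559 := d9_2 (iv F65398) D17137 (iv D16559)
theorem F67459 : act 8 n17137 = n16960 := d14_2 (iv F65399) D17137 (iv D16960)
def n17138 : Q := act 4 n16553
theorem D17138 : act 4 n16553 = n17138 := rfl
theorem F67460 : act 2 n17138 = n16554 := d16_1 D17138 (iv D16554) D16553
theorem F67461 : act 8 n17138 = n16961 := d29_2 (iv F65399) D17138 (iv D16961)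
def n17139 : Q := act 5 n16554
theorem D17139 : act 5 n16554 = n17139 := rfl
theorem F67462 : act 3 n17139 = n16555 := d22_1 D17139 (iv D16555) (iv F65400)
theorem F67463 : act 8 n17139 = n16962 := d32_2 (iv F65401) D17139 (iv D16962)
def n17140 : Q := act 6 n16555
theorem D17140 : act 6 n16555 = n17140 := rfl
theorem F67464 : act 7 n17140 = n16570 := d33_2 (iv F65402) D17140 (iv D16570)
theorem F67465 : act 8 n17140 = n16963 := d34_2 (iv F65403) D17140 (iv D16963)
def n17141 : Q := act 2 n16556
theorem D17141 : act 2 n16556 = n17141 := rfl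
theorem F67466 : act 5 n17141 = n17060 := d17_2 (iv F65405) D17141 F67212
theorem F67467 : act 6 n17141 = n16557 := d18_2 (iv F65406) D17141 (iv D16557)
theorem F67468 : act 7 n17141 = n17141 := d19_2 F65407 D17141 (iv D17141)
theorem F67469 : act 8 n17141 = n16964 := d20_2 (iv F65408) D17141 (iv D16964)
def n17142 : Q := act 1 n16557
theorem D17142 : act 1 n16557 = n17142 := rfl
theorem F67470 : act 2 n17142 = n16604 := d8_2 D16557 D17142 (iv D16604) (iv D16007) (iv F63130)
theorem F67471 : act 5 n17142 = n16559 := d11_2 (iv F65409) D17142 (iv D16559)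
theorem F67472 : act 7 n17142 = n17142 := d13_2 F65410 D17142 (iv D17142)
theorem F67473 : act 8 n17142 = n16965 := d14_2 (iv F65411) D17142 (iv D16965)
theorem F67474 : act 4 n17141 = n17142 := d29_3 F67473 (iv F66919) (iv F67469)
def n17143 : Q := act 4 n16557
theorem D17143 : act 4 n16557 = n17143 := rfl
theorem F67475 : act 1 n17143 = n17141 := d10_1 D17143 F67474 (iv D17142)
theorem F67476 : act 2 n17143 = n16558 := d16_1 D17143 (iv D16558) D16557
theorem F67477 : act 6 n17143 = n17142 := d27_2 F67467 D17143 (iv F67474)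
theorem F67478 : act 7 n17143 = n17143 := d28_2 F65410 D17143 (iv D17143)
theorem F67479 : act 8 n17143 = n16966 := d29_2 (iv F65411) D17143 (iv D16966)
def n17144 : Q := act 0 n16559
theorem D17144 : act 0 n16559 = n17144 := rfl
theorem F67480 : act 2 n17144 = n16605 := d1_2 (iv F65416) D17144 (iv D16605)
theorem F67481 : act 7 n17144 = n17144 := d6_2 F65417 D17144 (iv D17144)
theorem F67482 : act 8 n17144 = n16967 := d7_2 (iv F65418) D17144 (iv D16967)
def n17145 : Q := act 3 n16560
theorem D17145 : act 3 n16560 = n17145 := rfl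
theorem F67483 : act 0 n17145 = n16730 := d2_1 D17145 (iv D16730) (iv F65419)
theorem F67484 : act 1 n17145 = n16822 := d9_1 D17145 (iv D16822) (iv F65420)
theorem F67485 : act 5 n17145 = n16823 := d22_2 (iv F65423) D17145 (iv D16823)
theorem F67486 : act 6 n17145 = n16859 := d23_2 (iv F65424) D17145 (iv D16859)
theorem F67487 : act 7 n17145 = n16640 := d24_2 D16560 D17145 (iv D16640) (iv D16046) (iv F63139)
def n17146 : Q := act 3 n16561
theorem D17146 : act 3 n16561 = n17146 := rfl
theorem F67488 : act 5 n17146 = n16563 := d22_2 (iv F65426) D17146 (iv D16563)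
theorem F67489 : act 7 n17146 = n16573 := d24_2 D16561 D17146 (iv D16573) (iv D15973) (iv F63144)
theorem F67490 : act 8 n17146 = n16562 := d25_2 (iv F65427) D17146 (iv D16562)
def n17147 : Q := act 2 n16562
theorem D17147 : act 2 n16562 = n17147 := rfl
theorem F67491 : act 3 n17147 = n17147 := d15_2 D16562 D17147 (iv D17147) (iv D16562) F63146
theorem F67492 : act 5 n17147 = n16564 := d17_2 (iv F65428) D17147 (iv D16564)
theorem F67493 : act 7 n17147 = n16566 := d19_2 (iv F65429) D17147 (iv D16566)
def n17148 : Q := act 4 n16562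
theorem D17148 : act 4 n16562 = n17148 := rfl
theorem F67494 : act 7 n17148 = n16567 := d28_2 (iv F65429) D17148 (iv D16567)
def n17149 : Q := act 2 n16563
theorem D17149 : act 2 n16563 = n17149 := rfl
theorem F67495 : act 3 n17149 = n17149 := d15_2 D16563 D17149 (iv D17149) (iv D16563) F63148
theorem F67496 : act 7 n17149 = n16576 := d19_2 (iv F65430) D17149 (iv D16576)
theorem F67497 : act 8 n17149 = n16564 := d20_2 (iv F65431) D17149 (iv D16564)
def n17150 : Q := act 4 n16563
theorem D17150 : act 4 n16563 = n17150 := rfl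
theorem F67498 : act 7 n17150 = n16577 := d28_2 (iv F65430) D17150 (iv D16577)
theorem F67499 : act 8 n17150 = n16565 := d29_2 (iv F65431) D17150 (iv D16565)
def n17151 : Q := act 4 n16564
theorem D17151 : act 4 n16564 = n17151 := rfl
theorem F67500 : act 2 n17151 = n16565 := d16_1 D17151 (iv D16565) D16564
theorem F67501 : act 7 n17151 = n16568 := d28_2 (iv F65433) D17151 (iv D16568)
def n17152 : Q := act 5 n16565
theorem D17152 : act 5 n16565 = n17152 := rfl
theorem F67502 : act 7 n17152 = n16569 := d31_2 (iv F65434) D17152 (iv D16569)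
def n17153 : Q := act 4 n16566
theorem D17153 : act 4 n16566 = n17153 := rfl
theorem F67503 : act 2 n17153 = n16567 := d16_1 D17153 (iv D16567) D16566
theorem F67504 : act 8 n17153 = n16584 := d29_2 (iv F65437) D17153 (iv D16584)
def n17154 : Q := act 5 n16567
theorem D17154 : act 5 n16567 = n17154 := rfl
theorem F67505 : act 4 n17154 = n16569 := d26_1 D17154 (iv D16569) (iv D15968) (iv F63151) D16567
theorem F67506 : act 8 n17154 = n16585 := d32_2 (iv F65438) D17154 (iv D16585)
def n17155 : Q := act 5 n16568
theorem D17155 : act 5 n16568 = n17155 := rfl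
theorem F67507 : act 2 n17155 = n16569 := d17_1 D17155 (iv D16569) (iv F65439)
theorem F67508 : act 8 n17155 = n16588 := d32_2 (iv F65440) D17155 (iv D16588)
def n17156 : Q := act 6 n16569
theorem D17156 : act 6 n16569 = n17156 := rfl
theorem F67509 : act 3 n17156 = n16570 := d23_1 D17156 (iv D16570) (iv F65441)
theorem F67510 : act 8 n17156 = n16589 := d34_2 (iv F65442) D17156 (iv D16589)
def n17157 : Q := act 2 n16571
theorem D17157 : act 2 n16571 = n17157 := rfl
theorem F67511 : act 0 n17157 = n16773 := d1_1 D17157 (iv F67357) F67356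
theorem F67512 : act 3 n17157 = n16591 := d15_2 D16571 D17157 (iv D16591) (iv D15989) (iv F63161)
theorem F67513 : act 5 n17157 = n17031 := d17_2 (iv F65444) D17157 (iv D17031)
theorem F67514 : act 7 n17157 = n16893 := d19_2 F66809 D17157 (iv F66807)
def n17158 : Q := act 4 n16571
theorem D17158 : act 4 n16571 = n17158 := rfl
theorem F67515 : act 3 n17158 = n16575 := d21_1 D17158 (iv D16575) (iv D15974) (iv F63162) D16571
def n17159 : Q := act 2 n16572
theorem D17159 : act 2 n16572 = n17159 := rfl
theorem F67516 : act 3 n17159 = n16592 := d15_2 D16572 D17159 (iv D16592) (iv D15990) (iv F63164)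
theorem F67517 : act 6 n17159 = n16574 := d18_2 (iv F65445) D17159 (iv D16574)
theorem F67518 : act 7 n17159 = n16581 := d19_2 (iv F65446) D17159 (iv D16581)
def n17160 : Q := act 4 n16572
theorem D17160 : act 4 n16572 = n17160 := rfl
theorem F67519 : act 6 n17160 = n16575 := d27_2 (iv F65445) D17160 (iv D16575)
theorem F67520 : act 7 n17160 = n16582 := d28_2 (iv F65446) D17160 (iv D16582)
def n17161 : Q := act 2 n16573
theorem D17161 : act 2 n16573 = n17161 := rfl
theorem F67521 : act 3 n17161 = n16593 := d15_2 D16573 D17161 (iv D16593) (iv D15991) (iv F63166)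
theorem F67522 : act 5 n17161 = n16576 := d17_2 (iv F65447) D17161 (iv D16576)
theorem F67523 : act 8 n17161 = n16574 := d20_2 (iv F65448) D17161 (iv D16574)
def n17162 : Q := act 4 n16573
theorem D17162 : act 4 n16573 = n17162 := rfl
theorem F67524 : act 8 n17162 = n16575 := d29_2 (iv F65448) D17162 (iv D16575)
def n17163 : Q := act 1 n16574
theorem D17163 : act 1 n16574 = n17163 := rfl
theorem F67525 : act 3 n17163 = n16595 := d9_2 (iv F65449) D17163 (iv D16595)
theorem F67526 : act 5 n17163 = n16578 := d11_2 (iv F65450) D17163 (iv D16578)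
theorem F67527 : act 7 n17163 = n16583 := d13_2 (iv F65451) D17163 (iv D16583)
def n17164 : Q := act 4 n16574
theorem D17164 : act 4 n16574 = n17164 := rfl
theorem F67528 : act 2 n17164 = n16575 := d16_1 D17164 (iv D16575) D16574
theorem F67529 : act 7 n17164 = n16584 := d28_2 (iv F65451) D17164 (iv D16584)
def n17165 : Q := act 5 n16575
theorem D17165 : act 5 n16575 = n17165 := rfl
theorem F67530 : act 4 n17165 = n16580 := d26_1 D17165 (iv D16580) (iv D15977) (iv F63169) D16575
theorem F67531 : act 7 n17165 = n16585 := d31_2 (iv F65452) D17165 (iv D16585)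
def n17166 : Q := act 1 n16576
theorem D17166 : act 1 n16576 = n17166 := rfl
theorem F67532 : act 3 n17166 = n16597 := d9_2 (iv F65453) D17166 (iv D16597)
theorem F67533 : act 8 n17166 = n16578 := d14_2 (iv F65454) D17166 (iv D16578)
def n17167 : Q := act 4 n16576
theorem D17167 : act 4 n16576 = n17167 := rfl
theorem F67534 : act 2 n17167 = n16577 := d16_1 D17167 (iv D16577) D16576
theorem F67535 : act 8 n17167 = n16579 := d29_2 (iv F65454) D17167 (iv D16579)
def n17168 : Q := act 5 n16577
theorem D17168 : act 5 n16577 = n17168 := rfl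
theorem F67536 : act 3 n17168 = n17038 := d22_1 D17168 (iv D17038) (iv F65455)
theorem F67537 : act 8 n17168 = n16580 := d32_2 (iv F65456) D17168 (iv D16580)
def n17169 : Q := act 0 n16578
theorem D17169 : act 0 n16578 = n17169 := rfl
theorem F67538 : act 3 n17169 = n16599 := d2_2 (iv F65457) D17169 (iv D16599)
theorem F67539 : act 7 n17169 = n16586 := d6_2 (iv F65458) D17169 (iv D16586)
def n17170 : Q := act 4 n16578
theorem D17170 : act 4 n16578 = n17170 := rfl
theorem F67540 : act 1 n17170 = n16579 := d10_1 D17170 (iv D16579) D16578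
theorem F67541 : act 7 n17170 = n16587 := d28_2 (iv F65458) D17170 (iv D16587)
def n17171 : Q := act 3 n16579
theorem D17171 : act 3 n16579 = n17171 := rfl
theorem F67542 : act 2 n17171 = n17040 := d15_1 D17171 (iv D17040) F64984 (iv F63174) (iv F65459)
theorem F67543 : act 4 n17171 = n16601 := d21_2 D16579 D17171 (iv D16601) (iv D15997) (iv F63172)
def n17172 : Q := act 5 n16579
theorem D17172 : act 5 n16579 = n17172 := rfl
theorem F67544 : act 2 n17172 = n16580 := d17_1 D17172 (iv D16580) (iv F65459)
theorem F67545 : act 7 n17172 = n16588 := d31_2 (iv F65460) D17172 (iv D16588)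
def n17173 : Q := act 6 n16580
theorem D17173 : act 6 n16580 = n17173 := rfl
theorem F67546 : act 3 n17173 = n17042 := d23_1 D17173 (iv D17042) (iv F65461)
theorem F67547 : act 7 n17173 = n16589 := d33_2 (iv F65462) D17173 (iv D16589)
def n17174 : Q := act 4 n16581
theorem D17174 : act 4 n16581 = n17174 := rfl
theorem F67548 : act 2 n17174 = n16582 := d16_1 D17174 (iv D16582) D16581
theorem F67549 : act 6 n17174 = n16584 := d27_2 (iv F65464) D17174 (iv D16584)
def n17175 : Q := act 5 n16582
theorem D17175 : act 5 n16582 = n17175 := rfl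
def n17176 : Q := act 4 n16583
theorem D17176 : act 4 n16583 = n17176 := rfl
theorem F67550 : act 1 n17176 = n16584 := d10_1 D17176 (iv D16584) D16583
def n17177 : Q := act 3 n16584
theorem D17177 : act 3 n16584 = n17177 := rfl
theorem F67551 : act 4 n17177 = n16590 := d21_2 D16584 D17177 (iv D16590) (iv D15987) (iv F63177)
def n17178 : Q := act 5 n16584
theorem D17178 : act 5 n16584 = n17178 := rfl
theorem F67552 : act 2 n17178 = n16585 := d17_1 D17178 (iv D16585) (iv F65468)
theorem F67553 : act 4 n17178 = n16588 := d26_1 D17178 (iv D16588) (iv D15982) (iv F63178) D16584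
def n17179 : Q := act 6 n16585
theorem D17179 : act 6 n16585 = n17179 := rfl
theorem F67554 : act 4 n17179 = n16589 := d27_1 D17179 (iv D16589) (iv F65469)
def n17180 : Q := act 4 n16586
theorem D17180 : act 4 n16586 = n17180 := rfl
theorem F67555 : act 0 n17180 = n16587 := d3_1 D17180 (iv D16587) D16586
def n17181 : Q := act 5 n16587
theorem D17181 : act 5 n16587 = n17181 := rfl
theorem F67556 : act 1 n17181 = n16588 := d11_1 D17181 (iv D16588) (iv F65471)
def n17182 : Q := act 6 n16588
theorem D17182 : act 6 n16588 = n17182 := rfl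
theorem F67557 : act 2 n17182 = n16589 := d18_1 D17182 (iv D16589) (iv F65472)
def n17183 : Q := act 7 n16590
theorem D17183 : act 7 n16590 = n17183 := rfl
theorem F67558 : act 0 n17183 = n16644 := d6_1 D17183 (iv F66378) F66374
theorem F67559 : act 1 n17183 = n16814 := d13_1 D17183 F66394 F65757
theorem F67560 : act 2 n17183 = n16643 := d19_1 D17183 F65723 F65700
theorem F67561 : act 3 n17183 = n16603 := d24_1 D17183 (iv D16603) (iv D16003) (iv F63189) D16590
theorem F67562 : act 5 n17183 = n16811 := d31_1 D17183 F66378 F65727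
theorem F67563 : act 6 n17183 = n16651 := d33_1 D17183 (iv F66394) F66393
theorem F67564 : act 8 n16925 = n17183 := d32_0 F67562 F66379 (iv F66798)
def n17184 : Q := act 1 n16593
theorem D17184 : act 1 n16593 = n17184 := rfl
theorem F67565 : act 2 n17184 = n16606 := d8_2 D16593 D17184 (iv D16606) (iv D16010) (iv F63200)
theorem F67566 : act 5 n17184 = n16597 := d11_2 (iv F65480) D17184 (iv D16597)
theorem F67567 : act 7 n17184 = n17184 := d13_2 F65481 D17184 (iv D17184)
theorem F67568 : act 8 n17184 = n16595 := d14_2 (iv F65482) D17184 (iv D16595)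
theorem F67569 : act 0 n17074 = n17184 := d7_3 F67568 (iv F65881) (iv F67279)
theorem F67570 : act 4 n17048 = n17184 := d29_3 F67568 (iv F65492) (iv F67155)
def n17185 : Q := act 4 n16593
theorem D17185 : act 4 n16593 = n17185 := rfl
theorem F67571 : act 0 n17185 = n16797 := d3_1 D17185 (iv F67396) F67395
theorem F67572 : act 1 n17185 = n17048 := d10_1 D17185 F67570 (iv D17184)
theorem F67573 : act 2 n17185 = n16594 := d16_1 D17185 (iv D16594) D16593
theorem F67574 : act 5 n17185 = n16673 := d26_2 (iv F65480) D17185 F65841 F65505 (iv D16598)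
theorem F67575 : act 6 n17185 = n17184 := d27_2 F67153 D17185 (iv F67570)
theorem F67576 : act 7 n17185 = n17185 := d28_2 F65481 D17185 (iv D17185)
theorem F67577 : act 8 n17185 = n16596 := d29_2 (iv F65482) D17185 (iv D16596)
def n17186 : Q := act 3 n16596
theorem D17186 : act 3 n16596 = n17186 := rfl
theorem F67578 : act 0 n17186 = n16776 := d2_1 D17186 F66254 (iv F65493)
theorem F67579 : act 1 n17186 = n17159 := d9_1 D17186 F67516 (iv F65494)
theorem F67580 : act 2 n17186 = n16661 := d15_1 D17186 (iv D16661) F63563 (iv F63208) (iv F65495)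
theorem F67581 : act 5 n17186 = n16663 := d22_2 (iv F65496) D17186 F65804
theorem F67582 : act 6 n17186 = n17163 := d23_2 (iv F65497) D17186 F67525
theorem F67583 : act 7 n17186 = n16666 := d24_2 (iv F65498) D17186 F65816 F63592 F63236
def n17187 : Q := act 0 n16597
theorem D17187 : act 0 n16597 = n17187 := rfl
theorem F67584 : act 2 n17187 = n16607 := d1_2 (iv F65499) D17187 (iv D16607)
theorem F67585 : act 5 n17187 = n17074 := d4_2 F67566 D17187 F67569
theorem F67586 : act 7 n17187 = n17187 := d6_2 F65500 D17187 (iv D17187)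
theorem F67587 : act 8 n17187 = n16599 := d7_2 (iv F65501) D17187 (iv D16599)
def n17188 : Q := act 4 n16597
theorem D17188 : act 4 n16597 = n17188 := rfl
theorem F67588 : act 1 n17188 = n16598 := d10_1 D17188 (iv D16598) D16597
theorem F67589 : act 2 n17188 = n16608 := d16_1 D17188 (iv D16608) (iv F65499)
theorem F67590 : act 5 n17188 = n17051 := d26_2 F67566 D17188 (iv F67207) F67208 F67570
theorem F67591 : act 7 n17188 = n17188 := d28_2 F65500 D17188 (iv D17188)
theorem F67592 : act 8 n17188 = n16600 := d29_2 (iv F65501) D17188 (iv D16600)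
def n17189 : Q := act 3 n16598
theorem D17189 : act 3 n16598 = n17189 := rfl
theorem F67593 : act 2 n17189 = n16947 := d15_1 D17189 (iv D16947) F64731 (iv F63214) (iv F65502)
theorem F67594 : act 5 n17189 = n16948 := d22_2 F65505 D17189 F66872
theorem F67595 : act 8 n17189 = n16601 := d25_2 (iv F65504) D17189 (iv D16601)
def n17190 : Q := act 4 n16599
theorem D17190 : act 4 n16599 = n17190 := rfl
theorem F67596 : act 0 n17190 = n16600 := d3_1 D17190 (iv D16600) D16599
theorem F67597 : act 2 n17190 = n16609 := d16_1 D17190 (iv D16609) (iv F65506)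
theorem F67598 : act 7 n17190 = n16602 := d28_2 (iv F65507) D17190 (iv D16602)
def n17191 : Q := act 3 n16600
theorem D17191 : act 3 n16600 = n17191 := rfl
theorem F67599 : act 1 n17191 = n16601 := d9_1 D17191 (iv D16601) (iv F65508)
def n17192 : Q := act 0 n16604
theorem D17192 : act 0 n16604 = n17192 := rfl
theorem F67600 : act 1 n17192 = n17192 := d0_2 D16604 D17192 (iv D17192) (iv D16604) F63267
theorem F67601 : act 3 n17192 = n16609 := d2_2 (iv F65522) D17192 F65548
theorem F67602 : act 4 n17192 = n17067 := d3_2 (iv F65523) D17192 F67245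
theorem F67603 : act 5 n17192 = n16605 := d4_2 (iv F65524) D17192 (iv D16605)
theorem F67604 : act 6 n17192 = n17084 := d5_2 (iv F65525) D17192 F67309
theorem F67605 : act 7 n17192 = n17192 := d6_2 F65526 D17192 (iv D17192)
theorem F67606 : act 8 n17192 = n17053 := d7_2 (iv F65527) D17192 (iv D17053)
def n17193 : Q := act 4 n16607
theorem D17193 : act 4 n16607 = n17193 := rfl
theorem F67607 : act 0 n17193 = n16608 := d3_1 D17193 (iv D16608) D16607
theorem F67608 : act 1 n17193 = n17193 := d10_1 D17193 (iv D17193) F65538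
theorem F67609 : act 3 n17193 = n17053 := d21_1 D17193 F67178 (iv D16488) (iv F65171) (iv F65539)
theorem F67610 : act 5 n17193 = n17052 := d26_2 (iv F65540) D17193 (iv F67184) F67185 F66727
theorem F67611 : act 7 n17193 = n17193 := d28_2 F65541 D17193 (iv D17193)
theorem F67612 : act 8 n17193 = n16609 := d29_2 (iv F65542) D17193 (iv D16609)
def n17194 : Q := act 3 n16610
theorem D17194 : act 3 n16610 = n17194 := rfl
theorem F67613 : act 0 n17194 = n16612 := d2_1 D17194 (iv D16612) (iv F65551)
theorem F67614 : act 1 n17194 = n16685 := d9_1 D17194 (iv D16685) (iv F65552)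
theorem F67615 : act 5 n17194 = n16827 := d22_2 (iv F65555) D17194 (iv D16827)
theorem F67616 : act 6 n17194 = n16921 := d23_2 (iv F65556) D17194 (iv D16921)
theorem F67617 : act 7 n17194 = n16625 := d24_2 D16610 D17194 (iv D16625) (iv D16033) (iv F63317)
theorem F67618 : act 8 n17194 = n17145 := d25_2 (iv F65557) D17194 (iv D17145)
def n17195 : Q := act 3 n16611
theorem D17195 : act 3 n16611 = n17195 := rfl
theorem F67619 : act 0 n17195 = n17146 := d2_1 D17195 (iv D17146) (iv F65558)
theorem F67620 : act 1 n17195 = n16615 := d9_1 D17195 (iv D16615) (iv F65559)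
theorem F67621 : act 5 n17195 = n17088 := d22_2 (iv F65562) D17195 (iv D17088)
theorem F67622 : act 6 n17195 = n16763 := d23_2 (iv F65563) D17195 (iv D16763)
theorem F67623 : act 7 n17195 = n17105 := d24_2 D16611 D17195 (iv D17105) (iv D16522) (iv F63324)
theorem F67624 : act 8 n17195 = n16735 := d25_2 (iv F65564) D17195 (iv D16735)
def n17196 : Q := act 2 n16612
theorem D17196 : act 2 n16612 = n17196 := rfl
theorem F67625 : act 1 n17196 = n17076 := d8_1 D17196 (iv D17076) F65235 (iv F63350) (iv F65565)
theorem F67626 : act 3 n17196 = n17196 := d15_2 D16612 D17196 (iv D17196) (iv D16612) F63329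
theorem F67627 : act 5 n17196 = n16830 := d17_2 (iv F65566) D17196 (iv D16830)
theorem F67628 : act 7 n17196 = n16628 := d19_2 (iv F65567) D17196 (iv D16628)
def n17197 : Q := act 4 n16612
theorem D17197 : act 4 n16612 = n17197 := rfl
theorem F67629 : act 1 n17197 = n16616 := d10_1 D17197 (iv D16616) (iv F65565)
theorem F67630 : act 7 n17197 = n16629 := d28_2 (iv F65567) D17197 (iv D16629)
def n17198 : Q := act 3 n16613
theorem D17198 : act 3 n16613 = n17198 := rfl
theorem F67631 : act 0 n17198 = n16690 := d2_1 D17198 (iv D16690) (iv F65568)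
theorem F67632 : act 1 n17198 = n17105 := d9_1 D17198 (iv D17105) (iv F65569)
theorem F67633 : act 5 n17198 = n17095 := d22_2 (iv F65572) D17198 (iv D17095)
theorem F67634 : act 6 n17198 = n16718 := d23_2 (iv F65573) D17198 (iv D16718)
theorem F67635 : act 7 n17198 = n16615 := d24_2 D16613 D17198 (iv D16615) (iv D16023) (iv F63334)
theorem F67636 : act 8 n17198 = n16701 := d25_2 (iv F65574) D17198 (iv D16701)
def n17199 : Q := act 3 n16614
theorem D17199 : act 3 n16614 = n17199 := rfl
theorem F67637 : act 0 n17199 = n16692 := d2_1 D17199 (iv D16692) (iv F65575)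
theorem F67638 : act 1 n17199 = n17088 := d9_1 D17199 (iv D17088) (iv F65576)
theorem F67639 : act 5 n17199 = n16615 := d22_2 (iv F65579) D17199 (iv D16615)
theorem F67640 : act 7 n17199 = n17095 := d24_2 D16614 D17199 (iv D17095) (iv D16515) (iv F63341)
theorem F67641 : act 8 n17199 = n16740 := d25_2 (iv F65580) D17199 (iv D16740)
def n17200 : Q := act 2 n16615
theorem D17200 : act 2 n16615 = n17200 := rfl
theorem F67642 : act 0 n17200 = n16693 := d1_1 D17200 (iv D16693) (iv F65581)
theorem F67643 : act 3 n17200 = n16618 := d15_2 D16615 D17200 (iv D16618) (iv D16026) (iv F63345)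
theorem F67644 : act 6 n17200 = n16778 := d18_2 (iv F65582) D17200 (iv D16778)
theorem F67645 : act 8 n17200 = n16741 := d20_2 (iv F65583) D17200 (iv D16741)
def n17201 : Q := act 4 n16615
theorem D17201 : act 4 n16615 = n17201 := rfl
theorem F67646 : act 0 n17201 = n16694 := d3_1 D17201 (iv D16694) (iv F65581)
theorem F67647 : act 3 n17201 = n16616 := d21_1 D17201 (iv D16616) (iv D16024) (iv F63346) D16615
theorem F67648 : act 6 n17201 = n16779 := d27_2 (iv F65582) D17201 (iv D16779)
theorem F67649 : act 8 n17201 = n16742 := d29_2 (iv F65583) D17201 (iv D16742)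
def n17202 : Q := act 5 n16616
theorem D17202 : act 5 n16616 = n17202 := rfl
theorem F67650 : act 0 n17202 = n16695 := d4_1 D17202 (iv D16695) (iv F65584)
theorem F67651 : act 2 n17202 = n17082 := d17_1 D17202 (iv D17082) (iv F65585)
theorem F67652 : act 4 n17202 = n16837 := d26_1 D17202 (iv D16837) (iv D16245) (iv F63351) D16616
theorem F67653 : act 7 n17202 = n16636 := d31_2 (iv F65586) D17202 (iv D16636)
def n17203 : Q := act 2 n16617
theorem D17203 : act 2 n16617 = n17203 := rfl
theorem F67654 : act 0 n17203 = n16696 := d1_1 D17203 (iv D16696) (iv F65587)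
theorem F67655 : act 5 n17203 = n16618 := d17_2 (iv F65589) D17203 (iv D16618)
theorem F67656 : act 6 n17203 = n17187 := d18_2 (iv F65590) D17203 F67584
theorem F67657 : act 7 n17203 = n17203 := d19_2 F65591 D17203 (iv D17203)
theorem F67658 : act 8 n17203 = n16791 := d20_2 (iv F65592) D17203 (iv D16791)
def n17204 : Q := act 4 n16617
theorem D17204 : act 4 n16617 = n17204 := rfl
theorem F67659 : act 0 n17204 = n16697 := d3_1 D17204 (iv D16697) (iv F65587)
theorem F67660 : act 1 n17204 = n17204 := d10_1 D17204 (iv D17204) F65588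
theorem F67661 : act 3 n17204 = n16839 := d21_1 D17204 (iv D16839) (iv D16246) (iv F63355) D16617
theorem F67662 : act 5 n17204 = n17084 := d26_2 (iv F65589) D17204 (iv D17084) F65255 (iv F63360)
theorem F67663 : act 6 n17204 = n17193 := d27_2 (iv F65590) D17204 (iv D17193)
theorem F67664 : act 7 n17204 = n17204 := d28_2 F65591 D17204 (iv D17204)
theorem F67665 : act 8 n17204 = n16792 := d29_2 (iv F65592) D17204 (iv D16792)
def n17205 : Q := act 1 n16618
theorem D17205 : act 1 n16618 = n17205 := rfl
theorem F67666 : act 2 n17205 = n17205 := d8_2 D16618 D17205 (iv D17205) (iv D16618) F63359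
theorem F67667 : act 4 n17205 = n17085 := d10_2 (iv F65594) D17205 (iv D17085)
theorem F67668 : act 6 n17205 = n16799 := d12_2 (iv F65595) D17205 (iv D16799)
theorem F67669 : act 7 n17205 = n17205 := d13_2 F65596 D17205 (iv D17205)
theorem F67670 : act 8 n17205 = n16793 := d14_2 (iv F65597) D17205 (iv D16793)
def n17206 : Q := act 4 n16619
theorem D17206 : act 4 n16619 = n17206 := rfl
theorem F67671 : act 0 n17206 = n16699 := d3_1 D17206 (iv D16699) (iv F65598)
theorem F67672 : act 1 n17206 = n16861 := d10_1 D17206 (iv D16861) (iv F65599)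
theorem F67673 : act 2 n17206 = n16706 := d16_1 D17206 (iv D16706) (iv F65600)
theorem F67674 : act 3 n17206 = n16815 := d21_1 D17206 (iv D16815) (iv D16223) (iv F63367) D16619
theorem F67675 : act 6 n17206 = n16841 := d27_2 (iv F65602) D17206 (iv D16841)
theorem F67676 : act 8 n17206 = n16641 := d29_2 (iv F65603) D17206 (iv D16641)
def n17207 : Q := act 2 n16620
theorem D17207 : act 2 n16620 = n17207 := rfl
theorem F67677 : act 0 n17207 = n16925 := d1_1 D17207 (iv D16925) (iv F65604)
theorem F67678 : act 1 n17207 = n16845 := d8_1 D17207 (iv D16845) F64344 (iv F63393) (iv F65605)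
theorem F67679 : act 3 n17207 = n16676 := d15_2 D16620 D17207 (iv D16676) (iv D16081) (iv F63373)
theorem F67680 : act 5 n17207 = n16860 := d17_2 (iv F65606) D17207 (iv D16860)
theorem F67681 : act 6 n17207 = n16628 := d18_2 (iv F65607) D17207 (iv D16628)
theorem F67682 : act 8 n17207 = n16644 := d20_2 (iv F65608) D17207 (iv D16644)
def n17208 : Q := act 4 n16620
theorem D17208 : act 4 n16620 = n17208 := rfl
theorem F67683 : act 0 n17208 = n16926 := d3_1 D17208 (iv D16926) (iv F65604)
theorem F67684 : act 1 n17208 = n16623 := d10_1 D17208 (iv D16623) (iv F65605)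
theorem F67685 : act 3 n17208 = n16871 := d21_1 D17208 (iv D16871) (iv D16275) (iv F63374) D16620
theorem F67686 : act 6 n17208 = n16629 := d27_2 (iv F65607) D17208 (iv D16629)
theorem F67687 : act 8 n17208 = n16645 := d29_2 (iv F65608) D17208 (iv D16645)
def n17209 : Q := act 3 n16621
theorem D17209 : act 3 n16621 = n17209 := rfl
theorem F67688 : act 0 n17209 = n16701 := d2_1 D17209 (iv D16701) (iv F65609)
theorem F67689 : act 1 n17209 = n16868 := d9_1 D17209 (iv D16868) (iv F65610)
theorem F67690 : act 5 n17209 = n16863 := d22_2 (iv F65613) D17209 (iv D16863)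
theorem F67691 : act 6 n17209 = n16632 := d23_2 (iv F65614) D17209 (iv D16632)
theorem F67692 : act 7 n17209 = n16622 := d24_2 D16621 D17209 (iv D16622) (iv D16030) (iv F63381)
theorem F67693 : act 8 n17209 = n16690 := d25_2 (iv F65615) D17209 (iv D16690)
def n17210 : Q := act 2 n16622
theorem D17210 : act 2 n16622 = n17210 := rfl
theorem F67694 : act 0 n17210 = n16702 := d1_1 D17210 (iv D16702) (iv F65616)
theorem F67695 : act 1 n17210 = n16980 := d8_1 D17210 (iv D16980) F64819 (iv F64428) (iv F65617)
theorem F67696 : act 3 n17210 = n16624 := d15_2 D16622 D17210 (iv D16624) (iv D16032) (iv F63387)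
theorem F67697 : act 5 n17210 = n16864 := d17_2 (iv F65618) D17210 (iv D16864)
theorem F67698 : act 6 n17210 = n16634 := d18_2 (iv F65619) D17210 (iv D16634)
theorem F67699 : act 8 n17210 = n16646 := d20_2 (iv F65620) D17210 (iv D16646)
def n17211 : Q := act 4 n16622
theorem D17211 : act 4 n16622 = n17211 := rfl
theorem F67700 : act 0 n17211 = n16703 := d3_1 D17211 (iv D16703) (iv F65616)
theorem F67701 : act 1 n17211 = n16871 := d10_1 D17211 (iv D16871) (iv F65617)
theorem F67702 : act 3 n17211 = n16623 := d21_1 D17211 (iv D16623) (iv D16031) (iv F63388) D16622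
theorem F67703 : act 6 n17211 = n16635 := d27_2 (iv F65619) D17211 (iv D16635)
theorem F67704 : act 8 n17211 = n16647 := d29_2 (iv F65620) D17211 (iv D16647)
def n17212 : Q := act 5 n16623
theorem D17212 : act 5 n16623 = n17212 := rfl
theorem F67705 : act 0 n17212 = n16704 := d4_1 D17212 (iv D16704) (iv F65621)
theorem F67706 : act 2 n17212 = n16973 := d17_1 D17212 (iv D16973) (iv F65622)
theorem F67707 : act 8 n17212 = n16648 := d32_2 (iv F65624) D17212 (iv D16648)
def n17213 : Q := act 2 n16625
theorem D17213 : act 2 n16625 = n17213 := rfl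
theorem F67708 : act 0 n17213 = n16628 := d1_1 D17213 (iv D16628) (iv F65632)
theorem F67709 : act 1 n17213 = n16860 := d8_1 D17213 (iv D16860) (iv F65599) F65600 (iv F65633)
theorem F67710 : act 3 n17213 = n16677 := d15_2 D16625 D17213 (iv D16677) (iv D16082) (iv F63405)
theorem F67711 : act 5 n17213 = n16845 := d17_2 (iv F65634) D17213 (iv D16845)
theorem F67712 : act 6 n17213 = n16925 := d18_2 (iv F65635) D17213 (iv D16925)
theorem F67713 : act 8 n17213 = n16651 := d20_2 (iv F65636) D17213 (iv D16651)
def n17214 : Q := act 4 n16625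
theorem D17214 : act 4 n16625 = n17214 := rfl
theorem F67714 : act 0 n17214 = n16629 := d3_1 D17214 (iv D16629) (iv F65632)
theorem F67715 : act 1 n17214 = n16706 := d10_1 D17214 (iv D16706) (iv F65633)
theorem F67716 : act 3 n17214 = n17000 := d21_1 D17214 (iv D17000) (iv D16403) (iv F63406) D16625
theorem F67717 : act 6 n17214 = n16926 := d27_2 (iv F65635) D17214 (iv D16926)
theorem F67718 : act 8 n17214 = n16652 := d29_2 (iv F65636) D17214 (iv D16652)
def n17215 : Q := act 3 n16626
theorem D17215 : act 3 n16626 = n17215 := rfl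
theorem F67719 : act 0 n17215 = n16995 := d2_1 D17215 (iv D16995) (iv F65637)
theorem F67720 : act 1 n17215 = n16632 := d9_1 D17215 (iv D16632) (iv F65638)
theorem F67721 : act 2 n17215 = n16986 := d15_1 D17215 (iv D16986) F64835 (iv F64538) (iv F65639)
theorem F67722 : act 5 n17215 = n16894 := d22_2 (iv F65641) D17215 (iv D16894)
theorem F67723 : act 6 n17215 = n16868 := d23_2 (iv F65642) D17215 (iv D16868)
theorem F67724 : act 7 n17215 = n16627 := d24_2 D16626 D17215 (iv D16627) (iv D16035) (iv F63413)
theorem F67725 : act 8 n17215 = n17104 := d25_2 (iv F65643) D17215 (iv D17104)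
def n17216 : Q := act 4 n16627
theorem D17216 : act 4 n16627 = n17216 := rfl
theorem F67726 : act 0 n17216 = n17000 := d3_1 D17216 (iv D17000) (iv F65644)
theorem F67727 : act 1 n17216 = n16635 := d10_1 D17216 (iv D16635) (iv F65645)
theorem F67728 : act 2 n17216 = n16991 := d16_1 D17216 (iv D16991) (iv F65646)
theorem F67729 : act 3 n17216 = n16629 := d21_1 D17216 (iv D16629) (iv D16036) (iv F63420) D16627
theorem F67730 : act 6 n17216 = n16871 := d27_2 (iv F65648) D17216 (iv D16871)
theorem F67731 : act 8 n17216 = n16656 := d29_2 (iv F65649) D17216 (iv D16656)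
def n17217 : Q := act 4 n16628
theorem D17217 : act 4 n16628 = n17217 := rfl
theorem F67732 : act 1 n17217 = n17086 := d10_1 D17217 (iv D17086) (iv F65650)
theorem F67733 : act 2 n17217 = n16629 := d16_1 D17217 (iv D16629) D16628
theorem F67734 : act 8 n17217 = n16657 := d29_2 (iv F65653) D17217 (iv D16657)
def n17218 : Q := act 5 n16629
theorem D17218 : act 5 n16629 = n17218 := rfl
theorem F67735 : act 1 n17218 = n16636 := d11_1 D17218 (iv D16636) (iv F65654)
theorem F67736 : act 4 n17218 = n16850 := d26_1 D17218 (iv D16850) (iv D16255) (iv F63425) D16629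
theorem F67737 : act 8 n17218 = n16658 := d32_2 (iv F65655) D17218 (iv D16658)
def n17219 : Q := act 3 n16630
theorem D17219 : act 3 n16630 = n17219 := rfl
theorem F67738 : act 0 n17219 = n16717 := d2_1 D17219 (iv D16717) (iv F65656)
theorem F67739 : act 1 n17219 = n16894 := d9_1 D17219 (iv D16894) (iv F65657)
theorem F67740 : act 5 n17219 = n16632 := d22_2 (iv F65659) D17219 (iv D16632)
theorem F67741 : act 6 n17219 = n16882 := d23_2 (iv F65660) D17219 (iv D16882)
theorem F67742 : act 7 n17219 = n16633 := d24_2 D16630 D17219 (iv D16633) (iv D16040) (iv F63430)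
def n17220 : Q := act 3 n16631
theorem D17220 : act 3 n16631 = n17220 := rfl
theorem F67743 : act 0 n17220 = n16718 := d2_1 D17220 (iv D16718) (iv F65661)
theorem F67744 : act 1 n17220 = n17104 := d9_1 D17220 (iv D17104) (iv F65662)
theorem F67745 : act 6 n17220 = n16690 := d23_2 (iv F65665) D17220 (iv D16690)
theorem F67746 : act 7 n17220 = n16662 := d24_2 D16631 D17220 (iv D16662) (iv D16066) (iv F63436)
theorem F67747 : act 8 n17220 = n16632 := d25_2 (iv F65666) D17220 (iv D16632)
def n17221 : Q := act 2 n16632
theorem D17221 : act 2 n16632 = n17221 := rfl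
theorem F67748 : act 0 n17221 = n16719 := d1_1 D17221 (iv D16719) (iv F65667)
theorem F67749 : act 3 n17221 = n17221 := d15_2 D16632 D17221 (iv D17221) (iv D16632) F63440
theorem F67750 : act 7 n17221 = n16634 := d19_2 (iv F65668) D17221 (iv D16634)
def n17222 : Q := act 4 n16632
theorem D17222 : act 4 n16632 = n17222 := rfl
theorem F67751 : act 0 n17222 = n16720 := d3_1 D17222 (iv D16720) (iv F65667)
theorem F67752 : act 7 n17222 = n16635 := d28_2 (iv F65668) D17222 (iv D16635)
def n17223 : Q := act 2 n16633
theorem D17223 : act 2 n16633 = n17223 := rfl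
theorem F67753 : act 0 n17223 = n16722 := d1_1 D17223 (iv D16722) (iv F65669)
theorem F67754 : act 1 n17223 = n16756 := d8_1 D17223 (iv D16756) (iv F65751) F65752 (iv F65670)
theorem F67755 : act 3 n17223 = n16637 := d15_2 D16633 D17223 (iv D16637) (iv D16043) (iv F63443)
theorem F67756 : act 5 n17223 = n16634 := d17_2 (iv F65671) D17223 (iv D16634)
theorem F67757 : act 6 n17223 = n16886 := d18_2 (iv F65672) D17223 (iv D16886)
theorem F67758 : act 8 n17223 = n16666 := d20_2 (iv F65673) D17223 (iv D16666)
def n17224 : Q := act 4 n16633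
theorem D17224 : act 4 n16633 = n17224 := rfl
theorem F67759 : act 0 n17224 = n16723 := d3_1 D17224 (iv D16723) (iv F65669)
theorem F67760 : act 1 n17224 = n16902 := d10_1 D17224 (iv D16902) (iv F65670)
theorem F67761 : act 3 n17224 = n16856 := d21_1 D17224 (iv D16856) (iv D16261) (iv F63444) D16633
theorem F67762 : act 6 n17224 = n16887 := d27_2 (iv F65672) D17224 (iv D16887)
theorem F67763 : act 8 n17224 = n16667 := d29_2 (iv F65673) D17224 (iv D16667)
def n17225 : Q := act 1 n16634
theorem D17225 : act 1 n16634 = n17225 := rfl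
theorem F67764 : act 2 n17225 = n16755 := d8_2 D16634 D17225 F66193 (iv F65646) F65645
theorem F67765 : act 3 n17225 = n16638 := d9_2 (iv F65675) D17225 (iv D16638)
theorem F67766 : act 5 n17225 = n16756 := d11_2 F67756 D17225 (iv F67754)
theorem F67767 : act 6 n17225 = n16980 := d12_2 F67698 D17225 (iv F67695)
theorem F67768 : act 8 n17225 = n16668 := d14_2 (iv F65676) D17225 (iv D16668)
theorem F67769 : act 0 n16767 = n17225 := d4_3 F67766 F66197 (iv F66238)
def n17226 : Q := act 4 n16634
theorem D17226 : act 4 n16634 = n17226 := rfl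
theorem F67770 : act 0 n17226 = n16725 := d3_1 D17226 (iv D16725) (iv F65674)
theorem F67771 : act 2 n17226 = n16635 := d16_1 D17226 (iv D16635) D16634
theorem F67772 : act 3 n17226 = n17092 := d21_1 D17226 (iv D17092) F65271 (iv F63461) (iv F65675)
theorem F67773 : act 8 n17226 = n16669 := d29_2 (iv F65676) D17226 (iv D16669)
def n17227 : Q := act 5 n16635
theorem D17227 : act 5 n16635 = n17227 := rfl
theorem F67774 : act 0 n17227 = n16726 := d4_1 D17227 (iv D16726) (iv F65677)
theorem F67775 : act 3 n17227 = n16636 := d22_1 D17227 (iv D16636) (iv F65678)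
theorem F67776 : act 8 n17227 = n16670 := d32_2 (iv F65679) D17227 (iv D16670)
def n17228 : Q := act 6 n16636
theorem D17228 : act 6 n16636 = n17228 := rfl
theorem F67777 : act 0 n17228 = n16727 := d5_1 D17228 (iv D16727) (iv F65680)
theorem F67778 : act 2 n17228 = n17094 := d18_1 D17228 (iv D17094) (iv F65681)
theorem F67779 : act 4 n17228 = n16858 := d27_1 D17228 (iv D16858) (iv F65682)
theorem F67780 : act 8 n17228 = n16671 := d34_2 (iv F65683) D17228 (iv D16671)
def n17229 : Q := act 4 n16639
theorem D17229 : act 4 n16639 = n17229 := rfl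
theorem F67781 : act 0 n17229 = n16812 := d3_1 D17229 (iv D16812) (iv F65698)
theorem F67782 : act 1 n17229 = n16641 := d10_1 D17229 (iv D16641) (iv F65699)
theorem F67783 : act 2 n17229 = n17177 := d16_1 D17229 F67551 (iv F65700)
theorem F67784 : act 3 n17229 = n16841 := d21_1 D17229 (iv D16841) (iv D16248) (iv F63467) D16639
theorem F67785 : act 6 n17229 = n16815 := d27_2 (iv F65702) D17229 (iv D16815)
theorem F67786 : act 8 n17229 = n16861 := d29_2 (iv F65703) D17229 (iv D16861)
def n17230 : Q := act 2 n16640
theorem D17230 : act 2 n16640 = n17230 := rfl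
theorem F67787 : act 0 n17230 = n16731 := d1_1 D17230 (iv D16731) (iv F65704)
theorem F67788 : act 1 n17230 = n16925 := d8_1 D17230 (iv D16925) F64651 (iv F64331) (iv F65705)
theorem F67789 : act 3 n17230 = n16642 := d15_2 D16640 D17230 (iv D16642) (iv D16048) (iv F63473)
theorem F67790 : act 5 n17230 = n16842 := d17_2 (iv F65706) D17230 (iv D16842)
theorem F67791 : act 6 n17230 = n16860 := d18_2 (iv F65707) D17230 (iv D16860)
theorem F67792 : act 8 n17230 = n16814 := d20_2 (iv F65708) D17230 (iv D16814)
def n17231 : Q := act 4 n16640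
theorem D17231 : act 4 n16640 = n17231 := rfl
theorem F67793 : act 0 n17231 = n16732 := d3_1 D17231 (iv D16732) (iv F65704)
theorem F67794 : act 1 n17231 = n16841 := d10_1 D17231 (iv D16841) (iv F65705)
theorem F67795 : act 3 n17231 = n16641 := d21_1 D17231 (iv D16641) (iv D16047) (iv F63474) D16640
theorem F67796 : act 6 n17231 = n16861 := d27_2 (iv F65707) D17231 (iv D16861)
theorem F67797 : act 8 n17231 = n16815 := d29_2 (iv F65708) D17231 (iv D16815)
def n17232 : Q := act 5 n16641
theorem D17232 : act 5 n16641 = n17232 := rfl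
theorem F67798 : act 0 n17232 = n16733 := d4_1 D17232 (iv D16733) (iv F65709)
theorem F67799 : act 2 n17232 = n16758 := d17_1 D17232 (iv D16758) (iv F65710)
theorem F67800 : act 4 n17232 = n16648 := d26_1 D17232 (iv D16648) (iv D16052) (iv F63480) D16641
def n17233 : Q := act 4 n16643
theorem D17233 : act 4 n16643 = n17233 := rfl
theorem F67801 : act 0 n17233 = n16645 := d3_1 D17233 (iv D16645) (iv F65719)
theorem F67802 : act 1 n17233 = n16734 := d10_1 D17233 (iv D16734) (iv F65720)
theorem F67803 : act 3 n17233 = n16903 := d21_1 D17233 (iv D16903) F64517 (iv F63492) D16643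
theorem F67804 : act 6 n17233 = n16652 := d27_2 (iv F65722) D17233 (iv D16652)
theorem F67805 : act 7 n17233 = n17229 := d28_2 (iv F65723) D17233 (iv D17229)
theorem F67806 : act 8 n17233 = n16926 := d29_2 (iv F65724) D17233 (iv D16926)
def n17234 : Q := act 4 n16644
theorem D17234 : act 4 n16644 = n17234 := rfl
theorem F67807 : act 1 n17234 = n16878 := d10_1 D17234 (iv D16878) (iv F65725)
theorem F67808 : act 2 n17234 = n16645 := d16_1 D17234 (iv D16645) D16644
theorem F67809 : act 3 n17234 = n16785 := d21_1 D17234 (iv D16785) F64022 (iv F63659) (iv F65726)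
theorem F67810 : act 6 n17234 = n16657 := d27_2 (iv F65728) D17234 (iv D16657)
def n17235 : Q := act 5 n16645
theorem D17235 : act 5 n16645 = n17235 := rfl
theorem F67811 : act 1 n17235 = n16648 := d11_1 D17235 (iv D16648) (iv F65729)
theorem F67812 : act 3 n17235 = n17044 := d22_1 D17235 (iv D17044) (iv F65730)
def n17236 : Q := act 4 n16646
theorem D17236 : act 4 n16646 = n17236 := rfl
theorem F67813 : act 0 n17236 = n16747 := d3_1 D17236 (iv D16747) (iv F65732)
theorem F67814 : act 1 n17236 = n17026 := d10_1 D17236 (iv D17026) (iv F65733)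
theorem F67815 : act 2 n17236 = n16647 := d16_1 D17236 (iv D16647) D16646
theorem F67816 : act 3 n17236 = n17012 := d21_1 D17236 (iv D17012) F64916 (iv F63507) (iv F65734)
theorem F67817 : act 6 n17236 = n16669 := d27_2 (iv F65736) D17236 (iv D16669)
def n17237 : Q := act 5 n16647
theorem D17237 : act 5 n16647 = n17237 := rfl
theorem F67818 : act 0 n17237 = n16748 := d4_1 D17237 (iv D16748) (iv F65737)
theorem F67819 : act 1 n17237 = n17044 := d11_1 D17237 (iv D17044) (iv F65738)
theorem F67820 : act 3 n17237 = n16648 := d22_1 D17237 (iv D16648) (iv F65739)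
theorem F67821 : act 4 n17237 = n17046 := d26_1 D17237 (iv D17046) (iv D16443) (iv F63500) D16647
def n17238 : Q := act 6 n16648
theorem D17238 : act 6 n16648 = n17238 := rfl
theorem F67822 : act 0 n17238 = n16749 := d5_1 D17238 (iv D16749) (iv F65741)
theorem F67823 : act 2 n17238 = n17014 := d18_1 D17238 (iv D17014) (iv F65742)
theorem F67824 : act 5 n17238 = n16671 := d30_1 D17238 (iv D16671) (iv D16072) (iv F63504) D16648
def n17239 : Q := act 3 n16649
theorem D17239 : act 3 n16649 = n17239 := rfl
theorem F67825 : act 0 n17239 = n16654 := d2_1 D17239 (iv D16654) (iv F65743)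
theorem F67826 : act 1 n17239 = n16754 := d9_1 D17239 (iv D16754) (iv F65744)
theorem F67827 : act 2 n17239 = n16894 := d15_1 D17239 (iv D16894) F64493 D16309 (iv F65745)
theorem F67828 : act 5 n17239 = n16986 := d22_2 (iv F65747) D17239 (iv D16986)
theorem F67829 : act 6 n17239 = n16896 := d23_2 (iv F65748) D17239 F66689
theorem F67830 : act 7 n17239 = n16650 := d24_2 D16649 D17239 (iv D16650) (iv D16055) (iv F63514)
theorem F67831 : act 8 n17239 = n16930 := d25_2 (iv F65749) D17239 (iv D16930)
def n17240 : Q := act 4 n16650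
theorem D17240 : act 4 n16650 = n17240 := rfl
theorem F67832 : act 0 n17240 = n16656 := d3_1 D17240 (iv D16656) (iv F65750)
theorem F67833 : act 1 n17240 = n16757 := d10_1 D17240 (iv D16757) (iv F65751)
theorem F67834 : act 2 n17240 = n16902 := d16_1 D17240 (iv D16902) (iv F65752)
theorem F67835 : act 3 n17240 = n16652 := d21_1 D17240 (iv D16652) (iv D16056) (iv F63521) D16650
theorem F67836 : act 6 n17240 = n16903 := d27_2 (iv F65754) D17240 (iv D16903)
theorem F67837 : act 8 n17240 = n17000 := d29_2 (iv F65755) D17240 (iv D17000)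
def n17241 : Q := act 4 n16651
theorem D17241 : act 4 n16651 = n17241 := rfl
theorem F67838 : act 0 n17241 = n16657 := d3_1 D17241 (iv D16657) (iv F65756)
theorem F67839 : act 1 n17241 = n17177 := d10_1 D17241 F67551 (iv F65757)
theorem F67840 : act 2 n17241 = n16652 := d16_1 D17241 (iv D16652) D16651
theorem F67841 : act 3 n17241 = n17176 := d21_1 D17241 (iv D17176) F65466 (iv F63665) (iv F65758)
def n17242 : Q := act 5 n16652
theorem D17242 : act 5 n16652 = n17242 := rfl
theorem F67842 : act 0 n17242 = n16658 := d4_1 D17242 (iv D16658) (iv F65760)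
theorem F67843 : act 1 n17242 = n16758 := d11_1 D17242 (iv D16758) (iv F65761)
theorem F67844 : act 4 n17242 = n16879 := d26_1 D17242 (iv D16879) (iv D16282) (iv F63527) D16652
def n17243 : Q := act 3 n16653
theorem D17243 : act 3 n16653 = n17243 := rfl
theorem F67845 : act 0 n17243 = n16986 := d2_1 D17243 (iv D16986) (iv F65762)
theorem F67846 : act 1 n17243 = n16661 := d9_1 D17243 (iv D16661) (iv F65763)
theorem F67847 : act 2 n17243 = n16995 := d15_1 D17243 (iv D16995) F64861 D16447 (iv F65764)
theorem F67848 : act 5 n17243 = n16654 := d22_2 (iv F65765) D17243 (iv D16654)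
theorem F67849 : act 6 n17243 = n16853 := d23_2 (iv F65766) D17243 (iv D16853)
theorem F67850 : act 7 n17243 = n16655 := d24_2 D16653 D17243 (iv D16655) (iv D16059) (iv F63531)
theorem F67851 : act 8 n17243 = n17157 := d25_2 (iv F65767) D17243 F67512
def n17244 : Q := act 4 n16654
theorem D17244 : act 4 n16654 = n17244 := rfl
theorem F67852 : act 1 n17244 = n16664 := d10_1 D17244 (iv D16664) (iv F65768)
theorem F67853 : act 2 n17244 = n17033 := d16_1 D17244 (iv D17033) (iv F65769)
theorem F67854 : act 6 n17244 = n17035 := d27_2 (iv F65770) D17244 (iv D17035)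
theorem F67855 : act 7 n17244 = n16656 := d28_2 (iv F65771) D17244 (iv D16656)
def n17245 : Q := act 4 n16655
theorem D17245 : act 4 n16655 = n17245 := rfl
theorem F67856 : act 0 n17245 = n16991 := d3_1 D17245 (iv D16991) (iv F65772)
theorem F67857 : act 1 n17245 = n16667 := d10_1 D17245 (iv D16667) (iv F65773)
theorem F67858 : act 2 n17245 = n17000 := d16_1 D17245 (iv D17000) (iv F65774)
theorem F67859 : act 3 n17245 = n16887 := d21_1 D17245 (iv D16887) (iv D16288) (iv F63540) D16655
theorem F67860 : act 6 n17245 = n16856 := d27_2 (iv F65776) D17245 (iv D16856)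
theorem F67861 : act 8 n17245 = n16902 := d29_2 (iv F65777) D17245 (iv D16902)
def n17246 : Q := act 5 n16656
theorem D17246 : act 5 n16656 = n17246 := rfl
theorem F67862 : act 1 n17246 = n16670 := d11_1 D17246 (iv D16670) (iv F65778)
theorem F67863 : act 2 n17246 = n17043 := d17_1 D17246 (iv D17043) (iv F65779)
theorem F67864 : act 3 n17246 = n16658 := d22_1 D17246 (iv D16658) (iv F65780)
def n17247 : Q := act 3 n16657
theorem D17247 : act 3 n16657 = n17247 := rfl
theorem F67865 : act 0 n17247 = n17176 := d2_1 D17247 (iv F67841) F67838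
theorem F67866 : act 1 n17247 = n17101 := d9_1 D17247 (iv D17101) (iv F65782)
theorem F67867 : act 2 n17247 = n16783 := d15_1 D17247 F66266 (iv F65779) F65780 (iv F65783)
theorem F67868 : act 4 n17247 = n16679 := d21_2 D16657 D17247 (iv D16679) (iv D16088) (iv F63548)
theorem F67869 : act 6 n17247 = n16785 := d23_2 F67810 D17247 (iv F67809)
def n17248 : Q := act 5 n16657
theorem D17248 : act 5 n16657 = n17248 := rfl
theorem F67870 : act 1 n17248 = n17102 := d11_1 D17248 (iv D17102) (iv F65782)
theorem F67871 : act 2 n17248 = n16658 := d17_1 D17248 (iv D16658) (iv F65783)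
theorem F67872 : act 4 n17248 = n16891 := d26_1 D17248 (iv D16891) (iv D16291) (iv F63549) D16657
def n17249 : Q := act 6 n16658
theorem D17249 : act 6 n16658 = n17249 := rfl
theorem F67873 : act 1 n17249 = n16671 := d12_1 D17249 (iv D16671) (iv F65784)
theorem F67874 : act 4 n17249 = n16892 := d27_1 D17249 (iv D16892) (iv F65785)
def n17250 : Q := act 3 n16659
theorem D17250 : act 3 n16659 = n17250 := rfl
theorem F67875 : act 0 n17250 = n16774 := d2_1 D17250 (iv D16774) (iv F65786)
theorem F67876 : act 1 n17250 = n16853 := d9_1 D17250 (iv D16853) (iv F65787)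
theorem F67877 : act 2 n17250 = n17163 := d15_1 D17250 F67525 F65489 (iv F63600) (iv F65788)
theorem F67878 : act 5 n17250 = n16847 := d22_2 (iv F65789) D17250 (iv D16847)
theorem F67879 : act 6 n17250 = n16661 := d23_2 (iv F65790) D17250 (iv D16661)
theorem F67880 : act 7 n17250 = n16665 := d24_2 D16659 D17250 (iv D16665) (iv D16068) (iv F63554)
def n17251 : Q := act 3 n16660
theorem D17251 : act 3 n16660 = n17251 := rfl
theorem F67881 : act 0 n17251 = n16775 := d2_1 D17251 (iv D16775) (iv F65791)
theorem F67882 : act 1 n17251 = n17157 := d9_1 D17251 F67512 (iv F65792)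
theorem F67883 : act 5 n17251 = n16662 := d22_2 (iv F65795) D17251 (iv D16662)
theorem F67884 : act 8 n17251 = n16661 := d25_2 (iv F65796) D17251 (iv D16661)
def n17252 : Q := act 4 n16661
theorem D17252 : act 4 n16661 = n17252 := rfl
theorem F67885 : act 0 n17252 = n16777 := d3_1 D17252 (iv D16777) (iv F65797)
theorem F67886 : act 7 n17252 = n16667 := d28_2 (iv F65799) D17252 (iv D16667)
def n17253 : Q := act 2 n16662
theorem D17253 : act 2 n16662 = n17253 := rfl
theorem F67887 : act 0 n17253 = n16778 := d1_1 D17253 (iv D16778) (iv F65800)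
theorem F67888 : act 3 n17253 = n16673 := d15_2 D16662 D17253 (iv D16673) (iv D16077) (iv F63566)
theorem F67889 : act 6 n17253 = n16693 := d18_2 (iv F65801) D17253 (iv D16693)
theorem F67890 : act 8 n17253 = n16663 := d20_2 (iv F65802) D17253 (iv D16663)
def n17254 : Q := act 4 n16662
theorem D17254 : act 4 n16662 = n17254 := rfl
theorem F67891 : act 0 n17254 = n16779 := d3_1 D17254 (iv D16779) (iv F65800)
theorem F67892 : act 3 n17254 = n16683 := d21_1 D17254 (iv D16683) (iv D16093) (iv F63567) D16662
theorem F67893 : act 6 n17254 = n16694 := d27_2 (iv F65801) D17254 (iv D16694)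
theorem F67894 : act 8 n17254 = n16664 := d29_2 (iv F65802) D17254 (iv D16664)
def n17255 : Q := act 1 n16663
theorem D17255 : act 1 n16663 = n17255 := rfl
theorem F67895 : act 2 n17255 = n17016 := d8_2 D16663 D17255 F67076 (iv F65769) F65768
theorem F67896 : act 3 n17255 = n16674 := d9_2 (iv F65804) D17255 (iv D16674)
theorem F67897 : act 5 n17255 = n17159 := d11_2 F67581 D17255 (iv F67579)
theorem F67898 : act 6 n17255 = n17018 := d12_2 F66761 D17255 F67085
theorem F67899 : act 7 n17255 = n16668 := d13_2 (iv F65805) D17255 (iv D16668)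
def n17256 : Q := act 4 n16663
theorem D17256 : act 4 n16663 = n17256 := rfl
theorem F67900 : act 0 n17256 = n16781 := d3_1 D17256 (iv D16781) (iv F65803)
theorem F67901 : act 2 n17256 = n16664 := d16_1 D17256 (iv D16664) D16663
theorem F67902 : act 7 n17256 = n16669 := d28_2 (iv F65805) D17256 (iv D16669)
def n17257 : Q := act 5 n16664
theorem D17257 : act 5 n16664 = n17257 := rfl
theorem F67903 : act 0 n17257 = n16782 := d4_1 D17257 (iv D16782) (iv F65806)
theorem F67904 : act 7 n17257 = n16670 := d31_2 (iv F65807) D17257 (iv D16670)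
def n17258 : Q := act 4 n16665
theorem D17258 : act 4 n16665 = n17258 := rfl
theorem F67905 : act 0 n17258 = n16783 := d3_1 D17258 (iv D16783) (iv F65808)
theorem F67906 : act 1 n17258 = n16856 := d10_1 D17258 (iv D16856) (iv F65809)
theorem F67907 : act 2 n17258 = n17176 := d16_1 D17258 (iv D17176) (iv F65810)
theorem F67908 : act 3 n17258 = n16902 := d21_1 D17258 (iv D16902) (iv D16300) (iv F63575) D16665
theorem F67909 : act 6 n17258 = n16667 := d27_2 (iv F65812) D17258 (iv D16667)
theorem F67910 : act 8 n17258 = n16887 := d29_2 (iv F65813) D17258 (iv D16887)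
def n17259 : Q := act 4 n16666
theorem D17259 : act 4 n16666 = n17259 := rfl
theorem F67911 : act 0 n17259 = n16785 := d3_1 D17259 (iv D16785) (iv F65814)
theorem F67912 : act 1 n17259 = n17174 := d10_1 D17259 (iv D17174) (iv F65815)
theorem F67913 : act 2 n17259 = n16667 := d16_1 D17259 (iv D16667) D16666
theorem F67914 : act 6 n17259 = n17176 := d27_2 (iv F65818) D17259 (iv D17176)
def n17260 : Q := act 5 n16667
theorem D17260 : act 5 n16667 = n17260 := rfl
theorem F67915 : act 0 n17260 = n16786 := d4_1 D17260 (iv D16786) (iv F65819)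
theorem F67916 : act 3 n17260 = n16904 := d22_1 D17260 (iv D16904) (iv F65820)
theorem F67917 : act 4 n17260 = n16670 := d26_1 D17260 (iv D16670) (iv D16071) (iv F63580) D16667
def n17261 : Q := act 0 n16668
theorem D17261 : act 0 n16668 = n17261 := rfl
theorem F67918 : act 1 n17261 = n16787 := d0_2 D16668 D17261 (iv D16787) (iv D16180) (iv F63581)
theorem F67919 : act 2 n17261 = n16710 := d1_2 (iv F65821) D17261 F66012
theorem F67920 : act 3 n17261 = n16672 := d2_2 (iv F65822) D17261 (iv D16672)
theorem F67921 : act 5 n17261 = n16711 := d4_2 (iv F65823) D17261 F66017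
theorem F67922 : act 6 n17261 = n17009 := d5_2 (iv F65824) D17261 F67060
theorem F67923 : act 8 n17261 = n16767 := d7_2 F67768 D17261 F67769
def n17262 : Q := act 4 n16668
theorem D17262 : act 4 n16668 = n17262 := rfl
theorem F67924 : act 1 n17262 = n16669 := d10_1 D17262 (iv D16669) D16668
theorem F67925 : act 2 n17262 = n17025 := d16_1 D17262 (iv D17025) (iv F65821)
theorem F67926 : act 3 n17262 = n17116 := d21_1 D17262 (iv D17116) F65317 (iv F63594) (iv F65822)
theorem F67927 : act 6 n17262 = n17026 := d27_2 (iv F65824) D17262 (iv D17026)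
def n17263 : Q := act 5 n16669
theorem D17263 : act 5 n16669 = n17263 := rfl
theorem F67928 : act 0 n17263 = n16789 := d4_1 D17263 (iv D16789) (iv F65825)
theorem F67929 : act 2 n17263 = n16670 := d17_1 D17263 (iv D16670) (iv F65826)
theorem F67930 : act 3 n17263 = n17117 := d22_1 D17263 (iv D17117) (iv F65827)
def n17264 : Q := act 6 n16670
theorem D17264 : act 6 n16670 = n17264 := rfl
theorem F67931 : act 0 n17264 = n16790 := d5_1 D17264 (iv D16790) (iv F65828)
theorem F67932 : act 3 n17264 = n16671 := d23_1 D17264 (iv D16671) (iv F65829)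
def n17265 : Q := act 0 n16674
theorem D17265 : act 0 n16674 = n17265 := rfl
theorem F67933 : act 1 n17265 = n16801 := d0_2 D16674 D17265 (iv D16801) (iv D16199) (iv F63613)
theorem F67934 : act 2 n17265 = n17055 := d1_2 (iv F65845) D17265 F67188
theorem F67935 : act 5 n17265 = n16821 := d4_2 (iv F65846) D17265 F66418
theorem F67936 : act 6 n17265 = n17056 := d5_2 (iv F65847) D17265 F67195
theorem F67937 : act 7 n17265 = n16675 := d6_2 (iv F65848) D17265 (iv D16675)
def n17266 : Q := act 3 n16678
theorem D17266 : act 3 n16678 = n17266 := rfl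
theorem F67938 : act 0 n17266 = n16886 := d2_1 D17266 F66667 (iv F65869)
theorem F67939 : act 1 n17266 = n17126 := d9_1 D17266 (iv D17126) (iv F65870)
theorem F67940 : act 2 n17266 = n16721 := d15_1 D17266 (iv D16721) F63840 (iv F63646) (iv F65871)
theorem F67941 : act 5 n17266 = n16876 := d22_2 F65875 D17266 F66629
theorem F67942 : act 6 n17266 = n16722 := d23_2 (iv F65872) D17266 F66055
theorem F67943 : act 8 n17266 = n16679 := d25_2 (iv F65874) D17266 (iv D16679)
def n17267 : Q := act 7 n16679
theorem D17267 : act 7 n16679 = n17267 := rfl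
theorem F67944 : act 0 n17267 = n17163 := d6_1 D17267 F67527 (iv F65876)
theorem F67945 : act 1 n17267 = n17128 := d13_1 D17267 (iv D17128) (iv F65877)
theorem F67946 : act 2 n17267 = n16774 := d19_1 D17267 F66251 (iv F65878)
theorem F67947 : act 3 n17267 = n16680 := d24_1 D17267 (iv D16680) (iv D16090) (iv F63672) D16679
theorem F67948 : act 5 n17267 = n17169 := d31_1 D17267 F67539 (iv F65879)
theorem F67949 : act 6 n17267 = n16776 := d33_1 D17267 F66256 (iv F65880)
def n17268 : Q := act 4 n16681
theorem D17268 : act 4 n16681 = n17268 := rfl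
theorem F67950 : act 1 n17268 = n16818 := d10_1 D17268 (iv D16818) (iv F65886)
theorem F67951 : act 2 n17268 = n16688 := d16_1 D17268 (iv D16688) (iv F65887)
theorem F67952 : act 3 n17268 = n17244 := d21_1 D17268 (iv D17244) (iv D16654) (iv F63689) D16681
theorem F67953 : act 6 n17268 = n16914 := d27_2 (iv F65889) D17268 (iv D16914)
theorem F67954 : act 7 n17268 = n16699 := d28_2 (iv F65890) D17268 (iv D16699)
def n17269 : Q := act 4 n16682
theorem D17269 : act 4 n16682 = n17269 := rfl
theorem F67955 : act 0 n17269 = n16932 := d3_1 D17269 (iv D16932) (iv F65891)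
theorem F67956 : act 1 n17269 = n16683 := d10_1 D17269 (iv D16683) (iv F65892)
theorem F67957 : act 2 n17269 = n16914 := d16_1 D17269 (iv D16914) (iv F65893)
theorem F67958 : act 6 n17269 = n16688 := d27_2 (iv F65895) D17269 (iv D16688)
theorem F67959 : act 7 n17269 = n16700 := d28_2 (iv F65896) D17269 (iv D16700)
theorem F67960 : act 8 n17269 = n17268 := d29_2 (iv F65897) D17269 (iv D17268)
def n17270 : Q := act 5 n16683
theorem D17270 : act 5 n16683 = n17270 := rfl
theorem F67961 : act 2 n17270 = n16950 := d17_1 D17270 (iv D16950) (iv F65898)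
theorem F67962 : act 7 n17270 = n16704 := d31_2 (iv F65900) D17270 (iv D16704)
def n17271 : Q := act 3 n16684
theorem D17271 : act 3 n16684 = n17271 := rfl
theorem F67963 : act 0 n17271 = n16687 := d2_1 D17271 (iv D16687) (iv F65901)
theorem F67964 : act 1 n17271 = n17146 := d9_1 D17271 (iv D17146) (iv F65902)
theorem F67965 : act 2 n17271 = n16895 := d15_1 D17271 (iv D16895) F64497 (iv F64189) (iv F65903)
theorem F67966 : act 5 n17271 = n16898 := d22_2 (iv F65905) D17271 F66696
theorem F67967 : act 6 n17271 = n16930 := d23_2 (iv F65906) D17271 (iv D16930)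
theorem F67968 : act 7 n17271 = n16996 := d24_2 D16684 D17271 (iv D16996) (iv D16399) (iv F63704)
theorem F67969 : act 8 n17271 = n16896 := d25_2 (iv F65907) D17271 F66689
def n17272 : Q := act 4 n16685
theorem D17272 : act 4 n16685 = n17272 := rfl
theorem F67970 : act 0 n17272 = n16688 := d3_1 D17272 (iv D16688) (iv F65908)
theorem F67971 : act 6 n17272 = n16932 := d27_2 (iv F65910) D17272 (iv D16932)
theorem F67972 : act 7 n17272 = n16706 := d28_2 (iv F65911) D17272 (iv D16706)
def n17273 : Q := act 3 n16686
theorem D17273 : act 3 n16686 = n17273 := rfl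
theorem F67973 : act 0 n17273 = n16996 := d2_1 D17273 (iv D16996) (iv F65912)
theorem F67974 : act 1 n17273 = n16690 := d9_1 D17273 (iv D16690) (iv F65913)
theorem F67975 : act 2 n17273 = n16987 := d15_1 D17273 (iv D16987) F64839 (iv F64545) (iv F65914)
theorem F67976 : act 5 n17273 = n16869 := d22_2 (iv F65916) D17273 (iv D16869)
theorem F67977 : act 6 n17273 = n17104 := d23_2 (iv F65917) D17273 (iv D17104)
theorem F67978 : act 7 n17273 = n16687 := d24_2 D16686 D17273 (iv D16687) (iv D16097) (iv F63715)
theorem F67979 : act 8 n17273 = n16868 := d25_2 (iv F65918) D17273 (iv D16868)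
def n17274 : Q := act 4 n16687
theorem D17274 : act 4 n16687 = n17274 := rfl
theorem F67980 : act 1 n17274 = n16694 := d10_1 D17274 (iv D16694) (iv F65919)
theorem F67981 : act 2 n17274 = n17034 := d16_1 D17274 (iv D17034) (iv F65920)
theorem F67982 : act 3 n17274 = n16688 := d21_1 D17274 (iv D16688) (iv D16098) (iv F63721) D16687
theorem F67983 : act 8 n17274 = n17035 := d29_2 (iv F65922) D17274 (iv D17035)
def n17275 : Q := act 5 n16688
theorem D17275 : act 5 n16688 = n17275 := rfl
theorem F67984 : act 1 n17275 = n16695 := d11_1 D17275 (iv D16695) (iv F65923)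
theorem F67985 : act 4 n17275 = n16950 := d26_1 D17275 (iv D16950) (iv D16358) (iv F63725) D16688
theorem F67986 : act 7 n17275 = n16713 := d31_2 (iv F65924) D17275 (iv D16713)
def n17276 : Q := act 3 n16689
theorem D17276 : act 3 n16689 = n17276 := rfl
theorem F67987 : act 0 n17276 = n17095 := d2_1 D17276 (iv D17095) (iv F65925)
theorem F67988 : act 1 n17276 = n16869 := d9_1 D17276 (iv D16869) (iv F65926)
theorem F67989 : act 5 n17276 = n16690 := d22_2 (iv F65928) D17276 (iv D16690)
theorem F67990 : act 6 n17276 = n16883 := d23_2 (iv F65929) D17276 (iv D16883)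
theorem F67991 : act 7 n17276 = n16692 := d24_2 D16689 D17276 (iv D16692) (iv D16102) (iv F63730)
theorem F67992 : act 8 n17276 = n16863 := d25_2 (iv F65930) D17276 (iv D16863)
def n17277 : Q := act 2 n16690
theorem D17277 : act 2 n16690 = n17277 := rfl
theorem F67993 : act 3 n17277 = n17277 := d15_2 D16690 D17277 (iv D17277) (iv D16690) F63733
theorem F67994 : act 7 n17277 = n16693 := d19_2 (iv F65931) D17277 (iv D16693)
def n17278 : Q := act 4 n16690
theorem D17278 : act 4 n16690 = n17278 := rfl
theorem F67995 : act 3 n17278 = n16720 := d21_1 D17278 (iv D16720) (iv D16126) (iv F63734) D16690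
theorem F67996 : act 7 n17278 = n16694 := d28_2 (iv F65931) D17278 (iv D16694)
def n17279 : Q := act 3 n16691
theorem D17279 : act 3 n16691 = n17279 := rfl
theorem F67997 : act 1 n17279 = n16854 := d9_1 D17279 (iv D16854) (iv F65932)
theorem F67998 : act 2 n17279 = n17166 := d15_1 D17279 F67532 F65499 F63751 (iv F65933)
theorem F67999 : act 6 n17279 = n16692 := d23_2 (iv F65935) D17279 (iv D16692)
theorem F68000 : act 7 n17279 = n16883 := d24_2 D16691 D17279 (iv D16883) (iv D16286) (iv F63737)
theorem F68001 : act 8 n17279 = n16847 := d25_2 (iv F65936) D17279 (iv D16847)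
def n17280 : Q := act 2 n16692
theorem D17280 : act 2 n16692 = n17280 := rfl
theorem F68002 : act 1 n17280 = n17020 := d8_1 D17280 (iv D17020) F64941 D16435 (iv F65937)
theorem F68003 : act 3 n17280 = n16696 := d15_2 D16692 D17280 (iv D16696) (iv D16106) (iv F63741)
theorem F68004 : act 5 n17280 = n16693 := d17_2 (iv F65938) D17280 (iv D16693)
theorem F68005 : act 6 n17280 = n17166 := d18_2 F67999 D17280 (iv F67998)
theorem F68006 : act 8 n17280 = n17022 := d20_2 (iv F65939) D17280 F67098
def n17281 : Q := act 4 n16692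
theorem D17281 : act 4 n16692 = n17281 := rfl
theorem F68007 : act 1 n17281 = n17037 := d10_1 D17281 (iv D17037) (iv F65937)
theorem F68008 : act 3 n17281 = n16959 := d21_1 D17281 (iv D16959) (iv D16365) (iv F63742) D16692
theorem F68009 : act 8 n17281 = n17039 := d29_2 (iv F65939) D17281 (iv D17039)
def n17282 : Q := act 1 n16693
theorem D17282 : act 1 n16693 = n17282 := rfl
theorem F68010 : act 2 n17282 = n17017 := d8_2 D16693 D17282 F67081 (iv F65920) F65919
theorem F68011 : act 3 n17282 = n16698 := d9_2 (iv F65940) D17282 (iv D16698)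
theorem F68012 : act 5 n17282 = n17020 := d11_2 F68004 D17282 (iv F68002)
theorem F68013 : act 8 n17282 = n17018 := d14_2 F66763 D17282 F67085
def n17283 : Q := act 4 n16693
theorem D17283 : act 4 n16693 = n17283 := rfl
theorem F68014 : act 2 n17283 = n16694 := d16_1 D17283 (iv D16694) D16693
theorem F68015 : act 3 n17283 = n17138 := d21_1 D17283 (iv D17138) F65398 (iv F63757) (iv F65940)
def n17284 : Q := act 5 n16694
theorem D17284 : act 5 n16694 = n17284 := rfl
theorem F68016 : act 3 n17284 = n16695 := d22_1 D17284 (iv D16695) (iv F65941)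
def n17285 : Q := act 6 n16695
theorem D17285 : act 6 n16695 = n17285 := rfl
theorem F68017 : act 2 n17285 = n17140 := d18_1 D17285 (iv D17140) (iv F65942)
theorem F68018 : act 4 n17285 = n16963 := d27_1 D17285 (iv D16963) (iv F65943)
theorem F68019 : act 7 n17285 = n16727 := d33_2 (iv F65944) D17285 (iv D16727)
def n17286 : Q := act 4 n16696
theorem D17286 : act 4 n16696 = n17286 := rfl
theorem F68020 : act 1 n17286 = n17060 := d10_1 D17286 (iv D17060) (iv F65945)
theorem F68021 : act 2 n17286 = n16697 := d16_1 D17286 (iv D16697) D16696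
theorem F68022 : act 5 n17286 = n17143 := d26_2 (iv F65946) D17286 (iv D17143) F65409 (iv F63757)
theorem F68023 : act 6 n17286 = n17188 := d27_2 (iv F65947) D17286 (iv D17188)
theorem F68024 : act 7 n17286 = n17286 := d28_2 F65948 D17286 (iv D17286)
theorem F68025 : act 8 n17286 = n17061 := d29_2 (iv F65949) D17286 (iv D17061)
def n17287 : Q := act 0 n16698
theorem D17287 : act 0 n16698 = n17287 := rfl
theorem F68026 : act 2 n17287 = n16808 := d1_2 (iv F65956) D17287 (iv D16808)
theorem F68027 : act 4 n17287 = n17144 := d3_2 (iv F65957) D17287 (iv D17144)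
theorem F68028 : act 5 n17287 = n17057 := d4_2 (iv F65958) D17287 F67199
theorem F68029 : act 7 n17287 = n17287 := d6_2 F65959 D17287 (iv D17287)
theorem F68030 : act 8 n17287 = n17056 := d7_2 (iv F65960) D17287 F67195
def n17288 : Q := act 5 n16699
theorem D17288 : act 5 n16699 = n17288 := rfl
theorem F68031 : act 1 n17288 = n16819 := d11_1 D17288 (iv D16819) (iv F65961)
theorem F68032 : act 2 n17288 = n16713 := d17_1 D17288 (iv D16713) (iv F65962)
theorem F68033 : act 3 n17288 = n16817 := d22_1 D17288 (iv D16817) (iv F65963)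
theorem F68034 : act 4 n17288 = n16704 := d26_1 D17288 (iv D16704) (iv D16112) (iv F63761) D16699
theorem F68035 : act 8 n17288 = n16733 := d32_2 (iv F65965) D17288 (iv D16733)
def n17289 : Q := act 5 n16700
theorem D17289 : act 5 n16700 = n17289 := rfl
theorem F68036 : act 0 n17289 = n16935 := d4_1 D17289 (iv D16935) (iv F65966)
theorem F68037 : act 1 n17289 = n16704 := d11_1 D17289 (iv D16704) (iv F65967)
theorem F68038 : act 2 n17289 = n16918 := d17_1 D17289 (iv D16918) (iv F65968)
theorem F68039 : act 3 n17289 = n17114 := d22_1 D17289 (iv D17114) (iv F65969)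
theorem F68040 : act 4 n17289 = n16819 := d26_1 D17289 (iv D16819) (iv D16227) (iv F63767) D16700
theorem F68041 : act 8 n17289 = n16738 := d32_2 (iv F65971) D17289 (iv D16738)
def n17290 : Q := act 2 n16701
theorem D17290 : act 2 n16701 = n17290 := rfl
theorem F68042 : act 3 n17290 = n17290 := d15_2 D16701 D17290 (iv D17290) (iv D16701) F63771
theorem F68043 : act 5 n17290 = n17096 := d17_2 (iv F65973) D17290 (iv D17096)
theorem F68044 : act 6 n17290 = n16719 := d18_2 (iv F65974) D17290 (iv D16719)
theorem F68045 : act 7 n17290 = n16702 := d19_2 (iv F65975) D17290 (iv D16702)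
def n17291 : Q := act 4 n16701
theorem D17291 : act 4 n16701 = n17291 := rfl
theorem F68046 : act 1 n17291 = n17107 := d10_1 D17291 (iv D17107) (iv F65972)
theorem F68047 : act 6 n17291 = n16720 := d27_2 (iv F65974) D17291 (iv D16720)
theorem F68048 : act 7 n17291 = n16703 := d28_2 (iv F65975) D17291 (iv D16703)
def n17292 : Q := act 1 n16702
theorem D17292 : act 1 n16702 = n17292 := rfl
theorem F68049 : act 2 n17292 = n16910 := d8_2 D16702 D17292 F66744 (iv D16527) (iv F63774)
theorem F68050 : act 3 n17292 = n16705 := d9_2 (iv F65976) D17292 (iv D16705)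
theorem F68051 : act 5 n17292 = n17098 := d11_2 (iv F65977) D17292 (iv D17098)
theorem F68052 : act 6 n17292 = n16724 := d12_2 (iv F65978) D17292 (iv D16724)
theorem F68053 : act 8 n17292 = n16746 := d14_2 (iv F65979) D17292 (iv D16746)
theorem F68054 : act 0 n17127 = n17292 := d2_3 F68050 (iv F65992) D17127
def n17293 : Q := act 4 n16702
theorem D17293 : act 4 n16702 = n17293 := rfl
theorem F68055 : act 2 n17293 = n16703 := d16_1 D17293 (iv D16703) D16702
theorem F68056 : act 3 n17293 = n16982 := d21_1 D17293 (iv D16982) F64822 (iv F63781) (iv F65976)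
theorem F68057 : act 6 n17293 = n16725 := d27_2 (iv F65978) D17293 (iv D16725)
theorem F68058 : act 8 n17293 = n16747 := d29_2 (iv F65979) D17293 (iv D16747)
def n17294 : Q := act 5 n16703
theorem D17294 : act 5 n16703 = n17294 := rfl
theorem F68059 : act 1 n17294 = n17114 := d11_1 D17294 (iv D17114) (iv F65980)
theorem F68060 : act 3 n17294 = n16704 := d22_1 D17294 (iv D16704) (iv F65981)
theorem F68061 : act 4 n17294 = n17100 := d26_1 D17294 (iv D17100) (iv D16518) (iv F63775) D16703
theorem F68062 : act 8 n17294 = n16748 := d32_2 (iv F65983) D17294 (iv D16748)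
def n17295 : Q := act 6 n16704
theorem D17295 : act 6 n16704 = n17295 := rfl
theorem F68063 : act 2 n17295 = n16984 := d18_1 D17295 (iv D16984) (iv F65984)
theorem F68064 : act 5 n17295 = n16727 := d30_1 D17295 (iv D16727) (iv D16131) (iv F63779) D16704
theorem F68065 : act 8 n17295 = n16749 := d34_2 (iv F65985) D17295 (iv D16749)
def n17296 : Q := act 5 n16706
theorem D17296 : act 5 n16706 = n17296 := rfl
theorem F68066 : act 0 n17296 = n16713 := d4_1 D17296 (iv D16713) (iv F65993)
theorem F68067 : act 3 n17296 = n17175 := d22_1 D17296 (iv D17175) (iv F65994)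
theorem F68068 : act 4 n17296 = n16973 := d26_1 D17296 (iv D16973) (iv D16377) (iv F63787) D16706
theorem F68069 : act 8 n17296 = n16758 := d32_2 (iv F65996) D17296 (iv D16758)
def n17297 : Q := act 3 n16707
theorem D17297 : act 3 n16707 = n17297 := rfl
theorem F68070 : act 0 n17297 = n17016 := d2_1 D17297 (iv D17016) (iv F65997)
theorem F68071 : act 1 n17297 = n16717 := d9_1 D17297 (iv D16717) (iv F65998)
theorem F68072 : act 5 n17297 = n16709 := d22_2 (iv F66000) D17297 (iv D16709)
theorem F68073 : act 6 n17297 = n17005 := d23_2 (iv F66001) D17297 (iv D17005)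
theorem F68074 : act 7 n17297 = n16710 := d24_2 D16707 D17297 (iv D16710) (iv D16118) (iv F63793)
def n17298 : Q := act 3 n16708
theorem D17298 : act 3 n16708 = n17298 := rfl
theorem F68075 : act 0 n17298 = n16994 := d2_1 D17298 (iv D16994) (iv F66002)
theorem F68076 : act 1 n17298 = n16718 := d9_1 D17298 (iv D16718) (iv F66003)
theorem F68077 : act 6 n17298 = n17105 := d23_2 (iv F66006) D17298 (iv D17105)
theorem F68078 : act 7 n17298 = n16763 := d24_2 D16708 D17298 (iv D16763) (iv D16163) (iv F63799)
theorem F68079 : act 8 n17298 = n16709 := d25_2 (iv F66007) D17298 (iv D16709)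
def n17299 : Q := act 2 n16709
theorem D17299 : act 2 n16709 = n17299 := rfl
theorem F68080 : act 0 n17299 = n17159 := d1_1 D17299 (iv D17159) (iv F66008)
theorem F68081 : act 3 n17299 = n16821 := d15_2 D16709 D17299 F66420 (iv D16534) (iv F63804)
theorem F68082 : act 6 n17299 = n17106 := d18_2 (iv F66010) D17299 (iv D17106)
theorem F68083 : act 7 n17299 = n16711 := d19_2 (iv F66011) D17299 (iv D16711)
theorem F68084 : act 1 n16911 = n17299 := d13_3 F68083 (iv F66021) D16911
def n17300 : Q := act 4 n16709
theorem D17300 : act 4 n16709 = n17300 := rfl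
theorem F68085 : act 0 n17300 = n17160 := d3_1 D17300 (iv D17160) (iv F66008)
theorem F68086 : act 1 n17300 = n16720 := d10_1 D17300 (iv D16720) (iv F66009)
theorem F68087 : act 6 n17300 = n17107 := d27_2 (iv F66010) D17300 (iv D17107)
theorem F68088 : act 7 n17300 = n16712 := d28_2 (iv F66011) D17300 (iv D16712)
def n17301 : Q := act 4 n16710
theorem D17301 : act 4 n16710 = n17301 := rfl
theorem F68089 : act 0 n17301 = n17025 := d3_1 D17301 (iv D17025) (iv F66012)
theorem F68090 : act 1 n17301 = n16723 := d10_1 D17301 (iv D16723) (iv F66013)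
theorem F68091 : act 3 n17301 = n16981 := d21_1 D17301 (iv D16981) (iv D16383) (iv F63809) D16710
theorem F68092 : act 6 n17301 = n17010 := d27_2 (iv F66015) D17301 (iv D17010)
theorem F68093 : act 8 n17301 = n16768 := d29_2 (iv F66016) D17301 (iv D16768)
def n17302 : Q := act 4 n16711
theorem D17302 : act 4 n16711 = n17302 := rfl
theorem F68094 : act 0 n17302 = n17174 := d3_1 D17302 (iv D17174) (iv F66017)
theorem F68095 : act 1 n17302 = n16890 := d10_1 D17302 F66676 F66021
theorem F68096 : act 2 n17302 = n16712 := d16_1 D17302 (iv D16712) D16711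
theorem F68097 : act 3 n17302 = n16816 := d21_1 D17302 (iv D16816) F64232 (iv F64125) (iv F66018)
theorem F68098 : act 6 n17302 = n17113 := d27_2 (iv F66019) D17302 (iv D17113)
theorem F68099 : act 8 n17302 = n16770 := d29_2 (iv F66020) D17302 (iv D16770)
def n17303 : Q := act 5 n16712
theorem D17303 : act 5 n16712 = n17303 := rfl
theorem F68100 : act 0 n17303 = n17175 := d4_1 D17303 (iv D17175) (iv F66022)
theorem F68101 : act 1 n17303 = n16726 := d11_1 D17303 (iv D16726) (iv F66023)
theorem F68102 : act 3 n17303 = n16713 := d22_1 D17303 (iv D16713) (iv F66024)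
theorem F68103 : act 8 n17303 = n16771 := d32_2 (iv F66026) D17303 (iv D16771)
def n17304 : Q := act 6 n16713
theorem D17304 : act 6 n16713 = n17304 := rfl
theorem F68104 : act 1 n17304 = n16727 := d12_1 D17304 (iv D16727) (iv F66027)
theorem F68105 : act 4 n17304 = n16984 := d27_1 D17304 (iv D16984) (iv F66028)
theorem F68106 : act 8 n17304 = n16772 := d34_2 (iv F66029) D17304 (iv D16772)
def n17305 : Q := act 3 n16714
theorem D17305 : act 3 n16714 = n17305 := rfl
theorem F68107 : act 7 n17305 = n16985 := d24_2 D16714 D17305 (iv D16985) (iv D16387) (iv F63820)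
def n17306 : Q := act 3 n16715
theorem D17306 : act 3 n16715 = n17306 := rfl
theorem F68108 : act 0 n17306 = n16882 := d2_1 D17306 (iv D16882) (iv F66032)
theorem F68109 : act 1 n17306 = n17005 := d9_1 D17306 (iv D17005) (iv F66033)
theorem F68110 : act 5 n17306 = n16875 := d22_2 (iv F66035) D17306 (iv D16875)
theorem F68111 : act 6 n17306 = n16717 := d23_2 (iv F66036) D17306 (iv D16717)
theorem F68112 : act 7 n17306 = n16721 := d24_2 D16715 D17306 (iv D16721) (iv D16127) (iv F63825)
theorem F68113 : act 8 n17306 = n17305 := d25_2 (iv F66037) D17306 (iv D17305)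
def n17307 : Q := act 3 n16716
theorem D17307 : act 3 n16716 = n17307 := rfl
theorem F68114 : act 5 n17307 = n16718 := d22_2 (iv F66040) D17307 (iv D16718)
theorem F68115 : act 6 n17307 = n17305 := d23_2 (iv F66041) D17307 (iv D17305)
theorem F68116 : act 7 n17307 = n16775 := d24_2 D16716 D17307 (iv D16775) (iv D16172) (iv F63829)
theorem F68117 : act 8 n17307 = n16717 := d25_2 (iv F66042) D17307 (iv D16717)
def n17308 : Q := act 2 n16717
theorem D17308 : act 2 n16717 = n17308 := rfl
theorem F68118 : act 3 n17308 = n17308 := d15_2 D16717 D17308 (iv D17308) (iv D16717) F63833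
theorem F68119 : act 5 n17308 = n16719 := d17_2 (iv F66043) D17308 (iv D16719)
theorem F68120 : act 7 n17308 = n16722 := d19_2 (iv F66044) D17308 (iv D16722)
def n17309 : Q := act 4 n16717
theorem D17309 : act 4 n16717 = n17309 := rfl
theorem F68121 : act 7 n17309 = n16723 := d28_2 (iv F66044) D17309 (iv D16723)
def n17310 : Q := act 2 n16718
theorem D17310 : act 2 n16718 = n17310 := rfl
theorem F68122 : act 3 n17310 = n17310 := d15_2 D16718 D17310 (iv D17310) (iv D16718) F63835
theorem F68123 : act 7 n17310 = n16778 := d19_2 (iv F66045) D17310 (iv D16778)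
theorem F68124 : act 8 n17310 = n16719 := d20_2 (iv F66046) D17310 (iv D16719)
def n17311 : Q := act 4 n16718
theorem D17311 : act 4 n16718 = n17311 := rfl
theorem F68125 : act 7 n17311 = n16779 := d28_2 (iv F66045) D17311 (iv D16779)
theorem F68126 : act 8 n17311 = n16720 := d29_2 (iv F66046) D17311 (iv D16720)
def n17312 : Q := act 1 n16719
theorem D17312 : act 1 n16719 = n17312 := rfl
theorem F68127 : act 2 n17312 = n16911 := d8_2 D16719 D17312 F68084 (iv D17299) F66009
theorem F68128 : act 3 n17312 = n17312 := d9_2 F66047 D17312 (iv D17312)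
theorem F68129 : act 7 n17312 = n16724 := d13_2 (iv F66048) D17312 (iv D16724)
def n17313 : Q := act 4 n16719
theorem D17313 : act 4 n16719 = n17313 := rfl
theorem F68130 : act 2 n17313 = n16720 := d16_1 D17313 (iv D16720) D16719
theorem F68131 : act 7 n17313 = n16725 := d28_2 (iv F66048) D17313 (iv D16725)
def n17314 : Q := act 5 n16720
theorem D17314 : act 5 n16720 = n17314 := rfl
theorem F68132 : act 7 n17314 = n16726 := d31_2 (iv F66049) D17314 (iv D16726)
def n17315 : Q := act 4 n16721
theorem D17315 : act 4 n16721 = n17315 := rfl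
theorem F68133 : act 0 n17315 = n16887 := d3_1 D17315 (iv D16887) (iv F66050)
theorem F68134 : act 1 n17315 = n17010 := d10_1 D17315 (iv D17010) (iv F66051)
theorem F68135 : act 3 n17315 = n16991 := d21_1 D17315 (iv D16991) (iv D16393) (iv F63841) D16721
theorem F68136 : act 6 n17315 = n16723 := d27_2 (iv F66053) D17315 (iv D16723)
theorem F68137 : act 8 n17315 = n16783 := d29_2 (iv F66054) D17315 (iv D16783)
def n17316 : Q := act 1 n16722
theorem D17316 : act 1 n16722 = n17316 := rfl
theorem F68138 : act 0 n17316 = n16769 := d0_1 D17316 (iv D16769) (iv F66197) (iv F67754) F67753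
theorem F68139 : act 2 n17316 = n16787 := d8_2 D16722 D17316 (iv F67918) F67919 F66013
theorem F68140 : act 3 n17316 = n16728 := d9_2 (iv F66055) D17316 (iv D16728)
theorem F68141 : act 5 n17316 = n16724 := d11_2 (iv F66056) D17316 (iv D16724)
theorem F68142 : act 6 n17316 = n17126 := d12_2 F67942 D17316 (iv F67939)
theorem F68143 : act 8 n17316 = n16784 := d14_2 (iv F66057) D17316 (iv D16784)
def n17317 : Q := act 4 n16722
theorem D17317 : act 4 n16722 = n17317 := rfl
theorem F68144 : act 2 n17317 = n16723 := d16_1 D17317 (iv D16723) D16722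
theorem F68145 : act 8 n17317 = n16785 := d29_2 (iv F66057) D17317 (iv D16785)
def n17318 : Q := act 5 n16723
theorem D17318 : act 5 n16723 = n17318 := rfl
theorem F68146 : act 3 n17318 = n16992 := d22_1 D17318 (iv D16992) (iv F66058)
theorem F68147 : act 4 n17318 = n16726 := d26_1 D17318 (iv D16726) (iv D16130) (iv F63845) D16723
theorem F68148 : act 8 n17318 = n16786 := d32_2 (iv F66059) D17318 (iv D16786)
def n17319 : Q := act 0 n16724
theorem D17319 : act 0 n16724 = n17319 := rfl
theorem F68149 : act 1 n17319 = n16767 := d0_2 D16724 D17319 F67769 (iv D17225) F65674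
theorem F68150 : act 2 n17319 = n16784 := d1_2 (iv F66060) D17319 F66268
theorem F68151 : act 3 n17319 = n16729 := d2_2 (iv F66061) D17319 (iv D16729)
theorem F68152 : act 5 n17319 = n16769 := d4_2 F68141 D17319 (iv F68138)
theorem F68153 : act 6 n17319 = n17127 := d5_2 F68052 D17319 F68054
theorem F68154 : act 8 n17319 = n16787 := d7_2 (iv F66062) D17319 (iv D16787)
def n17320 : Q := act 4 n16724
theorem D17320 : act 4 n16724 = n17320 := rfl
theorem F68155 : act 1 n17320 = n16725 := d10_1 D17320 (iv D16725) D16724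
theorem F68156 : act 2 n17320 = n16890 := d16_1 D17320 F66676 (iv F66060)
theorem F68157 : act 3 n17320 = n16888 := d21_1 D17320 (iv D16888) F64483 (iv F63858) (iv F66061)
theorem F68158 : act 8 n17320 = n16788 := d29_2 (iv F66062) D17320 (iv D16788)
def n17321 : Q := act 5 n16725
theorem D17321 : act 5 n16725 = n17321 := rfl
theorem F68159 : act 2 n17321 = n16726 := d17_1 D17321 (iv D16726) (iv F66063)
theorem F68160 : act 3 n17321 = n17155 := d22_1 D17321 (iv D17155) (iv F66064)
theorem F68161 : act 8 n17321 = n16789 := d32_2 (iv F66065) D17321 (iv D16789)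
def n17322 : Q := act 6 n16726
theorem D17322 : act 6 n16726 = n17322 := rfl
theorem F68162 : act 3 n17322 = n16727 := d23_1 D17322 (iv D16727) (iv F66066)
theorem F68163 : act 8 n17322 = n16790 := d34_2 (iv F66067) D17322 (iv D16790)
def n17323 : Q := act 2 n16730
theorem D17323 : act 2 n16730 = n17323 := rfl
theorem F68164 : act 1 n17323 = n16830 := d8_1 D17323 (iv D16830) F64303 (iv F64207) (iv F66085)
theorem F68165 : act 3 n17323 = n17323 := d15_2 D16730 D17323 (iv D17323) (iv D16730) F63862
theorem F68166 : act 5 n17323 = n17076 := d17_2 (iv F66086) D17323 (iv D17076)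
theorem F68167 : act 6 n17323 = n16923 := d18_2 (iv F66087) D17323 (iv D16923)
theorem F68168 : act 7 n17323 = n16731 := d19_2 (iv F66088) D17323 (iv D16731)
theorem F68169 : act 8 n17323 = n17196 := d20_2 (iv F66089) D17323 (iv D17196)
def n17324 : Q := act 4 n16730
theorem D17324 : act 4 n16730 = n17324 := rfl
theorem F68170 : act 1 n17324 = n16809 := d10_1 D17324 (iv D16809) (iv F66085)
theorem F68171 : act 6 n17324 = n16924 := d27_2 (iv F66087) D17324 (iv D16924)
theorem F68172 : act 7 n17324 = n16732 := d28_2 (iv F66088) D17324 (iv D16732)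
theorem F68173 : act 8 n17324 = n17197 := d29_2 (iv F66089) D17324 (iv D17197)
def n17325 : Q := act 4 n16731
theorem D17325 : act 4 n16731 = n17325 := rfl
theorem F68174 : act 1 n17325 = n16849 := d10_1 D17325 (iv D16849) (iv F66090)
theorem F68175 : act 2 n17325 = n16732 := d16_1 D17325 (iv D16732) D16731
theorem F68176 : act 3 n17325 = n16770 := d21_1 D17325 (iv D16770) F64003 (iv F63874) (iv F66091)
theorem F68177 : act 6 n17325 = n16927 := d27_2 (iv F66093) D17325 (iv D16927)
theorem F68178 : act 8 n17325 = n16816 := d29_2 (iv F66094) D17325 (iv D16816)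
def n17326 : Q := act 5 n16732
theorem D17326 : act 5 n16732 = n17326 := rfl
theorem F68179 : act 1 n17326 = n16810 := d11_1 D17326 (iv D16810) (iv F66095)
theorem F68180 : act 3 n17326 = n16733 := d22_1 D17326 (iv D16733) (iv F66096)
theorem F68181 : act 4 n17326 = n17087 := d26_1 D17326 (iv D17087) (iv D16508) (iv F63867) D16732
theorem F68182 : act 8 n17326 = n16817 := d32_2 (iv F66098) D17326 (iv D16817)
def n17327 : Q := act 6 n16733
theorem D17327 : act 6 n16733 = n17327 := rfl
theorem F68183 : act 1 n17327 = n16920 := d12_1 D17327 (iv D16920) (iv F66099)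
theorem F68184 : act 2 n17327 = n16772 := d18_1 D17327 (iv D16772) (iv F66100)
theorem F68185 : act 4 n17327 = n16749 := d27_1 D17327 (iv D16749) (iv F66101)
theorem F68186 : act 5 n17327 = n16929 := d30_1 D17327 (iv D16929) (iv D16336) (iv F63872) D16733
def n17328 : Q := act 5 n16734
theorem D17328 : act 5 n16734 = n17328 := rfl
theorem F68187 : act 0 n17328 = n16738 := d4_1 D17328 (iv D16738) (iv F66102)
theorem F68188 : act 2 n17328 = n16862 := d17_1 D17328 (iv D16862) (iv F66103)
theorem F68189 : act 3 n17328 = n17154 := d22_1 D17328 (iv D17154) (iv F66104)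
theorem F68190 : act 4 n17328 = n16813 := d26_1 D17328 (iv D16813) (iv D16222) (iv F63881) D16734
theorem F68191 : act 7 n17328 = n17232 := d31_2 (iv F66106) D17328 (iv D17232)
theorem F68192 : act 8 n17328 = n16935 := d32_2 (iv F66107) D17328 (iv D16935)
def n17329 : Q := act 2 n16735
theorem D17329 : act 2 n16735 = n17329 := rfl
theorem F68193 : act 0 n17329 = n17147 := d1_1 D17329 (iv D17147) (iv F66108)
theorem F68194 : act 3 n17329 = n17329 := d15_2 D16735 D17329 (iv D17329) (iv D16735) F63887
theorem F68195 : act 5 n17329 = n17089 := d17_2 (iv F66110) D17329 (iv D17089)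
theorem F68196 : act 6 n17329 = n16764 := d18_2 (iv F66111) D17329 (iv D16764)
theorem F68197 : act 7 n17329 = n16736 := d19_2 (iv F66112) D17329 (iv D16736)
def n17330 : Q := act 4 n16735
theorem D17330 : act 4 n16735 = n17330 := rfl
theorem F68198 : act 0 n17330 = n17148 := d3_1 D17330 (iv D17148) (iv F66108)
theorem F68199 : act 1 n17330 = n16742 := d10_1 D17330 (iv D16742) (iv F66109)
theorem F68200 : act 3 n17330 = n17324 := d21_1 D17330 (iv D17324) (iv D16730) (iv F63888) D16735
theorem F68201 : act 6 n17330 = n16765 := d27_2 (iv F66111) D17330 (iv D16765)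
theorem F68202 : act 7 n17330 = n16737 := d28_2 (iv F66112) D17330 (iv D16737)
def n17331 : Q := act 1 n16736
theorem D17331 : act 1 n16736 = n17331 := rfl
theorem F68203 : act 0 n17331 = n17126 := d0_1 D17331 (iv F67939) F67938 F66666 (iv F66113)
theorem F68204 : act 2 n17331 = n16746 := d8_2 D16736 D17331 (iv D16746) (iv D16147) (iv F63892)
theorem F68205 : act 3 n17331 = n16805 := d9_2 (iv F66114) D17331 (iv D16805)
theorem F68206 : act 5 n17331 = n17091 := d11_2 (iv F66115) D17331 (iv D17091)
theorem F68207 : act 6 n17331 = n16769 := d12_2 (iv F66116) D17331 (iv D16769)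
theorem F68208 : act 8 n17331 = n16910 := d14_2 (iv F66117) D17331 F66744
def n17332 : Q := act 4 n16736
theorem D17332 : act 4 n16736 = n17332 := rfl
theorem F68209 : act 0 n17332 = n17153 := d3_1 D17332 (iv D17153) (iv F66113)
theorem F68210 : act 2 n17332 = n16737 := d16_1 D17332 (iv D16737) D16736
theorem F68211 : act 3 n17332 = n16927 := d21_1 D17332 (iv D16927) F64653 (iv F64144) (iv F66114)
theorem F68212 : act 6 n17332 = n16770 := d27_2 (iv F66116) D17332 (iv D16770)
theorem F68213 : act 8 n17332 = n17113 := d29_2 (iv F66117) D17332 (iv D17113)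
def n17333 : Q := act 5 n16737
theorem D17333 : act 5 n16737 = n17333 := rfl
theorem F68214 : act 0 n17333 = n17154 := d4_1 D17333 (iv D17154) (iv F66118)
theorem F68215 : act 1 n17333 = n16748 := d11_1 D17333 (iv D16748) (iv F66119)
theorem F68216 : act 3 n17333 = n16738 := d22_1 D17333 (iv D16738) (iv F66120)
theorem F68217 : act 4 n17333 = n17093 := d26_1 D17333 (iv D17093) (iv D16512) (iv F63893) D16737
theorem F68218 : act 8 n17333 = n17114 := d32_2 (iv F66122) D17333 (iv D17114)
def n17334 : Q := act 6 n16738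
theorem D17334 : act 6 n16738 = n17334 := rfl
theorem F68219 : act 1 n17334 = n16749 := d12_1 D17334 (iv D16749) (iv F66123)
theorem F68220 : act 2 n17334 = n16929 := d18_1 D17334 (iv D16929) (iv F66124)
theorem F68221 : act 4 n17334 = n16920 := d27_1 D17334 (iv D16920) (iv F66125)
theorem F68222 : act 5 n17334 = n16772 := d30_1 D17334 (iv D16772) (iv D16169) (iv F63898) D16738
theorem F68223 : act 7 n17334 = n17327 := d33_2 (iv F66126) D17334 (iv D17327)
def n17335 : Q := act 3 n16739
theorem D17335 : act 3 n16739 = n17335 := rfl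
theorem F68224 : act 0 n17335 = n16847 := d2_1 D17335 (iv D16847) (iv F66127)
theorem F68225 : act 1 n17335 = n16970 := d9_1 D17335 (iv D16970) (iv F66128)
theorem F68226 : act 2 n17335 = n17169 := d15_1 D17335 F67538 F65506 (iv F64043) (iv F66129)
theorem F68227 : act 5 n17335 = n16774 := d22_2 (iv F66130) D17335 (iv D16774)
theorem F68228 : act 6 n17335 = n16740 := d23_2 (iv F66131) D17335 (iv D16740)
theorem F68229 : act 7 n17335 = n16743 := d24_2 D16739 D17335 (iv D16743) (iv D16145) (iv F63903)
def n17336 : Q := act 2 n16740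
theorem D17336 : act 2 n16740 = n17336 := rfl
theorem F68230 : act 0 n17336 = n17022 := d1_1 D17336 F67098 (iv F66132)
theorem F68231 : act 3 n17336 = n16791 := d15_2 D16740 D17336 (iv D16791) (iv D16187) (iv F63908)
theorem F68232 : act 5 n17336 = n16741 := d17_2 (iv F66134) D17336 (iv D16741)
theorem F68233 : act 6 n17336 = n17169 := d18_2 F68228 D17336 (iv F68226)
theorem F68234 : act 7 n17336 = n16744 := d19_2 (iv F66135) D17336 (iv D16744)
def n17337 : Q := act 4 n16740
theorem D17337 : act 4 n16740 = n17337 := rfl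
theorem F68235 : act 0 n17337 = n17039 := d3_1 D17337 (iv D17039) (iv F66132)
theorem F68236 : act 1 n17337 = n17090 := d10_1 D17337 (iv D17090) (iv F66133)
theorem F68237 : act 7 n17337 = n16745 := d28_2 (iv F66135) D17337 (iv D16745)
def n17338 : Q := act 1 n16741
theorem D17338 : act 1 n16741 = n17338 := rfl
theorem F68238 : act 3 n17338 = n16793 := d9_2 (iv F66136) D17338 (iv D16793)
theorem F68239 : act 6 n17338 = n16780 := d12_2 (iv F66137) D17338 (iv D16780)
theorem F68240 : act 7 n17338 = n16746 := d13_2 (iv F66138) D17338 (iv D16746)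
def n17339 : Q := act 4 n16741
theorem D17339 : act 4 n16741 = n17339 := rfl
theorem F68241 : act 2 n17339 = n16742 := d16_1 D17339 (iv D16742) D16741
theorem F68242 : act 6 n17339 = n16781 := d27_2 (iv F66137) D17339 (iv D16781)
theorem F68243 : act 7 n17339 = n16747 := d28_2 (iv F66138) D17339 (iv D16747)
def n17340 : Q := act 5 n16742
theorem D17340 : act 5 n16742 = n17340 := rfl
theorem F68244 : act 7 n17340 = n16748 := d31_2 (iv F66140) D17340 (iv D16748)
def n17341 : Q := act 4 n16743
theorem D17341 : act 4 n16743 = n17341 := rfl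
theorem F68245 : act 0 n17341 = n16848 := d3_1 D17341 (iv D16848) (iv F66141)
theorem F68246 : act 1 n17341 = n16972 := d10_1 D17341 (iv D16972) (iv F66142)
theorem F68247 : act 2 n17341 = n17180 := d16_1 D17341 (iv D17180) (iv F66143)
theorem F68248 : act 3 n17341 = n16846 := d21_1 D17341 (iv D16846) (iv D16251) (iv F63915) D16743
theorem F68249 : act 6 n17341 = n16745 := d27_2 (iv F66145) D17341 (iv D16745)
theorem F68250 : act 8 n17341 = n16877 := d29_2 (iv F66146) D17341 (iv D16877)
def n17342 : Q := act 1 n16744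
theorem D17342 : act 1 n16744 = n17342 := rfl
theorem F68251 : act 0 n17342 = n17011 := d0_1 D17342 (iv D17011) F64915 D16426 (iv F66147)
theorem F68252 : act 2 n17342 = n17091 := d8_2 D16744 D17342 (iv D17091) (iv D16511) (iv F63920)
theorem F68253 : act 3 n17342 = n16750 := d9_2 (iv F66148) D17342 (iv D16750)
theorem F68254 : act 5 n17342 = n16746 := d11_2 (iv F66149) D17342 (iv D16746)
theorem F68255 : act 6 n17342 = n17115 := d12_2 (iv F66150) D17342 F67387
theorem F68256 : act 8 n17342 = n17098 := d14_2 (iv F66151) D17342 (iv D17098)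
def n17343 : Q := act 4 n16744
theorem D17343 : act 4 n16744 = n17343 := rfl
theorem F68257 : act 0 n17343 = n17028 := d3_1 D17343 (iv D17028) (iv F66147)
theorem F68258 : act 2 n17343 = n16745 := d16_1 D17343 (iv D16745) D16744
theorem F68259 : act 6 n17343 = n17180 := d27_2 (iv F66150) D17343 (iv D17180)
theorem F68260 : act 8 n17343 = n17099 := d29_2 (iv F66151) D17343 (iv D17099)
def n17344 : Q := act 5 n16745
theorem D17344 : act 5 n16745 = n17344 := rfl
theorem F68261 : act 0 n17344 = n17046 := d4_1 D17344 (iv D17046) (iv F66152)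
theorem F68262 : act 1 n17344 = n17093 := d11_1 D17344 (iv D17093) (iv F66153)
theorem F68263 : act 3 n17344 = n17087 := d22_1 D17344 (iv D17087) (iv F66154)
theorem F68264 : act 4 n17344 = n16748 := d26_1 D17344 (iv D16748) (iv D16148) (iv F63921) D16745
theorem F68265 : act 8 n17344 = n17100 := d32_2 (iv F66155) D17344 (iv D17100)
def n17345 : Q := act 0 n16746
theorem D17345 : act 0 n16746 = n17345 := rfl
theorem F68266 : act 1 n17345 = n17009 := d0_2 D16746 D17345 F67060 (iv F65733) F65732
theorem F68267 : act 2 n17345 = n17126 := d1_2 F68204 D17345 (iv F68203)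
theorem F68268 : act 3 n17345 = n16751 := d2_2 (iv F66156) D17345 F66171
theorem F68269 : act 5 n17345 = n17011 := d4_2 F68254 D17345 (iv F68251)
theorem F68270 : act 6 n17345 = n16787 := d5_2 (iv F66157) D17345 (iv D16787)
theorem F68271 : act 8 n17345 = n17127 := d7_2 F68053 D17345 F68054
def n17346 : Q := act 4 n16746
theorem D17346 : act 4 n16746 = n17346 := rfl
theorem F68272 : act 1 n17346 = n16747 := d10_1 D17346 (iv D16747) D16746
theorem F68273 : act 3 n17346 = n17028 := d21_1 D17346 (iv D17028) F64958 (iv F63941) (iv F66156)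
theorem F68274 : act 6 n17346 = n16788 := d27_2 (iv F66157) D17346 (iv D16788)
def n17347 : Q := act 5 n16747
theorem D17347 : act 5 n16747 = n17347 := rfl
theorem F68275 : act 2 n17347 = n16748 := d17_1 D17347 (iv D16748) (iv F66158)
theorem F68276 : act 3 n17347 = n17029 := d22_1 D17347 (iv D17029) (iv F66159)
def n17348 : Q := act 6 n16748
theorem D17348 : act 6 n16748 = n17348 := rfl
theorem F68277 : act 3 n17348 = n16749 := d23_1 D17348 (iv D16749) (iv F66161)
theorem F68278 : act 5 n17348 = n16790 := d30_1 D17348 (iv D16790) (iv D16182) (iv F63926) D16748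
def n17349 : Q := act 3 n16752
theorem D17349 : act 3 n16752 = n17349 := rfl
theorem F68279 : act 0 n17349 = n16762 := d2_1 D17349 (iv D16762) (iv F66178)
theorem F68280 : act 1 n17349 = n16986 := d9_1 D17349 (iv D16986) (iv F66179)
theorem F68281 : act 5 n17349 = n16754 := d22_2 (iv F66181) D17349 (iv D16754)
theorem F68282 : act 6 n17349 = n16976 := d23_2 (iv F66182) D17349 (iv D16976)
theorem F68283 : act 7 n17349 = n16755 := d24_2 D16752 D17349 (iv D16755) (iv D16156) (iv F63947)
def n17350 : Q := act 3 n16753
theorem D17350 : act 3 n16753 = n17350 := rfl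
theorem F68284 : act 0 n17350 = n16763 := d2_1 D17350 (iv D16763) (iv F66183)
theorem F68285 : act 1 n17350 = n16930 := d9_1 D17350 (iv D16930) (iv F66184)
theorem F68286 : act 6 n17350 = n17146 := d23_2 (iv F66187) D17350 (iv D17146)
theorem F68287 : act 7 n17350 = n16994 := d24_2 D16753 D17350 (iv D16994) (iv D16397) (iv F63953)
theorem F68288 : act 8 n17350 = n16754 := d25_2 (iv F66188) D17350 (iv D16754)
def n17351 : Q := act 2 n16754
theorem D17351 : act 2 n16754 = n17351 := rfl
theorem F68289 : act 0 n17351 = n16764 := d1_1 D17351 (iv D16764) (iv F66189)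
theorem F68290 : act 3 n17351 = n17351 := d15_2 D16754 D17351 (iv D17351) (iv D16754) F63957
theorem F68291 : act 6 n17351 = n17147 := d18_2 (iv F66190) D17351 (iv D17147)
theorem F68292 : act 7 n17351 = n16756 := d19_2 (iv F66191) D17351 (iv D16756)
def n17352 : Q := act 4 n16754
theorem D17352 : act 4 n16754 = n17352 := rfl
theorem F68293 : act 0 n17352 = n16765 := d3_1 D17352 (iv D16765) (iv F66189)
theorem F68294 : act 6 n17352 = n17148 := d27_2 (iv F66190) D17352 (iv D17148)
theorem F68295 : act 7 n17352 = n16757 := d28_2 (iv F66191) D17352 (iv D16757)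
def n17353 : Q := act 4 n16755
theorem D17353 : act 4 n16755 = n17353 := rfl
theorem F68296 : act 0 n17353 = n16768 := d3_1 D17353 (iv D16768) (iv F66192)
theorem F68297 : act 1 n17353 = n16991 := d10_1 D17353 (iv D16991) (iv F66193)
theorem F68298 : act 3 n17353 = n17010 := d21_1 D17353 (iv D17010) (iv D16412) (iv F63962) D16755
theorem F68299 : act 6 n17353 = n16981 := d27_2 (iv F66195) D17353 (iv D16981)
theorem F68300 : act 8 n17353 = n17025 := d29_2 (iv F66196) D17353 (iv D17025)
def n17354 : Q := act 4 n16756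
theorem D17354 : act 4 n16756 = n17354 := rfl
theorem F68301 : act 0 n17354 = n16770 := d3_1 D17354 (iv D16770) (iv F66197)
theorem F68302 : act 2 n17354 = n16757 := d16_1 D17354 (iv D16757) D16756
theorem F68303 : act 6 n17354 = n17153 := d27_2 (iv F66199) D17354 (iv D17153)
theorem F68304 : act 8 n17354 = n17174 := d29_2 (iv F66200) D17354 (iv D17174)
def n17355 : Q := act 5 n16757
theorem D17355 : act 5 n16757 = n17355 := rfl
theorem F68305 : act 0 n17355 = n16771 := d4_1 D17355 (iv D16771) (iv F66201)
theorem F68306 : act 3 n17355 = n16758 := d22_1 D17355 (iv D16758) (iv F66202)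
theorem F68307 : act 8 n17355 = n17175 := d32_2 (iv F66204) D17355 (iv D17175)
def n17356 : Q := act 6 n16758
theorem D17356 : act 6 n16758 = n17356 := rfl
theorem F68308 : act 0 n17356 = n16772 := d5_1 D17356 (iv D16772) (iv F66205)
theorem F68309 : act 4 n17356 = n17014 := d27_1 D17356 (iv D17014) (iv F66206)
def n17357 : Q := act 3 n16759
theorem D17357 : act 3 n16759 = n17357 := rfl
theorem F68310 : act 1 n17357 = n16773 := d9_1 D17357 (iv D16773) (iv F66207)
theorem F68311 : act 5 n17357 = n17350 := d22_2 (iv F66210) D17357 (iv D17350)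
theorem F68312 : act 7 n17357 = n17015 := d24_2 D16759 D17357 (iv D17015) (iv D16416) (iv F63972)
theorem F68313 : act 8 n17357 = n17349 := d25_2 (iv F66211) D17357 (iv D17349)
def n17358 : Q := act 3 n16760
theorem D17358 : act 3 n16760 = n17358 := rfl
theorem F68314 : act 0 n17358 = n16976 := d2_1 D17358 (iv D16976) (iv F66212)
theorem F68315 : act 1 n17358 = n16774 := d9_1 D17358 (iv D16774) (iv F66213)
theorem F68316 : act 5 n17358 = n16970 := d22_2 (iv F66215) D17358 (iv D16970)
theorem F68317 : act 6 n17358 = n16762 := d23_2 (iv F66216) D17358 (iv D16762)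
theorem F68318 : act 7 n17358 = n16766 := d24_2 D16760 D17358 (iv D16766) (iv D16165) (iv F63978)
def n17359 : Q := act 3 n16761
theorem D17359 : act 3 n16761 = n17359 := rfl
theorem F68319 : act 0 n17359 = n17357 := d2_1 D17359 (iv D17357) (iv F66217)
theorem F68320 : act 1 n17359 = n16775 := d9_1 D17359 (iv D16775) (iv F66218)
theorem F68321 : act 5 n17359 = n16763 := d22_2 (iv F66221) D17359 (iv D16763)
theorem F68322 : act 8 n17359 = n16762 := d25_2 (iv F66222) D17359 (iv D16762)
def n17360 : Q := act 2 n16762
theorem D17360 : act 2 n16762 = n17360 := rfl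
theorem F68323 : act 3 n17360 = n17360 := d15_2 D16762 D17360 (iv D17360) (iv D16762) F63987
theorem F68324 : act 5 n17360 = n16764 := d17_2 (iv F66224) D17360 (iv D16764)
theorem F68325 : act 7 n17360 = n16767 := d19_2 (iv F66225) D17360 (iv D16767)
def n17361 : Q := act 4 n16762
theorem D17361 : act 4 n16762 = n17361 := rfl
theorem F68326 : act 1 n17361 = n16777 := d10_1 D17361 (iv D16777) (iv F66223)
theorem F68327 : act 7 n17361 = n16768 := d28_2 (iv F66225) D17361 (iv D16768)
def n17362 : Q := act 2 n16763
theorem D17362 : act 2 n16763 = n17362 := rfl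
theorem F68328 : act 3 n17362 = n17362 := d15_2 D16763 D17362 (iv D17362) (iv D16763) F63990
theorem F68329 : act 8 n17362 = n16764 := d20_2 (iv F66227) D17362 (iv D16764)
def n17363 : Q := act 4 n16763
theorem D17363 : act 4 n16763 = n17363 := rfl
theorem F68330 : act 1 n17363 = n16779 := d10_1 D17363 (iv D16779) (iv F66226)
theorem F68331 : act 8 n17363 = n16765 := d29_2 (iv F66227) D17363 (iv D16765)
def n17364 : Q := act 1 n16764
theorem D17364 : act 1 n16764 = n17364 := rfl
theorem F68332 : act 2 n17364 = n16780 := d8_2 D16764 D17364 (iv D16780) (iv D16175) (iv F63992)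
theorem F68333 : act 3 n17364 = n17364 := d9_2 F66228 D17364 (iv D17364)
theorem F68334 : act 7 n17364 = n16769 := d13_2 (iv F66229) D17364 (iv D16769)
def n17365 : Q := act 4 n16764
theorem D17365 : act 4 n16764 = n17365 := rfl
theorem F68335 : act 2 n17365 = n16765 := d16_1 D17365 (iv D16765) D16764
theorem F68336 : act 7 n17365 = n16770 := d28_2 (iv F66229) D17365 (iv D16770)
def n17366 : Q := act 5 n16765
theorem D17366 : act 5 n16765 = n17366 := rfl
theorem F68337 : act 1 n17366 = n16782 := d11_1 D17366 (iv D16782) (iv F66230)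
theorem F68338 : act 7 n17366 = n16771 := d31_2 (iv F66231) D17366 (iv D16771)
def n17367 : Q := act 2 n16766
theorem D17367 : act 2 n16766 = n17367 := rfl
theorem F68339 : act 0 n17367 = n16980 := d1_1 D17367 (iv D16980) (iv F66232)
theorem F68340 : act 1 n17367 = n17127 := d8_1 D17367 F67431 (iv F65877) F65878 (iv F66233)
theorem F68341 : act 3 n17367 = n16806 := d15_2 D16766 D17367 (iv D16806) (iv D16212) (iv F63996)
theorem F68342 : act 5 n17367 = n16971 := d17_2 (iv F66234) D17367 (iv D16971)
theorem F68343 : act 6 n17367 = n16767 := d18_2 (iv F66235) D17367 (iv D16767)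
theorem F68344 : act 8 n17367 = n17009 := d20_2 (iv F66236) D17367 (iv D17009)
def n17368 : Q := act 4 n16766
theorem D17368 : act 4 n16766 = n17368 := rfl
theorem F68345 : act 0 n17368 = n16981 := d3_1 D17368 (iv D16981) (iv F66232)
theorem F68346 : act 1 n17368 = n16783 := d10_1 D17368 (iv D16783) (iv F66233)
theorem F68347 : act 3 n17368 = n17025 := d21_1 D17368 (iv D17025) (iv D16423) (iv F63997) D16766
theorem F68348 : act 6 n17368 = n16768 := d27_2 (iv F66235) D17368 (iv D16768)
theorem F68349 : act 8 n17368 = n17010 := d29_2 (iv F66236) D17368 (iv D17010)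
def n17369 : Q := act 4 n16767
theorem D17369 : act 4 n16767 = n17369 := rfl
theorem F68350 : act 2 n17369 = n16768 := d16_1 D17369 (iv D16768) D16767
def n17370 : Q := act 5 n16768
theorem D17370 : act 5 n16768 = n17370 := rfl
theorem F68351 : act 1 n17370 = n16786 := d11_1 D17370 (iv D16786) (iv F66239)
theorem F68352 : act 3 n17370 = n17027 := d22_1 D17370 (iv D17027) (iv F66240)
theorem F68353 : act 4 n17370 = n16771 := d26_1 D17370 (iv D16771) (iv D16168) (iv F64002) D16768
def n17371 : Q := act 4 n16769
theorem D17371 : act 4 n16769 = n17371 := rfl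
theorem F68354 : act 1 n17371 = n16770 := d10_1 D17371 (iv D16770) D16769
theorem F68355 : act 2 n17371 = n16788 := d16_1 D17371 (iv D16788) (iv F66241)
theorem F68356 : act 3 n17371 = n16849 := d21_1 D17371 (iv D16849) F64354 (iv F64184) (iv F66242)
theorem F68357 : act 8 n17371 = n16890 := d29_2 (iv F66243) D17371 F66676
def n17372 : Q := act 5 n16770
theorem D17372 : act 5 n16770 = n17372 := rfl
theorem F68358 : act 2 n17372 = n16771 := d17_1 D17372 (iv D16771) (iv F66244)
def n17373 : Q := act 6 n16771
theorem D17373 : act 6 n16771 = n17373 := rfl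
theorem F68359 : act 1 n17373 = n16790 := d12_1 D17373 (iv D16790) (iv F66245)
theorem F68360 : act 3 n17373 = n16772 := d23_1 D17373 (iv D16772) (iv F66246)
def n17374 : Q := act 4 n16773
theorem D17374 : act 4 n16773 = n17374 := rfl
theorem F68361 : act 3 n17374 = n16777 := d21_1 D17374 (iv D16777) (iv D16173) (iv F64009) D16773
theorem F68362 : act 7 n17374 = n17032 := d28_2 (iv F66249) D17374 (iv D17032)
def n17375 : Q := act 4 n16774
theorem D17375 : act 4 n16774 = n17375 := rfl
theorem F68363 : act 6 n17375 = n16777 := d27_2 (iv F66250) D17375 (iv D16777)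
theorem F68364 : act 7 n17375 = n16783 := d28_2 (iv F66251) D17375 (iv D16783)
def n17376 : Q := act 2 n16775
theorem D17376 : act 2 n16775 = n17376 := rfl
theorem F68365 : act 3 n17376 = n16797 := d15_2 D16775 D17376 (iv D16797) (iv D16195) (iv F64012)
theorem F68366 : act 5 n17376 = n16778 := d17_2 (iv F66252) D17376 (iv D16778)
theorem F68367 : act 8 n17376 = n16776 := d20_2 (iv F66253) D17376 (iv D16776)
def n17377 : Q := act 4 n16775
theorem D17377 : act 4 n16775 = n17377 := rfl
theorem F68368 : act 8 n17377 = n16777 := d29_2 (iv F66253) D17377 (iv D16777)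
def n17378 : Q := act 1 n16776
theorem D17378 : act 1 n16776 = n17378 := rfl
theorem F68369 : act 0 n17378 = n16911 := d0_1 D17378 F68084 F68080 (iv F67579) F67578
theorem F68370 : act 3 n17378 = n16798 := d9_2 (iv F66254) D17378 (iv D16798)
theorem F68371 : act 5 n17378 = n16780 := d11_2 (iv F66255) D17378 (iv D16780)
theorem F68372 : act 6 n17378 = n17128 := d12_2 F67949 D17378 (iv F67945)
theorem F68373 : act 7 n17378 = n16784 := d13_2 (iv F66256) D17378 (iv D16784)
def n17379 : Q := act 4 n16776
theorem D17379 : act 4 n16776 = n17379 := rfl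
theorem F68374 : act 2 n17379 = n16777 := d16_1 D17379 (iv D16777) D16776
theorem F68375 : act 7 n17379 = n16785 := d28_2 (iv F66256) D17379 (iv D16785)
def n17380 : Q := act 5 n16777
theorem D17380 : act 5 n16777 = n17380 := rfl
theorem F68376 : act 4 n17380 = n16782 := d26_1 D17380 (iv D16782) (iv D16176) (iv F64015) D16777
theorem F68377 : act 7 n17380 = n16786 := d31_2 (iv F66257) D17380 (iv D16786)
def n17381 : Q := act 1 n16778
theorem D17381 : act 1 n16778 = n17381 := rfl
theorem F68378 : act 3 n17381 = n16799 := d9_2 (iv F66258) D17381 (iv D16799)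
theorem F68379 : act 8 n17381 = n16780 := d14_2 (iv F66259) D17381 (iv D16780)
def n17382 : Q := act 4 n16778
theorem D17382 : act 4 n16778 = n17382 := rfl
theorem F68380 : act 2 n17382 = n16779 := d16_1 D17382 (iv D16779) D16778
theorem F68381 : act 8 n17382 = n16781 := d29_2 (iv F66259) D17382 (iv D16781)
def n17383 : Q := act 5 n16779
theorem D17383 : act 5 n16779 = n17383 := rfl
theorem F68382 : act 8 n17383 = n16782 := d32_2 (iv F66260) D17383 (iv D16782)
def n17384 : Q := act 0 n16780
theorem D17384 : act 0 n16780 = n17384 := rfl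
theorem F68383 : act 3 n17384 = n16801 := d2_2 (iv F66261) D17384 (iv D16801)
theorem F68384 : act 5 n17384 = n16911 := d4_2 F68371 D17384 (iv F68369)
theorem F68385 : act 7 n17384 = n16787 := d6_2 (iv F66262) D17384 (iv D16787)
def n17385 : Q := act 4 n16780
theorem D17385 : act 4 n16780 = n17385 := rfl
theorem F68386 : act 1 n17385 = n16781 := d10_1 D17385 (iv D16781) D16780
theorem F68387 : act 7 n17385 = n16788 := d28_2 (iv F66262) D17385 (iv D16788)
def n17386 : Q := act 3 n16781
theorem D17386 : act 3 n16781 = n17386 := rfl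
theorem F68388 : act 4 n17386 = n16803 := d21_2 D16781 D17386 (iv D16803) (iv D16200) (iv F64018)
theorem F68389 : act 7 n17386 = n17171 := d24_2 (iv F66264) D17386 (iv D17171) F65460 (iv F64027)
def n17387 : Q := act 5 n16781
theorem D17387 : act 5 n16781 = n17387 := rfl
theorem F68390 : act 2 n17387 = n16782 := d17_1 D17387 (iv D16782) (iv F66263)
theorem F68391 : act 7 n17387 = n16789 := d31_2 (iv F66264) D17387 (iv D16789)
def n17388 : Q := act 6 n16782
theorem D17388 : act 6 n16782 = n17388 := rfl
theorem F68392 : act 7 n17388 = n16790 := d33_2 (iv F66265) D17388 (iv D16790)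
def n17389 : Q := act 5 n16783
theorem D17389 : act 5 n16783 = n17389 := rfl
theorem F68393 : act 3 n17389 = n17043 := d22_1 D17389 (iv D17043) (iv F66266)
def n17390 : Q := act 4 n16784
theorem D17390 : act 4 n16784 = n17390 := rfl
theorem F68394 : act 0 n17390 = n16890 := d3_1 D17390 F66676 (iv F66268)
theorem F68395 : act 1 n17390 = n16785 := d10_1 D17390 (iv D16785) D16784
theorem F68396 : act 3 n17390 = n16878 := d21_1 D17390 (iv D16878) F64452 (iv F64032) (iv F66269)
theorem F68397 : act 6 n17390 = n17101 := d27_2 (iv F66271) D17390 F67351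
def n17391 : Q := act 5 n16785
theorem D17391 : act 5 n16785 = n17391 := rfl
theorem F68398 : act 2 n17391 = n16786 := d17_1 D17391 (iv D16786) (iv F66272)
theorem F68399 : act 4 n17391 = n16789 := d26_1 D17391 (iv D16789) (iv D16181) (iv F64023) D16785
def n17392 : Q := act 6 n16786
theorem D17392 : act 6 n16786 = n17392 := rfl
theorem F68400 : act 3 n17392 = n17045 := d23_1 D17392 (iv D17045) (iv F66273)
theorem F68401 : act 4 n17392 = n16790 := d27_1 D17392 (iv D16790) (iv F66274)
def n17393 : Q := act 4 n16787
theorem D17393 : act 4 n16787 = n17393 := rfl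
theorem F68402 : act 0 n17393 = n16788 := d3_1 D17393 (iv D16788) D16787
theorem F68403 : act 3 n17393 = n17180 := d21_1 D17393 (iv D17180) F65470 (iv F64038) (iv F66275)
def n17394 : Q := act 5 n16788
theorem D17394 : act 5 n16788 = n17394 := rfl
theorem F68404 : act 1 n17394 = n16789 := d11_1 D17394 (iv D16789) (iv F66277)
theorem F68405 : act 3 n17394 = n17181 := d22_1 D17394 (iv D17181) (iv F66278)
def n17395 : Q := act 6 n16789
theorem D17395 : act 6 n16789 = n17395 := rfl
theorem F68406 : act 2 n17395 = n16790 := d18_1 D17395 (iv D16790) (iv F66279)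
theorem F68407 : act 3 n17395 = n17182 := d23_1 D17395 (iv D17182) (iv F66280)
def n17396 : Q := act 1 n16791
theorem D17396 : act 1 n16791 = n17396 := rfl
theorem F68408 : act 0 n17396 = n17058 := d0_1 D17396 (iv D17058) F65093 D16477 (iv F66282)
theorem F68409 : act 2 n17396 = n17396 := d8_2 D16791 D17396 (iv D17396) (iv D16791) F64047
theorem F68410 : act 5 n17396 = n16793 := d11_2 (iv F66283) D17396 (iv D16793)
theorem F68411 : act 6 n17396 = n17122 := d12_2 (iv F66284) D17396 F67409
theorem F68412 : act 7 n17396 = n16794 := d13_2 (iv F66285) D17396 (iv D16794)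
def n17397 : Q := act 4 n16791
theorem D17397 : act 4 n16791 = n17397 := rfl
theorem F68413 : act 0 n17397 = n17061 := d3_1 D17397 (iv D17061) (iv F66282)
theorem F68414 : act 2 n17397 = n16792 := d16_1 D17397 (iv D16792) D16791
theorem F68415 : act 6 n17397 = n17190 := d27_2 (iv F66284) D17397 (iv D17190)
theorem F68416 : act 7 n17397 = n16795 := d28_2 (iv F66285) D17397 (iv D16795)
def n17398 : Q := act 0 n16793
theorem D17398 : act 0 n16793 = n17398 := rfl
theorem F68417 : act 1 n17398 = n17056 := d0_2 D16793 D17398 F67195 F65120 F64626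
theorem F68418 : act 2 n17398 = n17398 := d1_2 F66290 D17398 (iv D17398)
theorem F68419 : act 5 n17398 = n17058 := d4_2 F68410 D17398 (iv F68408)
theorem F68420 : act 6 n17398 = n16801 := d5_2 (iv F66291) D17398 (iv D16801)
theorem F68421 : act 7 n17398 = n16796 := d6_2 (iv F66292) D17398 (iv D16796)
def n17399 : Q := act 1 n16797
theorem D17399 : act 1 n16797 = n17399 := rfl
theorem F68422 : act 2 n17399 = n17399 := d8_2 D16797 D17399 (iv D17399) (iv D16797) F64084
theorem F68423 : act 5 n17399 = n16799 := d11_2 (iv F66309) D17399 (iv D16799)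
theorem F68424 : act 6 n17399 = n17129 := d12_2 F67277 D17399 F67433
theorem F68425 : act 7 n17399 = n17399 := d13_2 F66310 D17399 (iv D17399)
theorem F68426 : act 8 n17399 = n16798 := d14_2 (iv F66311) D17399 (iv D16798)
theorem F68427 : act 0 n16913 = n17399 := d7_3 F68426 (iv F66316) D16913
def n17400 : Q := act 0 n16799
theorem D17400 : act 0 n16799 = n17400 := rfl
theorem F68428 : act 2 n17400 = n17400 := d1_2 F66317 D17400 (iv D17400)
theorem F68429 : act 5 n17400 = n16913 := d4_2 F68423 D17400 F68427
theorem F68430 : act 7 n17400 = n17400 := d6_2 F66318 D17400 (iv D17400)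
theorem F68431 : act 8 n17400 = n16801 := d7_2 (iv F66319) D17400 (iv D16801)
def n17401 : Q := act 4 n16799
theorem D17401 : act 4 n16799 = n17401 := rfl
theorem F68432 : act 1 n17401 = n16800 := d10_1 D17401 (iv D16800) D16799
theorem F68433 : act 2 n17401 = n17401 := d16_1 D17401 (iv D17401) F66317
theorem F68434 : act 6 n17401 = n17085 := d27_2 F67668 D17401 (iv F67667)
theorem F68435 : act 7 n17401 = n17401 := d28_2 F66318 D17401 (iv D17401)
theorem F68436 : act 8 n17401 = n16802 := d29_2 (iv F66319) D17401 (iv D16802)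
def n17402 : Q := act 3 n16800
theorem D17402 : act 3 n16800 = n17402 := rfl
theorem F68437 : act 0 n17402 = n16948 := d2_1 D17402 F66872 (iv F66320)
theorem F68438 : act 2 n17402 = n16942 := d15_1 D17402 (iv D16942) F64705 (iv F64094) (iv F66321)
theorem F68439 : act 6 n17402 = n17080 := d23_2 (iv F66322) D17402 F67297
theorem F68440 : act 8 n17402 = n16803 := d25_2 (iv F66324) D17402 (iv D16803)
def n17403 : Q := act 4 n16801
theorem D17403 : act 4 n16801 = n17403 := rfl
theorem F68441 : act 0 n17403 = n16802 := d3_1 D17403 (iv D16802) D16801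
theorem F68442 : act 2 n17403 = n17403 := d16_1 D17403 (iv D17403) F66325
theorem F68443 : act 7 n17403 = n16804 := d28_2 (iv F66327) D17403 (iv D16804)
def n17404 : Q := act 3 n16802
theorem D17404 : act 3 n16802 = n17404 := rfl
theorem F68444 : act 1 n17404 = n16803 := d9_1 D17404 (iv D16803) (iv F66328)
theorem F68445 : act 7 n17404 = n17191 := d24_2 (iv F66330) D17404 (iv D17191) F65510 (iv F64114)
def n17405 : Q := act 3 n16807
theorem D17405 : act 3 n16807 = n17405 := rfl
theorem F68446 : act 0 n17405 = n17091 := d2_1 D17405 F67329 (iv F66350)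
theorem F68447 : act 1 n17405 = n16876 := d9_1 D17405 F66629 (iv F66351)
theorem F68448 : act 2 n17405 = n17011 := d15_1 D17405 F67064 F65047 (iv F64178) (iv F66352)
theorem F68449 : act 5 n17405 = n17126 := d22_2 (iv F66353) D17405 (iv D17126)
theorem F68450 : act 6 n17405 = n17098 := d23_2 (iv F66354) D17405 F67347
theorem F68451 : act 8 n17405 = n17115 := d25_2 (iv F66356) D17405 F67388
def n17406 : Q := act 5 n16809
theorem D17406 : act 5 n16809 = n17406 := rfl
theorem F68452 : act 0 n17406 = n16917 := d4_1 D17406 (iv D16917) (iv F66363)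
theorem F68453 : act 2 n17406 = n16837 := d17_1 D17406 (iv D16837) (iv F66364)
theorem F68454 : act 3 n17406 = n17340 := d22_1 D17406 (iv D17340) (iv F66365)
theorem F68455 : act 4 n17406 = n17082 := d26_1 D17406 (iv D17082) (iv D16504) (iv F64208) D16809
theorem F68456 : act 7 n17406 = n16810 := d31_2 (iv F66367) D17406 (iv D16810)
theorem F68457 : act 8 n17406 = n17202 := d32_2 (iv F66368) D17406 (iv D17202)
def n17407 : Q := act 6 n16810
theorem D17407 : act 6 n16810 = n17407 := rfl
theorem F68458 : act 0 n17407 = n16919 := d5_1 D17407 (iv D16919) (iv F66369)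
theorem F68459 : act 2 n17407 = n16858 := d18_1 D17407 (iv D16858) (iv F66370)
theorem F68460 : act 3 n17407 = n16920 := d23_1 D17407 (iv D16920) (iv F66371)
theorem F68461 : act 4 n17407 = n17094 := d27_1 D17407 (iv D17094) (iv F66372)
theorem F68462 : act 5 n17407 = n16936 := d30_1 D17407 (iv D16936) (iv D16343) (iv F64215) D16810
theorem F68463 : act 8 n17407 = n16820 := d34_2 (iv F66373) D17407 (iv D16820)
def n17408 : Q := act 4 n16811
theorem D17408 : act 4 n16811 = n17408 := rfl
theorem F68464 : act 0 n17408 = n17177 := d3_1 D17408 F67551 (iv F66374)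
theorem F68465 : act 1 n17408 = n16866 := d10_1 D17408 (iv D16866) (iv F66375)
theorem F68466 : act 2 n17408 = n16812 := d16_1 D17408 (iv D16812) D16811
theorem F68467 : act 3 n17408 = n17113 := d21_1 D17408 (iv D17113) F65314 (iv F64253) (iv F66376)
theorem F68468 : act 6 n17408 = n16816 := d27_2 (iv F66377) D17408 (iv D16816)
theorem F68469 : act 7 n17408 = n17234 := d28_2 (iv F66378) D17408 (iv D17234)
theorem F68470 : act 8 n17408 = n16927 := d29_2 (iv F66379) D17408 (iv D16927)
def n17409 : Q := act 5 n16812
theorem D17409 : act 5 n16812 = n17409 := rfl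
theorem F68471 : act 1 n17409 = n16813 := d11_1 D17409 (iv D16813) (iv F66380)
theorem F68472 : act 3 n17409 = n16918 := d22_1 D17409 (iv D16918) (iv F66381)
theorem F68473 : act 7 n17409 = n17235 := d31_2 (iv F66383) D17409 (iv D17235)
theorem F68474 : act 8 n17409 = n16928 := d32_2 (iv F66384) D17409 (iv D16928)
def n17410 : Q := act 6 n16813
theorem D17410 : act 6 n16813 = n17410 := rfl
theorem F68475 : act 0 n17410 = n16920 := d5_1 D17410 (iv D16920) (iv F66385)
theorem F68476 : act 2 n17410 = n16873 := d18_1 D17410 (iv D16873) (iv F66386)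
theorem F68477 : act 3 n17410 = n16919 := d23_1 D17410 (iv D16919) (iv F66387)
theorem F68478 : act 5 n17410 = n16820 := d30_1 D17410 (iv D16820) (iv D16228) (iv F64224) D16813
theorem F68479 : act 7 n17410 = n17238 := d33_2 (iv F66388) D17410 (iv D17238)
theorem F68480 : act 8 n17410 = n16936 := d34_2 (iv F66389) D17410 (iv D16936)
def n17411 : Q := act 4 n16814
theorem D17411 : act 4 n16814 = n17411 := rfl
theorem F68481 : act 0 n17411 = n16816 := d3_1 D17411 (iv D16816) (iv F66390)
theorem F68482 : act 2 n17411 = n16815 := d16_1 D17411 (iv D16815) D16814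
theorem F68483 : act 3 n17411 = n17174 := d21_1 D17411 (iv D17174) F65463 (iv F64258) (iv F66391)
theorem F68484 : act 6 n17411 = n17177 := d27_2 (iv F66393) D17411 F67551
theorem F68485 : act 7 n17411 = n17241 := d28_2 (iv F66394) D17411 (iv D17241)
def n17412 : Q := act 5 n16815
theorem D17412 : act 5 n16815 = n17412 := rfl
theorem F68486 : act 0 n17412 = n16817 := d4_1 D17412 (iv D16817) (iv F66395)
theorem F68487 : act 1 n17412 = n16862 := d11_1 D17412 (iv D16862) (iv F66396)
theorem F68488 : act 4 n17412 = n16867 := d26_1 D17412 (iv D16867) (iv D16271) (iv F64229) D16815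
theorem F68489 : act 7 n17412 = n17242 := d31_2 (iv F66397) D17412 (iv D17242)
def n17413 : Q := act 5 n16816
theorem D17413 : act 5 n16816 = n17413 := rfl
theorem F68490 : act 1 n17413 = n16891 := d11_1 D17413 (iv D16891) (iv F66398)
theorem F68491 : act 2 n17413 = n16817 := d17_1 D17413 (iv D16817) (iv F66399)
theorem F68492 : act 4 n17413 = n17102 := d26_1 D17413 (iv D17102) (iv D16519) (iv F64233) D16816
theorem F68493 : act 7 n17413 = n17248 := d31_2 (iv F66400) D17413 (iv D17248)
def n17414 : Q := act 6 n16817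
theorem D17414 : act 6 n16817 = n17414 := rfl
theorem F68494 : act 1 n17414 = n16820 := d12_1 D17414 (iv D16820) (iv F66401)
theorem F68495 : act 4 n17414 = n17103 := d27_1 D17414 (iv D17103) (iv F66402)
theorem F68496 : act 7 n17414 = n17249 := d33_2 (iv F66403) D17414 (iv D17249)
def n17415 : Q := act 5 n16818
theorem D17415 : act 5 n16818 = n17415 := rfl
theorem F68497 : act 0 n17415 = n16934 := d4_1 D17415 (iv D16934) (iv F66404)
theorem F68498 : act 2 n17415 = n16939 := d17_1 D17415 (iv D16939) (iv F66405)
theorem F68499 : act 3 n17415 = n17257 := d22_1 D17415 (iv D17257) (iv F66406)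
theorem F68500 : act 7 n17415 = n16819 := d31_2 (iv F66408) D17415 (iv D16819)
theorem F68501 : act 8 n17415 = n17270 := d32_2 (iv F66409) D17415 (iv D17270)
def n17416 : Q := act 6 n16819
theorem D17416 : act 6 n16819 = n17416 := rfl
theorem F68502 : act 0 n17416 = n16936 := d5_1 D17416 (iv D16936) (iv F66410)
theorem F68503 : act 2 n17416 = n16968 := d18_1 D17416 (iv D16968) (iv F66411)
theorem F68504 : act 3 n17416 = n16820 := d23_1 D17416 (iv D16820) (iv F66412)
theorem F68505 : act 5 n17416 = n16919 := d30_1 D17416 (iv D16919) (iv D16328) (iv F64245) D16819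
theorem F68506 : act 8 n17416 = n16920 := d34_2 (iv F66413) D17416 (iv D16920)
def n17417 : Q := act 8 n16821
theorem D17417 : act 8 n16821 = n17417 := rfl
theorem F68507 : act 0 n17417 = n17048 := d7_1 D17417 F67155 (iv F66418)
theorem F68508 : act 1 n17417 = n16913 := d14_1 D17417 (iv D16913) (iv F66419)
theorem F68509 : act 2 n17417 = n16907 := d20_1 D17417 F66730 (iv F66420)
theorem F68510 : act 4 n17417 = n17074 := d29_1 D17417 F67279 (iv F66421)
theorem F68511 : act 6 n17417 = n17119 := d34_1 D17417 F67399 (iv F66422)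
theorem F68512 : act 7 n17417 = n17417 := d35_1 D17417 (iv D17417) (iv D16821) F64267 D16821
def n17418 : Q := act 4 n16822
theorem D17418 : act 4 n16822 = n17418 := rfl
theorem F68513 : act 0 n17418 = n16914 := d3_1 D17418 (iv D16914) (iv F66423)
theorem F68514 : act 2 n17418 = n16932 := d16_1 D17418 (iv D16932) (iv F66424)
theorem F68515 : act 7 n17418 = n16841 := d28_2 (iv F66426) D17418 (iv D16841)
theorem F68516 : act 8 n17418 = n17272 := d29_2 (iv F66427) D17418 (iv D17272)
def n17419 : Q := act 2 n16823
theorem D17419 : act 2 n16823 = n17419 := rfl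
theorem F68517 : act 0 n17419 = n17076 := d1_1 D17419 (iv D17076) (iv F66428)
theorem F68518 : act 1 n17419 = n16923 := d8_1 D17419 (iv D16923) F64649 (iv F64281) (iv F66429)
theorem F68519 : act 3 n17419 = n17419 := d15_2 D16823 D17419 (iv D17419) (iv D16823) F64274
theorem F68520 : act 6 n17419 = n16830 := d18_2 (iv F66430) D17419 (iv D16830)
theorem F68521 : act 7 n17419 = n16842 := d19_2 (iv F66431) D17419 (iv D16842)
def n17420 : Q := act 4 n16823
theorem D17420 : act 4 n16823 = n17420 := rfl
theorem F68522 : act 0 n17420 = n17077 := d3_1 D17420 (iv D17077) (iv F66428)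
theorem F68523 : act 1 n17420 = n16825 := d10_1 D17420 (iv D16825) (iv F66429)
theorem F68524 : act 6 n17420 = n16831 := d27_2 (iv F66430) D17420 (iv D16831)
theorem F68525 : act 7 n17420 = n16843 := d28_2 (iv F66431) D17420 (iv D16843)
def n17421 : Q := act 4 n16824
theorem D17421 : act 4 n16824 = n17421 := rfl
theorem F68526 : act 0 n17421 = n16938 := d3_1 D17421 (iv D16938) (iv F66432)
theorem F68527 : act 2 n17421 = n17386 := d16_1 D17421 F68388 (iv F66433)
theorem F68528 : act 3 n17421 = n16825 := d21_1 D17421 (iv D16825) (iv D16235) (iv F64278) D16824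
theorem F68529 : act 6 n17421 = n16836 := d27_2 (iv F66434) D17421 (iv D16836)
theorem F68530 : act 7 n17421 = n17040 := d28_2 (iv F66435) D17421 F67144
def n17422 : Q := act 5 n16825
theorem D17422 : act 5 n16825 = n17422 := rfl
theorem F68531 : act 0 n17422 = n16939 := d4_1 D17422 (iv D16939) (iv F66436)
theorem F68532 : act 2 n17422 = n16934 := d17_1 D17422 (iv D16934) (iv F66437)
theorem F68533 : act 7 n17422 = n16844 := d31_2 (iv F66439) D17422 (iv D16844)
def n17423 : Q := act 3 n16826
theorem D17423 : act 3 n16826 = n17423 := rfl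
theorem F68534 : act 0 n17423 = n16829 := d2_1 D17423 (iv D16829) (iv F66440)
theorem F68535 : act 1 n17423 = n16942 := d9_1 D17423 (iv D16942) (iv F66441)
theorem F68536 : act 5 n17423 = n17131 := d22_2 (iv F66444) D17423 (iv D17131)
theorem F68537 : act 6 n17423 = n17075 := d23_2 (iv F66445) D17423 (iv D17075)
theorem F68538 : act 8 n17423 = n17130 := d25_2 (iv F66446) D17423 (iv D17130)
def n17424 : Q := act 2 n16827
theorem D17424 : act 2 n16827 = n17424 := rfl
theorem F68539 : act 0 n17424 = n16830 := d1_1 D17424 (iv D16830) (iv F66447)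
theorem F68540 : act 3 n17424 = n17424 := d15_2 D16827 D17424 (iv D17424) (iv D16827) F64292
theorem F68541 : act 6 n17424 = n17076 := d18_2 (iv F66449) D17424 (iv D17076)
theorem F68542 : act 7 n17424 = n16845 := d19_2 (iv F66450) D17424 (iv D16845)
theorem F68543 : act 8 n17424 = n17419 := d20_2 (iv F66451) D17424 (iv D17419)
def n17425 : Q := act 4 n16827
theorem D17425 : act 4 n16827 = n17425 := rfl
theorem F68544 : act 0 n17425 = n16831 := d3_1 D17425 (iv D16831) (iv F66447)
theorem F68545 : act 1 n17425 = n16943 := d10_1 D17425 (iv D16943) (iv F66448)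
theorem F68546 : act 6 n17425 = n17077 := d27_2 (iv F66449) D17425 (iv D17077)
theorem F68547 : act 7 n17425 = n16846 := d28_2 (iv F66450) D17425 (iv D16846)
theorem F68548 : act 8 n17425 = n17420 := d29_2 (iv F66451) D17425 (iv D17420)
def n17426 : Q := act 3 n16828
theorem D17426 : act 3 n16828 = n17426 := rfl
theorem F68549 : act 0 n17426 = n17131 := d2_1 D17426 (iv D17131) (iv F66452)
theorem F68550 : act 1 n17426 = n16834 := d9_1 D17426 (iv D16834) (iv F66453)
theorem F68551 : act 5 n17426 = n16829 := d22_2 (iv F66456) D17426 (iv D16829)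
theorem F68552 : act 8 n17426 = n17078 := d25_2 (iv F66457) D17426 (iv D17078)
def n17427 : Q := act 2 n16829
theorem D17427 : act 2 n16829 = n17427 := rfl
theorem F68553 : act 3 n17427 = n17427 := d15_2 D16829 D17427 (iv D17427) (iv D16829) F64301
def n17428 : Q := act 4 n16829
theorem D17428 : act 4 n16829 = n17428 := rfl
theorem F68554 : act 1 n17428 = n16836 := d10_1 D17428 (iv D16836) (iv F66458)
theorem F68555 : act 3 n17428 = n16831 := d21_1 D17428 (iv D16831) (iv D16240) (iv F64302) D16829
def n17429 : Q := act 4 n16830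
theorem D17429 : act 4 n16830 = n17429 := rfl
theorem F68556 : act 2 n17429 = n16831 := d16_1 D17429 (iv D16831) D16830
theorem F68557 : act 7 n17429 = n16849 := d28_2 (iv F66460) D17429 (iv D16849)
def n17430 : Q := act 5 n16831
theorem D17430 : act 5 n16831 = n17430 := rfl
theorem F68558 : act 1 n17430 = n16837 := d11_1 D17430 (iv D16837) (iv F66461)
theorem F68559 : act 7 n17430 = n16850 := d31_2 (iv F66462) D17430 (iv D16850)
def n17431 : Q := act 3 n16832
theorem D17431 : act 3 n16832 = n17431 := rfl
theorem F68560 : act 0 n17431 = n16954 := d2_1 D17431 (iv D16954) (iv F66463)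
theorem F68561 : act 1 n17431 = n16957 := d9_1 D17431 (iv D16957) (iv F66464)
theorem F68562 : act 5 n17431 = n17134 := d22_2 (iv F66467) D17431 (iv D17134)
theorem F68563 : act 6 n17431 = n16947 := d23_2 (iv F66468) D17431 (iv D16947)
theorem F68564 : act 7 n17431 = n17426 := d24_2 D16832 D17431 (iv D17426) (iv D16828) (iv F64308)
theorem F68565 : act 8 n17431 = n16833 := d25_2 (iv F66469) D17431 (iv D16833)
def n17432 : Q := act 4 n16833
theorem D17432 : act 4 n16833 = n17432 := rfl
theorem F68566 : act 0 n17432 = n16956 := d3_1 D17432 (iv D16956) (iv F66470)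
theorem F68567 : act 3 n17432 = n16855 := d21_1 D17432 (iv D16855) (iv D16260) (iv F64314) D16833
theorem F68568 : act 6 n17432 = n17040 := d27_2 (iv F66471) D17432 F67144
theorem F68569 : act 7 n17432 = n16836 := d28_2 (iv F66472) D17432 (iv D16836)
def n17433 : Q := act 2 n16834
theorem D17433 : act 2 n16834 = n17433 := rfl
theorem F68570 : act 0 n17433 = n16958 := d1_1 D17433 (iv D16958) (iv F66473)
theorem F68571 : act 3 n17433 = n16838 := d15_2 D16834 D17433 (iv D16838) (iv D16246) (iv F64317)
theorem F68572 : act 5 n17433 = n16835 := d17_2 (iv F66474) D17433 (iv D16835)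
def n17434 : Q := act 4 n16834
theorem D17434 : act 4 n16834 = n17434 := rfl
theorem F68573 : act 0 n17434 = n16959 := d3_1 D17434 (iv D16959) (iv F66473)
def n17435 : Q := act 1 n16835
theorem D17435 : act 1 n16835 = n17435 := rfl
theorem F68574 : act 3 n17435 = n16840 := d9_2 (iv F66476) D17435 (iv D16840)
theorem F68575 : act 6 n17435 = n17404 := d12_2 (iv F66477) D17435 F68444
def n17436 : Q := act 4 n16835
theorem D17436 : act 4 n16835 = n17436 := rfl
theorem F68576 : act 0 n17436 = n16961 := d3_1 D17436 (iv D16961) (iv F66475)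
theorem F68577 : act 2 n17436 = n16836 := d16_1 D17436 (iv D16836) D16835
theorem F68578 : act 3 n17436 = n17339 := d21_1 D17436 (iv D17339) F66136 (iv F64327) (iv F66476)
theorem F68579 : act 6 n17436 = n17386 := d27_2 (iv F66477) D17436 F68388
def n17437 : Q := act 5 n16836
theorem D17437 : act 5 n16836 = n17437 := rfl
theorem F68580 : act 0 n17437 = n16962 := d4_1 D17437 (iv D16962) (iv F66478)
theorem F68581 : act 3 n17437 = n16837 := d22_1 D17437 (iv D16837) (iv F66479)
def n17438 : Q := act 6 n16837
theorem D17438 : act 6 n16837 = n17438 := rfl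
theorem F68582 : act 0 n17438 = n16963 := d5_1 D17438 (iv D16963) (iv F66480)
theorem F68583 : act 7 n17438 = n16858 := d33_2 (iv F66481) D17438 (iv D16858)
def n17439 : Q := act 1 n16838
theorem D17439 : act 1 n16838 = n17439 := rfl
theorem F68584 : act 2 n17439 = n17439 := d8_2 D16838 D17439 (iv D17439) (iv D16838) F64323
theorem F68585 : act 5 n17439 = n16840 := d11_2 (iv F66483) D17439 (iv D16840)
theorem F68586 : act 7 n17439 = n17063 := d13_2 (iv F66484) D17439 (iv D17063)
def n17440 : Q := act 4 n16838
theorem D17440 : act 4 n16838 = n17440 := rfl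
theorem F68587 : act 0 n17440 = n16966 := d3_1 D17440 (iv D16966) (iv F66482)
theorem F68588 : act 2 n17440 = n16839 := d16_1 D17440 (iv D16839) D16838
theorem F68589 : act 5 n17440 = n17397 := d26_2 (iv F66483) D17440 (iv D17397) F66283 (iv F64327)
theorem F68590 : act 7 n17440 = n17064 := d28_2 (iv F66484) D17440 (iv D17064)
def n17441 : Q := act 0 n16840
theorem D17441 : act 0 n16840 = n17441 := rfl
theorem F68591 : act 1 n17441 = n16967 := d0_2 D16840 D17441 (iv D16967) (iv D16372) (iv F64326)
theorem F68592 : act 2 n17441 = n17441 := d1_2 F66489 D17441 (iv D17441)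
theorem F68593 : act 4 n17441 = n17398 := d3_2 (iv F66490) D17441 (iv D17398)
theorem F68594 : act 6 n17441 = n17403 := d5_2 (iv F66491) D17441 F68441
theorem F68595 : act 7 n17441 = n17065 := d6_2 (iv F66492) D17441 (iv D17065)
def n17442 : Q := act 5 n16841
theorem D17442 : act 5 n16841 = n17442 := rfl
theorem F68596 : act 0 n17442 = n16918 := d4_1 D17442 (iv D16918) (iv F66493)
theorem F68597 : act 2 n17442 = n16935 := d17_1 D17442 (iv D16935) (iv F66494)
theorem F68598 : act 4 n17442 = n16844 := d26_1 D17442 (iv D16844) (iv D16250) (iv F64332) D16841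
theorem F68599 : act 8 n17442 = n16862 := d32_2 (iv F66495) D17442 (iv D16862)
def n17443 : Q := act 4 n16842
theorem D17443 : act 4 n16842 = n17443 := rfl
theorem F68600 : act 0 n17443 = n17086 := d3_1 D17443 (iv D17086) (iv F66496)
theorem F68601 : act 1 n17443 = n16927 := d10_1 D17443 (iv D16927) (iv F66497)
theorem F68602 : act 2 n17443 = n16843 := d16_1 D17443 (iv D16843) D16842
theorem F68603 : act 6 n17443 = n16849 := d27_2 (iv F66499) D17443 (iv D16849)
theorem F68604 : act 8 n17443 = n16866 := d29_2 (iv F66500) D17443 (iv D16866)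
def n17444 : Q := act 5 n16843
theorem D17444 : act 5 n16843 = n17444 := rfl
theorem F68605 : act 0 n17444 = n17087 := d4_1 D17444 (iv D17087) (iv F66501)
theorem F68606 : act 1 n17444 = n16844 := d11_1 D17444 (iv D16844) (iv F66502)
theorem F68607 : act 3 n17444 = n17046 := d22_1 D17444 (iv D17046) (iv F66503)
theorem F68608 : act 8 n17444 = n16867 := d32_2 (iv F66505) D17444 (iv D16867)
def n17445 : Q := act 6 n16844
theorem D17445 : act 6 n16844 = n17445 := rfl
theorem F68609 : act 0 n17445 = n16968 := d5_1 D17445 (iv D16968) (iv F66506)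
theorem F68610 : act 2 n17445 = n16936 := d18_1 D17445 (iv D16936) (iv F66507)
theorem F68611 : act 3 n17445 = n17047 := d23_1 D17445 (iv D17047) (iv F66508)
theorem F68612 : act 5 n17445 = n16858 := d30_1 D17445 (iv D16858) (iv D16263) (iv F64341) D16844
theorem F68613 : act 8 n17445 = n16873 := d34_2 (iv F66509) D17445 (iv D16873)
def n17446 : Q := act 4 n16845
theorem D17446 : act 4 n16845 = n17446 := rfl
theorem F68614 : act 0 n17446 = n16849 := d3_1 D17446 (iv D16849) (iv F66510)
theorem F68615 : act 2 n17446 = n16846 := d16_1 D17446 (iv D16846) D16845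
theorem F68616 : act 6 n17446 = n17086 := d27_2 (iv F66512) D17446 (iv D17086)
theorem F68617 : act 8 n17446 = n16878 := d29_2 (iv F66513) D17446 (iv D16878)
def n17447 : Q := act 5 n16846
theorem D17447 : act 5 n16846 = n17447 := rfl
theorem F68618 : act 0 n17447 = n16850 := d4_1 D17447 (iv D16850) (iv F66514)
theorem F68619 : act 1 n17447 = n16973 := d11_1 D17447 (iv D16973) (iv F66515)
theorem F68620 : act 8 n17447 = n16879 := d32_2 (iv F66517) D17447 (iv D16879)
def n17448 : Q := act 4 n16847
theorem D17448 : act 4 n16847 = n17448 := rfl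
theorem F68621 : act 1 n17448 = n16855 := d10_1 D17448 (iv D16855) (iv F66518)
theorem F68622 : act 2 n17448 = n17170 := d16_1 D17448 (iv D17170) (iv F66519)
theorem F68623 : act 6 n17448 = n17039 := d27_2 (iv F66520) D17448 (iv D17039)
theorem F68624 : act 7 n17448 = n16848 := d28_2 (iv F66521) D17448 (iv D16848)
def n17449 : Q := act 5 n16848
theorem D17449 : act 5 n16848 = n17449 := rfl
theorem F68625 : act 1 n17449 = n16857 := d11_1 D17449 (iv D16857) (iv F66522)
theorem F68626 : act 2 n17449 = n17181 := d17_1 D17449 (iv D17181) (iv F66523)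
theorem F68627 : act 3 n17449 = n16850 := d22_1 D17449 (iv D16850) (iv F66524)
theorem F68628 : act 8 n17449 = n16889 := d32_2 (iv F66526) D17449 (iv D16889)
def n17450 : Q := act 5 n16849
theorem D17450 : act 5 n16849 = n17450 := rfl
theorem F68629 : act 2 n17450 = n16850 := d17_1 D17450 (iv D16850) (iv F66527)
theorem F68630 : act 8 n17450 = n16891 := d32_2 (iv F66528) D17450 (iv D16891)
def n17451 : Q := act 6 n16850
theorem D17451 : act 6 n16850 = n17451 := rfl
theorem F68631 : act 1 n17451 = n16858 := d12_1 D17451 (iv D16858) (iv F66529)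
theorem F68632 : act 8 n17451 = n16892 := d34_2 (iv F66530) D17451 (iv D16892)
def n17452 : Q := act 3 n16851
theorem D17452 : act 3 n16851 = n17452 := rfl
theorem F68633 : act 0 n17452 = n16985 := d2_1 D17452 (iv D16985) (iv F66531)
theorem F68634 : act 5 n17452 = n17279 := d22_2 (iv F66534) D17452 (iv D17279)
theorem F68635 : act 6 n17452 = n17251 := d23_2 (iv F66535) D17452 (iv D17251)
theorem F68636 : act 8 n17452 = n17250 := d25_2 (iv F66536) D17452 (iv D17250)
def n17453 : Q := act 3 n16852
theorem D17453 : act 3 n16852 = n17453 := rfl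
theorem F68637 : act 0 n17453 = n16987 := d2_1 D17453 (iv D16987) (iv F66537)
theorem F68638 : act 1 n17453 = n17452 := d9_1 D17453 (iv D17452) (iv F66538)
theorem F68639 : act 2 n17453 = n16996 := d15_1 D17453 (iv D16996) F64867 D16448 (iv F66539)
theorem F68640 : act 5 n17453 = n16854 := d22_2 (iv F66541) D17453 (iv D16854)
theorem F68641 : act 6 n17453 = n17157 := d23_2 (iv F66542) D17453 F67512
theorem F68642 : act 7 n17453 = n16895 := d24_2 D16852 D17453 (iv D16895) (iv D16295) (iv F64366)
theorem F68643 : act 8 n17453 = n16853 := d25_2 (iv F66543) D17453 (iv D16853)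
def n17454 : Q := act 4 n16853
theorem D17454 : act 4 n16853 = n17454 := rfl
theorem F68644 : act 0 n17454 = n16988 := d3_1 D17454 (iv D16988) (iv F66544)
theorem F68645 : act 2 n17454 = n16997 := d16_1 D17454 (iv D16997) (iv F66545)
theorem F68646 : act 7 n17454 = n16856 := d28_2 (iv F66547) D17454 (iv D16856)
def n17455 : Q := act 4 n16854
theorem D17455 : act 4 n16854 = n17455 := rfl
theorem F68647 : act 0 n17455 = n16989 := d3_1 D17455 (iv D16989) (iv F66548)
theorem F68648 : act 2 n17455 = n16998 := d16_1 D17455 (iv D16998) (iv F66549)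
theorem F68649 : act 6 n17455 = n17037 := d27_2 (iv F66550) D17455 (iv D17037)
theorem F68650 : act 7 n17455 = n16899 := d28_2 (iv F66551) D17455 (iv D16899)
theorem F68651 : act 8 n17455 = n16855 := d29_2 (iv F66552) D17455 (iv D16855)
def n17456 : Q := act 5 n16855
theorem D17456 : act 5 n16855 = n17456 := rfl
theorem F68652 : act 0 n17456 = n16990 := d4_1 D17456 (iv D16990) (iv F66553)
theorem F68653 : act 2 n17456 = n16999 := d17_1 D17456 (iv D16999) (iv F66554)
theorem F68654 : act 7 n17456 = n16857 := d31_2 (iv F66556) D17456 (iv D16857)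
def n17457 : Q := act 5 n16856
theorem D17457 : act 5 n16856 = n17457 := rfl
theorem F68655 : act 0 n17457 = n16992 := d4_1 D17457 (iv D16992) (iv F66557)
theorem F68656 : act 2 n17457 = n17001 := d17_1 D17457 (iv D17001) (iv F66558)
theorem F68657 : act 4 n17457 = n16857 := d26_1 D17457 (iv D16857) (iv D16262) (iv F64383) D16856
theorem F68658 : act 8 n17457 = n16904 := d32_2 (iv F66559) D17457 (iv D16904)
def n17458 : Q := act 6 n16857
theorem D17458 : act 6 n16857 = n17458 := rfl
theorem F68659 : act 0 n17458 = n16993 := d5_1 D17458 (iv D16993) (iv F66560)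
theorem F68660 : act 2 n17458 = n17002 := d18_1 D17458 (iv D17002) (iv F66561)
theorem F68661 : act 3 n17458 = n16858 := d23_1 D17458 (iv D16858) (iv F66562)
theorem F68662 : act 5 n17458 = n17047 := d30_1 D17458 (iv D17047) (iv D16444) (iv F64388) D16857
theorem F68663 : act 8 n17458 = n16906 := d34_2 (iv F66563) D17458 (iv D16906)
def n17459 : Q := act 2 n16859
theorem D17459 : act 2 n16859 = n17459 := rfl
theorem F68664 : act 0 n17459 = n16923 := d1_1 D17459 (iv D16923) (iv F66566)
theorem F68665 : act 3 n17459 = n17459 := d15_2 D16859 D17459 (iv D17459) (iv D16859) F64393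
theorem F68666 : act 7 n17459 = n16860 := d19_2 (iv F66567) D17459 (iv D16860)
def n17460 : Q := act 4 n16859
theorem D17460 : act 4 n16859 = n17460 := rfl
theorem F68667 : act 0 n17460 = n16924 := d3_1 D17460 (iv D16924) (iv F66566)
theorem F68668 : act 3 n17460 = n17352 := d21_1 D17460 (iv D17352) (iv D16754) (iv F64394) D16859
theorem F68669 : act 7 n17460 = n16861 := d28_2 (iv F66567) D17460 (iv D16861)
def n17461 : Q := act 4 n16860
theorem D17461 : act 4 n16860 = n17461 := rfl
theorem F68670 : act 0 n17461 = n16927 := d3_1 D17461 (iv D16927) (iv F66568)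
theorem F68671 : act 2 n17461 = n16861 := d16_1 D17461 (iv D16861) D16860
theorem F68672 : act 3 n17461 = n17153 := d21_1 D17461 (iv D17153) F65435 (iv F64399) (iv F66569)
theorem F68673 : act 8 n17461 = n17177 := d29_2 (iv F66570) D17461 F67551
def n17462 : Q := act 5 n16861
theorem D17462 : act 5 n16861 = n17462 := rfl
theorem F68674 : act 0 n17462 = n16928 := d4_1 D17462 (iv D16928) (iv F66571)
theorem F68675 : act 3 n17462 = n16862 := d22_1 D17462 (iv D16862) (iv F66572)
def n17463 : Q := act 6 n16862
theorem D17463 : act 6 n16862 = n17463 := rfl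
theorem F68676 : act 0 n17463 = n16929 := d5_1 D17463 (iv D16929) (iv F66573)
theorem F68677 : act 4 n17463 = n16873 := d27_1 D17463 (iv D16873) (iv F66574)
theorem F68678 : act 7 n17463 = n17356 := d33_2 (iv F66575) D17463 (iv D17356)
def n17464 : Q := act 2 n16863
theorem D17464 : act 2 n16863 = n17464 := rfl
theorem F68679 : act 0 n17464 = n17096 := d1_1 D17464 (iv D17096) (iv F66576)
theorem F68680 : act 1 n17464 = n16978 := d8_1 D17464 (iv D16978) F64816 (iv F64424) (iv F66577)
theorem F68681 : act 3 n17464 = n17464 := d15_2 D16863 D17464 (iv D17464) (iv D16863) F64404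
theorem F68682 : act 6 n17464 = n16884 := d18_2 (iv F66578) D17464 (iv D16884)
theorem F68683 : act 7 n17464 = n16864 := d19_2 (iv F66579) D17464 (iv D16864)
def n17465 : Q := act 4 n16863
theorem D17465 : act 4 n16863 = n17465 := rfl
theorem F68684 : act 0 n17465 = n17097 := d3_1 D17465 (iv D17097) (iv F66576)
theorem F68685 : act 1 n17465 = n16870 := d10_1 D17465 (iv D16870) (iv F66577)
theorem F68686 : act 6 n17465 = n16885 := d27_2 (iv F66578) D17465 (iv D16885)
theorem F68687 : act 7 n17465 = n16865 := d28_2 (iv F66579) D17465 (iv D16865)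
def n17466 : Q := act 4 n16864
theorem D17466 : act 4 n16864 = n17466 := rfl
theorem F68688 : act 0 n17466 = n17099 := d3_1 D17466 (iv D17099) (iv F66580)
theorem F68689 : act 1 n17466 = n16982 := d10_1 D17466 (iv D16982) (iv F66581)
theorem F68690 : act 2 n17466 = n16865 := d16_1 D17466 (iv D16865) D16864
theorem F68691 : act 6 n17466 = n16888 := d27_2 (iv F66583) D17466 (iv D16888)
theorem F68692 : act 8 n17466 = n17028 := d29_2 (iv F66584) D17466 (iv D17028)
def n17467 : Q := act 5 n16865
theorem D17467 : act 5 n16865 = n17467 := rfl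
theorem F68693 : act 0 n17467 = n17100 := d4_1 D17467 (iv D17100) (iv F66585)
theorem F68694 : act 1 n17467 = n16872 := d11_1 D17467 (iv D16872) (iv F66586)
theorem F68695 : act 3 n17467 = n16867 := d22_1 D17467 (iv D16867) (iv F66587)
theorem F68696 : act 8 n17467 = n17046 := d32_2 (iv F66589) D17467 (iv D17046)
def n17468 : Q := act 3 n16866
theorem D17468 : act 3 n16866 = n17468 := rfl
theorem F68697 : act 0 n17468 = n17101 := d2_1 D17468 (iv D17101) (iv F66590)
theorem F68698 : act 1 n17468 = n17113 := d9_1 D17468 (iv F68467) F68465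
theorem F68699 : act 4 n17468 = n16910 := d21_2 D16866 D17468 (iv D16910) (iv D16317) (iv F64411)
theorem F68700 : act 6 n17468 = n16890 := d23_2 (iv F66592) D17468 (iv D16890)
def n17469 : Q := act 5 n16866
theorem D17469 : act 5 n16866 = n17469 := rfl
theorem F68701 : act 0 n17469 = n17102 := d4_1 D17469 (iv D17102) (iv F66590)
theorem F68702 : act 2 n17469 = n16867 := d17_1 D17469 (iv D16867) (iv F66591)
def n17470 : Q := act 6 n16867
theorem D17470 : act 6 n16867 = n17470 := rfl
theorem F68703 : act 0 n17470 = n17103 := d5_1 D17470 (iv D17103) (iv F66593)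
theorem F68704 : act 1 n17470 = n16873 := d12_1 D17470 (iv D16873) (iv F66594)
theorem F68705 : act 5 n17470 = n16892 := d30_1 D17470 (iv D16892) (iv D16292) (iv F64415) D16867
def n17471 : Q := act 4 n16868
theorem D17471 : act 4 n16868 = n17471 := rfl
theorem F68706 : act 0 n17471 = n16997 := d3_1 D17471 (iv D16997) (iv F66595)
theorem F68707 : act 2 n17471 = n16988 := d16_1 D17471 (iv D16988) (iv F66596)
theorem F68708 : act 7 n17471 = n16871 := d28_2 (iv F66598) D17471 (iv D16871)
def n17472 : Q := act 4 n16869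
theorem D17472 : act 4 n16869 = n17472 := rfl
theorem F68709 : act 0 n17472 = n16998 := d3_1 D17472 (iv D16998) (iv F66599)
theorem F68710 : act 2 n17472 = n16989 := d16_1 D17472 (iv D16989) (iv F66600)
theorem F68711 : act 6 n17472 = n16899 := d27_2 (iv F66601) D17472 (iv D16899)
theorem F68712 : act 7 n17472 = n17037 := d28_2 (iv F66602) D17472 (iv D17037)
theorem F68713 : act 8 n17472 = n16870 := d29_2 (iv F66603) D17472 (iv D16870)
def n17473 : Q := act 5 n16870
theorem D17473 : act 5 n16870 = n17473 := rfl
theorem F68714 : act 0 n17473 = n16999 := d4_1 D17473 (iv D16999) (iv F66604)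
theorem F68715 : act 2 n17473 = n16990 := d17_1 D17473 (iv D16990) (iv F66605)
theorem F68716 : act 7 n17473 = n16872 := d31_2 (iv F66607) D17473 (iv D16872)
def n17474 : Q := act 5 n16871
theorem D17474 : act 5 n16871 = n17474 := rfl
theorem F68717 : act 0 n17474 = n17001 := d4_1 D17474 (iv D17001) (iv F66608)
theorem F68718 : act 2 n17474 = n16992 := d17_1 D17474 (iv D16992) (iv F66609)
theorem F68719 : act 4 n17474 = n16872 := d26_1 D17474 (iv D16872) (iv D16276) (iv F64429) D16871
theorem F68720 : act 8 n17474 = n17044 := d32_2 (iv F66610) D17474 (iv D17044)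
def n17475 : Q := act 6 n16872
theorem D17475 : act 6 n16872 = n17475 := rfl
theorem F68721 : act 0 n17475 = n17002 := d5_1 D17475 (iv D17002) (iv F66611)
theorem F68722 : act 2 n17475 = n16993 := d18_1 D17475 (iv D16993) (iv F66612)
theorem F68723 : act 3 n17475 = n16873 := d23_1 D17475 (iv D16873) (iv F66613)
theorem F68724 : act 5 n17475 = n16906 := d30_1 D17475 (iv D16906) (iv D16304) (iv F64434) D16872
theorem F68725 : act 8 n17475 = n17047 := d34_2 (iv F66614) D17475 (iv D17047)
def n17476 : Q := act 3 n16874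
theorem D17476 : act 3 n16874 = n17476 := rfl
theorem F68726 : act 0 n17476 = n16883 := d2_1 D17476 (iv D16883) (iv F66617)
theorem F68727 : act 1 n17476 = n17006 := d9_1 D17476 (iv D17006) (iv F66618)
theorem F68728 : act 5 n17476 = n17305 := d22_2 (iv F66621) D17476 (iv D17305)
theorem F68729 : act 6 n17476 = n17095 := d23_2 (iv F66622) D17476 (iv D17095)
theorem F68730 : act 8 n17476 = n16875 := d25_2 (iv F66623) D17476 (iv D16875)
def n17477 : Q := act 2 n16875
theorem D17477 : act 2 n16875 = n17477 := rfl
theorem F68731 : act 0 n17477 = n16884 := d1_1 D17477 (iv D16884) (iv F66624)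
theorem F68732 : act 3 n17477 = n17477 := d15_2 D16875 D17477 (iv D17477) (iv D16875) F64445
theorem F68733 : act 6 n17477 = n17096 := d18_2 (iv F66626) D17477 (iv D17096)
theorem F68734 : act 7 n17477 = n16876 := d19_2 (iv F66627) D17477 (iv D16876)
def n17478 : Q := act 4 n16875
theorem D17478 : act 4 n16875 = n17478 := rfl
theorem F68735 : act 0 n17478 = n16885 := d3_1 D17478 (iv D16885) (iv F66624)
theorem F68736 : act 1 n17478 = n17008 := d10_1 D17478 (iv D17008) (iv F66625)
theorem F68737 : act 3 n17478 = n17465 := d21_1 D17478 (iv D17465) (iv D16863) (iv F64446) D16875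
theorem F68738 : act 6 n17478 = n17097 := d27_2 (iv F66626) D17478 (iv D17097)
theorem F68739 : act 7 n17478 = n16877 := d28_2 (iv F66627) D17478 (iv D16877)
def n17479 : Q := act 4 n16876
theorem D17479 : act 4 n16876 = n17479 := rfl
theorem F68740 : act 0 n17479 = n16888 := d3_1 D17479 (iv D16888) (iv F66628)
theorem F68741 : act 2 n17479 = n16877 := d16_1 D17479 (iv D16877) D16876
theorem F68742 : act 6 n17479 = n17099 := d27_2 (iv F66630) D17479 (iv D17099)
theorem F68743 : act 8 n17479 = n17180 := d29_2 (iv F66631) D17479 (iv D17180)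
def n17480 : Q := act 5 n16877
theorem D17480 : act 5 n16877 = n17480 := rfl
theorem F68744 : act 0 n17480 = n16889 := d4_1 D17480 (iv D16889) (iv F66632)
theorem F68745 : act 1 n17480 = n17013 := d11_1 D17480 (iv D17013) (iv F66633)
theorem F68746 : act 3 n17480 = n16879 := d22_1 D17480 (iv D16879) (iv F66634)
def n17481 : Q := act 5 n16878
theorem D17481 : act 5 n16878 = n17481 := rfl
theorem F68747 : act 0 n17481 = n16891 := d4_1 D17481 (iv D16891) (iv F66636)
theorem F68748 : act 2 n17481 = n16879 := d17_1 D17481 (iv D16879) (iv F66637)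
theorem F68749 : act 7 n17481 = n17469 := d31_2 (iv F66639) D17481 (iv D17469)
def n17482 : Q := act 6 n16879
theorem D17482 : act 6 n16879 = n17482 := rfl
theorem F68750 : act 0 n17482 = n16892 := d5_1 D17482 (iv D16892) (iv F66640)
theorem F68751 : act 1 n17482 = n17014 := d12_1 D17482 (iv D17014) (iv F66641)
theorem F68752 : act 5 n17482 = n17103 := d30_1 D17482 (iv D17103) (iv D16520) (iv F64457) D16879
theorem F68753 : act 7 n17482 = n17470 := d33_2 (iv F66642) D17482 (iv D17470)
def n17483 : Q := act 3 n16880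
theorem D17483 : act 3 n16880 = n17483 := rfl
theorem F68754 : act 0 n17483 = n17307 := d2_1 D17483 (iv D17307) (iv F66643)
theorem F68755 : act 1 n17483 = n16893 := d9_1 D17483 (iv D16893) (iv F66644)
theorem F68756 : act 5 n17483 = n17220 := d22_2 (iv F66647) D17483 (iv D17220)
theorem F68757 : act 7 n17483 = n17251 := d24_2 D16880 D17483 (iv D17251) (iv D16660) (iv F64462)
theorem F68758 : act 8 n17483 = n17219 := d25_2 (iv F66648) D17483 (iv D17219)
def n17484 : Q := act 3 n16881
theorem D17484 : act 3 n16881 = n17484 := rfl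
theorem F68759 : act 0 n17484 = n17305 := d2_1 D17484 (iv D17305) (iv F66649)
theorem F68760 : act 1 n17484 = n16895 := d9_1 D17484 (iv D16895) (iv F66650)
theorem F68761 : act 5 n17484 = n16883 := d22_2 (iv F66653) D17484 (iv D16883)
theorem F68762 : act 6 n17484 = n17483 := d23_2 (iv F66654) D17484 (iv D17483)
theorem F68763 : act 7 n17484 = n17452 := d24_2 D16881 D17484 (iv D17452) (iv D16851) (iv F64468)
theorem F68764 : act 8 n17484 = n16882 := d25_2 (iv F66655) D17484 (iv D16882)
def n17485 : Q := act 2 n16882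
theorem D17485 : act 2 n16882 = n17485 := rfl
theorem F68765 : act 1 n17485 = n17147 := d8_1 D17485 (iv D17147) F66692 (iv D16896) (iv F66656)
theorem F68766 : act 3 n17485 = n17485 := d15_2 D16882 D17485 (iv D17485) (iv D16882) F64473
theorem F68767 : act 5 n17485 = n16884 := d17_2 (iv F66657) D17485 (iv D16884)
theorem F68768 : act 7 n17485 = n16886 := d19_2 (iv F66658) D17485 (iv D16886)
def n17486 : Q := act 4 n16882
theorem D17486 : act 4 n16882 = n17486 := rfl
theorem F68769 : act 1 n17486 = n16897 := d10_1 D17486 (iv D16897) (iv F66656)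
theorem F68770 : act 7 n17486 = n16887 := d28_2 (iv F66658) D17486 (iv D16887)
def n17487 : Q := act 2 n16883
theorem D17487 : act 2 n16883 = n17487 := rfl
theorem F68771 : act 1 n17487 = n17149 := d8_1 D17487 (iv D17149) F66700 (iv D16898) (iv F66659)
theorem F68772 : act 3 n17487 = n17487 := d15_2 D16883 D17487 (iv D17487) (iv D16883) F64476
theorem F68773 : act 7 n17487 = n17166 := d19_2 F68000 D17487 (iv F67998)
theorem F68774 : act 8 n17487 = n16884 := d20_2 (iv F66660) D17487 (iv D16884)
def n17488 : Q := act 4 n16883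
theorem D17488 : act 4 n16883 = n17488 := rfl
theorem F68775 : act 1 n17488 = n16899 := d10_1 D17488 (iv D16899) (iv F66659)
theorem F68776 : act 8 n17488 = n16885 := d29_2 (iv F66660) D17488 (iv D16885)
def n17489 : Q := act 4 n16884
theorem D17489 : act 4 n16884 = n17489 := rfl
theorem F68777 : act 1 n17489 = n17151 := d10_1 D17489 (iv D17151) (iv F66661)
theorem F68778 : act 2 n17489 = n16885 := d16_1 D17489 (iv D16885) D16884
theorem F68779 : act 7 n17489 = n16888 := d28_2 (iv F66663) D17489 (iv D16888)
def n17490 : Q := act 5 n16885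
theorem D17490 : act 5 n16885 = n17490 := rfl
theorem F68780 : act 1 n17490 = n16901 := d11_1 D17490 (iv D16901) (iv F66664)
theorem F68781 : act 7 n17490 = n16889 := d31_2 (iv F66665) D17490 (iv D16889)
def n17491 : Q := act 4 n16886
theorem D17491 : act 4 n16886 = n17491 := rfl
theorem F68782 : act 1 n17491 = n17153 := d10_1 D17491 (iv D17153) (iv F66666)
theorem F68783 : act 2 n17491 = n16887 := d16_1 D17491 (iv D16887) D16886
theorem F68784 : act 8 n17491 = n17176 := d29_2 (iv F66669) D17491 (iv D17176)
def n17492 : Q := act 5 n16887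
theorem D17492 : act 5 n16887 = n17492 := rfl
theorem F68785 : act 1 n17492 = n16904 := d11_1 D17492 (iv D16904) (iv F66670)
theorem F68786 : act 4 n17492 = n16889 := d26_1 D17492 (iv D16889) (iv D16290) (iv F64481) D16887
def n17493 : Q := act 5 n16888
theorem D17493 : act 5 n16888 = n17493 := rfl
theorem F68787 : act 1 n17493 = n17155 := d11_1 D17493 (iv D17155) (iv F66671)
theorem F68788 : act 2 n17493 = n16889 := d17_1 D17493 (iv D16889) (iv F66672)
theorem F68789 : act 8 n17493 = n17181 := d32_2 (iv F66673) D17493 (iv D17181)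
def n17494 : Q := act 6 n16889
theorem D17494 : act 6 n16889 = n17494 := rfl
theorem F68790 : act 1 n17494 = n16906 := d12_1 D17494 (iv D16906) (iv F66674)
theorem F68791 : act 3 n17494 = n16892 := d23_1 D17494 (iv D16892) (iv F66675)
def n17495 : Q := act 5 n16890
theorem D17495 : act 5 n16890 = n17495 := rfl
theorem F68792 : act 3 n17495 = n16891 := d22_1 D17495 (iv D16891) D16890
def n17496 : Q := act 7 n16890
theorem D17496 : act 7 n16890 = n17496 := rfl
theorem F68793 : act 4 n17496 = n16911 := d28_1 D17496 (iv D16911) (iv F66676)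
def n17497 : Q := act 6 n16891
theorem D17497 : act 6 n16891 = n17497 := rfl
theorem F68794 : act 2 n17497 = n16892 := d18_1 D17497 (iv D16892) (iv F66677)
def n17498 : Q := act 4 n16893
theorem D17498 : act 4 n16893 = n17498 := rfl
theorem F68795 : act 0 n17498 = n17032 := d3_1 D17498 (iv D17032) (iv F66679)
theorem F68796 : act 3 n17498 = n16897 := d21_1 D17498 (iv D16897) (iv D16296) (iv F64491) D16893
def n17499 : Q := act 4 n16894
theorem D17499 : act 4 n16894 = n17499 := rfl
theorem F68797 : act 0 n17499 = n17033 := d3_1 D17499 (iv D17033) (iv F66680)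
theorem F68798 : act 6 n17499 = n16897 := d27_2 (iv F66681) D17499 (iv D16897)
theorem F68799 : act 7 n17499 = n16902 := d28_2 (iv F66682) D17499 (iv D16902)
theorem F68800 : act 8 n17499 = n17498 := d29_2 (iv F66683) D17499 (iv D17498)
def n17500 : Q := act 4 n16895
theorem D17500 : act 4 n16895 = n17500 := rfl
theorem F68801 : act 0 n17500 = n17034 := d3_1 D17500 (iv D17034) (iv F66684)
theorem F68802 : act 3 n17500 = n17499 := d21_1 D17500 (iv D17499) (iv D16894) (iv F64498) D16895
theorem F68803 : act 6 n17500 = n17498 := d27_2 (iv F66686) D17500 (iv D17498)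
theorem F68804 : act 8 n17500 = n16897 := d29_2 (iv F66687) D17500 (iv D16897)
def n17501 : Q := act 4 n16896
theorem D17501 : act 4 n16896 = n17501 := rfl
theorem F68805 : act 0 n17501 = n17035 := d3_1 D17501 (iv D17035) (iv F66688)
theorem F68806 : act 1 n17501 = n17148 := d10_1 D17501 (iv D17148) F66692
theorem F68807 : act 2 n17501 = n16897 := d16_1 D17501 (iv D16897) D16896
theorem F68808 : act 3 n17501 = n17418 := d21_1 D17501 (iv D17418) (iv D16822) (iv F64558) (iv F66689)
theorem F68809 : act 7 n17501 = n16903 := d28_2 (iv F66691) D17501 (iv D16903)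
def n17502 : Q := act 5 n16897
theorem D17502 : act 5 n16897 = n17502 := rfl
theorem F68810 : act 0 n17502 = n17036 := d4_1 D17502 (iv D17036) (iv F66693)
theorem F68811 : act 4 n17502 = n16901 := d26_1 D17502 (iv D16901) (iv D16299) (iv F64503) D16897
theorem F68812 : act 7 n17502 = n16904 := d31_2 (iv F66694) D17502 (iv D16904)
def n17503 : Q := act 4 n16898
theorem D17503 : act 4 n16898 = n17503 := rfl
theorem F68813 : act 0 n17503 = n17037 := d3_1 D17503 (iv D17037) (iv F66695)
theorem F68814 : act 1 n17503 = n17150 := d10_1 D17503 (iv D17150) F66700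
theorem F68815 : act 2 n17503 = n16899 := d16_1 D17503 (iv D16899) D16898
theorem F68816 : act 6 n17503 = n16989 := d27_2 (iv F66697) D17503 (iv D16989)
theorem F68817 : act 7 n17503 = n16998 := d28_2 (iv F66698) D17503 (iv D16998)
theorem F68818 : act 8 n17503 = n16900 := d29_2 (iv F66699) D17503 (iv D16900)
def n17504 : Q := act 5 n16899
theorem D17504 : act 5 n16899 = n17504 := rfl
theorem F68819 : act 0 n17504 = n17038 := d4_1 D17504 (iv D17038) (iv F66701)
theorem F68820 : act 8 n17504 = n16901 := d32_2 (iv F66702) D17504 (iv D16901)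
def n17505 : Q := act 3 n16900
theorem D17505 : act 3 n16900 = n17505 := rfl
theorem F68821 : act 0 n17505 = n17040 := d2_1 D17505 (iv D17040) (iv F66703)
theorem F68822 : act 1 n17505 = n17133 := d9_1 D17505 F67446 (iv F66704)
theorem F68823 : act 4 n17505 = n16909 := d21_2 D16900 D17505 (iv D16909) (iv D16313) (iv F64508)
theorem F68824 : act 6 n17505 = n16956 := d23_2 (iv F66706) D17505 F66901
theorem F68825 : act 7 n17505 = n16938 := d24_2 (iv F66707) D17505 F66833 F64693 (iv F64525)
def n17506 : Q := act 5 n16900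
theorem D17506 : act 5 n16900 = n17506 := rfl
theorem F68826 : act 0 n17506 = n17041 := d4_1 D17506 (iv D17041) (iv F66703)
theorem F68827 : act 1 n17506 = n17152 := d11_1 D17506 (iv D17152) (iv F66704)
theorem F68828 : act 2 n17506 = n16901 := d17_1 D17506 (iv D16901) (iv F66705)
theorem F68829 : act 7 n17506 = n16905 := d31_2 (iv F66707) D17506 (iv D16905)
def n17507 : Q := act 6 n16901
theorem D17507 : act 6 n16901 = n17507 := rfl
theorem F68830 : act 0 n17507 = n17042 := d5_1 D17507 (iv D17042) (iv F66708)
theorem F68831 : act 7 n17507 = n16906 := d33_2 (iv F66709) D17507 (iv D16906)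
def n17508 : Q := act 5 n16902
theorem D17508 : act 5 n16902 = n17508 := rfl
theorem F68832 : act 0 n17508 = n17043 := d4_1 D17508 (iv D17043) (iv F66710)
def n17509 : Q := act 5 n16903
theorem D17509 : act 5 n16903 = n17509 := rfl
theorem F68833 : act 0 n17509 = n17044 := d4_1 D17509 (iv D17044) (iv F66712)
theorem F68834 : act 1 n17509 = n17154 := d11_1 D17509 (iv D17154) (iv F66713)
theorem F68835 : act 2 n17509 = n16904 := d17_1 D17509 (iv D16904) (iv F66714)
theorem F68836 : act 4 n17509 = n16905 := d26_1 D17509 (iv D16905) (iv D16303) (iv F64518) D16903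
theorem F68837 : act 8 n17509 = n17001 := d32_2 (iv F66715) D17509 (iv D17001)
def n17510 : Q := act 6 n16904
theorem D17510 : act 6 n16904 = n17510 := rfl
theorem F68838 : act 0 n17510 = n17045 := d5_1 D17510 (iv D17045) (iv F66716)
theorem F68839 : act 4 n17510 = n16906 := d27_1 D17510 (iv D16906) (iv F66717)
def n17511 : Q := act 6 n16905
theorem D17511 : act 6 n16905 = n17511 := rfl
theorem F68840 : act 0 n17511 = n17047 := d5_1 D17511 (iv D17047) (iv F66718)
theorem F68841 : act 1 n17511 = n17156 := d12_1 D17511 (iv D17156) (iv F66719)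
theorem F68842 : act 2 n17511 = n16906 := d18_1 D17511 (iv D16906) (iv F66720)
theorem F68843 : act 3 n17511 = n16968 := d23_1 D17511 (iv D16968) (iv F66721)
theorem F68844 : act 5 n17511 = n16993 := d30_1 D17511 (iv D16993) (iv D16395) (iv F64526) D16905
theorem F68845 : act 8 n17511 = n17002 := d34_2 (iv F66722) D17511 (iv D17002)
def n17512 : Q := act 3 n16908
theorem D17512 : act 3 n16908 = n17512 := rfl
theorem F68846 : act 0 n17512 = n16947 := d2_1 D17512 (iv D16947) (iv F66731)
theorem F68847 : act 1 n17512 = n17131 := d9_1 D17512 (iv D17131) (iv F66732)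
theorem F68848 : act 5 n17512 = n16942 := d22_2 (iv F66734) D17512 (iv D16942)
theorem F68849 : act 6 n17512 = n16954 := d23_2 (iv F66735) D17512 (iv D16954)
theorem F68850 : act 8 n17512 = n16909 := d25_2 (iv F66737) D17512 (iv D16909)
def n17513 : Q := act 7 n16910
theorem D17513 : act 7 n16910 = n17513 := rfl
theorem F68851 : act 0 n17513 = n17128 := d6_1 D17513 (iv D17128) (iv F66743)
theorem F68852 : act 1 n17513 = n17106 := d13_1 D17513 F67366 (iv F66744)
theorem F68853 : act 3 n17513 = n16912 := d24_1 D17513 (iv D16912) (iv D16321) (iv F64598) D16910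
theorem F68854 : act 5 n17513 = n17110 := d31_1 D17513 F67376 (iv F66745)
theorem F68855 : act 6 n17513 = n16911 := d33_1 D17513 (iv D16911) (iv F66746)
def n17514 : Q := act 8 n16911
theorem D17514 : act 8 n16911 = n17514 := rfl
theorem F68856 : act 3 n17514 = n16913 := d25_1 D17514 (iv D16913) (iv F66747)
def n17515 : Q := act 8 n16912
theorem D17515 : act 8 n16912 = n17515 := rfl
theorem F68857 : act 0 n17515 = n17129 := d7_1 D17515 (iv D17129) (iv F66748)
theorem F68858 : act 1 n17515 = n17119 := d14_1 D17515 F67399 (iv F66749)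
theorem F68859 : act 2 n17515 = n17515 := d20_1 D17515 (iv D17515) F66750
theorem F68860 : act 4 n17515 = n17399 := d29_1 D17515 F68426 (iv F66751)
theorem F68861 : act 5 n17515 = n17120 := d32_1 D17515 F67402 (iv F66752)
theorem F68862 : act 6 n17515 = n16913 := d34_1 D17515 (iv D16913) (iv F66753)
theorem F68863 : act 7 n17515 = n17515 := d35_1 D17515 (iv D17515) (iv D16912) F64613 D16912
def n17516 : Q := act 5 n16914
theorem D17516 : act 5 n16914 = n17516 := rfl
theorem F68864 : act 1 n17516 = n16917 := d11_1 D17516 (iv D16917) (iv F66756)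
theorem F68865 : act 4 n17516 = n16939 := d26_1 D17516 (iv D16939) (iv D16348) (iv F64616) D16914
theorem F68866 : act 7 n17516 = n16918 := d31_2 (iv F66757) D17516 (iv D16918)
theorem F68867 : act 8 n17516 = n17275 := d32_2 (iv F66758) D17516 (iv D17275)
def n17517 : Q := act 4 n16915
theorem D17517 : act 4 n16915 = n17517 := rfl
theorem F68868 : act 0 n17517 = n17339 := d3_1 D17517 (iv D17339) (iv F66759)
theorem F68869 : act 2 n17517 = n16916 := d16_1 D17517 (iv D16916) D16915
theorem F68870 : act 3 n17517 = n16961 := d21_1 D17517 (iv D16961) F64767 (iv F64627) (iv F66760)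
theorem F68871 : act 6 n17517 = n17256 := d27_2 (iv F66761) D17517 (iv D17256)
theorem F68872 : act 7 n17517 = n17236 := d28_2 (iv F66762) D17517 (iv D17236)
theorem F68873 : act 8 n17517 = n17283 := d29_2 (iv F66763) D17517 (iv D17283)
def n17518 : Q := act 5 n16916
theorem D17518 : act 5 n16916 = n17518 := rfl
theorem F68874 : act 0 n17518 = n17340 := d4_1 D17518 (iv D17340) (iv F66764)
theorem F68875 : act 3 n17518 = n16917 := d22_1 D17518 (iv D16917) (iv F66765)
theorem F68876 : act 7 n17518 = n17237 := d31_2 (iv F66767) D17518 (iv D17237)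
theorem F68877 : act 8 n17518 = n17284 := d32_2 (iv F66768) D17518 (iv D17284)
def n17519 : Q := act 6 n16917
theorem D17519 : act 6 n16917 = n17519 := rfl
theorem F68878 : act 2 n17519 = n16963 := d18_1 D17519 (iv D16963) (iv F66769)
theorem F68879 : act 4 n17519 = n17140 := d27_1 D17519 (iv D17140) (iv F66770)
theorem F68880 : act 7 n17519 = n16919 := d33_2 (iv F66771) D17519 (iv D16919)
theorem F68881 : act 8 n17519 = n17285 := d34_2 (iv F66772) D17519 (iv D17285)
def n17520 : Q := act 6 n16918
theorem D17520 : act 6 n16918 = n17520 := rfl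
theorem F68882 : act 1 n17520 = n16919 := d12_1 D17520 (iv D16919) (iv F66773)
theorem F68883 : act 4 n17520 = n16968 := d27_1 D17520 (iv D16968) (iv F66774)
theorem F68884 : act 8 n17520 = n16929 := d34_2 (iv F66775) D17520 (iv D16929)
def n17521 : Q := act 2 n16921
theorem D17521 : act 2 n16921 = n17521 := rfl
theorem F68885 : act 3 n17521 = n17521 := d15_2 D16921 D17521 (iv D17521) (iv D16921) F64639
theorem F68886 : act 5 n17521 = n16923 := d17_2 (iv F66783) D17521 (iv D16923)
theorem F68887 : act 7 n17521 = n16925 := d19_2 (iv F66784) D17521 (iv D16925)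
theorem F68888 : act 8 n17521 = n17459 := d20_2 (iv F66785) D17521 (iv D17459)
def n17522 : Q := act 4 n16921
theorem D17522 : act 4 n16921 = n17522 := rfl
theorem F68889 : act 1 n17522 = n16932 := d10_1 D17522 (iv D16932) (iv F66782)
theorem F68890 : act 7 n17522 = n16926 := d28_2 (iv F66784) D17522 (iv D16926)
theorem F68891 : act 8 n17522 = n17460 := d29_2 (iv F66785) D17522 (iv D17460)
def n17523 : Q := act 2 n16922
theorem D17523 : act 2 n16922 = n17523 := rfl
theorem F68892 : act 0 n17523 = n17521 := d1_1 D17523 (iv D17521) (iv F66786)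
theorem F68893 : act 1 n17523 = n17424 := d8_1 D17523 (iv D17424) F66448 F64710 (iv F66787)
theorem F68894 : act 3 n17523 = n17523 := d15_2 D16922 D17523 (iv D17523) (iv D16922) F64644
theorem F68895 : act 5 n17523 = n17459 := d17_2 (iv F66788) D17523 (iv D17459)
theorem F68896 : act 6 n17523 = n17196 := d18_2 (iv F66789) D17523 (iv D17196)
theorem F68897 : act 7 n17523 = n17207 := d19_2 (iv F66790) D17523 (iv D17207)
theorem F68898 : act 8 n17523 = n16923 := d20_2 (iv F66791) D17523 (iv D16923)
def n17524 : Q := act 4 n16922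
theorem D17524 : act 4 n16922 = n17524 := rfl
theorem F68899 : act 0 n17524 = n17522 := d3_1 D17524 (iv D17522) (iv F66786)
theorem F68900 : act 1 n17524 = n16933 := d10_1 D17524 (iv D16933) (iv F66787)
theorem F68901 : act 3 n17524 = n17363 := d21_1 D17524 (iv D17363) (iv D16763) (iv F64645) D16922
theorem F68902 : act 6 n17524 = n17197 := d27_2 (iv F66789) D17524 (iv D17197)
theorem F68903 : act 7 n17524 = n17208 := d28_2 (iv F66790) D17524 (iv D17208)
theorem F68904 : act 8 n17524 = n16924 := d29_2 (iv F66791) D17524 (iv D16924)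
def n17525 : Q := act 4 n16923
theorem D17525 : act 4 n16923 = n17525 := rfl
theorem F68905 : act 2 n17525 = n16924 := d16_1 D17525 (iv D16924) D16923
theorem F68906 : act 7 n17525 = n16927 := d28_2 (iv F66793) D17525 (iv D16927)
def n17526 : Q := act 5 n16924
theorem D17526 : act 5 n16924 = n17526 := rfl
theorem F68907 : act 1 n17526 = n16934 := d11_1 D17526 (iv D16934) (iv F66794)
theorem F68908 : act 3 n17526 = n17366 := d22_1 D17526 (iv D17366) (iv F66795)
theorem F68909 : act 7 n17526 = n16928 := d31_2 (iv F66796) D17526 (iv D16928)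
def n17527 : Q := act 4 n16925
theorem D17527 : act 4 n16925 = n17527 := rfl
theorem F68910 : act 2 n17527 = n16926 := d16_1 D17527 (iv D16926) D16925
def n17528 : Q := act 5 n16926
theorem D17528 : act 5 n16926 = n17528 := rfl
theorem F68911 : act 1 n17528 = n16935 := d11_1 D17528 (iv D16935) (iv F66799)
theorem F68912 : act 3 n17528 = n17001 := d22_1 D17528 (iv D17001) (iv F66800)
theorem F68913 : act 4 n17528 = n16928 := d26_1 D17528 (iv D16928) (iv D16335) (iv F64652) D16926
def n17529 : Q := act 5 n16927
theorem D17529 : act 5 n16927 = n17529 := rfl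
theorem F68914 : act 2 n17529 = n16928 := d17_1 D17529 (iv D16928) (iv F66801)
def n17530 : Q := act 6 n16928
theorem D17530 : act 6 n16928 = n17530 := rfl
theorem F68915 : act 1 n17530 = n16936 := d12_1 D17530 (iv D16936) (iv F66802)
theorem F68916 : act 3 n17530 = n16929 := d23_1 D17530 (iv D16929) (iv F66803)
def n17531 : Q := act 4 n16930
theorem D17531 : act 4 n16930 = n17531 := rfl
theorem F68917 : act 2 n17531 = n17498 := d16_1 D17531 (iv D17498) (iv F66807)
theorem F68918 : act 3 n17531 = n16932 := d21_1 D17531 (iv D16932) (iv D16339) (iv F64660) D16930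
theorem F68919 : act 7 n17531 = n17158 := d28_2 (iv F66809) D17531 (iv D17158)
def n17532 : Q := act 4 n16931
theorem D17532 : act 4 n16931 = n17532 := rfl
theorem F68920 : act 0 n17532 = n17268 := d3_1 D17532 (iv D17268) (iv F66810)
theorem F68921 : act 1 n17532 = n17460 := d10_1 D17532 (iv D17460) (iv F66811)
theorem F68922 : act 2 n17532 = n17272 := d16_1 D17532 (iv D17272) (iv F66812)
theorem F68923 : act 6 n17532 = n17418 := d27_2 (iv F66814) D17532 (iv D17418)
theorem F68924 : act 7 n17532 = n17206 := d28_2 (iv F66815) D17532 (iv D17206)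
theorem F68925 : act 8 n17532 = n16932 := d29_2 (iv F66816) D17532 (iv D16932)
def n17533 : Q := act 5 n16932
theorem D17533 : act 5 n16932 = n17533 := rfl
theorem F68926 : act 4 n17533 = n16934 := d26_1 D17533 (iv D16934) (iv D16341) (iv F64668) D16932
theorem F68927 : act 7 n17533 = n16935 := d31_2 (iv F66817) D17533 (iv D16935)
def n17534 : Q := act 5 n16933
theorem D17534 : act 5 n16933 = n17534 := rfl
theorem F68928 : act 0 n17534 = n17270 := d4_1 D17534 (iv D17270) (iv F66818)
theorem F68929 : act 3 n17534 = n17383 := d22_1 D17534 (iv D17383) (iv F66819)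
theorem F68930 : act 7 n17534 = n17212 := d31_2 (iv F66821) D17534 (iv D17212)
theorem F68931 : act 8 n17534 = n16934 := d32_2 (iv F66822) D17534 (iv D16934)
def n17535 : Q := act 6 n16934
theorem D17535 : act 6 n16934 = n17535 := rfl
theorem F68932 : act 3 n17535 = n17388 := d23_1 D17535 (iv D17388) (iv F66823)
theorem F68933 : act 7 n17535 = n16936 := d33_2 (iv F66824) D17535 (iv D16936)
def n17536 : Q := act 6 n16935
theorem D17536 : act 6 n16935 = n17536 := rfl
theorem F68934 : act 3 n17536 = n17179 := d23_1 D17536 (iv D17179) (iv F66825)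
theorem F68935 : act 4 n17536 = n16936 := d27_1 D17536 (iv D16936) (iv F66826)
def n17537 : Q := act 1 n16937
theorem D17537 : act 1 n16937 = n17537 := rfl
theorem F68936 : act 2 n17537 = n17137 := d8_2 D16937 D17537 (iv D17137) (iv D16553) (iv F64689)
theorem F68937 : act 3 n17537 = n16940 := d9_2 (iv F66829) D17537 (iv D16940)
theorem F68938 : act 5 n17537 = n17191 := d11_2 (iv F66830) D17537 F67599
theorem F68939 : act 6 n17537 = n16960 := d12_2 (iv F66831) D17537 (iv D16960)
def n17538 : Q := act 4 n16937
theorem D17538 : act 4 n16937 = n17538 := rfl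
theorem F68940 : act 0 n17538 = n17386 := d3_1 D17538 F68388 (iv F66828)
theorem F68941 : act 2 n17538 = n16938 := d16_1 D17538 (iv D16938) D16937
theorem F68942 : act 3 n17538 = n17256 := d21_1 D17538 (iv D17256) F65804 (iv F64695) (iv F66829)
theorem F68943 : act 6 n17538 = n16961 := d27_2 (iv F66831) D17538 (iv D16961)
def n17539 : Q := act 5 n16938
theorem D17539 : act 5 n16938 = n17539 := rfl
theorem F68944 : act 1 n17539 = n17139 := d11_1 D17539 (iv D17139) (iv F66832)
theorem F68945 : act 3 n17539 = n16939 := d22_1 D17539 (iv D16939) (iv F66833)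
def n17540 : Q := act 6 n16939
theorem D17540 : act 6 n16939 = n17540 := rfl
theorem F68946 : act 1 n17540 = n17140 := d12_1 D17540 (iv D17140) (iv F66835)
theorem F68947 : act 5 n17540 = n16963 := d30_1 D17540 (iv D16963) (iv D16368) (iv F64692) D16939
theorem F68948 : act 7 n17540 = n16968 := d33_2 (iv F66836) D17540 (iv D16968)
def n17541 : Q := act 0 n16940
theorem D17541 : act 0 n16940 = n17541 := rfl
theorem F68949 : act 1 n17541 = n17403 := d0_2 D16940 D17541 F68441 F66328 (iv F64694)
theorem F68950 : act 2 n17541 = n17050 := d1_2 (iv F66837) D17541 (iv D17050)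
theorem F68951 : act 4 n17541 = n17265 := d3_2 (iv F66838) D17541 (iv D17265)
theorem F68952 : act 5 n17541 = n17190 := d4_2 (iv F66839) D17541 F67596
theorem F68953 : act 6 n17541 = n16967 := d5_2 (iv F66840) D17541 (iv D16967)
theorem F68954 : act 7 n17541 = n17066 := d6_2 (iv F66841) D17541 (iv D17066)
def n17542 : Q := act 3 n16941
theorem D17542 : act 3 n16941 = n17542 := rfl
theorem F68955 : act 0 n17542 = n16946 := d2_1 D17542 (iv D16946) (iv F66842)
theorem F68956 : act 6 n17542 = n17078 := d23_2 (iv F66845) D17542 (iv D17078)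
theorem F68957 : act 7 n17542 = n16942 := d24_2 D16941 D17542 (iv D16942) (iv D16351) (iv F64701)
def n17543 : Q := act 4 n16942
theorem D17543 : act 4 n16942 = n17543 := rfl
theorem F68958 : act 0 n17543 = n16949 := d3_1 D17543 (iv D16949) (iv F66846)
theorem F68959 : act 3 n17543 = n16943 := d21_1 D17543 (iv D16943) (iv D16352) (iv F64706) D16942
theorem F68960 : act 6 n17543 = n17081 := d27_2 (iv F66847) D17543 (iv D17081)
theorem F68961 : act 8 n17543 = n17421 := d29_2 (iv F66848) D17543 (iv D17421)
def n17544 : Q := act 5 n16943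
theorem D17544 : act 5 n16943 = n17544 := rfl
theorem F68962 : act 0 n17544 = n16950 := d4_1 D17544 (iv D16950) (iv F66849)
theorem F68963 : act 2 n17544 = n17534 := d17_1 D17544 (iv D17534) (iv F66850)
theorem F68964 : act 7 n17544 = n16973 := d31_2 (iv F66852) D17544 (iv D16973)
theorem F68965 : act 8 n17544 = n17422 := d32_2 (iv F66853) D17544 (iv D17422)
def n17545 : Q := act 3 n16944
theorem D17545 : act 3 n16944 = n17545 := rfl
theorem F68966 : act 1 n17545 = n16953 := d9_1 D17545 (iv D16953) (iv F66854)
theorem F68967 : act 5 n17545 = n16946 := d22_2 (iv F66856) D17545 (iv D16946)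
theorem F68968 : act 6 n17545 = n17426 := d23_2 (iv F66857) D17545 (iv D17426)
theorem F68969 : act 7 n17545 = n16947 := d24_2 D16944 D17545 (iv D16947) (iv D16356) (iv F64716)
theorem F68970 : act 8 n17545 = n17542 := d25_2 (iv F66858) D17545 (iv D17542)
def n17546 : Q := act 3 n16945
theorem D17546 : act 3 n16945 = n17546 := rfl
theorem F68971 : act 0 n17546 = n17545 := d2_1 D17546 (iv D17545) (iv F66859)
theorem F68972 : act 1 n17546 = n16954 := d9_1 D17546 (iv D16954) (iv F66860)
theorem F68973 : act 5 n17546 = n17542 := d22_2 (iv F66863) D17546 (iv D17542)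
theorem F68974 : act 6 n17546 = n17131 := d23_2 (iv F66864) D17546 (iv D17131)
theorem F68975 : act 7 n17546 = n17512 := d24_2 D16945 D17546 (iv D17512) F66736 (iv F64722)
theorem F68976 : act 8 n17546 = n16946 := d25_2 (iv F66865) D17546 (iv D16946)
def n17547 : Q := act 2 n16946
theorem D17547 : act 2 n16946 = n17547 := rfl
theorem F68977 : act 3 n17547 = n17547 := d15_2 D16946 D17547 (iv D17547) (iv D16946) F64727
theorem F68978 : act 6 n17547 = n17132 := d18_2 (iv F66867) D17547 (iv D17132)
theorem F68979 : act 7 n17547 = n16948 := d19_2 (iv F66868) D17547 (iv D16948)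
def n17548 : Q := act 4 n16946
theorem D17548 : act 4 n16946 = n17548 := rfl
theorem F68980 : act 1 n17548 = n16956 := d10_1 D17548 (iv D16956) (iv F66866)
theorem F68981 : act 3 n17548 = n16979 := d21_1 D17548 (iv D16979) (iv D16382) (iv F64728) D16946
theorem F68982 : act 6 n17548 = n17133 := d27_2 (iv F66867) D17548 (iv D17133)
theorem F68983 : act 7 n17548 = n16949 := d28_2 (iv F66868) D17548 (iv D16949)
def n17549 : Q := act 4 n16947
theorem D17549 : act 4 n16947 = n17549 := rfl
theorem F68984 : act 1 n17549 = n16959 := d10_1 D17549 (iv D16959) (iv F66869)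
theorem F68985 : act 3 n17549 = n17037 := d21_1 D17549 (iv D17037) F64978 (iv F64732) D16947
theorem F68986 : act 8 n17549 = n17040 := d29_2 (iv F66871) D17549 F67144
def n17550 : Q := act 1 n16948
theorem D17550 : act 1 n16948 = n17550 := rfl
theorem F68987 : act 2 n17550 = n16960 := d8_2 D16948 D17550 (iv D16960) (iv D16366) (iv F64735)
theorem F68988 : act 3 n17550 = n17051 := d9_2 (iv F66872) D17550 (iv D17051)
theorem F68989 : act 6 n17550 = n17137 := d12_2 (iv F66873) D17550 (iv D17137)
theorem F68990 : act 8 n17550 = n17537 := d14_2 (iv F66874) D17550 (iv D17537)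
def n17551 : Q := act 4 n16948
theorem D17551 : act 4 n16948 = n17551 := rfl
theorem F68991 : act 2 n17551 = n16949 := d16_1 D17551 (iv D16949) D16948
theorem F68992 : act 6 n17551 = n17138 := d27_2 (iv F66873) D17551 (iv D17138)
theorem F68993 : act 8 n17551 = n17538 := d29_2 (iv F66874) D17551 (iv D17538)
def n17552 : Q := act 5 n16949
theorem D17552 : act 5 n16949 = n17552 := rfl
theorem F68994 : act 1 n17552 = n16962 := d11_1 D17552 (iv D16962) (iv F66875)
theorem F68995 : act 3 n17552 = n16950 := d22_1 D17552 (iv D16950) (iv F66876)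
theorem F68996 : act 8 n17552 = n17539 := d32_2 (iv F66878) D17552 (iv D17539)
def n17553 : Q := act 6 n16950
theorem D17553 : act 6 n16950 = n17553 := rfl
theorem F68997 : act 1 n17553 = n16963 := d12_1 D17553 (iv D16963) (iv F66879)
theorem F68998 : act 5 n17553 = n17140 := d30_1 D17553 (iv D17140) (iv D16555) (iv F64739) D16950
theorem F68999 : act 7 n17553 = n16984 := d33_2 (iv F66880) D17553 (iv D16984)
theorem F69000 : act 8 n17553 = n17540 := d34_2 (iv F66881) D17553 (iv D17540)
def n17554 : Q := act 3 n16951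
theorem D17554 : act 3 n16951 = n17554 := rfl
theorem F69001 : act 0 n17554 = n17279 := d2_1 D17554 (iv D17279) (iv F66882)
theorem F69002 : act 5 n17554 = n16985 := d22_2 (iv F66885) D17554 (iv D16985)
theorem F69003 : act 6 n17554 = n17199 := d23_2 (iv F66886) D17554 (iv D17199)
theorem F69004 : act 7 n17554 = n17476 := d24_2 D16951 D17554 (iv D17476) (iv D16874) (iv F64744)
theorem F69005 : act 8 n17554 = n17335 := d25_2 (iv F66887) D17554 (iv D17335)
def n17555 : Q := act 3 n16952
theorem D17555 : act 3 n16952 = n17555 := rfl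
theorem F69006 : act 0 n17555 = n17134 := d2_1 D17555 (iv D17134) (iv F66888)
theorem F69007 : act 1 n17555 = n17542 := d9_1 D17555 (iv D17542) (iv F66889)
theorem F69008 : act 5 n17555 = n16954 := d22_2 (iv F66892) D17555 (iv D16954)
theorem F69009 : act 6 n17555 = n17079 := d23_2 (iv F66893) D17555 (iv D17079)
theorem F69010 : act 7 n17555 = n17423 := d24_2 D16952 D17555 (iv D17423) (iv D16826) (iv F64751)
theorem F69011 : act 8 n17555 = n16953 := d25_2 (iv F66894) D17555 (iv D16953)
def n17556 : Q := act 2 n16953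
theorem D17556 : act 2 n16953 = n17556 := rfl
theorem F69012 : act 3 n17556 = n17068 := d15_2 D16953 D17556 (iv D17068) (iv D16488) (iv F64755)
theorem F69013 : act 5 n17556 = n16955 := d17_2 (iv F66895) D17556 (iv D16955)
theorem F69014 : act 6 n17556 = n17433 := d18_2 (iv F66896) D17556 (iv D17433)
theorem F69015 : act 7 n17556 = n16958 := d19_2 (iv F66897) D17556 (iv D16958)
def n17557 : Q := act 4 n16953
theorem D17557 : act 4 n16953 = n17557 := rfl
theorem F69016 : act 6 n17557 = n17434 := d27_2 (iv F66896) D17557 (iv D17434)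
theorem F69017 : act 7 n17557 = n16959 := d28_2 (iv F66897) D17557 (iv D16959)
def n17558 : Q := act 2 n16954
theorem D17558 : act 2 n16954 = n17558 := rfl
theorem F69018 : act 3 n17558 = n17069 := d15_2 D16954 D17558 (iv D17069) (iv D16489) (iv F64758)
theorem F69019 : act 8 n17558 = n16955 := d20_2 (iv F66898) D17558 (iv D16955)
def n17559 : Q := act 4 n16954
theorem D17559 : act 4 n16954 = n17559 := rfl
theorem F69020 : act 3 n17559 = n16989 := d21_1 D17559 (iv D16989) (iv D16391) (iv F64759) D16954
theorem F69021 : act 8 n17559 = n16956 := d29_2 (iv F66898) D17559 (iv D16956)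
def n17560 : Q := act 1 n16955
theorem D17560 : act 1 n16955 = n17560 := rfl
theorem F69022 : act 3 n17560 = n17070 := d9_2 (iv F66899) D17560 (iv D17070)
theorem F69023 : act 7 n17560 = n16960 := d13_2 (iv F66900) D17560 (iv D16960)
def n17561 : Q := act 4 n16955
theorem D17561 : act 4 n16955 = n17561 := rfl
theorem F69024 : act 2 n17561 = n16956 := d16_1 D17561 (iv D16956) D16955
theorem F69025 : act 7 n17561 = n16961 := d28_2 (iv F66900) D17561 (iv D16961)
def n17562 : Q := act 5 n16956
theorem D17562 : act 5 n16956 = n17562 := rfl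
theorem F69026 : act 3 n17562 = n16990 := d22_1 D17562 (iv D16990) (iv F66901)
theorem F69027 : act 7 n17562 = n16962 := d31_2 (iv F66902) D17562 (iv D16962)
def n17563 : Q := act 2 n16957
theorem D17563 : act 2 n16957 = n17563 := rfl
theorem F69028 : act 0 n17563 = n17556 := d1_1 D17563 (iv D17556) (iv F66903)
theorem F69029 : act 3 n17563 = n16964 := d15_2 D16957 D17563 (iv D16964) (iv D16369) (iv F64763)
theorem F69030 : act 5 n17563 = n17062 := d17_2 (iv F66904) D17563 F67222
theorem F69031 : act 6 n17563 = n16958 := d18_2 (iv F66905) D17563 (iv D16958)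
theorem F69032 : act 7 n17563 = n17433 := d19_2 (iv F66906) D17563 (iv D17433)
def n17564 : Q := act 4 n16957
theorem D17564 : act 4 n16957 = n17564 := rfl
theorem F69033 : act 0 n17564 = n17557 := d3_1 D17564 (iv D17557) (iv F66903)
theorem F69034 : act 6 n17564 = n16959 := d27_2 (iv F66905) D17564 (iv D16959)
theorem F69035 : act 7 n17564 = n17434 := d28_2 (iv F66906) D17564 (iv D17434)
def n17565 : Q := act 1 n16958
theorem D17565 : act 1 n16958 = n17565 := rfl
theorem F69036 : act 3 n17565 = n16965 := d9_2 (iv F66907) D17565 (iv D16965)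
theorem F69037 : act 5 n17565 = n16960 := d11_2 (iv F66908) D17565 (iv D16960)
def n17566 : Q := act 4 n16958
theorem D17566 : act 4 n16958 = n17566 := rfl
theorem F69038 : act 2 n17566 = n16959 := d16_1 D17566 (iv D16959) D16958
def n17567 : Q := act 5 n16959
theorem D17567 : act 5 n16959 = n17567 := rfl
theorem F69039 : act 4 n17567 = n16962 := d26_1 D17567 (iv D16962) (iv D16367) (iv F64766) D16959
def n17568 : Q := act 0 n16960
theorem D17568 : act 0 n16960 = n17568 := rfl
theorem F69040 : act 3 n17568 = n16967 := d2_2 (iv F66909) D17568 (iv D16967)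
def n17569 : Q := act 4 n16960
theorem D17569 : act 4 n16960 = n17569 := rfl
theorem F69041 : act 1 n17569 = n16961 := d10_1 D17569 (iv D16961) D16960
def n17570 : Q := act 5 n16961
theorem D17570 : act 5 n16961 = n17570 := rfl
theorem F69042 : act 2 n17570 = n16962 := d17_1 D17570 (iv D16962) (iv F66910)
def n17571 : Q := act 6 n16962
theorem D17571 : act 6 n16962 = n17571 := rfl
theorem F69043 : act 3 n17571 = n16963 := d23_1 D17571 (iv D16963) (iv F66911)
def n17572 : Q := act 0 n16965
theorem D17572 : act 0 n16965 = n17572 := rfl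
theorem F69044 : act 2 n17572 = n17053 := d1_2 (iv F66916) D17572 (iv D17053)
theorem F69045 : act 4 n17572 = n17068 := d3_2 F66919 D17572 F67251
theorem F69046 : act 5 n17572 = n16967 := d4_2 (iv F66917) D17572 (iv D16967)
theorem F69047 : act 6 n17572 = n17440 := d5_2 F66922 D17572 F68587
theorem F69048 : act 7 n17572 = n17072 := d6_2 (iv F66918) D17572 F67267
def n17573 : Q := act 3 n16966
theorem D17573 : act 3 n16966 = n17573 := rfl
theorem F69049 : act 1 n17573 = n17563 := d9_1 D17573 F69029 (iv F66920)
theorem F69050 : act 6 n17573 = n17565 := d23_2 (iv F66922) D17573 F69036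
def n17574 : Q := act 3 n16969
theorem D17574 : act 3 n16969 = n17574 := rfl
theorem F69051 : act 0 n17574 = n16977 := d2_1 D17574 (iv D16977) (iv F66929)
theorem F69052 : act 1 n17574 = n17554 := d9_1 D17574 (iv D17554) (iv F66930)
theorem F69053 : act 6 n17574 = n17088 := d23_2 (iv F66933) D17574 (iv D17088)
theorem F69054 : act 7 n17574 = n17006 := d24_2 D16969 D17574 (iv D17006) (iv D16410) (iv F64785)
theorem F69055 : act 8 n17574 = n16970 := d25_2 (iv F66934) D17574 (iv D16970)
def n17575 : Q := act 2 n16970
theorem D17575 : act 2 n16970 = n17575 := rfl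
theorem F69056 : act 0 n17575 = n16978 := d1_1 D17575 (iv D16978) (iv F66935)
theorem F69057 : act 3 n17575 = n17575 := d15_2 D16970 D17575 (iv D17575) (iv D16970) F64789
theorem F69058 : act 6 n17575 = n17089 := d18_2 (iv F66936) D17575 (iv D17089)
theorem F69059 : act 7 n17575 = n16971 := d19_2 (iv F66937) D17575 (iv D16971)
def n17576 : Q := act 4 n16970
theorem D17576 : act 4 n16970 = n17576 := rfl
theorem F69060 : act 0 n17576 = n16979 := d3_1 D17576 (iv D16979) (iv F66935)
theorem F69061 : act 6 n17576 = n17090 := d27_2 (iv F66936) D17576 (iv D17090)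
theorem F69062 : act 7 n17576 = n16972 := d28_2 (iv F66937) D17576 (iv D16972)
def n17577 : Q := act 1 n16971
theorem D17577 : act 1 n16971 = n17577 := rfl
theorem F69063 : act 0 n17577 = n17098 := d0_1 D17577 (iv D17098) (iv F66580) F66581 (iv F66938)
theorem F69064 : act 2 n17577 = n17115 := d8_2 D16971 D17577 F67387 (iv F66143) F66142
theorem F69065 : act 3 n17577 = n17049 := d9_2 (iv F66939) D17577 (iv D17049)
theorem F69066 : act 5 n17577 = n17127 := d11_2 F68342 D17577 (iv F68340)
theorem F69067 : act 6 n17577 = n17091 := d12_2 (iv F66940) D17577 (iv D17091)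
theorem F69068 : act 8 n17577 = n17011 := d14_2 (iv F66941) D17577 (iv D17011)
def n17578 : Q := act 4 n16971
theorem D17578 : act 4 n16971 = n17578 := rfl
theorem F69069 : act 0 n17578 = n16982 := d3_1 D17578 (iv D16982) (iv F66938)
theorem F69070 : act 2 n17578 = n16972 := d16_1 D17578 (iv D16972) D16971
theorem F69071 : act 6 n17578 = n17092 := d27_2 (iv F66940) D17578 (iv D17092)
theorem F69072 : act 8 n17578 = n17012 := d29_2 (iv F66941) D17578 (iv D17012)
def n17579 : Q := act 5 n16972
theorem D17579 : act 5 n16972 = n17579 := rfl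
theorem F69073 : act 0 n17579 = n16983 := d4_1 D17579 (iv D16983) (iv F66942)
theorem F69074 : act 3 n17579 = n16973 := d22_1 D17579 (iv D16973) (iv F66943)
theorem F69075 : act 8 n17579 = n17013 := d32_2 (iv F66945) D17579 (iv D17013)
def n17580 : Q := act 6 n16973
theorem D17580 : act 6 n16973 = n17580 := rfl
theorem F69076 : act 0 n17580 = n16984 := d5_1 D17580 (iv D16984) (iv F66946)
theorem F69077 : act 5 n17580 = n17094 := d30_1 D17580 (iv D17094) (iv D16513) (iv F64795) D16973
theorem F69078 : act 8 n17580 = n17014 := d34_2 (iv F66947) D17580 (iv D17014)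
def n17581 : Q := act 3 n16974
theorem D17581 : act 3 n16974 = n17581 := rfl
theorem F69079 : act 1 n17581 = n16985 := d9_1 D17581 (iv D16985) (iv F66948)
theorem F69080 : act 5 n17581 = n17574 := d22_2 (iv F66951) D17581 (iv D17574)
theorem F69081 : act 6 n17581 = n17359 := d23_2 (iv F66952) D17581 (iv D17359)
theorem F69082 : act 8 n17581 = n17358 := d25_2 (iv F66953) D17581 (iv D17358)
def n17582 : Q := act 3 n16975
theorem D17582 : act 3 n16975 = n17582 := rfl
theorem F69083 : act 0 n17582 = n17581 := d2_1 D17582 (iv D17581) (iv F66954)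
theorem F69084 : act 1 n17582 = n16987 := d9_1 D17582 (iv D16987) (iv F66955)
theorem F69085 : act 5 n17582 = n16977 := d22_2 (iv F66958) D17582 (iv D16977)
theorem F69086 : act 6 n17582 = n17357 := d23_2 (iv F66959) D17582 (iv D17357)
theorem F69087 : act 7 n17582 = n17017 := d24_2 D16975 D17582 (iv D17017) (iv D16418) (iv F64805)
theorem F69088 : act 8 n17582 = n16976 := d25_2 (iv F66960) D17582 (iv D16976)
def n17583 : Q := act 2 n16976
theorem D17583 : act 2 n16976 = n17583 := rfl
theorem F69089 : act 3 n17583 = n17583 := d15_2 D16976 D17583 (iv D17583) (iv D16976) F64810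
theorem F69090 : act 5 n17583 = n16978 := d17_2 (iv F66962) D17583 (iv D16978)
theorem F69091 : act 7 n17583 = n16980 := d19_2 (iv F66963) D17583 (iv D16980)
def n17584 : Q := act 4 n16976
theorem D17584 : act 4 n16976 = n17584 := rfl
theorem F69092 : act 1 n17584 = n16988 := d10_1 D17584 (iv D16988) (iv F66961)
theorem F69093 : act 7 n17584 = n16981 := d28_2 (iv F66963) D17584 (iv D16981)
def n17585 : Q := act 2 n16977
theorem D17585 : act 2 n16977 = n17585 := rfl
theorem F69094 : act 3 n17585 = n17585 := d15_2 D16977 D17585 (iv D17585) (iv D16977) F64813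
theorem F69095 : act 6 n17585 = n17149 := d18_2 (iv F66965) D17585 (iv D17149)
theorem F69096 : act 7 n17585 = n17020 := d19_2 (iv F66966) D17585 (iv D17020)
theorem F69097 : act 8 n17585 = n16978 := d20_2 (iv F66967) D17585 (iv D16978)
def n17586 : Q := act 4 n16977
theorem D17586 : act 4 n16977 = n17586 := rfl
theorem F69098 : act 1 n17586 = n16989 := d10_1 D17586 (iv D16989) (iv F66964)
theorem F69099 : act 6 n17586 = n17150 := d27_2 (iv F66965) D17586 (iv D17150)
theorem F69100 : act 7 n17586 = n17021 := d28_2 (iv F66966) D17586 (iv D17021)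
theorem F69101 : act 8 n17586 = n16979 := d29_2 (iv F66967) D17586 (iv D16979)
def n17587 : Q := act 4 n16978
theorem D17587 : act 4 n16978 = n17587 := rfl
theorem F69102 : act 2 n17587 = n16979 := d16_1 D17587 (iv D16979) D16978
theorem F69103 : act 6 n17587 = n17151 := d27_2 (iv F66969) D17587 (iv D17151)
theorem F69104 : act 7 n17587 = n16982 := d28_2 (iv F66970) D17587 (iv D16982)
def n17588 : Q := act 5 n16979
theorem D17588 : act 5 n16979 = n17588 := rfl
theorem F69105 : act 1 n17588 = n16990 := d11_1 D17588 (iv D16990) (iv F66971)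
theorem F69106 : act 7 n17588 = n16983 := d31_2 (iv F66973) D17588 (iv D16983)
def n17589 : Q := act 4 n16980
theorem D17589 : act 4 n16980 = n17589 := rfl
theorem F69107 : act 2 n17589 = n16981 := d16_1 D17589 (iv D16981) D16980
theorem F69108 : act 8 n17589 = n17026 := d29_2 (iv F66976) D17589 (iv D17026)
def n17590 : Q := act 5 n16981
theorem D17590 : act 5 n16981 = n17590 := rfl
theorem F69109 : act 1 n17590 = n16992 := d11_1 D17590 (iv D16992) (iv F66977)
theorem F69110 : act 4 n17590 = n16983 := d26_1 D17590 (iv D16983) (iv D16385) (iv F64820) D16981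
theorem F69111 : act 8 n17590 = n17027 := d32_2 (iv F66978) D17590 (iv D17027)
def n17591 : Q := act 5 n16982
theorem D17591 : act 5 n16982 = n17591 := rfl
theorem F69112 : act 2 n17591 = n16983 := d17_1 D17591 (iv D16983) (iv F66979)
theorem F69113 : act 8 n17591 = n17029 := d32_2 (iv F66981) D17591 (iv D17029)
def n17592 : Q := act 6 n16983
theorem D17592 : act 6 n16983 = n17592 := rfl
theorem F69114 : act 1 n17592 = n16993 := d12_1 D17592 (iv D16993) (iv F66982)
theorem F69115 : act 3 n17592 = n16984 := d23_1 D17592 (iv D16984) (iv F66983)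
theorem F69116 : act 5 n17592 = n17156 := d30_1 D17592 (iv D17156) (iv D16569) (iv F64827) D16983
theorem F69117 : act 8 n17592 = n17030 := d34_2 (iv F66984) D17592 (iv D17030)
def n17593 : Q := act 2 n16985
theorem D17593 : act 2 n16985 = n17593 := rfl
theorem F69118 : act 3 n17593 = n17074 := d15_2 D16985 D17593 (iv D17074) (iv D16497) (iv F64831)
theorem F69119 : act 6 n17593 = n17376 := d18_2 (iv F66988) D17593 (iv D17376)
theorem F69120 : act 8 n17593 = n17267 := d20_2 (iv F66989) D17593 F67946
def n17594 : Q := act 4 n16985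
theorem D17594 : act 4 n16985 = n17594 := rfl
theorem F69121 : act 3 n17594 = n16988 := d21_1 D17594 (iv D16988) (iv D16390) (iv F64832) D16985
theorem F69122 : act 6 n17594 = n17377 := d27_2 (iv F66988) D17594 (iv D17377)
theorem F69123 : act 8 n17594 = n17375 := d29_2 (iv F66989) D17594 (iv D17375)
def n17595 : Q := act 4 n16986
theorem D17595 : act 4 n16986 = n17595 := rfl
theorem F69124 : act 3 n17595 = n17377 := d21_1 D17595 (iv D17377) (iv D16775) (iv F64836) D16986
theorem F69125 : act 6 n17595 = n16988 := d27_2 (iv F66990) D17595 (iv D16988)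
theorem F69126 : act 7 n17595 = n16991 := d28_2 (iv F66991) D17595 (iv D16991)
theorem F69127 : act 8 n17595 = n17374 := d29_2 (iv F66992) D17595 (iv D17374)
def n17596 : Q := act 4 n16987
theorem D17596 : act 4 n16987 = n17596 := rfl
theorem F69128 : act 3 n17596 = n17375 := d21_1 D17596 (iv D17375) (iv D16774) (iv F64840) D16987
theorem F69129 : act 6 n17596 = n17374 := d27_2 (iv F66994) D17596 (iv D17374)
theorem F69130 : act 7 n17596 = n17034 := d28_2 (iv F66995) D17596 (iv D17034)
theorem F69131 : act 8 n17596 = n16988 := d29_2 (iv F66996) D17596 (iv D16988)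
def n17597 : Q := act 5 n16988
theorem D17597 : act 5 n16988 = n17597 := rfl
theorem F69132 : act 4 n17597 = n16990 := d26_1 D17597 (iv D16990) (iv D16392) (iv F64844) D16988
theorem F69133 : act 7 n17597 = n16992 := d31_2 (iv F66997) D17597 (iv D16992)
def n17598 : Q := act 5 n16989
theorem D17598 : act 5 n16989 = n17598 := rfl
theorem F69134 : act 7 n17598 = n17038 := d31_2 (iv F66998) D17598 (iv D17038)
theorem F69135 : act 8 n17598 = n16990 := d32_2 (iv F66999) D17598 (iv D16990)
def n17599 : Q := act 6 n16990
theorem D17599 : act 6 n16990 = n17599 := rfl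
theorem F69136 : act 7 n17599 = n16993 := d33_2 (iv F67000) D17599 (iv D16993)
def n17600 : Q := act 5 n16991
theorem D17600 : act 5 n16991 = n17600 := rfl
theorem F69137 : act 8 n17600 = n17043 := d32_2 (iv F67002) D17600 (iv D17043)
def n17601 : Q := act 6 n16992
theorem D17601 : act 6 n16992 = n17601 := rfl
theorem F69138 : act 4 n17601 = n16993 := d27_1 D17601 (iv D16993) (iv F67003)
theorem F69139 : act 8 n17601 = n17045 := d34_2 (iv F67004) D17601 (iv D17045)
def n17602 : Q := act 2 n16994
theorem D17602 : act 2 n16994 = n17602 := rfl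
theorem F69140 : act 3 n17602 = n17048 := d15_2 D16994 D17602 (iv D17048) (iv D16446) (iv F64856)
theorem F69141 : act 6 n17602 = n17161 := d18_2 (iv F67008) D17602 (iv D17161)
theorem F69142 : act 8 n17602 = n17159 := d20_2 (iv F67009) D17602 (iv D17159)
def n17603 : Q := act 4 n16994
theorem D17603 : act 4 n16994 = n17603 := rfl
theorem F69143 : act 1 n17603 = n17158 := d10_1 D17603 (iv D17158) (iv F67007)
theorem F69144 : act 3 n17603 = n16997 := d21_1 D17603 (iv D16997) (iv D16400) (iv F64857) D16994
theorem F69145 : act 6 n17603 = n17162 := d27_2 (iv F67008) D17603 (iv D17162)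
theorem F69146 : act 8 n17603 = n17160 := d29_2 (iv F67009) D17603 (iv D17160)
def n17604 : Q := act 4 n16995
theorem D17604 : act 4 n16995 = n17604 := rfl
theorem F69147 : act 1 n17604 = n17160 := d10_1 D17604 (iv D17160) (iv F67010)
theorem F69148 : act 3 n17604 = n17162 := d21_1 D17604 (iv D17162) (iv D16573) (iv F64862) D16995
theorem F69149 : act 6 n17604 = n16997 := d27_2 (iv F67012) D17604 (iv D16997)
theorem F69150 : act 7 n17604 = n17000 := d28_2 (iv F67013) D17604 (iv D17000)
theorem F69151 : act 8 n17604 = n17158 := d29_2 (iv F67014) D17604 (iv D17158)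
def n17605 : Q := act 4 n16996
theorem D17605 : act 4 n16996 = n17605 := rfl
theorem F69152 : act 1 n17605 = n17162 := d10_1 D17605 (iv D17162) (iv F67015)
theorem F69153 : act 3 n17605 = n17160 := d21_1 D17605 (iv D17160) (iv D16572) (iv F64868) D16996
theorem F69154 : act 6 n17605 = n17158 := d27_2 (iv F67017) D17605 (iv D17158)
theorem F69155 : act 8 n17605 = n16997 := d29_2 (iv F67018) D17605 (iv D16997)
def n17606 : Q := act 5 n16997
theorem D17606 : act 5 n16997 = n17606 := rfl
theorem F69156 : act 1 n17606 = n17165 := d11_1 D17606 (iv D17165) (iv F67019)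
theorem F69157 : act 4 n17606 = n16999 := d26_1 D17606 (iv D16999) (iv D16402) (iv F64873) D16997
theorem F69158 : act 7 n17606 = n17001 := d31_2 (iv F67020) D17606 (iv D17001)
def n17607 : Q := act 5 n16998
theorem D17607 : act 5 n16998 = n17607 := rfl
theorem F69159 : act 1 n17607 = n17168 := d11_1 D17607 (iv D17168) (iv F67021)
theorem F69160 : act 8 n17607 = n16999 := d32_2 (iv F67023) D17607 (iv D16999)
def n17608 : Q := act 6 n16999
theorem D17608 : act 6 n16999 = n17608 := rfl
theorem F69161 : act 1 n17608 = n17173 := d12_1 D17608 (iv D17173) (iv F67024)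
theorem F69162 : act 5 n17608 = n17042 := d30_1 D17608 (iv D17042) (iv D16439) (iv F64879) D16999
theorem F69163 : act 7 n17608 = n17002 := d33_2 (iv F67025) D17608 (iv D17002)
def n17609 : Q := act 5 n17000
theorem D17609 : act 5 n17000 = n17609 := rfl
theorem F69164 : act 1 n17609 = n17175 := d11_1 D17609 (iv D17175) (iv F67026)
theorem F69165 : act 4 n17609 = n17043 := d26_1 D17609 (iv D17043) (iv D16440) (iv F64882) D17000
def n17610 : Q := act 6 n17001
theorem D17610 : act 6 n17001 = n17610 := rfl
theorem F69166 : act 1 n17610 = n17179 := d12_1 D17610 (iv D17179) (iv F67028)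
theorem F69167 : act 4 n17610 = n17002 := d27_1 D17610 (iv D17002) (iv F67029)
def n17611 : Q := act 3 n17003
theorem D17611 : act 3 n17003 = n17611 := rfl
theorem F69168 : act 0 n17611 = n17015 := d2_1 D17611 (iv D17015) (iv F67033)
theorem F69169 : act 1 n17611 = n17307 := d9_1 D17611 (iv D17307) (iv F67034)
theorem F69170 : act 5 n17611 = n17298 := d22_2 (iv F67037) D17611 (iv D17298)
theorem F69171 : act 7 n17611 = n17359 := d24_2 D17003 D17611 (iv D17359) (iv D16761) (iv F64892)
theorem F69172 : act 8 n17611 = n17297 := d25_2 (iv F67038) D17611 (iv D17297)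
def n17612 : Q := act 3 n17004
theorem D17612 : act 3 n17004 = n17612 := rfl
theorem F69173 : act 0 n17612 = n17017 := d2_1 D17612 (iv D17017) (iv F67039)
theorem F69174 : act 1 n17612 = n17305 := d9_1 D17612 (iv D17305) (iv F67040)
theorem F69175 : act 5 n17612 = n17006 := d22_2 (iv F67043) D17612 (iv D17006)
theorem F69176 : act 6 n17612 = n17611 := d23_2 (iv F67044) D17612 (iv D17611)
theorem F69177 : act 7 n17612 = n17581 := d24_2 D17004 D17612 (iv D17581) (iv D16974) (iv F64898)
theorem F69178 : act 8 n17612 = n17005 := d25_2 (iv F67045) D17612 (iv D17005)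
def n17613 : Q := act 2 n17005
theorem D17613 : act 2 n17005 = n17613 := rfl
theorem F69179 : act 0 n17613 = n17018 := d1_1 D17613 (iv D17018) (iv F67046)
theorem F69180 : act 3 n17613 = n17056 := d15_2 D17005 D17613 (iv D17056) (iv D16466) (iv F64903)
theorem F69181 : act 5 n17613 = n17007 := d17_2 (iv F67047) D17613 (iv D17007)
theorem F69182 : act 7 n17613 = n17009 := d19_2 (iv F67048) D17613 (iv D17009)
def n17614 : Q := act 4 n17005
theorem D17614 : act 4 n17005 = n17614 := rfl
theorem F69183 : act 0 n17614 = n17019 := d3_1 D17614 (iv D17019) (iv F67046)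
theorem F69184 : act 7 n17614 = n17010 := d28_2 (iv F67048) D17614 (iv D17010)
def n17615 : Q := act 2 n17006
theorem D17615 : act 2 n17006 = n17615 := rfl
theorem F69185 : act 0 n17615 = n17020 := d1_1 D17615 (iv D17020) (iv F67049)
theorem F69186 : act 3 n17615 = n17057 := d15_2 D17006 D17615 (iv D17057) (iv D16467) (iv F64906)
theorem F69187 : act 6 n17615 = n17108 := d18_2 (iv F67050) D17615 (iv D17108)
theorem F69188 : act 8 n17615 = n17007 := d20_2 (iv F67051) D17615 (iv D17007)
def n17616 : Q := act 4 n17006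
theorem D17616 : act 4 n17006 = n17616 := rfl
theorem F69189 : act 0 n17616 = n17021 := d3_1 D17616 (iv D17021) (iv F67049)
theorem F69190 : act 3 n17616 = n17472 := d21_1 D17616 (iv D17472) (iv D16869) (iv F64907) D17006
theorem F69191 : act 6 n17616 = n17109 := d27_2 (iv F67050) D17616 (iv D17109)
theorem F69192 : act 8 n17616 = n17008 := d29_2 (iv F67051) D17616 (iv D17008)
def n17617 : Q := act 1 n17007
theorem D17617 : act 1 n17007 = n17617 := rfl
theorem F69193 : act 3 n17617 = n17058 := d9_2 (iv F67053) D17617 (iv D17058)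
theorem F69194 : act 6 n17617 = n17110 := d12_2 (iv F67054) D17617 (iv D17110)
theorem F69195 : act 7 n17617 = n17011 := d13_2 (iv F67055) D17617 (iv D17011)
def n17618 : Q := act 4 n17007
theorem D17618 : act 4 n17007 = n17618 := rfl
theorem F69196 : act 0 n17618 = n17023 := d3_1 D17618 (iv D17023) (iv F67052)
theorem F69197 : act 2 n17618 = n17008 := d16_1 D17618 (iv D17008) D17007
theorem F69198 : act 3 n17618 = n17561 := d21_1 D17618 (iv D17561) F66899 F65192 (iv F67053)
theorem F69199 : act 6 n17618 = n17111 := d27_2 (iv F67054) D17618 (iv D17111)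
theorem F69200 : act 7 n17618 = n17012 := d28_2 (iv F67055) D17618 (iv D17012)
def n17619 : Q := act 5 n17008
theorem D17619 : act 5 n17008 = n17619 := rfl
theorem F69201 : act 0 n17619 = n17024 := d4_1 D17619 (iv D17024) (iv F67056)
theorem F69202 : act 3 n17619 = n17473 := d22_1 D17619 (iv D17473) (iv F67057)
theorem F69203 : act 7 n17619 = n17013 := d31_2 (iv F67059) D17619 (iv D17013)
def n17620 : Q := act 4 n17009
theorem D17620 : act 4 n17009 = n17620 := rfl
theorem F69204 : act 0 n17620 = n17026 := d3_1 D17620 (iv D17026) (iv F67060)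
theorem F69205 : act 2 n17620 = n17010 := d16_1 D17620 (iv D17010) D17009
def n17621 : Q := act 5 n17010
theorem D17621 : act 5 n17010 = n17621 := rfl
theorem F69206 : act 0 n17621 = n17027 := d4_1 D17621 (iv D17027) (iv F67063)
theorem F69207 : act 4 n17621 = n17013 := d26_1 D17621 (iv D17013) (iv D16414) (iv F64914) D17010
def n17622 : Q := act 4 n17011
theorem D17622 : act 4 n17011 = n17622 := rfl
theorem F69208 : act 1 n17622 = n17012 := d10_1 D17622 (iv D17012) D17011
theorem F69209 : act 3 n17622 = n17026 := d21_1 D17622 (iv D17026) F64954 (iv F65048) (iv F67064)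
theorem F69210 : act 6 n17622 = n17116 := d27_2 (iv F67065) D17622 (iv D17116)
def n17623 : Q := act 5 n17012
theorem D17623 : act 5 n17012 = n17623 := rfl
theorem F69211 : act 0 n17623 = n17029 := d4_1 D17623 (iv D17029) (iv F67066)
theorem F69212 : act 2 n17623 = n17013 := d17_1 D17623 (iv D17013) (iv F67067)
def n17624 : Q := act 6 n17013
theorem D17624 : act 6 n17013 = n17624 := rfl
theorem F69213 : act 0 n17624 = n17030 := d5_1 D17624 (iv D17030) (iv F67069)
theorem F69214 : act 3 n17624 = n17014 := d23_1 D17624 (iv D17014) (iv F67070)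
theorem F69215 : act 5 n17624 = n17118 := d30_1 D17624 (iv D17118) (iv D16531) (iv F64920) D17013
def n17625 : Q := act 2 n17015
theorem D17625 : act 2 n17015 = n17625 := rfl
theorem F69216 : act 1 n17625 = n17253 := d8_1 D17625 (iv D17253) F67125 (iv D17031) (iv F67074)
theorem F69217 : act 3 n17625 = n17059 := d15_2 D17015 D17625 (iv D17059) (iv D16472) (iv F64924)
theorem F69218 : act 5 n17625 = n17602 := d17_2 (iv F67075) D17625 (iv D17602)
theorem F69219 : act 6 n17625 = n17282 := d18_2 F67083 D17625 F68010
theorem F69220 : act 8 n17625 = n17255 := d20_2 F67080 D17625 F67895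
def n17626 : Q := act 4 n17015
theorem D17626 : act 4 n17015 = n17626 := rfl
theorem F69221 : act 1 n17626 = n17032 := d10_1 D17626 (iv D17032) (iv F67074)
theorem F69222 : act 3 n17626 = n17019 := d21_1 D17626 (iv D17019) (iv D16419) (iv F64925) D17015
def n17627 : Q := act 4 n17016
theorem D17627 : act 4 n17016 = n17627 := rfl
theorem F69223 : act 1 n17627 = n17033 := d10_1 D17627 (iv D17033) (iv F67076)
theorem F69224 : act 6 n17627 = n17019 := d27_2 (iv F67078) D17627 (iv D17019)
theorem F69225 : act 7 n17627 = n17025 := d28_2 (iv F67079) D17627 (iv D17025)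
theorem F69226 : act 8 n17627 = n17626 := d29_2 (iv F67080) D17627 (iv D17626)
def n17628 : Q := act 4 n17017
theorem D17628 : act 4 n17017 = n17628 := rfl
theorem F69227 : act 1 n17628 = n17034 := d10_1 D17628 (iv D17034) (iv F67081)
theorem F69228 : act 3 n17628 = n17627 := d21_1 D17628 (iv D17627) (iv D17016) (iv F64934) D17017
theorem F69229 : act 6 n17628 = n17626 := d27_2 (iv F67083) D17628 (iv D17626)
theorem F69230 : act 8 n17628 = n17019 := d29_2 (iv F67084) D17628 (iv D17019)
def n17629 : Q := act 4 n17018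
theorem D17629 : act 4 n17018 = n17629 := rfl
theorem F69231 : act 1 n17629 = n17517 := d10_1 D17629 (iv D17517) (iv F67085)
theorem F69232 : act 2 n17629 = n17019 := d16_1 D17629 (iv D17019) D17018
theorem F69233 : act 3 n17629 = n17569 := d21_1 D17629 (iv D17569) F66909 (iv F65121) (iv F67086)
theorem F69234 : act 7 n17629 = n17026 := d28_2 (iv F67088) D17629 (iv D17026)
def n17630 : Q := act 5 n17019
theorem D17630 : act 5 n17019 = n17630 := rfl
theorem F69235 : act 1 n17630 = n17036 := d11_1 D17630 (iv D17036) (iv F67089)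
theorem F69236 : act 4 n17630 = n17024 := d26_1 D17630 (iv D17024) (iv D16422) (iv F64939) D17019
theorem F69237 : act 7 n17630 = n17027 := d31_2 (iv F67090) D17630 (iv D17027)
def n17631 : Q := act 4 n17020
theorem D17631 : act 4 n17020 = n17631 := rfl
theorem F69238 : act 2 n17631 = n17021 := d16_1 D17631 (iv D17021) D17020
theorem F69239 : act 6 n17631 = n17167 := d27_2 (iv F67092) D17631 (iv D17167)
theorem F69240 : act 8 n17631 = n17023 := d29_2 (iv F67093) D17631 (iv D17023)
def n17632 : Q := act 5 n17021
theorem D17632 : act 5 n17021 = n17632 := rfl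
theorem F69241 : act 1 n17632 = n17038 := d11_1 D17632 (iv D17038) (iv F67094)
theorem F69242 : act 3 n17632 = n17607 := d22_1 D17632 (iv D17607) (iv F67095)
theorem F69243 : act 8 n17632 = n17024 := d32_2 (iv F67097) D17632 (iv D17024)
def n17633 : Q := act 4 n17022
theorem D17633 : act 4 n17022 = n17633 := rfl
theorem F69244 : act 1 n17633 = n17023 := d10_1 D17633 (iv D17023) D17022
theorem F69245 : act 2 n17633 = n17039 := d16_1 D17633 (iv D17039) (iv F67098)
theorem F69246 : act 6 n17633 = n17170 := d27_2 (iv F67101) D17633 (iv D17170)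
theorem F69247 : act 7 n17633 = n17028 := d28_2 (iv F67102) D17633 (iv D17028)
def n17634 : Q := act 3 n17023
theorem D17634 : act 3 n17023 = n17634 := rfl
theorem F69248 : act 0 n17634 = n17561 := d2_1 D17634 (iv F69198) F69196
theorem F69249 : act 2 n17634 = n17432 := d15_1 D17634 F68567 F66554 (iv F64948) (iv F67103)
theorem F69250 : act 4 n17634 = n17062 := d21_2 D17023 D17634 (iv D17062) (iv D16478) (iv F64944)
theorem F69251 : act 6 n17634 = n17171 := d23_2 (iv F67104) D17634 (iv D17171)
theorem F69252 : act 7 n17634 = n17436 := d24_2 (iv F67105) D17634 F68578 F68243 F66159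
def n17635 : Q := act 5 n17023
theorem D17635 : act 5 n17023 = n17635 := rfl
theorem F69253 : act 2 n17635 = n17024 := d17_1 D17635 (iv D17024) (iv F67103)
theorem F69254 : act 7 n17635 = n17029 := d31_2 (iv F67105) D17635 (iv D17029)
def n17636 : Q := act 6 n17024
theorem D17636 : act 6 n17024 = n17636 := rfl
theorem F69255 : act 1 n17636 = n17042 := d12_1 D17636 (iv D17042) (iv F67106)
theorem F69256 : act 3 n17636 = n17608 := d23_1 D17636 (iv D17608) (iv F67107)
theorem F69257 : act 5 n17636 = n17173 := d30_1 D17636 (iv D17173) (iv D16580) (iv F64949) D17024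
theorem F69258 : act 7 n17636 = n17030 := d33_2 (iv F67108) D17636 (iv D17030)
def n17637 : Q := act 5 n17025
theorem D17637 : act 5 n17025 = n17637 := rfl
theorem F69259 : act 1 n17637 = n17043 := d11_1 D17637 (iv D17043) (iv F67109)
theorem F69260 : act 4 n17637 = n17175 := d26_1 D17637 (iv D17175) (iv D16582) (iv F64952) D17025
def n17638 : Q := act 5 n17026
theorem D17638 : act 5 n17026 = n17638 := rfl
theorem F69261 : act 2 n17638 = n17027 := d17_1 D17638 (iv D17027) (iv F67111)
theorem F69262 : act 4 n17638 = n17029 := d26_1 D17638 (iv D17029) (iv D16427) (iv F64955) D17026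
def n17639 : Q := act 6 n17027
theorem D17639 : act 6 n17027 = n17639 := rfl
theorem F69263 : act 1 n17639 = n17045 := d12_1 D17639 (iv D17045) (iv F67112)
theorem F69264 : act 4 n17639 = n17030 := d27_1 D17639 (iv D17030) (iv F67113)
def n17640 : Q := act 5 n17028
theorem D17640 : act 5 n17028 = n17640 := rfl
theorem F69265 : act 1 n17640 = n17029 := d11_1 D17640 (iv D17029) (iv F67114)
theorem F69266 : act 2 n17640 = n17046 := d17_1 D17640 (iv D17046) (iv F67115)
def n17641 : Q := act 6 n17029
theorem D17641 : act 6 n17029 = n17641 := rfl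
theorem F69267 : act 2 n17641 = n17030 := d18_1 D17641 (iv D17030) (iv F67117)
theorem F69268 : act 5 n17641 = n17182 := d30_1 D17641 (iv D17182) (iv D16588) (iv F64961) D17029
def n17642 : Q := act 4 n17031
theorem D17642 : act 4 n17031 = n17642 := rfl
theorem F69269 : act 0 n17642 = n17531 := d3_1 D17642 (iv D17531) (iv F67121)
theorem F69270 : act 1 n17642 = n17254 := d10_1 D17642 (iv D17254) F67125
theorem F69271 : act 2 n17642 = n17032 := d16_1 D17642 (iv D17032) D17031
theorem F69272 : act 3 n17642 = n17269 := d21_1 D17642 (iv D17269) (iv D16682) (iv F65025) (iv F67122)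
theorem F69273 : act 6 n17642 = n17274 := d27_2 (iv F67123) D17642 (iv D17274)
theorem F69274 : act 8 n17642 = n17244 := d29_2 (iv F67124) D17642 (iv D17244)
def n17643 : Q := act 5 n17032
theorem D17643 : act 5 n17032 = n17643 := rfl
theorem F69275 : act 3 n17643 = n17036 := d22_1 D17643 (iv D17036) (iv F67126)
def n17644 : Q := act 5 n17033
theorem D17644 : act 5 n17033 = n17644 := rfl
theorem F69276 : act 7 n17644 = n17043 := d31_2 (iv F67128) D17644 (iv D17043)
theorem F69277 : act 8 n17644 = n17643 := d32_2 (iv F67129) D17644 (iv D17643)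
def n17645 : Q := act 5 n17034
theorem D17645 : act 5 n17034 = n17645 := rfl
theorem F69278 : act 3 n17645 = n17644 := d22_1 D17645 (iv D17644) (iv F67130)
theorem F69279 : act 4 n17645 = n17038 := d26_1 D17645 (iv D17038) (iv D16436) (iv F64970) D17034
theorem F69280 : act 8 n17645 = n17036 := d32_2 (iv F67132) D17645 (iv D17036)
def n17646 : Q := act 5 n17035
theorem D17646 : act 5 n17035 = n17646 := rfl
theorem F69281 : act 1 n17646 = n17518 := d11_1 D17646 (iv D17518) (iv F67133)
theorem F69282 : act 2 n17646 = n17036 := d17_1 D17646 (iv D17036) (iv F67134)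
theorem F69283 : act 3 n17646 = n17516 := d22_1 D17646 (iv D17516) (iv F67135)
theorem F69284 : act 4 n17646 = n17041 := d26_1 D17646 (iv D17041) (iv D16438) (iv F64974) D17035
theorem F69285 : act 7 n17646 = n17044 := d31_2 (iv F67136) D17646 (iv D17044)
def n17647 : Q := act 6 n17036
theorem D17647 : act 6 n17036 = n17647 := rfl
theorem F69286 : act 4 n17647 = n17042 := d27_1 D17647 (iv D17042) (iv F67137)
theorem F69287 : act 7 n17647 = n17045 := d33_2 (iv F67138) D17647 (iv D17045)
def n17648 : Q := act 5 n17037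
theorem D17648 : act 5 n17037 = n17648 := rfl
theorem F69288 : act 2 n17648 = n17038 := d17_1 D17648 (iv D17038) (iv F67139)
theorem F69289 : act 8 n17648 = n17041 := d32_2 (iv F67140) D17648 (iv D17041)
def n17649 : Q := act 6 n17038
theorem D17649 : act 6 n17038 = n17649 := rfl
theorem F69290 : act 8 n17649 = n17042 := d34_2 (iv F67141) D17649 (iv D17042)
def n17650 : Q := act 5 n17039
theorem D17650 : act 5 n17039 = n17650 := rfl
theorem F69291 : act 1 n17650 = n17041 := d11_1 D17650 (iv D17041) (iv F67142)
theorem F69292 : act 4 n17650 = n17518 := d26_1 D17650 (iv D17518) (iv D16916) (iv F64982) D17039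
theorem F69293 : act 7 n17650 = n17046 := d31_2 (iv F67143) D17650 (iv D17046)
def n17651 : Q := act 5 n17040
theorem D17651 : act 5 n17040 = n17651 := rfl
theorem F69294 : act 3 n17651 = n17041 := d22_1 D17651 (iv D17041) D17040
theorem F69295 : act 4 n17651 = n17539 := d26_1 D17651 (iv D17539) (iv D16938) (iv F65029) (iv F67144)
def n17652 : Q := act 6 n17041
theorem D17652 : act 6 n17041 = n17652 := rfl
theorem F69296 : act 2 n17652 = n17042 := d18_1 D17652 (iv D17042) (iv F67145)
theorem F69297 : act 7 n17652 = n17047 := d33_2 (iv F67146) D17652 (iv D17047)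
def n17653 : Q := act 6 n17043
theorem D17653 : act 6 n17043 = n17653 := rfl
theorem F69298 : act 5 n17653 = n17045 := d30_1 D17653 (iv D17045) (iv D16442) (iv F64987) D17043
def n17654 : Q := act 6 n17044
theorem D17654 : act 6 n17044 = n17654 := rfl
theorem F69299 : act 2 n17654 = n17045 := d18_1 D17654 (iv D17045) (iv F67148)
theorem F69300 : act 4 n17654 = n17047 := d27_1 D17654 (iv D17047) (iv F67149)
def n17655 : Q := act 6 n17046
theorem D17655 : act 6 n17046 = n17655 := rfl
theorem F69301 : act 1 n17655 = n17047 := d12_1 D17655 (iv D17047) (iv F67151)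
def n17656 : Q := act 0 n17051
theorem D17656 : act 0 n17051 = n17656 := rfl
theorem F69302 : act 2 n17656 = n17052 := d1_2 (iv F67168) D17656 (iv D17052)
theorem F69303 : act 6 n17656 = n17144 := d5_2 (iv F67169) D17656 (iv D17144)
theorem F69304 : act 7 n17656 = n17656 := d6_2 F67170 D17656 (iv D17656)
theorem F69305 : act 8 n17656 = n17541 := d7_2 (iv F67171) D17656 (iv D17541)
def n17657 : Q := act 2 n17054
theorem D17657 : act 2 n17054 = n17657 := rfl
theorem F69306 : act 0 n17657 = n17059 := d1_1 D17657 (iv D17059) (iv F67182)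
theorem F69307 : act 4 n17657 = n17656 := d16_2 (iv F67184) D17657 F69302
theorem F69308 : act 5 n17657 = n17417 := d17_2 (iv F67185) D17657 F68509
theorem F69309 : act 6 n17657 = n17287 := d18_2 (iv F67186) D17657 F68026
theorem F69310 : act 7 n17657 = n17657 := d19_2 F67187 D17657 (iv D17657)
theorem F69311 : act 8 n17657 = n17265 := d20_2 F67194 D17657 F67934
theorem F69312 : act 1 n17400 = n17657 := d14_3 F69311 F67933 (iv F68431)
def n17658 : Q := act 1 n17057
theorem D17658 : act 1 n17057 = n17658 := rfl
theorem F69313 : act 2 n17658 = n17658 := d8_2 D17057 D17658 (iv D17658) (iv D17057) F65089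
theorem F69314 : act 6 n17658 = n17120 := d12_2 (iv F67200) D17658 (iv D17120)
theorem F69315 : act 7 n17658 = n17658 := d13_2 F67201 D17658 (iv D17658)
theorem F69316 : act 8 n17658 = n17058 := d14_2 (iv F67202) D17658 (iv D17058)
def n17659 : Q := act 3 n17060
theorem D17659 : act 3 n17060 = n17659 := rfl
theorem F69317 : act 0 n17659 = n17558 := d2_1 D17659 F69018 F67255
theorem F69318 : act 2 n17659 = n17431 := d15_1 D17659 (iv D17431) F66465 (iv F65128) (iv F67212)
theorem F69319 : act 6 n17659 = n17189 := d23_2 (iv F67213) D17659 (iv D17189)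
theorem F69320 : act 8 n17659 = n17062 := d25_2 (iv F67215) D17659 (iv D17062)
def n17660 : Q := act 3 n17061
theorem D17660 : act 3 n17061 = n17660 := rfl
theorem F69321 : act 1 n17660 = n17062 := d9_1 D17660 (iv D17062) (iv F67216)
theorem F69322 : act 5 n17660 = n17573 := d22_2 (iv F67218) D17660 (iv D17573)
theorem F69323 : act 6 n17660 = n17191 := d23_2 (iv F67219) D17660 (iv D17191)
theorem F69324 : act 7 n17660 = n17435 := d24_2 (iv F67220) D17660 F68574 F66492 F65160
def n17661 : Q := act 0 n17063
theorem D17661 : act 0 n17063 = n17661 := rfl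
theorem F69325 : act 1 n17661 = n17072 := d0_2 D17063 D17661 F67267 (iv D16494) (iv F65150)
theorem F69326 : act 2 n17661 = n17661 := d1_2 F67225 D17661 (iv D17661)
theorem F69327 : act 3 n17661 = n17064 := d2_2 (iv F67226) D17661 F67229
theorem F69328 : act 5 n17661 = n17065 := d4_2 (iv F67227) D17661 (iv D17065)
theorem F69329 : act 8 n17661 = n17661 := d7_2 F67228 D17661 (iv D17661)
theorem F69330 : act 4 n17071 = n17661 := d26_5 F69328 F67236 F66306 (iv F65207) (iv F67264)
def n17662 : Q := act 4 n17063
theorem D17662 : act 4 n17063 = n17662 := rfl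
theorem F69331 : act 0 n17662 = n17071 := d3_1 D17662 F69330 (iv D17661)
theorem F69332 : act 1 n17662 = n17064 := d10_1 D17662 (iv D17064) D17063
theorem F69333 : act 2 n17662 = n17662 := d16_1 D17662 (iv D17662) F67225
theorem F69334 : act 3 n17662 = n17072 := d21_1 D17662 (iv D17072) F65195 D16495 (iv F67226)
theorem F69335 : act 5 n17662 = n17073 := d26_2 (iv F67227) D17662 F67275 F66296 (iv F65161)
theorem F69336 : act 6 n17662 = n17661 := d27_2 F67265 D17662 (iv F69330)
theorem F69337 : act 8 n17662 = n17662 := d29_2 F67228 D17662 (iv D17662)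
def n17663 : Q := act 2 n17067
theorem D17663 : act 2 n17067 = n17663 := rfl
theorem F69338 : act 0 n17663 = n17141 := d1_1 D17663 (iv D17141) (iv F67245)
theorem F69339 : act 5 n17663 = n17069 := d17_2 (iv F67247) D17663 (iv D17069)
theorem F69340 : act 6 n17663 = n17083 := d18_2 (iv F67248) D17663 (iv D17083)
theorem F69341 : act 7 n17663 = n17663 := d19_2 F67249 D17663 (iv D17663)
theorem F69342 : act 8 n17663 = n17068 := d20_2 (iv F67250) D17663 (iv D17068)
def n17664 : Q := act 1 n17068
theorem D17664 : act 1 n17068 = n17664 := rfl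
theorem F69343 : act 2 n17664 = n17664 := d8_2 D17068 D17664 (iv D17664) (iv D17068) F65182
theorem F69344 : act 5 n17664 = n17070 := d11_2 (iv F67252) D17664 (iv D17070)
theorem F69345 : act 6 n17664 = n17439 := d12_2 (iv F67253) D17664 (iv D17439)
theorem F69346 : act 7 n17664 = n17071 := d13_2 (iv F67254) D17664 (iv D17071)
def n17665 : Q := act 1 n17069
theorem D17665 : act 1 n17069 = n17665 := rfl
theorem F69347 : act 2 n17665 = n17665 := d8_2 D17069 D17665 (iv D17665) (iv D17069) F65187
theorem F69348 : act 4 n17665 = n17658 := d10_2 (iv F67256) D17665 (iv D17658)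
theorem F69349 : act 7 n17665 = n17665 := d13_2 F67257 D17665 (iv D17665)
theorem F69350 : act 8 n17665 = n17070 := d14_2 (iv F67258) D17665 (iv D17070)
def n17666 : Q := act 0 n17070
theorem D17666 : act 0 n17070 = n17666 := rfl
theorem F69351 : act 1 n17666 = n17397 := d0_2 D17070 D17666 F68413 F67216 (iv F65191)
theorem F69352 : act 2 n17666 = n17666 := d1_2 F67259 D17666 (iv D17666)
theorem F69353 : act 4 n17666 = n17396 := d3_2 (iv F67260) D17666 F68408
theorem F69354 : act 7 n17666 = n17073 := d6_2 (iv F67261) D17666 (iv D17073)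
def n17667 : Q := act 2 n17075
theorem D17667 : act 2 n17075 = n17667 := rfl
theorem F69355 : act 3 n17667 = n17667 := d15_2 D17075 D17667 (iv D17667) (iv D17075) F65232
theorem F69356 : act 8 n17667 = n17427 := d20_2 (iv F67281) D17667 (iv D17427)
def n17668 : Q := act 4 n17075
theorem D17668 : act 4 n17075 = n17668 := rfl
theorem F69357 : act 1 n17668 = n17081 := d10_1 D17668 (iv D17081) (iv F67280)
theorem F69358 : act 3 n17668 = n17077 := d21_1 D17668 (iv D17077) (iv D16500) (iv F65233) D17075
theorem F69359 : act 8 n17668 = n17428 := d29_2 (iv F67281) D17668 (iv D17428)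
def n17669 : Q := act 4 n17076
theorem D17669 : act 4 n17076 = n17669 := rfl
theorem F69360 : act 2 n17669 = n17077 := d16_1 D17669 (iv D17077) D17076
theorem F69361 : act 7 n17669 = n17086 := d28_2 (iv F67283) D17669 (iv D17086)
theorem F69362 : act 8 n17669 = n17429 := d29_2 (iv F67284) D17669 (iv D17429)
def n17670 : Q := act 5 n17077
theorem D17670 : act 5 n17077 = n17670 := rfl
theorem F69363 : act 1 n17670 = n17082 := d11_1 D17670 (iv D17082) (iv F67285)
theorem F69364 : act 7 n17670 = n17087 := d31_2 (iv F67286) D17670 (iv D17087)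
theorem F69365 : act 8 n17670 = n17430 := d32_2 (iv F67287) D17670 (iv D17430)
def n17671 : Q := act 2 n17078
theorem D17671 : act 2 n17078 = n17671 := rfl
theorem F69366 : act 0 n17671 = n17132 := d1_1 D17671 (iv D17132) (iv F67288)
theorem F69367 : act 3 n17671 = n17671 := d15_2 D17078 D17671 (iv D17671) (iv D17078) F65239
theorem F69368 : act 5 n17671 = n17667 := d17_2 (iv F67289) D17671 (iv D17667)
theorem F69369 : act 7 n17671 = n17080 := d19_2 (iv F67290) D17671 (iv D17080)
def n17672 : Q := act 4 n17078
theorem D17672 : act 4 n17078 = n17672 := rfl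
theorem F69370 : act 0 n17672 = n17133 := d3_1 D17672 (iv D17133) (iv F67288)
theorem F69371 : act 3 n17672 = n17090 := d21_1 D17672 (iv D17090) (iv D16510) (iv F65240) D17078
theorem F69372 : act 7 n17672 = n17081 := d28_2 (iv F67290) D17672 (iv D17081)
def n17673 : Q := act 2 n17079
theorem D17673 : act 2 n17079 = n17673 := rfl
theorem F69373 : act 0 n17673 = n17135 := d1_1 D17673 (iv D17135) (iv F67291)
theorem F69374 : act 3 n17673 = n17083 := d15_2 D17079 D17673 (iv D17083) (iv D16505) (iv F65244)
theorem F69375 : act 5 n17673 = n17080 := d17_2 (iv F67293) D17673 (iv D17080)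
theorem F69376 : act 7 n17673 = n17667 := d19_2 (iv F67294) D17673 (iv D17667)
theorem F69377 : act 8 n17673 = n17433 := d20_2 (iv F67295) D17673 (iv D17433)
def n17674 : Q := act 4 n17079
theorem D17674 : act 4 n17079 = n17674 := rfl
theorem F69378 : act 0 n17674 = n17136 := d3_1 D17674 (iv D17136) (iv F67291)
theorem F69379 : act 1 n17674 = n17672 := d10_1 D17674 (iv D17672) (iv F67292)
theorem F69380 : act 3 n17674 = n17337 := d21_1 D17674 (iv D17337) (iv D16740) (iv F65245) D17079
theorem F69381 : act 7 n17674 = n17668 := d28_2 (iv F67294) D17674 (iv D17668)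
theorem F69382 : act 8 n17674 = n17434 := d29_2 (iv F67295) D17674 (iv D17434)
def n17675 : Q := act 1 n17080
theorem D17675 : act 1 n17080 = n17675 := rfl
theorem F69383 : act 3 n17675 = n17085 := d9_2 (iv F67297) D17675 (iv D17085)
theorem F69384 : act 8 n17675 = n17435 := d14_2 (iv F67298) D17675 (iv D17435)
def n17676 : Q := act 4 n17080
theorem D17676 : act 4 n17080 = n17676 := rfl
theorem F69385 : act 0 n17676 = n17138 := d3_1 D17676 (iv D17138) (iv F67296)
theorem F69386 : act 2 n17676 = n17081 := d16_1 D17676 (iv D17081) D17080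
theorem F69387 : act 8 n17676 = n17436 := d29_2 (iv F67298) D17676 (iv D17436)
def n17677 : Q := act 5 n17081
theorem D17677 : act 5 n17081 = n17677 := rfl
theorem F69388 : act 0 n17677 = n17139 := d4_1 D17677 (iv D17139) (iv F67299)
theorem F69389 : act 3 n17677 = n17082 := d22_1 D17677 (iv D17082) (iv F67300)
theorem F69390 : act 8 n17677 = n17437 := d32_2 (iv F67301) D17677 (iv D17437)
def n17678 : Q := act 6 n17082
theorem D17678 : act 6 n17082 = n17678 := rfl
theorem F69391 : act 0 n17678 = n17140 := d5_1 D17678 (iv D17140) (iv F67302)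
theorem F69392 : act 7 n17678 = n17094 := d33_2 (iv F67303) D17678 (iv D17094)
theorem F69393 : act 8 n17678 = n17438 := d34_2 (iv F67304) D17678 (iv D17438)
def n17679 : Q := act 1 n17083
theorem D17679 : act 1 n17083 = n17679 := rfl
theorem F69394 : act 2 n17679 = n17679 := d8_2 D17083 D17679 (iv D17679) (iv D17083) F65254
theorem F69395 : act 5 n17679 = n17085 := d11_2 (iv F67306) D17679 (iv D17085)
theorem F69396 : act 7 n17679 = n17679 := d13_2 F67307 D17679 (iv D17679)
theorem F69397 : act 8 n17679 = n17439 := d14_2 (iv F67308) D17679 (iv D17439)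
def n17680 : Q := act 4 n17083
theorem D17680 : act 4 n17083 = n17680 := rfl
theorem F69398 : act 0 n17680 = n17143 := d3_1 D17680 (iv D17143) (iv F67305)
theorem F69399 : act 2 n17680 = n17084 := d16_1 D17680 (iv D17084) D17083
theorem F69400 : act 7 n17680 = n17680 := d28_2 F67307 D17680 (iv D17680)
theorem F69401 : act 8 n17680 = n17440 := d29_2 (iv F67308) D17680 (iv D17440)
def n17681 : Q := act 0 n17085
theorem D17681 : act 0 n17085 = n17681 := rfl
theorem F69402 : act 1 n17681 = n17144 := d0_2 D17085 D17681 (iv D17144) (iv D16559) (iv F65258)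
theorem F69403 : act 2 n17681 = n17681 := d1_2 F67314 D17681 (iv D17681)
theorem F69404 : act 7 n17681 = n17681 := d6_2 F67315 D17681 (iv D17681)
theorem F69405 : act 8 n17681 = n17441 := d7_2 (iv F67316) D17681 (iv D17441)
def n17682 : Q := act 3 n17086
theorem D17682 : act 3 n17086 = n17682 := rfl
theorem F69406 : act 4 n17682 = n17126 := d21_2 D17086 D17682 (iv D17126) (iv D16543) (iv F65261)
theorem F69407 : act 8 n17682 = n17101 := d25_2 (iv F67318) D17682 (iv D17101)
def n17683 : Q := act 5 n17086
theorem D17683 : act 5 n17086 = n17683 := rfl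
theorem F69408 : act 2 n17683 = n17087 := d17_1 D17683 (iv D17087) (iv F67317)
theorem F69409 : act 8 n17683 = n17102 := d32_2 (iv F67318) D17683 (iv D17102)
def n17684 : Q := act 6 n17087
theorem D17684 : act 6 n17087 = n17684 := rfl
theorem F69410 : act 1 n17684 = n17094 := d12_1 D17684 (iv D17094) (iv F67319)
theorem F69411 : act 8 n17684 = n17103 := d34_2 (iv F67320) D17684 (iv D17103)
def n17685 : Q := act 2 n17088
theorem D17685 : act 2 n17088 = n17685 := rfl
theorem F69412 : act 0 n17685 = n17149 := d1_1 D17685 (iv D17149) (iv F67321)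
theorem F69413 : act 3 n17685 = n17685 := d15_2 D17088 D17685 (iv D17685) (iv D17088) F65266
theorem F69414 : act 7 n17685 = n17108 := d19_2 (iv F67322) D17685 (iv D17108)
theorem F69415 : act 8 n17685 = n17089 := d20_2 (iv F67323) D17685 (iv D17089)
def n17686 : Q := act 4 n17088
theorem D17686 : act 4 n17088 = n17686 := rfl
theorem F69416 : act 0 n17686 = n17150 := d3_1 D17686 (iv D17150) (iv F67321)
theorem F69417 : act 7 n17686 = n17109 := d28_2 (iv F67322) D17686 (iv D17109)
theorem F69418 : act 8 n17686 = n17090 := d29_2 (iv F67323) D17686 (iv D17090)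
def n17687 : Q := act 1 n17089
theorem D17687 : act 1 n17089 = n17687 := rfl
theorem F69419 : act 3 n17687 = n17687 := d9_2 F67325 D17687 (iv D17687)
theorem F69420 : act 7 n17687 = n17091 := d13_2 (iv F67326) D17687 (iv D17091)
def n17688 : Q := act 4 n17089
theorem D17688 : act 4 n17089 = n17688 := rfl
theorem F69421 : act 0 n17688 = n17151 := d3_1 D17688 (iv D17151) (iv F67324)
theorem F69422 : act 2 n17688 = n17090 := d16_1 D17688 (iv D17090) D17089
theorem F69423 : act 7 n17688 = n17092 := d28_2 (iv F67326) D17688 (iv D17092)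
def n17689 : Q := act 5 n17090
theorem D17689 : act 5 n17090 = n17689 := rfl
theorem F69424 : act 0 n17689 = n17152 := d4_1 D17689 (iv D17152) (iv F67327)
theorem F69425 : act 7 n17689 = n17093 := d31_2 (iv F67328) D17689 (iv D17093)
def n17690 : Q := act 4 n17091
theorem D17690 : act 4 n17091 = n17690 := rfl
theorem F69426 : act 1 n17690 = n17092 := d10_1 D17690 (iv D17092) D17091
theorem F69427 : act 8 n17690 = n17116 := d29_2 (iv F67330) D17690 (iv D17116)
def n17691 : Q := act 5 n17092
theorem D17691 : act 5 n17092 = n17691 := rfl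
theorem F69428 : act 0 n17691 = n17155 := d4_1 D17691 (iv D17155) (iv F67331)
theorem F69429 : act 2 n17691 = n17093 := d17_1 D17691 (iv D17093) (iv F67332)
theorem F69430 : act 8 n17691 = n17117 := d32_2 (iv F67333) D17691 (iv D17117)
def n17692 : Q := act 6 n17093
theorem D17692 : act 6 n17093 = n17692 := rfl
theorem F69431 : act 0 n17692 = n17156 := d5_1 D17692 (iv D17156) (iv F67334)
theorem F69432 : act 3 n17692 = n17094 := d23_1 D17692 (iv D17094) (iv F67335)
theorem F69433 : act 8 n17692 = n17118 := d34_2 (iv F67336) D17692 (iv D17118)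
def n17693 : Q := act 2 n17095
theorem D17693 : act 2 n17095 = n17693 := rfl
theorem F69434 : act 3 n17693 = n17693 := d15_2 D17095 D17693 (iv D17693) (iv D17095) F65282
theorem F69435 : act 8 n17693 = n17096 := d20_2 (iv F67340) D17693 (iv D17096)
def n17694 : Q := act 4 n17095
theorem D17694 : act 4 n17095 = n17694 := rfl
theorem F69436 : act 1 n17694 = n17109 := d10_1 D17694 (iv D17109) (iv F67339)
theorem F69437 : act 3 n17694 = n17488 := d21_1 D17694 (iv D17488) (iv D16883) (iv F65283) D17095
theorem F69438 : act 8 n17694 = n17097 := d29_2 (iv F67340) D17694 (iv D17097)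
def n17695 : Q := act 1 n17096
theorem D17695 : act 1 n17096 = n17695 := rfl
theorem F69439 : act 2 n17695 = n17110 := d8_2 D17096 D17695 (iv D17110) (iv D16525) (iv F65285)
theorem F69440 : act 3 n17695 = n17695 := d9_2 F67341 D17695 (iv D17695)
theorem F69441 : act 7 n17695 = n17098 := d13_2 (iv F67342) D17695 (iv D17098)
def n17696 : Q := act 4 n17096
theorem D17696 : act 4 n17096 = n17696 := rfl
theorem F69442 : act 2 n17696 = n17097 := d16_1 D17696 (iv D17097) D17096
theorem F69443 : act 7 n17696 = n17099 := d28_2 (iv F67342) D17696 (iv D17099)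
def n17697 : Q := act 5 n17097
theorem D17697 : act 5 n17097 = n17697 := rfl
theorem F69444 : act 1 n17697 = n17112 := d11_1 D17697 (iv D17112) (iv F67343)
theorem F69445 : act 3 n17697 = n17490 := d22_1 D17697 (iv D17490) (iv F67344)
theorem F69446 : act 7 n17697 = n17100 := d31_2 (iv F67345) D17697 (iv D17100)
def n17698 : Q := act 4 n17098
theorem D17698 : act 4 n17098 = n17698 := rfl
theorem F69447 : act 1 n17698 = n17099 := d10_1 D17698 (iv D17099) D17098
theorem F69448 : act 2 n17698 = n17116 := d16_1 D17698 (iv D17116) (iv F67346)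
def n17699 : Q := act 3 n17099
theorem D17699 : act 3 n17099 = n17699 := rfl
theorem F69449 : act 2 n17699 = n17101 := d15_1 D17699 (iv D17101) F65290 (iv F65289) (iv F67348)
theorem F69450 : act 4 n17699 = n17127 := d21_2 D17099 D17699 (iv D17127) (iv D16545) (iv F65287)
def n17700 : Q := act 5 n17099
theorem D17700 : act 5 n17099 = n17700 := rfl
theorem F69451 : act 2 n17700 = n17100 := d17_1 D17700 (iv D17100) (iv F67348)
def n17701 : Q := act 6 n17100
theorem D17701 : act 6 n17100 = n17701 := rfl
theorem F69452 : act 1 n17701 = n17118 := d12_1 D17701 (iv D17118) (iv F67349)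
theorem F69453 : act 3 n17701 = n17103 := d23_1 D17701 (iv D17103) (iv F67350)
def n17702 : Q := act 5 n17101
theorem D17702 : act 5 n17101 = n17702 := rfl
theorem F69454 : act 3 n17702 = n17102 := d22_1 D17702 (iv D17102) D17101
def n17703 : Q := act 7 n17101
theorem D17703 : act 7 n17101 = n17703 := rfl
theorem F69455 : act 3 n17703 = n17496 := d24_1 D17703 (iv D17496) (iv D16890) (iv F65291) D17101
theorem F69456 : act 4 n17703 = n17128 := d28_1 D17703 (iv D17128) (iv F67351)
def n17704 : Q := act 6 n17102
theorem D17704 : act 6 n17102 = n17704 := rfl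
theorem F69457 : act 2 n17704 = n17103 := d18_1 D17704 (iv D17103) (iv F67352)
theorem F69458 : act 7 n17704 = n17497 := d33_2 (iv F67353) D17704 (iv D17497)
def n17705 : Q := act 4 n17104
theorem D17705 : act 4 n17104 = n17705 := rfl
theorem F69459 : act 0 n17705 = n17158 := d3_1 D17705 (iv D17158) (iv F67356)
theorem F69460 : act 2 n17705 = n17374 := d16_1 D17705 (iv D17374) (iv F67357)
theorem F69461 : act 3 n17705 = n17107 := d21_1 D17705 (iv D17107) (iv D16523) (iv F65296) D17104
theorem F69462 : act 7 n17705 = n17642 := d28_2 (iv F67359) D17705 (iv D17642)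
def n17706 : Q := act 2 n17105
theorem D17706 : act 2 n17105 = n17706 := rfl
theorem F69463 : act 0 n17706 = n17161 := d1_1 D17706 (iv D17161) (iv F67360)
theorem F69464 : act 3 n17706 = n17119 := d15_2 D17105 D17706 (iv D17119) (iv D16535) (iv F65299)
theorem F69465 : act 5 n17706 = n17108 := d17_2 (iv F67361) D17706 (iv D17108)
theorem F69466 : act 8 n17706 = n17106 := d20_2 (iv F67362) D17706 (iv D17106)
def n17707 : Q := act 4 n17105
theorem D17707 : act 4 n17105 = n17707 := rfl
theorem F69467 : act 0 n17707 = n17162 := d3_1 D17707 (iv D17162) (iv F67360)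
theorem F69468 : act 8 n17707 = n17107 := d29_2 (iv F67362) D17707 (iv D17107)
def n17708 : Q := act 4 n17106
theorem D17708 : act 4 n17106 = n17708 := rfl
theorem F69469 : act 0 n17708 = n17164 := d3_1 D17708 (iv D17164) (iv F67363)
theorem F69470 : act 2 n17708 = n17107 := d16_1 D17708 (iv D17107) D17106
theorem F69471 : act 3 n17708 = n17379 := d21_1 D17708 (iv D17379) F66254 (iv F65340) (iv F67364)
theorem F69472 : act 7 n17708 = n17113 := d28_2 (iv F67366) D17708 (iv D17113)
def n17709 : Q := act 5 n17107
theorem D17709 : act 5 n17107 = n17709 := rfl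
theorem F69473 : act 0 n17709 = n17165 := d4_1 D17709 (iv D17165) (iv F67367)
theorem F69474 : act 4 n17709 = n17112 := d26_1 D17709 (iv D17112) (iv D16526) (iv F65303) D17107
theorem F69475 : act 7 n17709 = n17114 := d31_2 (iv F67368) D17709 (iv D17114)
def n17710 : Q := act 1 n17108
theorem D17710 : act 1 n17108 = n17710 := rfl
theorem F69476 : act 3 n17710 = n17120 := d9_2 (iv F67370) D17710 (iv D17120)
theorem F69477 : act 8 n17710 = n17110 := d14_2 (iv F67371) D17710 (iv D17110)
def n17711 : Q := act 4 n17108
theorem D17711 : act 4 n17108 = n17711 := rfl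
theorem F69478 : act 0 n17711 = n17167 := d3_1 D17711 (iv D17167) (iv F67369)
theorem F69479 : act 2 n17711 = n17109 := d16_1 D17711 (iv D17109) D17108
theorem F69480 : act 8 n17711 = n17111 := d29_2 (iv F67371) D17711 (iv D17111)
def n17712 : Q := act 5 n17109
theorem D17712 : act 5 n17109 = n17712 := rfl
theorem F69481 : act 0 n17712 = n17168 := d4_1 D17712 (iv D17168) (iv F67372)
theorem F69482 : act 3 n17712 = n17504 := d22_1 D17712 (iv D17504) (iv F67373)
theorem F69483 : act 8 n17712 = n17112 := d32_2 (iv F67374) D17712 (iv D17112)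
def n17713 : Q := act 0 n17110
theorem D17713 : act 0 n17110 = n17713 := rfl
theorem F69484 : act 1 n17713 = n17169 := d0_2 D17110 D17713 (iv D17169) (iv D16578) (iv F65307)
theorem F69485 : act 3 n17713 = n17122 := d2_2 (iv F67375) D17713 (iv D17122)
theorem F69486 : act 5 n17713 = n17128 := d4_2 F68854 D17713 (iv F68851)
theorem F69487 : act 7 n17713 = n17115 := d6_2 (iv F67376) D17713 (iv D17115)
def n17714 : Q := act 4 n17110
theorem D17714 : act 4 n17110 = n17714 := rfl
theorem F69488 : act 1 n17714 = n17111 := d10_1 D17714 (iv D17111) D17110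
theorem F69489 : act 7 n17714 = n17116 := d28_2 (iv F67376) D17714 (iv D17116)
def n17715 : Q := act 3 n17111
theorem D17715 : act 3 n17111 = n17715 := rfl
theorem F69490 : act 0 n17715 = n17171 := d2_1 D17715 (iv D17171) (iv F67377)
theorem F69491 : act 2 n17715 = n17505 := d15_1 D17715 (iv D17505) F66705 (iv F65311) (iv F67378)
theorem F69492 : act 4 n17715 = n17124 := d21_2 D17111 D17715 (iv D17124) (iv D16540) (iv F65308)
theorem F69493 : act 6 n17715 = n17561 := d23_2 F69199 D17715 (iv F69198)
theorem F69494 : act 7 n17715 = n17538 := d24_2 (iv F67379) D17715 F68942 F67902 F65827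
def n17716 : Q := act 5 n17111
theorem D17716 : act 5 n17111 = n17716 := rfl
theorem F69495 : act 0 n17716 = n17172 := d4_1 D17716 (iv D17172) (iv F67377)
theorem F69496 : act 2 n17716 = n17112 := d17_1 D17716 (iv D17112) (iv F67378)
theorem F69497 : act 7 n17716 = n17117 := d31_2 (iv F67379) D17716 (iv D17117)
def n17717 : Q := act 6 n17112
theorem D17717 : act 6 n17112 = n17717 := rfl
theorem F69498 : act 0 n17717 = n17173 := d5_1 D17717 (iv D17173) (iv F67380)
theorem F69499 : act 3 n17717 = n17507 := d23_1 D17717 (iv D17507) (iv F67381)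
theorem F69500 : act 7 n17717 = n17118 := d33_2 (iv F67382) D17717 (iv D17118)
def n17718 : Q := act 5 n17113
theorem D17718 : act 5 n17113 = n17718 := rfl
theorem F69501 : act 0 n17718 = n17178 := d4_1 D17718 (iv D17178) (iv F67383)
theorem F69502 : act 2 n17718 = n17114 := d17_1 D17718 (iv D17114) (iv F67384)
theorem F69503 : act 4 n17718 = n17117 := d26_1 D17718 (iv D17117) (iv D16530) (iv F65315) D17113
def n17719 : Q := act 6 n17114
theorem D17719 : act 6 n17114 = n17719 := rfl
theorem F69504 : act 0 n17719 = n17179 := d5_1 D17719 (iv D17179) (iv F67385)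
theorem F69505 : act 4 n17719 = n17118 := d27_1 D17719 (iv D17118) (iv F67386)
def n17720 : Q := act 4 n17115
theorem D17720 : act 4 n17115 = n17720 := rfl
theorem F69506 : act 0 n17720 = n17116 := d3_1 D17720 (iv D17116) D17115
theorem F69507 : act 1 n17720 = n17180 := d10_1 D17720 (iv D17180) (iv F67387)
def n17721 : Q := act 5 n17116
theorem D17721 : act 5 n17116 = n17721 := rfl
theorem F69508 : act 1 n17721 = n17117 := d11_1 D17721 (iv D17117) (iv F67390)
def n17722 : Q := act 6 n17117
theorem D17722 : act 6 n17117 = n17722 := rfl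
theorem F69509 : act 0 n17722 = n17182 := d5_1 D17722 (iv D17182) (iv F67391)
theorem F69510 : act 2 n17722 = n17118 := d18_1 D17722 (iv D17118) (iv F67392)
def n17723 : Q := act 0 n17120
theorem D17723 : act 0 n17120 = n17723 := rfl
theorem F69511 : act 1 n17723 = n17187 := d0_2 D17120 D17723 (iv D17187) (iv D16597) (iv F65343)
theorem F69512 : act 2 n17723 = n17723 := d1_2 F67400 D17723 (iv D17723)
theorem F69513 : act 5 n17723 = n17129 := d4_2 F68861 D17723 (iv F68857)
theorem F69514 : act 7 n17723 = n17723 := d6_2 F67401 D17723 (iv D17723)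
theorem F69515 : act 8 n17723 = n17122 := d7_2 (iv F67402) D17723 (iv D17122)
def n17724 : Q := act 4 n17120
theorem D17724 : act 4 n17120 = n17724 := rfl
theorem F69516 : act 1 n17724 = n17121 := d10_1 D17724 (iv D17121) D17120
theorem F69517 : act 2 n17724 = n17724 := d16_1 D17724 (iv D17724) F67400
theorem F69518 : act 5 n17724 = n17401 := d26_2 F68861 D17724 (iv D17401) (iv F68423) (iv F68860)
theorem F69519 : act 6 n17724 = n17665 := d27_2 F69314 D17724 F69348
theorem F69520 : act 7 n17724 = n17724 := d28_2 F67401 D17724 (iv D17724)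
theorem F69521 : act 8 n17724 = n17123 := d29_2 (iv F67402) D17724 (iv D17123)
def n17725 : Q := act 3 n17121
theorem D17725 : act 3 n17121 = n17725 := rfl
theorem F69522 : act 0 n17725 = n17189 := d2_1 D17725 (iv D17189) (iv F67403)
theorem F69523 : act 2 n17725 = n17512 := d15_1 D17725 (iv D17512) F66733 (iv F65348) (iv F67404)
theorem F69524 : act 5 n17725 = n17402 := d22_2 (iv F67405) D17725 (iv D17402)
theorem F69525 : act 6 n17725 = n17558 := d23_2 (iv F67406) D17725 F69018
theorem F69526 : act 8 n17725 = n17124 := d25_2 (iv F67408) D17725 (iv D17124)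
def n17726 : Q := act 4 n17122
theorem D17726 : act 4 n17122 = n17726 := rfl
theorem F69527 : act 0 n17726 = n17123 := d3_1 D17726 (iv D17123) D17122
theorem F69528 : act 1 n17726 = n17190 := d10_1 D17726 (iv D17190) (iv F67409)
theorem F69529 : act 2 n17726 = n17726 := d16_1 D17726 (iv D17726) F67410
theorem F69530 : act 5 n17726 = n17403 := d26_2 (iv F67411) D17726 (iv D17403) F66326 (iv F65379)
theorem F69531 : act 6 n17726 = n17666 := d27_2 F68411 D17726 F69353
theorem F69532 : act 7 n17726 = n17125 := d28_2 (iv F67412) D17726 (iv D17125)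
def n17727 : Q := act 3 n17123
theorem D17727 : act 3 n17123 = n17727 := rfl
theorem F69533 : act 1 n17727 = n17124 := d9_1 D17727 (iv D17124) (iv F67413)
theorem F69534 : act 5 n17727 = n17404 := d22_2 (iv F67415) D17727 (iv D17404)
theorem F69535 : act 6 n17727 = n17560 := d23_2 (iv F67416) D17727 F69022
theorem F69536 : act 7 n17727 = n17537 := d24_2 (iv F67417) D17727 F68937 F66841 (iv F65367)
def n17728 : Q := act 7 n17126
theorem D17728 : act 7 n17126 = n17728 := rfl
theorem F69537 : act 3 n17728 = n17728 := d24_1 D17728 (iv D17728) (iv D17126) F65372 D17126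
def n17729 : Q := act 7 n17127
theorem D17729 : act 7 n17127 = n17729 := rfl
theorem F69538 : act 2 n17729 = n17128 := d19_1 D17729 (iv D17128) (iv F67431)
theorem F69539 : act 3 n17729 = n17729 := d24_1 D17729 (iv D17729) (iv D17127) F65377 D17127
def n17730 : Q := act 8 n17128
theorem D17730 : act 8 n17128 = n17730 := rfl
theorem F69540 : act 1 n17730 = n17593 := d14_1 D17730 F69120 F67945
theorem F69541 : act 3 n17730 = n17129 := d25_1 D17730 (iv D17129) (iv F67432)
def n17731 : Q := act 2 n17130
theorem D17731 : act 2 n17130 = n17731 := rfl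
theorem F69542 : act 0 n17731 = n17667 := d1_1 D17731 (iv D17667) (iv F67437)
theorem F69543 : act 3 n17731 = n17731 := d15_2 D17130 D17731 (iv D17731) (iv D17130) F65382
theorem F69544 : act 5 n17731 = n17132 := d17_2 (iv F67439) D17731 (iv D17132)
theorem F69545 : act 6 n17731 = n17427 := d18_2 (iv F67440) D17731 (iv D17427)
theorem F69546 : act 7 n17731 = n17135 := d19_2 (iv F67441) D17731 (iv D17135)
def n17732 : Q := act 4 n17130
theorem D17732 : act 4 n17130 = n17732 := rfl
theorem F69547 : act 0 n17732 = n17668 := d3_1 D17732 (iv D17668) (iv F67437)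
theorem F69548 : act 1 n17732 = n17421 := d10_1 D17732 (iv D17421) (iv F67438)
theorem F69549 : act 3 n17732 = n17420 := d21_1 D17732 (iv D17420) (iv D16823) (iv F65383) D17130
theorem F69550 : act 6 n17732 = n17428 := d27_2 (iv F67440) D17732 (iv D17428)
theorem F69551 : act 7 n17732 = n17136 := d28_2 (iv F67441) D17732 (iv D17136)
def n17733 : Q := act 2 n17131
theorem D17733 : act 2 n17131 = n17733 := rfl
theorem F69552 : act 3 n17733 = n17733 := d15_2 D17131 D17733 (iv D17733) (iv D17131) F65386
theorem F69553 : act 7 n17733 = n17558 := d19_2 (iv F67442) D17733 (iv D17558)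
theorem F69554 : act 8 n17733 = n17132 := d20_2 (iv F67443) D17733 (iv D17132)
def n17734 : Q := act 4 n17131
theorem D17734 : act 4 n17131 = n17734 := rfl
theorem F69555 : act 3 n17734 = n17150 := d21_1 D17734 (iv D17150) (iv D16563) (iv F65387) D17131
theorem F69556 : act 7 n17734 = n17559 := d28_2 (iv F67442) D17734 (iv D17559)
theorem F69557 : act 8 n17734 = n17133 := d29_2 (iv F67443) D17734 (iv D17133)
def n17735 : Q := act 1 n17132
theorem D17735 : act 1 n17132 = n17735 := rfl
theorem F69558 : act 2 n17735 = n17727 := d8_2 D17132 D17735 F69533 F67419 F66739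
theorem F69559 : act 3 n17735 = n17735 := d9_2 F67444 D17735 (iv D17735)
theorem F69560 : act 7 n17735 = n17137 := d13_2 (iv F67445) D17735 (iv D17137)
def n17736 : Q := act 4 n17132
theorem D17736 : act 4 n17132 = n17736 := rfl
theorem F69561 : act 2 n17736 = n17133 := d16_1 D17736 (iv D17133) D17132
theorem F69562 : act 7 n17736 = n17138 := d28_2 (iv F67445) D17736 (iv D17138)
def n17737 : Q := act 5 n17133
theorem D17737 : act 5 n17133 = n17737 := rfl
theorem F69563 : act 3 n17737 = n17152 := d22_1 D17737 (iv D17152) (iv F67446)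
theorem F69564 : act 7 n17737 = n17139 := d31_2 (iv F67447) D17737 (iv D17139)
def n17738 : Q := act 2 n17134
theorem D17738 : act 2 n17134 = n17738 := rfl
theorem F69565 : act 3 n17738 = n17141 := d15_2 D17134 D17738 (iv D17141) (iv D16556) (iv F65391)
theorem F69566 : act 5 n17738 = n17659 := d17_2 F68562 D17738 F69318
theorem F69567 : act 6 n17738 = n17135 := d18_2 (iv F67449) D17738 (iv D17135)
theorem F69568 : act 7 n17738 = n17427 := d19_2 (iv F67450) D17738 (iv D17427)
theorem F69569 : act 8 n17738 = n17563 := d20_2 (iv F67451) D17738 (iv D17563)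
def n17739 : Q := act 4 n17134
theorem D17739 : act 4 n17134 = n17739 := rfl
theorem F69570 : act 1 n17739 = n17432 := d10_1 D17739 (iv D17432) (iv F67448)
theorem F69571 : act 3 n17739 = n17448 := d21_1 D17739 (iv D17448) (iv D16847) (iv F65392) D17134
theorem F69572 : act 6 n17739 = n17136 := d27_2 (iv F67449) D17739 (iv D17136)
theorem F69573 : act 7 n17739 = n17428 := d28_2 (iv F67450) D17739 (iv D17428)
theorem F69574 : act 8 n17739 = n17564 := d29_2 (iv F67451) D17739 (iv D17564)
def n17740 : Q := act 1 n17135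
theorem D17740 : act 1 n17135 = n17740 := rfl
theorem F69575 : act 2 n17740 = n17191 := d8_2 D17135 D17740 F67599 F65511 (iv F65395)
theorem F69576 : act 3 n17740 = n17142 := d9_2 (iv F67452) D17740 (iv D17142)
theorem F69577 : act 5 n17740 = n17137 := d11_2 (iv F67453) D17740 (iv D17137)
theorem F69578 : act 8 n17740 = n17565 := d14_2 (iv F67454) D17740 (iv D17565)
def n17741 : Q := act 4 n17135
theorem D17741 : act 4 n17135 = n17741 := rfl
theorem F69579 : act 2 n17741 = n17136 := d16_1 D17741 (iv D17136) D17135
theorem F69580 : act 8 n17741 = n17566 := d29_2 (iv F67454) D17741 (iv D17566)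
def n17742 : Q := act 5 n17136
theorem D17742 : act 5 n17136 = n17742 := rfl
theorem F69581 : act 1 n17742 = n17651 := d11_1 D17742 (iv D17651) (iv F67455)
theorem F69582 : act 3 n17742 = n17650 := d22_1 D17742 (iv D17650) (iv F67456)
theorem F69583 : act 4 n17742 = n17139 := d26_1 D17742 (iv D17139) (iv D16554) (iv F65396) D17136
theorem F69584 : act 8 n17742 = n17567 := d32_2 (iv F67457) D17742 (iv D17567)
def n17743 : Q := act 0 n17137
theorem D17743 : act 0 n17137 = n17743 := rfl
theorem F69585 : act 3 n17743 = n17144 := d2_2 (iv F67458) D17743 (iv D17144)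
theorem F69586 : act 8 n17743 = n17568 := d7_2 (iv F67459) D17743 (iv D17568)
def n17744 : Q := act 4 n17137
theorem D17744 : act 4 n17137 = n17744 := rfl
theorem F69587 : act 1 n17744 = n17138 := d10_1 D17744 (iv D17138) D17137
theorem F69588 : act 8 n17744 = n17569 := d29_2 (iv F67459) D17744 (iv D17569)
def n17745 : Q := act 5 n17138
theorem D17745 : act 5 n17138 = n17745 := rfl
theorem F69589 : act 2 n17745 = n17139 := d17_1 D17745 (iv D17139) (iv F67460)
theorem F69590 : act 8 n17745 = n17570 := d32_2 (iv F67461) D17745 (iv D17570)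
def n17746 : Q := act 6 n17139
theorem D17746 : act 6 n17139 = n17746 := rfl
theorem F69591 : act 3 n17746 = n17140 := d23_1 D17746 (iv D17140) (iv F67462)
theorem F69592 : act 8 n17746 = n17571 := d34_2 (iv F67463) D17746 (iv D17571)
def n17747 : Q := act 0 n17142
theorem D17747 : act 0 n17142 = n17747 := rfl
theorem F69593 : act 2 n17747 = n17192 := d1_2 (iv F67470) D17747 (iv D17192)
theorem F69594 : act 4 n17747 = n17663 := d3_2 F67474 D17747 F69338
theorem F69595 : act 5 n17747 = n17144 := d4_2 (iv F67471) D17747 (iv D17144)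
theorem F69596 : act 6 n17747 = n17680 := d5_2 F67477 D17747 F69398
theorem F69597 : act 7 n17747 = n17747 := d6_2 F67472 D17747 (iv D17747)
theorem F69598 : act 8 n17747 = n17572 := d7_2 (iv F67473) D17747 (iv D17572)
def n17748 : Q := act 3 n17143
theorem D17748 : act 3 n17143 = n17748 := rfl
theorem F69599 : act 1 n17748 = n17738 := d9_1 D17748 F69565 (iv F67475)
theorem F69600 : act 2 n17748 = n17660 := d15_1 D17748 (iv D17660) F67217 (iv F65413) (iv F67476)
theorem F69601 : act 6 n17748 = n17740 := d23_2 (iv F67477) D17748 F69576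
theorem F69602 : act 8 n17748 = n17573 := d25_2 (iv F67479) D17748 (iv D17573)
def n17749 : Q := act 2 n17145
theorem D17749 : act 2 n17145 = n17749 := rfl
theorem F69603 : act 0 n17749 = n17323 := d1_1 D17749 (iv D17323) (iv F67483)
theorem F69604 : act 1 n17749 = n17521 := d8_1 D17749 (iv D17521) F66782 (iv F66424) (iv F67484)
theorem F69605 : act 3 n17749 = n17749 := d15_2 D17145 D17749 (iv D17749) (iv D17145) F65421
theorem F69606 : act 5 n17749 = n17419 := d17_2 (iv F67485) D17749 (iv D17419)
theorem F69607 : act 6 n17749 = n17459 := d18_2 (iv F67486) D17749 (iv D17459)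
theorem F69608 : act 7 n17749 = n17230 := d19_2 (iv F67487) D17749 (iv D17230)
def n17750 : Q := act 4 n17145
theorem D17750 : act 4 n17145 = n17750 := rfl
theorem F69609 : act 0 n17750 = n17324 := d3_1 D17750 (iv D17324) (iv F67483)
theorem F69610 : act 1 n17750 = n17418 := d10_1 D17750 (iv D17418) (iv F67484)
theorem F69611 : act 3 n17750 = n17148 := d21_1 D17750 (iv D17148) (iv D16562) (iv F65422) D17145
theorem F69612 : act 6 n17750 = n17460 := d27_2 (iv F67486) D17750 (iv D17460)
theorem F69613 : act 7 n17750 = n17231 := d28_2 (iv F67487) D17750 (iv D17231)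
def n17751 : Q := act 2 n17146
theorem D17751 : act 2 n17146 = n17751 := rfl
theorem F69614 : act 3 n17751 = n17751 := d15_2 D17146 D17751 (iv D17751) (iv D17146) F65425
theorem F69615 : act 5 n17751 = n17149 := d17_2 (iv F67488) D17751 (iv D17149)
theorem F69616 : act 7 n17751 = n17161 := d19_2 (iv F67489) D17751 (iv D17161)
theorem F69617 : act 8 n17751 = n17147 := d20_2 (iv F67490) D17751 (iv D17147)
def n17752 : Q := act 4 n17146
theorem D17752 : act 4 n17146 = n17752 := rfl
theorem F69618 : act 7 n17752 = n17162 := d28_2 (iv F67489) D17752 (iv D17162)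
theorem F69619 : act 8 n17752 = n17148 := d29_2 (iv F67490) D17752 (iv D17148)
def n17753 : Q := act 4 n17147
theorem D17753 : act 4 n17147 = n17753 := rfl
theorem F69620 : act 2 n17753 = n17148 := d16_1 D17753 (iv D17148) D17147
theorem F69621 : act 7 n17753 = n17153 := d28_2 (iv F67493) D17753 (iv D17153)
def n17754 : Q := act 5 n17148
theorem D17754 : act 5 n17148 = n17754 := rfl
theorem F69622 : act 4 n17754 = n17152 := d26_1 D17754 (iv D17152) (iv D16565) (iv F65428) D17148
theorem F69623 : act 7 n17754 = n17154 := d31_2 (iv F67494) D17754 (iv D17154)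
def n17755 : Q := act 4 n17149
theorem D17755 : act 4 n17149 = n17755 := rfl
theorem F69624 : act 2 n17755 = n17150 := d16_1 D17755 (iv D17150) D17149
theorem F69625 : act 7 n17755 = n17167 := d28_2 (iv F67496) D17755 (iv D17167)
theorem F69626 : act 8 n17755 = n17151 := d29_2 (iv F67497) D17755 (iv D17151)
def n17756 : Q := act 5 n17150
theorem D17756 : act 5 n17150 = n17756 := rfl
theorem F69627 : act 7 n17756 = n17168 := d31_2 (iv F67498) D17756 (iv D17168)
theorem F69628 : act 8 n17756 = n17152 := d32_2 (iv F67499) D17756 (iv D17152)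
def n17757 : Q := act 3 n17151
theorem D17757 : act 3 n17151 = n17757 := rfl
theorem F69629 : act 4 n17757 = n17757 := d21_2 D17151 D17757 (iv D17757) (iv D17151) F65432
def n17758 : Q := act 5 n17151
theorem D17758 : act 5 n17151 = n17758 := rfl
theorem F69630 : act 2 n17758 = n17152 := d17_1 D17758 (iv D17152) (iv F67500)
theorem F69631 : act 7 n17758 = n17155 := d31_2 (iv F67501) D17758 (iv D17155)
def n17759 : Q := act 6 n17152
theorem D17759 : act 6 n17152 = n17759 := rfl
theorem F69632 : act 7 n17759 = n17156 := d33_2 (iv F67502) D17759 (iv D17156)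
def n17760 : Q := act 5 n17153
theorem D17760 : act 5 n17153 = n17760 := rfl
theorem F69633 : act 2 n17760 = n17154 := d17_1 D17760 (iv D17154) (iv F67503)
theorem F69634 : act 4 n17760 = n17155 := d26_1 D17760 (iv D17155) (iv D16568) (iv F65436) D17153
theorem F69635 : act 8 n17760 = n17178 := d32_2 (iv F67504) D17760 (iv D17178)
def n17761 : Q := act 6 n17154
theorem D17761 : act 6 n17154 = n17761 := rfl
theorem F69636 : act 4 n17761 = n17156 := d27_1 D17761 (iv D17156) (iv F67505)
theorem F69637 : act 8 n17761 = n17179 := d34_2 (iv F67506) D17761 (iv D17179)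
def n17762 : Q := act 6 n17155
theorem D17762 : act 6 n17155 = n17762 := rfl
theorem F69638 : act 2 n17762 = n17156 := d18_1 D17762 (iv D17156) (iv F67507)
theorem F69639 : act 8 n17762 = n17182 := d34_2 (iv F67508) D17762 (iv D17182)
def n17763 : Q := act 4 n17157
theorem D17763 : act 4 n17157 = n17763 := rfl
theorem F69640 : act 0 n17763 = n17374 := d3_1 D17763 (iv D17374) (iv F67511)
theorem F69641 : act 2 n17763 = n17158 := d16_1 D17763 (iv D17158) D17157
theorem F69642 : act 3 n17763 = n17252 := d21_1 D17763 (iv D17252) (iv D16661) (iv F65475) (iv F67512)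
theorem F69643 : act 7 n17763 = n17498 := d28_2 (iv F67514) D17763 (iv D17498)
def n17764 : Q := act 5 n17158
theorem D17764 : act 5 n17158 = n17764 := rfl
theorem F69644 : act 3 n17764 = n17165 := d22_1 D17764 (iv D17165) (iv F67515)
theorem F69645 : act 4 n17764 = n17643 := d26_1 D17764 (iv D17643) (iv D17032) (iv F65444) D17158
def n17765 : Q := act 4 n17159
theorem D17765 : act 4 n17159 = n17765 := rfl
theorem F69646 : act 2 n17765 = n17160 := d16_1 D17765 (iv D17160) D17159
theorem F69647 : act 6 n17765 = n17164 := d27_2 (iv F67517) D17765 (iv D17164)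
theorem F69648 : act 7 n17765 = n17174 := d28_2 (iv F67518) D17765 (iv D17174)
def n17766 : Q := act 5 n17160
theorem D17766 : act 5 n17160 = n17766 := rfl
theorem F69649 : act 7 n17766 = n17175 := d31_2 (iv F67520) D17766 (iv D17175)
def n17767 : Q := act 1 n17161
theorem D17767 : act 1 n17161 = n17767 := rfl
theorem F69650 : act 2 n17767 = n17452 := d8_2 D17161 D17767 (iv F68638) F68639 F67015
theorem F69651 : act 3 n17767 = n17184 := d9_2 (iv F67521) D17767 (iv D17184)
theorem F69652 : act 5 n17767 = n17166 := d11_2 (iv F67522) D17767 (iv D17166)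
theorem F69653 : act 8 n17767 = n17163 := d14_2 (iv F67523) D17767 (iv D17163)
theorem F69654 : act 0 n17593 = n17767 := d7_3 F69653 (iv F67944) (iv F69120)
def n17768 : Q := act 4 n17161
theorem D17768 : act 4 n17161 = n17768 := rfl
theorem F69655 : act 2 n17768 = n17162 := d16_1 D17768 (iv D17162) D17161
theorem F69656 : act 8 n17768 = n17164 := d29_2 (iv F67523) D17768 (iv D17164)
def n17769 : Q := act 5 n17162
theorem D17769 : act 5 n17162 = n17769 := rfl
theorem F69657 : act 4 n17769 = n17168 := d26_1 D17769 (iv D17168) (iv D16577) (iv F65447) D17162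
theorem F69658 : act 8 n17769 = n17165 := d32_2 (iv F67524) D17769 (iv D17165)
def n17770 : Q := act 4 n17163
theorem D17770 : act 4 n17163 = n17770 := rfl
theorem F69659 : act 1 n17770 = n17164 := d10_1 D17770 (iv D17164) D17163
theorem F69660 : act 3 n17770 = n17765 := d21_1 D17770 (iv D17765) F67516 F65492 (iv F67525)
theorem F69661 : act 7 n17770 = n17176 := d28_2 (iv F67527) D17770 (iv D17176)
def n17771 : Q := act 3 n17164
theorem D17771 : act 3 n17164 = n17771 := rfl
theorem F69662 : act 0 n17771 = n17379 := d2_1 D17771 (iv F69471) F69469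
theorem F69663 : act 1 n17771 = n17765 := d9_1 D17771 (iv F69660) F69659
theorem F69664 : act 2 n17771 = n17252 := d15_1 D17771 (iv F69642) F69641 F67515 (iv F67528)
theorem F69665 : act 4 n17771 = n17186 := d21_2 D17164 D17771 (iv D17186) (iv D16596) (iv F65449)
theorem F69666 : act 6 n17771 = n17770 := d23_2 F69647 D17771 F69660
theorem F69667 : act 7 n17259 = n17771 := d33_0 F69666 F69661 (iv F67914)
def n17772 : Q := act 5 n17164
theorem D17772 : act 5 n17164 = n17772 := rfl
theorem F69668 : act 2 n17772 = n17165 := d17_1 D17772 (iv D17165) (iv F67528)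
theorem F69669 : act 4 n17772 = n17172 := d26_1 D17772 (iv D17172) (iv D16579) (iv F65450) D17164
theorem F69670 : act 7 n17772 = n17178 := d31_2 (iv F67529) D17772 (iv D17178)
def n17773 : Q := act 6 n17165
theorem D17773 : act 6 n17165 = n17773 := rfl
theorem F69671 : act 4 n17773 = n17173 := d27_1 D17773 (iv D17173) (iv F67530)
theorem F69672 : act 7 n17773 = n17179 := d33_2 (iv F67531) D17773 (iv D17179)
def n17774 : Q := act 0 n17166
theorem D17774 : act 0 n17166 = n17774 := rfl
theorem F69673 : act 2 n17774 = n17554 := d1_2 F67998 D17774 F69001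
theorem F69674 : act 3 n17774 = n17187 := d2_2 (iv F67532) D17774 (iv D17187)
theorem F69675 : act 5 n17774 = n17593 := d4_2 F69652 D17774 F69654
theorem F69676 : act 8 n17774 = n17169 := d7_2 (iv F67533) D17774 (iv D17169)
def n17775 : Q := act 4 n17166
theorem D17775 : act 4 n17166 = n17775 := rfl
theorem F69677 : act 1 n17775 = n17167 := d10_1 D17775 (iv D17167) D17166
theorem F69678 : act 8 n17775 = n17170 := d29_2 (iv F67533) D17775 (iv D17170)
def n17776 : Q := act 3 n17167
theorem D17776 : act 3 n17167 = n17776 := rfl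
theorem F69679 : act 2 n17776 = n17549 := d15_1 D17776 F68985 F67139 (iv F65455) (iv F67534)
theorem F69680 : act 4 n17776 = n17189 := d21_2 D17167 D17776 (iv D17189) (iv D16598) (iv F65453)
theorem F69681 : act 8 n17776 = n17171 := d25_2 (iv F67535) D17776 (iv D17171)
def n17777 : Q := act 5 n17167
theorem D17777 : act 5 n17167 = n17777 := rfl
theorem F69682 : act 2 n17777 = n17168 := d17_1 D17777 (iv D17168) (iv F67534)
theorem F69683 : act 8 n17777 = n17172 := d32_2 (iv F67535) D17777 (iv D17172)
def n17778 : Q := act 6 n17168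
theorem D17778 : act 6 n17168 = n17778 := rfl
theorem F69684 : act 3 n17778 = n17649 := d23_1 D17778 (iv D17649) (iv F67536)
theorem F69685 : act 8 n17778 = n17173 := d34_2 (iv F67537) D17778 (iv D17173)
def n17779 : Q := act 4 n17169
theorem D17779 : act 4 n17169 = n17779 := rfl
theorem F69686 : act 0 n17779 = n17170 := d3_1 D17779 (iv D17170) D17169
theorem F69687 : act 7 n17779 = n17180 := d28_2 (iv F67539) D17779 (iv D17180)
def n17780 : Q := act 3 n17170
theorem D17780 : act 3 n17170 = n17780 := rfl
theorem F69688 : act 1 n17780 = n17171 := d9_1 D17780 (iv D17171) (iv F67540)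
theorem F69689 : act 4 n17780 = n17191 := d21_2 D17170 D17780 (iv D17191) (iv D16600) (iv F65457)
def n17781 : Q := act 5 n17170
theorem D17781 : act 5 n17170 = n17781 := rfl
theorem F69690 : act 1 n17781 = n17172 := d11_1 D17781 (iv D17172) (iv F67540)
theorem F69691 : act 7 n17781 = n17181 := d31_2 (iv F67541) D17781 (iv D17181)
def n17782 : Q := act 5 n17171
theorem D17782 : act 5 n17171 = n17782 := rfl
theorem F69692 : act 2 n17782 = n17651 := d17_1 D17782 (iv D17651) (iv F67542)
theorem F69693 : act 3 n17782 = n17172 := d22_1 D17782 (iv D17172) D17171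
def n17783 : Q := act 6 n17172
theorem D17783 : act 6 n17172 = n17783 := rfl
theorem F69694 : act 2 n17783 = n17173 := d18_1 D17783 (iv D17173) (iv F67544)
theorem F69695 : act 7 n17783 = n17182 := d33_2 (iv F67545) D17783 (iv D17182)
def n17784 : Q := act 5 n17174
theorem D17784 : act 5 n17174 = n17784 := rfl
theorem F69696 : act 2 n17784 = n17175 := d17_1 D17784 (iv D17175) (iv F67548)
def n17785 : Q := act 6 n17175
theorem D17785 : act 6 n17175 = n17785 := rfl
theorem F69697 : act 5 n17785 = n17179 := d30_1 D17785 (iv D17179) (iv D16585) (iv F65465) D17175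
def n17786 : Q := act 5 n17176
theorem D17786 : act 5 n17176 = n17786 := rfl
theorem F69698 : act 1 n17786 = n17178 := d11_1 D17786 (iv D17178) (iv F67550)
theorem F69699 : act 4 n17786 = n17181 := d26_1 D17786 (iv D17181) (iv D16587) (iv F65467) D17176
def n17787 : Q := act 5 n17177
theorem D17787 : act 5 n17177 = n17787 := rfl
theorem F69700 : act 3 n17787 = n17178 := d22_1 D17787 (iv D17178) D17177
def n17788 : Q := act 7 n17177
theorem D17788 : act 7 n17177 = n17788 := rfl
theorem F69701 : act 0 n17788 = n17234 := d6_1 D17788 (iv F68469) F68464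
theorem F69702 : act 1 n17788 = n17411 := d13_1 D17788 F68485 F67839
theorem F69703 : act 2 n17788 = n17233 := d19_1 D17788 F67805 F67783
theorem F69704 : act 3 n17788 = n17259 := d24_1 D17788 F69667 (iv D17771) F67529 D17177
theorem F69705 : act 4 n17788 = n17183 := d28_1 D17788 (iv D17183) (iv F67551)
theorem F69706 : act 6 n17788 = n17241 := d33_1 D17788 (iv F68485) F68484
theorem F69707 : act 8 n17527 = n17788 := d29_0 F69705 (iv F67564) D17527
def n17789 : Q := act 6 n17178
theorem D17789 : act 6 n17178 = n17789 := rfl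
theorem F69708 : act 2 n17789 = n17179 := d18_1 D17789 (iv D17179) (iv F67552)
theorem F69709 : act 4 n17789 = n17182 := d27_1 D17789 (iv D17182) (iv F67553)
def n17790 : Q := act 5 n17180
theorem D17790 : act 5 n17180 = n17790 := rfl
theorem F69710 : act 0 n17790 = n17181 := d4_1 D17790 (iv D17181) (iv F67555)
def n17791 : Q := act 6 n17181
theorem D17791 : act 6 n17181 = n17791 := rfl
theorem F69711 : act 1 n17791 = n17182 := d12_1 D17791 (iv D17182) (iv F67556)
def n17792 : Q := act 3 n17185
theorem D17792 : act 3 n17185 = n17792 := rfl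
theorem F69712 : act 0 n17792 = n17376 := d2_1 D17792 F68365 (iv F67571)
theorem F69713 : act 1 n17792 = n17602 := d9_1 D17792 F69140 (iv F67572)
theorem F69714 : act 2 n17792 = n17251 := d15_1 D17792 (iv D17251) F65793 (iv F65485) (iv F67573)
theorem F69715 : act 5 n17792 = n17253 := d22_2 (iv F67574) D17792 F67888
theorem F69716 : act 6 n17792 = n17767 := d23_2 (iv F67575) D17792 F69651
theorem F69717 : act 8 n17792 = n17186 := d25_2 (iv F67577) D17792 (iv D17186)
def n17793 : Q := act 4 n17187
theorem D17793 : act 4 n17187 = n17793 := rfl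
theorem F69718 : act 0 n17793 = n17188 := d3_1 D17793 (iv D17188) D17187
theorem F69719 : act 2 n17793 = n17193 := d16_1 D17793 (iv D17193) (iv F67584)
theorem F69720 : act 5 n17793 = n17656 := d26_2 (iv F67585) D17793 (iv F69307) F69308 F68510
theorem F69721 : act 7 n17793 = n17793 := d28_2 F67586 D17793 (iv D17793)
theorem F69722 : act 8 n17793 = n17190 := d29_2 (iv F67587) D17793 (iv D17190)
def n17794 : Q := act 3 n17188
theorem D17794 : act 3 n17188 = n17794 := rfl
theorem F69723 : act 1 n17794 = n17189 := d9_1 D17794 (iv D17189) (iv F67588)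
theorem F69724 : act 2 n17794 = n17565 := d15_1 D17794 F69036 F66916 (iv F65544) (iv F67589)
theorem F69725 : act 5 n17794 = n17550 := d22_2 (iv F67590) D17794 F68988
theorem F69726 : act 8 n17794 = n17191 := d25_2 (iv F67592) D17794 (iv D17191)
def n17795 : Q := act 7 n17189
theorem D17795 : act 7 n17189 = n17795 := rfl
theorem F69727 : act 2 n17795 = n17545 := d19_1 D17795 F68969 (iv F67593)
theorem F69728 : act 3 n17795 = n17795 := d24_1 D17795 (iv D17795) (iv D17189) F65503 D17189
theorem F69729 : act 5 n17795 = n17547 := d31_1 D17795 F68979 (iv F67594)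
def n17796 : Q := act 3 n17190
theorem D17796 : act 3 n17190 = n17796 := rfl
theorem F69730 : act 0 n17796 = n17191 := d2_1 D17796 (iv D17191) (iv F67596)
def n17797 : Q := act 2 n17194
theorem D17797 : act 2 n17194 = n17797 := rfl
theorem F69731 : act 0 n17797 = n17196 := d1_1 D17797 (iv D17196) (iv F67613)
theorem F69732 : act 1 n17797 = n17459 := d8_1 D17797 (iv D17459) (iv F66811) F66812 (iv F67614)
theorem F69733 : act 3 n17797 = n17797 := d15_2 D17194 D17797 (iv D17797) (iv D17194) F65553
theorem F69734 : act 5 n17797 = n17424 := d17_2 (iv F67615) D17797 (iv D17424)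
theorem F69735 : act 6 n17797 = n17521 := d18_2 (iv F67616) D17797 (iv D17521)
theorem F69736 : act 7 n17797 = n17213 := d19_2 (iv F67617) D17797 (iv D17213)
theorem F69737 : act 8 n17797 = n17749 := d20_2 (iv F67618) D17797 (iv D17749)
def n17798 : Q := act 4 n17194
theorem D17798 : act 4 n17194 = n17798 := rfl
theorem F69738 : act 0 n17798 = n17197 := d3_1 D17798 (iv D17197) (iv F67613)
theorem F69739 : act 1 n17798 = n17272 := d10_1 D17798 (iv D17272) (iv F67614)
theorem F69740 : act 3 n17798 = n17752 := d21_1 D17798 (iv D17752) (iv D17146) (iv F65554) D17194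
theorem F69741 : act 6 n17798 = n17522 := d27_2 (iv F67616) D17798 (iv D17522)
theorem F69742 : act 7 n17798 = n17214 := d28_2 (iv F67617) D17798 (iv D17214)
theorem F69743 : act 8 n17798 = n17750 := d29_2 (iv F67618) D17798 (iv D17750)
def n17799 : Q := act 2 n17195
theorem D17799 : act 2 n17195 = n17799 := rfl
theorem F69744 : act 0 n17799 = n17751 := d1_1 D17799 (iv D17751) (iv F67619)
theorem F69745 : act 3 n17799 = n17799 := d15_2 D17195 D17799 (iv D17799) (iv D17195) F65560
theorem F69746 : act 5 n17799 = n17685 := d17_2 (iv F67621) D17799 (iv D17685)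
theorem F69747 : act 6 n17799 = n17362 := d18_2 (iv F67622) D17799 (iv D17362)
theorem F69748 : act 7 n17799 = n17706 := d19_2 (iv F67623) D17799 (iv D17706)
theorem F69749 : act 8 n17799 = n17329 := d20_2 (iv F67624) D17799 (iv D17329)
def n17800 : Q := act 4 n17195
theorem D17800 : act 4 n17195 = n17800 := rfl
theorem F69750 : act 0 n17800 = n17752 := d3_1 D17800 (iv D17752) (iv F67619)
theorem F69751 : act 1 n17800 = n17201 := d10_1 D17800 (iv D17201) (iv F67620)
theorem F69752 : act 3 n17800 = n17197 := d21_1 D17800 (iv D17197) (iv D16612) (iv F65561) D17195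
theorem F69753 : act 6 n17800 = n17363 := d27_2 (iv F67622) D17800 (iv D17363)
theorem F69754 : act 7 n17800 = n17707 := d28_2 (iv F67623) D17800 (iv D17707)
theorem F69755 : act 8 n17800 = n17330 := d29_2 (iv F67624) D17800 (iv D17330)
def n17801 : Q := act 4 n17196
theorem D17801 : act 4 n17196 = n17801 := rfl
theorem F69756 : act 1 n17801 = n17669 := d10_1 D17801 (iv D17669) (iv F67625)
theorem F69757 : act 2 n17801 = n17197 := d16_1 D17801 (iv D17197) D17196
theorem F69758 : act 7 n17801 = n17217 := d28_2 (iv F67628) D17801 (iv D17217)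
def n17802 : Q := act 5 n17197
theorem D17802 : act 5 n17197 = n17802 := rfl
theorem F69759 : act 1 n17802 = n17202 := d11_1 D17802 (iv D17202) (iv F67629)
theorem F69760 : act 4 n17802 = n17430 := d26_1 D17802 (iv D17430) (iv D16831) (iv F65566) D17197
theorem F69761 : act 7 n17802 = n17218 := d31_2 (iv F67630) D17802 (iv D17218)
def n17803 : Q := act 2 n17198
theorem D17803 : act 2 n17198 = n17803 := rfl
theorem F69762 : act 0 n17803 = n17277 := d1_1 D17803 (iv D17277) (iv F67631)
theorem F69763 : act 3 n17803 = n17803 := d15_2 D17198 D17803 (iv D17803) (iv D17198) F65570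
theorem F69764 : act 5 n17803 = n17693 := d17_2 (iv F67633) D17803 (iv D17693)
theorem F69765 : act 6 n17803 = n17310 := d18_2 (iv F67634) D17803 (iv D17310)
theorem F69766 : act 7 n17803 = n17200 := d19_2 (iv F67635) D17803 (iv D17200)
theorem F69767 : act 8 n17803 = n17290 := d20_2 (iv F67636) D17803 (iv D17290)
def n17804 : Q := act 4 n17198
theorem D17804 : act 4 n17198 = n17804 := rfl
theorem F69768 : act 0 n17804 = n17278 := d3_1 D17804 (iv D17278) (iv F67631)
theorem F69769 : act 1 n17804 = n17707 := d10_1 D17804 (iv D17707) (iv F67632)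
theorem F69770 : act 3 n17804 = n17222 := d21_1 D17804 (iv D17222) (iv D16632) (iv F65571) D17198
theorem F69771 : act 6 n17804 = n17311 := d27_2 (iv F67634) D17804 (iv D17311)
theorem F69772 : act 7 n17804 = n17201 := d28_2 (iv F67635) D17804 (iv D17201)
theorem F69773 : act 8 n17804 = n17291 := d29_2 (iv F67636) D17804 (iv D17291)
def n17805 : Q := act 2 n17199
theorem D17805 : act 2 n17199 = n17805 := rfl
theorem F69774 : act 0 n17805 = n17280 := d1_1 D17805 (iv D17280) (iv F67637)
theorem F69775 : act 3 n17805 = n17203 := d15_2 D17199 D17805 (iv D17203) (iv D16617) (iv F65577)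
theorem F69776 : act 5 n17805 = n17200 := d17_2 (iv F67639) D17805 (iv D17200)
theorem F69777 : act 6 n17805 = n17774 := d18_2 F69003 D17805 F69673
theorem F69778 : act 7 n17805 = n17693 := d19_2 (iv F67640) D17805 (iv D17693)
theorem F69779 : act 8 n17805 = n17336 := d20_2 (iv F67641) D17805 (iv D17336)
def n17806 : Q := act 4 n17199
theorem D17806 : act 4 n17199 = n17806 := rfl
theorem F69780 : act 0 n17806 = n17281 := d3_1 D17806 (iv D17281) (iv F67637)
theorem F69781 : act 1 n17806 = n17686 := d10_1 D17806 (iv D17686) (iv F67638)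
theorem F69782 : act 3 n17806 = n17434 := d21_1 D17806 (iv D17434) (iv D16834) (iv F65578) D17199
theorem F69783 : act 7 n17806 = n17694 := d28_2 (iv F67640) D17806 (iv D17694)
theorem F69784 : act 8 n17806 = n17337 := d29_2 (iv F67641) D17806 (iv D17337)
def n17807 : Q := act 1 n17200
theorem D17807 : act 1 n17200 = n17807 := rfl
theorem F69785 : act 3 n17807 = n17205 := d9_2 (iv F67643) D17807 (iv D17205)
theorem F69786 : act 6 n17807 = n17381 := d12_2 (iv F67644) D17807 (iv D17381)
theorem F69787 : act 8 n17807 = n17338 := d14_2 (iv F67645) D17807 (iv D17338)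
def n17808 : Q := act 4 n17200
theorem D17808 : act 4 n17200 = n17808 := rfl
theorem F69788 : act 0 n17808 = n17283 := d3_1 D17808 (iv D17283) (iv F67642)
theorem F69789 : act 2 n17808 = n17201 := d16_1 D17808 (iv D17201) D17200
theorem F69790 : act 3 n17808 = n17676 := d21_1 D17808 (iv D17676) F67297 (iv F65594) (iv F67643)
theorem F69791 : act 6 n17808 = n17382 := d27_2 (iv F67644) D17808 (iv D17382)
theorem F69792 : act 8 n17808 = n17339 := d29_2 (iv F67645) D17808 (iv D17339)
def n17809 : Q := act 5 n17201
theorem D17809 : act 5 n17201 = n17809 := rfl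
theorem F69793 : act 0 n17809 = n17284 := d4_1 D17809 (iv D17284) (iv F67646)
theorem F69794 : act 3 n17809 = n17202 := d22_1 D17809 (iv D17202) (iv F67647)
theorem F69795 : act 8 n17809 = n17340 := d32_2 (iv F67649) D17809 (iv D17340)
def n17810 : Q := act 6 n17202
theorem D17810 : act 6 n17202 = n17810 := rfl
theorem F69796 : act 0 n17810 = n17285 := d5_1 D17810 (iv D17285) (iv F67650)
theorem F69797 : act 2 n17810 = n17678 := d18_1 D17810 (iv D17678) (iv F67651)
theorem F69798 : act 4 n17810 = n17438 := d27_1 D17810 (iv D17438) (iv F67652)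
theorem F69799 : act 7 n17810 = n17228 := d33_2 (iv F67653) D17810 (iv D17228)
def n17811 : Q := act 1 n17203
theorem D17811 : act 1 n17203 = n17811 := rfl
theorem F69800 : act 0 n17811 = n17658 := d0_1 D17811 (iv D17658) F67199 (iv F65945) (iv F67654)
theorem F69801 : act 2 n17811 = n17811 := d8_2 D17203 D17811 (iv D17811) (iv D17203) F65588
theorem F69802 : act 5 n17811 = n17205 := d11_2 (iv F67655) D17811 (iv D17205)
theorem F69803 : act 6 n17811 = n17723 := d12_2 (iv F67656) D17811 F69511
theorem F69804 : act 7 n17811 = n17811 := d13_2 F67657 D17811 (iv D17811)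
theorem F69805 : act 8 n17811 = n17396 := d14_2 (iv F67658) D17811 (iv D17396)
def n17812 : Q := act 4 n17203
theorem D17812 : act 4 n17203 = n17812 := rfl
theorem F69806 : act 0 n17812 = n17286 := d3_1 D17812 (iv D17286) (iv F67654)
theorem F69807 : act 2 n17812 = n17204 := d16_1 D17812 (iv D17204) D17203
theorem F69808 : act 5 n17812 = n17680 := d26_2 (iv F67655) D17812 (iv D17680) F67306 (iv F65594)
theorem F69809 : act 6 n17812 = n17793 := d27_2 (iv F67656) D17812 (iv D17793)
theorem F69810 : act 7 n17812 = n17812 := d28_2 F67657 D17812 (iv D17812)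
theorem F69811 : act 8 n17812 = n17397 := d29_2 (iv F67658) D17812 (iv D17397)
def n17813 : Q := act 0 n17205
theorem D17813 : act 0 n17205 = n17813 := rfl
theorem F69812 : act 1 n17813 = n17287 := d0_2 D17205 D17813 (iv D17287) (iv D16698) (iv F65593)
theorem F69813 : act 2 n17813 = n17813 := d1_2 F67666 D17813 (iv D17813)
theorem F69814 : act 4 n17813 = n17681 := d3_2 (iv F67667) D17813 (iv D17681)
theorem F69815 : act 5 n17813 = n17658 := d4_2 F69802 D17813 (iv F69800)
theorem F69816 : act 6 n17813 = n17400 := d5_2 (iv F67668) D17813 (iv D17400)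
theorem F69817 : act 7 n17813 = n17813 := d6_2 F67669 D17813 (iv D17813)
theorem F69818 : act 8 n17813 = n17398 := d7_2 (iv F67670) D17813 (iv D17398)
def n17814 : Q := act 5 n17206
theorem D17814 : act 5 n17206 = n17814 := rfl
theorem F69819 : act 0 n17814 = n17288 := d4_1 D17814 (iv D17288) (iv F67671)
theorem F69820 : act 1 n17814 = n17462 := d11_1 D17814 (iv D17462) (iv F67672)
theorem F69821 : act 2 n17814 = n17296 := d17_1 D17814 (iv D17296) (iv F67673)
theorem F69822 : act 3 n17814 = n17412 := d22_1 D17814 (iv D17412) (iv F67674)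
theorem F69823 : act 4 n17814 = n17212 := d26_1 D17814 (iv D17212) (iv D16623) (iv F65601) D17206
theorem F69824 : act 8 n17814 = n17232 := d32_2 (iv F67676) D17814 (iv D17232)
def n17815 : Q := act 4 n17207
theorem D17815 : act 4 n17207 = n17815 := rfl
theorem F69825 : act 0 n17815 = n17527 := d3_1 D17815 (iv D17527) (iv F67677)
theorem F69826 : act 1 n17815 = n17446 := d10_1 D17815 (iv D17446) (iv F67678)
theorem F69827 : act 2 n17815 = n17208 := d16_1 D17815 (iv D17208) D17207
theorem F69828 : act 3 n17815 = n17317 := d21_1 D17815 (iv D17317) F66055 (iv F65857) (iv F67679)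
theorem F69829 : act 6 n17815 = n17217 := d27_2 (iv F67681) D17815 (iv D17217)
theorem F69830 : act 8 n17815 = n17234 := d29_2 (iv F67682) D17815 (iv D17234)
def n17816 : Q := act 5 n17208
theorem D17816 : act 5 n17208 = n17816 := rfl
theorem F69831 : act 0 n17816 = n17528 := d4_1 D17816 (iv D17528) (iv F67683)
theorem F69832 : act 1 n17816 = n17212 := d11_1 D17816 (iv D17212) (iv F67684)
theorem F69833 : act 3 n17816 = n17474 := d22_1 D17816 (iv D17474) (iv F67685)
theorem F69834 : act 4 n17816 = n17462 := d26_1 D17816 (iv D17462) (iv D16861) (iv F65606) D17208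
theorem F69835 : act 8 n17816 = n17235 := d32_2 (iv F67687) D17816 (iv D17235)
def n17817 : Q := act 2 n17209
theorem D17817 : act 2 n17209 = n17817 := rfl
theorem F69836 : act 0 n17817 = n17290 := d1_1 D17817 (iv D17290) (iv F67688)
theorem F69837 : act 1 n17817 = n17583 := d8_1 D17817 (iv D17583) F66961 (iv F66596) (iv F67689)
theorem F69838 : act 3 n17817 = n17817 := d15_2 D17209 D17817 (iv D17817) (iv D17209) F65611
theorem F69839 : act 5 n17817 = n17464 := d17_2 (iv F67690) D17817 (iv D17464)
theorem F69840 : act 6 n17817 = n17221 := d18_2 (iv F67691) D17817 (iv D17221)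
theorem F69841 : act 7 n17817 = n17210 := d19_2 (iv F67692) D17817 (iv D17210)
theorem F69842 : act 8 n17817 = n17277 := d20_2 (iv F67693) D17817 (iv D17277)
def n17818 : Q := act 4 n17209
theorem D17818 : act 4 n17209 = n17818 := rfl
theorem F69843 : act 0 n17818 = n17291 := d3_1 D17818 (iv D17291) (iv F67688)
theorem F69844 : act 1 n17818 = n17471 := d10_1 D17818 (iv D17471) (iv F67689)
theorem F69845 : act 3 n17818 = n17311 := d21_1 D17818 (iv D17311) (iv D16718) (iv F65612) D17209
theorem F69846 : act 6 n17818 = n17222 := d27_2 (iv F67691) D17818 (iv D17222)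
theorem F69847 : act 7 n17818 = n17211 := d28_2 (iv F67692) D17818 (iv D17211)
theorem F69848 : act 8 n17818 = n17278 := d29_2 (iv F67693) D17818 (iv D17278)
def n17819 : Q := act 4 n17210
theorem D17819 : act 4 n17210 = n17819 := rfl
theorem F69849 : act 0 n17819 = n17293 := d3_1 D17819 (iv D17293) (iv F67694)
theorem F69850 : act 1 n17819 = n17589 := d10_1 D17819 (iv D17589) (iv F67695)
theorem F69851 : act 2 n17819 = n17211 := d16_1 D17819 (iv D17211) D17210
theorem F69852 : act 3 n17819 = n17578 := d21_1 D17819 (iv D17578) F66939 (iv F65627) (iv F67696)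
theorem F69853 : act 6 n17819 = n17226 := d27_2 (iv F67698) D17819 (iv D17226)
theorem F69854 : act 8 n17819 = n17236 := d29_2 (iv F67699) D17819 (iv D17236)
def n17820 : Q := act 5 n17211
theorem D17820 : act 5 n17211 = n17820 := rfl
theorem F69855 : act 0 n17820 = n17294 := d4_1 D17820 (iv D17294) (iv F67700)
theorem F69856 : act 1 n17820 = n17474 := d11_1 D17820 (iv D17474) (iv F67701)
theorem F69857 : act 3 n17820 = n17212 := d22_1 D17820 (iv D17212) (iv F67702)
theorem F69858 : act 4 n17820 = n17467 := d26_1 D17820 (iv D17467) (iv D16865) (iv F65618) D17211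
theorem F69859 : act 8 n17820 = n17237 := d32_2 (iv F67704) D17820 (iv D17237)
def n17821 : Q := act 6 n17212
theorem D17821 : act 6 n17212 = n17821 := rfl
theorem F69860 : act 0 n17821 = n17295 := d5_1 D17821 (iv D17295) (iv F67705)
theorem F69861 : act 2 n17821 = n17580 := d18_1 D17821 (iv D17580) (iv F67706)
theorem F69862 : act 5 n17821 = n17228 := d30_1 D17821 (iv D17228) (iv D16636) (iv F65623) D17212
theorem F69863 : act 8 n17821 = n17238 := d34_2 (iv F67707) D17821 (iv D17238)
def n17822 : Q := act 4 n17213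
theorem D17822 : act 4 n17213 = n17822 := rfl
theorem F69864 : act 0 n17822 = n17217 := d3_1 D17822 (iv D17217) (iv F67708)
theorem F69865 : act 1 n17822 = n17461 := d10_1 D17822 (iv D17461) (iv F67709)
theorem F69866 : act 2 n17822 = n17214 := d16_1 D17822 (iv D17214) D17213
theorem F69867 : act 3 n17822 = n17491 := d21_1 D17822 (iv D17491) F66667 (iv F65864) (iv F67710)
theorem F69868 : act 6 n17822 = n17527 := d27_2 (iv F67712) D17822 (iv D17527)
theorem F69869 : act 8 n17822 = n17241 := d29_2 (iv F67713) D17822 (iv D17241)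
def n17823 : Q := act 5 n17214
theorem D17823 : act 5 n17214 = n17823 := rfl
theorem F69870 : act 0 n17823 = n17218 := d4_1 D17823 (iv D17218) (iv F67714)
theorem F69871 : act 1 n17823 = n17296 := d11_1 D17823 (iv D17296) (iv F67715)
theorem F69872 : act 3 n17823 = n17609 := d22_1 D17823 (iv D17609) (iv F67716)
theorem F69873 : act 4 n17823 = n17447 := d26_1 D17823 (iv D17447) (iv D16846) (iv F65634) D17214
theorem F69874 : act 8 n17823 = n17242 := d32_2 (iv F67718) D17823 (iv D17242)
def n17824 : Q := act 4 n17215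
theorem D17824 : act 4 n17215 = n17824 := rfl
theorem F69875 : act 0 n17824 = n17604 := d3_1 D17824 (iv D17604) (iv F67719)
theorem F69876 : act 1 n17824 = n17222 := d10_1 D17824 (iv D17222) (iv F67720)
theorem F69877 : act 2 n17824 = n17595 := d16_1 D17824 (iv D17595) (iv F67721)
theorem F69878 : act 3 n17824 = n17707 := d21_1 D17824 (iv D17707) (iv D17105) (iv F65640) D17215
theorem F69879 : act 6 n17824 = n17471 := d27_2 (iv F67723) D17824 (iv D17471)
theorem F69880 : act 7 n17824 = n17216 := d28_2 (iv F67724) D17824 (iv D17216)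
theorem F69881 : act 8 n17824 = n17705 := d29_2 (iv F67725) D17824 (iv D17705)
def n17825 : Q := act 5 n17216
theorem D17825 : act 5 n17216 = n17825 := rfl
theorem F69882 : act 0 n17825 = n17609 := d4_1 D17825 (iv D17609) (iv F67726)
theorem F69883 : act 1 n17825 = n17227 := d11_1 D17825 (iv D17227) (iv F67727)
theorem F69884 : act 2 n17825 = n17600 := d17_1 D17825 (iv D17600) (iv F67728)
theorem F69885 : act 3 n17825 = n17218 := d22_1 D17825 (iv D17218) (iv F67729)
theorem F69886 : act 4 n17825 = n17508 := d26_1 D17825 (iv D17508) (iv D16902) (iv F65647) D17216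
theorem F69887 : act 8 n17825 = n17246 := d32_2 (iv F67731) D17825 (iv D17246)
def n17826 : Q := act 3 n17217
theorem D17826 : act 3 n17217 = n17826 := rfl
theorem F69888 : act 0 n17826 = n17491 := d2_1 D17826 (iv F69867) F69864
theorem F69889 : act 1 n17826 = n17682 := d9_1 D17826 (iv D17682) (iv F67732)
theorem F69890 : act 2 n17826 = n17315 := d15_1 D17826 F68135 (iv F67728) F67729 (iv F67733)
theorem F69891 : act 4 n17826 = n17266 := d21_2 D17217 D17826 (iv D17266) (iv D16678) (iv F65651)
theorem F69892 : act 6 n17826 = n17317 := d23_2 F69829 D17826 (iv F69828)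
theorem F69893 : act 8 n17826 = n17247 := d25_2 (iv F67734) D17826 (iv D17247)
def n17827 : Q := act 5 n17217
theorem D17827 : act 5 n17217 = n17827 := rfl
theorem F69894 : act 1 n17827 = n17683 := d11_1 D17827 (iv D17683) (iv F67732)
theorem F69895 : act 2 n17827 = n17218 := d17_1 D17827 (iv D17218) (iv F67733)
theorem F69896 : act 4 n17827 = n17450 := d26_1 D17827 (iv D17450) (iv D16849) (iv F65652) D17217
theorem F69897 : act 8 n17827 = n17248 := d32_2 (iv F67734) D17827 (iv D17248)
def n17828 : Q := act 6 n17218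
theorem D17828 : act 6 n17218 = n17828 := rfl
theorem F69898 : act 1 n17828 = n17228 := d12_1 D17828 (iv D17228) (iv F67735)
theorem F69899 : act 4 n17828 = n17451 := d27_1 D17828 (iv D17451) (iv F67736)
theorem F69900 : act 8 n17828 = n17249 := d34_2 (iv F67737) D17828 (iv D17249)
def n17829 : Q := act 2 n17219
theorem D17829 : act 2 n17219 = n17829 := rfl
theorem F69901 : act 0 n17829 = n17308 := d1_1 D17829 (iv D17308) (iv F67738)
theorem F69902 : act 1 n17829 = n17351 := d8_1 D17829 (iv D17351) (iv F67826) F67827 (iv F67739)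
theorem F69903 : act 3 n17829 = n17829 := d15_2 D17219 D17829 (iv D17829) (iv D17219) F65658
theorem F69904 : act 5 n17829 = n17221 := d17_2 (iv F67740) D17829 (iv D17221)
theorem F69905 : act 6 n17829 = n17485 := d18_2 (iv F67741) D17829 (iv D17485)
theorem F69906 : act 7 n17829 = n17223 := d19_2 (iv F67742) D17829 (iv D17223)
def n17830 : Q := act 4 n17219
theorem D17830 : act 4 n17219 = n17830 := rfl
theorem F69907 : act 0 n17830 = n17309 := d3_1 D17830 (iv D17309) (iv F67738)
theorem F69908 : act 1 n17830 = n17499 := d10_1 D17830 (iv D17499) (iv F67739)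
theorem F69909 : act 6 n17830 = n17486 := d27_2 (iv F67741) D17830 (iv D17486)
theorem F69910 : act 7 n17830 = n17224 := d28_2 (iv F67742) D17830 (iv D17224)
def n17831 : Q := act 2 n17220
theorem D17831 : act 2 n17220 = n17831 := rfl
theorem F69911 : act 0 n17831 = n17310 := d1_1 D17831 (iv D17310) (iv F67743)
theorem F69912 : act 3 n17831 = n17831 := d15_2 D17220 D17831 (iv D17831) (iv D17220) F65663
theorem F69913 : act 6 n17831 = n17277 := d18_2 (iv F67745) D17831 (iv D17277)
theorem F69914 : act 7 n17831 = n17253 := d19_2 (iv F67746) D17831 (iv D17253)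
theorem F69915 : act 8 n17831 = n17221 := d20_2 (iv F67747) D17831 (iv D17221)
def n17832 : Q := act 4 n17220
theorem D17832 : act 4 n17220 = n17832 := rfl
theorem F69916 : act 0 n17832 = n17311 := d3_1 D17832 (iv D17311) (iv F67743)
theorem F69917 : act 1 n17832 = n17705 := d10_1 D17832 (iv D17705) (iv F67744)
theorem F69918 : act 3 n17832 = n17291 := d21_1 D17832 (iv D17291) (iv D16701) (iv F65664) D17220
theorem F69919 : act 6 n17832 = n17278 := d27_2 (iv F67745) D17832 (iv D17278)
theorem F69920 : act 7 n17832 = n17254 := d28_2 (iv F67746) D17832 (iv D17254)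
theorem F69921 : act 8 n17832 = n17222 := d29_2 (iv F67747) D17832 (iv D17222)
def n17833 : Q := act 1 n17221
theorem D17833 : act 1 n17221 = n17833 := rfl
theorem F69922 : act 2 n17833 = n17349 := d8_2 D17221 D17833 F68280 (iv F67721) F67720
theorem F69923 : act 3 n17833 = n17833 := d9_2 F67749 D17833 (iv D17833)
theorem F69924 : act 5 n17833 = n17351 := d11_2 F69904 D17833 (iv F69902)
theorem F69925 : act 6 n17833 = n17583 := d12_2 F69840 D17833 (iv F69837)
theorem F69926 : act 7 n17833 = n17225 := d13_2 (iv F67750) D17833 (iv D17225)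
theorem F69927 : act 0 n17360 = n17833 := d6_3 F69926 (iv F67769) (iv F68325)
def n17834 : Q := act 4 n17221
theorem D17834 : act 4 n17221 = n17834 := rfl
theorem F69928 : act 0 n17834 = n17313 := d3_1 D17834 (iv D17313) (iv F67748)
theorem F69929 : act 2 n17834 = n17222 := d16_1 D17834 (iv D17222) D17221
theorem F69930 : act 7 n17834 = n17226 := d28_2 (iv F67750) D17834 (iv D17226)
def n17835 : Q := act 5 n17222
theorem D17835 : act 5 n17222 = n17835 := rfl
theorem F69931 : act 0 n17835 = n17314 := d4_1 D17835 (iv D17314) (iv F67751)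
theorem F69932 : act 7 n17835 = n17227 := d31_2 (iv F67752) D17835 (iv D17227)
def n17836 : Q := act 4 n17223
theorem D17836 : act 4 n17223 = n17836 := rfl
theorem F69933 : act 0 n17836 = n17317 := d3_1 D17836 (iv D17317) (iv F67753)
theorem F69934 : act 1 n17836 = n17354 := d10_1 D17836 (iv D17354) (iv F67754)
theorem F69935 : act 2 n17836 = n17224 := d16_1 D17836 (iv D17224) D17223
theorem F69936 : act 3 n17836 = n17527 := d21_1 D17836 (iv D17527) F66797 (iv F65686) (iv F67755)
theorem F69937 : act 6 n17836 = n17491 := d27_2 (iv F67757) D17836 (iv D17491)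
theorem F69938 : act 8 n17836 = n17259 := d29_2 (iv F67758) D17836 (iv D17259)
def n17837 : Q := act 5 n17224
theorem D17837 : act 5 n17224 = n17837 := rfl
theorem F69939 : act 0 n17837 = n17318 := d4_1 D17837 (iv D17318) (iv F67759)
theorem F69940 : act 1 n17837 = n17508 := d11_1 D17837 (iv D17508) (iv F67760)
theorem F69941 : act 3 n17837 = n17457 := d22_1 D17837 (iv D17457) (iv F67761)
theorem F69942 : act 4 n17837 = n17227 := d26_1 D17837 (iv D17227) (iv D16635) (iv F65671) D17224
theorem F69943 : act 8 n17837 = n17260 := d32_2 (iv F67763) D17837 (iv D17260)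
def n17838 : Q := act 4 n17225
theorem D17838 : act 4 n17225 = n17838 := rfl
theorem F69944 : act 0 n17838 = n17369 := d3_1 D17838 (iv D17369) F67769
theorem F69945 : act 1 n17838 = n17226 := d10_1 D17838 (iv D17226) D17225
theorem F69946 : act 2 n17838 = n17353 := d16_1 D17838 (iv D17353) (iv F67764)
theorem F69947 : act 3 n17838 = n17690 := d21_1 D17838 (iv D17690) F67329 (iv F65692) (iv F67765)
theorem F69948 : act 6 n17838 = n17589 := d27_2 (iv F67767) D17838 (iv D17589)
theorem F69949 : act 8 n17838 = n17262 := d29_2 (iv F67768) D17838 (iv D17262)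
def n17839 : Q := act 5 n17226
theorem D17839 : act 5 n17226 = n17839 := rfl
theorem F69950 : act 0 n17839 = n17321 := d4_1 D17839 (iv D17321) (iv F67770)
theorem F69951 : act 2 n17839 = n17227 := d17_1 D17839 (iv D17227) (iv F67771)
theorem F69952 : act 3 n17839 = n17691 := d22_1 D17839 (iv D17691) (iv F67772)
theorem F69953 : act 8 n17839 = n17263 := d32_2 (iv F67773) D17839 (iv D17263)
def n17840 : Q := act 6 n17227
theorem D17840 : act 6 n17227 = n17840 := rfl
theorem F69954 : act 0 n17840 = n17322 := d5_1 D17840 (iv D17322) (iv F67774)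
theorem F69955 : act 3 n17840 = n17228 := d23_1 D17840 (iv D17228) (iv F67775)
theorem F69956 : act 8 n17840 = n17264 := d34_2 (iv F67776) D17840 (iv D17264)
def n17841 : Q := act 5 n17229
theorem D17841 : act 5 n17229 = n17841 := rfl
theorem F69957 : act 0 n17841 = n17409 := d4_1 D17841 (iv D17409) (iv F67781)
theorem F69958 : act 1 n17841 = n17232 := d11_1 D17841 (iv D17232) (iv F67782)
theorem F69959 : act 2 n17841 = n17787 := d17_1 D17841 (iv D17787) (iv F67783)
theorem F69960 : act 3 n17841 = n17442 := d22_1 D17841 (iv D17442) (iv F67784)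
theorem F69961 : act 4 n17841 = n17235 := d26_1 D17841 (iv D17235) (iv D16645) (iv F65701) D17229
theorem F69962 : act 8 n17841 = n17462 := d32_2 (iv F67786) D17841 (iv D17462)
def n17842 : Q := act 4 n17230
theorem D17842 : act 4 n17230 = n17842 := rfl
theorem F69963 : act 0 n17842 = n17325 := d3_1 D17842 (iv D17325) (iv F67787)
theorem F69964 : act 1 n17842 = n17527 := d10_1 D17842 (iv D17527) (iv F67788)
theorem F69965 : act 2 n17842 = n17231 := d16_1 D17842 (iv D17231) D17230
theorem F69966 : act 3 n17842 = n17354 := d21_1 D17842 (iv D17354) F66198 (iv F65714) (iv F67789)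
theorem F69967 : act 6 n17842 = n17461 := d27_2 (iv F67791) D17842 (iv D17461)
theorem F69968 : act 8 n17842 = n17411 := d29_2 (iv F67792) D17842 (iv D17411)
def n17843 : Q := act 5 n17231
theorem D17843 : act 5 n17231 = n17843 := rfl
theorem F69969 : act 0 n17843 = n17326 := d4_1 D17843 (iv D17326) (iv F67793)
theorem F69970 : act 1 n17843 = n17442 := d11_1 D17843 (iv D17442) (iv F67794)
theorem F69971 : act 3 n17843 = n17232 := d22_1 D17843 (iv D17232) (iv F67795)
theorem F69972 : act 4 n17843 = n17444 := d26_1 D17843 (iv D17444) (iv D16843) (iv F65706) D17231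
theorem F69973 : act 8 n17843 = n17412 := d32_2 (iv F67797) D17843 (iv D17412)
def n17844 : Q := act 6 n17232
theorem D17844 : act 6 n17232 = n17844 := rfl
theorem F69974 : act 0 n17844 = n17327 := d5_1 D17844 (iv D17327) (iv F67798)
theorem F69975 : act 2 n17844 = n17356 := d18_1 D17844 (iv D17356) (iv F67799)
theorem F69976 : act 4 n17844 = n17238 := d27_1 D17844 (iv D17238) (iv F67800)
theorem F69977 : act 5 n17844 = n17463 := d30_1 D17844 (iv D17463) (iv D16862) (iv F65711) D17232
def n17845 : Q := act 5 n17233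
theorem D17845 : act 5 n17233 = n17845 := rfl
theorem F69978 : act 0 n17845 = n17235 := d4_1 D17845 (iv D17235) (iv F67801)
theorem F69979 : act 1 n17845 = n17328 := d11_1 D17845 (iv D17328) (iv F67802)
theorem F69980 : act 3 n17845 = n17509 := d22_1 D17845 (iv D17509) (iv F67803)
theorem F69981 : act 4 n17845 = n17409 := d26_1 D17845 (iv D17409) (iv D16812) (iv F65721) D17233
theorem F69982 : act 7 n17845 = n17841 := d31_2 (iv F67805) D17845 (iv D17841)
theorem F69983 : act 8 n17845 = n17528 := d32_2 (iv F67806) D17845 (iv D17528)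
def n17846 : Q := act 5 n17234
theorem D17846 : act 5 n17234 = n17846 := rfl
theorem F69984 : act 1 n17846 = n17481 := d11_1 D17846 (iv D17481) (iv F67807)
theorem F69985 : act 2 n17846 = n17235 := d17_1 D17846 (iv D17235) (iv F67808)
theorem F69986 : act 3 n17846 = n17391 := d22_1 D17846 (iv D17391) (iv F67809)
theorem F69987 : act 4 n17846 = n17787 := d26_1 D17846 (iv D17787) F67551 (iv F65727) D17234
def n17847 : Q := act 6 n17235
theorem D17847 : act 6 n17235 = n17847 := rfl
theorem F69988 : act 1 n17847 = n17238 := d12_1 D17847 (iv D17238) (iv F67811)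
theorem F69989 : act 3 n17847 = n17654 := d23_1 D17847 (iv D17654) (iv F67812)
theorem F69990 : act 5 n17847 = n17249 := d30_1 D17847 (iv D17249) (iv D16658) (iv F65731) D17235
def n17848 : Q := act 5 n17236
theorem D17848 : act 5 n17236 = n17848 := rfl
theorem F69991 : act 0 n17848 = n17347 := d4_1 D17848 (iv D17347) (iv F67813)
theorem F69992 : act 1 n17848 = n17638 := d11_1 D17848 (iv D17638) (iv F67814)
theorem F69993 : act 2 n17848 = n17237 := d17_1 D17848 (iv D17237) (iv F67815)
theorem F69994 : act 3 n17848 = n17623 := d22_1 D17848 (iv D17623) (iv F67816)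
theorem F69995 : act 4 n17848 = n17640 := d26_1 D17848 (iv D17640) (iv D17028) (iv F65735) D17236
def n17849 : Q := act 6 n17237
theorem D17849 : act 6 n17237 = n17849 := rfl
theorem F69996 : act 0 n17849 = n17348 := d5_1 D17849 (iv D17348) (iv F67818)
theorem F69997 : act 1 n17849 = n17654 := d12_1 D17849 (iv D17654) (iv F67819)
theorem F69998 : act 3 n17849 = n17238 := d23_1 D17849 (iv D17238) (iv F67820)
theorem F69999 : act 4 n17849 = n17655 := d27_1 D17849 (iv D17655) (iv F67821)
theorem F70000 : act 5 n17849 = n17264 := d30_1 D17849 (iv D17264) (iv D16670) (iv F65740) D17237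
def n17850 : Q := act 4 n17239
theorem D17850 : act 4 n17239 = n17850 := rfl
theorem F70001 : act 0 n17850 = n17244 := d3_1 D17850 (iv D17244) (iv F67825)
theorem F70002 : act 1 n17850 = n17352 := d10_1 D17850 (iv D17352) (iv F67826)
theorem F70003 : act 2 n17850 = n17499 := d16_1 D17850 (iv D17499) (iv F67827)
theorem F70004 : act 3 n17850 = n17532 := d21_1 D17850 (iv D17532) (iv D16931) (iv F65746) D17239
theorem F70005 : act 6 n17850 = n17501 := d27_2 (iv F67829) D17850 (iv D17501)
theorem F70006 : act 7 n17850 = n17240 := d28_2 (iv F67830) D17850 (iv D17240)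
theorem F70007 : act 8 n17850 = n17531 := d29_2 (iv F67831) D17850 (iv D17531)
def n17851 : Q := act 5 n17240
theorem D17851 : act 5 n17240 = n17851 := rfl
theorem F70008 : act 0 n17851 = n17246 := d4_1 D17851 (iv D17246) (iv F67832)
theorem F70009 : act 1 n17851 = n17355 := d11_1 D17851 (iv D17355) (iv F67833)
theorem F70010 : act 2 n17851 = n17508 := d17_1 D17851 (iv D17508) (iv F67834)
theorem F70011 : act 3 n17851 = n17242 := d22_1 D17851 (iv D17242) (iv F67835)
theorem F70012 : act 4 n17851 = n17600 := d26_1 D17851 (iv D17600) (iv D16991) (iv F65753) D17240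
theorem F70013 : act 8 n17851 = n17609 := d32_2 (iv F67837) D17851 (iv D17609)
def n17852 : Q := act 5 n17241
theorem D17852 : act 5 n17241 = n17852 := rfl
theorem F70014 : act 0 n17852 = n17248 := d4_1 D17852 (iv D17248) (iv F67838)
theorem F70015 : act 1 n17852 = n17787 := d11_1 D17852 (iv D17787) (iv F67839)
theorem F70016 : act 2 n17852 = n17242 := d17_1 D17852 (iv D17242) (iv F67840)
theorem F70017 : act 3 n17852 = n17786 := d22_1 D17852 (iv D17786) (iv F67841)
theorem F70018 : act 4 n17852 = n17481 := d26_1 D17852 (iv D17481) (iv D16878) (iv F65759) D17241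
def n17853 : Q := act 6 n17242
theorem D17853 : act 6 n17242 = n17853 := rfl
theorem F70019 : act 0 n17853 = n17249 := d5_1 D17853 (iv D17249) (iv F67842)
theorem F70020 : act 1 n17853 = n17356 := d12_1 D17853 (iv D17356) (iv F67843)
theorem F70021 : act 4 n17853 = n17482 := d27_1 D17853 (iv D17482) (iv F67844)
def n17854 : Q := act 4 n17243
theorem D17854 : act 4 n17243 = n17854 := rfl
theorem F70022 : act 0 n17854 = n17595 := d3_1 D17854 (iv D17595) (iv F67845)
theorem F70023 : act 1 n17854 = n17252 := d10_1 D17854 (iv D17252) (iv F67846)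
theorem F70024 : act 2 n17854 = n17604 := d16_1 D17854 (iv D17604) (iv F67847)
theorem F70025 : act 6 n17854 = n17454 := d27_2 (iv F67849) D17854 (iv D17454)
theorem F70026 : act 7 n17854 = n17245 := d28_2 (iv F67850) D17854 (iv D17245)
theorem F70027 : act 8 n17854 = n17763 := d29_2 (iv F67851) D17854 (iv D17763)
def n17855 : Q := act 5 n17244
theorem D17855 : act 5 n17244 = n17855 := rfl
theorem F70028 : act 1 n17855 = n17257 := d11_1 D17855 (iv D17257) (iv F67852)
theorem F70029 : act 2 n17855 = n17644 := d17_1 D17855 (iv D17644) (iv F67853)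
theorem F70030 : act 7 n17855 = n17246 := d31_2 (iv F67855) D17855 (iv D17246)
def n17856 : Q := act 5 n17245
theorem D17856 : act 5 n17245 = n17856 := rfl
theorem F70031 : act 0 n17856 = n17600 := d4_1 D17856 (iv D17600) (iv F67856)
theorem F70032 : act 1 n17856 = n17260 := d11_1 D17856 (iv D17260) (iv F67857)
theorem F70033 : act 2 n17856 = n17609 := d17_1 D17856 (iv D17609) (iv F67858)
theorem F70034 : act 3 n17856 = n17492 := d22_1 D17856 (iv D17492) (iv F67859)
theorem F70035 : act 4 n17856 = n17246 := d26_1 D17856 (iv D17246) (iv D16656) (iv F65775) D17245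
theorem F70036 : act 8 n17856 = n17508 := d32_2 (iv F67861) D17856 (iv D17508)
def n17857 : Q := act 6 n17246
theorem D17857 : act 6 n17246 = n17857 := rfl
theorem F70037 : act 1 n17857 = n17264 := d12_1 D17857 (iv D17264) (iv F67862)
theorem F70038 : act 2 n17857 = n17653 := d18_1 D17857 (iv D17653) (iv F67863)
theorem F70039 : act 3 n17857 = n17249 := d23_1 D17857 (iv D17249) (iv F67864)
theorem F70040 : act 5 n17857 = n17654 := d30_1 D17857 (iv D17654) (iv D17044) (iv F65781) D17246
def n17858 : Q := act 5 n17247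
theorem D17858 : act 5 n17247 = n17858 := rfl
theorem F70041 : act 0 n17858 = n17786 := d4_1 D17858 (iv D17786) (iv F67865)
theorem F70042 : act 1 n17858 = n17702 := d11_1 D17858 (iv D17702) (iv F67866)
theorem F70043 : act 2 n17858 = n17389 := d17_1 D17858 (iv D17389) (iv F67867)
theorem F70044 : act 3 n17858 = n17248 := d22_1 D17858 (iv D17248) D17247
theorem F70045 : act 4 n17858 = n17790 := d26_1 D17858 (iv D17790) (iv D17180) (iv F65879) (iv F67868)
def n17859 : Q := act 7 n17247
theorem D17859 : act 7 n17247 = n17859 := rfl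
theorem F70046 : act 0 n17859 = n17770 := d6_1 D17859 F69661 (iv F67865)
theorem F70047 : act 1 n17859 = n17703 := d13_1 D17859 (iv D17703) (iv F67866)
theorem F70048 : act 2 n17859 = n17375 := d19_1 D17859 F68364 (iv F67867)
theorem F70049 : act 4 n17859 = n17267 := d28_1 D17859 (iv D17267) (iv F67868)
theorem F70050 : act 6 n17859 = n17379 := d33_1 D17859 F68375 (iv F67869)
def n17860 : Q := act 6 n17248
theorem D17860 : act 6 n17248 = n17860 := rfl
theorem F70051 : act 1 n17860 = n17704 := d12_1 D17860 (iv D17704) (iv F67870)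
theorem F70052 : act 2 n17860 = n17249 := d18_1 D17860 (iv D17249) (iv F67871)
theorem F70053 : act 4 n17860 = n17497 := d27_1 D17860 (iv D17497) (iv F67872)
def n17861 : Q := act 4 n17250
theorem D17861 : act 4 n17250 = n17861 := rfl
theorem F70054 : act 0 n17861 = n17375 := d3_1 D17861 (iv D17375) (iv F67875)
theorem F70055 : act 1 n17861 = n17454 := d10_1 D17861 (iv D17454) (iv F67876)
theorem F70056 : act 2 n17861 = n17770 := d16_1 D17861 (iv D17770) (iv F67877)
theorem F70057 : act 6 n17861 = n17252 := d27_2 (iv F67879) D17861 (iv D17252)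
theorem F70058 : act 7 n17861 = n17258 := d28_2 (iv F67880) D17861 (iv D17258)
def n17862 : Q := act 4 n17251
theorem D17862 : act 4 n17251 = n17862 := rfl
theorem F70059 : act 0 n17862 = n17377 := d3_1 D17862 (iv D17377) (iv F67881)
theorem F70060 : act 1 n17862 = n17763 := d10_1 D17862 (iv D17763) (iv F67882)
theorem F70061 : act 3 n17862 = n17854 := d21_1 D17862 (iv D17854) (iv D17243) (iv F65794) D17251
theorem F70062 : act 8 n17862 = n17252 := d29_2 (iv F67884) D17862 (iv D17252)
def n17863 : Q := act 5 n17252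
theorem D17863 : act 5 n17252 = n17863 := rfl
theorem F70063 : act 0 n17863 = n17380 := d4_1 D17863 (iv D17380) (iv F67885)
theorem F70064 : act 4 n17863 = n17257 := d26_1 D17863 (iv D17257) (iv D16664) (iv F65798) D17252
theorem F70065 : act 7 n17863 = n17260 := d31_2 (iv F67886) D17863 (iv D17260)
def n17864 : Q := act 4 n17253
theorem D17864 : act 4 n17253 = n17864 := rfl
theorem F70066 : act 0 n17864 = n17382 := d3_1 D17864 (iv D17382) (iv F67887)
theorem F70067 : act 2 n17864 = n17254 := d16_1 D17864 (iv D17254) D17253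
theorem F70068 : act 3 n17864 = n17551 := d21_1 D17864 (iv D17551) F66872 (iv F65841) (iv F67888)
theorem F70069 : act 6 n17864 = n17283 := d27_2 (iv F67889) D17864 (iv D17283)
theorem F70070 : act 8 n17864 = n17256 := d29_2 (iv F67890) D17864 (iv D17256)
def n17865 : Q := act 5 n17254
theorem D17865 : act 5 n17254 = n17865 := rfl
theorem F70071 : act 0 n17865 = n17383 := d4_1 D17865 (iv D17383) (iv F67891)
theorem F70072 : act 3 n17865 = n17270 := d22_1 D17865 (iv D17270) (iv F67892)
theorem F70073 : act 8 n17865 = n17257 := d32_2 (iv F67894) D17865 (iv D17257)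
def n17866 : Q := act 0 n17255
theorem D17866 : act 0 n17255 = n17866 := rfl
theorem F70074 : act 1 n17866 = n17384 := d0_2 D17255 D17866 (iv D17384) (iv D16780) (iv F65803)
theorem F70075 : act 2 n17866 = n17297 := d1_2 (iv F67895) D17866 F68070
theorem F70076 : act 3 n17866 = n17265 := d2_2 (iv F67896) D17866 (iv D17265)
theorem F70077 : act 5 n17866 = n17299 := d4_2 (iv F67897) D17866 F68080
theorem F70078 : act 6 n17866 = n17613 := d5_2 (iv F67898) D17866 F69179
theorem F70079 : act 7 n17866 = n17261 := d6_2 (iv F67899) D17866 (iv D17261)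
def n17867 : Q := act 4 n17255
theorem D17867 : act 4 n17255 = n17867 := rfl
theorem F70080 : act 1 n17867 = n17256 := d10_1 D17867 (iv D17256) D17255
theorem F70081 : act 2 n17867 = n17627 := d16_1 D17867 (iv D17627) (iv F67895)
theorem F70082 : act 6 n17867 = n17629 := d27_2 (iv F67898) D17867 (iv D17629)
theorem F70083 : act 7 n17867 = n17262 := d28_2 (iv F67899) D17867 (iv D17262)
def n17868 : Q := act 5 n17256
theorem D17868 : act 5 n17256 = n17868 := rfl
theorem F70084 : act 0 n17868 = n17387 := d4_1 D17868 (iv D17387) (iv F67900)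
theorem F70085 : act 2 n17868 = n17257 := d17_1 D17868 (iv D17257) (iv F67901)
theorem F70086 : act 7 n17868 = n17263 := d31_2 (iv F67902) D17868 (iv D17263)
def n17869 : Q := act 6 n17257
theorem D17869 : act 6 n17257 = n17869 := rfl
theorem F70087 : act 0 n17869 = n17388 := d5_1 D17869 (iv D17388) (iv F67903)
theorem F70088 : act 7 n17869 = n17264 := d33_2 (iv F67904) D17869 (iv D17264)
def n17870 : Q := act 5 n17258
theorem D17870 : act 5 n17258 = n17870 := rfl
theorem F70089 : act 0 n17870 = n17389 := d4_1 D17870 (iv D17389) (iv F67905)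
theorem F70090 : act 1 n17870 = n17457 := d11_1 D17870 (iv D17457) (iv F67906)
theorem F70091 : act 2 n17870 = n17786 := d17_1 D17870 (iv D17786) (iv F67907)
theorem F70092 : act 3 n17870 = n17508 := d22_1 D17870 (iv D17508) (iv F67908)
theorem F70093 : act 4 n17870 = n17449 := d26_1 D17870 (iv D17449) (iv D16848) (iv F65811) D17258
theorem F70094 : act 8 n17870 = n17492 := d32_2 (iv F67910) D17870 (iv D17492)
def n17871 : Q := act 5 n17259
theorem D17871 : act 5 n17259 = n17871 := rfl
theorem F70095 : act 0 n17871 = n17391 := d4_1 D17871 (iv D17391) (iv F67911)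
theorem F70096 : act 1 n17871 = n17784 := d11_1 D17871 (iv D17784) (iv F67912)
theorem F70097 : act 2 n17871 = n17260 := d17_1 D17871 (iv D17260) (iv F67913)
theorem F70098 : act 4 n17871 = n17263 := d26_1 D17871 (iv D17263) (iv D16669) (iv F65817) D17259
def n17872 : Q := act 6 n17260
theorem D17872 : act 6 n17260 = n17872 := rfl
theorem F70099 : act 0 n17872 = n17392 := d5_1 D17872 (iv D17392) (iv F67915)
theorem F70100 : act 3 n17872 = n17510 := d23_1 D17872 (iv D17510) (iv F67916)
theorem F70101 : act 4 n17872 = n17264 := d27_1 D17872 (iv D17264) (iv F67917)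
def n17873 : Q := act 4 n17261
theorem D17873 : act 4 n17261 = n17873 := rfl
theorem F70102 : act 0 n17873 = n17262 := d3_1 D17873 (iv D17262) D17261
theorem F70103 : act 1 n17873 = n17393 := d10_1 D17873 (iv D17393) (iv F67918)
theorem F70104 : act 2 n17873 = n17301 := d16_1 D17873 (iv D17301) (iv F67919)
theorem F70105 : act 3 n17873 = n17720 := d21_1 D17873 (iv D17720) F67388 (iv F65835) (iv F67920)
theorem F70106 : act 6 n17873 = n17620 := d27_2 (iv F67922) D17873 (iv D17620)
theorem F70107 : act 8 n17873 = n17369 := d29_2 (iv F67923) D17873 (iv D17369)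
def n17874 : Q := act 5 n17262
theorem D17874 : act 5 n17262 = n17874 := rfl
theorem F70108 : act 1 n17874 = n17263 := d11_1 D17874 (iv D17263) (iv F67924)
theorem F70109 : act 2 n17874 = n17637 := d17_1 D17874 (iv D17637) (iv F67925)
theorem F70110 : act 3 n17874 = n17721 := d22_1 D17874 (iv D17721) (iv F67926)
theorem F70111 : act 4 n17874 = n17784 := d26_1 D17874 (iv D17784) (iv D17174) (iv F65823) D17262
def n17875 : Q := act 6 n17263
theorem D17875 : act 6 n17263 = n17875 := rfl
theorem F70112 : act 0 n17875 = n17395 := d5_1 D17875 (iv D17395) (iv F67928)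
theorem F70113 : act 2 n17875 = n17264 := d18_1 D17875 (iv D17264) (iv F67929)
theorem F70114 : act 3 n17875 = n17722 := d23_1 D17875 (iv D17722) (iv F67930)
def n17876 : Q := act 7 n17266
theorem D17876 : act 7 n17266 = n17876 := rfl
theorem F70115 : act 0 n17876 = n17485 := d6_1 D17876 F68768 (iv F67938)
theorem F70116 : act 1 n17876 = n17728 := d13_1 D17876 (iv D17728) (iv F67939)
theorem F70117 : act 2 n17876 = n17306 := d19_1 D17876 F68112 (iv F67940)
theorem F70118 : act 3 n17876 = n17876 := d24_1 D17876 (iv D17876) (iv D17266) F65873 D17266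
theorem F70119 : act 5 n17876 = n17477 := d31_1 D17876 F68734 (iv F67941)
theorem F70120 : act 6 n17876 = n17308 := d33_1 D17876 F68120 (iv F67942)
def n17877 : Q := act 5 n17268
theorem D17877 : act 5 n17268 = n17877 := rfl
theorem F70121 : act 1 n17877 = n17415 := d11_1 D17877 (iv D17415) (iv F67950)
theorem F70122 : act 2 n17877 = n17275 := d17_1 D17877 (iv D17275) (iv F67951)
theorem F70123 : act 3 n17877 = n17855 := d22_1 D17877 (iv D17855) (iv F67952)
theorem F70124 : act 4 n17877 = n17270 := d26_1 D17877 (iv D17270) (iv D16683) (iv F65888) D17268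
theorem F70125 : act 7 n17877 = n17288 := d31_2 (iv F67954) D17877 (iv D17288)
def n17878 : Q := act 5 n17269
theorem D17878 : act 5 n17269 = n17878 := rfl
theorem F70126 : act 0 n17878 = n17533 := d4_1 D17878 (iv D17533) (iv F67955)
theorem F70127 : act 1 n17878 = n17270 := d11_1 D17878 (iv D17270) (iv F67956)
theorem F70128 : act 2 n17878 = n17516 := d17_1 D17878 (iv D17516) (iv F67957)
theorem F70129 : act 4 n17878 = n17415 := d26_1 D17878 (iv D17415) (iv D16818) (iv F65894) D17269
theorem F70130 : act 7 n17878 = n17289 := d31_2 (iv F67959) D17878 (iv D17289)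
theorem F70131 : act 8 n17878 = n17877 := d32_2 (iv F67960) D17878 (iv D17877)
def n17879 : Q := act 6 n17270
theorem D17879 : act 6 n17270 = n17879 := rfl
theorem F70132 : act 2 n17879 = n17553 := d18_1 D17879 (iv D17553) (iv F67961)
theorem F70133 : act 5 n17879 = n17285 := d30_1 D17879 (iv D17285) (iv D16695) (iv F65899) D17270
theorem F70134 : act 7 n17879 = n17295 := d33_2 (iv F67962) D17879 (iv D17295)
def n17880 : Q := act 4 n17271
theorem D17880 : act 4 n17271 = n17880 := rfl
theorem F70135 : act 0 n17880 = n17274 := d3_1 D17880 (iv D17274) (iv F67963)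
theorem F70136 : act 1 n17880 = n17752 := d10_1 D17880 (iv D17752) (iv F67964)
theorem F70137 : act 2 n17880 = n17500 := d16_1 D17880 (iv D17500) (iv F67965)
theorem F70138 : act 3 n17880 = n17272 := d21_1 D17880 (iv D17272) (iv D16685) (iv F65904) D17271
theorem F70139 : act 6 n17880 = n17531 := d27_2 (iv F67967) D17880 (iv D17531)
theorem F70140 : act 7 n17880 = n17605 := d28_2 (iv F67968) D17880 (iv D17605)
theorem F70141 : act 8 n17880 = n17501 := d29_2 (iv F67969) D17880 (iv D17501)
def n17881 : Q := act 5 n17272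
theorem D17881 : act 5 n17272 = n17881 := rfl
theorem F70142 : act 0 n17881 = n17275 := d4_1 D17881 (iv D17275) (iv F67970)
theorem F70143 : act 4 n17881 = n17544 := d26_1 D17881 (iv D17544) (iv D16943) (iv F65909) D17272
theorem F70144 : act 7 n17881 = n17296 := d31_2 (iv F67972) D17881 (iv D17296)
def n17882 : Q := act 4 n17273
theorem D17882 : act 4 n17273 = n17882 := rfl
theorem F70145 : act 0 n17882 = n17605 := d3_1 D17882 (iv D17605) (iv F67973)
theorem F70146 : act 1 n17882 = n17278 := d10_1 D17882 (iv D17278) (iv F67974)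
theorem F70147 : act 2 n17882 = n17596 := d16_1 D17882 (iv D17596) (iv F67975)
theorem F70148 : act 3 n17882 = n17300 := d21_1 D17882 (iv D17300) (iv D16709) (iv F65915) D17273
theorem F70149 : act 6 n17882 = n17705 := d27_2 (iv F67977) D17882 (iv D17705)
theorem F70150 : act 7 n17882 = n17274 := d28_2 (iv F67978) D17882 (iv D17274)
theorem F70151 : act 8 n17882 = n17471 := d29_2 (iv F67979) D17882 (iv D17471)
def n17883 : Q := act 5 n17274
theorem D17883 : act 5 n17274 = n17883 := rfl
theorem F70152 : act 1 n17883 = n17284 := d11_1 D17883 (iv D17284) (iv F67980)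
theorem F70153 : act 2 n17883 = n17645 := d17_1 D17883 (iv D17645) (iv F67981)
theorem F70154 : act 3 n17883 = n17275 := d22_1 D17883 (iv D17275) (iv F67982)
theorem F70155 : act 4 n17883 = n17648 := d26_1 D17883 (iv D17648) (iv D17037) (iv F65921) D17274
theorem F70156 : act 8 n17883 = n17646 := d32_2 (iv F67983) D17883 (iv D17646)
def n17884 : Q := act 6 n17275
theorem D17884 : act 6 n17275 = n17884 := rfl
theorem F70157 : act 1 n17884 = n17285 := d12_1 D17884 (iv D17285) (iv F67984)
theorem F70158 : act 4 n17884 = n17553 := d27_1 D17884 (iv D17553) (iv F67985)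
theorem F70159 : act 7 n17884 = n17304 := d33_2 (iv F67986) D17884 (iv D17304)
def n17885 : Q := act 2 n17276
theorem D17885 : act 2 n17276 = n17885 := rfl
theorem F70160 : act 0 n17885 = n17693 := d1_1 D17885 (iv D17693) (iv F67987)
theorem F70161 : act 1 n17885 = n17585 := d8_1 D17885 (iv D17585) F66964 (iv F66600) (iv F67988)
theorem F70162 : act 3 n17885 = n17885 := d15_2 D17276 D17885 (iv D17885) (iv D17276) F65927
theorem F70163 : act 5 n17885 = n17277 := d17_2 (iv F67989) D17885 (iv D17277)
theorem F70164 : act 6 n17885 = n17487 := d18_2 (iv F67990) D17885 (iv D17487)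
theorem F70165 : act 7 n17885 = n17280 := d19_2 (iv F67991) D17885 (iv D17280)
theorem F70166 : act 8 n17885 = n17464 := d20_2 (iv F67992) D17885 (iv D17464)
def n17886 : Q := act 4 n17276
theorem D17886 : act 4 n17276 = n17886 := rfl
theorem F70167 : act 0 n17886 = n17694 := d3_1 D17886 (iv D17694) (iv F67987)
theorem F70168 : act 1 n17886 = n17472 := d10_1 D17886 (iv D17472) (iv F67988)
theorem F70169 : act 6 n17886 = n17488 := d27_2 (iv F67990) D17886 (iv D17488)
theorem F70170 : act 7 n17886 = n17281 := d28_2 (iv F67991) D17886 (iv D17281)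
theorem F70171 : act 8 n17886 = n17465 := d29_2 (iv F67992) D17886 (iv D17465)
def n17887 : Q := act 1 n17277
theorem D17887 : act 1 n17277 = n17887 := rfl
theorem F70172 : act 2 n17887 = n17582 := d8_2 D17277 D17887 F69084 (iv F67975) F67974
theorem F70173 : act 3 n17887 = n17887 := d9_2 F67993 D17887 (iv D17887)
theorem F70174 : act 5 n17887 = n17585 := d11_2 F70163 D17887 (iv F70161)
theorem F70175 : act 7 n17887 = n17282 := d13_2 (iv F67994) D17887 (iv D17282)
theorem F70176 : act 8 n17887 = n17583 := d14_2 F69842 D17887 (iv F69837)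
def n17888 : Q := act 4 n17277
theorem D17888 : act 4 n17277 = n17888 := rfl
theorem F70177 : act 2 n17888 = n17278 := d16_1 D17888 (iv D17278) D17277
theorem F70178 : act 7 n17888 = n17283 := d28_2 (iv F67994) D17888 (iv D17283)
def n17889 : Q := act 5 n17278
theorem D17889 : act 5 n17278 = n17889 := rfl
theorem F70179 : act 3 n17889 = n17314 := d22_1 D17889 (iv D17314) (iv F67995)
theorem F70180 : act 7 n17889 = n17284 := d31_2 (iv F67996) D17889 (iv D17284)
def n17890 : Q := act 4 n17279
theorem D17890 : act 4 n17279 = n17890 := rfl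
theorem F70181 : act 1 n17890 = n17455 := d10_1 D17890 (iv D17455) (iv F67997)
theorem F70182 : act 2 n17890 = n17775 := d16_1 D17890 (iv D17775) (iv F67998)
theorem F70183 : act 3 n17890 = n17564 := d21_1 D17890 (iv D17564) (iv D16957) (iv F65934) D17279
theorem F70184 : act 6 n17890 = n17281 := d27_2 (iv F67999) D17890 (iv D17281)
theorem F70185 : act 7 n17890 = n17488 := d28_2 (iv F68000) D17890 (iv D17488)
theorem F70186 : act 8 n17890 = n17448 := d29_2 (iv F68001) D17890 (iv D17448)
def n17891 : Q := act 4 n17280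
theorem D17891 : act 4 n17280 = n17891 := rfl
theorem F70187 : act 1 n17891 = n17631 := d10_1 D17891 (iv D17631) (iv F68002)
theorem F70188 : act 2 n17891 = n17281 := d16_1 D17891 (iv D17281) D17280
theorem F70189 : act 6 n17891 = n17775 := d27_2 (iv F68005) D17891 (iv D17775)
theorem F70190 : act 8 n17891 = n17633 := d29_2 (iv F68006) D17891 (iv D17633)
def n17892 : Q := act 5 n17281
theorem D17892 : act 5 n17281 = n17892 := rfl
theorem F70191 : act 1 n17892 = n17648 := d11_1 D17892 (iv D17648) (iv F68007)
theorem F70192 : act 3 n17892 = n17567 := d22_1 D17892 (iv D17567) (iv F68008)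
theorem F70193 : act 4 n17892 = n17284 := d26_1 D17892 (iv D17284) (iv D16694) (iv F65938) D17281
theorem F70194 : act 8 n17892 = n17650 := d32_2 (iv F68009) D17892 (iv D17650)
def n17893 : Q := act 0 n17282
theorem D17893 : act 0 n17282 = n17893 := rfl
theorem F70195 : act 2 n17893 = n17612 := d1_2 (iv F68010) D17893 F69173
theorem F70196 : act 3 n17893 = n17287 := d2_2 (iv F68011) D17893 (iv D17287)
theorem F70197 : act 5 n17893 = n17615 := d4_2 (iv F68012) D17893 F69185
theorem F70198 : act 8 n17893 = n17613 := d7_2 (iv F68013) D17893 F69179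
def n17894 : Q := act 4 n17282
theorem D17894 : act 4 n17282 = n17894 := rfl
theorem F70199 : act 1 n17894 = n17283 := d10_1 D17894 (iv D17283) D17282
theorem F70200 : act 2 n17894 = n17628 := d16_1 D17894 (iv D17628) (iv F68010)
theorem F70201 : act 3 n17894 = n17744 := d21_1 D17894 (iv D17744) F67458 (iv F65957) (iv F68011)
theorem F70202 : act 8 n17894 = n17629 := d29_2 (iv F68013) D17894 (iv D17629)
def n17895 : Q := act 5 n17283
theorem D17895 : act 5 n17283 = n17895 := rfl
theorem F70203 : act 2 n17895 = n17284 := d17_1 D17895 (iv D17284) (iv F68014)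
theorem F70204 : act 3 n17895 = n17745 := d22_1 D17895 (iv D17745) (iv F68015)
def n17896 : Q := act 6 n17284
theorem D17896 : act 6 n17284 = n17896 := rfl
theorem F70205 : act 3 n17896 = n17285 := d23_1 D17896 (iv D17285) (iv F68016)
def n17897 : Q := act 3 n17286
theorem D17897 : act 3 n17286 = n17897 := rfl
theorem F70206 : act 1 n17897 = n17659 := d9_1 D17897 (iv D17659) (iv F68020)
theorem F70207 : act 2 n17897 = n17573 := d15_1 D17897 (iv D17573) F66921 (iv F65951) (iv F68021)
theorem F70208 : act 5 n17897 = n17748 := d22_2 (iv F68022) D17897 (iv D17748)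
theorem F70209 : act 6 n17897 = n17794 := d23_2 (iv F68023) D17897 (iv D17794)
theorem F70210 : act 8 n17897 = n17660 := d25_2 (iv F68025) D17897 (iv D17660)
def n17898 : Q := act 6 n17288
theorem D17898 : act 6 n17288 = n17898 := rfl
theorem F70211 : act 1 n17898 = n17416 := d12_1 D17898 (iv D17416) (iv F68031)
theorem F70212 : act 2 n17898 = n17304 := d18_1 D17898 (iv D17304) (iv F68032)
theorem F70213 : act 3 n17898 = n17414 := d23_1 D17898 (iv D17414) (iv F68033)
theorem F70214 : act 4 n17898 = n17295 := d27_1 D17898 (iv D17295) (iv F68034)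
theorem F70215 : act 5 n17898 = n17520 := d30_1 D17898 (iv D17520) (iv D16918) (iv F65964) D17288
theorem F70216 : act 8 n17898 = n17327 := d34_2 (iv F68035) D17898 (iv D17327)
def n17899 : Q := act 6 n17289
theorem D17899 : act 6 n17289 = n17899 := rfl
theorem F70217 : act 0 n17899 = n17536 := d5_1 D17899 (iv D17536) (iv F68036)
theorem F70218 : act 1 n17899 = n17295 := d12_1 D17899 (iv D17295) (iv F68037)
theorem F70219 : act 2 n17899 = n17520 := d18_1 D17899 (iv D17520) (iv F68038)
theorem F70220 : act 3 n17899 = n17719 := d23_1 D17899 (iv D17719) (iv F68039)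
theorem F70221 : act 4 n17899 = n17416 := d27_1 D17899 (iv D17416) (iv F68040)
theorem F70222 : act 5 n17899 = n17304 := d30_1 D17899 (iv D17304) (iv D16713) (iv F65970) D17289
theorem F70223 : act 8 n17899 = n17334 := d34_2 (iv F68041) D17899 (iv D17334)
def n17900 : Q := act 1 n17290
theorem D17900 : act 1 n17290 = n17900 := rfl
theorem F70224 : act 2 n17900 = n17513 := d8_2 D17290 D17900 F68852 (iv D17106) (iv F65972)
theorem F70225 : act 3 n17900 = n17900 := d9_2 F68042 D17900 (iv D17900)
theorem F70226 : act 5 n17900 = n17695 := d11_2 (iv F68043) D17900 (iv D17695)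
theorem F70227 : act 6 n17900 = n17312 := d12_2 (iv F68044) D17900 (iv D17312)
theorem F70228 : act 7 n17900 = n17292 := d13_2 (iv F68045) D17900 (iv D17292)
theorem F70229 : act 0 n17729 = n17900 := d6_3 F70228 (iv F68054) D17729
def n17901 : Q := act 4 n17290
theorem D17901 : act 4 n17290 = n17901 := rfl
theorem F70230 : act 2 n17901 = n17291 := d16_1 D17901 (iv D17291) D17290
theorem F70231 : act 6 n17901 = n17313 := d27_2 (iv F68044) D17901 (iv D17313)
theorem F70232 : act 7 n17901 = n17293 := d28_2 (iv F68045) D17901 (iv D17293)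
def n17902 : Q := act 5 n17291
theorem D17902 : act 5 n17291 = n17902 := rfl
theorem F70233 : act 1 n17902 = n17709 := d11_1 D17902 (iv D17709) (iv F68046)
theorem F70234 : act 4 n17902 = n17697 := d26_1 D17902 (iv D17697) (iv D17097) (iv F65973) D17291
theorem F70235 : act 7 n17902 = n17294 := d31_2 (iv F68048) D17902 (iv D17294)
def n17903 : Q := act 4 n17292
theorem D17903 : act 4 n17292 = n17903 := rfl
theorem F70236 : act 0 n17903 = n17699 := d3_1 D17903 F69450 F68054
theorem F70237 : act 1 n17903 = n17293 := d10_1 D17903 (iv D17293) D17292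
theorem F70238 : act 2 n17903 = n17468 := d16_1 D17903 F68699 (iv F68049)
theorem F70239 : act 3 n17903 = n17466 := d21_1 D17903 (iv D17466) F66582 (iv F65987) (iv F68050)
theorem F70240 : act 6 n17903 = n17320 := d27_2 (iv F68052) D17903 (iv D17320)
theorem F70241 : act 8 n17903 = n17346 := d29_2 (iv F68053) D17903 (iv D17346)
def n17904 : Q := act 5 n17293
theorem D17904 : act 5 n17293 = n17904 := rfl
theorem F70242 : act 2 n17904 = n17294 := d17_1 D17904 (iv D17294) (iv F68055)
theorem F70243 : act 3 n17904 = n17591 := d22_1 D17904 (iv D17591) (iv F68056)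
theorem F70244 : act 4 n17904 = n17700 := d26_1 D17904 (iv D17700) (iv D17099) (iv F65977) D17293
theorem F70245 : act 8 n17904 = n17347 := d32_2 (iv F68058) D17904 (iv D17347)
def n17905 : Q := act 6 n17294
theorem D17905 : act 6 n17294 = n17905 := rfl
theorem F70246 : act 1 n17905 = n17719 := d12_1 D17905 (iv D17719) (iv F68059)
theorem F70247 : act 3 n17905 = n17295 := d23_1 D17905 (iv D17295) (iv F68060)
theorem F70248 : act 4 n17905 = n17701 := d27_1 D17905 (iv D17701) (iv F68061)
theorem F70249 : act 5 n17905 = n17322 := d30_1 D17905 (iv D17322) (iv D16726) (iv F65982) D17294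
theorem F70250 : act 8 n17905 = n17348 := d34_2 (iv F68062) D17905 (iv D17348)
def n17906 : Q := act 6 n17296
theorem D17906 : act 6 n17296 = n17906 := rfl
theorem F70251 : act 0 n17906 = n17304 := d5_1 D17906 (iv D17304) (iv F68066)
theorem F70252 : act 3 n17906 = n17785 := d23_1 D17906 (iv D17785) (iv F68067)
theorem F70253 : act 4 n17906 = n17580 := d27_1 D17906 (iv D17580) (iv F68068)
theorem F70254 : act 5 n17906 = n17536 := d30_1 D17906 (iv D17536) (iv D16935) (iv F65995) D17296
theorem F70255 : act 8 n17906 = n17356 := d34_2 (iv F68069) D17906 (iv D17356)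
def n17907 : Q := act 4 n17297
theorem D17907 : act 4 n17297 = n17907 := rfl
theorem F70256 : act 0 n17907 = n17627 := d3_1 D17907 (iv D17627) (iv F68070)
theorem F70257 : act 1 n17907 = n17309 := d10_1 D17907 (iv D17309) (iv F68071)
theorem F70258 : act 6 n17907 = n17614 := d27_2 (iv F68073) D17907 (iv D17614)
theorem F70259 : act 7 n17907 = n17301 := d28_2 (iv F68074) D17907 (iv D17301)
def n17908 : Q := act 2 n17298
theorem D17908 : act 2 n17298 = n17908 := rfl
theorem F70260 : act 0 n17908 = n17602 := d1_1 D17908 (iv D17602) (iv F68075)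
theorem F70261 : act 3 n17908 = n17417 := d15_2 D17298 D17908 F68509 (iv D16907) (iv F66004)
theorem F70262 : act 6 n17908 = n17706 := d18_2 (iv F68077) D17908 (iv D17706)
theorem F70263 : act 7 n17908 = n17362 := d19_2 (iv F68078) D17908 (iv D17362)
theorem F70264 : act 8 n17908 = n17299 := d20_2 (iv F68079) D17908 (iv D17299)
theorem F70265 : act 1 n17514 = n17908 := d14_3 F70264 (iv F68084) D17514
def n17909 : Q := act 4 n17298
theorem D17909 : act 4 n17298 = n17909 := rfl
theorem F70266 : act 0 n17909 = n17603 := d3_1 D17909 (iv D17603) (iv F68075)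
theorem F70267 : act 1 n17909 = n17311 := d10_1 D17909 (iv D17311) (iv F68076)
theorem F70268 : act 3 n17909 = n17471 := d21_1 D17909 (iv D17471) (iv D16868) (iv F66005) D17298
theorem F70269 : act 6 n17909 = n17707 := d27_2 (iv F68077) D17909 (iv D17707)
theorem F70270 : act 7 n17909 = n17363 := d28_2 (iv F68078) D17909 (iv D17363)
theorem F70271 : act 8 n17909 = n17300 := d29_2 (iv F68079) D17909 (iv D17300)
def n17910 : Q := act 4 n17299
theorem D17910 : act 4 n17299 = n17910 := rfl
theorem F70272 : act 0 n17910 = n17765 := d3_1 D17910 (iv D17765) (iv F68080)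
theorem F70273 : act 1 n17910 = n17496 := d10_1 D17910 F68793 F68084
theorem F70274 : act 2 n17910 = n17300 := d16_1 D17910 (iv D17300) D17299
theorem F70275 : act 3 n17910 = n17859 := d21_1 D17910 F70049 F67947 (iv F66421) (iv F68081)
theorem F70276 : act 6 n17910 = n17708 := d27_2 (iv F68082) D17910 (iv D17708)
theorem F70277 : act 7 n17910 = n17302 := d28_2 (iv F68083) D17910 (iv D17302)
def n17911 : Q := act 5 n17300
theorem D17911 : act 5 n17300 = n17911 := rfl
theorem F70278 : act 0 n17911 = n17766 := d4_1 D17911 (iv D17766) (iv F68085)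
theorem F70279 : act 1 n17911 = n17314 := d11_1 D17911 (iv D17314) (iv F68086)
theorem F70280 : act 7 n17911 = n17303 := d31_2 (iv F68088) D17911 (iv D17303)
def n17912 : Q := act 5 n17301
theorem D17912 : act 5 n17301 = n17912 := rfl
theorem F70281 : act 0 n17912 = n17637 := d4_1 D17912 (iv D17637) (iv F68089)
theorem F70282 : act 1 n17912 = n17318 := d11_1 D17912 (iv D17318) (iv F68090)
theorem F70283 : act 3 n17912 = n17590 := d22_1 D17912 (iv D17590) (iv F68091)
theorem F70284 : act 4 n17912 = n17303 := d26_1 D17912 (iv D17303) (iv D16712) (iv F66014) D17301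
theorem F70285 : act 8 n17912 = n17370 := d32_2 (iv F68093) D17912 (iv D17370)
def n17913 : Q := act 5 n17302
theorem D17913 : act 5 n17302 = n17913 := rfl
theorem F70286 : act 0 n17913 = n17784 := d4_1 D17913 (iv D17784) (iv F68094)
theorem F70287 : act 1 n17913 = n17495 := d11_1 D17913 (iv D17495) (iv F68095)
theorem F70288 : act 2 n17913 = n17303 := d17_1 D17913 (iv D17303) (iv F68096)
theorem F70289 : act 3 n17913 = n17413 := d22_1 D17913 (iv D17413) (iv F68097)
theorem F70290 : act 8 n17913 = n17372 := d32_2 (iv F68099) D17913 (iv D17372)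
def n17914 : Q := act 6 n17303
theorem D17914 : act 6 n17303 = n17914 := rfl
theorem F70291 : act 0 n17914 = n17785 := d5_1 D17914 (iv D17785) (iv F68100)
theorem F70292 : act 1 n17914 = n17322 := d12_1 D17914 (iv D17322) (iv F68101)
theorem F70293 : act 3 n17914 = n17304 := d23_1 D17914 (iv D17304) (iv F68102)
theorem F70294 : act 5 n17914 = n17719 := d30_1 D17914 (iv D17719) (iv D17114) (iv F66025) D17303
theorem F70295 : act 8 n17914 = n17373 := d34_2 (iv F68103) D17914 (iv D17373)
def n17915 : Q := act 2 n17305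
theorem D17915 : act 2 n17305 = n17915 := rfl
theorem F70296 : act 3 n17915 = n17915 := d15_2 D17305 D17915 (iv D17915) (iv D17305) F66030
theorem F70297 : act 7 n17915 = n17593 := d19_2 (iv F68107) D17915 (iv D17593)
theorem F70298 : act 8 n17915 = n17876 := d20_2 F68113 D17915 F70117
def n17916 : Q := act 4 n17305
theorem D17916 : act 4 n17305 = n17916 := rfl
theorem F70299 : act 3 n17916 = n17309 := d21_1 D17916 (iv D17309) (iv D16717) (iv F66031) D17305
theorem F70300 : act 7 n17916 = n17594 := d28_2 (iv F68107) D17916 (iv D17594)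
def n17917 : Q := act 4 n17306
theorem D17917 : act 4 n17306 = n17917 := rfl
theorem F70301 : act 0 n17917 = n17486 := d3_1 D17917 (iv D17486) (iv F68108)
theorem F70302 : act 1 n17917 = n17614 := d10_1 D17917 (iv D17614) (iv F68109)
theorem F70303 : act 6 n17917 = n17309 := d27_2 (iv F68111) D17917 (iv D17309)
theorem F70304 : act 7 n17917 = n17315 := d28_2 (iv F68112) D17917 (iv D17315)
theorem F70305 : act 8 n17917 = n17916 := d29_2 (iv F68113) D17917 (iv D17916)
def n17918 : Q := act 2 n17307
theorem D17918 : act 2 n17307 = n17918 := rfl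
theorem F70306 : act 3 n17918 = n17918 := d15_2 D17307 D17918 (iv D17918) (iv D17307) F66038
theorem F70307 : act 5 n17918 = n17310 := d17_2 (iv F68114) D17918 (iv D17310)
theorem F70308 : act 6 n17918 = n17915 := d18_2 (iv F68115) D17918 (iv D17915)
theorem F70309 : act 7 n17918 = n17376 := d19_2 (iv F68116) D17918 (iv D17376)
theorem F70310 : act 8 n17918 = n17308 := d20_2 (iv F68117) D17918 (iv D17308)
def n17919 : Q := act 4 n17307
theorem D17919 : act 4 n17307 = n17919 := rfl
theorem F70311 : act 3 n17919 = n17917 := d21_1 D17919 (iv D17917) (iv D17306) (iv F66039) D17307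
theorem F70312 : act 6 n17919 = n17916 := d27_2 (iv F68115) D17919 (iv D17916)
theorem F70313 : act 7 n17919 = n17377 := d28_2 (iv F68116) D17919 (iv D17377)
theorem F70314 : act 8 n17919 = n17309 := d29_2 (iv F68117) D17919 (iv D17309)
def n17920 : Q := act 1 n17308
theorem D17920 : act 1 n17308 = n17920 := rfl
theorem F70315 : act 0 n17920 = n17364 := d0_1 D17920 (iv D17364) (iv F68289) (iv F69902) F69901
theorem F70316 : act 2 n17920 = n17384 := d8_2 D17308 D17920 (iv F70074) F70075 F68071
theorem F70317 : act 3 n17920 = n17920 := d9_2 F68118 D17920 (iv D17920)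
theorem F70318 : act 5 n17920 = n17312 := d11_2 (iv F68119) D17920 (iv D17312)
theorem F70319 : act 6 n17920 = n17728 := d12_2 F70120 D17920 (iv F70116)
theorem F70320 : act 7 n17920 = n17316 := d13_2 (iv F68120) D17920 (iv D17316)
def n17921 : Q := act 4 n17308
theorem D17921 : act 4 n17308 = n17921 := rfl
theorem F70321 : act 2 n17921 = n17309 := d16_1 D17921 (iv D17309) D17308
theorem F70322 : act 7 n17921 = n17317 := d28_2 (iv F68120) D17921 (iv D17317)
def n17922 : Q := act 5 n17309
theorem D17922 : act 5 n17309 = n17922 := rfl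
theorem F70323 : act 4 n17922 = n17314 := d26_1 D17922 (iv D17314) (iv D16720) (iv F66043) D17309
theorem F70324 : act 7 n17922 = n17318 := d31_2 (iv F68121) D17922 (iv D17318)
def n17923 : Q := act 1 n17310
theorem D17923 : act 1 n17310 = n17923 := rfl
theorem F70325 : act 2 n17923 = n17514 := d8_2 D17310 D17923 F70265 (iv D17908) F68076
theorem F70326 : act 3 n17923 = n17923 := d9_2 F68122 D17923 (iv D17923)
theorem F70327 : act 7 n17923 = n17381 := d13_2 (iv F68123) D17923 (iv D17381)
theorem F70328 : act 8 n17923 = n17312 := d14_2 (iv F68124) D17923 (iv D17312)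
def n17924 : Q := act 4 n17310
theorem D17924 : act 4 n17310 = n17924 := rfl
theorem F70329 : act 2 n17924 = n17311 := d16_1 D17924 (iv D17311) D17310
theorem F70330 : act 7 n17924 = n17382 := d28_2 (iv F68123) D17924 (iv D17382)
theorem F70331 : act 8 n17924 = n17313 := d29_2 (iv F68124) D17924 (iv D17313)
def n17925 : Q := act 5 n17311
theorem D17925 : act 5 n17311 = n17925 := rfl
theorem F70332 : act 7 n17925 = n17383 := d31_2 (iv F68125) D17925 (iv D17383)
theorem F70333 : act 8 n17925 = n17314 := d32_2 (iv F68126) D17925 (iv D17314)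
def n17926 : Q := act 0 n17312
theorem D17926 : act 0 n17312 = n17926 := rfl
theorem F70334 : act 1 n17926 = n17360 := d0_2 D17312 D17926 F69927 (iv D17833) F67748
theorem F70335 : act 2 n17926 = n17378 := d1_2 (iv F68127) D17926 F68369
theorem F70336 : act 3 n17926 = n17926 := d2_2 F68128 D17926 (iv D17926)
theorem F70337 : act 5 n17926 = n17364 := d4_2 F70318 D17926 (iv F70315)
theorem F70338 : act 6 n17926 = n17729 := d5_2 F70227 D17926 F70229
theorem F70339 : act 7 n17926 = n17319 := d6_2 (iv F68129) D17926 (iv D17319)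
def n17927 : Q := act 4 n17312
theorem D17927 : act 4 n17312 = n17927 := rfl
theorem F70340 : act 1 n17927 = n17313 := d10_1 D17927 (iv D17313) D17312
theorem F70341 : act 2 n17927 = n17496 := d16_1 D17927 F68793 (iv F68127)
theorem F70342 : act 7 n17927 = n17320 := d28_2 (iv F68129) D17927 (iv D17320)
def n17928 : Q := act 3 n17313
theorem D17928 : act 3 n17313 = n17928 := rfl
theorem F70343 : act 4 n17928 = n17928 := d21_2 D17313 D17928 (iv D17928) (iv D17313) F66047
theorem F70344 : act 7 n17928 = n17757 := d24_2 (iv F68131) D17928 (iv D17757) F67501 (iv F66064)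
def n17929 : Q := act 5 n17313
theorem D17929 : act 5 n17313 = n17929 := rfl
theorem F70345 : act 2 n17929 = n17314 := d17_1 D17929 (iv D17314) (iv F68130)
theorem F70346 : act 7 n17929 = n17321 := d31_2 (iv F68131) D17929 (iv D17321)
def n17930 : Q := act 6 n17314
theorem D17930 : act 6 n17314 = n17930 := rfl
theorem F70347 : act 7 n17930 = n17322 := d33_2 (iv F68132) D17930 (iv D17322)
def n17931 : Q := act 5 n17315
theorem D17931 : act 5 n17315 = n17931 := rfl
theorem F70348 : act 0 n17931 = n17492 := d4_1 D17931 (iv D17492) (iv F68133)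
theorem F70349 : act 1 n17931 = n17621 := d11_1 D17931 (iv D17621) (iv F68134)
theorem F70350 : act 3 n17931 = n17600 := d22_1 D17931 (iv D17600) (iv F68135)
theorem F70351 : act 4 n17931 = n17480 := d26_1 D17931 (iv D17480) (iv D16877) (iv F66052) D17315
theorem F70352 : act 8 n17931 = n17389 := d32_2 (iv F68137) D17931 (iv D17389)
def n17932 : Q := act 4 n17316
theorem D17932 : act 4 n17316 = n17932 := rfl
theorem F70353 : act 0 n17932 = n17371 := d3_1 D17932 (iv D17371) (iv F68138)
theorem F70354 : act 1 n17932 = n17317 := d10_1 D17932 (iv D17317) D17316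
theorem F70355 : act 2 n17932 = n17393 := d16_1 D17932 (iv D17393) (iv F68139)
theorem F70356 : act 3 n17932 = n17446 := d21_1 D17932 (iv D17446) F66511 (iv F66073) (iv F68140)
theorem F70357 : act 6 n17932 = n17682 := d27_2 (iv F68142) D17932 F69406
theorem F70358 : act 8 n17932 = n17390 := d29_2 (iv F68143) D17932 (iv D17390)
def n17933 : Q := act 5 n17317
theorem D17933 : act 5 n17317 = n17933 := rfl
theorem F70359 : act 2 n17933 = n17318 := d17_1 D17933 (iv D17318) (iv F68144)
theorem F70360 : act 4 n17933 = n17321 := d26_1 D17933 (iv D17321) (iv D16725) (iv F66056) D17317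
theorem F70361 : act 8 n17933 = n17391 := d32_2 (iv F68145) D17933 (iv D17391)
def n17934 : Q := act 6 n17318
theorem D17934 : act 6 n17318 = n17934 := rfl
theorem F70362 : act 3 n17934 = n17601 := d23_1 D17934 (iv D17601) (iv F68146)
theorem F70363 : act 4 n17934 = n17322 := d27_1 D17934 (iv D17322) (iv F68147)
theorem F70364 : act 8 n17934 = n17392 := d34_2 (iv F68148) D17934 (iv D17392)
def n17935 : Q := act 4 n17319
theorem D17935 : act 4 n17319 = n17935 := rfl
theorem F70365 : act 0 n17935 = n17320 := d3_1 D17935 (iv D17320) D17319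
theorem F70366 : act 1 n17935 = n17369 := d10_1 D17935 (iv D17369) (iv F68149)
theorem F70367 : act 2 n17935 = n17390 := d16_1 D17935 (iv D17390) (iv F68150)
theorem F70368 : act 3 n17935 = n17479 := d21_1 D17935 (iv D17479) F66629 (iv F66080) (iv F68151)
theorem F70369 : act 6 n17935 = n17699 := d27_2 (iv F68153) D17935 F69450
theorem F70370 : act 8 n17935 = n17393 := d29_2 (iv F68154) D17935 (iv D17393)
def n17936 : Q := act 5 n17320
theorem D17936 : act 5 n17320 = n17936 := rfl
theorem F70371 : act 1 n17936 = n17321 := d11_1 D17936 (iv D17321) (iv F68155)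
theorem F70372 : act 2 n17936 = n17495 := d17_1 D17936 (iv D17495) (iv F68156)
theorem F70373 : act 3 n17936 = n17493 := d22_1 D17936 (iv D17493) (iv F68157)
theorem F70374 : act 8 n17936 = n17394 := d32_2 (iv F68158) D17936 (iv D17394)
def n17937 : Q := act 6 n17321
theorem D17937 : act 6 n17321 = n17937 := rfl
theorem F70375 : act 2 n17937 = n17322 := d18_1 D17937 (iv D17322) (iv F68159)
theorem F70376 : act 3 n17937 = n17762 := d23_1 D17937 (iv D17762) (iv F68160)
theorem F70377 : act 8 n17937 = n17395 := d34_2 (iv F68161) D17937 (iv D17395)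
def n17938 : Q := act 4 n17323
theorem D17938 : act 4 n17323 = n17938 := rfl
theorem F70378 : act 1 n17938 = n17429 := d10_1 D17938 (iv D17429) (iv F68164)
theorem F70379 : act 2 n17938 = n17324 := d16_1 D17938 (iv D17324) D17323
theorem F70380 : act 6 n17938 = n17525 := d27_2 (iv F68167) D17938 (iv D17525)
theorem F70381 : act 7 n17938 = n17325 := d28_2 (iv F68168) D17938 (iv D17325)
theorem F70382 : act 8 n17938 = n17801 := d29_2 (iv F68169) D17938 (iv D17801)
def n17939 : Q := act 5 n17324
theorem D17939 : act 5 n17324 = n17939 := rfl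
theorem F70383 : act 1 n17939 = n17406 := d11_1 D17939 (iv D17406) (iv F68170)
theorem F70384 : act 4 n17939 = n17670 := d26_1 D17939 (iv D17670) (iv D17077) (iv F66086) D17324
theorem F70385 : act 7 n17939 = n17326 := d31_2 (iv F68172) D17939 (iv D17326)
theorem F70386 : act 8 n17939 = n17802 := d32_2 (iv F68173) D17939 (iv D17802)
def n17940 : Q := act 5 n17325
theorem D17940 : act 5 n17325 = n17940 := rfl
theorem F70387 : act 1 n17940 = n17450 := d11_1 D17940 (iv D17450) (iv F68174)
theorem F70388 : act 2 n17940 = n17326 := d17_1 D17940 (iv D17326) (iv F68175)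
theorem F70389 : act 3 n17940 = n17372 := d22_1 D17940 (iv D17372) (iv F68176)
theorem F70390 : act 4 n17940 = n17683 := d26_1 D17940 (iv D17683) (iv D17086) (iv F66092) D17325
theorem F70391 : act 8 n17940 = n17413 := d32_2 (iv F68178) D17940 (iv D17413)
def n17941 : Q := act 6 n17326
theorem D17941 : act 6 n17326 = n17941 := rfl
theorem F70392 : act 1 n17941 = n17407 := d12_1 D17941 (iv D17407) (iv F68179)
theorem F70393 : act 3 n17941 = n17327 := d23_1 D17941 (iv D17327) (iv F68180)
theorem F70394 : act 4 n17941 = n17684 := d27_1 D17941 (iv D17684) (iv F68181)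
theorem F70395 : act 5 n17941 = n17530 := d30_1 D17941 (iv D17530) (iv D16928) (iv F66097) D17326
theorem F70396 : act 8 n17941 = n17414 := d34_2 (iv F68182) D17941 (iv D17414)
def n17942 : Q := act 6 n17328
theorem D17942 : act 6 n17328 = n17942 := rfl
theorem F70397 : act 0 n17942 = n17334 := d5_1 D17942 (iv D17334) (iv F68187)
theorem F70398 : act 2 n17942 = n17463 := d18_1 D17942 (iv D17463) (iv F68188)
theorem F70399 : act 3 n17942 = n17761 := d23_1 D17942 (iv D17761) (iv F68189)
theorem F70400 : act 4 n17942 = n17410 := d27_1 D17942 (iv D17410) (iv F68190)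
theorem F70401 : act 5 n17942 = n17356 := d30_1 D17942 (iv D17356) (iv D16758) (iv F66105) D17328
theorem F70402 : act 7 n17942 = n17844 := d33_2 (iv F68191) D17942 (iv D17844)
theorem F70403 : act 8 n17942 = n17536 := d34_2 (iv F68192) D17942 (iv D17536)
def n17943 : Q := act 1 n17329
theorem D17943 : act 1 n17329 = n17943 := rfl
theorem F70404 : act 0 n17943 = n17728 := d0_1 D17943 (iv F70116) F70115 F68765 (iv F68193)
theorem F70405 : act 2 n17943 = n17338 := d8_2 D17329 D17943 (iv D17338) (iv D16741) (iv F66109)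
theorem F70406 : act 3 n17943 = n17943 := d9_2 F68194 D17943 (iv D17943)
theorem F70407 : act 5 n17943 = n17687 := d11_2 (iv F68195) D17943 (iv D17687)
theorem F70408 : act 6 n17943 = n17364 := d12_2 (iv F68196) D17943 (iv D17364)
theorem F70409 : act 7 n17943 = n17331 := d13_2 (iv F68197) D17943 (iv D17331)
def n17944 : Q := act 4 n17329
theorem D17944 : act 4 n17329 = n17944 := rfl
theorem F70410 : act 0 n17944 = n17753 := d3_1 D17944 (iv D17753) (iv F68193)
theorem F70411 : act 2 n17944 = n17330 := d16_1 D17944 (iv D17330) D17329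
theorem F70412 : act 6 n17944 = n17365 := d27_2 (iv F68196) D17944 (iv D17365)
theorem F70413 : act 7 n17944 = n17332 := d28_2 (iv F68197) D17944 (iv D17332)
def n17945 : Q := act 5 n17330
theorem D17945 : act 5 n17330 = n17945 := rfl
theorem F70414 : act 0 n17945 = n17754 := d4_1 D17945 (iv D17754) (iv F68198)
theorem F70415 : act 1 n17945 = n17340 := d11_1 D17945 (iv D17340) (iv F68199)
theorem F70416 : act 3 n17945 = n17939 := d22_1 D17945 (iv D17939) (iv F68200)
theorem F70417 : act 4 n17945 = n17689 := d26_1 D17945 (iv D17689) (iv D17090) (iv F66110) D17330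
theorem F70418 : act 7 n17945 = n17333 := d31_2 (iv F68202) D17945 (iv D17333)
def n17946 : Q := act 4 n17331
theorem D17946 : act 4 n17331 = n17946 := rfl
theorem F70419 : act 0 n17946 = n17682 := d3_1 D17946 F69406 (iv F68203)
theorem F70420 : act 1 n17946 = n17332 := d10_1 D17946 (iv D17332) D17331
theorem F70421 : act 2 n17946 = n17346 := d16_1 D17946 (iv D17346) (iv F68204)
theorem F70422 : act 3 n17946 = n17443 := d21_1 D17946 (iv D17443) F66498 (iv F66338) (iv F68205)
theorem F70423 : act 6 n17946 = n17371 := d27_2 (iv F68207) D17946 (iv D17371)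
theorem F70424 : act 8 n17946 = n17468 := d29_2 (iv F68208) D17946 F68699
def n17947 : Q := act 5 n17332
theorem D17947 : act 5 n17332 = n17947 := rfl
theorem F70425 : act 0 n17947 = n17760 := d4_1 D17947 (iv D17760) (iv F68209)
theorem F70426 : act 2 n17947 = n17333 := d17_1 D17947 (iv D17333) (iv F68210)
theorem F70427 : act 3 n17947 = n17529 := d22_1 D17947 (iv D17529) (iv F68211)
theorem F70428 : act 4 n17947 = n17691 := d26_1 D17947 (iv D17691) (iv D17092) (iv F66115) D17332
theorem F70429 : act 8 n17947 = n17718 := d32_2 (iv F68213) D17947 (iv D17718)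
def n17948 : Q := act 6 n17333
theorem D17948 : act 6 n17333 = n17948 := rfl
theorem F70430 : act 0 n17948 = n17761 := d5_1 D17948 (iv D17761) (iv F68214)
theorem F70431 : act 1 n17948 = n17348 := d12_1 D17948 (iv D17348) (iv F68215)
theorem F70432 : act 3 n17948 = n17334 := d23_1 D17948 (iv D17334) (iv F68216)
theorem F70433 : act 4 n17948 = n17692 := d27_1 D17948 (iv D17692) (iv F68217)
theorem F70434 : act 5 n17948 = n17373 := d30_1 D17948 (iv D17373) (iv D16771) (iv F66121) D17333
theorem F70435 : act 8 n17948 = n17719 := d34_2 (iv F68218) D17948 (iv D17719)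
def n17949 : Q := act 4 n17335
theorem D17949 : act 4 n17335 = n17949 := rfl
theorem F70436 : act 0 n17949 = n17448 := d3_1 D17949 (iv D17448) (iv F68224)
theorem F70437 : act 1 n17949 = n17576 := d10_1 D17949 (iv D17576) (iv F68225)
theorem F70438 : act 2 n17949 = n17779 := d16_1 D17949 (iv D17779) (iv F68226)
theorem F70439 : act 6 n17949 = n17337 := d27_2 (iv F68228) D17949 (iv D17337)
theorem F70440 : act 7 n17949 = n17341 := d28_2 (iv F68229) D17949 (iv D17341)
def n17950 : Q := act 1 n17336
theorem D17950 : act 1 n17336 = n17950 := rfl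
theorem F70441 : act 0 n17950 = n17617 := d0_1 D17950 (iv D17617) F67052 D17022 (iv F68230)
theorem F70442 : act 2 n17950 = n17687 := d8_2 D17336 D17950 (iv D17687) (iv D17089) (iv F66133)
theorem F70443 : act 3 n17950 = n17396 := d9_2 (iv F68231) D17950 (iv D17396)
theorem F70444 : act 5 n17950 = n17338 := d11_2 (iv F68232) D17950 (iv D17338)
theorem F70445 : act 6 n17950 = n17713 := d12_2 (iv F68233) D17950 F69484
theorem F70446 : act 7 n17950 = n17342 := d13_2 (iv F68234) D17950 (iv D17342)
def n17951 : Q := act 4 n17336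
theorem D17951 : act 4 n17336 = n17951 := rfl
theorem F70447 : act 0 n17951 = n17633 := d3_1 D17951 (iv D17633) (iv F68230)
theorem F70448 : act 2 n17951 = n17337 := d16_1 D17951 (iv D17337) D17336
theorem F70449 : act 6 n17951 = n17779 := d27_2 (iv F68233) D17951 (iv D17779)
theorem F70450 : act 7 n17951 = n17343 := d28_2 (iv F68234) D17951 (iv D17343)
def n17952 : Q := act 5 n17337
theorem D17952 : act 5 n17337 = n17952 := rfl
theorem F70451 : act 0 n17952 = n17650 := d4_1 D17952 (iv D17650) (iv F68235)
theorem F70452 : act 1 n17952 = n17689 := d11_1 D17952 (iv D17689) (iv F68236)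
theorem F70453 : act 4 n17952 = n17340 := d26_1 D17952 (iv D17340) (iv D16742) (iv F66134) D17337
theorem F70454 : act 7 n17952 = n17344 := d31_2 (iv F68237) D17952 (iv D17344)
def n17953 : Q := act 0 n17338
theorem D17953 : act 0 n17338 = n17953 := rfl
theorem F70455 : act 1 n17953 = n17613 := d0_2 D17338 D17953 F69179 F67085 F66759
theorem F70456 : act 2 n17953 = n17728 := d1_2 F70405 D17953 (iv F70404)
theorem F70457 : act 3 n17953 = n17398 := d2_2 (iv F68238) D17953 (iv D17398)
theorem F70458 : act 5 n17953 = n17617 := d4_2 F70444 D17953 (iv F70441)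
theorem F70459 : act 6 n17953 = n17384 := d5_2 (iv F68239) D17953 (iv D17384)
theorem F70460 : act 7 n17953 = n17345 := d6_2 (iv F68240) D17953 (iv D17345)
def n17954 : Q := act 4 n17338
theorem D17954 : act 4 n17338 = n17954 := rfl
theorem F70461 : act 1 n17954 = n17339 := d10_1 D17954 (iv D17339) D17338
theorem F70462 : act 6 n17954 = n17385 := d27_2 (iv F68239) D17954 (iv D17385)
theorem F70463 : act 7 n17954 = n17346 := d28_2 (iv F68240) D17954 (iv D17346)
def n17955 : Q := act 5 n17339
theorem D17955 : act 5 n17339 = n17955 := rfl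
theorem F70464 : act 2 n17955 = n17340 := d17_1 D17955 (iv D17340) (iv F68241)
theorem F70465 : act 7 n17955 = n17347 := d31_2 (iv F68243) D17955 (iv D17347)
def n17956 : Q := act 6 n17340
theorem D17956 : act 6 n17340 = n17956 := rfl
theorem F70466 : act 5 n17956 = n17388 := d30_1 D17956 (iv D17388) (iv D16782) (iv F66139) D17340
theorem F70467 : act 7 n17956 = n17348 := d33_2 (iv F68244) D17956 (iv D17348)
def n17957 : Q := act 5 n17341
theorem D17957 : act 5 n17341 = n17957 := rfl
theorem F70468 : act 0 n17957 = n17449 := d4_1 D17957 (iv D17449) (iv F68245)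
theorem F70469 : act 1 n17957 = n17579 := d11_1 D17957 (iv D17579) (iv F68246)
theorem F70470 : act 2 n17957 = n17790 := d17_1 D17957 (iv D17790) (iv F68247)
theorem F70471 : act 3 n17957 = n17447 := d22_1 D17957 (iv D17447) (iv F68248)
theorem F70472 : act 4 n17957 = n17389 := d26_1 D17957 (iv D17389) (iv D16783) (iv F66144) D17341
theorem F70473 : act 8 n17957 = n17480 := d32_2 (iv F68250) D17957 (iv D17480)
def n17958 : Q := act 4 n17342
theorem D17958 : act 4 n17342 = n17958 := rfl
theorem F70474 : act 0 n17958 = n17622 := d3_1 D17958 (iv D17622) (iv F68251)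
theorem F70475 : act 1 n17958 = n17343 := d10_1 D17958 (iv D17343) D17342
theorem F70476 : act 2 n17958 = n17690 := d16_1 D17958 (iv D17690) (iv F68252)
theorem F70477 : act 3 n17958 = n17620 := d21_1 D17958 (iv D17620) F67061 F66170 (iv F68253)
theorem F70478 : act 6 n17958 = n17720 := d27_2 (iv F68255) D17958 (iv D17720)
theorem F70479 : act 8 n17958 = n17698 := d29_2 (iv F68256) D17958 (iv D17698)
def n17959 : Q := act 3 n17343
theorem D17959 : act 3 n17343 = n17959 := rfl
theorem F70480 : act 0 n17959 = n17346 := d2_1 D17959 F68273 (iv F68257)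
theorem F70481 : act 1 n17959 = n17620 := d9_1 D17959 (iv F70477) F70475
theorem F70482 : act 2 n17959 = n17682 := d15_1 D17959 (iv D17682) F67317 (iv F66154) (iv F68258)
theorem F70483 : act 4 n17959 = n17345 := d21_2 D17343 D17959 F68268 (iv D16751) (iv F66148)
theorem F70484 : act 6 n17959 = n17393 := d23_2 (iv F68259) D17959 F68403
theorem F70485 : act 8 n17959 = n17699 := d25_2 (iv F68260) D17959 (iv D17699)
def n17960 : Q := act 5 n17343
theorem D17960 : act 5 n17343 = n17960 := rfl
theorem F70486 : act 0 n17960 = n17640 := d4_1 D17960 (iv D17640) (iv F68257)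
theorem F70487 : act 2 n17960 = n17344 := d17_1 D17960 (iv D17344) (iv F68258)
theorem F70488 : act 4 n17960 = n17347 := d26_1 D17960 (iv D17347) (iv D16747) (iv F66149) D17343
theorem F70489 : act 8 n17960 = n17700 := d32_2 (iv F68260) D17960 (iv D17700)
def n17961 : Q := act 6 n17344
theorem D17961 : act 6 n17344 = n17961 := rfl
theorem F70490 : act 0 n17961 = n17655 := d5_1 D17961 (iv D17655) (iv F68261)
theorem F70491 : act 1 n17961 = n17692 := d12_1 D17961 (iv D17692) (iv F68262)
theorem F70492 : act 3 n17961 = n17684 := d23_1 D17961 (iv D17684) (iv F68263)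
theorem F70493 : act 4 n17961 = n17348 := d27_1 D17961 (iv D17348) (iv F68264)
theorem F70494 : act 8 n17961 = n17701 := d34_2 (iv F68265) D17961 (iv D17701)
def n17962 : Q := act 5 n17346
theorem D17962 : act 5 n17346 = n17962 := rfl
theorem F70495 : act 1 n17962 = n17347 := d11_1 D17962 (iv D17347) (iv F68272)
theorem F70496 : act 3 n17962 = n17640 := d22_1 D17962 (iv D17640) (iv F68273)
def n17963 : Q := act 6 n17347
theorem D17963 : act 6 n17347 = n17963 := rfl
theorem F70497 : act 2 n17963 = n17348 := d18_1 D17963 (iv D17348) (iv F68275)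
theorem F70498 : act 3 n17963 = n17641 := d23_1 D17963 (iv D17641) (iv F68276)
theorem F70499 : act 5 n17963 = n17395 := d30_1 D17963 (iv D17395) (iv D16789) (iv F66160) D17347
def n17964 : Q := act 4 n17349
theorem D17964 : act 4 n17349 = n17964 := rfl
theorem F70500 : act 0 n17964 = n17361 := d3_1 D17964 (iv D17361) (iv F68279)
theorem F70501 : act 1 n17964 = n17595 := d10_1 D17964 (iv D17595) (iv F68280)
theorem F70502 : act 6 n17964 = n17584 := d27_2 (iv F68282) D17964 (iv D17584)
theorem F70503 : act 7 n17964 = n17353 := d28_2 (iv F68283) D17964 (iv D17353)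
def n17965 : Q := act 2 n17350
theorem D17965 : act 2 n17350 = n17965 := rfl
theorem F70504 : act 0 n17965 = n17362 := d1_1 D17965 (iv D17362) (iv F68284)
theorem F70505 : act 3 n17965 = n17965 := d15_2 D17350 D17965 (iv D17965) (iv D17350) F66185
theorem F70506 : act 6 n17965 = n17751 := d18_2 (iv F68286) D17965 (iv D17751)
theorem F70507 : act 7 n17965 = n17602 := d19_2 (iv F68287) D17965 (iv D17602)
theorem F70508 : act 8 n17965 = n17351 := d20_2 (iv F68288) D17965 (iv D17351)
def n17966 : Q := act 4 n17350
theorem D17966 : act 4 n17350 = n17966 := rfl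
theorem F70509 : act 0 n17966 = n17363 := d3_1 D17966 (iv D17363) (iv F68284)
theorem F70510 : act 1 n17966 = n17531 := d10_1 D17966 (iv D17531) (iv F68285)
theorem F70511 : act 3 n17966 = n17522 := d21_1 D17966 (iv D17522) (iv D16921) (iv F66186) D17350
theorem F70512 : act 6 n17966 = n17752 := d27_2 (iv F68286) D17966 (iv D17752)
theorem F70513 : act 7 n17966 = n17603 := d28_2 (iv F68287) D17966 (iv D17603)
theorem F70514 : act 8 n17966 = n17352 := d29_2 (iv F68288) D17966 (iv D17352)
def n17967 : Q := act 4 n17351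
theorem D17967 : act 4 n17351 = n17967 := rfl
theorem F70515 : act 0 n17967 = n17365 := d3_1 D17967 (iv D17365) (iv F68289)
theorem F70516 : act 2 n17967 = n17352 := d16_1 D17967 (iv D17352) D17351
theorem F70517 : act 6 n17967 = n17753 := d27_2 (iv F68291) D17967 (iv D17753)
theorem F70518 : act 7 n17967 = n17354 := d28_2 (iv F68292) D17967 (iv D17354)
def n17968 : Q := act 5 n17352
theorem D17968 : act 5 n17352 = n17968 := rfl
theorem F70519 : act 0 n17968 = n17366 := d4_1 D17968 (iv D17366) (iv F68293)
theorem F70520 : act 7 n17968 = n17355 := d31_2 (iv F68295) D17968 (iv D17355)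
def n17969 : Q := act 5 n17353
theorem D17969 : act 5 n17353 = n17969 := rfl
theorem F70521 : act 0 n17969 = n17370 := d4_1 D17969 (iv D17370) (iv F68296)
theorem F70522 : act 1 n17969 = n17600 := d11_1 D17969 (iv D17600) (iv F68297)
theorem F70523 : act 3 n17969 = n17621 := d22_1 D17969 (iv D17621) (iv F68298)
theorem F70524 : act 4 n17969 = n17355 := d26_1 D17969 (iv D17355) (iv D16757) (iv F66194) D17353
theorem F70525 : act 8 n17969 = n17637 := d32_2 (iv F68300) D17969 (iv D17637)
def n17970 : Q := act 5 n17354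
theorem D17970 : act 5 n17354 = n17970 := rfl
theorem F70526 : act 0 n17970 = n17372 := d4_1 D17970 (iv D17372) (iv F68301)
theorem F70527 : act 2 n17970 = n17355 := d17_1 D17970 (iv D17355) (iv F68302)
theorem F70528 : act 8 n17970 = n17784 := d32_2 (iv F68304) D17970 (iv D17784)
def n17971 : Q := act 6 n17355
theorem D17971 : act 6 n17355 = n17971 := rfl
theorem F70529 : act 0 n17971 = n17373 := d5_1 D17971 (iv D17373) (iv F68305)
theorem F70530 : act 3 n17971 = n17356 := d23_1 D17971 (iv D17356) (iv F68306)
theorem F70531 : act 5 n17971 = n17761 := d30_1 D17971 (iv D17761) (iv D17154) (iv F66203) D17355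
theorem F70532 : act 8 n17971 = n17785 := d34_2 (iv F68307) D17971 (iv D17785)
def n17972 : Q := act 2 n17357
theorem D17972 : act 2 n17357 = n17972 := rfl
theorem F70533 : act 1 n17972 = n17831 := d8_1 D17972 (iv D17831) F67744 F67357 (iv F68310)
theorem F70534 : act 3 n17972 = n17972 := d15_2 D17357 D17972 (iv D17972) (iv D17357) F66208
theorem F70535 : act 5 n17972 = n17965 := d17_2 (iv F68311) D17972 (iv D17965)
theorem F70536 : act 6 n17972 = n17887 := d18_2 F69086 D17972 F70172
theorem F70537 : act 7 n17972 = n17625 := d19_2 (iv F68312) D17972 (iv D17625)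
theorem F70538 : act 8 n17972 = n17833 := d20_2 (iv F68313) D17972 F69922
def n17973 : Q := act 4 n17357
theorem D17973 : act 4 n17357 = n17973 := rfl
theorem F70539 : act 1 n17973 = n17374 := d10_1 D17973 (iv D17374) (iv F68310)
theorem F70540 : act 3 n17973 = n17361 := d21_1 D17973 (iv D17361) (iv D16762) (iv F66209) D17357
theorem F70541 : act 7 n17973 = n17626 := d28_2 (iv F68312) D17973 (iv D17626)
theorem F70542 : act 8 n17973 = n17964 := d29_2 (iv F68313) D17973 (iv D17964)
def n17974 : Q := act 2 n17358
theorem D17974 : act 2 n17358 = n17974 := rfl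
theorem F70543 : act 0 n17974 = n17583 := d1_1 D17974 (iv D17583) (iv F68314)
theorem F70544 : act 1 n17974 = n17729 := d8_1 D17974 F69538 (iv F67945) F67946 (iv F68315)
theorem F70545 : act 3 n17974 = n17974 := d15_2 D17358 D17974 (iv D17974) (iv D17358) F66214
theorem F70546 : act 5 n17974 = n17575 := d17_2 (iv F68316) D17974 (iv D17575)
theorem F70547 : act 6 n17974 = n17360 := d18_2 (iv F68317) D17974 (iv D17360)
theorem F70548 : act 7 n17974 = n17367 := d19_2 (iv F68318) D17974 (iv D17367)
def n17975 : Q := act 4 n17358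
theorem D17975 : act 4 n17358 = n17975 := rfl
theorem F70549 : act 0 n17975 = n17584 := d3_1 D17975 (iv D17584) (iv F68314)
theorem F70550 : act 1 n17975 = n17375 := d10_1 D17975 (iv D17375) (iv F68315)
theorem F70551 : act 6 n17975 = n17361 := d27_2 (iv F68317) D17975 (iv D17361)
theorem F70552 : act 7 n17975 = n17368 := d28_2 (iv F68318) D17975 (iv D17368)
def n17976 : Q := act 2 n17359
theorem D17976 : act 2 n17359 = n17976 := rfl
theorem F70553 : act 0 n17976 = n17972 := d1_1 D17976 (iv D17972) (iv F68319)
theorem F70554 : act 3 n17976 = n17976 := d15_2 D17359 D17976 (iv D17976) (iv D17359) F66219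
theorem F70555 : act 5 n17976 = n17362 := d17_2 (iv F68321) D17976 (iv D17362)
theorem F70556 : act 8 n17976 = n17360 := d20_2 (iv F68322) D17976 (iv D17360)
def n17977 : Q := act 4 n17359
theorem D17977 : act 4 n17359 = n17977 := rfl
theorem F70557 : act 0 n17977 = n17973 := d3_1 D17977 (iv D17973) (iv F68319)
theorem F70558 : act 1 n17977 = n17377 := d10_1 D17977 (iv D17377) (iv F68320)
theorem F70559 : act 3 n17977 = n17964 := d21_1 D17977 (iv D17964) (iv D17349) (iv F66220) D17359
theorem F70560 : act 8 n17977 = n17361 := d29_2 (iv F68322) D17977 (iv D17361)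
def n17978 : Q := act 4 n17360
theorem D17978 : act 4 n17360 = n17978 := rfl
theorem F70561 : act 2 n17978 = n17361 := d16_1 D17978 (iv D17361) D17360
theorem F70562 : act 7 n17978 = n17369 := d28_2 (iv F68325) D17978 (iv D17369)
def n17979 : Q := act 5 n17361
theorem D17979 : act 5 n17361 = n17979 := rfl
theorem F70563 : act 1 n17979 = n17380 := d11_1 D17979 (iv D17380) (iv F68326)
theorem F70564 : act 4 n17979 = n17366 := d26_1 D17979 (iv D17366) (iv D16765) (iv F66224) D17361
theorem F70565 : act 7 n17979 = n17370 := d31_2 (iv F68327) D17979 (iv D17370)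
def n17980 : Q := act 1 n17362
theorem D17980 : act 1 n17362 = n17980 := rfl
theorem F70566 : act 2 n17980 = n17381 := d8_2 D17362 D17980 (iv D17381) (iv D16778) (iv F66226)
theorem F70567 : act 3 n17980 = n17980 := d9_2 F68328 D17980 (iv D17980)
theorem F70568 : act 7 n17980 = n17514 := d13_2 F70263 D17980 F70265
theorem F70569 : act 8 n17980 = n17364 := d14_2 (iv F68329) D17980 (iv D17364)
def n17981 : Q := act 4 n17362
theorem D17981 : act 4 n17362 = n17981 := rfl
theorem F70570 : act 2 n17981 = n17363 := d16_1 D17981 (iv D17363) D17362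
theorem F70571 : act 8 n17981 = n17365 := d29_2 (iv F68329) D17981 (iv D17365)
def n17982 : Q := act 5 n17363
theorem D17982 : act 5 n17363 = n17982 := rfl
theorem F70572 : act 1 n17982 = n17383 := d11_1 D17982 (iv D17383) (iv F68330)
theorem F70573 : act 8 n17982 = n17366 := d32_2 (iv F68331) D17982 (iv D17366)
def n17983 : Q := act 4 n17364
theorem D17983 : act 4 n17364 = n17983 := rfl
theorem F70574 : act 1 n17983 = n17365 := d10_1 D17983 (iv D17365) D17364
theorem F70575 : act 2 n17983 = n17385 := d16_1 D17983 (iv D17385) (iv F68332)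
theorem F70576 : act 7 n17983 = n17371 := d28_2 (iv F68334) D17983 (iv D17371)
def n17984 : Q := act 3 n17365
theorem D17984 : act 3 n17365 = n17984 := rfl
theorem F70577 : act 4 n17984 = n17984 := d21_2 D17365 D17984 (iv D17984) (iv D17365) F66228
def n17985 : Q := act 5 n17365
theorem D17985 : act 5 n17365 = n17985 := rfl
theorem F70578 : act 2 n17985 = n17366 := d17_1 D17985 (iv D17366) (iv F68335)
theorem F70579 : act 7 n17985 = n17372 := d31_2 (iv F68336) D17985 (iv D17372)
def n17986 : Q := act 6 n17366
theorem D17986 : act 6 n17366 = n17986 := rfl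
theorem F70580 : act 1 n17986 = n17388 := d12_1 D17986 (iv D17388) (iv F68337)
theorem F70581 : act 7 n17986 = n17373 := d33_2 (iv F68338) D17986 (iv D17373)
def n17987 : Q := act 4 n17367
theorem D17987 : act 4 n17367 = n17987 := rfl
theorem F70582 : act 0 n17987 = n17589 := d3_1 D17987 (iv D17589) (iv F68339)
theorem F70583 : act 1 n17987 = n17699 := d10_1 D17987 F69450 (iv F68340)
theorem F70584 : act 2 n17987 = n17368 := d16_1 D17987 (iv D17368) D17367
theorem F70585 : act 3 n17987 = n17698 := d21_1 D17987 (iv D17698) F67347 (iv F66345) (iv F68341)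
theorem F70586 : act 6 n17987 = n17369 := d27_2 (iv F68343) D17987 (iv D17369)
theorem F70587 : act 8 n17987 = n17620 := d29_2 (iv F68344) D17987 (iv D17620)
def n17988 : Q := act 5 n17368
theorem D17988 : act 5 n17368 = n17988 := rfl
theorem F70588 : act 0 n17988 = n17590 := d4_1 D17988 (iv D17590) (iv F68345)
theorem F70589 : act 1 n17988 = n17389 := d11_1 D17988 (iv D17389) (iv F68346)
theorem F70590 : act 3 n17988 = n17637 := d22_1 D17988 (iv D17637) (iv F68347)
theorem F70591 : act 4 n17988 = n17579 := d26_1 D17988 (iv D17579) (iv D16972) (iv F66234) D17368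
theorem F70592 : act 8 n17988 = n17621 := d32_2 (iv F68349) D17988 (iv D17621)
def n17989 : Q := act 3 n17369
theorem D17989 : act 3 n17369 = n17989 := rfl
theorem F70593 : act 0 n17989 = n17690 := d2_1 D17989 (iv F69947) F69944
theorem F70594 : act 1 n17989 = n17479 := d9_1 D17989 (iv F70368) F70366
theorem F70595 : act 2 n17989 = n17622 := d15_1 D17989 F69209 F67111 (iv F66240) (iv F68350)
theorem F70596 : act 4 n17989 = n17405 := d21_2 D17369 D17989 (iv D17405) (iv D16807) (iv F66237)
theorem F70597 : act 6 n17989 = n17698 := d23_2 F70586 D17989 (iv F70585)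
theorem F70598 : act 8 n17989 = n17720 := d25_2 F70107 D17989 (iv F70105)
def n17990 : Q := act 5 n17369
theorem D17990 : act 5 n17369 = n17990 := rfl
theorem F70599 : act 2 n17990 = n17370 := d17_1 D17990 (iv D17370) (iv F68350)
theorem F70600 : act 4 n17990 = n17372 := d26_1 D17990 (iv D17372) (iv D16770) (iv F66238) D17369
def n17991 : Q := act 6 n17370
theorem D17991 : act 6 n17370 = n17991 := rfl
theorem F70601 : act 1 n17991 = n17392 := d12_1 D17991 (iv D17392) (iv F68351)
theorem F70602 : act 3 n17991 = n17639 := d23_1 D17991 (iv D17639) (iv F68352)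
theorem F70603 : act 4 n17991 = n17373 := d27_1 D17991 (iv D17373) (iv F68353)
def n17992 : Q := act 5 n17371
theorem D17992 : act 5 n17371 = n17992 := rfl
theorem F70604 : act 1 n17992 = n17372 := d11_1 D17992 (iv D17372) (iv F68354)
theorem F70605 : act 2 n17992 = n17394 := d17_1 D17992 (iv D17394) (iv F68355)
theorem F70606 : act 3 n17992 = n17450 := d22_1 D17992 (iv D17450) (iv F68356)
theorem F70607 : act 8 n17992 = n17495 := d32_2 (iv F68357) D17992 (iv D17495)
def n17993 : Q := act 6 n17372
theorem D17993 : act 6 n17372 = n17993 := rfl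
theorem F70608 : act 2 n17993 = n17373 := d18_1 D17993 (iv D17373) (iv F68358)
def n17994 : Q := act 5 n17374
theorem D17994 : act 5 n17374 = n17994 := rfl
theorem F70609 : act 3 n17994 = n17380 := d22_1 D17994 (iv D17380) (iv F68361)
theorem F70610 : act 7 n17994 = n17643 := d31_2 (iv F68362) D17994 (iv D17643)
def n17995 : Q := act 5 n17375
theorem D17995 : act 5 n17375 = n17995 := rfl
theorem F70611 : act 7 n17995 = n17389 := d31_2 (iv F68364) D17995 (iv D17389)
def n17996 : Q := act 1 n17376
theorem D17996 : act 1 n17376 = n17996 := rfl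
theorem F70612 : act 0 n17996 = n17514 := d0_1 D17996 F70265 F70260 (iv F69713) F69712
theorem F70613 : act 3 n17996 = n17399 := d9_2 (iv F68365) D17996 (iv D17399)
theorem F70614 : act 5 n17996 = n17381 := d11_2 (iv F68366) D17996 (iv D17381)
theorem F70615 : act 6 n17996 = n17730 := d12_2 F69119 D17996 F69540
theorem F70616 : act 8 n17996 = n17378 := d14_2 (iv F68367) D17996 (iv D17378)
def n17997 : Q := act 4 n17376
theorem D17997 : act 4 n17376 = n17997 := rfl
theorem F70617 : act 2 n17997 = n17377 := d16_1 D17997 (iv D17377) D17376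
theorem F70618 : act 8 n17997 = n17379 := d29_2 (iv F68367) D17997 (iv D17379)
def n17998 : Q := act 5 n17377
theorem D17998 : act 5 n17377 = n17998 := rfl
theorem F70619 : act 4 n17998 = n17383 := d26_1 D17998 (iv D17383) (iv D16779) (iv F66252) D17377
theorem F70620 : act 8 n17998 = n17380 := d32_2 (iv F68368) D17998 (iv D17380)
def n17999 : Q := act 4 n17378
theorem D17999 : act 4 n17378 = n17999 := rfl
theorem F70621 : act 0 n17999 = n17496 := d3_1 D17999 F68793 (iv F68369)
theorem F70622 : act 1 n17999 = n17379 := d10_1 D17999 (iv D17379) D17378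
theorem F70623 : act 6 n17999 = n17703 := d27_2 (iv F68372) D17999 F69456
theorem F70624 : act 7 n17999 = n17390 := d28_2 (iv F68373) D17999 (iv D17390)
def n18000 : Q := act 5 n17379
theorem D18000 : act 5 n17379 = n18000 := rfl
theorem F70625 : act 2 n18000 = n17380 := d17_1 D18000 (iv D17380) (iv F68374)
theorem F70626 : act 4 n18000 = n17387 := d26_1 D18000 (iv D17387) (iv D16781) (iv F66255) D17379
theorem F70627 : act 7 n18000 = n17391 := d31_2 (iv F68375) D18000 (iv D17391)
def n18001 : Q := act 6 n17380
theorem D18001 : act 6 n17380 = n18001 := rfl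
theorem F70628 : act 4 n18001 = n17388 := d27_1 D18001 (iv D17388) (iv F68376)
theorem F70629 : act 7 n18001 = n17392 := d33_2 (iv F68377) D18001 (iv D17392)
def n18002 : Q := act 0 n17381
theorem D18002 : act 0 n17381 = n18002 := rfl
theorem F70630 : act 3 n18002 = n17400 := d2_2 (iv F68378) D18002 (iv D17400)
theorem F70631 : act 5 n18002 = n17514 := d4_2 F70614 D18002 (iv F70612)
theorem F70632 : act 8 n18002 = n17384 := d7_2 (iv F68379) D18002 (iv D17384)
def n18003 : Q := act 4 n17381
theorem D18003 : act 4 n17381 = n18003 := rfl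
theorem F70633 : act 1 n18003 = n17382 := d10_1 D18003 (iv D17382) D17381
theorem F70634 : act 8 n18003 = n17385 := d29_2 (iv F68379) D18003 (iv D17385)
def n18004 : Q := act 3 n17382
theorem D18004 : act 3 n17382 = n18004 := rfl
theorem F70635 : act 0 n18004 = n17551 := d2_1 D18004 (iv F70068) F70066
theorem F70636 : act 2 n18004 = n17543 := d15_1 D18004 F68959 F66850 F66819 (iv F68380)
theorem F70637 : act 4 n18004 = n17402 := d21_2 D17382 D18004 (iv D17402) (iv D16800) (iv F66258)
theorem F70638 : act 6 n18004 = n17676 := d23_2 F69791 D18004 (iv F69790)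
theorem F70639 : act 8 n18004 = n17386 := d25_2 (iv F68381) D18004 (iv D17386)
def n18005 : Q := act 5 n17382
theorem D18005 : act 5 n17382 = n18005 := rfl
theorem F70640 : act 2 n18005 = n17383 := d17_1 D18005 (iv D17383) (iv F68380)
theorem F70641 : act 8 n18005 = n17387 := d32_2 (iv F68381) D18005 (iv D17387)
def n18006 : Q := act 6 n17383
theorem D18006 : act 6 n17383 = n18006 := rfl
theorem F70642 : act 8 n18006 = n17388 := d34_2 (iv F68382) D18006 (iv D17388)
def n18007 : Q := act 4 n17384
theorem D18007 : act 4 n17384 = n18007 := rfl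
theorem F70643 : act 0 n18007 = n17385 := d3_1 D18007 (iv D17385) D17384
theorem F70644 : act 7 n18007 = n17393 := d28_2 (iv F68385) D18007 (iv D17393)
def n18008 : Q := act 3 n17385
theorem D18008 : act 3 n17385 = n18008 := rfl
theorem F70645 : act 1 n18008 = n17386 := d9_1 D18008 (iv D17386) (iv F68386)
theorem F70646 : act 4 n18008 = n17404 := d21_2 D17385 D18008 (iv D17404) (iv D16802) (iv F66261)
theorem F70647 : act 7 n18008 = n17780 := d24_2 (iv F68387) D18008 (iv D17780) F67541 (iv F66278)
def n18009 : Q := act 5 n17385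
theorem D18009 : act 5 n17385 = n18009 := rfl
theorem F70648 : act 1 n18009 = n17387 := d11_1 D18009 (iv D17387) (iv F68386)
theorem F70649 : act 7 n18009 = n17394 := d31_2 (iv F68387) D18009 (iv D17394)
def n18010 : Q := act 5 n17386
theorem D18010 : act 5 n17386 = n18010 := rfl
theorem F70650 : act 3 n18010 = n17387 := d22_1 D18010 (iv D17387) D17386
theorem F70651 : act 7 n18010 = n17782 := d31_2 (iv F68389) D18010 (iv D17782)
def n18011 : Q := act 6 n17387
theorem D18011 : act 6 n17387 = n18011 := rfl
theorem F70652 : act 2 n18011 = n17388 := d18_1 D18011 (iv D17388) (iv F68390)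
theorem F70653 : act 7 n18011 = n17395 := d33_2 (iv F68391) D18011 (iv D17395)
def n18012 : Q := act 6 n17389
theorem D18012 : act 6 n17389 = n18012 := rfl
theorem F70654 : act 3 n18012 = n17653 := d23_1 D18012 (iv D17653) (iv F68393)
theorem F70655 : act 5 n18012 = n17392 := d30_1 D18012 (iv D17392) (iv D16786) (iv F66267) D17389
def n18013 : Q := act 5 n17390
theorem D18013 : act 5 n17390 = n18013 := rfl
theorem F70656 : act 0 n18013 = n17495 := d4_1 D18013 (iv D17495) (iv F68394)
theorem F70657 : act 1 n18013 = n17391 := d11_1 D18013 (iv D17391) (iv F68395)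
theorem F70658 : act 3 n18013 = n17481 := d22_1 D18013 (iv D17481) (iv F68396)
theorem F70659 : act 4 n18013 = n17394 := d26_1 D18013 (iv D17394) (iv D16788) (iv F66270) D17390
def n18014 : Q := act 6 n17391
theorem D18014 : act 6 n17391 = n18014 := rfl
theorem F70660 : act 2 n18014 = n17392 := d18_1 D18014 (iv D17392) (iv F68398)
theorem F70661 : act 4 n18014 = n17395 := d27_1 D18014 (iv D17395) (iv F68399)
def n18015 : Q := act 5 n17393
theorem D18015 : act 5 n17393 = n18015 := rfl
theorem F70662 : act 0 n18015 = n17394 := d4_1 D18015 (iv D17394) (iv F68402)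
theorem F70663 : act 3 n18015 = n17790 := d22_1 D18015 (iv D17790) (iv F68403)
theorem F70664 : act 4 n18015 = n17495 := d26_1 D18015 (iv D17495) F66676 (iv F66276) D17393
def n18016 : Q := act 6 n17394
theorem D18016 : act 6 n17394 = n18016 := rfl
theorem F70665 : act 1 n18016 = n17395 := d12_1 D18016 (iv D17395) (iv F68404)
theorem F70666 : act 3 n18016 = n17791 := d23_1 D18016 (iv D17791) (iv F68405)
def n18017 : Q := act 3 n17397
theorem D18017 : act 3 n17397 = n18017 := rfl
theorem F70667 : act 0 n18017 = n17660 := d2_1 D18017 (iv D17660) (iv F68413)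
theorem F70668 : act 6 n18017 = n17796 := d23_2 (iv F68415) D18017 (iv D17796)
def n18018 : Q := act 4 n17400
theorem D18018 : act 4 n17400 = n18018 := rfl
theorem F70669 : act 0 n18018 = n17401 := d3_1 D18018 (iv D17401) D17400
theorem F70670 : act 1 n18018 = n17656 := d10_1 D18018 (iv F69307) (iv F69312)
theorem F70671 : act 2 n18018 = n18018 := d16_1 D18018 (iv D18018) F68428
theorem F70672 : act 6 n18018 = n17681 := d27_2 F69816 D18018 (iv F69814)
theorem F70673 : act 7 n18018 = n18018 := d28_2 F68430 D18018 (iv D18018)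
theorem F70674 : act 8 n18018 = n17403 := d29_2 (iv F68431) D18018 (iv D17403)
def n18019 : Q := act 3 n17401
theorem D18019 : act 3 n17401 = n18019 := rfl
theorem F70675 : act 1 n18019 = n17402 := d9_1 D18019 (iv D17402) (iv F68432)
theorem F70676 : act 6 n18019 = n17675 := d23_2 (iv F68434) D18019 F69383
theorem F70677 : act 8 n18019 = n17404 := d25_2 (iv F68436) D18019 (iv D17404)
def n18020 : Q := act 7 n17402
theorem D18020 : act 7 n17402 = n18020 := rfl
theorem F70678 : act 0 n18020 = n17547 := d6_1 D18020 F68979 (iv F68437)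
theorem F70679 : act 2 n18020 = n17542 := d19_1 D18020 F68957 (iv F68438)
theorem F70680 : act 3 n18020 = n18020 := d24_1 D18020 (iv D18020) (iv D17402) F66323 D17402
theorem F70681 : act 6 n18020 = n17671 := d33_1 D18020 F69369 (iv F68439)
theorem F70682 : act 8 n18020 = n17795 := d35_2 (iv F68440) D18020 (iv D17795) F67595 (iv F66331)
def n18021 : Q := act 3 n17403
theorem D18021 : act 3 n17403 = n18021 := rfl
theorem F70683 : act 0 n18021 = n17404 := d2_1 D18021 (iv D17404) (iv F68441)
theorem F70684 : act 7 n18021 = n17796 := d24_2 (iv F68443) D18021 (iv D17796) F67598 (iv F66334)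
def n18022 : Q := act 2 n17404
theorem D18022 : act 2 n17404 = n18022 := rfl
theorem F70685 : act 1 n18022 = n17731 := d8_1 D18022 (iv D17731) F67438 F66433 (iv F68444)
theorem F70686 : act 3 n18022 = n18022 := d15_2 D17404 D18022 (iv D18022) (iv D17404) F66329
theorem F70687 : act 5 n18022 = n17735 := d17_2 F69534 D18022 F69558
theorem F70688 : act 7 n18022 = n17740 := d19_2 (iv F68445) D18022 F69575
def n18023 : Q := act 7 n17405
theorem D18023 : act 7 n17405 = n18023 := rfl
theorem F70689 : act 0 n18023 = n17687 := d6_1 D18023 F69420 (iv F68446)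
theorem F70690 : act 1 n18023 = n17477 := d13_1 D18023 F68734 (iv F68447)
theorem F70691 : act 2 n18023 = n17617 := d19_1 D18023 F69195 (iv F68448)
theorem F70692 : act 3 n18023 = n18023 := d24_1 D18023 (iv D18023) (iv D17405) F66355 D17405
theorem F70693 : act 5 n18023 = n17728 := d31_1 D18023 (iv D17728) (iv F68449)
theorem F70694 : act 6 n18023 = n17695 := d33_1 D18023 F69441 (iv F68450)
def n18024 : Q := act 6 n17406
theorem D18024 : act 6 n17406 = n18024 := rfl
theorem F70695 : act 0 n18024 = n17519 := d5_1 D18024 (iv D17519) (iv F68452)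
theorem F70696 : act 2 n18024 = n17438 := d18_1 D18024 (iv D17438) (iv F68453)
theorem F70697 : act 3 n18024 = n17956 := d23_1 D18024 (iv D17956) (iv F68454)
theorem F70698 : act 4 n18024 = n17678 := d27_1 D18024 (iv D17678) (iv F68455)
theorem F70699 : act 5 n18024 = n17535 := d30_1 D18024 (iv D17535) (iv D16934) (iv F66366) D17406
theorem F70700 : act 7 n18024 = n17407 := d33_2 (iv F68456) D18024 (iv D17407)
theorem F70701 : act 8 n18024 = n17810 := d34_2 (iv F68457) D18024 (iv D17810)
def n18025 : Q := act 5 n17408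
theorem D18025 : act 5 n17408 = n18025 := rfl
theorem F70702 : act 0 n18025 = n17787 := d4_1 D18025 (iv D17787) (iv F68464)
theorem F70703 : act 1 n18025 = n17469 := d11_1 D18025 (iv D17469) (iv F68465)
theorem F70704 : act 2 n18025 = n17409 := d17_1 D18025 (iv D17409) (iv F68466)
theorem F70705 : act 3 n18025 = n17718 := d22_1 D18025 (iv D17718) (iv F68467)
theorem F70706 : act 7 n18025 = n17846 := d31_2 (iv F68469) D18025 (iv D17846)
theorem F70707 : act 8 n18025 = n17529 := d32_2 (iv F68470) D18025 (iv D17529)
def n18026 : Q := act 6 n17409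
theorem D18026 : act 6 n17409 = n18026 := rfl
theorem F70708 : act 1 n18026 = n17410 := d12_1 D18026 (iv D17410) (iv F68471)
theorem F70709 : act 3 n18026 = n17520 := d23_1 D18026 (iv D17520) (iv F68472)
theorem F70710 : act 5 n18026 = n17414 := d30_1 D18026 (iv D17414) (iv D16817) (iv F66382) D17409
theorem F70711 : act 7 n18026 = n17847 := d33_2 (iv F68473) D18026 (iv D17847)
theorem F70712 : act 8 n18026 = n17530 := d34_2 (iv F68474) D18026 (iv D17530)
def n18027 : Q := act 5 n17411
theorem D18027 : act 5 n17411 = n18027 := rfl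
theorem F70713 : act 0 n18027 = n17413 := d4_1 D18027 (iv D17413) (iv F68481)
theorem F70714 : act 2 n18027 = n17412 := d17_1 D18027 (iv D17412) (iv F68482)
theorem F70715 : act 3 n18027 = n17784 := d22_1 D18027 (iv D17784) (iv F68483)
theorem F70716 : act 4 n18027 = n17469 := d26_1 D18027 (iv D17469) (iv D16866) (iv F66392) D17411
theorem F70717 : act 7 n18027 = n17852 := d31_2 (iv F68485) D18027 (iv D17852)
def n18028 : Q := act 6 n17412
theorem D18028 : act 6 n17412 = n18028 := rfl
theorem F70718 : act 0 n18028 = n17414 := d5_1 D18028 (iv D17414) (iv F68486)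
theorem F70719 : act 1 n18028 = n17463 := d12_1 D18028 (iv D17463) (iv F68487)
theorem F70720 : act 4 n18028 = n17470 := d27_1 D18028 (iv D17470) (iv F68488)
theorem F70721 : act 7 n18028 = n17853 := d33_2 (iv F68489) D18028 (iv D17853)
def n18029 : Q := act 6 n17413
theorem D18029 : act 6 n17413 = n18029 := rfl
theorem F70722 : act 1 n18029 = n17497 := d12_1 D18029 (iv D17497) (iv F68490)
theorem F70723 : act 2 n18029 = n17414 := d18_1 D18029 (iv D17414) (iv F68491)
theorem F70724 : act 4 n18029 = n17704 := d27_1 D18029 (iv D17704) (iv F68492)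
theorem F70725 : act 7 n18029 = n17860 := d33_2 (iv F68493) D18029 (iv D17860)
def n18030 : Q := act 6 n17415
theorem D18030 : act 6 n17415 = n18030 := rfl
theorem F70726 : act 0 n18030 = n17535 := d5_1 D18030 (iv D17535) (iv F68497)
theorem F70727 : act 2 n18030 = n17540 := d18_1 D18030 (iv D17540) (iv F68498)
theorem F70728 : act 3 n18030 = n17869 := d23_1 D18030 (iv D17869) (iv F68499)
theorem F70729 : act 5 n18030 = n17519 := d30_1 D18030 (iv D17519) (iv D16917) (iv F66407) D17415
theorem F70730 : act 7 n18030 = n17416 := d33_2 (iv F68500) D18030 (iv D17416)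
theorem F70731 : act 8 n18030 = n17879 := d34_2 (iv F68501) D18030 (iv D17879)
def n18031 : Q := act 5 n17418
theorem D18031 : act 5 n17418 = n18031 := rfl
theorem F70732 : act 0 n18031 = n17516 := d4_1 D18031 (iv D17516) (iv F68513)
theorem F70733 : act 2 n18031 = n17533 := d17_1 D18031 (iv D17533) (iv F68514)
theorem F70734 : act 4 n18031 = n17422 := d26_1 D18031 (iv D17422) (iv D16825) (iv F66425) D17418
theorem F70735 : act 7 n18031 = n17442 := d31_2 (iv F68515) D18031 (iv D17442)
theorem F70736 : act 8 n18031 = n17881 := d32_2 (iv F68516) D18031 (iv D17881)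
def n18032 : Q := act 4 n17419
theorem D18032 : act 4 n17419 = n18032 := rfl
theorem F70737 : act 0 n18032 = n17669 := d3_1 D18032 (iv D17669) (iv F68517)
theorem F70738 : act 1 n18032 = n17525 := d10_1 D18032 (iv D17525) (iv F68518)
theorem F70739 : act 2 n18032 = n17420 := d16_1 D18032 (iv D17420) D17419
theorem F70740 : act 6 n18032 = n17429 := d27_2 (iv F68520) D18032 (iv D17429)
theorem F70741 : act 7 n18032 = n17443 := d28_2 (iv F68521) D18032 (iv D17443)
def n18033 : Q := act 5 n17420
theorem D18033 : act 5 n17420 = n18033 := rfl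
theorem F70742 : act 0 n18033 = n17670 := d4_1 D18033 (iv D17670) (iv F68522)
theorem F70743 : act 1 n18033 = n17422 := d11_1 D18033 (iv D17422) (iv F68523)
theorem F70744 : act 7 n18033 = n17444 := d31_2 (iv F68525) D18033 (iv D17444)
def n18034 : Q := act 5 n17421
theorem D18034 : act 5 n17421 = n18034 := rfl
theorem F70745 : act 0 n18034 = n17539 := d4_1 D18034 (iv D17539) (iv F68526)
theorem F70746 : act 2 n18034 = n18010 := d17_1 D18034 (iv D18010) (iv F68527)
theorem F70747 : act 3 n18034 = n17422 := d22_1 D18034 (iv D17422) (iv F68528)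
theorem F70748 : act 7 n18034 = n17651 := d31_2 (iv F68530) D18034 (iv D17651)
def n18035 : Q := act 6 n17422
theorem D18035 : act 6 n17422 = n18035 := rfl
theorem F70749 : act 0 n18035 = n17540 := d5_1 D18035 (iv D17540) (iv F68531)
theorem F70750 : act 2 n18035 = n17535 := d18_1 D18035 (iv D17535) (iv F68532)
theorem F70751 : act 5 n18035 = n17438 := d30_1 D18035 (iv D17438) (iv D16837) (iv F66438) D17422
theorem F70752 : act 7 n18035 = n17445 := d33_2 (iv F68533) D18035 (iv D17445)
def n18036 : Q := act 2 n17423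
theorem D18036 : act 2 n17423 = n18036 := rfl
theorem F70753 : act 0 n18036 = n17427 := d1_1 D18036 (iv D17427) (iv F68534)
theorem F70754 : act 3 n18036 = n18036 := d15_2 D17423 D18036 (iv D18036) (iv D17423) F66442
theorem F70755 : act 5 n18036 = n17733 := d17_2 (iv F68536) D18036 (iv D17733)
theorem F70756 : act 6 n18036 = n17667 := d18_2 (iv F68537) D18036 (iv D17667)
theorem F70757 : act 8 n18036 = n17731 := d20_2 (iv F68538) D18036 (iv D17731)
def n18037 : Q := act 4 n17423
theorem D18037 : act 4 n17423 = n18037 := rfl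
theorem F70758 : act 0 n18037 = n17428 := d3_1 D18037 (iv D17428) (iv F68534)
theorem F70759 : act 1 n18037 = n17543 := d10_1 D18037 (iv D17543) (iv F68535)
theorem F70760 : act 3 n18037 = n17425 := d21_1 D18037 (iv D17425) (iv D16827) (iv F66443) D17423
theorem F70761 : act 6 n18037 = n17668 := d27_2 (iv F68537) D18037 (iv D17668)
theorem F70762 : act 8 n18037 = n17732 := d29_2 (iv F68538) D18037 (iv D17732)
def n18038 : Q := act 4 n17424
theorem D18038 : act 4 n17424 = n18038 := rfl
theorem F70763 : act 0 n18038 = n17429 := d3_1 D18038 (iv D17429) (iv F68539)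
theorem F70764 : act 2 n18038 = n17425 := d16_1 D18038 (iv D17425) D17424
theorem F70765 : act 6 n18038 = n17669 := d27_2 (iv F68541) D18038 (iv D17669)
theorem F70766 : act 7 n18038 = n17446 := d28_2 (iv F68542) D18038 (iv D17446)
theorem F70767 : act 8 n18038 = n18032 := d29_2 (iv F68543) D18038 (iv D18032)
def n18039 : Q := act 5 n17425
theorem D18039 : act 5 n17425 = n18039 := rfl
theorem F70768 : act 0 n18039 = n17430 := d4_1 D18039 (iv D17430) (iv F68544)
theorem F70769 : act 1 n18039 = n17544 := d11_1 D18039 (iv D17544) (iv F68545)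
theorem F70770 : act 7 n18039 = n17447 := d31_2 (iv F68547) D18039 (iv D17447)
theorem F70771 : act 8 n18039 = n18033 := d32_2 (iv F68548) D18039 (iv D18033)
def n18040 : Q := act 2 n17426
theorem D18040 : act 2 n17426 = n18040 := rfl
theorem F70772 : act 0 n18040 = n17733 := d1_1 D18040 (iv D17733) (iv F68549)
theorem F70773 : act 3 n18040 = n18040 := d15_2 D17426 D18040 (iv D18040) (iv D17426) F66454
theorem F70774 : act 5 n18040 = n17427 := d17_2 (iv F68551) D18040 (iv D17427)
theorem F70775 : act 6 n18040 = n17795 := d18_2 F68968 D18040 F69727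
theorem F70776 : act 7 n18040 = n17659 := d19_2 F68564 D18040 F69318
theorem F70777 : act 8 n18040 = n17671 := d20_2 (iv F68552) D18040 (iv D17671)
def n18041 : Q := act 4 n17426
theorem D18041 : act 4 n17426 = n18041 := rfl
theorem F70778 : act 0 n18041 = n17734 := d3_1 D18041 (iv D17734) (iv F68549)
theorem F70779 : act 1 n18041 = n17434 := d10_1 D18041 (iv D17434) (iv F68550)
theorem F70780 : act 3 n18041 = n17686 := d21_1 D18041 (iv D17686) (iv D17088) (iv F66455) D17426
theorem F70781 : act 8 n18041 = n17672 := d29_2 (iv F68552) D18041 (iv D17672)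
def n18042 : Q := act 1 n17427
theorem D18042 : act 1 n17427 = n18042 := rfl
theorem F70782 : act 2 n18042 = n17435 := d8_2 D17427 D18042 (iv D17435) (iv D16835) (iv F66458)
theorem F70783 : act 3 n18042 = n18042 := d9_2 F68553 D18042 (iv D18042)
theorem F70784 : act 6 n18042 = n18022 := d12_2 F69545 D18042 F70685
theorem F70785 : act 7 n18042 = n17748 := d13_2 F69568 D18042 F69599
def n18043 : Q := act 4 n17427
theorem D18043 : act 4 n17427 = n18043 := rfl
theorem F70786 : act 2 n18043 = n17428 := d16_1 D18043 (iv D17428) D17427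
def n18044 : Q := act 5 n17428
theorem D18044 : act 5 n17428 = n18044 := rfl
theorem F70787 : act 1 n18044 = n17437 := d11_1 D18044 (iv D17437) (iv F68554)
theorem F70788 : act 3 n18044 = n17430 := d22_1 D18044 (iv D17430) (iv F68555)
def n18045 : Q := act 3 n17429
theorem D18045 : act 3 n17429 = n18045 := rfl
theorem F70789 : act 4 n18045 = n18045 := d21_2 D17429 D18045 (iv D18045) (iv D17429) F66459
def n18046 : Q := act 5 n17429
theorem D18046 : act 5 n17429 = n18046 := rfl
theorem F70790 : act 2 n18046 = n17430 := d17_1 D18046 (iv D17430) (iv F68556)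
theorem F70791 : act 7 n18046 = n17450 := d31_2 (iv F68557) D18046 (iv D17450)
def n18047 : Q := act 6 n17430
theorem D18047 : act 6 n17430 = n18047 := rfl
theorem F70792 : act 1 n18047 = n17438 := d12_1 D18047 (iv D17438) (iv F68558)
theorem F70793 : act 7 n18047 = n17451 := d33_2 (iv F68559) D18047 (iv D17451)
def n18048 : Q := act 4 n17431
theorem D18048 : act 4 n17431 = n18048 := rfl
theorem F70794 : act 0 n18048 = n17559 := d3_1 D18048 (iv D17559) (iv F68560)
theorem F70795 : act 1 n18048 = n17564 := d10_1 D18048 (iv D17564) (iv F68561)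
theorem F70796 : act 3 n18048 = n17455 := d21_1 D18048 (iv D17455) (iv D16854) (iv F66466) D17431
theorem F70797 : act 6 n18048 = n17549 := d27_2 (iv F68563) D18048 (iv D17549)
theorem F70798 : act 7 n18048 = n18041 := d28_2 (iv F68564) D18048 (iv D18041)
theorem F70799 : act 8 n18048 = n17432 := d29_2 (iv F68565) D18048 (iv D17432)
def n18049 : Q := act 5 n17432
theorem D18049 : act 5 n17432 = n18049 := rfl
theorem F70800 : act 0 n18049 = n17562 := d4_1 D18049 (iv D17562) (iv F68566)
theorem F70801 : act 3 n18049 = n17456 := d22_1 D18049 (iv D17456) (iv F68567)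
theorem F70802 : act 7 n18049 = n17437 := d31_2 (iv F68569) D18049 (iv D17437)
def n18050 : Q := act 1 n17433
theorem D18050 : act 1 n17433 = n18050 := rfl
theorem F70803 : act 3 n18050 = n17439 := d9_2 (iv F68571) D18050 (iv D17439)
theorem F70804 : act 5 n18050 = n17435 := d11_2 (iv F68572) D18050 (iv D17435)
theorem F70805 : act 7 n18050 = n17573 := d13_2 F69032 D18050 F69049
def n18051 : Q := act 4 n17433
theorem D18051 : act 4 n17433 = n18051 := rfl
theorem F70806 : act 0 n18051 = n17566 := d3_1 D18051 (iv D17566) (iv F68570)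
theorem F70807 : act 2 n18051 = n17434 := d16_1 D18051 (iv D17434) D17433
def n18052 : Q := act 5 n17434
theorem D18052 : act 5 n17434 = n18052 := rfl
theorem F70808 : act 0 n18052 = n17567 := d4_1 D18052 (iv D17567) (iv F68573)
theorem F70809 : act 4 n18052 = n17437 := d26_1 D18052 (iv D17437) (iv D16836) (iv F66474) D17434
def n18053 : Q := act 0 n17435
theorem D18053 : act 0 n17435 = n18053 := rfl
theorem F70810 : act 1 n18053 = n17568 := d0_2 D17435 D18053 (iv D17568) (iv D16960) (iv F66475)
theorem F70811 : act 3 n18053 = n17441 := d2_2 (iv F68574) D18053 (iv D17441)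
theorem F70812 : act 6 n18053 = n18021 := d5_2 (iv F68575) D18053 F70683
theorem F70813 : act 7 n18053 = n18017 := d6_2 F69324 D18053 F70667
def n18054 : Q := act 4 n17435
theorem D18054 : act 4 n17435 = n18054 := rfl
theorem F70814 : act 1 n18054 = n17436 := d10_1 D18054 (iv D17436) D17435
theorem F70815 : act 3 n18054 = n17954 := d21_1 D18054 (iv D17954) F68238 (iv F66490) (iv F68574)
theorem F70816 : act 6 n18054 = n18008 := d27_2 (iv F68575) D18054 F70646
def n18055 : Q := act 5 n17436
theorem D18055 : act 5 n17436 = n18055 := rfl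
theorem F70817 : act 0 n18055 = n17570 := d4_1 D18055 (iv D17570) (iv F68576)
theorem F70818 : act 2 n18055 = n17437 := d17_1 D18055 (iv D17437) (iv F68577)
theorem F70819 : act 3 n18055 = n17955 := d22_1 D18055 (iv D17955) (iv F68578)
def n18056 : Q := act 6 n17437
theorem D18056 : act 6 n17437 = n18056 := rfl
theorem F70820 : act 0 n18056 = n17571 := d5_1 D18056 (iv D17571) (iv F68580)
theorem F70821 : act 3 n18056 = n17438 := d23_1 D18056 (iv D17438) (iv F68581)
def n18057 : Q := act 0 n17439
theorem D18057 : act 0 n17439 = n18057 := rfl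
theorem F70822 : act 1 n18057 = n17572 := d0_2 D17439 D18057 (iv D17572) (iv D16965) (iv F66482)
theorem F70823 : act 2 n18057 = n18057 := d1_2 F68584 D18057 (iv D18057)
theorem F70824 : act 5 n18057 = n17441 := d4_2 (iv F68585) D18057 (iv D17441)
theorem F70825 : act 7 n18057 = n17661 := d6_2 (iv F68586) D18057 (iv D17661)
theorem F70826 : act 4 n17664 = n18057 := d28_3 F70825 (iv F69330) (iv F69346)
def n18058 : Q := act 4 n17439
theorem D18058 : act 4 n17439 = n18058 := rfl
theorem F70827 : act 0 n18058 = n17664 := d3_1 D18058 F70826 (iv D18057)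
theorem F70828 : act 1 n18058 = n17440 := d10_1 D18058 (iv D17440) D17439
theorem F70829 : act 2 n18058 = n18058 := d16_1 D18058 (iv D18058) F68584
theorem F70830 : act 5 n18058 = n17666 := d26_2 (iv F68585) D18058 F69353 F68410 (iv F66490)
theorem F70831 : act 6 n18058 = n18057 := d27_2 F69345 D18058 (iv F70826)
theorem F70832 : act 7 n18058 = n17662 := d28_2 (iv F68586) D18058 (iv D17662)
def n18059 : Q := act 3 n17440
theorem D18059 : act 3 n17440 = n18059 := rfl
theorem F70833 : act 0 n18059 = n17573 := d2_1 D18059 (iv D17573) (iv F68587)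
theorem F70834 : act 5 n18059 = n18017 := d22_2 (iv F68589) D18059 (iv D18017)
def n18060 : Q := act 6 n17442
theorem D18060 : act 6 n17442 = n18060 := rfl
theorem F70835 : act 0 n18060 = n17520 := d5_1 D18060 (iv D17520) (iv F68596)
theorem F70836 : act 2 n18060 = n17536 := d18_1 D18060 (iv D17536) (iv F68597)
theorem F70837 : act 4 n18060 = n17445 := d27_1 D18060 (iv D17445) (iv F68598)
theorem F70838 : act 8 n18060 = n17463 := d34_2 (iv F68599) D18060 (iv D17463)
def n18061 : Q := act 5 n17443
theorem D18061 : act 5 n17443 = n18061 := rfl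
theorem F70839 : act 0 n18061 = n17683 := d4_1 D18061 (iv D17683) (iv F68600)
theorem F70840 : act 1 n18061 = n17529 := d11_1 D18061 (iv D17529) (iv F68601)
theorem F70841 : act 2 n18061 = n17444 := d17_1 D18061 (iv D17444) (iv F68602)
theorem F70842 : act 8 n18061 = n17469 := d32_2 (iv F68604) D18061 (iv D17469)
def n18062 : Q := act 6 n17444
theorem D18062 : act 6 n17444 = n18062 := rfl
theorem F70843 : act 0 n18062 = n17684 := d5_1 D18062 (iv D17684) (iv F68605)
theorem F70844 : act 1 n18062 = n17445 := d12_1 D18062 (iv D17445) (iv F68606)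
theorem F70845 : act 3 n18062 = n17655 := d23_1 D18062 (iv D17655) (iv F68607)
theorem F70846 : act 5 n18062 = n17451 := d30_1 D18062 (iv D17451) (iv D16850) (iv F66504) D17444
theorem F70847 : act 8 n18062 = n17470 := d34_2 (iv F68608) D18062 (iv D17470)
def n18063 : Q := act 5 n17446
theorem D18063 : act 5 n17446 = n18063 := rfl
theorem F70848 : act 0 n18063 = n17450 := d4_1 D18063 (iv D17450) (iv F68614)
theorem F70849 : act 2 n18063 = n17447 := d17_1 D18063 (iv D17447) (iv F68615)
theorem F70850 : act 8 n18063 = n17481 := d32_2 (iv F68617) D18063 (iv D17481)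
def n18064 : Q := act 6 n17447
theorem D18064 : act 6 n17447 = n18064 := rfl
theorem F70851 : act 0 n18064 = n17451 := d5_1 D18064 (iv D17451) (iv F68618)
theorem F70852 : act 1 n18064 = n17580 := d12_1 D18064 (iv D17580) (iv F68619)
theorem F70853 : act 5 n18064 = n17684 := d30_1 D18064 (iv D17684) (iv D17087) (iv F66516) D17447
theorem F70854 : act 8 n18064 = n17482 := d34_2 (iv F68620) D18064 (iv D17482)
def n18065 : Q := act 5 n17448
theorem D18065 : act 5 n17448 = n18065 := rfl
theorem F70855 : act 1 n18065 = n17456 := d11_1 D18065 (iv D17456) (iv F68621)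
theorem F70856 : act 2 n18065 = n17781 := d17_1 D18065 (iv D17781) (iv F68622)
theorem F70857 : act 7 n18065 = n17449 := d31_2 (iv F68624) D18065 (iv D17449)
def n18066 : Q := act 6 n17449
theorem D18066 : act 6 n17449 = n18066 := rfl
theorem F70858 : act 1 n18066 = n17458 := d12_1 D18066 (iv D17458) (iv F68625)
theorem F70859 : act 2 n18066 = n17791 := d18_1 D18066 (iv D17791) (iv F68626)
theorem F70860 : act 3 n18066 = n17451 := d23_1 D18066 (iv D17451) (iv F68627)
theorem F70861 : act 5 n18066 = n17655 := d30_1 D18066 (iv D17655) (iv D17046) (iv F66525) D17449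
theorem F70862 : act 8 n18066 = n17494 := d34_2 (iv F68628) D18066 (iv D17494)
def n18067 : Q := act 6 n17450
theorem D18067 : act 6 n17450 = n18067 := rfl
theorem F70863 : act 2 n18067 = n17451 := d18_1 D18067 (iv D17451) (iv F68629)
theorem F70864 : act 8 n18067 = n17497 := d34_2 (iv F68630) D18067 (iv D17497)
def n18068 : Q := act 4 n17452
theorem D18068 : act 4 n17452 = n18068 := rfl
theorem F70865 : act 0 n18068 = n17594 := d3_1 D18068 (iv D17594) (iv F68633)
theorem F70866 : act 3 n18068 = n17454 := d21_1 D18068 (iv D17454) (iv D16853) (iv F66533) D17452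
theorem F70867 : act 6 n18068 = n17862 := d27_2 (iv F68635) D18068 (iv D17862)
theorem F70868 : act 8 n18068 = n17861 := d29_2 (iv F68636) D18068 (iv D17861)
def n18069 : Q := act 4 n17453
theorem D18069 : act 4 n17453 = n18069 := rfl
theorem F70869 : act 0 n18069 = n17596 := d3_1 D18069 (iv D17596) (iv F68637)
theorem F70870 : act 1 n18069 = n18068 := d10_1 D18069 (iv D18068) (iv F68638)
theorem F70871 : act 2 n18069 = n17605 := d16_1 D18069 (iv D17605) (iv F68639)
theorem F70872 : act 3 n18069 = n17861 := d21_1 D18069 (iv D17861) (iv D17250) (iv F66540) D17453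
theorem F70873 : act 6 n18069 = n17763 := d27_2 (iv F68641) D18069 (iv D17763)
theorem F70874 : act 7 n18069 = n17500 := d28_2 (iv F68642) D18069 (iv D17500)
theorem F70875 : act 8 n18069 = n17454 := d29_2 (iv F68643) D18069 (iv D17454)
def n18070 : Q := act 5 n17454
theorem D18070 : act 5 n17454 = n18070 := rfl
theorem F70876 : act 0 n18070 = n17597 := d4_1 D18070 (iv D17597) (iv F68644)
theorem F70877 : act 2 n18070 = n17606 := d17_1 D18070 (iv D17606) (iv F68645)
theorem F70878 : act 4 n18070 = n17456 := d26_1 D18070 (iv D17456) (iv D16855) (iv F66546) D17454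
theorem F70879 : act 7 n18070 = n17457 := d31_2 (iv F68646) D18070 (iv D17457)
def n18071 : Q := act 5 n17455
theorem D18071 : act 5 n17455 = n18071 := rfl
theorem F70880 : act 0 n18071 = n17598 := d4_1 D18071 (iv D17598) (iv F68647)
theorem F70881 : act 2 n18071 = n17607 := d17_1 D18071 (iv D17607) (iv F68648)
theorem F70882 : act 7 n18071 = n17504 := d31_2 (iv F68650) D18071 (iv D17504)
theorem F70883 : act 8 n18071 = n17456 := d32_2 (iv F68651) D18071 (iv D17456)
def n18072 : Q := act 6 n17456
theorem D18072 : act 6 n17456 = n18072 := rfl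
theorem F70884 : act 0 n18072 = n17599 := d5_1 D18072 (iv D17599) (iv F68652)
theorem F70885 : act 2 n18072 = n17608 := d18_1 D18072 (iv D17608) (iv F68653)
theorem F70886 : act 5 n18072 = n17652 := d30_1 D18072 (iv D17652) (iv D17041) (iv F66555) D17456
theorem F70887 : act 7 n18072 = n17458 := d33_2 (iv F68654) D18072 (iv D17458)
def n18073 : Q := act 6 n17457
theorem D18073 : act 6 n17457 = n18073 := rfl
theorem F70888 : act 0 n18073 = n17601 := d5_1 D18073 (iv D17601) (iv F68655)
theorem F70889 : act 2 n18073 = n17610 := d18_1 D18073 (iv D17610) (iv F68656)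
theorem F70890 : act 4 n18073 = n17458 := d27_1 D18073 (iv D17458) (iv F68657)
theorem F70891 : act 8 n18073 = n17510 := d34_2 (iv F68658) D18073 (iv D17510)
def n18074 : Q := act 4 n17459
theorem D18074 : act 4 n17459 = n18074 := rfl
theorem F70892 : act 0 n18074 = n17525 := d3_1 D18074 (iv D17525) (iv F68664)
theorem F70893 : act 2 n18074 = n17460 := d16_1 D18074 (iv D17460) D17459
theorem F70894 : act 7 n18074 = n17461 := d28_2 (iv F68666) D18074 (iv D17461)
def n18075 : Q := act 5 n17460
theorem D18075 : act 5 n17460 = n18075 := rfl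
theorem F70895 : act 0 n18075 = n17526 := d4_1 D18075 (iv D17526) (iv F68667)
theorem F70896 : act 3 n18075 = n17968 := d22_1 D18075 (iv D17968) (iv F68668)
theorem F70897 : act 7 n18075 = n17462 := d31_2 (iv F68669) D18075 (iv D17462)
def n18076 : Q := act 5 n17461
theorem D18076 : act 5 n17461 = n18076 := rfl
theorem F70898 : act 0 n18076 = n17529 := d4_1 D18076 (iv D17529) (iv F68670)
theorem F70899 : act 2 n18076 = n17462 := d17_1 D18076 (iv D17462) (iv F68671)
theorem F70900 : act 3 n18076 = n17760 := d22_1 D18076 (iv D17760) (iv F68672)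
theorem F70901 : act 8 n18076 = n17787 := d32_2 (iv F68673) D18076 (iv D17787)
def n18077 : Q := act 6 n17462
theorem D18077 : act 6 n17462 = n18077 := rfl
theorem F70902 : act 0 n18077 = n17530 := d5_1 D18077 (iv D17530) (iv F68674)
theorem F70903 : act 3 n18077 = n17463 := d23_1 D18077 (iv D17463) (iv F68675)
def n18078 : Q := act 4 n17464
theorem D18078 : act 4 n17464 = n18078 := rfl
theorem F70904 : act 0 n18078 = n17696 := d3_1 D18078 (iv D17696) (iv F68679)
theorem F70905 : act 1 n18078 = n17587 := d10_1 D18078 (iv D17587) (iv F68680)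
theorem F70906 : act 2 n18078 = n17465 := d16_1 D18078 (iv D17465) D17464
theorem F70907 : act 6 n18078 = n17489 := d27_2 (iv F68682) D18078 (iv D17489)
theorem F70908 : act 7 n18078 = n17466 := d28_2 (iv F68683) D18078 (iv D17466)
def n18079 : Q := act 5 n17465
theorem D18079 : act 5 n17465 = n18079 := rfl
theorem F70909 : act 0 n18079 = n17697 := d4_1 D18079 (iv D17697) (iv F68684)
theorem F70910 : act 1 n18079 = n17473 := d11_1 D18079 (iv D17473) (iv F68685)
theorem F70911 : act 7 n18079 = n17467 := d31_2 (iv F68687) D18079 (iv D17467)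
def n18080 : Q := act 5 n17466
theorem D18080 : act 5 n17466 = n18080 := rfl
theorem F70912 : act 0 n18080 = n17700 := d4_1 D18080 (iv D17700) (iv F68688)
theorem F70913 : act 1 n18080 = n17591 := d11_1 D18080 (iv D17591) (iv F68689)
theorem F70914 : act 2 n18080 = n17467 := d17_1 D18080 (iv D17467) (iv F68690)
theorem F70915 : act 8 n18080 = n17640 := d32_2 (iv F68692) D18080 (iv D17640)
def n18081 : Q := act 6 n17467
theorem D18081 : act 6 n17467 = n18081 := rfl
theorem F70916 : act 0 n18081 = n17701 := d5_1 D18081 (iv D17701) (iv F68693)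
theorem F70917 : act 1 n18081 = n17475 := d12_1 D18081 (iv D17475) (iv F68694)
theorem F70918 : act 3 n18081 = n17470 := d23_1 D18081 (iv D17470) (iv F68695)
theorem F70919 : act 5 n18081 = n17494 := d30_1 D18081 (iv D17494) (iv D16889) (iv F66588) D17467
theorem F70920 : act 8 n18081 = n17655 := d34_2 (iv F68696) D18081 (iv D17655)
def n18082 : Q := act 5 n17468
theorem D18082 : act 5 n17468 = n18082 := rfl
theorem F70921 : act 0 n18082 = n17702 := d4_1 D18082 (iv D17702) (iv F68697)
theorem F70922 : act 1 n18082 = n17718 := d11_1 D18082 (iv D17718) (iv F68698)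
theorem F70923 : act 3 n18082 = n17469 := d22_1 D18082 (iv D17469) D17468
theorem F70924 : act 4 n18082 = n17721 := d26_1 D18082 (iv D17721) (iv D17116) (iv F66745) (iv F68699)
def n18083 : Q := act 7 n17468
theorem D18083 : act 7 n17468 = n18083 := rfl
theorem F70925 : act 0 n18083 = n17703 := d6_1 D18083 (iv D17703) (iv F68697)
theorem F70926 : act 1 n18083 = n17708 := d13_1 D18083 F69472 (iv F68698)
theorem F70927 : act 3 n18083 = n17999 := d24_1 D18083 F70624 F68396 F66639 D17468
theorem F70928 : act 4 n18083 = n17513 := d28_1 D18083 (iv D17513) (iv F68699)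
theorem F70929 : act 6 n18083 = n17496 := d33_1 D18083 (iv D17496) (iv F68700)
def n18084 : Q := act 6 n17469
theorem D18084 : act 6 n17469 = n18084 := rfl
theorem F70930 : act 0 n18084 = n17704 := d5_1 D18084 (iv D17704) (iv F68701)
theorem F70931 : act 2 n18084 = n17470 := d18_1 D18084 (iv D17470) (iv F68702)
theorem F70932 : act 5 n18084 = n17497 := d30_1 D18084 (iv D17497) (iv D16891) (iv F66592) D17469
def n18085 : Q := act 5 n17471
theorem D18085 : act 5 n17471 = n18085 := rfl
theorem F70933 : act 0 n18085 = n17606 := d4_1 D18085 (iv D17606) (iv F68706)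
theorem F70934 : act 2 n18085 = n17597 := d17_1 D18085 (iv D17597) (iv F68707)
theorem F70935 : act 4 n18085 = n17473 := d26_1 D18085 (iv D17473) (iv D16870) (iv F66597) D17471
theorem F70936 : act 7 n18085 = n17474 := d31_2 (iv F68708) D18085 (iv D17474)
def n18086 : Q := act 5 n17472
theorem D18086 : act 5 n17472 = n18086 := rfl
theorem F70937 : act 0 n18086 = n17607 := d4_1 D18086 (iv D17607) (iv F68709)
theorem F70938 : act 2 n18086 = n17598 := d17_1 D18086 (iv D17598) (iv F68710)
theorem F70939 : act 7 n18086 = n17648 := d31_2 (iv F68712) D18086 (iv D17648)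
theorem F70940 : act 8 n18086 = n17473 := d32_2 (iv F68713) D18086 (iv D17473)
def n18087 : Q := act 6 n17473
theorem D18087 : act 6 n17473 = n18087 := rfl
theorem F70941 : act 0 n18087 = n17608 := d5_1 D18087 (iv D17608) (iv F68714)
theorem F70942 : act 2 n18087 = n17599 := d18_1 D18087 (iv D17599) (iv F68715)
theorem F70943 : act 5 n18087 = n17507 := d30_1 D18087 (iv D17507) (iv D16901) (iv F66606) D17473
theorem F70944 : act 7 n18087 = n17475 := d33_2 (iv F68716) D18087 (iv D17475)
def n18088 : Q := act 6 n17474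
theorem D18088 : act 6 n17474 = n18088 := rfl
theorem F70945 : act 0 n18088 = n17610 := d5_1 D18088 (iv D17610) (iv F68717)
theorem F70946 : act 2 n18088 = n17601 := d18_1 D18088 (iv D17601) (iv F68718)
theorem F70947 : act 4 n18088 = n17475 := d27_1 D18088 (iv D17475) (iv F68719)
theorem F70948 : act 8 n18088 = n17654 := d34_2 (iv F68720) D18088 (iv D17654)
def n18089 : Q := act 2 n17476
theorem D18089 : act 2 n17476 = n18089 := rfl
theorem F70949 : act 0 n18089 = n17487 := d1_1 D18089 (iv D17487) (iv F68726)
theorem F70950 : act 3 n18089 = n18089 := d15_2 D17476 D18089 (iv D18089) (iv D17476) F66619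
theorem F70951 : act 5 n18089 = n17915 := d17_2 (iv F68728) D18089 (iv D17915)
theorem F70952 : act 6 n18089 = n17693 := d18_2 (iv F68729) D18089 (iv D17693)
theorem F70953 : act 7 n18089 = n17774 := d19_2 F69004 D18089 F69673
theorem F70954 : act 8 n18089 = n17477 := d20_2 (iv F68730) D18089 (iv D17477)
def n18090 : Q := act 4 n17476
theorem D18090 : act 4 n17476 = n18090 := rfl
theorem F70955 : act 0 n18090 = n17488 := d3_1 D18090 (iv D17488) (iv F68726)
theorem F70956 : act 1 n18090 = n17616 := d10_1 D18090 (iv D17616) (iv F68727)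
theorem F70957 : act 3 n18090 = n17886 := d21_1 D18090 (iv D17886) (iv D17276) (iv F66620) D17476
theorem F70958 : act 6 n18090 = n17694 := d27_2 (iv F68729) D18090 (iv D17694)
theorem F70959 : act 8 n18090 = n17478 := d29_2 (iv F68730) D18090 (iv D17478)
def n18091 : Q := act 4 n17477
theorem D18091 : act 4 n17477 = n18091 := rfl
theorem F70960 : act 0 n18091 = n17489 := d3_1 D18091 (iv D17489) (iv F68731)
theorem F70961 : act 2 n18091 = n17478 := d16_1 D18091 (iv D17478) D17477
theorem F70962 : act 6 n18091 = n17696 := d27_2 (iv F68733) D18091 (iv D17696)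
theorem F70963 : act 7 n18091 = n17479 := d28_2 (iv F68734) D18091 (iv D17479)
def n18092 : Q := act 5 n17478
theorem D18092 : act 5 n17478 = n18092 := rfl
theorem F70964 : act 0 n18092 = n17490 := d4_1 D18092 (iv D17490) (iv F68735)
theorem F70965 : act 1 n18092 = n17619 := d11_1 D18092 (iv D17619) (iv F68736)
theorem F70966 : act 3 n18092 = n18079 := d22_1 D18092 (iv D18079) (iv F68737)
theorem F70967 : act 7 n18092 = n17480 := d31_2 (iv F68739) D18092 (iv D17480)
def n18093 : Q := act 5 n17479
theorem D18093 : act 5 n17479 = n18093 := rfl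
theorem F70968 : act 0 n18093 = n17493 := d4_1 D18093 (iv D17493) (iv F68740)
theorem F70969 : act 2 n18093 = n17480 := d17_1 D18093 (iv D17480) (iv F68741)
theorem F70970 : act 8 n18093 = n17790 := d32_2 (iv F68743) D18093 (iv D17790)
def n18094 : Q := act 6 n17480
theorem D18094 : act 6 n17480 = n18094 := rfl
theorem F70971 : act 0 n18094 = n17494 := d5_1 D18094 (iv D17494) (iv F68744)
theorem F70972 : act 1 n18094 = n17624 := d12_1 D18094 (iv D17624) (iv F68745)
theorem F70973 : act 3 n18094 = n17482 := d23_1 D18094 (iv D17482) (iv F68746)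
theorem F70974 : act 5 n18094 = n17701 := d30_1 D18094 (iv D17701) (iv D17100) (iv F66635) D17480
def n18095 : Q := act 6 n17481
theorem D18095 : act 6 n17481 = n18095 := rfl
theorem F70975 : act 0 n18095 = n17497 := d5_1 D18095 (iv D17497) (iv F68747)
theorem F70976 : act 2 n18095 = n17482 := d18_1 D18095 (iv D17482) (iv F68748)
theorem F70977 : act 5 n18095 = n17704 := d30_1 D18095 (iv D17704) (iv D17102) (iv F66638) D17481
theorem F70978 : act 7 n18095 = n18084 := d33_2 (iv F68749) D18095 (iv D18084)
def n18096 : Q := act 2 n17483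
theorem D18096 : act 2 n17483 = n18096 := rfl
theorem F70979 : act 0 n18096 = n17918 := d1_1 D18096 (iv D17918) (iv F68754)
theorem F70980 : act 1 n18096 = n17965 := d8_1 D18096 (iv D17965) F68285 F66807 (iv F68755)
theorem F70981 : act 3 n18096 = n18096 := d15_2 D17483 D18096 (iv D18096) (iv D17483) F66645
theorem F70982 : act 5 n18096 = n17831 := d17_2 (iv F68756) D18096 (iv D17831)
theorem F70983 : act 7 n18096 = n17792 := d19_2 (iv F68757) D18096 F69714
theorem F70984 : act 8 n18096 = n17829 := d20_2 (iv F68758) D18096 (iv D17829)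
def n18097 : Q := act 4 n17483
theorem D18097 : act 4 n17483 = n18097 := rfl
theorem F70985 : act 0 n18097 = n17919 := d3_1 D18097 (iv D17919) (iv F68754)
theorem F70986 : act 1 n18097 = n17498 := d10_1 D18097 (iv D17498) (iv F68755)
theorem F70987 : act 3 n18097 = n17486 := d21_1 D18097 (iv D17486) (iv D16882) (iv F66646) D17483
theorem F70988 : act 7 n18097 = n17862 := d28_2 (iv F68757) D18097 (iv D17862)
theorem F70989 : act 8 n18097 = n17830 := d29_2 (iv F68758) D18097 (iv D17830)
def n18098 : Q := act 2 n17484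
theorem D18098 : act 2 n17484 = n18098 := rfl
theorem F70990 : act 0 n18098 = n17915 := d1_1 D18098 (iv D17915) (iv F68759)
theorem F70991 : act 1 n18098 = n17751 := d8_1 D18098 (iv D17751) (iv F67964) F67965 (iv F68760)
theorem F70992 : act 3 n18098 = n18098 := d15_2 D17484 D18098 (iv D18098) (iv D17484) F66651
theorem F70993 : act 5 n18098 = n17487 := d17_2 (iv F68761) D18098 (iv D17487)
theorem F70994 : act 6 n18098 = n18096 := d18_2 (iv F68762) D18098 (iv D18096)
theorem F70995 : act 7 n18098 = n17767 := d19_2 (iv F68763) D18098 F69650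
theorem F70996 : act 8 n18098 = n17485 := d20_2 (iv F68764) D18098 (iv D17485)
def n18099 : Q := act 4 n17484
theorem D18099 : act 4 n17484 = n18099 := rfl
theorem F70997 : act 0 n18099 = n17916 := d3_1 D18099 (iv D17916) (iv F68759)
theorem F70998 : act 1 n18099 = n17500 := d10_1 D18099 (iv D17500) (iv F68760)
theorem F70999 : act 3 n18099 = n17830 := d21_1 D18099 (iv D17830) (iv D17219) (iv F66652) D17484
theorem F71000 : act 6 n18099 = n18097 := d27_2 (iv F68762) D18099 (iv D18097)
theorem F71001 : act 7 n18099 = n18068 := d28_2 (iv F68763) D18099 (iv D18068)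
theorem F71002 : act 8 n18099 = n17486 := d29_2 (iv F68764) D18099 (iv D17486)
def n18100 : Q := act 4 n17485
theorem D18100 : act 4 n17485 = n18100 := rfl
theorem F71003 : act 1 n18100 = n17753 := d10_1 D18100 (iv D17753) (iv F68765)
theorem F71004 : act 2 n18100 = n17486 := d16_1 D18100 (iv D17486) D17485
theorem F71005 : act 7 n18100 = n17491 := d28_2 (iv F68768) D18100 (iv D17491)
def n18101 : Q := act 5 n17486
theorem D18101 : act 5 n17486 = n18101 := rfl
theorem F71006 : act 1 n18101 = n17502 := d11_1 D18101 (iv D17502) (iv F68769)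
theorem F71007 : act 4 n18101 = n17490 := d26_1 D18101 (iv D17490) (iv D16885) (iv F66657) D17486
theorem F71008 : act 7 n18101 = n17492 := d31_2 (iv F68770) D18101 (iv D17492)
def n18102 : Q := act 4 n17487
theorem D18102 : act 4 n17487 = n18102 := rfl
theorem F71009 : act 1 n18102 = n17755 := d10_1 D18102 (iv D17755) (iv F68771)
theorem F71010 : act 2 n18102 = n17488 := d16_1 D18102 (iv D17488) D17487
theorem F71011 : act 7 n18102 = n17775 := d28_2 (iv F68773) D18102 (iv D17775)
theorem F71012 : act 8 n18102 = n17489 := d29_2 (iv F68774) D18102 (iv D17489)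
def n18103 : Q := act 5 n17488
theorem D18103 : act 5 n17488 = n18103 := rfl
theorem F71013 : act 1 n18103 = n17504 := d11_1 D18103 (iv D17504) (iv F68775)
theorem F71014 : act 8 n18103 = n17490 := d32_2 (iv F68776) D18103 (iv D17490)
def n18104 : Q := act 3 n17489
theorem D18104 : act 3 n17489 = n18104 := rfl
theorem F71015 : act 1 n18104 = n17757 := d9_1 D18104 (iv D17757) (iv F68777)
theorem F71016 : act 4 n18104 = n18104 := d21_2 D17489 D18104 (iv D18104) (iv D17489) F66662
def n18105 : Q := act 5 n17489
theorem D18105 : act 5 n17489 = n18105 := rfl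
theorem F71017 : act 1 n18105 = n17758 := d11_1 D18105 (iv D17758) (iv F68777)
theorem F71018 : act 2 n18105 = n17490 := d17_1 D18105 (iv D17490) (iv F68778)
theorem F71019 : act 7 n18105 = n17493 := d31_2 (iv F68779) D18105 (iv D17493)
def n18106 : Q := act 6 n17490
theorem D18106 : act 6 n17490 = n18106 := rfl
theorem F71020 : act 1 n18106 = n17507 := d12_1 D18106 (iv D17507) (iv F68780)
theorem F71021 : act 7 n18106 = n17494 := d33_2 (iv F68781) D18106 (iv D17494)
def n18107 : Q := act 5 n17491
theorem D18107 : act 5 n17491 = n18107 := rfl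
theorem F71022 : act 1 n18107 = n17760 := d11_1 D18107 (iv D17760) (iv F68782)
theorem F71023 : act 2 n18107 = n17492 := d17_1 D18107 (iv D17492) (iv F68783)
theorem F71024 : act 4 n18107 = n17493 := d26_1 D18107 (iv D17493) (iv D16888) (iv F66668) D17491
theorem F71025 : act 8 n18107 = n17786 := d32_2 (iv F68784) D18107 (iv D17786)
def n18108 : Q := act 6 n17492
theorem D18108 : act 6 n17492 = n18108 := rfl
theorem F71026 : act 1 n18108 = n17510 := d12_1 D18108 (iv D17510) (iv F68785)
theorem F71027 : act 4 n18108 = n17494 := d27_1 D18108 (iv D17494) (iv F68786)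
def n18109 : Q := act 6 n17493
theorem D18109 : act 6 n17493 = n18109 := rfl
theorem F71028 : act 1 n18109 = n17762 := d12_1 D18109 (iv D17762) (iv F68787)
theorem F71029 : act 2 n18109 = n17494 := d18_1 D18109 (iv D17494) (iv F68788)
theorem F71030 : act 8 n18109 = n17791 := d34_2 (iv F68789) D18109 (iv D17791)
def n18110 : Q := act 6 n17495
theorem D18110 : act 6 n17495 = n18110 := rfl
theorem F71031 : act 3 n18110 = n17497 := d23_1 D18110 (iv D17497) (iv F68792)
def n18111 : Q := act 7 n17495
theorem D18111 : act 7 n17495 = n18111 := rfl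
theorem F71032 : act 5 n18111 = n17496 := d31_1 D18111 (iv D17496) D17495
def n18112 : Q := act 8 n17496
theorem D18112 : act 8 n17496 = n18112 := rfl
theorem F71033 : act 4 n18112 = n17514 := d29_1 D18112 (iv D17514) (iv F68793)
def n18113 : Q := act 5 n17498
theorem D18113 : act 5 n17498 = n18113 := rfl
theorem F71034 : act 0 n18113 = n17643 := d4_1 D18113 (iv D17643) (iv F68795)
theorem F71035 : act 3 n18113 = n17502 := d22_1 D18113 (iv D17502) (iv F68796)
def n18114 : Q := act 5 n17499
theorem D18114 : act 5 n17499 = n18114 := rfl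
theorem F71036 : act 0 n18114 = n17644 := d4_1 D18114 (iv D17644) (iv F68797)
theorem F71037 : act 7 n18114 = n17508 := d31_2 (iv F68799) D18114 (iv D17508)
theorem F71038 : act 8 n18114 = n18113 := d32_2 (iv F68800) D18114 (iv D18113)
def n18115 : Q := act 5 n17500
theorem D18115 : act 5 n17500 = n18115 := rfl
theorem F71039 : act 0 n18115 = n17645 := d4_1 D18115 (iv D17645) (iv F68801)
theorem F71040 : act 3 n18115 = n18114 := d22_1 D18115 (iv D18114) (iv F68802)
theorem F71041 : act 4 n18115 = n17504 := d26_1 D18115 (iv D17504) (iv D16899) (iv F66685) D17500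
theorem F71042 : act 8 n18115 = n17502 := d32_2 (iv F68804) D18115 (iv D17502)
def n18116 : Q := act 5 n17501
theorem D18116 : act 5 n17501 = n18116 := rfl
theorem F71043 : act 0 n18116 = n17646 := d4_1 D18116 (iv D17646) (iv F68805)
theorem F71044 : act 1 n18116 = n17754 := d11_1 D18116 (iv D17754) (iv F68806)
theorem F71045 : act 2 n18116 = n17502 := d17_1 D18116 (iv D17502) (iv F68807)
theorem F71046 : act 3 n18116 = n18031 := d22_1 D18116 (iv D18031) (iv F68808)
theorem F71047 : act 4 n18116 = n17506 := d26_1 D18116 (iv D17506) (iv D16900) (iv F66690) D17501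
theorem F71048 : act 7 n18116 = n17509 := d31_2 (iv F68809) D18116 (iv D17509)
def n18117 : Q := act 6 n17502
theorem D18117 : act 6 n17502 = n18117 := rfl
theorem F71049 : act 0 n18117 = n17647 := d5_1 D18117 (iv D17647) (iv F68810)
theorem F71050 : act 4 n18117 = n17507 := d27_1 D18117 (iv D17507) (iv F68811)
theorem F71051 : act 7 n18117 = n17510 := d33_2 (iv F68812) D18117 (iv D17510)
def n18118 : Q := act 3 n17503
theorem D18118 : act 3 n17503 = n18118 := rfl
theorem F71052 : act 0 n18118 = n17549 := d2_1 D18118 F68985 (iv F68813)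
theorem F71053 : act 1 n18118 = n17734 := d9_1 D18118 F69555 (iv F68814)
theorem F71054 : act 4 n18118 = n17512 := d21_2 D17503 D18118 (iv D17512) (iv D16908) (iv F66696)
theorem F71055 : act 6 n18118 = n17559 := d23_2 (iv F68816) D18118 F69020
theorem F71056 : act 8 n18118 = n17505 := d25_2 (iv F68818) D18118 (iv D17505)
def n18119 : Q := act 5 n17503
theorem D18119 : act 5 n17503 = n18119 := rfl
theorem F71057 : act 0 n18119 = n17648 := d4_1 D18119 (iv D17648) (iv F68813)
theorem F71058 : act 1 n18119 = n17756 := d11_1 D18119 (iv D17756) (iv F68814)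
theorem F71059 : act 2 n18119 = n17504 := d17_1 D18119 (iv D17504) (iv F68815)
theorem F71060 : act 7 n18119 = n17607 := d31_2 (iv F68817) D18119 (iv D17607)
theorem F71061 : act 8 n18119 = n17506 := d32_2 (iv F68818) D18119 (iv D17506)
def n18120 : Q := act 6 n17504
theorem D18120 : act 6 n17504 = n18120 := rfl
theorem F71062 : act 0 n18120 = n17649 := d5_1 D18120 (iv D17649) (iv F68819)
theorem F71063 : act 8 n18120 = n17507 := d34_2 (iv F68820) D18120 (iv D17507)
def n18121 : Q := act 5 n17505
theorem D18121 : act 5 n17505 = n18121 := rfl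
theorem F71064 : act 0 n18121 = n17651 := d4_1 D18121 (iv D17651) (iv F68821)
theorem F71065 : act 1 n18121 = n17737 := d11_1 D18121 (iv D17737) (iv F68822)
theorem F71066 : act 3 n18121 = n17506 := d22_1 D18121 (iv D17506) D17505
theorem F71067 : act 4 n18121 = n18034 := d26_1 D18121 (iv D18034) (iv D17421) (iv F66740) (iv F68823)
theorem F71068 : act 7 n18121 = n17539 := d31_2 (iv F68825) D18121 (iv D17539)
def n18122 : Q := act 6 n17506
theorem D18122 : act 6 n17506 = n18122 := rfl
theorem F71069 : act 0 n18122 = n17652 := d5_1 D18122 (iv D17652) (iv F68826)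
theorem F71070 : act 1 n18122 = n17759 := d12_1 D18122 (iv D17759) (iv F68827)
theorem F71071 : act 2 n18122 = n17507 := d18_1 D18122 (iv D17507) (iv F68828)
theorem F71072 : act 5 n18122 = n17599 := d30_1 D18122 (iv D17599) (iv D16990) (iv F66706) D17506
theorem F71073 : act 7 n18122 = n17511 := d33_2 (iv F68829) D18122 (iv D17511)
def n18123 : Q := act 6 n17508
theorem D18123 : act 6 n17508 = n18123 := rfl
theorem F71074 : act 0 n18123 = n17653 := d5_1 D18123 (iv D17653) (iv F68832)
theorem F71075 : act 5 n18123 = n17510 := d30_1 D18123 (iv D17510) (iv D16904) (iv F66711) D17508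
def n18124 : Q := act 6 n17509
theorem D18124 : act 6 n17509 = n18124 := rfl
theorem F71076 : act 0 n18124 = n17654 := d5_1 D18124 (iv D17654) (iv F68833)
theorem F71077 : act 1 n18124 = n17761 := d12_1 D18124 (iv D17761) (iv F68834)
theorem F71078 : act 2 n18124 = n17510 := d18_1 D18124 (iv D17510) (iv F68835)
theorem F71079 : act 4 n18124 = n17511 := d27_1 D18124 (iv D17511) (iv F68836)
theorem F71080 : act 8 n18124 = n17610 := d34_2 (iv F68837) D18124 (iv D17610)
def n18125 : Q := act 8 n17513
theorem D18125 : act 8 n17513 = n18125 := rfl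
theorem F71081 : act 0 n18125 = n17730 := d7_1 D18125 (iv D17730) (iv F68851)
theorem F71082 : act 1 n18125 = n17706 := d14_1 D18125 F69466 (iv F68852)
theorem F71083 : act 3 n18125 = n17515 := d25_1 D18125 (iv D17515) (iv F68853)
theorem F71084 : act 5 n18125 = n17710 := d32_1 D18125 F69477 (iv F68854)
theorem F71085 : act 6 n18125 = n17514 := d34_1 D18125 (iv D17514) (iv F68855)
def n18126 : Q := act 6 n17516
theorem D18126 : act 6 n17516 = n18126 := rfl
theorem F71086 : act 1 n18126 = n17519 := d12_1 D18126 (iv D17519) (iv F68864)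
theorem F71087 : act 4 n18126 = n17540 := d27_1 D18126 (iv D17540) (iv F68865)
theorem F71088 : act 7 n18126 = n17520 := d33_2 (iv F68866) D18126 (iv D17520)
theorem F71089 : act 8 n18126 = n17884 := d34_2 (iv F68867) D18126 (iv D17884)
def n18127 : Q := act 5 n17517
theorem D18127 : act 5 n17517 = n18127 := rfl
theorem F71090 : act 0 n18127 = n17955 := d4_1 D18127 (iv D17955) (iv F68868)
theorem F71091 : act 2 n18127 = n17518 := d17_1 D18127 (iv D17518) (iv F68869)
theorem F71092 : act 3 n18127 = n17570 := d22_1 D18127 (iv D17570) (iv F68870)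
theorem F71093 : act 7 n18127 = n17848 := d31_2 (iv F68872) D18127 (iv D17848)
theorem F71094 : act 8 n18127 = n17895 := d32_2 (iv F68873) D18127 (iv D17895)
def n18128 : Q := act 6 n17518
theorem D18128 : act 6 n17518 = n18128 := rfl
theorem F71095 : act 0 n18128 = n17956 := d5_1 D18128 (iv D17956) (iv F68874)
theorem F71096 : act 3 n18128 = n17519 := d23_1 D18128 (iv D17519) (iv F68875)
theorem F71097 : act 5 n18128 = n17869 := d30_1 D18128 (iv D17869) (iv D17257) (iv F66766) D17518
theorem F71098 : act 7 n18128 = n17849 := d33_2 (iv F68876) D18128 (iv D17849)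
theorem F71099 : act 8 n18128 = n17896 := d34_2 (iv F68877) D18128 (iv D17896)
def n18129 : Q := act 4 n17521
theorem D18129 : act 4 n17521 = n18129 := rfl
theorem F71100 : act 2 n18129 = n17522 := d16_1 D18129 (iv D17522) D17521
theorem F71101 : act 7 n18129 = n17527 := d28_2 (iv F68887) D18129 (iv D17527)
theorem F71102 : act 8 n18129 = n18074 := d29_2 (iv F68888) D18129 (iv D18074)
def n18130 : Q := act 5 n17522
theorem D18130 : act 5 n17522 = n18130 := rfl
theorem F71103 : act 1 n18130 = n17533 := d11_1 D18130 (iv D17533) (iv F68889)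
theorem F71104 : act 4 n18130 = n17526 := d26_1 D18130 (iv D17526) (iv D16924) (iv F66783) D17522
theorem F71105 : act 7 n18130 = n17528 := d31_2 (iv F68890) D18130 (iv D17528)
theorem F71106 : act 8 n18130 = n18075 := d32_2 (iv F68891) D18130 (iv D18075)
def n18131 : Q := act 4 n17523
theorem D18131 : act 4 n17523 = n18131 := rfl
theorem F71107 : act 0 n18131 = n18129 := d3_1 D18131 (iv D18129) (iv F68892)
theorem F71108 : act 1 n18131 = n18038 := d10_1 D18131 (iv D18038) (iv F68893)
theorem F71109 : act 2 n18131 = n17524 := d16_1 D18131 (iv D17524) D17523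
theorem F71110 : act 6 n18131 = n17801 := d27_2 (iv F68896) D18131 (iv D17801)
theorem F71111 : act 7 n18131 = n17815 := d28_2 (iv F68897) D18131 (iv D17815)
theorem F71112 : act 8 n18131 = n17525 := d29_2 (iv F68898) D18131 (iv D17525)
def n18132 : Q := act 5 n17524
theorem D18132 : act 5 n17524 = n18132 := rfl
theorem F71113 : act 0 n18132 = n18130 := d4_1 D18132 (iv D18130) (iv F68899)
theorem F71114 : act 1 n18132 = n17534 := d11_1 D18132 (iv D17534) (iv F68900)
theorem F71115 : act 3 n18132 = n17982 := d22_1 D18132 (iv D17982) (iv F68901)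
theorem F71116 : act 4 n18132 = n18075 := d26_1 D18132 (iv D18075) (iv D17460) (iv F66788) D17524
theorem F71117 : act 7 n18132 = n17816 := d31_2 (iv F68903) D18132 (iv D17816)
theorem F71118 : act 8 n18132 = n17526 := d32_2 (iv F68904) D18132 (iv D17526)
def n18133 : Q := act 3 n17525
theorem D18133 : act 3 n17525 = n18133 := rfl
theorem F71119 : act 2 n18133 = n17984 := d15_1 D18133 (iv D17984) F68335 (iv F66795) (iv F68905)
theorem F71120 : act 4 n18133 = n18133 := d21_2 D17525 D18133 (iv D18133) (iv D17525) F66792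
def n18134 : Q := act 5 n17525
theorem D18134 : act 5 n17525 = n18134 := rfl
theorem F71121 : act 2 n18134 = n17526 := d17_1 D18134 (iv D17526) (iv F68905)
theorem F71122 : act 7 n18134 = n17529 := d31_2 (iv F68906) D18134 (iv D17529)
def n18135 : Q := act 6 n17526
theorem D18135 : act 6 n17526 = n18135 := rfl
theorem F71123 : act 1 n18135 = n17535 := d12_1 D18135 (iv D17535) (iv F68907)
theorem F71124 : act 3 n18135 = n17986 := d23_1 D18135 (iv D17986) (iv F68908)
theorem F71125 : act 7 n18135 = n17530 := d33_2 (iv F68909) D18135 (iv D17530)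
def n18136 : Q := act 5 n17527
theorem D18136 : act 5 n17527 = n18136 := rfl
theorem F71126 : act 2 n18136 = n17528 := d17_1 D18136 (iv D17528) (iv F68910)
theorem F71127 : act 4 n18136 = n17529 := d26_1 D18136 (iv D17529) (iv D16927) (iv F66798) D17527
def n18137 : Q := act 6 n17528
theorem D18137 : act 6 n17528 = n18137 := rfl
theorem F71128 : act 1 n18137 = n17536 := d12_1 D18137 (iv D17536) (iv F68911)
theorem F71129 : act 3 n18137 = n17610 := d23_1 D18137 (iv D17610) (iv F68912)
theorem F71130 : act 4 n18137 = n17530 := d27_1 D18137 (iv D17530) (iv F68913)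
def n18138 : Q := act 6 n17529
theorem D18138 : act 6 n17529 = n18138 := rfl
theorem F71131 : act 2 n18138 = n17530 := d18_1 D18138 (iv D17530) (iv F68914)
def n18139 : Q := act 5 n17531
theorem D18139 : act 5 n17531 = n18139 := rfl
theorem F71132 : act 2 n18139 = n18113 := d17_1 D18139 (iv D18113) (iv F68917)
theorem F71133 : act 3 n18139 = n17533 := d22_1 D18139 (iv D17533) (iv F68918)
theorem F71134 : act 4 n18139 = n17994 := d26_1 D18139 (iv D17994) (iv D17374) (iv F66808) D17531
theorem F71135 : act 7 n18139 = n17764 := d31_2 (iv F68919) D18139 (iv D17764)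
def n18140 : Q := act 5 n17532
theorem D18140 : act 5 n17532 = n18140 := rfl
theorem F71136 : act 0 n18140 = n17877 := d4_1 D18140 (iv D17877) (iv F68920)
theorem F71137 : act 1 n18140 = n18075 := d11_1 D18140 (iv D18075) (iv F68921)
theorem F71138 : act 2 n18140 = n17881 := d17_1 D18140 (iv D17881) (iv F68922)
theorem F71139 : act 4 n18140 = n17534 := d26_1 D18140 (iv D17534) (iv D16933) (iv F66813) D17532
theorem F71140 : act 7 n18140 = n17814 := d31_2 (iv F68924) D18140 (iv D17814)
theorem F71141 : act 8 n18140 = n17533 := d32_2 (iv F68925) D18140 (iv D17533)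
def n18141 : Q := act 6 n17533
theorem D18141 : act 6 n17533 = n18141 := rfl
theorem F71142 : act 4 n18141 = n17535 := d27_1 D18141 (iv D17535) (iv F68926)
theorem F71143 : act 7 n18141 = n17536 := d33_2 (iv F68927) D18141 (iv D17536)
def n18142 : Q := act 6 n17534
theorem D18142 : act 6 n17534 = n18142 := rfl
theorem F71144 : act 0 n18142 = n17879 := d5_1 D18142 (iv D17879) (iv F68928)
theorem F71145 : act 3 n18142 = n18006 := d23_1 D18142 (iv D18006) (iv F68929)
theorem F71146 : act 5 n18142 = n17810 := d30_1 D18142 (iv D17810) (iv D17202) (iv F66820) D17534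
theorem F71147 : act 7 n18142 = n17821 := d33_2 (iv F68930) D18142 (iv D17821)
theorem F71148 : act 8 n18142 = n17535 := d34_2 (iv F68931) D18142 (iv D17535)
def n18143 : Q := act 0 n17537
theorem D18143 : act 0 n17537 = n18143 := rfl
theorem F71149 : act 1 n18143 = n18021 := d0_2 D17537 D18143 F70683 F68444 (iv F66828)
theorem F71150 : act 2 n18143 = n17743 := d1_2 (iv F68936) D18143 (iv D17743)
theorem F71151 : act 3 n18143 = n17541 := d2_2 (iv F68937) D18143 (iv D17541)
theorem F71152 : act 5 n18143 = n17796 := d4_2 (iv F68938) D18143 F69730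
theorem F71153 : act 6 n18143 = n17568 := d5_2 (iv F68939) D18143 (iv D17568)
def n18144 : Q := act 4 n17537
theorem D18144 : act 4 n17537 = n18144 := rfl
theorem F71154 : act 1 n18144 = n17538 := d10_1 D18144 (iv D17538) D17537
theorem F71155 : act 2 n18144 = n17744 := d16_1 D18144 (iv D17744) (iv F68936)
theorem F71156 : act 3 n18144 = n17867 := d21_1 D18144 (iv D17867) F67896 (iv F66838) (iv F68937)
theorem F71157 : act 6 n18144 = n17569 := d27_2 (iv F68939) D18144 (iv D17569)
def n18145 : Q := act 5 n17538
theorem D18145 : act 5 n17538 = n18145 := rfl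
theorem F71158 : act 0 n18145 = n18010 := d4_1 D18145 (iv D18010) (iv F68940)
theorem F71159 : act 2 n18145 = n17539 := d17_1 D18145 (iv D17539) (iv F68941)
theorem F71160 : act 3 n18145 = n17868 := d22_1 D18145 (iv D17868) (iv F68942)
theorem F71161 : act 4 n18145 = n17782 := d26_1 D18145 (iv D17782) F67543 (iv F66830) D17538
def n18146 : Q := act 6 n17539
theorem D18146 : act 6 n17539 = n18146 := rfl
theorem F71162 : act 1 n18146 = n17746 := d12_1 D18146 (iv D17746) (iv F68944)
theorem F71163 : act 3 n18146 = n17540 := d23_1 D18146 (iv D17540) (iv F68945)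
theorem F71164 : act 5 n18146 = n17571 := d30_1 D18146 (iv D17571) (iv D16962) (iv F66834) D17539
def n18147 : Q := act 4 n17542
theorem D18147 : act 4 n17542 = n18147 := rfl
theorem F71165 : act 0 n18147 = n17548 := d3_1 D18147 (iv D17548) (iv F68955)
theorem F71166 : act 3 n18147 = n17576 := d21_1 D18147 (iv D17576) (iv D16970) (iv F66844) D17542
theorem F71167 : act 6 n18147 = n17672 := d27_2 (iv F68956) D18147 (iv D17672)
theorem F71168 : act 7 n18147 = n17543 := d28_2 (iv F68957) D18147 (iv D17543)
def n18148 : Q := act 5 n17543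
theorem D18148 : act 5 n17543 = n18148 := rfl
theorem F71169 : act 0 n18148 = n17552 := d4_1 D18148 (iv D17552) (iv F68958)
theorem F71170 : act 3 n18148 = n17544 := d22_1 D18148 (iv D17544) (iv F68959)
theorem F71171 : act 8 n18148 = n18034 := d32_2 (iv F68961) D18148 (iv D18034)
def n18149 : Q := act 6 n17544
theorem D18149 : act 6 n17544 = n18149 := rfl
theorem F71172 : act 0 n18149 = n17553 := d5_1 D18149 (iv D17553) (iv F68962)
theorem F71173 : act 2 n18149 = n18142 := d18_1 D18149 (iv D18142) (iv F68963)
theorem F71174 : act 5 n18149 = n17678 := d30_1 D18149 (iv D17678) (iv D17082) (iv F66851) D17544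
theorem F71175 : act 7 n18149 = n17580 := d33_2 (iv F68964) D18149 (iv D17580)
theorem F71176 : act 8 n18149 = n18035 := d34_2 (iv F68965) D18149 (iv D18035)
def n18150 : Q := act 4 n17545
theorem D18150 : act 4 n17545 = n18150 := rfl
theorem F71177 : act 1 n18150 = n17557 := d10_1 D18150 (iv D17557) (iv F68966)
theorem F71178 : act 6 n18150 = n18041 := d27_2 (iv F68968) D18150 (iv D18041)
theorem F71179 : act 7 n18150 = n17549 := d28_2 (iv F68969) D18150 (iv D17549)
theorem F71180 : act 8 n18150 = n18147 := d29_2 (iv F68970) D18150 (iv D18147)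
def n18151 : Q := act 2 n17546
theorem D18151 : act 2 n17546 = n18151 := rfl
theorem F71181 : act 0 n18151 = n17795 := d1_1 D18151 F69727 (iv F68971)
theorem F71182 : act 3 n18151 = n18151 := d15_2 D17546 D18151 (iv D18151) (iv D17546) F66861
theorem F71183 : act 5 n18151 = n18020 := d17_2 (iv F68973) D18151 F70679
theorem F71184 : act 6 n18151 = n17733 := d18_2 (iv F68974) D18151 (iv D17733)
theorem F71185 : act 7 n18151 = n17725 := d19_2 (iv F68975) D18151 F69523
theorem F71186 : act 8 n18151 = n17547 := d20_2 (iv F68976) D18151 (iv D17547)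
def n18152 : Q := act 4 n17546
theorem D18152 : act 4 n17546 = n18152 := rfl
theorem F71187 : act 0 n18152 = n18150 := d3_1 D18152 (iv D18150) (iv F68971)
theorem F71188 : act 1 n18152 = n17559 := d10_1 D18152 (iv D17559) (iv F68972)
theorem F71189 : act 3 n18152 = n17586 := d21_1 D18152 (iv D17586) (iv D16977) (iv F66862) D17546
theorem F71190 : act 6 n18152 = n17734 := d27_2 (iv F68974) D18152 (iv D17734)
theorem F71191 : act 7 n18152 = n18118 := d28_2 (iv F68975) D18152 F71054
theorem F71192 : act 8 n18152 = n17548 := d29_2 (iv F68976) D18152 (iv D17548)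
def n18153 : Q := act 1 n17547
theorem D18153 : act 1 n17547 = n18153 := rfl
theorem F71193 : act 2 n18153 = n17560 := d8_2 D17547 D18153 (iv D17560) (iv D16955) (iv F66866)
theorem F71194 : act 3 n18153 = n18153 := d9_2 F68977 D18153 (iv D18153)
theorem F71195 : act 6 n18153 = n17735 := d12_2 (iv F68978) D18153 (iv D17735)
theorem F71196 : act 7 n18153 = n17550 := d13_2 (iv F68979) D18153 (iv D17550)
def n18154 : Q := act 4 n17547
theorem D18154 : act 4 n17547 = n18154 := rfl
theorem F71197 : act 2 n18154 = n17548 := d16_1 D18154 (iv D17548) D17547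
theorem F71198 : act 6 n18154 = n17736 := d27_2 (iv F68978) D18154 (iv D17736)
theorem F71199 : act 7 n18154 = n17551 := d28_2 (iv F68979) D18154 (iv D17551)
def n18155 : Q := act 5 n17548
theorem D18155 : act 5 n17548 = n18155 := rfl
theorem F71200 : act 1 n18155 = n17562 := d11_1 D18155 (iv D17562) (iv F68980)
theorem F71201 : act 3 n18155 = n17588 := d22_1 D18155 (iv D17588) (iv F68981)
theorem F71202 : act 7 n18155 = n17552 := d31_2 (iv F68983) D18155 (iv D17552)
def n18156 : Q := act 5 n17549
theorem D18156 : act 5 n17549 = n18156 := rfl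
theorem F71203 : act 1 n18156 = n17567 := d11_1 D18156 (iv D17567) (iv F68984)
theorem F71204 : act 3 n18156 = n17648 := d22_1 D18156 (iv D17648) (iv F68985)
theorem F71205 : act 4 n18156 = n17552 := d26_1 D18156 (iv D17552) (iv D16949) (iv F66870) D17549
theorem F71206 : act 8 n18156 = n17651 := d32_2 (iv F68986) D18156 (iv D17651)
def n18157 : Q := act 0 n17550
theorem D18157 : act 0 n17550 = n18157 := rfl
theorem F71207 : act 2 n18157 = n17568 := d1_2 (iv F68987) D18157 (iv D17568)
theorem F71208 : act 3 n18157 = n17656 := d2_2 (iv F68988) D18157 (iv D17656)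
theorem F71209 : act 6 n18157 = n17743 := d5_2 (iv F68989) D18157 (iv D17743)
theorem F71210 : act 8 n18157 = n18143 := d7_2 (iv F68990) D18157 (iv D18143)
def n18158 : Q := act 4 n17550
theorem D18158 : act 4 n17550 = n18158 := rfl
theorem F71211 : act 1 n18158 = n17551 := d10_1 D18158 (iv D17551) D17550
theorem F71212 : act 2 n18158 = n17569 := d16_1 D18158 (iv D17569) (iv F68987)
theorem F71213 : act 6 n18158 = n17744 := d27_2 (iv F68989) D18158 (iv D17744)
theorem F71214 : act 8 n18158 = n18144 := d29_2 (iv F68990) D18158 (iv D18144)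
def n18159 : Q := act 5 n17551
theorem D18159 : act 5 n17551 = n18159 := rfl
theorem F71215 : act 2 n18159 = n17552 := d17_1 D18159 (iv D17552) (iv F68991)
theorem F71216 : act 8 n18159 = n18145 := d32_2 (iv F68993) D18159 (iv D18145)
def n18160 : Q := act 6 n17552
theorem D18160 : act 6 n17552 = n18160 := rfl
theorem F71217 : act 1 n18160 = n17571 := d12_1 D18160 (iv D17571) (iv F68994)
theorem F71218 : act 3 n18160 = n17553 := d23_1 D18160 (iv D17553) (iv F68995)
theorem F71219 : act 5 n18160 = n17746 := d30_1 D18160 (iv D17746) (iv D17139) (iv F66877) D17552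
theorem F71220 : act 8 n18160 = n18146 := d34_2 (iv F68996) D18160 (iv D18146)
def n18161 : Q := act 4 n17554
theorem D18161 : act 4 n17554 = n18161 := rfl
theorem F71221 : act 0 n18161 = n17890 := d3_1 D18161 (iv D17890) (iv F69001)
theorem F71222 : act 3 n18161 = n17557 := d21_1 D18161 (iv D17557) (iv D16953) (iv F66884) D17554
theorem F71223 : act 6 n18161 = n17806 := d27_2 (iv F69003) D18161 (iv D17806)
theorem F71224 : act 7 n18161 = n18090 := d28_2 (iv F69004) D18161 (iv D18090)
theorem F71225 : act 8 n18161 = n17949 := d29_2 (iv F69005) D18161 (iv D17949)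
def n18162 : Q := act 2 n17555
theorem D18162 : act 2 n17555 = n18162 := rfl
theorem F71226 : act 0 n18162 = n17738 := d1_1 D18162 (iv D17738) (iv F69006)
theorem F71227 : act 3 n18162 = n17663 := d15_2 D17555 D18162 (iv D17663) (iv D17067) (iv F66890)
theorem F71228 : act 5 n18162 = n17558 := d17_2 (iv F69008) D18162 (iv D17558)
theorem F71229 : act 6 n18162 = n17673 := d18_2 (iv F69009) D18162 (iv D17673)
theorem F71230 : act 7 n18162 = n18036 := d19_2 (iv F69010) D18162 (iv D18036)
theorem F71231 : act 8 n18162 = n17556 := d20_2 (iv F69011) D18162 (iv D17556)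
def n18163 : Q := act 4 n17555
theorem D18163 : act 4 n17555 = n18163 := rfl
theorem F71232 : act 0 n18163 = n17739 := d3_1 D18163 (iv D17739) (iv F69006)
theorem F71233 : act 1 n18163 = n18147 := d10_1 D18163 (iv D18147) (iv F69007)
theorem F71234 : act 3 n18163 = n17949 := d21_1 D18163 (iv D17949) (iv D17335) (iv F66891) D17555
theorem F71235 : act 6 n18163 = n17674 := d27_2 (iv F69009) D18163 (iv D17674)
theorem F71236 : act 7 n18163 = n18037 := d28_2 (iv F69010) D18163 (iv D18037)
theorem F71237 : act 8 n18163 = n17557 := d29_2 (iv F69011) D18163 (iv D17557)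
def n18164 : Q := act 1 n17556
theorem D18164 : act 1 n17556 = n18164 := rfl
theorem F71238 : act 3 n18164 = n17664 := d9_2 (iv F69012) D18164 (iv D17664)
theorem F71239 : act 5 n18164 = n17560 := d11_2 (iv F69013) D18164 (iv D17560)
theorem F71240 : act 6 n18164 = n18050 := d12_2 (iv F69014) D18164 (iv D18050)
theorem F71241 : act 7 n18164 = n17565 := d13_2 (iv F69015) D18164 (iv D17565)
def n18165 : Q := act 4 n17556
theorem D18165 : act 4 n17556 = n18165 := rfl
theorem F71242 : act 2 n18165 = n17557 := d16_1 D18165 (iv D17557) D17556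
theorem F71243 : act 6 n18165 = n18051 := d27_2 (iv F69014) D18165 (iv D18051)
theorem F71244 : act 7 n18165 = n17566 := d28_2 (iv F69015) D18165 (iv D17566)
def n18166 : Q := act 5 n17557
theorem D18166 : act 5 n17557 = n18166 := rfl
theorem F71245 : act 4 n18166 = n17562 := d26_1 D18166 (iv D17562) (iv D16956) (iv F66895) D17557
theorem F71246 : act 7 n18166 = n17567 := d31_2 (iv F69017) D18166 (iv D17567)
def n18167 : Q := act 1 n17558
theorem D18167 : act 1 n17558 = n18167 := rfl
theorem F71247 : act 3 n18167 = n17665 := d9_2 (iv F69018) D18167 (iv D17665)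
theorem F71248 : act 8 n18167 = n17560 := d14_2 (iv F69019) D18167 (iv D17560)
def n18168 : Q := act 4 n17558
theorem D18168 : act 4 n17558 = n18168 := rfl
theorem F71249 : act 2 n18168 = n17559 := d16_1 D18168 (iv D17559) D17558
theorem F71250 : act 8 n18168 = n17561 := d29_2 (iv F69019) D18168 (iv D17561)
def n18169 : Q := act 5 n17559
theorem D18169 : act 5 n17559 = n18169 := rfl
theorem F71251 : act 3 n18169 = n17598 := d22_1 D18169 (iv D17598) (iv F69020)
theorem F71252 : act 8 n18169 = n17562 := d32_2 (iv F69021) D18169 (iv D17562)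
def n18170 : Q := act 0 n17560
theorem D18170 : act 0 n17560 = n18170 := rfl
theorem F71253 : act 1 n18170 = n18017 := d0_2 D17560 D18170 F70667 F69321 F67221
theorem F71254 : act 3 n18170 = n17666 := d2_2 (iv F69022) D18170 (iv D17666)
theorem F71255 : act 7 n18170 = n17568 := d6_2 (iv F69023) D18170 (iv D17568)
def n18171 : Q := act 4 n17560
theorem D18171 : act 4 n17560 = n18171 := rfl
theorem F71256 : act 1 n18171 = n17561 := d10_1 D18171 (iv D17561) D17560
theorem F71257 : act 7 n18171 = n17569 := d28_2 (iv F69023) D18171 (iv D17569)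
def n18172 : Q := act 5 n17561
theorem D18172 : act 5 n17561 = n18172 := rfl
theorem F71258 : act 2 n18172 = n17562 := d17_1 D18172 (iv D17562) (iv F69024)
theorem F71259 : act 7 n18172 = n17570 := d31_2 (iv F69025) D18172 (iv D17570)
def n18173 : Q := act 6 n17562
theorem D18173 : act 6 n17562 = n18173 := rfl
theorem F71260 : act 3 n18173 = n17599 := d23_1 D18173 (iv D17599) (iv F69026)
theorem F71261 : act 7 n18173 = n17571 := d33_2 (iv F69027) D18173 (iv D17571)
def n18174 : Q := act 4 n17563
theorem D18174 : act 4 n17563 = n18174 := rfl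
theorem F71262 : act 0 n18174 = n18165 := d3_1 D18174 (iv D18165) (iv F69028)
theorem F71263 : act 2 n18174 = n17564 := d16_1 D18174 (iv D17564) D17563
theorem F71264 : act 6 n18174 = n17566 := d27_2 (iv F69031) D18174 (iv D17566)
theorem F71265 : act 7 n18174 = n18051 := d28_2 (iv F69032) D18174 (iv D18051)
def n18175 : Q := act 5 n17564
theorem D18175 : act 5 n17564 = n18175 := rfl
theorem F71266 : act 0 n18175 = n18166 := d4_1 D18175 (iv D18166) (iv F69033)
theorem F71267 : act 4 n18175 = n18049 := d26_1 D18175 (iv D18049) (iv D17432) (iv F66904) D17564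
theorem F71268 : act 7 n18175 = n18052 := d31_2 (iv F69035) D18175 (iv D18052)
def n18176 : Q := act 0 n17565
theorem D18176 : act 0 n17565 = n18176 := rfl
theorem F71269 : act 3 n18176 = n17572 := d2_2 (iv F69036) D18176 (iv D17572)
theorem F71270 : act 5 n18176 = n17568 := d4_2 (iv F69037) D18176 (iv D17568)
theorem F71271 : act 6 n18176 = n18059 := d5_2 F69050 D18176 F70833
def n18177 : Q := act 4 n17565
theorem D18177 : act 4 n17565 = n18177 := rfl
theorem F71272 : act 1 n18177 = n17566 := d10_1 D18177 (iv D17566) D17565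
theorem F71273 : act 3 n18177 = n18174 := d21_1 D18177 (iv D18174) F69029 F66919 (iv F69036)
def n18178 : Q := act 3 n17566
theorem D18178 : act 3 n17566 = n18178 := rfl
theorem F71274 : act 1 n18178 = n18174 := d9_1 D18178 (iv F71273) F71272
theorem F71275 : act 4 n18178 = n17573 := d21_2 D17566 D18178 (iv D17573) (iv D16966) (iv F66907)
theorem F71276 : act 6 n18178 = n18177 := d23_2 F71264 D18178 F71273
def n18179 : Q := act 5 n17566
theorem D18179 : act 5 n17566 = n18179 := rfl
theorem F71277 : act 2 n18179 = n17567 := d17_1 D18179 (iv D17567) (iv F69038)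
theorem F71278 : act 4 n18179 = n17570 := d26_1 D18179 (iv D17570) (iv D16961) (iv F66908) D17566
def n18180 : Q := act 6 n17567
theorem D18180 : act 6 n17567 = n18180 := rfl
theorem F71279 : act 4 n18180 = n17571 := d27_1 D18180 (iv D17571) (iv F69039)
def n18181 : Q := act 4 n17568
theorem D18181 : act 4 n17568 = n18181 := rfl
theorem F71280 : act 0 n18181 = n17569 := d3_1 D18181 (iv D17569) D17568
def n18182 : Q := act 5 n17569
theorem D18182 : act 5 n17569 = n18182 := rfl
theorem F71281 : act 1 n18182 = n17570 := d11_1 D18182 (iv D17570) (iv F69041)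
def n18183 : Q := act 6 n17570
theorem D18183 : act 6 n17570 = n18183 := rfl
theorem F71282 : act 2 n18183 = n17571 := d18_1 D18183 (iv D17571) (iv F69042)
def n18184 : Q := act 2 n17574
theorem D18184 : act 2 n17574 = n18184 := rfl
theorem F71283 : act 0 n18184 = n17585 := d1_1 D18184 (iv D17585) (iv F69051)
theorem F71284 : act 3 n18184 = n18184 := d15_2 D17574 D18184 (iv D18184) (iv D17574) F66931
theorem F71285 : act 6 n18184 = n17685 := d18_2 (iv F69053) D18184 (iv D17685)
theorem F71286 : act 7 n18184 = n17615 := d19_2 (iv F69054) D18184 (iv D17615)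
theorem F71287 : act 8 n18184 = n17575 := d20_2 (iv F69055) D18184 (iv D17575)
def n18185 : Q := act 4 n17574
theorem D18185 : act 4 n17574 = n18185 := rfl
theorem F71288 : act 0 n18185 = n17586 := d3_1 D18185 (iv D17586) (iv F69051)
theorem F71289 : act 1 n18185 = n18161 := d10_1 D18185 (iv D18161) (iv F69052)
theorem F71290 : act 3 n18185 = n18150 := d21_1 D18185 (iv D18150) (iv D17545) (iv F66932) D17574
theorem F71291 : act 6 n18185 = n17686 := d27_2 (iv F69053) D18185 (iv D17686)
theorem F71292 : act 7 n18185 = n17616 := d28_2 (iv F69054) D18185 (iv D17616)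
theorem F71293 : act 8 n18185 = n17576 := d29_2 (iv F69055) D18185 (iv D17576)
def n18186 : Q := act 1 n17575
theorem D18186 : act 1 n17575 = n18186 := rfl
theorem F71294 : act 0 n18186 = n17695 := d0_1 D18186 (iv D17695) (iv F68679) F68680 (iv F69056)
theorem F71295 : act 2 n18186 = n17713 := d8_2 D17575 D18186 F69484 (iv F68226) F68225
theorem F71296 : act 3 n18186 = n18186 := d9_2 F69057 D18186 (iv D18186)
theorem F71297 : act 5 n18186 = n17729 := d11_2 F70546 D18186 (iv F70544)
theorem F71298 : act 6 n18186 = n17687 := d12_2 (iv F69058) D18186 (iv D17687)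
theorem F71299 : act 7 n18186 = n17577 := d13_2 (iv F69059) D18186 (iv D17577)
def n18187 : Q := act 4 n17575
theorem D18187 : act 4 n17575 = n18187 := rfl
theorem F71300 : act 0 n18187 = n17587 := d3_1 D18187 (iv D17587) (iv F69056)
theorem F71301 : act 2 n18187 = n17576 := d16_1 D18187 (iv D17576) D17575
theorem F71302 : act 6 n18187 = n17688 := d27_2 (iv F69058) D18187 (iv D17688)
theorem F71303 : act 7 n18187 = n17578 := d28_2 (iv F69059) D18187 (iv D17578)
def n18188 : Q := act 5 n17576
theorem D18188 : act 5 n17576 = n18188 := rfl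
theorem F71304 : act 0 n18188 = n17588 := d4_1 D18188 (iv D17588) (iv F69060)
theorem F71305 : act 7 n18188 = n17579 := d31_2 (iv F69062) D18188 (iv D17579)
def n18189 : Q := act 4 n17577
theorem D18189 : act 4 n17577 = n18189 := rfl
theorem F71306 : act 0 n18189 = n17698 := d3_1 D18189 (iv D17698) (iv F69063)
theorem F71307 : act 1 n18189 = n17578 := d10_1 D18189 (iv D17578) D17577
theorem F71308 : act 2 n18189 = n17720 := d16_1 D18189 (iv D17720) (iv F69064)
theorem F71309 : act 3 n18189 = n17589 := d21_1 D18189 (iv D17589) F66974 (iv F67158) (iv F69065)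
theorem F71310 : act 6 n18189 = n17690 := d27_2 (iv F69067) D18189 (iv D17690)
theorem F71311 : act 8 n18189 = n17622 := d29_2 (iv F69068) D18189 (iv D17622)
def n18190 : Q := act 5 n17578
theorem D18190 : act 5 n17578 = n18190 := rfl
theorem F71312 : act 0 n18190 = n17591 := d4_1 D18190 (iv D17591) (iv F69069)
theorem F71313 : act 2 n18190 = n17579 := d17_1 D18190 (iv D17579) (iv F69070)
theorem F71314 : act 8 n18190 = n17623 := d32_2 (iv F69072) D18190 (iv D17623)
def n18191 : Q := act 6 n17579
theorem D18191 : act 6 n17579 = n18191 := rfl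
theorem F71315 : act 0 n18191 = n17592 := d5_1 D18191 (iv D17592) (iv F69073)
theorem F71316 : act 3 n18191 = n17580 := d23_1 D18191 (iv D17580) (iv F69074)
theorem F71317 : act 5 n18191 = n17692 := d30_1 D18191 (iv D17692) (iv D17093) (iv F66944) D17579
theorem F71318 : act 8 n18191 = n17624 := d34_2 (iv F69075) D18191 (iv D17624)
def n18192 : Q := act 2 n17581
theorem D18192 : act 2 n17581 = n18192 := rfl
theorem F71319 : act 0 n18192 = n17887 := d1_1 D18192 F70172 F69083
theorem F71320 : act 3 n18192 = n18192 := d15_2 D17581 D18192 (iv D18192) (iv D17581) F66949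
theorem F71321 : act 5 n18192 = n18184 := d17_2 (iv F69080) D18192 (iv D18184)
theorem F71322 : act 6 n18192 = n17976 := d18_2 (iv F69081) D18192 (iv D17976)
theorem F71323 : act 7 n18192 = n17893 := d19_2 F69177 D18192 F70195
theorem F71324 : act 8 n18192 = n17974 := d20_2 (iv F69082) D18192 (iv D17974)
def n18193 : Q := act 4 n17581
theorem D18193 : act 4 n17581 = n18193 := rfl
theorem F71325 : act 1 n18193 = n17594 := d10_1 D18193 (iv D17594) (iv F69079)
theorem F71326 : act 3 n18193 = n17584 := d21_1 D18193 (iv D17584) (iv D16976) (iv F66950) D17581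
theorem F71327 : act 6 n18193 = n17977 := d27_2 (iv F69081) D18193 (iv D17977)
theorem F71328 : act 8 n18193 = n17975 := d29_2 (iv F69082) D18193 (iv D17975)
def n18194 : Q := act 4 n17582
theorem D18194 : act 4 n17582 = n18194 := rfl
theorem F71329 : act 0 n18194 = n18193 := d3_1 D18194 (iv D18193) (iv F69083)
theorem F71330 : act 1 n18194 = n17596 := d10_1 D18194 (iv D17596) (iv F69084)
theorem F71331 : act 3 n18194 = n17975 := d21_1 D18194 (iv D17975) (iv D17358) (iv F66957) D17582
theorem F71332 : act 6 n18194 = n17973 := d27_2 (iv F69086) D18194 (iv D17973)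
theorem F71333 : act 7 n18194 = n17628 := d28_2 (iv F69087) D18194 (iv D17628)
theorem F71334 : act 8 n18194 = n17584 := d29_2 (iv F69088) D18194 (iv D17584)
def n18195 : Q := act 4 n17583
theorem D18195 : act 4 n17583 = n18195 := rfl
theorem F71335 : act 2 n18195 = n17584 := d16_1 D18195 (iv D17584) D17583
theorem F71336 : act 7 n18195 = n17589 := d28_2 (iv F69091) D18195 (iv D17589)
def n18196 : Q := act 5 n17584
theorem D18196 : act 5 n17584 = n18196 := rfl
theorem F71337 : act 1 n18196 = n17597 := d11_1 D18196 (iv D17597) (iv F69092)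
theorem F71338 : act 4 n18196 = n17588 := d26_1 D18196 (iv D17588) (iv D16979) (iv F66962) D17584
theorem F71339 : act 7 n18196 = n17590 := d31_2 (iv F69093) D18196 (iv D17590)
def n18197 : Q := act 4 n17585
theorem D18197 : act 4 n17585 = n18197 := rfl
theorem F71340 : act 2 n18197 = n17586 := d16_1 D18197 (iv D17586) D17585
theorem F71341 : act 6 n18197 = n17755 := d27_2 (iv F69095) D18197 (iv D17755)
theorem F71342 : act 7 n18197 = n17631 := d28_2 (iv F69096) D18197 (iv D17631)
theorem F71343 : act 8 n18197 = n17587 := d29_2 (iv F69097) D18197 (iv D17587)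
def n18198 : Q := act 5 n17586
theorem D18198 : act 5 n17586 = n18198 := rfl
theorem F71344 : act 1 n18198 = n17598 := d11_1 D18198 (iv D17598) (iv F69098)
theorem F71345 : act 7 n18198 = n17632 := d31_2 (iv F69100) D18198 (iv D17632)
theorem F71346 : act 8 n18198 = n17588 := d32_2 (iv F69101) D18198 (iv D17588)
def n18199 : Q := act 3 n17587
theorem D18199 : act 3 n17587 = n18199 := rfl
theorem F71347 : act 4 n18199 = n18199 := d21_2 D17587 D18199 (iv D18199) (iv D17587) F66968
theorem F71348 : act 6 n18199 = n17757 := d23_2 (iv F69103) D18199 (iv D17757)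
def n18200 : Q := act 5 n17587
theorem D18200 : act 5 n17587 = n18200 := rfl
theorem F71349 : act 2 n18200 = n17588 := d17_1 D18200 (iv D17588) (iv F69102)
theorem F71350 : act 7 n18200 = n17591 := d31_2 (iv F69104) D18200 (iv D17591)
def n18201 : Q := act 6 n17588
theorem D18201 : act 6 n17588 = n18201 := rfl
theorem F71351 : act 1 n18201 = n17599 := d12_1 D18201 (iv D17599) (iv F69105)
theorem F71352 : act 5 n18201 = n17759 := d30_1 D18201 (iv D17759) (iv D17152) (iv F66972) D17588
theorem F71353 : act 7 n18201 = n17592 := d33_2 (iv F69106) D18201 (iv D17592)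
def n18202 : Q := act 5 n17589
theorem D18202 : act 5 n17589 = n18202 := rfl
theorem F71354 : act 2 n18202 = n17590 := d17_1 D18202 (iv D17590) (iv F69107)
theorem F71355 : act 4 n18202 = n17591 := d26_1 D18202 (iv D17591) (iv D16982) (iv F66975) D17589
theorem F71356 : act 8 n18202 = n17638 := d32_2 (iv F69108) D18202 (iv D17638)
def n18203 : Q := act 6 n17590
theorem D18203 : act 6 n17590 = n18203 := rfl
theorem F71357 : act 1 n18203 = n17601 := d12_1 D18203 (iv D17601) (iv F69109)
theorem F71358 : act 4 n18203 = n17592 := d27_1 D18203 (iv D17592) (iv F69110)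
theorem F71359 : act 8 n18203 = n17639 := d34_2 (iv F69111) D18203 (iv D17639)
def n18204 : Q := act 6 n17591
theorem D18204 : act 6 n17591 = n18204 := rfl
theorem F71360 : act 2 n18204 = n17592 := d18_1 D18204 (iv D17592) (iv F69112)
theorem F71361 : act 5 n18204 = n17762 := d30_1 D18204 (iv D17762) (iv D17155) (iv F66980) D17591
theorem F71362 : act 8 n18204 = n17641 := d34_2 (iv F69113) D18204 (iv D17641)
def n18205 : Q := act 4 n17593
theorem D18205 : act 4 n17593 = n18205 := rfl
theorem F71363 : act 2 n18205 = n17594 := d16_1 D18205 (iv D17594) D17593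
theorem F71364 : act 6 n18205 = n17997 := d27_2 (iv F69119) D18205 (iv D17997)
theorem F71365 : act 8 n18205 = n17859 := d29_2 (iv F69120) D18205 F70049
def n18206 : Q := act 5 n17594
theorem D18206 : act 5 n17594 = n18206 := rfl
theorem F71366 : act 3 n18206 = n17597 := d22_1 D18206 (iv D17597) (iv F69121)
theorem F71367 : act 8 n18206 = n17995 := d32_2 (iv F69123) D18206 (iv D17995)
def n18207 : Q := act 5 n17595
theorem D18207 : act 5 n17595 = n18207 := rfl
theorem F71368 : act 3 n18207 = n17998 := d22_1 D18207 (iv D17998) (iv F69124)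
theorem F71369 : act 7 n18207 = n17600 := d31_2 (iv F69126) D18207 (iv D17600)
theorem F71370 : act 8 n18207 = n17994 := d32_2 (iv F69127) D18207 (iv D17994)
def n18208 : Q := act 5 n17596
theorem D18208 : act 5 n17596 = n18208 := rfl
theorem F71371 : act 3 n18208 = n17995 := d22_1 D18208 (iv D17995) (iv F69128)
theorem F71372 : act 4 n18208 = n17598 := d26_1 D18208 (iv D17598) (iv D16989) (iv F66993) D17596
theorem F71373 : act 7 n18208 = n17645 := d31_2 (iv F69130) D18208 (iv D17645)
theorem F71374 : act 8 n18208 = n17597 := d32_2 (iv F69131) D18208 (iv D17597)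
def n18209 : Q := act 6 n17597
theorem D18209 : act 6 n17597 = n18209 := rfl
theorem F71375 : act 4 n18209 = n17599 := d27_1 D18209 (iv D17599) (iv F69132)
theorem F71376 : act 7 n18209 = n17601 := d33_2 (iv F69133) D18209 (iv D17601)
def n18210 : Q := act 6 n17598
theorem D18210 : act 6 n17598 = n18210 := rfl
theorem F71377 : act 7 n18210 = n17649 := d33_2 (iv F69134) D18210 (iv D17649)
theorem F71378 : act 8 n18210 = n17599 := d34_2 (iv F69135) D18210 (iv D17599)
def n18211 : Q := act 6 n17600
theorem D18211 : act 6 n17600 = n18211 := rfl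
theorem F71379 : act 5 n18211 = n17601 := d30_1 D18211 (iv D17601) (iv D16992) (iv F67001) D17600
theorem F71380 : act 8 n18211 = n17653 := d34_2 (iv F69137) D18211 (iv D17653)
def n18212 : Q := act 4 n17602
theorem D18212 : act 4 n17602 = n18212 := rfl
theorem F71381 : act 2 n18212 = n17603 := d16_1 D18212 (iv D17603) D17602
theorem F71382 : act 6 n18212 = n17768 := d27_2 (iv F69141) D18212 (iv D17768)
theorem F71383 : act 8 n18212 = n17765 := d29_2 (iv F69142) D18212 (iv D17765)
def n18213 : Q := act 5 n17603
theorem D18213 : act 5 n17603 = n18213 := rfl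
theorem F71384 : act 1 n18213 = n17764 := d11_1 D18213 (iv D17764) (iv F69143)
theorem F71385 : act 3 n18213 = n17606 := d22_1 D18213 (iv D17606) (iv F69144)
theorem F71386 : act 8 n18213 = n17766 := d32_2 (iv F69146) D18213 (iv D17766)
def n18214 : Q := act 5 n17604
theorem D18214 : act 5 n17604 = n18214 := rfl
theorem F71387 : act 1 n18214 = n17766 := d11_1 D18214 (iv D17766) (iv F69147)
theorem F71388 : act 3 n18214 = n17769 := d22_1 D18214 (iv D17769) (iv F69148)
theorem F71389 : act 4 n18214 = n17644 := d26_1 D18214 (iv D17644) (iv D17033) (iv F67011) D17604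
theorem F71390 : act 7 n18214 = n17609 := d31_2 (iv F69150) D18214 (iv D17609)
theorem F71391 : act 8 n18214 = n17764 := d32_2 (iv F69151) D18214 (iv D17764)
def n18215 : Q := act 5 n17605
theorem D18215 : act 5 n17605 = n18215 := rfl
theorem F71392 : act 1 n18215 = n17769 := d11_1 D18215 (iv D17769) (iv F69152)
theorem F71393 : act 3 n18215 = n17766 := d22_1 D18215 (iv D17766) (iv F69153)
theorem F71394 : act 4 n18215 = n17607 := d26_1 D18215 (iv D17607) (iv D16998) (iv F67016) D17605
theorem F71395 : act 8 n18215 = n17606 := d32_2 (iv F69155) D18215 (iv D17606)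
def n18216 : Q := act 6 n17606
theorem D18216 : act 6 n17606 = n18216 := rfl
theorem F71396 : act 1 n18216 = n17773 := d12_1 D18216 (iv D17773) (iv F69156)
theorem F71397 : act 4 n18216 = n17608 := d27_1 D18216 (iv D17608) (iv F69157)
theorem F71398 : act 7 n18216 = n17610 := d33_2 (iv F69158) D18216 (iv D17610)
def n18217 : Q := act 6 n17607
theorem D18217 : act 6 n17607 = n18217 := rfl
theorem F71399 : act 1 n18217 = n17778 := d12_1 D18217 (iv D17778) (iv F69159)
theorem F71400 : act 5 n18217 = n17649 := d30_1 D18217 (iv D17649) (iv D17038) (iv F67022) D17607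
theorem F71401 : act 8 n18217 = n17608 := d34_2 (iv F69160) D18217 (iv D17608)
def n18218 : Q := act 6 n17609
theorem D18218 : act 6 n17609 = n18218 := rfl
theorem F71402 : act 1 n18218 = n17785 := d12_1 D18218 (iv D17785) (iv F69164)
theorem F71403 : act 4 n18218 = n17653 := d27_1 D18218 (iv D17653) (iv F69165)
theorem F71404 : act 5 n18218 = n17610 := d30_1 D18218 (iv D17610) (iv D17001) (iv F67027) D17609
def n18219 : Q := act 2 n17611
theorem D18219 : act 2 n17611 = n18219 := rfl
theorem F71405 : act 0 n18219 = n17625 := d1_1 D18219 (iv D17625) (iv F69168)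
theorem F71406 : act 3 n18219 = n17657 := d15_2 D17611 D18219 (iv D17657) (iv D17054) (iv F67035)
theorem F71407 : act 5 n18219 = n17908 := d17_2 (iv F69170) D18219 (iv D17908)
theorem F71408 : act 6 n18219 = n17893 := d18_2 F69176 D18219 F70195
theorem F71409 : act 7 n18219 = n17976 := d19_2 (iv F69171) D18219 (iv D17976)
theorem F71410 : act 8 n18219 = n17866 := d20_2 (iv F69172) D18219 F70075
theorem F71411 : act 1 n18002 = n18219 := d14_3 F71410 F70074 (iv F70632)
def n18220 : Q := act 4 n17611
theorem D18220 : act 4 n17611 = n18220 := rfl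
theorem F71412 : act 0 n18220 = n17626 := d3_1 D18220 (iv D17626) (iv F69168)
theorem F71413 : act 1 n18220 = n17919 := d10_1 D18220 (iv D17919) (iv F69169)
theorem F71414 : act 3 n18220 = n17614 := d21_1 D18220 (iv D17614) (iv D17005) (iv F67036) D17611
theorem F71415 : act 7 n18220 = n17977 := d28_2 (iv F69171) D18220 (iv D17977)
theorem F71416 : act 8 n18220 = n17907 := d29_2 (iv F69172) D18220 (iv D17907)
def n18221 : Q := act 4 n17612
theorem D18221 : act 4 n17612 = n18221 := rfl
theorem F71417 : act 0 n18221 = n17628 := d3_1 D18221 (iv D17628) (iv F69173)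
theorem F71418 : act 1 n18221 = n17916 := d10_1 D18221 (iv D17916) (iv F69174)
theorem F71419 : act 3 n18221 = n17907 := d21_1 D18221 (iv D17907) (iv D17297) (iv F67042) D17612
theorem F71420 : act 6 n18221 = n18220 := d27_2 (iv F69176) D18221 (iv D18220)
theorem F71421 : act 7 n18221 = n18193 := d28_2 (iv F69177) D18221 (iv D18193)
theorem F71422 : act 8 n18221 = n17614 := d29_2 (iv F69178) D18221 (iv D17614)
def n18222 : Q := act 4 n17613
theorem D18222 : act 4 n17613 = n18222 := rfl
theorem F71423 : act 0 n18222 = n17629 := d3_1 D18222 (iv D17629) (iv F69179)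
theorem F71424 : act 2 n18222 = n17614 := d16_1 D18222 (iv D17614) D17613
theorem F71425 : act 3 n18222 = n18181 := d21_1 D18222 (iv D18181) F69040 (iv F67196) (iv F69180)
theorem F71426 : act 7 n18222 = n17620 := d28_2 (iv F69182) D18222 (iv D17620)
def n18223 : Q := act 5 n17614
theorem D18223 : act 5 n17614 = n18223 := rfl
theorem F71427 : act 0 n18223 = n17630 := d4_1 D18223 (iv D17630) (iv F69183)
theorem F71428 : act 4 n18223 = n17619 := d26_1 D18223 (iv D17619) (iv D17008) (iv F67047) D17614
theorem F71429 : act 7 n18223 = n17621 := d31_2 (iv F69184) D18223 (iv D17621)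
def n18224 : Q := act 1 n17615
theorem D18224 : act 1 n17615 = n18224 := rfl
theorem F71430 : act 3 n18224 = n17658 := d9_2 (iv F69186) D18224 (iv D17658)
theorem F71431 : act 6 n18224 = n17710 := d12_2 (iv F69187) D18224 (iv D17710)
theorem F71432 : act 8 n18224 = n17617 := d14_2 (iv F69188) D18224 (iv D17617)
def n18225 : Q := act 4 n17615
theorem D18225 : act 4 n17615 = n18225 := rfl
theorem F71433 : act 0 n18225 = n17631 := d3_1 D18225 (iv D17631) (iv F69185)
theorem F71434 : act 2 n18225 = n17616 := d16_1 D18225 (iv D17616) D17615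
theorem F71435 : act 3 n18225 = n18168 := d21_1 D18225 (iv D18168) F69018 F67256 (iv F69186)
theorem F71436 : act 6 n18225 = n17711 := d27_2 (iv F69187) D18225 (iv D17711)
theorem F71437 : act 8 n18225 = n17618 := d29_2 (iv F69188) D18225 (iv D17618)
def n18226 : Q := act 5 n17616
theorem D18226 : act 5 n17616 = n18226 := rfl
theorem F71438 : act 0 n18226 = n17632 := d4_1 D18226 (iv D17632) (iv F69189)
theorem F71439 : act 3 n18226 = n18086 := d22_1 D18226 (iv D18086) (iv F69190)
theorem F71440 : act 8 n18226 = n17619 := d32_2 (iv F69192) D18226 (iv D17619)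
def n18227 : Q := act 4 n17617
theorem D18227 : act 4 n17617 = n18227 := rfl
theorem F71441 : act 1 n18227 = n17618 := d10_1 D18227 (iv D17618) D17617
theorem F71442 : act 3 n18227 = n18171 := d21_1 D18227 (iv D18171) F69022 F67260 (iv F69193)
theorem F71443 : act 6 n18227 = n17714 := d27_2 (iv F69194) D18227 (iv D17714)
theorem F71444 : act 7 n18227 = n17622 := d28_2 (iv F69195) D18227 (iv D17622)
def n18228 : Q := act 5 n17618
theorem D18228 : act 5 n17618 = n18228 := rfl
theorem F71445 : act 0 n18228 = n17635 := d4_1 D18228 (iv D17635) (iv F69196)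
theorem F71446 : act 2 n18228 = n17619 := d17_1 D18228 (iv D17619) (iv F69197)
theorem F71447 : act 3 n18228 = n18172 := d22_1 D18228 (iv D18172) (iv F69198)
theorem F71448 : act 7 n18228 = n17623 := d31_2 (iv F69200) D18228 (iv D17623)
def n18229 : Q := act 6 n17619
theorem D18229 : act 6 n17619 = n18229 := rfl
theorem F71449 : act 0 n18229 = n17636 := d5_1 D18229 (iv D17636) (iv F69201)
theorem F71450 : act 3 n18229 = n18087 := d23_1 D18229 (iv D18087) (iv F69202)
theorem F71451 : act 5 n18229 = n17717 := d30_1 D18229 (iv D17717) (iv D17112) (iv F67058) D17619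
theorem F71452 : act 7 n18229 = n17624 := d33_2 (iv F69203) D18229 (iv D17624)
def n18230 : Q := act 5 n17620
theorem D18230 : act 5 n17620 = n18230 := rfl
theorem F71453 : act 0 n18230 = n17638 := d4_1 D18230 (iv D17638) (iv F69204)
theorem F71454 : act 2 n18230 = n17621 := d17_1 D18230 (iv D17621) (iv F69205)
theorem F71455 : act 4 n18230 = n17623 := d26_1 D18230 (iv D17623) (iv D17012) (iv F67062) D17620
def n18231 : Q := act 6 n17621
theorem D18231 : act 6 n17621 = n18231 := rfl
theorem F71456 : act 0 n18231 = n17639 := d5_1 D18231 (iv D17639) (iv F69206)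
theorem F71457 : act 4 n18231 = n17624 := d27_1 D18231 (iv D17624) (iv F69207)
def n18232 : Q := act 5 n17622
theorem D18232 : act 5 n17622 = n18232 := rfl
theorem F71458 : act 1 n18232 = n17623 := d11_1 D18232 (iv D17623) (iv F69208)
theorem F71459 : act 3 n18232 = n17638 := d22_1 D18232 (iv D17638) (iv F69209)
def n18233 : Q := act 6 n17623
theorem D18233 : act 6 n17623 = n18233 := rfl
theorem F71460 : act 0 n18233 = n17641 := d5_1 D18233 (iv D17641) (iv F69211)
theorem F71461 : act 2 n18233 = n17624 := d18_1 D18233 (iv D17624) (iv F69212)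
theorem F71462 : act 5 n18233 = n17722 := d30_1 D18233 (iv D17722) (iv D17117) (iv F67068) D17623
def n18234 : Q := act 4 n17625
theorem D18234 : act 4 n17625 = n18234 := rfl
theorem F71463 : act 1 n18234 = n17864 := d10_1 D18234 (iv D17864) (iv F69216)
theorem F71464 : act 2 n18234 = n17626 := d16_1 D18234 (iv D17626) D17625
theorem F71465 : act 3 n18234 = n18158 := d21_1 D18234 (iv D18158) F68988 (iv F67207) (iv F69217)
theorem F71466 : act 6 n18234 = n17894 := d27_2 (iv F69219) D18234 (iv D17894)
theorem F71467 : act 8 n18234 = n17867 := d29_2 (iv F69220) D18234 (iv D17867)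
def n18235 : Q := act 5 n17626
theorem D18235 : act 5 n17626 = n18235 := rfl
theorem F71468 : act 1 n18235 = n17643 := d11_1 D18235 (iv D17643) (iv F69221)
theorem F71469 : act 3 n18235 = n17630 := d22_1 D18235 (iv D17630) (iv F69222)
theorem F71470 : act 4 n18235 = n18213 := d26_1 D18235 (iv D18213) (iv D17603) (iv F67075) D17626
def n18236 : Q := act 5 n17627
theorem D18236 : act 5 n17627 = n18236 := rfl
theorem F71471 : act 1 n18236 = n17644 := d11_1 D18236 (iv D17644) (iv F69223)
theorem F71472 : act 4 n18236 = n17766 := d26_1 D18236 (iv D17766) (iv D17160) (iv F67077) D17627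
theorem F71473 : act 7 n18236 = n17637 := d31_2 (iv F69225) D18236 (iv D17637)
theorem F71474 : act 8 n18236 = n18235 := d32_2 (iv F69226) D18236 (iv D18235)
def n18237 : Q := act 5 n17628
theorem D18237 : act 5 n17628 = n18237 := rfl
theorem F71475 : act 1 n18237 = n17645 := d11_1 D18237 (iv D17645) (iv F69227)
theorem F71476 : act 3 n18237 = n18236 := d22_1 D18237 (iv D18236) (iv F69228)
theorem F71477 : act 4 n18237 = n17632 := d26_1 D18237 (iv D17632) (iv D17021) (iv F67082) D17628
theorem F71478 : act 8 n18237 = n17630 := d32_2 (iv F69230) D18237 (iv D17630)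
def n18238 : Q := act 5 n17629
theorem D18238 : act 5 n17629 = n18238 := rfl
theorem F71479 : act 1 n18238 = n18127 := d11_1 D18238 (iv D18127) (iv F69231)
theorem F71480 : act 2 n18238 = n17630 := d17_1 D18238 (iv D17630) (iv F69232)
theorem F71481 : act 3 n18238 = n18182 := d22_1 D18238 (iv D18182) (iv F69233)
theorem F71482 : act 4 n18238 = n17635 := d26_1 D18238 (iv D17635) (iv D17023) (iv F67087) D17629
theorem F71483 : act 7 n18238 = n17638 := d31_2 (iv F69234) D18238 (iv D17638)
def n18239 : Q := act 6 n17630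
theorem D18239 : act 6 n17630 = n18239 := rfl
theorem F71484 : act 1 n18239 = n17647 := d12_1 D18239 (iv D17647) (iv F69235)
theorem F71485 : act 4 n18239 = n17636 := d27_1 D18239 (iv D17636) (iv F69236)
theorem F71486 : act 7 n18239 = n17639 := d33_2 (iv F69237) D18239 (iv D17639)
def n18240 : Q := act 3 n17631
theorem D18240 : act 3 n17631 = n18240 := rfl
theorem F71487 : act 0 n18240 = n18168 := d2_1 D18240 (iv F71435) F71433
theorem F71488 : act 2 n18240 = n18048 := d15_1 D18240 F70796 F68648 (iv F67095) (iv F69238)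
theorem F71489 : act 4 n18240 = n17659 := d21_2 D17631 D18240 (iv D17659) (iv D17060) (iv F67091)
theorem F71490 : act 6 n18240 = n17776 := d23_2 (iv F69239) D18240 (iv D17776)
theorem F71491 : act 8 n18240 = n17634 := d25_2 (iv F69240) D18240 (iv D17634)
def n18241 : Q := act 5 n17631
theorem D18241 : act 5 n17631 = n18241 := rfl
theorem F71492 : act 2 n18241 = n17632 := d17_1 D18241 (iv D17632) (iv F69238)
theorem F71493 : act 8 n18241 = n17635 := d32_2 (iv F69240) D18241 (iv D17635)
def n18242 : Q := act 6 n17632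
theorem D18242 : act 6 n17632 = n18242 := rfl
theorem F71494 : act 1 n18242 = n17649 := d12_1 D18242 (iv D17649) (iv F69241)
theorem F71495 : act 3 n18242 = n18217 := d23_1 D18242 (iv D18217) (iv F69242)
theorem F71496 : act 5 n18242 = n17778 := d30_1 D18242 (iv D17778) (iv D17168) (iv F67096) D17632
theorem F71497 : act 8 n18242 = n17636 := d34_2 (iv F69243) D18242 (iv D17636)
def n18243 : Q := act 3 n17633
theorem D18243 : act 3 n17633 = n18243 := rfl
theorem F71498 : act 1 n18243 = n17634 := d9_1 D18243 (iv D17634) (iv F69244)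
theorem F71499 : act 4 n18243 = n17660 := d21_2 D17633 D18243 (iv D17660) (iv D17061) (iv F67099)
theorem F71500 : act 6 n18243 = n17780 := d23_2 (iv F69246) D18243 (iv D17780)
theorem F71501 : act 7 n18243 = n18054 := d24_2 (iv F69247) D18243 F70815 F70463 F68273
def n18244 : Q := act 5 n17633
theorem D18244 : act 5 n17633 = n18244 := rfl
theorem F71502 : act 1 n18244 = n17635 := d11_1 D18244 (iv D17635) (iv F69244)
theorem F71503 : act 2 n18244 = n17650 := d17_1 D18244 (iv D17650) (iv F69245)
theorem F71504 : act 4 n18244 = n18127 := d26_1 D18244 (iv D18127) (iv D17517) (iv F67100) D17633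
theorem F71505 : act 7 n18244 = n17640 := d31_2 (iv F69247) D18244 (iv D17640)
def n18245 : Q := act 5 n17634
theorem D18245 : act 5 n17634 = n18245 := rfl
theorem F71506 : act 0 n18245 = n18172 := d4_1 D18245 (iv D18172) (iv F69248)
theorem F71507 : act 2 n18245 = n18049 := d17_1 D18245 (iv D18049) (iv F69249)
theorem F71508 : act 3 n18245 = n17635 := d22_1 D18245 (iv D17635) D17634
theorem F71509 : act 7 n18245 = n18055 := d31_2 (iv F69252) D18245 (iv D18055)
def n18246 : Q := act 6 n17635
theorem D18246 : act 6 n17635 = n18246 := rfl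
theorem F71510 : act 2 n18246 = n17636 := d18_1 D18246 (iv D17636) (iv F69253)
theorem F71511 : act 5 n18246 = n17783 := d30_1 D18246 (iv D17783) (iv D17172) (iv F67104) D17635
theorem F71512 : act 7 n18246 = n17641 := d33_2 (iv F69254) D18246 (iv D17641)
def n18247 : Q := act 6 n17637
theorem D18247 : act 6 n17637 = n18247 := rfl
theorem F71513 : act 1 n18247 = n17653 := d12_1 D18247 (iv D17653) (iv F69259)
theorem F71514 : act 4 n18247 = n17785 := d27_1 D18247 (iv D17785) (iv F69260)
theorem F71515 : act 5 n18247 = n17639 := d30_1 D18247 (iv D17639) (iv D17027) (iv F67110) D17637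
def n18248 : Q := act 6 n17638
theorem D18248 : act 6 n17638 = n18248 := rfl
theorem F71516 : act 2 n18248 = n17639 := d18_1 D18248 (iv D17639) (iv F69261)
theorem F71517 : act 4 n18248 = n17641 := d27_1 D18248 (iv D17641) (iv F69262)
def n18249 : Q := act 6 n17640
theorem D18249 : act 6 n17640 = n18249 := rfl
theorem F71518 : act 1 n18249 = n17641 := d12_1 D18249 (iv D17641) (iv F69265)
theorem F71519 : act 2 n18249 = n17655 := d18_1 D18249 (iv D17655) (iv F69266)
theorem F71520 : act 5 n18249 = n17791 := d30_1 D18249 (iv D17791) (iv D17181) (iv F67116) D17640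
def n18250 : Q := act 5 n17642
theorem D18250 : act 5 n17642 = n18250 := rfl
theorem F71521 : act 0 n18250 = n18139 := d4_1 D18250 (iv D18139) (iv F69269)
theorem F71522 : act 1 n18250 = n17865 := d11_1 D18250 (iv D17865) (iv F69270)
theorem F71523 : act 2 n18250 = n17643 := d17_1 D18250 (iv D17643) (iv F69271)
theorem F71524 : act 3 n18250 = n17878 := d22_1 D18250 (iv D17878) (iv F69272)
theorem F71525 : act 8 n18250 = n17855 := d32_2 (iv F69274) D18250 (iv D17855)
def n18251 : Q := act 6 n17643
theorem D18251 : act 6 n17643 = n18251 := rfl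
theorem F71526 : act 3 n18251 = n17647 := d23_1 D18251 (iv D17647) (iv F69275)
def n18252 : Q := act 6 n17644
theorem D18252 : act 6 n17644 = n18252 := rfl
theorem F71527 : act 5 n18252 = n17647 := d30_1 D18252 (iv D17647) (iv D17036) (iv F67127) D17644
theorem F71528 : act 7 n18252 = n17653 := d33_2 (iv F69276) D18252 (iv D17653)
theorem F71529 : act 8 n18252 = n18251 := d34_2 (iv F69277) D18252 (iv D18251)
def n18253 : Q := act 6 n17645
theorem D18253 : act 6 n17645 = n18253 := rfl
theorem F71530 : act 3 n18253 = n18252 := d23_1 D18253 (iv D18252) (iv F69278)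
theorem F71531 : act 4 n18253 = n17649 := d27_1 D18253 (iv D17649) (iv F69279)
theorem F71532 : act 5 n18253 = n18251 := d30_1 D18253 (iv D18251) (iv D17643) (iv F67131) D17645
theorem F71533 : act 8 n18253 = n17647 := d34_2 (iv F69280) D18253 (iv D17647)
def n18254 : Q := act 6 n17646
theorem D18254 : act 6 n17646 = n18254 := rfl
theorem F71534 : act 1 n18254 = n18128 := d12_1 D18254 (iv D18128) (iv F69281)
theorem F71535 : act 2 n18254 = n17647 := d18_1 D18254 (iv D17647) (iv F69282)
theorem F71536 : act 3 n18254 = n18126 := d23_1 D18254 (iv D18126) (iv F69283)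
theorem F71537 : act 4 n18254 = n17652 := d27_1 D18254 (iv D17652) (iv F69284)
theorem F71538 : act 7 n18254 = n17654 := d33_2 (iv F69285) D18254 (iv D17654)
def n18255 : Q := act 6 n17648
theorem D18255 : act 6 n17648 = n18255 := rfl
theorem F71539 : act 2 n18255 = n17649 := d18_1 D18255 (iv D17649) (iv F69288)
theorem F71540 : act 8 n18255 = n17652 := d34_2 (iv F69289) D18255 (iv D17652)
def n18256 : Q := act 6 n17650
theorem D18256 : act 6 n17650 = n18256 := rfl
theorem F71541 : act 1 n18256 = n17652 := d12_1 D18256 (iv D17652) (iv F69291)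
theorem F71542 : act 4 n18256 = n18128 := d27_1 D18256 (iv D18128) (iv F69292)
theorem F71543 : act 7 n18256 = n17655 := d33_2 (iv F69293) D18256 (iv D17655)
def n18257 : Q := act 6 n17651
theorem D18257 : act 6 n17651 = n18257 := rfl
theorem F71544 : act 3 n18257 = n17652 := d23_1 D18257 (iv D17652) (iv F69294)
theorem F71545 : act 4 n18257 = n18146 := d27_1 D18257 (iv D18146) (iv F69295)
def n18258 : Q := act 1 n17663
theorem D18258 : act 1 n17663 = n18258 := rfl
theorem F71546 : act 2 n18258 = n18258 := d8_2 D17663 D18258 (iv D18258) (iv D17663) F67246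
theorem F71547 : act 5 n18258 = n17665 := d11_2 (iv F69339) D18258 (iv D17665)
theorem F71548 : act 6 n18258 = n17679 := d12_2 (iv F69340) D18258 (iv D17679)
theorem F71549 : act 7 n18258 = n18258 := d13_2 F69341 D18258 (iv D18258)
theorem F71550 : act 8 n18258 = n17664 := d14_2 (iv F69342) D18258 (iv D17664)
def n18259 : Q := act 0 n17665
theorem D18259 : act 0 n17665 = n18259 := rfl
theorem F71551 : act 1 n18259 = n17812 := d0_2 D17665 D18259 F69806 F68020 (iv F67255)
theorem F71552 : act 2 n18259 = n18259 := d1_2 F69347 D18259 (iv D18259)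
theorem F71553 : act 4 n18259 = n17811 := d3_2 (iv F69348) D18259 F69800
theorem F71554 : act 7 n18259 = n18259 := d6_2 F69349 D18259 (iv D18259)
theorem F71555 : act 8 n18259 = n17666 := d7_2 (iv F69350) D18259 (iv D17666)
def n18260 : Q := act 1 n17667
theorem D18260 : act 1 n17667 = n18260 := rfl
theorem F71556 : act 2 n18260 = n17675 := d8_2 D17667 D18260 (iv D17675) (iv D17080) (iv F67280)
theorem F71557 : act 3 n18260 = n18260 := d9_2 F69355 D18260 (iv D18260)
theorem F71558 : act 8 n18260 = n18042 := d14_2 (iv F69356) D18260 (iv D18042)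
def n18261 : Q := act 4 n17667
theorem D18261 : act 4 n17667 = n18261 := rfl
theorem F71559 : act 2 n18261 = n17668 := d16_1 D18261 (iv D17668) D17667
theorem F71560 : act 8 n18261 = n18043 := d29_2 (iv F69356) D18261 (iv D18043)
def n18262 : Q := act 5 n17668
theorem D18262 : act 5 n17668 = n18262 := rfl
theorem F71561 : act 1 n18262 = n17677 := d11_1 D18262 (iv D17677) (iv F69357)
theorem F71562 : act 3 n18262 = n17670 := d22_1 D18262 (iv D17670) (iv F69358)
theorem F71563 : act 8 n18262 = n18044 := d32_2 (iv F69359) D18262 (iv D18044)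
def n18263 : Q := act 3 n17669
theorem D18263 : act 3 n17669 = n18263 := rfl
theorem F71564 : act 4 n18263 = n18263 := d21_2 D17669 D18263 (iv D18263) (iv D17669) F67282
theorem F71565 : act 8 n18263 = n18045 := d25_2 (iv F69362) D18263 (iv D18045)
def n18264 : Q := act 5 n17669
theorem D18264 : act 5 n17669 = n18264 := rfl
theorem F71566 : act 2 n18264 = n17670 := d17_1 D18264 (iv D17670) (iv F69360)
theorem F71567 : act 7 n18264 = n17683 := d31_2 (iv F69361) D18264 (iv D17683)
theorem F71568 : act 8 n18264 = n18046 := d32_2 (iv F69362) D18264 (iv D18046)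
def n18265 : Q := act 6 n17670
theorem D18265 : act 6 n17670 = n18265 := rfl
theorem F71569 : act 1 n18265 = n17678 := d12_1 D18265 (iv D17678) (iv F69363)
theorem F71570 : act 7 n18265 = n17684 := d33_2 (iv F69364) D18265 (iv D17684)
theorem F71571 : act 8 n18265 = n18047 := d34_2 (iv F69365) D18265 (iv D18047)
def n18266 : Q := act 1 n17671
theorem D18266 : act 1 n17671 = n18266 := rfl
theorem F71572 : act 3 n18266 = n18266 := d9_2 F69367 D18266 (iv D18266)
theorem F71573 : act 5 n18266 = n18260 := d11_2 (iv F69368) D18266 (iv D18260)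
theorem F71574 : act 7 n18266 = n17675 := d13_2 (iv F69369) D18266 (iv D17675)
def n18267 : Q := act 4 n17671
theorem D18267 : act 4 n17671 = n18267 := rfl
theorem F71575 : act 0 n18267 = n17736 := d3_1 D18267 (iv D17736) (iv F69366)
theorem F71576 : act 2 n18267 = n17672 := d16_1 D18267 (iv D17672) D17671
theorem F71577 : act 7 n18267 = n17676 := d28_2 (iv F69369) D18267 (iv D17676)
def n18268 : Q := act 5 n17672
theorem D18268 : act 5 n17672 = n18268 := rfl
theorem F71578 : act 0 n18268 = n17737 := d4_1 D18268 (iv D17737) (iv F69370)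
theorem F71579 : act 3 n18268 = n17689 := d22_1 D18268 (iv D17689) (iv F69371)
theorem F71580 : act 4 n18268 = n18262 := d26_1 D18268 (iv D18262) (iv D17668) (iv F67289) D17672
theorem F71581 : act 7 n18268 = n17677 := d31_2 (iv F69372) D18268 (iv D17677)
def n18269 : Q := act 1 n17673
theorem D18269 : act 1 n17673 = n18269 := rfl
theorem F71582 : act 2 n18269 = n18266 := d8_2 D17673 D18269 (iv D18266) (iv D17671) (iv F67292)
theorem F71583 : act 3 n18269 = n17679 := d9_2 (iv F69374) D18269 (iv D17679)
theorem F71584 : act 5 n18269 = n17675 := d11_2 (iv F69375) D18269 (iv D17675)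
theorem F71585 : act 7 n18269 = n18260 := d13_2 (iv F69376) D18269 (iv D18260)
theorem F71586 : act 8 n18269 = n18050 := d14_2 (iv F69377) D18269 (iv D18050)
def n18270 : Q := act 4 n17673
theorem D18270 : act 4 n17673 = n18270 := rfl
theorem F71587 : act 0 n18270 = n17741 := d3_1 D18270 (iv D17741) (iv F69373)
theorem F71588 : act 2 n18270 = n17674 := d16_1 D18270 (iv D17674) D17673
theorem F71589 : act 7 n18270 = n18261 := d28_2 (iv F69376) D18270 (iv D18261)
theorem F71590 : act 8 n18270 = n18051 := d29_2 (iv F69377) D18270 (iv D18051)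
def n18271 : Q := act 5 n17674
theorem D18271 : act 5 n17674 = n18271 := rfl
theorem F71591 : act 0 n18271 = n17742 := d4_1 D18271 (iv D17742) (iv F69378)
theorem F71592 : act 1 n18271 = n18268 := d11_1 D18271 (iv D18268) (iv F69379)
theorem F71593 : act 3 n18271 = n17952 := d22_1 D18271 (iv D17952) (iv F69380)
theorem F71594 : act 4 n18271 = n17677 := d26_1 D18271 (iv D17677) (iv D17081) (iv F67293) D17674
theorem F71595 : act 7 n18271 = n18262 := d31_2 (iv F69381) D18271 (iv D18262)
theorem F71596 : act 8 n18271 = n18052 := d32_2 (iv F69382) D18271 (iv D18052)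
def n18272 : Q := act 0 n17675
theorem D18272 : act 0 n17675 = n18272 := rfl
theorem F71597 : act 1 n18272 = n17743 := d0_2 D17675 D18272 (iv D17743) (iv D17137) (iv F67296)
theorem F71598 : act 3 n18272 = n17681 := d2_2 (iv F69383) D18272 (iv D17681)
theorem F71599 : act 8 n18272 = n18053 := d7_2 (iv F69384) D18272 (iv D18053)
def n18273 : Q := act 4 n17675
theorem D18273 : act 4 n17675 = n18273 := rfl
theorem F71600 : act 1 n18273 = n17676 := d10_1 D18273 (iv D17676) D17675
theorem F71601 : act 8 n18273 = n18054 := d29_2 (iv F69384) D18273 (iv D18054)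
def n18274 : Q := act 5 n17676
theorem D18274 : act 5 n17676 = n18274 := rfl
theorem F71602 : act 0 n18274 = n17745 := d4_1 D18274 (iv D17745) (iv F69385)
theorem F71603 : act 2 n18274 = n17677 := d17_1 D18274 (iv D17677) (iv F69386)
theorem F71604 : act 8 n18274 = n18055 := d32_2 (iv F69387) D18274 (iv D18055)
def n18275 : Q := act 6 n17677
theorem D18275 : act 6 n17677 = n18275 := rfl
theorem F71605 : act 0 n18275 = n17746 := d5_1 D18275 (iv D17746) (iv F69388)
theorem F71606 : act 3 n18275 = n17678 := d23_1 D18275 (iv D17678) (iv F69389)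
theorem F71607 : act 8 n18275 = n18056 := d34_2 (iv F69390) D18275 (iv D18056)
def n18276 : Q := act 0 n17679
theorem D18276 : act 0 n17679 = n18276 := rfl
theorem F71608 : act 1 n18276 = n17747 := d0_2 D17679 D18276 (iv D17747) (iv D17142) (iv F67305)
theorem F71609 : act 2 n18276 = n18276 := d1_2 F69394 D18276 (iv D18276)
theorem F71610 : act 5 n18276 = n17681 := d4_2 (iv F69395) D18276 (iv D17681)
theorem F71611 : act 7 n18276 = n18276 := d6_2 F69396 D18276 (iv D18276)
theorem F71612 : act 8 n18276 = n18057 := d7_2 (iv F69397) D18276 (iv D18057)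
theorem F71613 : act 4 n18258 = n18276 := d29_3 F71612 (iv F70826) (iv F71550)
def n18277 : Q := act 4 n17679
theorem D18277 : act 4 n17679 = n18277 := rfl
theorem F71614 : act 0 n18277 = n18258 := d3_1 D18277 F71613 (iv D18276)
theorem F71615 : act 1 n18277 = n17680 := d10_1 D18277 (iv D17680) D17679
theorem F71616 : act 2 n18277 = n18277 := d16_1 D18277 (iv D18277) F69394
theorem F71617 : act 5 n18277 = n18259 := d26_2 (iv F69395) D18277 F71553 F69802 F67667
theorem F71618 : act 6 n18277 = n18276 := d27_2 F71548 D18277 (iv F71613)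
theorem F71619 : act 7 n18277 = n18277 := d28_2 F69396 D18277 (iv D18277)
theorem F71620 : act 8 n18277 = n18058 := d29_2 (iv F69397) D18277 (iv D18058)
def n18278 : Q := act 3 n17680
theorem D18278 : act 3 n17680 = n18278 := rfl
theorem F71621 : act 0 n18278 = n17748 := d2_1 D18278 (iv D17748) (iv F69398)
theorem F71622 : act 2 n18278 = n18017 := d15_1 D18278 (iv D18017) F68414 (iv F67311) (iv F69399)
theorem F71623 : act 8 n18278 = n18059 := d25_2 (iv F69401) D18278 (iv D18059)
def n18279 : Q := act 5 n17682
theorem D18279 : act 5 n17682 = n18279 := rfl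
theorem F71624 : act 3 n18279 = n17683 := d22_1 D18279 (iv D17683) D17682
theorem F71625 : act 8 n18279 = n17702 := d32_2 (iv F69407) D18279 (iv D17702)
def n18280 : Q := act 7 n17682
theorem D18280 : act 7 n17682 = n18280 := rfl
theorem F71626 : act 4 n18280 = n17728 := d28_1 D18280 (iv D17728) (iv F69406)
def n18281 : Q := act 6 n17683
theorem D18281 : act 6 n17683 = n18281 := rfl
theorem F71627 : act 2 n18281 = n17684 := d18_1 D18281 (iv D17684) (iv F69408)
theorem F71628 : act 8 n18281 = n17704 := d34_2 (iv F69409) D18281 (iv D17704)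
def n18282 : Q := act 1 n17685
theorem D18282 : act 1 n17685 = n18282 := rfl
theorem F71629 : act 3 n18282 = n18282 := d9_2 F69413 D18282 (iv D18282)
theorem F71630 : act 7 n18282 = n17710 := d13_2 (iv F69414) D18282 (iv D17710)
theorem F71631 : act 8 n18282 = n17687 := d14_2 (iv F69415) D18282 (iv D17687)
def n18283 : Q := act 4 n17685
theorem D18283 : act 4 n17685 = n18283 := rfl
theorem F71632 : act 0 n18283 = n17755 := d3_1 D18283 (iv D17755) (iv F69412)
theorem F71633 : act 2 n18283 = n17686 := d16_1 D18283 (iv D17686) D17685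
theorem F71634 : act 7 n18283 = n17711 := d28_2 (iv F69414) D18283 (iv D17711)
theorem F71635 : act 8 n18283 = n17688 := d29_2 (iv F69415) D18283 (iv D17688)
def n18284 : Q := act 5 n17686
theorem D18284 : act 5 n17686 = n18284 := rfl
theorem F71636 : act 0 n18284 = n17756 := d4_1 D18284 (iv D17756) (iv F69416)
theorem F71637 : act 7 n18284 = n17712 := d31_2 (iv F69417) D18284 (iv D17712)
theorem F71638 : act 8 n18284 = n17689 := d32_2 (iv F69418) D18284 (iv D17689)
def n18285 : Q := act 4 n17687
theorem D18285 : act 4 n17687 = n18285 := rfl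
theorem F71639 : act 1 n18285 = n17688 := d10_1 D18285 (iv D17688) D17687
theorem F71640 : act 7 n18285 = n17690 := d28_2 (iv F69420) D18285 (iv D17690)
def n18286 : Q := act 3 n17688
theorem D18286 : act 3 n17688 = n18286 := rfl
theorem F71641 : act 0 n18286 = n17757 := d2_1 D18286 (iv D17757) (iv F69421)
theorem F71642 : act 4 n18286 = n18286 := d21_2 D17688 D18286 (iv D18286) (iv D17688) F67325
def n18287 : Q := act 5 n17688
theorem D18287 : act 5 n17688 = n18287 := rfl
theorem F71643 : act 0 n18287 = n17758 := d4_1 D18287 (iv D17758) (iv F69421)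
theorem F71644 : act 2 n18287 = n17689 := d17_1 D18287 (iv D17689) (iv F69422)
theorem F71645 : act 7 n18287 = n17691 := d31_2 (iv F69423) D18287 (iv D17691)
def n18288 : Q := act 6 n17689
theorem D18288 : act 6 n17689 = n18288 := rfl
theorem F71646 : act 0 n18288 = n17759 := d5_1 D18288 (iv D17759) (iv F69424)
theorem F71647 : act 7 n18288 = n17692 := d33_2 (iv F69425) D18288 (iv D17692)
def n18289 : Q := act 5 n17690
theorem D18289 : act 5 n17690 = n18289 := rfl
theorem F71648 : act 1 n18289 = n17691 := d11_1 D18289 (iv D17691) (iv F69426)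
theorem F71649 : act 8 n18289 = n17721 := d32_2 (iv F69427) D18289 (iv D17721)
def n18290 : Q := act 6 n17691
theorem D18290 : act 6 n17691 = n18290 := rfl
theorem F71650 : act 0 n18290 = n17762 := d5_1 D18290 (iv D17762) (iv F69428)
theorem F71651 : act 2 n18290 = n17692 := d18_1 D18290 (iv D17692) (iv F69429)
theorem F71652 : act 8 n18290 = n17722 := d34_2 (iv F69430) D18290 (iv D17722)
def n18291 : Q := act 1 n17693
theorem D18291 : act 1 n17693 = n18291 := rfl
theorem F71653 : act 2 n18291 = n17710 := d8_2 D17693 D18291 (iv D17710) (iv D17108) (iv F67339)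
theorem F71654 : act 3 n18291 = n18291 := d9_2 F69434 D18291 (iv D18291)
theorem F71655 : act 8 n18291 = n17695 := d14_2 (iv F69435) D18291 (iv D17695)
def n18292 : Q := act 4 n17693
theorem D18292 : act 4 n17693 = n18292 := rfl
theorem F71656 : act 2 n18292 = n17694 := d16_1 D18292 (iv D17694) D17693
theorem F71657 : act 8 n18292 = n17696 := d29_2 (iv F69435) D18292 (iv D17696)
def n18293 : Q := act 5 n17694
theorem D18293 : act 5 n17694 = n18293 := rfl
theorem F71658 : act 1 n18293 = n17712 := d11_1 D18293 (iv D17712) (iv F69436)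
theorem F71659 : act 3 n18293 = n18103 := d22_1 D18293 (iv D18103) (iv F69437)
theorem F71660 : act 8 n18293 = n17697 := d32_2 (iv F69438) D18293 (iv D17697)
def n18294 : Q := act 4 n17695
theorem D18294 : act 4 n17695 = n18294 := rfl
theorem F71661 : act 1 n18294 = n17696 := d10_1 D18294 (iv D17696) D17695
theorem F71662 : act 2 n18294 = n17714 := d16_1 D18294 (iv D17714) (iv F69439)
theorem F71663 : act 7 n18294 = n17698 := d28_2 (iv F69441) D18294 (iv D17698)
def n18295 : Q := act 3 n17696
theorem D18295 : act 3 n17696 = n18295 := rfl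
theorem F71664 : act 2 n18295 = n18104 := d15_1 D18295 (iv D18104) F68778 (iv F67344) (iv F69442)
theorem F71665 : act 4 n18295 = n18295 := d21_2 D17696 D18295 (iv D18295) (iv D17696) F67341
def n18296 : Q := act 5 n17696
theorem D18296 : act 5 n17696 = n18296 := rfl
theorem F71666 : act 2 n18296 = n17697 := d17_1 D18296 (iv D17697) (iv F69442)
theorem F71667 : act 7 n18296 = n17700 := d31_2 (iv F69443) D18296 (iv D17700)
def n18297 : Q := act 6 n17697
theorem D18297 : act 6 n17697 = n18297 := rfl
theorem F71668 : act 1 n18297 = n17717 := d12_1 D18297 (iv D17717) (iv F69444)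
theorem F71669 : act 3 n18297 = n18106 := d23_1 D18297 (iv D18106) (iv F69445)
theorem F71670 : act 7 n18297 = n17701 := d33_2 (iv F69446) D18297 (iv D17701)
def n18298 : Q := act 5 n17698
theorem D18298 : act 5 n17698 = n18298 := rfl
theorem F71671 : act 1 n18298 = n17700 := d11_1 D18298 (iv D17700) (iv F69447)
theorem F71672 : act 2 n18298 = n17721 := d17_1 D18298 (iv D17721) (iv F69448)
def n18299 : Q := act 5 n17699
theorem D18299 : act 5 n17699 = n18299 := rfl
theorem F71673 : act 2 n18299 = n17702 := d17_1 D18299 (iv D17702) (iv F69449)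
theorem F71674 : act 3 n18299 = n17700 := d22_1 D18299 (iv D17700) D17699
def n18300 : Q := act 7 n17699
theorem D18300 : act 7 n17699 = n18300 := rfl
theorem F71675 : act 2 n18300 = n17703 := d19_1 D18300 (iv D17703) (iv F69449)
theorem F71676 : act 4 n18300 = n17729 := d28_1 D18300 (iv D17729) (iv F69450)
def n18301 : Q := act 6 n17700
theorem D18301 : act 6 n17700 = n18301 := rfl
theorem F71677 : act 2 n18301 = n17701 := d18_1 D18301 (iv D17701) (iv F69451)
def n18302 : Q := act 4 n17702
theorem D18302 : act 4 n17702 = n18302 := rfl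
theorem F71678 : act 0 n18302 = n17721 := d3_1 D18302 (iv F70924) F70921
theorem F71679 : act 1 n18302 = n17790 := d10_1 D18302 (iv F70045) F70042
theorem F71680 : act 5 n18302 = n17720 := d26_2 D17702 D18302 (iv D17720) F67389 (iv F67351)
def n18303 : Q := act 6 n17702
theorem D18303 : act 6 n17702 = n18303 := rfl
theorem F71681 : act 3 n18303 = n17704 := d23_1 D18303 (iv D17704) (iv F69454)
def n18304 : Q := act 7 n17702
theorem D18304 : act 7 n17702 = n18304 := rfl
theorem F71682 : act 3 n18304 = n18111 := d24_1 D18304 (iv D18111) F68792 (iv F67353) (iv F69454)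
theorem F71683 : act 5 n18304 = n17703 := d31_1 D18304 (iv D17703) D17702
def n18305 : Q := act 8 n17703
theorem D18305 : act 8 n17703 = n18305 := rfl
theorem F71684 : act 1 n18305 = n18205 := d14_1 D18305 F71365 F70047
theorem F71685 : act 3 n18305 = n18112 := d25_1 D18305 (iv D18112) (iv F69455)
theorem F71686 : act 4 n18305 = n17730 := d29_1 D18305 (iv D17730) (iv F69456)
def n18306 : Q := act 5 n17705
theorem D18306 : act 5 n17705 = n18306 := rfl
theorem F71687 : act 0 n18306 = n17764 := d4_1 D18306 (iv D17764) (iv F69459)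
theorem F71688 : act 2 n18306 = n17994 := d17_1 D18306 (iv D17994) (iv F69460)
theorem F71689 : act 3 n18306 = n17709 := d22_1 D18306 (iv D17709) (iv F69461)
theorem F71690 : act 4 n18306 = n18113 := d26_1 D18306 (iv D18113) (iv D17498) (iv F67358) D17705
theorem F71691 : act 7 n18306 = n18250 := d31_2 (iv F69462) D18306 (iv D18250)
def n18307 : Q := act 4 n17706
theorem D18307 : act 4 n17706 = n18307 := rfl
theorem F71692 : act 0 n18307 = n17768 := d3_1 D18307 (iv D17768) (iv F69463)
theorem F71693 : act 2 n18307 = n17707 := d16_1 D18307 (iv D17707) D17706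
theorem F71694 : act 3 n18307 = n17997 := d21_1 D18307 (iv D17997) F68365 (iv F67396) (iv F69464)
theorem F71695 : act 8 n18307 = n17708 := d29_2 (iv F69466) D18307 (iv D17708)
def n18308 : Q := act 5 n17707
theorem D18308 : act 5 n17707 = n18308 := rfl
theorem F71696 : act 0 n18308 = n17769 := d4_1 D18308 (iv D17769) (iv F69467)
theorem F71697 : act 4 n18308 = n17712 := d26_1 D18308 (iv D17712) (iv D17109) (iv F67361) D17707
theorem F71698 : act 8 n18308 = n17709 := d32_2 (iv F69468) D18308 (iv D17709)
def n18309 : Q := act 5 n17708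
theorem D18309 : act 5 n17708 = n18309 := rfl
theorem F71699 : act 0 n18309 = n17772 := d4_1 D18309 (iv D17772) (iv F69469)
theorem F71700 : act 2 n18309 = n17709 := d17_1 D18309 (iv D17709) (iv F69470)
theorem F71701 : act 3 n18309 = n18000 := d22_1 D18309 (iv D18000) (iv F69471)
theorem F71702 : act 4 n18309 = n17716 := d26_1 D18309 (iv D17716) (iv D17111) (iv F67365) D17708
theorem F71703 : act 7 n18309 = n17718 := d31_2 (iv F69472) D18309 (iv D17718)
def n18310 : Q := act 6 n17709
theorem D18310 : act 6 n17709 = n18310 := rfl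
theorem F71704 : act 0 n18310 = n17773 := d5_1 D18310 (iv D17773) (iv F69473)
theorem F71705 : act 4 n18310 = n17717 := d27_1 D18310 (iv D17717) (iv F69474)
theorem F71706 : act 7 n18310 = n17719 := d33_2 (iv F69475) D18310 (iv D17719)
def n18311 : Q := act 0 n17710
theorem D18311 : act 0 n17710 = n18311 := rfl
theorem F71707 : act 1 n18311 = n17774 := d0_2 D17710 D18311 (iv D17774) (iv D17166) (iv F67369)
theorem F71708 : act 3 n18311 = n17723 := d2_2 (iv F69476) D18311 (iv D17723)
theorem F71709 : act 5 n18311 = n17730 := d4_2 F71084 D18311 (iv F71081)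
theorem F71710 : act 8 n18311 = n17713 := d7_2 (iv F69477) D18311 (iv D17713)
def n18312 : Q := act 4 n17710
theorem D18312 : act 4 n17710 = n18312 := rfl
theorem F71711 : act 1 n18312 = n17711 := d10_1 D18312 (iv D17711) D17710
theorem F71712 : act 8 n18312 = n17714 := d29_2 (iv F69477) D18312 (iv D17714)
def n18313 : Q := act 3 n17711
theorem D18313 : act 3 n17711 = n18313 := rfl
theorem F71713 : act 0 n18313 = n17776 := d2_1 D18313 (iv D17776) (iv F69478)
theorem F71714 : act 2 n18313 = n18118 := d15_1 D18313 (iv D18118) F68815 (iv F67373) (iv F69479)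
theorem F71715 : act 4 n18313 = n17725 := d21_2 D17711 D18313 (iv D17725) (iv D17121) (iv F67370)
theorem F71716 : act 6 n18313 = n18168 := d23_2 F71436 D18313 (iv F71435)
theorem F71717 : act 8 n18313 = n17715 := d25_2 (iv F69480) D18313 (iv D17715)
def n18314 : Q := act 5 n17711
theorem D18314 : act 5 n17711 = n18314 := rfl
theorem F71718 : act 0 n18314 = n17777 := d4_1 D18314 (iv D17777) (iv F69478)
theorem F71719 : act 2 n18314 = n17712 := d17_1 D18314 (iv D17712) (iv F69479)
theorem F71720 : act 8 n18314 = n17716 := d32_2 (iv F69480) D18314 (iv D17716)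
def n18315 : Q := act 6 n17712
theorem D18315 : act 6 n17712 = n18315 := rfl
theorem F71721 : act 0 n18315 = n17778 := d5_1 D18315 (iv D17778) (iv F69481)
theorem F71722 : act 3 n18315 = n18120 := d23_1 D18315 (iv D18120) (iv F69482)
theorem F71723 : act 8 n18315 = n17717 := d34_2 (iv F69483) D18315 (iv D17717)
def n18316 : Q := act 4 n17713
theorem D18316 : act 4 n17713 = n18316 := rfl
theorem F71724 : act 0 n18316 = n17714 := d3_1 D18316 (iv D17714) D17713
theorem F71725 : act 1 n18316 = n17779 := d10_1 D18316 (iv D17779) (iv F69484)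
theorem F71726 : act 7 n18316 = n17720 := d28_2 (iv F69487) D18316 (iv D17720)
def n18317 : Q := act 3 n17714
theorem D18317 : act 3 n17714 = n18317 := rfl
theorem F71727 : act 1 n18317 = n17715 := d9_1 D18317 (iv D17715) (iv F69488)
theorem F71728 : act 4 n18317 = n17727 := d21_2 D17714 D18317 (iv D17727) (iv D17123) (iv F67375)
theorem F71729 : act 6 n18317 = n18171 := d23_2 F71443 D18317 (iv F71442)
theorem F71730 : act 7 n18317 = n18144 := d24_2 (iv F69489) D18317 F71156 F70083 F67926
def n18318 : Q := act 5 n17714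
theorem D18318 : act 5 n17714 = n18318 := rfl
theorem F71731 : act 1 n18318 = n17716 := d11_1 D18318 (iv D17716) (iv F69488)
theorem F71732 : act 7 n18318 = n17721 := d31_2 (iv F69489) D18318 (iv D17721)
def n18319 : Q := act 5 n17715
theorem D18319 : act 5 n17715 = n18319 := rfl
theorem F71733 : act 0 n18319 = n17782 := d4_1 D18319 (iv D17782) (iv F69490)
theorem F71734 : act 2 n18319 = n18121 := d17_1 D18319 (iv D18121) (iv F69491)
theorem F71735 : act 3 n18319 = n17716 := d22_1 D18319 (iv D17716) D17715
theorem F71736 : act 4 n18319 = n18010 := d26_1 D18319 (iv D18010) F68388 (iv F67420) (iv F69492)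
theorem F71737 : act 7 n18319 = n18145 := d31_2 (iv F69494) D18319 (iv D18145)
def n18320 : Q := act 6 n17716
theorem D18320 : act 6 n17716 = n18320 := rfl
theorem F71738 : act 0 n18320 = n17783 := d5_1 D18320 (iv D17783) (iv F69495)
theorem F71739 : act 2 n18320 = n17717 := d18_1 D18320 (iv D17717) (iv F69496)
theorem F71740 : act 7 n18320 = n17722 := d33_2 (iv F69497) D18320 (iv D17722)
def n18321 : Q := act 6 n17718
theorem D18321 : act 6 n17718 = n18321 := rfl
theorem F71741 : act 0 n18321 = n17789 := d5_1 D18321 (iv D17789) (iv F69501)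
theorem F71742 : act 2 n18321 = n17719 := d18_1 D18321 (iv D17719) (iv F69502)
theorem F71743 : act 4 n18321 = n17722 := d27_1 D18321 (iv D17722) (iv F69503)
def n18322 : Q := act 6 n17721
theorem D18322 : act 6 n17721 = n18322 := rfl
theorem F71744 : act 1 n18322 = n17722 := d12_1 D18322 (iv D17722) (iv F69508)
def n18323 : Q := act 4 n17723
theorem D18323 : act 4 n17723 = n18323 := rfl
theorem F71745 : act 0 n18323 = n17724 := d3_1 D18323 (iv D17724) D17723
theorem F71746 : act 1 n18323 = n17793 := d10_1 D18323 (iv D17793) (iv F69511)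
theorem F71747 : act 2 n18323 = n18323 := d16_1 D18323 (iv D18323) F69512
theorem F71748 : act 5 n18323 = n18018 := d26_2 (iv F69513) D18323 (iv D18018) F68429 (iv F67435)
theorem F71749 : act 6 n18323 = n18259 := d27_2 F69803 D18323 F71553
theorem F71750 : act 7 n18323 = n18323 := d28_2 F69514 D18323 (iv D18323)
theorem F71751 : act 8 n18323 = n17726 := d29_2 (iv F69515) D18323 (iv D17726)
def n18324 : Q := act 3 n17724
theorem D18324 : act 3 n17724 = n18324 := rfl
theorem F71752 : act 1 n18324 = n17725 := d9_1 D18324 (iv D17725) (iv F69516)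
theorem F71753 : act 5 n18324 = n18019 := d22_2 (iv F69518) D18324 (iv D18019)
theorem F71754 : act 6 n18324 = n18167 := d23_2 (iv F69519) D18324 F71247
theorem F71755 : act 8 n18324 = n17727 := d25_2 (iv F69521) D18324 (iv D17727)
def n18325 : Q := act 3 n17726
theorem D18325 : act 3 n17726 = n18325 := rfl
theorem F71756 : act 0 n18325 = n17727 := d2_1 D18325 (iv D17727) (iv F69527)
theorem F71757 : act 1 n18325 = n17796 := d9_1 D18325 (iv D17796) (iv F69528)
theorem F71758 : act 5 n18325 = n18021 := d22_2 (iv F69530) D18325 (iv D18021)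
theorem F71759 : act 6 n18325 = n18170 := d23_2 (iv F69531) D18325 F71254
theorem F71760 : act 7 n18325 = n18143 := d24_2 (iv F69532) D18325 F71151 F68954 (iv F67426)
def n18326 : Q := act 8 n17728
theorem D18326 : act 8 n17728 = n18326 := rfl
theorem F71761 : act 1 n18326 = n17915 := d14_1 D18326 F70298 F70116
theorem F71762 : act 3 n18326 = n18326 := d25_1 D18326 (iv D18326) F69537
theorem F71763 : act 7 n18326 = n17730 := d35_1 D18326 (iv D17730) (iv D17128) (iv F67430) D17728
def n18327 : Q := act 8 n17729
theorem D18327 : act 8 n17729 = n18327 := rfl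
theorem F71764 : act 1 n18327 = n18192 := d14_1 D18327 F71324 F70544
theorem F71765 : act 2 n18327 = n17730 := d20_1 D18327 (iv D17730) (iv F69538)
theorem F71766 : act 3 n18327 = n18327 := d25_1 D18327 (iv D18327) F69539
def n18328 : Q := act 4 n17731
theorem D18328 : act 4 n17731 = n18328 := rfl
theorem F71767 : act 0 n18328 = n18261 := d3_1 D18328 (iv D18261) (iv F69542)
theorem F71768 : act 2 n18328 = n17732 := d16_1 D18328 (iv D17732) D17731
theorem F71769 : act 6 n18328 = n18043 := d27_2 (iv F69545) D18328 (iv D18043)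
theorem F71770 : act 7 n18328 = n17741 := d28_2 (iv F69546) D18328 (iv D17741)
def n18329 : Q := act 5 n17732
theorem D18329 : act 5 n17732 = n18329 := rfl
theorem F71771 : act 0 n18329 = n18262 := d4_1 D18329 (iv D18262) (iv F69547)
theorem F71772 : act 1 n18329 = n18034 := d11_1 D18329 (iv D18034) (iv F69548)
theorem F71773 : act 3 n18329 = n18033 := d22_1 D18329 (iv D18033) (iv F69549)
theorem F71774 : act 4 n18329 = n17737 := d26_1 D18329 (iv D17737) (iv D17133) (iv F67439) D17732
theorem F71775 : act 7 n18329 = n17742 := d31_2 (iv F69551) D18329 (iv D17742)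
def n18330 : Q := act 1 n17733
theorem D18330 : act 1 n17733 = n18330 := rfl
theorem F71776 : act 2 n18330 = n18324 := d8_2 D17733 D18330 F71752 F69523 F68847
theorem F71777 : act 3 n18330 = n18330 := d9_2 F69552 D18330 (iv D18330)
theorem F71778 : act 7 n18330 = n18167 := d13_2 (iv F69553) D18330 (iv D18167)
theorem F71779 : act 8 n18330 = n17735 := d14_2 (iv F69554) D18330 (iv D17735)
def n18331 : Q := act 4 n17733
theorem D18331 : act 4 n17733 = n18331 := rfl
theorem F71780 : act 2 n18331 = n17734 := d16_1 D18331 (iv D17734) D17733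
theorem F71781 : act 7 n18331 = n18168 := d28_2 (iv F69553) D18331 (iv D18168)
theorem F71782 : act 8 n18331 = n17736 := d29_2 (iv F69554) D18331 (iv D17736)
def n18332 : Q := act 5 n17734
theorem D18332 : act 5 n17734 = n18332 := rfl
theorem F71783 : act 3 n18332 = n17756 := d22_1 D18332 (iv D17756) (iv F69555)
theorem F71784 : act 7 n18332 = n18169 := d31_2 (iv F69556) D18332 (iv D18169)
theorem F71785 : act 8 n18332 = n17737 := d32_2 (iv F69557) D18332 (iv D17737)
def n18333 : Q := act 0 n17735
theorem D18333 : act 0 n17735 = n18333 := rfl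
theorem F71786 : act 2 n18333 = n18325 := d1_2 (iv F69558) D18333 F71756
theorem F71787 : act 3 n18333 = n18333 := d2_2 F69559 D18333 (iv D18333)
theorem F71788 : act 7 n18333 = n17743 := d6_2 (iv F69560) D18333 (iv D17743)
def n18334 : Q := act 4 n17735
theorem D18334 : act 4 n17735 = n18334 := rfl
theorem F71789 : act 1 n18334 = n17736 := d10_1 D18334 (iv D17736) D17735
theorem F71790 : act 2 n18334 = n18317 := d16_1 D18334 F71728 (iv F69558)
theorem F71791 : act 7 n18334 = n17744 := d28_2 (iv F69560) D18334 (iv D17744)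
def n18335 : Q := act 3 n17736
theorem D18335 : act 3 n17736 = n18335 := rfl
theorem F71792 : act 2 n18335 = n17757 := d15_1 D18335 (iv D17757) F67500 (iv F67446) (iv F69561)
theorem F71793 : act 4 n18335 = n18335 := d21_2 D17736 D18335 (iv D18335) (iv D17736) F67444
def n18336 : Q := act 5 n17736
theorem D18336 : act 5 n17736 = n18336 := rfl
theorem F71794 : act 2 n18336 = n17737 := d17_1 D18336 (iv D17737) (iv F69561)
theorem F71795 : act 7 n18336 = n17745 := d31_2 (iv F69562) D18336 (iv D17745)
def n18337 : Q := act 6 n17737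
theorem D18337 : act 6 n17737 = n18337 := rfl
theorem F71796 : act 3 n18337 = n17759 := d23_1 D18337 (iv D17759) (iv F69563)
theorem F71797 : act 7 n18337 = n17746 := d33_2 (iv F69564) D18337 (iv D17746)
def n18338 : Q := act 4 n17738
theorem D18338 : act 4 n17738 = n18338 := rfl
theorem F71798 : act 2 n18338 = n17739 := d16_1 D18338 (iv D17739) D17738
theorem F71799 : act 6 n18338 = n17741 := d27_2 (iv F69567) D18338 (iv D17741)
theorem F71800 : act 7 n18338 = n18043 := d28_2 (iv F69568) D18338 (iv D18043)
theorem F71801 : act 8 n18338 = n18174 := d29_2 (iv F69569) D18338 (iv D18174)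
def n18339 : Q := act 5 n17739
theorem D18339 : act 5 n17739 = n18339 := rfl
theorem F71802 : act 1 n18339 = n18049 := d11_1 D18339 (iv D18049) (iv F69570)
theorem F71803 : act 3 n18339 = n18065 := d22_1 D18339 (iv D18065) (iv F69571)
theorem F71804 : act 7 n18339 = n18044 := d31_2 (iv F69573) D18339 (iv D18044)
theorem F71805 : act 8 n18339 = n18175 := d32_2 (iv F69574) D18339 (iv D18175)
def n18340 : Q := act 0 n17740
theorem D18340 : act 0 n17740 = n18340 := rfl
theorem F71806 : act 2 n18340 = n17796 := d1_2 (iv F69575) D18340 F69730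
theorem F71807 : act 3 n18340 = n17747 := d2_2 (iv F69576) D18340 (iv D17747)
theorem F71808 : act 5 n18340 = n17743 := d4_2 (iv F69577) D18340 (iv D17743)
theorem F71809 : act 6 n18340 = n18278 := d5_2 F69601 D18340 F71621
theorem F71810 : act 8 n18340 = n18176 := d7_2 (iv F69578) D18340 (iv D18176)
def n18341 : Q := act 4 n17740
theorem D18341 : act 4 n17740 = n18341 := rfl
theorem F71811 : act 1 n18341 = n17741 := d10_1 D18341 (iv D17741) D17740
theorem F71812 : act 2 n18341 = n17780 := d16_1 D18341 F69689 (iv F69575)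
theorem F71813 : act 3 n18341 = n18338 := d21_1 D18341 (iv D18338) F69565 F67474 (iv F69576)
theorem F71814 : act 8 n18341 = n18177 := d29_2 (iv F69578) D18341 (iv D18177)
def n18342 : Q := act 3 n17741
theorem D18342 : act 3 n17741 = n18342 := rfl
theorem F71815 : act 1 n18342 = n18338 := d9_1 D18342 (iv F71813) F71811
theorem F71816 : act 2 n18342 = n18243 := d15_1 D18342 (iv D18243) F69245 (iv F67456) (iv F69579)
theorem F71817 : act 4 n18342 = n17748 := d21_2 D17741 D18342 (iv D17748) (iv D17143) (iv F67452)
theorem F71818 : act 6 n18342 = n18341 := d23_2 F71799 D18342 F71813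
theorem F71819 : act 8 n18342 = n18178 := d25_2 (iv F69580) D18342 (iv D18178)
def n18343 : Q := act 5 n17741
theorem D18343 : act 5 n17741 = n18343 := rfl
theorem F71820 : act 2 n18343 = n17742 := d17_1 D18343 (iv D17742) (iv F69579)
theorem F71821 : act 4 n18343 = n17745 := d26_1 D18343 (iv D17745) (iv D17138) (iv F67453) D17741
theorem F71822 : act 8 n18343 = n18179 := d32_2 (iv F69580) D18343 (iv D18179)
def n18344 : Q := act 6 n17742
theorem D18344 : act 6 n17742 = n18344 := rfl
theorem F71823 : act 1 n18344 = n18257 := d12_1 D18344 (iv D18257) (iv F69581)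
theorem F71824 : act 3 n18344 = n18256 := d23_1 D18344 (iv D18256) (iv F69582)
theorem F71825 : act 4 n18344 = n17746 := d27_1 D18344 (iv D17746) (iv F69583)
theorem F71826 : act 8 n18344 = n18180 := d34_2 (iv F69584) D18344 (iv D18180)
def n18345 : Q := act 4 n17743
theorem D18345 : act 4 n17743 = n18345 := rfl
theorem F71827 : act 0 n18345 = n17744 := d3_1 D18345 (iv D17744) D17743
theorem F71828 : act 8 n18345 = n18181 := d29_2 (iv F69586) D18345 (iv D18181)
def n18346 : Q := act 5 n17744
theorem D18346 : act 5 n17744 = n18346 := rfl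
theorem F71829 : act 1 n18346 = n17745 := d11_1 D18346 (iv D17745) (iv F69587)
theorem F71830 : act 8 n18346 = n18182 := d32_2 (iv F69588) D18346 (iv D18182)
def n18347 : Q := act 6 n17745
theorem D18347 : act 6 n17745 = n18347 := rfl
theorem F71831 : act 2 n18347 = n17746 := d18_1 D18347 (iv D17746) (iv F69589)
theorem F71832 : act 8 n18347 = n18183 := d34_2 (iv F69590) D18347 (iv D18183)
def n18348 : Q := act 4 n17749
theorem D18348 : act 4 n17749 = n18348 := rfl
theorem F71833 : act 0 n18348 = n17938 := d3_1 D18348 (iv D17938) (iv F69603)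
theorem F71834 : act 1 n18348 = n18129 := d10_1 D18348 (iv D18129) (iv F69604)
theorem F71835 : act 2 n18348 = n17750 := d16_1 D18348 (iv D17750) D17749
theorem F71836 : act 6 n18348 = n18074 := d27_2 (iv F69607) D18348 (iv D18074)
theorem F71837 : act 7 n18348 = n17842 := d28_2 (iv F69608) D18348 (iv D17842)
def n18349 : Q := act 5 n17750
theorem D18349 : act 5 n17750 = n18349 := rfl
theorem F71838 : act 0 n18349 = n17939 := d4_1 D18349 (iv D17939) (iv F69609)
theorem F71839 : act 1 n18349 = n18031 := d11_1 D18349 (iv D18031) (iv F69610)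
theorem F71840 : act 3 n18349 = n17754 := d22_1 D18349 (iv D17754) (iv F69611)
theorem F71841 : act 4 n18349 = n18033 := d26_1 D18349 (iv D18033) (iv D17420) (iv F67485) D17750
theorem F71842 : act 7 n18349 = n17843 := d31_2 (iv F69613) D18349 (iv D17843)
def n18350 : Q := act 4 n17751
theorem D18350 : act 4 n17751 = n18350 := rfl
theorem F71843 : act 2 n18350 = n17752 := d16_1 D18350 (iv D17752) D17751
theorem F71844 : act 7 n18350 = n17768 := d28_2 (iv F69616) D18350 (iv D17768)
theorem F71845 : act 8 n18350 = n17753 := d29_2 (iv F69617) D18350 (iv D17753)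
def n18351 : Q := act 5 n17752
theorem D18351 : act 5 n17752 = n18351 := rfl
theorem F71846 : act 4 n18351 = n17756 := d26_1 D18351 (iv D17756) (iv D17150) (iv F67488) D17752
theorem F71847 : act 7 n18351 = n17769 := d31_2 (iv F69618) D18351 (iv D17769)
theorem F71848 : act 8 n18351 = n17754 := d32_2 (iv F69619) D18351 (iv D17754)
def n18352 : Q := act 3 n17753
theorem D18352 : act 3 n17753 = n18352 := rfl
theorem F71849 : act 4 n18352 = n18352 := d21_2 D17753 D18352 (iv D18352) (iv D17753) F67491
def n18353 : Q := act 5 n17753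
theorem D18353 : act 5 n17753 = n18353 := rfl
theorem F71850 : act 2 n18353 = n17754 := d17_1 D18353 (iv D17754) (iv F69620)
theorem F71851 : act 4 n18353 = n17758 := d26_1 D18353 (iv D17758) (iv D17151) (iv F67492) D17753
theorem F71852 : act 7 n18353 = n17760 := d31_2 (iv F69621) D18353 (iv D17760)
def n18354 : Q := act 6 n17754
theorem D18354 : act 6 n17754 = n18354 := rfl
theorem F71853 : act 4 n18354 = n17759 := d27_1 D18354 (iv D17759) (iv F69622)
theorem F71854 : act 7 n18354 = n17761 := d33_2 (iv F69623) D18354 (iv D17761)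
def n18355 : Q := act 3 n17755
theorem D18355 : act 3 n17755 = n18355 := rfl
theorem F71855 : act 4 n18355 = n18355 := d21_2 D17755 D18355 (iv D18355) (iv D17755) F67495
theorem F71856 : act 8 n18355 = n17757 := d25_2 (iv F69626) D18355 (iv D17757)
def n18356 : Q := act 5 n17755
theorem D18356 : act 5 n17755 = n18356 := rfl
theorem F71857 : act 2 n18356 = n17756 := d17_1 D18356 (iv D17756) (iv F69624)
theorem F71858 : act 7 n18356 = n17777 := d31_2 (iv F69625) D18356 (iv D17777)
theorem F71859 : act 8 n18356 = n17758 := d32_2 (iv F69626) D18356 (iv D17758)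
def n18357 : Q := act 6 n17756
theorem D18357 : act 6 n17756 = n18357 := rfl
theorem F71860 : act 7 n18357 = n17778 := d33_2 (iv F69627) D18357 (iv D17778)
theorem F71861 : act 8 n18357 = n17759 := d34_2 (iv F69628) D18357 (iv D17759)
def n18358 : Q := act 5 n17757
theorem D18358 : act 5 n17757 = n18358 := rfl
theorem F71862 : act 3 n18358 = n17758 := d22_1 D18358 (iv D17758) D17757
def n18359 : Q := act 6 n17758
theorem D18359 : act 6 n17758 = n18359 := rfl
theorem F71863 : act 2 n18359 = n17759 := d18_1 D18359 (iv D17759) (iv F69630)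
theorem F71864 : act 7 n18359 = n17762 := d33_2 (iv F69631) D18359 (iv D17762)
def n18360 : Q := act 6 n17760
theorem D18360 : act 6 n17760 = n18360 := rfl
theorem F71865 : act 2 n18360 = n17761 := d18_1 D18360 (iv D17761) (iv F69633)
theorem F71866 : act 4 n18360 = n17762 := d27_1 D18360 (iv D17762) (iv F69634)
theorem F71867 : act 8 n18360 = n17789 := d34_2 (iv F69635) D18360 (iv D17789)
def n18361 : Q := act 5 n17763
theorem D18361 : act 5 n17763 = n18361 := rfl
theorem F71868 : act 0 n18361 = n17994 := d4_1 D18361 (iv D17994) (iv F69640)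
theorem F71869 : act 2 n18361 = n17764 := d17_1 D18361 (iv D17764) (iv F69641)
theorem F71870 : act 3 n18361 = n17863 := d22_1 D18361 (iv D17863) (iv F69642)
theorem F71871 : act 4 n18361 = n18250 := d26_1 D18361 (iv D18250) (iv D17642) (iv F67513) D17763
theorem F71872 : act 7 n18361 = n18113 := d31_2 (iv F69643) D18361 (iv D18113)
def n18362 : Q := act 6 n17764
theorem D18362 : act 6 n17764 = n18362 := rfl
theorem F71873 : act 3 n18362 = n17773 := d23_1 D18362 (iv D17773) (iv F69644)
theorem F71874 : act 4 n18362 = n18251 := d27_1 D18362 (iv D18251) (iv F69645)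
def n18363 : Q := act 5 n17765
theorem D18363 : act 5 n17765 = n18363 := rfl
theorem F71875 : act 2 n18363 = n17766 := d17_1 D18363 (iv D17766) (iv F69646)
theorem F71876 : act 7 n18363 = n17784 := d31_2 (iv F69648) D18363 (iv D17784)
def n18364 : Q := act 6 n17766
theorem D18364 : act 6 n17766 = n18364 := rfl
theorem F71877 : act 5 n18364 = n17773 := d30_1 D18364 (iv D17773) (iv D17165) (iv F67519) D17766
theorem F71878 : act 7 n18364 = n17785 := d33_2 (iv F69649) D18364 (iv D17785)
def n18365 : Q := act 4 n17767
theorem D18365 : act 4 n17767 = n18365 := rfl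
theorem F71879 : act 0 n18365 = n18205 := d3_1 D18365 (iv D18205) F69654
theorem F71880 : act 1 n18365 = n17768 := d10_1 D18365 (iv D17768) D17767
theorem F71881 : act 2 n18365 = n18068 := d16_1 D18365 (iv D18068) (iv F69650)
theorem F71882 : act 3 n18365 = n18212 := d21_1 D18365 (iv D18212) F69140 F67570 (iv F69651)
theorem F71883 : act 8 n18365 = n17770 := d29_2 (iv F69653) D18365 (iv D17770)
def n18366 : Q := act 3 n17768
theorem D18366 : act 3 n17768 = n18366 := rfl
theorem F71884 : act 0 n18366 = n17997 := d2_1 D18366 (iv F71694) F71692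
theorem F71885 : act 1 n18366 = n18212 := d9_1 D18366 (iv F71882) F71880
theorem F71886 : act 2 n18366 = n17862 := d15_1 D18366 F70061 F70024 F69148 (iv F69655)
theorem F71887 : act 4 n18366 = n17792 := d21_2 D17768 D18366 (iv D17792) (iv D17185) (iv F67521)
theorem F71888 : act 6 n18366 = n18365 := d23_2 F71382 D18366 F71882
theorem F71889 : act 8 n18366 = n17771 := d25_2 (iv F69656) D18366 (iv D17771)
def n18367 : Q := act 5 n17768
theorem D18367 : act 5 n17768 = n18367 := rfl
theorem F71890 : act 2 n18367 = n17769 := d17_1 D18367 (iv D17769) (iv F69655)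
theorem F71891 : act 4 n18367 = n17777 := d26_1 D18367 (iv D17777) (iv D17167) (iv F67522) D17768
theorem F71892 : act 8 n18367 = n17772 := d32_2 (iv F69656) D18367 (iv D17772)
def n18368 : Q := act 6 n17769
theorem D18368 : act 6 n17769 = n18368 := rfl
theorem F71893 : act 4 n18368 = n17778 := d27_1 D18368 (iv D17778) (iv F69657)
theorem F71894 : act 8 n18368 = n17773 := d34_2 (iv F69658) D18368 (iv D17773)
def n18369 : Q := act 5 n17770
theorem D18369 : act 5 n17770 = n18369 := rfl
theorem F71895 : act 1 n18369 = n17772 := d11_1 D18369 (iv D17772) (iv F69659)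
theorem F71896 : act 3 n18369 = n18363 := d22_1 D18369 (iv D18363) (iv F69660)
theorem F71897 : act 4 n18369 = n17781 := d26_1 D18369 (iv D17781) (iv D17170) (iv F67526) D17770
theorem F71898 : act 7 n18369 = n17786 := d31_2 (iv F69661) D18369 (iv D17786)
def n18370 : Q := act 5 n17771
theorem D18370 : act 5 n17771 = n18370 := rfl
theorem F71899 : act 0 n18370 = n18000 := d4_1 D18370 (iv D18000) (iv F69662)
theorem F71900 : act 1 n18370 = n18363 := d11_1 D18370 (iv D18363) (iv F69663)
theorem F71901 : act 2 n18370 = n17863 := d17_1 D18370 (iv D17863) (iv F69664)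
theorem F71902 : act 3 n18370 = n17772 := d22_1 D18370 (iv D17772) D17771
theorem F71903 : act 4 n18370 = n17868 := d26_1 D18370 (iv D17868) (iv D17256) (iv F67581) (iv F69665)
theorem F71904 : act 7 n18370 = n17871 := d31_2 F69667 D18370 (iv D17871)
def n18371 : Q := act 6 n17772
theorem D18371 : act 6 n17772 = n18371 := rfl
theorem F71905 : act 2 n18371 = n17773 := d18_1 D18371 (iv D17773) (iv F69668)
theorem F71906 : act 4 n18371 = n17783 := d27_1 D18371 (iv D17783) (iv F69669)
theorem F71907 : act 7 n18371 = n17789 := d33_2 (iv F69670) D18371 (iv D17789)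
def n18372 : Q := act 4 n17774
theorem D18372 : act 4 n17774 = n18372 := rfl
theorem F71908 : act 0 n18372 = n17775 := d3_1 D18372 (iv D17775) D17774
theorem F71909 : act 2 n18372 = n18161 := d16_1 D18372 (iv D18161) (iv F69673)
theorem F71910 : act 8 n18372 = n17779 := d29_2 (iv F69676) D18372 (iv D17779)
def n18373 : Q := act 3 n17775
theorem D18373 : act 3 n17775 = n18373 := rfl
theorem F71911 : act 1 n18373 = n17776 := d9_1 D18373 (iv D17776) (iv F69677)
theorem F71912 : act 2 n18373 = n18177 := d15_1 D18373 F71273 F71263 (iv F70183) F70182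
theorem F71913 : act 4 n18373 = n17794 := d21_2 D17775 D18373 (iv D17794) (iv D17188) (iv F67532)
theorem F71914 : act 8 n18373 = n17780 := d25_2 (iv F69678) D18373 (iv D17780)
def n18374 : Q := act 5 n17775
theorem D18374 : act 5 n17775 = n18374 := rfl
theorem F71915 : act 1 n18374 = n17777 := d11_1 D18374 (iv D17777) (iv F69677)
theorem F71916 : act 8 n18374 = n17781 := d32_2 (iv F69678) D18374 (iv D17781)
def n18375 : Q := act 5 n17776
theorem D18375 : act 5 n17776 = n18375 := rfl
theorem F71917 : act 2 n18375 = n18156 := d17_1 D18375 (iv D18156) (iv F69679)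
theorem F71918 : act 3 n18375 = n17777 := d22_1 D18375 (iv D17777) D17776
theorem F71919 : act 4 n18375 = n18159 := d26_1 D18375 (iv D18159) (iv D17551) (iv F67594) (iv F69680)
theorem F71920 : act 8 n18375 = n17782 := d32_2 (iv F69681) D18375 (iv D17782)
def n18376 : Q := act 7 n17776
theorem D18376 : act 7 n17776 = n18376 := rfl
theorem F71921 : act 2 n18376 = n18150 := d19_1 D18376 F71179 (iv F69679)
theorem F71922 : act 4 n18376 = n17795 := d28_1 D18376 (iv D17795) (iv F69680)
def n18377 : Q := act 6 n17777
theorem D18377 : act 6 n17777 = n18377 := rfl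
theorem F71923 : act 2 n18377 = n17778 := d18_1 D18377 (iv D17778) (iv F69682)
theorem F71924 : act 8 n18377 = n17783 := d34_2 (iv F69683) D18377 (iv D17783)
def n18378 : Q := act 3 n17779
theorem D18378 : act 3 n17779 = n18378 := rfl
theorem F71925 : act 0 n18378 = n17780 := d2_1 D18378 (iv D17780) (iv F69686)
theorem F71926 : act 4 n18378 = n17796 := d21_2 D17779 D18378 (iv D17796) (iv D17190) (iv F67538)
def n18379 : Q := act 5 n17779
theorem D18379 : act 5 n17779 = n18379 := rfl
theorem F71927 : act 0 n18379 = n17781 := d4_1 D18379 (iv D17781) (iv F69686)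
theorem F71928 : act 7 n18379 = n17790 := d31_2 (iv F69687) D18379 (iv D17790)
def n18380 : Q := act 5 n17780
theorem D18380 : act 5 n17780 = n18380 := rfl
theorem F71929 : act 1 n18380 = n17782 := d11_1 D18380 (iv D17782) (iv F69688)
theorem F71930 : act 3 n18380 = n17781 := d22_1 D18380 (iv D17781) D17780
def n18381 : Q := act 6 n17781
theorem D18381 : act 6 n17781 = n18381 := rfl
theorem F71931 : act 1 n18381 = n17783 := d12_1 D18381 (iv D17783) (iv F69690)
theorem F71932 : act 7 n18381 = n17791 := d33_2 (iv F69691) D18381 (iv D17791)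
def n18382 : Q := act 6 n17782
theorem D18382 : act 6 n17782 = n18382 := rfl
theorem F71933 : act 2 n18382 = n18257 := d18_1 D18382 (iv D18257) (iv F69692)
theorem F71934 : act 3 n18382 = n17783 := d23_1 D18382 (iv D17783) (iv F69693)
def n18383 : Q := act 6 n17784
theorem D18383 : act 6 n17784 = n18383 := rfl
theorem F71935 : act 2 n18383 = n17785 := d18_1 D18383 (iv D17785) (iv F69696)
theorem F71936 : act 5 n18383 = n17789 := d30_1 D18383 (iv D17789) (iv D17178) (iv F67549) D17784
def n18384 : Q := act 6 n17786
theorem D18384 : act 6 n17786 = n18384 := rfl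
theorem F71937 : act 1 n18384 = n17789 := d12_1 D18384 (iv D17789) (iv F69698)
theorem F71938 : act 4 n18384 = n17791 := d27_1 D18384 (iv D17791) (iv F69699)
def n18385 : Q := act 6 n17787
theorem D18385 : act 6 n17787 = n18385 := rfl
theorem F71939 : act 3 n18385 = n17789 := d23_1 D18385 (iv D17789) (iv F69700)
def n18386 : Q := act 7 n17787
theorem D18386 : act 7 n17787 = n18386 := rfl
theorem F71940 : act 0 n18386 = n17846 := d6_1 D18386 (iv F70706) F70702
theorem F71941 : act 1 n18386 = n18027 := d13_1 D18386 F70717 F70015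
theorem F71942 : act 2 n18386 = n17845 := d19_1 D18386 F69982 F69959
theorem F71943 : act 3 n18386 = n17871 := d24_1 D18386 (iv F71904) F71902 F69670 (iv F69700)
theorem F71944 : act 4 n18386 = n18025 := d28_1 D18386 F70706 F69987
theorem F71945 : act 5 n18386 = n17788 := d31_1 D18386 (iv D17788) D17787
theorem F71946 : act 8 n18136 = n18386 := d32_0 F71945 (iv F69707) D18136
def n18387 : Q := act 6 n17790
theorem D18387 : act 6 n17790 = n18387 := rfl
theorem F71947 : act 0 n18387 = n17791 := d5_1 D18387 (iv D17791) (iv F69710)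
def n18388 : Q := act 3 n17793
theorem D18388 : act 3 n17793 = n18388 := rfl
theorem F71948 : act 0 n18388 = n17794 := d2_1 D18388 (iv D17794) (iv F69718)
theorem F71949 : act 2 n18388 = n18176 := d15_1 D18388 F71269 F69044 (iv F67609) (iv F69719)
theorem F71950 : act 5 n18388 = n18157 := d22_2 (iv F69720) D18388 F71208
theorem F71951 : act 8 n18388 = n17796 := d25_2 (iv F69722) D18388 (iv D17796)
def n18389 : Q := act 7 n17794
theorem D18389 : act 7 n17794 = n18389 := rfl
theorem F71952 : act 1 n18389 = n17795 := d13_1 D18389 (iv D17795) (iv F69723)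
theorem F71953 : act 2 n18389 = n18164 := d19_1 D18389 F71241 (iv F69724)
theorem F71954 : act 3 n18389 = n18389 := d24_1 D18389 (iv D18389) (iv D17794) F67591 D17794
theorem F71955 : act 5 n18389 = n18153 := d31_1 D18389 F71196 (iv F69725)
def n18390 : Q := act 4 n17797
theorem D18390 : act 4 n17797 = n18390 := rfl
theorem F71956 : act 0 n18390 = n17801 := d3_1 D18390 (iv D17801) (iv F69731)
theorem F71957 : act 1 n18390 = n18074 := d10_1 D18390 (iv D18074) (iv F69732)
theorem F71958 : act 2 n18390 = n17798 := d16_1 D18390 (iv D17798) D17797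
theorem F71959 : act 6 n18390 = n18129 := d27_2 (iv F69735) D18390 (iv D18129)
theorem F71960 : act 7 n18390 = n17822 := d28_2 (iv F69736) D18390 (iv D17822)
theorem F71961 : act 8 n18390 = n18348 := d29_2 (iv F69737) D18390 (iv D18348)
def n18391 : Q := act 5 n17798
theorem D18391 : act 5 n17798 = n18391 := rfl
theorem F71962 : act 0 n18391 = n17802 := d4_1 D18391 (iv D17802) (iv F69738)
theorem F71963 : act 1 n18391 = n17881 := d11_1 D18391 (iv D17881) (iv F69739)
theorem F71964 : act 3 n18391 = n18351 := d22_1 D18391 (iv D18351) (iv F69740)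
theorem F71965 : act 4 n18391 = n18039 := d26_1 D18391 (iv D18039) (iv D17425) (iv F67615) D17798
theorem F71966 : act 7 n18391 = n17823 := d31_2 (iv F69742) D18391 (iv D17823)
theorem F71967 : act 8 n18391 = n18349 := d32_2 (iv F69743) D18391 (iv D18349)
def n18392 : Q := act 1 n17799
theorem D18392 : act 1 n17799 = n18392 := rfl
theorem F71968 : act 0 n18392 = n18326 := d0_1 D18392 F71761 (iv F70990) F70991 (iv F69744)
theorem F71969 : act 2 n18392 = n17807 := d8_2 D17799 D18392 (iv D17807) (iv D17200) (iv F67620)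
theorem F71970 : act 3 n18392 = n18392 := d9_2 F69745 D18392 (iv D18392)
theorem F71971 : act 5 n18392 = n18282 := d11_2 (iv F69746) D18392 (iv D18282)
theorem F71972 : act 6 n18392 = n17980 := d12_2 (iv F69747) D18392 (iv D17980)
theorem F71973 : act 7 n18392 = n18125 := d13_2 (iv F69748) D18392 F71082
theorem F71974 : act 8 n18392 = n17943 := d14_2 (iv F69749) D18392 (iv D17943)
def n18393 : Q := act 4 n17799
theorem D18393 : act 4 n17799 = n18393 := rfl
theorem F71975 : act 0 n18393 = n18350 := d3_1 D18393 (iv D18350) (iv F69744)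
theorem F71976 : act 2 n18393 = n17800 := d16_1 D18393 (iv D17800) D17799
theorem F71977 : act 6 n18393 = n17981 := d27_2 (iv F69747) D18393 (iv D17981)
theorem F71978 : act 7 n18393 = n18307 := d28_2 (iv F69748) D18393 (iv D18307)
theorem F71979 : act 8 n18393 = n17944 := d29_2 (iv F69749) D18393 (iv D17944)
def n18394 : Q := act 5 n17800
theorem D18394 : act 5 n17800 = n18394 := rfl
theorem F71980 : act 0 n18394 = n18351 := d4_1 D18394 (iv D18351) (iv F69750)
theorem F71981 : act 1 n18394 = n17809 := d11_1 D18394 (iv D17809) (iv F69751)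
theorem F71982 : act 3 n18394 = n17802 := d22_1 D18394 (iv D17802) (iv F69752)
theorem F71983 : act 4 n18394 = n18284 := d26_1 D18394 (iv D18284) (iv D17686) (iv F67621) D17800
theorem F71984 : act 7 n18394 = n18308 := d31_2 (iv F69754) D18394 (iv D18308)
theorem F71985 : act 8 n18394 = n17945 := d32_2 (iv F69755) D18394 (iv D17945)
def n18395 : Q := act 3 n17801
theorem D18395 : act 3 n17801 = n18395 := rfl
theorem F71986 : act 1 n18395 = n18263 := d9_1 D18395 (iv D18263) (iv F69756)
theorem F71987 : act 4 n18395 = n18395 := d21_2 D17801 D18395 (iv D18395) (iv D17801) F67626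
def n18396 : Q := act 5 n17801
theorem D18396 : act 5 n17801 = n18396 := rfl
theorem F71988 : act 1 n18396 = n18264 := d11_1 D18396 (iv D18264) (iv F69756)
theorem F71989 : act 2 n18396 = n17802 := d17_1 D18396 (iv D17802) (iv F69757)
theorem F71990 : act 4 n18396 = n18046 := d26_1 D18396 (iv D18046) (iv D17429) (iv F67627) D17801
theorem F71991 : act 7 n18396 = n17827 := d31_2 (iv F69758) D18396 (iv D17827)
def n18397 : Q := act 6 n17802
theorem D18397 : act 6 n17802 = n18397 := rfl
theorem F71992 : act 1 n18397 = n17810 := d12_1 D18397 (iv D17810) (iv F69759)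
theorem F71993 : act 4 n18397 = n18047 := d27_1 D18397 (iv D18047) (iv F69760)
theorem F71994 : act 7 n18397 = n17828 := d33_2 (iv F69761) D18397 (iv D17828)
def n18398 : Q := act 1 n17803
theorem D18398 : act 1 n17803 = n18398 := rfl
theorem F71995 : act 0 n18398 = n18327 := d0_1 D18398 F71764 F71319 (iv D17887) (iv F69762)
theorem F71996 : act 2 n18398 = n18125 := d8_2 D17803 D18398 F71082 (iv D17706) (iv F67632)
theorem F71997 : act 3 n18398 = n18398 := d9_2 F69763 D18398 (iv D18398)
theorem F71998 : act 5 n18398 = n18291 := d11_2 (iv F69764) D18398 (iv D18291)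
theorem F71999 : act 6 n18398 = n17923 := d12_2 (iv F69765) D18398 (iv D17923)
theorem F72000 : act 7 n18398 = n17807 := d13_2 (iv F69766) D18398 (iv D17807)
theorem F72001 : act 8 n18398 = n17900 := d14_2 (iv F69767) D18398 (iv D17900)
def n18399 : Q := act 4 n17803
theorem D18399 : act 4 n17803 = n18399 := rfl
theorem F72002 : act 0 n18399 = n17888 := d3_1 D18399 (iv D17888) (iv F69762)
theorem F72003 : act 2 n18399 = n17804 := d16_1 D18399 (iv D17804) D17803
theorem F72004 : act 6 n18399 = n17924 := d27_2 (iv F69765) D18399 (iv D17924)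
theorem F72005 : act 7 n18399 = n17808 := d28_2 (iv F69766) D18399 (iv D17808)
theorem F72006 : act 8 n18399 = n17901 := d29_2 (iv F69767) D18399 (iv D17901)
def n18400 : Q := act 5 n17804
theorem D18400 : act 5 n17804 = n18400 := rfl
theorem F72007 : act 0 n18400 = n17889 := d4_1 D18400 (iv D17889) (iv F69768)
theorem F72008 : act 1 n18400 = n18308 := d11_1 D18400 (iv D18308) (iv F69769)
theorem F72009 : act 3 n18400 = n17835 := d22_1 D18400 (iv D17835) (iv F69770)
theorem F72010 : act 4 n18400 = n18293 := d26_1 D18400 (iv D18293) (iv D17694) (iv F67633) D17804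
theorem F72011 : act 7 n18400 = n17809 := d31_2 (iv F69772) D18400 (iv D17809)
theorem F72012 : act 8 n18400 = n17902 := d32_2 (iv F69773) D18400 (iv D17902)
def n18401 : Q := act 1 n17805
theorem D18401 : act 1 n17805 = n18401 := rfl
theorem F72013 : act 0 n18401 = n18224 := d0_1 D18401 (iv D18224) F69185 (iv F68002) (iv F69774)
theorem F72014 : act 2 n18401 = n18282 := d8_2 D17805 D18401 (iv D18282) (iv D17685) (iv F67638)
theorem F72015 : act 3 n18401 = n17811 := d9_2 (iv F69775) D18401 (iv D17811)
theorem F72016 : act 5 n18401 = n17807 := d11_2 (iv F69776) D18401 (iv D17807)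
theorem F72017 : act 6 n18401 = n18311 := d12_2 (iv F69777) D18401 F71707
theorem F72018 : act 7 n18401 = n18291 := d13_2 (iv F69778) D18401 (iv D18291)
theorem F72019 : act 8 n18401 = n17950 := d14_2 (iv F69779) D18401 (iv D17950)
def n18402 : Q := act 4 n17805
theorem D18402 : act 4 n17805 = n18402 := rfl
theorem F72020 : act 0 n18402 = n17891 := d3_1 D18402 (iv D17891) (iv F69774)
theorem F72021 : act 2 n18402 = n17806 := d16_1 D18402 (iv D17806) D17805
theorem F72022 : act 6 n18402 = n18372 := d27_2 (iv F69777) D18402 (iv D18372)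
theorem F72023 : act 7 n18402 = n18292 := d28_2 (iv F69778) D18402 (iv D18292)
theorem F72024 : act 8 n18402 = n17951 := d29_2 (iv F69779) D18402 (iv D17951)
def n18403 : Q := act 5 n17806
theorem D18403 : act 5 n17806 = n18403 := rfl
theorem F72025 : act 0 n18403 = n17892 := d4_1 D18403 (iv D17892) (iv F69780)
theorem F72026 : act 1 n18403 = n18284 := d11_1 D18403 (iv D18284) (iv F69781)
theorem F72027 : act 3 n18403 = n18052 := d22_1 D18403 (iv D18052) (iv F69782)
theorem F72028 : act 4 n18403 = n17809 := d26_1 D18403 (iv D17809) (iv D17201) (iv F67639) D17806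
theorem F72029 : act 7 n18403 = n18293 := d31_2 (iv F69783) D18403 (iv D18293)
theorem F72030 : act 8 n18403 = n17952 := d32_2 (iv F69784) D18403 (iv D17952)
def n18404 : Q := act 0 n17807
theorem D18404 : act 0 n17807 = n18404 := rfl
theorem F72031 : act 1 n18404 = n17893 := d0_2 D17807 D18404 (iv D17893) (iv D17282) (iv F67642)
theorem F72032 : act 2 n18404 = n18326 := d1_2 F71969 D18404 (iv F71968)
theorem F72033 : act 3 n18404 = n17813 := d2_2 (iv F69785) D18404 (iv D17813)
theorem F72034 : act 5 n18404 = n18224 := d4_2 F72016 D18404 (iv F72013)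
theorem F72035 : act 6 n18404 = n18002 := d5_2 (iv F69786) D18404 (iv D18002)
theorem F72036 : act 7 n18404 = n18327 := d6_2 F72000 D18404 (iv F71995)
theorem F72037 : act 8 n18404 = n17953 := d7_2 (iv F69787) D18404 (iv D17953)
def n18405 : Q := act 4 n17807
theorem D18405 : act 4 n17807 = n18405 := rfl
theorem F72038 : act 1 n18405 = n17808 := d10_1 D18405 (iv D17808) D17807
theorem F72039 : act 3 n18405 = n18273 := d21_1 D18405 (iv D18273) F69383 (iv F67667) (iv F69785)
theorem F72040 : act 6 n18405 = n18003 := d27_2 (iv F69786) D18405 (iv D18003)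
theorem F72041 : act 8 n18405 = n17954 := d29_2 (iv F69787) D18405 (iv D17954)
def n18406 : Q := act 5 n17808
theorem D18406 : act 5 n17808 = n18406 := rfl
theorem F72042 : act 0 n18406 = n17895 := d4_1 D18406 (iv D17895) (iv F69788)
theorem F72043 : act 2 n18406 = n17809 := d17_1 D18406 (iv D17809) (iv F69789)
theorem F72044 : act 3 n18406 = n18274 := d22_1 D18406 (iv D18274) (iv F69790)
theorem F72045 : act 8 n18406 = n17955 := d32_2 (iv F69792) D18406 (iv D17955)
def n18407 : Q := act 6 n17809
theorem D18407 : act 6 n17809 = n18407 := rfl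
theorem F72046 : act 0 n18407 = n17896 := d5_1 D18407 (iv D17896) (iv F69793)
theorem F72047 : act 3 n18407 = n17810 := d23_1 D18407 (iv D17810) (iv F69794)
theorem F72048 : act 5 n18407 = n18006 := d30_1 D18407 (iv D18006) (iv D17383) (iv F67648) D17809
theorem F72049 : act 8 n18407 = n17956 := d34_2 (iv F69795) D18407 (iv D17956)
def n18408 : Q := act 3 n17812
theorem D18408 : act 3 n17812 = n18408 := rfl
theorem F72050 : act 0 n18408 = n17897 := d2_1 D18408 (iv D17897) (iv F69806)
theorem F72051 : act 2 n18408 = n18059 := d15_1 D18408 (iv D18059) F68588 (iv F67661) (iv F69807)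
theorem F72052 : act 5 n18408 = n18278 := d22_2 (iv F69808) D18408 (iv D18278)
theorem F72053 : act 6 n18408 = n18388 := d23_2 (iv F69809) D18408 (iv D18388)
theorem F72054 : act 8 n18408 = n18017 := d25_2 (iv F69811) D18408 (iv D18017)
def n18409 : Q := act 6 n17814
theorem D18409 : act 6 n17814 = n18409 := rfl
theorem F72055 : act 0 n18409 = n17898 := d5_1 D18409 (iv D17898) (iv F69819)
theorem F72056 : act 1 n18409 = n18077 := d12_1 D18409 (iv D18077) (iv F69820)
theorem F72057 : act 2 n18409 = n17906 := d18_1 D18409 (iv D17906) (iv F69821)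
theorem F72058 : act 3 n18409 = n18028 := d23_1 D18409 (iv D18028) (iv F69822)
theorem F72059 : act 4 n18409 = n17821 := d27_1 D18409 (iv D17821) (iv F69823)
theorem F72060 : act 5 n18409 = n18060 := d30_1 D18409 (iv D18060) (iv D17442) (iv F67675) D17814
theorem F72061 : act 8 n18409 = n17844 := d34_2 (iv F69824) D18409 (iv D17844)
def n18410 : Q := act 5 n17815
theorem D18410 : act 5 n17815 = n18410 := rfl
theorem F72062 : act 0 n18410 = n18136 := d4_1 D18410 (iv D18136) (iv F69825)
theorem F72063 : act 1 n18410 = n18063 := d11_1 D18410 (iv D18063) (iv F69826)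
theorem F72064 : act 2 n18410 = n17816 := d17_1 D18410 (iv D17816) (iv F69827)
theorem F72065 : act 3 n18410 = n17933 := d22_1 D18410 (iv D17933) (iv F69828)
theorem F72066 : act 4 n18410 = n18076 := d26_1 D18410 (iv D18076) (iv D17461) (iv F67680) D17815
theorem F72067 : act 8 n18410 = n17846 := d32_2 (iv F69830) D18410 (iv D17846)
def n18411 : Q := act 6 n17816
theorem D18411 : act 6 n17816 = n18411 := rfl
theorem F72068 : act 0 n18411 = n18137 := d5_1 D18411 (iv D18137) (iv F69831)
theorem F72069 : act 1 n18411 = n17821 := d12_1 D18411 (iv D17821) (iv F69832)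
theorem F72070 : act 3 n18411 = n18088 := d23_1 D18411 (iv D18088) (iv F69833)
theorem F72071 : act 4 n18411 = n18077 := d27_1 D18411 (iv D18077) (iv F69834)
theorem F72072 : act 5 n18411 = n17828 := d30_1 D18411 (iv D17828) (iv D17218) (iv F67686) D17816
theorem F72073 : act 8 n18411 = n17847 := d34_2 (iv F69835) D18411 (iv D17847)
def n18412 : Q := act 4 n17817
theorem D18412 : act 4 n17817 = n18412 := rfl
theorem F72074 : act 0 n18412 = n17901 := d3_1 D18412 (iv D17901) (iv F69836)
theorem F72075 : act 1 n18412 = n18195 := d10_1 D18412 (iv D18195) (iv F69837)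
theorem F72076 : act 2 n18412 = n17818 := d16_1 D18412 (iv D17818) D17817
theorem F72077 : act 6 n18412 = n17834 := d27_2 (iv F69840) D18412 (iv D17834)
theorem F72078 : act 7 n18412 = n17819 := d28_2 (iv F69841) D18412 (iv D17819)
theorem F72079 : act 8 n18412 = n17888 := d29_2 (iv F69842) D18412 (iv D17888)
def n18413 : Q := act 5 n17818
theorem D18413 : act 5 n17818 = n18413 := rfl
theorem F72080 : act 0 n18413 = n17902 := d4_1 D18413 (iv D17902) (iv F69843)
theorem F72081 : act 1 n18413 = n18085 := d11_1 D18413 (iv D18085) (iv F69844)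
theorem F72082 : act 3 n18413 = n17925 := d22_1 D18413 (iv D17925) (iv F69845)
theorem F72083 : act 4 n18413 = n18079 := d26_1 D18413 (iv D18079) (iv D17465) (iv F67690) D17818
theorem F72084 : act 7 n18413 = n17820 := d31_2 (iv F69847) D18413 (iv D17820)
theorem F72085 : act 8 n18413 = n17889 := d32_2 (iv F69848) D18413 (iv D17889)
def n18414 : Q := act 5 n17819
theorem D18414 : act 5 n17819 = n18414 := rfl
theorem F72086 : act 0 n18414 = n17904 := d4_1 D18414 (iv D17904) (iv F69849)
theorem F72087 : act 1 n18414 = n18202 := d11_1 D18414 (iv D18202) (iv F69850)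
theorem F72088 : act 2 n18414 = n17820 := d17_1 D18414 (iv D17820) (iv F69851)
theorem F72089 : act 3 n18414 = n18190 := d22_1 D18414 (iv D18190) (iv F69852)
theorem F72090 : act 4 n18414 = n18080 := d26_1 D18414 (iv D18080) (iv D17466) (iv F67697) D17819
theorem F72091 : act 8 n18414 = n17848 := d32_2 (iv F69854) D18414 (iv D17848)
def n18415 : Q := act 6 n17820
theorem D18415 : act 6 n17820 = n18415 := rfl
theorem F72092 : act 0 n18415 = n17905 := d5_1 D18415 (iv D17905) (iv F69855)
theorem F72093 : act 1 n18415 = n18088 := d12_1 D18415 (iv D18088) (iv F69856)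
theorem F72094 : act 3 n18415 = n17821 := d23_1 D18415 (iv D17821) (iv F69857)
theorem F72095 : act 4 n18415 = n18081 := d27_1 D18415 (iv D18081) (iv F69858)
theorem F72096 : act 5 n18415 = n17840 := d30_1 D18415 (iv D17840) (iv D17227) (iv F67703) D17820
theorem F72097 : act 8 n18415 = n17849 := d34_2 (iv F69859) D18415 (iv D17849)
def n18416 : Q := act 5 n17822
theorem D18416 : act 5 n17822 = n18416 := rfl
theorem F72098 : act 0 n18416 = n17827 := d4_1 D18416 (iv D17827) (iv F69864)
theorem F72099 : act 1 n18416 = n18076 := d11_1 D18416 (iv D18076) (iv F69865)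
theorem F72100 : act 2 n18416 = n17823 := d17_1 D18416 (iv D17823) (iv F69866)
theorem F72101 : act 3 n18416 = n18107 := d22_1 D18416 (iv D18107) (iv F69867)
theorem F72102 : act 4 n18416 = n18063 := d26_1 D18416 (iv D18063) (iv D17446) (iv F67711) D17822
theorem F72103 : act 8 n18416 = n17852 := d32_2 (iv F69869) D18416 (iv D17852)
def n18417 : Q := act 6 n17823
theorem D18417 : act 6 n17823 = n18417 := rfl
theorem F72104 : act 0 n18417 = n17828 := d5_1 D18417 (iv D17828) (iv F69870)
theorem F72105 : act 1 n18417 = n17906 := d12_1 D18417 (iv D17906) (iv F69871)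
theorem F72106 : act 3 n18417 = n18218 := d23_1 D18417 (iv D18218) (iv F69872)
theorem F72107 : act 4 n18417 = n18064 := d27_1 D18417 (iv D18064) (iv F69873)
theorem F72108 : act 5 n18417 = n18137 := d30_1 D18417 (iv D18137) (iv D17528) (iv F67717) D17823
theorem F72109 : act 8 n18417 = n17853 := d34_2 (iv F69874) D18417 (iv D17853)
def n18418 : Q := act 5 n17824
theorem D18418 : act 5 n17824 = n18418 := rfl
theorem F72110 : act 0 n18418 = n18214 := d4_1 D18418 (iv D18214) (iv F69875)
theorem F72111 : act 1 n18418 = n17835 := d11_1 D18418 (iv D17835) (iv F69876)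
theorem F72112 : act 2 n18418 = n18207 := d17_1 D18418 (iv D18207) (iv F69877)
theorem F72113 : act 3 n18418 = n18308 := d22_1 D18418 (iv D18308) (iv F69878)
theorem F72114 : act 4 n18418 = n18114 := d26_1 D18418 (iv D18114) (iv D17499) (iv F67722) D17824
theorem F72115 : act 7 n18418 = n17825 := d31_2 (iv F69880) D18418 (iv D17825)
theorem F72116 : act 8 n18418 = n18306 := d32_2 (iv F69881) D18418 (iv D18306)
def n18419 : Q := act 6 n17825
theorem D18419 : act 6 n17825 = n18419 := rfl
theorem F72117 : act 0 n18419 = n18218 := d5_1 D18419 (iv D18218) (iv F69882)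
theorem F72118 : act 1 n18419 = n17840 := d12_1 D18419 (iv D17840) (iv F69883)
theorem F72119 : act 2 n18419 = n18211 := d18_1 D18419 (iv D18211) (iv F69884)
theorem F72120 : act 3 n18419 = n17828 := d23_1 D18419 (iv D17828) (iv F69885)
theorem F72121 : act 4 n18419 = n18123 := d27_1 D18419 (iv D18123) (iv F69886)
theorem F72122 : act 5 n18419 = n18088 := d30_1 D18419 (iv D18088) (iv D17474) (iv F67730) D17825
theorem F72123 : act 8 n18419 = n17857 := d34_2 (iv F69887) D18419 (iv D17857)
def n18420 : Q := act 5 n17826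
theorem D18420 : act 5 n17826 = n18420 := rfl
theorem F72124 : act 0 n18420 = n18107 := d4_1 D18420 (iv D18107) (iv F69888)
theorem F72125 : act 1 n18420 = n18279 := d11_1 D18420 (iv D18279) (iv F69889)
theorem F72126 : act 2 n18420 = n17931 := d17_1 D18420 (iv D17931) (iv F69890)
theorem F72127 : act 3 n18420 = n17827 := d22_1 D18420 (iv D17827) D17826
theorem F72128 : act 4 n18420 = n18093 := d26_1 D18420 (iv D18093) (iv D17479) (iv F67941) (iv F69891)
theorem F72129 : act 8 n18420 = n17858 := d32_2 (iv F69893) D18420 (iv D17858)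
def n18421 : Q := act 7 n17826
theorem D18421 : act 7 n17826 = n18421 := rfl
theorem F72130 : act 0 n18421 = n18100 := d6_1 D18421 F71005 (iv F69888)
theorem F72131 : act 1 n18421 = n18280 := d13_1 D18421 (iv D18280) (iv F69889)
theorem F72132 : act 2 n18421 = n17917 := d19_1 D18421 F70304 (iv F69890)
theorem F72133 : act 4 n18421 = n17876 := d28_1 D18421 (iv D17876) (iv F69891)
theorem F72134 : act 6 n18421 = n17921 := d33_1 D18421 F70322 (iv F69892)
def n18422 : Q := act 6 n17827
theorem D18422 : act 6 n17827 = n18422 := rfl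
theorem F72135 : act 1 n18422 = n18281 := d12_1 D18422 (iv D18281) (iv F69894)
theorem F72136 : act 2 n18422 = n17828 := d18_1 D18422 (iv D17828) (iv F69895)
theorem F72137 : act 4 n18422 = n18067 := d27_1 D18422 (iv D18067) (iv F69896)
theorem F72138 : act 8 n18422 = n17860 := d34_2 (iv F69897) D18422 (iv D17860)
def n18423 : Q := act 4 n17829
theorem D18423 : act 4 n17829 = n18423 := rfl
theorem F72139 : act 0 n18423 = n17921 := d3_1 D18423 (iv D17921) (iv F69901)
theorem F72140 : act 1 n18423 = n17967 := d10_1 D18423 (iv D17967) (iv F69902)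
theorem F72141 : act 2 n18423 = n17830 := d16_1 D18423 (iv D17830) D17829
theorem F72142 : act 6 n18423 = n18100 := d27_2 (iv F69905) D18423 (iv D18100)
theorem F72143 : act 7 n18423 = n17836 := d28_2 (iv F69906) D18423 (iv D17836)
def n18424 : Q := act 5 n17830
theorem D18424 : act 5 n17830 = n18424 := rfl
theorem F72144 : act 0 n18424 = n17922 := d4_1 D18424 (iv D17922) (iv F69907)
theorem F72145 : act 1 n18424 = n18114 := d11_1 D18424 (iv D18114) (iv F69908)
theorem F72146 : act 4 n18424 = n17835 := d26_1 D18424 (iv D17835) (iv D17222) (iv F67740) D17830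
theorem F72147 : act 7 n18424 = n17837 := d31_2 (iv F69910) D18424 (iv D17837)
def n18425 : Q := act 4 n17831
theorem D18425 : act 4 n17831 = n18425 := rfl
theorem F72148 : act 0 n18425 = n17924 := d3_1 D18425 (iv D17924) (iv F69911)
theorem F72149 : act 2 n18425 = n17832 := d16_1 D18425 (iv D17832) D17831
theorem F72150 : act 6 n18425 = n17888 := d27_2 (iv F69913) D18425 (iv D17888)
theorem F72151 : act 7 n18425 = n17864 := d28_2 (iv F69914) D18425 (iv D17864)
theorem F72152 : act 8 n18425 = n17834 := d29_2 (iv F69915) D18425 (iv D17834)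
def n18426 : Q := act 5 n17832
theorem D18426 : act 5 n17832 = n18426 := rfl
theorem F72153 : act 0 n18426 = n17925 := d4_1 D18426 (iv D17925) (iv F69916)
theorem F72154 : act 1 n18426 = n18306 := d11_1 D18426 (iv D18306) (iv F69917)
theorem F72155 : act 3 n18426 = n17902 := d22_1 D18426 (iv D17902) (iv F69918)
theorem F72156 : act 7 n18426 = n17865 := d31_2 (iv F69920) D18426 (iv D17865)
theorem F72157 : act 8 n18426 = n17835 := d32_2 (iv F69921) D18426 (iv D17835)
def n18427 : Q := act 4 n17833
theorem D18427 : act 4 n17833 = n18427 := rfl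
theorem F72158 : act 0 n18427 = n17978 := d3_1 D18427 (iv D17978) F69927
theorem F72159 : act 1 n18427 = n17834 := d10_1 D18427 (iv D17834) D17833
theorem F72160 : act 2 n18427 = n17964 := d16_1 D18427 (iv D17964) (iv F69922)
theorem F72161 : act 6 n18427 = n18195 := d27_2 (iv F69925) D18427 (iv D18195)
theorem F72162 : act 7 n18427 = n17838 := d28_2 (iv F69926) D18427 (iv D17838)
def n18428 : Q := act 3 n17834
theorem D18428 : act 3 n17834 = n18428 := rfl
theorem F72163 : act 0 n18428 = n17928 := d2_1 D18428 (iv D17928) (iv F69928)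
theorem F72164 : act 4 n18428 = n18428 := d21_2 D17834 D18428 (iv D18428) (iv D17834) F67749
theorem F72165 : act 7 n18428 = n18286 := d24_2 (iv F69930) D18428 (iv D18286) F69423 (iv F67772)
def n18429 : Q := act 5 n17834
theorem D18429 : act 5 n17834 = n18429 := rfl
theorem F72166 : act 0 n18429 = n17929 := d4_1 D18429 (iv D17929) (iv F69928)
theorem F72167 : act 2 n18429 = n17835 := d17_1 D18429 (iv D17835) (iv F69929)
theorem F72168 : act 7 n18429 = n17839 := d31_2 (iv F69930) D18429 (iv D17839)
def n18430 : Q := act 6 n17835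
theorem D18430 : act 6 n17835 = n18430 := rfl
theorem F72169 : act 0 n18430 = n17930 := d5_1 D18430 (iv D17930) (iv F69931)
theorem F72170 : act 7 n18430 = n17840 := d33_2 (iv F69932) D18430 (iv D17840)
def n18431 : Q := act 5 n17836
theorem D18431 : act 5 n17836 = n18431 := rfl
theorem F72171 : act 0 n18431 = n17933 := d4_1 D18431 (iv D17933) (iv F69933)
theorem F72172 : act 1 n18431 = n17970 := d11_1 D18431 (iv D17970) (iv F69934)
theorem F72173 : act 2 n18431 = n17837 := d17_1 D18431 (iv D17837) (iv F69935)
theorem F72174 : act 3 n18431 = n18136 := d22_1 D18431 (iv D18136) (iv F69936)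
theorem F72175 : act 4 n18431 = n17839 := d26_1 D18431 (iv D17839) (iv D17226) (iv F67756) D17836
theorem F72176 : act 8 n18431 = n17871 := d32_2 (iv F69938) D18431 (iv D17871)
def n18432 : Q := act 6 n17837
theorem D18432 : act 6 n17837 = n18432 := rfl
theorem F72177 : act 0 n18432 = n17934 := d5_1 D18432 (iv D17934) (iv F69939)
theorem F72178 : act 1 n18432 = n18123 := d12_1 D18432 (iv D18123) (iv F69940)
theorem F72179 : act 3 n18432 = n18073 := d23_1 D18432 (iv D18073) (iv F69941)
theorem F72180 : act 4 n18432 = n17840 := d27_1 D18432 (iv D17840) (iv F69942)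
theorem F72181 : act 5 n18432 = n18108 := d30_1 D18432 (iv D18108) (iv D17492) (iv F67762) D17837
theorem F72182 : act 8 n18432 = n17872 := d34_2 (iv F69943) D18432 (iv D17872)
def n18433 : Q := act 5 n17838
theorem D18433 : act 5 n17838 = n18433 := rfl
theorem F72183 : act 0 n18433 = n17990 := d4_1 D18433 (iv D17990) (iv F69944)
theorem F72184 : act 1 n18433 = n17839 := d11_1 D18433 (iv D17839) (iv F69945)
theorem F72185 : act 2 n18433 = n17969 := d17_1 D18433 (iv D17969) (iv F69946)
theorem F72186 : act 3 n18433 = n18289 := d22_1 D18433 (iv D18289) (iv F69947)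
theorem F72187 : act 4 n18433 = n17970 := d26_1 D18433 (iv D17970) (iv D17354) (iv F67766) D17838
theorem F72188 : act 8 n18433 = n17874 := d32_2 (iv F69949) D18433 (iv D17874)
def n18434 : Q := act 6 n17839
theorem D18434 : act 6 n17839 = n18434 := rfl
theorem F72189 : act 0 n18434 = n17937 := d5_1 D18434 (iv D17937) (iv F69950)
theorem F72190 : act 2 n18434 = n17840 := d18_1 D18434 (iv D17840) (iv F69951)
theorem F72191 : act 3 n18434 = n18290 := d23_1 D18434 (iv D18290) (iv F69952)
theorem F72192 : act 8 n18434 = n17875 := d34_2 (iv F69953) D18434 (iv D17875)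
def n18435 : Q := act 6 n17841
theorem D18435 : act 6 n17841 = n18435 := rfl
theorem F72193 : act 0 n18435 = n18026 := d5_1 D18435 (iv D18026) (iv F69957)
theorem F72194 : act 1 n18435 = n17844 := d12_1 D18435 (iv D17844) (iv F69958)
theorem F72195 : act 2 n18435 = n18385 := d18_1 D18435 (iv D18385) (iv F69959)
theorem F72196 : act 3 n18435 = n18060 := d23_1 D18435 (iv D18060) (iv F69960)
theorem F72197 : act 4 n18435 = n17847 := d27_1 D18435 (iv D17847) (iv F69961)
theorem F72198 : act 5 n18435 = n18028 := d30_1 D18435 (iv D18028) (iv D17412) (iv F67785) D17841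
theorem F72199 : act 8 n18435 = n18077 := d34_2 (iv F69962) D18435 (iv D18077)
def n18436 : Q := act 5 n17842
theorem D18436 : act 5 n17842 = n18436 := rfl
theorem F72200 : act 0 n18436 = n17940 := d4_1 D18436 (iv D17940) (iv F69963)
theorem F72201 : act 1 n18436 = n18136 := d11_1 D18436 (iv D18136) (iv F69964)
theorem F72202 : act 2 n18436 = n17843 := d17_1 D18436 (iv D17843) (iv F69965)
theorem F72203 : act 3 n18436 = n17970 := d22_1 D18436 (iv D17970) (iv F69966)
theorem F72204 : act 4 n18436 = n18061 := d26_1 D18436 (iv D18061) (iv D17443) (iv F67790) D17842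
theorem F72205 : act 8 n18436 = n18027 := d32_2 (iv F69968) D18436 (iv D18027)
def n18437 : Q := act 6 n17843
theorem D18437 : act 6 n17843 = n18437 := rfl
theorem F72206 : act 0 n18437 = n17941 := d5_1 D18437 (iv D17941) (iv F69969)
theorem F72207 : act 1 n18437 = n18060 := d12_1 D18437 (iv D18060) (iv F69970)
theorem F72208 : act 3 n18437 = n17844 := d23_1 D18437 (iv D17844) (iv F69971)
theorem F72209 : act 4 n18437 = n18062 := d27_1 D18437 (iv D18062) (iv F69972)
theorem F72210 : act 5 n18437 = n18077 := d30_1 D18437 (iv D18077) (iv D17462) (iv F67796) D17843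
theorem F72211 : act 8 n18437 = n18028 := d34_2 (iv F69973) D18437 (iv D18028)
def n18438 : Q := act 6 n17845
theorem D18438 : act 6 n17845 = n18438 := rfl
theorem F72212 : act 0 n18438 = n17847 := d5_1 D18438 (iv D17847) (iv F69978)
theorem F72213 : act 1 n18438 = n17942 := d12_1 D18438 (iv D17942) (iv F69979)
theorem F72214 : act 3 n18438 = n18124 := d23_1 D18438 (iv D18124) (iv F69980)
theorem F72215 : act 4 n18438 = n18026 := d27_1 D18438 (iv D18026) (iv F69981)
theorem F72216 : act 5 n18438 = n17853 := d30_1 D18438 (iv D17853) (iv D17242) (iv F67804) D17845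
theorem F72217 : act 7 n18438 = n18435 := d33_2 (iv F69982) D18438 (iv D18435)
theorem F72218 : act 8 n18438 = n18137 := d34_2 (iv F69983) D18438 (iv D18137)
def n18439 : Q := act 6 n17846
theorem D18439 : act 6 n17846 = n18439 := rfl
theorem F72219 : act 1 n18439 = n18095 := d12_1 D18439 (iv D18095) (iv F69984)
theorem F72220 : act 2 n18439 = n17847 := d18_1 D18439 (iv D17847) (iv F69985)
theorem F72221 : act 3 n18439 = n18014 := d23_1 D18439 (iv D18014) (iv F69986)
theorem F72222 : act 4 n18439 = n18385 := d27_1 D18439 (iv D18385) (iv F69987)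
theorem F72223 : act 5 n18439 = n17860 := d30_1 D18439 (iv D17860) (iv D17248) (iv F67810) D17846
def n18440 : Q := act 6 n17848
theorem D18440 : act 6 n17848 = n18440 := rfl
theorem F72224 : act 0 n18440 = n17963 := d5_1 D18440 (iv D17963) (iv F69991)
theorem F72225 : act 1 n18440 = n18248 := d12_1 D18440 (iv D18248) (iv F69992)
theorem F72226 : act 2 n18440 = n17849 := d18_1 D18440 (iv D17849) (iv F69993)
theorem F72227 : act 3 n18440 = n18233 := d23_1 D18440 (iv D18233) (iv F69994)
theorem F72228 : act 4 n18440 = n18249 := d27_1 D18440 (iv D18249) (iv F69995)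
theorem F72229 : act 5 n18440 = n17875 := d30_1 D18440 (iv D17875) (iv D17263) (iv F67817) D17848
def n18441 : Q := act 5 n17850
theorem D18441 : act 5 n17850 = n18441 := rfl
theorem F72230 : act 0 n18441 = n17855 := d4_1 D18441 (iv D17855) (iv F70001)
theorem F72231 : act 1 n18441 = n17968 := d11_1 D18441 (iv D17968) (iv F70002)
theorem F72232 : act 2 n18441 = n18114 := d17_1 D18441 (iv D18114) (iv F70003)
theorem F72233 : act 3 n18441 = n18140 := d22_1 D18441 (iv D18140) (iv F70004)
theorem F72234 : act 4 n18441 = n18207 := d26_1 D18441 (iv D18207) (iv D17595) (iv F67828) D17850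
theorem F72235 : act 7 n18441 = n17851 := d31_2 (iv F70006) D18441 (iv D17851)
theorem F72236 : act 8 n18441 = n18139 := d32_2 (iv F70007) D18441 (iv D18139)
def n18442 : Q := act 6 n17851
theorem D18442 : act 6 n17851 = n18442 := rfl
theorem F72237 : act 0 n18442 = n17857 := d5_1 D18442 (iv D17857) (iv F70008)
theorem F72238 : act 1 n18442 = n17971 := d12_1 D18442 (iv D17971) (iv F70009)
theorem F72239 : act 2 n18442 = n18123 := d18_1 D18442 (iv D18123) (iv F70010)
theorem F72240 : act 3 n18442 = n17853 := d23_1 D18442 (iv D17853) (iv F70011)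
theorem F72241 : act 4 n18442 = n18211 := d27_1 D18442 (iv D18211) (iv F70012)
theorem F72242 : act 5 n18442 = n18124 := d30_1 D18442 (iv D18124) (iv D17509) (iv F67836) D17851
theorem F72243 : act 8 n18442 = n18218 := d34_2 (iv F70013) D18442 (iv D18218)
def n18443 : Q := act 6 n17852
theorem D18443 : act 6 n17852 = n18443 := rfl
theorem F72244 : act 0 n18443 = n17860 := d5_1 D18443 (iv D17860) (iv F70014)
theorem F72245 : act 1 n18443 = n18385 := d12_1 D18443 (iv D18385) (iv F70015)
theorem F72246 : act 2 n18443 = n17853 := d18_1 D18443 (iv D17853) (iv F70016)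
theorem F72247 : act 3 n18443 = n18384 := d23_1 D18443 (iv D18384) (iv F70017)
theorem F72248 : act 4 n18443 = n18095 := d27_1 D18443 (iv D18095) (iv F70018)
def n18444 : Q := act 5 n17854
theorem D18444 : act 5 n17854 = n18444 := rfl
theorem F72249 : act 0 n18444 = n18207 := d4_1 D18444 (iv D18207) (iv F70022)
theorem F72250 : act 1 n18444 = n17863 := d11_1 D18444 (iv D17863) (iv F70023)
theorem F72251 : act 2 n18444 = n18214 := d17_1 D18444 (iv D18214) (iv F70024)
theorem F72252 : act 4 n18444 = n17855 := d26_1 D18444 (iv D17855) (iv D17244) (iv F67848) D17854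
theorem F72253 : act 7 n18444 = n17856 := d31_2 (iv F70026) D18444 (iv D17856)
theorem F72254 : act 8 n18444 = n18361 := d32_2 (iv F70027) D18444 (iv D18361)
def n18445 : Q := act 6 n17855
theorem D18445 : act 6 n17855 = n18445 := rfl
theorem F72255 : act 1 n18445 = n17869 := d12_1 D18445 (iv D17869) (iv F70028)
theorem F72256 : act 2 n18445 = n18252 := d18_1 D18445 (iv D18252) (iv F70029)
theorem F72257 : act 5 n18445 = n18254 := d30_1 D18445 (iv D18254) (iv D17646) (iv F67854) D17855
theorem F72258 : act 7 n18445 = n17857 := d33_2 (iv F70030) D18445 (iv D17857)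
def n18446 : Q := act 6 n17856
theorem D18446 : act 6 n17856 = n18446 := rfl
theorem F72259 : act 0 n18446 = n18211 := d5_1 D18446 (iv D18211) (iv F70031)
theorem F72260 : act 1 n18446 = n17872 := d12_1 D18446 (iv D17872) (iv F70032)
theorem F72261 : act 2 n18446 = n18218 := d18_1 D18446 (iv D18218) (iv F70033)
theorem F72262 : act 3 n18446 = n18108 := d23_1 D18446 (iv D18108) (iv F70034)
theorem F72263 : act 4 n18446 = n17857 := d27_1 D18446 (iv D17857) (iv F70035)
theorem F72264 : act 5 n18446 = n18073 := d30_1 D18446 (iv D18073) (iv D17457) (iv F67860) D17856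
theorem F72265 : act 8 n18446 = n18123 := d34_2 (iv F70036) D18446 (iv D18123)
def n18447 : Q := act 6 n17858
theorem D18447 : act 6 n17858 = n18447 := rfl
theorem F72266 : act 0 n18447 = n18384 := d5_1 D18447 (iv D18384) (iv F70041)
theorem F72267 : act 1 n18447 = n18303 := d12_1 D18447 (iv D18303) (iv F70042)
theorem F72268 : act 2 n18447 = n18012 := d18_1 D18447 (iv D18012) (iv F70043)
theorem F72269 : act 3 n18447 = n17860 := d23_1 D18447 (iv D17860) (iv F70044)
theorem F72270 : act 4 n18447 = n18387 := d27_1 D18447 (iv D18387) (iv F70045)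
theorem F72271 : act 5 n18447 = n18014 := d30_1 D18447 (iv D18014) (iv D17391) (iv F67869) D17858
def n18448 : Q := act 7 n17858
theorem D18448 : act 7 n17858 = n18448 := rfl
theorem F72272 : act 0 n18448 = n18369 := d6_1 D18448 F71898 (iv F70041)
theorem F72273 : act 1 n18448 = n18304 := d13_1 D18448 (iv D18304) (iv F70042)
theorem F72274 : act 2 n18448 = n17995 := d19_1 D18448 F70611 (iv F70043)
theorem F72275 : act 4 n18448 = n18379 := d28_1 D18448 F71928 (iv F70045)
theorem F72276 : act 5 n18448 = n17859 := d31_1 D18448 (iv D17859) D17858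
def n18449 : Q := act 5 n17861
theorem D18449 : act 5 n17861 = n18449 := rfl
theorem F72277 : act 0 n18449 = n17995 := d4_1 D18449 (iv D17995) (iv F70054)
theorem F72278 : act 1 n18449 = n18070 := d11_1 D18449 (iv D18070) (iv F70055)
theorem F72279 : act 2 n18449 = n18369 := d17_1 D18449 (iv D18369) (iv F70056)
theorem F72280 : act 4 n18449 = n18065 := d26_1 D18449 (iv D18065) (iv D17448) (iv F67878) D17861
theorem F72281 : act 7 n18449 = n17870 := d31_2 (iv F70058) D18449 (iv D17870)
def n18450 : Q := act 5 n17862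
theorem D18450 : act 5 n17862 = n18450 := rfl
theorem F72282 : act 0 n18450 = n17998 := d4_1 D18450 (iv D17998) (iv F70059)
theorem F72283 : act 1 n18450 = n18361 := d11_1 D18450 (iv D18361) (iv F70060)
theorem F72284 : act 3 n18450 = n18444 := d22_1 D18450 (iv D18444) (iv F70061)
theorem F72285 : act 4 n18450 = n17865 := d26_1 D18450 (iv D17865) (iv D17254) (iv F67883) D17862
theorem F72286 : act 8 n18450 = n17863 := d32_2 (iv F70062) D18450 (iv D17863)
def n18451 : Q := act 6 n17863
theorem D18451 : act 6 n17863 = n18451 := rfl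
theorem F72287 : act 0 n18451 = n18001 := d5_1 D18451 (iv D18001) (iv F70063)
theorem F72288 : act 4 n18451 = n17869 := d27_1 D18451 (iv D17869) (iv F70064)
theorem F72289 : act 7 n18451 = n17872 := d33_2 (iv F70065) D18451 (iv D17872)
def n18452 : Q := act 5 n17864
theorem D18452 : act 5 n17864 = n18452 := rfl
theorem F72290 : act 0 n18452 = n18005 := d4_1 D18452 (iv D18005) (iv F70066)
theorem F72291 : act 2 n18452 = n17865 := d17_1 D18452 (iv D17865) (iv F70067)
theorem F72292 : act 3 n18452 = n18159 := d22_1 D18452 (iv D18159) (iv F70068)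
theorem F72293 : act 8 n18452 = n17868 := d32_2 (iv F70070) D18452 (iv D17868)
def n18453 : Q := act 6 n17865
theorem D18453 : act 6 n17865 = n18453 := rfl
theorem F72294 : act 0 n18453 = n18006 := d5_1 D18453 (iv D18006) (iv F70071)
theorem F72295 : act 3 n18453 = n17879 := d23_1 D18453 (iv D17879) (iv F70072)
theorem F72296 : act 5 n18453 = n17896 := d30_1 D18453 (iv D17896) (iv D17284) (iv F67893) D17865
theorem F72297 : act 8 n18453 = n17869 := d34_2 (iv F70073) D18453 (iv D17869)
def n18454 : Q := act 4 n17866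
theorem D18454 : act 4 n17866 = n18454 := rfl
theorem F72298 : act 0 n18454 = n17867 := d3_1 D18454 (iv D17867) D17866
theorem F72299 : act 1 n18454 = n18007 := d10_1 D18454 (iv D18007) (iv F70074)
theorem F72300 : act 2 n18454 = n17907 := d16_1 D18454 (iv D17907) (iv F70075)
theorem F72301 : act 6 n18454 = n18222 := d27_2 (iv F70078) D18454 (iv D18222)
theorem F72302 : act 7 n18454 = n17873 := d28_2 (iv F70079) D18454 (iv D17873)
def n18455 : Q := act 5 n17867
theorem D18455 : act 5 n17867 = n18455 := rfl
theorem F72303 : act 1 n18455 = n17868 := d11_1 D18455 (iv D17868) (iv F70080)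
theorem F72304 : act 2 n18455 = n18236 := d17_1 D18455 (iv D18236) (iv F70081)
theorem F72305 : act 4 n18455 = n18363 := d26_1 D18455 (iv D18363) (iv D17765) (iv F67897) D17867
theorem F72306 : act 7 n18455 = n17874 := d31_2 (iv F70083) D18455 (iv D17874)
def n18456 : Q := act 6 n17868
theorem D18456 : act 6 n17868 = n18456 := rfl
theorem F72307 : act 0 n18456 = n18011 := d5_1 D18456 (iv D18011) (iv F70084)
theorem F72308 : act 2 n18456 = n17869 := d18_1 D18456 (iv D17869) (iv F70085)
theorem F72309 : act 7 n18456 = n17875 := d33_2 (iv F70086) D18456 (iv D17875)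
def n18457 : Q := act 6 n17870
theorem D18457 : act 6 n17870 = n18457 := rfl
theorem F72310 : act 0 n18457 = n18012 := d5_1 D18457 (iv D18012) (iv F70089)
theorem F72311 : act 1 n18457 = n18073 := d12_1 D18457 (iv D18073) (iv F70090)
theorem F72312 : act 2 n18457 = n18384 := d18_1 D18457 (iv D18384) (iv F70091)
theorem F72313 : act 3 n18457 = n18123 := d23_1 D18457 (iv D18123) (iv F70092)
theorem F72314 : act 4 n18457 = n18066 := d27_1 D18457 (iv D18066) (iv F70093)
theorem F72315 : act 5 n18457 = n17872 := d30_1 D18457 (iv D17872) (iv D17260) (iv F67909) D17870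
theorem F72316 : act 8 n18457 = n18108 := d34_2 (iv F70094) D18457 (iv D18108)
def n18458 : Q := act 6 n17871
theorem D18458 : act 6 n17871 = n18458 := rfl
theorem F72317 : act 0 n18458 = n18014 := d5_1 D18458 (iv D18014) (iv F70095)
theorem F72318 : act 1 n18458 = n18383 := d12_1 D18458 (iv D18383) (iv F70096)
theorem F72319 : act 2 n18458 = n17872 := d18_1 D18458 (iv D17872) (iv F70097)
theorem F72320 : act 4 n18458 = n17875 := d27_1 D18458 (iv D17875) (iv F70098)
theorem F72321 : act 5 n18458 = n18384 := d30_1 D18458 (iv D18384) (iv D17786) (iv F67914) D17871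
def n18459 : Q := act 5 n17873
theorem D18459 : act 5 n17873 = n18459 := rfl
theorem F72322 : act 0 n18459 = n17874 := d4_1 D18459 (iv D17874) (iv F70102)
theorem F72323 : act 1 n18459 = n18015 := d11_1 D18459 (iv D18015) (iv F70103)
theorem F72324 : act 2 n18459 = n17912 := d17_1 D18459 (iv D17912) (iv F70104)
theorem F72325 : act 3 n18459 = n18302 := d22_1 D18459 F71680 (iv F70105)
theorem F72326 : act 4 n18459 = n17913 := d26_1 D18459 (iv D17913) (iv D17302) (iv F67921) D17873
theorem F72327 : act 8 n18459 = n17990 := d32_2 (iv F70107) D18459 (iv D17990)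
def n18460 : Q := act 6 n17874
theorem D18460 : act 6 n17874 = n18460 := rfl
theorem F72328 : act 1 n18460 = n17875 := d12_1 D18460 (iv D17875) (iv F70108)
theorem F72329 : act 2 n18460 = n18247 := d18_1 D18460 (iv D18247) (iv F70109)
theorem F72330 : act 3 n18460 = n18322 := d23_1 D18460 (iv D18322) (iv F70110)
theorem F72331 : act 4 n18460 = n18383 := d27_1 D18460 (iv D18383) (iv F70111)
theorem F72332 : act 5 n18460 = n18248 := d30_1 D18460 (iv D18248) (iv D17638) (iv F67927) D17874
def n18461 : Q := act 6 n17877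
theorem D18461 : act 6 n17877 = n18461 := rfl
theorem F72333 : act 1 n18461 = n18030 := d12_1 D18461 (iv D18030) (iv F70121)
theorem F72334 : act 2 n18461 = n17884 := d18_1 D18461 (iv D17884) (iv F70122)
theorem F72335 : act 3 n18461 = n18445 := d23_1 D18461 (iv D18445) (iv F70123)
theorem F72336 : act 4 n18461 = n17879 := d27_1 D18461 (iv D17879) (iv F70124)
theorem F72337 : act 5 n18461 = n18126 := d30_1 D18461 (iv D18126) (iv D17516) (iv F67953) D17877
theorem F72338 : act 7 n18461 = n17898 := d33_2 (iv F70125) D18461 (iv D17898)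
def n18462 : Q := act 6 n17878
theorem D18462 : act 6 n17878 = n18462 := rfl
theorem F72339 : act 0 n18462 = n18141 := d5_1 D18462 (iv D18141) (iv F70126)
theorem F72340 : act 1 n18462 = n17879 := d12_1 D18462 (iv D17879) (iv F70127)
theorem F72341 : act 2 n18462 = n18126 := d18_1 D18462 (iv D18126) (iv F70128)
theorem F72342 : act 4 n18462 = n18030 := d27_1 D18462 (iv D18030) (iv F70129)
theorem F72343 : act 5 n18462 = n17884 := d30_1 D18462 (iv D17884) (iv D17275) (iv F67958) D17878
theorem F72344 : act 7 n18462 = n17899 := d33_2 (iv F70130) D18462 (iv D17899)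
theorem F72345 : act 8 n18462 = n18461 := d34_2 (iv F70131) D18462 (iv D18461)
def n18463 : Q := act 5 n17880
theorem D18463 : act 5 n17880 = n18463 := rfl
theorem F72346 : act 0 n18463 = n17883 := d4_1 D18463 (iv D17883) (iv F70135)
theorem F72347 : act 1 n18463 = n18351 := d11_1 D18463 (iv D18351) (iv F70136)
theorem F72348 : act 2 n18463 = n18115 := d17_1 D18463 (iv D18115) (iv F70137)
theorem F72349 : act 3 n18463 = n17881 := d22_1 D18463 (iv D17881) (iv F70138)
theorem F72350 : act 4 n18463 = n18119 := d26_1 D18463 (iv D18119) (iv D17503) (iv F67966) D17880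
theorem F72351 : act 7 n18463 = n18215 := d31_2 (iv F70140) D18463 (iv D18215)
theorem F72352 : act 8 n18463 = n18116 := d32_2 (iv F70141) D18463 (iv D18116)
def n18464 : Q := act 6 n17881
theorem D18464 : act 6 n17881 = n18464 := rfl
theorem F72353 : act 0 n18464 = n17884 := d5_1 D18464 (iv D17884) (iv F70142)
theorem F72354 : act 4 n18464 = n18149 := d27_1 D18464 (iv D18149) (iv F70143)
theorem F72355 : act 5 n18464 = n18141 := d30_1 D18464 (iv D18141) (iv D17533) (iv F67971) D17881
theorem F72356 : act 7 n18464 = n17906 := d33_2 (iv F70144) D18464 (iv D17906)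
def n18465 : Q := act 5 n17882
theorem D18465 : act 5 n17882 = n18465 := rfl
theorem F72357 : act 0 n18465 = n18215 := d4_1 D18465 (iv D18215) (iv F70145)
theorem F72358 : act 1 n18465 = n17889 := d11_1 D18465 (iv D17889) (iv F70146)
theorem F72359 : act 2 n18465 = n18208 := d17_1 D18465 (iv D18208) (iv F70147)
theorem F72360 : act 3 n18465 = n17911 := d22_1 D18465 (iv D17911) (iv F70148)
theorem F72361 : act 4 n18465 = n18086 := d26_1 D18465 (iv D18086) (iv D17472) (iv F67976) D17882
theorem F72362 : act 7 n18465 = n17883 := d31_2 (iv F70150) D18465 (iv D17883)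
theorem F72363 : act 8 n18465 = n18085 := d32_2 (iv F70151) D18465 (iv D18085)
def n18466 : Q := act 6 n17883
theorem D18466 : act 6 n17883 = n18466 := rfl
theorem F72364 : act 1 n18466 = n17896 := d12_1 D18466 (iv D17896) (iv F70152)
theorem F72365 : act 2 n18466 = n18253 := d18_1 D18466 (iv D18253) (iv F70153)
theorem F72366 : act 3 n18466 = n17884 := d23_1 D18466 (iv D17884) (iv F70154)
theorem F72367 : act 4 n18466 = n18255 := d27_1 D18466 (iv D18255) (iv F70155)
theorem F72368 : act 8 n18466 = n18254 := d34_2 (iv F70156) D18466 (iv D18254)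
def n18467 : Q := act 4 n17885
theorem D18467 : act 4 n17885 = n18467 := rfl
theorem F72369 : act 0 n18467 = n18292 := d3_1 D18467 (iv D18292) (iv F70160)
theorem F72370 : act 1 n18467 = n18197 := d10_1 D18467 (iv D18197) (iv F70161)
theorem F72371 : act 2 n18467 = n17886 := d16_1 D18467 (iv D17886) D17885
theorem F72372 : act 6 n18467 = n18102 := d27_2 (iv F70164) D18467 (iv D18102)
theorem F72373 : act 7 n18467 = n17891 := d28_2 (iv F70165) D18467 (iv D17891)
theorem F72374 : act 8 n18467 = n18078 := d29_2 (iv F70166) D18467 (iv D18078)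
def n18468 : Q := act 5 n17886
theorem D18468 : act 5 n17886 = n18468 := rfl
theorem F72375 : act 0 n18468 = n18293 := d4_1 D18468 (iv D18293) (iv F70167)
theorem F72376 : act 1 n18468 = n18086 := d11_1 D18468 (iv D18086) (iv F70168)
theorem F72377 : act 4 n18468 = n17889 := d26_1 D18468 (iv D17889) (iv D17278) (iv F67989) D17886
theorem F72378 : act 7 n18468 = n17892 := d31_2 (iv F70170) D18468 (iv D17892)
theorem F72379 : act 8 n18468 = n18079 := d32_2 (iv F70171) D18468 (iv D18079)
def n18469 : Q := act 4 n17887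
theorem D18469 : act 4 n17887 = n18469 := rfl
theorem F72380 : act 1 n18469 = n17888 := d10_1 D18469 (iv D17888) D17887
theorem F72381 : act 2 n18469 = n18194 := d16_1 D18469 (iv D18194) (iv F70172)
theorem F72382 : act 7 n18469 = n17894 := d28_2 (iv F70175) D18469 (iv D17894)
theorem F72383 : act 8 n18469 = n18195 := d29_2 (iv F70176) D18469 (iv D18195)
def n18470 : Q := act 3 n17888
theorem D18470 : act 3 n17888 = n18470 := rfl
theorem F72384 : act 2 n18470 = n17928 := d15_1 D18470 (iv D17928) F68130 (iv F67995) (iv F70177)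
theorem F72385 : act 4 n18470 = n18470 := d21_2 D17888 D18470 (iv D18470) (iv D17888) F67993
theorem F72386 : act 7 n18470 = n18335 := d24_2 (iv F70178) D18470 (iv D18335) F69562 (iv F68015)
def n18471 : Q := act 5 n17888
theorem D18471 : act 5 n17888 = n18471 := rfl
theorem F72387 : act 2 n18471 = n17889 := d17_1 D18471 (iv D17889) (iv F70177)
theorem F72388 : act 7 n18471 = n17895 := d31_2 (iv F70178) D18471 (iv D17895)
def n18472 : Q := act 6 n17889
theorem D18472 : act 6 n17889 = n18472 := rfl
theorem F72389 : act 3 n18472 = n17930 := d23_1 D18472 (iv D17930) (iv F70179)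
theorem F72390 : act 7 n18472 = n17896 := d33_2 (iv F70180) D18472 (iv D17896)
def n18473 : Q := act 5 n17890
theorem D18473 : act 5 n17890 = n18473 := rfl
theorem F72391 : act 1 n18473 = n18071 := d11_1 D18473 (iv D18071) (iv F70181)
theorem F72392 : act 2 n18473 = n18374 := d17_1 D18473 (iv D18374) (iv F70182)
theorem F72393 : act 3 n18473 = n18175 := d22_1 D18473 (iv D18175) (iv F70183)
theorem F72394 : act 7 n18473 = n18103 := d31_2 (iv F70185) D18473 (iv D18103)
theorem F72395 : act 8 n18473 = n18065 := d32_2 (iv F70186) D18473 (iv D18065)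
def n18474 : Q := act 3 n17891
theorem D18474 : act 3 n17891 = n18474 := rfl
theorem F72396 : act 1 n18474 = n18240 := d9_1 D18474 (iv D18240) (iv F70187)
theorem F72397 : act 2 n18474 = n18178 := d15_1 D18474 (iv D18178) F69038 (iv F68008) (iv F70188)
theorem F72398 : act 4 n18474 = n17897 := d21_2 D17891 D18474 (iv D17897) (iv D17286) (iv F68003)
theorem F72399 : act 6 n18474 = n18373 := d23_2 (iv F70189) D18474 (iv D18373)
theorem F72400 : act 8 n18474 = n18243 := d25_2 (iv F70190) D18474 (iv D18243)
def n18475 : Q := act 5 n17891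
theorem D18475 : act 5 n17891 = n18475 := rfl
theorem F72401 : act 1 n18475 = n18241 := d11_1 D18475 (iv D18241) (iv F70187)
theorem F72402 : act 2 n18475 = n17892 := d17_1 D18475 (iv D17892) (iv F70188)
theorem F72403 : act 4 n18475 = n17895 := d26_1 D18475 (iv D17895) (iv D17283) (iv F68004) D17891
theorem F72404 : act 8 n18475 = n18244 := d32_2 (iv F70190) D18475 (iv D18244)
def n18476 : Q := act 6 n17892
theorem D18476 : act 6 n17892 = n18476 := rfl
theorem F72405 : act 1 n18476 = n18255 := d12_1 D18476 (iv D18255) (iv F70191)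
theorem F72406 : act 3 n18476 = n18180 := d23_1 D18476 (iv D18180) (iv F70192)
theorem F72407 : act 4 n18476 = n17896 := d27_1 D18476 (iv D17896) (iv F70193)
theorem F72408 : act 8 n18476 = n18256 := d34_2 (iv F70194) D18476 (iv D18256)
def n18477 : Q := act 4 n17893
theorem D18477 : act 4 n17893 = n18477 := rfl
theorem F72409 : act 0 n18477 = n17894 := d3_1 D18477 (iv D17894) D17893
theorem F72410 : act 2 n18477 = n18221 := d16_1 D18477 (iv D18221) (iv F70195)
theorem F72411 : act 3 n18477 = n18345 := d21_1 D18477 (iv D18345) F69585 (iv F68027) (iv F70196)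
theorem F72412 : act 8 n18477 = n18222 := d29_2 (iv F70198) D18477 (iv D18222)
def n18478 : Q := act 5 n17894
theorem D18478 : act 5 n17894 = n18478 := rfl
theorem F72413 : act 1 n18478 = n17895 := d11_1 D18478 (iv D17895) (iv F70199)
theorem F72414 : act 2 n18478 = n18237 := d17_1 D18478 (iv D18237) (iv F70200)
theorem F72415 : act 3 n18478 = n18346 := d22_1 D18478 (iv D18346) (iv F70201)
theorem F72416 : act 4 n18478 = n18241 := d26_1 D18478 (iv D18241) (iv D17631) (iv F68012) D17894
theorem F72417 : act 8 n18478 = n18238 := d32_2 (iv F70202) D18478 (iv D18238)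
def n18479 : Q := act 6 n17895
theorem D18479 : act 6 n17895 = n18479 := rfl
theorem F72418 : act 2 n18479 = n17896 := d18_1 D18479 (iv D17896) (iv F70203)
theorem F72419 : act 3 n18479 = n18347 := d23_1 D18479 (iv D18347) (iv F70204)
def n18480 : Q := act 7 n17897
theorem D18480 : act 7 n17897 = n18480 := rfl
theorem F72420 : act 1 n18480 = n18040 := d13_1 D18480 F70776 (iv F70206)
theorem F72421 : act 2 n18480 = n18050 := d19_1 D18480 F70805 (iv F70207)
theorem F72422 : act 3 n18480 = n18480 := d24_1 D18480 (iv D18480) (iv D17897) F68024 D17897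
theorem F72423 : act 5 n18480 = n18042 := d31_1 D18480 F70785 (iv F70208)
theorem F72424 : act 6 n18480 = n18389 := d33_1 D18480 (iv D18389) (iv F70209)
theorem F72425 : act 8 n18480 = n18266 := d35_2 (iv F70210) D18480 F71574 F69384 (iv F69324)
def n18481 : Q := act 4 n17900
theorem D18481 : act 4 n17900 = n18481 := rfl
theorem F72426 : act 0 n18481 = n18300 := d3_1 D18481 F71676 F70229
theorem F72427 : act 1 n18481 = n17901 := d10_1 D18481 (iv D17901) D17900
theorem F72428 : act 2 n18481 = n18083 := d16_1 D18481 F70928 (iv F70224)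
theorem F72429 : act 6 n18481 = n17927 := d27_2 (iv F70227) D18481 (iv D17927)
theorem F72430 : act 7 n18481 = n17903 := d28_2 (iv F70228) D18481 (iv D17903)
def n18482 : Q := act 3 n17901
theorem D18482 : act 3 n17901 = n18482 := rfl
theorem F72431 : act 4 n18482 = n18482 := d21_2 D17901 D18482 (iv D18482) (iv D17901) F68042
theorem F72432 : act 6 n18482 = n17928 := d23_2 (iv F70231) D18482 (iv D17928)
theorem F72433 : act 7 n18482 = n18199 := d24_2 (iv F70232) D18482 (iv D18199) F69104 (iv F68056)
def n18483 : Q := act 5 n17901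
theorem D18483 : act 5 n17901 = n18483 := rfl
theorem F72434 : act 2 n18483 = n17902 := d17_1 D18483 (iv D17902) (iv F70230)
theorem F72435 : act 4 n18483 = n18296 := d26_1 D18483 (iv D18296) (iv D17696) (iv F68043) D17901
theorem F72436 : act 7 n18483 = n17904 := d31_2 (iv F70232) D18483 (iv D17904)
def n18484 : Q := act 6 n17902
theorem D18484 : act 6 n17902 = n18484 := rfl
theorem F72437 : act 1 n18484 = n18310 := d12_1 D18484 (iv D18310) (iv F70233)
theorem F72438 : act 4 n18484 = n18297 := d27_1 D18484 (iv D18297) (iv F70234)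
theorem F72439 : act 5 n18484 = n17930 := d30_1 D18484 (iv D17930) (iv D17314) (iv F68047) D17902
theorem F72440 : act 7 n18484 = n17905 := d33_2 (iv F70235) D18484 (iv D17905)
def n18485 : Q := act 5 n17903
theorem D18485 : act 5 n17903 = n18485 := rfl
theorem F72441 : act 0 n18485 = n18299 := d4_1 D18485 (iv D18299) (iv F70236)
theorem F72442 : act 1 n18485 = n17904 := d11_1 D18485 (iv D17904) (iv F70237)
theorem F72443 : act 2 n18485 = n18082 := d17_1 D18485 (iv D18082) (iv F70238)
theorem F72444 : act 3 n18485 = n18080 := d22_1 D18485 (iv D18080) (iv F70239)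
theorem F72445 : act 4 n18485 = n18298 := d26_1 D18485 (iv D18298) (iv D17698) (iv F68051) D17903
theorem F72446 : act 8 n18485 = n17962 := d32_2 (iv F70241) D18485 (iv D17962)
def n18486 : Q := act 6 n17904
theorem D18486 : act 6 n17904 = n18486 := rfl
theorem F72447 : act 2 n18486 = n17905 := d18_1 D18486 (iv D17905) (iv F70242)
theorem F72448 : act 3 n18486 = n18204 := d23_1 D18486 (iv D18204) (iv F70243)
theorem F72449 : act 4 n18486 = n18301 := d27_1 D18486 (iv D18301) (iv F70244)
theorem F72450 : act 5 n18486 = n17937 := d30_1 D18486 (iv D17937) (iv D17321) (iv F68057) D17904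
theorem F72451 : act 8 n18486 = n17963 := d34_2 (iv F70245) D18486 (iv D17963)
def n18487 : Q := act 5 n17907
theorem D18487 : act 5 n17907 = n18487 := rfl
theorem F72452 : act 0 n18487 = n18236 := d4_1 D18487 (iv D18236) (iv F70256)
theorem F72453 : act 1 n18487 = n17922 := d11_1 D18487 (iv D17922) (iv F70257)
theorem F72454 : act 4 n18487 = n17911 := d26_1 D18487 (iv D17911) (iv D17300) (iv F68072) D17907
theorem F72455 : act 7 n18487 = n17912 := d31_2 (iv F70259) D18487 (iv D17912)
def n18488 : Q := act 4 n17908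
theorem D18488 : act 4 n17908 = n18488 := rfl
theorem F72456 : act 0 n18488 = n18212 := d3_1 D18488 (iv D18212) (iv F70260)
theorem F72457 : act 1 n18488 = n18112 := d10_1 D18488 F71033 F70265
theorem F72458 : act 2 n18488 = n17909 := d16_1 D18488 (iv D17909) D17908
theorem F72459 : act 3 n18488 = n18205 := d21_1 D18488 (iv D18205) F69118 (iv F68510) (iv F70261)
theorem F72460 : act 6 n18488 = n18307 := d27_2 (iv F70262) D18488 (iv D18307)
theorem F72461 : act 7 n18488 = n17981 := d28_2 (iv F70263) D18488 (iv D17981)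
theorem F72462 : act 8 n18488 = n17910 := d29_2 (iv F70264) D18488 (iv D17910)
def n18489 : Q := act 5 n17909
theorem D18489 : act 5 n17909 = n18489 := rfl
theorem F72463 : act 0 n18489 = n18213 := d4_1 D18489 (iv D18213) (iv F70266)
theorem F72464 : act 1 n18489 = n17925 := d11_1 D18489 (iv D17925) (iv F70267)
theorem F72465 : act 3 n18489 = n18085 := d22_1 D18489 (iv D18085) (iv F70268)
theorem F72466 : act 7 n18489 = n17982 := d31_2 (iv F70270) D18489 (iv D17982)
theorem F72467 : act 8 n18489 = n17911 := d32_2 (iv F70271) D18489 (iv D17911)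
def n18490 : Q := act 5 n17910
theorem D18490 : act 5 n17910 = n18490 := rfl
theorem F72468 : act 0 n18490 = n18363 := d4_1 D18490 (iv D18363) (iv F70272)
theorem F72469 : act 1 n18490 = n18111 := d11_1 D18490 F71032 (iv F70273)
theorem F72470 : act 2 n18490 = n17911 := d17_1 D18490 (iv D17911) (iv F70274)
theorem F72471 : act 3 n18490 = n18448 := d22_1 D18490 F72276 (iv F70275)
theorem F72472 : act 7 n18490 = n17913 := d31_2 (iv F70277) D18490 (iv D17913)
def n18491 : Q := act 6 n17911
theorem D18491 : act 6 n17911 = n18491 := rfl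
theorem F72473 : act 0 n18491 = n18364 := d5_1 D18491 (iv D18364) (iv F70278)
theorem F72474 : act 1 n18491 = n17930 := d12_1 D18491 (iv D17930) (iv F70279)
theorem F72475 : act 5 n18491 = n18310 := d30_1 D18491 (iv D18310) (iv D17709) (iv F68087) D17911
theorem F72476 : act 7 n18491 = n17914 := d33_2 (iv F70280) D18491 (iv D17914)
def n18492 : Q := act 6 n17912
theorem D18492 : act 6 n17912 = n18492 := rfl
theorem F72477 : act 0 n18492 = n18247 := d5_1 D18492 (iv D18247) (iv F70281)
theorem F72478 : act 1 n18492 = n17934 := d12_1 D18492 (iv D17934) (iv F70282)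
theorem F72479 : act 3 n18492 = n18203 := d23_1 D18492 (iv D18203) (iv F70283)
theorem F72480 : act 4 n18492 = n17914 := d27_1 D18492 (iv D17914) (iv F70284)
theorem F72481 : act 5 n18492 = n18231 := d30_1 D18492 (iv D18231) (iv D17621) (iv F68092) D17912
theorem F72482 : act 8 n18492 = n17991 := d34_2 (iv F70285) D18492 (iv D17991)
def n18493 : Q := act 6 n17913
theorem D18493 : act 6 n17913 = n18493 := rfl
theorem F72483 : act 0 n18493 = n18383 := d5_1 D18493 (iv D18383) (iv F70286)
theorem F72484 : act 1 n18493 = n18110 := d12_1 D18493 (iv D18110) (iv F70287)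
theorem F72485 : act 2 n18493 = n17914 := d18_1 D18493 (iv D17914) (iv F70288)
theorem F72486 : act 3 n18493 = n18029 := d23_1 D18493 (iv D18029) (iv F70289)
theorem F72487 : act 5 n18493 = n18321 := d30_1 D18493 (iv D18321) (iv D17718) (iv F68098) D17913
theorem F72488 : act 8 n18493 = n17993 := d34_2 (iv F70290) D18493 (iv D17993)
def n18494 : Q := act 4 n17915
theorem D18494 : act 4 n17915 = n18494 := rfl
theorem F72489 : act 2 n18494 = n17916 := d16_1 D18494 (iv D17916) D17915
theorem F72490 : act 7 n18494 = n18205 := d28_2 (iv F70297) D18494 (iv D18205)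
theorem F72491 : act 8 n18494 = n18421 := d29_2 (iv F70298) D18494 F72133
def n18495 : Q := act 5 n17916
theorem D18495 : act 5 n17916 = n18495 := rfl
theorem F72492 : act 3 n18495 = n17922 := d22_1 D18495 (iv D17922) (iv F70299)
theorem F72493 : act 7 n18495 = n18206 := d31_2 (iv F70300) D18495 (iv D18206)
def n18496 : Q := act 5 n17917
theorem D18496 : act 5 n17917 = n18496 := rfl
theorem F72494 : act 0 n18496 = n18101 := d4_1 D18496 (iv D18101) (iv F70301)
theorem F72495 : act 1 n18496 = n18223 := d11_1 D18496 (iv D18223) (iv F70302)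
theorem F72496 : act 4 n18496 = n18092 := d26_1 D18496 (iv D18092) (iv D17478) (iv F68110) D17917
theorem F72497 : act 7 n18496 = n17931 := d31_2 (iv F70304) D18496 (iv D17931)
theorem F72498 : act 8 n18496 = n18495 := d32_2 (iv F70305) D18496 (iv D18495)
def n18497 : Q := act 1 n17918
theorem D18497 : act 1 n17918 = n18497 := rfl
theorem F72499 : act 0 n18497 = n17980 := d0_1 D18497 (iv D17980) (iv F70504) (iv F70980) F70979
theorem F72500 : act 2 n18497 = n18002 := d8_2 D17918 D18497 F71411 (iv D18219) F69169
theorem F72501 : act 3 n18497 = n18497 := d9_2 F70306 D18497 (iv D18497)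
theorem F72502 : act 5 n18497 = n17923 := d11_2 (iv F70307) D18497 (iv D17923)
theorem F72503 : act 6 n18497 = n18326 := d12_2 (iv F70308) D18497 F71761
theorem F72504 : act 7 n18497 = n17996 := d13_2 (iv F70309) D18497 (iv D17996)
theorem F72505 : act 8 n18497 = n17920 := d14_2 (iv F70310) D18497 (iv D17920)
def n18498 : Q := act 4 n17918
theorem D18498 : act 4 n17918 = n18498 := rfl
theorem F72506 : act 2 n18498 = n17919 := d16_1 D18498 (iv D17919) D17918
theorem F72507 : act 6 n18498 = n18494 := d27_2 (iv F70308) D18498 (iv D18494)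
theorem F72508 : act 7 n18498 = n17997 := d28_2 (iv F70309) D18498 (iv D17997)
theorem F72509 : act 8 n18498 = n17921 := d29_2 (iv F70310) D18498 (iv D17921)
def n18499 : Q := act 5 n17919
theorem D18499 : act 5 n17919 = n18499 := rfl
theorem F72510 : act 3 n18499 = n18496 := d22_1 D18499 (iv D18496) (iv F70311)
theorem F72511 : act 4 n18499 = n17925 := d26_1 D18499 (iv D17925) (iv D17311) (iv F68114) D17919
theorem F72512 : act 7 n18499 = n17998 := d31_2 (iv F70313) D18499 (iv D17998)
theorem F72513 : act 8 n18499 = n17922 := d32_2 (iv F70314) D18499 (iv D17922)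
def n18500 : Q := act 4 n17920
theorem D18500 : act 4 n17920 = n18500 := rfl
theorem F72514 : act 0 n18500 = n17983 := d3_1 D18500 (iv D17983) (iv F70315)
theorem F72515 : act 1 n18500 = n17921 := d10_1 D18500 (iv D17921) D17920
theorem F72516 : act 2 n18500 = n18007 := d16_1 D18500 (iv D18007) (iv F70316)
theorem F72517 : act 6 n18500 = n18280 := d27_2 (iv F70319) D18500 F71626
theorem F72518 : act 7 n18500 = n17932 := d28_2 (iv F70320) D18500 (iv D17932)
def n18501 : Q := act 3 n17921
theorem D18501 : act 3 n17921 = n18501 := rfl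
theorem F72519 : act 4 n18501 = n18501 := d21_2 D17921 D18501 (iv D18501) (iv D17921) F68118
def n18502 : Q := act 5 n17921
theorem D18502 : act 5 n17921 = n18502 := rfl
theorem F72520 : act 2 n18502 = n17922 := d17_1 D18502 (iv D17922) (iv F70321)
theorem F72521 : act 4 n18502 = n17929 := d26_1 D18502 (iv D17929) (iv D17313) (iv F68119) D17921
theorem F72522 : act 7 n18502 = n17933 := d31_2 (iv F70322) D18502 (iv D17933)
def n18503 : Q := act 6 n17922
theorem D18503 : act 6 n17922 = n18503 := rfl
theorem F72523 : act 4 n18503 = n17930 := d27_1 D18503 (iv D17930) (iv F70323)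
theorem F72524 : act 7 n18503 = n17934 := d33_2 (iv F70324) D18503 (iv D17934)
def n18504 : Q := act 0 n17923
theorem D18504 : act 0 n17923 = n18504 := rfl
theorem F72525 : act 1 n18504 = n17976 := d0_2 D17923 D18504 F70553 F70533 F69911
theorem F72526 : act 2 n18504 = n17996 := d1_2 (iv F70325) D18504 F70612
theorem F72527 : act 3 n18504 = n18504 := d2_2 F70326 D18504 (iv D18504)
theorem F72528 : act 5 n18504 = n17980 := d4_2 F72502 D18504 (iv F72499)
theorem F72529 : act 6 n18504 = n18327 := d5_2 F71999 D18504 (iv F71995)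
theorem F72530 : act 7 n18504 = n18002 := d6_2 (iv F70327) D18504 (iv D18002)
theorem F72531 : act 8 n18504 = n17926 := d7_2 (iv F70328) D18504 (iv D17926)
def n18505 : Q := act 4 n17923
theorem D18505 : act 4 n17923 = n18505 := rfl
theorem F72532 : act 1 n18505 = n17924 := d10_1 D18505 (iv D17924) D17923
theorem F72533 : act 2 n18505 = n18112 := d16_1 D18505 F71033 (iv F70325)
theorem F72534 : act 7 n18505 = n18003 := d28_2 (iv F70327) D18505 (iv D18003)
theorem F72535 : act 8 n18505 = n17927 := d29_2 (iv F70328) D18505 (iv D17927)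
def n18506 : Q := act 3 n17924
theorem D18506 : act 3 n17924 = n18506 := rfl
theorem F72536 : act 4 n18506 = n18506 := d21_2 D17924 D18506 (iv D18506) (iv D17924) F68122
theorem F72537 : act 8 n18506 = n17928 := d25_2 (iv F70331) D18506 (iv D17928)
def n18507 : Q := act 5 n17924
theorem D18507 : act 5 n17924 = n18507 := rfl
theorem F72538 : act 2 n18507 = n17925 := d17_1 D18507 (iv D17925) (iv F70329)
theorem F72539 : act 7 n18507 = n18005 := d31_2 (iv F70330) D18507 (iv D18005)
theorem F72540 : act 8 n18507 = n17929 := d32_2 (iv F70331) D18507 (iv D17929)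
def n18508 : Q := act 6 n17925
theorem D18508 : act 6 n17925 = n18508 := rfl
theorem F72541 : act 7 n18508 = n18006 := d33_2 (iv F70332) D18508 (iv D18006)
theorem F72542 : act 8 n18508 = n17930 := d34_2 (iv F70333) D18508 (iv D17930)
def n18509 : Q := act 4 n17926
theorem D18509 : act 4 n17926 = n18509 := rfl
theorem F72543 : act 0 n18509 = n17927 := d3_1 D18509 (iv D17927) D17926
theorem F72544 : act 1 n18509 = n17978 := d10_1 D18509 (iv D17978) (iv F70334)
theorem F72545 : act 2 n18509 = n17999 := d16_1 D18509 (iv D17999) (iv F70335)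
theorem F72546 : act 6 n18509 = n18300 := d27_2 (iv F70338) D18509 F71676
theorem F72547 : act 7 n18509 = n17935 := d28_2 (iv F70339) D18509 (iv D17935)
def n18510 : Q := act 3 n17927
theorem D18510 : act 3 n17927 = n18510 := rfl
theorem F72548 : act 1 n18510 = n17928 := d9_1 D18510 (iv D17928) (iv F70340)
theorem F72549 : act 4 n18510 = n18510 := d21_2 D17927 D18510 (iv D18510) (iv D17927) F68128
theorem F72550 : act 7 n18510 = n18104 := d24_2 (iv F70342) D18510 (iv D18104) F68779 (iv F68157)
def n18511 : Q := act 5 n17927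
theorem D18511 : act 5 n17927 = n18511 := rfl
theorem F72551 : act 1 n18511 = n17929 := d11_1 D18511 (iv D17929) (iv F70340)
theorem F72552 : act 2 n18511 = n18111 := d17_1 D18511 F71032 (iv F70341)
theorem F72553 : act 7 n18511 = n17936 := d31_2 (iv F70342) D18511 (iv D17936)
def n18512 : Q := act 5 n17928
theorem D18512 : act 5 n17928 = n18512 := rfl
theorem F72554 : act 3 n18512 = n17929 := d22_1 D18512 (iv D17929) D17928
theorem F72555 : act 7 n18512 = n18358 := d31_2 (iv F70344) D18512 (iv D18358)
def n18513 : Q := act 6 n17929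
theorem D18513 : act 6 n17929 = n18513 := rfl
theorem F72556 : act 2 n18513 = n17930 := d18_1 D18513 (iv D17930) (iv F70345)
theorem F72557 : act 7 n18513 = n17937 := d33_2 (iv F70346) D18513 (iv D17937)
def n18514 : Q := act 6 n17931
theorem D18514 : act 6 n17931 = n18514 := rfl
theorem F72558 : act 0 n18514 = n18108 := d5_1 D18514 (iv D18108) (iv F70348)
theorem F72559 : act 1 n18514 = n18231 := d12_1 D18514 (iv D18231) (iv F70349)
theorem F72560 : act 3 n18514 = n18211 := d23_1 D18514 (iv D18211) (iv F70350)
theorem F72561 : act 4 n18514 = n18094 := d27_1 D18514 (iv D18094) (iv F70351)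
theorem F72562 : act 5 n18514 = n17934 := d30_1 D18514 (iv D17934) (iv D17318) (iv F68136) D17931
theorem F72563 : act 8 n18514 = n18012 := d34_2 (iv F70352) D18514 (iv D18012)
def n18515 : Q := act 5 n17932
theorem D18515 : act 5 n17932 = n18515 := rfl
theorem F72564 : act 0 n18515 = n17992 := d4_1 D18515 (iv D17992) (iv F70353)
theorem F72565 : act 1 n18515 = n17933 := d11_1 D18515 (iv D17933) (iv F70354)
theorem F72566 : act 2 n18515 = n18015 := d17_1 D18515 (iv D18015) (iv F70355)
theorem F72567 : act 3 n18515 = n18063 := d22_1 D18515 (iv D18063) (iv F70356)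
theorem F72568 : act 4 n18515 = n17936 := d26_1 D18515 (iv D17936) (iv D17320) (iv F68141) D17932
theorem F72569 : act 8 n18515 = n18013 := d32_2 (iv F70358) D18515 (iv D18013)
def n18516 : Q := act 6 n17933
theorem D18516 : act 6 n17933 = n18516 := rfl
theorem F72570 : act 2 n18516 = n17934 := d18_1 D18516 (iv D17934) (iv F70359)
theorem F72571 : act 4 n18516 = n17937 := d27_1 D18516 (iv D17937) (iv F70360)
theorem F72572 : act 8 n18516 = n18014 := d34_2 (iv F70361) D18516 (iv D18014)
def n18517 : Q := act 5 n17935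
theorem D18517 : act 5 n17935 = n18517 := rfl
theorem F72573 : act 0 n18517 = n17936 := d4_1 D18517 (iv D17936) (iv F70365)
theorem F72574 : act 1 n18517 = n17990 := d11_1 D18517 (iv D17990) (iv F70366)
theorem F72575 : act 2 n18517 = n18013 := d17_1 D18517 (iv D18013) (iv F70367)
theorem F72576 : act 3 n18517 = n18093 := d22_1 D18517 (iv D18093) (iv F70368)
theorem F72577 : act 4 n18517 = n17992 := d26_1 D18517 (iv D17992) (iv D17371) (iv F68152) D17935
theorem F72578 : act 8 n18517 = n18015 := d32_2 (iv F70370) D18517 (iv D18015)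
def n18518 : Q := act 6 n17936
theorem D18518 : act 6 n17936 = n18518 := rfl
theorem F72579 : act 1 n18518 = n17937 := d12_1 D18518 (iv D17937) (iv F70371)
theorem F72580 : act 2 n18518 = n18110 := d18_1 D18518 (iv D18110) (iv F70372)
theorem F72581 : act 3 n18518 = n18109 := d23_1 D18518 (iv D18109) (iv F70373)
theorem F72582 : act 8 n18518 = n18016 := d34_2 (iv F70374) D18518 (iv D18016)
def n18519 : Q := act 3 n17938
theorem D18519 : act 3 n17938 = n18519 := rfl
theorem F72583 : act 1 n18519 = n18045 := d9_1 D18519 (iv D18045) (iv F70378)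
theorem F72584 : act 4 n18519 = n18519 := d21_2 D17938 D18519 (iv D18519) (iv D17938) F68165
theorem F72585 : act 6 n18519 = n18133 := d23_2 (iv F70380) D18519 (iv D18133)
theorem F72586 : act 7 n18519 = n17984 := d24_2 (iv F70381) D18519 (iv D17984) F68336 (iv F68176)
theorem F72587 : act 8 n18519 = n18395 := d25_2 (iv F70382) D18519 (iv D18395)
def n18520 : Q := act 5 n17938
theorem D18520 : act 5 n17938 = n18520 := rfl
theorem F72588 : act 1 n18520 = n18046 := d11_1 D18520 (iv D18046) (iv F70378)
theorem F72589 : act 2 n18520 = n17939 := d17_1 D18520 (iv D17939) (iv F70379)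
theorem F72590 : act 4 n18520 = n18264 := d26_1 D18520 (iv D18264) (iv D17669) (iv F68166) D17938
theorem F72591 : act 7 n18520 = n17940 := d31_2 (iv F70381) D18520 (iv D17940)
theorem F72592 : act 8 n18520 = n18396 := d32_2 (iv F70382) D18520 (iv D18396)
def n18521 : Q := act 6 n17939
theorem D18521 : act 6 n17939 = n18521 := rfl
theorem F72593 : act 1 n18521 = n18024 := d12_1 D18521 (iv D18024) (iv F70383)
theorem F72594 : act 4 n18521 = n18265 := d27_1 D18521 (iv D18265) (iv F70384)
theorem F72595 : act 5 n18521 = n18135 := d30_1 D18521 (iv D18135) (iv D17526) (iv F68171) D17939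
theorem F72596 : act 7 n18521 = n17941 := d33_2 (iv F70385) D18521 (iv D17941)
theorem F72597 : act 8 n18521 = n18397 := d34_2 (iv F70386) D18521 (iv D18397)
def n18522 : Q := act 6 n17940
theorem D18522 : act 6 n17940 = n18522 := rfl
theorem F72598 : act 1 n18522 = n18067 := d12_1 D18522 (iv D18067) (iv F70387)
theorem F72599 : act 2 n18522 = n17941 := d18_1 D18522 (iv D17941) (iv F70388)
theorem F72600 : act 3 n18522 = n17993 := d23_1 D18522 (iv D17993) (iv F70389)
theorem F72601 : act 4 n18522 = n18281 := d27_1 D18522 (iv D18281) (iv F70390)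
theorem F72602 : act 5 n18522 = n18138 := d30_1 D18522 (iv D18138) (iv D17529) (iv F68177) D17940
theorem F72603 : act 8 n18522 = n18029 := d34_2 (iv F70391) D18522 (iv D18029)
def n18523 : Q := act 4 n17943
theorem D18523 : act 4 n17943 = n18523 := rfl
theorem F72604 : act 0 n18523 = n18280 := d3_1 D18523 F71626 (iv F70404)
theorem F72605 : act 1 n18523 = n17944 := d10_1 D18523 (iv D17944) D17943
theorem F72606 : act 2 n18523 = n17954 := d16_1 D18523 (iv D17954) (iv F70405)
theorem F72607 : act 6 n18523 = n17983 := d27_2 (iv F70408) D18523 (iv D17983)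
theorem F72608 : act 7 n18523 = n17946 := d28_2 (iv F70409) D18523 (iv D17946)
def n18524 : Q := act 3 n17944
theorem D18524 : act 3 n17944 = n18524 := rfl
theorem F72609 : act 0 n18524 = n18352 := d2_1 D18524 (iv D18352) (iv F70410)
theorem F72610 : act 2 n18524 = n18519 := d15_1 D18524 (iv D18519) F70379 (iv F68200) (iv F70411)
theorem F72611 : act 4 n18524 = n18524 := d21_2 D17944 D18524 (iv D18524) (iv D17944) F68194
theorem F72612 : act 6 n18524 = n17984 := d23_2 (iv F70412) D18524 (iv D17984)
theorem F72613 : act 7 n18524 = n18133 := d24_2 (iv F70413) D18524 (iv D18133) F68906 (iv F68211)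
def n18525 : Q := act 5 n17944
theorem D18525 : act 5 n17944 = n18525 := rfl
theorem F72614 : act 0 n18525 = n18353 := d4_1 D18525 (iv D18353) (iv F70410)
theorem F72615 : act 2 n18525 = n17945 := d17_1 D18525 (iv D17945) (iv F70411)
theorem F72616 : act 4 n18525 = n18287 := d26_1 D18525 (iv D18287) (iv D17688) (iv F68195) D17944
theorem F72617 : act 7 n18525 = n17947 := d31_2 (iv F70413) D18525 (iv D17947)
def n18526 : Q := act 6 n17945
theorem D18526 : act 6 n17945 = n18526 := rfl
theorem F72618 : act 0 n18526 = n18354 := d5_1 D18526 (iv D18354) (iv F70414)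
theorem F72619 : act 1 n18526 = n17956 := d12_1 D18526 (iv D17956) (iv F70415)
theorem F72620 : act 3 n18526 = n18521 := d23_1 D18526 (iv D18521) (iv F70416)
theorem F72621 : act 4 n18526 = n18288 := d27_1 D18526 (iv D18288) (iv F70417)
theorem F72622 : act 5 n18526 = n17986 := d30_1 D18526 (iv D17986) (iv D17366) (iv F68201) D17945
theorem F72623 : act 7 n18526 = n17948 := d33_2 (iv F70418) D18526 (iv D17948)
def n18527 : Q := act 5 n17946
theorem D18527 : act 5 n17946 = n18527 := rfl
theorem F72624 : act 0 n18527 = n18279 := d4_1 D18527 (iv D18279) (iv F70419)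
theorem F72625 : act 1 n18527 = n17947 := d11_1 D18527 (iv D17947) (iv F70420)
theorem F72626 : act 2 n18527 = n17962 := d17_1 D18527 (iv D17962) (iv F70421)
theorem F72627 : act 3 n18527 = n18061 := d22_1 D18527 (iv D18061) (iv F70422)
theorem F72628 : act 4 n18527 = n18289 := d26_1 D18527 (iv D18289) (iv D17690) (iv F68206) D17946
theorem F72629 : act 8 n18527 = n18082 := d32_2 (iv F70424) D18527 (iv D18082)
def n18528 : Q := act 6 n17947
theorem D18528 : act 6 n17947 = n18528 := rfl
theorem F72630 : act 0 n18528 = n18360 := d5_1 D18528 (iv D18360) (iv F70425)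
theorem F72631 : act 2 n18528 = n17948 := d18_1 D18528 (iv D17948) (iv F70426)
theorem F72632 : act 3 n18528 = n18138 := d23_1 D18528 (iv D18138) (iv F70427)
theorem F72633 : act 4 n18528 = n18290 := d27_1 D18528 (iv D18290) (iv F70428)
theorem F72634 : act 5 n18528 = n17993 := d30_1 D18528 (iv D17993) (iv D17372) (iv F68212) D17947
theorem F72635 : act 8 n18528 = n18321 := d34_2 (iv F70429) D18528 (iv D18321)
def n18529 : Q := act 5 n17949
theorem D18529 : act 5 n17949 = n18529 := rfl
theorem F72636 : act 0 n18529 = n18065 := d4_1 D18529 (iv D18065) (iv F70436)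
theorem F72637 : act 1 n18529 = n18188 := d11_1 D18529 (iv D18188) (iv F70437)
theorem F72638 : act 2 n18529 = n18379 := d17_1 D18529 (iv D18379) (iv F70438)
theorem F72639 : act 4 n18529 = n17995 := d26_1 D18529 (iv D17995) (iv D17375) (iv F68227) D17949
theorem F72640 : act 7 n18529 = n17957 := d31_2 (iv F70440) D18529 (iv D17957)
def n18530 : Q := act 4 n17950
theorem D18530 : act 4 n17950 = n18530 := rfl
theorem F72641 : act 0 n18530 = n18227 := d3_1 D18530 (iv D18227) (iv F70441)
theorem F72642 : act 1 n18530 = n17951 := d10_1 D18530 (iv D17951) D17950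
theorem F72643 : act 2 n18530 = n18285 := d16_1 D18530 (iv D18285) (iv F70442)
theorem F72644 : act 6 n18530 = n18316 := d27_2 (iv F70445) D18530 (iv D18316)
theorem F72645 : act 7 n18530 = n17958 := d28_2 (iv F70446) D18530 (iv D17958)
def n18531 : Q := act 3 n17951
theorem D18531 : act 3 n17951 = n18531 := rfl
theorem F72646 : act 0 n18531 = n18243 := d2_1 D18531 (iv D18243) (iv F70447)
theorem F72647 : act 4 n18531 = n18017 := d21_2 D17951 D18531 (iv D18017) (iv D17397) (iv F68231)
theorem F72648 : act 6 n18531 = n18378 := d23_2 (iv F70449) D18531 (iv D18378)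
def n18532 : Q := act 5 n17951
theorem D18532 : act 5 n17951 = n18532 := rfl
theorem F72649 : act 0 n18532 = n18244 := d4_1 D18532 (iv D18244) (iv F70447)
theorem F72650 : act 2 n18532 = n17952 := d17_1 D18532 (iv D17952) (iv F70448)
theorem F72651 : act 4 n18532 = n17955 := d26_1 D18532 (iv D17955) (iv D17339) (iv F68232) D17951
theorem F72652 : act 7 n18532 = n17960 := d31_2 (iv F70450) D18532 (iv D17960)
def n18533 : Q := act 6 n17952
theorem D18533 : act 6 n17952 = n18533 := rfl
theorem F72653 : act 0 n18533 = n18256 := d5_1 D18533 (iv D18256) (iv F70451)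
theorem F72654 : act 1 n18533 = n18288 := d12_1 D18533 (iv D18288) (iv F70452)
theorem F72655 : act 4 n18533 = n17956 := d27_1 D18533 (iv D17956) (iv F70453)
theorem F72656 : act 7 n18533 = n17961 := d33_2 (iv F70454) D18533 (iv D17961)
def n18534 : Q := act 4 n17953
theorem D18534 : act 4 n17953 = n18534 := rfl
theorem F72657 : act 0 n18534 = n17954 := d3_1 D18534 (iv D17954) D17953
theorem F72658 : act 1 n18534 = n18222 := d10_1 D18534 (iv D18222) (iv F70455)
theorem F72659 : act 2 n18534 = n18280 := d16_1 D18534 F71626 (iv F70456)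
theorem F72660 : act 6 n18534 = n18007 := d27_2 (iv F70459) D18534 (iv D18007)
theorem F72661 : act 7 n18534 = n17959 := d28_2 (iv F70460) D18534 F70483
def n18535 : Q := act 5 n17954
theorem D18535 : act 5 n17954 = n18535 := rfl
theorem F72662 : act 1 n18535 = n17955 := d11_1 D18535 (iv D17955) (iv F70461)
theorem F72663 : act 7 n18535 = n17962 := d31_2 (iv F70463) D18535 (iv D17962)
def n18536 : Q := act 6 n17955
theorem D18536 : act 6 n17955 = n18536 := rfl
theorem F72664 : act 2 n18536 = n17956 := d18_1 D18536 (iv D17956) (iv F70464)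
theorem F72665 : act 5 n18536 = n18011 := d30_1 D18536 (iv D18011) (iv D17387) (iv F68242) D17955
theorem F72666 : act 7 n18536 = n17963 := d33_2 (iv F70465) D18536 (iv D17963)
def n18537 : Q := act 6 n17957
theorem D18537 : act 6 n17957 = n18537 := rfl
theorem F72667 : act 0 n18537 = n18066 := d5_1 D18537 (iv D18066) (iv F70468)
theorem F72668 : act 1 n18537 = n18191 := d12_1 D18537 (iv D18191) (iv F70469)
theorem F72669 : act 2 n18537 = n18387 := d18_1 D18537 (iv D18387) (iv F70470)
theorem F72670 : act 3 n18537 = n18064 := d23_1 D18537 (iv D18064) (iv F70471)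
theorem F72671 : act 4 n18537 = n18012 := d27_1 D18537 (iv D18012) (iv F70472)
theorem F72672 : act 5 n18537 = n17961 := d30_1 D18537 (iv D17961) (iv D17344) (iv F68249) D17957
theorem F72673 : act 8 n18537 = n18094 := d34_2 (iv F70473) D18537 (iv D18094)
def n18538 : Q := act 5 n17958
theorem D18538 : act 5 n17958 = n18538 := rfl
theorem F72674 : act 0 n18538 = n18232 := d4_1 D18538 (iv D18232) (iv F70474)
theorem F72675 : act 1 n18538 = n17960 := d11_1 D18538 (iv D17960) (iv F70475)
theorem F72676 : act 2 n18538 = n18289 := d17_1 D18538 (iv D18289) (iv F70476)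
theorem F72677 : act 3 n18538 = n18230 := d22_1 D18538 (iv D18230) (iv F70477)
theorem F72678 : act 4 n18538 = n17962 := d26_1 D18538 (iv D17962) (iv D17346) (iv F68254) D17958
theorem F72679 : act 8 n18538 = n18298 := d32_2 (iv F70479) D18538 (iv D18298)
def n18539 : Q := act 5 n17959
theorem D18539 : act 5 n17959 = n18539 := rfl
theorem F72680 : act 0 n18539 = n17962 := d4_1 D18539 (iv D17962) (iv F70480)
theorem F72681 : act 1 n18539 = n18230 := d11_1 D18539 (iv D18230) (iv F70481)
theorem F72682 : act 2 n18539 = n18279 := d17_1 D18539 (iv D18279) (iv F70482)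
theorem F72683 : act 3 n18539 = n17960 := d22_1 D18539 (iv D17960) D17959
theorem F72684 : act 4 n18539 = n18232 := d26_1 D18539 (iv D18232) (iv D17622) (iv F68269) (iv F70483)
theorem F72685 : act 8 n18539 = n18299 := d32_2 (iv F70485) D18539 (iv D18299)
def n18540 : Q := act 6 n17960
theorem D18540 : act 6 n17960 = n18540 := rfl
theorem F72686 : act 0 n18540 = n18249 := d5_1 D18540 (iv D18249) (iv F70486)
theorem F72687 : act 2 n18540 = n17961 := d18_1 D18540 (iv D17961) (iv F70487)
theorem F72688 : act 4 n18540 = n17963 := d27_1 D18540 (iv D17963) (iv F70488)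
theorem F72689 : act 5 n18540 = n18387 := d30_1 D18540 (iv D18387) (iv D17790) (iv F68259) D17960
theorem F72690 : act 8 n18540 = n18301 := d34_2 (iv F70489) D18540 (iv D18301)
def n18541 : Q := act 6 n17962
theorem D18541 : act 6 n17962 = n18541 := rfl
theorem F72691 : act 1 n18541 = n17963 := d12_1 D18541 (iv D17963) (iv F70495)
theorem F72692 : act 3 n18541 = n18249 := d23_1 D18541 (iv D18249) (iv F70496)
theorem F72693 : act 5 n18541 = n18016 := d30_1 D18541 (iv D18016) (iv D17394) (iv F68274) D17962
def n18542 : Q := act 5 n17964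
theorem D18542 : act 5 n17964 = n18542 := rfl
theorem F72694 : act 0 n18542 = n17979 := d4_1 D18542 (iv D17979) (iv F70500)
theorem F72695 : act 1 n18542 = n18207 := d11_1 D18542 (iv D18207) (iv F70501)
theorem F72696 : act 4 n18542 = n17968 := d26_1 D18542 (iv D17968) (iv D17352) (iv F68281) D17964
theorem F72697 : act 7 n18542 = n17969 := d31_2 (iv F70503) D18542 (iv D17969)
def n18543 : Q := act 4 n17965
theorem D18543 : act 4 n17965 = n18543 := rfl
theorem F72698 : act 0 n18543 = n17981 := d3_1 D18543 (iv D17981) (iv F70504)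
theorem F72699 : act 2 n18543 = n17966 := d16_1 D18543 (iv D17966) D17965
theorem F72700 : act 6 n18543 = n18350 := d27_2 (iv F70506) D18543 (iv D18350)
theorem F72701 : act 7 n18543 = n18212 := d28_2 (iv F70507) D18543 (iv D18212)
theorem F72702 : act 8 n18543 = n17967 := d29_2 (iv F70508) D18543 (iv D17967)
def n18544 : Q := act 5 n17966
theorem D18544 : act 5 n17966 = n18544 := rfl
theorem F72703 : act 0 n18544 = n17982 := d4_1 D18544 (iv D17982) (iv F70509)
theorem F72704 : act 1 n18544 = n18139 := d11_1 D18544 (iv D18139) (iv F70510)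
theorem F72705 : act 3 n18544 = n18130 := d22_1 D18544 (iv D18130) (iv F70511)
theorem F72706 : act 7 n18544 = n18213 := d31_2 (iv F70513) D18544 (iv D18213)
theorem F72707 : act 8 n18544 = n17968 := d32_2 (iv F70514) D18544 (iv D17968)
def n18545 : Q := act 3 n17967
theorem D18545 : act 3 n17967 = n18545 := rfl
theorem F72708 : act 0 n18545 = n17984 := d2_1 D18545 (iv D17984) (iv F70515)
theorem F72709 : act 4 n18545 = n18545 := d21_2 D17967 D18545 (iv D18545) (iv D17967) F68290
theorem F72710 : act 6 n18545 = n18352 := d23_2 (iv F70517) D18545 (iv D18352)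
def n18546 : Q := act 5 n17967
theorem D18546 : act 5 n17967 = n18546 := rfl
theorem F72711 : act 0 n18546 = n17985 := d4_1 D18546 (iv D17985) (iv F70515)
theorem F72712 : act 2 n18546 = n17968 := d17_1 D18546 (iv D17968) (iv F70516)
theorem F72713 : act 7 n18546 = n17970 := d31_2 (iv F70518) D18546 (iv D17970)
def n18547 : Q := act 6 n17968
theorem D18547 : act 6 n17968 = n18547 := rfl
theorem F72714 : act 0 n18547 = n17986 := d5_1 D18547 (iv D17986) (iv F70519)
theorem F72715 : act 5 n18547 = n18354 := d30_1 D18547 (iv D18354) (iv D17754) (iv F68294) D17968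
theorem F72716 : act 7 n18547 = n17971 := d33_2 (iv F70520) D18547 (iv D17971)
def n18548 : Q := act 6 n17969
theorem D18548 : act 6 n17969 = n18548 := rfl
theorem F72717 : act 0 n18548 = n17991 := d5_1 D18548 (iv D17991) (iv F70521)
theorem F72718 : act 1 n18548 = n18211 := d12_1 D18548 (iv D18211) (iv F70522)
theorem F72719 : act 3 n18548 = n18231 := d23_1 D18548 (iv D18231) (iv F70523)
theorem F72720 : act 4 n18548 = n17971 := d27_1 D18548 (iv D17971) (iv F70524)
theorem F72721 : act 5 n18548 = n18203 := d30_1 D18548 (iv D18203) (iv D17590) (iv F68299) D17969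
theorem F72722 : act 8 n18548 = n18247 := d34_2 (iv F70525) D18548 (iv D18247)
def n18549 : Q := act 6 n17970
theorem D18549 : act 6 n17970 = n18549 := rfl
theorem F72723 : act 0 n18549 = n17993 := d5_1 D18549 (iv D17993) (iv F70526)
theorem F72724 : act 2 n18549 = n17971 := d18_1 D18549 (iv D17971) (iv F70527)
theorem F72725 : act 5 n18549 = n18360 := d30_1 D18549 (iv D18360) (iv D17760) (iv F68303) D17970
theorem F72726 : act 8 n18549 = n18383 := d34_2 (iv F70528) D18549 (iv D18383)
def n18550 : Q := act 4 n17972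
theorem D18550 : act 4 n17972 = n18550 := rfl
theorem F72727 : act 1 n18550 = n18425 := d10_1 D18550 (iv D18425) (iv F70533)
theorem F72728 : act 2 n18550 = n17973 := d16_1 D18550 (iv D17973) D17972
theorem F72729 : act 6 n18550 = n18469 := d27_2 (iv F70536) D18550 (iv D18469)
theorem F72730 : act 7 n18550 = n18234 := d28_2 (iv F70537) D18550 (iv D18234)
theorem F72731 : act 8 n18550 = n18427 := d29_2 (iv F70538) D18550 (iv D18427)
def n18551 : Q := act 5 n17973
theorem D18551 : act 5 n17973 = n18551 := rfl
theorem F72732 : act 1 n18551 = n17994 := d11_1 D18551 (iv D17994) (iv F70539)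
theorem F72733 : act 3 n18551 = n17979 := d22_1 D18551 (iv D17979) (iv F70540)
theorem F72734 : act 4 n18551 = n18544 := d26_1 D18551 (iv D18544) (iv D17966) (iv F68311) D17973
theorem F72735 : act 7 n18551 = n18235 := d31_2 (iv F70541) D18551 (iv D18235)
theorem F72736 : act 8 n18551 = n18542 := d32_2 (iv F70542) D18551 (iv D18542)
def n18552 : Q := act 4 n17974
theorem D18552 : act 4 n17974 = n18552 := rfl
theorem F72737 : act 0 n18552 = n18195 := d3_1 D18552 (iv D18195) (iv F70543)
theorem F72738 : act 1 n18552 = n18300 := d10_1 D18552 F71676 (iv F70544)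
theorem F72739 : act 2 n18552 = n17975 := d16_1 D18552 (iv D17975) D17974
theorem F72740 : act 6 n18552 = n17978 := d27_2 (iv F70547) D18552 (iv D17978)
theorem F72741 : act 7 n18552 = n17987 := d28_2 (iv F70548) D18552 (iv D17987)
def n18553 : Q := act 5 n17975
theorem D18553 : act 5 n17975 = n18553 := rfl
theorem F72742 : act 0 n18553 = n18196 := d4_1 D18553 (iv D18196) (iv F70549)
theorem F72743 : act 1 n18553 = n17995 := d11_1 D18553 (iv D17995) (iv F70550)
theorem F72744 : act 4 n18553 = n18188 := d26_1 D18553 (iv D18188) (iv D17576) (iv F68316) D17975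
theorem F72745 : act 7 n18553 = n17988 := d31_2 (iv F70552) D18553 (iv D17988)
def n18554 : Q := act 4 n17976
theorem D18554 : act 4 n17976 = n18554 := rfl
theorem F72746 : act 0 n18554 = n18550 := d3_1 D18554 (iv D18550) (iv F70553)
theorem F72747 : act 2 n18554 = n17977 := d16_1 D18554 (iv D17977) D17976
theorem F72748 : act 8 n18554 = n17978 := d29_2 (iv F70556) D18554 (iv D17978)
def n18555 : Q := act 5 n17977
theorem D18555 : act 5 n17977 = n18555 := rfl
theorem F72749 : act 0 n18555 = n18551 := d4_1 D18555 (iv D18551) (iv F70557)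
theorem F72750 : act 1 n18555 = n17998 := d11_1 D18555 (iv D17998) (iv F70558)
theorem F72751 : act 3 n18555 = n18542 := d22_1 D18555 (iv D18542) (iv F70559)
theorem F72752 : act 4 n18555 = n17982 := d26_1 D18555 (iv D17982) (iv D17363) (iv F68321) D17977
theorem F72753 : act 8 n18555 = n17979 := d32_2 (iv F70560) D18555 (iv D17979)
def n18556 : Q := act 3 n17978
theorem D18556 : act 3 n17978 = n18556 := rfl
theorem F72754 : act 4 n18556 = n18556 := d21_2 D17978 D18556 (iv D18556) (iv D17978) F68323
def n18557 : Q := act 5 n17978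
theorem D18557 : act 5 n17978 = n18557 := rfl
theorem F72755 : act 2 n18557 = n17979 := d17_1 D18557 (iv D17979) (iv F70561)
theorem F72756 : act 4 n18557 = n17985 := d26_1 D18557 (iv D17985) (iv D17365) (iv F68324) D17978
theorem F72757 : act 7 n18557 = n17990 := d31_2 (iv F70562) D18557 (iv D17990)
def n18558 : Q := act 6 n17979
theorem D18558 : act 6 n17979 = n18558 := rfl
theorem F72758 : act 1 n18558 = n18001 := d12_1 D18558 (iv D18001) (iv F70563)
theorem F72759 : act 4 n18558 = n17986 := d27_1 D18558 (iv D17986) (iv F70564)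
theorem F72760 : act 7 n18558 = n17991 := d33_2 (iv F70565) D18558 (iv D17991)
def n18559 : Q := act 4 n17980
theorem D18559 : act 4 n17980 = n18559 := rfl
theorem F72761 : act 1 n18559 = n17981 := d10_1 D18559 (iv D17981) D17980
theorem F72762 : act 2 n18559 = n18003 := d16_1 D18559 (iv D18003) (iv F70566)
theorem F72763 : act 7 n18559 = n18112 := d28_2 (iv F70568) D18559 F71033
theorem F72764 : act 8 n18559 = n17983 := d29_2 (iv F70569) D18559 (iv D17983)
def n18560 : Q := act 3 n17981
theorem D18560 : act 3 n17981 = n18560 := rfl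
theorem F72765 : act 4 n18560 = n18560 := d21_2 D17981 D18560 (iv D18560) (iv D17981) F68328
theorem F72766 : act 8 n18560 = n17984 := d25_2 (iv F70571) D18560 (iv D17984)
def n18561 : Q := act 5 n17981
theorem D18561 : act 5 n17981 = n18561 := rfl
theorem F72767 : act 2 n18561 = n17982 := d17_1 D18561 (iv D17982) (iv F70570)
theorem F72768 : act 8 n18561 = n17985 := d32_2 (iv F70571) D18561 (iv D17985)
def n18562 : Q := act 6 n17982
theorem D18562 : act 6 n17982 = n18562 := rfl
theorem F72769 : act 1 n18562 = n18006 := d12_1 D18562 (iv D18006) (iv F70572)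
theorem F72770 : act 8 n18562 = n17986 := d34_2 (iv F70573) D18562 (iv D17986)
def n18563 : Q := act 3 n17983
theorem D18563 : act 3 n17983 = n18563 := rfl
theorem F72771 : act 1 n18563 = n17984 := d9_1 D18563 (iv D17984) (iv F70574)
theorem F72772 : act 4 n18563 = n18563 := d21_2 D17983 D18563 (iv D18563) (iv D17983) F68333
theorem F72773 : act 7 n18563 = n18045 := d24_2 (iv F70576) D18563 (iv D18045) F68557 (iv F68356)
def n18564 : Q := act 5 n17983
theorem D18564 : act 5 n17983 = n18564 := rfl
theorem F72774 : act 1 n18564 = n17985 := d11_1 D18564 (iv D17985) (iv F70574)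
theorem F72775 : act 2 n18564 = n18009 := d17_1 D18564 (iv D18009) (iv F70575)
theorem F72776 : act 7 n18564 = n17992 := d31_2 (iv F70576) D18564 (iv D17992)
def n18565 : Q := act 5 n17984
theorem D18565 : act 5 n17984 = n18565 := rfl
theorem F72777 : act 3 n18565 = n17985 := d22_1 D18565 (iv D17985) D17984
def n18566 : Q := act 6 n17985
theorem D18566 : act 6 n17985 = n18566 := rfl
theorem F72778 : act 2 n18566 = n17986 := d18_1 D18566 (iv D17986) (iv F70578)
theorem F72779 : act 7 n18566 = n17993 := d33_2 (iv F70579) D18566 (iv D17993)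
def n18567 : Q := act 5 n17987
theorem D18567 : act 5 n17987 = n18567 := rfl
theorem F72780 : act 0 n18567 = n18202 := d4_1 D18567 (iv D18202) (iv F70582)
theorem F72781 : act 1 n18567 = n18299 := d11_1 D18567 (iv D18299) (iv F70583)
theorem F72782 : act 2 n18567 = n17988 := d17_1 D18567 (iv D17988) (iv F70584)
theorem F72783 : act 3 n18567 = n18298 := d22_1 D18567 (iv D18298) (iv F70585)
theorem F72784 : act 4 n18567 = n18190 := d26_1 D18567 (iv D18190) (iv D17578) (iv F68342) D17987
theorem F72785 : act 8 n18567 = n18230 := d32_2 (iv F70587) D18567 (iv D18230)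
def n18568 : Q := act 6 n17988
theorem D18568 : act 6 n17988 = n18568 := rfl
theorem F72786 : act 0 n18568 = n18203 := d5_1 D18568 (iv D18203) (iv F70588)
theorem F72787 : act 1 n18568 = n18012 := d12_1 D18568 (iv D18012) (iv F70589)
theorem F72788 : act 3 n18568 = n18247 := d23_1 D18568 (iv D18247) (iv F70590)
theorem F72789 : act 4 n18568 = n18191 := d27_1 D18568 (iv D18191) (iv F70591)
theorem F72790 : act 5 n18568 = n17991 := d30_1 D18568 (iv D17991) (iv D17370) (iv F68348) D17988
theorem F72791 : act 8 n18568 = n18231 := d34_2 (iv F70592) D18568 (iv D18231)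
def n18569 : Q := act 5 n17989
theorem D18569 : act 5 n17989 = n18569 := rfl
theorem F72792 : act 0 n18569 = n18289 := d4_1 D18569 (iv D18289) (iv F70593)
theorem F72793 : act 1 n18569 = n18093 := d11_1 D18569 (iv D18093) (iv F70594)
theorem F72794 : act 2 n18569 = n18232 := d17_1 D18569 (iv D18232) (iv F70595)
theorem F72795 : act 3 n18569 = n17990 := d22_1 D18569 (iv D17990) D17989
theorem F72796 : act 4 n18569 = n18279 := d26_1 D18569 (iv D18279) F69406 (iv F68449) (iv F70596)
theorem F72797 : act 8 n18569 = n18302 := d32_2 (iv F70598) D18569 F71680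
def n18570 : Q := act 7 n17989
theorem D18570 : act 7 n17989 = n18570 := rfl
theorem F72798 : act 0 n18570 = n18285 := d6_1 D18570 F71640 (iv F70593)
theorem F72799 : act 1 n18570 = n18091 := d13_1 D18570 F70963 (iv F70594)
theorem F72800 : act 2 n18570 = n18227 := d19_1 D18570 F71444 (iv F70595)
theorem F72801 : act 4 n18570 = n18023 := d28_1 D18570 (iv D18023) (iv F70596)
theorem F72802 : act 6 n18570 = n18294 := d33_1 D18570 F71663 (iv F70597)
def n18571 : Q := act 6 n17990
theorem D18571 : act 6 n17990 = n18571 := rfl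
theorem F72803 : act 2 n18571 = n17991 := d18_1 D18571 (iv D17991) (iv F70599)
theorem F72804 : act 4 n18571 = n17993 := d27_1 D18571 (iv D17993) (iv F70600)
def n18572 : Q := act 6 n17992
theorem D18572 : act 6 n17992 = n18572 := rfl
theorem F72805 : act 1 n18572 = n17993 := d12_1 D18572 (iv D17993) (iv F70604)
theorem F72806 : act 2 n18572 = n18016 := d18_1 D18572 (iv D18016) (iv F70605)
theorem F72807 : act 3 n18572 = n18067 := d23_1 D18572 (iv D18067) (iv F70606)
theorem F72808 : act 8 n18572 = n18110 := d34_2 (iv F70607) D18572 (iv D18110)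
def n18573 : Q := act 6 n17994
theorem D18573 : act 6 n17994 = n18573 := rfl
theorem F72809 : act 3 n18573 = n18001 := d23_1 D18573 (iv D18001) (iv F70609)
theorem F72810 : act 7 n18573 = n18251 := d33_2 (iv F70610) D18573 (iv D18251)
def n18574 : Q := act 6 n17995
theorem D18574 : act 6 n17995 = n18574 := rfl
theorem F72811 : act 5 n18574 = n18001 := d30_1 D18574 (iv D18001) (iv D17380) (iv F68363) D17995
theorem F72812 : act 7 n18574 = n18012 := d33_2 (iv F70611) D18574 (iv D18012)
def n18575 : Q := act 4 n17996
theorem D18575 : act 4 n17996 = n18575 := rfl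
theorem F72813 : act 0 n18575 = n18112 := d3_1 D18575 F71033 (iv F70612)
theorem F72814 : act 1 n18575 = n17997 := d10_1 D18575 (iv D17997) D17996
theorem F72815 : act 6 n18575 = n18305 := d27_2 (iv F70615) D18575 F71686
theorem F72816 : act 8 n18575 = n17999 := d29_2 (iv F70616) D18575 (iv D17999)
def n18576 : Q := act 5 n17997
theorem D18576 : act 5 n17997 = n18576 := rfl
theorem F72817 : act 2 n18576 = n17998 := d17_1 D18576 (iv D17998) (iv F70617)
theorem F72818 : act 4 n18576 = n18005 := d26_1 D18576 (iv D18005) (iv D17382) (iv F68366) D17997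
theorem F72819 : act 8 n18576 = n18000 := d32_2 (iv F70618) D18576 (iv D18000)
def n18577 : Q := act 6 n17998
theorem D18577 : act 6 n17998 = n18577 := rfl
theorem F72820 : act 4 n18577 = n18006 := d27_1 D18577 (iv D18006) (iv F70619)
theorem F72821 : act 8 n18577 = n18001 := d34_2 (iv F70620) D18577 (iv D18001)
def n18578 : Q := act 5 n17999
theorem D18578 : act 5 n17999 = n18578 := rfl
theorem F72822 : act 0 n18578 = n18111 := d4_1 D18578 F71032 (iv F70621)
theorem F72823 : act 1 n18578 = n18000 := d11_1 D18578 (iv D18000) (iv F70622)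
theorem F72824 : act 4 n18578 = n18009 := d26_1 D18578 (iv D18009) (iv D17385) (iv F68371) D17999
theorem F72825 : act 7 n18578 = n18013 := d31_2 (iv F70624) D18578 (iv D18013)
def n18579 : Q := act 6 n18000
theorem D18579 : act 6 n18000 = n18579 := rfl
theorem F72826 : act 2 n18579 = n18001 := d18_1 D18579 (iv D18001) (iv F70625)
theorem F72827 : act 4 n18579 = n18011 := d27_1 D18579 (iv D18011) (iv F70626)
theorem F72828 : act 7 n18579 = n18014 := d33_2 (iv F70627) D18579 (iv D18014)
def n18580 : Q := act 4 n18002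
theorem D18580 : act 4 n18002 = n18580 := rfl
theorem F72829 : act 0 n18580 = n18003 := d3_1 D18580 (iv D18003) D18002
theorem F72830 : act 8 n18580 = n18007 := d29_2 (iv F70632) D18580 (iv D18007)
def n18581 : Q := act 3 n18003
theorem D18581 : act 3 n18003 = n18581 := rfl
theorem F72831 : act 1 n18581 = n18004 := d9_1 D18581 (iv D18004) (iv F70633)
theorem F72832 : act 4 n18581 = n18019 := d21_2 D18003 D18581 (iv D18019) (iv D17401) (iv F68378)
theorem F72833 : act 6 n18581 = n18273 := d23_2 F72040 D18581 (iv F72039)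
theorem F72834 : act 8 n18581 = n18008 := d25_2 (iv F70634) D18581 (iv D18008)
def n18582 : Q := act 5 n18003
theorem D18582 : act 5 n18003 = n18582 := rfl
theorem F72835 : act 1 n18582 = n18005 := d11_1 D18582 (iv D18005) (iv F70633)
theorem F72836 : act 8 n18582 = n18009 := d32_2 (iv F70634) D18582 (iv D18009)
def n18583 : Q := act 5 n18004
theorem D18583 : act 5 n18004 = n18583 := rfl
theorem F72837 : act 0 n18583 = n18159 := d4_1 D18583 (iv D18159) (iv F70635)
theorem F72838 : act 2 n18583 = n18148 := d17_1 D18583 (iv D18148) (iv F70636)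
theorem F72839 : act 3 n18583 = n18005 := d22_1 D18583 (iv D18005) D18004
theorem F72840 : act 8 n18583 = n18010 := d32_2 (iv F70639) D18583 (iv D18010)
def n18584 : Q := act 7 n18004
theorem D18584 : act 7 n18004 = n18584 := rfl
theorem F72841 : act 0 n18584 = n18154 := d6_1 D18584 F71199 (iv F70635)
theorem F72842 : act 2 n18584 = n18147 := d19_1 D18584 F71168 (iv F70636)
theorem F72843 : act 4 n18584 = n18020 := d28_1 D18584 (iv D18020) (iv F70637)
theorem F72844 : act 6 n18584 = n18267 := d33_1 D18584 F71577 (iv F70638)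
theorem F72845 : act 8 n18584 = n18376 := d35_2 (iv F70639) D18584 (iv D18376) F69681 (iv F68389)
def n18585 : Q := act 6 n18005
theorem D18585 : act 6 n18005 = n18585 := rfl
theorem F72846 : act 2 n18585 = n18006 := d18_1 D18585 (iv D18006) (iv F70640)
theorem F72847 : act 8 n18585 = n18011 := d34_2 (iv F70641) D18585 (iv D18011)
def n18586 : Q := act 3 n18007
theorem D18586 : act 3 n18007 = n18586 := rfl
theorem F72848 : act 0 n18586 = n18008 := d2_1 D18586 (iv D18008) (iv F70643)
theorem F72849 : act 4 n18586 = n18021 := d21_2 D18007 D18586 (iv D18021) (iv D17403) (iv F68383)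
theorem F72850 : act 7 n18586 = n18378 := d24_2 (iv F70644) D18586 (iv D18378) F69687 (iv F68403)
def n18587 : Q := act 5 n18007
theorem D18587 : act 5 n18007 = n18587 := rfl
theorem F72851 : act 0 n18587 = n18009 := d4_1 D18587 (iv D18009) (iv F70643)
theorem F72852 : act 4 n18587 = n18111 := d26_1 D18587 F71032 F68793 (iv F68384) D18007
theorem F72853 : act 7 n18587 = n18015 := d31_2 (iv F70644) D18587 (iv D18015)
def n18588 : Q := act 2 n18008
theorem D18588 : act 2 n18008 = n18588 := rfl
theorem F72854 : act 1 n18588 = n18328 := d8_1 D18588 F71768 F69548 F68527 (iv F70645)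
theorem F72855 : act 4 n18588 = n18022 := d16_2 (iv F70646) D18588 (iv D18022)
theorem F72856 : act 7 n18588 = n18341 := d19_2 (iv F70647) D18588 F71812
def n18589 : Q := act 5 n18008
theorem D18589 : act 5 n18008 = n18589 := rfl
theorem F72857 : act 1 n18589 = n18010 := d11_1 D18589 (iv D18010) (iv F70645)
theorem F72858 : act 3 n18589 = n18009 := d22_1 D18589 (iv D18009) D18008
theorem F72859 : act 7 n18589 = n18380 := d31_2 (iv F70647) D18589 (iv D18380)
def n18590 : Q := act 6 n18009
theorem D18590 : act 6 n18009 = n18590 := rfl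
theorem F72860 : act 1 n18590 = n18011 := d12_1 D18590 (iv D18011) (iv F70648)
theorem F72861 : act 7 n18590 = n18016 := d33_2 (iv F70649) D18590 (iv D18016)
def n18591 : Q := act 6 n18010
theorem D18591 : act 6 n18010 = n18591 := rfl
theorem F72862 : act 3 n18591 = n18011 := d23_1 D18591 (iv D18011) (iv F70650)
theorem F72863 : act 7 n18591 = n18382 := d33_2 (iv F70651) D18591 (iv D18382)
def n18592 : Q := act 6 n18013
theorem D18592 : act 6 n18013 = n18592 := rfl
theorem F72864 : act 0 n18592 = n18110 := d5_1 D18592 (iv D18110) (iv F70656)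
theorem F72865 : act 1 n18592 = n18014 := d12_1 D18592 (iv D18014) (iv F70657)
theorem F72866 : act 3 n18592 = n18095 := d23_1 D18592 (iv D18095) (iv F70658)
theorem F72867 : act 4 n18592 = n18016 := d27_1 D18592 (iv D18016) (iv F70659)
theorem F72868 : act 5 n18592 = n18303 := d30_1 D18592 (iv D18303) (iv D17702) (iv F68397) D18013
def n18593 : Q := act 6 n18015
theorem D18593 : act 6 n18015 = n18593 := rfl
theorem F72869 : act 0 n18593 = n18016 := d5_1 D18593 (iv D18016) (iv F70662)
theorem F72870 : act 3 n18593 = n18387 := d23_1 D18593 (iv D18387) (iv F70663)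
theorem F72871 : act 4 n18593 = n18110 := d27_1 D18593 (iv D18110) (iv F70664)
def n18594 : Q := act 3 n18018
theorem D18594 : act 3 n18018 = n18594 := rfl
theorem F72872 : act 0 n18594 = n18019 := d2_1 D18594 (iv D18019) (iv F70669)
theorem F72873 : act 1 n18594 = n18157 := d9_1 D18594 F71208 (iv F70670)
theorem F72874 : act 6 n18594 = n18272 := d23_2 (iv F70672) D18594 F71598
theorem F72875 : act 8 n18594 = n18021 := d25_2 (iv F70674) D18594 (iv D18021)
def n18595 : Q := act 2 n18019
theorem D18595 : act 2 n18019 = n18595 := rfl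
theorem F72876 : act 1 n18595 = n18036 := d8_1 D18595 (iv D18036) F68535 (iv F68438) (iv F70675)
theorem F72877 : act 3 n18595 = n18595 := d15_2 D18019 D18595 (iv D18595) (iv D18019) F68433
theorem F72878 : act 5 n18595 = n18330 := d17_2 F71753 D18595 F71776
theorem F72879 : act 6 n18595 = n18260 := d18_2 (iv F70676) D18595 F71556
theorem F72880 : act 8 n18595 = n18022 := d20_2 (iv F70677) D18595 (iv D18022)
def n18596 : Q := act 7 n18019
theorem D18596 : act 7 n18019 = n18596 := rfl
theorem F72881 : act 1 n18596 = n18020 := d13_1 D18596 (iv D18020) (iv F70675)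
theorem F72882 : act 3 n18596 = n18596 := d24_1 D18596 (iv D18596) (iv D18019) F68435 D18019
theorem F72883 : act 6 n18596 = n18266 := d33_1 D18596 F71574 (iv F70676)
theorem F72884 : act 8 n18596 = n18389 := d35_2 (iv F70677) D18596 (iv D18389) F69726 (iv F68445)
def n18597 : Q := act 2 n18021
theorem D18597 : act 2 n18021 = n18597 := rfl
theorem F72885 : act 0 n18597 = n18022 := d1_1 D18597 (iv D18022) (iv F70683)
theorem F72886 : act 3 n18597 = n18597 := d15_2 D18021 D18597 (iv D18597) (iv D18021) F68442
theorem F72887 : act 5 n18597 = n18333 := d17_2 F71758 D18597 F71786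
theorem F72888 : act 7 n18597 = n18340 := d19_2 (iv F70684) D18597 F71806
def n18598 : Q := act 8 n18023
theorem D18598 : act 8 n18023 = n18598 := rfl
theorem F72889 : act 0 n18598 = n18282 := d7_1 D18598 F71631 (iv F70689)
theorem F72890 : act 1 n18598 = n18089 := d14_1 D18598 F70954 (iv F70690)
theorem F72891 : act 2 n18598 = n18224 := d20_1 D18598 F71432 (iv F70691)
theorem F72892 : act 3 n18598 = n18598 := d25_1 D18598 (iv D18598) F70692
theorem F72893 : act 5 n18598 = n18326 := d32_1 D18598 (iv D18326) (iv F70693)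
theorem F72894 : act 6 n18598 = n18291 := d34_1 D18598 F71655 (iv F70694)
theorem F72895 : act 7 n18598 = n18311 := d35_1 D18598 F71710 F69487 (iv F68451) D18023
def n18599 : Q := act 6 n18025
theorem D18599 : act 6 n18025 = n18599 := rfl
theorem F72896 : act 0 n18599 = n18385 := d5_1 D18599 (iv D18385) (iv F70702)
theorem F72897 : act 1 n18599 = n18084 := d12_1 D18599 (iv D18084) (iv F70703)
theorem F72898 : act 2 n18599 = n18026 := d18_1 D18599 (iv D18026) (iv F70704)
theorem F72899 : act 3 n18599 = n18321 := d23_1 D18599 (iv D18321) (iv F70705)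
theorem F72900 : act 5 n18599 = n18029 := d30_1 D18599 (iv D18029) (iv D17413) (iv F68468) D18025
theorem F72901 : act 7 n18599 = n18439 := d33_2 (iv F70706) D18599 (iv D18439)
theorem F72902 : act 8 n18599 = n18138 := d34_2 (iv F70707) D18599 (iv D18138)
def n18600 : Q := act 6 n18027
theorem D18600 : act 6 n18027 = n18600 := rfl
theorem F72903 : act 0 n18600 = n18029 := d5_1 D18600 (iv D18029) (iv F70713)
theorem F72904 : act 2 n18600 = n18028 := d18_1 D18600 (iv D18028) (iv F70714)
theorem F72905 : act 3 n18600 = n18383 := d23_1 D18600 (iv D18383) (iv F70715)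
theorem F72906 : act 4 n18600 = n18084 := d27_1 D18600 (iv D18084) (iv F70716)
theorem F72907 : act 5 n18600 = n18385 := d30_1 D18600 (iv D18385) (iv D17787) (iv F68484) D18027
theorem F72908 : act 7 n18600 = n18443 := d33_2 (iv F70717) D18600 (iv D18443)
def n18601 : Q := act 6 n18031
theorem D18601 : act 6 n18031 = n18601 := rfl
theorem F72909 : act 0 n18601 = n18126 := d5_1 D18601 (iv D18126) (iv F70732)
theorem F72910 : act 2 n18601 = n18141 := d18_1 D18601 (iv D18141) (iv F70733)
theorem F72911 : act 4 n18601 = n18035 := d27_1 D18601 (iv D18035) (iv F70734)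
theorem F72912 : act 7 n18601 = n18060 := d33_2 (iv F70735) D18601 (iv D18060)
theorem F72913 : act 8 n18601 = n18464 := d34_2 (iv F70736) D18601 (iv D18464)
def n18602 : Q := act 3 n18032
theorem D18602 : act 3 n18032 = n18602 := rfl
theorem F72914 : act 0 n18602 = n18263 := d2_1 D18602 (iv D18263) (iv F70737)
theorem F72915 : act 1 n18602 = n18133 := d9_1 D18602 (iv D18133) (iv F70738)
theorem F72916 : act 4 n18602 = n18602 := d21_2 D18032 D18602 (iv D18602) (iv D18032) F68519
theorem F72917 : act 6 n18602 = n18045 := d23_2 (iv F70740) D18602 (iv D18045)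
def n18603 : Q := act 5 n18032
theorem D18603 : act 5 n18032 = n18603 := rfl
theorem F72918 : act 0 n18603 = n18264 := d4_1 D18603 (iv D18264) (iv F70737)
theorem F72919 : act 1 n18603 = n18134 := d11_1 D18603 (iv D18134) (iv F70738)
theorem F72920 : act 2 n18603 = n18033 := d17_1 D18603 (iv D18033) (iv F70739)
theorem F72921 : act 7 n18603 = n18061 := d31_2 (iv F70741) D18603 (iv D18061)
def n18604 : Q := act 6 n18033
theorem D18604 : act 6 n18033 = n18604 := rfl
theorem F72922 : act 0 n18604 = n18265 := d5_1 D18604 (iv D18265) (iv F70742)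
theorem F72923 : act 1 n18604 = n18035 := d12_1 D18604 (iv D18035) (iv F70743)
theorem F72924 : act 5 n18604 = n18047 := d30_1 D18604 (iv D18047) (iv D17430) (iv F68524) D18033
theorem F72925 : act 7 n18604 = n18062 := d33_2 (iv F70744) D18604 (iv D18062)
def n18605 : Q := act 6 n18034
theorem D18605 : act 6 n18034 = n18605 := rfl
theorem F72926 : act 0 n18605 = n18146 := d5_1 D18605 (iv D18146) (iv F70745)
theorem F72927 : act 2 n18605 = n18591 := d18_1 D18605 (iv D18591) (iv F70746)
theorem F72928 : act 3 n18605 = n18035 := d23_1 D18605 (iv D18035) (iv F70747)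
theorem F72929 : act 5 n18605 = n18056 := d30_1 D18605 (iv D18056) (iv D17437) (iv F68529) D18034
theorem F72930 : act 7 n18605 = n18257 := d33_2 (iv F70748) D18605 (iv D18257)
def n18606 : Q := act 4 n18036
theorem D18606 : act 4 n18036 = n18606 := rfl
theorem F72931 : act 0 n18606 = n18043 := d3_1 D18606 (iv D18043) (iv F70753)
theorem F72932 : act 2 n18606 = n18037 := d16_1 D18606 (iv D18037) D18036
theorem F72933 : act 6 n18606 = n18261 := d27_2 (iv F70756) D18606 (iv D18261)
theorem F72934 : act 8 n18606 = n18328 := d29_2 (iv F70757) D18606 (iv D18328)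
def n18607 : Q := act 5 n18037
theorem D18607 : act 5 n18037 = n18607 := rfl
theorem F72935 : act 0 n18607 = n18044 := d4_1 D18607 (iv D18044) (iv F70758)
theorem F72936 : act 1 n18607 = n18148 := d11_1 D18607 (iv D18148) (iv F70759)
theorem F72937 : act 3 n18607 = n18039 := d22_1 D18607 (iv D18039) (iv F70760)
theorem F72938 : act 4 n18607 = n18332 := d26_1 D18607 (iv D18332) (iv D17734) (iv F68536) D18037
theorem F72939 : act 8 n18607 = n18329 := d32_2 (iv F70762) D18607 (iv D18329)
def n18608 : Q := act 3 n18038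
theorem D18608 : act 3 n18038 = n18608 := rfl
theorem F72940 : act 0 n18608 = n18045 := d2_1 D18608 (iv D18045) (iv F70763)
theorem F72941 : act 4 n18608 = n18608 := d21_2 D18038 D18608 (iv D18608) (iv D18038) F68540
theorem F72942 : act 6 n18608 = n18263 := d23_2 (iv F70765) D18608 (iv D18263)
theorem F72943 : act 8 n18608 = n18602 := d25_2 (iv F70767) D18608 (iv D18602)
def n18609 : Q := act 5 n18038
theorem D18609 : act 5 n18038 = n18609 := rfl
theorem F72944 : act 0 n18609 = n18046 := d4_1 D18609 (iv D18046) (iv F70763)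
theorem F72945 : act 2 n18609 = n18039 := d17_1 D18609 (iv D18039) (iv F70764)
theorem F72946 : act 7 n18609 = n18063 := d31_2 (iv F70766) D18609 (iv D18063)
theorem F72947 : act 8 n18609 = n18603 := d32_2 (iv F70767) D18609 (iv D18603)
def n18610 : Q := act 6 n18039
theorem D18610 : act 6 n18039 = n18610 := rfl
theorem F72948 : act 0 n18610 = n18047 := d5_1 D18610 (iv D18047) (iv F70768)
theorem F72949 : act 1 n18610 = n18149 := d12_1 D18610 (iv D18149) (iv F70769)
theorem F72950 : act 5 n18610 = n18265 := d30_1 D18610 (iv D18265) (iv D17670) (iv F68546) D18039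
theorem F72951 : act 7 n18610 = n18064 := d33_2 (iv F70770) D18610 (iv D18064)
theorem F72952 : act 8 n18610 = n18604 := d34_2 (iv F70771) D18610 (iv D18604)
def n18611 : Q := act 4 n18040
theorem D18611 : act 4 n18040 = n18611 := rfl
theorem F72953 : act 0 n18611 = n18331 := d3_1 D18611 (iv D18331) (iv F70772)
theorem F72954 : act 2 n18611 = n18041 := d16_1 D18611 (iv D18041) D18040
theorem F72955 : act 6 n18611 = n18376 := d27_2 (iv F70775) D18611 F71922
theorem F72956 : act 7 n18611 = n18240 := d28_2 (iv F70776) D18611 F71489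
theorem F72957 : act 8 n18611 = n18267 := d29_2 (iv F70777) D18611 (iv D18267)
def n18612 : Q := act 5 n18041
theorem D18612 : act 5 n18041 = n18612 := rfl
theorem F72958 : act 0 n18612 = n18332 := d4_1 D18612 (iv D18332) (iv F70778)
theorem F72959 : act 1 n18612 = n18052 := d11_1 D18612 (iv D18052) (iv F70779)
theorem F72960 : act 3 n18612 = n18284 := d22_1 D18612 (iv D18284) (iv F70780)
theorem F72961 : act 4 n18612 = n18044 := d26_1 D18612 (iv D18044) (iv D17428) (iv F68551) D18041
theorem F72962 : act 8 n18612 = n18268 := d32_2 (iv F70781) D18612 (iv D18268)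
def n18613 : Q := act 0 n18042
theorem D18613 : act 0 n18042 = n18613 := rfl
theorem F72963 : act 2 n18613 = n18053 := d1_2 (iv F70782) D18613 (iv D18053)
theorem F72964 : act 3 n18613 = n18613 := d2_2 F70783 D18613 (iv D18613)
theorem F72965 : act 6 n18613 = n18597 := d5_2 (iv F70784) D18613 F72885
theorem F72966 : act 7 n18613 = n18278 := d6_2 (iv F70785) D18613 F71621
def n18614 : Q := act 4 n18042
theorem D18614 : act 4 n18042 = n18614 := rfl
theorem F72967 : act 1 n18614 = n18043 := d10_1 D18614 (iv D18043) D18042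
theorem F72968 : act 2 n18614 = n18054 := d16_1 D18614 (iv D18054) (iv F70782)
theorem F72969 : act 6 n18614 = n18588 := d27_2 (iv F70784) D18614 F72855
theorem F72970 : act 7 n18614 = n18342 := d28_2 (iv F70785) D18614 F71817
def n18615 : Q := act 3 n18043
theorem D18615 : act 3 n18043 = n18615 := rfl
theorem F72971 : act 2 n18615 = n18045 := d15_1 D18615 (iv D18045) F68556 (iv F68555) (iv F70786)
theorem F72972 : act 4 n18615 = n18615 := d21_2 D18043 D18615 (iv D18615) (iv D18043) F68553
def n18616 : Q := act 5 n18043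
theorem D18616 : act 5 n18043 = n18616 := rfl
theorem F72973 : act 2 n18616 = n18044 := d17_1 D18616 (iv D18044) (iv F70786)
def n18617 : Q := act 6 n18044
theorem D18617 : act 6 n18044 = n18617 := rfl
theorem F72974 : act 1 n18617 = n18056 := d12_1 D18617 (iv D18056) (iv F70787)
theorem F72975 : act 3 n18617 = n18047 := d23_1 D18617 (iv D18047) (iv F70788)
def n18618 : Q := act 5 n18045
theorem D18618 : act 5 n18045 = n18618 := rfl
theorem F72976 : act 3 n18618 = n18046 := d22_1 D18618 (iv D18046) D18045
def n18619 : Q := act 6 n18046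
theorem D18619 : act 6 n18046 = n18619 := rfl
theorem F72977 : act 2 n18619 = n18047 := d18_1 D18619 (iv D18047) (iv F70790)
theorem F72978 : act 7 n18619 = n18067 := d33_2 (iv F70791) D18619 (iv D18067)
def n18620 : Q := act 5 n18048
theorem D18620 : act 5 n18048 = n18620 := rfl
theorem F72979 : act 0 n18620 = n18169 := d4_1 D18620 (iv D18169) (iv F70794)
theorem F72980 : act 1 n18620 = n18175 := d11_1 D18620 (iv D18175) (iv F70795)
theorem F72981 : act 3 n18620 = n18071 := d22_1 D18620 (iv D18071) (iv F70796)
theorem F72982 : act 4 n18620 = n18339 := d26_1 D18620 (iv D18339) (iv D17739) (iv F68562) D18048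
theorem F72983 : act 7 n18620 = n18612 := d31_2 (iv F70798) D18620 (iv D18612)
theorem F72984 : act 8 n18620 = n18049 := d32_2 (iv F70799) D18620 (iv D18049)
def n18621 : Q := act 6 n18049
theorem D18621 : act 6 n18049 = n18621 := rfl
theorem F72985 : act 0 n18621 = n18173 := d5_1 D18621 (iv D18173) (iv F70800)
theorem F72986 : act 3 n18621 = n18072 := d23_1 D18621 (iv D18072) (iv F70801)
theorem F72987 : act 5 n18621 = n18257 := d30_1 D18621 (iv D18257) (iv D17651) (iv F68568) D18049
theorem F72988 : act 7 n18621 = n18056 := d33_2 (iv F70802) D18621 (iv D18056)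
def n18622 : Q := act 0 n18050
theorem D18622 : act 0 n18050 = n18622 := rfl
theorem F72989 : act 1 n18622 = n18176 := d0_2 D18050 D18622 (iv D18176) (iv D17565) (iv F68570)
theorem F72990 : act 3 n18622 = n18057 := d2_2 (iv F70803) D18622 (iv D18057)
theorem F72991 : act 5 n18622 = n18053 := d4_2 (iv F70804) D18622 (iv D18053)
theorem F72992 : act 7 n18622 = n18059 := d6_2 (iv F70805) D18622 F70833
def n18623 : Q := act 4 n18050
theorem D18623 : act 4 n18050 = n18623 := rfl
theorem F72993 : act 1 n18623 = n18051 := d10_1 D18623 (iv D18051) D18050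
theorem F72994 : act 7 n18623 = n18178 := d28_2 (iv F70805) D18623 F71275
def n18624 : Q := act 3 n18051
theorem D18624 : act 3 n18051 = n18624 := rfl
theorem F72995 : act 0 n18624 = n18178 := d2_1 D18624 (iv D18178) (iv F70806)
theorem F72996 : act 4 n18624 = n18059 := d21_2 D18051 D18624 (iv D18059) (iv D17440) (iv F68571)
def n18625 : Q := act 5 n18051
theorem D18625 : act 5 n18051 = n18625 := rfl
theorem F72997 : act 0 n18625 = n18179 := d4_1 D18625 (iv D18179) (iv F70806)
theorem F72998 : act 2 n18625 = n18052 := d17_1 D18625 (iv D18052) (iv F70807)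
theorem F72999 : act 4 n18625 = n18055 := d26_1 D18625 (iv D18055) (iv D17436) (iv F68572) D18051
def n18626 : Q := act 6 n18052
theorem D18626 : act 6 n18052 = n18626 := rfl
theorem F73000 : act 0 n18626 = n18180 := d5_1 D18626 (iv D18180) (iv F70808)
theorem F73001 : act 4 n18626 = n18056 := d27_1 D18626 (iv D18056) (iv F70809)
def n18627 : Q := act 4 n18053
theorem D18627 : act 4 n18053 = n18627 := rfl
theorem F73002 : act 0 n18627 = n18054 := d3_1 D18627 (iv D18054) D18053
theorem F73003 : act 1 n18627 = n18181 := d10_1 D18627 (iv D18181) (iv F70810)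
theorem F73004 : act 3 n18627 = n18534 := d21_1 D18627 (iv D18534) F70457 (iv F68593) (iv F70811)
theorem F73005 : act 6 n18627 = n18586 := d27_2 (iv F70812) D18627 F72849
theorem F73006 : act 7 n18627 = n18531 := d28_2 (iv F70813) D18627 F72647
def n18628 : Q := act 5 n18054
theorem D18628 : act 5 n18054 = n18628 := rfl
theorem F73007 : act 1 n18628 = n18055 := d11_1 D18628 (iv D18055) (iv F70814)
theorem F73008 : act 3 n18628 = n18535 := d22_1 D18628 (iv D18535) (iv F70815)
def n18629 : Q := act 6 n18055
theorem D18629 : act 6 n18055 = n18629 := rfl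
theorem F73009 : act 0 n18629 = n18183 := d5_1 D18629 (iv D18183) (iv F70817)
theorem F73010 : act 2 n18629 = n18056 := d18_1 D18629 (iv D18056) (iv F70818)
theorem F73011 : act 3 n18629 = n18536 := d23_1 D18629 (iv D18536) (iv F70819)
theorem F73012 : act 5 n18629 = n18591 := d30_1 D18629 (iv D18591) (iv D18010) (iv F68579) D18055
def n18630 : Q := act 3 n18058
theorem D18630 : act 3 n18058 = n18630 := rfl
theorem F73013 : act 0 n18630 = n18164 := d2_1 D18630 F71238 (iv F70827)
theorem F73014 : act 1 n18630 = n18059 := d9_1 D18630 (iv D18059) (iv F70828)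
theorem F73015 : act 5 n18630 = n18170 := d22_2 (iv F70830) D18630 F71254
theorem F73016 : act 6 n18630 = n18622 := d23_2 (iv F70831) D18630 F72990
theorem F73017 : act 7 n18630 = n18176 := d24_2 (iv F70832) D18630 F71269 F69048 (iv F69334)
def n18631 : Q := act 6 n18061
theorem D18631 : act 6 n18061 = n18631 := rfl
theorem F73018 : act 0 n18631 = n18281 := d5_1 D18631 (iv D18281) (iv F70839)
theorem F73019 : act 1 n18631 = n18138 := d12_1 D18631 (iv D18138) (iv F70840)
theorem F73020 : act 2 n18631 = n18062 := d18_1 D18631 (iv D18062) (iv F70841)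
theorem F73021 : act 5 n18631 = n18067 := d30_1 D18631 (iv D18067) (iv D17450) (iv F68603) D18061
theorem F73022 : act 8 n18631 = n18084 := d34_2 (iv F70842) D18631 (iv D18084)
def n18632 : Q := act 6 n18063
theorem D18632 : act 6 n18063 = n18632 := rfl
theorem F73023 : act 0 n18632 = n18067 := d5_1 D18632 (iv D18067) (iv F70848)
theorem F73024 : act 2 n18632 = n18064 := d18_1 D18632 (iv D18064) (iv F70849)
theorem F73025 : act 5 n18632 = n18281 := d30_1 D18632 (iv D18281) (iv D17683) (iv F68616) D18063
theorem F73026 : act 8 n18632 = n18095 := d34_2 (iv F70850) D18632 (iv D18095)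
def n18633 : Q := act 6 n18065
theorem D18633 : act 6 n18065 = n18633 := rfl
theorem F73027 : act 1 n18633 = n18072 := d12_1 D18633 (iv D18072) (iv F70855)
theorem F73028 : act 2 n18633 = n18381 := d18_1 D18633 (iv D18381) (iv F70856)
theorem F73029 : act 5 n18633 = n18256 := d30_1 D18633 (iv D18256) (iv D17650) (iv F68623) D18065
theorem F73030 : act 7 n18633 = n18066 := d33_2 (iv F70857) D18633 (iv D18066)
def n18634 : Q := act 5 n18068
theorem D18634 : act 5 n18068 = n18634 := rfl
theorem F73031 : act 0 n18634 = n18206 := d4_1 D18634 (iv D18206) (iv F70865)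
theorem F73032 : act 3 n18634 = n18070 := d22_1 D18634 (iv D18070) (iv F70866)
theorem F73033 : act 4 n18634 = n18473 := d26_1 D18634 (iv D18473) (iv D17890) (iv F68634) D18068
theorem F73034 : act 8 n18634 = n18449 := d32_2 (iv F70868) D18634 (iv D18449)
def n18635 : Q := act 5 n18069
theorem D18635 : act 5 n18069 = n18635 := rfl
theorem F73035 : act 0 n18635 = n18208 := d4_1 D18635 (iv D18208) (iv F70869)
theorem F73036 : act 1 n18635 = n18634 := d11_1 D18635 (iv D18634) (iv F70870)
theorem F73037 : act 2 n18635 = n18215 := d17_1 D18635 (iv D18215) (iv F70871)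
theorem F73038 : act 3 n18635 = n18449 := d22_1 D18635 (iv D18449) (iv F70872)
theorem F73039 : act 4 n18635 = n18071 := d26_1 D18635 (iv D18071) (iv D17455) (iv F68640) D18069
theorem F73040 : act 7 n18635 = n18115 := d31_2 (iv F70874) D18635 (iv D18115)
theorem F73041 : act 8 n18635 = n18070 := d32_2 (iv F70875) D18635 (iv D18070)
def n18636 : Q := act 6 n18070
theorem D18636 : act 6 n18070 = n18636 := rfl
theorem F73042 : act 0 n18636 = n18209 := d5_1 D18636 (iv D18209) (iv F70876)
theorem F73043 : act 2 n18636 = n18216 := d18_1 D18636 (iv D18216) (iv F70877)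
theorem F73044 : act 4 n18636 = n18072 := d27_1 D18636 (iv D18072) (iv F70878)
theorem F73045 : act 7 n18636 = n18073 := d33_2 (iv F70879) D18636 (iv D18073)
def n18637 : Q := act 6 n18071
theorem D18637 : act 6 n18071 = n18637 := rfl
theorem F73046 : act 0 n18637 = n18210 := d5_1 D18637 (iv D18210) (iv F70880)
theorem F73047 : act 2 n18637 = n18217 := d18_1 D18637 (iv D18217) (iv F70881)
theorem F73048 : act 5 n18637 = n18255 := d30_1 D18637 (iv D18255) (iv D17648) (iv F68649) D18071
theorem F73049 : act 7 n18637 = n18120 := d33_2 (iv F70882) D18637 (iv D18120)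
theorem F73050 : act 8 n18637 = n18072 := d34_2 (iv F70883) D18637 (iv D18072)
def n18638 : Q := act 3 n18074
theorem D18638 : act 3 n18074 = n18638 := rfl
theorem F73051 : act 0 n18638 = n18133 := d2_1 D18638 (iv D18133) (iv F70892)
theorem F73052 : act 2 n18638 = n18545 := d15_1 D18638 (iv D18545) F70516 (iv F68668) (iv F70893)
theorem F73053 : act 4 n18638 = n18638 := d21_2 D18074 D18638 (iv D18638) (iv D18074) F68665
theorem F73054 : act 7 n18638 = n18352 := d24_2 (iv F70894) D18638 (iv D18352) F69621 (iv F68672)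
def n18639 : Q := act 5 n18074
theorem D18639 : act 5 n18074 = n18639 := rfl
theorem F73055 : act 0 n18639 = n18134 := d4_1 D18639 (iv D18134) (iv F70892)
theorem F73056 : act 2 n18639 = n18075 := d17_1 D18639 (iv D18075) (iv F70893)
theorem F73057 : act 7 n18639 = n18076 := d31_2 (iv F70894) D18639 (iv D18076)
def n18640 : Q := act 6 n18075
theorem D18640 : act 6 n18075 = n18640 := rfl
theorem F73058 : act 0 n18640 = n18135 := d5_1 D18640 (iv D18135) (iv F70895)
theorem F73059 : act 3 n18640 = n18547 := d23_1 D18640 (iv D18547) (iv F70896)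
theorem F73060 : act 7 n18640 = n18077 := d33_2 (iv F70897) D18640 (iv D18077)
def n18641 : Q := act 6 n18076
theorem D18641 : act 6 n18076 = n18641 := rfl
theorem F73061 : act 0 n18641 = n18138 := d5_1 D18641 (iv D18138) (iv F70898)
theorem F73062 : act 2 n18641 = n18077 := d18_1 D18641 (iv D18077) (iv F70899)
theorem F73063 : act 3 n18641 = n18360 := d23_1 D18641 (iv D18360) (iv F70900)
theorem F73064 : act 8 n18641 = n18385 := d34_2 (iv F70901) D18641 (iv D18385)
def n18642 : Q := act 3 n18078
theorem D18642 : act 3 n18078 = n18642 := rfl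
theorem F73065 : act 0 n18642 = n18295 := d2_1 D18642 (iv D18295) (iv F70904)
theorem F73066 : act 1 n18642 = n18199 := d9_1 D18642 (iv D18199) (iv F70905)
theorem F73067 : act 4 n18642 = n18642 := d21_2 D18078 D18642 (iv D18642) (iv D18078) F68681
theorem F73068 : act 6 n18642 = n18104 := d23_2 (iv F70907) D18642 (iv D18104)
def n18643 : Q := act 5 n18078
theorem D18643 : act 5 n18078 = n18643 := rfl
theorem F73069 : act 0 n18643 = n18296 := d4_1 D18643 (iv D18296) (iv F70904)
theorem F73070 : act 1 n18643 = n18200 := d11_1 D18643 (iv D18200) (iv F70905)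
theorem F73071 : act 2 n18643 = n18079 := d17_1 D18643 (iv D18079) (iv F70906)
theorem F73072 : act 7 n18643 = n18080 := d31_2 (iv F70908) D18643 (iv D18080)
def n18644 : Q := act 6 n18079
theorem D18644 : act 6 n18079 = n18644 := rfl
theorem F73073 : act 0 n18644 = n18297 := d5_1 D18644 (iv D18297) (iv F70909)
theorem F73074 : act 1 n18644 = n18087 := d12_1 D18644 (iv D18087) (iv F70910)
theorem F73075 : act 5 n18644 = n18106 := d30_1 D18644 (iv D18106) (iv D17490) (iv F68686) D18079
theorem F73076 : act 7 n18644 = n18081 := d33_2 (iv F70911) D18644 (iv D18081)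
def n18645 : Q := act 6 n18080
theorem D18645 : act 6 n18080 = n18645 := rfl
theorem F73077 : act 0 n18645 = n18301 := d5_1 D18645 (iv D18301) (iv F70912)
theorem F73078 : act 1 n18645 = n18204 := d12_1 D18645 (iv D18204) (iv F70913)
theorem F73079 : act 2 n18645 = n18081 := d18_1 D18645 (iv D18081) (iv F70914)
theorem F73080 : act 5 n18645 = n18109 := d30_1 D18645 (iv D18109) (iv D17493) (iv F68691) D18080
theorem F73081 : act 8 n18645 = n18249 := d34_2 (iv F70915) D18645 (iv D18249)
def n18646 : Q := act 6 n18082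
theorem D18646 : act 6 n18082 = n18646 := rfl
theorem F73082 : act 0 n18646 = n18303 := d5_1 D18646 (iv D18303) (iv F70921)
theorem F73083 : act 1 n18646 = n18321 := d12_1 D18646 (iv D18321) (iv F70922)
theorem F73084 : act 3 n18646 = n18084 := d23_1 D18646 (iv D18084) (iv F70923)
theorem F73085 : act 4 n18646 = n18322 := d27_1 D18646 (iv D18322) (iv F70924)
theorem F73086 : act 5 n18646 = n18110 := d30_1 D18646 (iv D18110) (iv D17495) (iv F68700) D18082
def n18647 : Q := act 7 n18082
theorem D18647 : act 7 n18082 = n18647 := rfl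
theorem F73087 : act 0 n18647 = n18304 := d6_1 D18647 (iv D18304) (iv F70921)
theorem F73088 : act 1 n18647 = n18309 := d13_1 D18647 F71703 (iv F70922)
theorem F73089 : act 3 n18647 = n18578 := d24_1 D18647 F72825 F70658 F68749 (iv F70923)
theorem F73090 : act 4 n18647 = n18318 := d28_1 D18647 F71732 (iv F70924)
theorem F73091 : act 5 n18647 = n18083 := d31_1 D18647 (iv D18083) D18082
def n18648 : Q := act 8 n18083
theorem D18648 : act 8 n18083 = n18648 := rfl
theorem F73092 : act 0 n18648 = n18305 := d7_1 D18648 (iv D18305) (iv F70925)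
theorem F73093 : act 1 n18648 = n18307 := d14_1 D18648 F71695 (iv F70926)
theorem F73094 : act 3 n18648 = n18575 := d25_1 D18648 F72816 (iv F70927)
theorem F73095 : act 4 n18648 = n18125 := d29_1 D18648 (iv D18125) (iv F70928)
theorem F73096 : act 6 n18648 = n18112 := d34_1 D18648 (iv D18112) (iv F70929)
def n18649 : Q := act 6 n18085
theorem D18649 : act 6 n18085 = n18649 := rfl
theorem F73097 : act 0 n18649 = n18216 := d5_1 D18649 (iv D18216) (iv F70933)
theorem F73098 : act 2 n18649 = n18209 := d18_1 D18649 (iv D18209) (iv F70934)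
theorem F73099 : act 4 n18649 = n18087 := d27_1 D18649 (iv D18087) (iv F70935)
theorem F73100 : act 7 n18649 = n18088 := d33_2 (iv F70936) D18649 (iv D18088)
def n18650 : Q := act 6 n18086
theorem D18650 : act 6 n18086 = n18650 := rfl
theorem F73101 : act 0 n18650 = n18217 := d5_1 D18650 (iv D18217) (iv F70937)
theorem F73102 : act 2 n18650 = n18210 := d18_1 D18650 (iv D18210) (iv F70938)
theorem F73103 : act 5 n18650 = n18120 := d30_1 D18650 (iv D18120) (iv D17504) (iv F68711) D18086
theorem F73104 : act 7 n18650 = n18255 := d33_2 (iv F70939) D18650 (iv D18255)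
theorem F73105 : act 8 n18650 = n18087 := d34_2 (iv F70940) D18650 (iv D18087)
def n18651 : Q := act 4 n18089
theorem D18651 : act 4 n18089 = n18651 := rfl
theorem F73106 : act 0 n18651 = n18102 := d3_1 D18651 (iv D18102) (iv F70949)
theorem F73107 : act 2 n18651 = n18090 := d16_1 D18651 (iv D18090) D18089
theorem F73108 : act 6 n18651 = n18292 := d27_2 (iv F70952) D18651 (iv D18292)
theorem F73109 : act 7 n18651 = n18372 := d28_2 (iv F70953) D18651 (iv D18372)
theorem F73110 : act 8 n18651 = n18091 := d29_2 (iv F70954) D18651 (iv D18091)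
def n18652 : Q := act 5 n18090
theorem D18652 : act 5 n18090 = n18652 := rfl
theorem F73111 : act 0 n18652 = n18103 := d4_1 D18652 (iv D18103) (iv F70955)
theorem F73112 : act 1 n18652 = n18226 := d11_1 D18652 (iv D18226) (iv F70956)
theorem F73113 : act 3 n18652 = n18468 := d22_1 D18652 (iv D18468) (iv F70957)
theorem F73114 : act 4 n18652 = n18495 := d26_1 D18652 (iv D18495) (iv D17916) (iv F68728) D18090
theorem F73115 : act 8 n18652 = n18092 := d32_2 (iv F70959) D18652 (iv D18092)
def n18653 : Q := act 3 n18091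
theorem D18653 : act 3 n18091 = n18653 := rfl
theorem F73116 : act 0 n18653 = n18104 := d2_1 D18653 (iv D18104) (iv F70960)
theorem F73117 : act 2 n18653 = n18642 := d15_1 D18653 (iv D18642) F70906 (iv F68737) (iv F70961)
theorem F73118 : act 4 n18653 = n18653 := d21_2 D18091 D18653 (iv D18653) (iv D18091) F68732
theorem F73119 : act 6 n18653 = n18295 := d23_2 (iv F70962) D18653 (iv D18295)
def n18654 : Q := act 5 n18091
theorem D18654 : act 5 n18091 = n18654 := rfl
theorem F73120 : act 0 n18654 = n18105 := d4_1 D18654 (iv D18105) (iv F70960)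
theorem F73121 : act 2 n18654 = n18092 := d17_1 D18654 (iv D18092) (iv F70961)
theorem F73122 : act 7 n18654 = n18093 := d31_2 (iv F70963) D18654 (iv D18093)
def n18655 : Q := act 6 n18092
theorem D18655 : act 6 n18092 = n18655 := rfl
theorem F73123 : act 0 n18655 = n18106 := d5_1 D18655 (iv D18106) (iv F70964)
theorem F73124 : act 1 n18655 = n18229 := d12_1 D18655 (iv D18229) (iv F70965)
theorem F73125 : act 3 n18655 = n18644 := d23_1 D18655 (iv D18644) (iv F70966)
theorem F73126 : act 5 n18655 = n18297 := d30_1 D18655 (iv D18297) (iv D17697) (iv F68738) D18092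
theorem F73127 : act 7 n18655 = n18094 := d33_2 (iv F70967) D18655 (iv D18094)
def n18656 : Q := act 6 n18093
theorem D18656 : act 6 n18093 = n18656 := rfl
theorem F73128 : act 0 n18656 = n18109 := d5_1 D18656 (iv D18109) (iv F70968)
theorem F73129 : act 2 n18656 = n18094 := d18_1 D18656 (iv D18094) (iv F70969)
theorem F73130 : act 5 n18656 = n18301 := d30_1 D18656 (iv D18301) (iv D17700) (iv F68742) D18093
theorem F73131 : act 8 n18656 = n18387 := d34_2 (iv F70970) D18656 (iv D18387)
def n18657 : Q := act 4 n18096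
theorem D18657 : act 4 n18096 = n18657 := rfl
theorem F73132 : act 0 n18657 = n18498 := d3_1 D18657 (iv D18498) (iv F70979)
theorem F73133 : act 1 n18657 = n18543 := d10_1 D18657 (iv D18543) (iv F70980)
theorem F73134 : act 2 n18657 = n18097 := d16_1 D18657 (iv D18097) D18096
theorem F73135 : act 7 n18657 = n18366 := d28_2 (iv F70983) D18657 F71887
theorem F73136 : act 8 n18657 = n18423 := d29_2 (iv F70984) D18657 (iv D18423)
def n18658 : Q := act 5 n18097
theorem D18658 : act 5 n18097 = n18658 := rfl
theorem F73137 : act 0 n18658 = n18499 := d4_1 D18658 (iv D18499) (iv F70985)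
theorem F73138 : act 1 n18658 = n18113 := d11_1 D18658 (iv D18113) (iv F70986)
theorem F73139 : act 3 n18658 = n18101 := d22_1 D18658 (iv D18101) (iv F70987)
theorem F73140 : act 4 n18658 = n18426 := d26_1 D18658 (iv D18426) (iv D17832) (iv F68756) D18097
theorem F73141 : act 7 n18658 = n18450 := d31_2 (iv F70988) D18658 (iv D18450)
theorem F73142 : act 8 n18658 = n18424 := d32_2 (iv F70989) D18658 (iv D18424)
def n18659 : Q := act 4 n18098
theorem D18659 : act 4 n18098 = n18659 := rfl
theorem F73143 : act 0 n18659 = n18494 := d3_1 D18659 (iv D18494) (iv F70990)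
theorem F73144 : act 1 n18659 = n18350 := d10_1 D18659 (iv D18350) (iv F70991)
theorem F73145 : act 2 n18659 = n18099 := d16_1 D18659 (iv D18099) D18098
theorem F73146 : act 6 n18659 = n18657 := d27_2 (iv F70994) D18659 (iv D18657)
theorem F73147 : act 7 n18659 = n18365 := d28_2 (iv F70995) D18659 (iv D18365)
theorem F73148 : act 8 n18659 = n18100 := d29_2 (iv F70996) D18659 (iv D18100)
def n18660 : Q := act 5 n18099
theorem D18660 : act 5 n18099 = n18660 := rfl
theorem F73149 : act 0 n18660 = n18495 := d4_1 D18660 (iv D18495) (iv F70997)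
theorem F73150 : act 1 n18660 = n18115 := d11_1 D18660 (iv D18115) (iv F70998)
theorem F73151 : act 3 n18660 = n18424 := d22_1 D18660 (iv D18424) (iv F70999)
theorem F73152 : act 4 n18660 = n18103 := d26_1 D18660 (iv D18103) (iv D17488) (iv F68761) D18099
theorem F73153 : act 7 n18660 = n18634 := d31_2 (iv F71001) D18660 (iv D18634)
theorem F73154 : act 8 n18660 = n18101 := d32_2 (iv F71002) D18660 (iv D18101)
def n18661 : Q := act 3 n18100
theorem D18661 : act 3 n18100 = n18661 := rfl
theorem F73155 : act 1 n18661 = n18352 := d9_1 D18661 (iv D18352) (iv F71003)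
theorem F73156 : act 4 n18661 = n18661 := d21_2 D18100 D18661 (iv D18661) (iv D18100) F68766
def n18662 : Q := act 5 n18100
theorem D18662 : act 5 n18100 = n18662 := rfl
theorem F73157 : act 1 n18662 = n18353 := d11_1 D18662 (iv D18353) (iv F71003)
theorem F73158 : act 2 n18662 = n18101 := d17_1 D18662 (iv D18101) (iv F71004)
theorem F73159 : act 4 n18662 = n18105 := d26_1 D18662 (iv D18105) (iv D17489) (iv F68767) D18100
theorem F73160 : act 7 n18662 = n18107 := d31_2 (iv F71005) D18662 (iv D18107)
def n18663 : Q := act 6 n18101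
theorem D18663 : act 6 n18101 = n18663 := rfl
theorem F73161 : act 1 n18663 = n18117 := d12_1 D18663 (iv D18117) (iv F71006)
theorem F73162 : act 4 n18663 = n18106 := d27_1 D18663 (iv D18106) (iv F71007)
theorem F73163 : act 7 n18663 = n18108 := d33_2 (iv F71008) D18663 (iv D18108)
def n18664 : Q := act 3 n18102
theorem D18664 : act 3 n18102 = n18664 := rfl
theorem F73164 : act 1 n18664 = n18355 := d9_1 D18664 (iv D18355) (iv F71009)
theorem F73165 : act 4 n18664 = n18664 := d21_2 D18102 D18664 (iv D18664) (iv D18102) F68772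
theorem F73166 : act 8 n18664 = n18104 := d25_2 (iv F71012) D18664 (iv D18104)
def n18665 : Q := act 5 n18102
theorem D18665 : act 5 n18102 = n18665 := rfl
theorem F73167 : act 1 n18665 = n18356 := d11_1 D18665 (iv D18356) (iv F71009)
theorem F73168 : act 2 n18665 = n18103 := d17_1 D18665 (iv D18103) (iv F71010)
theorem F73169 : act 7 n18665 = n18374 := d31_2 (iv F71011) D18665 (iv D18374)
theorem F73170 : act 8 n18665 = n18105 := d32_2 (iv F71012) D18665 (iv D18105)
def n18666 : Q := act 6 n18103
theorem D18666 : act 6 n18103 = n18666 := rfl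
theorem F73171 : act 1 n18666 = n18120 := d12_1 D18666 (iv D18120) (iv F71013)
theorem F73172 : act 8 n18666 = n18106 := d34_2 (iv F71014) D18666 (iv D18106)
def n18667 : Q := act 5 n18104
theorem D18667 : act 5 n18104 = n18667 := rfl
theorem F73173 : act 1 n18667 = n18358 := d11_1 D18667 (iv D18358) (iv F71015)
theorem F73174 : act 3 n18667 = n18105 := d22_1 D18667 (iv D18105) D18104
def n18668 : Q := act 6 n18105
theorem D18668 : act 6 n18105 = n18668 := rfl
theorem F73175 : act 1 n18668 = n18359 := d12_1 D18668 (iv D18359) (iv F71017)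
theorem F73176 : act 2 n18668 = n18106 := d18_1 D18668 (iv D18106) (iv F71018)
theorem F73177 : act 7 n18668 = n18109 := d33_2 (iv F71019) D18668 (iv D18109)
def n18669 : Q := act 6 n18107
theorem D18669 : act 6 n18107 = n18669 := rfl
theorem F73178 : act 1 n18669 = n18360 := d12_1 D18669 (iv D18360) (iv F71022)
theorem F73179 : act 2 n18669 = n18108 := d18_1 D18669 (iv D18108) (iv F71023)
theorem F73180 : act 4 n18669 = n18109 := d27_1 D18669 (iv D18109) (iv F71024)
theorem F73181 : act 8 n18669 = n18384 := d34_2 (iv F71025) D18669 (iv D18384)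
def n18670 : Q := act 7 n18110
theorem D18670 : act 7 n18110 = n18670 := rfl
theorem F73182 : act 6 n18670 = n18111 := d33_1 D18670 (iv D18111) D18110
def n18671 : Q := act 8 n18111
theorem D18671 : act 8 n18111 = n18671 := rfl
theorem F73183 : act 5 n18671 = n18112 := d32_1 D18671 (iv D18112) (iv F71032)
def n18672 : Q := act 6 n18113
theorem D18672 : act 6 n18113 = n18672 := rfl
theorem F73184 : act 0 n18672 = n18251 := d5_1 D18672 (iv D18251) (iv F71034)
theorem F73185 : act 3 n18672 = n18117 := d23_1 D18672 (iv D18117) (iv F71035)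
def n18673 : Q := act 6 n18114
theorem D18673 : act 6 n18114 = n18673 := rfl
theorem F73186 : act 0 n18673 = n18252 := d5_1 D18673 (iv D18252) (iv F71036)
theorem F73187 : act 5 n18673 = n18117 := d30_1 D18673 (iv D18117) (iv D17502) (iv F68798) D18114
theorem F73188 : act 7 n18673 = n18123 := d33_2 (iv F71037) D18673 (iv D18123)
theorem F73189 : act 8 n18673 = n18672 := d34_2 (iv F71038) D18673 (iv D18672)
def n18674 : Q := act 6 n18115
theorem D18674 : act 6 n18115 = n18674 := rfl
theorem F73190 : act 0 n18674 = n18253 := d5_1 D18674 (iv D18253) (iv F71039)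
theorem F73191 : act 3 n18674 = n18673 := d23_1 D18674 (iv D18673) (iv F71040)
theorem F73192 : act 4 n18674 = n18120 := d27_1 D18674 (iv D18120) (iv F71041)
theorem F73193 : act 5 n18674 = n18672 := d30_1 D18674 (iv D18672) (iv D18113) (iv F68803) D18115
theorem F73194 : act 8 n18674 = n18117 := d34_2 (iv F71042) D18674 (iv D18117)
def n18675 : Q := act 6 n18116
theorem D18675 : act 6 n18116 = n18675 := rfl
theorem F73195 : act 0 n18675 = n18254 := d5_1 D18675 (iv D18254) (iv F71043)
theorem F73196 : act 1 n18675 = n18354 := d12_1 D18675 (iv D18354) (iv F71044)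
theorem F73197 : act 2 n18675 = n18117 := d18_1 D18675 (iv D18117) (iv F71045)
theorem F73198 : act 3 n18675 = n18601 := d23_1 D18675 (iv D18601) (iv F71046)
theorem F73199 : act 4 n18675 = n18122 := d27_1 D18675 (iv D18122) (iv F71047)
theorem F73200 : act 7 n18675 = n18124 := d33_2 (iv F71048) D18675 (iv D18124)
def n18676 : Q := act 5 n18118
theorem D18676 : act 5 n18118 = n18676 := rfl
theorem F73201 : act 0 n18676 = n18156 := d4_1 D18676 (iv D18156) (iv F71052)
theorem F73202 : act 1 n18676 = n18332 := d11_1 D18676 (iv D18332) (iv F71053)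
theorem F73203 : act 3 n18676 = n18119 := d22_1 D18676 (iv D18119) D18118
theorem F73204 : act 4 n18676 = n18148 := d26_1 D18676 (iv D18148) (iv D17543) (iv F68848) (iv F71054)
theorem F73205 : act 8 n18676 = n18121 := d32_2 (iv F71056) D18676 (iv D18121)
def n18677 : Q := act 6 n18119
theorem D18677 : act 6 n18119 = n18677 := rfl
theorem F73206 : act 0 n18677 = n18255 := d5_1 D18677 (iv D18255) (iv F71057)
theorem F73207 : act 1 n18677 = n18357 := d12_1 D18677 (iv D18357) (iv F71058)
theorem F73208 : act 2 n18677 = n18120 := d18_1 D18677 (iv D18120) (iv F71059)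
theorem F73209 : act 5 n18677 = n18210 := d30_1 D18677 (iv D18210) (iv D17598) (iv F68816) D18119
theorem F73210 : act 7 n18677 = n18217 := d33_2 (iv F71060) D18677 (iv D18217)
theorem F73211 : act 8 n18677 = n18122 := d34_2 (iv F71061) D18677 (iv D18122)
def n18678 : Q := act 6 n18121
theorem D18678 : act 6 n18121 = n18678 := rfl
theorem F73212 : act 0 n18678 = n18257 := d5_1 D18678 (iv D18257) (iv F71064)
theorem F73213 : act 1 n18678 = n18337 := d12_1 D18678 (iv D18337) (iv F71065)
theorem F73214 : act 3 n18678 = n18122 := d23_1 D18678 (iv D18122) (iv F71066)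
theorem F73215 : act 4 n18678 = n18605 := d27_1 D18678 (iv D18605) (iv F71067)
theorem F73216 : act 5 n18678 = n18173 := d30_1 D18678 (iv D18173) (iv D17562) (iv F68824) D18121
theorem F73217 : act 7 n18678 = n18146 := d33_2 (iv F71068) D18678 (iv D18146)
def n18679 : Q := act 6 n18127
theorem D18679 : act 6 n18127 = n18679 := rfl
theorem F73218 : act 0 n18679 = n18536 := d5_1 D18679 (iv D18536) (iv F71090)
theorem F73219 : act 2 n18679 = n18128 := d18_1 D18679 (iv D18128) (iv F71091)
theorem F73220 : act 3 n18679 = n18183 := d23_1 D18679 (iv D18183) (iv F71092)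
theorem F73221 : act 5 n18679 = n18456 := d30_1 D18679 (iv D18456) (iv D17868) (iv F68871) D18127
theorem F73222 : act 7 n18679 = n18440 := d33_2 (iv F71093) D18679 (iv D18440)
theorem F73223 : act 8 n18679 = n18479 := d34_2 (iv F71094) D18679 (iv D18479)
def n18680 : Q := act 3 n18129
theorem D18680 : act 3 n18129 = n18680 := rfl
theorem F73224 : act 4 n18680 = n18680 := d21_2 D18129 D18680 (iv D18680) (iv D18129) F68885
theorem F73225 : act 8 n18680 = n18638 := d25_2 (iv F71102) D18680 (iv D18638)
def n18681 : Q := act 5 n18129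
theorem D18681 : act 5 n18129 = n18681 := rfl
theorem F73226 : act 2 n18681 = n18130 := d17_1 D18681 (iv D18130) (iv F71100)
theorem F73227 : act 4 n18681 = n18134 := d26_1 D18681 (iv D18134) (iv D17525) (iv F68886) D18129
theorem F73228 : act 7 n18681 = n18136 := d31_2 (iv F71101) D18681 (iv D18136)
theorem F73229 : act 8 n18681 = n18639 := d32_2 (iv F71102) D18681 (iv D18639)
def n18682 : Q := act 6 n18130
theorem D18682 : act 6 n18130 = n18682 := rfl
theorem F73230 : act 1 n18682 = n18141 := d12_1 D18682 (iv D18141) (iv F71103)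
theorem F73231 : act 4 n18682 = n18135 := d27_1 D18682 (iv D18135) (iv F71104)
theorem F73232 : act 7 n18682 = n18137 := d33_2 (iv F71105) D18682 (iv D18137)
theorem F73233 : act 8 n18682 = n18640 := d34_2 (iv F71106) D18682 (iv D18640)
def n18683 : Q := act 3 n18131
theorem D18683 : act 3 n18131 = n18683 := rfl
theorem F73234 : act 0 n18683 = n18680 := d2_1 D18683 (iv D18680) (iv F71107)
theorem F73235 : act 1 n18683 = n18608 := d9_1 D18683 (iv D18608) (iv F71108)
theorem F73236 : act 2 n18683 = n18560 := d15_1 D18683 (iv D18560) F70570 (iv F68901) (iv F71109)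
theorem F73237 : act 4 n18683 = n18683 := d21_2 D18131 D18683 (iv D18683) (iv D18131) F68894
theorem F73238 : act 6 n18683 = n18395 := d23_2 (iv F71110) D18683 (iv D18395)
theorem F73239 : act 7 n18683 = n18501 := d24_2 (iv F71111) D18683 (iv D18501) F70322 (iv F69828)
theorem F73240 : act 8 n18683 = n18133 := d25_2 (iv F71112) D18683 (iv D18133)
def n18684 : Q := act 5 n18131
theorem D18684 : act 5 n18131 = n18684 := rfl
theorem F73241 : act 0 n18684 = n18681 := d4_1 D18684 (iv D18681) (iv F71107)
theorem F73242 : act 1 n18684 = n18609 := d11_1 D18684 (iv D18609) (iv F71108)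
theorem F73243 : act 2 n18684 = n18132 := d17_1 D18684 (iv D18132) (iv F71109)
theorem F73244 : act 4 n18684 = n18639 := d26_1 D18684 (iv D18639) (iv D18074) (iv F68895) D18131
theorem F73245 : act 7 n18684 = n18410 := d31_2 (iv F71111) D18684 (iv D18410)
theorem F73246 : act 8 n18684 = n18134 := d32_2 (iv F71112) D18684 (iv D18134)
def n18685 : Q := act 6 n18132
theorem D18685 : act 6 n18132 = n18685 := rfl
theorem F73247 : act 0 n18685 = n18682 := d5_1 D18685 (iv D18682) (iv F71113)
theorem F73248 : act 1 n18685 = n18142 := d12_1 D18685 (iv D18142) (iv F71114)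
theorem F73249 : act 3 n18685 = n18562 := d23_1 D18685 (iv D18562) (iv F71115)
theorem F73250 : act 4 n18685 = n18640 := d27_1 D18685 (iv D18640) (iv F71116)
theorem F73251 : act 5 n18685 = n18397 := d30_1 D18685 (iv D18397) (iv D17802) (iv F68902) D18132
theorem F73252 : act 7 n18685 = n18411 := d33_2 (iv F71117) D18685 (iv D18411)
theorem F73253 : act 8 n18685 = n18135 := d34_2 (iv F71118) D18685 (iv D18135)
def n18686 : Q := act 5 n18133
theorem D18686 : act 5 n18133 = n18686 := rfl
theorem F73254 : act 2 n18686 = n18565 := d17_1 D18686 (iv D18565) (iv F71119)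
theorem F73255 : act 3 n18686 = n18134 := d22_1 D18686 (iv D18134) D18133
def n18687 : Q := act 6 n18134
theorem D18687 : act 6 n18134 = n18687 := rfl
theorem F73256 : act 2 n18687 = n18135 := d18_1 D18687 (iv D18135) (iv F71121)
theorem F73257 : act 7 n18687 = n18138 := d33_2 (iv F71122) D18687 (iv D18138)
def n18688 : Q := act 6 n18136
theorem D18688 : act 6 n18136 = n18688 := rfl
theorem F73258 : act 2 n18688 = n18137 := d18_1 D18688 (iv D18137) (iv F71126)
theorem F73259 : act 4 n18688 = n18138 := d27_1 D18688 (iv D18138) (iv F71127)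
def n18689 : Q := act 6 n18139
theorem D18689 : act 6 n18139 = n18689 := rfl
theorem F73260 : act 2 n18689 = n18672 := d18_1 D18689 (iv D18672) (iv F71132)
theorem F73261 : act 3 n18689 = n18141 := d23_1 D18689 (iv D18141) (iv F71133)
theorem F73262 : act 4 n18689 = n18573 := d27_1 D18689 (iv D18573) (iv F71134)
theorem F73263 : act 7 n18689 = n18362 := d33_2 (iv F71135) D18689 (iv D18362)
def n18690 : Q := act 6 n18140
theorem D18690 : act 6 n18140 = n18690 := rfl
theorem F73264 : act 0 n18690 = n18461 := d5_1 D18690 (iv D18461) (iv F71136)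
theorem F73265 : act 1 n18690 = n18640 := d12_1 D18690 (iv D18640) (iv F71137)
theorem F73266 : act 2 n18690 = n18464 := d18_1 D18690 (iv D18464) (iv F71138)
theorem F73267 : act 4 n18690 = n18142 := d27_1 D18690 (iv D18142) (iv F71139)
theorem F73268 : act 5 n18690 = n18601 := d30_1 D18690 (iv D18601) (iv D18031) (iv F68923) D18140
theorem F73269 : act 7 n18690 = n18409 := d33_2 (iv F71140) D18690 (iv D18409)
theorem F73270 : act 8 n18690 = n18141 := d34_2 (iv F71141) D18690 (iv D18141)
def n18691 : Q := act 4 n18143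
theorem D18691 : act 4 n18143 = n18691 := rfl
theorem F73271 : act 0 n18691 = n18144 := d3_1 D18691 (iv D18144) D18143
theorem F73272 : act 1 n18691 = n18586 := d10_1 D18691 F72849 (iv F71149)
theorem F73273 : act 2 n18691 = n18345 := d16_1 D18691 (iv D18345) (iv F71150)
theorem F73274 : act 3 n18691 = n18454 := d21_1 D18691 (iv D18454) F70076 (iv F68951) (iv F71151)
theorem F73275 : act 6 n18691 = n18181 := d27_2 (iv F71153) D18691 (iv D18181)
def n18692 : Q := act 5 n18144
theorem D18692 : act 5 n18144 = n18692 := rfl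
theorem F73276 : act 1 n18692 = n18145 := d11_1 D18692 (iv D18145) (iv F71154)
theorem F73277 : act 2 n18692 = n18346 := d17_1 D18692 (iv D18346) (iv F71155)
theorem F73278 : act 3 n18692 = n18455 := d22_1 D18692 (iv D18455) (iv F71156)
theorem F73279 : act 4 n18692 = n18380 := d26_1 D18692 (iv D18380) F69689 (iv F68938) D18144
def n18693 : Q := act 6 n18145
theorem D18693 : act 6 n18145 = n18693 := rfl
theorem F73280 : act 0 n18693 = n18591 := d5_1 D18693 (iv D18591) (iv F71158)
theorem F73281 : act 2 n18693 = n18146 := d18_1 D18693 (iv D18146) (iv F71159)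
theorem F73282 : act 3 n18693 = n18456 := d23_1 D18693 (iv D18456) (iv F71160)
theorem F73283 : act 4 n18693 = n18382 := d27_1 D18693 (iv D18382) (iv F71161)
theorem F73284 : act 5 n18693 = n18183 := d30_1 D18693 (iv D18183) (iv D17570) (iv F68943) D18145
def n18694 : Q := act 5 n18147
theorem D18694 : act 5 n18147 = n18694 := rfl
theorem F73285 : act 0 n18694 = n18155 := d4_1 D18694 (iv D18155) (iv F71165)
theorem F73286 : act 3 n18694 = n18188 := d22_1 D18694 (iv D18188) (iv F71166)
theorem F73287 : act 7 n18694 = n18148 := d31_2 (iv F71168) D18694 (iv D18148)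
def n18695 : Q := act 6 n18148
theorem D18695 : act 6 n18148 = n18695 := rfl
theorem F73288 : act 0 n18695 = n18160 := d5_1 D18695 (iv D18160) (iv F71169)
theorem F73289 : act 3 n18695 = n18149 := d23_1 D18695 (iv D18149) (iv F71170)
theorem F73290 : act 5 n18695 = n18275 := d30_1 D18695 (iv D18275) (iv D17677) (iv F68960) D18148
theorem F73291 : act 8 n18695 = n18605 := d34_2 (iv F71171) D18695 (iv D18605)
def n18696 : Q := act 5 n18150
theorem D18696 : act 5 n18150 = n18696 := rfl
theorem F73292 : act 1 n18696 = n18166 := d11_1 D18696 (iv D18166) (iv F71177)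
theorem F73293 : act 4 n18696 = n18155 := d26_1 D18696 (iv D18155) (iv D17548) (iv F68967) D18150
theorem F73294 : act 7 n18696 = n18156 := d31_2 (iv F71179) D18696 (iv D18156)
theorem F73295 : act 8 n18696 = n18694 := d32_2 (iv F71180) D18696 (iv D18694)
def n18697 : Q := act 1 n18151
theorem D18697 : act 1 n18151 = n18697 := rfl
theorem F73296 : act 2 n18697 = n18167 := d8_2 D18151 D18697 (iv D18167) (iv D17558) (iv F68972)
theorem F73297 : act 3 n18697 = n18697 := d9_2 F71182 D18697 (iv D18697)
theorem F73298 : act 5 n18697 = n18596 := d11_2 (iv F71183) D18697 F72881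
theorem F73299 : act 6 n18697 = n18330 := d12_2 (iv F71184) D18697 (iv D18330)
theorem F73300 : act 7 n18697 = n18324 := d13_2 (iv F71185) D18697 F71752
theorem F73301 : act 8 n18697 = n18153 := d14_2 (iv F71186) D18697 (iv D18153)
def n18698 : Q := act 4 n18151
theorem D18698 : act 4 n18151 = n18698 := rfl
theorem F73302 : act 0 n18698 = n18376 := d3_1 D18698 F71922 (iv F71181)
theorem F73303 : act 2 n18698 = n18152 := d16_1 D18698 (iv D18152) D18151
theorem F73304 : act 6 n18698 = n18331 := d27_2 (iv F71184) D18698 (iv D18331)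
theorem F73305 : act 7 n18698 = n18313 := d28_2 (iv F71185) D18698 F71715
theorem F73306 : act 8 n18698 = n18154 := d29_2 (iv F71186) D18698 (iv D18154)
def n18699 : Q := act 5 n18152
theorem D18699 : act 5 n18152 = n18699 := rfl
theorem F73307 : act 0 n18699 = n18696 := d4_1 D18699 (iv D18696) (iv F71187)
theorem F73308 : act 1 n18699 = n18169 := d11_1 D18699 (iv D18169) (iv F71188)
theorem F73309 : act 3 n18699 = n18198 := d22_1 D18699 (iv D18198) (iv F71189)
theorem F73310 : act 4 n18699 = n18694 := d26_1 D18699 (iv D18694) (iv D18147) (iv F68973) D18152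
theorem F73311 : act 7 n18699 = n18676 := d31_2 (iv F71191) D18699 (iv D18676)
theorem F73312 : act 8 n18699 = n18155 := d32_2 (iv F71192) D18699 (iv D18155)
def n18700 : Q := act 0 n18153
theorem D18700 : act 0 n18153 = n18700 := rfl
theorem F73313 : act 2 n18700 = n18170 := d1_2 (iv F71193) D18700 (iv D18170)
theorem F73314 : act 3 n18700 = n18700 := d2_2 F71194 D18700 (iv D18700)
theorem F73315 : act 6 n18700 = n18333 := d5_2 (iv F71195) D18700 (iv D18333)
theorem F73316 : act 7 n18700 = n18157 := d6_2 (iv F71196) D18700 (iv D18157)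
def n18701 : Q := act 4 n18153
theorem D18701 : act 4 n18153 = n18701 := rfl
theorem F73317 : act 1 n18701 = n18154 := d10_1 D18701 (iv D18154) D18153
theorem F73318 : act 2 n18701 = n18171 := d16_1 D18701 (iv D18171) (iv F71193)
theorem F73319 : act 6 n18701 = n18334 := d27_2 (iv F71195) D18701 (iv D18334)
theorem F73320 : act 7 n18701 = n18158 := d28_2 (iv F71196) D18701 (iv D18158)
def n18702 : Q := act 3 n18154
theorem D18702 : act 3 n18154 = n18702 := rfl
theorem F73321 : act 2 n18702 = n18199 := d15_1 D18702 (iv D18199) F69102 (iv F68981) (iv F71197)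
theorem F73322 : act 4 n18702 = n18702 := d21_2 D18154 D18702 (iv D18702) (iv D18154) F68977
theorem F73323 : act 6 n18702 = n18335 := d23_2 (iv F71198) D18702 (iv D18335)
def n18703 : Q := act 5 n18154
theorem D18703 : act 5 n18154 = n18703 := rfl
theorem F73324 : act 2 n18703 = n18155 := d17_1 D18703 (iv D18155) (iv F71197)
theorem F73325 : act 7 n18703 = n18159 := d31_2 (iv F71199) D18703 (iv D18159)
def n18704 : Q := act 6 n18155
theorem D18704 : act 6 n18155 = n18704 := rfl
theorem F73326 : act 1 n18704 = n18173 := d12_1 D18704 (iv D18173) (iv F71200)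
theorem F73327 : act 3 n18704 = n18201 := d23_1 D18704 (iv D18201) (iv F71201)
theorem F73328 : act 5 n18704 = n18337 := d30_1 D18704 (iv D18337) (iv D17737) (iv F68982) D18155
theorem F73329 : act 7 n18704 = n18160 := d33_2 (iv F71202) D18704 (iv D18160)
def n18705 : Q := act 6 n18156
theorem D18705 : act 6 n18156 = n18705 := rfl
theorem F73330 : act 1 n18705 = n18180 := d12_1 D18705 (iv D18180) (iv F71203)
theorem F73331 : act 3 n18705 = n18255 := d23_1 D18705 (iv D18255) (iv F71204)
theorem F73332 : act 4 n18705 = n18160 := d27_1 D18705 (iv D18160) (iv F71205)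
theorem F73333 : act 8 n18705 = n18257 := d34_2 (iv F71206) D18705 (iv D18257)
def n18706 : Q := act 4 n18157
theorem D18706 : act 4 n18157 = n18706 := rfl
theorem F73334 : act 0 n18706 = n18158 := d3_1 D18706 (iv D18158) D18157
theorem F73335 : act 2 n18706 = n18181 := d16_1 D18706 (iv D18181) (iv F71207)
theorem F73336 : act 6 n18706 = n18345 := d27_2 (iv F71209) D18706 (iv D18345)
theorem F73337 : act 8 n18706 = n18691 := d29_2 (iv F71210) D18706 (iv D18691)
def n18707 : Q := act 5 n18158
theorem D18707 : act 5 n18158 = n18707 := rfl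
theorem F73338 : act 1 n18707 = n18159 := d11_1 D18707 (iv D18159) (iv F71211)
theorem F73339 : act 2 n18707 = n18182 := d17_1 D18707 (iv D18182) (iv F71212)
theorem F73340 : act 8 n18707 = n18692 := d32_2 (iv F71214) D18707 (iv D18692)
def n18708 : Q := act 6 n18159
theorem D18708 : act 6 n18159 = n18708 := rfl
theorem F73341 : act 2 n18708 = n18160 := d18_1 D18708 (iv D18160) (iv F71215)
theorem F73342 : act 5 n18708 = n18347 := d30_1 D18708 (iv D18347) (iv D17745) (iv F68992) D18159
theorem F73343 : act 8 n18708 = n18693 := d34_2 (iv F71216) D18708 (iv D18693)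
def n18709 : Q := act 5 n18161
theorem D18709 : act 5 n18161 = n18709 := rfl
theorem F73344 : act 0 n18709 = n18473 := d4_1 D18709 (iv D18473) (iv F71221)
theorem F73345 : act 3 n18709 = n18166 := d22_1 D18709 (iv D18166) (iv F71222)
theorem F73346 : act 4 n18709 = n18206 := d26_1 D18709 (iv D18206) (iv D17594) (iv F69002) D18161
theorem F73347 : act 7 n18709 = n18652 := d31_2 (iv F71224) D18709 (iv D18652)
theorem F73348 : act 8 n18709 = n18529 := d32_2 (iv F71225) D18709 (iv D18529)
def n18710 : Q := act 1 n18162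
theorem D18710 : act 1 n18162 = n18710 := rfl
theorem F73349 : act 2 n18710 = n18596 := d8_2 D18162 D18710 F72881 F70679 (iv F69007)
theorem F73350 : act 3 n18710 = n18258 := d9_2 (iv F71227) D18710 (iv D18258)
theorem F73351 : act 5 n18710 = n18167 := d11_2 (iv F71228) D18710 (iv D18167)
theorem F73352 : act 6 n18710 = n18269 := d12_2 (iv F71229) D18710 (iv D18269)
theorem F73353 : act 7 n18710 = n18595 := d13_2 (iv F71230) D18710 F72876
theorem F73354 : act 8 n18710 = n18164 := d14_2 (iv F71231) D18710 (iv D18164)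
def n18711 : Q := act 4 n18162
theorem D18711 : act 4 n18162 = n18711 := rfl
theorem F73355 : act 0 n18711 = n18338 := d3_1 D18711 (iv D18338) (iv F71226)
theorem F73356 : act 2 n18711 = n18163 := d16_1 D18711 (iv D18163) D18162
theorem F73357 : act 6 n18711 = n18270 := d27_2 (iv F71229) D18711 (iv D18270)
theorem F73358 : act 7 n18711 = n18606 := d28_2 (iv F71230) D18711 (iv D18606)
theorem F73359 : act 8 n18711 = n18165 := d29_2 (iv F71231) D18711 (iv D18165)
def n18712 : Q := act 5 n18163
theorem D18712 : act 5 n18163 = n18712 := rfl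
theorem F73360 : act 0 n18712 = n18339 := d4_1 D18712 (iv D18339) (iv F71232)
theorem F73361 : act 1 n18712 = n18694 := d11_1 D18712 (iv D18694) (iv F71233)
theorem F73362 : act 3 n18712 = n18529 := d22_1 D18712 (iv D18529) (iv F71234)
theorem F73363 : act 4 n18712 = n18169 := d26_1 D18712 (iv D18169) (iv D17559) (iv F69008) D18163
theorem F73364 : act 7 n18712 = n18607 := d31_2 (iv F71236) D18712 (iv D18607)
theorem F73365 : act 8 n18712 = n18166 := d32_2 (iv F71237) D18712 (iv D18166)
def n18713 : Q := act 4 n18164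
theorem D18713 : act 4 n18164 = n18713 := rfl
theorem F73366 : act 1 n18713 = n18165 := d10_1 D18713 (iv D18165) D18164
theorem F73367 : act 6 n18713 = n18623 := d27_2 (iv F71240) D18713 (iv D18623)
theorem F73368 : act 7 n18713 = n18177 := d28_2 (iv F71241) D18713 (iv D18177)
def n18714 : Q := act 3 n18165
theorem D18714 : act 3 n18165 = n18714 := rfl
theorem F73369 : act 0 n18714 = n18177 := d2_1 D18714 F71273 F71262
theorem F73370 : act 4 n18714 = n18176 := d21_2 D18165 D18714 F71269 F69045 (iv F69012)
theorem F73371 : act 6 n18714 = n18624 := d23_2 (iv F71243) D18714 (iv D18624)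
def n18715 : Q := act 5 n18165
theorem D18715 : act 5 n18165 = n18715 := rfl
theorem F73372 : act 2 n18715 = n18166 := d17_1 D18715 (iv D18166) (iv F71242)
theorem F73373 : act 4 n18715 = n18172 := d26_1 D18715 (iv D18172) (iv D17561) (iv F69013) D18165
theorem F73374 : act 7 n18715 = n18179 := d31_2 (iv F71244) D18715 (iv D18179)
def n18716 : Q := act 6 n18166
theorem D18716 : act 6 n18166 = n18716 := rfl
theorem F73375 : act 4 n18716 = n18173 := d27_1 D18716 (iv D18173) (iv F71245)
theorem F73376 : act 5 n18716 = n18626 := d30_1 D18716 (iv D18626) (iv D18052) (iv F69016) D18166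
theorem F73377 : act 7 n18716 = n18180 := d33_2 (iv F71246) D18716 (iv D18180)
def n18717 : Q := act 0 n18167
theorem D18717 : act 0 n18167 = n18717 := rfl
theorem F73378 : act 1 n18717 = n18408 := d0_2 D18167 D18717 F72050 F70206 F69317
theorem F73379 : act 3 n18717 = n18259 := d2_2 (iv F71247) D18717 (iv D18259)
theorem F73380 : act 8 n18717 = n18170 := d7_2 (iv F71248) D18717 (iv D18170)
def n18718 : Q := act 4 n18167
theorem D18718 : act 4 n18167 = n18718 := rfl
theorem F73381 : act 1 n18718 = n18168 := d10_1 D18718 (iv D18168) D18167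
theorem F73382 : act 8 n18718 = n18171 := d29_2 (iv F71248) D18718 (iv D18171)
def n18719 : Q := act 5 n18168
theorem D18719 : act 5 n18168 = n18719 := rfl
theorem F73383 : act 2 n18719 = n18169 := d17_1 D18719 (iv D18169) (iv F71249)
theorem F73384 : act 8 n18719 = n18172 := d32_2 (iv F71250) D18719 (iv D18172)
def n18720 : Q := act 6 n18169
theorem D18720 : act 6 n18169 = n18720 := rfl
theorem F73385 : act 3 n18720 = n18210 := d23_1 D18720 (iv D18210) (iv F71251)
theorem F73386 : act 8 n18720 = n18173 := d34_2 (iv F71252) D18720 (iv D18173)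
def n18721 : Q := act 4 n18170
theorem D18721 : act 4 n18170 = n18721 := rfl
theorem F73387 : act 0 n18721 = n18171 := d3_1 D18721 (iv D18171) D18170
theorem F73388 : act 1 n18721 = n18531 := d10_1 D18721 F72647 (iv F71253)
theorem F73389 : act 3 n18721 = n18530 := d21_1 D18721 (iv D18530) F70443 (iv F69353) (iv F71254)
theorem F73390 : act 7 n18721 = n18181 := d28_2 (iv F71255) D18721 (iv D18181)
def n18722 : Q := act 5 n18171
theorem D18722 : act 5 n18171 = n18722 := rfl
theorem F73391 : act 1 n18722 = n18172 := d11_1 D18722 (iv D18172) (iv F71256)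
theorem F73392 : act 7 n18722 = n18182 := d31_2 (iv F71257) D18722 (iv D18182)
def n18723 : Q := act 6 n18172
theorem D18723 : act 6 n18172 = n18723 := rfl
theorem F73393 : act 2 n18723 = n18173 := d18_1 D18723 (iv D18173) (iv F71258)
theorem F73394 : act 7 n18723 = n18183 := d33_2 (iv F71259) D18723 (iv D18183)
def n18724 : Q := act 5 n18174
theorem D18724 : act 5 n18174 = n18724 := rfl
theorem F73395 : act 0 n18724 = n18715 := d4_1 D18724 (iv D18715) (iv F71262)
theorem F73396 : act 2 n18724 = n18175 := d17_1 D18724 (iv D18175) (iv F71263)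
theorem F73397 : act 4 n18724 = n18245 := d26_1 D18724 (iv D18245) F69250 (iv F69030) D18174
theorem F73398 : act 7 n18724 = n18625 := d31_2 (iv F71265) D18724 (iv D18625)
def n18725 : Q := act 6 n18175
theorem D18725 : act 6 n18175 = n18725 := rfl
theorem F73399 : act 0 n18725 = n18716 := d5_1 D18725 (iv D18716) (iv F71266)
theorem F73400 : act 4 n18725 = n18621 := d27_1 D18725 (iv D18621) (iv F71267)
theorem F73401 : act 5 n18725 = n18180 := d30_1 D18725 (iv D18180) (iv D17567) (iv F69034) D18175
theorem F73402 : act 7 n18725 = n18626 := d33_2 (iv F71268) D18725 (iv D18626)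
def n18726 : Q := act 5 n18177
theorem D18726 : act 5 n18177 = n18726 := rfl
theorem F73403 : act 1 n18726 = n18179 := d11_1 D18726 (iv D18179) (iv F71272)
theorem F73404 : act 3 n18726 = n18724 := d22_1 D18726 (iv D18724) (iv F71273)
theorem F73405 : act 4 n18726 = n18182 := d26_1 D18726 (iv D18182) (iv D17569) (iv F69037) D18177
def n18727 : Q := act 5 n18178
theorem D18727 : act 5 n18178 = n18727 := rfl
theorem F73406 : act 1 n18727 = n18724 := d11_1 D18727 (iv D18724) (iv F71274)
theorem F73407 : act 3 n18727 = n18179 := d22_1 D18727 (iv D18179) D18178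
def n18728 : Q := act 6 n18179
theorem D18728 : act 6 n18179 = n18728 := rfl
theorem F73408 : act 2 n18728 = n18180 := d18_1 D18728 (iv D18180) (iv F71277)
theorem F73409 : act 4 n18728 = n18183 := d27_1 D18728 (iv D18183) (iv F71278)
def n18729 : Q := act 5 n18181
theorem D18729 : act 5 n18181 = n18729 := rfl
theorem F73410 : act 0 n18729 = n18182 := d4_1 D18729 (iv D18182) (iv F71280)
def n18730 : Q := act 6 n18182
theorem D18730 : act 6 n18182 = n18730 := rfl
theorem F73411 : act 1 n18730 = n18183 := d12_1 D18730 (iv D18183) (iv F71281)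
def n18731 : Q := act 1 n18184
theorem D18731 : act 1 n18184 = n18731 := rfl
theorem F73412 : act 0 n18731 = n18291 := d0_1 D18731 (iv D18291) (iv F70160) F70161 (iv F71283)
theorem F73413 : act 2 n18731 = n18311 := d8_2 D18184 D18731 F71707 F69673 (iv F69052)
theorem F73414 : act 3 n18731 = n18731 := d9_2 F71284 D18731 (iv D18731)
theorem F73415 : act 5 n18731 = n18327 := d11_2 F71321 D18731 F71764
theorem F73416 : act 6 n18731 = n18282 := d12_2 (iv F71285) D18731 (iv D18282)
theorem F73417 : act 7 n18731 = n18224 := d13_2 (iv F71286) D18731 (iv D18224)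
theorem F73418 : act 8 n18731 = n18186 := d14_2 (iv F71287) D18731 (iv D18186)
def n18732 : Q := act 4 n18184
theorem D18732 : act 4 n18184 = n18732 := rfl
theorem F73419 : act 0 n18732 = n18197 := d3_1 D18732 (iv D18197) (iv F71283)
theorem F73420 : act 2 n18732 = n18185 := d16_1 D18732 (iv D18185) D18184
theorem F73421 : act 6 n18732 = n18283 := d27_2 (iv F71285) D18732 (iv D18283)
theorem F73422 : act 7 n18732 = n18225 := d28_2 (iv F71286) D18732 (iv D18225)
theorem F73423 : act 8 n18732 = n18187 := d29_2 (iv F71287) D18732 (iv D18187)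
def n18733 : Q := act 5 n18185
theorem D18733 : act 5 n18185 = n18733 := rfl
theorem F73424 : act 0 n18733 = n18198 := d4_1 D18733 (iv D18198) (iv F71288)
theorem F73425 : act 1 n18733 = n18709 := d11_1 D18733 (iv D18709) (iv F71289)
theorem F73426 : act 3 n18733 = n18696 := d22_1 D18733 (iv D18696) (iv F71290)
theorem F73427 : act 7 n18733 = n18226 := d31_2 (iv F71292) D18733 (iv D18226)
theorem F73428 : act 8 n18733 = n18188 := d32_2 (iv F71293) D18733 (iv D18188)
def n18734 : Q := act 4 n18186
theorem D18734 : act 4 n18186 = n18734 := rfl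
theorem F73429 : act 0 n18734 = n18294 := d3_1 D18734 (iv D18294) (iv F71294)
theorem F73430 : act 1 n18734 = n18187 := d10_1 D18734 (iv D18187) D18186
theorem F73431 : act 2 n18734 = n18316 := d16_1 D18734 (iv D18316) (iv F71295)
theorem F73432 : act 6 n18734 = n18285 := d27_2 (iv F71298) D18734 (iv D18285)
theorem F73433 : act 7 n18734 = n18189 := d28_2 (iv F71299) D18734 (iv D18189)
def n18735 : Q := act 3 n18187
theorem D18735 : act 3 n18187 = n18735 := rfl
theorem F73434 : act 0 n18735 = n18199 := d2_1 D18735 (iv D18199) (iv F71300)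
theorem F73435 : act 4 n18735 = n18735 := d21_2 D18187 D18735 (iv D18735) (iv D18187) F69057
theorem F73436 : act 6 n18735 = n18286 := d23_2 (iv F71302) D18735 (iv D18286)
def n18736 : Q := act 5 n18187
theorem D18736 : act 5 n18187 = n18736 := rfl
theorem F73437 : act 0 n18736 = n18200 := d4_1 D18736 (iv D18200) (iv F71300)
theorem F73438 : act 2 n18736 = n18188 := d17_1 D18736 (iv D18188) (iv F71301)
theorem F73439 : act 7 n18736 = n18190 := d31_2 (iv F71303) D18736 (iv D18190)
def n18737 : Q := act 6 n18188
theorem D18737 : act 6 n18188 = n18737 := rfl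
theorem F73440 : act 0 n18737 = n18201 := d5_1 D18737 (iv D18201) (iv F71304)
theorem F73441 : act 5 n18737 = n18288 := d30_1 D18737 (iv D18288) (iv D17689) (iv F69061) D18188
theorem F73442 : act 7 n18737 = n18191 := d33_2 (iv F71305) D18737 (iv D18191)
def n18738 : Q := act 5 n18189
theorem D18738 : act 5 n18189 = n18738 := rfl
theorem F73443 : act 0 n18738 = n18298 := d4_1 D18738 (iv D18298) (iv F71306)
theorem F73444 : act 1 n18738 = n18190 := d11_1 D18738 (iv D18190) (iv F71307)
theorem F73445 : act 2 n18738 = n18302 := d17_1 D18738 F71680 (iv F71308)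
theorem F73446 : act 3 n18738 = n18202 := d22_1 D18738 (iv D18202) (iv F71309)
theorem F73447 : act 4 n18738 = n18299 := d26_1 D18738 (iv D18299) F69450 (iv F69066) D18189
theorem F73448 : act 8 n18738 = n18232 := d32_2 (iv F71311) D18738 (iv D18232)
def n18739 : Q := act 6 n18190
theorem D18739 : act 6 n18190 = n18739 := rfl
theorem F73449 : act 0 n18739 = n18204 := d5_1 D18739 (iv D18204) (iv F71312)
theorem F73450 : act 2 n18739 = n18191 := d18_1 D18739 (iv D18191) (iv F71313)
theorem F73451 : act 5 n18739 = n18290 := d30_1 D18739 (iv D18290) (iv D17691) (iv F69071) D18190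
theorem F73452 : act 8 n18739 = n18233 := d34_2 (iv F71314) D18739 (iv D18233)
def n18740 : Q := act 4 n18192
theorem D18740 : act 4 n18192 = n18740 := rfl
theorem F73453 : act 0 n18740 = n18469 := d3_1 D18740 (iv D18469) (iv F71319)
theorem F73454 : act 2 n18740 = n18193 := d16_1 D18740 (iv D18193) D18192
theorem F73455 : act 6 n18740 = n18554 := d27_2 (iv F71322) D18740 (iv D18554)
theorem F73456 : act 7 n18740 = n18477 := d28_2 (iv F71323) D18740 (iv D18477)
theorem F73457 : act 8 n18740 = n18552 := d29_2 (iv F71324) D18740 (iv D18552)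
def n18741 : Q := act 5 n18193
theorem D18741 : act 5 n18193 = n18741 := rfl
theorem F73458 : act 1 n18741 = n18206 := d11_1 D18741 (iv D18206) (iv F71325)
theorem F73459 : act 3 n18741 = n18196 := d22_1 D18741 (iv D18196) (iv F71326)
theorem F73460 : act 4 n18741 = n18733 := d26_1 D18741 (iv D18733) (iv D18185) (iv F69080) D18193
theorem F73461 : act 8 n18741 = n18553 := d32_2 (iv F71328) D18741 (iv D18553)
def n18742 : Q := act 5 n18194
theorem D18742 : act 5 n18194 = n18742 := rfl
theorem F73462 : act 0 n18742 = n18741 := d4_1 D18742 (iv D18741) (iv F71329)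
theorem F73463 : act 1 n18742 = n18208 := d11_1 D18742 (iv D18208) (iv F71330)
theorem F73464 : act 3 n18742 = n18553 := d22_1 D18742 (iv D18553) (iv F71331)
theorem F73465 : act 4 n18742 = n18198 := d26_1 D18742 (iv D18198) (iv D17586) (iv F69085) D18194
theorem F73466 : act 7 n18742 = n18237 := d31_2 (iv F71333) D18742 (iv D18237)
theorem F73467 : act 8 n18742 = n18196 := d32_2 (iv F71334) D18742 (iv D18196)
def n18743 : Q := act 3 n18195
theorem D18743 : act 3 n18195 = n18743 := rfl
theorem F73468 : act 4 n18743 = n18743 := d21_2 D18195 D18743 (iv D18743) (iv D18195) F69089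
def n18744 : Q := act 5 n18195
theorem D18744 : act 5 n18195 = n18744 := rfl
theorem F73469 : act 2 n18744 = n18196 := d17_1 D18744 (iv D18196) (iv F71335)
theorem F73470 : act 4 n18744 = n18200 := d26_1 D18744 (iv D18200) (iv D17587) (iv F69090) D18195
theorem F73471 : act 7 n18744 = n18202 := d31_2 (iv F71336) D18744 (iv D18202)
def n18745 : Q := act 6 n18196
theorem D18745 : act 6 n18196 = n18745 := rfl
theorem F73472 : act 1 n18745 = n18209 := d12_1 D18745 (iv D18209) (iv F71337)
theorem F73473 : act 4 n18745 = n18201 := d27_1 D18745 (iv D18201) (iv F71338)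
theorem F73474 : act 7 n18745 = n18203 := d33_2 (iv F71339) D18745 (iv D18203)
def n18746 : Q := act 3 n18197
theorem D18746 : act 3 n18197 = n18746 := rfl
theorem F73475 : act 4 n18746 = n18746 := d21_2 D18197 D18746 (iv D18746) (iv D18197) F69094
theorem F73476 : act 6 n18746 = n18355 := d23_2 (iv F71341) D18746 (iv D18355)
theorem F73477 : act 8 n18746 = n18199 := d25_2 (iv F71343) D18746 (iv D18199)
def n18747 : Q := act 5 n18197
theorem D18747 : act 5 n18197 = n18747 := rfl
theorem F73478 : act 2 n18747 = n18198 := d17_1 D18747 (iv D18198) (iv F71340)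
theorem F73479 : act 7 n18747 = n18241 := d31_2 (iv F71342) D18747 (iv D18241)
theorem F73480 : act 8 n18747 = n18200 := d32_2 (iv F71343) D18747 (iv D18200)
def n18748 : Q := act 6 n18198
theorem D18748 : act 6 n18198 = n18748 := rfl
theorem F73481 : act 1 n18748 = n18210 := d12_1 D18748 (iv D18210) (iv F71344)
theorem F73482 : act 5 n18748 = n18357 := d30_1 D18748 (iv D18357) (iv D17756) (iv F69099) D18198
theorem F73483 : act 7 n18748 = n18242 := d33_2 (iv F71345) D18748 (iv D18242)
theorem F73484 : act 8 n18748 = n18201 := d34_2 (iv F71346) D18748 (iv D18201)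
def n18749 : Q := act 5 n18199
theorem D18749 : act 5 n18199 = n18749 := rfl
theorem F73485 : act 3 n18749 = n18200 := d22_1 D18749 (iv D18200) D18199
def n18750 : Q := act 6 n18200
theorem D18750 : act 6 n18200 = n18750 := rfl
theorem F73486 : act 2 n18750 = n18201 := d18_1 D18750 (iv D18201) (iv F71349)
theorem F73487 : act 5 n18750 = n18359 := d30_1 D18750 (iv D18359) (iv D17758) (iv F69103) D18200
theorem F73488 : act 7 n18750 = n18204 := d33_2 (iv F71350) D18750 (iv D18204)
def n18751 : Q := act 6 n18202
theorem D18751 : act 6 n18202 = n18751 := rfl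
theorem F73489 : act 2 n18751 = n18203 := d18_1 D18751 (iv D18203) (iv F71354)
theorem F73490 : act 4 n18751 = n18204 := d27_1 D18751 (iv D18204) (iv F71355)
theorem F73491 : act 8 n18751 = n18248 := d34_2 (iv F71356) D18751 (iv D18248)
def n18752 : Q := act 5 n18205
theorem D18752 : act 5 n18205 = n18752 := rfl
theorem F73492 : act 2 n18752 = n18206 := d17_1 D18752 (iv D18206) (iv F71363)
theorem F73493 : act 8 n18752 = n18448 := d32_2 (iv F71365) D18752 F72276
def n18753 : Q := act 6 n18206
theorem D18753 : act 6 n18206 = n18753 := rfl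
theorem F73494 : act 3 n18753 = n18209 := d23_1 D18753 (iv D18209) (iv F71366)
theorem F73495 : act 5 n18753 = n18577 := d30_1 D18753 (iv D18577) (iv D17998) (iv F69122) D18206
theorem F73496 : act 8 n18753 = n18574 := d34_2 (iv F71367) D18753 (iv D18574)
def n18754 : Q := act 6 n18207
theorem D18754 : act 6 n18207 = n18754 := rfl
theorem F73497 : act 3 n18754 = n18577 := d23_1 D18754 (iv D18577) (iv F71368)
theorem F73498 : act 5 n18754 = n18209 := d30_1 D18754 (iv D18209) (iv D17597) (iv F69125) D18207
theorem F73499 : act 7 n18754 = n18211 := d33_2 (iv F71369) D18754 (iv D18211)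
theorem F73500 : act 8 n18754 = n18573 := d34_2 (iv F71370) D18754 (iv D18573)
def n18755 : Q := act 6 n18208
theorem D18755 : act 6 n18208 = n18755 := rfl
theorem F73501 : act 3 n18755 = n18574 := d23_1 D18755 (iv D18574) (iv F71371)
theorem F73502 : act 4 n18755 = n18210 := d27_1 D18755 (iv D18210) (iv F71372)
theorem F73503 : act 5 n18755 = n18573 := d30_1 D18755 (iv D18573) (iv D17994) (iv F69129) D18208
theorem F73504 : act 7 n18755 = n18253 := d33_2 (iv F71373) D18755 (iv D18253)
theorem F73505 : act 8 n18755 = n18209 := d34_2 (iv F71374) D18755 (iv D18209)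
def n18756 : Q := act 5 n18212
theorem D18756 : act 5 n18212 = n18756 := rfl
theorem F73506 : act 2 n18756 = n18213 := d17_1 D18756 (iv D18213) (iv F71381)
theorem F73507 : act 8 n18756 = n18363 := d32_2 (iv F71383) D18756 (iv D18363)
def n18757 : Q := act 6 n18213
theorem D18757 : act 6 n18213 = n18757 := rfl
theorem F73508 : act 1 n18757 = n18362 := d12_1 D18757 (iv D18362) (iv F71384)
theorem F73509 : act 3 n18757 = n18216 := d23_1 D18757 (iv D18216) (iv F71385)
theorem F73510 : act 5 n18757 = n18368 := d30_1 D18757 (iv D18368) (iv D17769) (iv F69145) D18213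
theorem F73511 : act 8 n18757 = n18364 := d34_2 (iv F71386) D18757 (iv D18364)
def n18758 : Q := act 6 n18214
theorem D18758 : act 6 n18214 = n18758 := rfl
theorem F73512 : act 1 n18758 = n18364 := d12_1 D18758 (iv D18364) (iv F71387)
theorem F73513 : act 3 n18758 = n18368 := d23_1 D18758 (iv D18368) (iv F71388)
theorem F73514 : act 4 n18758 = n18252 := d27_1 D18758 (iv D18252) (iv F71389)
theorem F73515 : act 5 n18758 = n18216 := d30_1 D18758 (iv D18216) (iv D17606) (iv F69149) D18214
theorem F73516 : act 7 n18758 = n18218 := d33_2 (iv F71390) D18758 (iv D18218)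
theorem F73517 : act 8 n18758 = n18362 := d34_2 (iv F71391) D18758 (iv D18362)
def n18759 : Q := act 6 n18215
theorem D18759 : act 6 n18215 = n18759 := rfl
theorem F73518 : act 1 n18759 = n18368 := d12_1 D18759 (iv D18368) (iv F71392)
theorem F73519 : act 3 n18759 = n18364 := d23_1 D18759 (iv D18364) (iv F71393)
theorem F73520 : act 4 n18759 = n18217 := d27_1 D18759 (iv D18217) (iv F71394)
theorem F73521 : act 5 n18759 = n18362 := d30_1 D18759 (iv D18362) (iv D17764) (iv F69154) D18215
theorem F73522 : act 8 n18759 = n18216 := d34_2 (iv F71395) D18759 (iv D18216)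
def n18760 : Q := act 4 n18219
theorem D18760 : act 4 n18219 = n18760 := rfl
theorem F73523 : act 0 n18760 = n18234 := d3_1 D18760 (iv D18234) (iv F71405)
theorem F73524 : act 1 n18760 = n18580 := d10_1 D18760 (iv D18580) F71411
theorem F73525 : act 2 n18760 = n18220 := d16_1 D18760 (iv D18220) D18219
theorem F73526 : act 3 n18760 = n18706 := d21_1 D18760 (iv D18706) F71208 (iv F69307) (iv F71406)
theorem F73527 : act 6 n18760 = n18477 := d27_2 (iv F71408) D18760 (iv D18477)
theorem F73528 : act 7 n18760 = n18554 := d28_2 (iv F71409) D18760 (iv D18554)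
theorem F73529 : act 8 n18760 = n18454 := d29_2 (iv F71410) D18760 (iv D18454)
def n18761 : Q := act 5 n18220
theorem D18761 : act 5 n18220 = n18761 := rfl
theorem F73530 : act 0 n18761 = n18235 := d4_1 D18761 (iv D18235) (iv F71412)
theorem F73531 : act 1 n18761 = n18499 := d11_1 D18761 (iv D18499) (iv F71413)
theorem F73532 : act 3 n18761 = n18223 := d22_1 D18761 (iv D18223) (iv F71414)
theorem F73533 : act 4 n18761 = n18489 := d26_1 D18761 (iv D18489) (iv D17909) (iv F69170) D18220
theorem F73534 : act 7 n18761 = n18555 := d31_2 (iv F71415) D18761 (iv D18555)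
theorem F73535 : act 8 n18761 = n18487 := d32_2 (iv F71416) D18761 (iv D18487)
def n18762 : Q := act 5 n18221
theorem D18762 : act 5 n18221 = n18762 := rfl
theorem F73536 : act 0 n18762 = n18237 := d4_1 D18762 (iv D18237) (iv F71417)
theorem F73537 : act 1 n18762 = n18495 := d11_1 D18762 (iv D18495) (iv F71418)
theorem F73538 : act 3 n18762 = n18487 := d22_1 D18762 (iv D18487) (iv F71419)
theorem F73539 : act 4 n18762 = n18226 := d26_1 D18762 (iv D18226) (iv D17616) (iv F69175) D18221
theorem F73540 : act 7 n18762 = n18741 := d31_2 (iv F71421) D18762 (iv D18741)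
theorem F73541 : act 8 n18762 = n18223 := d32_2 (iv F71422) D18762 (iv D18223)
def n18763 : Q := act 5 n18222
theorem D18763 : act 5 n18222 = n18763 := rfl
theorem F73542 : act 0 n18763 = n18238 := d4_1 D18763 (iv D18238) (iv F71423)
theorem F73543 : act 2 n18763 = n18223 := d17_1 D18763 (iv D18223) (iv F71424)
theorem F73544 : act 3 n18763 = n18729 := d22_1 D18763 (iv D18729) (iv F71425)
theorem F73545 : act 4 n18763 = n18228 := d26_1 D18763 (iv D18228) (iv D17618) (iv F69181) D18222
theorem F73546 : act 7 n18763 = n18230 := d31_2 (iv F71426) D18763 (iv D18230)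
def n18764 : Q := act 6 n18223
theorem D18764 : act 6 n18223 = n18764 := rfl
theorem F73547 : act 0 n18764 = n18239 := d5_1 D18764 (iv D18239) (iv F71427)
theorem F73548 : act 4 n18764 = n18229 := d27_1 D18764 (iv D18229) (iv F71428)
theorem F73549 : act 7 n18764 = n18231 := d33_2 (iv F71429) D18764 (iv D18231)
def n18765 : Q := act 4 n18224
theorem D18765 : act 4 n18224 = n18765 := rfl
theorem F73550 : act 1 n18765 = n18225 := d10_1 D18765 (iv D18225) D18224
theorem F73551 : act 3 n18765 = n18718 := d21_1 D18765 (iv D18718) F71247 F69348 (iv F71430)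
theorem F73552 : act 6 n18765 = n18312 := d27_2 (iv F71431) D18765 (iv D18312)
theorem F73553 : act 8 n18765 = n18227 := d29_2 (iv F71432) D18765 (iv D18227)
def n18766 : Q := act 5 n18225
theorem D18766 : act 5 n18225 = n18766 := rfl
theorem F73554 : act 0 n18766 = n18241 := d4_1 D18766 (iv D18241) (iv F71433)
theorem F73555 : act 2 n18766 = n18226 := d17_1 D18766 (iv D18226) (iv F71434)
theorem F73556 : act 3 n18766 = n18719 := d22_1 D18766 (iv D18719) (iv F71435)
theorem F73557 : act 8 n18766 = n18228 := d32_2 (iv F71437) D18766 (iv D18228)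
def n18767 : Q := act 6 n18226
theorem D18767 : act 6 n18226 = n18767 := rfl
theorem F73558 : act 0 n18767 = n18242 := d5_1 D18767 (iv D18242) (iv F71438)
theorem F73559 : act 3 n18767 = n18650 := d23_1 D18767 (iv D18650) (iv F71439)
theorem F73560 : act 5 n18767 = n18315 := d30_1 D18767 (iv D18315) (iv D17712) (iv F69191) D18226
theorem F73561 : act 8 n18767 = n18229 := d34_2 (iv F71440) D18767 (iv D18229)
def n18768 : Q := act 5 n18227
theorem D18768 : act 5 n18227 = n18768 := rfl
theorem F73562 : act 1 n18768 = n18228 := d11_1 D18768 (iv D18228) (iv F71441)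
theorem F73563 : act 3 n18768 = n18722 := d22_1 D18768 (iv D18722) (iv F71442)
theorem F73564 : act 7 n18768 = n18232 := d31_2 (iv F71444) D18768 (iv D18232)
def n18769 : Q := act 6 n18228
theorem D18769 : act 6 n18228 = n18769 := rfl
theorem F73565 : act 0 n18769 = n18246 := d5_1 D18769 (iv D18246) (iv F71445)
theorem F73566 : act 2 n18769 = n18229 := d18_1 D18769 (iv D18229) (iv F71446)
theorem F73567 : act 3 n18769 = n18723 := d23_1 D18769 (iv D18723) (iv F71447)
theorem F73568 : act 5 n18769 = n18320 := d30_1 D18769 (iv D18320) (iv D17716) (iv F69199) D18228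
theorem F73569 : act 7 n18769 = n18233 := d33_2 (iv F71448) D18769 (iv D18233)
def n18770 : Q := act 6 n18230
theorem D18770 : act 6 n18230 = n18770 := rfl
theorem F73570 : act 0 n18770 = n18248 := d5_1 D18770 (iv D18248) (iv F71453)
theorem F73571 : act 2 n18770 = n18231 := d18_1 D18770 (iv D18231) (iv F71454)
theorem F73572 : act 4 n18770 = n18233 := d27_1 D18770 (iv D18233) (iv F71455)
def n18771 : Q := act 6 n18232
theorem D18771 : act 6 n18232 = n18771 := rfl
theorem F73573 : act 1 n18771 = n18233 := d12_1 D18771 (iv D18233) (iv F71458)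
theorem F73574 : act 3 n18771 = n18248 := d23_1 D18771 (iv D18248) (iv F71459)
theorem F73575 : act 5 n18771 = n18322 := d30_1 D18771 (iv D18322) (iv D17721) (iv F69210) D18232
def n18772 : Q := act 5 n18234
theorem D18772 : act 5 n18234 = n18772 := rfl
theorem F73576 : act 1 n18772 = n18452 := d11_1 D18772 (iv D18452) (iv F71463)
theorem F73577 : act 2 n18772 = n18235 := d17_1 D18772 (iv D18235) (iv F71464)
theorem F73578 : act 3 n18772 = n18707 := d22_1 D18772 (iv D18707) (iv F71465)
theorem F73579 : act 4 n18772 = n18756 := d26_1 D18772 (iv D18756) (iv D18212) (iv F69218) D18234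
theorem F73580 : act 8 n18772 = n18455 := d32_2 (iv F71467) D18772 (iv D18455)
def n18773 : Q := act 6 n18235
theorem D18773 : act 6 n18235 = n18773 := rfl
theorem F73581 : act 1 n18773 = n18251 := d12_1 D18773 (iv D18251) (iv F71468)
theorem F73582 : act 3 n18773 = n18239 := d23_1 D18773 (iv D18239) (iv F71469)
theorem F73583 : act 4 n18773 = n18757 := d27_1 D18773 (iv D18757) (iv F71470)
def n18774 : Q := act 6 n18236
theorem D18774 : act 6 n18236 = n18774 := rfl
theorem F73584 : act 1 n18774 = n18252 := d12_1 D18774 (iv D18252) (iv F71471)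
theorem F73585 : act 4 n18774 = n18364 := d27_1 D18774 (iv D18364) (iv F71472)
theorem F73586 : act 5 n18774 = n18239 := d30_1 D18774 (iv D18239) (iv D17630) (iv F69224) D18236
theorem F73587 : act 7 n18774 = n18247 := d33_2 (iv F71473) D18774 (iv D18247)
theorem F73588 : act 8 n18774 = n18773 := d34_2 (iv F71474) D18774 (iv D18773)
def n18775 : Q := act 6 n18237
theorem D18775 : act 6 n18237 = n18775 := rfl
theorem F73589 : act 1 n18775 = n18253 := d12_1 D18775 (iv D18253) (iv F71475)
theorem F73590 : act 3 n18775 = n18774 := d23_1 D18775 (iv D18774) (iv F71476)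
theorem F73591 : act 4 n18775 = n18242 := d27_1 D18775 (iv D18242) (iv F71477)
theorem F73592 : act 5 n18775 = n18773 := d30_1 D18775 (iv D18773) (iv D18235) (iv F69229) D18237
theorem F73593 : act 8 n18775 = n18239 := d34_2 (iv F71478) D18775 (iv D18239)
def n18776 : Q := act 6 n18238
theorem D18776 : act 6 n18238 = n18776 := rfl
theorem F73594 : act 1 n18776 = n18679 := d12_1 D18776 (iv D18679) (iv F71479)
theorem F73595 : act 2 n18776 = n18239 := d18_1 D18776 (iv D18239) (iv F71480)
theorem F73596 : act 3 n18776 = n18730 := d23_1 D18776 (iv D18730) (iv F71481)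
theorem F73597 : act 4 n18776 = n18246 := d27_1 D18776 (iv D18246) (iv F71482)
theorem F73598 : act 7 n18776 = n18248 := d33_2 (iv F71483) D18776 (iv D18248)
def n18777 : Q := act 5 n18240
theorem D18777 : act 5 n18240 = n18777 := rfl
theorem F73599 : act 0 n18777 = n18719 := d4_1 D18777 (iv D18719) (iv F71487)
theorem F73600 : act 2 n18777 = n18620 := d17_1 D18777 (iv D18620) (iv F71488)
theorem F73601 : act 3 n18777 = n18241 := d22_1 D18777 (iv D18241) D18240
theorem F73602 : act 8 n18777 = n18245 := d32_2 (iv F71491) D18777 (iv D18245)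
def n18778 : Q := act 6 n18241
theorem D18778 : act 6 n18241 = n18778 := rfl
theorem F73603 : act 2 n18778 = n18242 := d18_1 D18778 (iv D18242) (iv F71492)
theorem F73604 : act 5 n18778 = n18377 := d30_1 D18778 (iv D18377) (iv D17777) (iv F69239) D18241
theorem F73605 : act 8 n18778 = n18246 := d34_2 (iv F71493) D18778 (iv D18246)
def n18779 : Q := act 5 n18243
theorem D18779 : act 5 n18243 = n18779 := rfl
theorem F73606 : act 1 n18779 = n18245 := d11_1 D18779 (iv D18245) (iv F71498)
theorem F73607 : act 3 n18779 = n18244 := d22_1 D18779 (iv D18244) D18243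
theorem F73608 : act 4 n18779 = n18727 := d26_1 D18779 (iv D18727) F71275 (iv F69322) (iv F71499)
theorem F73609 : act 7 n18779 = n18628 := d31_2 (iv F71501) D18779 (iv D18628)
def n18780 : Q := act 6 n18244
theorem D18780 : act 6 n18244 = n18780 := rfl
theorem F73610 : act 1 n18780 = n18246 := d12_1 D18780 (iv D18246) (iv F71502)
theorem F73611 : act 2 n18780 = n18256 := d18_1 D18780 (iv D18256) (iv F71503)
theorem F73612 : act 4 n18780 = n18679 := d27_1 D18780 (iv D18679) (iv F71504)
theorem F73613 : act 5 n18780 = n18381 := d30_1 D18780 (iv D18381) (iv D17781) (iv F69246) D18244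
theorem F73614 : act 7 n18780 = n18249 := d33_2 (iv F71505) D18780 (iv D18249)
def n18781 : Q := act 6 n18245
theorem D18781 : act 6 n18245 = n18781 := rfl
theorem F73615 : act 0 n18781 = n18723 := d5_1 D18781 (iv D18723) (iv F71506)
theorem F73616 : act 2 n18781 = n18621 := d18_1 D18781 (iv D18621) (iv F71507)
theorem F73617 : act 3 n18781 = n18246 := d23_1 D18781 (iv D18246) (iv F71508)
theorem F73618 : act 5 n18781 = n18382 := d30_1 D18781 (iv D18382) (iv D17782) (iv F69251) D18245
theorem F73619 : act 7 n18781 = n18629 := d33_2 (iv F71509) D18781 (iv D18629)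
def n18782 : Q := act 6 n18250
theorem D18782 : act 6 n18250 = n18782 := rfl
theorem F73620 : act 0 n18782 = n18689 := d5_1 D18782 (iv D18689) (iv F71521)
theorem F73621 : act 1 n18782 = n18453 := d12_1 D18782 (iv D18453) (iv F71522)
theorem F73622 : act 2 n18782 = n18251 := d18_1 D18782 (iv D18251) (iv F71523)
theorem F73623 : act 3 n18782 = n18462 := d23_1 D18782 (iv D18462) (iv F71524)
theorem F73624 : act 5 n18782 = n18466 := d30_1 D18782 (iv D18466) (iv D17883) (iv F69273) D18250
theorem F73625 : act 8 n18782 = n18445 := d34_2 (iv F71525) D18782 (iv D18445)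
def n18783 : Q := act 0 n18260
theorem D18783 : act 0 n18260 = n18783 := rfl
theorem F73626 : act 1 n18783 = n18597 := d0_2 D18260 D18783 F72885 F70685 F69542
theorem F73627 : act 2 n18783 = n18272 := d1_2 (iv F71556) D18783 (iv D18272)
theorem F73628 : act 3 n18783 = n18783 := d2_2 F71557 D18783 (iv D18783)
theorem F73629 : act 8 n18783 = n18613 := d7_2 (iv F71558) D18783 (iv D18613)
def n18784 : Q := act 4 n18260
theorem D18784 : act 4 n18260 = n18784 := rfl
theorem F73630 : act 1 n18784 = n18261 := d10_1 D18784 (iv D18261) D18260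
theorem F73631 : act 2 n18784 = n18273 := d16_1 D18784 (iv D18273) (iv F71556)
theorem F73632 : act 8 n18784 = n18614 := d29_2 (iv F71558) D18784 (iv D18614)
def n18785 : Q := act 3 n18261
theorem D18785 : act 3 n18261 = n18785 := rfl
theorem F73633 : act 2 n18785 = n18263 := d15_1 D18785 (iv D18263) F69360 (iv F69358) (iv F71559)
theorem F73634 : act 4 n18785 = n18785 := d21_2 D18261 D18785 (iv D18785) (iv D18261) F69355
theorem F73635 : act 8 n18785 = n18615 := d25_2 (iv F71560) D18785 (iv D18615)
def n18786 : Q := act 5 n18261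
theorem D18786 : act 5 n18261 = n18786 := rfl
theorem F73636 : act 2 n18786 = n18262 := d17_1 D18786 (iv D18262) (iv F71559)
theorem F73637 : act 8 n18786 = n18616 := d32_2 (iv F71560) D18786 (iv D18616)
def n18787 : Q := act 6 n18262
theorem D18787 : act 6 n18262 = n18787 := rfl
theorem F73638 : act 1 n18787 = n18275 := d12_1 D18787 (iv D18275) (iv F71561)
theorem F73639 : act 3 n18787 = n18265 := d23_1 D18787 (iv D18265) (iv F71562)
theorem F73640 : act 8 n18787 = n18617 := d34_2 (iv F71563) D18787 (iv D18617)
def n18788 : Q := act 5 n18263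
theorem D18788 : act 5 n18263 = n18788 := rfl
theorem F73641 : act 3 n18788 = n18264 := d22_1 D18788 (iv D18264) D18263
theorem F73642 : act 8 n18788 = n18618 := d32_2 (iv F71565) D18788 (iv D18618)
def n18789 : Q := act 7 n18263
theorem D18789 : act 7 n18263 = n18789 := rfl
theorem F73643 : act 3 n18789 = n18280 := d24_1 D18789 (iv D18280) (iv D17682) (iv F69361) D18263
theorem F73644 : act 4 n18789 = n18789 := d28_1 D18789 (iv D18789) F71564
def n18790 : Q := act 6 n18264
theorem D18790 : act 6 n18264 = n18790 := rfl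
theorem F73645 : act 2 n18790 = n18265 := d18_1 D18790 (iv D18265) (iv F71566)
theorem F73646 : act 7 n18790 = n18281 := d33_2 (iv F71567) D18790 (iv D18281)
theorem F73647 : act 8 n18790 = n18619 := d34_2 (iv F71568) D18790 (iv D18619)
def n18791 : Q := act 0 n18266
theorem D18791 : act 0 n18266 = n18791 := rfl
theorem F73648 : act 1 n18791 = n18333 := d0_2 D18266 D18791 (iv D18333) (iv D17735) (iv F69366)
theorem F73649 : act 3 n18791 = n18791 := d2_2 F71572 D18791 (iv D18791)
theorem F73650 : act 5 n18791 = n18783 := d4_2 (iv F71573) D18791 (iv D18783)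
theorem F73651 : act 7 n18791 = n18272 := d6_2 (iv F71574) D18791 (iv D18272)
def n18792 : Q := act 4 n18266
theorem D18792 : act 4 n18266 = n18792 := rfl
theorem F73652 : act 1 n18792 = n18267 := d10_1 D18792 (iv D18267) D18266
theorem F73653 : act 7 n18792 = n18273 := d28_2 (iv F71574) D18792 (iv D18273)
def n18793 : Q := act 3 n18267
theorem D18793 : act 3 n18267 = n18793 := rfl
theorem F73654 : act 0 n18793 = n18335 := d2_1 D18793 (iv D18335) (iv F71575)
theorem F73655 : act 2 n18793 = n18286 := d15_1 D18793 (iv D18286) F69422 (iv F69371) (iv F71576)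
theorem F73656 : act 4 n18793 = n18793 := d21_2 D18267 D18793 (iv D18793) (iv D18267) F69367
def n18794 : Q := act 5 n18267
theorem D18794 : act 5 n18267 = n18794 := rfl
theorem F73657 : act 0 n18794 = n18336 := d4_1 D18794 (iv D18336) (iv F71575)
theorem F73658 : act 2 n18794 = n18268 := d17_1 D18794 (iv D18268) (iv F71576)
theorem F73659 : act 4 n18794 = n18786 := d26_1 D18794 (iv D18786) (iv D18261) (iv F69368) D18267
theorem F73660 : act 7 n18794 = n18274 := d31_2 (iv F71577) D18794 (iv D18274)
def n18795 : Q := act 6 n18268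
theorem D18795 : act 6 n18268 = n18795 := rfl
theorem F73661 : act 0 n18795 = n18337 := d5_1 D18795 (iv D18337) (iv F71578)
theorem F73662 : act 3 n18795 = n18288 := d23_1 D18795 (iv D18288) (iv F71579)
theorem F73663 : act 4 n18795 = n18787 := d27_1 D18795 (iv D18787) (iv F71580)
theorem F73664 : act 7 n18795 = n18275 := d33_2 (iv F71581) D18795 (iv D18275)
def n18796 : Q := act 0 n18269
theorem D18796 : act 0 n18269 = n18796 := rfl
theorem F73665 : act 1 n18796 = n18340 := d0_2 D18269 D18796 (iv D18340) (iv D17740) (iv F69373)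
theorem F73666 : act 2 n18796 = n18791 := d1_2 (iv F71582) D18796 (iv D18791)
theorem F73667 : act 3 n18796 = n18276 := d2_2 (iv F71583) D18796 (iv D18276)
theorem F73668 : act 5 n18796 = n18272 := d4_2 (iv F71584) D18796 (iv D18272)
theorem F73669 : act 7 n18796 = n18783 := d6_2 (iv F71585) D18796 (iv D18783)
theorem F73670 : act 8 n18796 = n18622 := d7_2 (iv F71586) D18796 (iv D18622)
def n18797 : Q := act 4 n18269
theorem D18797 : act 4 n18269 = n18797 := rfl
theorem F73671 : act 1 n18797 = n18270 := d10_1 D18797 (iv D18270) D18269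
theorem F73672 : act 2 n18797 = n18792 := d16_1 D18797 (iv D18792) (iv F71582)
theorem F73673 : act 7 n18797 = n18784 := d28_2 (iv F71585) D18797 (iv D18784)
theorem F73674 : act 8 n18797 = n18623 := d29_2 (iv F71586) D18797 (iv D18623)
def n18798 : Q := act 3 n18270
theorem D18798 : act 3 n18270 = n18798 := rfl
theorem F73675 : act 0 n18798 = n18342 := d2_1 D18798 (iv D18342) (iv F71587)
theorem F73676 : act 2 n18798 = n18531 := d15_1 D18798 (iv D18531) F70448 (iv F69380) (iv F71588)
theorem F73677 : act 4 n18798 = n18278 := d21_2 D18270 D18798 (iv D18278) (iv D17680) (iv F69374)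
theorem F73678 : act 8 n18798 = n18624 := d25_2 (iv F71590) D18798 (iv D18624)
def n18799 : Q := act 5 n18270
theorem D18799 : act 5 n18270 = n18799 := rfl
theorem F73679 : act 0 n18799 = n18343 := d4_1 D18799 (iv D18343) (iv F71587)
theorem F73680 : act 2 n18799 = n18271 := d17_1 D18799 (iv D18271) (iv F71588)
theorem F73681 : act 4 n18799 = n18274 := d26_1 D18799 (iv D18274) (iv D17676) (iv F69375) D18270
theorem F73682 : act 7 n18799 = n18786 := d31_2 (iv F71589) D18799 (iv D18786)
theorem F73683 : act 8 n18799 = n18625 := d32_2 (iv F71590) D18799 (iv D18625)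
def n18800 : Q := act 6 n18271
theorem D18800 : act 6 n18271 = n18800 := rfl
theorem F73684 : act 0 n18800 = n18344 := d5_1 D18800 (iv D18344) (iv F71591)
theorem F73685 : act 1 n18800 = n18795 := d12_1 D18800 (iv D18795) (iv F71592)
theorem F73686 : act 3 n18800 = n18533 := d23_1 D18800 (iv D18533) (iv F71593)
theorem F73687 : act 4 n18800 = n18275 := d27_1 D18800 (iv D18275) (iv F71594)
theorem F73688 : act 7 n18800 = n18787 := d33_2 (iv F71595) D18800 (iv D18787)
theorem F73689 : act 8 n18800 = n18626 := d34_2 (iv F71596) D18800 (iv D18626)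
def n18801 : Q := act 4 n18272
theorem D18801 : act 4 n18272 = n18801 := rfl
theorem F73690 : act 0 n18801 = n18273 := d3_1 D18801 (iv D18273) D18272
theorem F73691 : act 1 n18801 = n18345 := d10_1 D18801 (iv D18345) (iv F71597)
theorem F73692 : act 8 n18801 = n18627 := d29_2 (iv F71599) D18801 (iv D18627)
def n18802 : Q := act 5 n18273
theorem D18802 : act 5 n18273 = n18802 := rfl
theorem F73693 : act 1 n18802 = n18274 := d11_1 D18802 (iv D18274) (iv F71600)
theorem F73694 : act 8 n18802 = n18628 := d32_2 (iv F71601) D18802 (iv D18628)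
def n18803 : Q := act 6 n18274
theorem D18803 : act 6 n18274 = n18803 := rfl
theorem F73695 : act 0 n18803 = n18347 := d5_1 D18803 (iv D18347) (iv F71602)
theorem F73696 : act 2 n18803 = n18275 := d18_1 D18803 (iv D18275) (iv F71603)
theorem F73697 : act 8 n18803 = n18629 := d34_2 (iv F71604) D18803 (iv D18629)
def n18804 : Q := act 3 n18277
theorem D18804 : act 3 n18277 = n18804 := rfl
theorem F73698 : act 0 n18804 = n18710 := d2_1 D18804 F73350 (iv F71614)
theorem F73699 : act 1 n18804 = n18278 := d9_1 D18804 (iv D18278) (iv F71615)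
theorem F73700 : act 5 n18804 = n18717 := d22_2 (iv F71617) D18804 F73379
theorem F73701 : act 6 n18804 = n18796 := d23_2 (iv F71618) D18804 F73667
theorem F73702 : act 8 n18804 = n18630 := d25_2 (iv F71620) D18804 (iv D18630)
def n18805 : Q := act 6 n18279
theorem D18805 : act 6 n18279 = n18805 := rfl
theorem F73703 : act 3 n18805 = n18281 := d23_1 D18805 (iv D18281) (iv F71624)
theorem F73704 : act 8 n18805 = n18303 := d34_2 (iv F71625) D18805 (iv D18303)
def n18806 : Q := act 7 n18279
theorem D18806 : act 7 n18279 = n18806 := rfl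
theorem F73705 : act 5 n18806 = n18280 := d31_1 D18806 (iv D18280) D18279
def n18807 : Q := act 8 n18280
theorem D18807 : act 8 n18280 = n18807 := rfl
theorem F73706 : act 1 n18807 = n18494 := d14_1 D18807 F72491 F72131
theorem F73707 : act 4 n18807 = n18326 := d29_1 D18807 (iv D18326) (iv F71626)
theorem F73708 : act 7 n18807 = n18305 := d35_1 D18807 (iv D18305) (iv D17703) (iv F69407) D18280
def n18808 : Q := act 4 n18282
theorem D18808 : act 4 n18282 = n18808 := rfl
theorem F73709 : act 1 n18808 = n18283 := d10_1 D18808 (iv D18283) D18282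
theorem F73710 : act 7 n18808 = n18312 := d28_2 (iv F71630) D18808 (iv D18312)
theorem F73711 : act 8 n18808 = n18285 := d29_2 (iv F71631) D18808 (iv D18285)
def n18809 : Q := act 3 n18283
theorem D18809 : act 3 n18283 = n18809 := rfl
theorem F73712 : act 0 n18809 = n18355 := d2_1 D18809 (iv D18355) (iv F71632)
theorem F73713 : act 4 n18809 = n18809 := d21_2 D18283 D18809 (iv D18809) (iv D18283) F69413
theorem F73714 : act 8 n18809 = n18286 := d25_2 (iv F71635) D18809 (iv D18286)
def n18810 : Q := act 5 n18283
theorem D18810 : act 5 n18283 = n18810 := rfl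
theorem F73715 : act 0 n18810 = n18356 := d4_1 D18810 (iv D18356) (iv F71632)
theorem F73716 : act 2 n18810 = n18284 := d17_1 D18810 (iv D18284) (iv F71633)
theorem F73717 : act 7 n18810 = n18314 := d31_2 (iv F71634) D18810 (iv D18314)
theorem F73718 : act 8 n18810 = n18287 := d32_2 (iv F71635) D18810 (iv D18287)
def n18811 : Q := act 6 n18284
theorem D18811 : act 6 n18284 = n18811 := rfl
theorem F73719 : act 0 n18811 = n18357 := d5_1 D18811 (iv D18357) (iv F71636)
theorem F73720 : act 7 n18811 = n18315 := d33_2 (iv F71637) D18811 (iv D18315)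
theorem F73721 : act 8 n18811 = n18288 := d34_2 (iv F71638) D18811 (iv D18288)
def n18812 : Q := act 3 n18285
theorem D18812 : act 3 n18285 = n18812 := rfl
theorem F73722 : act 1 n18812 = n18286 := d9_1 D18812 (iv D18286) (iv F71639)
theorem F73723 : act 4 n18812 = n18812 := d21_2 D18285 D18812 (iv D18812) (iv D18285) F69419
def n18813 : Q := act 5 n18285
theorem D18813 : act 5 n18285 = n18813 := rfl
theorem F73724 : act 1 n18813 = n18287 := d11_1 D18813 (iv D18287) (iv F71639)
theorem F73725 : act 7 n18813 = n18289 := d31_2 (iv F71640) D18813 (iv D18289)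
def n18814 : Q := act 5 n18286
theorem D18814 : act 5 n18286 = n18814 := rfl
theorem F73726 : act 0 n18814 = n18358 := d4_1 D18814 (iv D18358) (iv F71641)
theorem F73727 : act 3 n18814 = n18287 := d22_1 D18814 (iv D18287) D18286
def n18815 : Q := act 6 n18287
theorem D18815 : act 6 n18287 = n18815 := rfl
theorem F73728 : act 0 n18815 = n18359 := d5_1 D18815 (iv D18359) (iv F71643)
theorem F73729 : act 2 n18815 = n18288 := d18_1 D18815 (iv D18288) (iv F71644)
theorem F73730 : act 7 n18815 = n18290 := d33_2 (iv F71645) D18815 (iv D18290)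
def n18816 : Q := act 6 n18289
theorem D18816 : act 6 n18289 = n18816 := rfl
theorem F73731 : act 1 n18816 = n18290 := d12_1 D18816 (iv D18290) (iv F71648)
theorem F73732 : act 8 n18816 = n18322 := d34_2 (iv F71649) D18816 (iv D18322)
def n18817 : Q := act 4 n18291
theorem D18817 : act 4 n18291 = n18817 := rfl
theorem F73733 : act 1 n18817 = n18292 := d10_1 D18817 (iv D18292) D18291
theorem F73734 : act 2 n18817 = n18312 := d16_1 D18817 (iv D18312) (iv F71653)
theorem F73735 : act 8 n18817 = n18294 := d29_2 (iv F71655) D18817 (iv D18294)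
def n18818 : Q := act 3 n18292
theorem D18818 : act 3 n18292 = n18818 := rfl
theorem F73736 : act 2 n18818 = n18664 := d15_1 D18818 (iv D18664) F71010 (iv F69437) (iv F71656)
theorem F73737 : act 4 n18818 = n18818 := d21_2 D18292 D18818 (iv D18818) (iv D18292) F69434
theorem F73738 : act 8 n18818 = n18295 := d25_2 (iv F71657) D18818 (iv D18295)
def n18819 : Q := act 5 n18292
theorem D18819 : act 5 n18292 = n18819 := rfl
theorem F73739 : act 2 n18819 = n18293 := d17_1 D18819 (iv D18293) (iv F71656)
theorem F73740 : act 8 n18819 = n18296 := d32_2 (iv F71657) D18819 (iv D18296)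
def n18820 : Q := act 6 n18293
theorem D18820 : act 6 n18293 = n18820 := rfl
theorem F73741 : act 1 n18820 = n18315 := d12_1 D18820 (iv D18315) (iv F71658)
theorem F73742 : act 3 n18820 = n18666 := d23_1 D18820 (iv D18666) (iv F71659)
theorem F73743 : act 8 n18820 = n18297 := d34_2 (iv F71660) D18820 (iv D18297)
def n18821 : Q := act 3 n18294
theorem D18821 : act 3 n18294 = n18821 := rfl
theorem F73744 : act 1 n18821 = n18295 := d9_1 D18821 (iv D18295) (iv F71661)
theorem F73745 : act 4 n18821 = n18821 := d21_2 D18294 D18821 (iv D18821) (iv D18294) F69440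
def n18822 : Q := act 5 n18294
theorem D18822 : act 5 n18294 = n18822 := rfl
theorem F73746 : act 1 n18822 = n18296 := d11_1 D18822 (iv D18296) (iv F71661)
theorem F73747 : act 2 n18822 = n18318 := d17_1 D18822 (iv D18318) (iv F71662)
theorem F73748 : act 7 n18822 = n18298 := d31_2 (iv F71663) D18822 (iv D18298)
def n18823 : Q := act 5 n18295
theorem D18823 : act 5 n18295 = n18823 := rfl
theorem F73749 : act 2 n18823 = n18667 := d17_1 D18823 (iv D18667) (iv F71664)
theorem F73750 : act 3 n18823 = n18296 := d22_1 D18823 (iv D18296) D18295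
def n18824 : Q := act 7 n18295
theorem D18824 : act 7 n18295 = n18824 := rfl
theorem F73751 : act 2 n18824 = n18510 := d19_1 D18824 F72550 (iv F71664)
theorem F73752 : act 3 n18824 = n18300 := d24_1 D18824 (iv D18300) (iv D17699) (iv F69443) D18295
theorem F73753 : act 4 n18824 = n18824 := d28_1 D18824 (iv D18824) F71665
def n18825 : Q := act 6 n18296
theorem D18825 : act 6 n18296 = n18825 := rfl
theorem F73754 : act 2 n18825 = n18297 := d18_1 D18825 (iv D18297) (iv F71666)
theorem F73755 : act 7 n18825 = n18301 := d33_2 (iv F71667) D18825 (iv D18301)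
def n18826 : Q := act 6 n18298
theorem D18826 : act 6 n18298 = n18826 := rfl
theorem F73756 : act 1 n18826 = n18301 := d12_1 D18826 (iv D18301) (iv F71671)
theorem F73757 : act 2 n18826 = n18322 := d18_1 D18826 (iv D18322) (iv F71672)
def n18827 : Q := act 6 n18299
theorem D18827 : act 6 n18299 = n18827 := rfl
theorem F73758 : act 2 n18827 = n18303 := d18_1 D18827 (iv D18303) (iv F71673)
theorem F73759 : act 3 n18827 = n18301 := d23_1 D18827 (iv D18301) (iv F71674)
def n18828 : Q := act 7 n18299
theorem D18828 : act 7 n18299 = n18828 := rfl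
theorem F73760 : act 2 n18828 = n18304 := d19_1 D18828 (iv D18304) (iv F71673)
theorem F73761 : act 5 n18828 = n18300 := d31_1 D18828 (iv D18300) D18299
def n18829 : Q := act 8 n18300
theorem D18829 : act 8 n18300 = n18829 := rfl
theorem F73762 : act 1 n18829 = n18740 := d14_1 D18829 F73457 F72738
theorem F73763 : act 2 n18829 = n18305 := d20_1 D18829 (iv D18305) (iv F71675)
theorem F73764 : act 4 n18829 = n18327 := d29_1 D18829 (iv D18327) (iv F71676)
def n18830 : Q := act 6 n18302
theorem D18830 : act 6 n18302 = n18830 := rfl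
theorem F73765 : act 0 n18830 = n18322 := d5_1 D18830 (iv D18322) (iv F71678)
theorem F73766 : act 1 n18830 = n18387 := d12_1 D18830 (iv D18387) (iv F71679)
theorem F73767 : act 4 n18830 = n18303 := d27_1 D18830 (iv D18303) D18302
def n18831 : Q := act 7 n18302
theorem D18831 : act 7 n18302 = n18831 := rfl
theorem F73768 : act 0 n18831 = n18318 := d6_1 D18831 F71732 (iv F71678)
theorem F73769 : act 1 n18831 = n18379 := d13_1 D18831 F71928 (iv F71679)
theorem F73770 : act 4 n18831 = n18304 := d28_1 D18831 (iv D18304) D18302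
theorem F73771 : act 5 n18831 = n18316 := d31_1 D18831 F71726 (iv F71680)
def n18832 : Q := act 7 n18303
theorem D18832 : act 7 n18303 = n18832 := rfl
theorem F73772 : act 3 n18832 = n18670 := d24_1 D18832 (iv D18670) F71031 (iv F69458) (iv F71681)
theorem F73773 : act 6 n18832 = n18304 := d33_1 D18832 (iv D18304) D18303
def n18833 : Q := act 8 n18304
theorem D18833 : act 8 n18304 = n18833 := rfl
theorem F73774 : act 1 n18833 = n18752 := d14_1 D18833 F73493 F72273
theorem F73775 : act 3 n18833 = n18671 := d25_1 D18833 (iv D18671) (iv F71682)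
theorem F73776 : act 5 n18833 = n18305 := d32_1 D18833 (iv D18305) (iv F71683)
def n18834 : Q := act 6 n18306
theorem D18834 : act 6 n18306 = n18834 := rfl
theorem F73777 : act 0 n18834 = n18362 := d5_1 D18834 (iv D18362) (iv F71687)
theorem F73778 : act 2 n18834 = n18573 := d18_1 D18834 (iv D18573) (iv F71688)
theorem F73779 : act 3 n18834 = n18310 := d23_1 D18834 (iv D18310) (iv F71689)
theorem F73780 : act 4 n18834 = n18672 := d27_1 D18834 (iv D18672) (iv F71690)
theorem F73781 : act 7 n18834 = n18782 := d33_2 (iv F71691) D18834 (iv D18782)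
def n18835 : Q := act 5 n18307
theorem D18835 : act 5 n18307 = n18835 := rfl
theorem F73782 : act 0 n18835 = n18367 := d4_1 D18835 (iv D18367) (iv F71692)
theorem F73783 : act 2 n18835 = n18308 := d17_1 D18835 (iv D18308) (iv F71693)
theorem F73784 : act 3 n18835 = n18576 := d22_1 D18835 (iv D18576) (iv F71694)
theorem F73785 : act 4 n18835 = n18314 := d26_1 D18835 (iv D18314) (iv D17711) (iv F69465) D18307
theorem F73786 : act 8 n18835 = n18309 := d32_2 (iv F71695) D18835 (iv D18309)
def n18836 : Q := act 6 n18308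
theorem D18836 : act 6 n18308 = n18836 := rfl
theorem F73787 : act 0 n18836 = n18368 := d5_1 D18836 (iv D18368) (iv F71696)
theorem F73788 : act 4 n18836 = n18315 := d27_1 D18836 (iv D18315) (iv F71697)
theorem F73789 : act 8 n18836 = n18310 := d34_2 (iv F71698) D18836 (iv D18310)
def n18837 : Q := act 6 n18309
theorem D18837 : act 6 n18309 = n18837 := rfl
theorem F73790 : act 0 n18837 = n18371 := d5_1 D18837 (iv D18371) (iv F71699)
theorem F73791 : act 2 n18837 = n18310 := d18_1 D18837 (iv D18310) (iv F71700)
theorem F73792 : act 3 n18837 = n18579 := d23_1 D18837 (iv D18579) (iv F71701)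
theorem F73793 : act 4 n18837 = n18320 := d27_1 D18837 (iv D18320) (iv F71702)
theorem F73794 : act 7 n18837 = n18321 := d33_2 (iv F71703) D18837 (iv D18321)
def n18838 : Q := act 4 n18311
theorem D18838 : act 4 n18311 = n18838 := rfl
theorem F73795 : act 0 n18838 = n18312 := d3_1 D18838 (iv D18312) D18311
theorem F73796 : act 1 n18838 = n18372 := d10_1 D18838 (iv D18372) (iv F71707)
theorem F73797 : act 8 n18838 = n18316 := d29_2 (iv F71710) D18838 (iv D18316)
def n18839 : Q := act 3 n18312
theorem D18839 : act 3 n18312 = n18839 := rfl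
theorem F73798 : act 1 n18839 = n18313 := d9_1 D18839 (iv D18313) (iv F71711)
theorem F73799 : act 4 n18839 = n18324 := d21_2 D18312 D18839 (iv D18324) (iv D17724) (iv F69476)
theorem F73800 : act 6 n18839 = n18718 := d23_2 F73552 D18839 (iv F73551)
theorem F73801 : act 8 n18839 = n18317 := d25_2 (iv F71712) D18839 (iv D18317)
def n18840 : Q := act 5 n18312
theorem D18840 : act 5 n18312 = n18840 := rfl
theorem F73802 : act 1 n18840 = n18314 := d11_1 D18840 (iv D18314) (iv F71711)
theorem F73803 : act 8 n18840 = n18318 := d32_2 (iv F71712) D18840 (iv D18318)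
def n18841 : Q := act 5 n18313
theorem D18841 : act 5 n18313 = n18841 := rfl
theorem F73804 : act 0 n18841 = n18375 := d4_1 D18841 (iv D18375) (iv F71713)
theorem F73805 : act 2 n18841 = n18676 := d17_1 D18841 (iv D18676) (iv F71714)
theorem F73806 : act 3 n18841 = n18314 := d22_1 D18841 (iv D18314) D18313
theorem F73807 : act 4 n18841 = n18583 := d26_1 D18841 (iv D18583) F70637 (iv F69524) (iv F71715)
theorem F73808 : act 8 n18841 = n18319 := d32_2 (iv F71717) D18841 (iv D18319)
def n18842 : Q := act 6 n18314
theorem D18842 : act 6 n18314 = n18842 := rfl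
theorem F73809 : act 0 n18842 = n18377 := d5_1 D18842 (iv D18377) (iv F71718)
theorem F73810 : act 2 n18842 = n18315 := d18_1 D18842 (iv D18315) (iv F71719)
theorem F73811 : act 8 n18842 = n18320 := d34_2 (iv F71720) D18842 (iv D18320)
def n18843 : Q := act 3 n18316
theorem D18843 : act 3 n18316 = n18843 := rfl
theorem F73812 : act 0 n18843 = n18317 := d2_1 D18843 (iv D18317) (iv F71724)
theorem F73813 : act 1 n18843 = n18378 := d9_1 D18843 (iv D18378) (iv F71725)
theorem F73814 : act 4 n18843 = n18325 := d21_2 D18316 D18843 (iv D18325) (iv D17726) (iv F69485)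
theorem F73815 : act 6 n18843 = n18721 := d23_2 F72644 D18843 F73389
theorem F73816 : act 7 n18843 = n18691 := d24_2 (iv F71726) D18843 F73274 F72302 F70105
def n18844 : Q := act 5 n18317
theorem D18844 : act 5 n18317 = n18844 := rfl
theorem F73817 : act 1 n18844 = n18319 := d11_1 D18844 (iv D18319) (iv F71727)
theorem F73818 : act 3 n18844 = n18318 := d22_1 D18844 (iv D18318) D18317
theorem F73819 : act 4 n18844 = n18589 := d26_1 D18844 (iv D18589) F70646 (iv F69534) (iv F71728)
theorem F73820 : act 7 n18844 = n18692 := d31_2 (iv F71730) D18844 (iv D18692)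
def n18845 : Q := act 6 n18318
theorem D18845 : act 6 n18318 = n18845 := rfl
theorem F73821 : act 1 n18845 = n18320 := d12_1 D18845 (iv D18320) (iv F71731)
theorem F73822 : act 7 n18845 = n18322 := d33_2 (iv F71732) D18845 (iv D18322)
def n18846 : Q := act 6 n18319
theorem D18846 : act 6 n18319 = n18846 := rfl
theorem F73823 : act 0 n18846 = n18382 := d5_1 D18846 (iv D18382) (iv F71733)
theorem F73824 : act 2 n18846 = n18678 := d18_1 D18846 (iv D18678) (iv F71734)
theorem F73825 : act 3 n18846 = n18320 := d23_1 D18846 (iv D18320) (iv F71735)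
theorem F73826 : act 4 n18846 = n18591 := d27_1 D18846 (iv D18591) (iv F71736)
theorem F73827 : act 5 n18846 = n18723 := d30_1 D18846 (iv D18723) (iv D18172) (iv F69493) D18319
theorem F73828 : act 7 n18846 = n18693 := d33_2 (iv F71737) D18846 (iv D18693)
def n18847 : Q := act 3 n18323
theorem D18847 : act 3 n18323 = n18847 := rfl
theorem F73829 : act 0 n18847 = n18324 := d2_1 D18847 (iv D18324) (iv F71745)
theorem F73830 : act 1 n18847 = n18388 := d9_1 D18847 (iv D18388) (iv F71746)
theorem F73831 : act 5 n18847 = n18594 := d22_2 (iv F71748) D18847 (iv D18594)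
theorem F73832 : act 6 n18847 = n18717 := d23_2 (iv F71749) D18847 F73379
theorem F73833 : act 8 n18847 = n18325 := d25_2 (iv F71751) D18847 (iv D18325)
def n18848 : Q := act 3 n18328
theorem D18848 : act 3 n18328 = n18848 := rfl
theorem F73834 : act 0 n18848 = n18785 := d2_1 D18848 (iv D18785) (iv F71767)
theorem F73835 : act 2 n18848 = n18602 := d15_1 D18848 (iv D18602) F70739 (iv F69549) (iv F71768)
theorem F73836 : act 4 n18848 = n18848 := d21_2 D18328 D18848 (iv D18848) (iv D18328) F69543
theorem F73837 : act 6 n18848 = n18615 := d23_2 (iv F71769) D18848 (iv D18615)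
def n18849 : Q := act 5 n18328
theorem D18849 : act 5 n18328 = n18849 := rfl
theorem F73838 : act 0 n18849 = n18786 := d4_1 D18849 (iv D18786) (iv F71767)
theorem F73839 : act 2 n18849 = n18329 := d17_1 D18849 (iv D18329) (iv F71768)
theorem F73840 : act 4 n18849 = n18336 := d26_1 D18849 (iv D18336) (iv D17736) (iv F69544) D18328
theorem F73841 : act 7 n18849 = n18343 := d31_2 (iv F71770) D18849 (iv D18343)
def n18850 : Q := act 6 n18329
theorem D18850 : act 6 n18329 = n18850 := rfl
theorem F73842 : act 0 n18850 = n18787 := d5_1 D18850 (iv D18787) (iv F71771)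
theorem F73843 : act 1 n18850 = n18605 := d12_1 D18850 (iv D18605) (iv F71772)
theorem F73844 : act 3 n18850 = n18604 := d23_1 D18850 (iv D18604) (iv F71773)
theorem F73845 : act 4 n18850 = n18337 := d27_1 D18850 (iv D18337) (iv F71774)
theorem F73846 : act 5 n18850 = n18617 := d30_1 D18850 (iv D18617) (iv D18044) (iv F69550) D18329
theorem F73847 : act 7 n18850 = n18344 := d33_2 (iv F71775) D18850 (iv D18344)
def n18851 : Q := act 0 n18330
theorem D18851 : act 0 n18330 = n18851 := rfl
theorem F73848 : act 2 n18851 = n18847 := d1_2 (iv F71776) D18851 F73829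
theorem F73849 : act 3 n18851 = n18851 := d2_2 F71777 D18851 (iv D18851)
theorem F73850 : act 7 n18851 = n18717 := d6_2 (iv F71778) D18851 (iv D18717)
theorem F73851 : act 8 n18851 = n18333 := d7_2 (iv F71779) D18851 (iv D18333)
def n18852 : Q := act 4 n18330
theorem D18852 : act 4 n18330 = n18852 := rfl
theorem F73852 : act 1 n18852 = n18331 := d10_1 D18852 (iv D18331) D18330
theorem F73853 : act 2 n18852 = n18839 := d16_1 D18852 F73799 (iv F71776)
theorem F73854 : act 7 n18852 = n18718 := d28_2 (iv F71778) D18852 (iv D18718)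
theorem F73855 : act 8 n18852 = n18334 := d29_2 (iv F71779) D18852 (iv D18334)
def n18853 : Q := act 3 n18331
theorem D18853 : act 3 n18331 = n18853 := rfl
theorem F73856 : act 2 n18853 = n18355 := d15_1 D18853 (iv D18355) F69624 (iv F69555) (iv F71780)
theorem F73857 : act 4 n18853 = n18853 := d21_2 D18331 D18853 (iv D18853) (iv D18331) F69552
theorem F73858 : act 8 n18853 = n18335 := d25_2 (iv F71782) D18853 (iv D18335)
def n18854 : Q := act 5 n18331
theorem D18854 : act 5 n18331 = n18854 := rfl
theorem F73859 : act 2 n18854 = n18332 := d17_1 D18854 (iv D18332) (iv F71780)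
theorem F73860 : act 7 n18854 = n18719 := d31_2 (iv F71781) D18854 (iv D18719)
theorem F73861 : act 8 n18854 = n18336 := d32_2 (iv F71782) D18854 (iv D18336)
def n18855 : Q := act 6 n18332
theorem D18855 : act 6 n18332 = n18855 := rfl
theorem F73862 : act 3 n18855 = n18357 := d23_1 D18855 (iv D18357) (iv F71783)
theorem F73863 : act 7 n18855 = n18720 := d33_2 (iv F71784) D18855 (iv D18720)
theorem F73864 : act 8 n18855 = n18337 := d34_2 (iv F71785) D18855 (iv D18337)
def n18856 : Q := act 4 n18333
theorem D18856 : act 4 n18333 = n18856 := rfl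
theorem F73865 : act 0 n18856 = n18334 := d3_1 D18856 (iv D18334) D18333
theorem F73866 : act 2 n18856 = n18843 := d16_1 D18856 F73814 (iv F71786)
theorem F73867 : act 7 n18856 = n18345 := d28_2 (iv F71788) D18856 (iv D18345)
def n18857 : Q := act 3 n18334
theorem D18857 : act 3 n18334 = n18857 := rfl
theorem F73868 : act 1 n18857 = n18335 := d9_1 D18857 (iv D18335) (iv F71789)
theorem F73869 : act 2 n18857 = n18821 := d15_1 D18857 (iv D18821) F71662 D18317 (iv F71790)
theorem F73870 : act 4 n18857 = n18857 := d21_2 D18334 D18857 (iv D18857) (iv D18334) F69559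
def n18858 : Q := act 5 n18334
theorem D18858 : act 5 n18334 = n18858 := rfl
theorem F73871 : act 1 n18858 = n18336 := d11_1 D18858 (iv D18336) (iv F71789)
theorem F73872 : act 2 n18858 = n18844 := d17_1 D18858 (iv D18844) (iv F71790)
theorem F73873 : act 7 n18858 = n18346 := d31_2 (iv F71791) D18858 (iv D18346)
def n18859 : Q := act 5 n18335
theorem D18859 : act 5 n18335 = n18859 := rfl
theorem F73874 : act 2 n18859 = n18358 := d17_1 D18859 (iv D18358) (iv F71792)
theorem F73875 : act 3 n18859 = n18336 := d22_1 D18859 (iv D18336) D18335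
def n18860 : Q := act 6 n18336
theorem D18860 : act 6 n18336 = n18860 := rfl
theorem F73876 : act 2 n18860 = n18337 := d18_1 D18860 (iv D18337) (iv F71794)
theorem F73877 : act 7 n18860 = n18347 := d33_2 (iv F71795) D18860 (iv D18347)
def n18861 : Q := act 5 n18338
theorem D18861 : act 5 n18338 = n18861 := rfl
theorem F73878 : act 2 n18861 = n18339 := d17_1 D18861 (iv D18339) (iv F71798)
theorem F73879 : act 4 n18861 = n18777 := d26_1 D18861 (iv D18777) F71489 (iv F69566) D18338
theorem F73880 : act 7 n18861 = n18616 := d31_2 (iv F71800) D18861 (iv D18616)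
theorem F73881 : act 8 n18861 = n18724 := d32_2 (iv F71801) D18861 (iv D18724)
def n18862 : Q := act 6 n18339
theorem D18862 : act 6 n18339 = n18862 := rfl
theorem F73882 : act 1 n18862 = n18621 := d12_1 D18862 (iv D18621) (iv F71802)
theorem F73883 : act 3 n18862 = n18633 := d23_1 D18862 (iv D18633) (iv F71803)
theorem F73884 : act 5 n18862 = n18344 := d30_1 D18862 (iv D18344) (iv D17742) (iv F69572) D18339
theorem F73885 : act 7 n18862 = n18617 := d33_2 (iv F71804) D18862 (iv D18617)
theorem F73886 : act 8 n18862 = n18725 := d34_2 (iv F71805) D18862 (iv D18725)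
def n18863 : Q := act 4 n18340
theorem D18863 : act 4 n18340 = n18863 := rfl
theorem F73887 : act 0 n18863 = n18341 := d3_1 D18863 (iv D18341) D18340
theorem F73888 : act 2 n18863 = n18378 := d16_1 D18863 F71926 (iv F71806)
theorem F73889 : act 3 n18863 = n18711 := d21_1 D18863 (iv D18711) F71227 (iv F69594) (iv F71807)
theorem F73890 : act 6 n18863 = n18798 := d27_2 (iv F71809) D18863 F73677
theorem F73891 : act 8 n18863 = n18714 := d29_2 (iv F71810) D18863 F73370
def n18864 : Q := act 5 n18341
theorem D18864 : act 5 n18341 = n18864 := rfl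
theorem F73892 : act 1 n18864 = n18343 := d11_1 D18864 (iv D18343) (iv F71811)
theorem F73893 : act 2 n18864 = n18380 := d17_1 D18864 (iv D18380) (iv F71812)
theorem F73894 : act 3 n18864 = n18861 := d22_1 D18864 (iv D18861) (iv F71813)
theorem F73895 : act 4 n18864 = n18346 := d26_1 D18864 (iv D18346) (iv D17744) (iv F69577) D18341
theorem F73896 : act 8 n18864 = n18726 := d32_2 (iv F71814) D18864 (iv D18726)
def n18865 : Q := act 5 n18342
theorem D18865 : act 5 n18342 = n18865 := rfl
theorem F73897 : act 1 n18865 = n18861 := d11_1 D18865 (iv D18861) (iv F71815)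
theorem F73898 : act 2 n18865 = n18779 := d17_1 D18865 (iv D18779) (iv F71816)
theorem F73899 : act 3 n18865 = n18343 := d22_1 D18865 (iv D18343) D18342
theorem F73900 : act 8 n18865 = n18727 := d32_2 (iv F71819) D18865 (iv D18727)
def n18866 : Q := act 6 n18343
theorem D18866 : act 6 n18343 = n18866 := rfl
theorem F73901 : act 2 n18866 = n18344 := d18_1 D18866 (iv D18344) (iv F71820)
theorem F73902 : act 4 n18866 = n18347 := d27_1 D18866 (iv D18347) (iv F71821)
theorem F73903 : act 8 n18866 = n18728 := d34_2 (iv F71822) D18866 (iv D18728)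
def n18867 : Q := act 5 n18345
theorem D18867 : act 5 n18345 = n18867 := rfl
theorem F73904 : act 0 n18867 = n18346 := d4_1 D18867 (iv D18346) (iv F71827)
theorem F73905 : act 8 n18867 = n18729 := d32_2 (iv F71828) D18867 (iv D18729)
def n18868 : Q := act 6 n18346
theorem D18868 : act 6 n18346 = n18868 := rfl
theorem F73906 : act 1 n18868 = n18347 := d12_1 D18868 (iv D18347) (iv F71829)
theorem F73907 : act 8 n18868 = n18730 := d34_2 (iv F71830) D18868 (iv D18730)
def n18869 : Q := act 3 n18348
theorem D18869 : act 3 n18348 = n18869 := rfl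
theorem F73908 : act 0 n18869 = n18519 := d2_1 D18869 (iv D18519) (iv F71833)
theorem F73909 : act 1 n18869 = n18680 := d9_1 D18869 (iv D18680) (iv F71834)
theorem F73910 : act 2 n18869 = n18352 := d15_1 D18869 (iv D18352) F69620 (iv F69611) (iv F71835)
theorem F73911 : act 4 n18869 = n18869 := d21_2 D18348 D18869 (iv D18869) (iv D18348) F69605
theorem F73912 : act 6 n18869 = n18638 := d23_2 (iv F71836) D18869 (iv D18638)
theorem F73913 : act 7 n18869 = n18545 := d24_2 (iv F71837) D18869 (iv D18545) F70518 (iv F69966)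
def n18870 : Q := act 5 n18348
theorem D18870 : act 5 n18348 = n18870 := rfl
theorem F73914 : act 0 n18870 = n18520 := d4_1 D18870 (iv D18520) (iv F71833)
theorem F73915 : act 1 n18870 = n18681 := d11_1 D18870 (iv D18681) (iv F71834)
theorem F73916 : act 2 n18870 = n18349 := d17_1 D18870 (iv D18349) (iv F71835)
theorem F73917 : act 4 n18870 = n18603 := d26_1 D18870 (iv D18603) (iv D18032) (iv F69606) D18348
theorem F73918 : act 7 n18870 = n18436 := d31_2 (iv F71837) D18870 (iv D18436)
def n18871 : Q := act 6 n18349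
theorem D18871 : act 6 n18349 = n18871 := rfl
theorem F73919 : act 0 n18871 = n18521 := d5_1 D18871 (iv D18521) (iv F71838)
theorem F73920 : act 1 n18871 = n18601 := d12_1 D18871 (iv D18601) (iv F71839)
theorem F73921 : act 3 n18871 = n18354 := d23_1 D18871 (iv D18354) (iv F71840)
theorem F73922 : act 4 n18871 = n18604 := d27_1 D18871 (iv D18604) (iv F71841)
theorem F73923 : act 5 n18871 = n18640 := d30_1 D18871 (iv D18640) (iv D18075) (iv F69612) D18349
theorem F73924 : act 7 n18871 = n18437 := d33_2 (iv F71842) D18871 (iv D18437)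
def n18872 : Q := act 3 n18350
theorem D18872 : act 3 n18350 = n18872 := rfl
theorem F73925 : act 4 n18872 = n18872 := d21_2 D18350 D18872 (iv D18872) (iv D18350) F69614
theorem F73926 : act 8 n18872 = n18352 := d25_2 (iv F71845) D18872 (iv D18352)
def n18873 : Q := act 5 n18350
theorem D18873 : act 5 n18350 = n18873 := rfl
theorem F73927 : act 2 n18873 = n18351 := d17_1 D18873 (iv D18351) (iv F71843)
theorem F73928 : act 4 n18873 = n18356 := d26_1 D18873 (iv D18356) (iv D17755) (iv F69615) D18350
theorem F73929 : act 7 n18873 = n18367 := d31_2 (iv F71844) D18873 (iv D18367)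
theorem F73930 : act 8 n18873 = n18353 := d32_2 (iv F71845) D18873 (iv D18353)
def n18874 : Q := act 6 n18351
theorem D18874 : act 6 n18351 = n18874 := rfl
theorem F73931 : act 4 n18874 = n18357 := d27_1 D18874 (iv D18357) (iv F71846)
theorem F73932 : act 7 n18874 = n18368 := d33_2 (iv F71847) D18874 (iv D18368)
theorem F73933 : act 8 n18874 = n18354 := d34_2 (iv F71848) D18874 (iv D18354)
def n18875 : Q := act 5 n18352
theorem D18875 : act 5 n18352 = n18875 := rfl
theorem F73934 : act 3 n18875 = n18353 := d22_1 D18875 (iv D18353) D18352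
def n18876 : Q := act 6 n18353
theorem D18876 : act 6 n18353 = n18876 := rfl
theorem F73935 : act 2 n18876 = n18354 := d18_1 D18876 (iv D18354) (iv F71850)
theorem F73936 : act 4 n18876 = n18359 := d27_1 D18876 (iv D18359) (iv F71851)
theorem F73937 : act 7 n18876 = n18360 := d33_2 (iv F71852) D18876 (iv D18360)
def n18877 : Q := act 5 n18355
theorem D18877 : act 5 n18355 = n18877 := rfl
theorem F73938 : act 3 n18877 = n18356 := d22_1 D18877 (iv D18356) D18355
theorem F73939 : act 8 n18877 = n18358 := d32_2 (iv F71856) D18877 (iv D18358)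
def n18878 : Q := act 7 n18355
theorem D18878 : act 7 n18355 = n18878 := rfl
theorem F73940 : act 3 n18878 = n18376 := d24_1 D18878 (iv D18376) (iv D17776) (iv F69625) D18355
theorem F73941 : act 4 n18878 = n18878 := d28_1 D18878 (iv D18878) F71855
def n18879 : Q := act 6 n18356
theorem D18879 : act 6 n18356 = n18879 := rfl
theorem F73942 : act 2 n18879 = n18357 := d18_1 D18879 (iv D18357) (iv F71857)
theorem F73943 : act 7 n18879 = n18377 := d33_2 (iv F71858) D18879 (iv D18377)
theorem F73944 : act 8 n18879 = n18359 := d34_2 (iv F71859) D18879 (iv D18359)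
def n18880 : Q := act 4 n18358
theorem D18880 : act 4 n18358 = n18880 := rfl
theorem F73945 : act 5 n18880 = n18880 := d26_2 D18358 D18880 (iv D18880) (iv D18358) F69629
def n18881 : Q := act 6 n18358
theorem D18881 : act 6 n18358 = n18881 := rfl
theorem F73946 : act 3 n18881 = n18359 := d23_1 D18881 (iv D18359) (iv F71862)
def n18882 : Q := act 6 n18361
theorem D18882 : act 6 n18361 = n18882 := rfl
theorem F73947 : act 0 n18882 = n18573 := d5_1 D18882 (iv D18573) (iv F71868)
theorem F73948 : act 2 n18882 = n18362 := d18_1 D18882 (iv D18362) (iv F71869)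
theorem F73949 : act 3 n18882 = n18451 := d23_1 D18882 (iv D18451) (iv F71870)
theorem F73950 : act 4 n18882 = n18782 := d27_1 D18882 (iv D18782) (iv F71871)
theorem F73951 : act 7 n18882 = n18672 := d33_2 (iv F71872) D18882 (iv D18672)
def n18883 : Q := act 6 n18363
theorem D18883 : act 6 n18363 = n18883 := rfl
theorem F73952 : act 2 n18883 = n18364 := d18_1 D18883 (iv D18364) (iv F71875)
theorem F73953 : act 5 n18883 = n18371 := d30_1 D18883 (iv D18371) (iv D17772) (iv F69647) D18363
theorem F73954 : act 7 n18883 = n18383 := d33_2 (iv F71876) D18883 (iv D18383)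
def n18884 : Q := act 5 n18365
theorem D18884 : act 5 n18365 = n18884 := rfl
theorem F73955 : act 0 n18884 = n18752 := d4_1 D18884 (iv D18752) (iv F71879)
theorem F73956 : act 1 n18884 = n18367 := d11_1 D18884 (iv D18367) (iv F71880)
theorem F73957 : act 2 n18884 = n18634 := d17_1 D18884 (iv D18634) (iv F71881)
theorem F73958 : act 3 n18884 = n18756 := d22_1 D18884 (iv D18756) (iv F71882)
theorem F73959 : act 4 n18884 = n18374 := d26_1 D18884 (iv D18374) (iv D17775) (iv F69652) D18365
theorem F73960 : act 8 n18884 = n18369 := d32_2 (iv F71883) D18884 (iv D18369)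
def n18885 : Q := act 5 n18366
theorem D18885 : act 5 n18366 = n18885 := rfl
theorem F73961 : act 0 n18885 = n18576 := d4_1 D18885 (iv D18576) (iv F71884)
theorem F73962 : act 1 n18885 = n18756 := d11_1 D18885 (iv D18756) (iv F71885)
theorem F73963 : act 2 n18885 = n18450 := d17_1 D18885 (iv D18450) (iv F71886)
theorem F73964 : act 3 n18885 = n18367 := d22_1 D18885 (iv D18367) D18366
theorem F73965 : act 4 n18885 = n18452 := d26_1 D18885 (iv D18452) (iv D17864) (iv F69715) (iv F71887)
theorem F73966 : act 8 n18885 = n18370 := d32_2 (iv F71889) D18885 (iv D18370)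
def n18886 : Q := act 6 n18367
theorem D18886 : act 6 n18367 = n18886 := rfl
theorem F73967 : act 2 n18886 = n18368 := d18_1 D18886 (iv D18368) (iv F71890)
theorem F73968 : act 4 n18886 = n18377 := d27_1 D18886 (iv D18377) (iv F71891)
theorem F73969 : act 8 n18886 = n18371 := d34_2 (iv F71892) D18886 (iv D18371)
def n18887 : Q := act 6 n18369
theorem D18887 : act 6 n18369 = n18887 := rfl
theorem F73970 : act 1 n18887 = n18371 := d12_1 D18887 (iv D18371) (iv F71895)
theorem F73971 : act 3 n18887 = n18883 := d23_1 D18887 (iv D18883) (iv F71896)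
theorem F73972 : act 4 n18887 = n18381 := d27_1 D18887 (iv D18381) (iv F71897)
theorem F73973 : act 7 n18887 = n18384 := d33_2 (iv F71898) D18887 (iv D18384)
def n18888 : Q := act 6 n18370
theorem D18888 : act 6 n18370 = n18888 := rfl
theorem F73974 : act 0 n18888 = n18579 := d5_1 D18888 (iv D18579) (iv F71899)
theorem F73975 : act 1 n18888 = n18883 := d12_1 D18888 (iv D18883) (iv F71900)
theorem F73976 : act 2 n18888 = n18451 := d18_1 D18888 (iv D18451) (iv F71901)
theorem F73977 : act 3 n18888 = n18371 := d23_1 D18888 (iv D18371) (iv F71902)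
theorem F73978 : act 4 n18888 = n18456 := d27_1 D18888 (iv D18456) (iv F71903)
theorem F73979 : act 5 n18888 = n18887 := d30_1 D18888 (iv D18887) (iv D18369) (iv F69666) D18370
theorem F73980 : act 7 n18888 = n18458 := d33_2 (iv F71904) D18888 (iv D18458)
def n18889 : Q := act 3 n18372
theorem D18889 : act 3 n18372 = n18889 := rfl
theorem F73981 : act 0 n18889 = n18373 := d2_1 D18889 (iv D18373) (iv F71908)
theorem F73982 : act 2 n18889 = n18714 := d15_1 D18889 (iv D18714) F71242 (iv F71222) (iv F71909)
theorem F73983 : act 4 n18889 = n18388 := d21_2 D18372 D18889 (iv D18388) (iv D17793) (iv F69674)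
theorem F73984 : act 8 n18889 = n18378 := d25_2 (iv F71910) D18889 (iv D18378)
def n18890 : Q := act 5 n18372
theorem D18890 : act 5 n18372 = n18890 := rfl
theorem F73985 : act 0 n18890 = n18374 := d4_1 D18890 (iv D18374) (iv F71908)
theorem F73986 : act 2 n18890 = n18709 := d17_1 D18890 (iv D18709) (iv F71909)
theorem F73987 : act 4 n18890 = n18752 := d26_1 D18890 (iv D18752) (iv D18205) (iv F69675) D18372
theorem F73988 : act 8 n18890 = n18379 := d32_2 (iv F71910) D18890 (iv D18379)
def n18891 : Q := act 5 n18373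
theorem D18891 : act 5 n18373 = n18891 := rfl
theorem F73989 : act 1 n18891 = n18375 := d11_1 D18891 (iv D18375) (iv F71911)
theorem F73990 : act 2 n18891 = n18726 := d17_1 D18891 (iv D18726) (iv F71912)
theorem F73991 : act 3 n18891 = n18374 := d22_1 D18891 (iv D18374) D18373
theorem F73992 : act 4 n18891 = n18707 := d26_1 D18891 (iv D18707) (iv D18158) (iv F69725) (iv F71913)
theorem F73993 : act 8 n18891 = n18380 := d32_2 (iv F71914) D18891 (iv D18380)
def n18892 : Q := act 7 n18373
theorem D18892 : act 7 n18373 = n18892 := rfl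
theorem F73994 : act 1 n18892 = n18376 := d13_1 D18892 (iv D18376) (iv F71911)
theorem F73995 : act 2 n18892 = n18713 := d19_1 D18892 F73368 (iv F71912)
theorem F73996 : act 4 n18892 = n18389 := d28_1 D18892 (iv D18389) (iv F71913)
def n18893 : Q := act 6 n18374
theorem D18893 : act 6 n18374 = n18893 := rfl
theorem F73997 : act 1 n18893 = n18377 := d12_1 D18893 (iv D18377) (iv F71915)
theorem F73998 : act 8 n18893 = n18381 := d34_2 (iv F71916) D18893 (iv D18381)
def n18894 : Q := act 6 n18375
theorem D18894 : act 6 n18375 = n18894 := rfl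
theorem F73999 : act 2 n18894 = n18705 := d18_1 D18894 (iv D18705) (iv F71917)
theorem F74000 : act 3 n18894 = n18377 := d23_1 D18894 (iv D18377) (iv F71918)
theorem F74001 : act 4 n18894 = n18708 := d27_1 D18894 (iv D18708) (iv F71919)
theorem F74002 : act 8 n18894 = n18382 := d34_2 (iv F71920) D18894 (iv D18382)
def n18895 : Q := act 7 n18375
theorem D18895 : act 7 n18375 = n18895 := rfl
theorem F74003 : act 2 n18895 = n18696 := d19_1 D18895 F73294 (iv F71917)
theorem F74004 : act 4 n18895 = n18703 := d28_1 D18895 F73325 (iv F71919)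
theorem F74005 : act 5 n18895 = n18376 := d31_1 D18895 (iv D18376) D18375
def n18896 : Q := act 5 n18378
theorem D18896 : act 5 n18378 = n18896 := rfl
theorem F74006 : act 0 n18896 = n18380 := d4_1 D18896 (iv D18380) (iv F71925)
theorem F74007 : act 3 n18896 = n18379 := d22_1 D18896 (iv D18379) D18378
def n18897 : Q := act 6 n18379
theorem D18897 : act 6 n18379 = n18897 := rfl
theorem F74008 : act 0 n18897 = n18381 := d5_1 D18897 (iv D18381) (iv F71927)
theorem F74009 : act 7 n18897 = n18387 := d33_2 (iv F71928) D18897 (iv D18387)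
def n18898 : Q := act 6 n18380
theorem D18898 : act 6 n18380 = n18898 := rfl
theorem F74010 : act 1 n18898 = n18382 := d12_1 D18898 (iv D18382) (iv F71929)
theorem F74011 : act 3 n18898 = n18381 := d23_1 D18898 (iv D18381) (iv F71930)
def n18899 : Q := act 7 n18385
theorem D18899 : act 7 n18385 = n18899 := rfl
theorem F74012 : act 0 n18899 = n18439 := d6_1 D18899 (iv F72901) F72896
theorem F74013 : act 1 n18899 = n18600 := d13_1 D18899 F72908 F72245
theorem F74014 : act 2 n18899 = n18438 := d19_1 D18899 F72217 F72195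
theorem F74015 : act 3 n18899 = n18458 := d24_1 D18899 (iv F73980) F73977 F71907 (iv F71939)
theorem F74016 : act 4 n18899 = n18599 := d28_1 D18899 F72901 F72222
theorem F74017 : act 5 n18899 = n18443 := d31_1 D18899 (iv F72908) F72907
theorem F74018 : act 6 n18899 = n18386 := d33_1 D18899 (iv D18386) D18385
theorem F74019 : act 8 n18688 = n18899 := d34_0 F74018 (iv F71946) D18688
def n18900 : Q := act 7 n18388
theorem D18900 : act 7 n18388 = n18900 := rfl
theorem F74020 : act 0 n18900 = n18389 := d6_1 D18900 (iv D18389) (iv F71948)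
theorem F74021 : act 2 n18900 = n18630 := d19_1 D18900 F73017 (iv F71949)
theorem F74022 : act 3 n18900 = n18900 := d24_1 D18900 (iv D18900) (iv D18388) F69721 D18388
theorem F74023 : act 5 n18900 = n18700 := d31_1 D18900 F73316 (iv F71950)
def n18901 : Q := act 3 n18390
theorem D18901 : act 3 n18390 = n18901 := rfl
theorem F74024 : act 0 n18901 = n18395 := d2_1 D18901 (iv D18395) (iv F71956)
theorem F74025 : act 1 n18901 = n18638 := d9_1 D18901 (iv D18638) (iv F71957)
theorem F74026 : act 2 n18901 = n18872 := d15_1 D18901 (iv D18872) F71843 (iv F69740) (iv F71958)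
theorem F74027 : act 4 n18901 = n18901 := d21_2 D18390 D18901 (iv D18901) (iv D18390) F69733
theorem F74028 : act 6 n18901 = n18680 := d23_2 (iv F71959) D18901 (iv D18680)
theorem F74029 : act 7 n18901 = n18661 := d24_2 (iv F71960) D18901 (iv D18661) F71005 (iv F69867)
theorem F74030 : act 8 n18901 = n18869 := d25_2 (iv F71961) D18901 (iv D18869)
def n18902 : Q := act 5 n18390
theorem D18902 : act 5 n18390 = n18902 := rfl
theorem F74031 : act 0 n18902 = n18396 := d4_1 D18902 (iv D18396) (iv F71956)
theorem F74032 : act 1 n18902 = n18639 := d11_1 D18902 (iv D18639) (iv F71957)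
theorem F74033 : act 2 n18902 = n18391 := d17_1 D18902 (iv D18391) (iv F71958)
theorem F74034 : act 4 n18902 = n18609 := d26_1 D18902 (iv D18609) (iv D18038) (iv F69734) D18390
theorem F74035 : act 7 n18902 = n18416 := d31_2 (iv F71960) D18902 (iv D18416)
theorem F74036 : act 8 n18902 = n18870 := d32_2 (iv F71961) D18902 (iv D18870)
def n18903 : Q := act 6 n18391
theorem D18903 : act 6 n18391 = n18903 := rfl
theorem F74037 : act 0 n18903 = n18397 := d5_1 D18903 (iv D18397) (iv F71962)
theorem F74038 : act 1 n18903 = n18464 := d12_1 D18903 (iv D18464) (iv F71963)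
theorem F74039 : act 3 n18903 = n18874 := d23_1 D18903 (iv D18874) (iv F71964)
theorem F74040 : act 4 n18903 = n18610 := d27_1 D18903 (iv D18610) (iv F71965)
theorem F74041 : act 5 n18903 = n18682 := d30_1 D18903 (iv D18682) (iv D18130) (iv F69741) D18391
theorem F74042 : act 7 n18903 = n18417 := d33_2 (iv F71966) D18903 (iv D18417)
theorem F74043 : act 8 n18903 = n18871 := d34_2 (iv F71967) D18903 (iv D18871)
def n18904 : Q := act 4 n18392
theorem D18904 : act 4 n18392 = n18904 := rfl
theorem F74044 : act 0 n18904 = n18807 := d3_1 D18904 F73707 (iv F71968)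
theorem F74045 : act 1 n18904 = n18393 := d10_1 D18904 (iv D18393) D18392
theorem F74046 : act 2 n18904 = n18405 := d16_1 D18904 (iv D18405) (iv F71969)
theorem F74047 : act 6 n18904 = n18559 := d27_2 (iv F71972) D18904 (iv D18559)
theorem F74048 : act 7 n18904 = n18648 := d28_2 (iv F71973) D18904 F73095
theorem F74049 : act 8 n18904 = n18523 := d29_2 (iv F71974) D18904 (iv D18523)
def n18905 : Q := act 3 n18393
theorem D18905 : act 3 n18393 = n18905 := rfl
theorem F74050 : act 0 n18905 = n18872 := d2_1 D18905 (iv D18872) (iv F71975)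
theorem F74051 : act 2 n18905 = n18395 := d15_1 D18905 (iv D18395) F69757 (iv F69752) (iv F71976)
theorem F74052 : act 4 n18905 = n18905 := d21_2 D18393 D18905 (iv D18905) (iv D18393) F69745
theorem F74053 : act 6 n18905 = n18560 := d23_2 (iv F71977) D18905 (iv D18560)
theorem F74054 : act 8 n18905 = n18524 := d25_2 (iv F71979) D18905 (iv D18524)
def n18906 : Q := act 5 n18393
theorem D18906 : act 5 n18393 = n18906 := rfl
theorem F74055 : act 0 n18906 = n18873 := d4_1 D18906 (iv D18873) (iv F71975)
theorem F74056 : act 2 n18906 = n18394 := d17_1 D18906 (iv D18394) (iv F71976)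
theorem F74057 : act 4 n18906 = n18810 := d26_1 D18906 (iv D18810) (iv D18283) (iv F69746) D18393
theorem F74058 : act 7 n18906 = n18835 := d31_2 (iv F71978) D18906 (iv D18835)
theorem F74059 : act 8 n18906 = n18525 := d32_2 (iv F71979) D18906 (iv D18525)
def n18907 : Q := act 6 n18394
theorem D18907 : act 6 n18394 = n18907 := rfl
theorem F74060 : act 0 n18907 = n18874 := d5_1 D18907 (iv D18874) (iv F71980)
theorem F74061 : act 1 n18907 = n18407 := d12_1 D18907 (iv D18407) (iv F71981)
theorem F74062 : act 3 n18907 = n18397 := d23_1 D18907 (iv D18397) (iv F71982)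
theorem F74063 : act 4 n18907 = n18811 := d27_1 D18907 (iv D18811) (iv F71983)
theorem F74064 : act 5 n18907 = n18562 := d30_1 D18907 (iv D18562) (iv D17982) (iv F69753) D18394
theorem F74065 : act 7 n18907 = n18836 := d33_2 (iv F71984) D18907 (iv D18836)
theorem F74066 : act 8 n18907 = n18526 := d34_2 (iv F71985) D18907 (iv D18526)
def n18908 : Q := act 5 n18395
theorem D18908 : act 5 n18395 = n18908 := rfl
theorem F74067 : act 1 n18908 = n18788 := d11_1 D18908 (iv D18788) (iv F71986)
theorem F74068 : act 3 n18908 = n18396 := d22_1 D18908 (iv D18396) D18395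
def n18909 : Q := act 7 n18395
theorem D18909 : act 7 n18395 = n18909 := rfl
theorem F74069 : act 0 n18909 = n18661 := d6_1 D18909 (iv F74029) F74024
theorem F74070 : act 1 n18909 = n18789 := d13_1 D18909 (iv D18789) (iv F71986)
theorem F74071 : act 3 n18909 = n18421 := d24_1 D18909 (iv D18421) (iv D17826) (iv F69758) D18395
theorem F74072 : act 4 n18909 = n18909 := d28_1 D18909 (iv D18909) F71987
theorem F74073 : act 6 n18909 = n18501 := d33_1 D18909 (iv F73239) F73238
def n18910 : Q := act 6 n18396
theorem D18910 : act 6 n18396 = n18910 := rfl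
theorem F74074 : act 1 n18910 = n18790 := d12_1 D18910 (iv D18790) (iv F71988)
theorem F74075 : act 2 n18910 = n18397 := d18_1 D18910 (iv D18397) (iv F71989)
theorem F74076 : act 4 n18910 = n18619 := d27_1 D18910 (iv D18619) (iv F71990)
theorem F74077 : act 7 n18910 = n18422 := d33_2 (iv F71991) D18910 (iv D18422)
def n18911 : Q := act 4 n18398
theorem D18911 : act 4 n18398 = n18911 := rfl
theorem F74078 : act 0 n18911 = n18829 := d3_1 D18911 F73764 (iv F71995)
theorem F74079 : act 1 n18911 = n18399 := d10_1 D18911 (iv D18399) D18398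
theorem F74080 : act 2 n18911 = n18648 := d16_1 D18911 F73095 (iv F71996)
theorem F74081 : act 6 n18911 = n18505 := d27_2 (iv F71999) D18911 (iv D18505)
theorem F74082 : act 7 n18911 = n18405 := d28_2 (iv F72000) D18911 (iv D18405)
theorem F74083 : act 8 n18911 = n18481 := d29_2 (iv F72001) D18911 (iv D18481)
def n18912 : Q := act 3 n18399
theorem D18912 : act 3 n18399 = n18912 := rfl
theorem F74084 : act 0 n18912 = n18470 := d2_1 D18912 (iv D18470) (iv F72002)
theorem F74085 : act 2 n18912 = n18428 := d15_1 D18912 (iv D18428) F69929 (iv F69770) (iv F72003)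
theorem F74086 : act 4 n18912 = n18912 := d21_2 D18399 D18912 (iv D18912) (iv D18399) F69763
theorem F74087 : act 6 n18912 = n18506 := d23_2 (iv F72004) D18912 (iv D18506)
theorem F74088 : act 7 n18912 = n18793 := d24_2 (iv F72005) D18912 (iv D18793) F71577 (iv F69790)
theorem F74089 : act 8 n18912 = n18482 := d25_2 (iv F72006) D18912 (iv D18482)
def n18913 : Q := act 5 n18399
theorem D18913 : act 5 n18399 = n18913 := rfl
theorem F74090 : act 0 n18913 = n18471 := d4_1 D18913 (iv D18471) (iv F72002)
theorem F74091 : act 2 n18913 = n18400 := d17_1 D18913 (iv D18400) (iv F72003)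
theorem F74092 : act 4 n18913 = n18819 := d26_1 D18913 (iv D18819) (iv D18292) (iv F69764) D18399
theorem F74093 : act 7 n18913 = n18406 := d31_2 (iv F72005) D18913 (iv D18406)
theorem F74094 : act 8 n18913 = n18483 := d32_2 (iv F72006) D18913 (iv D18483)
def n18914 : Q := act 6 n18400
theorem D18914 : act 6 n18400 = n18914 := rfl
theorem F74095 : act 0 n18914 = n18472 := d5_1 D18914 (iv D18472) (iv F72007)
theorem F74096 : act 1 n18914 = n18836 := d12_1 D18914 (iv D18836) (iv F72008)
theorem F74097 : act 3 n18914 = n18430 := d23_1 D18914 (iv D18430) (iv F72009)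
theorem F74098 : act 4 n18914 = n18820 := d27_1 D18914 (iv D18820) (iv F72010)
theorem F74099 : act 5 n18914 = n18508 := d30_1 D18914 (iv D18508) (iv D17925) (iv F69771) D18400
theorem F74100 : act 7 n18914 = n18407 := d33_2 (iv F72011) D18914 (iv D18407)
theorem F74101 : act 8 n18914 = n18484 := d34_2 (iv F72012) D18914 (iv D18484)
def n18915 : Q := act 4 n18401
theorem D18915 : act 4 n18401 = n18915 := rfl
theorem F74102 : act 0 n18915 = n18765 := d3_1 D18915 (iv D18765) (iv F72013)
theorem F74103 : act 1 n18915 = n18402 := d10_1 D18915 (iv D18402) D18401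
theorem F74104 : act 2 n18915 = n18808 := d16_1 D18915 (iv D18808) (iv F72014)
theorem F74105 : act 6 n18915 = n18838 := d27_2 (iv F72017) D18915 (iv D18838)
theorem F74106 : act 7 n18915 = n18817 := d28_2 (iv F72018) D18915 (iv D18817)
theorem F74107 : act 8 n18915 = n18530 := d29_2 (iv F72019) D18915 (iv D18530)
def n18916 : Q := act 3 n18402
theorem D18916 : act 3 n18402 = n18916 := rfl
theorem F74108 : act 0 n18916 = n18474 := d2_1 D18916 (iv D18474) (iv F72020)
theorem F74109 : act 2 n18916 = n18624 := d15_1 D18916 (iv D18624) F70807 (iv F69782) (iv F72021)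
theorem F74110 : act 4 n18916 = n18408 := d21_2 D18402 D18916 (iv D18408) (iv D17812) (iv F69775)
theorem F74111 : act 6 n18916 = n18889 := d23_2 (iv F72022) D18916 (iv D18889)
theorem F74112 : act 8 n18916 = n18531 := d25_2 (iv F72024) D18916 (iv D18531)
def n18917 : Q := act 5 n18402
theorem D18917 : act 5 n18402 = n18917 := rfl
theorem F74113 : act 0 n18917 = n18475 := d4_1 D18917 (iv D18475) (iv F72020)
theorem F74114 : act 2 n18917 = n18403 := d17_1 D18917 (iv D18403) (iv F72021)
theorem F74115 : act 4 n18917 = n18406 := d26_1 D18917 (iv D18406) (iv D17808) (iv F69776) D18402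
theorem F74116 : act 7 n18917 = n18819 := d31_2 (iv F72023) D18917 (iv D18819)
theorem F74117 : act 8 n18917 = n18532 := d32_2 (iv F72024) D18917 (iv D18532)
def n18918 : Q := act 6 n18403
theorem D18918 : act 6 n18403 = n18918 := rfl
theorem F74118 : act 0 n18918 = n18476 := d5_1 D18918 (iv D18476) (iv F72025)
theorem F74119 : act 1 n18918 = n18811 := d12_1 D18918 (iv D18811) (iv F72026)
theorem F74120 : act 3 n18918 = n18626 := d23_1 D18918 (iv D18626) (iv F72027)
theorem F74121 : act 4 n18918 = n18407 := d27_1 D18918 (iv D18407) (iv F72028)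
theorem F74122 : act 7 n18918 = n18820 := d33_2 (iv F72029) D18918 (iv D18820)
theorem F74123 : act 8 n18918 = n18533 := d34_2 (iv F72030) D18918 (iv D18533)
def n18919 : Q := act 4 n18404
theorem D18919 : act 4 n18404 = n18919 := rfl
theorem F74124 : act 0 n18919 = n18405 := d3_1 D18919 (iv D18405) D18404
theorem F74125 : act 1 n18919 = n18477 := d10_1 D18919 (iv D18477) (iv F72031)
theorem F74126 : act 2 n18919 = n18807 := d16_1 D18919 F73707 (iv F72032)
theorem F74127 : act 3 n18919 = n18801 := d21_1 D18919 (iv D18801) F71598 (iv F69814) (iv F72033)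
theorem F74128 : act 6 n18919 = n18580 := d27_2 (iv F72035) D18919 (iv D18580)
theorem F74129 : act 7 n18919 = n18829 := d28_2 (iv F72036) D18919 F73764
theorem F74130 : act 8 n18919 = n18534 := d29_2 (iv F72037) D18919 (iv D18534)
def n18920 : Q := act 5 n18405
theorem D18920 : act 5 n18405 = n18920 := rfl
theorem F74131 : act 1 n18920 = n18406 := d11_1 D18920 (iv D18406) (iv F72038)
theorem F74132 : act 3 n18920 = n18802 := d22_1 D18920 (iv D18802) (iv F72039)
theorem F74133 : act 8 n18920 = n18535 := d32_2 (iv F72041) D18920 (iv D18535)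
def n18921 : Q := act 6 n18406
theorem D18921 : act 6 n18406 = n18921 := rfl
theorem F74134 : act 0 n18921 = n18479 := d5_1 D18921 (iv D18479) (iv F72042)
theorem F74135 : act 2 n18921 = n18407 := d18_1 D18921 (iv D18407) (iv F72043)
theorem F74136 : act 3 n18921 = n18803 := d23_1 D18921 (iv D18803) (iv F72044)
theorem F74137 : act 5 n18921 = n18585 := d30_1 D18921 (iv D18585) (iv D18005) (iv F69791) D18406
theorem F74138 : act 8 n18921 = n18536 := d34_2 (iv F72045) D18921 (iv D18536)
def n18922 : Q := act 7 n18408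
theorem D18922 : act 7 n18408 = n18922 := rfl
theorem F74139 : act 0 n18922 = n18480 := d6_1 D18922 (iv D18480) (iv F72050)
theorem F74140 : act 1 n18922 = n18851 := d13_1 D18922 F73850 F73378
theorem F74141 : act 2 n18922 = n18622 := d19_1 D18922 F72992 (iv F72051)
theorem F74142 : act 3 n18922 = n18922 := d24_1 D18922 (iv D18922) (iv D18408) F69810 D18408
theorem F74143 : act 5 n18922 = n18613 := d31_1 D18922 F72966 (iv F72052)
theorem F74144 : act 6 n18922 = n18900 := d33_1 D18922 (iv D18900) (iv F72053)
theorem F74145 : act 8 n18922 = n18791 := d35_2 (iv F72054) D18922 F73651 F71599 F70813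
def n18923 : Q := act 6 n18410
theorem D18923 : act 6 n18410 = n18923 := rfl
theorem F74146 : act 0 n18923 = n18688 := d5_1 D18923 (iv D18688) (iv F72062)
theorem F74147 : act 1 n18923 = n18632 := d12_1 D18923 (iv D18632) (iv F72063)
theorem F74148 : act 2 n18923 = n18411 := d18_1 D18923 (iv D18411) (iv F72064)
theorem F74149 : act 3 n18923 = n18516 := d23_1 D18923 (iv D18516) (iv F72065)
theorem F74150 : act 4 n18923 = n18641 := d27_1 D18923 (iv D18641) (iv F72066)
theorem F74151 : act 5 n18923 = n18422 := d30_1 D18923 (iv D18422) (iv D17827) (iv F69829) D18410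
theorem F74152 : act 8 n18923 = n18439 := d34_2 (iv F72067) D18923 (iv D18439)
def n18924 : Q := act 3 n18412
theorem D18924 : act 3 n18412 = n18924 := rfl
theorem F74153 : act 0 n18924 = n18482 := d2_1 D18924 (iv D18482) (iv F72074)
theorem F74154 : act 1 n18924 = n18743 := d9_1 D18924 (iv D18743) (iv F72075)
theorem F74155 : act 2 n18924 = n18506 := d15_1 D18924 (iv D18506) F70329 (iv F69845) (iv F72076)
theorem F74156 : act 4 n18924 = n18924 := d21_2 D18412 D18924 (iv D18924) (iv D18412) F69838
theorem F74157 : act 6 n18924 = n18428 := d23_2 (iv F72077) D18924 (iv D18428)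
theorem F74158 : act 7 n18924 = n18735 := d24_2 (iv F72078) D18924 (iv D18735) F71303 (iv F69852)
theorem F74159 : act 8 n18924 = n18470 := d25_2 (iv F72079) D18924 (iv D18470)
def n18925 : Q := act 5 n18412
theorem D18925 : act 5 n18412 = n18925 := rfl
theorem F74160 : act 0 n18925 = n18483 := d4_1 D18925 (iv D18483) (iv F72074)
theorem F74161 : act 1 n18925 = n18744 := d11_1 D18925 (iv D18744) (iv F72075)
theorem F74162 : act 2 n18925 = n18413 := d17_1 D18925 (iv D18413) (iv F72076)
theorem F74163 : act 4 n18925 = n18643 := d26_1 D18925 (iv D18643) (iv D18078) (iv F69839) D18412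
theorem F74164 : act 7 n18925 = n18414 := d31_2 (iv F72078) D18925 (iv D18414)
theorem F74165 : act 8 n18925 = n18471 := d32_2 (iv F72079) D18925 (iv D18471)
def n18926 : Q := act 6 n18413
theorem D18926 : act 6 n18413 = n18926 := rfl
theorem F74166 : act 0 n18926 = n18484 := d5_1 D18926 (iv D18484) (iv F72080)
theorem F74167 : act 1 n18926 = n18649 := d12_1 D18926 (iv D18649) (iv F72081)
theorem F74168 : act 3 n18926 = n18508 := d23_1 D18926 (iv D18508) (iv F72082)
theorem F74169 : act 4 n18926 = n18644 := d27_1 D18926 (iv D18644) (iv F72083)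
theorem F74170 : act 5 n18926 = n18430 := d30_1 D18926 (iv D18430) (iv D17835) (iv F69846) D18413
theorem F74171 : act 7 n18926 = n18415 := d33_2 (iv F72084) D18926 (iv D18415)
theorem F74172 : act 8 n18926 = n18472 := d34_2 (iv F72085) D18926 (iv D18472)
def n18927 : Q := act 6 n18414
theorem D18927 : act 6 n18414 = n18927 := rfl
theorem F74173 : act 0 n18927 = n18486 := d5_1 D18927 (iv D18486) (iv F72086)
theorem F74174 : act 1 n18927 = n18751 := d12_1 D18927 (iv D18751) (iv F72087)
theorem F74175 : act 2 n18927 = n18415 := d18_1 D18927 (iv D18415) (iv F72088)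
theorem F74176 : act 3 n18927 = n18739 := d23_1 D18927 (iv D18739) (iv F72089)
theorem F74177 : act 4 n18927 = n18645 := d27_1 D18927 (iv D18645) (iv F72090)
theorem F74178 : act 5 n18927 = n18434 := d30_1 D18927 (iv D18434) (iv D17839) (iv F69853) D18414
theorem F74179 : act 8 n18927 = n18440 := d34_2 (iv F72091) D18927 (iv D18440)
def n18928 : Q := act 6 n18416
theorem D18928 : act 6 n18416 = n18928 := rfl
theorem F74180 : act 0 n18928 = n18422 := d5_1 D18928 (iv D18422) (iv F72098)
theorem F74181 : act 1 n18928 = n18641 := d12_1 D18928 (iv D18641) (iv F72099)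
theorem F74182 : act 2 n18928 = n18417 := d18_1 D18928 (iv D18417) (iv F72100)
theorem F74183 : act 3 n18928 = n18669 := d23_1 D18928 (iv D18669) (iv F72101)
theorem F74184 : act 4 n18928 = n18632 := d27_1 D18928 (iv D18632) (iv F72102)
theorem F74185 : act 5 n18928 = n18688 := d30_1 D18928 (iv D18688) (iv D18136) (iv F69868) D18416
theorem F74186 : act 8 n18928 = n18443 := d34_2 (iv F72103) D18928 (iv D18443)
def n18929 : Q := act 6 n18418
theorem D18929 : act 6 n18418 = n18929 := rfl
theorem F74187 : act 0 n18929 = n18758 := d5_1 D18929 (iv D18758) (iv F72110)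
theorem F74188 : act 1 n18929 = n18430 := d12_1 D18929 (iv D18430) (iv F72111)
theorem F74189 : act 2 n18929 = n18754 := d18_1 D18929 (iv D18754) (iv F72112)
theorem F74190 : act 3 n18929 = n18836 := d23_1 D18929 (iv D18836) (iv F72113)
theorem F74191 : act 4 n18929 = n18673 := d27_1 D18929 (iv D18673) (iv F72114)
theorem F74192 : act 5 n18929 = n18649 := d30_1 D18929 (iv D18649) (iv D18085) (iv F69879) D18418
theorem F74193 : act 7 n18929 = n18419 := d33_2 (iv F72115) D18929 (iv D18419)
theorem F74194 : act 8 n18929 = n18834 := d34_2 (iv F72116) D18929 (iv D18834)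
def n18930 : Q := act 6 n18420
theorem D18930 : act 6 n18420 = n18930 := rfl
theorem F74195 : act 0 n18930 = n18669 := d5_1 D18930 (iv D18669) (iv F72124)
theorem F74196 : act 1 n18930 = n18805 := d12_1 D18930 (iv D18805) (iv F72125)
theorem F74197 : act 2 n18930 = n18514 := d18_1 D18930 (iv D18514) (iv F72126)
theorem F74198 : act 3 n18930 = n18422 := d23_1 D18930 (iv D18422) (iv F72127)
theorem F74199 : act 4 n18930 = n18656 := d27_1 D18930 (iv D18656) (iv F72128)
theorem F74200 : act 5 n18930 = n18516 := d30_1 D18930 (iv D18516) (iv D17933) (iv F69892) D18420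
theorem F74201 : act 8 n18930 = n18447 := d34_2 (iv F72129) D18930 (iv D18447)
def n18931 : Q := act 7 n18420
theorem D18931 : act 7 n18420 = n18931 := rfl
theorem F74202 : act 0 n18931 = n18662 := d6_1 D18931 F73160 (iv F72124)
theorem F74203 : act 1 n18931 = n18806 := d13_1 D18931 (iv D18806) (iv F72125)
theorem F74204 : act 2 n18931 = n18496 := d19_1 D18931 F72497 (iv F72126)
theorem F74205 : act 4 n18931 = n18654 := d28_1 D18931 F73122 (iv F72128)
theorem F74206 : act 5 n18931 = n18421 := d31_1 D18931 (iv D18421) D18420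
def n18932 : Q := act 3 n18423
theorem D18932 : act 3 n18423 = n18932 := rfl
theorem F74207 : act 0 n18932 = n18501 := d2_1 D18932 (iv D18501) (iv F72139)
theorem F74208 : act 1 n18932 = n18545 := d9_1 D18932 (iv D18545) (iv F72140)
theorem F74209 : act 4 n18932 = n18932 := d21_2 D18423 D18932 (iv D18932) (iv D18423) F69903
theorem F74210 : act 6 n18932 = n18661 := d23_2 (iv F72142) D18932 (iv D18661)
theorem F74211 : act 7 n18932 = n18680 := d24_2 (iv F72143) D18932 (iv D18680) F71101 (iv F69936)
def n18933 : Q := act 5 n18423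
theorem D18933 : act 5 n18423 = n18933 := rfl
theorem F74212 : act 0 n18933 = n18502 := d4_1 D18933 (iv D18502) (iv F72139)
theorem F74213 : act 1 n18933 = n18546 := d11_1 D18933 (iv D18546) (iv F72140)
theorem F74214 : act 2 n18933 = n18424 := d17_1 D18933 (iv D18424) (iv F72141)
theorem F74215 : act 4 n18933 = n18429 := d26_1 D18933 (iv D18429) (iv D17834) (iv F69904) D18423
theorem F74216 : act 7 n18933 = n18431 := d31_2 (iv F72143) D18933 (iv D18431)
def n18934 : Q := act 6 n18424
theorem D18934 : act 6 n18424 = n18934 := rfl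
theorem F74217 : act 0 n18934 = n18503 := d5_1 D18934 (iv D18503) (iv F72144)
theorem F74218 : act 1 n18934 = n18673 := d12_1 D18934 (iv D18673) (iv F72145)
theorem F74219 : act 4 n18934 = n18430 := d27_1 D18934 (iv D18430) (iv F72146)
theorem F74220 : act 5 n18934 = n18663 := d30_1 D18934 (iv D18663) (iv D18101) (iv F69909) D18424
theorem F74221 : act 7 n18934 = n18432 := d33_2 (iv F72147) D18934 (iv D18432)
def n18935 : Q := act 3 n18425
theorem D18935 : act 3 n18425 = n18935 := rfl
theorem F74222 : act 0 n18935 = n18506 := d2_1 D18935 (iv D18506) (iv F72148)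
theorem F74223 : act 2 n18935 = n18482 := d15_1 D18935 (iv D18482) F70230 (iv F69918) (iv F72149)
theorem F74224 : act 4 n18935 = n18935 := d21_2 D18425 D18935 (iv D18935) (iv D18425) F69912
theorem F74225 : act 6 n18935 = n18470 := d23_2 (iv F72150) D18935 (iv D18470)
theorem F74226 : act 7 n18935 = n18702 := d24_2 (iv F72151) D18935 (iv D18702) F71199 (iv F70068)
theorem F74227 : act 8 n18935 = n18428 := d25_2 (iv F72152) D18935 (iv D18428)
def n18936 : Q := act 5 n18425
theorem D18936 : act 5 n18425 = n18936 := rfl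
theorem F74228 : act 0 n18936 = n18507 := d4_1 D18936 (iv D18507) (iv F72148)
theorem F74229 : act 2 n18936 = n18426 := d17_1 D18936 (iv D18426) (iv F72149)
theorem F74230 : act 7 n18936 = n18452 := d31_2 (iv F72151) D18936 (iv D18452)
theorem F74231 : act 8 n18936 = n18429 := d32_2 (iv F72152) D18936 (iv D18429)
def n18937 : Q := act 6 n18426
theorem D18937 : act 6 n18426 = n18937 := rfl
theorem F74232 : act 0 n18937 = n18508 := d5_1 D18937 (iv D18508) (iv F72153)
theorem F74233 : act 1 n18937 = n18834 := d12_1 D18937 (iv D18834) (iv F72154)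
theorem F74234 : act 3 n18937 = n18484 := d23_1 D18937 (iv D18484) (iv F72155)
theorem F74235 : act 5 n18937 = n18472 := d30_1 D18937 (iv D18472) (iv D17889) (iv F69919) D18426
theorem F74236 : act 7 n18937 = n18453 := d33_2 (iv F72156) D18937 (iv D18453)
theorem F74237 : act 8 n18937 = n18430 := d34_2 (iv F72157) D18937 (iv D18430)
def n18938 : Q := act 3 n18427
theorem D18938 : act 3 n18427 = n18938 := rfl
theorem F74238 : act 0 n18938 = n18556 := d2_1 D18938 (iv D18556) (iv F72158)
theorem F74239 : act 1 n18938 = n18428 := d9_1 D18938 (iv D18428) (iv F72159)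
theorem F74240 : act 4 n18938 = n18938 := d21_2 D18427 D18938 (iv D18938) (iv D18427) F69923
theorem F74241 : act 6 n18938 = n18743 := d23_2 (iv F72161) D18938 (iv D18743)
theorem F74242 : act 7 n18938 = n18812 := d24_2 (iv F72162) D18938 (iv D18812) F71640 (iv F69947)
def n18939 : Q := act 5 n18427
theorem D18939 : act 5 n18427 = n18939 := rfl
theorem F74243 : act 0 n18939 = n18557 := d4_1 D18939 (iv D18557) (iv F72158)
theorem F74244 : act 1 n18939 = n18429 := d11_1 D18939 (iv D18429) (iv F72159)
theorem F74245 : act 2 n18939 = n18542 := d17_1 D18939 (iv D18542) (iv F72160)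
theorem F74246 : act 4 n18939 = n18546 := d26_1 D18939 (iv D18546) (iv D17967) (iv F69924) D18427
theorem F74247 : act 7 n18939 = n18433 := d31_2 (iv F72162) D18939 (iv D18433)
def n18940 : Q := act 5 n18428
theorem D18940 : act 5 n18428 = n18940 := rfl
theorem F74248 : act 0 n18940 = n18512 := d4_1 D18940 (iv D18512) (iv F72163)
theorem F74249 : act 3 n18940 = n18429 := d22_1 D18940 (iv D18429) D18428
theorem F74250 : act 7 n18940 = n18814 := d31_2 (iv F72165) D18940 (iv D18814)
def n18941 : Q := act 6 n18429
theorem D18941 : act 6 n18429 = n18941 := rfl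
theorem F74251 : act 0 n18941 = n18513 := d5_1 D18941 (iv D18513) (iv F72166)
theorem F74252 : act 2 n18941 = n18430 := d18_1 D18941 (iv D18430) (iv F72167)
theorem F74253 : act 7 n18941 = n18434 := d33_2 (iv F72168) D18941 (iv D18434)
def n18942 : Q := act 6 n18431
theorem D18942 : act 6 n18431 = n18942 := rfl
theorem F74254 : act 0 n18942 = n18516 := d5_1 D18942 (iv D18516) (iv F72171)
theorem F74255 : act 1 n18942 = n18549 := d12_1 D18942 (iv D18549) (iv F72172)
theorem F74256 : act 2 n18942 = n18432 := d18_1 D18942 (iv D18432) (iv F72173)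
theorem F74257 : act 3 n18942 = n18688 := d23_1 D18942 (iv D18688) (iv F72174)
theorem F74258 : act 4 n18942 = n18434 := d27_1 D18942 (iv D18434) (iv F72175)
theorem F74259 : act 5 n18942 = n18669 := d30_1 D18942 (iv D18669) (iv D18107) (iv F69937) D18431
theorem F74260 : act 8 n18942 = n18458 := d34_2 (iv F72176) D18942 (iv D18458)
def n18943 : Q := act 6 n18433
theorem D18943 : act 6 n18433 = n18943 := rfl
theorem F74261 : act 0 n18943 = n18571 := d5_1 D18943 (iv D18571) (iv F72183)
theorem F74262 : act 1 n18943 = n18434 := d12_1 D18943 (iv D18434) (iv F72184)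
theorem F74263 : act 2 n18943 = n18548 := d18_1 D18943 (iv D18548) (iv F72185)
theorem F74264 : act 3 n18943 = n18816 := d23_1 D18943 (iv D18816) (iv F72186)
theorem F74265 : act 4 n18943 = n18549 := d27_1 D18943 (iv D18549) (iv F72187)
theorem F74266 : act 5 n18943 = n18751 := d30_1 D18943 (iv D18751) (iv D18202) (iv F69948) D18433
theorem F74267 : act 8 n18943 = n18460 := d34_2 (iv F72188) D18943 (iv D18460)
def n18944 : Q := act 6 n18436
theorem D18944 : act 6 n18436 = n18944 := rfl
theorem F74268 : act 0 n18944 = n18522 := d5_1 D18944 (iv D18522) (iv F72200)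
theorem F74269 : act 1 n18944 = n18688 := d12_1 D18944 (iv D18688) (iv F72201)
theorem F74270 : act 2 n18944 = n18437 := d18_1 D18944 (iv D18437) (iv F72202)
theorem F74271 : act 3 n18944 = n18549 := d23_1 D18944 (iv D18549) (iv F72203)
theorem F74272 : act 4 n18944 = n18631 := d27_1 D18944 (iv D18631) (iv F72204)
theorem F74273 : act 5 n18944 = n18641 := d30_1 D18944 (iv D18641) (iv D18076) (iv F69967) D18436
theorem F74274 : act 8 n18944 = n18600 := d34_2 (iv F72205) D18944 (iv D18600)
def n18945 : Q := act 6 n18441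
theorem D18945 : act 6 n18441 = n18945 := rfl
theorem F74275 : act 0 n18945 = n18445 := d5_1 D18945 (iv D18445) (iv F72230)
theorem F74276 : act 1 n18945 = n18547 := d12_1 D18945 (iv D18547) (iv F72231)
theorem F74277 : act 2 n18945 = n18673 := d18_1 D18945 (iv D18673) (iv F72232)
theorem F74278 : act 3 n18945 = n18690 := d23_1 D18945 (iv D18690) (iv F72233)
theorem F74279 : act 4 n18945 = n18754 := d27_1 D18945 (iv D18754) (iv F72234)
theorem F74280 : act 5 n18945 = n18675 := d30_1 D18945 (iv D18675) (iv D18116) (iv F70005) D18441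
theorem F74281 : act 7 n18945 = n18442 := d33_2 (iv F72235) D18945 (iv D18442)
theorem F74282 : act 8 n18945 = n18689 := d34_2 (iv F72236) D18945 (iv D18689)
def n18946 : Q := act 6 n18444
theorem D18946 : act 6 n18444 = n18946 := rfl
theorem F74283 : act 0 n18946 = n18754 := d5_1 D18946 (iv D18754) (iv F72249)
theorem F74284 : act 1 n18946 = n18451 := d12_1 D18946 (iv D18451) (iv F72250)
theorem F74285 : act 2 n18946 = n18758 := d18_1 D18946 (iv D18758) (iv F72251)
theorem F74286 : act 4 n18946 = n18445 := d27_1 D18946 (iv D18445) (iv F72252)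
theorem F74287 : act 5 n18946 = n18636 := d30_1 D18946 (iv D18636) (iv D18070) (iv F70025) D18444
theorem F74288 : act 7 n18946 = n18446 := d33_2 (iv F72253) D18946 (iv D18446)
theorem F74289 : act 8 n18946 = n18882 := d34_2 (iv F72254) D18946 (iv D18882)
def n18947 : Q := act 7 n18447
theorem D18947 : act 7 n18447 = n18947 := rfl
theorem F74290 : act 0 n18947 = n18887 := d6_1 D18947 F73973 (iv F72266)
theorem F74291 : act 1 n18947 = n18832 := d13_1 D18947 (iv D18832) (iv F72267)
theorem F74292 : act 2 n18947 = n18574 := d19_1 D18947 F72812 (iv F72268)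
theorem F74293 : act 4 n18947 = n18897 := d28_1 D18947 F74009 (iv F72270)
theorem F74294 : act 5 n18947 = n18579 := d31_1 D18947 F72828 (iv F72271)
theorem F74295 : act 6 n18947 = n18448 := d33_1 D18947 (iv D18448) D18447
def n18948 : Q := act 6 n18449
theorem D18948 : act 6 n18449 = n18948 := rfl
theorem F74296 : act 0 n18948 = n18574 := d5_1 D18948 (iv D18574) (iv F72277)
theorem F74297 : act 1 n18948 = n18636 := d12_1 D18948 (iv D18636) (iv F72278)
theorem F74298 : act 2 n18948 = n18887 := d18_1 D18948 (iv D18887) (iv F72279)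
theorem F74299 : act 4 n18948 = n18633 := d27_1 D18948 (iv D18633) (iv F72280)
theorem F74300 : act 5 n18948 = n18451 := d30_1 D18948 (iv D18451) (iv D17863) (iv F70057) D18449
theorem F74301 : act 7 n18948 = n18457 := d33_2 (iv F72281) D18948 (iv D18457)
def n18949 : Q := act 6 n18450
theorem D18949 : act 6 n18450 = n18949 := rfl
theorem F74302 : act 0 n18949 = n18577 := d5_1 D18949 (iv D18577) (iv F72282)
theorem F74303 : act 1 n18949 = n18882 := d12_1 D18949 (iv D18882) (iv F72283)
theorem F74304 : act 3 n18949 = n18946 := d23_1 D18949 (iv D18946) (iv F72284)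
theorem F74305 : act 4 n18949 = n18453 := d27_1 D18949 (iv D18453) (iv F72285)
theorem F74306 : act 8 n18949 = n18451 := d34_2 (iv F72286) D18949 (iv D18451)
def n18950 : Q := act 6 n18452
theorem D18950 : act 6 n18452 = n18950 := rfl
theorem F74307 : act 0 n18950 = n18585 := d5_1 D18950 (iv D18585) (iv F72290)
theorem F74308 : act 2 n18950 = n18453 := d18_1 D18950 (iv D18453) (iv F72291)
theorem F74309 : act 3 n18950 = n18708 := d23_1 D18950 (iv D18708) (iv F72292)
theorem F74310 : act 5 n18950 = n18479 := d30_1 D18950 (iv D18479) (iv D17895) (iv F70069) D18452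
theorem F74311 : act 8 n18950 = n18456 := d34_2 (iv F72293) D18950 (iv D18456)
def n18951 : Q := act 5 n18454
theorem D18951 : act 5 n18454 = n18951 := rfl
theorem F74312 : act 0 n18951 = n18455 := d4_1 D18951 (iv D18455) (iv F72298)
theorem F74313 : act 1 n18951 = n18587 := d11_1 D18951 (iv D18587) (iv F72299)
theorem F74314 : act 2 n18951 = n18487 := d17_1 D18951 (iv D18487) (iv F72300)
theorem F74315 : act 4 n18951 = n18490 := d26_1 D18951 (iv D18490) (iv D17910) (iv F70077) D18454
theorem F74316 : act 7 n18951 = n18459 := d31_2 (iv F72302) D18951 (iv D18459)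
def n18952 : Q := act 6 n18455
theorem D18952 : act 6 n18455 = n18952 := rfl
theorem F74317 : act 1 n18952 = n18456 := d12_1 D18952 (iv D18456) (iv F72303)
theorem F74318 : act 2 n18952 = n18774 := d18_1 D18952 (iv D18774) (iv F72304)
theorem F74319 : act 4 n18952 = n18883 := d27_1 D18952 (iv D18883) (iv F72305)
theorem F74320 : act 5 n18952 = n18776 := d30_1 D18952 (iv D18776) (iv D18238) (iv F70082) D18455
theorem F74321 : act 7 n18952 = n18460 := d33_2 (iv F72306) D18952 (iv D18460)
def n18953 : Q := act 6 n18459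
theorem D18953 : act 6 n18459 = n18953 := rfl
theorem F74322 : act 0 n18953 = n18460 := d5_1 D18953 (iv D18460) (iv F72322)
theorem F74323 : act 1 n18953 = n18593 := d12_1 D18953 (iv D18593) (iv F72323)
theorem F74324 : act 2 n18953 = n18492 := d18_1 D18953 (iv D18492) (iv F72324)
theorem F74325 : act 3 n18953 = n18830 := d23_1 D18953 (iv D18830) (iv F72325)
theorem F74326 : act 4 n18953 = n18493 := d27_1 D18953 (iv D18493) (iv F72326)
theorem F74327 : act 5 n18953 = n18770 := d30_1 D18953 (iv D18770) (iv D18230) (iv F70106) D18459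
theorem F74328 : act 8 n18953 = n18571 := d34_2 (iv F72327) D18953 (iv D18571)
def n18954 : Q := act 6 n18463
theorem D18954 : act 6 n18463 = n18954 := rfl
theorem F74329 : act 0 n18954 = n18466 := d5_1 D18954 (iv D18466) (iv F72346)
theorem F74330 : act 1 n18954 = n18874 := d12_1 D18954 (iv D18874) (iv F72347)
theorem F74331 : act 2 n18954 = n18674 := d18_1 D18954 (iv D18674) (iv F72348)
theorem F74332 : act 3 n18954 = n18464 := d23_1 D18954 (iv D18464) (iv F72349)
theorem F74333 : act 4 n18954 = n18677 := d27_1 D18954 (iv D18677) (iv F72350)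
theorem F74334 : act 5 n18954 = n18689 := d30_1 D18954 (iv D18689) (iv D18139) (iv F70139) D18463
theorem F74335 : act 7 n18954 = n18759 := d33_2 (iv F72351) D18954 (iv D18759)
theorem F74336 : act 8 n18954 = n18675 := d34_2 (iv F72352) D18954 (iv D18675)
def n18955 : Q := act 6 n18465
theorem D18955 : act 6 n18465 = n18955 := rfl
theorem F74337 : act 0 n18955 = n18759 := d5_1 D18955 (iv D18759) (iv F72357)
theorem F74338 : act 1 n18955 = n18472 := d12_1 D18955 (iv D18472) (iv F72358)
theorem F74339 : act 2 n18955 = n18755 := d18_1 D18955 (iv D18755) (iv F72359)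
theorem F74340 : act 3 n18955 = n18491 := d23_1 D18955 (iv D18491) (iv F72360)
theorem F74341 : act 4 n18955 = n18650 := d27_1 D18955 (iv D18650) (iv F72361)
theorem F74342 : act 5 n18955 = n18834 := d30_1 D18955 (iv D18834) (iv D18306) (iv F70149) D18465
theorem F74343 : act 7 n18955 = n18466 := d33_2 (iv F72362) D18955 (iv D18466)
theorem F74344 : act 8 n18955 = n18649 := d34_2 (iv F72363) D18955 (iv D18649)
def n18956 : Q := act 3 n18467
theorem D18956 : act 3 n18467 = n18956 := rfl
theorem F74345 : act 0 n18956 = n18818 := d2_1 D18956 (iv D18818) (iv F72369)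
theorem F74346 : act 1 n18956 = n18746 := d9_1 D18956 (iv D18746) (iv F72370)
theorem F74347 : act 4 n18956 = n18956 := d21_2 D18467 D18956 (iv D18956) (iv D18467) F70162
theorem F74348 : act 6 n18956 = n18664 := d23_2 (iv F72372) D18956 (iv D18664)
theorem F74349 : act 8 n18956 = n18642 := d25_2 (iv F72374) D18956 (iv D18642)
def n18957 : Q := act 5 n18467
theorem D18957 : act 5 n18467 = n18957 := rfl
theorem F74350 : act 0 n18957 = n18819 := d4_1 D18957 (iv D18819) (iv F72369)
theorem F74351 : act 1 n18957 = n18747 := d11_1 D18957 (iv D18747) (iv F72370)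
theorem F74352 : act 2 n18957 = n18468 := d17_1 D18957 (iv D18468) (iv F72371)
theorem F74353 : act 4 n18957 = n18471 := d26_1 D18957 (iv D18471) (iv D17888) (iv F70163) D18467
theorem F74354 : act 7 n18957 = n18475 := d31_2 (iv F72373) D18957 (iv D18475)
theorem F74355 : act 8 n18957 = n18643 := d32_2 (iv F72374) D18957 (iv D18643)
def n18958 : Q := act 6 n18468
theorem D18958 : act 6 n18468 = n18958 := rfl
theorem F74356 : act 0 n18958 = n18820 := d5_1 D18958 (iv D18820) (iv F72375)
theorem F74357 : act 1 n18958 = n18650 := d12_1 D18958 (iv D18650) (iv F72376)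
theorem F74358 : act 4 n18958 = n18472 := d27_1 D18958 (iv D18472) (iv F72377)
theorem F74359 : act 5 n18958 = n18666 := d30_1 D18958 (iv D18666) (iv D18103) (iv F70169) D18468
theorem F74360 : act 7 n18958 = n18476 := d33_2 (iv F72378) D18958 (iv D18476)
theorem F74361 : act 8 n18958 = n18644 := d34_2 (iv F72379) D18958 (iv D18644)
def n18959 : Q := act 3 n18469
theorem D18959 : act 3 n18469 = n18959 := rfl
theorem F74362 : act 1 n18959 = n18470 := d9_1 D18959 (iv D18470) (iv F72380)
theorem F74363 : act 4 n18959 = n18959 := d21_2 D18469 D18959 (iv D18959) (iv D18469) F70173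
theorem F74364 : act 7 n18959 = n18857 := d24_2 (iv F72382) D18959 (iv D18857) F71791 (iv F70201)
theorem F74365 : act 8 n18959 = n18743 := d25_2 (iv F72383) D18959 (iv D18743)
def n18960 : Q := act 5 n18469
theorem D18960 : act 5 n18469 = n18960 := rfl
theorem F74366 : act 1 n18960 = n18471 := d11_1 D18960 (iv D18471) (iv F72380)
theorem F74367 : act 2 n18960 = n18742 := d17_1 D18960 (iv D18742) (iv F72381)
theorem F74368 : act 4 n18960 = n18747 := d26_1 D18960 (iv D18747) (iv D18197) (iv F70174) D18469
theorem F74369 : act 7 n18960 = n18478 := d31_2 (iv F72382) D18960 (iv D18478)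
theorem F74370 : act 8 n18960 = n18744 := d32_2 (iv F72383) D18960 (iv D18744)
def n18961 : Q := act 5 n18470
theorem D18961 : act 5 n18470 = n18961 := rfl
theorem F74371 : act 2 n18961 = n18512 := d17_1 D18961 (iv D18512) (iv F72384)
theorem F74372 : act 3 n18961 = n18471 := d22_1 D18961 (iv D18471) D18470
theorem F74373 : act 7 n18961 = n18859 := d31_2 (iv F72386) D18961 (iv D18859)
def n18962 : Q := act 6 n18471
theorem D18962 : act 6 n18471 = n18962 := rfl
theorem F74374 : act 2 n18962 = n18472 := d18_1 D18962 (iv D18472) (iv F72387)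
theorem F74375 : act 7 n18962 = n18479 := d33_2 (iv F72388) D18962 (iv D18479)
def n18963 : Q := act 6 n18473
theorem D18963 : act 6 n18473 = n18963 := rfl
theorem F74376 : act 1 n18963 = n18637 := d12_1 D18963 (iv D18637) (iv F72391)
theorem F74377 : act 2 n18963 = n18893 := d18_1 D18963 (iv D18893) (iv F72392)
theorem F74378 : act 3 n18963 = n18725 := d23_1 D18963 (iv D18725) (iv F72393)
theorem F74379 : act 5 n18963 = n18476 := d30_1 D18963 (iv D18476) (iv D17892) (iv F70184) D18473
theorem F74380 : act 7 n18963 = n18666 := d33_2 (iv F72394) D18963 (iv D18666)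
theorem F74381 : act 8 n18963 = n18633 := d34_2 (iv F72395) D18963 (iv D18633)
def n18964 : Q := act 5 n18474
theorem D18964 : act 5 n18474 = n18964 := rfl
theorem F74382 : act 1 n18964 = n18777 := d11_1 D18964 (iv D18777) (iv F72396)
theorem F74383 : act 2 n18964 = n18727 := d17_1 D18964 (iv D18727) (iv F72397)
theorem F74384 : act 3 n18964 = n18475 := d22_1 D18964 (iv D18475) D18474
theorem F74385 : act 4 n18964 = n18865 := d26_1 D18964 (iv D18865) F71817 (iv F70208) (iv F72398)
theorem F74386 : act 8 n18964 = n18779 := d32_2 (iv F72400) D18964 (iv D18779)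
def n18965 : Q := act 7 n18474
theorem D18965 : act 7 n18474 = n18965 := rfl
theorem F74387 : act 1 n18965 = n18611 := d13_1 D18965 F72956 (iv F72396)
theorem F74388 : act 2 n18965 = n18623 := d19_1 D18965 F72994 (iv F72397)
theorem F74389 : act 4 n18965 = n18480 := d28_1 D18965 (iv D18480) (iv F72398)
theorem F74390 : act 6 n18965 = n18892 := d33_1 D18965 (iv D18892) (iv F72399)
theorem F74391 : act 8 n18965 = n18792 := d35_2 (iv F72400) D18965 F73653 F71601 (iv F71501)
def n18966 : Q := act 6 n18475
theorem D18966 : act 6 n18475 = n18966 := rfl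
theorem F74392 : act 1 n18966 = n18778 := d12_1 D18966 (iv D18778) (iv F72401)
theorem F74393 : act 2 n18966 = n18476 := d18_1 D18966 (iv D18476) (iv F72402)
theorem F74394 : act 4 n18966 = n18479 := d27_1 D18966 (iv D18479) (iv F72403)
theorem F74395 : act 5 n18966 = n18893 := d30_1 D18966 (iv D18893) (iv D18374) (iv F70189) D18475
theorem F74396 : act 8 n18966 = n18780 := d34_2 (iv F72404) D18966 (iv D18780)
def n18967 : Q := act 5 n18477
theorem D18967 : act 5 n18477 = n18967 := rfl
theorem F74397 : act 0 n18967 = n18478 := d4_1 D18967 (iv D18478) (iv F72409)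
theorem F74398 : act 2 n18967 = n18762 := d17_1 D18967 (iv D18762) (iv F72410)
theorem F74399 : act 3 n18967 = n18867 := d22_1 D18967 (iv D18867) (iv F72411)
theorem F74400 : act 4 n18967 = n18766 := d26_1 D18967 (iv D18766) (iv D18225) (iv F70197) D18477
theorem F74401 : act 8 n18967 = n18763 := d32_2 (iv F72412) D18967 (iv D18763)
def n18968 : Q := act 6 n18478
theorem D18968 : act 6 n18478 = n18968 := rfl
theorem F74402 : act 1 n18968 = n18479 := d12_1 D18968 (iv D18479) (iv F72413)
theorem F74403 : act 2 n18968 = n18775 := d18_1 D18968 (iv D18775) (iv F72414)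
theorem F74404 : act 3 n18968 = n18868 := d23_1 D18968 (iv D18868) (iv F72415)
theorem F74405 : act 4 n18968 = n18778 := d27_1 D18968 (iv D18778) (iv F72416)
theorem F74406 : act 8 n18968 = n18776 := d34_2 (iv F72417) D18968 (iv D18776)
def n18969 : Q := act 3 n18481
theorem D18969 : act 3 n18481 = n18969 := rfl
theorem F74407 : act 0 n18969 = n18824 := d2_1 D18969 F73752 (iv F72426)
theorem F74408 : act 1 n18969 = n18482 := d9_1 D18969 (iv D18482) (iv F72427)
theorem F74409 : act 4 n18969 = n18969 := d21_2 D18481 D18969 (iv D18969) (iv D18481) F70225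
theorem F74410 : act 6 n18969 = n18510 := d23_2 (iv F72429) D18969 (iv D18510)
theorem F74411 : act 7 n18969 = n18642 := d24_2 (iv F72430) D18969 (iv D18642) F70908 (iv F70239)
def n18970 : Q := act 5 n18481
theorem D18970 : act 5 n18481 = n18970 := rfl
theorem F74412 : act 0 n18970 = n18828 := d4_1 D18970 F73761 (iv F72426)
theorem F74413 : act 1 n18970 = n18483 := d11_1 D18970 (iv D18483) (iv F72427)
theorem F74414 : act 2 n18970 = n18647 := d17_1 D18970 F73091 (iv F72428)
theorem F74415 : act 4 n18970 = n18822 := d26_1 D18970 (iv D18822) (iv D18294) (iv F70226) D18481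
theorem F74416 : act 7 n18970 = n18485 := d31_2 (iv F72430) D18970 (iv D18485)
def n18971 : Q := act 5 n18482
theorem D18971 : act 5 n18482 = n18971 := rfl
theorem F74417 : act 3 n18971 = n18483 := d22_1 D18971 (iv D18483) D18482
theorem F74418 : act 7 n18971 = n18749 := d31_2 (iv F72433) D18971 (iv D18749)
def n18972 : Q := act 6 n18483
theorem D18972 : act 6 n18483 = n18972 := rfl
theorem F74419 : act 2 n18972 = n18484 := d18_1 D18972 (iv D18484) (iv F72434)
theorem F74420 : act 4 n18972 = n18825 := d27_1 D18972 (iv D18825) (iv F72435)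
theorem F74421 : act 5 n18972 = n18513 := d30_1 D18972 (iv D18513) (iv D17929) (iv F70231) D18483
theorem F74422 : act 7 n18972 = n18486 := d33_2 (iv F72436) D18972 (iv D18486)
def n18973 : Q := act 6 n18485
theorem D18973 : act 6 n18485 = n18973 := rfl
theorem F74423 : act 0 n18973 = n18827 := d5_1 D18973 (iv D18827) (iv F72441)
theorem F74424 : act 1 n18973 = n18486 := d12_1 D18973 (iv D18486) (iv F72442)
theorem F74425 : act 2 n18973 = n18646 := d18_1 D18973 (iv D18646) (iv F72443)
theorem F74426 : act 3 n18973 = n18645 := d23_1 D18973 (iv D18645) (iv F72444)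
theorem F74427 : act 4 n18973 = n18826 := d27_1 D18973 (iv D18826) (iv F72445)
theorem F74428 : act 5 n18973 = n18518 := d30_1 D18973 (iv D18518) (iv D17936) (iv F70240) D18485
theorem F74429 : act 8 n18973 = n18541 := d34_2 (iv F72446) D18973 (iv D18541)
def n18974 : Q := act 6 n18487
theorem D18974 : act 6 n18487 = n18974 := rfl
theorem F74430 : act 0 n18974 = n18774 := d5_1 D18974 (iv D18774) (iv F72452)
theorem F74431 : act 1 n18974 = n18503 := d12_1 D18974 (iv D18503) (iv F72453)
theorem F74432 : act 4 n18974 = n18491 := d27_1 D18974 (iv D18491) (iv F72454)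
theorem F74433 : act 5 n18974 = n18764 := d30_1 D18974 (iv D18764) (iv D18223) (iv F70258) D18487
theorem F74434 : act 7 n18974 = n18492 := d33_2 (iv F72455) D18974 (iv D18492)
def n18975 : Q := act 5 n18488
theorem D18975 : act 5 n18488 = n18975 := rfl
theorem F74435 : act 0 n18975 = n18756 := d4_1 D18975 (iv D18756) (iv F72456)
theorem F74436 : act 1 n18975 = n18671 := d11_1 D18975 F73183 (iv F72457)
theorem F74437 : act 2 n18975 = n18489 := d17_1 D18975 (iv D18489) (iv F72458)
theorem F74438 : act 3 n18975 = n18752 := d22_1 D18975 (iv D18752) (iv F72459)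
theorem F74439 : act 7 n18975 = n18561 := d31_2 (iv F72461) D18975 (iv D18561)
theorem F74440 : act 8 n18975 = n18490 := d32_2 (iv F72462) D18975 (iv D18490)
def n18976 : Q := act 6 n18489
theorem D18976 : act 6 n18489 = n18976 := rfl
theorem F74441 : act 0 n18976 = n18757 := d5_1 D18976 (iv D18757) (iv F72463)
theorem F74442 : act 1 n18976 = n18508 := d12_1 D18976 (iv D18508) (iv F72464)
theorem F74443 : act 3 n18976 = n18649 := d23_1 D18976 (iv D18649) (iv F72465)
theorem F74444 : act 5 n18976 = n18836 := d30_1 D18976 (iv D18836) (iv D18308) (iv F70269) D18489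
theorem F74445 : act 7 n18976 = n18562 := d33_2 (iv F72466) D18976 (iv D18562)
theorem F74446 : act 8 n18976 = n18491 := d34_2 (iv F72467) D18976 (iv D18491)
def n18977 : Q := act 6 n18490
theorem D18977 : act 6 n18490 = n18977 := rfl
theorem F74447 : act 0 n18977 = n18883 := d5_1 D18977 (iv D18883) (iv F72468)
theorem F74448 : act 1 n18977 = n18670 := d12_1 D18977 F73182 (iv F72469)
theorem F74449 : act 2 n18977 = n18491 := d18_1 D18977 (iv D18491) (iv F72470)
theorem F74450 : act 3 n18977 = n18947 := d23_1 D18977 F74295 (iv F72471)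
theorem F74451 : act 5 n18977 = n18837 := d30_1 D18977 (iv D18837) (iv D18309) (iv F70276) D18490
theorem F74452 : act 7 n18977 = n18493 := d33_2 (iv F72472) D18977 (iv D18493)
def n18978 : Q := act 3 n18494
theorem D18978 : act 3 n18494 = n18978 := rfl
theorem F74453 : act 2 n18978 = n18501 := d15_1 D18978 (iv D18501) F70321 (iv F70299) (iv F72489)
theorem F74454 : act 4 n18978 = n18978 := d21_2 D18494 D18978 (iv D18978) (iv D18494) F70296
theorem F74455 : act 7 n18978 = n18560 := d24_2 (iv F72490) D18978 (iv D18560) (iv F72461) F72459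
theorem F74456 : act 8 n18978 = n18909 := d25_2 (iv F72491) D18978 F74071
def n18979 : Q := act 5 n18494
theorem D18979 : act 5 n18494 = n18979 := rfl
theorem F74457 : act 2 n18979 = n18495 := d17_1 D18979 (iv D18495) (iv F72489)
theorem F74458 : act 7 n18979 = n18752 := d31_2 (iv F72490) D18979 (iv D18752)
theorem F74459 : act 8 n18979 = n18931 := d32_2 (iv F72491) D18979 F74206
def n18980 : Q := act 6 n18495
theorem D18980 : act 6 n18495 = n18980 := rfl
theorem F74460 : act 3 n18980 = n18503 := d23_1 D18980 (iv D18503) (iv F72492)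
theorem F74461 : act 7 n18980 = n18753 := d33_2 (iv F72493) D18980 (iv D18753)
def n18981 : Q := act 6 n18496
theorem D18981 : act 6 n18496 = n18981 := rfl
theorem F74462 : act 0 n18981 = n18663 := d5_1 D18981 (iv D18663) (iv F72494)
theorem F74463 : act 1 n18981 = n18764 := d12_1 D18981 (iv D18764) (iv F72495)
theorem F74464 : act 4 n18981 = n18655 := d27_1 D18981 (iv D18655) (iv F72496)
theorem F74465 : act 5 n18981 = n18503 := d30_1 D18981 (iv D18503) (iv D17922) (iv F70303) D18496
theorem F74466 : act 7 n18981 = n18514 := d33_2 (iv F72497) D18981 (iv D18514)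
theorem F74467 : act 8 n18981 = n18980 := d34_2 (iv F72498) D18981 (iv D18980)
def n18982 : Q := act 4 n18497
theorem D18982 : act 4 n18497 = n18982 := rfl
theorem F74468 : act 0 n18982 = n18559 := d3_1 D18982 (iv D18559) (iv F72499)
theorem F74469 : act 1 n18982 = n18498 := d10_1 D18982 (iv D18498) D18497
theorem F74470 : act 2 n18982 = n18580 := d16_1 D18982 (iv D18580) (iv F72500)
theorem F74471 : act 6 n18982 = n18807 := d27_2 (iv F72503) D18982 F73707
theorem F74472 : act 7 n18982 = n18575 := d28_2 (iv F72504) D18982 (iv D18575)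
theorem F74473 : act 8 n18982 = n18500 := d29_2 (iv F72505) D18982 (iv D18500)
def n18983 : Q := act 3 n18498
theorem D18983 : act 3 n18498 = n18983 := rfl
theorem F74474 : act 2 n18983 = n18909 := d15_1 D18983 F74071 F72132 (iv F70311) (iv F72506)
theorem F74475 : act 4 n18983 = n18983 := d21_2 D18498 D18983 (iv D18983) (iv D18498) F70306
theorem F74476 : act 6 n18983 = n18978 := d23_2 (iv F72507) D18983 (iv D18978)
theorem F74477 : act 7 n18983 = n18905 := d24_2 (iv F72508) D18983 (iv D18905) F71978 F71694
theorem F74478 : act 8 n18983 = n18501 := d25_2 (iv F72509) D18983 (iv D18501)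
def n18984 : Q := act 5 n18498
theorem D18984 : act 5 n18498 = n18984 := rfl
theorem F74479 : act 2 n18984 = n18499 := d17_1 D18984 (iv D18499) (iv F72506)
theorem F74480 : act 4 n18984 = n18507 := d26_1 D18984 (iv D18507) (iv D17924) (iv F70307) D18498
theorem F74481 : act 7 n18984 = n18576 := d31_2 (iv F72508) D18984 (iv D18576)
theorem F74482 : act 8 n18984 = n18502 := d32_2 (iv F72509) D18984 (iv D18502)
def n18985 : Q := act 6 n18499
theorem D18985 : act 6 n18499 = n18985 := rfl
theorem F74483 : act 3 n18985 = n18981 := d23_1 D18985 (iv D18981) (iv F72510)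
theorem F74484 : act 4 n18985 = n18508 := d27_1 D18985 (iv D18508) (iv F72511)
theorem F74485 : act 5 n18985 = n18980 := d30_1 D18985 (iv D18980) (iv D18495) (iv F70312) D18499
theorem F74486 : act 7 n18985 = n18577 := d33_2 (iv F72512) D18985 (iv D18577)
theorem F74487 : act 8 n18985 = n18503 := d34_2 (iv F72513) D18985 (iv D18503)
def n18986 : Q := act 3 n18500
theorem D18986 : act 3 n18500 = n18986 := rfl
theorem F74488 : act 0 n18986 = n18563 := d2_1 D18986 (iv D18563) (iv F72514)
theorem F74489 : act 1 n18986 = n18501 := d9_1 D18986 (iv D18501) (iv F72515)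
theorem F74490 : act 4 n18986 = n18986 := d21_2 D18500 D18986 (iv D18986) (iv D18500) F70317
theorem F74491 : act 6 n18986 = n18789 := d23_2 (iv F72517) D18986 F73643
theorem F74492 : act 7 n18986 = n18608 := d24_2 (iv F72518) D18986 (iv D18608) F70766 (iv F70356)
def n18987 : Q := act 5 n18500
theorem D18987 : act 5 n18500 = n18987 := rfl
theorem F74493 : act 0 n18987 = n18564 := d4_1 D18987 (iv D18564) (iv F72514)
theorem F74494 : act 1 n18987 = n18502 := d11_1 D18987 (iv D18502) (iv F72515)
theorem F74495 : act 2 n18987 = n18587 := d17_1 D18987 (iv D18587) (iv F72516)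
theorem F74496 : act 4 n18987 = n18511 := d26_1 D18987 (iv D18511) (iv D17927) (iv F70318) D18500
theorem F74497 : act 7 n18987 = n18515 := d31_2 (iv F72518) D18987 (iv D18515)
def n18988 : Q := act 5 n18501
theorem D18988 : act 5 n18501 = n18988 := rfl
theorem F74498 : act 3 n18988 = n18502 := d22_1 D18988 (iv D18502) D18501
def n18989 : Q := act 6 n18502
theorem D18989 : act 6 n18502 = n18989 := rfl
theorem F74499 : act 2 n18989 = n18503 := d18_1 D18989 (iv D18503) (iv F72520)
theorem F74500 : act 4 n18989 = n18513 := d27_1 D18989 (iv D18513) (iv F72521)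
theorem F74501 : act 7 n18989 = n18516 := d33_2 (iv F72522) D18989 (iv D18516)
def n18990 : Q := act 4 n18504
theorem D18990 : act 4 n18504 = n18990 := rfl
theorem F74502 : act 0 n18990 = n18505 := d3_1 D18990 (iv D18505) D18504
theorem F74503 : act 1 n18990 = n18554 := d10_1 D18990 (iv D18554) (iv F72525)
theorem F74504 : act 2 n18990 = n18575 := d16_1 D18990 (iv D18575) (iv F72526)
theorem F74505 : act 6 n18990 = n18829 := d27_2 (iv F72529) D18990 F73764
theorem F74506 : act 7 n18990 = n18580 := d28_2 (iv F72530) D18990 (iv D18580)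
theorem F74507 : act 8 n18990 = n18509 := d29_2 (iv F72531) D18990 (iv D18509)
def n18991 : Q := act 3 n18505
theorem D18991 : act 3 n18505 = n18991 := rfl
theorem F74508 : act 1 n18991 = n18506 := d9_1 D18991 (iv D18506) (iv F72532)
theorem F74509 : act 4 n18991 = n18991 := d21_2 D18505 D18991 (iv D18991) (iv D18505) F70326
theorem F74510 : act 8 n18991 = n18510 := d25_2 (iv F72535) D18991 (iv D18510)
def n18992 : Q := act 5 n18505
theorem D18992 : act 5 n18505 = n18992 := rfl
theorem F74511 : act 1 n18992 = n18507 := d11_1 D18992 (iv D18507) (iv F72532)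
theorem F74512 : act 2 n18992 = n18671 := d17_1 D18992 F73183 (iv F72533)
theorem F74513 : act 7 n18992 = n18582 := d31_2 (iv F72534) D18992 (iv D18582)
theorem F74514 : act 8 n18992 = n18511 := d32_2 (iv F72535) D18992 (iv D18511)
def n18993 : Q := act 5 n18506
theorem D18993 : act 5 n18506 = n18993 := rfl
theorem F74515 : act 3 n18993 = n18507 := d22_1 D18993 (iv D18507) D18506
theorem F74516 : act 8 n18993 = n18512 := d32_2 (iv F72537) D18993 (iv D18512)
def n18994 : Q := act 7 n18506
theorem D18994 : act 7 n18506 = n18994 := rfl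
theorem F74517 : act 0 n18994 = n18702 := d6_1 D18994 (iv F74226) F74222
theorem F74518 : act 2 n18994 = n18735 := d19_1 D18994 (iv F74158) F74155
theorem F74519 : act 3 n18994 = n18584 := d24_1 D18994 (iv D18584) (iv D18004) (iv F70330) D18506
theorem F74520 : act 4 n18994 = n18994 := d28_1 D18994 (iv D18994) F72536
theorem F74521 : act 6 n18994 = n18793 := d33_1 D18994 (iv F74088) F74087
theorem F74522 : act 8 n18994 = n18878 := d35_2 (iv F72537) D18994 (iv D18878) F71856 (iv F70344)
def n18995 : Q := act 6 n18507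
theorem D18995 : act 6 n18507 = n18995 := rfl
theorem F74523 : act 2 n18995 = n18508 := d18_1 D18995 (iv D18508) (iv F72538)
theorem F74524 : act 7 n18995 = n18585 := d33_2 (iv F72539) D18995 (iv D18585)
theorem F74525 : act 8 n18995 = n18513 := d34_2 (iv F72540) D18995 (iv D18513)
def n18996 : Q := act 3 n18509
theorem D18996 : act 3 n18509 = n18996 := rfl
theorem F74526 : act 0 n18996 = n18510 := d2_1 D18996 (iv D18510) (iv F72543)
theorem F74527 : act 1 n18996 = n18556 := d9_1 D18996 (iv D18556) (iv F72544)
theorem F74528 : act 2 n18996 = n18969 := d15_1 D18996 (iv D18969) F72428 F70927 (iv F72545)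
theorem F74529 : act 4 n18996 = n18996 := d21_2 D18509 D18996 (iv D18996) (iv D18509) F70336
theorem F74530 : act 6 n18996 = n18824 := d23_2 (iv F72546) D18996 F73752
theorem F74531 : act 7 n18996 = n18653 := d24_2 (iv F72547) D18996 (iv D18653) F70963 (iv F70368)
def n18997 : Q := act 5 n18509
theorem D18997 : act 5 n18509 = n18997 := rfl
theorem F74532 : act 0 n18997 = n18511 := d4_1 D18997 (iv D18511) (iv F72543)
theorem F74533 : act 1 n18997 = n18557 := d11_1 D18997 (iv D18557) (iv F72544)
theorem F74534 : act 2 n18997 = n18578 := d17_1 D18997 (iv D18578) (iv F72545)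
theorem F74535 : act 4 n18997 = n18564 := d26_1 D18997 (iv D18564) (iv D17983) (iv F70337) D18509
theorem F74536 : act 7 n18997 = n18517 := d31_2 (iv F72547) D18997 (iv D18517)
def n18998 : Q := act 5 n18510
theorem D18998 : act 5 n18510 = n18998 := rfl
theorem F74537 : act 1 n18998 = n18512 := d11_1 D18998 (iv D18512) (iv F72548)
theorem F74538 : act 3 n18998 = n18511 := d22_1 D18998 (iv D18511) D18510
theorem F74539 : act 7 n18998 = n18667 := d31_2 (iv F72550) D18998 (iv D18667)
def n18999 : Q := act 6 n18511
theorem D18999 : act 6 n18511 = n18999 := rfl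
theorem F74540 : act 1 n18999 = n18513 := d12_1 D18999 (iv D18513) (iv F72551)
theorem F74541 : act 2 n18999 = n18670 := d18_1 D18999 F73182 (iv F72552)
theorem F74542 : act 7 n18999 = n18518 := d33_2 (iv F72553) D18999 (iv D18518)
def n19000 : Q := act 4 n18512
theorem D19000 : act 4 n18512 = n19000 := rfl
theorem F74543 : act 5 n19000 = n19000 := d26_2 D18512 D19000 (iv D19000) (iv D18512) F70343
theorem F74544 : act 7 n19000 = n18880 := d28_2 (iv F72555) D19000 (iv D18880)
def n19001 : Q := act 6 n18512
theorem D19001 : act 6 n18512 = n19001 := rfl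
theorem F74545 : act 3 n19001 = n18513 := d23_1 D19001 (iv D18513) (iv F72554)
theorem F74546 : act 7 n19001 = n18881 := d33_2 (iv F72555) D19001 (iv D18881)
def n19002 : Q := act 6 n18515
theorem D19002 : act 6 n18515 = n19002 := rfl
theorem F74547 : act 0 n19002 = n18572 := d5_1 D19002 (iv D18572) (iv F72564)
theorem F74548 : act 1 n19002 = n18516 := d12_1 D19002 (iv D18516) (iv F72565)
theorem F74549 : act 2 n19002 = n18593 := d18_1 D19002 (iv D18593) (iv F72566)
theorem F74550 : act 3 n19002 = n18632 := d23_1 D19002 (iv D18632) (iv F72567)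
theorem F74551 : act 4 n19002 = n18518 := d27_1 D19002 (iv D18518) (iv F72568)
theorem F74552 : act 5 n19002 = n18805 := d30_1 D19002 (iv D18805) (iv D18279) (iv F70357) D18515
theorem F74553 : act 8 n19002 = n18592 := d34_2 (iv F72569) D19002 (iv D18592)
def n19003 : Q := act 6 n18517
theorem D19003 : act 6 n18517 = n19003 := rfl
theorem F74554 : act 0 n19003 = n18518 := d5_1 D19003 (iv D18518) (iv F72573)
theorem F74555 : act 1 n19003 = n18571 := d12_1 D19003 (iv D18571) (iv F72574)
theorem F74556 : act 2 n19003 = n18592 := d18_1 D19003 (iv D18592) (iv F72575)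
theorem F74557 : act 3 n19003 = n18656 := d23_1 D19003 (iv D18656) (iv F72576)
theorem F74558 : act 4 n19003 = n18572 := d27_1 D19003 (iv D18572) (iv F72577)
theorem F74559 : act 5 n19003 = n18827 := d30_1 D19003 (iv D18827) (iv D18299) (iv F70369) D18517
theorem F74560 : act 8 n19003 = n18593 := d34_2 (iv F72578) D19003 (iv D18593)
def n19004 : Q := act 5 n18519
theorem D19004 : act 5 n18519 = n19004 := rfl
theorem F74561 : act 1 n19004 = n18618 := d11_1 D19004 (iv D18618) (iv F72583)
theorem F74562 : act 3 n19004 = n18520 := d22_1 D19004 (iv D18520) D18519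
theorem F74563 : act 7 n19004 = n18565 := d31_2 (iv F72586) D19004 (iv D18565)
theorem F74564 : act 8 n19004 = n18908 := d32_2 (iv F72587) D19004 (iv D18908)
def n19005 : Q := act 6 n18520
theorem D19005 : act 6 n18520 = n19005 := rfl
theorem F74565 : act 1 n19005 = n18619 := d12_1 D19005 (iv D18619) (iv F72588)
theorem F74566 : act 2 n19005 = n18521 := d18_1 D19005 (iv D18521) (iv F72589)
theorem F74567 : act 4 n19005 = n18790 := d27_1 D19005 (iv D18790) (iv F72590)
theorem F74568 : act 5 n19005 = n18687 := d30_1 D19005 (iv D18687) (iv D18134) (iv F70380) D18520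
theorem F74569 : act 7 n19005 = n18522 := d33_2 (iv F72591) D19005 (iv D18522)
theorem F74570 : act 8 n19005 = n18910 := d34_2 (iv F72592) D19005 (iv D18910)
def n19006 : Q := act 3 n18523
theorem D19006 : act 3 n18523 = n19006 := rfl
theorem F74571 : act 0 n19006 = n18789 := d2_1 D19006 F73643 (iv F72604)
theorem F74572 : act 1 n19006 = n18524 := d9_1 D19006 (iv D18524) (iv F72605)
theorem F74573 : act 4 n19006 = n19006 := d21_2 D18523 D19006 (iv D19006) (iv D18523) F70406
theorem F74574 : act 6 n19006 = n18563 := d23_2 (iv F72607) D19006 (iv D18563)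
theorem F74575 : act 7 n19006 = n18602 := d24_2 (iv F72608) D19006 (iv D18602) F70741 (iv F70422)
def n19007 : Q := act 5 n18523
theorem D19007 : act 5 n18523 = n19007 := rfl
theorem F74576 : act 0 n19007 = n18806 := d4_1 D19007 F73705 (iv F72604)
theorem F74577 : act 1 n19007 = n18525 := d11_1 D19007 (iv D18525) (iv F72605)
theorem F74578 : act 2 n19007 = n18535 := d17_1 D19007 (iv D18535) (iv F72606)
theorem F74579 : act 4 n19007 = n18813 := d26_1 D19007 (iv D18813) (iv D18285) (iv F70407) D18523
theorem F74580 : act 7 n19007 = n18527 := d31_2 (iv F72608) D19007 (iv D18527)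
def n19008 : Q := act 5 n18524
theorem D19008 : act 5 n18524 = n19008 := rfl
theorem F74581 : act 0 n19008 = n18875 := d4_1 D19008 (iv D18875) (iv F72609)
theorem F74582 : act 2 n19008 = n19004 := d17_1 D19008 (iv D19004) (iv F72610)
theorem F74583 : act 3 n19008 = n18525 := d22_1 D19008 (iv D18525) D18524
theorem F74584 : act 7 n19008 = n18686 := d31_2 (iv F72613) D19008 (iv D18686)
def n19009 : Q := act 6 n18525
theorem D19009 : act 6 n18525 = n19009 := rfl
theorem F74585 : act 0 n19009 = n18876 := d5_1 D19009 (iv D18876) (iv F72614)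
theorem F74586 : act 2 n19009 = n18526 := d18_1 D19009 (iv D18526) (iv F72615)
theorem F74587 : act 4 n19009 = n18815 := d27_1 D19009 (iv D18815) (iv F72616)
theorem F74588 : act 5 n19009 = n18566 := d30_1 D19009 (iv D18566) (iv D17985) (iv F70412) D18525
theorem F74589 : act 7 n19009 = n18528 := d33_2 (iv F72617) D19009 (iv D18528)
def n19010 : Q := act 6 n18527
theorem D19010 : act 6 n18527 = n19010 := rfl
theorem F74590 : act 0 n19010 = n18805 := d5_1 D19010 (iv D18805) (iv F72624)
theorem F74591 : act 1 n19010 = n18528 := d12_1 D19010 (iv D18528) (iv F72625)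
theorem F74592 : act 2 n19010 = n18541 := d18_1 D19010 (iv D18541) (iv F72626)
theorem F74593 : act 3 n19010 = n18631 := d23_1 D19010 (iv D18631) (iv F72627)
theorem F74594 : act 4 n19010 = n18816 := d27_1 D19010 (iv D18816) (iv F72628)
theorem F74595 : act 5 n19010 = n18572 := d30_1 D19010 (iv D18572) (iv D17992) (iv F70423) D18527
theorem F74596 : act 8 n19010 = n18646 := d34_2 (iv F72629) D19010 (iv D18646)
def n19011 : Q := act 6 n18529
theorem D19011 : act 6 n18529 = n19011 := rfl
theorem F74597 : act 0 n19011 = n18633 := d5_1 D19011 (iv D18633) (iv F72636)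
theorem F74598 : act 1 n19011 = n18737 := d12_1 D19011 (iv D18737) (iv F72637)
theorem F74599 : act 2 n19011 = n18897 := d18_1 D19011 (iv D18897) (iv F72638)
theorem F74600 : act 4 n19011 = n18574 := d27_1 D19011 (iv D18574) (iv F72639)
theorem F74601 : act 5 n19011 = n18533 := d30_1 D19011 (iv D18533) (iv D17952) (iv F70439) D18529
theorem F74602 : act 7 n19011 = n18537 := d33_2 (iv F72640) D19011 (iv D18537)
def n19012 : Q := act 5 n18530
theorem D19012 : act 5 n18530 = n19012 := rfl
theorem F74603 : act 0 n19012 = n18768 := d4_1 D19012 (iv D18768) (iv F72641)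
theorem F74604 : act 1 n19012 = n18532 := d11_1 D19012 (iv D18532) (iv F72642)
theorem F74605 : act 2 n19012 = n18813 := d17_1 D19012 (iv D18813) (iv F72643)
theorem F74606 : act 4 n19012 = n18535 := d26_1 D19012 (iv D18535) (iv D17954) (iv F70444) D18530
theorem F74607 : act 7 n19012 = n18538 := d31_2 (iv F72645) D19012 (iv D18538)
def n19013 : Q := act 5 n18531
theorem D19013 : act 5 n18531 = n19013 := rfl
theorem F74608 : act 0 n19013 = n18779 := d4_1 D19013 (iv D18779) (iv F72646)
theorem F74609 : act 3 n19013 = n18532 := d22_1 D19013 (iv D18532) D18531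
def n19014 : Q := act 6 n18532
theorem D19014 : act 6 n18532 = n19014 := rfl
theorem F74610 : act 0 n19014 = n18780 := d5_1 D19014 (iv D18780) (iv F72649)
theorem F74611 : act 2 n19014 = n18533 := d18_1 D19014 (iv D18533) (iv F72650)
theorem F74612 : act 4 n19014 = n18536 := d27_1 D19014 (iv D18536) (iv F72651)
theorem F74613 : act 5 n19014 = n18897 := d30_1 D19014 (iv D18897) (iv D18379) (iv F70449) D18532
theorem F74614 : act 7 n19014 = n18540 := d33_2 (iv F72652) D19014 (iv D18540)
def n19015 : Q := act 5 n18534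
theorem D19015 : act 5 n18534 = n19015 := rfl
theorem F74615 : act 0 n19015 = n18535 := d4_1 D19015 (iv D18535) (iv F72657)
theorem F74616 : act 1 n19015 = n18763 := d11_1 D19015 (iv D18763) (iv F72658)
theorem F74617 : act 2 n19015 = n18806 := d17_1 D19015 F73705 (iv F72659)
theorem F74618 : act 4 n19015 = n18768 := d26_1 D19015 (iv D18768) (iv D18227) (iv F70458) D18534
theorem F74619 : act 7 n19015 = n18539 := d31_2 (iv F72661) D19015 (iv D18539)
def n19016 : Q := act 6 n18535
theorem D19016 : act 6 n18535 = n19016 := rfl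
theorem F74620 : act 1 n19016 = n18536 := d12_1 D19016 (iv D18536) (iv F72662)
theorem F74621 : act 5 n19016 = n18590 := d30_1 D19016 (iv D18590) (iv D18009) (iv F70462) D18535
theorem F74622 : act 7 n19016 = n18541 := d33_2 (iv F72663) D19016 (iv D18541)
def n19017 : Q := act 6 n18538
theorem D19017 : act 6 n18538 = n19017 := rfl
theorem F74623 : act 0 n19017 = n18771 := d5_1 D19017 (iv D18771) (iv F72674)
theorem F74624 : act 1 n19017 = n18540 := d12_1 D19017 (iv D18540) (iv F72675)
theorem F74625 : act 2 n19017 = n18816 := d18_1 D19017 (iv D18816) (iv F72676)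
theorem F74626 : act 3 n19017 = n18770 := d23_1 D19017 (iv D18770) (iv F72677)
theorem F74627 : act 4 n19017 = n18541 := d27_1 D19017 (iv D18541) (iv F72678)
theorem F74628 : act 5 n19017 = n18830 := d30_1 D19017 (iv D18830) F71680 (iv F70478) D18538
theorem F74629 : act 8 n19017 = n18826 := d34_2 (iv F72679) D19017 (iv D18826)
def n19018 : Q := act 6 n18539
theorem D19018 : act 6 n18539 = n19018 := rfl
theorem F74630 : act 0 n19018 = n18541 := d5_1 D19018 (iv D18541) (iv F72680)
theorem F74631 : act 1 n19018 = n18770 := d12_1 D19018 (iv D18770) (iv F72681)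
theorem F74632 : act 2 n19018 = n18805 := d18_1 D19018 (iv D18805) (iv F72682)
theorem F74633 : act 3 n19018 = n18540 := d23_1 D19018 (iv D18540) (iv F72683)
theorem F74634 : act 4 n19018 = n18771 := d27_1 D19018 (iv D18771) (iv F72684)
theorem F74635 : act 5 n19018 = n18593 := d30_1 D19018 (iv D18593) (iv D18015) (iv F70484) D18539
theorem F74636 : act 8 n19018 = n18827 := d34_2 (iv F72685) D19018 (iv D18827)
def n19019 : Q := act 6 n18542
theorem D19019 : act 6 n18542 = n19019 := rfl
theorem F74637 : act 0 n19019 = n18558 := d5_1 D19019 (iv D18558) (iv F72694)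
theorem F74638 : act 1 n19019 = n18754 := d12_1 D19019 (iv D18754) (iv F72695)
theorem F74639 : act 4 n19019 = n18547 := d27_1 D19019 (iv D18547) (iv F72696)
theorem F74640 : act 5 n19019 = n18745 := d30_1 D19019 (iv D18745) (iv D18196) (iv F70502) D18542
theorem F74641 : act 7 n19019 = n18548 := d33_2 (iv F72697) D19019 (iv D18548)
def n19020 : Q := act 3 n18543
theorem D19020 : act 3 n18543 = n19020 := rfl
theorem F74642 : act 0 n19020 = n18560 := d2_1 D19020 (iv D18560) (iv F72698)
theorem F74643 : act 2 n19020 = n18680 := d15_1 D19020 (iv D18680) F71100 (iv F70511) (iv F72699)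
theorem F74644 : act 4 n19020 = n19020 := d21_2 D18543 D19020 (iv D19020) (iv D18543) F70505
theorem F74645 : act 6 n19020 = n18872 := d23_2 (iv F72700) D19020 (iv D18872)
theorem F74646 : act 8 n19020 = n18545 := d25_2 (iv F72702) D19020 (iv D18545)
def n19021 : Q := act 5 n18543
theorem D19021 : act 5 n18543 = n19021 := rfl
theorem F74647 : act 0 n19021 = n18561 := d4_1 D19021 (iv D18561) (iv F72698)
theorem F74648 : act 2 n19021 = n18544 := d17_1 D19021 (iv D18544) (iv F72699)
theorem F74649 : act 7 n19021 = n18756 := d31_2 (iv F72701) D19021 (iv D18756)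
theorem F74650 : act 8 n19021 = n18546 := d32_2 (iv F72702) D19021 (iv D18546)
def n19022 : Q := act 6 n18544
theorem D19022 : act 6 n18544 = n19022 := rfl
theorem F74651 : act 0 n19022 = n18562 := d5_1 D19022 (iv D18562) (iv F72703)
theorem F74652 : act 1 n19022 = n18689 := d12_1 D19022 (iv D18689) (iv F72704)
theorem F74653 : act 3 n19022 = n18682 := d23_1 D19022 (iv D18682) (iv F72705)
theorem F74654 : act 5 n19022 = n18874 := d30_1 D19022 (iv D18874) (iv D18351) (iv F70512) D18544
theorem F74655 : act 7 n19022 = n18757 := d33_2 (iv F72706) D19022 (iv D18757)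
theorem F74656 : act 8 n19022 = n18547 := d34_2 (iv F72707) D19022 (iv D18547)
def n19023 : Q := act 5 n18545
theorem D19023 : act 5 n18545 = n19023 := rfl
theorem F74657 : act 0 n19023 = n18565 := d4_1 D19023 (iv D18565) (iv F72708)
theorem F74658 : act 3 n19023 = n18546 := d22_1 D19023 (iv D18546) D18545
def n19024 : Q := act 6 n18546
theorem D19024 : act 6 n18546 = n19024 := rfl
theorem F74659 : act 0 n19024 = n18566 := d5_1 D19024 (iv D18566) (iv F72711)
theorem F74660 : act 2 n19024 = n18547 := d18_1 D19024 (iv D18547) (iv F72712)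
theorem F74661 : act 5 n19024 = n18876 := d30_1 D19024 (iv D18876) (iv D18353) (iv F70517) D18546
theorem F74662 : act 7 n19024 = n18549 := d33_2 (iv F72713) D19024 (iv D18549)
def n19025 : Q := act 3 n18550
theorem D19025 : act 3 n18550 = n19025 := rfl
theorem F74663 : act 1 n19025 = n18935 := d9_1 D19025 (iv D18935) (iv F72727)
theorem F74664 : act 2 n19025 = n18556 := d15_1 D19025 (iv D18556) F70561 (iv F70540) (iv F72728)
theorem F74665 : act 4 n19025 = n19025 := d21_2 D18550 D19025 (iv D19025) (iv D18550) F70534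
theorem F74666 : act 6 n19025 = n18959 := d23_2 (iv F72729) D19025 (iv D18959)
theorem F74667 : act 8 n19025 = n18938 := d25_2 (iv F72731) D19025 (iv D18938)
def n19026 : Q := act 5 n18550
theorem D19026 : act 5 n18550 = n19026 := rfl
theorem F74668 : act 1 n19026 = n18936 := d11_1 D19026 (iv D18936) (iv F72727)
theorem F74669 : act 2 n19026 = n18551 := d17_1 D19026 (iv D18551) (iv F72728)
theorem F74670 : act 4 n19026 = n19021 := d26_1 D19026 (iv D19021) (iv D18543) (iv F70535) D18550
theorem F74671 : act 7 n19026 = n18772 := d31_2 (iv F72730) D19026 (iv D18772)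
theorem F74672 : act 8 n19026 = n18939 := d32_2 (iv F72731) D19026 (iv D18939)
def n19027 : Q := act 6 n18551
theorem D19027 : act 6 n18551 = n19027 := rfl
theorem F74673 : act 1 n19027 = n18573 := d12_1 D19027 (iv D18573) (iv F72732)
theorem F74674 : act 3 n19027 = n18558 := d23_1 D19027 (iv D18558) (iv F72733)
theorem F74675 : act 4 n19027 = n19022 := d27_1 D19027 (iv D19022) (iv F72734)
theorem F74676 : act 7 n19027 = n18773 := d33_2 (iv F72735) D19027 (iv D18773)
theorem F74677 : act 8 n19027 = n19019 := d34_2 (iv F72736) D19027 (iv D19019)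
def n19028 : Q := act 3 n18552
theorem D19028 : act 3 n18552 = n19028 := rfl
theorem F74678 : act 0 n19028 = n18743 := d2_1 D19028 (iv D18743) (iv F72737)
theorem F74679 : act 1 n19028 = n18824 := d9_1 D19028 F73752 (iv F72738)
theorem F74680 : act 2 n19028 = n18959 := d15_1 D19028 (iv D18959) F72381 F71331 (iv F72739)
theorem F74681 : act 4 n19028 = n19028 := d21_2 D18552 D19028 (iv D19028) (iv D18552) F70545
theorem F74682 : act 6 n19028 = n18556 := d23_2 (iv F72740) D19028 (iv D18556)
theorem F74683 : act 7 n19028 = n18821 := d24_2 (iv F72741) D19028 (iv D18821) F71663 (iv F70585)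
def n19029 : Q := act 5 n18552
theorem D19029 : act 5 n18552 = n19029 := rfl
theorem F74684 : act 0 n19029 = n18744 := d4_1 D19029 (iv D18744) (iv F72737)
theorem F74685 : act 1 n19029 = n18828 := d11_1 D19029 F73761 (iv F72738)
theorem F74686 : act 2 n19029 = n18553 := d17_1 D19029 (iv D18553) (iv F72739)
theorem F74687 : act 4 n19029 = n18736 := d26_1 D19029 (iv D18736) (iv D18187) (iv F70546) D18552
theorem F74688 : act 7 n19029 = n18567 := d31_2 (iv F72741) D19029 (iv D18567)
def n19030 : Q := act 6 n18553
theorem D19030 : act 6 n18553 = n19030 := rfl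
theorem F74689 : act 0 n19030 = n18745 := d5_1 D19030 (iv D18745) (iv F72742)
theorem F74690 : act 1 n19030 = n18574 := d12_1 D19030 (iv D18574) (iv F72743)
theorem F74691 : act 4 n19030 = n18737 := d27_1 D19030 (iv D18737) (iv F72744)
theorem F74692 : act 5 n19030 = n18558 := d30_1 D19030 (iv D18558) (iv D17979) (iv F70551) D18553
theorem F74693 : act 7 n19030 = n18568 := d33_2 (iv F72745) D19030 (iv D18568)
def n19031 : Q := act 3 n18554
theorem D19031 : act 3 n18554 = n19031 := rfl
theorem F74694 : act 0 n19031 = n19025 := d2_1 D19031 (iv D19025) (iv F72746)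
theorem F74695 : act 2 n19031 = n18938 := d15_1 D19031 (iv D18938) F72160 (iv F70559) (iv F72747)
theorem F74696 : act 4 n19031 = n19031 := d21_2 D18554 D19031 (iv D19031) (iv D18554) F70554
theorem F74697 : act 8 n19031 = n18556 := d25_2 (iv F72748) D19031 (iv D18556)
def n19032 : Q := act 5 n18554
theorem D19032 : act 5 n18554 = n19032 := rfl
theorem F74698 : act 0 n19032 = n19026 := d4_1 D19032 (iv D19026) (iv F72746)
theorem F74699 : act 2 n19032 = n18555 := d17_1 D19032 (iv D18555) (iv F72747)
theorem F74700 : act 4 n19032 = n18561 := d26_1 D19032 (iv D18561) (iv D17981) (iv F70555) D18554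
theorem F74701 : act 8 n19032 = n18557 := d32_2 (iv F72748) D19032 (iv D18557)
def n19033 : Q := act 6 n18555
theorem D19033 : act 6 n18555 = n19033 := rfl
theorem F74702 : act 0 n19033 = n19027 := d5_1 D19033 (iv D19027) (iv F72749)
theorem F74703 : act 1 n19033 = n18577 := d12_1 D19033 (iv D18577) (iv F72750)
theorem F74704 : act 3 n19033 = n19019 := d23_1 D19033 (iv D19019) (iv F72751)
theorem F74705 : act 4 n19033 = n18562 := d27_1 D19033 (iv D18562) (iv F72752)
theorem F74706 : act 8 n19033 = n18558 := d34_2 (iv F72753) D19033 (iv D18558)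
def n19034 : Q := act 5 n18556
theorem D19034 : act 5 n18556 = n19034 := rfl
theorem F74707 : act 3 n19034 = n18557 := d22_1 D19034 (iv D18557) D18556
def n19035 : Q := act 7 n18556
theorem D19035 : act 7 n18556 = n19035 := rfl
theorem F74708 : act 0 n19035 = n18812 := d6_1 D19035 (iv F74242) F74238
theorem F74709 : act 1 n19035 = n18653 := d13_1 D19035 (iv F74531) F74527
theorem F74710 : act 3 n19035 = n18570 := d24_1 D19035 (iv D18570) (iv D17989) (iv F70562) D18556
theorem F74711 : act 4 n19035 = n19035 := d28_1 D19035 (iv D19035) F72754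
theorem F74712 : act 6 n19035 = n18821 := d33_1 D19035 (iv F74683) F74682
def n19036 : Q := act 6 n18557
theorem D19036 : act 6 n18557 = n19036 := rfl
theorem F74713 : act 2 n19036 = n18558 := d18_1 D19036 (iv D18558) (iv F72755)
theorem F74714 : act 4 n19036 = n18566 := d27_1 D19036 (iv D18566) (iv F72756)
theorem F74715 : act 7 n19036 = n18571 := d33_2 (iv F72757) D19036 (iv D18571)
def n19037 : Q := act 3 n18559
theorem D19037 : act 3 n18559 = n19037 := rfl
theorem F74716 : act 1 n19037 = n18560 := d9_1 D19037 (iv D18560) (iv F72761)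
theorem F74717 : act 4 n19037 = n19037 := d21_2 D18559 D19037 (iv D19037) (iv D18559) F70567
theorem F74718 : act 8 n19037 = n18563 := d25_2 (iv F72764) D19037 (iv D18563)
def n19038 : Q := act 5 n18559
theorem D19038 : act 5 n18559 = n19038 := rfl
theorem F74719 : act 1 n19038 = n18561 := d11_1 D19038 (iv D18561) (iv F72761)
theorem F74720 : act 2 n19038 = n18582 := d17_1 D19038 (iv D18582) (iv F72762)
theorem F74721 : act 7 n19038 = n18671 := d31_2 (iv F72763) D19038 F73183
theorem F74722 : act 8 n19038 = n18564 := d32_2 (iv F72764) D19038 (iv D18564)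
def n19039 : Q := act 5 n18560
theorem D19039 : act 5 n18560 = n19039 := rfl
theorem F74723 : act 3 n19039 = n18561 := d22_1 D19039 (iv D18561) D18560
theorem F74724 : act 8 n19039 = n18565 := d32_2 (iv F72766) D19039 (iv D18565)
def n19040 : Q := act 6 n18561
theorem D19040 : act 6 n18561 = n19040 := rfl
theorem F74725 : act 2 n19040 = n18562 := d18_1 D19040 (iv D18562) (iv F72767)
theorem F74726 : act 8 n19040 = n18566 := d34_2 (iv F72768) D19040 (iv D18566)
def n19041 : Q := act 2 n18563
theorem D19041 : act 2 n18563 = n19041 := rfl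
theorem F74727 : act 1 n19041 = n18848 := d8_1 D19041 F73835 F72915 F71119 (iv F72771)
theorem F74728 : act 3 n19041 = n18588 := d15_2 D18563 D19041 (iv D18588) (iv D18008) (iv F70575)
theorem F74729 : act 4 n19041 = n19041 := d16_2 F72772 D19041 (iv D19041)
theorem F74730 : act 7 n19041 = n18615 := d19_2 (iv F72773) D19041 F72971
def n19042 : Q := act 5 n18563
theorem D19042 : act 5 n18563 = n19042 := rfl
theorem F74731 : act 1 n19042 = n18565 := d11_1 D19042 (iv D18565) (iv F72771)
theorem F74732 : act 3 n19042 = n18564 := d22_1 D19042 (iv D18564) D18563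
theorem F74733 : act 7 n19042 = n18618 := d31_2 (iv F72773) D19042 (iv D18618)
def n19043 : Q := act 6 n18564
theorem D19043 : act 6 n18564 = n19043 := rfl
theorem F74734 : act 1 n19043 = n18566 := d12_1 D19043 (iv D18566) (iv F72774)
theorem F74735 : act 2 n19043 = n18590 := d18_1 D19043 (iv D18590) (iv F72775)
theorem F74736 : act 7 n19043 = n18572 := d33_2 (iv F72776) D19043 (iv D18572)
def n19044 : Q := act 4 n18565
theorem D19044 : act 4 n18565 = n19044 := rfl
theorem F74737 : act 5 n19044 = n19044 := d26_2 D18565 D19044 (iv D19044) (iv D18565) F70577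
def n19045 : Q := act 6 n18565
theorem D19045 : act 6 n18565 = n19045 := rfl
theorem F74738 : act 3 n19045 = n18566 := d23_1 D19045 (iv D18566) (iv F72777)
def n19046 : Q := act 6 n18567
theorem D19046 : act 6 n18567 = n19046 := rfl
theorem F74739 : act 0 n19046 = n18751 := d5_1 D19046 (iv D18751) (iv F72780)
theorem F74740 : act 1 n19046 = n18827 := d12_1 D19046 (iv D18827) (iv F72781)
theorem F74741 : act 2 n19046 = n18568 := d18_1 D19046 (iv D18568) (iv F72782)
theorem F74742 : act 3 n19046 = n18826 := d23_1 D19046 (iv D18826) (iv F72783)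
theorem F74743 : act 4 n19046 = n18739 := d27_1 D19046 (iv D18739) (iv F72784)
theorem F74744 : act 5 n19046 = n18571 := d30_1 D19046 (iv D18571) (iv D17990) (iv F70586) D18567
theorem F74745 : act 8 n19046 = n18770 := d34_2 (iv F72785) D19046 (iv D18770)
def n19047 : Q := act 6 n18569
theorem D19047 : act 6 n18569 = n19047 := rfl
theorem F74746 : act 0 n19047 = n18816 := d5_1 D19047 (iv D18816) (iv F72792)
theorem F74747 : act 1 n19047 = n18656 := d12_1 D19047 (iv D18656) (iv F72793)
theorem F74748 : act 2 n19047 = n18771 := d18_1 D19047 (iv D18771) (iv F72794)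
theorem F74749 : act 3 n19047 = n18571 := d23_1 D19047 (iv D18571) (iv F72795)
theorem F74750 : act 4 n19047 = n18805 := d27_1 D19047 (iv D18805) (iv F72796)
theorem F74751 : act 5 n19047 = n18826 := d30_1 D19047 (iv D18826) (iv D18298) (iv F70597) D18569
theorem F74752 : act 8 n19047 = n18830 := d34_2 (iv F72797) D19047 (iv D18830)
def n19048 : Q := act 7 n18569
theorem D19048 : act 7 n18569 = n19048 := rfl
theorem F74753 : act 0 n19048 = n18813 := d6_1 D19048 F73725 (iv F72792)
theorem F74754 : act 1 n19048 = n18654 := d13_1 D19048 F73122 (iv F72793)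
theorem F74755 : act 2 n19048 = n18768 := d19_1 D19048 F73564 (iv F72794)
theorem F74756 : act 4 n19048 = n18806 := d28_1 D19048 (iv D18806) (iv F72796)
theorem F74757 : act 5 n19048 = n18570 := d31_1 D19048 (iv D18570) D18569
def n19049 : Q := act 8 n18570
theorem D19049 : act 8 n18570 = n19049 := rfl
theorem F74758 : act 0 n19049 = n18808 := d7_1 D19049 F73711 (iv F72798)
theorem F74759 : act 1 n19049 = n18651 := d14_1 D19049 F73110 (iv F72799)
theorem F74760 : act 2 n19049 = n18765 := d20_1 D19049 F73553 (iv F72800)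
theorem F74761 : act 4 n19049 = n18598 := d29_1 D19049 (iv D18598) (iv F72801)
theorem F74762 : act 6 n19049 = n18817 := d34_1 D19049 F73735 (iv F72802)
theorem F74763 : act 7 n19049 = n18838 := d35_1 D19049 F73797 F71726 (iv F70598) D18570
def n19050 : Q := act 5 n18575
theorem D19050 : act 5 n18575 = n19050 := rfl
theorem F74764 : act 0 n19050 = n18671 := d4_1 D19050 F73183 (iv F72813)
theorem F74765 : act 1 n19050 = n18576 := d11_1 D19050 (iv D18576) (iv F72814)
theorem F74766 : act 4 n19050 = n18582 := d26_1 D19050 (iv D18582) (iv D18003) (iv F70614) D18575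
theorem F74767 : act 8 n19050 = n18578 := d32_2 (iv F72816) D19050 (iv D18578)
def n19051 : Q := act 6 n18576
theorem D19051 : act 6 n18576 = n19051 := rfl
theorem F74768 : act 2 n19051 = n18577 := d18_1 D19051 (iv D18577) (iv F72817)
theorem F74769 : act 4 n19051 = n18585 := d27_1 D19051 (iv D18585) (iv F72818)
theorem F74770 : act 8 n19051 = n18579 := d34_2 (iv F72819) D19051 (iv D18579)
def n19052 : Q := act 6 n18578
theorem D19052 : act 6 n18578 = n19052 := rfl
theorem F74771 : act 0 n19052 = n18670 := d5_1 D19052 F73182 (iv F72822)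
theorem F74772 : act 1 n19052 = n18579 := d12_1 D19052 (iv D18579) (iv F72823)
theorem F74773 : act 4 n19052 = n18590 := d27_1 D19052 (iv D18590) (iv F72824)
theorem F74774 : act 5 n19052 = n18832 := d30_1 D19052 F73773 F71683 (iv F70623) D18578
theorem F74775 : act 7 n19052 = n18592 := d33_2 (iv F72825) D19052 (iv D18592)
def n19053 : Q := act 3 n18580
theorem D19053 : act 3 n18580 = n19053 := rfl
theorem F74776 : act 0 n19053 = n18581 := d2_1 D19053 (iv D18581) (iv F72829)
theorem F74777 : act 1 n19053 = n18706 := d9_1 D19053 (iv F73526) F73524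
theorem F74778 : act 4 n19053 = n18594 := d21_2 D18580 D19053 (iv D18594) (iv D18018) (iv F70630)
theorem F74779 : act 6 n19053 = n18801 := d23_2 F74128 D19053 (iv F74127)
theorem F74780 : act 8 n19053 = n18586 := d25_2 (iv F72830) D19053 (iv D18586)
def n19054 : Q := act 5 n18580
theorem D19054 : act 5 n18580 = n19054 := rfl
theorem F74781 : act 0 n19054 = n18582 := d4_1 D19054 (iv D18582) (iv F72829)
theorem F74782 : act 4 n19054 = n18671 := d26_1 D19054 F73183 F71033 (iv F70631) D18580
theorem F74783 : act 8 n19054 = n18587 := d32_2 (iv F72830) D19054 (iv D18587)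
def n19055 : Q := act 2 n18581
theorem D19055 : act 2 n18581 = n19055 := rfl
theorem F74784 : act 1 n19055 = n18606 := d8_1 D19055 F72932 F70759 (iv F70636) (iv F72831)
theorem F74785 : act 4 n19055 = n18595 := d16_2 (iv F72832) D19055 (iv D18595)
theorem F74786 : act 6 n19055 = n18784 := d18_2 (iv F72833) D19055 F73631
theorem F74787 : act 8 n19055 = n18588 := d20_2 (iv F72834) D19055 (iv D18588)
def n19056 : Q := act 5 n18581
theorem D19056 : act 5 n18581 = n19056 := rfl
theorem F74788 : act 1 n19056 = n18583 := d11_1 D19056 (iv D18583) (iv F72831)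
theorem F74789 : act 3 n19056 = n18582 := d22_1 D19056 (iv D18582) D18581
theorem F74790 : act 8 n19056 = n18589 := d32_2 (iv F72834) D19056 (iv D18589)
def n19057 : Q := act 7 n18581
theorem D19057 : act 7 n18581 = n19057 := rfl
theorem F74791 : act 1 n19057 = n18584 := d13_1 D19057 (iv D18584) (iv F72831)
theorem F74792 : act 4 n19057 = n18596 := d28_1 D19057 (iv D18596) (iv F72832)
theorem F74793 : act 6 n19057 = n18792 := d33_1 D19057 F73653 (iv F72833)
theorem F74794 : act 8 n19057 = n18892 := d35_2 (iv F72834) D19057 (iv D18892) F71914 (iv F70647)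
def n19058 : Q := act 6 n18582
theorem D19058 : act 6 n18582 = n19058 := rfl
theorem F74795 : act 1 n19058 = n18585 := d12_1 D19058 (iv D18585) (iv F72835)
theorem F74796 : act 8 n19058 = n18590 := d34_2 (iv F72836) D19058 (iv D18590)
def n19059 : Q := act 6 n18583
theorem D19059 : act 6 n18583 = n19059 := rfl
theorem F74797 : act 0 n19059 = n18708 := d5_1 D19059 (iv D18708) (iv F72837)
theorem F74798 : act 2 n19059 = n18695 := d18_1 D19059 (iv D18695) (iv F72838)
theorem F74799 : act 3 n19059 = n18585 := d23_1 D19059 (iv D18585) (iv F72839)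
theorem F74800 : act 5 n19059 = n18803 := d30_1 D19059 (iv D18803) (iv D18274) (iv F70638) D18583
theorem F74801 : act 8 n19059 = n18591 := d34_2 (iv F72840) D19059 (iv D18591)
def n19060 : Q := act 7 n18583
theorem D19060 : act 7 n18583 = n19060 := rfl
theorem F74802 : act 0 n19060 = n18703 := d6_1 D19060 F73325 (iv F72837)
theorem F74803 : act 2 n19060 = n18694 := d19_1 D19060 F73287 (iv F72838)
theorem F74804 : act 5 n19060 = n18584 := d31_1 D19060 (iv D18584) D18583
theorem F74805 : act 8 n19060 = n18895 := d35_2 (iv F72840) D19060 (iv D18895) F71920 (iv F70651)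
def n19061 : Q := act 2 n18586
theorem D19061 : act 2 n18586 = n19061 := rfl
theorem F74806 : act 0 n19061 = n18588 := d1_1 D19061 (iv D18588) (iv F72848)
theorem F74807 : act 4 n19061 = n18597 := d16_2 (iv F72849) D19061 (iv D18597)
theorem F74808 : act 7 n19061 = n18863 := d19_2 (iv F72850) D19061 F73888
def n19062 : Q := act 5 n18586
theorem D19062 : act 5 n18586 = n19062 := rfl
theorem F74809 : act 0 n19062 = n18589 := d4_1 D19062 (iv D18589) (iv F72848)
theorem F74810 : act 3 n19062 = n18587 := d22_1 D19062 (iv D18587) D18586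
theorem F74811 : act 7 n19062 = n18896 := d31_2 (iv F72850) D19062 (iv D18896)
def n19063 : Q := act 6 n18587
theorem D19063 : act 6 n18587 = n19063 := rfl
theorem F74812 : act 0 n19063 = n18590 := d5_1 D19063 (iv D18590) (iv F72851)
theorem F74813 : act 4 n19063 = n18670 := d27_1 D19063 F73182 (iv F72852)
theorem F74814 : act 7 n19063 = n18593 := d33_2 (iv F72853) D19063 (iv D18593)
def n19064 : Q := act 5 n18588
theorem D19064 : act 5 n18588 = n19064 := rfl
theorem F74815 : act 1 n19064 = n18849 := d11_1 D19064 (iv D18849) (iv F72854)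
theorem F74816 : act 2 n19064 = n18589 := d17_1 D19064 (iv D18589) D18588
theorem F74817 : act 4 n19064 = n18858 := d26_1 D19064 (iv D18858) (iv D18334) (iv F70687) (iv F72855)
theorem F74818 : act 7 n19064 = n18864 := d31_2 (iv F72856) D19064 (iv D18864)
def n19065 : Q := act 6 n18589
theorem D19065 : act 6 n18589 = n19065 := rfl
theorem F74819 : act 1 n19065 = n18591 := d12_1 D19065 (iv D18591) (iv F72857)
theorem F74820 : act 3 n19065 = n18590 := d23_1 D19065 (iv D18590) (iv F72858)
theorem F74821 : act 7 n19065 = n18898 := d33_2 (iv F72859) D19065 (iv D18898)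
def n19066 : Q := act 2 n18594
theorem D19066 : act 2 n18594 = n19066 := rfl
theorem F74822 : act 0 n19066 = n18595 := d1_1 D19066 (iv D18595) (iv F72872)
theorem F74823 : act 1 n19066 = n18613 := d8_1 D19066 F72963 F70810 (iv F71207) (iv F72873)
theorem F74824 : act 3 n19066 = n19066 := d15_2 D18594 D19066 (iv D19066) (iv D18594) F70671
theorem F74825 : act 5 n19066 = n18851 := d17_2 F73831 D19066 F73848
theorem F74826 : act 6 n19066 = n18783 := d18_2 (iv F72874) D19066 F73627
theorem F74827 : act 8 n19066 = n18597 := d20_2 (iv F72875) D19066 (iv D18597)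
theorem F74828 : act 7 n18804 = n19066 := d35_5 F74827 F72888 F71810 (iv F73017) (iv F73702)
def n19067 : Q := act 7 n18594
theorem D19067 : act 7 n18594 = n19067 := rfl
theorem F74829 : act 0 n19067 = n18596 := d6_1 D19067 (iv D18596) (iv F72872)
theorem F74830 : act 1 n19067 = n18700 := d13_1 D19067 F73316 (iv F72873)
theorem F74831 : act 2 n19067 = n18804 := d19_1 D19067 F74828 (iv D19066)
theorem F74832 : act 3 n19067 = n19067 := d24_1 D19067 (iv D19067) (iv D18594) F70673 D18594
theorem F74833 : act 6 n19067 = n18791 := d33_1 D19067 F73651 (iv F72874)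
theorem F74834 : act 8 n19067 = n18900 := d35_2 (iv F72875) D19067 (iv D18900) F71951 (iv F70684)
def n19068 : Q := act 5 n18602
theorem D19068 : act 5 n18602 = n19068 := rfl
theorem F74835 : act 0 n19068 = n18788 := d4_1 D19068 (iv D18788) (iv F72914)
theorem F74836 : act 1 n19068 = n18686 := d11_1 D19068 (iv D18686) (iv F72915)
theorem F74837 : act 3 n19068 = n18603 := d22_1 D19068 (iv D18603) D18602
def n19069 : Q := act 6 n18603
theorem D19069 : act 6 n18603 = n19069 := rfl
theorem F74838 : act 0 n19069 = n18790 := d5_1 D19069 (iv D18790) (iv F72918)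
theorem F74839 : act 1 n19069 = n18687 := d12_1 D19069 (iv D18687) (iv F72919)
theorem F74840 : act 2 n19069 = n18604 := d18_1 D19069 (iv D18604) (iv F72920)
theorem F74841 : act 5 n19069 = n18619 := d30_1 D19069 (iv D18619) (iv D18046) (iv F70740) D18603
theorem F74842 : act 7 n19069 = n18631 := d33_2 (iv F72921) D19069 (iv D18631)
def n19070 : Q := act 3 n18606
theorem D19070 : act 3 n18606 = n19070 := rfl
theorem F74843 : act 0 n19070 = n18615 := d2_1 D19070 (iv D18615) (iv F72931)
theorem F74844 : act 2 n19070 = n18608 := d15_1 D19070 (iv D18608) F70764 (iv F70760) (iv F72932)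
theorem F74845 : act 4 n19070 = n19070 := d21_2 D18606 D19070 (iv D19070) (iv D18606) F70754
theorem F74846 : act 6 n19070 = n18785 := d23_2 (iv F72933) D19070 (iv D18785)
theorem F74847 : act 8 n19070 = n18848 := d25_2 (iv F72934) D19070 (iv D18848)
def n19071 : Q := act 5 n18606
theorem D19071 : act 5 n18606 = n19071 := rfl
theorem F74848 : act 0 n19071 = n18616 := d4_1 D19071 (iv D18616) (iv F72931)
theorem F74849 : act 2 n19071 = n18607 := d17_1 D19071 (iv D18607) (iv F72932)
theorem F74850 : act 4 n19071 = n18854 := d26_1 D19071 (iv D18854) (iv D18331) (iv F70755) D18606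
theorem F74851 : act 8 n19071 = n18849 := d32_2 (iv F72934) D19071 (iv D18849)
def n19072 : Q := act 6 n18607
theorem D19072 : act 6 n18607 = n19072 := rfl
theorem F74852 : act 0 n19072 = n18617 := d5_1 D19072 (iv D18617) (iv F72935)
theorem F74853 : act 1 n19072 = n18695 := d12_1 D19072 (iv D18695) (iv F72936)
theorem F74854 : act 3 n19072 = n18610 := d23_1 D19072 (iv D18610) (iv F72937)
theorem F74855 : act 4 n19072 = n18855 := d27_1 D19072 (iv D18855) (iv F72938)
theorem F74856 : act 5 n19072 = n18787 := d30_1 D19072 (iv D18787) (iv D18262) (iv F70761) D18607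
theorem F74857 : act 8 n19072 = n18850 := d34_2 (iv F72939) D19072 (iv D18850)
def n19073 : Q := act 5 n18608
theorem D19073 : act 5 n18608 = n19073 := rfl
theorem F74858 : act 0 n19073 = n18618 := d4_1 D19073 (iv D18618) (iv F72940)
theorem F74859 : act 3 n19073 = n18609 := d22_1 D19073 (iv D18609) D18608
theorem F74860 : act 8 n19073 = n19068 := d32_2 (iv F72943) D19073 (iv D19068)
def n19074 : Q := act 6 n18609
theorem D19074 : act 6 n18609 = n19074 := rfl
theorem F74861 : act 0 n19074 = n18619 := d5_1 D19074 (iv D18619) (iv F72944)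
theorem F74862 : act 2 n19074 = n18610 := d18_1 D19074 (iv D18610) (iv F72945)
theorem F74863 : act 5 n19074 = n18790 := d30_1 D19074 (iv D18790) (iv D18264) (iv F70765) D18609
theorem F74864 : act 7 n19074 = n18632 := d33_2 (iv F72946) D19074 (iv D18632)
theorem F74865 : act 8 n19074 = n19069 := d34_2 (iv F72947) D19074 (iv D19069)
def n19075 : Q := act 3 n18611
theorem D19075 : act 3 n18611 = n19075 := rfl
theorem F74866 : act 0 n19075 = n18853 := d2_1 D19075 (iv D18853) (iv F72953)
theorem F74867 : act 2 n19075 = n18809 := d15_1 D19075 (iv D18809) F71633 (iv F70780) (iv F72954)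
theorem F74868 : act 4 n19075 = n19075 := d21_2 D18611 D19075 (iv D19075) (iv D18611) F70773
theorem F74869 : act 6 n19075 = n18878 := d23_2 (iv F72955) D19075 F73940
theorem F74870 : act 7 n19075 = n18746 := d24_2 (iv F72956) D19075 (iv D18746) F71342 D18240
theorem F74871 : act 8 n19075 = n18793 := d25_2 (iv F72957) D19075 (iv D18793)
def n19076 : Q := act 5 n18611
theorem D19076 : act 5 n18611 = n19076 := rfl
theorem F74872 : act 0 n19076 = n18854 := d4_1 D19076 (iv D18854) (iv F72953)
theorem F74873 : act 2 n19076 = n18612 := d17_1 D19076 (iv D18612) (iv F72954)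
theorem F74874 : act 4 n19076 = n18616 := d26_1 D19076 (iv D18616) (iv D18043) (iv F70774) D18611
theorem F74875 : act 7 n19076 = n18777 := d31_2 (iv F72956) D19076 (iv D18777)
theorem F74876 : act 8 n19076 = n18794 := d32_2 (iv F72957) D19076 (iv D18794)
def n19077 : Q := act 6 n18612
theorem D19077 : act 6 n18612 = n19077 := rfl
theorem F74877 : act 0 n19077 = n18855 := d5_1 D19077 (iv D18855) (iv F72958)
theorem F74878 : act 1 n19077 = n18626 := d12_1 D19077 (iv D18626) (iv F72959)
theorem F74879 : act 3 n19077 = n18811 := d23_1 D19077 (iv D18811) (iv F72960)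
theorem F74880 : act 4 n19077 = n18617 := d27_1 D19077 (iv D18617) (iv F72961)
theorem F74881 : act 8 n19077 = n18795 := d34_2 (iv F72962) D19077 (iv D18795)
def n19078 : Q := act 4 n18613
theorem D19078 : act 4 n18613 = n19078 := rfl
theorem F74882 : act 0 n19078 = n18614 := d3_1 D19078 (iv D18614) D18613
theorem F74883 : act 2 n19078 = n18627 := d16_1 D19078 (iv D18627) (iv F72963)
theorem F74884 : act 6 n19078 = n19061 := d27_2 (iv F72965) D19078 F74807
theorem F74885 : act 7 n19078 = n18798 := d28_2 (iv F72966) D19078 F73677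
def n19079 : Q := act 3 n18614
theorem D19079 : act 3 n18614 = n19079 := rfl
theorem F74886 : act 1 n19079 = n18615 := d9_1 D19079 (iv D18615) (iv F72967)
theorem F74887 : act 2 n19079 = n19006 := d15_1 D19079 (iv D19006) F72606 (iv F70815) (iv F72968)
theorem F74888 : act 4 n19079 = n19079 := d21_2 D18614 D19079 (iv D19079) (iv D18614) F70783
theorem F74889 : act 6 n19079 = n19041 := d23_2 (iv F72969) D19079 F74728
theorem F74890 : act 7 n19079 = n18848 := d24_2 (iv F72970) D19079 (iv D18848) F71770 D18342
def n19080 : Q := act 5 n18614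
theorem D19080 : act 5 n18614 = n19080 := rfl
theorem F74891 : act 1 n19080 = n18616 := d11_1 D19080 (iv D18616) (iv F72967)
theorem F74892 : act 2 n19080 = n18628 := d17_1 D19080 (iv D18628) (iv F72968)
theorem F74893 : act 7 n19080 = n18865 := d31_2 (iv F72970) D19080 (iv D18865)
def n19081 : Q := act 5 n18615
theorem D19081 : act 5 n18615 = n19081 := rfl
theorem F74894 : act 2 n19081 = n18618 := d17_1 D19081 (iv D18618) (iv F72971)
theorem F74895 : act 3 n19081 = n18616 := d22_1 D19081 (iv D18616) D18615
def n19082 : Q := act 6 n18616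
theorem D19082 : act 6 n18616 = n19082 := rfl
theorem F74896 : act 2 n19082 = n18617 := d18_1 D19082 (iv D18617) (iv F72973)
def n19083 : Q := act 4 n18618
theorem D19083 : act 4 n18618 = n19083 := rfl
theorem F74897 : act 5 n19083 = n19083 := d26_2 D18618 D19083 (iv D19083) (iv D18618) F70789
def n19084 : Q := act 6 n18618
theorem D19084 : act 6 n18618 = n19084 := rfl
theorem F74898 : act 3 n19084 = n18619 := d23_1 D19084 (iv D18619) (iv F72976)
def n19085 : Q := act 6 n18620
theorem D19085 : act 6 n18620 = n19085 := rfl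
theorem F74899 : act 0 n19085 = n18720 := d5_1 D19085 (iv D18720) (iv F72979)
theorem F74900 : act 1 n19085 = n18725 := d12_1 D19085 (iv D18725) (iv F72980)
theorem F74901 : act 3 n19085 = n18637 := d23_1 D19085 (iv D18637) (iv F72981)
theorem F74902 : act 4 n19085 = n18862 := d27_1 D19085 (iv D18862) (iv F72982)
theorem F74903 : act 5 n19085 = n18705 := d30_1 D19085 (iv D18705) (iv D18156) (iv F70797) D18620
theorem F74904 : act 7 n19085 = n19077 := d33_2 (iv F72983) D19085 (iv D19077)
theorem F74905 : act 8 n19085 = n18621 := d34_2 (iv F72984) D19085 (iv D18621)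
def n19086 : Q := act 4 n18622
theorem D19086 : act 4 n18622 = n19086 := rfl
theorem F74906 : act 0 n19086 = n18623 := d3_1 D19086 (iv D18623) D18622
theorem F74907 : act 1 n19086 = n18714 := d10_1 D19086 F73370 (iv F72989)
theorem F74908 : act 3 n19086 = n18713 := d21_1 D19086 (iv D18713) F71238 F70826 (iv F72990)
theorem F74909 : act 7 n19086 = n18624 := d28_2 (iv F72992) D19086 F72996
def n19087 : Q := act 3 n18623
theorem D19087 : act 3 n18623 = n19087 := rfl
theorem F74910 : act 0 n19087 = n18713 := d2_1 D19087 (iv F74908) F74906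
theorem F74911 : act 1 n19087 = n18624 := d9_1 D19087 (iv D18624) (iv F72993)
theorem F74912 : act 4 n19087 = n18630 := d21_2 D18623 D19087 (iv D18630) (iv D18058) (iv F70803)
theorem F74913 : act 6 n19087 = n19086 := d23_2 F73367 D19087 F74908
theorem F74914 : act 7 n19087 = n18714 := d24_2 (iv F72994) D19087 (iv D18714) F71244 D18178
def n19088 : Q := act 5 n18623
theorem D19088 : act 5 n18623 = n19088 := rfl
theorem F74915 : act 1 n19088 = n18625 := d11_1 D19088 (iv D18625) (iv F72993)
theorem F74916 : act 4 n19088 = n18628 := d26_1 D19088 (iv D18628) (iv D18054) (iv F70804) D18623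
theorem F74917 : act 7 n19088 = n18727 := d31_2 (iv F72994) D19088 (iv D18727)
def n19089 : Q := act 5 n18624
theorem D19089 : act 5 n18624 = n19089 := rfl
theorem F74918 : act 0 n19089 = n18727 := d4_1 D19089 (iv D18727) (iv F72995)
theorem F74919 : act 3 n19089 = n18625 := d22_1 D19089 (iv D18625) D18624
theorem F74920 : act 4 n19089 = n19013 := d26_1 D19089 (iv D19013) F72647 (iv F70834) (iv F72996)
def n19090 : Q := act 6 n18625
theorem D19090 : act 6 n18625 = n19090 := rfl
theorem F74921 : act 0 n19090 = n18728 := d5_1 D19090 (iv D18728) (iv F72997)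
theorem F74922 : act 2 n19090 = n18626 := d18_1 D19090 (iv D18626) (iv F72998)
theorem F74923 : act 4 n19090 = n18629 := d27_1 D19090 (iv D18629) (iv F72999)
def n19091 : Q := act 5 n18627
theorem D19091 : act 5 n18627 = n19091 := rfl
theorem F74924 : act 0 n19091 = n18628 := d4_1 D19091 (iv D18628) (iv F73002)
theorem F74925 : act 1 n19091 = n18729 := d11_1 D19091 (iv D18729) (iv F73003)
theorem F74926 : act 3 n19091 = n19015 := d22_1 D19091 (iv D19015) (iv F73004)
theorem F74927 : act 7 n19091 = n19013 := d31_2 (iv F73006) D19091 (iv D19013)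
def n19092 : Q := act 6 n18628
theorem D19092 : act 6 n18628 = n19092 := rfl
theorem F74928 : act 1 n19092 = n18629 := d12_1 D19092 (iv D18629) (iv F73007)
theorem F74929 : act 3 n19092 = n19016 := d23_1 D19092 (iv D19016) (iv F73008)
theorem F74930 : act 5 n19092 = n19065 := d30_1 D19092 (iv D19065) (iv D18589) (iv F70816) D18628
def n19093 : Q := act 6 n18634
theorem D19093 : act 6 n18634 = n19093 := rfl
theorem F74931 : act 0 n19093 = n18753 := d5_1 D19093 (iv D18753) (iv F73031)
theorem F74932 : act 3 n19093 = n18636 := d23_1 D19093 (iv D18636) (iv F73032)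
theorem F74933 : act 4 n19093 = n18963 := d27_1 D19093 (iv D18963) (iv F73033)
theorem F74934 : act 5 n19093 = n18949 := d30_1 D19093 (iv D18949) (iv D18450) (iv F70867) D18634
theorem F74935 : act 8 n19093 = n18948 := d34_2 (iv F73034) D19093 (iv D18948)
def n19094 : Q := act 6 n18635
theorem D19094 : act 6 n18635 = n19094 := rfl
theorem F74936 : act 0 n19094 = n18755 := d5_1 D19094 (iv D18755) (iv F73035)
theorem F74937 : act 1 n19094 = n19093 := d12_1 D19094 (iv D19093) (iv F73036)
theorem F74938 : act 2 n19094 = n18759 := d18_1 D19094 (iv D18759) (iv F73037)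
theorem F74939 : act 3 n19094 = n18948 := d23_1 D19094 (iv D18948) (iv F73038)
theorem F74940 : act 4 n19094 = n18637 := d27_1 D19094 (iv D18637) (iv F73039)
theorem F74941 : act 5 n19094 = n18882 := d30_1 D19094 (iv D18882) (iv D18361) (iv F70873) D18635
theorem F74942 : act 7 n19094 = n18674 := d33_2 (iv F73040) D19094 (iv D18674)
theorem F74943 : act 8 n19094 = n18636 := d34_2 (iv F73041) D19094 (iv D18636)
def n19095 : Q := act 5 n18638
theorem D19095 : act 5 n18638 = n19095 := rfl
theorem F74944 : act 0 n19095 = n18686 := d4_1 D19095 (iv D18686) (iv F73051)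
theorem F74945 : act 2 n19095 = n19023 := d17_1 D19095 (iv D19023) (iv F73052)
theorem F74946 : act 3 n19095 = n18639 := d22_1 D19095 (iv D18639) D18638
theorem F74947 : act 7 n19095 = n18875 := d31_2 (iv F73054) D19095 (iv D18875)
def n19096 : Q := act 6 n18639
theorem D19096 : act 6 n18639 = n19096 := rfl
theorem F74948 : act 0 n19096 = n18687 := d5_1 D19096 (iv D18687) (iv F73055)
theorem F74949 : act 2 n19096 = n18640 := d18_1 D19096 (iv D18640) (iv F73056)
theorem F74950 : act 7 n19096 = n18641 := d33_2 (iv F73057) D19096 (iv D18641)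
def n19097 : Q := act 5 n18642
theorem D19097 : act 5 n18642 = n19097 := rfl
theorem F74951 : act 0 n19097 = n18823 := d4_1 D19097 (iv D18823) (iv F73065)
theorem F74952 : act 1 n19097 = n18749 := d11_1 D19097 (iv D18749) (iv F73066)
theorem F74953 : act 3 n19097 = n18643 := d22_1 D19097 (iv D18643) D18642
def n19098 : Q := act 6 n18643
theorem D19098 : act 6 n18643 = n19098 := rfl
theorem F74954 : act 0 n19098 = n18825 := d5_1 D19098 (iv D18825) (iv F73069)
theorem F74955 : act 1 n19098 = n18750 := d12_1 D19098 (iv D18750) (iv F73070)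
theorem F74956 : act 2 n19098 = n18644 := d18_1 D19098 (iv D18644) (iv F73071)
theorem F74957 : act 5 n19098 = n18668 := d30_1 D19098 (iv D18668) (iv D18105) (iv F70907) D18643
theorem F74958 : act 7 n19098 = n18645 := d33_2 (iv F73072) D19098 (iv D18645)
def n19099 : Q := act 7 n18646
theorem D19099 : act 7 n18646 = n19099 := rfl
theorem F74959 : act 0 n19099 = n18832 := d6_1 D19099 (iv D18832) (iv F73082)
theorem F74960 : act 1 n19099 = n18837 := d13_1 D19099 F73794 (iv F73083)
theorem F74961 : act 3 n19099 = n19052 := d24_1 D19099 F74775 F72866 F70978 (iv F73084)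
theorem F74962 : act 4 n19099 = n18845 := d28_1 D19099 F73822 (iv F73085)
theorem F74963 : act 5 n19099 = n18670 := d31_1 D19099 (iv D18670) (iv F73086)
theorem F74964 : act 6 n19099 = n18647 := d33_1 D19099 (iv D18647) D18646
def n19100 : Q := act 8 n18647
theorem D19100 : act 8 n18647 = n19100 := rfl
theorem F74965 : act 0 n19100 = n18833 := d7_1 D19100 (iv D18833) (iv F73087)
theorem F74966 : act 1 n19100 = n18835 := d14_1 D19100 F73786 (iv F73088)
theorem F74967 : act 3 n19100 = n19050 := d25_1 D19100 F74767 (iv F73089)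
theorem F74968 : act 4 n19100 = n18840 := d29_1 D19100 F73803 (iv F73090)
theorem F74969 : act 5 n19100 = n18648 := d32_1 D19100 (iv D18648) (iv F73091)
def n19101 : Q := act 3 n18651
theorem D19101 : act 3 n18651 = n19101 := rfl
theorem F74970 : act 0 n19101 = n18664 := d2_1 D19101 (iv D18664) (iv F73106)
theorem F74971 : act 2 n19101 = n18956 := d15_1 D19101 (iv D18956) F72371 (iv F70957) (iv F73107)
theorem F74972 : act 4 n19101 = n19101 := d21_2 D18651 D19101 (iv D19101) (iv D18651) F70950
theorem F74973 : act 6 n19101 = n18818 := d23_2 (iv F73108) D19101 (iv D18818)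
theorem F74974 : act 8 n19101 = n18653 := d25_2 (iv F73110) D19101 (iv D18653)
def n19102 : Q := act 5 n18651
theorem D19102 : act 5 n18651 = n19102 := rfl
theorem F74975 : act 0 n19102 = n18665 := d4_1 D19102 (iv D18665) (iv F73106)
theorem F74976 : act 2 n19102 = n18652 := d17_1 D19102 (iv D18652) (iv F73107)
theorem F74977 : act 4 n19102 = n18979 := d26_1 D19102 (iv D18979) (iv D18494) (iv F70951) D18651
theorem F74978 : act 7 n19102 = n18890 := d31_2 (iv F73109) D19102 (iv D18890)
theorem F74979 : act 8 n19102 = n18654 := d32_2 (iv F73110) D19102 (iv D18654)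
def n19103 : Q := act 6 n18652
theorem D19103 : act 6 n18652 = n19103 := rfl
theorem F74980 : act 0 n19103 = n18666 := d5_1 D19103 (iv D18666) (iv F73111)
theorem F74981 : act 1 n19103 = n18767 := d12_1 D19103 (iv D18767) (iv F73112)
theorem F74982 : act 3 n19103 = n18958 := d23_1 D19103 (iv D18958) (iv F73113)
theorem F74983 : act 4 n19103 = n18980 := d27_1 D19103 (iv D18980) (iv F73114)
theorem F74984 : act 5 n19103 = n18820 := d30_1 D19103 (iv D18820) (iv D18293) (iv F70958) D18652
theorem F74985 : act 8 n19103 = n18655 := d34_2 (iv F73115) D19103 (iv D18655)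
def n19104 : Q := act 5 n18653
theorem D19104 : act 5 n18653 = n19104 := rfl
theorem F74986 : act 0 n19104 = n18667 := d4_1 D19104 (iv D18667) (iv F73116)
theorem F74987 : act 2 n19104 = n19097 := d17_1 D19104 (iv D19097) (iv F73117)
theorem F74988 : act 3 n19104 = n18654 := d22_1 D19104 (iv D18654) D18653
def n19105 : Q := act 6 n18654
theorem D19105 : act 6 n18654 = n19105 := rfl
theorem F74989 : act 0 n19105 = n18668 := d5_1 D19105 (iv D18668) (iv F73120)
theorem F74990 : act 2 n19105 = n18655 := d18_1 D19105 (iv D18655) (iv F73121)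
theorem F74991 : act 5 n19105 = n18825 := d30_1 D19105 (iv D18825) (iv D18296) (iv F70962) D18654
theorem F74992 : act 7 n19105 = n18656 := d33_2 (iv F73122) D19105 (iv D18656)
def n19106 : Q := act 3 n18657
theorem D19106 : act 3 n18657 = n19106 := rfl
theorem F74993 : act 0 n19106 = n18983 := d2_1 D19106 (iv D18983) (iv F73132)
theorem F74994 : act 1 n19106 = n19020 := d9_1 D19106 (iv D19020) (iv F73133)
theorem F74995 : act 2 n19106 = n18661 := d15_1 D19106 (iv D18661) F71004 (iv F70987) (iv F73134)
theorem F74996 : act 4 n19106 = n19106 := d21_2 D18657 D19106 (iv D19106) (iv D18657) F70981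
theorem F74997 : act 7 n19106 = n18872 := d24_2 (iv F73135) D19106 (iv D18872) F71844 D18366
theorem F74998 : act 8 n19106 = n18932 := d25_2 (iv F73136) D19106 (iv D18932)
def n19107 : Q := act 5 n18657
theorem D19107 : act 5 n18657 = n19107 := rfl
theorem F74999 : act 0 n19107 = n18984 := d4_1 D19107 (iv D18984) (iv F73132)
theorem F75000 : act 1 n19107 = n19021 := d11_1 D19107 (iv D19021) (iv F73133)
theorem F75001 : act 2 n19107 = n18658 := d17_1 D19107 (iv D18658) (iv F73134)
theorem F75002 : act 4 n19107 = n18936 := d26_1 D19107 (iv D18936) (iv D18425) (iv F70982) D18657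
theorem F75003 : act 7 n19107 = n18885 := d31_2 (iv F73135) D19107 (iv D18885)
theorem F75004 : act 8 n19107 = n18933 := d32_2 (iv F73136) D19107 (iv D18933)
def n19108 : Q := act 6 n18658
theorem D19108 : act 6 n18658 = n19108 := rfl
theorem F75005 : act 0 n19108 = n18985 := d5_1 D19108 (iv D18985) (iv F73137)
theorem F75006 : act 1 n19108 = n18672 := d12_1 D19108 (iv D18672) (iv F73138)
theorem F75007 : act 3 n19108 = n18663 := d23_1 D19108 (iv D18663) (iv F73139)
theorem F75008 : act 4 n19108 = n18937 := d27_1 D19108 (iv D18937) (iv F73140)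
theorem F75009 : act 7 n19108 = n18949 := d33_2 (iv F73141) D19108 (iv D18949)
theorem F75010 : act 8 n19108 = n18934 := d34_2 (iv F73142) D19108 (iv D18934)
def n19109 : Q := act 3 n18659
theorem D19109 : act 3 n18659 = n19109 := rfl
theorem F75011 : act 0 n19109 = n18978 := d2_1 D19109 (iv D18978) (iv F73143)
theorem F75012 : act 1 n19109 = n18872 := d9_1 D19109 (iv D18872) (iv F73144)
theorem F75013 : act 2 n19109 = n18932 := d15_1 D19109 (iv D18932) F72141 (iv F70999) (iv F73145)
theorem F75014 : act 4 n19109 = n19109 := d21_2 D18659 D19109 (iv D19109) (iv D18659) F70992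
theorem F75015 : act 6 n19109 = n19106 := d23_2 (iv F73146) D19109 (iv D19106)
theorem F75016 : act 7 n19109 = n19020 := d24_2 (iv F73147) D19109 (iv D19020) F72701 (iv F71882)
theorem F75017 : act 8 n19109 = n18661 := d25_2 (iv F73148) D19109 (iv D18661)
def n19110 : Q := act 5 n18659
theorem D19110 : act 5 n18659 = n19110 := rfl
theorem F75018 : act 0 n19110 = n18979 := d4_1 D19110 (iv D18979) (iv F73143)
theorem F75019 : act 1 n19110 = n18873 := d11_1 D19110 (iv D18873) (iv F73144)
theorem F75020 : act 2 n19110 = n18660 := d17_1 D19110 (iv D18660) (iv F73145)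
theorem F75021 : act 4 n19110 = n18665 := d26_1 D19110 (iv D18665) (iv D18102) (iv F70993) D18659
theorem F75022 : act 7 n19110 = n18884 := d31_2 (iv F73147) D19110 (iv D18884)
theorem F75023 : act 8 n19110 = n18662 := d32_2 (iv F73148) D19110 (iv D18662)
def n19111 : Q := act 6 n18660
theorem D19111 : act 6 n18660 = n19111 := rfl
theorem F75024 : act 0 n19111 = n18980 := d5_1 D19111 (iv D18980) (iv F73149)
theorem F75025 : act 1 n19111 = n18674 := d12_1 D19111 (iv D18674) (iv F73150)
theorem F75026 : act 3 n19111 = n18934 := d23_1 D19111 (iv D18934) (iv F73151)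
theorem F75027 : act 4 n19111 = n18666 := d27_1 D19111 (iv D18666) (iv F73152)
theorem F75028 : act 5 n19111 = n19108 := d30_1 D19111 (iv D19108) (iv D18658) (iv F71000) D18660
theorem F75029 : act 7 n19111 = n19093 := d33_2 (iv F73153) D19111 (iv D19093)
theorem F75030 : act 8 n19111 = n18663 := d34_2 (iv F73154) D19111 (iv D18663)
def n19112 : Q := act 5 n18661
theorem D19112 : act 5 n18661 = n19112 := rfl
theorem F75031 : act 1 n19112 = n18875 := d11_1 D19112 (iv D18875) (iv F73155)
theorem F75032 : act 3 n19112 = n18662 := d22_1 D19112 (iv D18662) D18661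
def n19113 : Q := act 6 n18662
theorem D19113 : act 6 n18662 = n19113 := rfl
theorem F75033 : act 1 n19113 = n18876 := d12_1 D19113 (iv D18876) (iv F73157)
theorem F75034 : act 2 n19113 = n18663 := d18_1 D19113 (iv D18663) (iv F73158)
theorem F75035 : act 4 n19113 = n18668 := d27_1 D19113 (iv D18668) (iv F73159)
theorem F75036 : act 7 n19113 = n18669 := d33_2 (iv F73160) D19113 (iv D18669)
def n19114 : Q := act 5 n18664
theorem D19114 : act 5 n18664 = n19114 := rfl
theorem F75037 : act 1 n19114 = n18877 := d11_1 D19114 (iv D18877) (iv F73164)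
theorem F75038 : act 3 n19114 = n18665 := d22_1 D19114 (iv D18665) D18664
theorem F75039 : act 8 n19114 = n18667 := d32_2 (iv F73166) D19114 (iv D18667)
def n19115 : Q := act 7 n18664
theorem D19115 : act 7 n18664 = n19115 := rfl
theorem F75040 : act 1 n19115 = n18878 := d13_1 D19115 (iv D18878) (iv F73164)
theorem F75041 : act 3 n19115 = n18892 := d24_1 D19115 (iv D18892) (iv D18373) (iv F71011) D18664
theorem F75042 : act 4 n19115 = n19115 := d28_1 D19115 (iv D19115) F73165
def n19116 : Q := act 6 n18665
theorem D19116 : act 6 n18665 = n19116 := rfl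
theorem F75043 : act 1 n19116 = n18879 := d12_1 D19116 (iv D18879) (iv F73167)
theorem F75044 : act 2 n19116 = n18666 := d18_1 D19116 (iv D18666) (iv F73168)
theorem F75045 : act 7 n19116 = n18893 := d33_2 (iv F73169) D19116 (iv D18893)
theorem F75046 : act 8 n19116 = n18668 := d34_2 (iv F73170) D19116 (iv D18668)
def n19117 : Q := act 4 n18667
theorem D19117 : act 4 n18667 = n19117 := rfl
theorem F75047 : act 1 n19117 = n18880 := d10_1 D19117 (iv D18880) (iv F73173)
theorem F75048 : act 5 n19117 = n19117 := d26_2 D18667 D19117 (iv D19117) (iv D18667) F71016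
def n19118 : Q := act 6 n18667
theorem D19118 : act 6 n18667 = n19118 := rfl
theorem F75049 : act 1 n19118 = n18881 := d12_1 D19118 (iv D18881) (iv F73173)
theorem F75050 : act 3 n19118 = n18668 := d23_1 D19118 (iv D18668) (iv F73174)
def n19119 : Q := act 8 n18670
theorem D19119 : act 8 n18670 = n19119 := rfl
theorem F75051 : act 6 n19119 = n18671 := d34_1 D19119 (iv D18671) (iv F73182)
def n19120 : Q := act 6 n18676
theorem D19120 : act 6 n18676 = n19120 := rfl
theorem F75052 : act 0 n19120 = n18705 := d5_1 D19120 (iv D18705) (iv F73201)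
theorem F75053 : act 1 n19120 = n18855 := d12_1 D19120 (iv D18855) (iv F73202)
theorem F75054 : act 3 n19120 = n18677 := d23_1 D19120 (iv D18677) (iv F73203)
theorem F75055 : act 4 n19120 = n18695 := d27_1 D19120 (iv D18695) (iv F73204)
theorem F75056 : act 5 n19120 = n18720 := d30_1 D19120 (iv D18720) (iv D18169) (iv F71055) D18676
theorem F75057 : act 8 n19120 = n18678 := d34_2 (iv F73205) D19120 (iv D18678)
def n19121 : Q := act 5 n18680
theorem D19121 : act 5 n18680 = n19121 := rfl
theorem F75058 : act 3 n19121 = n18681 := d22_1 D19121 (iv D18681) D18680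
theorem F75059 : act 8 n19121 = n19095 := d32_2 (iv F73225) D19121 (iv D19095)
def n19122 : Q := act 6 n18681
theorem D19122 : act 6 n18681 = n19122 := rfl
theorem F75060 : act 2 n19122 = n18682 := d18_1 D19122 (iv D18682) (iv F73226)
theorem F75061 : act 4 n19122 = n18687 := d27_1 D19122 (iv D18687) (iv F73227)
theorem F75062 : act 7 n19122 = n18688 := d33_2 (iv F73228) D19122 (iv D18688)
theorem F75063 : act 8 n19122 = n19096 := d34_2 (iv F73229) D19122 (iv D19096)
def n19123 : Q := act 5 n18683
theorem D19123 : act 5 n18683 = n19123 := rfl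
theorem F75064 : act 0 n19123 = n19121 := d4_1 D19123 (iv D19121) (iv F73234)
theorem F75065 : act 1 n19123 = n19073 := d11_1 D19123 (iv D19073) (iv F73235)
theorem F75066 : act 2 n19123 = n19039 := d17_1 D19123 (iv D19039) (iv F73236)
theorem F75067 : act 3 n19123 = n18684 := d22_1 D19123 (iv D18684) D18683
theorem F75068 : act 7 n19123 = n18988 := d31_2 (iv F73239) D19123 (iv D18988)
theorem F75069 : act 8 n19123 = n18686 := d32_2 (iv F73240) D19123 (iv D18686)
def n19124 : Q := act 6 n18684
theorem D19124 : act 6 n18684 = n19124 := rfl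
theorem F75070 : act 0 n19124 = n19122 := d5_1 D19124 (iv D19122) (iv F73241)
theorem F75071 : act 1 n19124 = n19074 := d12_1 D19124 (iv D19074) (iv F73242)
theorem F75072 : act 2 n19124 = n18685 := d18_1 D19124 (iv D18685) (iv F73243)
theorem F75073 : act 4 n19124 = n19096 := d27_1 D19124 (iv D19096) (iv F73244)
theorem F75074 : act 5 n19124 = n18910 := d30_1 D19124 (iv D18910) (iv D18396) (iv F71110) D18684
theorem F75075 : act 7 n19124 = n18923 := d33_2 (iv F73245) D19124 (iv D18923)
theorem F75076 : act 8 n19124 = n18687 := d34_2 (iv F73246) D19124 (iv D18687)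
def n19125 : Q := act 4 n18686
theorem D19125 : act 4 n18686 = n19125 := rfl
theorem F75077 : act 2 n19125 = n19044 := d16_1 D19125 (iv D19044) (iv F73254)
theorem F75078 : act 5 n19125 = n19125 := d26_2 D18686 D19125 (iv D19125) (iv D18686) F71120
def n19126 : Q := act 6 n18686
theorem D19126 : act 6 n18686 = n19126 := rfl
theorem F75079 : act 2 n19126 = n19045 := d18_1 D19126 (iv D19045) (iv F73254)
theorem F75080 : act 3 n19126 = n18687 := d23_1 D19126 (iv D18687) (iv F73255)
def n19127 : Q := act 5 n18691
theorem D19127 : act 5 n18691 = n19127 := rfl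
theorem F75081 : act 0 n19127 = n18692 := d4_1 D19127 (iv D18692) (iv F73271)
theorem F75082 : act 1 n19127 = n19062 := d11_1 D19127 (iv D19062) (iv F73272)
theorem F75083 : act 2 n19127 = n18867 := d17_1 D19127 (iv D18867) (iv F73273)
theorem F75084 : act 3 n19127 = n18951 := d22_1 D19127 (iv D18951) (iv F73274)
theorem F75085 : act 4 n19127 = n18896 := d26_1 D19127 (iv D18896) F71926 (iv F71152) D18691
def n19128 : Q := act 6 n18692
theorem D19128 : act 6 n18692 = n19128 := rfl
theorem F75086 : act 1 n19128 = n18693 := d12_1 D19128 (iv D18693) (iv F73276)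
theorem F75087 : act 2 n19128 = n18868 := d18_1 D19128 (iv D18868) (iv F73277)
theorem F75088 : act 3 n19128 = n18952 := d23_1 D19128 (iv D18952) (iv F73278)
theorem F75089 : act 4 n19128 = n18898 := d27_1 D19128 (iv D18898) (iv F73279)
theorem F75090 : act 5 n19128 = n18730 := d30_1 D19128 (iv D18730) (iv D18182) (iv F71157) D18692
def n19129 : Q := act 6 n18694
theorem D19129 : act 6 n18694 = n19129 := rfl
theorem F75091 : act 0 n19129 = n18704 := d5_1 D19129 (iv D18704) (iv F73285)
theorem F75092 : act 3 n19129 = n18737 := d23_1 D19129 (iv D18737) (iv F73286)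
theorem F75093 : act 5 n19129 = n18795 := d30_1 D19129 (iv D18795) (iv D18268) (iv F71167) D18694
theorem F75094 : act 7 n19129 = n18695 := d33_2 (iv F73287) D19129 (iv D18695)
def n19130 : Q := act 6 n18696
theorem D19130 : act 6 n18696 = n19130 := rfl
theorem F75095 : act 1 n19130 = n18716 := d12_1 D19130 (iv D18716) (iv F73292)
theorem F75096 : act 4 n19130 = n18704 := d27_1 D19130 (iv D18704) (iv F73293)
theorem F75097 : act 5 n19130 = n19077 := d30_1 D19130 (iv D19077) (iv D18612) (iv F71178) D18696
theorem F75098 : act 7 n19130 = n18705 := d33_2 (iv F73294) D19130 (iv D18705)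
theorem F75099 : act 8 n19130 = n19129 := d34_2 (iv F73295) D19130 (iv D19129)
def n19131 : Q := act 0 n18697
theorem D19131 : act 0 n18697 = n19131 := rfl
theorem F75100 : act 1 n19131 = n18900 := d0_2 D18697 D19131 F74020 F71952 (iv F71181)
theorem F75101 : act 2 n19131 = n18717 := d1_2 (iv F73296) D19131 (iv D18717)
theorem F75102 : act 3 n19131 = n19131 := d2_2 F73297 D19131 (iv D19131)
theorem F75103 : act 5 n19131 = n19067 := d4_2 (iv F73298) D19131 F74829
theorem F75104 : act 6 n19131 = n18851 := d5_2 (iv F73299) D19131 (iv D18851)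
theorem F75105 : act 7 n19131 = n18847 := d6_2 (iv F73300) D19131 F73829
theorem F75106 : act 8 n19131 = n18700 := d7_2 (iv F73301) D19131 (iv D18700)
def n19132 : Q := act 4 n18697
theorem D19132 : act 4 n18697 = n19132 := rfl
theorem F75107 : act 1 n19132 = n18698 := d10_1 D19132 (iv D18698) D18697
theorem F75108 : act 2 n19132 = n18718 := d16_1 D19132 (iv D18718) (iv F73296)
theorem F75109 : act 6 n19132 = n18852 := d27_2 (iv F73299) D19132 (iv D18852)
theorem F75110 : act 7 n19132 = n18839 := d28_2 (iv F73300) D19132 F73799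
theorem F75111 : act 8 n19132 = n18701 := d29_2 (iv F73301) D19132 (iv D18701)
def n19133 : Q := act 3 n18698
theorem D19133 : act 3 n18698 = n19133 := rfl
theorem F75112 : act 0 n19133 = n18878 := d2_1 D19133 F73940 (iv F73302)
theorem F75113 : act 2 n19133 = n18746 := d15_1 D19133 (iv D18746) F71340 (iv F71189) (iv F73303)
theorem F75114 : act 4 n19133 = n19133 := d21_2 D18698 D19133 (iv D19133) (iv D18698) F71182
theorem F75115 : act 6 n19133 = n18853 := d23_2 (iv F73304) D19133 (iv D18853)
theorem F75116 : act 7 n19133 = n18809 := d24_2 (iv F73305) D19133 (iv D18809) F71634 D18313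
theorem F75117 : act 8 n19133 = n18702 := d25_2 (iv F73306) D19133 (iv D18702)
def n19134 : Q := act 5 n18698
theorem D19134 : act 5 n18698 = n19134 := rfl
theorem F75118 : act 0 n19134 = n18895 := d4_1 D19134 F74005 (iv F73302)
theorem F75119 : act 2 n19134 = n18699 := d17_1 D19134 (iv D18699) (iv F73303)
theorem F75120 : act 4 n19134 = n19060 := d26_1 D19134 F74804 F72843 (iv F71183) D18698
theorem F75121 : act 7 n19134 = n18841 := d31_2 (iv F73305) D19134 (iv D18841)
theorem F75122 : act 8 n19134 = n18703 := d32_2 (iv F73306) D19134 (iv D18703)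
def n19135 : Q := act 6 n18699
theorem D19135 : act 6 n18699 = n19135 := rfl
theorem F75123 : act 0 n19135 = n19130 := d5_1 D19135 (iv D19130) (iv F73307)
theorem F75124 : act 1 n19135 = n18720 := d12_1 D19135 (iv D18720) (iv F73308)
theorem F75125 : act 3 n19135 = n18748 := d23_1 D19135 (iv D18748) (iv F73309)
theorem F75126 : act 4 n19135 = n19129 := d27_1 D19135 (iv D19129) (iv F73310)
theorem F75127 : act 5 n19135 = n18855 := d30_1 D19135 (iv D18855) (iv D18332) (iv F71190) D18699
theorem F75128 : act 7 n19135 = n19120 := d33_2 (iv F73311) D19135 (iv D19120)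
theorem F75129 : act 8 n19135 = n18704 := d34_2 (iv F73312) D19135 (iv D18704)
def n19136 : Q := act 4 n18700
theorem D19136 : act 4 n18700 = n19136 := rfl
theorem F75130 : act 0 n19136 = n18701 := d3_1 D19136 (iv D18701) D18700
theorem F75131 : act 2 n19136 = n18721 := d16_1 D19136 (iv D18721) (iv F73313)
theorem F75132 : act 6 n19136 = n18856 := d27_2 (iv F73315) D19136 (iv D18856)
theorem F75133 : act 7 n19136 = n18706 := d28_2 (iv F73316) D19136 (iv D18706)
def n19137 : Q := act 3 n18701
theorem D19137 : act 3 n18701 = n19137 := rfl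
theorem F75134 : act 1 n19137 = n18702 := d9_1 D19137 (iv D18702) (iv F73317)
theorem F75135 : act 2 n19137 = n19035 := d15_1 D19137 F74710 F72800 F71442 (iv F73318)
theorem F75136 : act 4 n19137 = n19137 := d21_2 D18701 D19137 (iv D19137) (iv D18701) F71194
theorem F75137 : act 6 n19137 = n18857 := d23_2 (iv F73319) D19137 (iv D18857)
theorem F75138 : act 7 n19137 = n19025 := d24_2 (iv F73320) D19137 (iv D19025) F72730 F71465
def n19138 : Q := act 5 n18701
theorem D19138 : act 5 n18701 = n19138 := rfl
theorem F75139 : act 1 n19138 = n18703 := d11_1 D19138 (iv D18703) (iv F73317)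
theorem F75140 : act 2 n19138 = n18722 := d17_1 D19138 (iv D18722) (iv F73318)
theorem F75141 : act 7 n19138 = n18707 := d31_2 (iv F73320) D19138 (iv D18707)
def n19139 : Q := act 5 n18702
theorem D19139 : act 5 n18702 = n19139 := rfl
theorem F75142 : act 2 n19139 = n18749 := d17_1 D19139 (iv D18749) (iv F73321)
theorem F75143 : act 3 n19139 = n18703 := d22_1 D19139 (iv D18703) D18702
def n19140 : Q := act 6 n18703
theorem D19140 : act 6 n18703 = n19140 := rfl
theorem F75144 : act 2 n19140 = n18704 := d18_1 D19140 (iv D18704) (iv F73324)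
theorem F75145 : act 5 n19140 = n18860 := d30_1 D19140 (iv D18860) (iv D18336) (iv F71198) D18703
theorem F75146 : act 7 n19140 = n18708 := d33_2 (iv F73325) D19140 (iv D18708)
def n19141 : Q := act 5 n18706
theorem D19141 : act 5 n18706 = n19141 := rfl
theorem F75147 : act 0 n19141 = n18707 := d4_1 D19141 (iv D18707) (iv F73334)
theorem F75148 : act 2 n19141 = n18729 := d17_1 D19141 (iv D18729) (iv F73335)
theorem F75149 : act 8 n19141 = n19127 := d32_2 (iv F73337) D19141 (iv D19127)
def n19142 : Q := act 6 n18707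
theorem D19142 : act 6 n18707 = n19142 := rfl
theorem F75150 : act 1 n19142 = n18708 := d12_1 D19142 (iv D18708) (iv F73338)
theorem F75151 : act 2 n19142 = n18730 := d18_1 D19142 (iv D18730) (iv F73339)
theorem F75152 : act 5 n19142 = n18868 := d30_1 D19142 (iv D18868) (iv D18346) (iv F71213) D18707
theorem F75153 : act 8 n19142 = n19128 := d34_2 (iv F73340) D19142 (iv D19128)
def n19143 : Q := act 6 n18709
theorem D19143 : act 6 n18709 = n19143 := rfl
theorem F75154 : act 0 n19143 = n18963 := d5_1 D19143 (iv D18963) (iv F73344)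
theorem F75155 : act 3 n19143 = n18716 := d23_1 D19143 (iv D18716) (iv F73345)
theorem F75156 : act 4 n19143 = n18753 := d27_1 D19143 (iv D18753) (iv F73346)
theorem F75157 : act 5 n19143 = n18918 := d30_1 D19143 (iv D18918) (iv D18403) (iv F71223) D18709
theorem F75158 : act 7 n19143 = n19103 := d33_2 (iv F73347) D19143 (iv D19103)
theorem F75159 : act 8 n19143 = n19011 := d34_2 (iv F73348) D19143 (iv D19011)
def n19144 : Q := act 4 n18710
theorem D19144 : act 4 n18710 = n19144 := rfl
theorem F75160 : act 1 n19144 = n18711 := d10_1 D19144 (iv D18711) D18710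
theorem F75161 : act 2 n19144 = n19057 := d16_1 D19144 F74792 (iv F73349)
theorem F75162 : act 6 n19144 = n18797 := d27_2 (iv F73352) D19144 (iv D18797)
theorem F75163 : act 7 n19144 = n19055 := d28_2 (iv F73353) D19144 F74785
theorem F75164 : act 8 n19144 = n18713 := d29_2 (iv F73354) D19144 (iv D18713)
def n19145 : Q := act 5 n18711
theorem D19145 : act 5 n18711 = n19145 := rfl
theorem F75165 : act 0 n19145 = n18861 := d4_1 D19145 (iv D18861) (iv F73355)
theorem F75166 : act 2 n19145 = n18712 := d17_1 D19145 (iv D18712) (iv F73356)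
theorem F75167 : act 4 n19145 = n18719 := d26_1 D19145 (iv D18719) (iv D18168) (iv F71228) D18711
theorem F75168 : act 7 n19145 = n19071 := d31_2 (iv F73358) D19145 (iv D19071)
theorem F75169 : act 8 n19145 = n18715 := d32_2 (iv F73359) D19145 (iv D18715)
def n19146 : Q := act 6 n18712
theorem D19146 : act 6 n18712 = n19146 := rfl
theorem F75170 : act 0 n19146 = n18862 := d5_1 D19146 (iv D18862) (iv F73360)
theorem F75171 : act 1 n19146 = n19129 := d12_1 D19146 (iv D19129) (iv F73361)
theorem F75172 : act 3 n19146 = n19011 := d23_1 D19146 (iv D19011) (iv F73362)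
theorem F75173 : act 4 n19146 = n18720 := d27_1 D19146 (iv D18720) (iv F73363)
theorem F75174 : act 5 n19146 = n18800 := d30_1 D19146 (iv D18800) (iv D18271) (iv F71235) D18712
theorem F75175 : act 7 n19146 = n19072 := d33_2 (iv F73364) D19146 (iv D19072)
theorem F75176 : act 8 n19146 = n18716 := d34_2 (iv F73365) D19146 (iv D18716)
def n19147 : Q := act 5 n18713
theorem D19147 : act 5 n18713 = n19147 := rfl
theorem F75177 : act 1 n19147 = n18715 := d11_1 D19147 (iv D18715) (iv F73366)
theorem F75178 : act 4 n19147 = n18722 := d26_1 D19147 (iv D18722) (iv D18171) (iv F71239) D18713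
theorem F75179 : act 7 n19147 = n18726 := d31_2 (iv F73368) D19147 (iv D18726)
def n19148 : Q := act 5 n18714
theorem D19148 : act 5 n18714 = n19148 := rfl
theorem F75180 : act 0 n19148 = n18726 := d4_1 D19148 (iv D18726) (iv F73369)
theorem F75181 : act 3 n19148 = n18715 := d22_1 D19148 (iv D18715) D18714
theorem F75182 : act 4 n19148 = n18729 := d26_1 D19148 (iv D18729) (iv D18181) (iv F71270) (iv F73370)
def n19149 : Q := act 6 n18715
theorem D19149 : act 6 n18715 = n19149 := rfl
theorem F75183 : act 2 n19149 = n18716 := d18_1 D19149 (iv D18716) (iv F73372)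
theorem F75184 : act 4 n19149 = n18723 := d27_1 D19149 (iv D18723) (iv F73373)
theorem F75185 : act 5 n19149 = n19090 := d30_1 D19149 (iv D19090) (iv D18625) (iv F71243) D18715
theorem F75186 : act 7 n19149 = n18728 := d33_2 (iv F73374) D19149 (iv D18728)
def n19150 : Q := act 4 n18717
theorem D19150 : act 4 n18717 = n19150 := rfl
theorem F75187 : act 0 n19150 = n18718 := d3_1 D19150 (iv D18718) D18717
theorem F75188 : act 1 n19150 = n18916 := d10_1 D19150 F74110 (iv F73378)
theorem F75189 : act 3 n19150 = n18915 := d21_1 D19150 (iv D18915) F72015 (iv F71553) (iv F73379)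
theorem F75190 : act 8 n19150 = n18721 := d29_2 (iv F73380) D19150 (iv D18721)
def n19151 : Q := act 5 n18718
theorem D19151 : act 5 n18718 = n19151 := rfl
theorem F75191 : act 1 n19151 = n18719 := d11_1 D19151 (iv D18719) (iv F73381)
theorem F75192 : act 8 n19151 = n18722 := d32_2 (iv F73382) D19151 (iv D18722)
def n19152 : Q := act 6 n18719
theorem D19152 : act 6 n18719 = n19152 := rfl
theorem F75193 : act 2 n19152 = n18720 := d18_1 D19152 (iv D18720) (iv F73383)
theorem F75194 : act 8 n19152 = n18723 := d34_2 (iv F73384) D19152 (iv D18723)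
def n19153 : Q := act 5 n18721
theorem D19153 : act 5 n18721 = n19153 := rfl
theorem F75195 : act 0 n19153 = n18722 := d4_1 D19153 (iv D18722) (iv F73387)
theorem F75196 : act 1 n19153 = n19013 := d11_1 D19153 (iv D19013) (iv F73388)
theorem F75197 : act 3 n19153 = n19012 := d22_1 D19153 (iv D19012) (iv F73389)
theorem F75198 : act 7 n19153 = n18729 := d31_2 (iv F73390) D19153 (iv D18729)
def n19154 : Q := act 6 n18722
theorem D19154 : act 6 n18722 = n19154 := rfl
theorem F75199 : act 1 n19154 = n18723 := d12_1 D19154 (iv D18723) (iv F73391)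
theorem F75200 : act 7 n19154 = n18730 := d33_2 (iv F73392) D19154 (iv D18730)
def n19155 : Q := act 6 n18724
theorem D19155 : act 6 n18724 = n19155 := rfl
theorem F75201 : act 0 n19155 = n19149 := d5_1 D19155 (iv D19149) (iv F73395)
theorem F75202 : act 2 n19155 = n18725 := d18_1 D19155 (iv D18725) (iv F73396)
theorem F75203 : act 4 n19155 = n18781 := d27_1 D19155 (iv D18781) (iv F73397)
theorem F75204 : act 5 n19155 = n18728 := d30_1 D19155 (iv D18728) (iv D18179) (iv F71264) D18724
theorem F75205 : act 7 n19155 = n19090 := d33_2 (iv F73398) D19155 (iv D19090)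
def n19156 : Q := act 6 n18726
theorem D19156 : act 6 n18726 = n19156 := rfl
theorem F75206 : act 1 n19156 = n18728 := d12_1 D19156 (iv D18728) (iv F73403)
theorem F75207 : act 3 n19156 = n19155 := d23_1 D19156 (iv D19155) (iv F73404)
theorem F75208 : act 4 n19156 = n18730 := d27_1 D19156 (iv D18730) (iv F73405)
def n19157 : Q := act 6 n18727
theorem D19157 : act 6 n18727 = n19157 := rfl
theorem F75209 : act 1 n19157 = n19155 := d12_1 D19157 (iv D19155) (iv F73406)
theorem F75210 : act 3 n19157 = n18728 := d23_1 D19157 (iv D18728) (iv F73407)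
theorem F75211 : act 5 n19157 = n19156 := d30_1 D19157 (iv D19156) (iv D18726) (iv F71276) D18727
def n19158 : Q := act 6 n18729
theorem D19158 : act 6 n18729 = n19158 := rfl
theorem F75212 : act 0 n19158 = n18730 := d5_1 D19158 (iv D18730) (iv F73410)
def n19159 : Q := act 4 n18731
theorem D19159 : act 4 n18731 = n19159 := rfl
theorem F75213 : act 0 n19159 = n18817 := d3_1 D19159 (iv D18817) (iv F73412)
theorem F75214 : act 1 n19159 = n18732 := d10_1 D19159 (iv D18732) D18731
theorem F75215 : act 2 n19159 = n18838 := d16_1 D19159 (iv D18838) (iv F73413)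
theorem F75216 : act 6 n19159 = n18808 := d27_2 (iv F73416) D19159 (iv D18808)
theorem F75217 : act 7 n19159 = n18765 := d28_2 (iv F73417) D19159 (iv D18765)
theorem F75218 : act 8 n19159 = n18734 := d29_2 (iv F73418) D19159 (iv D18734)
def n19160 : Q := act 3 n18732
theorem D19160 : act 3 n18732 = n19160 := rfl
theorem F75219 : act 0 n19160 = n18746 := d2_1 D19160 (iv D18746) (iv F73419)
theorem F75220 : act 2 n19160 = n18878 := d15_1 D19160 F73940 F71921 (iv F71290) (iv F73420)
theorem F75221 : act 4 n19160 = n19160 := d21_2 D18732 D19160 (iv D19160) (iv D18732) F71284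
theorem F75222 : act 6 n19160 = n18809 := d23_2 (iv F73421) D19160 (iv D18809)
theorem F75223 : act 7 n19160 = n18853 := d24_2 (iv F73422) D19160 (iv D18853) F71781 (iv F71435)
theorem F75224 : act 8 n19160 = n18735 := d25_2 (iv F73423) D19160 (iv D18735)
def n19161 : Q := act 5 n18732
theorem D19161 : act 5 n18732 = n19161 := rfl
theorem F75225 : act 0 n19161 = n18747 := d4_1 D19161 (iv D18747) (iv F73419)
theorem F75226 : act 2 n19161 = n18733 := d17_1 D19161 (iv D18733) (iv F73420)
theorem F75227 : act 7 n19161 = n18766 := d31_2 (iv F73422) D19161 (iv D18766)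
theorem F75228 : act 8 n19161 = n18736 := d32_2 (iv F73423) D19161 (iv D18736)
def n19162 : Q := act 6 n18733
theorem D19162 : act 6 n18733 = n19162 := rfl
theorem F75229 : act 0 n19162 = n18748 := d5_1 D19162 (iv D18748) (iv F73424)
theorem F75230 : act 1 n19162 = n19143 := d12_1 D19162 (iv D19143) (iv F73425)
theorem F75231 : act 3 n19162 = n19130 := d23_1 D19162 (iv D19130) (iv F73426)
theorem F75232 : act 5 n19162 = n18811 := d30_1 D19162 (iv D18811) (iv D18284) (iv F71291) D18733
theorem F75233 : act 7 n19162 = n18767 := d33_2 (iv F73427) D19162 (iv D18767)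
theorem F75234 : act 8 n19162 = n18737 := d34_2 (iv F73428) D19162 (iv D18737)
def n19163 : Q := act 3 n18734
theorem D19163 : act 3 n18734 = n19163 := rfl
theorem F75235 : act 0 n19163 = n18821 := d2_1 D19163 (iv D18821) (iv F73429)
theorem F75236 : act 1 n19163 = n18735 := d9_1 D19163 (iv D18735) (iv F73430)
theorem F75237 : act 4 n19163 = n19163 := d21_2 D18734 D19163 (iv D19163) (iv D18734) F71296
theorem F75238 : act 6 n19163 = n18812 := d23_2 (iv F73432) D19163 (iv D18812)
theorem F75239 : act 7 n19163 = n18743 := d24_2 (iv F73433) D19163 (iv D18743) F71336 (iv F71309)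
def n19164 : Q := act 5 n18734
theorem D19164 : act 5 n18734 = n19164 := rfl
theorem F75240 : act 0 n19164 = n18822 := d4_1 D19164 (iv D18822) (iv F73429)
theorem F75241 : act 1 n19164 = n18736 := d11_1 D19164 (iv D18736) (iv F73430)
theorem F75242 : act 2 n19164 = n18831 := d17_1 D19164 F73771 (iv F73431)
theorem F75243 : act 4 n19164 = n18828 := d26_1 D19164 F73761 F71676 (iv F71297) D18734
theorem F75244 : act 7 n19164 = n18738 := d31_2 (iv F73433) D19164 (iv D18738)
def n19165 : Q := act 5 n18735
theorem D19165 : act 5 n18735 = n19165 := rfl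
theorem F75245 : act 0 n19165 = n18749 := d4_1 D19165 (iv D18749) (iv F73434)
theorem F75246 : act 3 n19165 = n18736 := d22_1 D19165 (iv D18736) D18735
def n19166 : Q := act 6 n18736
theorem D19166 : act 6 n18736 = n19166 := rfl
theorem F75247 : act 0 n19166 = n18750 := d5_1 D19166 (iv D18750) (iv F73437)
theorem F75248 : act 2 n19166 = n18737 := d18_1 D19166 (iv D18737) (iv F73438)
theorem F75249 : act 5 n19166 = n18815 := d30_1 D19166 (iv D18815) (iv D18287) (iv F71302) D18736
theorem F75250 : act 7 n19166 = n18739 := d33_2 (iv F73439) D19166 (iv D18739)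
def n19167 : Q := act 6 n18738
theorem D19167 : act 6 n18738 = n19167 := rfl
theorem F75251 : act 0 n19167 = n18826 := d5_1 D19167 (iv D18826) (iv F73443)
theorem F75252 : act 1 n19167 = n18739 := d12_1 D19167 (iv D18739) (iv F73444)
theorem F75253 : act 2 n19167 = n18830 := d18_1 D19167 (iv D18830) (iv F73445)
theorem F75254 : act 3 n19167 = n18751 := d23_1 D19167 (iv D18751) (iv F73446)
theorem F75255 : act 4 n19167 = n18827 := d27_1 D19167 (iv D18827) (iv F73447)
theorem F75256 : act 5 n19167 = n18816 := d30_1 D19167 (iv D18816) (iv D18289) (iv F71310) D18738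
theorem F75257 : act 8 n19167 = n18771 := d34_2 (iv F73448) D19167 (iv D18771)
def n19168 : Q := act 3 n18740
theorem D19168 : act 3 n18740 = n19168 := rfl
theorem F75258 : act 0 n19168 = n18959 := d2_1 D19168 (iv D18959) (iv F73453)
theorem F75259 : act 2 n19168 = n18743 := d15_1 D19168 (iv D18743) F71335 (iv F71326) (iv F73454)
theorem F75260 : act 4 n19168 = n19168 := d21_2 D18740 D19168 (iv D19168) (iv D18740) F71320
theorem F75261 : act 6 n19168 = n19031 := d23_2 (iv F73455) D19168 (iv D19031)
theorem F75262 : act 8 n19168 = n19028 := d25_2 (iv F73457) D19168 (iv D19028)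
def n19169 : Q := act 5 n18740
theorem D19169 : act 5 n18740 = n19169 := rfl
theorem F75263 : act 0 n19169 = n18960 := d4_1 D19169 (iv D18960) (iv F73453)
theorem F75264 : act 2 n19169 = n18741 := d17_1 D19169 (iv D18741) (iv F73454)
theorem F75265 : act 4 n19169 = n19161 := d26_1 D19169 (iv D19161) (iv D18732) (iv F71321) D18740
theorem F75266 : act 7 n19169 = n18967 := d31_2 (iv F73456) D19169 (iv D18967)
theorem F75267 : act 8 n19169 = n19029 := d32_2 (iv F73457) D19169 (iv D19029)
def n19170 : Q := act 6 n18741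
theorem D19170 : act 6 n18741 = n19170 := rfl
theorem F75268 : act 1 n19170 = n18753 := d12_1 D19170 (iv D18753) (iv F73458)
theorem F75269 : act 3 n19170 = n18745 := d23_1 D19170 (iv D18745) (iv F73459)
theorem F75270 : act 4 n19170 = n19162 := d27_1 D19170 (iv D19162) (iv F73460)
theorem F75271 : act 5 n19170 = n19033 := d30_1 D19170 (iv D19033) (iv D18555) (iv F71327) D18741
theorem F75272 : act 8 n19170 = n19030 := d34_2 (iv F73461) D19170 (iv D19030)
def n19171 : Q := act 6 n18742
theorem D19171 : act 6 n18742 = n19171 := rfl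
theorem F75273 : act 0 n19171 = n19170 := d5_1 D19171 (iv D19170) (iv F73462)
theorem F75274 : act 1 n19171 = n18755 := d12_1 D19171 (iv D18755) (iv F73463)
theorem F75275 : act 3 n19171 = n19030 := d23_1 D19171 (iv D19030) (iv F73464)
theorem F75276 : act 4 n19171 = n18748 := d27_1 D19171 (iv D18748) (iv F73465)
theorem F75277 : act 5 n19171 = n19027 := d30_1 D19171 (iv D19027) (iv D18551) (iv F71332) D18742
theorem F75278 : act 7 n19171 = n18775 := d33_2 (iv F73466) D19171 (iv D18775)
theorem F75279 : act 8 n19171 = n18745 := d34_2 (iv F73467) D19171 (iv D18745)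
def n19172 : Q := act 5 n18743
theorem D19172 : act 5 n18743 = n19172 := rfl
theorem F75280 : act 3 n19172 = n18744 := d22_1 D19172 (iv D18744) D18743
def n19173 : Q := act 6 n18744
theorem D19173 : act 6 n18744 = n19173 := rfl
theorem F75281 : act 2 n19173 = n18745 := d18_1 D19173 (iv D18745) (iv F73469)
theorem F75282 : act 4 n19173 = n18750 := d27_1 D19173 (iv D18750) (iv F73470)
theorem F75283 : act 7 n19173 = n18751 := d33_2 (iv F73471) D19173 (iv D18751)
def n19174 : Q := act 5 n18746
theorem D19174 : act 5 n18746 = n19174 := rfl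
theorem F75284 : act 3 n19174 = n18747 := d22_1 D19174 (iv D18747) D18746
theorem F75285 : act 8 n19174 = n18749 := d32_2 (iv F73477) D19174 (iv D18749)
def n19175 : Q := act 6 n18747
theorem D19175 : act 6 n18747 = n19175 := rfl
theorem F75286 : act 2 n19175 = n18748 := d18_1 D19175 (iv D18748) (iv F73478)
theorem F75287 : act 5 n19175 = n18879 := d30_1 D19175 (iv D18879) (iv D18356) (iv F71341) D18747
theorem F75288 : act 7 n19175 = n18778 := d33_2 (iv F73479) D19175 (iv D18778)
theorem F75289 : act 8 n19175 = n18750 := d34_2 (iv F73480) D19175 (iv D18750)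
def n19176 : Q := act 4 n18749
theorem D19176 : act 4 n18749 = n19176 := rfl
theorem F75290 : act 5 n19176 = n19176 := d26_2 D18749 D19176 (iv D19176) (iv D18749) F71347
def n19177 : Q := act 6 n18749
theorem D19177 : act 6 n18749 = n19177 := rfl
theorem F75291 : act 3 n19177 = n18750 := d23_1 D19177 (iv D18750) (iv F73485)
theorem F75292 : act 5 n19177 = n18881 := d30_1 D19177 (iv D18881) (iv D18358) (iv F71348) D18749
def n19178 : Q := act 6 n18752
theorem D19178 : act 6 n18752 = n19178 := rfl
theorem F75293 : act 2 n19178 = n18753 := d18_1 D19178 (iv D18753) (iv F73492)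
theorem F75294 : act 5 n19178 = n19051 := d30_1 D19178 (iv D19051) (iv D18576) (iv F71364) D18752
theorem F75295 : act 8 n19178 = n18947 := d34_2 (iv F73493) D19178 F74295
def n19179 : Q := act 6 n18756
theorem D19179 : act 6 n18756 = n19179 := rfl
theorem F75296 : act 2 n19179 = n18757 := d18_1 D19179 (iv D18757) (iv F73506)
theorem F75297 : act 5 n19179 = n18886 := d30_1 D19179 (iv D18886) (iv D18367) (iv F71382) D18756
theorem F75298 : act 8 n19179 = n18883 := d34_2 (iv F73507) D19179 (iv D18883)
def n19180 : Q := act 5 n18760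
theorem D19180 : act 5 n18760 = n19180 := rfl
theorem F75299 : act 0 n19180 = n18772 := d4_1 D19180 (iv D18772) (iv F73523)
theorem F75300 : act 1 n19180 = n19054 := d11_1 D19180 (iv D19054) (iv F73524)
theorem F75301 : act 2 n19180 = n18761 := d17_1 D19180 (iv D18761) (iv F73525)
theorem F75302 : act 3 n19180 = n19141 := d22_1 D19180 (iv D19141) (iv F73526)
theorem F75303 : act 4 n19180 = n18975 := d26_1 D19180 (iv D18975) (iv D18488) (iv F71407) D18760
theorem F75304 : act 7 n19180 = n19032 := d31_2 (iv F73528) D19180 (iv D19032)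
theorem F75305 : act 8 n19180 = n18951 := d32_2 (iv F73529) D19180 (iv D18951)
def n19181 : Q := act 6 n18761
theorem D19181 : act 6 n18761 = n19181 := rfl
theorem F75306 : act 0 n19181 = n18773 := d5_1 D19181 (iv D18773) (iv F73530)
theorem F75307 : act 1 n19181 = n18985 := d12_1 D19181 (iv D18985) (iv F73531)
theorem F75308 : act 3 n19181 = n18764 := d23_1 D19181 (iv D18764) (iv F73532)
theorem F75309 : act 4 n19181 = n18976 := d27_1 D19181 (iv D18976) (iv F73533)
theorem F75310 : act 7 n19181 = n19033 := d33_2 (iv F73534) D19181 (iv D19033)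
theorem F75311 : act 8 n19181 = n18974 := d34_2 (iv F73535) D19181 (iv D18974)
def n19182 : Q := act 6 n18762
theorem D19182 : act 6 n18762 = n19182 := rfl
theorem F75312 : act 0 n19182 = n18775 := d5_1 D19182 (iv D18775) (iv F73536)
theorem F75313 : act 1 n19182 = n18980 := d12_1 D19182 (iv D18980) (iv F73537)
theorem F75314 : act 3 n19182 = n18974 := d23_1 D19182 (iv D18974) (iv F73538)
theorem F75315 : act 4 n19182 = n18767 := d27_1 D19182 (iv D18767) (iv F73539)
theorem F75316 : act 5 n19182 = n19181 := d30_1 D19182 (iv D19181) (iv D18761) (iv F71420) D18762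
theorem F75317 : act 7 n19182 = n19170 := d33_2 (iv F73540) D19182 (iv D19170)
theorem F75318 : act 8 n19182 = n18764 := d34_2 (iv F73541) D19182 (iv D18764)
def n19183 : Q := act 6 n18763
theorem D19183 : act 6 n18763 = n19183 := rfl
theorem F75319 : act 0 n19183 = n18776 := d5_1 D19183 (iv D18776) (iv F73542)
theorem F75320 : act 2 n19183 = n18764 := d18_1 D19183 (iv D18764) (iv F73543)
theorem F75321 : act 3 n19183 = n19158 := d23_1 D19183 (iv D19158) (iv F73544)
theorem F75322 : act 4 n19183 = n18769 := d27_1 D19183 (iv D18769) (iv F73545)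
theorem F75323 : act 7 n19183 = n18770 := d33_2 (iv F73546) D19183 (iv D18770)
def n19184 : Q := act 5 n18765
theorem D19184 : act 5 n18765 = n19184 := rfl
theorem F75324 : act 1 n19184 = n18766 := d11_1 D19184 (iv D18766) (iv F73550)
theorem F75325 : act 3 n19184 = n19151 := d22_1 D19184 (iv D19151) (iv F73551)
theorem F75326 : act 8 n19184 = n18768 := d32_2 (iv F73553) D19184 (iv D18768)
def n19185 : Q := act 6 n18766
theorem D19185 : act 6 n18766 = n19185 := rfl
theorem F75327 : act 0 n19185 = n18778 := d5_1 D19185 (iv D18778) (iv F73554)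
theorem F75328 : act 2 n19185 = n18767 := d18_1 D19185 (iv D18767) (iv F73555)
theorem F75329 : act 3 n19185 = n19152 := d23_1 D19185 (iv D19152) (iv F73556)
theorem F75330 : act 5 n19185 = n18842 := d30_1 D19185 (iv D18842) (iv D18314) (iv F71436) D18766
theorem F75331 : act 8 n19185 = n18769 := d34_2 (iv F73557) D19185 (iv D18769)
def n19186 : Q := act 6 n18768
theorem D19186 : act 6 n18768 = n19186 := rfl
theorem F75332 : act 1 n19186 = n18769 := d12_1 D19186 (iv D18769) (iv F73562)
theorem F75333 : act 3 n19186 = n19154 := d23_1 D19186 (iv D19154) (iv F73563)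
theorem F75334 : act 5 n19186 = n18845 := d30_1 D19186 (iv D18845) (iv D18318) (iv F71443) D18768
theorem F75335 : act 7 n19186 = n18771 := d33_2 (iv F73564) D19186 (iv D18771)
def n19187 : Q := act 6 n18772
theorem D19187 : act 6 n18772 = n19187 := rfl
theorem F75336 : act 1 n19187 = n18950 := d12_1 D19187 (iv D18950) (iv F73576)
theorem F75337 : act 2 n19187 = n18773 := d18_1 D19187 (iv D18773) (iv F73577)
theorem F75338 : act 3 n19187 = n19142 := d23_1 D19187 (iv D19142) (iv F73578)
theorem F75339 : act 4 n19187 = n19179 := d27_1 D19187 (iv D19179) (iv F73579)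
theorem F75340 : act 5 n19187 = n18968 := d30_1 D19187 (iv D18968) (iv D18478) (iv F71466) D18772
theorem F75341 : act 8 n19187 = n18952 := d34_2 (iv F73580) D19187 (iv D18952)
def n19188 : Q := act 6 n18777
theorem D19188 : act 6 n18777 = n19188 := rfl
theorem F75342 : act 0 n19188 = n19152 := d5_1 D19188 (iv D19152) (iv F73599)
theorem F75343 : act 2 n19188 = n19085 := d18_1 D19188 (iv D19085) (iv F73600)
theorem F75344 : act 3 n19188 = n18778 := d23_1 D19188 (iv D18778) (iv F73601)
theorem F75345 : act 5 n19188 = n18894 := d30_1 D19188 (iv D18894) (iv D18375) (iv F71490) D18777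
theorem F75346 : act 8 n19188 = n18781 := d34_2 (iv F73602) D19188 (iv D18781)
def n19189 : Q := act 6 n18779
theorem D19189 : act 6 n18779 = n19189 := rfl
theorem F75347 : act 1 n19189 = n18781 := d12_1 D19189 (iv D18781) (iv F73606)
theorem F75348 : act 3 n19189 = n18780 := d23_1 D19189 (iv D18780) (iv F73607)
theorem F75349 : act 4 n19189 = n19157 := d27_1 D19189 (iv D19157) (iv F73608)
theorem F75350 : act 5 n19189 = n18898 := d30_1 D19189 (iv D18898) (iv D18380) (iv F71500) D18779
theorem F75351 : act 7 n19189 = n19092 := d33_2 (iv F73609) D19189 (iv D19092)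
def n19190 : Q := act 4 n18783
theorem D19190 : act 4 n18783 = n19190 := rfl
theorem F75352 : act 0 n19190 = n18784 := d3_1 D19190 (iv D18784) D18783
theorem F75353 : act 1 n19190 = n19061 := d10_1 D19190 F74807 (iv F73626)
theorem F75354 : act 2 n19190 = n18801 := d16_1 D19190 (iv D18801) (iv F73627)
theorem F75355 : act 8 n19190 = n19078 := d29_2 (iv F73629) D19190 (iv D19078)
def n19191 : Q := act 3 n18784
theorem D19191 : act 3 n18784 = n19191 := rfl
theorem F75356 : act 1 n19191 = n18785 := d9_1 D19191 (iv D18785) (iv F73630)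
theorem F75357 : act 4 n19191 = n19191 := d21_2 D18784 D19191 (iv D19191) (iv D18784) F71557
theorem F75358 : act 8 n19191 = n19079 := d25_2 (iv F73632) D19191 (iv D19079)
def n19192 : Q := act 5 n18784
theorem D19192 : act 5 n18784 = n19192 := rfl
theorem F75359 : act 1 n19192 = n18786 := d11_1 D19192 (iv D18786) (iv F73630)
theorem F75360 : act 2 n19192 = n18802 := d17_1 D19192 (iv D18802) (iv F73631)
theorem F75361 : act 8 n19192 = n19080 := d32_2 (iv F73632) D19192 (iv D19080)
def n19193 : Q := act 5 n18785
theorem D19193 : act 5 n18785 = n19193 := rfl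
theorem F75362 : act 2 n19193 = n18788 := d17_1 D19193 (iv D18788) (iv F73633)
theorem F75363 : act 3 n19193 = n18786 := d22_1 D19193 (iv D18786) D18785
theorem F75364 : act 8 n19193 = n19081 := d32_2 (iv F73635) D19193 (iv D19081)
def n19194 : Q := act 7 n18785
theorem D19194 : act 7 n18785 = n19194 := rfl
theorem F75365 : act 0 n19194 = n19079 := d6_1 D19194 F74890 F73834
theorem F75366 : act 2 n19194 = n18789 := d19_1 D19194 (iv D18789) (iv F73633)
theorem F75367 : act 3 n19194 = n19078 := d24_1 D19194 F74885 (iv D18798) F71589 D18785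
theorem F75368 : act 4 n19194 = n19194 := d28_1 D19194 (iv D19194) F73634
def n19195 : Q := act 6 n18786
theorem D19195 : act 6 n18786 = n19195 := rfl
theorem F75369 : act 2 n19195 = n18787 := d18_1 D19195 (iv D18787) (iv F73636)
theorem F75370 : act 8 n19195 = n19082 := d34_2 (iv F73637) D19195 (iv D19082)
def n19196 : Q := act 4 n18788
theorem D19196 : act 4 n18788 = n19196 := rfl
theorem F75371 : act 5 n19196 = n19196 := d26_2 D18788 D19196 (iv D19196) (iv D18788) F71564
theorem F75372 : act 8 n19196 = n19083 := d29_2 (iv F73642) D19196 (iv D19083)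
def n19197 : Q := act 6 n18788
theorem D19197 : act 6 n18788 = n19197 := rfl
theorem F75373 : act 3 n19197 = n18790 := d23_1 D19197 (iv D18790) (iv F73641)
theorem F75374 : act 8 n19197 = n19084 := d34_2 (iv F73642) D19197 (iv D19084)
def n19198 : Q := act 7 n18788
theorem D19198 : act 7 n18788 = n19198 := rfl
theorem F75375 : act 3 n19198 = n18806 := d24_1 D19198 (iv D18806) F71624 (iv F71567) (iv F73641)
theorem F75376 : act 5 n19198 = n18789 := d31_1 D19198 (iv D18789) D18788
def n19199 : Q := act 8 n18789
theorem D19199 : act 8 n18789 = n19199 := rfl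
theorem F75377 : act 1 n19199 = n18978 := d14_1 D19199 F74456 F74070
theorem F75378 : act 3 n19199 = n18807 := d25_1 D19199 (iv D18807) (iv F73643)
theorem F75379 : act 4 n19199 = n19199 := d29_1 D19199 (iv D19199) F73644
theorem F75380 : act 7 n19199 = n19037 := d35_1 D19199 F74718 F72773 (iv F71565) D18789
def n19200 : Q := act 4 n18791
theorem D19200 : act 4 n18791 = n19200 := rfl
theorem F75381 : act 0 n19200 = n18792 := d3_1 D19200 (iv D18792) D18791
theorem F75382 : act 1 n19200 = n18856 := d10_1 D19200 (iv D18856) (iv F73648)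
theorem F75383 : act 7 n19200 = n18801 := d28_2 (iv F73651) D19200 (iv D18801)
def n19201 : Q := act 3 n18792
theorem D19201 : act 3 n18792 = n19201 := rfl
theorem F75384 : act 1 n19201 = n18793 := d9_1 D19201 (iv D18793) (iv F73652)
theorem F75385 : act 4 n19201 = n19201 := d21_2 D18792 D19201 (iv D19201) (iv D18792) F71572
def n19202 : Q := act 5 n18792
theorem D19202 : act 5 n18792 = n19202 := rfl
theorem F75386 : act 1 n19202 = n18794 := d11_1 D19202 (iv D18794) (iv F73652)
theorem F75387 : act 4 n19202 = n19192 := d26_1 D19202 (iv D19192) (iv D18784) (iv F71573) D18792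
theorem F75388 : act 7 n19202 = n18802 := d31_2 (iv F73653) D19202 (iv D18802)
def n19203 : Q := act 5 n18793
theorem D19203 : act 5 n18793 = n19203 := rfl
theorem F75389 : act 0 n19203 = n18859 := d4_1 D19203 (iv D18859) (iv F73654)
theorem F75390 : act 2 n19203 = n18814 := d17_1 D19203 (iv D18814) (iv F73655)
theorem F75391 : act 3 n19203 = n18794 := d22_1 D19203 (iv D18794) D18793
def n19204 : Q := act 6 n18794
theorem D19204 : act 6 n18794 = n19204 := rfl
theorem F75392 : act 0 n19204 = n18860 := d5_1 D19204 (iv D18860) (iv F73657)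
theorem F75393 : act 2 n19204 = n18795 := d18_1 D19204 (iv D18795) (iv F73658)
theorem F75394 : act 4 n19204 = n19195 := d27_1 D19204 (iv D19195) (iv F73659)
theorem F75395 : act 7 n19204 = n18803 := d33_2 (iv F73660) D19204 (iv D18803)
def n19205 : Q := act 4 n18796
theorem D19205 : act 4 n18796 = n19205 := rfl
theorem F75396 : act 0 n19205 = n18797 := d3_1 D19205 (iv D18797) D18796
theorem F75397 : act 1 n19205 = n18863 := d10_1 D19205 (iv D18863) (iv F73665)
theorem F75398 : act 2 n19205 = n19200 := d16_1 D19205 (iv D19200) (iv F73666)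
theorem F75399 : act 3 n19205 = n19144 := d21_1 D19205 (iv D19144) F73350 F71613 (iv F73667)
theorem F75400 : act 7 n19205 = n19190 := d28_2 (iv F73669) D19205 (iv D19190)
theorem F75401 : act 8 n19205 = n19086 := d29_2 (iv F73670) D19205 (iv D19086)
def n19206 : Q := act 3 n18797
theorem D19206 : act 3 n18797 = n19206 := rfl
theorem F75402 : act 0 n19206 = n19144 := d2_1 D19206 (iv F75399) F75396
theorem F75403 : act 1 n19206 = n18798 := d9_1 D19206 (iv D18798) (iv F73671)
theorem F75404 : act 4 n19206 = n18804 := d21_2 D18797 D19206 (iv D18804) (iv D18277) (iv F71583)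
theorem F75405 : act 6 n19206 = n19205 := d23_2 F75162 D19206 F75399
theorem F75406 : act 8 n19206 = n19087 := d25_2 (iv F73674) D19206 (iv D19087)
def n19207 : Q := act 5 n18797
theorem D19207 : act 5 n18797 = n19207 := rfl
theorem F75407 : act 1 n19207 = n18799 := d11_1 D19207 (iv D18799) (iv F73671)
theorem F75408 : act 2 n19207 = n19202 := d17_1 D19207 (iv D19202) (iv F73672)
theorem F75409 : act 4 n19207 = n18802 := d26_1 D19207 (iv D18802) (iv D18273) (iv F71584) D18797
theorem F75410 : act 7 n19207 = n19192 := d31_2 (iv F73673) D19207 (iv D19192)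
theorem F75411 : act 8 n19207 = n19088 := d32_2 (iv F73674) D19207 (iv D19088)
def n19208 : Q := act 5 n18798
theorem D19208 : act 5 n18798 = n19208 := rfl
theorem F75412 : act 0 n19208 = n18865 := d4_1 D19208 (iv D18865) (iv F73675)
theorem F75413 : act 2 n19208 = n19013 := d17_1 D19208 (iv D19013) (iv F73676)
theorem F75414 : act 3 n19208 = n18799 := d22_1 D19208 (iv D18799) D18798
theorem F75415 : act 8 n19208 = n19089 := d32_2 (iv F73678) D19208 (iv D19089)
def n19209 : Q := act 6 n18799
theorem D19209 : act 6 n18799 = n19209 := rfl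
theorem F75416 : act 0 n19209 = n18866 := d5_1 D19209 (iv D18866) (iv F73679)
theorem F75417 : act 2 n19209 = n18800 := d18_1 D19209 (iv D18800) (iv F73680)
theorem F75418 : act 4 n19209 = n18803 := d27_1 D19209 (iv D18803) (iv F73681)
theorem F75419 : act 7 n19209 = n19195 := d33_2 (iv F73682) D19209 (iv D19195)
theorem F75420 : act 8 n19209 = n19090 := d34_2 (iv F73683) D19209 (iv D19090)
def n19210 : Q := act 5 n18801
theorem D19210 : act 5 n18801 = n19210 := rfl
theorem F75421 : act 0 n19210 = n18802 := d4_1 D19210 (iv D18802) (iv F73690)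
theorem F75422 : act 1 n19210 = n18867 := d11_1 D19210 (iv D18867) (iv F73691)
theorem F75423 : act 8 n19210 = n19091 := d32_2 (iv F73692) D19210 (iv D19091)
def n19211 : Q := act 6 n18802
theorem D19211 : act 6 n18802 = n19211 := rfl
theorem F75424 : act 1 n19211 = n18803 := d12_1 D19211 (iv D18803) (iv F73693)
theorem F75425 : act 8 n19211 = n19092 := d34_2 (iv F73694) D19211 (iv D19092)
def n19212 : Q := act 7 n18805
theorem D19212 : act 7 n18805 = n19212 := rfl
theorem F75426 : act 6 n19212 = n18806 := d33_1 D19212 (iv D18806) D18805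
def n19213 : Q := act 8 n18806
theorem D19213 : act 8 n18806 = n19213 := rfl
theorem F75427 : act 1 n19213 = n18979 := d14_1 D19213 F74459 F74203
theorem F75428 : act 5 n19213 = n18807 := d32_1 D19213 (iv D18807) (iv F73705)
theorem F75429 : act 7 n19213 = n18833 := d35_1 D19213 (iv D18833) (iv D18304) (iv F71625) D18806
def n19214 : Q := act 3 n18808
theorem D19214 : act 3 n18808 = n19214 := rfl
theorem F75430 : act 1 n19214 = n18809 := d9_1 D19214 (iv D18809) (iv F73709)
theorem F75431 : act 4 n19214 = n19214 := d21_2 D18808 D19214 (iv D19214) (iv D18808) F71629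
theorem F75432 : act 8 n19214 = n18812 := d25_2 (iv F73711) D19214 (iv D18812)
def n19215 : Q := act 5 n18808
theorem D19215 : act 5 n18808 = n19215 := rfl
theorem F75433 : act 1 n19215 = n18810 := d11_1 D19215 (iv D18810) (iv F73709)
theorem F75434 : act 7 n19215 = n18840 := d31_2 (iv F73710) D19215 (iv D18840)
theorem F75435 : act 8 n19215 = n18813 := d32_2 (iv F73711) D19215 (iv D18813)
def n19216 : Q := act 5 n18809
theorem D19216 : act 5 n18809 = n19216 := rfl
theorem F75436 : act 0 n19216 = n18877 := d4_1 D19216 (iv D18877) (iv F73712)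
theorem F75437 : act 3 n19216 = n18810 := d22_1 D19216 (iv D18810) D18809
theorem F75438 : act 8 n19216 = n18814 := d32_2 (iv F73714) D19216 (iv D18814)
def n19217 : Q := act 6 n18810
theorem D19217 : act 6 n18810 = n19217 := rfl
theorem F75439 : act 0 n19217 = n18879 := d5_1 D19217 (iv D18879) (iv F73715)
theorem F75440 : act 2 n19217 = n18811 := d18_1 D19217 (iv D18811) (iv F73716)
theorem F75441 : act 7 n19217 = n18842 := d33_2 (iv F73717) D19217 (iv D18842)
theorem F75442 : act 8 n19217 = n18815 := d34_2 (iv F73718) D19217 (iv D18815)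
def n19218 : Q := act 2 n18812
theorem D19218 : act 2 n18812 = n19218 := rfl
theorem F75443 : act 0 n19218 = n19137 := d1_1 D19218 F75135 F74708
theorem F75444 : act 3 n19218 = n19136 := d15_2 D18812 D19218 F75131 F73389 F72643
theorem F75445 : act 4 n19218 = n19218 := d16_2 F73723 D19218 (iv D19218)
theorem F75446 : act 7 n19218 = n19031 := d19_2 F74242 D19218 F74695
def n19219 : Q := act 5 n18812
theorem D19219 : act 5 n18812 = n19219 := rfl
theorem F75447 : act 1 n19219 = n18814 := d11_1 D19219 (iv D18814) (iv F73722)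
theorem F75448 : act 3 n19219 = n18813 := d22_1 D19219 (iv D18813) D18812
def n19220 : Q := act 6 n18813
theorem D19220 : act 6 n18813 = n19220 := rfl
theorem F75449 : act 1 n19220 = n18815 := d12_1 D19220 (iv D18815) (iv F73724)
theorem F75450 : act 7 n19220 = n18816 := d33_2 (iv F73725) D19220 (iv D18816)
def n19221 : Q := act 4 n18814
theorem D19221 : act 4 n18814 = n19221 := rfl
theorem F75451 : act 0 n19221 = n18880 := d3_1 D19221 (iv D18880) (iv F73726)
theorem F75452 : act 5 n19221 = n19221 := d26_2 D18814 D19221 (iv D19221) (iv D18814) F71642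
def n19222 : Q := act 6 n18814
theorem D19222 : act 6 n18814 = n19222 := rfl
theorem F75453 : act 0 n19222 = n18881 := d5_1 D19222 (iv D18881) (iv F73726)
theorem F75454 : act 3 n19222 = n18815 := d23_1 D19222 (iv D18815) (iv F73727)
def n19223 : Q := act 3 n18817
theorem D19223 : act 3 n18817 = n19223 := rfl
theorem F75455 : act 1 n19223 = n18818 := d9_1 D19223 (iv D18818) (iv F73733)
theorem F75456 : act 4 n19223 = n19223 := d21_2 D18817 D19223 (iv D19223) (iv D18817) F71654
theorem F75457 : act 8 n19223 = n18821 := d25_2 (iv F73735) D19223 (iv D18821)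
def n19224 : Q := act 5 n18817
theorem D19224 : act 5 n18817 = n19224 := rfl
theorem F75458 : act 1 n19224 = n18819 := d11_1 D19224 (iv D18819) (iv F73733)
theorem F75459 : act 2 n19224 = n18840 := d17_1 D19224 (iv D18840) (iv F73734)
theorem F75460 : act 8 n19224 = n18822 := d32_2 (iv F73735) D19224 (iv D18822)
def n19225 : Q := act 5 n18818
theorem D19225 : act 5 n18818 = n19225 := rfl
theorem F75461 : act 2 n19225 = n19114 := d17_1 D19225 (iv D19114) (iv F73736)
theorem F75462 : act 3 n19225 = n18819 := d22_1 D19225 (iv D18819) D18818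
theorem F75463 : act 8 n19225 = n18823 := d32_2 (iv F73738) D19225 (iv D18823)
def n19226 : Q := act 7 n18818
theorem D19226 : act 7 n18818 = n19226 := rfl
theorem F75464 : act 2 n19226 = n19115 := d19_1 D19226 (iv D19115) (iv F73736)
theorem F75465 : act 4 n19226 = n19226 := d28_1 D19226 (iv D19226) F73737
def n19227 : Q := act 6 n18819
theorem D19227 : act 6 n18819 = n19227 := rfl
theorem F75466 : act 2 n19227 = n18820 := d18_1 D19227 (iv D18820) (iv F73739)
theorem F75467 : act 8 n19227 = n18825 := d34_2 (iv F73740) D19227 (iv D18825)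
def n19228 : Q := act 5 n18821
theorem D19228 : act 5 n18821 = n19228 := rfl
theorem F75468 : act 1 n19228 = n18823 := d11_1 D19228 (iv D18823) (iv F73744)
theorem F75469 : act 3 n19228 = n18822 := d22_1 D19228 (iv D18822) D18821
def n19229 : Q := act 6 n18822
theorem D19229 : act 6 n18822 = n19229 := rfl
theorem F75470 : act 1 n19229 = n18825 := d12_1 D19229 (iv D18825) (iv F73746)
theorem F75471 : act 2 n19229 = n18845 := d18_1 D19229 (iv D18845) (iv F73747)
theorem F75472 : act 7 n19229 = n18826 := d33_2 (iv F73748) D19229 (iv D18826)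
def n19230 : Q := act 4 n18823
theorem D19230 : act 4 n18823 = n19230 := rfl
theorem F75473 : act 2 n19230 = n19117 := d16_1 D19230 (iv D19117) (iv F73749)
theorem F75474 : act 5 n19230 = n19230 := d26_2 D18823 D19230 (iv D19230) (iv D18823) F71665
def n19231 : Q := act 6 n18823
theorem D19231 : act 6 n18823 = n19231 := rfl
theorem F75475 : act 2 n19231 = n19118 := d18_1 D19231 (iv D19118) (iv F73749)
theorem F75476 : act 3 n19231 = n18825 := d23_1 D19231 (iv D18825) (iv F73750)
def n19232 : Q := act 7 n18823
theorem D19232 : act 7 n18823 = n19232 := rfl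
theorem F75477 : act 2 n19232 = n18998 := d19_1 D19232 F74539 (iv F73749)
theorem F75478 : act 3 n19232 = n18828 := d24_1 D19232 (iv D18828) F71674 (iv F71667) (iv F73750)
theorem F75479 : act 5 n19232 = n18824 := d31_1 D19232 (iv D18824) D18823
def n19233 : Q := act 8 n18824
theorem D19233 : act 8 n18824 = n19233 := rfl
theorem F75480 : act 1 n19233 = n19168 := d14_1 D19233 F75262 F74679
theorem F75481 : act 2 n19233 = n18991 := d20_1 D19233 F74510 (iv F73751)
theorem F75482 : act 3 n19233 = n18829 := d25_1 D19233 (iv D18829) (iv F73752)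
theorem F75483 : act 4 n19233 = n19233 := d29_1 D19233 (iv D19233) F73753
def n19234 : Q := act 7 n18827
theorem D19234 : act 7 n18827 = n19234 := rfl
theorem F75484 : act 2 n19234 = n18832 := d19_1 D19234 (iv D18832) (iv F73758)
theorem F75485 : act 6 n19234 = n18828 := d33_1 D19234 (iv D18828) D18827
def n19235 : Q := act 8 n18828
theorem D19235 : act 8 n18828 = n19235 := rfl
theorem F75486 : act 1 n19235 = n19169 := d14_1 D19235 F75267 F74685
theorem F75487 : act 2 n19235 = n18833 := d20_1 D19235 (iv D18833) (iv F73760)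
theorem F75488 : act 5 n19235 = n18829 := d32_1 D19235 (iv D18829) (iv F73761)
def n19236 : Q := act 7 n18830
theorem D19236 : act 7 n18830 = n19236 := rfl
theorem F75489 : act 0 n19236 = n18845 := d6_1 D19236 F73822 (iv F73765)
theorem F75490 : act 1 n19236 = n18897 := d13_1 D19236 F74009 (iv F73766)
theorem F75491 : act 4 n19236 = n18832 := d28_1 D19236 (iv D18832) (iv F73767)
theorem F75492 : act 6 n19236 = n18831 := d33_1 D19236 (iv D18831) D18830
def n19237 : Q := act 3 n18831
theorem D19237 : act 3 n18831 = n19237 := rfl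
theorem F75493 : act 0 n19237 = n18844 := d2_1 D19237 F73818 (iv F73768)
theorem F75494 : act 1 n19237 = n18896 := d9_1 D19237 F74007 (iv F73769)
theorem F75495 : act 4 n19237 = n19062 := d21_2 (iv F73770) D19237 F74810 F72852 (iv F71682)
theorem F75496 : act 5 n19237 = n18843 := d22_2 (iv F73771) D19237 (iv D18843)
theorem F75497 : act 7 n19237 = n19127 := d24_2 D18831 D19237 F75084 F74316 F72325
def n19238 : Q := act 8 n18831
theorem D19238 : act 8 n18831 = n19238 := rfl
theorem F75498 : act 0 n19238 = n18840 := d7_1 D19238 F73803 (iv F73768)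
theorem F75499 : act 1 n19238 = n18890 := d14_1 D19238 F73988 (iv F73769)
theorem F75500 : act 4 n19238 = n18833 := d29_1 D19238 (iv D18833) (iv F73770)
theorem F75501 : act 5 n19238 = n18838 := d32_1 D19238 F73797 (iv F73771)
def n19239 : Q := act 8 n18832
theorem D19239 : act 8 n18832 = n19239 := rfl
theorem F75502 : act 1 n19239 = n19178 := d14_1 D19239 F75295 F74291
theorem F75503 : act 3 n19239 = n19119 := d25_1 D19239 (iv D19119) (iv F73772)
theorem F75504 : act 6 n19239 = n18833 := d34_1 D19239 (iv D18833) (iv F73773)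
def n19240 : Q := act 6 n18835
theorem D19240 : act 6 n18835 = n19240 := rfl
theorem F75505 : act 0 n19240 = n18886 := d5_1 D19240 (iv D18886) (iv F73782)
theorem F75506 : act 2 n19240 = n18836 := d18_1 D19240 (iv D18836) (iv F73783)
theorem F75507 : act 3 n19240 = n19051 := d23_1 D19240 (iv D19051) (iv F73784)
theorem F75508 : act 4 n19240 = n18842 := d27_1 D19240 (iv D18842) (iv F73785)
theorem F75509 : act 8 n19240 = n18837 := d34_2 (iv F73786) D19240 (iv D18837)
def n19241 : Q := act 3 n18838
theorem D19241 : act 3 n18838 = n19241 := rfl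
theorem F75510 : act 0 n19241 = n18839 := d2_1 D19241 (iv D18839) (iv F73795)
theorem F75511 : act 1 n19241 = n18889 := d9_1 D19241 (iv D18889) (iv F73796)
theorem F75512 : act 4 n19241 = n18847 := d21_2 D18838 D19241 (iv D18847) (iv D18323) (iv F71708)
theorem F75513 : act 6 n19241 = n19150 := d23_2 F74105 D19241 F75189
theorem F75514 : act 8 n19241 = n18843 := d25_2 (iv F73797) D19241 (iv D18843)
def n19242 : Q := act 5 n18839
theorem D19242 : act 5 n18839 = n19242 := rfl
theorem F75515 : act 1 n19242 = n18841 := d11_1 D19242 (iv D18841) (iv F73798)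
theorem F75516 : act 3 n19242 = n18840 := d22_1 D19242 (iv D18840) D18839
theorem F75517 : act 4 n19242 = n19056 := d26_1 D19242 (iv D19056) F72832 (iv F71753) (iv F73799)
theorem F75518 : act 8 n19242 = n18844 := d32_2 (iv F73801) D19242 (iv D18844)
def n19243 : Q := act 6 n18840
theorem D19243 : act 6 n18840 = n19243 := rfl
theorem F75519 : act 1 n19243 = n18842 := d12_1 D19243 (iv D18842) (iv F73802)
theorem F75520 : act 8 n19243 = n18845 := d34_2 (iv F73803) D19243 (iv D18845)
def n19244 : Q := act 6 n18841
theorem D19244 : act 6 n18841 = n19244 := rfl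
theorem F75521 : act 0 n19244 = n18894 := d5_1 D19244 (iv D18894) (iv F73804)
theorem F75522 : act 2 n19244 = n19120 := d18_1 D19244 (iv D19120) (iv F73805)
theorem F75523 : act 3 n19244 = n18842 := d23_1 D19244 (iv D18842) (iv F73806)
theorem F75524 : act 4 n19244 = n19059 := d27_1 D19244 (iv D19059) (iv F73807)
theorem F75525 : act 5 n19244 = n19152 := d30_1 D19244 (iv D19152) (iv D18719) (iv F71716) D18841
theorem F75526 : act 8 n19244 = n18846 := d34_2 (iv F73808) D19244 (iv D18846)
def n19245 : Q := act 6 n18844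
theorem D19245 : act 6 n18844 = n19245 := rfl
theorem F75527 : act 1 n19245 = n18846 := d12_1 D19245 (iv D18846) (iv F73817)
theorem F75528 : act 3 n19245 = n18845 := d23_1 D19245 (iv D18845) (iv F73818)
theorem F75529 : act 4 n19245 = n19065 := d27_1 D19245 (iv D19065) (iv F73819)
theorem F75530 : act 5 n19245 = n19154 := d30_1 D19245 (iv D19154) (iv D18722) (iv F71729) D18844
theorem F75531 : act 7 n19245 = n19128 := d33_2 (iv F73820) D19245 (iv D19128)
def n19246 : Q := act 5 n18848
theorem D19246 : act 5 n18848 = n19246 := rfl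
theorem F75532 : act 0 n19246 = n19193 := d4_1 D19246 (iv D19193) (iv F73834)
theorem F75533 : act 2 n19246 = n19068 := d17_1 D19246 (iv D19068) (iv F73835)
theorem F75534 : act 3 n19246 = n18849 := d22_1 D19246 (iv D18849) D18848
def n19247 : Q := act 6 n18849
theorem D19247 : act 6 n18849 = n19247 := rfl
theorem F75535 : act 0 n19247 = n19195 := d5_1 D19247 (iv D19195) (iv F73838)
theorem F75536 : act 2 n19247 = n18850 := d18_1 D19247 (iv D18850) (iv F73839)
theorem F75537 : act 4 n19247 = n18860 := d27_1 D19247 (iv D18860) (iv F73840)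
theorem F75538 : act 5 n19247 = n19082 := d30_1 D19247 (iv D19082) (iv D18616) (iv F71769) D18849
theorem F75539 : act 7 n19247 = n18866 := d33_2 (iv F73841) D19247 (iv D18866)
def n19248 : Q := act 4 n18851
theorem D19248 : act 4 n18851 = n19248 := rfl
theorem F75540 : act 0 n19248 = n18852 := d3_1 D19248 (iv D18852) D18851
theorem F75541 : act 2 n19248 = n19241 := d16_1 D19248 F75512 (iv F73848)
theorem F75542 : act 7 n19248 = n19150 := d28_2 (iv F73850) D19248 (iv D19150)
theorem F75543 : act 8 n19248 = n18856 := d29_2 (iv F73851) D19248 (iv D18856)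
def n19249 : Q := act 3 n18852
theorem D19249 : act 3 n18852 = n19249 := rfl
theorem F75544 : act 1 n19249 = n18853 := d9_1 D19249 (iv D18853) (iv F73852)
theorem F75545 : act 2 n19249 = n19223 := d15_1 D19249 (iv D19223) F73734 D18839 (iv F73853)
theorem F75546 : act 4 n19249 = n19249 := d21_2 D18852 D19249 (iv D19249) (iv D18852) F71777
theorem F75547 : act 8 n19249 = n18857 := d25_2 (iv F73855) D19249 (iv D18857)
def n19250 : Q := act 5 n18852
theorem D19250 : act 5 n18852 = n19250 := rfl
theorem F75548 : act 1 n19250 = n18854 := d11_1 D19250 (iv D18854) (iv F73852)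
theorem F75549 : act 2 n19250 = n19242 := d17_1 D19250 (iv D19242) (iv F73853)
theorem F75550 : act 7 n19250 = n19151 := d31_2 (iv F73854) D19250 (iv D19151)
theorem F75551 : act 8 n19250 = n18858 := d32_2 (iv F73855) D19250 (iv D18858)
def n19251 : Q := act 5 n18853
theorem D19251 : act 5 n18853 = n19251 := rfl
theorem F75552 : act 2 n19251 = n18877 := d17_1 D19251 (iv D18877) (iv F73856)
theorem F75553 : act 3 n19251 = n18854 := d22_1 D19251 (iv D18854) D18853
theorem F75554 : act 8 n19251 = n18859 := d32_2 (iv F73858) D19251 (iv D18859)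
def n19252 : Q := act 6 n18854
theorem D19252 : act 6 n18854 = n19252 := rfl
theorem F75555 : act 2 n19252 = n18855 := d18_1 D19252 (iv D18855) (iv F73859)
theorem F75556 : act 7 n19252 = n19152 := d33_2 (iv F73860) D19252 (iv D19152)
theorem F75557 : act 8 n19252 = n18860 := d34_2 (iv F73861) D19252 (iv D18860)
def n19253 : Q := act 3 n18856
theorem D19253 : act 3 n18856 = n19253 := rfl
theorem F75558 : act 0 n19253 = n18857 := d2_1 D19253 (iv D18857) (iv F73865)
theorem F75559 : act 2 n19253 = n19163 := d15_1 D19253 (iv D19163) F73431 D18843 (iv F73866)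
theorem F75560 : act 4 n19253 = n19253 := d21_2 D18856 D19253 (iv D19253) (iv D18856) F71787
theorem F75561 : act 6 n19253 = n19218 := d23_2 F75132 D19253 F75444
theorem F75562 : act 7 n19253 = n19168 := d24_2 (iv F73867) D19253 (iv D19168) F73456 F72411
def n19254 : Q := act 5 n18856
theorem D19254 : act 5 n18856 = n19254 := rfl
theorem F75563 : act 0 n19254 = n18858 := d4_1 D19254 (iv D18858) (iv F73865)
theorem F75564 : act 2 n19254 = n19237 := d17_1 D19254 F75496 (iv F73866)
theorem F75565 : act 7 n19254 = n18867 := d31_2 (iv F73867) D19254 (iv D18867)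
def n19255 : Q := act 5 n18857
theorem D19255 : act 5 n18857 = n19255 := rfl
theorem F75566 : act 1 n19255 = n18859 := d11_1 D19255 (iv D18859) (iv F73868)
theorem F75567 : act 2 n19255 = n19228 := d17_1 D19255 (iv D19228) (iv F73869)
theorem F75568 : act 3 n19255 = n18858 := d22_1 D19255 (iv D18858) D18857
def n19256 : Q := act 6 n18858
theorem D19256 : act 6 n18858 = n19256 := rfl
theorem F75569 : act 1 n19256 = n18860 := d12_1 D19256 (iv D18860) (iv F73871)
theorem F75570 : act 2 n19256 = n19245 := d18_1 D19256 (iv D19245) (iv F73872)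
theorem F75571 : act 7 n19256 = n18868 := d33_2 (iv F73873) D19256 (iv D18868)
def n19257 : Q := act 4 n18859
theorem D19257 : act 4 n18859 = n19257 := rfl
theorem F75572 : act 2 n19257 = n18880 := d16_1 D19257 (iv D18880) (iv F73874)
theorem F75573 : act 5 n19257 = n19257 := d26_2 D18859 D19257 (iv D19257) (iv D18859) F71793
def n19258 : Q := act 6 n18859
theorem D19258 : act 6 n18859 = n19258 := rfl
theorem F75574 : act 2 n19258 = n18881 := d18_1 D19258 (iv D18881) (iv F73874)
theorem F75575 : act 3 n19258 = n18860 := d23_1 D19258 (iv D18860) (iv F73875)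
def n19259 : Q := act 6 n18861
theorem D19259 : act 6 n18861 = n19259 := rfl
theorem F75576 : act 2 n19259 = n18862 := d18_1 D19259 (iv D18862) (iv F73878)
theorem F75577 : act 4 n19259 = n19188 := d27_1 D19259 (iv D19188) (iv F73879)
theorem F75578 : act 5 n19259 = n18866 := d30_1 D19259 (iv D18866) (iv D18343) (iv F71799) D18861
theorem F75579 : act 7 n19259 = n19082 := d33_2 (iv F73880) D19259 (iv D19082)
theorem F75580 : act 8 n19259 = n19155 := d34_2 (iv F73881) D19259 (iv D19155)
def n19260 : Q := act 5 n18863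
theorem D19260 : act 5 n18863 = n19260 := rfl
theorem F75581 : act 0 n19260 = n18864 := d4_1 D19260 (iv D18864) (iv F73887)
theorem F75582 : act 2 n19260 = n18896 := d17_1 D19260 (iv D18896) (iv F73888)
theorem F75583 : act 3 n19260 = n19145 := d22_1 D19260 (iv D19145) (iv F73889)
theorem F75584 : act 4 n19260 = n18867 := d26_1 D19260 (iv D18867) (iv D18345) (iv F71808) D18863
theorem F75585 : act 8 n19260 = n19148 := d32_2 (iv F73891) D19260 (iv D19148)
def n19261 : Q := act 6 n18864
theorem D19261 : act 6 n18864 = n19261 := rfl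
theorem F75586 : act 1 n19261 = n18866 := d12_1 D19261 (iv D18866) (iv F73892)
theorem F75587 : act 2 n19261 = n18898 := d18_1 D19261 (iv D18898) (iv F73893)
theorem F75588 : act 3 n19261 = n19259 := d23_1 D19261 (iv D19259) (iv F73894)
theorem F75589 : act 4 n19261 = n18868 := d27_1 D19261 (iv D18868) (iv F73895)
theorem F75590 : act 8 n19261 = n19156 := d34_2 (iv F73896) D19261 (iv D19156)
def n19262 : Q := act 6 n18865
theorem D19262 : act 6 n18865 = n19262 := rfl
theorem F75591 : act 1 n19262 = n19259 := d12_1 D19262 (iv D19259) (iv F73897)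
theorem F75592 : act 2 n19262 = n19189 := d18_1 D19262 (iv D19189) (iv F73898)
theorem F75593 : act 3 n19262 = n18866 := d23_1 D19262 (iv D18866) (iv F73899)
theorem F75594 : act 5 n19262 = n19261 := d30_1 D19262 (iv D19261) (iv D18864) (iv F71818) D18865
theorem F75595 : act 8 n19262 = n19157 := d34_2 (iv F73900) D19262 (iv D19157)
def n19263 : Q := act 6 n18867
theorem D19263 : act 6 n18867 = n19263 := rfl
theorem F75596 : act 0 n19263 = n18868 := d5_1 D19263 (iv D18868) (iv F73904)
theorem F75597 : act 8 n19263 = n19158 := d34_2 (iv F73905) D19263 (iv D19158)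
def n19264 : Q := act 5 n18869
theorem D19264 : act 5 n18869 = n19264 := rfl
theorem F75598 : act 0 n19264 = n19004 := d4_1 D19264 (iv D19004) (iv F73908)
theorem F75599 : act 1 n19264 = n19121 := d11_1 D19264 (iv D19121) (iv F73909)
theorem F75600 : act 2 n19264 = n18875 := d17_1 D19264 (iv D18875) (iv F73910)
theorem F75601 : act 3 n19264 = n18870 := d22_1 D19264 (iv D18870) D18869
theorem F75602 : act 7 n19264 = n19023 := d31_2 (iv F73913) D19264 (iv D19023)
def n19265 : Q := act 6 n18870
theorem D19265 : act 6 n18870 = n19265 := rfl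
theorem F75603 : act 0 n19265 = n19005 := d5_1 D19265 (iv D19005) (iv F73914)
theorem F75604 : act 1 n19265 = n19122 := d12_1 D19265 (iv D19122) (iv F73915)
theorem F75605 : act 2 n19265 = n18871 := d18_1 D19265 (iv D18871) (iv F73916)
theorem F75606 : act 4 n19265 = n19069 := d27_1 D19265 (iv D19069) (iv F73917)
theorem F75607 : act 5 n19265 = n19096 := d30_1 D19265 (iv D19096) (iv D18639) (iv F71836) D18870
theorem F75608 : act 7 n19265 = n18944 := d33_2 (iv F73918) D19265 (iv D18944)
def n19266 : Q := act 5 n18872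
theorem D19266 : act 5 n18872 = n19266 := rfl
theorem F75609 : act 3 n19266 = n18873 := d22_1 D19266 (iv D18873) D18872
theorem F75610 : act 8 n19266 = n18875 := d32_2 (iv F73926) D19266 (iv D18875)
def n19267 : Q := act 6 n18873
theorem D19267 : act 6 n18873 = n19267 := rfl
theorem F75611 : act 2 n19267 = n18874 := d18_1 D19267 (iv D18874) (iv F73927)
theorem F75612 : act 4 n19267 = n18879 := d27_1 D19267 (iv D18879) (iv F73928)
theorem F75613 : act 7 n19267 = n18886 := d33_2 (iv F73929) D19267 (iv D18886)
theorem F75614 : act 8 n19267 = n18876 := d34_2 (iv F73930) D19267 (iv D18876)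
def n19268 : Q := act 4 n18875
theorem D19268 : act 4 n18875 = n19268 := rfl
theorem F75615 : act 3 n19268 = n18880 := d21_1 D19268 (iv D18880) F71862 (iv F71851) (iv F73934)
theorem F75616 : act 5 n19268 = n19268 := d26_2 D18875 D19268 (iv D19268) (iv D18875) F71849
def n19269 : Q := act 6 n18875
theorem D19269 : act 6 n18875 = n19269 := rfl
theorem F75617 : act 3 n19269 = n18876 := d23_1 D19269 (iv D18876) (iv F73934)
def n19270 : Q := act 4 n18877
theorem D19270 : act 4 n18877 = n19270 := rfl
theorem F75618 : act 5 n19270 = n19270 := d26_2 D18877 D19270 (iv D19270) (iv D18877) F71855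
theorem F75619 : act 8 n19270 = n18880 := d29_2 (iv F73939) D19270 (iv D18880)
def n19271 : Q := act 6 n18877
theorem D19271 : act 6 n18877 = n19271 := rfl
theorem F75620 : act 3 n19271 = n18879 := d23_1 D19271 (iv D18879) (iv F73938)
theorem F75621 : act 8 n19271 = n18881 := d34_2 (iv F73939) D19271 (iv D18881)
def n19272 : Q := act 7 n18877
theorem D19272 : act 7 n18877 = n19272 := rfl
theorem F75622 : act 3 n19272 = n18895 := d24_1 D19272 (iv D18895) F71918 (iv F71858) (iv F73938)
theorem F75623 : act 5 n19272 = n18878 := d31_1 D19272 (iv D18878) D18877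
def n19273 : Q := act 6 n18880
theorem D19273 : act 6 n18880 = n19273 := rfl
theorem F75624 : act 4 n19273 = n18881 := d27_1 D19273 (iv D18881) D18880
def n19274 : Q := act 6 n18884
theorem D19274 : act 6 n18884 = n19274 := rfl
theorem F75625 : act 0 n19274 = n19178 := d5_1 D19274 (iv D19178) (iv F73955)
theorem F75626 : act 1 n19274 = n18886 := d12_1 D19274 (iv D18886) (iv F73956)
theorem F75627 : act 2 n19274 = n19093 := d18_1 D19274 (iv D19093) (iv F73957)
theorem F75628 : act 3 n19274 = n19179 := d23_1 D19274 (iv D19179) (iv F73958)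
theorem F75629 : act 4 n19274 = n18893 := d27_1 D19274 (iv D18893) (iv F73959)
theorem F75630 : act 8 n19274 = n18887 := d34_2 (iv F73960) D19274 (iv D18887)
def n19275 : Q := act 6 n18885
theorem D19275 : act 6 n18885 = n19275 := rfl
theorem F75631 : act 0 n19275 = n19051 := d5_1 D19275 (iv D19051) (iv F73961)
theorem F75632 : act 1 n19275 = n19179 := d12_1 D19275 (iv D19179) (iv F73962)
theorem F75633 : act 2 n19275 = n18949 := d18_1 D19275 (iv D18949) (iv F73963)
theorem F75634 : act 3 n19275 = n18886 := d23_1 D19275 (iv D18886) (iv F73964)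
theorem F75635 : act 4 n19275 = n18950 := d27_1 D19275 (iv D18950) (iv F73965)
theorem F75636 : act 5 n19275 = n19274 := d30_1 D19275 (iv D19274) (iv D18884) (iv F71888) D18885
theorem F75637 : act 8 n19275 = n18888 := d34_2 (iv F73966) D19275 (iv D18888)
def n19276 : Q := act 5 n18889
theorem D19276 : act 5 n18889 = n19276 := rfl
theorem F75638 : act 0 n19276 = n18891 := d4_1 D19276 (iv D18891) (iv F73981)
theorem F75639 : act 2 n19276 = n19148 := d17_1 D19276 (iv D19148) (iv F73982)
theorem F75640 : act 3 n19276 = n18890 := d22_1 D19276 (iv D18890) D18889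
theorem F75641 : act 4 n19276 = n19141 := d26_1 D19276 (iv D19141) (iv D18706) (iv F71950) (iv F73983)
theorem F75642 : act 8 n19276 = n18896 := d32_2 (iv F73984) D19276 (iv D18896)
def n19277 : Q := act 7 n18889
theorem D19277 : act 7 n18889 = n19277 := rfl
theorem F75643 : act 0 n19277 = n18892 := d6_1 D19277 (iv D18892) (iv F73981)
theorem F75644 : act 2 n19277 = n19087 := d19_1 D19277 F74914 (iv F73982)
theorem F75645 : act 4 n19277 = n18900 := d28_1 D19277 (iv D18900) (iv F73983)
def n19278 : Q := act 6 n18890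
theorem D19278 : act 6 n18890 = n19278 := rfl
theorem F75646 : act 0 n19278 = n18893 := d5_1 D19278 (iv D18893) (iv F73985)
theorem F75647 : act 2 n19278 = n19143 := d18_1 D19278 (iv D19143) (iv F73986)
theorem F75648 : act 4 n19278 = n19178 := d27_1 D19278 (iv D19178) (iv F73987)
theorem F75649 : act 8 n19278 = n18897 := d34_2 (iv F73988) D19278 (iv D18897)
def n19279 : Q := act 6 n18891
theorem D19279 : act 6 n18891 = n19279 := rfl
theorem F75650 : act 1 n19279 = n18894 := d12_1 D19279 (iv D18894) (iv F73989)
theorem F75651 : act 2 n19279 = n19156 := d18_1 D19279 (iv D19156) (iv F73990)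
theorem F75652 : act 3 n19279 = n18893 := d23_1 D19279 (iv D18893) (iv F73991)
theorem F75653 : act 4 n19279 = n19142 := d27_1 D19279 (iv D19142) (iv F73992)
theorem F75654 : act 8 n19279 = n18898 := d34_2 (iv F73993) D19279 (iv D18898)
def n19280 : Q := act 7 n18891
theorem D19280 : act 7 n18891 = n19280 := rfl
theorem F75655 : act 1 n19280 = n18895 := d13_1 D19280 (iv D18895) (iv F73989)
theorem F75656 : act 2 n19280 = n19147 := d19_1 D19280 F75179 (iv F73990)
theorem F75657 : act 4 n19280 = n19138 := d28_1 D19280 F75141 (iv F73992)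
theorem F75658 : act 5 n19280 = n18892 := d31_1 D19280 (iv D18892) D18891
def n19281 : Q := act 7 n18894
theorem D19281 : act 7 n18894 = n19281 := rfl
theorem F75659 : act 2 n19281 = n19130 := d19_1 D19281 F75098 (iv F73999)
theorem F75660 : act 4 n19281 = n19140 := d28_1 D19281 F75146 (iv F74001)
theorem F75661 : act 6 n19281 = n18895 := d33_1 D19281 (iv D18895) D18894
def n19282 : Q := act 6 n18896
theorem D19282 : act 6 n18896 = n19282 := rfl
theorem F75662 : act 0 n19282 = n18898 := d5_1 D19282 (iv D18898) (iv F74006)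
theorem F75663 : act 3 n19282 = n18897 := d23_1 D19282 (iv D18897) (iv F74007)
def n19283 : Q := act 5 n18901
theorem D19283 : act 5 n18901 = n19283 := rfl
theorem F75664 : act 0 n19283 = n18908 := d4_1 D19283 (iv D18908) (iv F74024)
theorem F75665 : act 1 n19283 = n19095 := d11_1 D19283 (iv D19095) (iv F74025)
theorem F75666 : act 2 n19283 = n19266 := d17_1 D19283 (iv D19266) (iv F74026)
theorem F75667 : act 3 n19283 = n18902 := d22_1 D19283 (iv D18902) D18901
theorem F75668 : act 7 n19283 = n19112 := d31_2 (iv F74029) D19283 (iv D19112)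
theorem F75669 : act 8 n19283 = n19264 := d32_2 (iv F74030) D19283 (iv D19264)
def n19284 : Q := act 6 n18902
theorem D19284 : act 6 n18902 = n19284 := rfl
theorem F75670 : act 0 n19284 = n18910 := d5_1 D19284 (iv D18910) (iv F74031)
theorem F75671 : act 1 n19284 = n19096 := d12_1 D19284 (iv D19096) (iv F74032)
theorem F75672 : act 2 n19284 = n18903 := d18_1 D19284 (iv D18903) (iv F74033)
theorem F75673 : act 4 n19284 = n19074 := d27_1 D19284 (iv D19074) (iv F74034)
theorem F75674 : act 5 n19284 = n19122 := d30_1 D19284 (iv D19122) (iv D18681) (iv F71959) D18902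
theorem F75675 : act 7 n19284 = n18928 := d33_2 (iv F74035) D19284 (iv D18928)
theorem F75676 : act 8 n19284 = n19265 := d34_2 (iv F74036) D19284 (iv D19265)
def n19285 : Q := act 3 n18904
theorem D19285 : act 3 n18904 = n19285 := rfl
theorem F75677 : act 0 n19285 = n19199 := d2_1 D19285 F75378 (iv F74044)
theorem F75678 : act 1 n19285 = n18905 := d9_1 D19285 (iv D18905) (iv F74045)
theorem F75679 : act 2 n19285 = n19191 := d15_1 D19285 (iv D19191) F73631 (iv F72039) (iv F74046)
theorem F75680 : act 4 n19285 = n19285 := d21_2 D18904 D19285 (iv D19285) (iv D18904) F71970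
theorem F75681 : act 6 n19285 = n19037 := d23_2 (iv F74047) D19285 (iv D19037)
theorem F75682 : act 8 n19285 = n19006 := d25_2 (iv F74049) D19285 (iv D19006)
def n19286 : Q := act 5 n18904
theorem D19286 : act 5 n18904 = n19286 := rfl
theorem F75683 : act 0 n19286 = n19213 := d4_1 D19286 F75428 (iv F74044)
theorem F75684 : act 1 n19286 = n18906 := d11_1 D19286 (iv D18906) (iv F74045)
theorem F75685 : act 2 n19286 = n18920 := d17_1 D19286 (iv D18920) (iv F74046)
theorem F75686 : act 4 n19286 = n19215 := d26_1 D19286 (iv D19215) (iv D18808) (iv F71971) D18904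
theorem F75687 : act 7 n19286 = n19100 := d31_2 (iv F74048) D19286 F74969
theorem F75688 : act 8 n19286 = n19007 := d32_2 (iv F74049) D19286 (iv D19007)
def n19287 : Q := act 5 n18905
theorem D19287 : act 5 n18905 = n19287 := rfl
theorem F75689 : act 0 n19287 = n19266 := d4_1 D19287 (iv D19266) (iv F74050)
theorem F75690 : act 2 n19287 = n18908 := d17_1 D19287 (iv D18908) (iv F74051)
theorem F75691 : act 3 n19287 = n18906 := d22_1 D19287 (iv D18906) D18905
theorem F75692 : act 8 n19287 = n19008 := d32_2 (iv F74054) D19287 (iv D19008)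
def n19288 : Q := act 6 n18906
theorem D19288 : act 6 n18906 = n19288 := rfl
theorem F75693 : act 0 n19288 = n19267 := d5_1 D19288 (iv D19267) (iv F74055)
theorem F75694 : act 2 n19288 = n18907 := d18_1 D19288 (iv D18907) (iv F74056)
theorem F75695 : act 4 n19288 = n19217 := d27_1 D19288 (iv D19217) (iv F74057)
theorem F75696 : act 5 n19288 = n19040 := d30_1 D19288 (iv D19040) (iv D18561) (iv F71977) D18906
theorem F75697 : act 7 n19288 = n19240 := d33_2 (iv F74058) D19288 (iv D19240)
theorem F75698 : act 8 n19288 = n19009 := d34_2 (iv F74059) D19288 (iv D19009)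
def n19289 : Q := act 4 n18908
theorem D19289 : act 4 n18908 = n19289 := rfl
theorem F75699 : act 1 n19289 = n19196 := d10_1 D19289 (iv D19196) (iv F74067)
theorem F75700 : act 3 n19289 = n19083 := d21_1 D19289 (iv D19083) F72976 (iv F71990) (iv F74068)
theorem F75701 : act 5 n19289 = n19289 := d26_2 D18908 D19289 (iv D19289) (iv D18908) F71987
def n19290 : Q := act 6 n18908
theorem D19290 : act 6 n18908 = n19290 := rfl
theorem F75702 : act 1 n19290 = n19197 := d12_1 D19290 (iv D19197) (iv F74067)
theorem F75703 : act 3 n19290 = n18910 := d23_1 D19290 (iv D18910) (iv F74068)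
def n19291 : Q := act 7 n18908
theorem D19291 : act 7 n18908 = n19291 := rfl
theorem F75704 : act 0 n19291 = n19112 := d6_1 D19291 (iv F75668) F75664
theorem F75705 : act 1 n19291 = n19198 := d13_1 D19291 (iv D19198) (iv F74067)
theorem F75706 : act 3 n19291 = n18931 := d24_1 D19291 (iv D18931) F72127 (iv F71991) (iv F74068)
theorem F75707 : act 5 n19291 = n18909 := d31_1 D19291 (iv D18909) D18908
def n19292 : Q := act 3 n18911
theorem D19292 : act 3 n18911 = n19292 := rfl
theorem F75708 : act 0 n19292 = n19233 := d2_1 D19292 F75482 (iv F74078)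
theorem F75709 : act 1 n19292 = n18912 := d9_1 D19292 (iv D18912) (iv F74079)
theorem F75710 : act 4 n19292 = n19292 := d21_2 D18911 D19292 (iv D19292) (iv D18911) F71997
theorem F75711 : act 6 n19292 = n18991 := d23_2 (iv F74081) D19292 (iv D18991)
theorem F75712 : act 7 n19292 = n19201 := d24_2 (iv F74082) D19292 (iv D19201) F73653 (iv F72039)
theorem F75713 : act 8 n19292 = n18969 := d25_2 (iv F74083) D19292 (iv D18969)
def n19293 : Q := act 5 n18911
theorem D19293 : act 5 n18911 = n19293 := rfl
theorem F75714 : act 0 n19293 = n19235 := d4_1 D19293 F75488 (iv F74078)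
theorem F75715 : act 1 n19293 = n18913 := d11_1 D19293 (iv D18913) (iv F74079)
theorem F75716 : act 2 n19293 = n19100 := d17_1 D19293 F74969 (iv F74080)
theorem F75717 : act 4 n19293 = n19224 := d26_1 D19293 (iv D19224) (iv D18817) (iv F71998) D18911
theorem F75718 : act 7 n19293 = n18920 := d31_2 (iv F74082) D19293 (iv D18920)
theorem F75719 : act 8 n19293 = n18970 := d32_2 (iv F74083) D19293 (iv D18970)
def n19294 : Q := act 5 n18912
theorem D19294 : act 5 n18912 = n19294 := rfl
theorem F75720 : act 0 n19294 = n18961 := d4_1 D19294 (iv D18961) (iv F74084)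
theorem F75721 : act 2 n19294 = n18940 := d17_1 D19294 (iv D18940) (iv F74085)
theorem F75722 : act 3 n19294 = n18913 := d22_1 D19294 (iv D18913) D18912
theorem F75723 : act 7 n19294 = n19203 := d31_2 (iv F74088) D19294 (iv D19203)
theorem F75724 : act 8 n19294 = n18971 := d32_2 (iv F74089) D19294 (iv D18971)
def n19295 : Q := act 6 n18913
theorem D19295 : act 6 n18913 = n19295 := rfl
theorem F75725 : act 0 n19295 = n18962 := d5_1 D19295 (iv D18962) (iv F74090)
theorem F75726 : act 2 n19295 = n18914 := d18_1 D19295 (iv D18914) (iv F74091)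
theorem F75727 : act 4 n19295 = n19227 := d27_1 D19295 (iv D19227) (iv F74092)
theorem F75728 : act 5 n19295 = n18995 := d30_1 D19295 (iv D18995) (iv D18507) (iv F72004) D18913
theorem F75729 : act 7 n19295 = n18921 := d33_2 (iv F74093) D19295 (iv D18921)
theorem F75730 : act 8 n19295 = n18972 := d34_2 (iv F74094) D19295 (iv D18972)
def n19296 : Q := act 5 n18915
theorem D19296 : act 5 n18915 = n19296 := rfl
theorem F75731 : act 0 n19296 = n19184 := d4_1 D19296 (iv D19184) (iv F74102)
theorem F75732 : act 1 n19296 = n18917 := d11_1 D19296 (iv D18917) (iv F74103)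
theorem F75733 : act 2 n19296 = n19215 := d17_1 D19296 (iv D19215) (iv F74104)
theorem F75734 : act 4 n19296 = n18920 := d26_1 D19296 (iv D18920) (iv D18405) (iv F72016) D18915
theorem F75735 : act 7 n19296 = n19224 := d31_2 (iv F74106) D19296 (iv D19224)
theorem F75736 : act 8 n19296 = n19012 := d32_2 (iv F74107) D19296 (iv D19012)
def n19297 : Q := act 5 n18916
theorem D19297 : act 5 n18916 = n19297 := rfl
theorem F75737 : act 0 n19297 = n18964 := d4_1 D19297 (iv D18964) (iv F74108)
theorem F75738 : act 2 n19297 = n19089 := d17_1 D19297 (iv D19089) (iv F74109)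
theorem F75739 : act 3 n19297 = n18917 := d22_1 D19297 (iv D18917) D18916
theorem F75740 : act 4 n19297 = n19208 := d26_1 D19297 (iv D19208) F73677 (iv F72052) (iv F74110)
theorem F75741 : act 8 n19297 = n19013 := d32_2 (iv F74112) D19297 (iv D19013)
def n19298 : Q := act 7 n18916
theorem D19298 : act 7 n18916 = n19298 := rfl
theorem F75742 : act 0 n19298 = n18965 := d6_1 D19298 (iv D18965) (iv F74108)
theorem F75743 : act 1 n19298 = n19248 := d13_1 D19298 F75542 F75188
theorem F75744 : act 2 n19298 = n19086 := d19_1 D19298 F74909 (iv F74109)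
theorem F75745 : act 3 n19298 = n19226 := d24_1 D19298 (iv D19226) (iv D18818) (iv F72023) D18916
theorem F75746 : act 4 n19298 = n18922 := d28_1 D19298 (iv D18922) (iv F74110)
theorem F75747 : act 6 n19298 = n19277 := d33_1 D19298 (iv D19277) (iv F74111)
theorem F75748 : act 8 n19298 = n19200 := d35_2 (iv F74112) D19298 F75383 F73692 F73006
def n19299 : Q := act 6 n18917
theorem D19299 : act 6 n18917 = n19299 := rfl
theorem F75749 : act 0 n19299 = n18966 := d5_1 D19299 (iv D18966) (iv F74113)
theorem F75750 : act 2 n19299 = n18918 := d18_1 D19299 (iv D18918) (iv F74114)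
theorem F75751 : act 4 n19299 = n18921 := d27_1 D19299 (iv D18921) (iv F74115)
theorem F75752 : act 5 n19299 = n19278 := d30_1 D19299 (iv D19278) (iv D18890) (iv F72022) D18917
theorem F75753 : act 7 n19299 = n19227 := d33_2 (iv F74116) D19299 (iv D19227)
theorem F75754 : act 8 n19299 = n19014 := d34_2 (iv F74117) D19299 (iv D19014)
def n19300 : Q := act 5 n18919
theorem D19300 : act 5 n18919 = n19300 := rfl
theorem F75755 : act 0 n19300 = n18920 := d4_1 D19300 (iv D18920) (iv F74124)
theorem F75756 : act 1 n19300 = n18967 := d11_1 D19300 (iv D18967) (iv F74125)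
theorem F75757 : act 2 n19300 = n19213 := d17_1 D19300 F75428 (iv F74126)
theorem F75758 : act 3 n19300 = n19210 := d22_1 D19300 (iv D19210) (iv F74127)
theorem F75759 : act 4 n19300 = n19184 := d26_1 D19300 (iv D19184) (iv D18765) (iv F72034) D18919
theorem F75760 : act 7 n19300 = n19235 := d31_2 (iv F74129) D19300 F75488
theorem F75761 : act 8 n19300 = n19015 := d32_2 (iv F74130) D19300 (iv D19015)
def n19301 : Q := act 6 n18920
theorem D19301 : act 6 n18920 = n19301 := rfl
theorem F75762 : act 1 n19301 = n18921 := d12_1 D19301 (iv D18921) (iv F74131)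
theorem F75763 : act 3 n19301 = n19211 := d23_1 D19301 (iv D19211) (iv F74132)
theorem F75764 : act 5 n19301 = n19058 := d30_1 D19301 (iv D19058) (iv D18582) (iv F72040) D18920
theorem F75765 : act 8 n19301 = n19016 := d34_2 (iv F74133) D19301 (iv D19016)
def n19302 : Q := act 5 n18924
theorem D19302 : act 5 n18924 = n19302 := rfl
theorem F75766 : act 0 n19302 = n18971 := d4_1 D19302 (iv D18971) (iv F74153)
theorem F75767 : act 1 n19302 = n19172 := d11_1 D19302 (iv D19172) (iv F74154)
theorem F75768 : act 2 n19302 = n18993 := d17_1 D19302 (iv D18993) (iv F74155)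
theorem F75769 : act 3 n19302 = n18925 := d22_1 D19302 (iv D18925) D18924
theorem F75770 : act 7 n19302 = n19165 := d31_2 (iv F74158) D19302 (iv D19165)
theorem F75771 : act 8 n19302 = n18961 := d32_2 (iv F74159) D19302 (iv D18961)
def n19303 : Q := act 6 n18925
theorem D19303 : act 6 n18925 = n19303 := rfl
theorem F75772 : act 0 n19303 = n18972 := d5_1 D19303 (iv D18972) (iv F74160)
theorem F75773 : act 1 n19303 = n19173 := d12_1 D19303 (iv D19173) (iv F74161)
theorem F75774 : act 2 n19303 = n18926 := d18_1 D19303 (iv D18926) (iv F74162)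
theorem F75775 : act 4 n19303 = n19098 := d27_1 D19303 (iv D19098) (iv F74163)
theorem F75776 : act 5 n19303 = n18941 := d30_1 D19303 (iv D18941) (iv D18429) (iv F72077) D18925
theorem F75777 : act 7 n19303 = n18927 := d33_2 (iv F74164) D19303 (iv D18927)
theorem F75778 : act 8 n19303 = n18962 := d34_2 (iv F74165) D19303 (iv D18962)
def n19304 : Q := act 7 n18930
theorem D19304 : act 7 n18930 = n19304 := rfl
theorem F75779 : act 0 n19304 = n19113 := d6_1 D19304 F75036 (iv F74195)
theorem F75780 : act 1 n19304 = n19212 := d13_1 D19304 (iv D19212) (iv F74196)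
theorem F75781 : act 2 n19304 = n18981 := d19_1 D19304 F74466 (iv F74197)
theorem F75782 : act 4 n19304 = n19105 := d28_1 D19304 F74992 (iv F74199)
theorem F75783 : act 5 n19304 = n18989 := d31_1 D19304 F74501 (iv F74200)
theorem F75784 : act 6 n19304 = n18931 := d33_1 D19304 (iv D18931) D18930
def n19305 : Q := act 5 n18932
theorem D19305 : act 5 n18932 = n19305 := rfl
theorem F75785 : act 0 n19305 = n18988 := d4_1 D19305 (iv D18988) (iv F74207)
theorem F75786 : act 1 n19305 = n19023 := d11_1 D19305 (iv D19023) (iv F74208)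
theorem F75787 : act 3 n19305 = n18933 := d22_1 D19305 (iv D18933) D18932
theorem F75788 : act 7 n19305 = n19121 := d31_2 (iv F74211) D19305 (iv D19121)
def n19306 : Q := act 6 n18933
theorem D19306 : act 6 n18933 = n19306 := rfl
theorem F75789 : act 0 n19306 = n18989 := d5_1 D19306 (iv D18989) (iv F74212)
theorem F75790 : act 1 n19306 = n19024 := d12_1 D19306 (iv D19024) (iv F74213)
theorem F75791 : act 2 n19306 = n18934 := d18_1 D19306 (iv D18934) (iv F74214)
theorem F75792 : act 4 n19306 = n18941 := d27_1 D19306 (iv D18941) (iv F74215)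
theorem F75793 : act 5 n19306 = n19113 := d30_1 D19306 (iv D19113) (iv D18662) (iv F72142) D18933
theorem F75794 : act 7 n19306 = n18942 := d33_2 (iv F74216) D19306 (iv D18942)
def n19307 : Q := act 5 n18935
theorem D19307 : act 5 n18935 = n19307 := rfl
theorem F75795 : act 0 n19307 = n18993 := d4_1 D19307 (iv D18993) (iv F74222)
theorem F75796 : act 2 n19307 = n18971 := d17_1 D19307 (iv D18971) (iv F74223)
theorem F75797 : act 3 n19307 = n18936 := d22_1 D19307 (iv D18936) D18935
theorem F75798 : act 7 n19307 = n19139 := d31_2 (iv F74226) D19307 (iv D19139)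
theorem F75799 : act 8 n19307 = n18940 := d32_2 (iv F74227) D19307 (iv D18940)
def n19308 : Q := act 6 n18936
theorem D19308 : act 6 n18936 = n19308 := rfl
theorem F75800 : act 0 n19308 = n18995 := d5_1 D19308 (iv D18995) (iv F74228)
theorem F75801 : act 2 n19308 = n18937 := d18_1 D19308 (iv D18937) (iv F74229)
theorem F75802 : act 5 n19308 = n18962 := d30_1 D19308 (iv D18962) (iv D18471) (iv F72150) D18936
theorem F75803 : act 7 n19308 = n18950 := d33_2 (iv F74230) D19308 (iv D18950)
theorem F75804 : act 8 n19308 = n18941 := d34_2 (iv F74231) D19308 (iv D18941)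
def n19309 : Q := act 5 n18938
theorem D19309 : act 5 n18938 = n19309 := rfl
theorem F75805 : act 0 n19309 = n19034 := d4_1 D19309 (iv D19034) (iv F74238)
theorem F75806 : act 1 n19309 = n18940 := d11_1 D19309 (iv D18940) (iv F74239)
theorem F75807 : act 3 n19309 = n18939 := d22_1 D19309 (iv D18939) D18938
theorem F75808 : act 7 n19309 = n19219 := d31_2 (iv F74242) D19309 (iv D19219)
def n19310 : Q := act 6 n18939
theorem D19310 : act 6 n18939 = n19310 := rfl
theorem F75809 : act 0 n19310 = n19036 := d5_1 D19310 (iv D19036) (iv F74243)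
theorem F75810 : act 1 n19310 = n18941 := d12_1 D19310 (iv D18941) (iv F74244)
theorem F75811 : act 2 n19310 = n19019 := d18_1 D19310 (iv D19019) (iv F74245)
theorem F75812 : act 4 n19310 = n19024 := d27_1 D19310 (iv D19024) (iv F74246)
theorem F75813 : act 5 n19310 = n19173 := d30_1 D19310 (iv D19173) (iv D18744) (iv F72161) D18939
theorem F75814 : act 7 n19310 = n18943 := d33_2 (iv F74247) D19310 (iv D18943)
def n19311 : Q := act 4 n18940
theorem D19311 : act 4 n18940 = n19311 := rfl
theorem F75815 : act 0 n19311 = n19000 := d3_1 D19311 (iv D19000) (iv F74248)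
theorem F75816 : act 5 n19311 = n19311 := d26_2 D18940 D19311 (iv D19311) (iv D18940) F72164
theorem F75817 : act 7 n19311 = n19221 := d28_2 (iv F74250) D19311 (iv D19221)
def n19312 : Q := act 6 n18940
theorem D19312 : act 6 n18940 = n19312 := rfl
theorem F75818 : act 0 n19312 = n19001 := d5_1 D19312 (iv D19001) (iv F74248)
theorem F75819 : act 3 n19312 = n18941 := d23_1 D19312 (iv D18941) (iv F74249)
theorem F75820 : act 7 n19312 = n19222 := d33_2 (iv F74250) D19312 (iv D19222)
def n19313 : Q := act 6 n18951
theorem D19313 : act 6 n18951 = n19313 := rfl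
theorem F75821 : act 0 n19313 = n18952 := d5_1 D19313 (iv D18952) (iv F74312)
theorem F75822 : act 1 n19313 = n19063 := d12_1 D19313 (iv D19063) (iv F74313)
theorem F75823 : act 2 n19313 = n18974 := d18_1 D19313 (iv D18974) (iv F74314)
theorem F75824 : act 4 n19313 = n18977 := d27_1 D19313 (iv D18977) (iv F74315)
theorem F75825 : act 5 n19313 = n19183 := d30_1 D19313 (iv D19183) (iv D18763) (iv F72301) D18951
theorem F75826 : act 7 n19313 = n18953 := d33_2 (iv F74316) D19313 (iv D18953)
def n19314 : Q := act 5 n18956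
theorem D19314 : act 5 n18956 = n19314 := rfl
theorem F75827 : act 0 n19314 = n19225 := d4_1 D19314 (iv D19225) (iv F74345)
theorem F75828 : act 1 n19314 = n19174 := d11_1 D19314 (iv D19174) (iv F74346)
theorem F75829 : act 3 n19314 = n18957 := d22_1 D19314 (iv D18957) D18956
theorem F75830 : act 8 n19314 = n19097 := d32_2 (iv F74349) D19314 (iv D19097)
def n19315 : Q := act 7 n18956
theorem D19315 : act 7 n18956 = n19315 := rfl
theorem F75831 : act 0 n19315 = n19226 := d6_1 D19315 (iv D19226) (iv F74345)
theorem F75832 : act 1 n19315 = n19075 := d13_1 D19315 F74870 (iv F74346)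
theorem F75833 : act 3 n19315 = n18965 := d24_1 D19315 (iv D18965) (iv D18474) (iv F72373) D18956
theorem F75834 : act 4 n19315 = n19315 := d28_1 D19315 (iv D19315) F74347
theorem F75835 : act 6 n19315 = n19115 := d33_1 D19315 (iv D19115) (iv F74348)
theorem F75836 : act 8 n19315 = n19201 := d35_2 (iv F74349) D19315 (iv F75712) F75713 F74411
def n19316 : Q := act 6 n18957
theorem D19316 : act 6 n18957 = n19316 := rfl
theorem F75837 : act 0 n19316 = n19227 := d5_1 D19316 (iv D19227) (iv F74350)
theorem F75838 : act 1 n19316 = n19175 := d12_1 D19316 (iv D19175) (iv F74351)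
theorem F75839 : act 2 n19316 = n18958 := d18_1 D19316 (iv D18958) (iv F74352)
theorem F75840 : act 4 n19316 = n18962 := d27_1 D19316 (iv D18962) (iv F74353)
theorem F75841 : act 5 n19316 = n19116 := d30_1 D19316 (iv D19116) (iv D18665) (iv F72372) D18957
theorem F75842 : act 7 n19316 = n18966 := d33_2 (iv F74354) D19316 (iv D18966)
theorem F75843 : act 8 n19316 = n19098 := d34_2 (iv F74355) D19316 (iv D19098)
def n19317 : Q := act 5 n18959
theorem D19317 : act 5 n18959 = n19317 := rfl
theorem F75844 : act 1 n19317 = n18961 := d11_1 D19317 (iv D18961) (iv F74362)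
theorem F75845 : act 3 n19317 = n18960 := d22_1 D19317 (iv D18960) D18959
theorem F75846 : act 7 n19317 = n19255 := d31_2 (iv F74364) D19317 (iv D19255)
theorem F75847 : act 8 n19317 = n19172 := d32_2 (iv F74365) D19317 (iv D19172)
def n19318 : Q := act 6 n18960
theorem D19318 : act 6 n18960 = n19318 := rfl
theorem F75848 : act 1 n19318 = n18962 := d12_1 D19318 (iv D18962) (iv F74366)
theorem F75849 : act 2 n19318 = n19171 := d18_1 D19318 (iv D19171) (iv F74367)
theorem F75850 : act 4 n19318 = n19175 := d27_1 D19318 (iv D19175) (iv F74368)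
theorem F75851 : act 7 n19318 = n18968 := d33_2 (iv F74369) D19318 (iv D18968)
theorem F75852 : act 8 n19318 = n19173 := d34_2 (iv F74370) D19318 (iv D19173)
def n19319 : Q := act 4 n18961
theorem D19319 : act 4 n18961 = n19319 := rfl
theorem F75853 : act 2 n19319 = n19000 := d16_1 D19319 (iv D19000) (iv F74371)
theorem F75854 : act 5 n19319 = n19319 := d26_2 D18961 D19319 (iv D19319) (iv D18961) F72385
theorem F75855 : act 7 n19319 = n19257 := d28_2 (iv F74373) D19319 (iv D19257)
def n19320 : Q := act 6 n18961
theorem D19320 : act 6 n18961 = n19320 := rfl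
theorem F75856 : act 2 n19320 = n19001 := d18_1 D19320 (iv D19001) (iv F74371)
theorem F75857 : act 3 n19320 = n18962 := d23_1 D19320 (iv D18962) (iv F74372)
theorem F75858 : act 7 n19320 = n19258 := d33_2 (iv F74373) D19320 (iv D19258)
def n19321 : Q := act 6 n18964
theorem D19321 : act 6 n18964 = n19321 := rfl
theorem F75859 : act 1 n19321 = n19188 := d12_1 D19321 (iv D19188) (iv F74382)
theorem F75860 : act 2 n19321 = n19157 := d18_1 D19321 (iv D19157) (iv F74383)
theorem F75861 : act 3 n19321 = n18966 := d23_1 D19321 (iv D18966) (iv F74384)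
theorem F75862 : act 4 n19321 = n19262 := d27_1 D19321 (iv D19262) (iv F74385)
theorem F75863 : act 5 n19321 = n19279 := d30_1 D19321 (iv D19279) (iv D18891) (iv F72399) D18964
theorem F75864 : act 8 n19321 = n19189 := d34_2 (iv F74386) D19321 (iv D19189)
def n19322 : Q := act 7 n18964
theorem D19322 : act 7 n18964 = n19322 := rfl
theorem F75865 : act 1 n19322 = n19076 := d13_1 D19322 F74875 (iv F74382)
theorem F75866 : act 2 n19322 = n19088 := d19_1 D19322 F74917 (iv F74383)
theorem F75867 : act 4 n19322 = n19080 := d28_1 D19322 F74893 (iv F74385)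
theorem F75868 : act 5 n19322 = n18965 := d31_1 D19322 (iv D18965) D18964
theorem F75869 : act 8 n19322 = n19202 := d35_2 (iv F74386) D19322 F75388 F73694 (iv F73609)
def n19323 : Q := act 6 n18967
theorem D19323 : act 6 n18967 = n19323 := rfl
theorem F75870 : act 0 n19323 = n18968 := d5_1 D19323 (iv D18968) (iv F74397)
theorem F75871 : act 2 n19323 = n19182 := d18_1 D19323 (iv D19182) (iv F74398)
theorem F75872 : act 3 n19323 = n19263 := d23_1 D19323 (iv D19263) (iv F74399)
theorem F75873 : act 4 n19323 = n19185 := d27_1 D19323 (iv D19185) (iv F74400)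
theorem F75874 : act 8 n19323 = n19183 := d34_2 (iv F74401) D19323 (iv D19183)
def n19324 : Q := act 5 n18969
theorem D19324 : act 5 n18969 = n19324 := rfl
theorem F75875 : act 0 n19324 = n19232 := d4_1 D19324 F75479 (iv F74407)
theorem F75876 : act 1 n19324 = n18971 := d11_1 D19324 (iv D18971) (iv F74408)
theorem F75877 : act 3 n19324 = n18970 := d22_1 D19324 (iv D18970) D18969
theorem F75878 : act 7 n19324 = n19097 := d31_2 (iv F74411) D19324 (iv D19097)
def n19325 : Q := act 6 n18970
theorem D19325 : act 6 n18970 = n19325 := rfl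
theorem F75879 : act 0 n19325 = n19234 := d5_1 D19325 F75485 (iv F74412)
theorem F75880 : act 1 n19325 = n18972 := d12_1 D19325 (iv D18972) (iv F74413)
theorem F75881 : act 2 n19325 = n19099 := d18_1 D19325 F74964 (iv F74414)
theorem F75882 : act 4 n19325 = n19229 := d27_1 D19325 (iv D19229) (iv F74415)
theorem F75883 : act 5 n19325 = n18999 := d30_1 D19325 (iv D18999) (iv D18511) (iv F72429) D18970
theorem F75884 : act 7 n19325 = n18973 := d33_2 (iv F74416) D19325 (iv D18973)
def n19326 : Q := act 4 n18971
theorem D19326 : act 4 n18971 = n19326 := rfl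
theorem F75885 : act 3 n19326 = n19230 := d21_1 D19326 (iv D19230) F73750 (iv F72435) (iv F74417)
theorem F75886 : act 5 n19326 = n19326 := d26_2 D18971 D19326 (iv D19326) (iv D18971) F72431
theorem F75887 : act 7 n19326 = n19176 := d28_2 (iv F74418) D19326 (iv D19176)
def n19327 : Q := act 6 n18971
theorem D19327 : act 6 n18971 = n19327 := rfl
theorem F75888 : act 3 n19327 = n18972 := d23_1 D19327 (iv D18972) (iv F74417)
theorem F75889 : act 5 n19327 = n19001 := d30_1 D19327 (iv D19001) (iv D18512) (iv F72432) D18971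
theorem F75890 : act 7 n19327 = n19177 := d33_2 (iv F74418) D19327 (iv D19177)
def n19328 : Q := act 6 n18975
theorem D19328 : act 6 n18975 = n19328 := rfl
theorem F75891 : act 0 n19328 = n19179 := d5_1 D19328 (iv D19179) (iv F74435)
theorem F75892 : act 1 n19328 = n19119 := d12_1 D19328 F75051 (iv F74436)
theorem F75893 : act 2 n19328 = n18976 := d18_1 D19328 (iv D18976) (iv F74437)
theorem F75894 : act 3 n19328 = n19178 := d23_1 D19328 (iv D19178) (iv F74438)
theorem F75895 : act 5 n19328 = n19240 := d30_1 D19328 (iv D19240) (iv D18835) (iv F72460) D18975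
theorem F75896 : act 7 n19328 = n19040 := d33_2 (iv F74439) D19328 (iv D19040)
theorem F75897 : act 8 n19328 = n18977 := d34_2 (iv F74440) D19328 (iv D18977)
def n19329 : Q := act 5 n18978
theorem D19329 : act 5 n18978 = n19329 := rfl
theorem F75898 : act 2 n19329 = n18988 := d17_1 D19329 (iv D18988) (iv F74453)
theorem F75899 : act 3 n19329 = n18979 := d22_1 D19329 (iv D18979) D18978
theorem F75900 : act 7 n19329 = n19039 := d31_2 (iv F74455) D19329 (iv D19039)
theorem F75901 : act 8 n19329 = n19291 := d32_2 (iv F74456) D19329 F75707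
def n19330 : Q := act 6 n18979
theorem D19330 : act 6 n18979 = n19330 := rfl
theorem F75902 : act 2 n19330 = n18980 := d18_1 D19330 (iv D18980) (iv F74457)
theorem F75903 : act 7 n19330 = n19178 := d33_2 (iv F74458) D19330 (iv D19178)
theorem F75904 : act 8 n19330 = n19304 := d34_2 (iv F74459) D19330 F75784
def n19331 : Q := act 3 n18982
theorem D19331 : act 3 n18982 = n19331 := rfl
theorem F75905 : act 0 n19331 = n19037 := d2_1 D19331 (iv D19037) (iv F74468)
theorem F75906 : act 1 n19331 = n18983 := d9_1 D19331 (iv D18983) (iv F74469)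
theorem F75907 : act 4 n19331 = n19331 := d21_2 D18982 D19331 (iv D19331) (iv D18982) F72501
theorem F75908 : act 6 n19331 = n19199 := d23_2 (iv F74471) D19331 F75378
theorem F75909 : act 7 n19331 = n19285 := d24_2 (iv F74472) D19331 (iv D19285) F74048 F73094
theorem F75910 : act 8 n19331 = n18986 := d25_2 (iv F74473) D19331 (iv D18986)
def n19332 : Q := act 5 n18982
theorem D19332 : act 5 n18982 = n19332 := rfl
theorem F75911 : act 0 n19332 = n19038 := d4_1 D19332 (iv D19038) (iv F74468)
theorem F75912 : act 1 n19332 = n18984 := d11_1 D19332 (iv D18984) (iv F74469)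
theorem F75913 : act 2 n19332 = n19054 := d17_1 D19332 (iv D19054) (iv F74470)
theorem F75914 : act 4 n19332 = n18992 := d26_1 D19332 (iv D18992) (iv D18505) (iv F72502) D18982
theorem F75915 : act 7 n19332 = n19050 := d31_2 (iv F74472) D19332 (iv D19050)
theorem F75916 : act 8 n19332 = n18987 := d32_2 (iv F74473) D19332 (iv D18987)
def n19333 : Q := act 5 n18983
theorem D19333 : act 5 n18983 = n19333 := rfl
theorem F75917 : act 2 n19333 = n19291 := d17_1 D19333 F75707 (iv F74474)
theorem F75918 : act 3 n19333 = n18984 := d22_1 D19333 (iv D18984) D18983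
theorem F75919 : act 7 n19333 = n19287 := d31_2 (iv F74477) D19333 (iv D19287)
theorem F75920 : act 8 n19333 = n18988 := d32_2 (iv F74478) D19333 (iv D18988)
def n19334 : Q := act 6 n18984
theorem D19334 : act 6 n18984 = n19334 := rfl
theorem F75921 : act 2 n19334 = n18985 := d18_1 D19334 (iv D18985) (iv F74479)
theorem F75922 : act 4 n19334 = n18995 := d27_1 D19334 (iv D18995) (iv F74480)
theorem F75923 : act 5 n19334 = n19330 := d30_1 D19334 (iv D19330) (iv D18979) (iv F72507) D18984
theorem F75924 : act 7 n19334 = n19051 := d33_2 (iv F74481) D19334 (iv D19051)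
theorem F75925 : act 8 n19334 = n18989 := d34_2 (iv F74482) D19334 (iv D18989)
def n19335 : Q := act 2 n18986
theorem D19335 : act 2 n18986 = n19335 := rfl
theorem F75926 : act 0 n19335 = n19041 := d1_1 D19335 (iv D19041) (iv F74488)
theorem F75927 : act 3 n19335 = n19061 := d15_2 D18986 D19335 (iv D19061) (iv D18586) (iv F72516)
theorem F75928 : act 4 n19335 = n19335 := d16_2 F74490 D19335 (iv D19335)
theorem F75929 : act 6 n19335 = n19194 := d18_2 (iv F74491) D19335 F75366
theorem F75930 : act 7 n19335 = n19070 := d19_2 (iv F74492) D19335 F74844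
def n19336 : Q := act 5 n18986
theorem D19336 : act 5 n18986 = n19336 := rfl
theorem F75931 : act 0 n19336 = n19042 := d4_1 D19336 (iv D19042) (iv F74488)
theorem F75932 : act 1 n19336 = n18988 := d11_1 D19336 (iv D18988) (iv F74489)
theorem F75933 : act 3 n19336 = n18987 := d22_1 D19336 (iv D18987) D18986
theorem F75934 : act 7 n19336 = n19073 := d31_2 (iv F74492) D19336 (iv D19073)
def n19337 : Q := act 6 n18987
theorem D19337 : act 6 n18987 = n19337 := rfl
theorem F75935 : act 0 n19337 = n19043 := d5_1 D19337 (iv D19043) (iv F74493)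
theorem F75936 : act 1 n19337 = n18989 := d12_1 D19337 (iv D18989) (iv F74494)
theorem F75937 : act 2 n19337 = n19063 := d18_1 D19337 (iv D19063) (iv F74495)
theorem F75938 : act 4 n19337 = n18999 := d27_1 D19337 (iv D18999) (iv F74496)
theorem F75939 : act 5 n19337 = n19212 := d30_1 D19337 F75426 F73705 (iv F72517) D18987
theorem F75940 : act 7 n19337 = n19002 := d33_2 (iv F74497) D19337 (iv D19002)
def n19338 : Q := act 4 n18988
theorem D19338 : act 4 n18988 = n19338 := rfl
theorem F75941 : act 3 n19338 = n19000 := d21_1 D19338 (iv D19000) F72554 (iv F72521) (iv F74498)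
theorem F75942 : act 5 n19338 = n19338 := d26_2 D18988 D19338 (iv D19338) (iv D18988) F72519
def n19339 : Q := act 6 n18988
theorem D19339 : act 6 n18988 = n19339 := rfl
theorem F75943 : act 3 n19339 = n18989 := d23_1 D19339 (iv D18989) (iv F74498)
def n19340 : Q := act 3 n18990
theorem D19340 : act 3 n18990 = n19340 := rfl
theorem F75944 : act 0 n19340 = n18991 := d2_1 D19340 (iv D18991) (iv F74502)
theorem F75945 : act 1 n19340 = n19031 := d9_1 D19340 (iv D19031) (iv F74503)
theorem F75946 : act 2 n19340 = n19292 := d15_1 D19340 (iv D19292) F74080 F73094 (iv F74504)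
theorem F75947 : act 4 n19340 = n19340 := d21_2 D18990 D19340 (iv D19340) (iv D18990) F72527
theorem F75948 : act 6 n19340 = n19233 := d23_2 (iv F74505) D19340 F75482
theorem F75949 : act 8 n19340 = n18996 := d25_2 (iv F74507) D19340 (iv D18996)
def n19341 : Q := act 5 n18990
theorem D19341 : act 5 n18990 = n19341 := rfl
theorem F75950 : act 0 n19341 = n18992 := d4_1 D19341 (iv D18992) (iv F74502)
theorem F75951 : act 1 n19341 = n19032 := d11_1 D19341 (iv D19032) (iv F74503)
theorem F75952 : act 2 n19341 = n19050 := d17_1 D19341 (iv D19050) (iv F74504)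
theorem F75953 : act 4 n19341 = n19038 := d26_1 D19341 (iv D19038) (iv D18559) (iv F72528) D18990
theorem F75954 : act 7 n19341 = n19054 := d31_2 (iv F74506) D19341 (iv D19054)
theorem F75955 : act 8 n19341 = n18997 := d32_2 (iv F74507) D19341 (iv D18997)
def n19342 : Q := act 5 n18991
theorem D19342 : act 5 n18991 = n19342 := rfl
theorem F75956 : act 1 n19342 = n18993 := d11_1 D19342 (iv D18993) (iv F74508)
theorem F75957 : act 3 n19342 = n18992 := d22_1 D19342 (iv D18992) D18991
theorem F75958 : act 8 n19342 = n18998 := d32_2 (iv F74510) D19342 (iv D18998)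
def n19343 : Q := act 7 n18991
theorem D19343 : act 7 n18991 = n19343 := rfl
theorem F75959 : act 1 n19343 = n18994 := d13_1 D19343 (iv D18994) (iv F74508)
theorem F75960 : act 3 n19343 = n19057 := d24_1 D19343 (iv D19057) (iv D18581) (iv F72534) D18991
theorem F75961 : act 4 n19343 = n19343 := d28_1 D19343 (iv D19343) F74509
theorem F75962 : act 6 n19343 = n19201 := d33_1 D19343 (iv F75712) F75711
theorem F75963 : act 8 n19343 = n19115 := d35_2 (iv F74510) D19343 (iv D19115) F73166 (iv F72550)
def n19344 : Q := act 6 n18992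
theorem D19344 : act 6 n18992 = n19344 := rfl
theorem F75964 : act 1 n19344 = n18995 := d12_1 D19344 (iv D18995) (iv F74511)
theorem F75965 : act 2 n19344 = n19119 := d18_1 D19344 F75051 (iv F74512)
theorem F75966 : act 7 n19344 = n19058 := d33_2 (iv F74513) D19344 (iv D19058)
theorem F75967 : act 8 n19344 = n18999 := d34_2 (iv F74514) D19344 (iv D18999)
def n19345 : Q := act 4 n18993
theorem D19345 : act 4 n18993 = n19345 := rfl
theorem F75968 : act 5 n19345 = n19345 := d26_2 D18993 D19345 (iv D19345) (iv D18993) F72536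
theorem F75969 : act 8 n19345 = n19000 := d29_2 (iv F74516) D19345 (iv D19000)
def n19346 : Q := act 6 n18993
theorem D19346 : act 6 n18993 = n19346 := rfl
theorem F75970 : act 3 n19346 = n18995 := d23_1 D19346 (iv D18995) (iv F74515)
theorem F75971 : act 8 n19346 = n19001 := d34_2 (iv F74516) D19346 (iv D19001)
def n19347 : Q := act 7 n18993
theorem D19347 : act 7 n18993 = n19347 := rfl
theorem F75972 : act 0 n19347 = n19139 := d6_1 D19347 (iv F75798) F75795
theorem F75973 : act 2 n19347 = n19165 := d19_1 D19347 (iv F75770) F75768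
theorem F75974 : act 3 n19347 = n19060 := d24_1 D19347 (iv D19060) F72839 (iv F72539) (iv F74515)
theorem F75975 : act 5 n19347 = n18994 := d31_1 D19347 (iv D18994) D18993
theorem F75976 : act 8 n19347 = n19272 := d35_2 (iv F74516) D19347 (iv D19272) F73939 (iv F72555)
def n19348 : Q := act 5 n18996
theorem D19348 : act 5 n18996 = n19348 := rfl
theorem F75977 : act 0 n19348 = n18998 := d4_1 D19348 (iv D18998) (iv F74526)
theorem F75978 : act 1 n19348 = n19034 := d11_1 D19348 (iv D19034) (iv F74527)
theorem F75979 : act 2 n19348 = n19324 := d17_1 D19348 (iv D19324) (iv F74528)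
theorem F75980 : act 3 n19348 = n18997 := d22_1 D19348 (iv D18997) D18996
theorem F75981 : act 7 n19348 = n19104 := d31_2 (iv F74531) D19348 (iv D19104)
def n19349 : Q := act 6 n18997
theorem D19349 : act 6 n18997 = n19349 := rfl
theorem F75982 : act 0 n19349 = n18999 := d5_1 D19349 (iv D18999) (iv F74532)
theorem F75983 : act 1 n19349 = n19036 := d12_1 D19349 (iv D19036) (iv F74533)
theorem F75984 : act 2 n19349 = n19052 := d18_1 D19349 (iv D19052) (iv F74534)
theorem F75985 : act 4 n19349 = n19043 := d27_1 D19349 (iv D19043) (iv F74535)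
theorem F75986 : act 5 n19349 = n19234 := d30_1 D19349 F75485 F73761 (iv F72546) D18997
theorem F75987 : act 7 n19349 = n19003 := d33_2 (iv F74536) D19349 (iv D19003)
def n19350 : Q := act 4 n18998
theorem D19350 : act 4 n18998 = n19350 := rfl
theorem F75988 : act 1 n19350 = n19000 := d10_1 D19350 (iv D19000) (iv F74537)
theorem F75989 : act 5 n19350 = n19350 := d26_2 D18998 D19350 (iv D19350) (iv D18998) F72549
theorem F75990 : act 7 n19350 = n19117 := d28_2 (iv F74539) D19350 (iv D19117)
def n19351 : Q := act 6 n18998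
theorem D19351 : act 6 n18998 = n19351 := rfl
theorem F75991 : act 1 n19351 = n19001 := d12_1 D19351 (iv D19001) (iv F74537)
theorem F75992 : act 3 n19351 = n18999 := d23_1 D19351 (iv D18999) (iv F74538)
theorem F75993 : act 7 n19351 = n19118 := d33_2 (iv F74539) D19351 (iv D19118)
def n19352 : Q := act 6 n19000
theorem D19352 : act 6 n19000 = n19352 := rfl
theorem F75994 : act 4 n19352 = n19001 := d27_1 D19352 (iv D19001) D19000
theorem F75995 : act 7 n19352 = n19273 := d33_2 (iv F74544) D19352 (iv D19273)
def n19353 : Q := act 4 n19004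
theorem D19353 : act 4 n19004 = n19353 := rfl
theorem F75996 : act 1 n19353 = n19083 := d10_1 D19353 (iv D19083) (iv F74561)
theorem F75997 : act 3 n19353 = n19196 := d21_1 D19353 (iv D19196) F73641 (iv F72590) (iv F74562)
theorem F75998 : act 5 n19353 = n19353 := d26_2 D19004 D19353 (iv D19353) (iv D19004) F72584
theorem F75999 : act 7 n19353 = n19044 := d28_2 (iv F74563) D19353 (iv D19044)
theorem F76000 : act 8 n19353 = n19289 := d29_2 (iv F74564) D19353 (iv D19289)
def n19354 : Q := act 6 n19004
theorem D19354 : act 6 n19004 = n19354 := rfl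
theorem F76001 : act 1 n19354 = n19084 := d12_1 D19354 (iv D19084) (iv F74561)
theorem F76002 : act 3 n19354 = n19005 := d23_1 D19354 (iv D19005) (iv F74562)
theorem F76003 : act 5 n19354 = n19126 := d30_1 D19354 (iv D19126) (iv D18686) (iv F72585) D19004
theorem F76004 : act 7 n19354 = n19045 := d33_2 (iv F74563) D19354 (iv D19045)
theorem F76005 : act 8 n19354 = n19290 := d34_2 (iv F74564) D19354 (iv D19290)
def n19355 : Q := act 5 n19006
theorem D19355 : act 5 n19006 = n19355 := rfl
theorem F76006 : act 0 n19355 = n19198 := d4_1 D19355 F75376 (iv F74571)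
theorem F76007 : act 1 n19355 = n19008 := d11_1 D19355 (iv D19008) (iv F74572)
theorem F76008 : act 3 n19355 = n19007 := d22_1 D19355 (iv D19007) D19006
theorem F76009 : act 7 n19355 = n19068 := d31_2 (iv F74575) D19355 (iv D19068)
def n19356 : Q := act 6 n19007
theorem D19356 : act 6 n19007 = n19356 := rfl
theorem F76010 : act 0 n19356 = n19212 := d5_1 D19356 F75426 (iv F74576)
theorem F76011 : act 1 n19356 = n19009 := d12_1 D19356 (iv D19009) (iv F74577)
theorem F76012 : act 2 n19356 = n19016 := d18_1 D19356 (iv D19016) (iv F74578)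
theorem F76013 : act 4 n19356 = n19220 := d27_1 D19356 (iv D19220) (iv F74579)
theorem F76014 : act 5 n19356 = n19043 := d30_1 D19356 (iv D19043) (iv D18564) (iv F72607) D19007
theorem F76015 : act 7 n19356 = n19010 := d33_2 (iv F74580) D19356 (iv D19010)
def n19357 : Q := act 4 n19008
theorem D19357 : act 4 n19008 = n19357 := rfl
theorem F76016 : act 0 n19357 = n19268 := d3_1 D19357 (iv D19268) (iv F74581)
theorem F76017 : act 2 n19357 = n19353 := d16_1 D19357 (iv D19353) (iv F74582)
theorem F76018 : act 3 n19357 = n19221 := d21_1 D19357 (iv D19221) F73727 (iv F72616) (iv F74583)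
theorem F76019 : act 5 n19357 = n19357 := d26_2 D19008 D19357 (iv D19357) (iv D19008) F72611
theorem F76020 : act 7 n19357 = n19125 := d28_2 (iv F74584) D19357 (iv D19125)
def n19358 : Q := act 6 n19008
theorem D19358 : act 6 n19008 = n19358 := rfl
theorem F76021 : act 0 n19358 = n19269 := d5_1 D19358 (iv D19269) (iv F74581)
theorem F76022 : act 2 n19358 = n19354 := d18_1 D19358 (iv D19354) (iv F74582)
theorem F76023 : act 3 n19358 = n19009 := d23_1 D19358 (iv D19009) (iv F74583)
theorem F76024 : act 5 n19358 = n19045 := d30_1 D19358 (iv D19045) (iv D18565) (iv F72612) D19008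
theorem F76025 : act 7 n19358 = n19126 := d33_2 (iv F74584) D19358 (iv D19126)
def n19359 : Q := act 6 n19012
theorem D19359 : act 6 n19012 = n19359 := rfl
theorem F76026 : act 0 n19359 = n19186 := d5_1 D19359 (iv D19186) (iv F74603)
theorem F76027 : act 1 n19359 = n19014 := d12_1 D19359 (iv D19014) (iv F74604)
theorem F76028 : act 2 n19359 = n19220 := d18_1 D19359 (iv D19220) (iv F74605)
theorem F76029 : act 4 n19359 = n19016 := d27_1 D19359 (iv D19016) (iv F74606)
theorem F76030 : act 5 n19359 = n19236 := d30_1 D19359 F75492 F73771 (iv F72644) D19012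
theorem F76031 : act 7 n19359 = n19017 := d33_2 (iv F74607) D19359 (iv D19017)
def n19360 : Q := act 6 n19013
theorem D19360 : act 6 n19013 = n19360 := rfl
theorem F76032 : act 0 n19360 = n19189 := d5_1 D19360 (iv D19189) (iv F74608)
theorem F76033 : act 3 n19360 = n19014 := d23_1 D19360 (iv D19014) (iv F74609)
theorem F76034 : act 5 n19360 = n19282 := d30_1 D19360 (iv D19282) (iv D18896) (iv F72648) D19013
def n19361 : Q := act 6 n19015
theorem D19361 : act 6 n19015 = n19361 := rfl
theorem F76035 : act 0 n19361 = n19016 := d5_1 D19361 (iv D19016) (iv F74615)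
theorem F76036 : act 1 n19361 = n19183 := d12_1 D19361 (iv D19183) (iv F74616)
theorem F76037 : act 2 n19361 = n19212 := d18_1 D19361 F75426 (iv F74617)
theorem F76038 : act 4 n19361 = n19186 := d27_1 D19361 (iv D19186) (iv F74618)
theorem F76039 : act 5 n19361 = n19063 := d30_1 D19361 (iv D19063) (iv D18587) (iv F72660) D19015
theorem F76040 : act 7 n19361 = n19018 := d33_2 (iv F74619) D19361 (iv D19018)
def n19362 : Q := act 5 n19020
theorem D19362 : act 5 n19020 = n19362 := rfl
theorem F76041 : act 0 n19362 = n19039 := d4_1 D19362 (iv D19039) (iv F74642)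
theorem F76042 : act 2 n19362 = n19121 := d17_1 D19362 (iv D19121) (iv F74643)
theorem F76043 : act 3 n19362 = n19021 := d22_1 D19362 (iv D19021) D19020
theorem F76044 : act 8 n19362 = n19023 := d32_2 (iv F74646) D19362 (iv D19023)
def n19363 : Q := act 6 n19021
theorem D19363 : act 6 n19021 = n19363 := rfl
theorem F76045 : act 0 n19363 = n19040 := d5_1 D19363 (iv D19040) (iv F74647)
theorem F76046 : act 2 n19363 = n19022 := d18_1 D19363 (iv D19022) (iv F74648)
theorem F76047 : act 5 n19363 = n19267 := d30_1 D19363 (iv D19267) (iv D18873) (iv F72700) D19021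
theorem F76048 : act 7 n19363 = n19179 := d33_2 (iv F74649) D19363 (iv D19179)
theorem F76049 : act 8 n19363 = n19024 := d34_2 (iv F74650) D19363 (iv D19024)
def n19364 : Q := act 4 n19023
theorem D19364 : act 4 n19023 = n19364 := rfl
theorem F76050 : act 0 n19364 = n19044 := d3_1 D19364 (iv D19044) (iv F74657)
theorem F76051 : act 5 n19364 = n19364 := d26_2 D19023 D19364 (iv D19364) (iv D19023) F72709
def n19365 : Q := act 6 n19023
theorem D19365 : act 6 n19023 = n19365 := rfl
theorem F76052 : act 0 n19365 = n19045 := d5_1 D19365 (iv D19045) (iv F74657)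
theorem F76053 : act 3 n19365 = n19024 := d23_1 D19365 (iv D19024) (iv F74658)
theorem F76054 : act 5 n19365 = n19269 := d30_1 D19365 (iv D19269) (iv D18875) (iv F72710) D19023
def n19366 : Q := act 5 n19025
theorem D19366 : act 5 n19025 = n19366 := rfl
theorem F76055 : act 1 n19366 = n19307 := d11_1 D19366 (iv D19307) (iv F74663)
theorem F76056 : act 2 n19366 = n19034 := d17_1 D19366 (iv D19034) (iv F74664)
theorem F76057 : act 3 n19366 = n19026 := d22_1 D19366 (iv D19026) D19025
theorem F76058 : act 8 n19366 = n19309 := d32_2 (iv F74667) D19366 (iv D19309)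
def n19367 : Q := act 6 n19026
theorem D19367 : act 6 n19026 = n19367 := rfl
theorem F76059 : act 1 n19367 = n19308 := d12_1 D19367 (iv D19308) (iv F74668)
theorem F76060 : act 2 n19367 = n19027 := d18_1 D19367 (iv D19027) (iv F74669)
theorem F76061 : act 4 n19367 = n19363 := d27_1 D19367 (iv D19363) (iv F74670)
theorem F76062 : act 5 n19367 = n19318 := d30_1 D19367 (iv D19318) (iv D18960) (iv F72729) D19026
theorem F76063 : act 7 n19367 = n19187 := d33_2 (iv F74671) D19367 (iv D19187)
theorem F76064 : act 8 n19367 = n19310 := d34_2 (iv F74672) D19367 (iv D19310)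
def n19368 : Q := act 5 n19028
theorem D19368 : act 5 n19028 = n19368 := rfl
theorem F76065 : act 0 n19368 = n19172 := d4_1 D19368 (iv D19172) (iv F74678)
theorem F76066 : act 1 n19368 = n19232 := d11_1 D19368 F75479 (iv F74679)
theorem F76067 : act 2 n19368 = n19317 := d17_1 D19368 (iv D19317) (iv F74680)
theorem F76068 : act 3 n19368 = n19029 := d22_1 D19368 (iv D19029) D19028
theorem F76069 : act 7 n19368 = n19228 := d31_2 (iv F74683) D19368 (iv D19228)
def n19369 : Q := act 6 n19029
theorem D19369 : act 6 n19029 = n19369 := rfl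
theorem F76070 : act 0 n19369 = n19173 := d5_1 D19369 (iv D19173) (iv F74684)
theorem F76071 : act 1 n19369 = n19234 := d12_1 D19369 F75485 (iv F74685)
theorem F76072 : act 2 n19369 = n19030 := d18_1 D19369 (iv D19030) (iv F74686)
theorem F76073 : act 4 n19369 = n19166 := d27_1 D19369 (iv D19166) (iv F74687)
theorem F76074 : act 5 n19369 = n19036 := d30_1 D19369 (iv D19036) (iv D18557) (iv F72740) D19029
theorem F76075 : act 7 n19369 = n19046 := d33_2 (iv F74688) D19369 (iv D19046)
def n19370 : Q := act 5 n19031
theorem D19370 : act 5 n19031 = n19370 := rfl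
theorem F76076 : act 0 n19370 = n19366 := d4_1 D19370 (iv D19366) (iv F74694)
theorem F76077 : act 2 n19370 = n19309 := d17_1 D19370 (iv D19309) (iv F74695)
theorem F76078 : act 3 n19370 = n19032 := d22_1 D19370 (iv D19032) D19031
theorem F76079 : act 8 n19370 = n19034 := d32_2 (iv F74697) D19370 (iv D19034)
def n19371 : Q := act 6 n19032
theorem D19371 : act 6 n19032 = n19371 := rfl
theorem F76080 : act 0 n19371 = n19367 := d5_1 D19371 (iv D19367) (iv F74698)
theorem F76081 : act 2 n19371 = n19033 := d18_1 D19371 (iv D19033) (iv F74699)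
theorem F76082 : act 4 n19371 = n19040 := d27_1 D19371 (iv D19040) (iv F74700)
theorem F76083 : act 8 n19371 = n19036 := d34_2 (iv F74701) D19371 (iv D19036)
def n19372 : Q := act 4 n19034
theorem D19372 : act 4 n19034 = n19372 := rfl
theorem F76084 : act 3 n19372 = n19044 := d21_1 D19372 (iv D19044) F72777 (iv F72756) (iv F74707)
theorem F76085 : act 5 n19372 = n19372 := d26_2 D19034 D19372 (iv D19372) (iv D19034) F72754
def n19373 : Q := act 6 n19034
theorem D19373 : act 6 n19034 = n19373 := rfl
theorem F76086 : act 3 n19373 = n19036 := d23_1 D19373 (iv D19036) (iv F74707)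
def n19374 : Q := act 7 n19034
theorem D19374 : act 7 n19034 = n19374 := rfl
theorem F76087 : act 0 n19374 = n19219 := d6_1 D19374 (iv F75808) F75805
theorem F76088 : act 1 n19374 = n19104 := d13_1 D19374 (iv F75981) F75978
theorem F76089 : act 3 n19374 = n19048 := d24_1 D19374 (iv D19048) F72795 (iv F72757) (iv F74707)
theorem F76090 : act 5 n19374 = n19035 := d31_1 D19374 (iv D19035) D19034
def n19375 : Q := act 8 n19035
theorem D19375 : act 8 n19035 = n19375 := rfl
theorem F76091 : act 0 n19375 = n19214 := d7_1 D19375 F75432 (iv F74708)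
theorem F76092 : act 1 n19375 = n19101 := d14_1 D19375 F74974 (iv F74709)
theorem F76093 : act 3 n19375 = n19049 := d25_1 D19375 (iv D19049) (iv F74710)
theorem F76094 : act 4 n19375 = n19375 := d29_1 D19375 (iv D19375) F74711
theorem F76095 : act 6 n19375 = n19223 := d34_1 D19375 F75457 (iv F74712)
def n19376 : Q := act 2 n19037
theorem D19376 : act 2 n19037 = n19376 := rfl
theorem F76096 : act 1 n19376 = n19070 := d8_1 D19376 F74844 (iv F73235) F73236 (iv F74716)
theorem F76097 : act 3 n19376 = n19055 := d15_2 D19037 D19376 (iv D19055) (iv D18581) (iv F72762)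
theorem F76098 : act 4 n19376 = n19376 := d16_2 F74717 D19376 (iv D19376)
theorem F76099 : act 6 n19376 = n19191 := d18_2 F75681 D19376 (iv F75679)
theorem F76100 : act 8 n19376 = n19041 := d20_2 (iv F74718) D19376 (iv D19041)
def n19377 : Q := act 5 n19037
theorem D19377 : act 5 n19037 = n19377 := rfl
theorem F76101 : act 1 n19377 = n19039 := d11_1 D19377 (iv D19039) (iv F74716)
theorem F76102 : act 3 n19377 = n19038 := d22_1 D19377 (iv D19038) D19037
theorem F76103 : act 8 n19377 = n19042 := d32_2 (iv F74718) D19377 (iv D19042)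
def n19378 : Q := act 6 n19038
theorem D19378 : act 6 n19038 = n19378 := rfl
theorem F76104 : act 1 n19378 = n19040 := d12_1 D19378 (iv D19040) (iv F74719)
theorem F76105 : act 2 n19378 = n19058 := d18_1 D19378 (iv D19058) (iv F74720)
theorem F76106 : act 7 n19378 = n19119 := d33_2 (iv F74721) D19378 F75051
theorem F76107 : act 8 n19378 = n19043 := d34_2 (iv F74722) D19378 (iv D19043)
def n19379 : Q := act 4 n19039
theorem D19379 : act 4 n19039 = n19379 := rfl
theorem F76108 : act 5 n19379 = n19379 := d26_2 D19039 D19379 (iv D19379) (iv D19039) F72765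
theorem F76109 : act 8 n19379 = n19044 := d29_2 (iv F74724) D19379 (iv D19044)
def n19380 : Q := act 6 n19039
theorem D19380 : act 6 n19039 = n19380 := rfl
theorem F76110 : act 3 n19380 = n19040 := d23_1 D19380 (iv D19040) (iv F74723)
theorem F76111 : act 8 n19380 = n19045 := d34_2 (iv F74724) D19380 (iv D19045)
def n19381 : Q := act 5 n19041
theorem D19381 : act 5 n19041 = n19381 := rfl
theorem F76112 : act 1 n19381 = n19246 := d11_1 D19381 (iv D19246) (iv F74727)
theorem F76113 : act 2 n19381 = n19042 := d17_1 D19381 (iv D19042) D19041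
theorem F76114 : act 3 n19381 = n19064 := d22_1 D19381 (iv D19064) (iv F74728)
theorem F76115 : act 7 n19381 = n19081 := d31_2 (iv F74730) D19381 (iv D19081)
def n19382 : Q := act 4 n19042
theorem D19382 : act 4 n19042 = n19382 := rfl
theorem F76116 : act 1 n19382 = n19044 := d10_1 D19382 (iv D19044) (iv F74731)
theorem F76117 : act 5 n19382 = n19382 := d26_2 D19042 D19382 (iv D19382) (iv D19042) F72772
theorem F76118 : act 7 n19382 = n19083 := d28_2 (iv F74733) D19382 (iv D19083)
def n19383 : Q := act 6 n19042
theorem D19383 : act 6 n19042 = n19383 := rfl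
theorem F76119 : act 1 n19383 = n19045 := d12_1 D19383 (iv D19045) (iv F74731)
theorem F76120 : act 3 n19383 = n19043 := d23_1 D19383 (iv D19043) (iv F74732)
theorem F76121 : act 7 n19383 = n19084 := d33_2 (iv F74733) D19383 (iv D19084)
def n19384 : Q := act 6 n19044
theorem D19384 : act 6 n19044 = n19384 := rfl
theorem F76122 : act 4 n19384 = n19045 := d27_1 D19384 (iv D19045) D19044
def n19385 : Q := act 7 n19047
theorem D19385 : act 7 n19047 = n19385 := rfl
theorem F76123 : act 0 n19385 = n19220 := d6_1 D19385 F75450 (iv F74746)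
theorem F76124 : act 1 n19385 = n19105 := d13_1 D19385 F74992 (iv F74747)
theorem F76125 : act 2 n19385 = n19186 := d19_1 D19385 F75335 (iv F74748)
theorem F76126 : act 4 n19385 = n19212 := d28_1 D19385 (iv D19212) (iv F74750)
theorem F76127 : act 5 n19385 = n19229 := d31_1 D19385 F75472 (iv F74751)
theorem F76128 : act 6 n19385 = n19048 := d33_1 D19385 (iv D19048) D19047
def n19386 : Q := act 8 n19048
theorem D19386 : act 8 n19048 = n19386 := rfl
theorem F76129 : act 0 n19386 = n19215 := d7_1 D19386 F75435 (iv F74753)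
theorem F76130 : act 1 n19386 = n19102 := d14_1 D19386 F74979 (iv F74754)
theorem F76131 : act 2 n19386 = n19184 := d20_1 D19386 F75326 (iv F74755)
theorem F76132 : act 4 n19386 = n19213 := d29_1 D19386 (iv D19213) (iv F74756)
theorem F76133 : act 5 n19386 = n19049 := d32_1 D19386 (iv D19049) (iv F74757)
theorem F76134 : act 7 n19386 = n19238 := d35_1 D19386 (iv D19238) (iv D18831) (iv F72797) D19048
def n19387 : Q := act 6 n19050
theorem D19387 : act 6 n19050 = n19387 := rfl
theorem F76135 : act 0 n19387 = n19119 := d5_1 D19387 F75051 (iv F74764)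
theorem F76136 : act 1 n19387 = n19051 := d12_1 D19387 (iv D19051) (iv F74765)
theorem F76137 : act 4 n19387 = n19058 := d27_1 D19387 (iv D19058) (iv F74766)
theorem F76138 : act 5 n19387 = n19239 := d30_1 D19387 F75504 F73776 (iv F72815) D19050
theorem F76139 : act 8 n19387 = n19052 := d34_2 (iv F74767) D19387 (iv D19052)
def n19388 : Q := act 2 n19053
theorem D19388 : act 2 n19053 = n19388 := rfl
theorem F76140 : act 0 n19388 = n19055 := d1_1 D19388 (iv D19055) (iv F74776)
theorem F76141 : act 1 n19388 = n19078 := d8_1 D19388 F74883 F73003 (iv F73335) (iv F74777)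
theorem F76142 : act 4 n19388 = n19066 := d16_2 (iv F74778) D19388 (iv D19066)
theorem F76143 : act 6 n19388 = n19190 := d18_2 (iv F74779) D19388 F75354
theorem F76144 : act 8 n19388 = n19061 := d20_2 (iv F74780) D19388 (iv D19061)
theorem F76145 : act 7 n19206 = n19388 := d35_5 F76144 F74808 F73891 (iv F74914) (iv F75406)
def n19389 : Q := act 5 n19053
theorem D19389 : act 5 n19053 = n19389 := rfl
theorem F76146 : act 0 n19389 = n19056 := d4_1 D19389 (iv D19056) (iv F74776)
theorem F76147 : act 1 n19389 = n19141 := d11_1 D19389 (iv D19141) (iv F74777)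
theorem F76148 : act 3 n19389 = n19054 := d22_1 D19389 (iv D19054) D19053
theorem F76149 : act 8 n19389 = n19062 := d32_2 (iv F74780) D19389 (iv D19062)
def n19390 : Q := act 7 n19053
theorem D19390 : act 7 n19053 = n19390 := rfl
theorem F76150 : act 0 n19390 = n19057 := d6_1 D19390 (iv D19057) (iv F74776)
theorem F76151 : act 1 n19390 = n19136 := d13_1 D19390 F75133 (iv F74777)
theorem F76152 : act 2 n19390 = n19206 := d19_1 D19390 F76145 (iv D19388)
theorem F76153 : act 4 n19390 = n19067 := d28_1 D19390 (iv D19067) (iv F74778)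
theorem F76154 : act 6 n19390 = n19200 := d33_1 D19390 F75383 (iv F74779)
theorem F76155 : act 8 n19390 = n19277 := d35_2 (iv F74780) D19390 (iv D19277) F73984 (iv F72850)
def n19391 : Q := act 6 n19054
theorem D19391 : act 6 n19054 = n19391 := rfl
theorem F76156 : act 0 n19391 = n19058 := d5_1 D19391 (iv D19058) (iv F74781)
theorem F76157 : act 4 n19391 = n19119 := d27_1 D19391 F75051 (iv F74782)
theorem F76158 : act 8 n19391 = n19063 := d34_2 (iv F74783) D19391 (iv D19063)
def n19392 : Q := act 5 n19055
theorem D19392 : act 5 n19055 = n19392 := rfl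
theorem F76159 : act 1 n19392 = n19071 := d11_1 D19392 (iv D19071) (iv F74784)
theorem F76160 : act 2 n19392 = n19056 := d17_1 D19392 (iv D19056) D19055
theorem F76161 : act 4 n19392 = n19250 := d26_1 D19392 (iv D19250) (iv D18852) (iv F72878) (iv F74785)
theorem F76162 : act 8 n19392 = n19064 := d32_2 (iv F74787) D19392 (iv D19064)
def n19393 : Q := act 6 n19056
theorem D19393 : act 6 n19056 = n19393 := rfl
theorem F76163 : act 1 n19393 = n19059 := d12_1 D19393 (iv D19059) (iv F74788)
theorem F76164 : act 3 n19393 = n19058 := d23_1 D19393 (iv D19058) (iv F74789)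
theorem F76165 : act 5 n19393 = n19211 := d30_1 D19393 (iv D19211) (iv D18802) (iv F72833) D19056
theorem F76166 : act 8 n19393 = n19065 := d34_2 (iv F74790) D19393 (iv D19065)
def n19394 : Q := act 7 n19056
theorem D19394 : act 7 n19056 = n19394 := rfl
theorem F76167 : act 1 n19394 = n19060 := d13_1 D19394 (iv D19060) (iv F74788)
theorem F76168 : act 5 n19394 = n19057 := d31_1 D19394 (iv D19057) D19056
theorem F76169 : act 8 n19394 = n19280 := d35_2 (iv F74790) D19394 (iv D19280) F73993 (iv F72859)
def n19395 : Q := act 7 n19059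
theorem D19395 : act 7 n19059 = n19395 := rfl
theorem F76170 : act 0 n19395 = n19140 := d6_1 D19395 F75146 (iv F74797)
theorem F76171 : act 2 n19395 = n19129 := d19_1 D19395 F75094 (iv F74798)
theorem F76172 : act 5 n19395 = n19204 := d31_1 D19395 F75395 (iv F74800)
theorem F76173 : act 6 n19395 = n19060 := d33_1 D19395 (iv D19060) D19059
theorem F76174 : act 8 n19395 = n19281 := d35_2 (iv F74801) D19395 (iv D19281) F74002 (iv F72863)
def n19396 : Q := act 5 n19061
theorem D19396 : act 5 n19061 = n19396 := rfl
theorem F76175 : act 0 n19396 = n19064 := d4_1 D19396 (iv D19064) (iv F74806)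
theorem F76176 : act 2 n19396 = n19062 := d17_1 D19396 (iv D19062) D19061
theorem F76177 : act 4 n19396 = n19254 := d26_1 D19396 (iv D19254) (iv D18856) (iv F72887) (iv F74807)
theorem F76178 : act 7 n19396 = n19260 := d31_2 (iv F74808) D19396 (iv D19260)
def n19397 : Q := act 6 n19062
theorem D19397 : act 6 n19062 = n19397 := rfl
theorem F76179 : act 0 n19397 = n19065 := d5_1 D19397 (iv D19065) (iv F74809)
theorem F76180 : act 3 n19397 = n19063 := d23_1 D19397 (iv D19063) (iv F74810)
theorem F76181 : act 7 n19397 = n19282 := d33_2 (iv F74811) D19397 (iv D19282)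
def n19398 : Q := act 6 n19064
theorem D19398 : act 6 n19064 = n19398 := rfl
theorem F76182 : act 1 n19398 = n19247 := d12_1 D19398 (iv D19247) (iv F74815)
theorem F76183 : act 2 n19398 = n19065 := d18_1 D19398 (iv D19065) (iv F74816)
theorem F76184 : act 4 n19398 = n19256 := d27_1 D19398 (iv D19256) (iv F74817)
theorem F76185 : act 7 n19398 = n19261 := d33_2 (iv F74818) D19398 (iv D19261)
def n19399 : Q := act 4 n19068
theorem D19399 : act 4 n19068 = n19399 := rfl
theorem F76186 : act 0 n19399 = n19196 := d3_1 D19399 (iv D19196) (iv F74835)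
theorem F76187 : act 1 n19399 = n19125 := d10_1 D19399 (iv D19125) (iv F74836)
theorem F76188 : act 5 n19399 = n19399 := d26_2 D19068 D19399 (iv D19399) (iv D19068) F72916
def n19400 : Q := act 6 n19068
theorem D19400 : act 6 n19068 = n19400 := rfl
theorem F76189 : act 0 n19400 = n19197 := d5_1 D19400 (iv D19197) (iv F74835)
theorem F76190 : act 1 n19400 = n19126 := d12_1 D19400 (iv D19126) (iv F74836)
theorem F76191 : act 3 n19400 = n19069 := d23_1 D19400 (iv D19069) (iv F74837)
theorem F76192 : act 5 n19400 = n19084 := d30_1 D19400 (iv D19084) (iv D18618) (iv F72917) D19068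
def n19401 : Q := act 5 n19070
theorem D19401 : act 5 n19070 = n19401 := rfl
theorem F76193 : act 0 n19401 = n19081 := d4_1 D19401 (iv D19081) (iv F74843)
theorem F76194 : act 2 n19401 = n19073 := d17_1 D19401 (iv D19073) (iv F74844)
theorem F76195 : act 3 n19401 = n19071 := d22_1 D19401 (iv D19071) D19070
theorem F76196 : act 8 n19401 = n19246 := d32_2 (iv F74847) D19401 (iv D19246)
def n19402 : Q := act 6 n19071
theorem D19402 : act 6 n19071 = n19402 := rfl
theorem F76197 : act 0 n19402 = n19082 := d5_1 D19402 (iv D19082) (iv F74848)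
theorem F76198 : act 2 n19402 = n19072 := d18_1 D19402 (iv D19072) (iv F74849)
theorem F76199 : act 4 n19402 = n19252 := d27_1 D19402 (iv D19252) (iv F74850)
theorem F76200 : act 5 n19402 = n19195 := d30_1 D19402 (iv D19195) (iv D18786) (iv F72933) D19071
theorem F76201 : act 8 n19402 = n19247 := d34_2 (iv F74851) D19402 (iv D19247)
def n19403 : Q := act 4 n19073
theorem D19403 : act 4 n19073 = n19403 := rfl
theorem F76202 : act 0 n19403 = n19083 := d3_1 D19403 (iv D19083) (iv F74858)
theorem F76203 : act 5 n19403 = n19403 := d26_2 D19073 D19403 (iv D19403) (iv D19073) F72941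
theorem F76204 : act 8 n19403 = n19399 := d29_2 (iv F74860) D19403 (iv D19399)
def n19404 : Q := act 6 n19073
theorem D19404 : act 6 n19073 = n19404 := rfl
theorem F76205 : act 0 n19404 = n19084 := d5_1 D19404 (iv D19084) (iv F74858)
theorem F76206 : act 3 n19404 = n19074 := d23_1 D19404 (iv D19074) (iv F74859)
theorem F76207 : act 5 n19404 = n19197 := d30_1 D19404 (iv D19197) (iv D18788) (iv F72942) D19073
theorem F76208 : act 8 n19404 = n19400 := d34_2 (iv F74860) D19404 (iv D19400)
def n19405 : Q := act 5 n19075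
theorem D19405 : act 5 n19075 = n19405 := rfl
theorem F76209 : act 0 n19405 = n19251 := d4_1 D19405 (iv D19251) (iv F74866)
theorem F76210 : act 2 n19405 = n19216 := d17_1 D19405 (iv D19216) (iv F74867)
theorem F76211 : act 3 n19405 = n19076 := d22_1 D19405 (iv D19076) D19075
theorem F76212 : act 7 n19405 = n19174 := d31_2 (iv F74870) D19405 (iv D19174)
theorem F76213 : act 8 n19405 = n19203 := d32_2 (iv F74871) D19405 (iv D19203)
def n19406 : Q := act 6 n19076
theorem D19406 : act 6 n19076 = n19406 := rfl
theorem F76214 : act 0 n19406 = n19252 := d5_1 D19406 (iv D19252) (iv F74872)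
theorem F76215 : act 2 n19406 = n19077 := d18_1 D19406 (iv D19077) (iv F74873)
theorem F76216 : act 4 n19406 = n19082 := d27_1 D19406 (iv D19082) (iv F74874)
theorem F76217 : act 5 n19406 = n19281 := d30_1 D19406 F75661 F74005 (iv F72955) D19076
theorem F76218 : act 7 n19406 = n19188 := d33_2 (iv F74875) D19406 (iv D19188)
theorem F76219 : act 8 n19406 = n19204 := d34_2 (iv F74876) D19406 (iv D19204)
def n19407 : Q := act 5 n19078
theorem D19407 : act 5 n19078 = n19407 := rfl
theorem F76220 : act 0 n19407 = n19080 := d4_1 D19407 (iv D19080) (iv F74882)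
theorem F76221 : act 2 n19407 = n19091 := d17_1 D19407 (iv D19091) (iv F74883)
theorem F76222 : act 7 n19407 = n19208 := d31_2 (iv F74885) D19407 (iv D19208)
def n19408 : Q := act 5 n19079
theorem D19408 : act 5 n19079 = n19408 := rfl
theorem F76223 : act 1 n19408 = n19081 := d11_1 D19408 (iv D19081) (iv F74886)
theorem F76224 : act 2 n19408 = n19355 := d17_1 D19408 (iv D19355) (iv F74887)
theorem F76225 : act 3 n19408 = n19080 := d22_1 D19408 (iv D19080) D19079
theorem F76226 : act 7 n19408 = n19246 := d31_2 (iv F74890) D19408 (iv D19246)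
def n19409 : Q := act 6 n19080
theorem D19409 : act 6 n19080 = n19409 := rfl
theorem F76227 : act 1 n19409 = n19082 := d12_1 D19409 (iv D19082) (iv F74891)
theorem F76228 : act 2 n19409 = n19092 := d18_1 D19409 (iv D19092) (iv F74892)
theorem F76229 : act 5 n19409 = n19398 := d30_1 D19409 (iv D19398) (iv D19064) (iv F72969) D19080
theorem F76230 : act 7 n19409 = n19262 := d33_2 (iv F74893) D19409 (iv D19262)
def n19410 : Q := act 4 n19081
theorem D19410 : act 4 n19081 = n19410 := rfl
theorem F76231 : act 2 n19410 = n19083 := d16_1 D19410 (iv D19083) (iv F74894)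
theorem F76232 : act 5 n19410 = n19410 := d26_2 D19081 D19410 (iv D19410) (iv D19081) F72972
def n19411 : Q := act 6 n19081
theorem D19411 : act 6 n19081 = n19411 := rfl
theorem F76233 : act 2 n19411 = n19084 := d18_1 D19411 (iv D19084) (iv F74894)
theorem F76234 : act 3 n19411 = n19082 := d23_1 D19411 (iv D19082) (iv F74895)
def n19412 : Q := act 6 n19083
theorem D19412 : act 6 n19083 = n19412 := rfl
theorem F76235 : act 4 n19412 = n19084 := d27_1 D19412 (iv D19084) D19083
def n19413 : Q := act 5 n19086
theorem D19413 : act 5 n19086 = n19413 := rfl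
theorem F76236 : act 0 n19413 = n19088 := d4_1 D19413 (iv D19088) (iv F74906)
theorem F76237 : act 1 n19413 = n19148 := d11_1 D19413 (iv D19148) (iv F74907)
theorem F76238 : act 3 n19413 = n19147 := d22_1 D19413 (iv D19147) (iv F74908)
theorem F76239 : act 4 n19413 = n19091 := d26_1 D19413 (iv D19091) (iv D18627) (iv F72991) D19086
theorem F76240 : act 7 n19413 = n19089 := d31_2 (iv F74909) D19413 (iv D19089)
def n19414 : Q := act 5 n19087
theorem D19414 : act 5 n19087 = n19414 := rfl
theorem F76241 : act 0 n19414 = n19147 := d4_1 D19414 (iv D19147) (iv F74910)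
theorem F76242 : act 1 n19414 = n19089 := d11_1 D19414 (iv D19089) (iv F74911)
theorem F76243 : act 3 n19414 = n19088 := d22_1 D19414 (iv D19088) D19087
theorem F76244 : act 4 n19414 = n19153 := d26_1 D19414 (iv D19153) (iv D18721) (iv F73015) (iv F74912)
theorem F76245 : act 7 n19414 = n19148 := d31_2 (iv F74914) D19414 (iv D19148)
def n19415 : Q := act 6 n19088
theorem D19415 : act 6 n19088 = n19415 := rfl
theorem F76246 : act 1 n19415 = n19090 := d12_1 D19415 (iv D19090) (iv F74915)
theorem F76247 : act 4 n19415 = n19092 := d27_1 D19415 (iv D19092) (iv F74916)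
theorem F76248 : act 7 n19415 = n19157 := d33_2 (iv F74917) D19415 (iv D19157)
def n19416 : Q := act 6 n19089
theorem D19416 : act 6 n19089 = n19416 := rfl
theorem F76249 : act 0 n19416 = n19157 := d5_1 D19416 (iv D19157) (iv F74918)
theorem F76250 : act 3 n19416 = n19090 := d23_1 D19416 (iv D19090) (iv F74919)
theorem F76251 : act 4 n19416 = n19360 := d27_1 D19416 (iv D19360) (iv F74920)
def n19417 : Q := act 6 n19091
theorem D19417 : act 6 n19091 = n19417 := rfl
theorem F76252 : act 0 n19417 = n19092 := d5_1 D19417 (iv D19092) (iv F74924)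
theorem F76253 : act 1 n19417 = n19158 := d12_1 D19417 (iv D19158) (iv F74925)
theorem F76254 : act 3 n19417 = n19361 := d23_1 D19417 (iv D19361) (iv F74926)
theorem F76255 : act 5 n19417 = n19397 := d30_1 D19417 (iv D19397) (iv D19062) (iv F73005) D19091
theorem F76256 : act 7 n19417 = n19360 := d33_2 (iv F74927) D19417 (iv D19360)
def n19418 : Q := act 4 n19095
theorem D19418 : act 4 n19095 = n19418 := rfl
theorem F76257 : act 0 n19418 = n19125 := d3_1 D19418 (iv D19125) (iv F74944)
theorem F76258 : act 2 n19418 = n19364 := d16_1 D19418 (iv D19364) (iv F74945)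
theorem F76259 : act 5 n19418 = n19418 := d26_2 D19095 D19418 (iv D19418) (iv D19095) F73053
theorem F76260 : act 7 n19418 = n19268 := d28_2 (iv F74947) D19418 (iv D19268)
def n19419 : Q := act 6 n19095
theorem D19419 : act 6 n19095 = n19419 := rfl
theorem F76261 : act 0 n19419 = n19126 := d5_1 D19419 (iv D19126) (iv F74944)
theorem F76262 : act 2 n19419 = n19365 := d18_1 D19419 (iv D19365) (iv F74945)
theorem F76263 : act 3 n19419 = n19096 := d23_1 D19419 (iv D19096) (iv F74946)
theorem F76264 : act 7 n19419 = n19269 := d33_2 (iv F74947) D19419 (iv D19269)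
def n19420 : Q := act 4 n19097
theorem D19420 : act 4 n19097 = n19420 := rfl
theorem F76265 : act 0 n19420 = n19230 := d3_1 D19420 (iv D19230) (iv F74951)
theorem F76266 : act 1 n19420 = n19176 := d10_1 D19420 (iv D19176) (iv F74952)
theorem F76267 : act 5 n19420 = n19420 := d26_2 D19097 D19420 (iv D19420) (iv D19097) F73067
def n19421 : Q := act 6 n19097
theorem D19421 : act 6 n19097 = n19421 := rfl
theorem F76268 : act 0 n19421 = n19231 := d5_1 D19421 (iv D19231) (iv F74951)
theorem F76269 : act 1 n19421 = n19177 := d12_1 D19421 (iv D19177) (iv F74952)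
theorem F76270 : act 3 n19421 = n19098 := d23_1 D19421 (iv D19098) (iv F74953)
theorem F76271 : act 5 n19421 = n19118 := d30_1 D19421 (iv D19118) (iv D18667) (iv F73068) D19097
def n19422 : Q := act 8 n19099
theorem D19422 : act 8 n19099 = n19422 := rfl
theorem F76272 : act 0 n19422 = n19239 := d7_1 D19422 (iv D19239) (iv F74959)
theorem F76273 : act 1 n19422 = n19240 := d14_1 D19422 F75509 (iv F74960)
theorem F76274 : act 3 n19422 = n19387 := d25_1 D19422 F76139 (iv F74961)
theorem F76275 : act 4 n19422 = n19243 := d29_1 D19422 F75520 (iv F74962)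
theorem F76276 : act 5 n19422 = n19119 := d32_1 D19422 (iv D19119) (iv F74963)
theorem F76277 : act 6 n19422 = n19100 := d34_1 D19422 (iv D19100) (iv F74964)
def n19423 : Q := act 5 n19101
theorem D19423 : act 5 n19101 = n19423 := rfl
theorem F76278 : act 0 n19423 = n19114 := d4_1 D19423 (iv D19114) (iv F74970)
theorem F76279 : act 2 n19423 = n19314 := d17_1 D19423 (iv D19314) (iv F74971)
theorem F76280 : act 3 n19423 = n19102 := d22_1 D19423 (iv D19102) D19101
theorem F76281 : act 8 n19423 = n19104 := d32_2 (iv F74974) D19423 (iv D19104)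
def n19424 : Q := act 7 n19101
theorem D19424 : act 7 n19101 = n19424 := rfl
theorem F76282 : act 0 n19424 = n19115 := d6_1 D19424 (iv D19115) (iv F74970)
theorem F76283 : act 2 n19424 = n19315 := d19_1 D19424 (iv D19315) (iv F74971)
theorem F76284 : act 3 n19424 = n19277 := d24_1 D19424 (iv D19277) (iv D18889) (iv F73109) D19101
theorem F76285 : act 4 n19424 = n19424 := d28_1 D19424 (iv D19424) F74972
theorem F76286 : act 6 n19424 = n19226 := d33_1 D19424 (iv D19226) (iv F74973)
def n19425 : Q := act 6 n19102
theorem D19425 : act 6 n19102 = n19425 := rfl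
theorem F76287 : act 0 n19425 = n19116 := d5_1 D19425 (iv D19116) (iv F74975)
theorem F76288 : act 2 n19425 = n19103 := d18_1 D19425 (iv D19103) (iv F74976)
theorem F76289 : act 4 n19425 = n19330 := d27_1 D19425 (iv D19330) (iv F74977)
theorem F76290 : act 5 n19425 = n19227 := d30_1 D19425 (iv D19227) (iv D18819) (iv F73108) D19102
theorem F76291 : act 7 n19425 = n19278 := d33_2 (iv F74978) D19425 (iv D19278)
theorem F76292 : act 8 n19425 = n19105 := d34_2 (iv F74979) D19425 (iv D19105)
def n19426 : Q := act 4 n19104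
theorem D19426 : act 4 n19104 = n19426 := rfl
theorem F76293 : act 0 n19426 = n19117 := d3_1 D19426 (iv D19117) (iv F74986)
theorem F76294 : act 2 n19426 = n19420 := d16_1 D19426 (iv D19420) (iv F74987)
theorem F76295 : act 5 n19426 = n19426 := d26_2 D19104 D19426 (iv D19426) (iv D19104) F73118
def n19427 : Q := act 6 n19104
theorem D19427 : act 6 n19104 = n19427 := rfl
theorem F76296 : act 0 n19427 = n19118 := d5_1 D19427 (iv D19118) (iv F74986)
theorem F76297 : act 2 n19427 = n19421 := d18_1 D19427 (iv D19421) (iv F74987)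
theorem F76298 : act 3 n19427 = n19105 := d23_1 D19427 (iv D19105) (iv F74988)
theorem F76299 : act 5 n19427 = n19231 := d30_1 D19427 (iv D19231) (iv D18823) (iv F73119) D19104
def n19428 : Q := act 5 n19106
theorem D19428 : act 5 n19106 = n19428 := rfl
theorem F76300 : act 0 n19428 = n19333 := d4_1 D19428 (iv D19333) (iv F74993)
theorem F76301 : act 1 n19428 = n19362 := d11_1 D19428 (iv D19362) (iv F74994)
theorem F76302 : act 2 n19428 = n19112 := d17_1 D19428 (iv D19112) (iv F74995)
theorem F76303 : act 3 n19428 = n19107 := d22_1 D19428 (iv D19107) D19106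
theorem F76304 : act 7 n19428 = n19266 := d31_2 (iv F74997) D19428 (iv D19266)
theorem F76305 : act 8 n19428 = n19305 := d32_2 (iv F74998) D19428 (iv D19305)
def n19429 : Q := act 6 n19107
theorem D19429 : act 6 n19107 = n19429 := rfl
theorem F76306 : act 0 n19429 = n19334 := d5_1 D19429 (iv D19334) (iv F74999)
theorem F76307 : act 1 n19429 = n19363 := d12_1 D19429 (iv D19363) (iv F75000)
theorem F76308 : act 2 n19429 = n19108 := d18_1 D19429 (iv D19108) (iv F75001)
theorem F76309 : act 4 n19429 = n19308 := d27_1 D19429 (iv D19308) (iv F75002)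
theorem F76310 : act 7 n19429 = n19275 := d33_2 (iv F75003) D19429 (iv D19275)
theorem F76311 : act 8 n19429 = n19306 := d34_2 (iv F75004) D19429 (iv D19306)
def n19430 : Q := act 5 n19109
theorem D19430 : act 5 n19109 = n19430 := rfl
theorem F76312 : act 0 n19430 = n19329 := d4_1 D19430 (iv D19329) (iv F75011)
theorem F76313 : act 1 n19430 = n19266 := d11_1 D19430 (iv D19266) (iv F75012)
theorem F76314 : act 2 n19430 = n19305 := d17_1 D19430 (iv D19305) (iv F75013)
theorem F76315 : act 3 n19430 = n19110 := d22_1 D19430 (iv D19110) D19109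
theorem F76316 : act 7 n19430 = n19362 := d31_2 (iv F75016) D19430 (iv D19362)
theorem F76317 : act 8 n19430 = n19112 := d32_2 (iv F75017) D19430 (iv D19112)
def n19431 : Q := act 6 n19110
theorem D19431 : act 6 n19110 = n19431 := rfl
theorem F76318 : act 0 n19431 = n19330 := d5_1 D19431 (iv D19330) (iv F75018)
theorem F76319 : act 1 n19431 = n19267 := d12_1 D19431 (iv D19267) (iv F75019)
theorem F76320 : act 2 n19431 = n19111 := d18_1 D19431 (iv D19111) (iv F75020)
theorem F76321 : act 4 n19431 = n19116 := d27_1 D19431 (iv D19116) (iv F75021)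
theorem F76322 : act 5 n19431 = n19429 := d30_1 D19431 (iv D19429) (iv D19107) (iv F73146) D19110
theorem F76323 : act 7 n19431 = n19274 := d33_2 (iv F75022) D19431 (iv D19274)
theorem F76324 : act 8 n19431 = n19113 := d34_2 (iv F75023) D19431 (iv D19113)
def n19432 : Q := act 4 n19112
theorem D19432 : act 4 n19112 = n19432 := rfl
theorem F76325 : act 1 n19432 = n19268 := d10_1 D19432 (iv D19268) (iv F75031)
theorem F76326 : act 3 n19432 = n19117 := d21_1 D19432 (iv D19117) F73174 (iv F73159) (iv F75032)
theorem F76327 : act 5 n19432 = n19432 := d26_2 D19112 D19432 (iv D19432) (iv D19112) F73156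
def n19433 : Q := act 6 n19112
theorem D19433 : act 6 n19112 = n19433 := rfl
theorem F76328 : act 1 n19433 = n19269 := d12_1 D19433 (iv D19269) (iv F75031)
theorem F76329 : act 3 n19433 = n19113 := d23_1 D19433 (iv D19113) (iv F75032)
def n19434 : Q := act 4 n19114
theorem D19434 : act 4 n19114 = n19434 := rfl
theorem F76330 : act 1 n19434 = n19270 := d10_1 D19434 (iv D19270) (iv F75037)
theorem F76331 : act 5 n19434 = n19434 := d26_2 D19114 D19434 (iv D19434) (iv D19114) F73165
theorem F76332 : act 8 n19434 = n19117 := d29_2 (iv F75039) D19434 (iv D19117)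
def n19435 : Q := act 6 n19114
theorem D19435 : act 6 n19114 = n19435 := rfl
theorem F76333 : act 1 n19435 = n19271 := d12_1 D19435 (iv D19271) (iv F75037)
theorem F76334 : act 3 n19435 = n19116 := d23_1 D19435 (iv D19116) (iv F75038)
theorem F76335 : act 8 n19435 = n19118 := d34_2 (iv F75039) D19435 (iv D19118)
def n19436 : Q := act 7 n19114
theorem D19436 : act 7 n19114 = n19436 := rfl
theorem F76336 : act 1 n19436 = n19272 := d13_1 D19436 (iv D19272) (iv F75037)
theorem F76337 : act 3 n19436 = n19280 := d24_1 D19436 (iv D19280) F73991 (iv F73169) (iv F75038)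
theorem F76338 : act 5 n19436 = n19115 := d31_1 D19436 (iv D19115) D19114
def n19437 : Q := act 6 n19117
theorem D19437 : act 6 n19117 = n19437 := rfl
theorem F76339 : act 1 n19437 = n19273 := d12_1 D19437 (iv D19273) (iv F75047)
theorem F76340 : act 4 n19437 = n19118 := d27_1 D19437 (iv D19118) D19117
def n19438 : Q := act 4 n19121
theorem D19438 : act 4 n19121 = n19438 := rfl
theorem F76341 : act 3 n19438 = n19125 := d21_1 D19438 (iv D19125) F73255 (iv F73227) (iv F75058)
theorem F76342 : act 5 n19438 = n19438 := d26_2 D19121 D19438 (iv D19438) (iv D19121) F73224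
theorem F76343 : act 8 n19438 = n19418 := d29_2 (iv F75059) D19438 (iv D19418)
def n19439 : Q := act 6 n19121
theorem D19439 : act 6 n19121 = n19439 := rfl
theorem F76344 : act 3 n19439 = n19122 := d23_1 D19439 (iv D19122) (iv F75058)
theorem F76345 : act 8 n19439 = n19419 := d34_2 (iv F75059) D19439 (iv D19419)
def n19440 : Q := act 4 n19123
theorem D19440 : act 4 n19123 = n19440 := rfl
theorem F76346 : act 0 n19440 = n19438 := d3_1 D19440 (iv D19438) (iv F75064)
theorem F76347 : act 1 n19440 = n19403 := d10_1 D19440 (iv D19403) (iv F75065)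
theorem F76348 : act 2 n19440 = n19379 := d16_1 D19440 (iv D19379) (iv F75066)
theorem F76349 : act 3 n19440 = n19418 := d21_1 D19440 (iv D19418) F74946 (iv F73244) (iv F75067)
theorem F76350 : act 5 n19440 = n19440 := d26_2 D19123 D19440 (iv D19440) (iv D19123) F73237
theorem F76351 : act 7 n19440 = n19338 := d28_2 (iv F75068) D19440 (iv D19338)
theorem F76352 : act 8 n19440 = n19125 := d29_2 (iv F75069) D19440 (iv D19125)
def n19441 : Q := act 6 n19123
theorem D19441 : act 6 n19123 = n19441 := rfl
theorem F76353 : act 0 n19441 = n19439 := d5_1 D19441 (iv D19439) (iv F75064)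
theorem F76354 : act 1 n19441 = n19404 := d12_1 D19441 (iv D19404) (iv F75065)
theorem F76355 : act 2 n19441 = n19380 := d18_1 D19441 (iv D19380) (iv F75066)
theorem F76356 : act 3 n19441 = n19124 := d23_1 D19441 (iv D19124) (iv F75067)
theorem F76357 : act 5 n19441 = n19290 := d30_1 D19441 (iv D19290) (iv D18908) (iv F73238) D19123
theorem F76358 : act 7 n19441 = n19339 := d33_2 (iv F75068) D19441 (iv D19339)
theorem F76359 : act 8 n19441 = n19126 := d34_2 (iv F75069) D19441 (iv D19126)
def n19442 : Q := act 6 n19125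
theorem D19442 : act 6 n19125 = n19442 := rfl
theorem F76360 : act 2 n19442 = n19384 := d18_1 D19442 (iv D19384) (iv F75077)
theorem F76361 : act 4 n19442 = n19126 := d27_1 D19442 (iv D19126) D19125
def n19443 : Q := act 6 n19127
theorem D19443 : act 6 n19127 = n19443 := rfl
theorem F76362 : act 0 n19443 = n19128 := d5_1 D19443 (iv D19128) (iv F75081)
theorem F76363 : act 1 n19443 = n19397 := d12_1 D19443 (iv D19397) (iv F75082)
theorem F76364 : act 2 n19443 = n19263 := d18_1 D19443 (iv D19263) (iv F75083)
theorem F76365 : act 3 n19443 = n19313 := d23_1 D19443 (iv D19313) (iv F75084)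
theorem F76366 : act 4 n19443 = n19282 := d27_1 D19443 (iv D19282) (iv F75085)
theorem F76367 : act 5 n19443 = n19158 := d30_1 D19443 (iv D19158) (iv D18729) (iv F73275) D19127
def n19444 : Q := act 4 n19131
theorem D19444 : act 4 n19131 = n19444 := rfl
theorem F76368 : act 0 n19444 = n19132 := d3_1 D19444 (iv D19132) D19131
theorem F76369 : act 1 n19444 = n19277 := d10_1 D19444 F75645 (iv F75100)
theorem F76370 : act 2 n19444 = n19150 := d16_1 D19444 (iv D19150) (iv F75101)
theorem F76371 : act 6 n19444 = n19248 := d27_2 (iv F75104) D19444 (iv D19248)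
theorem F76372 : act 7 n19444 = n19241 := d28_2 (iv F75105) D19444 F75512
theorem F76373 : act 8 n19444 = n19136 := d29_2 (iv F75106) D19444 (iv D19136)
def n19445 : Q := act 3 n19132
theorem D19445 : act 3 n19132 = n19445 := rfl
theorem F76374 : act 1 n19445 = n19133 := d9_1 D19445 (iv D19133) (iv F75107)
theorem F76375 : act 2 n19445 = n19375 := d15_1 D19445 F76093 F74760 F73551 (iv F75108)
theorem F76376 : act 4 n19445 = n19445 := d21_2 D19132 D19445 (iv D19445) (iv D19132) F73297
theorem F76377 : act 6 n19445 = n19249 := d23_2 (iv F75109) D19445 (iv D19249)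
theorem F76378 : act 7 n19445 = n19214 := d24_2 (iv F75110) D19445 (iv D19214) F73710 D18839
theorem F76379 : act 8 n19445 = n19137 := d25_2 (iv F75111) D19445 (iv D19137)
def n19446 : Q := act 5 n19132
theorem D19446 : act 5 n19132 = n19446 := rfl
theorem F76380 : act 1 n19446 = n19134 := d11_1 D19446 (iv D19134) (iv F75107)
theorem F76381 : act 2 n19446 = n19151 := d17_1 D19446 (iv D19151) (iv F75108)
theorem F76382 : act 4 n19446 = n19394 := d26_1 D19446 F76168 F74792 (iv F73298) D19132
theorem F76383 : act 7 n19446 = n19242 := d31_2 (iv F75110) D19446 (iv D19242)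
theorem F76384 : act 8 n19446 = n19138 := d32_2 (iv F75111) D19446 (iv D19138)
def n19447 : Q := act 5 n19133
theorem D19447 : act 5 n19133 = n19447 := rfl
theorem F76385 : act 0 n19447 = n19272 := d4_1 D19447 F75623 (iv F75112)
theorem F76386 : act 2 n19447 = n19174 := d17_1 D19447 (iv D19174) (iv F75113)
theorem F76387 : act 3 n19447 = n19134 := d22_1 D19447 (iv D19134) D19133
theorem F76388 : act 7 n19447 = n19216 := d31_2 (iv F75116) D19447 (iv D19216)
theorem F76389 : act 8 n19447 = n19139 := d32_2 (iv F75117) D19447 (iv D19139)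
def n19448 : Q := act 6 n19134
theorem D19448 : act 6 n19134 = n19448 := rfl
theorem F76390 : act 0 n19448 = n19281 := d5_1 D19448 F75661 (iv F75118)
theorem F76391 : act 2 n19448 = n19135 := d18_1 D19448 (iv D19135) (iv F75119)
theorem F76392 : act 4 n19448 = n19395 := d27_1 D19448 F76173 (iv F75120)
theorem F76393 : act 5 n19448 = n19252 := d30_1 D19448 (iv D19252) (iv D18854) (iv F73304) D19134
theorem F76394 : act 7 n19448 = n19244 := d33_2 (iv F75121) D19448 (iv D19244)
theorem F76395 : act 8 n19448 = n19140 := d34_2 (iv F75122) D19448 (iv D19140)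
def n19449 : Q := act 5 n19136
theorem D19449 : act 5 n19136 = n19449 := rfl
theorem F76396 : act 0 n19449 = n19138 := d4_1 D19449 (iv D19138) (iv F75130)
theorem F76397 : act 2 n19449 = n19153 := d17_1 D19449 (iv D19153) (iv F75131)
theorem F76398 : act 7 n19449 = n19141 := d31_2 (iv F75133) D19449 (iv D19141)
def n19450 : Q := act 5 n19137
theorem D19450 : act 5 n19137 = n19450 := rfl
theorem F76399 : act 1 n19450 = n19139 := d11_1 D19450 (iv D19139) (iv F75134)
theorem F76400 : act 2 n19450 = n19374 := d17_1 D19450 F76090 (iv F75135)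
theorem F76401 : act 3 n19450 = n19138 := d22_1 D19450 (iv D19138) D19137
theorem F76402 : act 7 n19450 = n19366 := d31_2 (iv F75138) D19450 (iv D19366)
def n19451 : Q := act 6 n19138
theorem D19451 : act 6 n19138 = n19451 := rfl
theorem F76403 : act 1 n19451 = n19140 := d12_1 D19451 (iv D19140) (iv F75139)
theorem F76404 : act 2 n19451 = n19154 := d18_1 D19451 (iv D19154) (iv F75140)
theorem F76405 : act 5 n19451 = n19256 := d30_1 D19451 (iv D19256) (iv D18858) (iv F73319) D19138
theorem F76406 : act 7 n19451 = n19142 := d33_2 (iv F75141) D19451 (iv D19142)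
def n19452 : Q := act 4 n19139
theorem D19452 : act 4 n19139 = n19452 := rfl
theorem F76407 : act 2 n19452 = n19176 := d16_1 D19452 (iv D19176) (iv F75142)
theorem F76408 : act 5 n19452 = n19452 := d26_2 D19139 D19452 (iv D19452) (iv D19139) F73322
def n19453 : Q := act 6 n19139
theorem D19453 : act 6 n19139 = n19453 := rfl
theorem F76409 : act 2 n19453 = n19177 := d18_1 D19453 (iv D19177) (iv F75142)
theorem F76410 : act 3 n19453 = n19140 := d23_1 D19453 (iv D19140) (iv F75143)
theorem F76411 : act 5 n19453 = n19258 := d30_1 D19453 (iv D19258) (iv D18859) (iv F73323) D19139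
def n19454 : Q := act 6 n19141
theorem D19454 : act 6 n19141 = n19454 := rfl
theorem F76412 : act 0 n19454 = n19142 := d5_1 D19454 (iv D19142) (iv F75147)
theorem F76413 : act 2 n19454 = n19158 := d18_1 D19454 (iv D19158) (iv F75148)
theorem F76414 : act 5 n19454 = n19263 := d30_1 D19454 (iv D19263) (iv D18867) (iv F73336) D19141
theorem F76415 : act 8 n19454 = n19443 := d34_2 (iv F75149) D19454 (iv D19443)
def n19455 : Q := act 5 n19144
theorem D19455 : act 5 n19144 = n19455 := rfl
theorem F76416 : act 1 n19455 = n19145 := d11_1 D19455 (iv D19145) (iv F75160)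
theorem F76417 : act 2 n19455 = n19394 := d17_1 D19455 F76168 (iv F75161)
theorem F76418 : act 4 n19455 = n19151 := d26_1 D19455 (iv D19151) (iv D18718) (iv F73351) D19144
theorem F76419 : act 7 n19455 = n19392 := d31_2 (iv F75163) D19455 (iv D19392)
theorem F76420 : act 8 n19455 = n19147 := d32_2 (iv F75164) D19455 (iv D19147)
def n19456 : Q := act 6 n19145
theorem D19456 : act 6 n19145 = n19456 := rfl
theorem F76421 : act 0 n19456 = n19259 := d5_1 D19456 (iv D19259) (iv F75165)
theorem F76422 : act 2 n19456 = n19146 := d18_1 D19456 (iv D19146) (iv F75166)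
theorem F76423 : act 4 n19456 = n19152 := d27_1 D19456 (iv D19152) (iv F75167)
theorem F76424 : act 5 n19456 = n19209 := d30_1 D19456 (iv D19209) (iv D18799) (iv F73357) D19145
theorem F76425 : act 7 n19456 = n19402 := d33_2 (iv F75168) D19456 (iv D19402)
theorem F76426 : act 8 n19456 = n19149 := d34_2 (iv F75169) D19456 (iv D19149)
def n19457 : Q := act 6 n19147
theorem D19457 : act 6 n19147 = n19457 := rfl
theorem F76427 : act 1 n19457 = n19149 := d12_1 D19457 (iv D19149) (iv F75177)
theorem F76428 : act 4 n19457 = n19154 := d27_1 D19457 (iv D19154) (iv F75178)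
theorem F76429 : act 5 n19457 = n19415 := d30_1 D19457 (iv D19415) (iv D19088) (iv F73367) D19147
theorem F76430 : act 7 n19457 = n19156 := d33_2 (iv F75179) D19457 (iv D19156)
def n19458 : Q := act 6 n19148
theorem D19458 : act 6 n19148 = n19458 := rfl
theorem F76431 : act 0 n19458 = n19156 := d5_1 D19458 (iv D19156) (iv F75180)
theorem F76432 : act 3 n19458 = n19149 := d23_1 D19458 (iv D19149) (iv F75181)
theorem F76433 : act 4 n19458 = n19158 := d27_1 D19458 (iv D19158) (iv F75182)
theorem F76434 : act 5 n19458 = n19416 := d30_1 D19458 (iv D19416) (iv D19089) (iv F73371) D19148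
def n19459 : Q := act 5 n19150
theorem D19459 : act 5 n19150 = n19459 := rfl
theorem F76435 : act 0 n19459 = n19151 := d4_1 D19459 (iv D19151) (iv F75187)
theorem F76436 : act 1 n19459 = n19297 := d11_1 D19459 (iv D19297) (iv F75188)
theorem F76437 : act 3 n19459 = n19296 := d22_1 D19459 (iv D19296) (iv F75189)
theorem F76438 : act 8 n19459 = n19153 := d32_2 (iv F75190) D19459 (iv D19153)
def n19460 : Q := act 6 n19151
theorem D19460 : act 6 n19151 = n19460 := rfl
theorem F76439 : act 1 n19460 = n19152 := d12_1 D19460 (iv D19152) (iv F75191)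
theorem F76440 : act 8 n19460 = n19154 := d34_2 (iv F75192) D19460 (iv D19154)
def n19461 : Q := act 6 n19153
theorem D19461 : act 6 n19153 = n19461 := rfl
theorem F76441 : act 0 n19461 = n19154 := d5_1 D19461 (iv D19154) (iv F75195)
theorem F76442 : act 1 n19461 = n19360 := d12_1 D19461 (iv D19360) (iv F75196)
theorem F76443 : act 3 n19461 = n19359 := d23_1 D19461 (iv D19359) (iv F75197)
theorem F76444 : act 7 n19461 = n19158 := d33_2 (iv F75198) D19461 (iv D19158)
def n19462 : Q := act 3 n19159
theorem D19462 : act 3 n19159 = n19462 := rfl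
theorem F76445 : act 0 n19462 = n19223 := d2_1 D19462 (iv D19223) (iv F75213)
theorem F76446 : act 1 n19462 = n19160 := d9_1 D19462 (iv D19160) (iv F75214)
theorem F76447 : act 4 n19462 = n19462 := d21_2 D19159 D19462 (iv D19462) (iv D19159) F73414
theorem F76448 : act 6 n19462 = n19214 := d23_2 (iv F75216) D19462 (iv D19214)
theorem F76449 : act 7 n19462 = n19249 := d24_2 (iv F75217) D19462 (iv D19249) F73854 (iv F73551)
theorem F76450 : act 8 n19462 = n19163 := d25_2 (iv F75218) D19462 (iv D19163)
def n19463 : Q := act 5 n19159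
theorem D19463 : act 5 n19159 = n19463 := rfl
theorem F76451 : act 0 n19463 = n19224 := d4_1 D19463 (iv D19224) (iv F75213)
theorem F76452 : act 1 n19463 = n19161 := d11_1 D19463 (iv D19161) (iv F75214)
theorem F76453 : act 2 n19463 = n19238 := d17_1 D19463 F75501 (iv F75215)
theorem F76454 : act 4 n19463 = n19235 := d26_1 D19463 F75488 F73764 (iv F73415) D19159
theorem F76455 : act 7 n19463 = n19184 := d31_2 (iv F75217) D19463 (iv D19184)
theorem F76456 : act 8 n19463 = n19164 := d32_2 (iv F75218) D19463 (iv D19164)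
def n19464 : Q := act 5 n19160
theorem D19464 : act 5 n19160 = n19464 := rfl
theorem F76457 : act 0 n19464 = n19174 := d4_1 D19464 (iv D19174) (iv F75219)
theorem F76458 : act 2 n19464 = n19272 := d17_1 D19464 F75623 (iv F75220)
theorem F76459 : act 3 n19464 = n19161 := d22_1 D19464 (iv D19161) D19160
theorem F76460 : act 7 n19464 = n19251 := d31_2 (iv F75223) D19464 (iv D19251)
theorem F76461 : act 8 n19464 = n19165 := d32_2 (iv F75224) D19464 (iv D19165)
def n19465 : Q := act 6 n19161
theorem D19465 : act 6 n19161 = n19465 := rfl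
theorem F76462 : act 0 n19465 = n19175 := d5_1 D19465 (iv D19175) (iv F75225)
theorem F76463 : act 2 n19465 = n19162 := d18_1 D19465 (iv D19162) (iv F75226)
theorem F76464 : act 5 n19465 = n19217 := d30_1 D19465 (iv D19217) (iv D18810) (iv F73421) D19161
theorem F76465 : act 7 n19465 = n19185 := d33_2 (iv F75227) D19465 (iv D19185)
theorem F76466 : act 8 n19465 = n19166 := d34_2 (iv F75228) D19465 (iv D19166)
def n19466 : Q := act 5 n19163
theorem D19466 : act 5 n19163 = n19466 := rfl
theorem F76467 : act 0 n19466 = n19228 := d4_1 D19466 (iv D19228) (iv F75235)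
theorem F76468 : act 1 n19466 = n19165 := d11_1 D19466 (iv D19165) (iv F75236)
theorem F76469 : act 3 n19466 = n19164 := d22_1 D19466 (iv D19164) D19163
theorem F76470 : act 7 n19466 = n19172 := d31_2 (iv F75239) D19466 (iv D19172)
def n19467 : Q := act 6 n19164
theorem D19467 : act 6 n19164 = n19467 := rfl
theorem F76471 : act 0 n19467 = n19229 := d5_1 D19467 (iv D19229) (iv F75240)
theorem F76472 : act 1 n19467 = n19166 := d12_1 D19467 (iv D19166) (iv F75241)
theorem F76473 : act 2 n19467 = n19236 := d18_1 D19467 F75492 (iv F75242)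
theorem F76474 : act 4 n19467 = n19234 := d27_1 D19467 F75485 (iv F75243)
theorem F76475 : act 5 n19467 = n19220 := d30_1 D19467 (iv D19220) (iv D18813) (iv F73432) D19164
theorem F76476 : act 7 n19467 = n19167 := d33_2 (iv F75244) D19467 (iv D19167)
def n19468 : Q := act 4 n19165
theorem D19468 : act 4 n19165 = n19468 := rfl
theorem F76477 : act 0 n19468 = n19176 := d3_1 D19468 (iv D19176) (iv F75245)
theorem F76478 : act 5 n19468 = n19468 := d26_2 D19165 D19468 (iv D19468) (iv D19165) F73435
def n19469 : Q := act 6 n19165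
theorem D19469 : act 6 n19165 = n19469 := rfl
theorem F76479 : act 0 n19469 = n19177 := d5_1 D19469 (iv D19177) (iv F75245)
theorem F76480 : act 3 n19469 = n19166 := d23_1 D19469 (iv D19166) (iv F75246)
theorem F76481 : act 5 n19469 = n19222 := d30_1 D19469 (iv D19222) (iv D18814) (iv F73436) D19165
def n19470 : Q := act 5 n19168
theorem D19470 : act 5 n19168 = n19470 := rfl
theorem F76482 : act 0 n19470 = n19317 := d4_1 D19470 (iv D19317) (iv F75258)
theorem F76483 : act 2 n19470 = n19172 := d17_1 D19470 (iv D19172) (iv F75259)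
theorem F76484 : act 3 n19470 = n19169 := d22_1 D19470 (iv D19169) D19168
theorem F76485 : act 8 n19470 = n19368 := d32_2 (iv F75262) D19470 (iv D19368)
def n19471 : Q := act 6 n19169
theorem D19471 : act 6 n19169 = n19471 := rfl
theorem F76486 : act 0 n19471 = n19318 := d5_1 D19471 (iv D19318) (iv F75263)
theorem F76487 : act 2 n19471 = n19170 := d18_1 D19471 (iv D19170) (iv F75264)
theorem F76488 : act 4 n19471 = n19465 := d27_1 D19471 (iv D19465) (iv F75265)
theorem F76489 : act 5 n19471 = n19371 := d30_1 D19471 (iv D19371) (iv D19032) (iv F73455) D19169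
theorem F76490 : act 7 n19471 = n19323 := d33_2 (iv F75266) D19471 (iv D19323)
theorem F76491 : act 8 n19471 = n19369 := d34_2 (iv F75267) D19471 (iv D19369)
def n19472 : Q := act 4 n19172
theorem D19472 : act 4 n19172 = n19472 := rfl
theorem F76492 : act 3 n19472 = n19176 := d21_1 D19472 (iv D19176) F73485 (iv F73470) (iv F75280)
theorem F76493 : act 5 n19472 = n19472 := d26_2 D19172 D19472 (iv D19472) (iv D19172) F73468
def n19473 : Q := act 6 n19172
theorem D19473 : act 6 n19172 = n19473 := rfl
theorem F76494 : act 3 n19473 = n19173 := d23_1 D19473 (iv D19173) (iv F75280)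
def n19474 : Q := act 4 n19174
theorem D19474 : act 4 n19174 = n19474 := rfl
theorem F76495 : act 5 n19474 = n19474 := d26_2 D19174 D19474 (iv D19474) (iv D19174) F73475
theorem F76496 : act 8 n19474 = n19176 := d29_2 (iv F75285) D19474 (iv D19176)
def n19475 : Q := act 6 n19174
theorem D19475 : act 6 n19174 = n19475 := rfl
theorem F76497 : act 3 n19475 = n19175 := d23_1 D19475 (iv D19175) (iv F75284)

end Cfsg.Agent.Helper17.Fi22bTC
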