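import Cfsg.Agent.Helper17.Fi22bTC.Facts6

set_option autoImplicit false
set_option linter.all false

noncomputable section

namespace Cfsg.Agent.Helper17.Fi22bTC

theorem F76498 : act 5 n19475 = n19271 := d30_1 D19475 (iv D19271) (iv D18877) (iv F73476) D19174
theorem F76499 : act 8 n19475 = n19177 := d34_2 (iv F75285) D19475 (iv D19177)
def n19476 : Q := act 6 n19176
theorem D19476 : act 6 n19176 = n19476 := rfl
theorem F76500 : act 4 n19476 = n19177 := d27_1 D19476 (iv D19177) D19176
def n19477 : Q := act 6 n19180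
theorem D19477 : act 6 n19180 = n19477 := rfl
theorem F76501 : act 0 n19477 = n19187 := d5_1 D19477 (iv D19187) (iv F75299)
theorem F76502 : act 1 n19477 = n19391 := d12_1 D19477 (iv D19391) (iv F75300)
theorem F76503 : act 2 n19477 = n19181 := d18_1 D19477 (iv D19181) (iv F75301)
theorem F76504 : act 3 n19477 = n19454 := d23_1 D19477 (iv D19454) (iv F75302)
theorem F76505 : act 4 n19477 = n19328 := d27_1 D19477 (iv D19328) (iv F75303)
theorem F76506 : act 5 n19477 = n19323 := d30_1 D19477 (iv D19323) (iv D18967) (iv F73527) D19180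
theorem F76507 : act 7 n19477 = n19371 := d33_2 (iv F75304) D19477 (iv D19371)
theorem F76508 : act 8 n19477 = n19313 := d34_2 (iv F75305) D19477 (iv D19313)
def n19478 : Q := act 6 n19184
theorem D19478 : act 6 n19184 = n19478 := rfl
theorem F76509 : act 1 n19478 = n19185 := d12_1 D19478 (iv D19185) (iv F75324)
theorem F76510 : act 3 n19478 = n19460 := d23_1 D19478 (iv D19460) (iv F75325)
theorem F76511 : act 5 n19478 = n19243 := d30_1 D19478 (iv D19243) (iv D18840) (iv F73552) D19184
theorem F76512 : act 8 n19478 = n19186 := d34_2 (iv F75326) D19478 (iv D19186)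
def n19479 : Q := act 3 n19190
theorem D19479 : act 3 n19190 = n19479 := rfl
theorem F76513 : act 0 n19479 = n19191 := d2_1 D19479 (iv D19191) (iv F75352)
theorem F76514 : act 1 n19479 = n19335 := d9_1 D19479 F75927 (iv F75353)
theorem F76515 : act 2 n19479 = n19199 := d15_1 D19479 F75378 (iv F74126) F74127 (iv F75354)
theorem F76516 : act 4 n19479 = n19479 := d21_2 D19190 D19479 (iv D19479) (iv D19190) F73628
theorem F76517 : act 7 n19479 = n19376 := d24_2 F75400 D19479 F76097 (iv F75163) (iv F75399)
theorem F76518 : act 8 n19479 = n19194 := d25_2 (iv F75355) D19479 F75367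
def n19480 : Q := act 5 n19190
theorem D19480 : act 5 n19190 = n19480 := rfl
theorem F76519 : act 0 n19480 = n19192 := d4_1 D19480 (iv D19192) (iv F75352)
theorem F76520 : act 1 n19480 = n19396 := d11_1 D19480 (iv D19396) (iv F75353)
theorem F76521 : act 2 n19480 = n19210 := d17_1 D19480 (iv D19210) (iv F75354)
theorem F76522 : act 8 n19480 = n19407 := d32_2 (iv F75355) D19480 (iv D19407)
def n19481 : Q := act 5 n19191
theorem D19481 : act 5 n19191 = n19481 := rfl
theorem F76523 : act 1 n19481 = n19193 := d11_1 D19481 (iv D19193) (iv F75356)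
theorem F76524 : act 3 n19481 = n19192 := d22_1 D19481 (iv D19192) D19191
theorem F76525 : act 8 n19481 = n19408 := d32_2 (iv F75358) D19481 (iv D19408)
def n19482 : Q := act 7 n19191
theorem D19482 : act 7 n19191 = n19482 := rfl
theorem F76526 : act 0 n19482 = n19376 := d6_1 D19482 (iv F76517) F76513
theorem F76527 : act 1 n19482 = n19194 := d13_1 D19482 (iv D19194) (iv F75356)
theorem F76528 : act 2 n19482 = n19331 := d19_1 D19482 F75909 F75679
theorem F76529 : act 3 n19482 = n19388 := d24_1 D19482 (iv F76145) (iv D19206) F73673 D19191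
theorem F76530 : act 4 n19482 = n19482 := d28_1 D19482 (iv D19482) F75357
theorem F76531 : act 6 n19482 = n19479 := d33_1 D19482 F76517 F76099
theorem F76532 : act 8 n19482 = n19335 := d35_2 (iv F75358) D19482 F75930 F74847 (iv F74890)
def n19483 : Q := act 6 n19192
theorem D19483 : act 6 n19192 = n19483 := rfl
theorem F76533 : act 1 n19483 = n19195 := d12_1 D19483 (iv D19195) (iv F75359)
theorem F76534 : act 2 n19483 = n19211 := d18_1 D19483 (iv D19211) (iv F75360)
theorem F76535 : act 8 n19483 = n19409 := d34_2 (iv F75361) D19483 (iv D19409)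
def n19484 : Q := act 4 n19193
theorem D19484 : act 4 n19193 = n19484 := rfl
theorem F76536 : act 2 n19484 = n19196 := d16_1 D19484 (iv D19196) (iv F75362)
theorem F76537 : act 5 n19484 = n19484 := d26_2 D19193 D19484 (iv D19484) (iv D19193) F73634
theorem F76538 : act 8 n19484 = n19410 := d29_2 (iv F75364) D19484 (iv D19410)
def n19485 : Q := act 6 n19193
theorem D19485 : act 6 n19193 = n19485 := rfl
theorem F76539 : act 2 n19485 = n19197 := d18_1 D19485 (iv D19197) (iv F75362)
theorem F76540 : act 3 n19485 = n19195 := d23_1 D19485 (iv D19195) (iv F75363)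
theorem F76541 : act 8 n19485 = n19411 := d34_2 (iv F75364) D19485 (iv D19411)
def n19486 : Q := act 7 n19193
theorem D19486 : act 7 n19193 = n19486 := rfl
theorem F76542 : act 0 n19486 = n19408 := d6_1 D19486 F76226 F75532
theorem F76543 : act 2 n19486 = n19198 := d19_1 D19486 (iv D19198) (iv F75362)
theorem F76544 : act 3 n19486 = n19407 := d24_1 D19486 F76222 F75414 F73682 (iv F75363)
theorem F76545 : act 5 n19486 = n19194 := d31_1 D19486 (iv D19194) D19193
def n19487 : Q := act 6 n19196
theorem D19487 : act 6 n19196 = n19487 := rfl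
theorem F76546 : act 4 n19487 = n19197 := d27_1 D19487 (iv D19197) D19196
theorem F76547 : act 8 n19487 = n19412 := d34_2 (iv F75372) D19487 (iv D19412)
def n19488 : Q := act 7 n19196
theorem D19488 : act 7 n19196 = n19488 := rfl
theorem F76548 : act 4 n19488 = n19198 := d28_1 D19488 (iv D19198) D19196
theorem F76549 : act 5 n19488 = n19488 := d31_1 D19488 (iv D19488) F75371
def n19489 : Q := act 7 n19197
theorem D19489 : act 7 n19197 = n19489 := rfl
theorem F76550 : act 3 n19489 = n19212 := d24_1 D19489 (iv D19212) F73703 (iv F73646) (iv F75373)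
theorem F76551 : act 6 n19489 = n19198 := d33_1 D19489 (iv D19198) D19197
def n19490 : Q := act 8 n19198
theorem D19490 : act 8 n19198 = n19490 := rfl
theorem F76552 : act 1 n19490 = n19329 := d14_1 D19490 F75901 F75705
theorem F76553 : act 3 n19490 = n19213 := d25_1 D19490 (iv D19213) (iv F75375)
theorem F76554 : act 5 n19490 = n19199 := d32_1 D19490 (iv D19199) (iv F75376)
theorem F76555 : act 7 n19490 = n19377 := d35_1 D19490 F76103 F74733 (iv F73642) D19198
def n19491 : Q := act 3 n19200
theorem D19491 : act 3 n19200 = n19491 := rfl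
theorem F76556 : act 0 n19491 = n19201 := d2_1 D19491 (iv D19201) (iv F75381)
theorem F76557 : act 1 n19491 = n19253 := d9_1 D19491 (iv D19253) (iv F75382)
theorem F76558 : act 2 n19491 = n19343 := d15_1 D19491 F75960 (iv F75161) (iv F75399) F75398
theorem F76559 : act 4 n19491 = n19491 := d21_2 D19200 D19491 (iv D19491) (iv D19200) F73649
theorem F76560 : act 7 n19491 = n19233 := d24_2 (iv F75383) D19491 F75482 (iv F74129) F74127
theorem F76561 : act 8 n19491 = n19226 := d25_2 F75748 D19491 (iv F75745)
def n19492 : Q := act 5 n19200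
theorem D19492 : act 5 n19200 = n19492 := rfl
theorem F76562 : act 0 n19492 = n19202 := d4_1 D19492 (iv D19202) (iv F75381)
theorem F76563 : act 1 n19492 = n19254 := d11_1 D19492 (iv D19254) (iv F75382)
theorem F76564 : act 4 n19492 = n19480 := d26_1 D19492 (iv D19480) (iv D19190) (iv F73650) D19200
theorem F76565 : act 7 n19492 = n19210 := d31_2 (iv F75383) D19492 (iv D19210)
def n19493 : Q := act 2 n19201
theorem D19493 : act 2 n19201 = n19493 := rfl
theorem F76566 : act 0 n19493 = n19343 := d1_1 D19493 (iv F76558) F76556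
theorem F76567 : act 1 n19493 = n19218 := d8_1 D19493 (iv D19218) F73722 (iv F73655) (iv F75384)
theorem F76568 : act 3 n19493 = n19390 := d15_2 D19201 D19493 F76152 (iv D19206) F73672
theorem F76569 : act 4 n19493 = n19493 := d16_2 F75385 D19493 (iv D19493)
theorem F76570 : act 6 n19493 = n19491 := d18_2 F75962 D19493 F76558
theorem F76571 : act 7 n19493 = n19340 := d19_2 F75712 D19493 F75946
theorem F76572 : act 8 n19493 = n19424 := d20_2 F75836 D19493 F76283
def n19494 : Q := act 5 n19201
theorem D19494 : act 5 n19201 = n19494 := rfl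
theorem F76573 : act 1 n19494 = n19203 := d11_1 D19494 (iv D19203) (iv F75384)
theorem F76574 : act 3 n19494 = n19202 := d22_1 D19494 (iv D19202) D19201
def n19495 : Q := act 6 n19202
theorem D19495 : act 6 n19202 = n19495 := rfl
theorem F76575 : act 1 n19495 = n19204 := d12_1 D19495 (iv D19204) (iv F75386)
theorem F76576 : act 4 n19495 = n19483 := d27_1 D19495 (iv D19483) (iv F75387)
theorem F76577 : act 7 n19495 = n19211 := d33_2 (iv F75388) D19495 (iv D19211)
def n19496 : Q := act 4 n19203
theorem D19496 : act 4 n19203 = n19496 := rfl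
theorem F76578 : act 0 n19496 = n19257 := d3_1 D19496 (iv D19257) (iv F75389)
theorem F76579 : act 2 n19496 = n19221 := d16_1 D19496 (iv D19221) (iv F75390)
theorem F76580 : act 3 n19496 = n19484 := d21_1 D19496 (iv D19484) F75363 (iv F73659) (iv F75391)
theorem F76581 : act 5 n19496 = n19496 := d26_2 D19203 D19496 (iv D19496) (iv D19203) F73656
def n19497 : Q := act 6 n19203
theorem D19497 : act 6 n19203 = n19497 := rfl
theorem F76582 : act 0 n19497 = n19258 := d5_1 D19497 (iv D19258) (iv F75389)
theorem F76583 : act 2 n19497 = n19222 := d18_1 D19497 (iv D19222) (iv F75390)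
theorem F76584 : act 3 n19497 = n19204 := d23_1 D19497 (iv D19204) (iv F75391)
def n19498 : Q := act 5 n19205
theorem D19498 : act 5 n19205 = n19498 := rfl
theorem F76585 : act 0 n19498 = n19207 := d4_1 D19498 (iv D19207) (iv F75396)
theorem F76586 : act 1 n19498 = n19260 := d11_1 D19498 (iv D19260) (iv F75397)
theorem F76587 : act 2 n19498 = n19492 := d17_1 D19498 (iv D19492) (iv F75398)
theorem F76588 : act 3 n19498 = n19455 := d22_1 D19498 (iv D19455) (iv F75399)
theorem F76589 : act 4 n19498 = n19210 := d26_1 D19498 (iv D19210) (iv D18801) (iv F73668) D19205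
theorem F76590 : act 7 n19498 = n19480 := d31_2 (iv F75400) D19498 (iv D19480)
theorem F76591 : act 8 n19498 = n19413 := d32_2 (iv F75401) D19498 (iv D19413)
def n19499 : Q := act 5 n19206
theorem D19499 : act 5 n19206 = n19499 := rfl
theorem F76592 : act 0 n19499 = n19455 := d4_1 D19499 (iv D19455) (iv F75402)
theorem F76593 : act 1 n19499 = n19208 := d11_1 D19499 (iv D19208) (iv F75403)
theorem F76594 : act 3 n19499 = n19207 := d22_1 D19499 (iv D19207) D19206
theorem F76595 : act 4 n19499 = n19459 := d26_1 D19499 (iv D19459) (iv D19150) (iv F73700) (iv F75404)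
theorem F76596 : act 8 n19499 = n19414 := d32_2 (iv F75406) D19499 (iv D19414)
def n19500 : Q := act 6 n19207
theorem D19500 : act 6 n19207 = n19500 := rfl
theorem F76597 : act 1 n19500 = n19209 := d12_1 D19500 (iv D19209) (iv F75407)
theorem F76598 : act 2 n19500 = n19495 := d18_1 D19500 (iv D19495) (iv F75408)
theorem F76599 : act 4 n19500 = n19211 := d27_1 D19500 (iv D19211) (iv F75409)
theorem F76600 : act 7 n19500 = n19483 := d33_2 (iv F75410) D19500 (iv D19483)
theorem F76601 : act 8 n19500 = n19415 := d34_2 (iv F75411) D19500 (iv D19415)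
def n19501 : Q := act 6 n19208
theorem D19501 : act 6 n19208 = n19501 := rfl
theorem F76602 : act 0 n19501 = n19262 := d5_1 D19501 (iv D19262) (iv F75412)
theorem F76603 : act 2 n19501 = n19360 := d18_1 D19501 (iv D19360) (iv F75413)
theorem F76604 : act 3 n19501 = n19209 := d23_1 D19501 (iv D19209) (iv F75414)
theorem F76605 : act 8 n19501 = n19416 := d34_2 (iv F75415) D19501 (iv D19416)
def n19502 : Q := act 6 n19210
theorem D19502 : act 6 n19210 = n19502 := rfl
theorem F76606 : act 0 n19502 = n19211 := d5_1 D19502 (iv D19211) (iv F75421)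
theorem F76607 : act 1 n19502 = n19263 := d12_1 D19502 (iv D19263) (iv F75422)
theorem F76608 : act 8 n19502 = n19417 := d34_2 (iv F75423) D19502 (iv D19417)
def n19503 : Q := act 8 n19212
theorem D19503 : act 8 n19212 = n19503 := rfl
theorem F76609 : act 1 n19503 = n19330 := d14_1 D19503 F75904 F75780
theorem F76610 : act 6 n19503 = n19213 := d34_1 D19503 (iv D19213) (iv F75426)
theorem F76611 : act 7 n19503 = n19239 := d35_1 D19503 (iv D19239) (iv D18832) (iv F73704) D19212
def n19504 : Q := act 2 n19214
theorem D19504 : act 2 n19214 = n19504 := rfl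
theorem F76612 : act 0 n19504 = n19445 := d1_1 D19504 F76375 F76091
theorem F76613 : act 1 n19504 = n19424 := d8_1 D19504 F76283 F75832 F74867 (iv F75430)
theorem F76614 : act 3 n19504 = n19444 := d15_2 D19214 D19504 F76370 F75189 F74104
theorem F76615 : act 4 n19504 = n19504 := d16_2 F75431 D19504 (iv D19504)
theorem F76616 : act 7 n19504 = n19375 := d19_2 F76378 D19504 (iv F76375)
theorem F76617 : act 8 n19504 = n19218 := d20_2 (iv F75432) D19504 (iv D19218)
def n19505 : Q := act 5 n19214
theorem D19505 : act 5 n19214 = n19505 := rfl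
theorem F76618 : act 1 n19505 = n19216 := d11_1 D19505 (iv D19216) (iv F75430)
theorem F76619 : act 3 n19505 = n19215 := d22_1 D19505 (iv D19215) D19214
theorem F76620 : act 8 n19505 = n19219 := d32_2 (iv F75432) D19505 (iv D19219)
def n19506 : Q := act 6 n19215
theorem D19506 : act 6 n19215 = n19506 := rfl
theorem F76621 : act 1 n19506 = n19217 := d12_1 D19506 (iv D19217) (iv F75433)
theorem F76622 : act 7 n19506 = n19243 := d33_2 (iv F75434) D19506 (iv D19243)
theorem F76623 : act 8 n19506 = n19220 := d34_2 (iv F75435) D19506 (iv D19220)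
def n19507 : Q := act 4 n19216
theorem D19507 : act 4 n19216 = n19507 := rfl
theorem F76624 : act 0 n19507 = n19270 := d3_1 D19507 (iv D19270) (iv F75436)
theorem F76625 : act 5 n19507 = n19507 := d26_2 D19216 D19507 (iv D19507) (iv D19216) F73713
theorem F76626 : act 8 n19507 = n19221 := d29_2 (iv F75438) D19507 (iv D19221)
def n19508 : Q := act 6 n19216
theorem D19508 : act 6 n19216 = n19508 := rfl
theorem F76627 : act 0 n19508 = n19271 := d5_1 D19508 (iv D19271) (iv F75436)
theorem F76628 : act 3 n19508 = n19217 := d23_1 D19508 (iv D19217) (iv F75437)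
theorem F76629 : act 8 n19508 = n19222 := d34_2 (iv F75438) D19508 (iv D19222)
def n19509 : Q := act 5 n19218
theorem D19509 : act 5 n19218 = n19509 := rfl
theorem F76630 : act 0 n19509 = n19450 := d4_1 D19509 (iv D19450) (iv F75443)
theorem F76631 : act 2 n19509 = n19219 := d17_1 D19509 (iv D19219) D19218
theorem F76632 : act 3 n19509 = n19449 := d22_1 D19509 (iv D19449) (iv F75444)
theorem F76633 : act 7 n19509 = n19370 := d31_2 (iv F75446) D19509 (iv D19370)
def n19510 : Q := act 4 n19219
theorem D19510 : act 4 n19219 = n19510 := rfl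
theorem F76634 : act 1 n19510 = n19221 := d10_1 D19510 (iv D19221) (iv F75447)
theorem F76635 : act 5 n19510 = n19510 := d26_2 D19219 D19510 (iv D19510) (iv D19219) F73723
def n19511 : Q := act 6 n19219
theorem D19511 : act 6 n19219 = n19511 := rfl
theorem F76636 : act 1 n19511 = n19222 := d12_1 D19511 (iv D19222) (iv F75447)
theorem F76637 : act 3 n19511 = n19220 := d23_1 D19511 (iv D19220) (iv F75448)
def n19512 : Q := act 6 n19221
theorem D19512 : act 6 n19221 = n19512 := rfl
theorem F76638 : act 0 n19512 = n19273 := d5_1 D19512 (iv D19273) (iv F75451)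
theorem F76639 : act 4 n19512 = n19222 := d27_1 D19512 (iv D19222) D19221
def n19513 : Q := act 5 n19223
theorem D19513 : act 5 n19223 = n19513 := rfl
theorem F76640 : act 1 n19513 = n19225 := d11_1 D19513 (iv D19225) (iv F75455)
theorem F76641 : act 3 n19513 = n19224 := d22_1 D19513 (iv D19224) D19223
theorem F76642 : act 8 n19513 = n19228 := d32_2 (iv F75457) D19513 (iv D19228)
def n19514 : Q := act 7 n19223
theorem D19514 : act 7 n19223 = n19514 := rfl
theorem F76643 : act 0 n19514 = n19249 := d6_1 D19514 (iv F76449) F76445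
theorem F76644 : act 1 n19514 = n19226 := d13_1 D19514 (iv D19226) (iv F75455)
theorem F76645 : act 2 n19514 = n19462 := d19_1 D19514 F76449 F75545
theorem F76646 : act 3 n19514 = n19248 := d24_1 D19514 F75542 F75189 F74106 D19223
theorem F76647 : act 4 n19514 = n19514 := d28_1 D19514 (iv D19514) F75456
theorem F76648 : act 6 n19514 = n19504 := d33_1 D19514 F76616 F76095
theorem F76649 : act 8 n19514 = n19253 := d35_2 (iv F75457) D19514 F75562 F75262 F74683
def n19515 : Q := act 6 n19224
theorem D19515 : act 6 n19224 = n19515 := rfl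
theorem F76650 : act 1 n19515 = n19227 := d12_1 D19515 (iv D19227) (iv F75458)
theorem F76651 : act 2 n19515 = n19243 := d18_1 D19515 (iv D19243) (iv F75459)
theorem F76652 : act 8 n19515 = n19229 := d34_2 (iv F75460) D19515 (iv D19229)
def n19516 : Q := act 4 n19225
theorem D19516 : act 4 n19225 = n19516 := rfl
theorem F76653 : act 2 n19516 = n19434 := d16_1 D19516 (iv D19434) (iv F75461)
theorem F76654 : act 5 n19516 = n19516 := d26_2 D19225 D19516 (iv D19516) (iv D19225) F73737
theorem F76655 : act 8 n19516 = n19230 := d29_2 (iv F75463) D19516 (iv D19230)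
def n19517 : Q := act 6 n19225
theorem D19517 : act 6 n19225 = n19517 := rfl
theorem F76656 : act 2 n19517 = n19435 := d18_1 D19517 (iv D19435) (iv F75461)
theorem F76657 : act 3 n19517 = n19227 := d23_1 D19517 (iv D19227) (iv F75462)
theorem F76658 : act 8 n19517 = n19231 := d34_2 (iv F75463) D19517 (iv D19231)
def n19518 : Q := act 7 n19225
theorem D19518 : act 7 n19225 = n19518 := rfl
theorem F76659 : act 2 n19518 = n19436 := d19_1 D19518 (iv D19436) (iv F75461)
theorem F76660 : act 5 n19518 = n19226 := d31_1 D19518 (iv D19226) D19225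
def n19519 : Q := act 4 n19228
theorem D19519 : act 4 n19228 = n19519 := rfl
theorem F76661 : act 1 n19519 = n19230 := d10_1 D19519 (iv D19230) (iv F75468)
theorem F76662 : act 5 n19519 = n19519 := d26_2 D19228 D19519 (iv D19519) (iv D19228) F73745
def n19520 : Q := act 6 n19228
theorem D19520 : act 6 n19228 = n19520 := rfl
theorem F76663 : act 1 n19520 = n19231 := d12_1 D19520 (iv D19231) (iv F75468)
theorem F76664 : act 3 n19520 = n19229 := d23_1 D19520 (iv D19229) (iv F75469)
def n19521 : Q := act 6 n19230
theorem D19521 : act 6 n19230 = n19521 := rfl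
theorem F76665 : act 2 n19521 = n19437 := d18_1 D19521 (iv D19437) (iv F75473)
theorem F76666 : act 4 n19521 = n19231 := d27_1 D19521 (iv D19231) D19230
def n19522 : Q := act 7 n19230
theorem D19522 : act 7 n19230 = n19522 := rfl
theorem F76667 : act 2 n19522 = n19350 := d19_1 D19522 F75990 (iv F75473)
theorem F76668 : act 4 n19522 = n19232 := d28_1 D19522 (iv D19232) D19230
theorem F76669 : act 5 n19522 = n19522 := d31_1 D19522 (iv D19522) F75474
def n19523 : Q := act 7 n19231
theorem D19523 : act 7 n19231 = n19523 := rfl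
theorem F76670 : act 2 n19523 = n19351 := d19_1 D19523 F75993 (iv F75475)
theorem F76671 : act 3 n19523 = n19234 := d24_1 D19523 (iv D19234) F73759 (iv F73755) (iv F75476)
theorem F76672 : act 6 n19523 = n19232 := d33_1 D19523 (iv D19232) D19231
def n19524 : Q := act 8 n19232
theorem D19524 : act 8 n19232 = n19524 := rfl
theorem F76673 : act 1 n19524 = n19470 := d14_1 D19524 F76485 F76066
theorem F76674 : act 2 n19524 = n19342 := d20_1 D19524 F75958 (iv F75477)
theorem F76675 : act 3 n19524 = n19235 := d25_1 D19524 (iv D19235) (iv F75478)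
theorem F76676 : act 5 n19524 = n19233 := d32_1 D19524 (iv D19233) (iv F75479)
def n19525 : Q := act 8 n19234
theorem D19525 : act 8 n19234 = n19525 := rfl
theorem F76677 : act 1 n19525 = n19471 := d14_1 D19525 F76491 F76071
theorem F76678 : act 2 n19525 = n19239 := d20_1 D19525 (iv D19239) (iv F75484)
theorem F76679 : act 6 n19525 = n19235 := d34_1 D19525 (iv D19235) (iv F75485)
def n19526 : Q := act 3 n19236
theorem D19526 : act 3 n19236 = n19526 := rfl
theorem F76680 : act 0 n19526 = n19245 := d2_1 D19526 F75528 (iv F75489)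
theorem F76681 : act 1 n19526 = n19282 := d9_1 D19526 F75663 (iv F75490)
theorem F76682 : act 4 n19526 = n19397 := d21_2 (iv F75491) D19526 F76180 F74813 (iv F73772)
theorem F76683 : act 5 n19526 = n19461 := d22_2 F76030 D19526 F76443
theorem F76684 : act 6 n19526 = n19237 := d23_2 (iv F75492) D19526 (iv D19237)
theorem F76685 : act 7 n19526 = n19443 := d24_2 D19236 D19526 F76365 F75826 F74325
def n19527 : Q := act 8 n19236
theorem D19527 : act 8 n19236 = n19527 := rfl
theorem F76686 : act 0 n19527 = n19243 := d7_1 D19527 F75520 (iv F75489)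
theorem F76687 : act 1 n19527 = n19278 := d14_1 D19527 F75649 (iv F75490)
theorem F76688 : act 4 n19527 = n19239 := d29_1 D19527 (iv D19239) (iv F75491)
theorem F76689 : act 6 n19527 = n19238 := d34_1 D19527 (iv D19238) (iv F75492)
def n19528 : Q := act 8 n19237
theorem D19528 : act 8 n19237 = n19528 := rfl
theorem F76690 : act 0 n19528 = n19242 := d7_1 D19528 F75518 (iv F75493)
theorem F76691 : act 1 n19528 = n19276 := d14_1 D19528 F75642 (iv F75494)
theorem F76692 : act 3 n19528 = n19238 := d25_1 D19528 (iv D19238) D19237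
theorem F76693 : act 4 n19528 = n19389 := d29_1 D19528 F76149 (iv F75495)
theorem F76694 : act 5 n19528 = n19241 := d32_1 D19528 F75514 (iv F75496)
def n19529 : Q := act 6 n19242
theorem D19529 : act 6 n19242 = n19529 := rfl
theorem F76695 : act 1 n19529 = n19244 := d12_1 D19529 (iv D19244) (iv F75515)
theorem F76696 : act 3 n19529 = n19243 := d23_1 D19529 (iv D19243) (iv F75516)
theorem F76697 : act 4 n19529 = n19393 := d27_1 D19529 (iv D19393) (iv F75517)
theorem F76698 : act 5 n19529 = n19460 := d30_1 D19529 (iv D19460) (iv D19151) (iv F73800) D19242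
theorem F76699 : act 8 n19529 = n19245 := d34_2 (iv F75518) D19529 (iv D19245)
def n19530 : Q := act 4 n19246
theorem D19530 : act 4 n19246 = n19530 := rfl
theorem F76700 : act 0 n19530 = n19484 := d3_1 D19530 (iv D19484) (iv F75532)
theorem F76701 : act 2 n19530 = n19399 := d16_1 D19530 (iv D19399) (iv F75533)
theorem F76702 : act 3 n19530 = n19257 := d21_1 D19530 (iv D19257) F73875 (iv F73840) (iv F75534)
theorem F76703 : act 5 n19530 = n19530 := d26_2 D19246 D19530 (iv D19530) (iv D19246) F73836
def n19531 : Q := act 6 n19246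
theorem D19531 : act 6 n19246 = n19531 := rfl
theorem F76704 : act 0 n19531 = n19485 := d5_1 D19531 (iv D19485) (iv F75532)
theorem F76705 : act 2 n19531 = n19400 := d18_1 D19531 (iv D19400) (iv F75533)
theorem F76706 : act 3 n19531 = n19247 := d23_1 D19531 (iv D19247) (iv F75534)
theorem F76707 : act 5 n19531 = n19411 := d30_1 D19531 (iv D19411) (iv D19081) (iv F73837) D19246
def n19532 : Q := act 5 n19248
theorem D19532 : act 5 n19248 = n19532 := rfl
theorem F76708 : act 0 n19532 = n19250 := d4_1 D19532 (iv D19250) (iv F75540)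
theorem F76709 : act 2 n19532 = n19528 := d17_1 D19532 F76694 (iv F75541)
theorem F76710 : act 7 n19532 = n19459 := d31_2 (iv F75542) D19532 (iv D19459)
theorem F76711 : act 8 n19532 = n19254 := d32_2 (iv F75543) D19532 (iv D19254)
def n19533 : Q := act 5 n19249
theorem D19533 : act 5 n19249 = n19533 := rfl
theorem F76712 : act 1 n19533 = n19251 := d11_1 D19533 (iv D19251) (iv F75544)
theorem F76713 : act 2 n19533 = n19513 := d17_1 D19533 (iv D19513) (iv F75545)
theorem F76714 : act 3 n19533 = n19250 := d22_1 D19533 (iv D19250) D19249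
theorem F76715 : act 8 n19533 = n19255 := d32_2 (iv F75547) D19533 (iv D19255)
def n19534 : Q := act 6 n19250
theorem D19534 : act 6 n19250 = n19534 := rfl
theorem F76716 : act 1 n19534 = n19252 := d12_1 D19534 (iv D19252) (iv F75548)
theorem F76717 : act 2 n19534 = n19529 := d18_1 D19534 (iv D19529) (iv F75549)
theorem F76718 : act 7 n19534 = n19460 := d33_2 (iv F75550) D19534 (iv D19460)
theorem F76719 : act 8 n19534 = n19256 := d34_2 (iv F75551) D19534 (iv D19256)
def n19535 : Q := act 4 n19251
theorem D19535 : act 4 n19251 = n19535 := rfl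
theorem F76720 : act 2 n19535 = n19270 := d16_1 D19535 (iv D19270) (iv F75552)
theorem F76721 : act 5 n19535 = n19535 := d26_2 D19251 D19535 (iv D19535) (iv D19251) F73857
theorem F76722 : act 8 n19535 = n19257 := d29_2 (iv F75554) D19535 (iv D19257)
def n19536 : Q := act 6 n19251
theorem D19536 : act 6 n19251 = n19536 := rfl
theorem F76723 : act 2 n19536 = n19271 := d18_1 D19536 (iv D19271) (iv F75552)
theorem F76724 : act 3 n19536 = n19252 := d23_1 D19536 (iv D19252) (iv F75553)
theorem F76725 : act 8 n19536 = n19258 := d34_2 (iv F75554) D19536 (iv D19258)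
def n19537 : Q := act 5 n19253
theorem D19537 : act 5 n19253 = n19537 := rfl
theorem F76726 : act 0 n19537 = n19255 := d4_1 D19537 (iv D19255) (iv F75558)
theorem F76727 : act 2 n19537 = n19466 := d17_1 D19537 (iv D19466) (iv F75559)
theorem F76728 : act 3 n19537 = n19254 := d22_1 D19537 (iv D19254) D19253
theorem F76729 : act 7 n19537 = n19470 := d31_2 (iv F75562) D19537 (iv D19470)
def n19538 : Q := act 6 n19254
theorem D19538 : act 6 n19254 = n19538 := rfl
theorem F76730 : act 0 n19538 = n19256 := d5_1 D19538 (iv D19256) (iv F75563)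
theorem F76731 : act 2 n19538 = n19526 := d18_1 D19538 F76684 (iv F75564)
theorem F76732 : act 7 n19538 = n19263 := d33_2 (iv F75565) D19538 (iv D19263)
def n19539 : Q := act 4 n19255
theorem D19539 : act 4 n19255 = n19539 := rfl
theorem F76733 : act 1 n19539 = n19257 := d10_1 D19539 (iv D19257) (iv F75566)
theorem F76734 : act 2 n19539 = n19519 := d16_1 D19539 (iv D19519) (iv F75567)
theorem F76735 : act 5 n19539 = n19539 := d26_2 D19255 D19539 (iv D19539) (iv D19255) F73870
def n19540 : Q := act 6 n19255
theorem D19540 : act 6 n19255 = n19540 := rfl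
theorem F76736 : act 1 n19540 = n19258 := d12_1 D19540 (iv D19258) (iv F75566)
theorem F76737 : act 2 n19540 = n19520 := d18_1 D19540 (iv D19520) (iv F75567)
theorem F76738 : act 3 n19540 = n19256 := d23_1 D19540 (iv D19256) (iv F75568)
def n19541 : Q := act 6 n19257
theorem D19541 : act 6 n19257 = n19541 := rfl
theorem F76739 : act 2 n19541 = n19273 := d18_1 D19541 (iv D19273) (iv F75572)
theorem F76740 : act 4 n19541 = n19258 := d27_1 D19541 (iv D19258) D19257
def n19542 : Q := act 6 n19260
theorem D19542 : act 6 n19260 = n19542 := rfl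
theorem F76741 : act 0 n19542 = n19261 := d5_1 D19542 (iv D19261) (iv F75581)
theorem F76742 : act 2 n19542 = n19282 := d18_1 D19542 (iv D19282) (iv F75582)
theorem F76743 : act 3 n19542 = n19456 := d23_1 D19542 (iv D19456) (iv F75583)
theorem F76744 : act 4 n19542 = n19263 := d27_1 D19542 (iv D19263) (iv F75584)
theorem F76745 : act 5 n19542 = n19501 := d30_1 D19542 (iv D19501) (iv D19208) (iv F73890) D19260
theorem F76746 : act 8 n19542 = n19458 := d34_2 (iv F75585) D19542 (iv D19458)
def n19543 : Q := act 4 n19264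
theorem D19543 : act 4 n19264 = n19543 := rfl
theorem F76747 : act 0 n19543 = n19353 := d3_1 D19543 (iv D19353) (iv F75598)
theorem F76748 : act 1 n19543 = n19438 := d10_1 D19543 (iv D19438) (iv F75599)
theorem F76749 : act 2 n19543 = n19268 := d16_1 D19543 (iv D19268) (iv F75600)
theorem F76750 : act 3 n19543 = n19399 := d21_1 D19543 (iv D19399) F74837 (iv F73917) (iv F75601)
theorem F76751 : act 5 n19543 = n19543 := d26_2 D19264 D19543 (iv D19543) (iv D19264) F73911
theorem F76752 : act 7 n19543 = n19364 := d28_2 (iv F75602) D19543 (iv D19364)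
def n19544 : Q := act 6 n19264
theorem D19544 : act 6 n19264 = n19544 := rfl
theorem F76753 : act 0 n19544 = n19354 := d5_1 D19544 (iv D19354) (iv F75598)
theorem F76754 : act 1 n19544 = n19439 := d12_1 D19544 (iv D19439) (iv F75599)
theorem F76755 : act 2 n19544 = n19269 := d18_1 D19544 (iv D19269) (iv F75600)
theorem F76756 : act 3 n19544 = n19265 := d23_1 D19544 (iv D19265) (iv F75601)
theorem F76757 : act 5 n19544 = n19419 := d30_1 D19544 (iv D19419) (iv D19095) (iv F73912) D19264
theorem F76758 : act 7 n19544 = n19365 := d33_2 (iv F75602) D19544 (iv D19365)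
def n19545 : Q := act 4 n19266
theorem D19545 : act 4 n19266 = n19545 := rfl
theorem F76759 : act 3 n19545 = n19270 := d21_1 D19545 (iv D19270) F73938 (iv F73928) (iv F75609)
theorem F76760 : act 5 n19545 = n19545 := d26_2 D19266 D19545 (iv D19545) (iv D19266) F73925
theorem F76761 : act 8 n19545 = n19268 := d29_2 (iv F75610) D19545 (iv D19268)
def n19546 : Q := act 6 n19266
theorem D19546 : act 6 n19266 = n19546 := rfl
theorem F76762 : act 3 n19546 = n19267 := d23_1 D19546 (iv D19267) (iv F75609)
theorem F76763 : act 8 n19546 = n19269 := d34_2 (iv F75610) D19546 (iv D19269)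
def n19547 : Q := act 6 n19268
theorem D19547 : act 6 n19268 = n19547 := rfl
theorem F76764 : act 3 n19547 = n19273 := d23_1 D19547 (iv D19273) (iv F75615)
theorem F76765 : act 4 n19547 = n19269 := d27_1 D19547 (iv D19269) D19268
def n19548 : Q := act 6 n19270
theorem D19548 : act 6 n19270 = n19548 := rfl
theorem F76766 : act 4 n19548 = n19271 := d27_1 D19548 (iv D19271) D19270
theorem F76767 : act 8 n19548 = n19273 := d34_2 (iv F75619) D19548 (iv D19273)
def n19549 : Q := act 7 n19270
theorem D19549 : act 7 n19270 = n19549 := rfl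
theorem F76768 : act 4 n19549 = n19272 := d28_1 D19549 (iv D19272) D19270
theorem F76769 : act 5 n19549 = n19549 := d31_1 D19549 (iv D19549) F75618
theorem F76770 : act 3 n19452 = n19549 := d21_5 F76768 F75622 F74004 (iv F75143) D19452
def n19550 : Q := act 7 n19271
theorem D19550 : act 7 n19271 = n19550 := rfl
theorem F76771 : act 3 n19550 = n19281 := d24_1 D19550 (iv D19281) F74000 (iv F73943) (iv F75620)
theorem F76772 : act 6 n19550 = n19272 := d33_1 D19550 (iv D19272) D19271
def n19551 : Q := act 5 n19273
theorem D19551 : act 5 n19273 = n19551 := rfl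
theorem F76773 : act 6 n19551 = n19551 := d30_2 D19273 D19551 (iv D19551) (iv D19273) F73945
def n19552 : Q := act 6 n19276
theorem D19552 : act 6 n19276 = n19552 := rfl
theorem F76774 : act 0 n19552 = n19279 := d5_1 D19552 (iv D19279) (iv F75638)
theorem F76775 : act 2 n19552 = n19458 := d18_1 D19552 (iv D19458) (iv F75639)
theorem F76776 : act 3 n19552 = n19278 := d23_1 D19552 (iv D19278) (iv F75640)
theorem F76777 : act 4 n19552 = n19454 := d27_1 D19552 (iv D19454) (iv F75641)
theorem F76778 : act 8 n19552 = n19282 := d34_2 (iv F75642) D19552 (iv D19282)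
def n19553 : Q := act 7 n19276
theorem D19553 : act 7 n19276 = n19553 := rfl
theorem F76779 : act 0 n19553 = n19280 := d6_1 D19553 (iv D19280) (iv F75638)
theorem F76780 : act 2 n19553 = n19414 := d19_1 D19553 F76245 (iv F75639)
theorem F76781 : act 4 n19553 = n19449 := d28_1 D19553 F76398 (iv F75641)
theorem F76782 : act 5 n19553 = n19277 := d31_1 D19553 (iv D19277) D19276
def n19554 : Q := act 7 n19279
theorem D19554 : act 7 n19279 = n19554 := rfl
theorem F76783 : act 1 n19554 = n19281 := d13_1 D19554 (iv D19281) (iv F75650)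
theorem F76784 : act 2 n19554 = n19457 := d19_1 D19554 F76430 (iv F75651)
theorem F76785 : act 4 n19554 = n19451 := d28_1 D19554 F76406 (iv F75653)
theorem F76786 : act 6 n19554 = n19280 := d33_1 D19554 (iv D19280) D19279
def n19555 : Q := act 4 n19283
theorem D19555 : act 4 n19283 = n19555 := rfl
theorem F76787 : act 0 n19555 = n19289 := d3_1 D19555 (iv D19289) (iv F75664)
theorem F76788 : act 1 n19555 = n19418 := d10_1 D19555 (iv D19418) (iv F75665)
theorem F76789 : act 2 n19555 = n19545 := d16_1 D19555 (iv D19545) (iv F75666)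
theorem F76790 : act 3 n19555 = n19403 := d21_1 D19555 (iv D19403) F74859 (iv F74034) (iv F75667)
theorem F76791 : act 5 n19555 = n19555 := d26_2 D19283 D19555 (iv D19555) (iv D19283) F74027
theorem F76792 : act 7 n19555 = n19432 := d28_2 (iv F75668) D19555 (iv D19432)
theorem F76793 : act 8 n19555 = n19543 := d29_2 (iv F75669) D19555 (iv D19543)
def n19556 : Q := act 6 n19283
theorem D19556 : act 6 n19283 = n19556 := rfl
theorem F76794 : act 0 n19556 = n19290 := d5_1 D19556 (iv D19290) (iv F75664)
theorem F76795 : act 1 n19556 = n19419 := d12_1 D19556 (iv D19419) (iv F75665)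
theorem F76796 : act 2 n19556 = n19546 := d18_1 D19556 (iv D19546) (iv F75666)
theorem F76797 : act 3 n19556 = n19284 := d23_1 D19556 (iv D19284) (iv F75667)
theorem F76798 : act 5 n19556 = n19439 := d30_1 D19556 (iv D19439) (iv D19121) (iv F74028) D19283
theorem F76799 : act 7 n19556 = n19433 := d33_2 (iv F75668) D19556 (iv D19433)
theorem F76800 : act 8 n19556 = n19544 := d34_2 (iv F75669) D19556 (iv D19544)
def n19557 : Q := act 5 n19285
theorem D19557 : act 5 n19285 = n19557 := rfl
theorem F76801 : act 0 n19557 = n19490 := d4_1 D19557 F76554 (iv F75677)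
theorem F76802 : act 1 n19557 = n19287 := d11_1 D19557 (iv D19287) (iv F75678)
theorem F76803 : act 2 n19557 = n19481 := d17_1 D19557 (iv D19481) (iv F75679)
theorem F76804 : act 3 n19557 = n19286 := d22_1 D19557 (iv D19286) D19285
theorem F76805 : act 8 n19557 = n19355 := d32_2 (iv F75682) D19557 (iv D19355)
def n19558 : Q := act 6 n19286
theorem D19558 : act 6 n19286 = n19558 := rfl
theorem F76806 : act 0 n19558 = n19503 := d5_1 D19558 F76610 (iv F75683)
theorem F76807 : act 1 n19558 = n19288 := d12_1 D19558 (iv D19288) (iv F75684)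
theorem F76808 : act 2 n19558 = n19301 := d18_1 D19558 (iv D19301) (iv F75685)
theorem F76809 : act 4 n19558 = n19506 := d27_1 D19558 (iv D19506) (iv F75686)
theorem F76810 : act 5 n19558 = n19378 := d30_1 D19558 (iv D19378) (iv D19038) (iv F74047) D19286
theorem F76811 : act 7 n19558 = n19422 := d33_2 (iv F75687) D19558 F76277
theorem F76812 : act 8 n19558 = n19356 := d34_2 (iv F75688) D19558 (iv D19356)
def n19559 : Q := act 4 n19287
theorem D19559 : act 4 n19287 = n19559 := rfl
theorem F76813 : act 0 n19559 = n19545 := d3_1 D19559 (iv D19545) (iv F75689)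
theorem F76814 : act 2 n19559 = n19289 := d16_1 D19559 (iv D19289) (iv F75690)
theorem F76815 : act 3 n19559 = n19507 := d21_1 D19559 (iv D19507) F75437 (iv F74057) (iv F75691)
theorem F76816 : act 5 n19559 = n19559 := d26_2 D19287 D19559 (iv D19559) (iv D19287) F74052
theorem F76817 : act 8 n19559 = n19357 := d29_2 (iv F75692) D19559 (iv D19357)
def n19560 : Q := act 6 n19287
theorem D19560 : act 6 n19287 = n19560 := rfl
theorem F76818 : act 0 n19560 = n19546 := d5_1 D19560 (iv D19546) (iv F75689)
theorem F76819 : act 2 n19560 = n19290 := d18_1 D19560 (iv D19290) (iv F75690)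
theorem F76820 : act 3 n19560 = n19288 := d23_1 D19560 (iv D19288) (iv F75691)
theorem F76821 : act 5 n19560 = n19380 := d30_1 D19560 (iv D19380) (iv D19039) (iv F74053) D19287
theorem F76822 : act 8 n19560 = n19358 := d34_2 (iv F75692) D19560 (iv D19358)
def n19561 : Q := act 6 n19289
theorem D19561 : act 6 n19289 = n19561 := rfl
theorem F76823 : act 1 n19561 = n19487 := d12_1 D19561 (iv D19487) (iv F75699)
theorem F76824 : act 3 n19561 = n19412 := d23_1 D19561 (iv D19412) (iv F75700)
theorem F76825 : act 4 n19561 = n19290 := d27_1 D19561 (iv D19290) D19289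
def n19562 : Q := act 7 n19289
theorem D19562 : act 7 n19289 = n19562 := rfl
theorem F76826 : act 0 n19562 = n19432 := d6_1 D19562 (iv F76792) F76787
theorem F76827 : act 1 n19562 = n19488 := d13_1 D19562 (iv D19488) (iv F75699)
theorem F76828 : act 4 n19562 = n19291 := d28_1 D19562 (iv D19291) D19289
theorem F76829 : act 5 n19562 = n19562 := d31_1 D19562 (iv D19562) F75701
theorem F76830 : act 3 n19426 = n19562 := d21_5 F76828 F75706 F74205 (iv F74988) D19426
def n19563 : Q := act 7 n19290
theorem D19563 : act 7 n19290 = n19563 := rfl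
theorem F76831 : act 0 n19563 = n19433 := d6_1 D19563 (iv F76799) F76794
theorem F76832 : act 1 n19563 = n19489 := d13_1 D19563 (iv D19489) (iv F75702)
theorem F76833 : act 3 n19563 = n19304 := d24_1 D19563 (iv D19304) F74198 (iv F74077) (iv F75703)
theorem F76834 : act 5 n19563 = n19339 := d31_1 D19563 (iv F76358) F76357
theorem F76835 : act 6 n19563 = n19291 := d33_1 D19563 (iv D19291) D19290
def n19564 : Q := act 5 n19292
theorem D19564 : act 5 n19292 = n19564 := rfl
theorem F76836 : act 0 n19564 = n19524 := d4_1 D19564 F76676 (iv F75708)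
theorem F76837 : act 1 n19564 = n19294 := d11_1 D19564 (iv D19294) (iv F75709)
theorem F76838 : act 3 n19564 = n19293 := d22_1 D19564 (iv D19293) D19292
theorem F76839 : act 7 n19564 = n19494 := d31_2 (iv F75712) D19564 (iv D19494)
theorem F76840 : act 8 n19564 = n19324 := d32_2 (iv F75713) D19564 (iv D19324)
def n19565 : Q := act 6 n19293
theorem D19565 : act 6 n19293 = n19565 := rfl
theorem F76841 : act 0 n19565 = n19525 := d5_1 D19565 F76679 (iv F75714)
theorem F76842 : act 1 n19565 = n19295 := d12_1 D19565 (iv D19295) (iv F75715)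
theorem F76843 : act 2 n19565 = n19422 := d18_1 D19565 F76277 (iv F75716)
theorem F76844 : act 4 n19565 = n19515 := d27_1 D19565 (iv D19515) (iv F75717)
theorem F76845 : act 5 n19565 = n19344 := d30_1 D19565 (iv D19344) (iv D18992) (iv F74081) D19293
theorem F76846 : act 7 n19565 = n19301 := d33_2 (iv F75718) D19565 (iv D19301)
theorem F76847 : act 8 n19565 = n19325 := d34_2 (iv F75719) D19565 (iv D19325)
def n19566 : Q := act 4 n19294
theorem D19566 : act 4 n19294 = n19566 := rfl
theorem F76848 : act 0 n19566 = n19319 := d3_1 D19566 (iv D19319) (iv F75720)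
theorem F76849 : act 2 n19566 = n19311 := d16_1 D19566 (iv D19311) (iv F75721)
theorem F76850 : act 3 n19566 = n19516 := d21_1 D19566 (iv D19516) F75462 (iv F74092) (iv F75722)
theorem F76851 : act 5 n19566 = n19566 := d26_2 D19294 D19566 (iv D19566) (iv D19294) F74086
theorem F76852 : act 7 n19566 = n19496 := d28_2 (iv F75723) D19566 (iv D19496)
theorem F76853 : act 8 n19566 = n19326 := d29_2 (iv F75724) D19566 (iv D19326)
def n19567 : Q := act 6 n19294
theorem D19567 : act 6 n19294 = n19567 := rfl
theorem F76854 : act 0 n19567 = n19320 := d5_1 D19567 (iv D19320) (iv F75720)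
theorem F76855 : act 2 n19567 = n19312 := d18_1 D19567 (iv D19312) (iv F75721)
theorem F76856 : act 3 n19567 = n19295 := d23_1 D19567 (iv D19295) (iv F75722)
theorem F76857 : act 5 n19567 = n19346 := d30_1 D19567 (iv D19346) (iv D18993) (iv F74087) D19294
theorem F76858 : act 7 n19567 = n19497 := d33_2 (iv F75723) D19567 (iv D19497)
theorem F76859 : act 8 n19567 = n19327 := d34_2 (iv F75724) D19567 (iv D19327)
def n19568 : Q := act 6 n19296
theorem D19568 : act 6 n19296 = n19568 := rfl
theorem F76860 : act 0 n19568 = n19478 := d5_1 D19568 (iv D19478) (iv F75731)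
theorem F76861 : act 1 n19568 = n19299 := d12_1 D19568 (iv D19299) (iv F75732)
theorem F76862 : act 2 n19568 = n19506 := d18_1 D19568 (iv D19506) (iv F75733)
theorem F76863 : act 4 n19568 = n19301 := d27_1 D19568 (iv D19301) (iv F75734)
theorem F76864 : act 5 n19568 = n19527 := d30_1 D19568 F76689 F75501 (iv F74105) D19296
theorem F76865 : act 7 n19568 = n19515 := d33_2 (iv F75735) D19568 (iv D19515)
theorem F76866 : act 8 n19568 = n19359 := d34_2 (iv F75736) D19568 (iv D19359)
def n19569 : Q := act 6 n19297
theorem D19569 : act 6 n19297 = n19569 := rfl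
theorem F76867 : act 0 n19569 = n19321 := d5_1 D19569 (iv D19321) (iv F75737)
theorem F76868 : act 2 n19569 = n19416 := d18_1 D19569 (iv D19416) (iv F75738)
theorem F76869 : act 3 n19569 = n19299 := d23_1 D19569 (iv D19299) (iv F75739)
theorem F76870 : act 4 n19569 = n19501 := d27_1 D19569 (iv D19501) (iv F75740)
theorem F76871 : act 5 n19569 = n19552 := d30_1 D19569 (iv D19552) (iv D19276) (iv F74111) D19297
theorem F76872 : act 8 n19569 = n19360 := d34_2 (iv F75741) D19569 (iv D19360)
def n19570 : Q := act 7 n19297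
theorem D19570 : act 7 n19297 = n19570 := rfl
theorem F76873 : act 0 n19570 = n19322 := d6_1 D19570 (iv D19322) (iv F75737)
theorem F76874 : act 1 n19570 = n19532 := d13_1 D19570 F76710 F76436
theorem F76875 : act 2 n19570 = n19413 := d19_1 D19570 F76240 (iv F75738)
theorem F76876 : act 3 n19570 = n19518 := d24_1 D19570 (iv D19518) F75462 (iv F74116) (iv F75739)
theorem F76877 : act 4 n19570 = n19407 := d28_1 D19570 F76222 (iv F75740)
theorem F76878 : act 5 n19570 = n19298 := d31_1 D19570 (iv D19298) D19297
theorem F76879 : act 8 n19570 = n19492 := d35_2 (iv F75741) D19570 F76565 F75423 F74927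
def n19571 : Q := act 6 n19300
theorem D19571 : act 6 n19300 = n19571 := rfl
theorem F76880 : act 0 n19571 = n19301 := d5_1 D19571 (iv D19301) (iv F75755)
theorem F76881 : act 1 n19571 = n19323 := d12_1 D19571 (iv D19323) (iv F75756)
theorem F76882 : act 2 n19571 = n19503 := d18_1 D19571 F76610 (iv F75757)
theorem F76883 : act 3 n19571 = n19502 := d23_1 D19571 (iv D19502) (iv F75758)
theorem F76884 : act 4 n19571 = n19478 := d27_1 D19571 (iv D19478) (iv F75759)
theorem F76885 : act 5 n19571 = n19391 := d30_1 D19571 (iv D19391) (iv D19054) (iv F74128) D19300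
theorem F76886 : act 7 n19571 = n19525 := d33_2 (iv F75760) D19571 F76679
theorem F76887 : act 8 n19571 = n19361 := d34_2 (iv F75761) D19571 (iv D19361)
def n19572 : Q := act 4 n19302
theorem D19572 : act 4 n19302 = n19572 := rfl
theorem F76888 : act 0 n19572 = n19326 := d3_1 D19572 (iv D19326) (iv F75766)
theorem F76889 : act 1 n19572 = n19472 := d10_1 D19572 (iv D19472) (iv F75767)
theorem F76890 : act 2 n19572 = n19345 := d16_1 D19572 (iv D19345) (iv F75768)
theorem F76891 : act 3 n19572 = n19420 := d21_1 D19572 (iv D19420) F74953 (iv F74163) (iv F75769)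
theorem F76892 : act 5 n19572 = n19572 := d26_2 D19302 D19572 (iv D19572) (iv D19302) F74156
theorem F76893 : act 7 n19572 = n19468 := d28_2 (iv F75770) D19572 (iv D19468)
theorem F76894 : act 8 n19572 = n19319 := d29_2 (iv F75771) D19572 (iv D19319)
def n19573 : Q := act 6 n19302
theorem D19573 : act 6 n19302 = n19573 := rfl
theorem F76895 : act 0 n19573 = n19327 := d5_1 D19573 (iv D19327) (iv F75766)
theorem F76896 : act 1 n19573 = n19473 := d12_1 D19573 (iv D19473) (iv F75767)
theorem F76897 : act 2 n19573 = n19346 := d18_1 D19573 (iv D19346) (iv F75768)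
theorem F76898 : act 3 n19573 = n19303 := d23_1 D19573 (iv D19303) (iv F75769)
theorem F76899 : act 5 n19573 = n19312 := d30_1 D19573 (iv D19312) (iv D18940) (iv F74157) D19302
theorem F76900 : act 7 n19573 = n19469 := d33_2 (iv F75770) D19573 (iv D19469)
theorem F76901 : act 8 n19573 = n19320 := d34_2 (iv F75771) D19573 (iv D19320)
def n19574 : Q := act 4 n19305
theorem D19574 : act 4 n19305 = n19574 := rfl
theorem F76902 : act 0 n19574 = n19338 := d3_1 D19574 (iv D19338) (iv F75785)
theorem F76903 : act 1 n19574 = n19364 := d10_1 D19574 (iv D19364) (iv F75786)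
theorem F76904 : act 3 n19574 = n19311 := d21_1 D19574 (iv D19311) F74249 (iv F74215) (iv F75787)
theorem F76905 : act 5 n19574 = n19574 := d26_2 D19305 D19574 (iv D19574) (iv D19305) F74209
theorem F76906 : act 7 n19574 = n19438 := d28_2 (iv F75788) D19574 (iv D19438)
def n19575 : Q := act 6 n19305
theorem D19575 : act 6 n19305 = n19575 := rfl
theorem F76907 : act 0 n19575 = n19339 := d5_1 D19575 (iv D19339) (iv F75785)
theorem F76908 : act 1 n19575 = n19365 := d12_1 D19575 (iv D19365) (iv F75786)
theorem F76909 : act 3 n19575 = n19306 := d23_1 D19575 (iv D19306) (iv F75787)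
theorem F76910 : act 5 n19575 = n19433 := d30_1 D19575 (iv D19433) (iv D19112) (iv F74210) D19305
theorem F76911 : act 7 n19575 = n19439 := d33_2 (iv F75788) D19575 (iv D19439)
def n19576 : Q := act 4 n19307
theorem D19576 : act 4 n19307 = n19576 := rfl
theorem F76912 : act 0 n19576 = n19345 := d3_1 D19576 (iv D19345) (iv F75795)
theorem F76913 : act 2 n19576 = n19326 := d16_1 D19576 (iv D19326) (iv F75796)
theorem F76914 : act 5 n19576 = n19576 := d26_2 D19307 D19576 (iv D19576) (iv D19307) F74224
theorem F76915 : act 7 n19576 = n19452 := d28_2 (iv F75798) D19576 (iv D19452)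
theorem F76916 : act 8 n19576 = n19311 := d29_2 (iv F75799) D19576 (iv D19311)
def n19577 : Q := act 6 n19307
theorem D19577 : act 6 n19307 = n19577 := rfl
theorem F76917 : act 0 n19577 = n19346 := d5_1 D19577 (iv D19346) (iv F75795)
theorem F76918 : act 2 n19577 = n19327 := d18_1 D19577 (iv D19327) (iv F75796)
theorem F76919 : act 3 n19577 = n19308 := d23_1 D19577 (iv D19308) (iv F75797)
theorem F76920 : act 5 n19577 = n19320 := d30_1 D19577 (iv D19320) (iv D18961) (iv F74225) D19307
theorem F76921 : act 7 n19577 = n19453 := d33_2 (iv F75798) D19577 (iv D19453)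
theorem F76922 : act 8 n19577 = n19312 := d34_2 (iv F75799) D19577 (iv D19312)
def n19578 : Q := act 4 n19309
theorem D19578 : act 4 n19309 = n19578 := rfl
theorem F76923 : act 0 n19578 = n19372 := d3_1 D19578 (iv D19372) (iv F75805)
theorem F76924 : act 1 n19578 = n19311 := d10_1 D19578 (iv D19311) (iv F75806)
theorem F76925 : act 3 n19578 = n19364 := d21_1 D19578 (iv D19364) F74658 (iv F74246) (iv F75807)
theorem F76926 : act 5 n19578 = n19578 := d26_2 D19309 D19578 (iv D19578) (iv D19309) F74240
theorem F76927 : act 7 n19578 = n19510 := d28_2 (iv F75808) D19578 (iv D19510)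
def n19579 : Q := act 6 n19309
theorem D19579 : act 6 n19309 = n19579 := rfl
theorem F76928 : act 0 n19579 = n19373 := d5_1 D19579 (iv D19373) (iv F75805)
theorem F76929 : act 1 n19579 = n19312 := d12_1 D19579 (iv D19312) (iv F75806)
theorem F76930 : act 3 n19579 = n19310 := d23_1 D19579 (iv D19310) (iv F75807)
theorem F76931 : act 5 n19579 = n19473 := d30_1 D19579 (iv D19473) (iv D19172) (iv F74241) D19309
theorem F76932 : act 7 n19579 = n19511 := d33_2 (iv F75808) D19579 (iv D19511)
def n19580 : Q := act 6 n19311
theorem D19580 : act 6 n19311 = n19580 := rfl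
theorem F76933 : act 0 n19580 = n19352 := d5_1 D19580 (iv D19352) (iv F75815)
theorem F76934 : act 4 n19580 = n19312 := d27_1 D19580 (iv D19312) D19311
theorem F76935 : act 7 n19580 = n19512 := d33_2 (iv F75817) D19580 (iv D19512)
def n19581 : Q := act 4 n19314
theorem D19581 : act 4 n19314 = n19581 := rfl
theorem F76936 : act 0 n19581 = n19516 := d3_1 D19581 (iv D19516) (iv F75827)
theorem F76937 : act 1 n19581 = n19474 := d10_1 D19581 (iv D19474) (iv F75828)
theorem F76938 : act 3 n19581 = n19319 := d21_1 D19581 (iv D19319) F74372 (iv F74353) (iv F75829)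
theorem F76939 : act 5 n19581 = n19581 := d26_2 D19314 D19581 (iv D19581) (iv D19314) F74347
theorem F76940 : act 8 n19581 = n19420 := d29_2 (iv F75830) D19581 (iv D19420)
def n19582 : Q := act 6 n19314
theorem D19582 : act 6 n19314 = n19582 := rfl
theorem F76941 : act 0 n19582 = n19517 := d5_1 D19582 (iv D19517) (iv F75827)
theorem F76942 : act 1 n19582 = n19475 := d12_1 D19582 (iv D19475) (iv F75828)
theorem F76943 : act 3 n19582 = n19316 := d23_1 D19582 (iv D19316) (iv F75829)
theorem F76944 : act 5 n19582 = n19435 := d30_1 D19582 (iv D19435) (iv D19114) (iv F74348) D19314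
theorem F76945 : act 8 n19582 = n19421 := d34_2 (iv F75830) D19582 (iv D19421)
def n19583 : Q := act 7 n19314
theorem D19583 : act 7 n19314 = n19583 := rfl
theorem F76946 : act 0 n19583 = n19518 := d6_1 D19583 (iv D19518) (iv F75827)
theorem F76947 : act 1 n19583 = n19405 := d13_1 D19583 F76212 (iv F75828)
theorem F76948 : act 3 n19583 = n19322 := d24_1 D19583 (iv D19322) F74384 (iv F74354) (iv F75829)
theorem F76949 : act 5 n19583 = n19315 := d31_1 D19583 (iv D19315) D19314
theorem F76950 : act 8 n19583 = n19494 := d35_2 (iv F75830) D19583 (iv F76839) F76840 F75878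
def n19584 : Q := act 4 n19317
theorem D19584 : act 4 n19317 = n19584 := rfl
theorem F76951 : act 1 n19584 = n19319 := d10_1 D19584 (iv D19319) (iv F75844)
theorem F76952 : act 3 n19584 = n19474 := d21_1 D19584 (iv D19474) F75284 (iv F74368) (iv F75845)
theorem F76953 : act 5 n19584 = n19584 := d26_2 D19317 D19584 (iv D19584) (iv D19317) F74363
theorem F76954 : act 7 n19584 = n19539 := d28_2 (iv F75846) D19584 (iv D19539)
theorem F76955 : act 8 n19584 = n19472 := d29_2 (iv F75847) D19584 (iv D19472)
def n19585 : Q := act 6 n19317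
theorem D19585 : act 6 n19317 = n19585 := rfl
theorem F76956 : act 1 n19585 = n19320 := d12_1 D19585 (iv D19320) (iv F75844)
theorem F76957 : act 3 n19585 = n19318 := d23_1 D19585 (iv D19318) (iv F75845)
theorem F76958 : act 7 n19585 = n19540 := d33_2 (iv F75846) D19585 (iv D19540)
theorem F76959 : act 8 n19585 = n19473 := d34_2 (iv F75847) D19585 (iv D19473)
def n19586 : Q := act 6 n19319
theorem D19586 : act 6 n19319 = n19586 := rfl
theorem F76960 : act 2 n19586 = n19352 := d18_1 D19586 (iv D19352) (iv F75853)
theorem F76961 : act 4 n19586 = n19320 := d27_1 D19586 (iv D19320) D19319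
theorem F76962 : act 7 n19586 = n19541 := d33_2 (iv F75855) D19586 (iv D19541)
def n19587 : Q := act 7 n19321
theorem D19587 : act 7 n19321 = n19587 := rfl
theorem F76963 : act 1 n19587 = n19406 := d13_1 D19587 F76218 (iv F75859)
theorem F76964 : act 2 n19587 = n19415 := d19_1 D19587 F76248 (iv F75860)
theorem F76965 : act 4 n19587 = n19409 := d28_1 D19587 F76230 (iv F75862)
theorem F76966 : act 5 n19587 = n19554 := d31_1 D19587 (iv D19554) (iv F75863)
theorem F76967 : act 6 n19587 = n19322 := d33_1 D19587 (iv D19322) D19321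
theorem F76968 : act 8 n19587 = n19495 := d35_2 (iv F75864) D19587 F76577 F75425 (iv F75351)
def n19588 : Q := act 4 n19324
theorem D19588 : act 4 n19324 = n19588 := rfl
theorem F76969 : act 0 n19588 = n19522 := d3_1 D19588 F76668 (iv F75875)
theorem F76970 : act 1 n19588 = n19326 := d10_1 D19588 (iv D19326) (iv F75876)
theorem F76971 : act 3 n19588 = n19519 := d21_1 D19588 (iv D19519) F75469 (iv F74415) (iv F75877)
theorem F76972 : act 5 n19588 = n19588 := d26_2 D19324 D19588 (iv D19588) (iv D19324) F74409
theorem F76973 : act 7 n19588 = n19420 := d28_2 (iv F75878) D19588 (iv D19420)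
def n19589 : Q := act 6 n19324
theorem D19589 : act 6 n19324 = n19589 := rfl
theorem F76974 : act 0 n19589 = n19523 := d5_1 D19589 F76672 (iv F75875)
theorem F76975 : act 1 n19589 = n19327 := d12_1 D19589 (iv D19327) (iv F75876)
theorem F76976 : act 3 n19589 = n19325 := d23_1 D19589 (iv D19325) (iv F75877)
theorem F76977 : act 5 n19589 = n19351 := d30_1 D19589 (iv D19351) (iv D18998) (iv F74410) D19324
theorem F76978 : act 7 n19589 = n19421 := d33_2 (iv F75878) D19589 (iv D19421)
def n19590 : Q := act 6 n19326
theorem D19590 : act 6 n19326 = n19590 := rfl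
theorem F76979 : act 3 n19590 = n19521 := d23_1 D19590 (iv D19521) (iv F75885)
theorem F76980 : act 4 n19590 = n19327 := d27_1 D19590 (iv D19327) D19326
theorem F76981 : act 7 n19590 = n19476 := d33_2 (iv F75887) D19590 (iv D19476)
def n19591 : Q := act 4 n19329
theorem D19591 : act 4 n19329 = n19591 := rfl
theorem F76982 : act 2 n19591 = n19338 := d16_1 D19591 (iv D19338) (iv F75898)
theorem F76983 : act 5 n19591 = n19591 := d26_2 D19329 D19591 (iv D19591) (iv D19329) F74454
theorem F76984 : act 7 n19591 = n19379 := d28_2 (iv F75900) D19591 (iv D19379)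
theorem F76985 : act 8 n19591 = n19562 := d29_2 (iv F75901) D19591 F76828
def n19592 : Q := act 6 n19329
theorem D19592 : act 6 n19329 = n19592 := rfl
theorem F76986 : act 2 n19592 = n19339 := d18_1 D19592 (iv D19339) (iv F75898)
theorem F76987 : act 3 n19592 = n19330 := d23_1 D19592 (iv D19330) (iv F75899)
theorem F76988 : act 7 n19592 = n19380 := d33_2 (iv F75900) D19592 (iv D19380)
theorem F76989 : act 8 n19592 = n19563 := d34_2 (iv F75901) D19592 F76835
def n19593 : Q := act 5 n19331
theorem D19593 : act 5 n19331 = n19593 := rfl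
theorem F76990 : act 0 n19593 = n19377 := d4_1 D19593 (iv D19377) (iv F75905)
theorem F76991 : act 1 n19593 = n19333 := d11_1 D19593 (iv D19333) (iv F75906)
theorem F76992 : act 3 n19593 = n19332 := d22_1 D19593 (iv D19332) D19331
theorem F76993 : act 7 n19593 = n19557 := d31_2 (iv F75909) D19593 (iv D19557)
theorem F76994 : act 8 n19593 = n19336 := d32_2 (iv F75910) D19593 (iv D19336)
def n19594 : Q := act 6 n19332
theorem D19594 : act 6 n19332 = n19594 := rfl
theorem F76995 : act 0 n19594 = n19378 := d5_1 D19594 (iv D19378) (iv F75911)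
theorem F76996 : act 1 n19594 = n19334 := d12_1 D19594 (iv D19334) (iv F75912)
theorem F76997 : act 2 n19594 = n19391 := d18_1 D19594 (iv D19391) (iv F75913)
theorem F76998 : act 4 n19594 = n19344 := d27_1 D19594 (iv D19344) (iv F75914)
theorem F76999 : act 5 n19594 = n19503 := d30_1 D19594 F76610 F75428 (iv F74471) D19332
theorem F77000 : act 7 n19594 = n19387 := d33_2 (iv F75915) D19594 (iv D19387)
theorem F77001 : act 8 n19594 = n19337 := d34_2 (iv F75916) D19594 (iv D19337)
def n19595 : Q := act 4 n19333
theorem D19595 : act 4 n19333 = n19595 := rfl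
theorem F77002 : act 2 n19595 = n19562 := d16_1 D19595 F76828 (iv F75917)
theorem F77003 : act 3 n19595 = n19345 := d21_1 D19595 (iv D19345) F74515 (iv F74480) (iv F75918)
theorem F77004 : act 5 n19595 = n19595 := d26_2 D19333 D19595 (iv D19595) (iv D19333) F74475
theorem F77005 : act 7 n19595 = n19559 := d28_2 (iv F75919) D19595 (iv D19559)
theorem F77006 : act 8 n19595 = n19338 := d29_2 (iv F75920) D19595 (iv D19338)
def n19596 : Q := act 6 n19333
theorem D19596 : act 6 n19333 = n19596 := rfl
theorem F77007 : act 2 n19596 = n19563 := d18_1 D19596 F76835 (iv F75917)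
theorem F77008 : act 3 n19596 = n19334 := d23_1 D19596 (iv D19334) (iv F75918)
theorem F77009 : act 5 n19596 = n19592 := d30_1 D19596 (iv D19592) (iv D19329) (iv F74476) D19333
theorem F77010 : act 7 n19596 = n19560 := d33_2 (iv F75919) D19596 (iv D19560)
theorem F77011 : act 8 n19596 = n19339 := d34_2 (iv F75920) D19596 (iv D19339)
def n19597 : Q := act 5 n19335
theorem D19597 : act 5 n19335 = n19597 := rfl
theorem F77012 : act 0 n19597 = n19381 := d4_1 D19597 (iv D19381) (iv F75926)
theorem F77013 : act 2 n19597 = n19336 := d17_1 D19597 (iv D19336) D19335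
theorem F77014 : act 3 n19597 = n19396 := d22_1 D19597 (iv D19396) (iv F75927)
theorem F77015 : act 7 n19597 = n19401 := d31_2 (iv F75930) D19597 (iv D19401)
def n19598 : Q := act 4 n19336
theorem D19598 : act 4 n19336 = n19598 := rfl
theorem F77016 : act 0 n19598 = n19382 := d3_1 D19598 (iv D19382) (iv F75931)
theorem F77017 : act 1 n19598 = n19338 := d10_1 D19598 (iv D19338) (iv F75932)
theorem F77018 : act 3 n19598 = n19350 := d21_1 D19598 (iv D19350) F74538 (iv F74496) (iv F75933)
theorem F77019 : act 5 n19598 = n19598 := d26_2 D19336 D19598 (iv D19598) (iv D19336) F74490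
theorem F77020 : act 7 n19598 = n19403 := d28_2 (iv F75934) D19598 (iv D19403)
def n19599 : Q := act 6 n19336
theorem D19599 : act 6 n19336 = n19599 := rfl
theorem F77021 : act 0 n19599 = n19383 := d5_1 D19599 (iv D19383) (iv F75931)
theorem F77022 : act 1 n19599 = n19339 := d12_1 D19599 (iv D19339) (iv F75932)
theorem F77023 : act 3 n19599 = n19337 := d23_1 D19599 (iv D19337) (iv F75933)
theorem F77024 : act 5 n19599 = n19489 := d30_1 D19599 F76551 F75376 (iv F74491) D19336
theorem F77025 : act 7 n19599 = n19404 := d33_2 (iv F75934) D19599 (iv D19404)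
def n19600 : Q := act 6 n19338
theorem D19600 : act 6 n19338 = n19600 := rfl
theorem F77026 : act 3 n19600 = n19352 := d23_1 D19600 (iv D19352) (iv F75941)
theorem F77027 : act 4 n19600 = n19339 := d27_1 D19600 (iv D19339) D19338
def n19601 : Q := act 5 n19340
theorem D19601 : act 5 n19340 = n19601 := rfl
theorem F77028 : act 0 n19601 = n19342 := d4_1 D19601 (iv D19342) (iv F75944)
theorem F77029 : act 1 n19601 = n19370 := d11_1 D19601 (iv D19370) (iv F75945)
theorem F77030 : act 2 n19601 = n19564 := d17_1 D19601 (iv D19564) (iv F75946)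
theorem F77031 : act 3 n19601 = n19341 := d22_1 D19601 (iv D19341) D19340
theorem F77032 : act 8 n19601 = n19348 := d32_2 (iv F75949) D19601 (iv D19348)
def n19602 : Q := act 6 n19341
theorem D19602 : act 6 n19341 = n19602 := rfl
theorem F77033 : act 0 n19602 = n19344 := d5_1 D19602 (iv D19344) (iv F75950)
theorem F77034 : act 1 n19602 = n19371 := d12_1 D19602 (iv D19371) (iv F75951)
theorem F77035 : act 2 n19602 = n19387 := d18_1 D19602 (iv D19387) (iv F75952)
theorem F77036 : act 4 n19602 = n19378 := d27_1 D19602 (iv D19378) (iv F75953)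
theorem F77037 : act 5 n19602 = n19525 := d30_1 D19602 F76679 F75488 (iv F74505) D19341
theorem F77038 : act 7 n19602 = n19391 := d33_2 (iv F75954) D19602 (iv D19391)
theorem F77039 : act 8 n19602 = n19349 := d34_2 (iv F75955) D19602 (iv D19349)
def n19603 : Q := act 4 n19342
theorem D19603 : act 4 n19342 = n19603 := rfl
theorem F77040 : act 1 n19603 = n19345 := d10_1 D19603 (iv D19345) (iv F75956)
theorem F77041 : act 5 n19603 = n19603 := d26_2 D19342 D19603 (iv D19603) (iv D19342) F74509
theorem F77042 : act 8 n19603 = n19350 := d29_2 (iv F75958) D19603 (iv D19350)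
def n19604 : Q := act 6 n19342
theorem D19604 : act 6 n19342 = n19604 := rfl
theorem F77043 : act 1 n19604 = n19346 := d12_1 D19604 (iv D19346) (iv F75956)
theorem F77044 : act 3 n19604 = n19344 := d23_1 D19604 (iv D19344) (iv F75957)
theorem F77045 : act 8 n19604 = n19351 := d34_2 (iv F75958) D19604 (iv D19351)
def n19605 : Q := act 7 n19342
theorem D19605 : act 7 n19342 = n19605 := rfl
theorem F77046 : act 1 n19605 = n19347 := d13_1 D19605 (iv D19347) (iv F75956)
theorem F77047 : act 3 n19605 = n19394 := d24_1 D19605 (iv D19394) F74789 (iv F74513) (iv F75957)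
theorem F77048 : act 5 n19605 = n19343 := d31_1 D19605 (iv D19343) D19342
theorem F77049 : act 8 n19605 = n19436 := d35_2 (iv F75958) D19605 (iv D19436) F75039 (iv F74539)
def n19606 : Q := act 6 n19345
theorem D19606 : act 6 n19345 = n19606 := rfl
theorem F77050 : act 4 n19606 = n19346 := d27_1 D19606 (iv D19346) D19345
theorem F77051 : act 8 n19606 = n19352 := d34_2 (iv F75969) D19606 (iv D19352)
def n19607 : Q := act 7 n19345
theorem D19607 : act 7 n19345 = n19607 := rfl
theorem F77052 : act 0 n19607 = n19452 := d6_1 D19607 (iv F76915) F76912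
theorem F77053 : act 2 n19607 = n19468 := d19_1 D19607 (iv F76893) F76890
theorem F77054 : act 4 n19607 = n19347 := d28_1 D19607 (iv D19347) D19345
theorem F77055 : act 5 n19607 = n19607 := d31_1 D19607 (iv D19607) F75968
theorem F77056 : act 8 n19607 = n19549 := d35_2 (iv F75969) D19607 (iv D19549) F75619 (iv F74544)
def n19608 : Q := act 7 n19346
theorem D19608 : act 7 n19346 = n19608 := rfl
theorem F77057 : act 0 n19608 = n19453 := d6_1 D19608 (iv F76921) F76917
theorem F77058 : act 2 n19608 = n19469 := d19_1 D19608 (iv F76900) F76897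
theorem F77059 : act 3 n19608 = n19395 := d24_1 D19608 (iv D19395) F74799 (iv F74524) (iv F75970)
theorem F77060 : act 5 n19608 = n19497 := d31_1 D19608 (iv F76858) F76857
theorem F77061 : act 6 n19608 = n19347 := d33_1 D19608 (iv D19347) D19346
theorem F77062 : act 8 n19608 = n19550 := d35_2 (iv F75971) D19608 (iv D19550) F75621 (iv F74546)
def n19609 : Q := act 4 n19348
theorem D19609 : act 4 n19348 = n19609 := rfl
theorem F77063 : act 0 n19609 = n19350 := d3_1 D19609 (iv D19350) (iv F75977)
theorem F77064 : act 1 n19609 = n19372 := d10_1 D19609 (iv D19372) (iv F75978)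
theorem F77065 : act 2 n19609 = n19588 := d16_1 D19609 (iv D19588) (iv F75979)
theorem F77066 : act 3 n19609 = n19382 := d21_1 D19609 (iv D19382) F74732 (iv F74535) (iv F75980)
theorem F77067 : act 5 n19609 = n19609 := d26_2 D19348 D19609 (iv D19609) (iv D19348) F74529
theorem F77068 : act 7 n19609 = n19426 := d28_2 (iv F75981) D19609 (iv D19426)
def n19610 : Q := act 6 n19348
theorem D19610 : act 6 n19348 = n19610 := rfl
theorem F77069 : act 0 n19610 = n19351 := d5_1 D19610 (iv D19351) (iv F75977)
theorem F77070 : act 1 n19610 = n19373 := d12_1 D19610 (iv D19373) (iv F75978)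
theorem F77071 : act 2 n19610 = n19589 := d18_1 D19610 (iv D19589) (iv F75979)
theorem F77072 : act 3 n19610 = n19349 := d23_1 D19610 (iv D19349) (iv F75980)
theorem F77073 : act 5 n19610 = n19523 := d30_1 D19610 F76672 F75479 (iv F74530) D19348
theorem F77074 : act 7 n19610 = n19427 := d33_2 (iv F75981) D19610 (iv D19427)
def n19611 : Q := act 6 n19350
theorem D19611 : act 6 n19350 = n19611 := rfl
theorem F77075 : act 1 n19611 = n19352 := d12_1 D19611 (iv D19352) (iv F75988)
theorem F77076 : act 4 n19611 = n19351 := d27_1 D19611 (iv D19351) D19350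
theorem F77077 : act 7 n19611 = n19437 := d33_2 (iv F75990) D19611 (iv D19437)
def n19612 : Q := act 5 n19352
theorem D19612 : act 5 n19352 = n19612 := rfl
theorem F77078 : act 6 n19612 = n19612 := d30_2 D19352 D19612 (iv D19612) (iv D19352) F74543
theorem F77079 : act 7 n19612 = n19551 := d31_2 (iv F75995) D19612 (iv D19551)
def n19613 : Q := act 6 n19353
theorem D19613 : act 6 n19353 = n19613 := rfl
theorem F77080 : act 1 n19613 = n19412 := d12_1 D19613 (iv D19412) (iv F75996)
theorem F77081 : act 3 n19613 = n19487 := d23_1 D19613 (iv D19487) (iv F75997)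
theorem F77082 : act 4 n19613 = n19354 := d27_1 D19613 (iv D19354) D19353
theorem F77083 : act 7 n19613 = n19384 := d33_2 (iv F75999) D19613 (iv D19384)
theorem F77084 : act 8 n19613 = n19561 := d34_2 (iv F76000) D19613 (iv D19561)
def n19614 : Q := act 4 n19355
theorem D19614 : act 4 n19355 = n19614 := rfl
theorem F77085 : act 0 n19614 = n19488 := d3_1 D19614 F76548 (iv F76006)
theorem F77086 : act 1 n19614 = n19357 := d10_1 D19614 (iv D19357) (iv F76007)
theorem F77087 : act 3 n19614 = n19510 := d21_1 D19614 (iv D19510) F75448 (iv F74579) (iv F76008)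
theorem F77088 : act 5 n19614 = n19614 := d26_2 D19355 D19614 (iv D19614) (iv D19355) F74573
theorem F77089 : act 7 n19614 = n19399 := d28_2 (iv F76009) D19614 (iv D19399)
def n19615 : Q := act 6 n19355
theorem D19615 : act 6 n19355 = n19615 := rfl
theorem F77090 : act 0 n19615 = n19489 := d5_1 D19615 F76551 (iv F76006)
theorem F77091 : act 1 n19615 = n19358 := d12_1 D19615 (iv D19358) (iv F76007)
theorem F77092 : act 3 n19615 = n19356 := d23_1 D19615 (iv D19356) (iv F76008)
theorem F77093 : act 5 n19615 = n19383 := d30_1 D19615 (iv D19383) (iv D19042) (iv F74574) D19355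
theorem F77094 : act 7 n19615 = n19400 := d33_2 (iv F76009) D19615 (iv D19400)
def n19616 : Q := act 6 n19357
theorem D19616 : act 6 n19357 = n19616 := rfl
theorem F77095 : act 0 n19616 = n19547 := d5_1 D19616 (iv D19547) (iv F76016)
theorem F77096 : act 2 n19616 = n19613 := d18_1 D19616 (iv D19613) (iv F76017)
theorem F77097 : act 3 n19616 = n19512 := d23_1 D19616 (iv D19512) (iv F76018)
theorem F77098 : act 4 n19616 = n19358 := d27_1 D19616 (iv D19358) D19357
theorem F77099 : act 7 n19616 = n19442 := d33_2 (iv F76020) D19616 (iv D19442)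
def n19617 : Q := act 4 n19362
theorem D19617 : act 4 n19362 = n19617 := rfl
theorem F77100 : act 0 n19617 = n19379 := d3_1 D19617 (iv D19379) (iv F76041)
theorem F77101 : act 2 n19617 = n19438 := d16_1 D19617 (iv D19438) (iv F76042)
theorem F77102 : act 5 n19617 = n19617 := d26_2 D19362 D19617 (iv D19617) (iv D19362) F74644
theorem F77103 : act 8 n19617 = n19364 := d29_2 (iv F76044) D19617 (iv D19364)
def n19618 : Q := act 6 n19362
theorem D19618 : act 6 n19362 = n19618 := rfl
theorem F77104 : act 0 n19618 = n19380 := d5_1 D19618 (iv D19380) (iv F76041)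
theorem F77105 : act 2 n19618 = n19439 := d18_1 D19618 (iv D19439) (iv F76042)
theorem F77106 : act 3 n19618 = n19363 := d23_1 D19618 (iv D19363) (iv F76043)
theorem F77107 : act 5 n19618 = n19546 := d30_1 D19618 (iv D19546) (iv D19266) (iv F74645) D19362
theorem F77108 : act 8 n19618 = n19365 := d34_2 (iv F76044) D19618 (iv D19365)
def n19619 : Q := act 6 n19364
theorem D19619 : act 6 n19364 = n19619 := rfl
theorem F77109 : act 0 n19619 = n19384 := d5_1 D19619 (iv D19384) (iv F76050)
theorem F77110 : act 4 n19619 = n19365 := d27_1 D19619 (iv D19365) D19364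
def n19620 : Q := act 4 n19366
theorem D19620 : act 4 n19366 = n19620 := rfl
theorem F77111 : act 1 n19620 = n19576 := d10_1 D19620 (iv D19576) (iv F76055)
theorem F77112 : act 2 n19620 = n19372 := d16_1 D19620 (iv D19372) (iv F76056)
theorem F77113 : act 3 n19620 = n19617 := d21_1 D19620 (iv D19617) F76043 (iv F74670) (iv F76057)
theorem F77114 : act 5 n19620 = n19620 := d26_2 D19366 D19620 (iv D19620) (iv D19366) F74665
theorem F77115 : act 8 n19620 = n19578 := d29_2 (iv F76058) D19620 (iv D19578)
def n19621 : Q := act 6 n19366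
theorem D19621 : act 6 n19366 = n19621 := rfl
theorem F77116 : act 1 n19621 = n19577 := d12_1 D19621 (iv D19577) (iv F76055)
theorem F77117 : act 2 n19621 = n19373 := d18_1 D19621 (iv D19373) (iv F76056)
theorem F77118 : act 3 n19621 = n19367 := d23_1 D19621 (iv D19367) (iv F76057)
theorem F77119 : act 5 n19621 = n19585 := d30_1 D19621 (iv D19585) (iv D19317) (iv F74666) D19366
theorem F77120 : act 8 n19621 = n19579 := d34_2 (iv F76058) D19621 (iv D19579)
def n19622 : Q := act 4 n19368
theorem D19622 : act 4 n19368 = n19622 := rfl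
theorem F77121 : act 0 n19622 = n19472 := d3_1 D19622 (iv D19472) (iv F76065)
theorem F77122 : act 1 n19622 = n19522 := d10_1 D19622 F76668 (iv F76066)
theorem F77123 : act 2 n19622 = n19584 := d16_1 D19622 (iv D19584) (iv F76067)
theorem F77124 : act 3 n19622 = n19468 := d21_1 D19622 (iv D19468) F75246 (iv F74687) (iv F76068)
theorem F77125 : act 5 n19622 = n19622 := d26_2 D19368 D19622 (iv D19622) (iv D19368) F74681
theorem F77126 : act 7 n19622 = n19519 := d28_2 (iv F76069) D19622 (iv D19519)
def n19623 : Q := act 6 n19368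
theorem D19623 : act 6 n19368 = n19623 := rfl
theorem F77127 : act 0 n19623 = n19473 := d5_1 D19623 (iv D19473) (iv F76065)
theorem F77128 : act 1 n19623 = n19523 := d12_1 D19623 F76672 (iv F76066)
theorem F77129 : act 2 n19623 = n19585 := d18_1 D19623 (iv D19585) (iv F76067)
theorem F77130 : act 3 n19623 = n19369 := d23_1 D19623 (iv D19369) (iv F76068)
theorem F77131 : act 5 n19623 = n19373 := d30_1 D19623 (iv D19373) (iv D19034) (iv F74682) D19368
theorem F77132 : act 7 n19623 = n19520 := d33_2 (iv F76069) D19623 (iv D19520)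
def n19624 : Q := act 4 n19370
theorem D19624 : act 4 n19370 = n19624 := rfl
theorem F77133 : act 0 n19624 = n19620 := d3_1 D19624 (iv D19620) (iv F76076)
theorem F77134 : act 2 n19624 = n19578 := d16_1 D19624 (iv D19578) (iv F76077)
theorem F77135 : act 3 n19624 = n19379 := d21_1 D19624 (iv D19379) F74723 (iv F74700) (iv F76078)
theorem F77136 : act 5 n19624 = n19624 := d26_2 D19370 D19624 (iv D19624) (iv D19370) F74696
theorem F77137 : act 8 n19624 = n19372 := d29_2 (iv F76079) D19624 (iv D19372)
def n19625 : Q := act 6 n19370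
theorem D19625 : act 6 n19370 = n19625 := rfl
theorem F77138 : act 0 n19625 = n19621 := d5_1 D19625 (iv D19621) (iv F76076)
theorem F77139 : act 2 n19625 = n19579 := d18_1 D19625 (iv D19579) (iv F76077)
theorem F77140 : act 3 n19625 = n19371 := d23_1 D19625 (iv D19371) (iv F76078)
theorem F77141 : act 8 n19625 = n19373 := d34_2 (iv F76079) D19625 (iv D19373)
def n19626 : Q := act 6 n19372
theorem D19626 : act 6 n19372 = n19626 := rfl
theorem F77142 : act 3 n19626 = n19384 := d23_1 D19626 (iv D19384) (iv F76084)
theorem F77143 : act 4 n19626 = n19373 := d27_1 D19626 (iv D19373) D19372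
def n19627 : Q := act 7 n19372
theorem D19627 : act 7 n19372 = n19627 := rfl
theorem F77144 : act 0 n19627 = n19510 := d6_1 D19627 (iv F76927) F76923
theorem F77145 : act 1 n19627 = n19426 := d13_1 D19627 (iv F77068) F77064
theorem F77146 : act 3 n19627 = n19488 := d24_1 D19627 (iv D19488) (iv F75997) F75999 (iv F76084)
theorem F77147 : act 4 n19627 = n19374 := d28_1 D19627 (iv D19374) D19372
theorem F77148 : act 5 n19627 = n19627 := d31_1 D19627 (iv D19627) F76085
def n19628 : Q := act 7 n19373
theorem D19628 : act 7 n19373 = n19628 := rfl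
theorem F77149 : act 0 n19628 = n19511 := d6_1 D19628 (iv F76932) F76928
theorem F77150 : act 1 n19628 = n19427 := d13_1 D19628 (iv F77074) F77070
theorem F77151 : act 3 n19628 = n19385 := d24_1 D19628 (iv D19385) F74749 (iv F74715) (iv F76086)
theorem F77152 : act 5 n19628 = n19520 := d31_1 D19628 (iv F77132) F77131
theorem F77153 : act 6 n19628 = n19374 := d33_1 D19628 (iv D19374) D19373
def n19629 : Q := act 8 n19374
theorem D19629 : act 8 n19374 = n19629 := rfl
theorem F77154 : act 0 n19629 = n19505 := d7_1 D19629 F76620 (iv F76087)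
theorem F77155 : act 1 n19629 = n19423 := d14_1 D19629 F76281 (iv F76088)
theorem F77156 : act 3 n19629 = n19386 := d25_1 D19629 (iv D19386) (iv F76089)
theorem F77157 : act 5 n19629 = n19375 := d32_1 D19629 (iv D19375) (iv F76090)
def n19630 : Q := act 5 n19376
theorem D19630 : act 5 n19376 = n19630 := rfl
theorem F77158 : act 1 n19630 = n19401 := d11_1 D19630 (iv D19401) (iv F76096)
theorem F77159 : act 2 n19630 = n19377 := d17_1 D19630 (iv D19377) D19376
theorem F77160 : act 3 n19630 = n19392 := d22_1 D19630 (iv D19392) (iv F76097)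
theorem F77161 : act 8 n19630 = n19381 := d32_2 (iv F76100) D19630 (iv D19381)
def n19631 : Q := act 4 n19377
theorem D19631 : act 4 n19377 = n19631 := rfl
theorem F77162 : act 1 n19631 = n19379 := d10_1 D19631 (iv D19379) (iv F76101)
theorem F77163 : act 5 n19631 = n19631 := d26_2 D19377 D19631 (iv D19631) (iv D19377) F74717
theorem F77164 : act 8 n19631 = n19382 := d29_2 (iv F76103) D19631 (iv D19382)
def n19632 : Q := act 6 n19377
theorem D19632 : act 6 n19377 = n19632 := rfl
theorem F77165 : act 1 n19632 = n19380 := d12_1 D19632 (iv D19380) (iv F76101)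
theorem F77166 : act 3 n19632 = n19378 := d23_1 D19632 (iv D19378) (iv F76102)
theorem F77167 : act 8 n19632 = n19383 := d34_2 (iv F76103) D19632 (iv D19383)
def n19633 : Q := act 6 n19379
theorem D19633 : act 6 n19379 = n19633 := rfl
theorem F77168 : act 4 n19633 = n19380 := d27_1 D19633 (iv D19380) D19379
theorem F77169 : act 8 n19633 = n19384 := d34_2 (iv F76109) D19633 (iv D19384)
def n19634 : Q := act 4 n19381
theorem D19634 : act 4 n19381 = n19634 := rfl
theorem F77170 : act 1 n19634 = n19530 := d10_1 D19634 (iv D19530) (iv F76112)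
theorem F77171 : act 2 n19634 = n19382 := d16_1 D19634 (iv D19382) (iv F76113)
theorem F77172 : act 3 n19634 = n19539 := d21_1 D19634 (iv D19539) F75568 (iv F74817) (iv F76114)
theorem F77173 : act 5 n19634 = n19634 := d26_2 D19381 D19634 (iv D19634) (iv D19381) F74729
theorem F77174 : act 7 n19634 = n19410 := d28_2 (iv F76115) D19634 (iv D19410)
def n19635 : Q := act 6 n19381
theorem D19635 : act 6 n19381 = n19635 := rfl
theorem F77175 : act 1 n19635 = n19531 := d12_1 D19635 (iv D19531) (iv F76112)
theorem F77176 : act 2 n19635 = n19383 := d18_1 D19635 (iv D19383) (iv F76113)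
theorem F77177 : act 3 n19635 = n19398 := d23_1 D19635 (iv D19398) (iv F76114)
theorem F77178 : act 7 n19635 = n19411 := d33_2 (iv F76115) D19635 (iv D19411)
def n19636 : Q := act 6 n19382
theorem D19636 : act 6 n19382 = n19636 := rfl
theorem F77179 : act 1 n19636 = n19384 := d12_1 D19636 (iv D19384) (iv F76116)
theorem F77180 : act 4 n19636 = n19383 := d27_1 D19636 (iv D19383) D19382
theorem F77181 : act 7 n19636 = n19412 := d33_2 (iv F76118) D19636 (iv D19412)
def n19637 : Q := act 5 n19384
theorem D19637 : act 5 n19384 = n19637 := rfl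
theorem F77182 : act 6 n19637 = n19637 := d30_2 D19384 D19637 (iv D19637) (iv D19384) F74737
def n19638 : Q := act 8 n19385
theorem D19638 : act 8 n19385 = n19638 := rfl
theorem F77183 : act 0 n19638 = n19506 := d7_1 D19638 F76623 (iv F76123)
theorem F77184 : act 1 n19638 = n19425 := d14_1 D19638 F76292 (iv F76124)
theorem F77185 : act 2 n19638 = n19478 := d20_1 D19638 F76512 (iv F76125)
theorem F77186 : act 4 n19638 = n19503 := d29_1 D19638 (iv D19503) (iv F76126)
theorem F77187 : act 5 n19638 = n19515 := d32_1 D19638 F76652 (iv F76127)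
theorem F77188 : act 6 n19638 = n19386 := d34_1 D19638 (iv D19386) (iv F76128)
theorem F77189 : act 7 n19638 = n19527 := d35_1 D19638 (iv D19527) (iv D19236) (iv F74752) D19385
def n19639 : Q := act 5 n19388
theorem D19639 : act 5 n19388 = n19639 := rfl
theorem F77190 : act 0 n19639 = n19392 := d4_1 D19639 (iv D19392) (iv F76140)
theorem F77191 : act 1 n19639 = n19407 := d11_1 D19639 (iv D19407) (iv F76141)
theorem F77192 : act 2 n19639 = n19389 := d17_1 D19639 (iv D19389) D19388
theorem F77193 : act 4 n19639 = n19532 := d26_1 D19639 (iv D19532) (iv D19248) (iv F74825) (iv F76142)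
theorem F77194 : act 7 n19639 = n19499 := d31_2 F76145 D19639 (iv D19499)
theorem F77195 : act 8 n19639 = n19396 := d32_2 (iv F76144) D19639 (iv D19396)
def n19640 : Q := act 6 n19389
theorem D19640 : act 6 n19389 = n19640 := rfl
theorem F77196 : act 0 n19640 = n19393 := d5_1 D19640 (iv D19393) (iv F76146)
theorem F77197 : act 1 n19640 = n19454 := d12_1 D19640 (iv D19454) (iv F76147)
theorem F77198 : act 3 n19640 = n19391 := d23_1 D19640 (iv D19391) (iv F76148)
theorem F77199 : act 5 n19640 = n19502 := d30_1 D19640 (iv D19502) (iv D19210) (iv F74779) D19389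
theorem F77200 : act 8 n19640 = n19397 := d34_2 (iv F76149) D19640 (iv D19397)
def n19641 : Q := act 7 n19389
theorem D19641 : act 7 n19389 = n19641 := rfl
theorem F77201 : act 0 n19641 = n19394 := d6_1 D19641 (iv D19394) (iv F76146)
theorem F77202 : act 1 n19641 = n19449 := d13_1 D19641 F76398 (iv F76147)
theorem F77203 : act 2 n19641 = n19499 := d19_1 D19641 (iv F77194) F77192
theorem F77204 : act 5 n19641 = n19390 := d31_1 D19641 (iv D19390) D19389
theorem F77205 : act 8 n19641 = n19553 := d35_2 (iv F76149) D19641 (iv D19553) F75642 (iv F74811)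
def n19642 : Q := act 6 n19392
theorem D19642 : act 6 n19392 = n19642 := rfl
theorem F77206 : act 1 n19642 = n19402 := d12_1 D19642 (iv D19402) (iv F76159)
theorem F77207 : act 2 n19642 = n19393 := d18_1 D19642 (iv D19393) (iv F76160)
theorem F77208 : act 4 n19642 = n19534 := d27_1 D19642 (iv D19534) (iv F76161)
theorem F77209 : act 5 n19642 = n19483 := d30_1 D19642 (iv D19483) (iv D19192) (iv F74786) D19392
theorem F77210 : act 8 n19642 = n19398 := d34_2 (iv F76162) D19642 (iv D19398)
def n19643 : Q := act 7 n19393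
theorem D19643 : act 7 n19393 = n19643 := rfl
theorem F77211 : act 1 n19643 = n19395 := d13_1 D19643 (iv D19395) (iv F76163)
theorem F77212 : act 5 n19643 = n19495 := d31_1 D19643 F76577 (iv F76165)
theorem F77213 : act 6 n19643 = n19394 := d33_1 D19643 (iv D19394) D19393
theorem F77214 : act 8 n19643 = n19554 := d35_2 (iv F76166) D19643 (iv D19554) F75654 (iv F74821)
def n19644 : Q := act 6 n19396
theorem D19644 : act 6 n19396 = n19644 := rfl
theorem F77215 : act 0 n19644 = n19398 := d5_1 D19644 (iv D19398) (iv F76175)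
theorem F77216 : act 2 n19644 = n19397 := d18_1 D19644 (iv D19397) (iv F76176)
theorem F77217 : act 4 n19644 = n19538 := d27_1 D19644 (iv D19538) (iv F76177)
theorem F77218 : act 7 n19644 = n19542 := d33_2 (iv F76178) D19644 (iv D19542)
def n19645 : Q := act 6 n19399
theorem D19645 : act 6 n19399 = n19645 := rfl
theorem F77219 : act 0 n19645 = n19487 := d5_1 D19645 (iv D19487) (iv F76186)
theorem F77220 : act 1 n19645 = n19442 := d12_1 D19645 (iv D19442) (iv F76187)
theorem F77221 : act 4 n19645 = n19400 := d27_1 D19645 (iv D19400) D19399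
def n19646 : Q := act 4 n19401
theorem D19646 : act 4 n19401 = n19646 := rfl
theorem F77222 : act 0 n19646 = n19410 := d3_1 D19646 (iv D19410) (iv F76193)
theorem F77223 : act 2 n19646 = n19403 := d16_1 D19646 (iv D19403) (iv F76194)
theorem F77224 : act 3 n19646 = n19535 := d21_1 D19646 (iv D19535) F75553 (iv F74850) (iv F76195)
theorem F77225 : act 5 n19646 = n19646 := d26_2 D19401 D19646 (iv D19646) (iv D19401) F74845
theorem F77226 : act 8 n19646 = n19530 := d29_2 (iv F76196) D19646 (iv D19530)
def n19647 : Q := act 6 n19401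
theorem D19647 : act 6 n19401 = n19647 := rfl
theorem F77227 : act 0 n19647 = n19411 := d5_1 D19647 (iv D19411) (iv F76193)
theorem F77228 : act 2 n19647 = n19404 := d18_1 D19647 (iv D19404) (iv F76194)
theorem F77229 : act 3 n19647 = n19402 := d23_1 D19647 (iv D19402) (iv F76195)
theorem F77230 : act 5 n19647 = n19485 := d30_1 D19647 (iv D19485) (iv D19193) (iv F74846) D19401
theorem F77231 : act 8 n19647 = n19531 := d34_2 (iv F76196) D19647 (iv D19531)
def n19648 : Q := act 6 n19403
theorem D19648 : act 6 n19403 = n19648 := rfl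
theorem F77232 : act 0 n19648 = n19412 := d5_1 D19648 (iv D19412) (iv F76202)
theorem F77233 : act 4 n19648 = n19404 := d27_1 D19648 (iv D19404) D19403
theorem F77234 : act 8 n19648 = n19645 := d34_2 (iv F76204) D19648 (iv D19645)
def n19649 : Q := act 4 n19405
theorem D19649 : act 4 n19405 = n19649 := rfl
theorem F77235 : act 0 n19649 = n19535 := d3_1 D19649 (iv D19535) (iv F76209)
theorem F77236 : act 2 n19649 = n19507 := d16_1 D19649 (iv D19507) (iv F76210)
theorem F77237 : act 3 n19649 = n19410 := d21_1 D19649 (iv D19410) F74895 (iv F74874) (iv F76211)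
theorem F77238 : act 5 n19649 = n19649 := d26_2 D19405 D19649 (iv D19649) (iv D19405) F74868
theorem F77239 : act 7 n19649 = n19474 := d28_2 (iv F76212) D19649 (iv D19474)
theorem F77240 : act 8 n19649 = n19496 := d29_2 (iv F76213) D19649 (iv D19496)
def n19650 : Q := act 6 n19405
theorem D19650 : act 6 n19405 = n19650 := rfl
theorem F77241 : act 0 n19650 = n19536 := d5_1 D19650 (iv D19536) (iv F76209)
theorem F77242 : act 2 n19650 = n19508 := d18_1 D19650 (iv D19508) (iv F76210)
theorem F77243 : act 3 n19650 = n19406 := d23_1 D19650 (iv D19406) (iv F76211)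
theorem F77244 : act 5 n19650 = n19550 := d30_1 D19650 F76772 F75623 (iv F74869) D19405
theorem F77245 : act 7 n19650 = n19475 := d33_2 (iv F76212) D19650 (iv D19475)
theorem F77246 : act 8 n19650 = n19497 := d34_2 (iv F76213) D19650 (iv D19497)
def n19651 : Q := act 6 n19407
theorem D19651 : act 6 n19407 = n19651 := rfl
theorem F77247 : act 0 n19651 = n19409 := d5_1 D19651 (iv D19409) (iv F76220)
theorem F77248 : act 2 n19651 = n19417 := d18_1 D19651 (iv D19417) (iv F76221)
theorem F77249 : act 5 n19651 = n19644 := d30_1 D19651 (iv D19644) (iv D19396) (iv F74884) D19407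
theorem F77250 : act 7 n19651 = n19501 := d33_2 (iv F76222) D19651 (iv D19501)
def n19652 : Q := act 4 n19408
theorem D19652 : act 4 n19408 = n19652 := rfl
theorem F77251 : act 1 n19652 = n19410 := d10_1 D19652 (iv D19410) (iv F76223)
theorem F77252 : act 2 n19652 = n19614 := d16_1 D19652 (iv D19614) (iv F76224)
theorem F77253 : act 5 n19652 = n19652 := d26_2 D19408 D19652 (iv D19652) (iv D19408) F74888
theorem F77254 : act 7 n19652 = n19530 := d28_2 (iv F76226) D19652 (iv D19530)
def n19653 : Q := act 6 n19408
theorem D19653 : act 6 n19408 = n19653 := rfl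
theorem F77255 : act 1 n19653 = n19411 := d12_1 D19653 (iv D19411) (iv F76223)
theorem F77256 : act 2 n19653 = n19615 := d18_1 D19653 (iv D19615) (iv F76224)
theorem F77257 : act 3 n19653 = n19409 := d23_1 D19653 (iv D19409) (iv F76225)
theorem F77258 : act 5 n19653 = n19635 := d30_1 D19653 (iv D19635) (iv D19381) (iv F74889) D19408
theorem F77259 : act 7 n19653 = n19531 := d33_2 (iv F76226) D19653 (iv D19531)
def n19654 : Q := act 6 n19410
theorem D19654 : act 6 n19410 = n19654 := rfl
theorem F77260 : act 2 n19654 = n19412 := d18_1 D19654 (iv D19412) (iv F76231)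
theorem F77261 : act 4 n19654 = n19411 := d27_1 D19654 (iv D19411) D19410
def n19655 : Q := act 5 n19412
theorem D19655 : act 5 n19412 = n19655 := rfl
theorem F77262 : act 6 n19655 = n19655 := d30_2 D19412 D19655 (iv D19655) (iv D19412) F74897
def n19656 : Q := act 6 n19413
theorem D19656 : act 6 n19413 = n19656 := rfl
theorem F77263 : act 0 n19656 = n19415 := d5_1 D19656 (iv D19415) (iv F76236)
theorem F77264 : act 1 n19656 = n19458 := d12_1 D19656 (iv D19458) (iv F76237)
theorem F77265 : act 3 n19656 = n19457 := d23_1 D19656 (iv D19457) (iv F76238)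
theorem F77266 : act 4 n19656 = n19417 := d27_1 D19656 (iv D19417) (iv F76239)
theorem F77267 : act 7 n19656 = n19416 := d33_2 (iv F76240) D19656 (iv D19416)
def n19657 : Q := act 6 n19414
theorem D19657 : act 6 n19414 = n19657 := rfl
theorem F77268 : act 0 n19657 = n19457 := d5_1 D19657 (iv D19457) (iv F76241)
theorem F77269 : act 1 n19657 = n19416 := d12_1 D19657 (iv D19416) (iv F76242)
theorem F77270 : act 3 n19657 = n19415 := d23_1 D19657 (iv D19415) (iv F76243)
theorem F77271 : act 4 n19657 = n19461 := d27_1 D19657 (iv D19461) (iv F76244)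
theorem F77272 : act 5 n19657 = n19656 := d30_1 D19657 (iv D19656) (iv D19413) (iv F74913) D19414
theorem F77273 : act 7 n19657 = n19458 := d33_2 (iv F76245) D19657 (iv D19458)
def n19658 : Q := act 6 n19418
theorem D19658 : act 6 n19418 = n19658 := rfl
theorem F77274 : act 0 n19658 = n19442 := d5_1 D19658 (iv D19442) (iv F76257)
theorem F77275 : act 2 n19658 = n19619 := d18_1 D19658 (iv D19619) (iv F76258)
theorem F77276 : act 4 n19658 = n19419 := d27_1 D19658 (iv D19419) D19418
theorem F77277 : act 7 n19658 = n19547 := d33_2 (iv F76260) D19658 (iv D19547)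
def n19659 : Q := act 6 n19420
theorem D19659 : act 6 n19420 = n19659 := rfl
theorem F77278 : act 0 n19659 = n19521 := d5_1 D19659 (iv D19521) (iv F76265)
theorem F77279 : act 1 n19659 = n19476 := d12_1 D19659 (iv D19476) (iv F76266)
theorem F77280 : act 4 n19659 = n19421 := d27_1 D19659 (iv D19421) D19420
def n19660 : Q := act 4 n19423
theorem D19660 : act 4 n19423 = n19660 := rfl
theorem F77281 : act 0 n19660 = n19434 := d3_1 D19660 (iv D19434) (iv F76278)
theorem F77282 : act 2 n19660 = n19581 := d16_1 D19660 (iv D19581) (iv F76279)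
theorem F77283 : act 3 n19660 = n19591 := d21_1 D19660 (iv D19591) F75899 (iv F74977) (iv F76280)
theorem F77284 : act 5 n19660 = n19660 := d26_2 D19423 D19660 (iv D19660) (iv D19423) F74972
theorem F77285 : act 8 n19660 = n19426 := d29_2 (iv F76281) D19660 (iv D19426)
def n19661 : Q := act 6 n19423
theorem D19661 : act 6 n19423 = n19661 := rfl
theorem F77286 : act 0 n19661 = n19435 := d5_1 D19661 (iv D19435) (iv F76278)
theorem F77287 : act 2 n19661 = n19582 := d18_1 D19661 (iv D19582) (iv F76279)
theorem F77288 : act 3 n19661 = n19425 := d23_1 D19661 (iv D19425) (iv F76280)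
theorem F77289 : act 5 n19661 = n19517 := d30_1 D19661 (iv D19517) (iv D19225) (iv F74973) D19423
theorem F77290 : act 8 n19661 = n19427 := d34_2 (iv F76281) D19661 (iv D19427)
def n19662 : Q := act 7 n19423
theorem D19662 : act 7 n19423 = n19662 := rfl
theorem F77291 : act 0 n19662 = n19436 := d6_1 D19662 (iv D19436) (iv F76278)
theorem F77292 : act 2 n19662 = n19583 := d19_1 D19662 (iv D19583) (iv F76279)
theorem F77293 : act 3 n19662 = n19553 := d24_1 D19662 (iv D19553) F75640 (iv F74978) (iv F76280)
theorem F77294 : act 5 n19662 = n19424 := d31_1 D19662 (iv D19424) D19423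
def n19663 : Q := act 6 n19426
theorem D19663 : act 6 n19426 = n19663 := rfl
theorem F77295 : act 0 n19663 = n19437 := d5_1 D19663 (iv D19437) (iv F76293)
theorem F77296 : act 2 n19663 = n19659 := d18_1 D19663 (iv D19659) (iv F76294)
theorem F77297 : act 4 n19663 = n19427 := d27_1 D19663 (iv D19427) D19426
def n19664 : Q := act 4 n19428
theorem D19664 : act 4 n19428 = n19664 := rfl
theorem F77298 : act 0 n19664 = n19595 := d3_1 D19664 (iv D19595) (iv F76300)
theorem F77299 : act 1 n19664 = n19617 := d10_1 D19664 (iv D19617) (iv F76301)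
theorem F77300 : act 2 n19664 = n19432 := d16_1 D19664 (iv D19432) (iv F76302)
theorem F77301 : act 3 n19664 = n19576 := d21_1 D19664 (iv D19576) F75797 (iv F75002) (iv F76303)
theorem F77302 : act 5 n19664 = n19664 := d26_2 D19428 D19664 (iv D19664) (iv D19428) F74996
theorem F77303 : act 7 n19664 = n19545 := d28_2 (iv F76304) D19664 (iv D19545)
theorem F77304 : act 8 n19664 = n19574 := d29_2 (iv F76305) D19664 (iv D19574)
def n19665 : Q := act 6 n19428
theorem D19665 : act 6 n19428 = n19665 := rfl
theorem F77305 : act 0 n19665 = n19596 := d5_1 D19665 (iv D19596) (iv F76300)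
theorem F77306 : act 1 n19665 = n19618 := d12_1 D19665 (iv D19618) (iv F76301)
theorem F77307 : act 2 n19665 = n19433 := d18_1 D19665 (iv D19433) (iv F76302)
theorem F77308 : act 3 n19665 = n19429 := d23_1 D19665 (iv D19429) (iv F76303)
theorem F77309 : act 7 n19665 = n19546 := d33_2 (iv F76304) D19665 (iv D19546)
theorem F77310 : act 8 n19665 = n19575 := d34_2 (iv F76305) D19665 (iv D19575)
def n19666 : Q := act 4 n19430
theorem D19666 : act 4 n19430 = n19666 := rfl
theorem F77311 : act 0 n19666 = n19591 := d3_1 D19666 (iv D19591) (iv F76312)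
theorem F77312 : act 1 n19666 = n19545 := d10_1 D19666 (iv D19545) (iv F76313)
theorem F77313 : act 2 n19666 = n19574 := d16_1 D19666 (iv D19574) (iv F76314)
theorem F77314 : act 3 n19666 = n19434 := d21_1 D19666 (iv D19434) F75038 (iv F75021) (iv F76315)
theorem F77315 : act 5 n19666 = n19666 := d26_2 D19430 D19666 (iv D19666) (iv D19430) F75014
theorem F77316 : act 7 n19666 = n19617 := d28_2 (iv F76316) D19666 (iv D19617)
theorem F77317 : act 8 n19666 = n19432 := d29_2 (iv F76317) D19666 (iv D19432)
def n19667 : Q := act 6 n19430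
theorem D19667 : act 6 n19430 = n19667 := rfl
theorem F77318 : act 0 n19667 = n19592 := d5_1 D19667 (iv D19592) (iv F76312)
theorem F77319 : act 1 n19667 = n19546 := d12_1 D19667 (iv D19546) (iv F76313)
theorem F77320 : act 2 n19667 = n19575 := d18_1 D19667 (iv D19575) (iv F76314)
theorem F77321 : act 3 n19667 = n19431 := d23_1 D19667 (iv D19431) (iv F76315)
theorem F77322 : act 5 n19667 = n19665 := d30_1 D19667 (iv D19665) (iv D19428) (iv F75015) D19430
theorem F77323 : act 7 n19667 = n19618 := d33_2 (iv F76316) D19667 (iv D19618)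
theorem F77324 : act 8 n19667 = n19433 := d34_2 (iv F76317) D19667 (iv D19433)
def n19668 : Q := act 6 n19432
theorem D19668 : act 6 n19432 = n19668 := rfl
theorem F77325 : act 1 n19668 = n19547 := d12_1 D19668 (iv D19547) (iv F76325)
theorem F77326 : act 3 n19668 = n19437 := d23_1 D19668 (iv D19437) (iv F76326)
theorem F77327 : act 4 n19668 = n19433 := d27_1 D19668 (iv D19433) D19432
def n19669 : Q := act 6 n19434
theorem D19669 : act 6 n19434 = n19669 := rfl
theorem F77328 : act 1 n19669 = n19548 := d12_1 D19669 (iv D19548) (iv F76330)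
theorem F77329 : act 4 n19669 = n19435 := d27_1 D19669 (iv D19435) D19434
theorem F77330 : act 8 n19669 = n19437 := d34_2 (iv F76332) D19669 (iv D19437)
def n19670 : Q := act 7 n19434
theorem D19670 : act 7 n19434 = n19670 := rfl
theorem F77331 : act 1 n19670 = n19549 := d13_1 D19670 (iv D19549) (iv F76330)
theorem F77332 : act 4 n19670 = n19436 := d28_1 D19670 (iv D19436) D19434
theorem F77333 : act 5 n19670 = n19670 := d31_1 D19670 (iv D19670) F76331
def n19671 : Q := act 7 n19435
theorem D19671 : act 7 n19435 = n19671 := rfl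
theorem F77334 : act 1 n19671 = n19550 := d13_1 D19671 (iv D19550) (iv F76333)
theorem F77335 : act 3 n19671 = n19554 := d24_1 D19671 (iv D19554) F75652 (iv F75045) (iv F76334)
theorem F77336 : act 6 n19671 = n19436 := d33_1 D19671 (iv D19436) D19435
def n19672 : Q := act 5 n19437
theorem D19672 : act 5 n19437 = n19672 := rfl
theorem F77337 : act 1 n19672 = n19551 := d11_1 D19672 (iv D19551) (iv F76339)
theorem F77338 : act 6 n19672 = n19672 := d30_2 D19437 D19672 (iv D19672) (iv D19437) F75048
def n19673 : Q := act 6 n19438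
theorem D19673 : act 6 n19438 = n19673 := rfl
theorem F77339 : act 3 n19673 = n19442 := d23_1 D19673 (iv D19442) (iv F76341)
theorem F77340 : act 4 n19673 = n19439 := d27_1 D19673 (iv D19439) D19438
theorem F77341 : act 8 n19673 = n19658 := d34_2 (iv F76343) D19673 (iv D19658)
def n19674 : Q := act 6 n19440
theorem D19674 : act 6 n19440 = n19674 := rfl
theorem F77342 : act 0 n19674 = n19673 := d5_1 D19674 (iv D19673) (iv F76346)
theorem F77343 : act 1 n19674 = n19648 := d12_1 D19674 (iv D19648) (iv F76347)
theorem F77344 : act 2 n19674 = n19633 := d18_1 D19674 (iv D19633) (iv F76348)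
theorem F77345 : act 3 n19674 = n19658 := d23_1 D19674 (iv D19658) (iv F76349)
theorem F77346 : act 4 n19674 = n19441 := d27_1 D19674 (iv D19441) D19440
theorem F77347 : act 7 n19674 = n19600 := d33_2 (iv F76351) D19674 (iv D19600)
theorem F77348 : act 8 n19674 = n19442 := d34_2 (iv F76352) D19674 (iv D19442)
def n19675 : Q := act 5 n19442
theorem D19675 : act 5 n19442 = n19675 := rfl
theorem F77349 : act 2 n19675 = n19637 := d17_1 D19675 (iv D19637) (iv F76360)
theorem F77350 : act 6 n19675 = n19675 := d30_2 D19442 D19675 (iv D19675) (iv D19442) F75078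
def n19676 : Q := act 5 n19444
theorem D19676 : act 5 n19444 = n19676 := rfl
theorem F77351 : act 0 n19676 = n19446 := d4_1 D19676 (iv D19446) (iv F76368)
theorem F77352 : act 1 n19676 = n19553 := d11_1 D19676 F76782 (iv F76369)
theorem F77353 : act 2 n19676 = n19459 := d17_1 D19676 (iv D19459) (iv F76370)
theorem F77354 : act 4 n19676 = n19641 := d26_1 D19676 F77204 F76153 (iv F75103) D19444
theorem F77355 : act 7 n19676 = n19528 := d31_2 (iv F76372) D19676 F76694
theorem F77356 : act 8 n19676 = n19449 := d32_2 (iv F76373) D19676 (iv D19449)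
def n19677 : Q := act 5 n19445
theorem D19677 : act 5 n19445 = n19677 := rfl
theorem F77357 : act 1 n19677 = n19447 := d11_1 D19677 (iv D19447) (iv F76374)
theorem F77358 : act 2 n19677 = n19629 := d17_1 D19677 F77157 (iv F76375)
theorem F77359 : act 3 n19677 = n19446 := d22_1 D19677 (iv D19446) D19445
theorem F77360 : act 7 n19677 = n19505 := d31_2 (iv F76378) D19677 (iv D19505)
theorem F77361 : act 8 n19677 = n19450 := d32_2 (iv F76379) D19677 (iv D19450)
def n19678 : Q := act 6 n19446
theorem D19678 : act 6 n19446 = n19678 := rfl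
theorem F77362 : act 1 n19678 = n19448 := d12_1 D19678 (iv D19448) (iv F76380)
theorem F77363 : act 2 n19678 = n19460 := d18_1 D19678 (iv D19460) (iv F76381)
theorem F77364 : act 4 n19678 = n19643 := d27_1 D19678 F77213 (iv F76382)
theorem F77365 : act 5 n19678 = n19534 := d30_1 D19678 (iv D19534) (iv D19250) (iv F75109) D19446
theorem F77366 : act 7 n19678 = n19529 := d33_2 (iv F76383) D19678 (iv D19529)
theorem F77367 : act 8 n19678 = n19451 := d34_2 (iv F76384) D19678 (iv D19451)
def n19679 : Q := act 4 n19447
theorem D19679 : act 4 n19447 = n19679 := rfl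
theorem F77368 : act 0 n19679 = n19549 := d3_1 D19679 F76768 (iv F76385)
theorem F77369 : act 2 n19679 = n19474 := d16_1 D19679 (iv D19474) (iv F76386)
theorem F77370 : act 3 n19679 = n19607 := d21_1 D19679 F77054 F75974 (iv F75120) (iv F76387)
theorem F77371 : act 5 n19679 = n19679 := d26_2 D19447 D19679 (iv D19679) (iv D19447) F75114
theorem F77372 : act 7 n19679 = n19507 := d28_2 (iv F76388) D19679 (iv D19507)
theorem F77373 : act 8 n19679 = n19452 := d29_2 (iv F76389) D19679 (iv D19452)
def n19680 : Q := act 6 n19447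
theorem D19680 : act 6 n19447 = n19680 := rfl
theorem F77374 : act 0 n19680 = n19550 := d5_1 D19680 F76772 (iv F76385)
theorem F77375 : act 2 n19680 = n19475 := d18_1 D19680 (iv D19475) (iv F76386)
theorem F77376 : act 3 n19680 = n19448 := d23_1 D19680 (iv D19448) (iv F76387)
theorem F77377 : act 5 n19680 = n19536 := d30_1 D19680 (iv D19536) (iv D19251) (iv F75115) D19447
theorem F77378 : act 7 n19680 = n19508 := d33_2 (iv F76388) D19680 (iv D19508)
theorem F77379 : act 8 n19680 = n19453 := d34_2 (iv F76389) D19680 (iv D19453)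
def n19681 : Q := act 6 n19449
theorem D19681 : act 6 n19449 = n19681 := rfl
theorem F77380 : act 0 n19681 = n19451 := d5_1 D19681 (iv D19451) (iv F76396)
theorem F77381 : act 2 n19681 = n19461 := d18_1 D19681 (iv D19461) (iv F76397)
theorem F77382 : act 5 n19681 = n19538 := d30_1 D19681 (iv D19538) (iv D19254) (iv F75132) D19449
theorem F77383 : act 7 n19681 = n19454 := d33_2 (iv F76398) D19681 (iv D19454)
def n19682 : Q := act 4 n19450
theorem D19682 : act 4 n19450 = n19682 := rfl
theorem F77384 : act 1 n19682 = n19452 := d10_1 D19682 (iv D19452) (iv F76399)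
theorem F77385 : act 2 n19682 = n19627 := d16_1 D19682 F77147 (iv F76400)
theorem F77386 : act 3 n19682 = n19670 := d21_1 D19682 F77332 F76337 F75657 (iv F76401)
theorem F77387 : act 5 n19682 = n19682 := d26_2 D19450 D19682 (iv D19682) (iv D19450) F75136
theorem F77388 : act 7 n19682 = n19620 := d28_2 (iv F76402) D19682 (iv D19620)
def n19683 : Q := act 6 n19450
theorem D19683 : act 6 n19450 = n19683 := rfl
theorem F77389 : act 1 n19683 = n19453 := d12_1 D19683 (iv D19453) (iv F76399)
theorem F77390 : act 2 n19683 = n19628 := d18_1 D19683 F77153 (iv F76400)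
theorem F77391 : act 3 n19683 = n19451 := d23_1 D19683 (iv D19451) (iv F76401)
theorem F77392 : act 5 n19683 = n19540 := d30_1 D19683 (iv D19540) (iv D19255) (iv F75137) D19450
theorem F77393 : act 7 n19683 = n19621 := d33_2 (iv F76402) D19683 (iv D19621)
def n19684 : Q := act 6 n19452
theorem D19684 : act 6 n19452 = n19684 := rfl
theorem F77394 : act 2 n19684 = n19476 := d18_1 D19684 (iv D19476) (iv F76407)
theorem F77395 : act 4 n19684 = n19453 := d27_1 D19684 (iv D19453) D19452
def n19685 : Q := act 6 n19455
theorem D19685 : act 6 n19455 = n19685 := rfl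
theorem F77396 : act 1 n19685 = n19456 := d12_1 D19685 (iv D19456) (iv F76416)
theorem F77397 : act 2 n19685 = n19643 := d18_1 D19685 F77213 (iv F76417)
theorem F77398 : act 4 n19685 = n19460 := d27_1 D19685 (iv D19460) (iv F76418)
theorem F77399 : act 5 n19685 = n19500 := d30_1 D19685 (iv D19500) (iv D19207) (iv F75162) D19455
theorem F77400 : act 7 n19685 = n19642 := d33_2 (iv F76419) D19685 (iv D19642)
theorem F77401 : act 8 n19685 = n19457 := d34_2 (iv F76420) D19685 (iv D19457)
def n19686 : Q := act 6 n19459
theorem D19686 : act 6 n19459 = n19686 := rfl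
theorem F77402 : act 0 n19686 = n19460 := d5_1 D19686 (iv D19460) (iv F76435)
theorem F77403 : act 1 n19686 = n19569 := d12_1 D19686 (iv D19569) (iv F76436)
theorem F77404 : act 3 n19686 = n19568 := d23_1 D19686 (iv D19568) (iv F76437)
theorem F77405 : act 8 n19686 = n19461 := d34_2 (iv F76438) D19686 (iv D19461)
def n19687 : Q := act 5 n19462
theorem D19687 : act 5 n19462 = n19687 := rfl
theorem F77406 : act 0 n19687 = n19513 := d4_1 D19687 (iv D19513) (iv F76445)
theorem F77407 : act 1 n19687 = n19464 := d11_1 D19687 (iv D19464) (iv F76446)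
theorem F77408 : act 3 n19687 = n19463 := d22_1 D19687 (iv D19463) D19462
theorem F77409 : act 7 n19687 = n19533 := d31_2 (iv F76449) D19687 (iv D19533)
theorem F77410 : act 8 n19687 = n19466 := d32_2 (iv F76450) D19687 (iv D19466)
def n19688 : Q := act 6 n19463
theorem D19688 : act 6 n19463 = n19688 := rfl
theorem F77411 : act 0 n19688 = n19515 := d5_1 D19688 (iv D19515) (iv F76451)
theorem F77412 : act 1 n19688 = n19465 := d12_1 D19688 (iv D19465) (iv F76452)
theorem F77413 : act 2 n19688 = n19527 := d18_1 D19688 F76689 (iv F76453)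
theorem F77414 : act 4 n19688 = n19525 := d27_1 D19688 F76679 (iv F76454)
theorem F77415 : act 5 n19688 = n19506 := d30_1 D19688 (iv D19506) (iv D19215) (iv F75216) D19463
theorem F77416 : act 7 n19688 = n19478 := d33_2 (iv F76455) D19688 (iv D19478)
theorem F77417 : act 8 n19688 = n19467 := d34_2 (iv F76456) D19688 (iv D19467)
def n19689 : Q := act 4 n19464
theorem D19689 : act 4 n19464 = n19689 := rfl
theorem F77418 : act 0 n19689 = n19474 := d3_1 D19689 (iv D19474) (iv F76457)
theorem F77419 : act 2 n19689 = n19549 := d16_1 D19689 F76768 (iv F76458)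
theorem F77420 : act 5 n19689 = n19689 := d26_2 D19464 D19689 (iv D19689) (iv D19464) F75221
theorem F77421 : act 7 n19689 = n19535 := d28_2 (iv F76460) D19689 (iv D19535)
theorem F77422 : act 8 n19689 = n19468 := d29_2 (iv F76461) D19689 (iv D19468)
def n19690 : Q := act 6 n19464
theorem D19690 : act 6 n19464 = n19690 := rfl
theorem F77423 : act 0 n19690 = n19475 := d5_1 D19690 (iv D19475) (iv F76457)
theorem F77424 : act 2 n19690 = n19550 := d18_1 D19690 F76772 (iv F76458)
theorem F77425 : act 3 n19690 = n19465 := d23_1 D19690 (iv D19465) (iv F76459)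
theorem F77426 : act 5 n19690 = n19508 := d30_1 D19690 (iv D19508) (iv D19216) (iv F75222) D19464
theorem F77427 : act 7 n19690 = n19536 := d33_2 (iv F76460) D19690 (iv D19536)
theorem F77428 : act 8 n19690 = n19469 := d34_2 (iv F76461) D19690 (iv D19469)
def n19691 : Q := act 4 n19466
theorem D19691 : act 4 n19466 = n19691 := rfl
theorem F77429 : act 0 n19691 = n19519 := d3_1 D19691 (iv D19519) (iv F76467)
theorem F77430 : act 1 n19691 = n19468 := d10_1 D19691 (iv D19468) (iv F76468)
theorem F77431 : act 3 n19691 = n19522 := d21_1 D19691 F76668 F75478 (iv F75243) (iv F76469)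
theorem F77432 : act 5 n19691 = n19691 := d26_2 D19466 D19691 (iv D19691) (iv D19466) F75237
theorem F77433 : act 7 n19691 = n19472 := d28_2 (iv F76470) D19691 (iv D19472)
def n19692 : Q := act 6 n19466
theorem D19692 : act 6 n19466 = n19692 := rfl
theorem F77434 : act 0 n19692 = n19520 := d5_1 D19692 (iv D19520) (iv F76467)
theorem F77435 : act 1 n19692 = n19469 := d12_1 D19692 (iv D19469) (iv F76468)
theorem F77436 : act 3 n19692 = n19467 := d23_1 D19692 (iv D19467) (iv F76469)
theorem F77437 : act 5 n19692 = n19511 := d30_1 D19692 (iv D19511) (iv D19219) (iv F75238) D19466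
theorem F77438 : act 7 n19692 = n19473 := d33_2 (iv F76470) D19692 (iv D19473)
def n19693 : Q := act 6 n19468
theorem D19693 : act 6 n19468 = n19693 := rfl
theorem F77439 : act 0 n19693 = n19476 := d5_1 D19693 (iv D19476) (iv F76477)
theorem F77440 : act 4 n19693 = n19469 := d27_1 D19693 (iv D19469) D19468
def n19694 : Q := act 4 n19470
theorem D19694 : act 4 n19470 = n19694 := rfl
theorem F77441 : act 0 n19694 = n19584 := d3_1 D19694 (iv D19584) (iv F76482)
theorem F77442 : act 2 n19694 = n19472 := d16_1 D19694 (iv D19472) (iv F76483)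
theorem F77443 : act 3 n19694 = n19689 := d21_1 D19694 (iv D19689) F76459 (iv F75265) (iv F76484)
theorem F77444 : act 5 n19694 = n19694 := d26_2 D19470 D19694 (iv D19694) (iv D19470) F75260
theorem F77445 : act 8 n19694 = n19622 := d29_2 (iv F76485) D19694 (iv D19622)
def n19695 : Q := act 6 n19470
theorem D19695 : act 6 n19470 = n19695 := rfl
theorem F77446 : act 0 n19695 = n19585 := d5_1 D19695 (iv D19585) (iv F76482)
theorem F77447 : act 2 n19695 = n19473 := d18_1 D19695 (iv D19473) (iv F76483)
theorem F77448 : act 3 n19695 = n19471 := d23_1 D19695 (iv D19471) (iv F76484)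
theorem F77449 : act 5 n19695 = n19625 := d30_1 D19695 (iv D19625) (iv D19370) (iv F75261) D19470
theorem F77450 : act 8 n19695 = n19623 := d34_2 (iv F76485) D19695 (iv D19623)
def n19696 : Q := act 6 n19472
theorem D19696 : act 6 n19472 = n19696 := rfl
theorem F77451 : act 3 n19696 = n19476 := d23_1 D19696 (iv D19476) (iv F76492)
theorem F77452 : act 4 n19696 = n19473 := d27_1 D19696 (iv D19473) D19472
def n19697 : Q := act 6 n19474
theorem D19697 : act 6 n19474 = n19697 := rfl
theorem F77453 : act 4 n19697 = n19475 := d27_1 D19697 (iv D19475) D19474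
theorem F77454 : act 8 n19697 = n19476 := d34_2 (iv F76496) D19697 (iv D19476)
def n19698 : Q := act 5 n19476
theorem D19698 : act 5 n19476 = n19698 := rfl
theorem F77455 : act 4 n19698 = n19551 := d26_1 D19698 (iv D19551) F75624 (iv F75292) (iv F76500)
theorem F77456 : act 6 n19698 = n19698 := d30_2 D19476 D19698 (iv D19698) (iv D19476) F75290
def n19699 : Q := act 5 n19479
theorem D19699 : act 5 n19479 = n19699 := rfl
theorem F77457 : act 0 n19699 = n19481 := d4_1 D19699 (iv D19481) (iv F76513)
theorem F77458 : act 1 n19699 = n19597 := d11_1 D19699 (iv D19597) (iv F76514)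
theorem F77459 : act 2 n19699 = n19490 := d17_1 D19699 F76554 (iv F76515)
theorem F77460 : act 3 n19699 = n19480 := d22_1 D19699 (iv D19480) D19479
theorem F77461 : act 7 n19699 = n19630 := d31_2 (iv F76517) D19699 (iv D19630)
theorem F77462 : act 8 n19699 = n19486 := d32_2 (iv F76518) D19699 F76545
def n19700 : Q := act 6 n19480
theorem D19700 : act 6 n19480 = n19700 := rfl
theorem F77463 : act 0 n19700 = n19483 := d5_1 D19700 (iv D19483) (iv F76519)
theorem F77464 : act 1 n19700 = n19644 := d12_1 D19700 (iv D19644) (iv F76520)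
theorem F77465 : act 2 n19700 = n19502 := d18_1 D19700 (iv D19502) (iv F76521)
theorem F77466 : act 8 n19700 = n19651 := d34_2 (iv F76522) D19700 (iv D19651)
def n19701 : Q := act 4 n19481
theorem D19701 : act 4 n19481 = n19701 := rfl
theorem F77467 : act 1 n19701 = n19484 := d10_1 D19701 (iv D19484) (iv F76523)
theorem F77468 : act 5 n19701 = n19701 := d26_2 D19481 D19701 (iv D19701) (iv D19481) F75357
theorem F77469 : act 8 n19701 = n19652 := d29_2 (iv F76525) D19701 (iv D19652)
def n19702 : Q := act 6 n19481
theorem D19702 : act 6 n19481 = n19702 := rfl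
theorem F77470 : act 1 n19702 = n19485 := d12_1 D19702 (iv D19485) (iv F76523)
theorem F77471 : act 3 n19702 = n19483 := d23_1 D19702 (iv D19483) (iv F76524)
theorem F77472 : act 8 n19702 = n19653 := d34_2 (iv F76525) D19702 (iv D19653)
def n19703 : Q := act 7 n19481
theorem D19703 : act 7 n19481 = n19703 := rfl
theorem F77473 : act 0 n19703 = n19630 := d6_1 D19703 (iv F77461) F77457
theorem F77474 : act 1 n19703 = n19486 := d13_1 D19703 (iv D19486) (iv F76523)
theorem F77475 : act 2 n19703 = n19593 := d19_1 D19703 F76993 F76803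
theorem F77476 : act 3 n19703 = n19639 := d24_1 D19703 F77194 F76594 F75410 (iv F76524)
theorem F77477 : act 5 n19703 = n19482 := d31_1 D19703 (iv D19482) D19481
theorem F77478 : act 8 n19703 = n19597 := d35_2 (iv F76525) D19703 F77015 F76196 (iv F76226)
def n19704 : Q := act 6 n19484
theorem D19704 : act 6 n19484 = n19704 := rfl
theorem F77479 : act 2 n19704 = n19487 := d18_1 D19704 (iv D19487) (iv F76536)
theorem F77480 : act 4 n19704 = n19485 := d27_1 D19704 (iv D19485) D19484
theorem F77481 : act 8 n19704 = n19654 := d34_2 (iv F76538) D19704 (iv D19654)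
def n19705 : Q := act 7 n19484
theorem D19705 : act 7 n19484 = n19705 := rfl
theorem F77482 : act 0 n19705 = n19652 := d6_1 D19705 F77254 F76700
theorem F77483 : act 2 n19705 = n19488 := d19_1 D19705 (iv D19488) (iv F76536)
theorem F77484 : act 4 n19705 = n19486 := d28_1 D19705 (iv D19486) D19484
theorem F77485 : act 5 n19705 = n19705 := d31_1 D19705 (iv D19705) F76537
def n19706 : Q := act 7 n19485
theorem D19706 : act 7 n19485 = n19706 := rfl
theorem F77486 : act 0 n19706 = n19653 := d6_1 D19706 F77259 F76704
theorem F77487 : act 2 n19706 = n19489 := d19_1 D19706 (iv D19489) (iv F76539)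
theorem F77488 : act 3 n19706 = n19651 := d24_1 D19706 F77250 F76604 F75419 (iv F76540)
theorem F77489 : act 6 n19706 = n19486 := d33_1 D19706 (iv D19486) D19485
def n19707 : Q := act 5 n19487
theorem D19707 : act 5 n19487 = n19707 := rfl
theorem F77490 : act 6 n19707 = n19707 := d30_2 D19487 D19707 (iv D19707) (iv D19487) F75371
theorem F77491 : act 8 n19707 = n19655 := d32_2 (iv F76547) D19707 (iv D19655)
def n19708 : Q := act 7 n19487
theorem D19708 : act 7 n19487 = n19708 := rfl
theorem F77492 : act 4 n19708 = n19489 := d28_1 D19708 (iv D19489) (iv F76546)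
theorem F77493 : act 6 n19708 = n19488 := d33_1 D19708 (iv D19488) D19487
def n19709 : Q := act 8 n19488
theorem D19709 : act 8 n19488 = n19709 := rfl
theorem F77494 : act 1 n19709 = n19591 := d14_1 D19709 F76985 F76827
theorem F77495 : act 4 n19709 = n19490 := d29_1 D19709 (iv D19490) (iv F76548)
theorem F77496 : act 5 n19709 = n19709 := d32_1 D19709 (iv D19709) F76549
theorem F77497 : act 7 n19709 = n19631 := d35_1 D19709 F77164 F76118 (iv F75372) D19488
def n19710 : Q := act 8 n19489
theorem D19710 : act 8 n19489 = n19710 := rfl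
theorem F77498 : act 1 n19710 = n19592 := d14_1 D19710 F76989 F76832
theorem F77499 : act 3 n19710 = n19503 := d25_1 D19710 (iv D19503) (iv F76550)
theorem F77500 : act 6 n19710 = n19490 := d34_1 D19710 (iv D19490) (iv F76551)
theorem F77501 : act 7 n19710 = n19632 := d35_1 D19710 F77167 F76121 (iv F75374) D19489
def n19711 : Q := act 5 n19491
theorem D19711 : act 5 n19491 = n19711 := rfl
theorem F77502 : act 0 n19711 = n19494 := d4_1 D19711 (iv D19494) (iv F76556)
theorem F77503 : act 1 n19711 = n19537 := d11_1 D19711 (iv D19537) (iv F76557)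
theorem F77504 : act 2 n19711 = n19605 := d17_1 D19711 F77048 (iv F76558)
theorem F77505 : act 3 n19711 = n19492 := d22_1 D19711 (iv D19492) D19491
theorem F77506 : act 7 n19711 = n19524 := d31_2 (iv F76560) D19711 F76676
theorem F77507 : act 8 n19711 = n19518 := d32_2 (iv F76561) D19711 F76660
def n19712 : Q := act 6 n19492
theorem D19712 : act 6 n19492 = n19712 := rfl
theorem F77508 : act 0 n19712 = n19495 := d5_1 D19712 (iv D19495) (iv F76562)
theorem F77509 : act 1 n19712 = n19538 := d12_1 D19712 (iv D19538) (iv F76563)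
theorem F77510 : act 4 n19712 = n19700 := d27_1 D19712 (iv D19700) (iv F76564)
theorem F77511 : act 7 n19712 = n19502 := d33_2 (iv F76565) D19712 (iv D19502)
def n19713 : Q := act 5 n19493
theorem D19713 : act 5 n19493 = n19713 := rfl
theorem F77512 : act 0 n19713 = n19605 := d4_1 D19713 F77048 (iv F76566)
theorem F77513 : act 1 n19713 = n19509 := d11_1 D19713 (iv D19509) (iv F76567)
theorem F77514 : act 2 n19713 = n19494 := d17_1 D19713 (iv D19494) D19493
theorem F77515 : act 3 n19713 = n19641 := d22_1 D19713 F77204 (iv F76568)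
theorem F77516 : act 7 n19713 = n19601 := d31_2 (iv F76571) D19713 (iv D19601)
theorem F77517 : act 8 n19713 = n19662 := d32_2 (iv F76572) D19713 F77294
def n19714 : Q := act 4 n19494
theorem D19714 : act 4 n19494 = n19714 := rfl
theorem F77518 : act 1 n19714 = n19496 := d10_1 D19714 (iv D19496) (iv F76573)
theorem F77519 : act 3 n19714 = n19701 := d21_1 D19714 (iv D19701) F76524 (iv F75387) (iv F76574)
theorem F77520 : act 5 n19714 = n19714 := d26_2 D19494 D19714 (iv D19714) (iv D19494) F75385
def n19715 : Q := act 6 n19494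
theorem D19715 : act 6 n19494 = n19715 := rfl
theorem F77521 : act 1 n19715 = n19497 := d12_1 D19715 (iv D19497) (iv F76573)
theorem F77522 : act 3 n19715 = n19495 := d23_1 D19715 (iv D19495) (iv F76574)
def n19716 : Q := act 6 n19496
theorem D19716 : act 6 n19496 = n19716 := rfl
theorem F77523 : act 0 n19716 = n19541 := d5_1 D19716 (iv D19541) (iv F76578)
theorem F77524 : act 2 n19716 = n19512 := d18_1 D19716 (iv D19512) (iv F76579)
theorem F77525 : act 3 n19716 = n19704 := d23_1 D19716 (iv D19704) (iv F76580)
theorem F77526 : act 4 n19716 = n19497 := d27_1 D19716 (iv D19497) D19496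
def n19717 : Q := act 6 n19498
theorem D19717 : act 6 n19498 = n19717 := rfl
theorem F77527 : act 0 n19717 = n19500 := d5_1 D19717 (iv D19500) (iv F76585)
theorem F77528 : act 1 n19717 = n19542 := d12_1 D19717 (iv D19542) (iv F76586)
theorem F77529 : act 2 n19717 = n19712 := d18_1 D19717 (iv D19712) (iv F76587)
theorem F77530 : act 3 n19717 = n19685 := d23_1 D19717 (iv D19685) (iv F76588)
theorem F77531 : act 4 n19717 = n19502 := d27_1 D19717 (iv D19502) (iv F76589)
theorem F77532 : act 7 n19717 = n19700 := d33_2 (iv F76590) D19717 (iv D19700)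
theorem F77533 : act 8 n19717 = n19656 := d34_2 (iv F76591) D19717 (iv D19656)
def n19718 : Q := act 6 n19499
theorem D19718 : act 6 n19499 = n19718 := rfl
theorem F77534 : act 0 n19718 = n19685 := d5_1 D19718 (iv D19685) (iv F76592)
theorem F77535 : act 1 n19718 = n19501 := d12_1 D19718 (iv D19501) (iv F76593)
theorem F77536 : act 3 n19718 = n19500 := d23_1 D19718 (iv D19500) (iv F76594)
theorem F77537 : act 4 n19718 = n19686 := d27_1 D19718 (iv D19686) (iv F76595)
theorem F77538 : act 5 n19718 = n19717 := d30_1 D19718 (iv D19717) (iv D19498) (iv F75405) D19499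
theorem F77539 : act 8 n19718 = n19657 := d34_2 (iv F76596) D19718 (iv D19657)
def n19719 : Q := act 5 n19504
theorem D19719 : act 5 n19504 = n19719 := rfl
theorem F77540 : act 0 n19719 = n19677 := d4_1 D19719 (iv D19677) (iv F76612)
theorem F77541 : act 1 n19719 = n19662 := d11_1 D19719 F77294 (iv F76613)
theorem F77542 : act 2 n19719 = n19505 := d17_1 D19719 (iv D19505) D19504
theorem F77543 : act 3 n19719 = n19676 := d22_1 D19719 (iv D19676) (iv F76614)
theorem F77544 : act 7 n19719 = n19629 := d31_2 (iv F76616) D19719 F77157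
theorem F77545 : act 8 n19719 = n19509 := d32_2 (iv F76617) D19719 (iv D19509)
def n19720 : Q := act 4 n19505
theorem D19720 : act 4 n19505 = n19720 := rfl
theorem F77546 : act 1 n19720 = n19507 := d10_1 D19720 (iv D19507) (iv F76618)
theorem F77547 : act 5 n19720 = n19720 := d26_2 D19505 D19720 (iv D19720) (iv D19505) F75431
theorem F77548 : act 8 n19720 = n19510 := d29_2 (iv F76620) D19720 (iv D19510)
def n19721 : Q := act 6 n19505
theorem D19721 : act 6 n19505 = n19721 := rfl
theorem F77549 : act 1 n19721 = n19508 := d12_1 D19721 (iv D19508) (iv F76618)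
theorem F77550 : act 3 n19721 = n19506 := d23_1 D19721 (iv D19506) (iv F76619)
theorem F77551 : act 8 n19721 = n19511 := d34_2 (iv F76620) D19721 (iv D19511)
def n19722 : Q := act 6 n19507
theorem D19722 : act 6 n19507 = n19722 := rfl
theorem F77552 : act 0 n19722 = n19548 := d5_1 D19722 (iv D19548) (iv F76624)
theorem F77553 : act 4 n19722 = n19508 := d27_1 D19722 (iv D19508) D19507
theorem F77554 : act 8 n19722 = n19512 := d34_2 (iv F76626) D19722 (iv D19512)
def n19723 : Q := act 4 n19509
theorem D19723 : act 4 n19509 = n19723 := rfl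
theorem F77555 : act 0 n19723 = n19682 := d3_1 D19723 (iv D19682) (iv F76630)
theorem F77556 : act 2 n19723 = n19510 := d16_1 D19723 (iv D19510) (iv F76631)
theorem F77557 : act 5 n19723 = n19723 := d26_2 D19509 D19723 (iv D19723) (iv D19509) F75445
theorem F77558 : act 7 n19723 = n19624 := d28_2 (iv F76633) D19723 (iv D19624)
def n19724 : Q := act 6 n19509
theorem D19724 : act 6 n19509 = n19724 := rfl
theorem F77559 : act 0 n19724 = n19683 := d5_1 D19724 (iv D19683) (iv F76630)
theorem F77560 : act 2 n19724 = n19511 := d18_1 D19724 (iv D19511) (iv F76631)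
theorem F77561 : act 3 n19724 = n19681 := d23_1 D19724 (iv D19681) (iv F76632)
theorem F77562 : act 7 n19724 = n19625 := d33_2 (iv F76633) D19724 (iv D19625)
def n19725 : Q := act 6 n19510
theorem D19725 : act 6 n19510 = n19725 := rfl
theorem F77563 : act 1 n19725 = n19512 := d12_1 D19725 (iv D19512) (iv F76634)
theorem F77564 : act 4 n19725 = n19511 := d27_1 D19725 (iv D19511) D19510
def n19726 : Q := act 5 n19512
theorem D19726 : act 5 n19512 = n19726 := rfl
theorem F77565 : act 0 n19726 = n19551 := d4_1 D19726 (iv D19551) (iv F76638)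
theorem F77566 : act 6 n19726 = n19726 := d30_2 D19512 D19726 (iv D19726) (iv D19512) F75452
def n19727 : Q := act 4 n19513
theorem D19727 : act 4 n19513 = n19727 := rfl
theorem F77567 : act 1 n19727 = n19516 := d10_1 D19727 (iv D19516) (iv F76640)
theorem F77568 : act 5 n19727 = n19727 := d26_2 D19513 D19727 (iv D19727) (iv D19513) F75456
theorem F77569 : act 8 n19727 = n19519 := d29_2 (iv F76642) D19727 (iv D19519)
def n19728 : Q := act 6 n19513
theorem D19728 : act 6 n19513 = n19728 := rfl
theorem F77570 : act 1 n19728 = n19517 := d12_1 D19728 (iv D19517) (iv F76640)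
theorem F77571 : act 3 n19728 = n19515 := d23_1 D19728 (iv D19515) (iv F76641)
theorem F77572 : act 8 n19728 = n19520 := d34_2 (iv F76642) D19728 (iv D19520)
def n19729 : Q := act 7 n19513
theorem D19729 : act 7 n19513 = n19729 := rfl
theorem F77573 : act 0 n19729 = n19533 := d6_1 D19729 (iv F77409) F77406
theorem F77574 : act 1 n19729 = n19518 := d13_1 D19729 (iv D19518) (iv F76640)
theorem F77575 : act 2 n19729 = n19687 := d19_1 D19729 F77409 F76713
theorem F77576 : act 3 n19729 = n19532 := d24_1 D19729 F76710 F76437 F75735 (iv F76641)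
theorem F77577 : act 5 n19729 = n19514 := d31_1 D19729 (iv D19514) D19513
theorem F77578 : act 8 n19729 = n19537 := d35_2 (iv F76642) D19729 F76729 F76485 F76069
def n19730 : Q := act 6 n19516
theorem D19730 : act 6 n19516 = n19730 := rfl
theorem F77579 : act 2 n19730 = n19669 := d18_1 D19730 (iv D19669) (iv F76653)
theorem F77580 : act 4 n19730 = n19517 := d27_1 D19730 (iv D19517) D19516
theorem F77581 : act 8 n19730 = n19521 := d34_2 (iv F76655) D19730 (iv D19521)
def n19731 : Q := act 7 n19516
theorem D19731 : act 7 n19516 = n19731 := rfl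
theorem F77582 : act 2 n19731 = n19670 := d19_1 D19731 (iv D19670) (iv F76653)
theorem F77583 : act 3 n19731 = n19705 := d24_1 D19731 (iv D19705) (iv F76580) (iv F76852) F76850
theorem F77584 : act 4 n19731 = n19518 := d28_1 D19731 (iv D19518) D19516
theorem F77585 : act 5 n19731 = n19731 := d31_1 D19731 (iv D19731) F76654
def n19732 : Q := act 7 n19517
theorem D19732 : act 7 n19517 = n19732 := rfl
theorem F77586 : act 2 n19732 = n19671 := d19_1 D19732 (iv D19671) (iv F76656)
theorem F77587 : act 6 n19732 = n19518 := d33_1 D19732 (iv D19518) D19517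
def n19733 : Q := act 6 n19519
theorem D19733 : act 6 n19519 = n19733 := rfl
theorem F77588 : act 1 n19733 = n19521 := d12_1 D19733 (iv D19521) (iv F76661)
theorem F77589 : act 4 n19733 = n19520 := d27_1 D19733 (iv D19520) D19519
def n19734 : Q := act 5 n19521
theorem D19734 : act 5 n19521 = n19734 := rfl
theorem F77590 : act 2 n19734 = n19672 := d17_1 D19734 (iv D19672) (iv F76665)
theorem F77591 : act 6 n19734 = n19734 := d30_2 D19521 D19734 (iv D19734) (iv D19521) F75474
def n19735 : Q := act 7 n19521
theorem D19735 : act 7 n19521 = n19735 := rfl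
theorem F77592 : act 2 n19735 = n19611 := d19_1 D19735 F77077 (iv F76665)
theorem F77593 : act 4 n19735 = n19523 := d28_1 D19735 (iv D19523) (iv F76666)
theorem F77594 : act 6 n19735 = n19522 := d33_1 D19735 (iv D19522) D19521
def n19736 : Q := act 8 n19522
theorem D19736 : act 8 n19522 = n19736 := rfl
theorem F77595 : act 1 n19736 = n19694 := d14_1 D19736 F77445 F77122
theorem F77596 : act 2 n19736 = n19603 := d20_1 D19736 F77042 (iv F76667)
theorem F77597 : act 4 n19736 = n19524 := d29_1 D19736 (iv D19524) (iv F76668)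
theorem F77598 : act 5 n19736 = n19736 := d32_1 D19736 (iv D19736) F76669
def n19737 : Q := act 8 n19523
theorem D19737 : act 8 n19523 = n19737 := rfl
theorem F77599 : act 1 n19737 = n19695 := d14_1 D19737 F77450 F77128
theorem F77600 : act 2 n19737 = n19604 := d20_1 D19737 F77045 (iv F76670)
theorem F77601 : act 3 n19737 = n19525 := d25_1 D19737 (iv D19525) (iv F76671)
theorem F77602 : act 6 n19737 = n19524 := d34_1 D19737 (iv D19524) (iv F76672)
def n19738 : Q := act 8 n19526
theorem D19738 : act 8 n19526 = n19738 := rfl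
theorem F77603 : act 0 n19738 = n19529 := d7_1 D19738 F76699 (iv F76680)
theorem F77604 : act 1 n19738 = n19552 := d14_1 D19738 F76778 (iv F76681)
theorem F77605 : act 3 n19738 = n19527 := d25_1 D19738 (iv D19527) D19526
theorem F77606 : act 4 n19738 = n19640 := d29_1 D19738 F77200 (iv F76682)
theorem F77607 : act 5 n19738 = n19686 := d32_1 D19738 F77405 (iv F76683)
theorem F77608 : act 6 n19738 = n19528 := d34_1 D19738 (iv D19528) (iv F76684)
def n19739 : Q := act 6 n19530
theorem D19739 : act 6 n19530 = n19739 := rfl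
theorem F77609 : act 0 n19739 = n19704 := d5_1 D19739 (iv D19704) (iv F76700)
theorem F77610 : act 2 n19739 = n19645 := d18_1 D19739 (iv D19645) (iv F76701)
theorem F77611 : act 3 n19739 = n19541 := d23_1 D19739 (iv D19541) (iv F76702)
theorem F77612 : act 4 n19739 = n19531 := d27_1 D19739 (iv D19531) D19530
def n19740 : Q := act 6 n19532
theorem D19740 : act 6 n19532 = n19740 := rfl
theorem F77613 : act 0 n19740 = n19534 := d5_1 D19740 (iv D19534) (iv F76708)
theorem F77614 : act 2 n19740 = n19738 := d18_1 D19740 F77608 (iv F76709)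
theorem F77615 : act 7 n19740 = n19686 := d33_2 (iv F76710) D19740 (iv D19686)
theorem F77616 : act 8 n19740 = n19538 := d34_2 (iv F76711) D19740 (iv D19538)
def n19741 : Q := act 4 n19533
theorem D19741 : act 4 n19533 = n19741 := rfl
theorem F77617 : act 1 n19741 = n19535 := d10_1 D19741 (iv D19535) (iv F76712)
theorem F77618 : act 2 n19741 = n19727 := d16_1 D19741 (iv D19727) (iv F76713)
theorem F77619 : act 5 n19741 = n19741 := d26_2 D19533 D19741 (iv D19741) (iv D19533) F75546
theorem F77620 : act 8 n19741 = n19539 := d29_2 (iv F76715) D19741 (iv D19539)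
def n19742 : Q := act 6 n19533
theorem D19742 : act 6 n19533 = n19742 := rfl
theorem F77621 : act 1 n19742 = n19536 := d12_1 D19742 (iv D19536) (iv F76712)
theorem F77622 : act 2 n19742 = n19728 := d18_1 D19742 (iv D19728) (iv F76713)
theorem F77623 : act 3 n19742 = n19534 := d23_1 D19742 (iv D19534) (iv F76714)
theorem F77624 : act 8 n19742 = n19540 := d34_2 (iv F76715) D19742 (iv D19540)
def n19743 : Q := act 6 n19535
theorem D19743 : act 6 n19535 = n19743 := rfl
theorem F77625 : act 2 n19743 = n19548 := d18_1 D19743 (iv D19548) (iv F76720)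
theorem F77626 : act 4 n19743 = n19536 := d27_1 D19743 (iv D19536) D19535
theorem F77627 : act 8 n19743 = n19541 := d34_2 (iv F76722) D19743 (iv D19541)
def n19744 : Q := act 4 n19537
theorem D19744 : act 4 n19537 = n19744 := rfl
theorem F77628 : act 0 n19744 = n19539 := d3_1 D19744 (iv D19539) (iv F76726)
theorem F77629 : act 2 n19744 = n19691 := d16_1 D19744 (iv D19691) (iv F76727)
theorem F77630 : act 5 n19744 = n19744 := d26_2 D19537 D19744 (iv D19744) (iv D19537) F75560
theorem F77631 : act 7 n19744 = n19694 := d28_2 (iv F76729) D19744 (iv D19694)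
def n19745 : Q := act 6 n19537
theorem D19745 : act 6 n19537 = n19745 := rfl
theorem F77632 : act 0 n19745 = n19540 := d5_1 D19745 (iv D19540) (iv F76726)
theorem F77633 : act 2 n19745 = n19692 := d18_1 D19745 (iv D19692) (iv F76727)
theorem F77634 : act 3 n19745 = n19538 := d23_1 D19745 (iv D19538) (iv F76728)
theorem F77635 : act 5 n19745 = n19724 := d30_1 D19745 (iv D19724) (iv D19509) (iv F75561) D19537
theorem F77636 : act 7 n19745 = n19695 := d33_2 (iv F76729) D19745 (iv D19695)
def n19746 : Q := act 6 n19539
theorem D19746 : act 6 n19539 = n19746 := rfl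
theorem F77637 : act 1 n19746 = n19541 := d12_1 D19746 (iv D19541) (iv F76733)
theorem F77638 : act 2 n19746 = n19733 := d18_1 D19746 (iv D19733) (iv F76734)
theorem F77639 : act 4 n19746 = n19540 := d27_1 D19746 (iv D19540) D19539
def n19747 : Q := act 5 n19541
theorem D19747 : act 5 n19541 = n19747 := rfl
theorem F77640 : act 2 n19747 = n19551 := d17_1 D19747 (iv D19551) (iv F76739)
theorem F77641 : act 6 n19747 = n19747 := d30_2 D19541 D19747 (iv D19747) (iv D19541) F75573
def n19748 : Q := act 6 n19543
theorem D19748 : act 6 n19543 = n19748 := rfl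
theorem F77642 : act 0 n19748 = n19613 := d5_1 D19748 (iv D19613) (iv F76747)
theorem F77643 : act 1 n19748 = n19673 := d12_1 D19748 (iv D19673) (iv F76748)
theorem F77644 : act 2 n19748 = n19547 := d18_1 D19748 (iv D19547) (iv F76749)
theorem F77645 : act 3 n19748 = n19645 := d23_1 D19748 (iv D19645) (iv F76750)
theorem F77646 : act 4 n19748 = n19544 := d27_1 D19748 (iv D19544) D19543
theorem F77647 : act 7 n19748 = n19619 := d33_2 (iv F76752) D19748 (iv D19619)
def n19749 : Q := act 6 n19545
theorem D19749 : act 6 n19545 = n19749 := rfl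
theorem F77648 : act 3 n19749 = n19548 := d23_1 D19749 (iv D19548) (iv F76759)
theorem F77649 : act 4 n19749 = n19546 := d27_1 D19749 (iv D19546) D19545
theorem F77650 : act 8 n19749 = n19547 := d34_2 (iv F76761) D19749 (iv D19547)
def n19750 : Q := act 5 n19547
theorem D19750 : act 5 n19547 = n19750 := rfl
theorem F77651 : act 3 n19750 = n19551 := d22_1 D19750 (iv D19551) (iv F76764)
theorem F77652 : act 6 n19750 = n19750 := d30_2 D19547 D19750 (iv D19750) (iv D19547) F75616
def n19751 : Q := act 5 n19548
theorem D19751 : act 5 n19548 = n19751 := rfl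
theorem F77653 : act 6 n19751 = n19751 := d30_2 D19548 D19751 (iv D19751) (iv D19548) F75618
theorem F77654 : act 8 n19751 = n19551 := d32_2 (iv F76767) D19751 (iv D19551)
def n19752 : Q := act 7 n19548
theorem D19752 : act 7 n19548 = n19752 := rfl
theorem F77655 : act 4 n19752 = n19550 := d28_1 D19752 (iv D19550) (iv F76766)
theorem F77656 : act 6 n19752 = n19549 := d33_1 D19752 (iv D19549) D19548
theorem F77657 : act 3 n19684 = n19752 := d23_3 F77656 (iv F76770) D19684
def n19753 : Q := act 7 n19552
theorem D19753 : act 7 n19552 = n19753 := rfl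
theorem F77658 : act 0 n19753 = n19554 := d6_1 D19753 (iv D19554) (iv F76774)
theorem F77659 : act 2 n19753 = n19657 := d19_1 D19753 F77273 (iv F76775)
theorem F77660 : act 4 n19753 = n19681 := d28_1 D19753 F77383 (iv F76777)
theorem F77661 : act 6 n19753 = n19553 := d33_1 D19753 (iv D19553) D19552
def n19754 : Q := act 6 n19555
theorem D19754 : act 6 n19555 = n19754 := rfl
theorem F77662 : act 0 n19754 = n19561 := d5_1 D19754 (iv D19561) (iv F76787)
theorem F77663 : act 1 n19754 = n19658 := d12_1 D19754 (iv D19658) (iv F76788)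
theorem F77664 : act 2 n19754 = n19749 := d18_1 D19754 (iv D19749) (iv F76789)
theorem F77665 : act 3 n19754 = n19648 := d23_1 D19754 (iv D19648) (iv F76790)
theorem F77666 : act 4 n19754 = n19556 := d27_1 D19754 (iv D19556) D19555
theorem F77667 : act 7 n19754 = n19668 := d33_2 (iv F76792) D19754 (iv D19668)
theorem F77668 : act 8 n19754 = n19748 := d34_2 (iv F76793) D19754 (iv D19748)
def n19755 : Q := act 4 n19557
theorem D19755 : act 4 n19557 = n19755 := rfl
theorem F77669 : act 0 n19755 = n19709 := d3_1 D19755 F77495 (iv F76801)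
theorem F77670 : act 1 n19755 = n19559 := d10_1 D19755 (iv D19559) (iv F76802)
theorem F77671 : act 2 n19755 = n19701 := d16_1 D19755 (iv D19701) (iv F76803)
theorem F77672 : act 3 n19755 = n19720 := d21_1 D19755 (iv D19720) F76619 (iv F75686) (iv F76804)
theorem F77673 : act 5 n19755 = n19755 := d26_2 D19557 D19755 (iv D19755) (iv D19557) F75680
theorem F77674 : act 8 n19755 = n19614 := d29_2 (iv F76805) D19755 (iv D19614)
def n19756 : Q := act 6 n19557
theorem D19756 : act 6 n19557 = n19756 := rfl
theorem F77675 : act 0 n19756 = n19710 := d5_1 D19756 F77500 (iv F76801)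
theorem F77676 : act 1 n19756 = n19560 := d12_1 D19756 (iv D19560) (iv F76802)
theorem F77677 : act 2 n19756 = n19702 := d18_1 D19756 (iv D19702) (iv F76803)
theorem F77678 : act 3 n19756 = n19558 := d23_1 D19756 (iv D19558) (iv F76804)
theorem F77679 : act 5 n19756 = n19632 := d30_1 D19756 (iv D19632) (iv D19377) (iv F75681) D19557
theorem F77680 : act 8 n19756 = n19615 := d34_2 (iv F76805) D19756 (iv D19615)
def n19757 : Q := act 6 n19559
theorem D19757 : act 6 n19559 = n19757 := rfl
theorem F77681 : act 0 n19757 = n19749 := d5_1 D19757 (iv D19749) (iv F76813)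
theorem F77682 : act 2 n19757 = n19561 := d18_1 D19757 (iv D19561) (iv F76814)
theorem F77683 : act 3 n19757 = n19722 := d23_1 D19757 (iv D19722) (iv F76815)
theorem F77684 : act 4 n19757 = n19560 := d27_1 D19757 (iv D19560) D19559
theorem F77685 : act 8 n19757 = n19616 := d34_2 (iv F76817) D19757 (iv D19616)
def n19758 : Q := act 5 n19561
theorem D19758 : act 5 n19561 = n19758 := rfl
theorem F77686 : act 1 n19758 = n19707 := d11_1 D19758 (iv D19707) (iv F76823)
theorem F77687 : act 3 n19758 = n19655 := d22_1 D19758 (iv D19655) (iv F76824)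
theorem F77688 : act 6 n19758 = n19758 := d30_2 D19561 D19758 (iv D19758) (iv D19561) F75701
def n19759 : Q := act 7 n19561
theorem D19759 : act 7 n19561 = n19759 := rfl
theorem F77689 : act 0 n19759 = n19668 := d6_1 D19759 (iv F77667) F77662
theorem F77690 : act 1 n19759 = n19708 := d13_1 D19759 (iv D19708) (iv F76823)
theorem F77691 : act 4 n19759 = n19563 := d28_1 D19759 (iv D19563) (iv F76825)
theorem F77692 : act 6 n19759 = n19562 := d33_1 D19759 (iv D19562) D19561
theorem F77693 : act 3 n19663 = n19759 := d23_3 F77692 (iv F76830) D19663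
def n19760 : Q := act 4 n19564
theorem D19760 : act 4 n19564 = n19760 := rfl
theorem F77694 : act 0 n19760 = n19736 := d3_1 D19760 F77597 (iv F76836)
theorem F77695 : act 1 n19760 = n19566 := d10_1 D19760 (iv D19566) (iv F76837)
theorem F77696 : act 3 n19760 = n19727 := d21_1 D19760 (iv D19727) F76641 (iv F75717) (iv F76838)
theorem F77697 : act 5 n19760 = n19760 := d26_2 D19564 D19760 (iv D19760) (iv D19564) F75710
theorem F77698 : act 7 n19760 = n19714 := d28_2 (iv F76839) D19760 (iv D19714)
theorem F77699 : act 8 n19760 = n19588 := d29_2 (iv F76840) D19760 (iv D19588)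
def n19761 : Q := act 6 n19564
theorem D19761 : act 6 n19564 = n19761 := rfl
theorem F77700 : act 0 n19761 = n19737 := d5_1 D19761 F77602 (iv F76836)
theorem F77701 : act 1 n19761 = n19567 := d12_1 D19761 (iv D19567) (iv F76837)
theorem F77702 : act 3 n19761 = n19565 := d23_1 D19761 (iv D19565) (iv F76838)
theorem F77703 : act 5 n19761 = n19604 := d30_1 D19761 (iv D19604) (iv D19342) (iv F75711) D19564
theorem F77704 : act 7 n19761 = n19715 := d33_2 (iv F76839) D19761 (iv D19715)
theorem F77705 : act 8 n19761 = n19589 := d34_2 (iv F76840) D19761 (iv D19589)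
def n19762 : Q := act 6 n19566
theorem D19762 : act 6 n19566 = n19762 := rfl
theorem F77706 : act 0 n19762 = n19586 := d5_1 D19762 (iv D19586) (iv F76848)
theorem F77707 : act 2 n19762 = n19580 := d18_1 D19762 (iv D19580) (iv F76849)
theorem F77708 : act 3 n19762 = n19730 := d23_1 D19762 (iv D19730) (iv F76850)
theorem F77709 : act 4 n19762 = n19567 := d27_1 D19762 (iv D19567) D19566
theorem F77710 : act 7 n19762 = n19716 := d33_2 (iv F76852) D19762 (iv D19716)
theorem F77711 : act 8 n19762 = n19590 := d34_2 (iv F76853) D19762 (iv D19590)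
def n19763 : Q := act 7 n19569
theorem D19763 : act 7 n19569 = n19763 := rfl
theorem F77712 : act 0 n19763 = n19587 := d6_1 D19763 (iv D19587) (iv F76867)
theorem F77713 : act 1 n19763 = n19740 := d13_1 D19763 F77615 F77403
theorem F77714 : act 2 n19763 = n19656 := d19_1 D19763 F77267 (iv F76868)
theorem F77715 : act 3 n19763 = n19732 := d24_1 D19763 (iv D19732) F76657 (iv F75753) (iv F76869)
theorem F77716 : act 4 n19763 = n19651 := d28_1 D19763 F77250 (iv F76870)
theorem F77717 : act 5 n19763 = n19753 := d31_1 D19763 (iv D19753) (iv F76871)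
theorem F77718 : act 6 n19763 = n19570 := d33_1 D19763 (iv D19570) D19569
theorem F77719 : act 8 n19763 = n19712 := d35_2 (iv F76872) D19763 F77511 F76608 F76256
def n19764 : Q := act 6 n19572
theorem D19764 : act 6 n19572 = n19764 := rfl
theorem F77720 : act 0 n19764 = n19590 := d5_1 D19764 (iv D19590) (iv F76888)
theorem F77721 : act 1 n19764 = n19696 := d12_1 D19764 (iv D19696) (iv F76889)
theorem F77722 : act 2 n19764 = n19606 := d18_1 D19764 (iv D19606) (iv F76890)
theorem F77723 : act 3 n19764 = n19659 := d23_1 D19764 (iv D19659) (iv F76891)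
theorem F77724 : act 4 n19764 = n19573 := d27_1 D19764 (iv D19573) D19572
theorem F77725 : act 7 n19764 = n19693 := d33_2 (iv F76893) D19764 (iv D19693)
theorem F77726 : act 8 n19764 = n19586 := d34_2 (iv F76894) D19764 (iv D19586)
def n19765 : Q := act 6 n19574
theorem D19765 : act 6 n19574 = n19765 := rfl
theorem F77727 : act 0 n19765 = n19600 := d5_1 D19765 (iv D19600) (iv F76902)
theorem F77728 : act 1 n19765 = n19619 := d12_1 D19765 (iv D19619) (iv F76903)
theorem F77729 : act 3 n19765 = n19580 := d23_1 D19765 (iv D19580) (iv F76904)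
theorem F77730 : act 4 n19765 = n19575 := d27_1 D19765 (iv D19575) D19574
theorem F77731 : act 7 n19765 = n19673 := d33_2 (iv F76906) D19765 (iv D19673)
def n19766 : Q := act 6 n19576
theorem D19766 : act 6 n19576 = n19766 := rfl
theorem F77732 : act 0 n19766 = n19606 := d5_1 D19766 (iv D19606) (iv F76912)
theorem F77733 : act 2 n19766 = n19590 := d18_1 D19766 (iv D19590) (iv F76913)
theorem F77734 : act 4 n19766 = n19577 := d27_1 D19766 (iv D19577) D19576
theorem F77735 : act 7 n19766 = n19684 := d33_2 (iv F76915) D19766 (iv D19684)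
theorem F77736 : act 8 n19766 = n19580 := d34_2 (iv F76916) D19766 (iv D19580)
def n19767 : Q := act 6 n19578
theorem D19767 : act 6 n19578 = n19767 := rfl
theorem F77737 : act 0 n19767 = n19626 := d5_1 D19767 (iv D19626) (iv F76923)
theorem F77738 : act 1 n19767 = n19580 := d12_1 D19767 (iv D19580) (iv F76924)
theorem F77739 : act 3 n19767 = n19619 := d23_1 D19767 (iv D19619) (iv F76925)
theorem F77740 : act 4 n19767 = n19579 := d27_1 D19767 (iv D19579) D19578
theorem F77741 : act 7 n19767 = n19725 := d33_2 (iv F76927) D19767 (iv D19725)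
def n19768 : Q := act 5 n19580
theorem D19768 : act 5 n19580 = n19768 := rfl
theorem F77742 : act 0 n19768 = n19612 := d4_1 D19768 (iv D19612) (iv F76933)
theorem F77743 : act 6 n19768 = n19768 := d30_2 D19580 D19768 (iv D19768) (iv D19580) F75816
theorem F77744 : act 7 n19768 = n19726 := d31_2 (iv F76935) D19768 (iv D19726)
def n19769 : Q := act 6 n19581
theorem D19769 : act 6 n19581 = n19769 := rfl
theorem F77745 : act 0 n19769 = n19730 := d5_1 D19769 (iv D19730) (iv F76936)
theorem F77746 : act 1 n19769 = n19697 := d12_1 D19769 (iv D19697) (iv F76937)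
theorem F77747 : act 3 n19769 = n19586 := d23_1 D19769 (iv D19586) (iv F76938)
theorem F77748 : act 4 n19769 = n19582 := d27_1 D19769 (iv D19582) D19581
theorem F77749 : act 8 n19769 = n19659 := d34_2 (iv F76940) D19769 (iv D19659)
def n19770 : Q := act 7 n19581
theorem D19770 : act 7 n19581 = n19770 := rfl
theorem F77750 : act 0 n19770 = n19731 := d6_1 D19770 (iv D19731) (iv F76936)
theorem F77751 : act 1 n19770 = n19649 := d13_1 D19770 F77239 (iv F76937)
theorem F77752 : act 3 n19770 = n19652 := d24_1 D19770 F77254 F76702 (iv F75855) (iv F76938)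
theorem F77753 : act 4 n19770 = n19583 := d28_1 D19770 (iv D19583) D19581
theorem F77754 : act 5 n19770 = n19770 := d31_1 D19770 (iv D19770) F76939
theorem F77755 : act 8 n19770 = n19714 := d35_2 (iv F76940) D19770 (iv F77698) F77699 F76973
def n19771 : Q := act 7 n19582
theorem D19771 : act 7 n19582 = n19771 := rfl
theorem F77756 : act 0 n19771 = n19732 := d6_1 D19771 (iv D19732) (iv F76941)
theorem F77757 : act 1 n19771 = n19650 := d13_1 D19771 F77245 (iv F76942)
theorem F77758 : act 3 n19771 = n19587 := d24_1 D19771 (iv D19587) F75861 (iv F75842) (iv F76943)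
theorem F77759 : act 5 n19771 = n19671 := d31_1 D19771 (iv D19671) (iv F76944)
theorem F77760 : act 6 n19771 = n19583 := d33_1 D19771 (iv D19583) D19582
theorem F77761 : act 8 n19771 = n19715 := d35_2 (iv F76945) D19771 (iv F77704) F77705 F76978
def n19772 : Q := act 6 n19584
theorem D19772 : act 6 n19584 = n19772 := rfl
theorem F77762 : act 1 n19772 = n19586 := d12_1 D19772 (iv D19586) (iv F76951)
theorem F77763 : act 3 n19772 = n19697 := d23_1 D19772 (iv D19697) (iv F76952)
theorem F77764 : act 4 n19772 = n19585 := d27_1 D19772 (iv D19585) D19584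
theorem F77765 : act 7 n19772 = n19746 := d33_2 (iv F76954) D19772 (iv D19746)
theorem F77766 : act 8 n19772 = n19696 := d34_2 (iv F76955) D19772 (iv D19696)
def n19773 : Q := act 5 n19586
theorem D19773 : act 5 n19586 = n19773 := rfl
theorem F77767 : act 2 n19773 = n19612 := d17_1 D19773 (iv D19612) (iv F76960)
theorem F77768 : act 6 n19773 = n19773 := d30_2 D19586 D19773 (iv D19773) (iv D19586) F75854
theorem F77769 : act 7 n19773 = n19747 := d31_2 (iv F76962) D19773 (iv D19747)
def n19774 : Q := act 6 n19588
theorem D19774 : act 6 n19588 = n19774 := rfl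
theorem F77770 : act 0 n19774 = n19735 := d5_1 D19774 F77594 (iv F76969)
theorem F77771 : act 1 n19774 = n19590 := d12_1 D19774 (iv D19590) (iv F76970)
theorem F77772 : act 3 n19774 = n19733 := d23_1 D19774 (iv D19733) (iv F76971)
theorem F77773 : act 4 n19774 = n19589 := d27_1 D19774 (iv D19589) D19588
theorem F77774 : act 7 n19774 = n19659 := d33_2 (iv F76973) D19774 (iv D19659)
def n19775 : Q := act 5 n19590
theorem D19775 : act 5 n19590 = n19775 := rfl
theorem F77775 : act 3 n19775 = n19734 := d22_1 D19775 (iv D19734) (iv F76979)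
theorem F77776 : act 4 n19775 = n19612 := d26_1 D19775 (iv D19612) F75994 (iv F75889) (iv F76980)
theorem F77777 : act 6 n19775 = n19775 := d30_2 D19590 D19775 (iv D19775) (iv D19590) F75886
theorem F77778 : act 7 n19775 = n19698 := d31_2 (iv F76981) D19775 (iv D19698)
def n19776 : Q := act 6 n19591
theorem D19776 : act 6 n19591 = n19776 := rfl
theorem F77779 : act 2 n19776 = n19600 := d18_1 D19776 (iv D19600) (iv F76982)
theorem F77780 : act 4 n19776 = n19592 := d27_1 D19776 (iv D19592) D19591
theorem F77781 : act 7 n19776 = n19633 := d33_2 (iv F76984) D19776 (iv D19633)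
theorem F77782 : act 8 n19776 = n19759 := d34_2 (iv F76985) D19776 F77692
def n19777 : Q := act 4 n19593
theorem D19777 : act 4 n19593 = n19777 := rfl
theorem F77783 : act 0 n19777 = n19631 := d3_1 D19777 (iv D19631) (iv F76990)
theorem F77784 : act 1 n19777 = n19595 := d10_1 D19777 (iv D19595) (iv F76991)
theorem F77785 : act 3 n19777 = n19603 := d21_1 D19777 (iv D19603) F75957 (iv F75914) (iv F76992)
theorem F77786 : act 5 n19777 = n19777 := d26_2 D19593 D19777 (iv D19777) (iv D19593) F75907
theorem F77787 : act 7 n19777 = n19755 := d28_2 (iv F76993) D19777 (iv D19755)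
theorem F77788 : act 8 n19777 = n19598 := d29_2 (iv F76994) D19777 (iv D19598)
def n19778 : Q := act 6 n19593
theorem D19778 : act 6 n19593 = n19778 := rfl
theorem F77789 : act 0 n19778 = n19632 := d5_1 D19778 (iv D19632) (iv F76990)
theorem F77790 : act 1 n19778 = n19596 := d12_1 D19778 (iv D19596) (iv F76991)
theorem F77791 : act 3 n19778 = n19594 := d23_1 D19778 (iv D19594) (iv F76992)
theorem F77792 : act 5 n19778 = n19710 := d30_1 D19778 F77500 F76554 (iv F75908) D19593
theorem F77793 : act 7 n19778 = n19756 := d33_2 (iv F76993) D19778 (iv D19756)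
theorem F77794 : act 8 n19778 = n19599 := d34_2 (iv F76994) D19778 (iv D19599)
def n19779 : Q := act 6 n19595
theorem D19779 : act 6 n19595 = n19779 := rfl
theorem F77795 : act 2 n19779 = n19759 := d18_1 D19779 F77692 (iv F77002)
theorem F77796 : act 3 n19779 = n19606 := d23_1 D19779 (iv D19606) (iv F77003)
theorem F77797 : act 4 n19779 = n19596 := d27_1 D19779 (iv D19596) D19595
theorem F77798 : act 7 n19779 = n19757 := d33_2 (iv F77005) D19779 (iv D19757)
theorem F77799 : act 8 n19779 = n19600 := d34_2 (iv F77006) D19779 (iv D19600)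
def n19780 : Q := act 4 n19597
theorem D19780 : act 4 n19597 = n19780 := rfl
theorem F77800 : act 0 n19780 = n19634 := d3_1 D19780 (iv D19634) (iv F77012)
theorem F77801 : act 2 n19780 = n19598 := d16_1 D19780 (iv D19598) (iv F77013)
theorem F77802 : act 3 n19780 = n19744 := d21_1 D19780 (iv D19744) F76728 (iv F76177) (iv F77014)
theorem F77803 : act 5 n19780 = n19780 := d26_2 D19597 D19780 (iv D19780) (iv D19597) F75928
theorem F77804 : act 7 n19780 = n19646 := d28_2 (iv F77015) D19780 (iv D19646)
def n19781 : Q := act 6 n19597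
theorem D19781 : act 6 n19597 = n19781 := rfl
theorem F77805 : act 0 n19781 = n19635 := d5_1 D19781 (iv D19635) (iv F77012)
theorem F77806 : act 2 n19781 = n19599 := d18_1 D19781 (iv D19599) (iv F77013)
theorem F77807 : act 3 n19781 = n19644 := d23_1 D19781 (iv D19644) (iv F77014)
theorem F77808 : act 5 n19781 = n19706 := d30_1 D19781 F77489 F76545 (iv F75929) D19597
theorem F77809 : act 7 n19781 = n19647 := d33_2 (iv F77015) D19781 (iv D19647)
def n19782 : Q := act 6 n19598
theorem D19782 : act 6 n19598 = n19782 := rfl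
theorem F77810 : act 0 n19782 = n19636 := d5_1 D19782 (iv D19636) (iv F77016)
theorem F77811 : act 1 n19782 = n19600 := d12_1 D19782 (iv D19600) (iv F77017)
theorem F77812 : act 3 n19782 = n19611 := d23_1 D19782 (iv D19611) (iv F77018)
theorem F77813 : act 4 n19782 = n19599 := d27_1 D19782 (iv D19599) D19598
theorem F77814 : act 7 n19782 = n19648 := d33_2 (iv F77020) D19782 (iv D19648)
def n19783 : Q := act 5 n19600
theorem D19783 : act 5 n19600 = n19783 := rfl
theorem F77815 : act 3 n19783 = n19612 := d22_1 D19783 (iv D19612) (iv F77026)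
theorem F77816 : act 6 n19783 = n19783 := d30_2 D19600 D19783 (iv D19783) (iv D19600) F75942
def n19784 : Q := act 4 n19601
theorem D19784 : act 4 n19601 = n19784 := rfl
theorem F77817 : act 0 n19784 = n19603 := d3_1 D19784 (iv D19603) (iv F77028)
theorem F77818 : act 1 n19784 = n19624 := d10_1 D19784 (iv D19624) (iv F77029)
theorem F77819 : act 2 n19784 = n19760 := d16_1 D19784 (iv D19760) (iv F77030)
theorem F77820 : act 3 n19784 = n19631 := d21_1 D19784 (iv D19631) F76102 (iv F75953) (iv F77031)
theorem F77821 : act 5 n19784 = n19784 := d26_2 D19601 D19784 (iv D19784) (iv D19601) F75947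
theorem F77822 : act 8 n19784 = n19609 := d29_2 (iv F77032) D19784 (iv D19609)
def n19785 : Q := act 6 n19601
theorem D19785 : act 6 n19601 = n19785 := rfl
theorem F77823 : act 0 n19785 = n19604 := d5_1 D19785 (iv D19604) (iv F77028)
theorem F77824 : act 1 n19785 = n19625 := d12_1 D19785 (iv D19625) (iv F77029)
theorem F77825 : act 2 n19785 = n19761 := d18_1 D19785 (iv D19761) (iv F77030)
theorem F77826 : act 3 n19785 = n19602 := d23_1 D19785 (iv D19602) (iv F77031)
theorem F77827 : act 5 n19785 = n19737 := d30_1 D19785 F77602 F76676 (iv F75948) D19601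
theorem F77828 : act 8 n19785 = n19610 := d34_2 (iv F77032) D19785 (iv D19610)
def n19786 : Q := act 6 n19603
theorem D19786 : act 6 n19603 = n19786 := rfl
theorem F77829 : act 1 n19786 = n19606 := d12_1 D19786 (iv D19606) (iv F77040)
theorem F77830 : act 4 n19786 = n19604 := d27_1 D19786 (iv D19604) D19603
theorem F77831 : act 8 n19786 = n19611 := d34_2 (iv F77042) D19786 (iv D19611)
def n19787 : Q := act 7 n19603
theorem D19787 : act 7 n19603 = n19787 := rfl
theorem F77832 : act 1 n19787 = n19607 := d13_1 D19787 (iv D19607) (iv F77040)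
theorem F77833 : act 4 n19787 = n19605 := d28_1 D19787 (iv D19605) D19603
theorem F77834 : act 5 n19787 = n19787 := d31_1 D19787 (iv D19787) F77041
theorem F77835 : act 8 n19787 = n19670 := d35_2 (iv F77042) D19787 (iv D19670) F76332 (iv F75990)
def n19788 : Q := act 7 n19604
theorem D19788 : act 7 n19604 = n19788 := rfl
theorem F77836 : act 1 n19788 = n19608 := d13_1 D19788 (iv D19608) (iv F77043)
theorem F77837 : act 3 n19788 = n19643 := d24_1 D19788 (iv D19643) F76164 (iv F75966) (iv F77044)
theorem F77838 : act 5 n19788 = n19715 := d31_1 D19788 (iv F77704) F77703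
theorem F77839 : act 6 n19788 = n19605 := d33_1 D19788 (iv D19605) D19604
theorem F77840 : act 8 n19788 = n19671 := d35_2 (iv F77045) D19788 (iv D19671) F76335 (iv F75993)
def n19789 : Q := act 5 n19606
theorem D19789 : act 5 n19606 = n19789 := rfl
theorem F77841 : act 6 n19789 = n19789 := d30_2 D19606 D19789 (iv D19789) (iv D19606) F75968
theorem F77842 : act 8 n19789 = n19612 := d32_2 (iv F77051) D19789 (iv D19612)
def n19790 : Q := act 7 n19606
theorem D19790 : act 7 n19606 = n19790 := rfl
theorem F77843 : act 0 n19790 = n19684 := d6_1 D19790 (iv F77735) F77732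
theorem F77844 : act 2 n19790 = n19693 := d19_1 D19790 (iv F77725) F77722
theorem F77845 : act 4 n19790 = n19608 := d28_1 D19790 (iv D19608) (iv F77050)
theorem F77846 : act 6 n19790 = n19607 := d33_1 D19790 (iv D19607) D19606
theorem F77847 : act 8 n19790 = n19752 := d35_2 (iv F77051) D19790 (iv D19752) F76767 (iv F75995)
def n19791 : Q := act 6 n19609
theorem D19791 : act 6 n19609 = n19791 := rfl
theorem F77848 : act 0 n19791 = n19611 := d5_1 D19791 (iv D19611) (iv F77063)
theorem F77849 : act 1 n19791 = n19626 := d12_1 D19791 (iv D19626) (iv F77064)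
theorem F77850 : act 2 n19791 = n19774 := d18_1 D19791 (iv D19774) (iv F77065)
theorem F77851 : act 3 n19791 = n19636 := d23_1 D19791 (iv D19636) (iv F77066)
theorem F77852 : act 4 n19791 = n19610 := d27_1 D19791 (iv D19610) D19609
theorem F77853 : act 7 n19791 = n19663 := d33_2 (iv F77068) D19791 (iv D19663)
def n19792 : Q := act 5 n19611
theorem D19792 : act 5 n19611 = n19792 := rfl
theorem F77854 : act 1 n19792 = n19612 := d11_1 D19792 (iv D19612) (iv F77075)
theorem F77855 : act 6 n19792 = n19792 := d30_2 D19611 D19792 (iv D19792) (iv D19611) F75989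
theorem F77856 : act 7 n19792 = n19672 := d31_2 (iv F77077) D19792 (iv D19672)
def n19793 : Q := act 5 n19613
theorem D19793 : act 5 n19613 = n19793 := rfl
theorem F77857 : act 1 n19793 = n19655 := d11_1 D19793 (iv D19655) (iv F77080)
theorem F77858 : act 3 n19793 = n19707 := d22_1 D19793 (iv D19707) (iv F77081)
theorem F77859 : act 4 n19793 = n19675 := d26_1 D19793 (iv D19675) F76361 (iv F76003) (iv F77082)
theorem F77860 : act 6 n19793 = n19793 := d30_2 D19613 D19793 (iv D19793) (iv D19613) F75998
theorem F77861 : act 7 n19793 = n19637 := d31_2 (iv F77083) D19793 (iv D19637)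
theorem F77862 : act 8 n19793 = n19758 := d32_2 (iv F77084) D19793 (iv D19758)
def n19794 : Q := act 6 n19614
theorem D19794 : act 6 n19614 = n19794 := rfl
theorem F77863 : act 0 n19794 = n19708 := d5_1 D19794 F77493 (iv F77085)
theorem F77864 : act 1 n19794 = n19616 := d12_1 D19794 (iv D19616) (iv F77086)
theorem F77865 : act 3 n19794 = n19725 := d23_1 D19794 (iv D19725) (iv F77087)
theorem F77866 : act 4 n19794 = n19615 := d27_1 D19794 (iv D19615) D19614
theorem F77867 : act 7 n19794 = n19645 := d33_2 (iv F77089) D19794 (iv D19645)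
def n19795 : Q := act 5 n19616
theorem D19795 : act 5 n19616 = n19795 := rfl
theorem F77868 : act 0 n19795 = n19750 := d4_1 D19795 (iv D19750) (iv F77095)
theorem F77869 : act 2 n19795 = n19793 := d17_1 D19795 (iv D19793) (iv F77096)
theorem F77870 : act 3 n19795 = n19726 := d22_1 D19795 (iv D19726) (iv F77097)
theorem F77871 : act 4 n19795 = n19637 := d26_1 D19795 (iv D19637) F76122 (iv F76024) (iv F77098)
theorem F77872 : act 6 n19795 = n19795 := d30_2 D19616 D19795 (iv D19795) (iv D19616) F76019
theorem F77873 : act 7 n19795 = n19675 := d31_2 (iv F77099) D19795 (iv D19675)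
def n19796 : Q := act 6 n19617
theorem D19796 : act 6 n19617 = n19796 := rfl
theorem F77874 : act 0 n19796 = n19633 := d5_1 D19796 (iv D19633) (iv F77100)
theorem F77875 : act 2 n19796 = n19673 := d18_1 D19796 (iv D19673) (iv F77101)
theorem F77876 : act 4 n19796 = n19618 := d27_1 D19796 (iv D19618) D19617
theorem F77877 : act 8 n19796 = n19619 := d34_2 (iv F77103) D19796 (iv D19619)
def n19797 : Q := act 5 n19619
theorem D19797 : act 5 n19619 = n19797 := rfl
theorem F77878 : act 0 n19797 = n19637 := d4_1 D19797 (iv D19637) (iv F77109)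
theorem F77879 : act 4 n19797 = n19750 := d26_1 D19797 (iv D19750) F76765 (iv F76054) (iv F77110)
theorem F77880 : act 6 n19797 = n19797 := d30_2 D19619 D19797 (iv D19797) (iv D19619) F76051
def n19798 : Q := act 6 n19620
theorem D19798 : act 6 n19620 = n19798 := rfl
theorem F77881 : act 1 n19798 = n19766 := d12_1 D19798 (iv D19766) (iv F77111)
theorem F77882 : act 2 n19798 = n19626 := d18_1 D19798 (iv D19626) (iv F77112)
theorem F77883 : act 3 n19798 = n19796 := d23_1 D19798 (iv D19796) (iv F77113)
theorem F77884 : act 4 n19798 = n19621 := d27_1 D19798 (iv D19621) D19620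
theorem F77885 : act 8 n19798 = n19767 := d34_2 (iv F77115) D19798 (iv D19767)
def n19799 : Q := act 6 n19622
theorem D19799 : act 6 n19622 = n19799 := rfl
theorem F77886 : act 0 n19799 = n19696 := d5_1 D19799 (iv D19696) (iv F77121)
theorem F77887 : act 1 n19799 = n19735 := d12_1 D19799 F77594 (iv F77122)
theorem F77888 : act 2 n19799 = n19772 := d18_1 D19799 (iv D19772) (iv F77123)
theorem F77889 : act 3 n19799 = n19693 := d23_1 D19799 (iv D19693) (iv F77124)
theorem F77890 : act 4 n19799 = n19623 := d27_1 D19799 (iv D19623) D19622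
theorem F77891 : act 7 n19799 = n19733 := d33_2 (iv F77126) D19799 (iv D19733)
def n19800 : Q := act 6 n19624
theorem D19800 : act 6 n19624 = n19800 := rfl
theorem F77892 : act 0 n19800 = n19798 := d5_1 D19800 (iv D19798) (iv F77133)
theorem F77893 : act 2 n19800 = n19767 := d18_1 D19800 (iv D19767) (iv F77134)
theorem F77894 : act 3 n19800 = n19633 := d23_1 D19800 (iv D19633) (iv F77135)
theorem F77895 : act 4 n19800 = n19625 := d27_1 D19800 (iv D19625) D19624
theorem F77896 : act 8 n19800 = n19626 := d34_2 (iv F77137) D19800 (iv D19626)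
def n19801 : Q := act 5 n19626
theorem D19801 : act 5 n19626 = n19801 := rfl
theorem F77897 : act 3 n19801 = n19637 := d22_1 D19801 (iv D19637) (iv F77142)
theorem F77898 : act 6 n19801 = n19801 := d30_2 D19626 D19801 (iv D19801) (iv D19626) F76085
def n19802 : Q := act 7 n19626
theorem D19802 : act 7 n19626 = n19802 := rfl
theorem F77899 : act 0 n19802 = n19725 := d6_1 D19802 (iv F77741) F77737
theorem F77900 : act 1 n19802 = n19663 := d13_1 D19802 (iv F77853) F77849
theorem F77901 : act 3 n19802 = n19708 := d24_1 D19802 (iv D19708) (iv F77081) F77083 (iv F77142)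
theorem F77902 : act 4 n19802 = n19628 := d28_1 D19802 (iv D19628) (iv F77143)
theorem F77903 : act 6 n19802 = n19627 := d33_1 D19802 (iv D19627) D19626
def n19803 : Q := act 8 n19627
theorem D19803 : act 8 n19627 = n19803 := rfl
theorem F77904 : act 0 n19803 = n19720 := d7_1 D19803 F77548 (iv F77144)
theorem F77905 : act 1 n19803 = n19660 := d14_1 D19803 F77285 (iv F77145)
theorem F77906 : act 3 n19803 = n19709 := d25_1 D19803 (iv D19709) (iv F77146)
theorem F77907 : act 4 n19803 = n19629 := d29_1 D19803 (iv D19629) (iv F77147)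
theorem F77908 : act 5 n19803 = n19803 := d32_1 D19803 (iv D19803) F77148
def n19804 : Q := act 8 n19628
theorem D19804 : act 8 n19628 = n19804 := rfl
theorem F77909 : act 0 n19804 = n19721 := d7_1 D19804 F77551 (iv F77149)
theorem F77910 : act 1 n19804 = n19661 := d14_1 D19804 F77290 (iv F77150)
theorem F77911 : act 3 n19804 = n19638 := d25_1 D19804 (iv D19638) (iv F77151)
theorem F77912 : act 5 n19804 = n19728 := d32_1 D19804 F77572 (iv F77152)
theorem F77913 : act 6 n19804 = n19629 := d34_1 D19804 (iv D19629) (iv F77153)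
def n19805 : Q := act 4 n19630
theorem D19805 : act 4 n19630 = n19805 := rfl
theorem F77914 : act 1 n19805 = n19646 := d10_1 D19805 (iv D19646) (iv F77158)
theorem F77915 : act 2 n19805 = n19631 := d16_1 D19805 (iv D19631) (iv F77159)
theorem F77916 : act 3 n19805 = n19741 := d21_1 D19805 (iv D19741) F76714 (iv F76161) (iv F77160)
theorem F77917 : act 5 n19805 = n19805 := d26_2 D19630 D19805 (iv D19805) (iv D19630) F76098
theorem F77918 : act 8 n19805 = n19634 := d29_2 (iv F77161) D19805 (iv D19634)
def n19806 : Q := act 6 n19630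
theorem D19806 : act 6 n19630 = n19806 := rfl
theorem F77919 : act 1 n19806 = n19647 := d12_1 D19806 (iv D19647) (iv F77158)
theorem F77920 : act 2 n19806 = n19632 := d18_1 D19806 (iv D19632) (iv F77159)
theorem F77921 : act 3 n19806 = n19642 := d23_1 D19806 (iv D19642) (iv F77160)
theorem F77922 : act 5 n19806 = n19702 := d30_1 D19806 (iv D19702) (iv D19481) (iv F76099) D19630
theorem F77923 : act 8 n19806 = n19635 := d34_2 (iv F77161) D19806 (iv D19635)
def n19807 : Q := act 6 n19631
theorem D19807 : act 6 n19631 = n19807 := rfl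
theorem F77924 : act 1 n19807 = n19633 := d12_1 D19807 (iv D19633) (iv F77162)
theorem F77925 : act 4 n19807 = n19632 := d27_1 D19807 (iv D19632) D19631
theorem F77926 : act 8 n19807 = n19636 := d34_2 (iv F77164) D19807 (iv D19636)
def n19808 : Q := act 5 n19633
theorem D19808 : act 5 n19633 = n19808 := rfl
theorem F77927 : act 6 n19808 = n19808 := d30_2 D19633 D19808 (iv D19808) (iv D19633) F76108
theorem F77928 : act 8 n19808 = n19637 := d32_2 (iv F77169) D19808 (iv D19637)
def n19809 : Q := act 6 n19634
theorem D19809 : act 6 n19634 = n19809 := rfl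
theorem F77929 : act 1 n19809 = n19739 := d12_1 D19809 (iv D19739) (iv F77170)
theorem F77930 : act 2 n19809 = n19636 := d18_1 D19809 (iv D19636) (iv F77171)
theorem F77931 : act 3 n19809 = n19746 := d23_1 D19809 (iv D19746) (iv F77172)
theorem F77932 : act 4 n19809 = n19635 := d27_1 D19809 (iv D19635) D19634
theorem F77933 : act 7 n19809 = n19654 := d33_2 (iv F77174) D19809 (iv D19654)
def n19810 : Q := act 5 n19636
theorem D19810 : act 5 n19636 = n19810 := rfl
theorem F77934 : act 1 n19810 = n19637 := d11_1 D19810 (iv D19637) (iv F77179)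
theorem F77935 : act 6 n19810 = n19810 := d30_2 D19636 D19810 (iv D19810) (iv D19636) F76117
theorem F77936 : act 7 n19810 = n19655 := d31_2 (iv F77181) D19810 (iv D19655)
def n19811 : Q := act 6 n19639
theorem D19811 : act 6 n19639 = n19811 := rfl
theorem F77937 : act 0 n19811 = n19642 := d5_1 D19811 (iv D19642) (iv F77190)
theorem F77938 : act 1 n19811 = n19651 := d12_1 D19811 (iv D19651) (iv F77191)
theorem F77939 : act 2 n19811 = n19640 := d18_1 D19811 (iv D19640) (iv F77192)
theorem F77940 : act 4 n19811 = n19740 := d27_1 D19811 (iv D19740) (iv F77193)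
theorem F77941 : act 5 n19811 = n19700 := d30_1 D19811 (iv D19700) (iv D19480) (iv F76143) D19639
theorem F77942 : act 7 n19811 = n19718 := d33_2 (iv F77194) D19811 (iv D19718)
theorem F77943 : act 8 n19811 = n19644 := d34_2 (iv F77195) D19811 (iv D19644)
def n19812 : Q := act 7 n19640
theorem D19812 : act 7 n19640 = n19812 := rfl
theorem F77944 : act 0 n19812 = n19643 := d6_1 D19812 (iv D19643) (iv F77196)
theorem F77945 : act 1 n19812 = n19681 := d13_1 D19812 F77383 (iv F77197)
theorem F77946 : act 2 n19812 = n19718 := d19_1 D19812 (iv F77942) F77939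
theorem F77947 : act 5 n19812 = n19712 := d31_1 D19812 F77511 (iv F77199)
theorem F77948 : act 6 n19812 = n19641 := d33_1 D19812 (iv D19641) D19640
theorem F77949 : act 8 n19812 = n19753 := d35_2 (iv F77200) D19812 (iv D19753) F76778 (iv F76181)
def n19813 : Q := act 5 n19645
theorem D19813 : act 5 n19645 = n19813 := rfl
theorem F77950 : act 0 n19813 = n19707 := d4_1 D19813 (iv D19707) (iv F77219)
theorem F77951 : act 1 n19813 = n19675 := d11_1 D19813 (iv D19675) (iv F77220)
theorem F77952 : act 4 n19813 = n19655 := d26_1 D19813 (iv D19655) F76235 (iv F76192) (iv F77221)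
theorem F77953 : act 6 n19813 = n19813 := d30_2 D19645 D19813 (iv D19813) (iv D19645) F76188
def n19814 : Q := act 6 n19646
theorem D19814 : act 6 n19646 = n19814 := rfl
theorem F77954 : act 0 n19814 = n19654 := d5_1 D19814 (iv D19654) (iv F77222)
theorem F77955 : act 2 n19814 = n19648 := d18_1 D19814 (iv D19648) (iv F77223)
theorem F77956 : act 3 n19814 = n19743 := d23_1 D19814 (iv D19743) (iv F77224)
theorem F77957 : act 4 n19814 = n19647 := d27_1 D19814 (iv D19647) D19646
theorem F77958 : act 8 n19814 = n19739 := d34_2 (iv F77226) D19814 (iv D19739)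
def n19815 : Q := act 5 n19648
theorem D19815 : act 5 n19648 = n19815 := rfl
theorem F77959 : act 0 n19815 = n19655 := d4_1 D19815 (iv D19655) (iv F77232)
theorem F77960 : act 4 n19815 = n19707 := d26_1 D19815 (iv D19707) F76546 (iv F76207) (iv F77233)
theorem F77961 : act 6 n19815 = n19815 := d30_2 D19648 D19815 (iv D19815) (iv D19648) F76203
theorem F77962 : act 8 n19815 = n19813 := d32_2 (iv F77234) D19815 (iv D19813)
def n19816 : Q := act 6 n19649
theorem D19816 : act 6 n19649 = n19816 := rfl
theorem F77963 : act 0 n19816 = n19743 := d5_1 D19816 (iv D19743) (iv F77235)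
theorem F77964 : act 2 n19816 = n19722 := d18_1 D19816 (iv D19722) (iv F77236)
theorem F77965 : act 3 n19816 = n19654 := d23_1 D19816 (iv D19654) (iv F77237)
theorem F77966 : act 4 n19816 = n19650 := d27_1 D19816 (iv D19650) D19649
theorem F77967 : act 7 n19816 = n19697 := d33_2 (iv F77239) D19816 (iv D19697)
theorem F77968 : act 8 n19816 = n19716 := d34_2 (iv F77240) D19816 (iv D19716)
def n19817 : Q := act 6 n19652
theorem D19817 : act 6 n19652 = n19817 := rfl
theorem F77969 : act 1 n19817 = n19654 := d12_1 D19817 (iv D19654) (iv F77251)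
theorem F77970 : act 2 n19817 = n19794 := d18_1 D19817 (iv D19794) (iv F77252)
theorem F77971 : act 4 n19817 = n19653 := d27_1 D19817 (iv D19653) D19652
theorem F77972 : act 7 n19817 = n19739 := d33_2 (iv F77254) D19817 (iv D19739)
def n19818 : Q := act 5 n19654
theorem D19818 : act 5 n19654 = n19818 := rfl
theorem F77973 : act 2 n19818 = n19655 := d17_1 D19818 (iv D19655) (iv F77260)
theorem F77974 : act 6 n19818 = n19818 := d30_2 D19654 D19818 (iv D19818) (iv D19654) F76232
def n19819 : Q := act 5 n19658
theorem D19819 : act 5 n19658 = n19819 := rfl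
theorem F77975 : act 0 n19819 = n19675 := d4_1 D19819 (iv D19675) (iv F77274)
theorem F77976 : act 2 n19819 = n19797 := d17_1 D19819 (iv D19797) (iv F77275)
theorem F77977 : act 6 n19819 = n19819 := d30_2 D19658 D19819 (iv D19819) (iv D19658) F76259
theorem F77978 : act 7 n19819 = n19750 := d31_2 (iv F77277) D19819 (iv D19750)
def n19820 : Q := act 5 n19659
theorem D19820 : act 5 n19659 = n19820 := rfl
theorem F77979 : act 0 n19820 = n19734 := d4_1 D19820 (iv D19734) (iv F77278)
theorem F77980 : act 1 n19820 = n19698 := d11_1 D19820 (iv D19698) (iv F77279)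
theorem F77981 : act 4 n19820 = n19672 := d26_1 D19820 (iv D19672) F76340 (iv F76271) (iv F77280)
theorem F77982 : act 6 n19820 = n19820 := d30_2 D19659 D19820 (iv D19820) (iv D19659) F76267
def n19821 : Q := act 6 n19660
theorem D19821 : act 6 n19660 = n19821 := rfl
theorem F77983 : act 0 n19821 = n19669 := d5_1 D19821 (iv D19669) (iv F77281)
theorem F77984 : act 2 n19821 = n19769 := d18_1 D19821 (iv D19769) (iv F77282)
theorem F77985 : act 3 n19821 = n19776 := d23_1 D19821 (iv D19776) (iv F77283)
theorem F77986 : act 4 n19821 = n19661 := d27_1 D19821 (iv D19661) D19660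
theorem F77987 : act 8 n19821 = n19663 := d34_2 (iv F77285) D19821 (iv D19663)
def n19822 : Q := act 7 n19660
theorem D19822 : act 7 n19660 = n19822 := rfl
theorem F77988 : act 0 n19822 = n19670 := d6_1 D19822 (iv D19670) (iv F77281)
theorem F77989 : act 2 n19822 = n19770 := d19_1 D19822 (iv D19770) (iv F77282)
theorem F77990 : act 3 n19822 = n19723 := d24_1 D19822 F77558 F77135 (iv F76984) (iv F77283)
theorem F77991 : act 4 n19822 = n19662 := d28_1 D19822 (iv D19662) D19660
theorem F77992 : act 5 n19822 = n19822 := d31_1 D19822 (iv D19822) F77284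
def n19823 : Q := act 7 n19661
theorem D19823 : act 7 n19661 = n19823 := rfl
theorem F77993 : act 0 n19823 = n19671 := d6_1 D19823 (iv D19671) (iv F77286)
theorem F77994 : act 2 n19823 = n19771 := d19_1 D19823 (iv D19771) (iv F77287)
theorem F77995 : act 3 n19823 = n19753 := d24_1 D19823 (iv D19753) F76776 (iv F76291) (iv F77288)
theorem F77996 : act 5 n19823 = n19732 := d31_1 D19823 (iv D19732) (iv F77289)
theorem F77997 : act 6 n19823 = n19662 := d33_1 D19823 (iv D19662) D19661
def n19824 : Q := act 5 n19663
theorem D19824 : act 5 n19663 = n19824 := rfl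
theorem F77998 : act 0 n19824 = n19672 := d4_1 D19824 (iv D19672) (iv F77295)
theorem F77999 : act 2 n19824 = n19820 := d17_1 D19824 (iv D19820) (iv F77296)
theorem F78000 : act 4 n19824 = n19734 := d26_1 D19824 (iv D19734) F76666 (iv F76299) (iv F77297)
theorem F78001 : act 6 n19824 = n19824 := d30_2 D19663 D19824 (iv D19824) (iv D19663) F76295
def n19825 : Q := act 6 n19664
theorem D19825 : act 6 n19664 = n19825 := rfl
theorem F78002 : act 0 n19825 = n19779 := d5_1 D19825 (iv D19779) (iv F77298)
theorem F78003 : act 1 n19825 = n19796 := d12_1 D19825 (iv D19796) (iv F77299)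
theorem F78004 : act 2 n19825 = n19668 := d18_1 D19825 (iv D19668) (iv F77300)
theorem F78005 : act 3 n19825 = n19766 := d23_1 D19825 (iv D19766) (iv F77301)
theorem F78006 : act 4 n19825 = n19665 := d27_1 D19825 (iv D19665) D19664
theorem F78007 : act 7 n19825 = n19749 := d33_2 (iv F77303) D19825 (iv D19749)
theorem F78008 : act 8 n19825 = n19765 := d34_2 (iv F77304) D19825 (iv D19765)
def n19826 : Q := act 6 n19666
theorem D19826 : act 6 n19666 = n19826 := rfl
theorem F78009 : act 0 n19826 = n19776 := d5_1 D19826 (iv D19776) (iv F77311)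
theorem F78010 : act 1 n19826 = n19749 := d12_1 D19826 (iv D19749) (iv F77312)
theorem F78011 : act 2 n19826 = n19765 := d18_1 D19826 (iv D19765) (iv F77313)
theorem F78012 : act 3 n19826 = n19669 := d23_1 D19826 (iv D19669) (iv F77314)
theorem F78013 : act 4 n19826 = n19667 := d27_1 D19826 (iv D19667) D19666
theorem F78014 : act 7 n19826 = n19796 := d33_2 (iv F77316) D19826 (iv D19796)
theorem F78015 : act 8 n19826 = n19668 := d34_2 (iv F77317) D19826 (iv D19668)
def n19827 : Q := act 5 n19668
theorem D19827 : act 5 n19668 = n19827 := rfl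
theorem F78016 : act 1 n19827 = n19750 := d11_1 D19827 (iv D19750) (iv F77325)
theorem F78017 : act 3 n19827 = n19672 := d22_1 D19827 (iv D19672) (iv F77326)
theorem F78018 : act 6 n19827 = n19827 := d30_2 D19668 D19827 (iv D19827) (iv D19668) F76327
def n19828 : Q := act 5 n19669
theorem D19828 : act 5 n19669 = n19828 := rfl
theorem F78019 : act 1 n19828 = n19751 := d11_1 D19828 (iv D19751) (iv F77328)
theorem F78020 : act 6 n19828 = n19828 := d30_2 D19669 D19828 (iv D19828) (iv D19669) F76331
theorem F78021 : act 8 n19828 = n19672 := d32_2 (iv F77330) D19828 (iv D19672)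
def n19829 : Q := act 7 n19669
theorem D19829 : act 7 n19669 = n19829 := rfl
theorem F78022 : act 1 n19829 = n19752 := d13_1 D19829 (iv D19752) (iv F77328)
theorem F78023 : act 4 n19829 = n19671 := d28_1 D19829 (iv D19671) (iv F77329)
theorem F78024 : act 6 n19829 = n19670 := d33_1 D19829 (iv D19670) D19669
def n19830 : Q := act 5 n19673
theorem D19830 : act 5 n19673 = n19830 := rfl
theorem F78025 : act 3 n19830 = n19675 := d22_1 D19830 (iv D19675) (iv F77339)
theorem F78026 : act 6 n19830 = n19830 := d30_2 D19673 D19830 (iv D19830) (iv D19673) F76342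
theorem F78027 : act 8 n19830 = n19819 := d32_2 (iv F77341) D19830 (iv D19819)
def n19831 : Q := act 5 n19674
theorem D19831 : act 5 n19674 = n19831 := rfl
theorem F78028 : act 0 n19831 = n19830 := d4_1 D19831 (iv D19830) (iv F77342)
theorem F78029 : act 1 n19831 = n19815 := d11_1 D19831 (iv D19815) (iv F77343)
theorem F78030 : act 2 n19831 = n19808 := d17_1 D19831 (iv D19808) (iv F77344)
theorem F78031 : act 3 n19831 = n19819 := d22_1 D19831 (iv D19819) (iv F77345)
theorem F78032 : act 4 n19831 = n19758 := d26_1 D19831 (iv D19758) F76825 (iv F76357) (iv F77346)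
theorem F78033 : act 6 n19831 = n19831 := d30_2 D19674 D19831 (iv D19831) (iv D19674) F76350
theorem F78034 : act 7 n19831 = n19783 := d31_2 (iv F77347) D19831 (iv D19783)
theorem F78035 : act 8 n19831 = n19675 := d32_2 (iv F77348) D19831 (iv D19675)
def n19832 : Q := act 6 n19676
theorem D19832 : act 6 n19676 = n19832 := rfl
theorem F78036 : act 0 n19832 = n19678 := d5_1 D19832 (iv D19678) (iv F77351)
theorem F78037 : act 1 n19832 = n19753 := d12_1 D19832 F77661 (iv F77352)
theorem F78038 : act 2 n19832 = n19686 := d18_1 D19832 (iv D19686) (iv F77353)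
theorem F78039 : act 4 n19832 = n19812 := d27_1 D19832 F77948 (iv F77354)
theorem F78040 : act 5 n19832 = n19740 := d30_1 D19832 (iv D19740) (iv D19532) (iv F76371) D19676
theorem F78041 : act 7 n19832 = n19738 := d33_2 (iv F77355) D19832 F77608
theorem F78042 : act 8 n19832 = n19681 := d34_2 (iv F77356) D19832 (iv D19681)
def n19833 : Q := act 4 n19677
theorem D19833 : act 4 n19677 = n19833 := rfl
theorem F78043 : act 1 n19833 = n19679 := d10_1 D19833 (iv D19679) (iv F77357)
theorem F78044 : act 2 n19833 = n19803 := d16_1 D19833 F77907 (iv F77358)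
theorem F78045 : act 3 n19833 = n19787 := d21_1 D19833 F77833 F77047 (iv F76382) (iv F77359)
theorem F78046 : act 5 n19833 = n19833 := d26_2 D19677 D19833 (iv D19833) (iv D19677) F76376
theorem F78047 : act 7 n19833 = n19720 := d28_2 (iv F77360) D19833 (iv D19720)
theorem F78048 : act 8 n19833 = n19682 := d29_2 (iv F77361) D19833 (iv D19682)
def n19834 : Q := act 6 n19677
theorem D19834 : act 6 n19677 = n19834 := rfl
theorem F78049 : act 1 n19834 = n19680 := d12_1 D19834 (iv D19680) (iv F77357)
theorem F78050 : act 2 n19834 = n19804 := d18_1 D19834 F77913 (iv F77358)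
theorem F78051 : act 3 n19834 = n19678 := d23_1 D19834 (iv D19678) (iv F77359)
theorem F78052 : act 5 n19834 = n19742 := d30_1 D19834 (iv D19742) (iv D19533) (iv F76377) D19677
theorem F78053 : act 7 n19834 = n19721 := d33_2 (iv F77360) D19834 (iv D19721)
theorem F78054 : act 8 n19834 = n19683 := d34_2 (iv F77361) D19834 (iv D19683)
def n19835 : Q := act 6 n19679
theorem D19835 : act 6 n19679 = n19835 := rfl
theorem F78055 : act 0 n19835 = n19752 := d5_1 D19835 F77656 (iv F77368)
theorem F78056 : act 2 n19835 = n19697 := d18_1 D19835 (iv D19697) (iv F77369)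
theorem F78057 : act 3 n19835 = n19790 := d23_1 D19835 F77846 (iv F77370)
theorem F78058 : act 4 n19835 = n19680 := d27_1 D19835 (iv D19680) D19679
theorem F78059 : act 7 n19835 = n19722 := d33_2 (iv F77372) D19835 (iv D19722)
theorem F78060 : act 8 n19835 = n19684 := d34_2 (iv F77373) D19835 (iv D19684)
def n19836 : Q := act 6 n19682
theorem D19836 : act 6 n19682 = n19836 := rfl
theorem F78061 : act 1 n19836 = n19684 := d12_1 D19836 (iv D19684) (iv F77384)
theorem F78062 : act 2 n19836 = n19802 := d18_1 D19836 F77903 (iv F77385)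
theorem F78063 : act 3 n19836 = n19829 := d23_1 D19836 F78024 (iv F77386)
theorem F78064 : act 4 n19836 = n19683 := d27_1 D19836 (iv D19683) D19682
theorem F78065 : act 7 n19836 = n19798 := d33_2 (iv F77388) D19836 (iv D19798)
def n19837 : Q := act 5 n19684
theorem D19837 : act 5 n19684 = n19837 := rfl
theorem F78066 : act 2 n19837 = n19698 := d17_1 D19837 (iv D19698) (iv F77394)
theorem F78067 : act 4 n19837 = n19747 := d26_1 D19837 (iv D19747) F76740 (iv F76411) (iv F77395)
theorem F78068 : act 6 n19837 = n19837 := d30_2 D19684 D19837 (iv D19837) (iv D19684) F76408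
def n19838 : Q := act 4 n19687
theorem D19838 : act 4 n19687 = n19838 := rfl
theorem F78069 : act 0 n19838 = n19727 := d3_1 D19838 (iv D19727) (iv F77406)
theorem F78070 : act 1 n19838 = n19689 := d10_1 D19838 (iv D19689) (iv F77407)
theorem F78071 : act 3 n19838 = n19736 := d21_1 D19838 F77597 F76675 (iv F76454) (iv F77408)
theorem F78072 : act 5 n19838 = n19838 := d26_2 D19687 D19838 (iv D19838) (iv D19687) F76447
theorem F78073 : act 7 n19838 = n19741 := d28_2 (iv F77409) D19838 (iv D19741)
theorem F78074 : act 8 n19838 = n19691 := d29_2 (iv F77410) D19838 (iv D19691)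
def n19839 : Q := act 6 n19687
theorem D19839 : act 6 n19687 = n19839 := rfl
theorem F78075 : act 0 n19839 = n19728 := d5_1 D19839 (iv D19728) (iv F77406)
theorem F78076 : act 1 n19839 = n19690 := d12_1 D19839 (iv D19690) (iv F77407)
theorem F78077 : act 3 n19839 = n19688 := d23_1 D19839 (iv D19688) (iv F77408)
theorem F78078 : act 5 n19839 = n19721 := d30_1 D19839 (iv D19721) (iv D19505) (iv F76448) D19687
theorem F78079 : act 7 n19839 = n19742 := d33_2 (iv F77409) D19839 (iv D19742)
theorem F78080 : act 8 n19839 = n19692 := d34_2 (iv F77410) D19839 (iv D19692)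
def n19840 : Q := act 6 n19689
theorem D19840 : act 6 n19689 = n19840 := rfl
theorem F78081 : act 0 n19840 = n19697 := d5_1 D19840 (iv D19697) (iv F77418)
theorem F78082 : act 2 n19840 = n19752 := d18_1 D19840 F77656 (iv F77419)
theorem F78083 : act 4 n19840 = n19690 := d27_1 D19840 (iv D19690) D19689
theorem F78084 : act 7 n19840 = n19743 := d33_2 (iv F77421) D19840 (iv D19743)
theorem F78085 : act 8 n19840 = n19693 := d34_2 (iv F77422) D19840 (iv D19693)
def n19841 : Q := act 6 n19691
theorem D19841 : act 6 n19691 = n19841 := rfl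
theorem F78086 : act 0 n19841 = n19733 := d5_1 D19841 (iv D19733) (iv F77429)
theorem F78087 : act 1 n19841 = n19693 := d12_1 D19841 (iv D19693) (iv F77430)
theorem F78088 : act 3 n19841 = n19735 := d23_1 D19841 F77594 (iv F77431)
theorem F78089 : act 4 n19841 = n19692 := d27_1 D19841 (iv D19692) D19691
theorem F78090 : act 7 n19841 = n19696 := d33_2 (iv F77433) D19841 (iv D19696)
def n19842 : Q := act 5 n19693
theorem D19842 : act 5 n19693 = n19842 := rfl
theorem F78091 : act 0 n19842 = n19698 := d4_1 D19842 (iv D19698) (iv F77439)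
theorem F78092 : act 4 n19842 = n19726 := d26_1 D19842 (iv D19726) F76639 (iv F76481) (iv F77440)
theorem F78093 : act 6 n19842 = n19842 := d30_2 D19693 D19842 (iv D19842) (iv D19693) F76478
def n19843 : Q := act 6 n19694
theorem D19843 : act 6 n19694 = n19843 := rfl
theorem F78094 : act 0 n19843 = n19772 := d5_1 D19843 (iv D19772) (iv F77441)
theorem F78095 : act 2 n19843 = n19696 := d18_1 D19843 (iv D19696) (iv F77442)
theorem F78096 : act 3 n19843 = n19840 := d23_1 D19843 (iv D19840) (iv F77443)
theorem F78097 : act 4 n19843 = n19695 := d27_1 D19843 (iv D19695) D19694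
theorem F78098 : act 8 n19843 = n19799 := d34_2 (iv F77445) D19843 (iv D19799)
def n19844 : Q := act 5 n19696
theorem D19844 : act 5 n19696 = n19844 := rfl
theorem F78099 : act 3 n19844 = n19698 := d22_1 D19844 (iv D19698) (iv F77451)
theorem F78100 : act 6 n19844 = n19844 := d30_2 D19696 D19844 (iv D19844) (iv D19696) F76493
def n19845 : Q := act 5 n19697
theorem D19845 : act 5 n19697 = n19845 := rfl
theorem F78101 : act 4 n19845 = n19751 := d26_1 D19845 (iv D19751) F76766 (iv F76498) (iv F77453)
theorem F78102 : act 6 n19845 = n19845 := d30_2 D19697 D19845 (iv D19845) (iv D19697) F76495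
theorem F78103 : act 8 n19845 = n19698 := d32_2 (iv F77454) D19845 (iv D19698)
def n19846 : Q := act 4 n19699
theorem D19846 : act 4 n19699 = n19846 := rfl
theorem F78104 : act 0 n19846 = n19701 := d3_1 D19846 (iv D19701) (iv F77457)
theorem F78105 : act 1 n19846 = n19780 := d10_1 D19846 (iv D19780) (iv F77458)
theorem F78106 : act 2 n19846 = n19709 := d16_1 D19846 F77495 (iv F77459)
theorem F78107 : act 5 n19846 = n19846 := d26_2 D19699 D19846 (iv D19846) (iv D19699) F76516
theorem F78108 : act 7 n19846 = n19805 := d28_2 (iv F77461) D19846 (iv D19805)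
theorem F78109 : act 8 n19846 = n19705 := d29_2 (iv F77462) D19846 F77484
def n19847 : Q := act 6 n19699
theorem D19847 : act 6 n19699 = n19847 := rfl
theorem F78110 : act 0 n19847 = n19702 := d5_1 D19847 (iv D19702) (iv F77457)
theorem F78111 : act 1 n19847 = n19781 := d12_1 D19847 (iv D19781) (iv F77458)
theorem F78112 : act 2 n19847 = n19710 := d18_1 D19847 F77500 (iv F77459)
theorem F78113 : act 3 n19847 = n19700 := d23_1 D19847 (iv D19700) (iv F77460)
theorem F78114 : act 7 n19847 = n19806 := d33_2 (iv F77461) D19847 (iv D19806)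
theorem F78115 : act 8 n19847 = n19706 := d34_2 (iv F77462) D19847 F77489
def n19848 : Q := act 6 n19701
theorem D19848 : act 6 n19701 = n19848 := rfl
theorem F78116 : act 1 n19848 = n19704 := d12_1 D19848 (iv D19704) (iv F77467)
theorem F78117 : act 4 n19848 = n19702 := d27_1 D19848 (iv D19702) D19701
theorem F78118 : act 8 n19848 = n19817 := d34_2 (iv F77469) D19848 (iv D19817)
def n19849 : Q := act 7 n19701
theorem D19849 : act 7 n19701 = n19849 := rfl
theorem F78119 : act 0 n19849 = n19805 := d6_1 D19849 (iv F78108) F78104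
theorem F78120 : act 1 n19849 = n19705 := d13_1 D19849 (iv D19705) (iv F77467)
theorem F78121 : act 2 n19849 = n19777 := d19_1 D19849 F77787 F77671
theorem F78122 : act 4 n19849 = n19703 := d28_1 D19849 (iv D19703) D19701
theorem F78123 : act 5 n19849 = n19849 := d31_1 D19849 (iv D19849) F77468
theorem F78124 : act 8 n19849 = n19780 := d35_2 (iv F77469) D19849 F77804 F77226 (iv F77254)
def n19850 : Q := act 7 n19702
theorem D19850 : act 7 n19702 = n19850 := rfl
theorem F78125 : act 0 n19850 = n19806 := d6_1 D19850 (iv F78114) F78110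
theorem F78126 : act 1 n19850 = n19706 := d13_1 D19850 (iv D19706) (iv F77470)
theorem F78127 : act 2 n19850 = n19778 := d19_1 D19850 F77793 F77677
theorem F78128 : act 3 n19850 = n19811 := d24_1 D19850 F77942 F77536 F76600 (iv F77471)
theorem F78129 : act 5 n19850 = n19847 := d31_1 D19850 F78114 F77922
theorem F78130 : act 6 n19850 = n19703 := d33_1 D19850 (iv D19703) D19702
theorem F78131 : act 8 n19850 = n19781 := d35_2 (iv F77472) D19850 F77809 F77231 (iv F77259)
def n19851 : Q := act 5 n19704
theorem D19851 : act 5 n19704 = n19851 := rfl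
theorem F78132 : act 2 n19851 = n19707 := d17_1 D19851 (iv D19707) (iv F77479)
theorem F78133 : act 6 n19851 = n19851 := d30_2 D19704 D19851 (iv D19851) (iv D19704) F76537
theorem F78134 : act 8 n19851 = n19818 := d32_2 (iv F77481) D19851 (iv D19818)
def n19852 : Q := act 7 n19704
theorem D19852 : act 7 n19704 = n19852 := rfl
theorem F78135 : act 0 n19852 = n19817 := d6_1 D19852 F77972 F77609
theorem F78136 : act 2 n19852 = n19708 := d19_1 D19852 (iv D19708) (iv F77479)
theorem F78137 : act 4 n19852 = n19706 := d28_1 D19852 (iv D19706) (iv F77480)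
theorem F78138 : act 6 n19852 = n19705 := d33_1 D19852 (iv D19705) D19704
def n19853 : Q := act 7 n19707
theorem D19853 : act 7 n19707 = n19853 := rfl
theorem F78139 : act 5 n19853 = n19708 := d31_1 D19853 (iv D19708) D19707
theorem F78140 : act 6 n19853 = n19853 := d33_1 D19853 (iv D19853) F77490
def n19854 : Q := act 8 n19708
theorem D19854 : act 8 n19708 = n19854 := rfl
theorem F78141 : act 1 n19854 = n19776 := d14_1 D19854 F77782 F77690
theorem F78142 : act 4 n19854 = n19710 := d29_1 D19854 (iv D19710) (iv F77492)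
theorem F78143 : act 6 n19854 = n19709 := d34_1 D19854 (iv D19709) (iv F77493)
theorem F78144 : act 7 n19854 = n19807 := d35_1 D19854 F77926 F77181 (iv F76547) D19708
def n19855 : Q := act 4 n19711
theorem D19855 : act 4 n19711 = n19855 := rfl
theorem F78145 : act 0 n19855 = n19714 := d3_1 D19855 (iv D19714) (iv F77502)
theorem F78146 : act 1 n19855 = n19744 := d10_1 D19855 (iv D19744) (iv F77503)
theorem F78147 : act 2 n19855 = n19787 := d16_1 D19855 F77833 (iv F77504)
theorem F78148 : act 3 n19855 = n19846 := d21_1 D19855 (iv D19846) F77460 (iv F76564) (iv F77505)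
theorem F78149 : act 5 n19855 = n19855 := d26_2 D19711 D19855 (iv D19855) (iv D19711) F76559
theorem F78150 : act 7 n19855 = n19736 := d28_2 (iv F77506) D19855 F77597
theorem F78151 : act 8 n19855 = n19731 := d29_2 (iv F77507) D19855 F77584
def n19856 : Q := act 6 n19711
theorem D19856 : act 6 n19711 = n19856 := rfl
theorem F78152 : act 0 n19856 = n19715 := d5_1 D19856 (iv D19715) (iv F77502)
theorem F78153 : act 1 n19856 = n19745 := d12_1 D19856 (iv D19745) (iv F77503)
theorem F78154 : act 2 n19856 = n19788 := d18_1 D19856 F77839 (iv F77504)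
theorem F78155 : act 3 n19856 = n19712 := d23_1 D19856 (iv D19712) (iv F77505)
theorem F78156 : act 7 n19856 = n19737 := d33_2 (iv F77506) D19856 F77602
theorem F78157 : act 8 n19856 = n19732 := d34_2 (iv F77507) D19856 F77587
def n19857 : Q := act 4 n19713
theorem D19857 : act 4 n19713 = n19857 := rfl
theorem F78158 : act 0 n19857 = n19787 := d3_1 D19857 F77833 (iv F77512)
theorem F78159 : act 1 n19857 = n19723 := d10_1 D19857 (iv D19723) (iv F77513)
theorem F78160 : act 2 n19857 = n19714 := d16_1 D19857 (iv D19714) (iv F77514)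
theorem F78161 : act 5 n19857 = n19857 := d26_2 D19713 D19857 (iv D19857) (iv D19713) F76569
theorem F78162 : act 7 n19857 = n19784 := d28_2 (iv F77516) D19857 (iv D19784)
theorem F78163 : act 8 n19857 = n19822 := d29_2 (iv F77517) D19857 F77991
def n19858 : Q := act 6 n19713
theorem D19858 : act 6 n19713 = n19858 := rfl
theorem F78164 : act 0 n19858 = n19788 := d5_1 D19858 F77839 (iv F77512)
theorem F78165 : act 1 n19858 = n19724 := d12_1 D19858 (iv D19724) (iv F77513)
theorem F78166 : act 2 n19858 = n19715 := d18_1 D19858 (iv D19715) (iv F77514)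
theorem F78167 : act 3 n19858 = n19812 := d23_1 D19858 F77948 (iv F77515)
theorem F78168 : act 5 n19858 = n19856 := d30_1 D19858 (iv D19856) (iv D19711) (iv F76570) D19713
theorem F78169 : act 7 n19858 = n19785 := d33_2 (iv F77516) D19858 (iv D19785)
theorem F78170 : act 8 n19858 = n19823 := d34_2 (iv F77517) D19858 F77997
def n19859 : Q := act 6 n19714
theorem D19859 : act 6 n19714 = n19859 := rfl
theorem F78171 : act 1 n19859 = n19716 := d12_1 D19859 (iv D19716) (iv F77518)
theorem F78172 : act 3 n19859 = n19848 := d23_1 D19859 (iv D19848) (iv F77519)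
theorem F78173 : act 4 n19859 = n19715 := d27_1 D19859 (iv D19715) D19714
def n19860 : Q := act 5 n19716
theorem D19860 : act 5 n19716 = n19860 := rfl
theorem F78174 : act 0 n19860 = n19747 := d4_1 D19860 (iv D19747) (iv F77523)
theorem F78175 : act 2 n19860 = n19726 := d17_1 D19860 (iv D19726) (iv F77524)
theorem F78176 : act 3 n19860 = n19851 := d22_1 D19860 (iv D19851) (iv F77525)
theorem F78177 : act 6 n19860 = n19860 := d30_2 D19716 D19860 (iv D19860) (iv D19716) F76581
def n19861 : Q := act 4 n19719
theorem D19861 : act 4 n19719 = n19861 := rfl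
theorem F78178 : act 0 n19861 = n19833 := d3_1 D19861 (iv D19833) (iv F77540)
theorem F78179 : act 1 n19861 = n19822 := d10_1 D19861 F77991 (iv F77541)
theorem F78180 : act 2 n19861 = n19720 := d16_1 D19861 (iv D19720) (iv F77542)
theorem F78181 : act 3 n19861 = n19857 := d21_1 D19861 (iv D19857) F77515 (iv F77354) (iv F77543)
theorem F78182 : act 5 n19861 = n19861 := d26_2 D19719 D19861 (iv D19861) (iv D19719) F76615
theorem F78183 : act 7 n19861 = n19803 := d28_2 (iv F77544) D19861 F77907
theorem F78184 : act 8 n19861 = n19723 := d29_2 (iv F77545) D19861 (iv D19723)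
def n19862 : Q := act 6 n19719
theorem D19862 : act 6 n19719 = n19862 := rfl
theorem F78185 : act 0 n19862 = n19834 := d5_1 D19862 (iv D19834) (iv F77540)
theorem F78186 : act 1 n19862 = n19823 := d12_1 D19862 F77997 (iv F77541)
theorem F78187 : act 2 n19862 = n19721 := d18_1 D19862 (iv D19721) (iv F77542)
theorem F78188 : act 3 n19862 = n19832 := d23_1 D19862 (iv D19832) (iv F77543)
theorem F78189 : act 7 n19862 = n19804 := d33_2 (iv F77544) D19862 F77913
theorem F78190 : act 8 n19862 = n19724 := d34_2 (iv F77545) D19862 (iv D19724)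
def n19863 : Q := act 6 n19720
theorem D19863 : act 6 n19720 = n19863 := rfl
theorem F78191 : act 1 n19863 = n19722 := d12_1 D19863 (iv D19722) (iv F77546)
theorem F78192 : act 4 n19863 = n19721 := d27_1 D19863 (iv D19721) D19720
theorem F78193 : act 8 n19863 = n19725 := d34_2 (iv F77548) D19863 (iv D19725)
def n19864 : Q := act 5 n19722
theorem D19864 : act 5 n19722 = n19864 := rfl
theorem F78194 : act 0 n19864 = n19751 := d4_1 D19864 (iv D19751) (iv F77552)
theorem F78195 : act 6 n19864 = n19864 := d30_2 D19722 D19864 (iv D19864) (iv D19722) F76625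
theorem F78196 : act 8 n19864 = n19726 := d32_2 (iv F77554) D19864 (iv D19726)
def n19865 : Q := act 6 n19723
theorem D19865 : act 6 n19723 = n19865 := rfl
theorem F78197 : act 0 n19865 = n19836 := d5_1 D19865 (iv D19836) (iv F77555)
theorem F78198 : act 2 n19865 = n19725 := d18_1 D19865 (iv D19725) (iv F77556)
theorem F78199 : act 4 n19865 = n19724 := d27_1 D19865 (iv D19724) D19723
theorem F78200 : act 7 n19865 = n19800 := d33_2 (iv F77558) D19865 (iv D19800)
def n19866 : Q := act 5 n19725
theorem D19866 : act 5 n19725 = n19866 := rfl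
theorem F78201 : act 1 n19866 = n19726 := d11_1 D19866 (iv D19726) (iv F77563)
theorem F78202 : act 6 n19866 = n19866 := d30_2 D19725 D19866 (iv D19866) (iv D19725) F76635
def n19867 : Q := act 6 n19727
theorem D19867 : act 6 n19727 = n19867 := rfl
theorem F78203 : act 1 n19867 = n19730 := d12_1 D19867 (iv D19730) (iv F77567)
theorem F78204 : act 4 n19867 = n19728 := d27_1 D19867 (iv D19728) D19727
theorem F78205 : act 8 n19867 = n19733 := d34_2 (iv F77569) D19867 (iv D19733)
def n19868 : Q := act 7 n19727
theorem D19868 : act 7 n19727 = n19868 := rfl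
theorem F78206 : act 0 n19868 = n19741 := d6_1 D19868 (iv F78073) F78069
theorem F78207 : act 1 n19868 = n19731 := d13_1 D19868 (iv D19731) (iv F77567)
theorem F78208 : act 2 n19868 = n19838 := d19_1 D19868 F78073 F77618
theorem F78209 : act 3 n19868 = n19849 := d24_1 D19868 (iv D19849) (iv F77519) (iv F77698) F77696
theorem F78210 : act 4 n19868 = n19729 := d28_1 D19868 (iv D19729) D19727
theorem F78211 : act 5 n19868 = n19868 := d31_1 D19868 (iv D19868) F77568
theorem F78212 : act 8 n19868 = n19744 := d35_2 (iv F77569) D19868 F77631 F77445 F77126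
def n19869 : Q := act 7 n19728
theorem D19869 : act 7 n19728 = n19869 := rfl
theorem F78213 : act 0 n19869 = n19742 := d6_1 D19869 (iv F78079) F78075
theorem F78214 : act 1 n19869 = n19732 := d13_1 D19869 (iv D19732) (iv F77570)
theorem F78215 : act 2 n19869 = n19839 := d19_1 D19869 F78079 F77622
theorem F78216 : act 3 n19869 = n19740 := d24_1 D19869 F77615 F77404 F76865 (iv F77571)
theorem F78217 : act 5 n19869 = n19862 := d31_1 D19869 F78189 F77912
theorem F78218 : act 6 n19869 = n19729 := d33_1 D19869 (iv D19729) D19728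
theorem F78219 : act 8 n19869 = n19745 := d35_2 (iv F77572) D19869 F77636 F77450 F77132
def n19870 : Q := act 5 n19730
theorem D19870 : act 5 n19730 = n19870 := rfl
theorem F78220 : act 2 n19870 = n19828 := d17_1 D19870 (iv D19828) (iv F77579)
theorem F78221 : act 6 n19870 = n19870 := d30_2 D19730 D19870 (iv D19870) (iv D19730) F76654
theorem F78222 : act 8 n19870 = n19734 := d32_2 (iv F77581) D19870 (iv D19734)
def n19871 : Q := act 7 n19730
theorem D19871 : act 7 n19730 = n19871 := rfl
theorem F78223 : act 2 n19871 = n19829 := d19_1 D19871 (iv D19829) (iv F77579)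
theorem F78224 : act 3 n19871 = n19852 := d24_1 D19871 (iv D19852) (iv F77525) (iv F77710) F77708
theorem F78225 : act 4 n19871 = n19732 := d28_1 D19871 (iv D19732) (iv F77580)
theorem F78226 : act 6 n19871 = n19731 := d33_1 D19871 (iv D19731) D19730
def n19872 : Q := act 5 n19733
theorem D19872 : act 5 n19733 = n19872 := rfl
theorem F78227 : act 1 n19872 = n19734 := d11_1 D19872 (iv D19734) (iv F77588)
theorem F78228 : act 6 n19872 = n19872 := d30_2 D19733 D19872 (iv D19872) (iv D19733) F76662
def n19873 : Q := act 7 n19734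
theorem D19873 : act 7 n19734 = n19873 := rfl
theorem F78229 : act 2 n19873 = n19792 := d19_1 D19873 F77856 (iv F77590)
theorem F78230 : act 5 n19873 = n19735 := d31_1 D19873 (iv D19735) D19734
theorem F78231 : act 6 n19873 = n19873 := d33_1 D19873 (iv D19873) F77591
def n19874 : Q := act 8 n19735
theorem D19874 : act 8 n19735 = n19874 := rfl
theorem F78232 : act 1 n19874 = n19843 := d14_1 D19874 F78098 F77887
theorem F78233 : act 2 n19874 = n19786 := d20_1 D19874 F77831 (iv F77592)
theorem F78234 : act 4 n19874 = n19737 := d29_1 D19874 (iv D19737) (iv F77593)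
theorem F78235 : act 6 n19874 = n19736 := d34_1 D19874 (iv D19736) (iv F77594)
def n19875 : Q := act 5 n19739
theorem D19875 : act 5 n19739 = n19875 := rfl
theorem F78236 : act 0 n19875 = n19851 := d4_1 D19875 (iv D19851) (iv F77609)
theorem F78237 : act 2 n19875 = n19813 := d17_1 D19875 (iv D19813) (iv F77610)
theorem F78238 : act 3 n19875 = n19747 := d22_1 D19875 (iv D19747) (iv F77611)
theorem F78239 : act 4 n19875 = n19818 := d26_1 D19875 (iv D19818) F77261 (iv F76707) (iv F77612)
theorem F78240 : act 6 n19875 = n19875 := d30_2 D19739 D19875 (iv D19875) (iv D19739) F76703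
def n19876 : Q := act 6 n19741
theorem D19876 : act 6 n19741 = n19876 := rfl
theorem F78241 : act 1 n19876 = n19743 := d12_1 D19876 (iv D19743) (iv F77617)
theorem F78242 : act 2 n19876 = n19867 := d18_1 D19876 (iv D19867) (iv F77618)
theorem F78243 : act 4 n19876 = n19742 := d27_1 D19876 (iv D19742) D19741
theorem F78244 : act 8 n19876 = n19746 := d34_2 (iv F77620) D19876 (iv D19746)
def n19877 : Q := act 5 n19743
theorem D19877 : act 5 n19743 = n19877 := rfl
theorem F78245 : act 2 n19877 = n19751 := d17_1 D19877 (iv D19751) (iv F77625)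
theorem F78246 : act 6 n19877 = n19877 := d30_2 D19743 D19877 (iv D19877) (iv D19743) F76721
theorem F78247 : act 8 n19877 = n19747 := d32_2 (iv F77627) D19877 (iv D19747)
def n19878 : Q := act 6 n19744
theorem D19878 : act 6 n19744 = n19878 := rfl
theorem F78248 : act 0 n19878 = n19746 := d5_1 D19878 (iv D19746) (iv F77628)
theorem F78249 : act 2 n19878 = n19841 := d18_1 D19878 (iv D19841) (iv F77629)
theorem F78250 : act 4 n19878 = n19745 := d27_1 D19878 (iv D19745) D19744
theorem F78251 : act 7 n19878 = n19843 := d33_2 (iv F77631) D19878 (iv D19843)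
def n19879 : Q := act 5 n19746
theorem D19879 : act 5 n19746 = n19879 := rfl
theorem F78252 : act 1 n19879 = n19747 := d11_1 D19879 (iv D19747) (iv F77637)
theorem F78253 : act 2 n19879 = n19872 := d17_1 D19879 (iv D19872) (iv F77638)
theorem F78254 : act 6 n19879 = n19879 := d30_2 D19746 D19879 (iv D19879) (iv D19746) F76735
def n19880 : Q := act 5 n19748
theorem D19880 : act 5 n19748 = n19880 := rfl
theorem F78255 : act 0 n19880 = n19793 := d4_1 D19880 (iv D19793) (iv F77642)
theorem F78256 : act 1 n19880 = n19830 := d11_1 D19880 (iv D19830) (iv F77643)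
theorem F78257 : act 2 n19880 = n19750 := d17_1 D19880 (iv D19750) (iv F77644)
theorem F78258 : act 3 n19880 = n19813 := d22_1 D19880 (iv D19813) (iv F77645)
theorem F78259 : act 4 n19880 = n19819 := d26_1 D19880 (iv D19819) F77276 (iv F76757) (iv F77646)
theorem F78260 : act 6 n19880 = n19880 := d30_2 D19748 D19880 (iv D19880) (iv D19748) F76751
theorem F78261 : act 7 n19880 = n19797 := d31_2 (iv F77647) D19880 (iv D19797)
def n19881 : Q := act 5 n19749
theorem D19881 : act 5 n19749 = n19881 := rfl
theorem F78262 : act 3 n19881 = n19751 := d22_1 D19881 (iv D19751) (iv F77648)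
theorem F78263 : act 6 n19881 = n19881 := d30_2 D19749 D19881 (iv D19881) (iv D19749) F76760
theorem F78264 : act 8 n19881 = n19750 := d32_2 (iv F77650) D19881 (iv D19750)
def n19882 : Q := act 7 n19751
theorem D19882 : act 7 n19751 = n19882 := rfl
theorem F78265 : act 5 n19882 = n19752 := d31_1 D19882 (iv D19752) D19751
theorem F78266 : act 6 n19882 = n19882 := d33_1 D19882 (iv D19882) F77653
theorem F78267 : act 3 n19837 = n19882 := d22_3 F78265 (iv F77657) D19837
def n19883 : Q := act 5 n19754
theorem D19883 : act 5 n19754 = n19883 := rfl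
theorem F78268 : act 0 n19883 = n19758 := d4_1 D19883 (iv D19758) (iv F77662)
theorem F78269 : act 1 n19883 = n19819 := d11_1 D19883 (iv D19819) (iv F77663)
theorem F78270 : act 2 n19883 = n19881 := d17_1 D19883 (iv D19881) (iv F77664)
theorem F78271 : act 3 n19883 = n19815 := d22_1 D19883 (iv D19815) (iv F77665)
theorem F78272 : act 4 n19883 = n19830 := d26_1 D19883 (iv D19830) F77340 (iv F76798) (iv F77666)
theorem F78273 : act 6 n19883 = n19883 := d30_2 D19754 D19883 (iv D19883) (iv D19754) F76791
theorem F78274 : act 7 n19883 = n19827 := d31_2 (iv F77667) D19883 (iv D19827)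
theorem F78275 : act 8 n19883 = n19880 := d32_2 (iv F77668) D19883 (iv D19880)
def n19884 : Q := act 6 n19755
theorem D19884 : act 6 n19755 = n19884 := rfl
theorem F78276 : act 0 n19884 = n19854 := d5_1 D19884 F78143 (iv F77669)
theorem F78277 : act 1 n19884 = n19757 := d12_1 D19884 (iv D19757) (iv F77670)
theorem F78278 : act 2 n19884 = n19848 := d18_1 D19884 (iv D19848) (iv F77671)
theorem F78279 : act 3 n19884 = n19863 := d23_1 D19884 (iv D19863) (iv F77672)
theorem F78280 : act 4 n19884 = n19756 := d27_1 D19884 (iv D19756) D19755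
theorem F78281 : act 8 n19884 = n19794 := d34_2 (iv F77674) D19884 (iv D19794)
def n19885 : Q := act 5 n19757
theorem D19885 : act 5 n19757 = n19885 := rfl
theorem F78282 : act 0 n19885 = n19881 := d4_1 D19885 (iv D19881) (iv F77681)
theorem F78283 : act 2 n19885 = n19758 := d17_1 D19885 (iv D19758) (iv F77682)
theorem F78284 : act 3 n19885 = n19864 := d22_1 D19885 (iv D19864) (iv F77683)
theorem F78285 : act 4 n19885 = n19808 := d26_1 D19885 (iv D19808) F77168 (iv F76821) (iv F77684)
theorem F78286 : act 6 n19885 = n19885 := d30_2 D19757 D19885 (iv D19885) (iv D19757) F76816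
theorem F78287 : act 8 n19885 = n19795 := d32_2 (iv F77685) D19885 (iv D19795)
def n19886 : Q := act 7 n19758
theorem D19886 : act 7 n19758 = n19886 := rfl
theorem F78288 : act 0 n19886 = n19827 := d6_1 D19886 (iv F78274) F78268
theorem F78289 : act 1 n19886 = n19853 := d13_1 D19886 (iv D19853) (iv F77686)
theorem F78290 : act 4 n19886 = n19783 := d28_1 D19886 (iv F78034) F78032
theorem F78291 : act 5 n19886 = n19759 := d31_1 D19886 (iv D19759) D19758
theorem F78292 : act 6 n19886 = n19886 := d33_1 D19886 (iv D19886) F77688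
theorem F78293 : act 3 n19824 = n19886 := d22_3 F78291 (iv F77693) D19824
def n19887 : Q := act 6 n19760
theorem D19887 : act 6 n19760 = n19887 := rfl
theorem F78294 : act 0 n19887 = n19874 := d5_1 D19887 F78235 (iv F77694)
theorem F78295 : act 1 n19887 = n19762 := d12_1 D19887 (iv D19762) (iv F77695)
theorem F78296 : act 3 n19887 = n19867 := d23_1 D19887 (iv D19867) (iv F77696)
theorem F78297 : act 4 n19887 = n19761 := d27_1 D19887 (iv D19761) D19760
theorem F78298 : act 7 n19887 = n19859 := d33_2 (iv F77698) D19887 (iv D19859)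
theorem F78299 : act 8 n19887 = n19774 := d34_2 (iv F77699) D19887 (iv D19774)
def n19888 : Q := act 5 n19762
theorem D19888 : act 5 n19762 = n19888 := rfl
theorem F78300 : act 0 n19888 = n19773 := d4_1 D19888 (iv D19773) (iv F77706)
theorem F78301 : act 2 n19888 = n19768 := d17_1 D19888 (iv D19768) (iv F77707)
theorem F78302 : act 3 n19888 = n19870 := d22_1 D19888 (iv D19870) (iv F77708)
theorem F78303 : act 4 n19888 = n19789 := d26_1 D19888 (iv D19789) F77050 (iv F76857) (iv F77709)
theorem F78304 : act 6 n19888 = n19888 := d30_2 D19762 D19888 (iv D19888) (iv D19762) F76851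
theorem F78305 : act 7 n19888 = n19860 := d31_2 (iv F77710) D19888 (iv D19860)
theorem F78306 : act 8 n19888 = n19775 := d32_2 (iv F77711) D19888 (iv D19775)
def n19889 : Q := act 5 n19764
theorem D19889 : act 5 n19764 = n19889 := rfl
theorem F78307 : act 0 n19889 = n19775 := d4_1 D19889 (iv D19775) (iv F77720)
theorem F78308 : act 1 n19889 = n19844 := d11_1 D19889 (iv D19844) (iv F77721)
theorem F78309 : act 2 n19889 = n19789 := d17_1 D19889 (iv D19789) (iv F77722)
theorem F78310 : act 3 n19889 = n19820 := d22_1 D19889 (iv D19820) (iv F77723)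
theorem F78311 : act 4 n19889 = n19768 := d26_1 D19889 (iv D19768) F76934 (iv F76899) (iv F77724)
theorem F78312 : act 6 n19889 = n19889 := d30_2 D19764 D19889 (iv D19889) (iv D19764) F76892
theorem F78313 : act 7 n19889 = n19842 := d31_2 (iv F77725) D19889 (iv D19842)
theorem F78314 : act 8 n19889 = n19773 := d32_2 (iv F77726) D19889 (iv D19773)
def n19890 : Q := act 5 n19765
theorem D19890 : act 5 n19765 = n19890 := rfl
theorem F78315 : act 0 n19890 = n19783 := d4_1 D19890 (iv D19783) (iv F77727)
theorem F78316 : act 1 n19890 = n19797 := d11_1 D19890 (iv D19797) (iv F77728)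
theorem F78317 : act 3 n19890 = n19768 := d22_1 D19890 (iv D19768) (iv F77729)
theorem F78318 : act 4 n19890 = n19827 := d26_1 D19890 (iv D19827) F77327 (iv F76910) (iv F77730)
theorem F78319 : act 6 n19890 = n19890 := d30_2 D19765 D19890 (iv D19890) (iv D19765) F76905
theorem F78320 : act 7 n19890 = n19830 := d31_2 (iv F77731) D19890 (iv D19830)
def n19891 : Q := act 5 n19766
theorem D19891 : act 5 n19766 = n19891 := rfl
theorem F78321 : act 0 n19891 = n19789 := d4_1 D19891 (iv D19789) (iv F77732)
theorem F78322 : act 2 n19891 = n19775 := d17_1 D19891 (iv D19775) (iv F77733)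
theorem F78323 : act 4 n19891 = n19773 := d26_1 D19891 (iv D19773) F76961 (iv F76920) (iv F77734)
theorem F78324 : act 6 n19891 = n19891 := d30_2 D19766 D19891 (iv D19891) (iv D19766) F76914
theorem F78325 : act 7 n19891 = n19837 := d31_2 (iv F77735) D19891 (iv D19837)
theorem F78326 : act 8 n19891 = n19768 := d32_2 (iv F77736) D19891 (iv D19768)
def n19892 : Q := act 5 n19767
theorem D19892 : act 5 n19767 = n19892 := rfl
theorem F78327 : act 0 n19892 = n19801 := d4_1 D19892 (iv D19801) (iv F77737)
theorem F78328 : act 1 n19892 = n19768 := d11_1 D19892 (iv D19768) (iv F77738)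
theorem F78329 : act 3 n19892 = n19797 := d22_1 D19892 (iv D19797) (iv F77739)
theorem F78330 : act 4 n19892 = n19844 := d26_1 D19892 (iv D19844) F77452 (iv F76931) (iv F77740)
theorem F78331 : act 6 n19892 = n19892 := d30_2 D19767 D19892 (iv D19892) (iv D19767) F76926
theorem F78332 : act 7 n19892 = n19866 := d31_2 (iv F77741) D19892 (iv D19866)
def n19893 : Q := act 5 n19769
theorem D19893 : act 5 n19769 = n19893 := rfl
theorem F78333 : act 0 n19893 = n19870 := d4_1 D19893 (iv D19870) (iv F77745)
theorem F78334 : act 1 n19893 = n19845 := d11_1 D19893 (iv D19845) (iv F77746)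
theorem F78335 : act 3 n19893 = n19773 := d22_1 D19893 (iv D19773) (iv F77747)
theorem F78336 : act 4 n19893 = n19828 := d26_1 D19893 (iv D19828) F77329 (iv F76944) (iv F77748)
theorem F78337 : act 6 n19893 = n19893 := d30_2 D19769 D19893 (iv D19893) (iv D19769) F76939
theorem F78338 : act 8 n19893 = n19820 := d32_2 (iv F77749) D19893 (iv D19820)
def n19894 : Q := act 7 n19769
theorem D19894 : act 7 n19769 = n19894 := rfl
theorem F78339 : act 0 n19894 = n19871 := d6_1 D19894 (iv D19871) (iv F77745)
theorem F78340 : act 1 n19894 = n19816 := d13_1 D19894 F77967 (iv F77746)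
theorem F78341 : act 3 n19894 = n19817 := d24_1 D19894 F77972 F77611 (iv F76962) (iv F77747)
theorem F78342 : act 4 n19894 = n19771 := d28_1 D19894 (iv D19771) (iv F77748)
theorem F78343 : act 6 n19894 = n19770 := d33_1 D19894 (iv D19770) D19769
theorem F78344 : act 8 n19894 = n19859 := d35_2 (iv F77749) D19894 (iv F78298) F78299 F77774
def n19895 : Q := act 5 n19772
theorem D19895 : act 5 n19772 = n19895 := rfl
theorem F78345 : act 1 n19895 = n19773 := d11_1 D19895 (iv D19773) (iv F77762)
theorem F78346 : act 3 n19895 = n19845 := d22_1 D19895 (iv D19845) (iv F77763)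
theorem F78347 : act 6 n19895 = n19895 := d30_2 D19772 D19895 (iv D19895) (iv D19772) F76953
theorem F78348 : act 7 n19895 = n19879 := d31_2 (iv F77765) D19895 (iv D19879)
theorem F78349 : act 8 n19895 = n19844 := d32_2 (iv F77766) D19895 (iv D19844)
def n19896 : Q := act 5 n19774
theorem D19896 : act 5 n19774 = n19896 := rfl
theorem F78350 : act 0 n19896 = n19873 := d4_1 D19896 F78230 (iv F77770)
theorem F78351 : act 1 n19896 = n19775 := d11_1 D19896 (iv D19775) (iv F77771)
theorem F78352 : act 3 n19896 = n19872 := d22_1 D19896 (iv D19872) (iv F77772)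
theorem F78353 : act 4 n19896 = n19792 := d26_1 D19896 (iv D19792) F77076 (iv F76977) (iv F77773)
theorem F78354 : act 6 n19896 = n19896 := d30_2 D19774 D19896 (iv D19896) (iv D19774) F76972
theorem F78355 : act 7 n19896 = n19820 := d31_2 (iv F77774) D19896 (iv D19820)
def n19897 : Q := act 5 n19776
theorem D19897 : act 5 n19776 = n19897 := rfl
theorem F78356 : act 2 n19897 = n19783 := d17_1 D19897 (iv D19783) (iv F77779)
theorem F78357 : act 6 n19897 = n19897 := d30_2 D19776 D19897 (iv D19897) (iv D19776) F76983
theorem F78358 : act 7 n19897 = n19808 := d31_2 (iv F77781) D19897 (iv D19808)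
theorem F78359 : act 8 n19897 = n19886 := d32_2 (iv F77782) D19897 F78291
def n19898 : Q := act 6 n19777
theorem D19898 : act 6 n19777 = n19898 := rfl
theorem F78360 : act 0 n19898 = n19807 := d5_1 D19898 (iv D19807) (iv F77783)
theorem F78361 : act 1 n19898 = n19779 := d12_1 D19898 (iv D19779) (iv F77784)
theorem F78362 : act 3 n19898 = n19786 := d23_1 D19898 (iv D19786) (iv F77785)
theorem F78363 : act 4 n19898 = n19778 := d27_1 D19898 (iv D19778) D19777
theorem F78364 : act 7 n19898 = n19884 := d33_2 (iv F77787) D19898 (iv D19884)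
theorem F78365 : act 8 n19898 = n19782 := d34_2 (iv F77788) D19898 (iv D19782)
def n19899 : Q := act 5 n19779
theorem D19899 : act 5 n19779 = n19899 := rfl
theorem F78366 : act 2 n19899 = n19886 := d17_1 D19899 F78291 (iv F77795)
theorem F78367 : act 3 n19899 = n19789 := d22_1 D19899 (iv D19789) (iv F77796)
theorem F78368 : act 4 n19899 = n19897 := d26_1 D19899 (iv D19897) F77780 (iv F77009) (iv F77797)
theorem F78369 : act 6 n19899 = n19899 := d30_2 D19779 D19899 (iv D19899) (iv D19779) F77004
theorem F78370 : act 7 n19899 = n19885 := d31_2 (iv F77798) D19899 (iv D19885)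
theorem F78371 : act 8 n19899 = n19783 := d32_2 (iv F77799) D19899 (iv D19783)
def n19900 : Q := act 6 n19780
theorem D19900 : act 6 n19780 = n19900 := rfl
theorem F78372 : act 0 n19900 = n19809 := d5_1 D19900 (iv D19809) (iv F77800)
theorem F78373 : act 2 n19900 = n19782 := d18_1 D19900 (iv D19782) (iv F77801)
theorem F78374 : act 3 n19900 = n19878 := d23_1 D19900 (iv D19878) (iv F77802)
theorem F78375 : act 4 n19900 = n19781 := d27_1 D19900 (iv D19781) D19780
theorem F78376 : act 7 n19900 = n19814 := d33_2 (iv F77804) D19900 (iv D19814)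
def n19901 : Q := act 5 n19782
theorem D19901 : act 5 n19782 = n19901 := rfl
theorem F78377 : act 0 n19901 = n19810 := d4_1 D19901 (iv D19810) (iv F77810)
theorem F78378 : act 1 n19901 = n19783 := d11_1 D19901 (iv D19783) (iv F77811)
theorem F78379 : act 3 n19901 = n19792 := d22_1 D19901 (iv D19792) (iv F77812)
theorem F78380 : act 4 n19901 = n19853 := d26_1 D19901 F78139 F77492 (iv F77024) (iv F77813)
theorem F78381 : act 6 n19901 = n19901 := d30_2 D19782 D19901 (iv D19901) (iv D19782) F77019
theorem F78382 : act 7 n19901 = n19815 := d31_2 (iv F77814) D19901 (iv D19815)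
def n19902 : Q := act 6 n19784
theorem D19902 : act 6 n19784 = n19902 := rfl
theorem F78383 : act 0 n19902 = n19786 := d5_1 D19902 (iv D19786) (iv F77817)
theorem F78384 : act 1 n19902 = n19800 := d12_1 D19902 (iv D19800) (iv F77818)
theorem F78385 : act 2 n19902 = n19887 := d18_1 D19902 (iv D19887) (iv F77819)
theorem F78386 : act 3 n19902 = n19807 := d23_1 D19902 (iv D19807) (iv F77820)
theorem F78387 : act 4 n19902 = n19785 := d27_1 D19902 (iv D19785) D19784
theorem F78388 : act 8 n19902 = n19791 := d34_2 (iv F77822) D19902 (iv D19791)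
def n19903 : Q := act 5 n19786
theorem D19903 : act 5 n19786 = n19903 := rfl
theorem F78389 : act 1 n19903 = n19789 := d11_1 D19903 (iv D19789) (iv F77829)
theorem F78390 : act 6 n19903 = n19903 := d30_2 D19786 D19903 (iv D19903) (iv D19786) F77041
theorem F78391 : act 8 n19903 = n19792 := d32_2 (iv F77831) D19903 (iv D19792)
def n19904 : Q := act 7 n19786
theorem D19904 : act 7 n19786 = n19904 := rfl
theorem F78392 : act 1 n19904 = n19790 := d13_1 D19904 (iv D19790) (iv F77829)
theorem F78393 : act 4 n19904 = n19788 := d28_1 D19904 (iv D19788) (iv F77830)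
theorem F78394 : act 6 n19904 = n19787 := d33_1 D19904 (iv D19787) D19786
theorem F78395 : act 8 n19904 = n19829 := d35_2 (iv F77831) D19904 (iv D19829) F77330 (iv F77077)
def n19905 : Q := act 7 n19789
theorem D19905 : act 7 n19789 = n19905 := rfl
theorem F78396 : act 0 n19905 = n19837 := d6_1 D19905 (iv F78325) F78321
theorem F78397 : act 2 n19905 = n19842 := d19_1 D19905 (iv F78313) F78309
theorem F78398 : act 4 n19905 = n19860 := d28_1 D19905 (iv F78305) F78303
theorem F78399 : act 5 n19905 = n19790 := d31_1 D19905 (iv D19790) D19789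
theorem F78400 : act 6 n19905 = n19905 := d33_1 D19905 (iv D19905) F77841
theorem F78401 : act 8 n19905 = n19882 := d35_2 (iv F77842) D19905 (iv D19882) F77654 (iv F77079)
def n19906 : Q := act 5 n19791
theorem D19906 : act 5 n19791 = n19906 := rfl
theorem F78402 : act 0 n19906 = n19792 := d4_1 D19906 (iv D19792) (iv F77848)
theorem F78403 : act 1 n19906 = n19801 := d11_1 D19906 (iv D19801) (iv F77849)
theorem F78404 : act 2 n19906 = n19896 := d17_1 D19906 (iv D19896) (iv F77850)
theorem F78405 : act 3 n19906 = n19810 := d22_1 D19906 (iv D19810) (iv F77851)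
theorem F78406 : act 4 n19906 = n19873 := d26_1 D19906 F78230 F77593 (iv F77073) (iv F77852)
theorem F78407 : act 6 n19906 = n19906 := d30_2 D19791 D19906 (iv D19906) (iv D19791) F77067
theorem F78408 : act 7 n19906 = n19824 := d31_2 (iv F77853) D19906 (iv D19824)
def n19907 : Q := act 5 n19794
theorem D19907 : act 5 n19794 = n19907 := rfl
theorem F78409 : act 0 n19907 = n19853 := d4_1 D19907 F78139 (iv F77863)
theorem F78410 : act 1 n19907 = n19795 := d11_1 D19907 (iv D19795) (iv F77864)
theorem F78411 : act 3 n19907 = n19866 := d22_1 D19907 (iv D19866) (iv F77865)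
theorem F78412 : act 4 n19907 = n19810 := d26_1 D19907 (iv D19810) F77180 (iv F77093) (iv F77866)
theorem F78413 : act 6 n19907 = n19907 := d30_2 D19794 D19907 (iv D19907) (iv D19794) F77088
theorem F78414 : act 7 n19907 = n19813 := d31_2 (iv F77867) D19907 (iv D19813)
def n19908 : Q := act 5 n19796
theorem D19908 : act 5 n19796 = n19908 := rfl
theorem F78415 : act 0 n19908 = n19808 := d4_1 D19908 (iv D19808) (iv F77874)
theorem F78416 : act 2 n19908 = n19830 := d17_1 D19908 (iv D19830) (iv F77875)
theorem F78417 : act 4 n19908 = n19881 := d26_1 D19908 (iv D19881) F77649 (iv F77107) (iv F77876)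
theorem F78418 : act 6 n19908 = n19908 := d30_2 D19796 D19908 (iv D19908) (iv D19796) F77102
theorem F78419 : act 8 n19908 = n19797 := d32_2 (iv F77877) D19908 (iv D19797)
def n19909 : Q := act 5 n19798
theorem D19909 : act 5 n19798 = n19909 := rfl
theorem F78420 : act 1 n19909 = n19891 := d11_1 D19909 (iv D19891) (iv F77881)
theorem F78421 : act 2 n19909 = n19801 := d17_1 D19909 (iv D19801) (iv F77882)
theorem F78422 : act 3 n19909 = n19908 := d22_1 D19909 (iv D19908) (iv F77883)
theorem F78423 : act 4 n19909 = n19895 := d26_1 D19909 (iv D19895) F77764 (iv F77119) (iv F77884)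
theorem F78424 : act 6 n19909 = n19909 := d30_2 D19798 D19909 (iv D19909) (iv D19798) F77114
theorem F78425 : act 8 n19909 = n19892 := d32_2 (iv F77885) D19909 (iv D19892)
def n19910 : Q := act 5 n19799
theorem D19910 : act 5 n19799 = n19910 := rfl
theorem F78426 : act 0 n19910 = n19844 := d4_1 D19910 (iv D19844) (iv F77886)
theorem F78427 : act 1 n19910 = n19873 := d11_1 D19910 F78230 (iv F77887)
theorem F78428 : act 2 n19910 = n19895 := d17_1 D19910 (iv D19895) (iv F77888)
theorem F78429 : act 3 n19910 = n19842 := d22_1 D19910 (iv D19842) (iv F77889)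
theorem F78430 : act 4 n19910 = n19801 := d26_1 D19910 (iv D19801) F77143 (iv F77131) (iv F77890)
theorem F78431 : act 6 n19910 = n19910 := d30_2 D19799 D19910 (iv D19910) (iv D19799) F77125
theorem F78432 : act 7 n19910 = n19872 := d31_2 (iv F77891) D19910 (iv D19872)
def n19911 : Q := act 5 n19800
theorem D19911 : act 5 n19800 = n19911 := rfl
theorem F78433 : act 0 n19911 = n19909 := d4_1 D19911 (iv D19909) (iv F77892)
theorem F78434 : act 2 n19911 = n19892 := d17_1 D19911 (iv D19892) (iv F77893)
theorem F78435 : act 3 n19911 = n19808 := d22_1 D19911 (iv D19808) (iv F77894)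
theorem F78436 : act 6 n19911 = n19911 := d30_2 D19800 D19911 (iv D19911) (iv D19800) F77136
theorem F78437 : act 8 n19911 = n19801 := d32_2 (iv F77896) D19911 (iv D19801)
def n19912 : Q := act 7 n19801
theorem D19912 : act 7 n19801 = n19912 := rfl
theorem F78438 : act 0 n19912 = n19866 := d6_1 D19912 (iv F78332) F78327
theorem F78439 : act 1 n19912 = n19824 := d13_1 D19912 (iv F78408) F78403
theorem F78440 : act 3 n19912 = n19853 := d24_1 D19912 (iv D19853) (iv F77858) F77861 (iv F77897)
theorem F78441 : act 4 n19912 = n19872 := d28_1 D19912 (iv F78432) F78430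
theorem F78442 : act 5 n19912 = n19802 := d31_1 D19912 (iv D19802) D19801
theorem F78443 : act 6 n19912 = n19912 := d33_1 D19912 (iv D19912) F77898
def n19913 : Q := act 8 n19802
theorem D19913 : act 8 n19802 = n19913 := rfl
theorem F78444 : act 0 n19913 = n19863 := d7_1 D19913 F78193 (iv F77899)
theorem F78445 : act 1 n19913 = n19821 := d14_1 D19913 F77987 (iv F77900)
theorem F78446 : act 3 n19913 = n19854 := d25_1 D19913 (iv D19854) (iv F77901)
theorem F78447 : act 4 n19913 = n19804 := d29_1 D19913 (iv D19804) (iv F77902)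
theorem F78448 : act 6 n19913 = n19803 := d34_1 D19913 (iv D19803) (iv F77903)
def n19914 : Q := act 6 n19805
theorem D19914 : act 6 n19805 = n19914 := rfl
theorem F78449 : act 1 n19914 = n19814 := d12_1 D19914 (iv D19814) (iv F77914)
theorem F78450 : act 2 n19914 = n19807 := d18_1 D19914 (iv D19807) (iv F77915)
theorem F78451 : act 3 n19914 = n19876 := d23_1 D19914 (iv D19876) (iv F77916)
theorem F78452 : act 4 n19914 = n19806 := d27_1 D19914 (iv D19806) D19805
theorem F78453 : act 8 n19914 = n19809 := d34_2 (iv F77918) D19914 (iv D19809)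
def n19915 : Q := act 5 n19807
theorem D19915 : act 5 n19807 = n19915 := rfl
theorem F78454 : act 1 n19915 = n19808 := d11_1 D19915 (iv D19808) (iv F77924)
theorem F78455 : act 6 n19915 = n19915 := d30_2 D19807 D19915 (iv D19915) (iv D19807) F77163
theorem F78456 : act 8 n19915 = n19810 := d32_2 (iv F77926) D19915 (iv D19810)
def n19916 : Q := act 5 n19809
theorem D19916 : act 5 n19809 = n19916 := rfl
theorem F78457 : act 1 n19916 = n19875 := d11_1 D19916 (iv D19875) (iv F77929)
theorem F78458 : act 2 n19916 = n19810 := d17_1 D19916 (iv D19810) (iv F77930)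
theorem F78459 : act 3 n19916 = n19879 := d22_1 D19916 (iv D19879) (iv F77931)
theorem F78460 : act 6 n19916 = n19916 := d30_2 D19809 D19916 (iv D19916) (iv D19809) F77173
theorem F78461 : act 7 n19916 = n19818 := d31_2 (iv F77933) D19916 (iv D19818)
def n19917 : Q := act 5 n19814
theorem D19917 : act 5 n19814 = n19917 := rfl
theorem F78462 : act 0 n19917 = n19818 := d4_1 D19917 (iv D19818) (iv F77954)
theorem F78463 : act 2 n19917 = n19815 := d17_1 D19917 (iv D19815) (iv F77955)
theorem F78464 : act 3 n19917 = n19877 := d22_1 D19917 (iv D19877) (iv F77956)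
theorem F78465 : act 4 n19917 = n19851 := d26_1 D19917 (iv D19851) F77480 (iv F77230) (iv F77957)
theorem F78466 : act 6 n19917 = n19917 := d30_2 D19814 D19917 (iv D19917) (iv D19814) F77225
theorem F78467 : act 8 n19917 = n19875 := d32_2 (iv F77958) D19917 (iv D19875)
def n19918 : Q := act 5 n19816
theorem D19918 : act 5 n19816 = n19918 := rfl
theorem F78468 : act 0 n19918 = n19877 := d4_1 D19918 (iv D19877) (iv F77963)
theorem F78469 : act 2 n19918 = n19864 := d17_1 D19918 (iv D19864) (iv F77964)
theorem F78470 : act 3 n19918 = n19818 := d22_1 D19918 (iv D19818) (iv F77965)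
theorem F78471 : act 4 n19918 = n19882 := d26_1 D19918 F78265 F77655 (iv F77244) (iv F77966)
theorem F78472 : act 6 n19918 = n19918 := d30_2 D19816 D19918 (iv D19918) (iv D19816) F77238
theorem F78473 : act 7 n19918 = n19845 := d31_2 (iv F77967) D19918 (iv D19845)
theorem F78474 : act 8 n19918 = n19860 := d32_2 (iv F77968) D19918 (iv D19860)
def n19919 : Q := act 5 n19817
theorem D19919 : act 5 n19817 = n19919 := rfl
theorem F78475 : act 1 n19919 = n19818 := d11_1 D19919 (iv D19818) (iv F77969)
theorem F78476 : act 2 n19919 = n19907 := d17_1 D19919 (iv D19907) (iv F77970)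
theorem F78477 : act 4 n19919 = n19916 := d26_1 D19919 (iv D19916) F77932 (iv F77258) (iv F77971)
theorem F78478 : act 6 n19919 = n19919 := d30_2 D19817 D19919 (iv D19919) (iv D19817) F77253
theorem F78479 : act 7 n19919 = n19875 := d31_2 (iv F77972) D19919 (iv D19875)
def n19920 : Q := act 5 n19821
theorem D19920 : act 5 n19821 = n19920 := rfl
theorem F78480 : act 0 n19920 = n19828 := d4_1 D19920 (iv D19828) (iv F77983)
theorem F78481 : act 2 n19920 = n19893 := d17_1 D19920 (iv D19893) (iv F77984)
theorem F78482 : act 3 n19920 = n19897 := d22_1 D19920 (iv D19897) (iv F77985)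
theorem F78483 : act 4 n19920 = n19870 := d26_1 D19920 (iv D19870) F77580 (iv F77289) (iv F77986)
theorem F78484 : act 6 n19920 = n19920 := d30_2 D19821 D19920 (iv D19920) (iv D19821) F77284
theorem F78485 : act 8 n19920 = n19824 := d32_2 (iv F77987) D19920 (iv D19824)
def n19921 : Q := act 7 n19821
theorem D19921 : act 7 n19821 = n19921 := rfl
theorem F78486 : act 0 n19921 = n19829 := d6_1 D19921 (iv D19829) (iv F77983)
theorem F78487 : act 2 n19921 = n19894 := d19_1 D19921 (iv D19894) (iv F77984)
theorem F78488 : act 3 n19921 = n19865 := d24_1 D19921 F78200 F77894 (iv F77781) (iv F77985)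
theorem F78489 : act 4 n19921 = n19823 := d28_1 D19921 (iv D19823) (iv F77986)
theorem F78490 : act 6 n19921 = n19822 := d33_1 D19921 (iv D19822) D19821
def n19922 : Q := act 5 n19825
theorem D19922 : act 5 n19825 = n19922 := rfl
theorem F78491 : act 0 n19922 = n19899 := d4_1 D19922 (iv D19899) (iv F78002)
theorem F78492 : act 1 n19922 = n19908 := d11_1 D19922 (iv D19908) (iv F78003)
theorem F78493 : act 2 n19922 = n19827 := d17_1 D19922 (iv D19827) (iv F78004)
theorem F78494 : act 3 n19922 = n19891 := d22_1 D19922 (iv D19891) (iv F78005)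
theorem F78495 : act 6 n19922 = n19922 := d30_2 D19825 D19922 (iv D19922) (iv D19825) F77302
theorem F78496 : act 7 n19922 = n19881 := d31_2 (iv F78007) D19922 (iv D19881)
theorem F78497 : act 8 n19922 = n19890 := d32_2 (iv F78008) D19922 (iv D19890)
def n19923 : Q := act 5 n19826
theorem D19923 : act 5 n19826 = n19923 := rfl
theorem F78498 : act 0 n19923 = n19897 := d4_1 D19923 (iv D19897) (iv F78009)
theorem F78499 : act 1 n19923 = n19881 := d11_1 D19923 (iv D19881) (iv F78010)
theorem F78500 : act 2 n19923 = n19890 := d17_1 D19923 (iv D19890) (iv F78011)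
theorem F78501 : act 3 n19923 = n19828 := d22_1 D19923 (iv D19828) (iv F78012)
theorem F78502 : act 4 n19923 = n19922 := d26_1 D19923 (iv D19922) F78006 (iv F77322) (iv F78013)
theorem F78503 : act 6 n19923 = n19923 := d30_2 D19826 D19923 (iv D19923) (iv D19826) F77315
theorem F78504 : act 7 n19923 = n19908 := d31_2 (iv F78014) D19923 (iv D19908)
theorem F78505 : act 8 n19923 = n19827 := d32_2 (iv F78015) D19923 (iv D19827)
def n19924 : Q := act 7 n19828
theorem D19924 : act 7 n19828 = n19924 := rfl
theorem F78506 : act 1 n19924 = n19882 := d13_1 D19924 (iv D19882) (iv F78019)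
theorem F78507 : act 5 n19924 = n19829 := d31_1 D19924 (iv D19829) D19828
theorem F78508 : act 6 n19924 = n19924 := d33_1 D19924 (iv D19924) F78020
def n19925 : Q := act 6 n19833
theorem D19925 : act 6 n19833 = n19925 := rfl
theorem F78509 : act 1 n19925 = n19835 := d12_1 D19925 (iv D19835) (iv F78043)
theorem F78510 : act 2 n19925 = n19913 := d18_1 D19925 F78448 (iv F78044)
theorem F78511 : act 3 n19925 = n19904 := d23_1 D19925 F78394 (iv F78045)
theorem F78512 : act 4 n19925 = n19834 := d27_1 D19925 (iv D19834) D19833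
theorem F78513 : act 7 n19925 = n19863 := d33_2 (iv F78047) D19925 (iv D19863)
theorem F78514 : act 8 n19925 = n19836 := d34_2 (iv F78048) D19925 (iv D19836)
def n19926 : Q := act 5 n19835
theorem D19926 : act 5 n19835 = n19926 := rfl
theorem F78515 : act 0 n19926 = n19882 := d4_1 D19926 F78265 (iv F78055)
theorem F78516 : act 2 n19926 = n19845 := d17_1 D19926 (iv D19845) (iv F78056)
theorem F78517 : act 3 n19926 = n19905 := d22_1 D19926 F78399 (iv F78057)
theorem F78518 : act 4 n19926 = n19877 := d26_1 D19926 (iv D19877) F77626 (iv F77377) (iv F78058)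
theorem F78519 : act 6 n19926 = n19926 := d30_2 D19835 D19926 (iv D19926) (iv D19835) F77371
theorem F78520 : act 7 n19926 = n19864 := d31_2 (iv F78059) D19926 (iv D19864)
theorem F78521 : act 8 n19926 = n19837 := d32_2 (iv F78060) D19926 (iv D19837)
def n19927 : Q := act 5 n19836
theorem D19927 : act 5 n19836 = n19927 := rfl
theorem F78522 : act 1 n19927 = n19837 := d11_1 D19927 (iv D19837) (iv F78061)
theorem F78523 : act 2 n19927 = n19912 := d17_1 D19927 F78442 (iv F78062)
theorem F78524 : act 3 n19927 = n19924 := d22_1 D19927 F78507 (iv F78063)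
theorem F78525 : act 4 n19927 = n19879 := d26_1 D19927 (iv D19879) F77639 (iv F77392) (iv F78064)
theorem F78526 : act 6 n19927 = n19927 := d30_2 D19836 D19927 (iv D19927) (iv D19836) F77387
theorem F78527 : act 7 n19927 = n19909 := d31_2 (iv F78065) D19927 (iv D19909)
def n19928 : Q := act 6 n19838
theorem D19928 : act 6 n19838 = n19928 := rfl
theorem F78528 : act 0 n19928 = n19867 := d5_1 D19928 (iv D19867) (iv F78069)
theorem F78529 : act 1 n19928 = n19840 := d12_1 D19928 (iv D19840) (iv F78070)
theorem F78530 : act 3 n19928 = n19874 := d23_1 D19928 F78235 (iv F78071)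
theorem F78531 : act 4 n19928 = n19839 := d27_1 D19928 (iv D19839) D19838
theorem F78532 : act 7 n19928 = n19876 := d33_2 (iv F78073) D19928 (iv D19876)
theorem F78533 : act 8 n19928 = n19841 := d34_2 (iv F78074) D19928 (iv D19841)
def n19929 : Q := act 5 n19840
theorem D19929 : act 5 n19840 = n19929 := rfl
theorem F78534 : act 0 n19929 = n19845 := d4_1 D19929 (iv D19845) (iv F78081)
theorem F78535 : act 2 n19929 = n19882 := d17_1 D19929 F78265 (iv F78082)
theorem F78536 : act 4 n19929 = n19864 := d26_1 D19929 (iv D19864) F77553 (iv F77426) (iv F78083)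
theorem F78537 : act 6 n19929 = n19929 := d30_2 D19840 D19929 (iv D19929) (iv D19840) F77420
theorem F78538 : act 7 n19929 = n19877 := d31_2 (iv F78084) D19929 (iv D19877)
theorem F78539 : act 8 n19929 = n19842 := d32_2 (iv F78085) D19929 (iv D19842)
def n19930 : Q := act 5 n19841
theorem D19930 : act 5 n19841 = n19930 := rfl
theorem F78540 : act 0 n19930 = n19872 := d4_1 D19930 (iv D19872) (iv F78086)
theorem F78541 : act 1 n19930 = n19842 := d11_1 D19930 (iv D19842) (iv F78087)
theorem F78542 : act 3 n19930 = n19873 := d22_1 D19930 F78230 (iv F78088)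
theorem F78543 : act 4 n19930 = n19866 := d26_1 D19930 (iv D19866) F77564 (iv F77437) (iv F78089)
theorem F78544 : act 6 n19930 = n19930 := d30_2 D19841 D19930 (iv D19930) (iv D19841) F77432
theorem F78545 : act 7 n19930 = n19844 := d31_2 (iv F78090) D19930 (iv D19844)
def n19931 : Q := act 5 n19843
theorem D19931 : act 5 n19843 = n19931 := rfl
theorem F78546 : act 0 n19931 = n19895 := d4_1 D19931 (iv D19895) (iv F78094)
theorem F78547 : act 2 n19931 = n19844 := d17_1 D19931 (iv D19844) (iv F78095)
theorem F78548 : act 3 n19931 = n19929 := d22_1 D19931 (iv D19929) (iv F78096)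
theorem F78549 : act 4 n19931 = n19911 := d26_1 D19931 (iv D19911) F77895 (iv F77449) (iv F78097)
theorem F78550 : act 6 n19931 = n19931 := d30_2 D19843 D19931 (iv D19931) (iv D19843) F77444
theorem F78551 : act 8 n19931 = n19910 := d32_2 (iv F78098) D19931 (iv D19910)
def n19932 : Q := act 6 n19846
theorem D19932 : act 6 n19846 = n19932 := rfl
theorem F78552 : act 0 n19932 = n19848 := d5_1 D19932 (iv D19848) (iv F78104)
theorem F78553 : act 1 n19932 = n19900 := d12_1 D19932 (iv D19900) (iv F78105)
theorem F78554 : act 2 n19932 = n19854 := d18_1 D19932 F78143 (iv F78106)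
theorem F78555 : act 4 n19932 = n19847 := d27_1 D19932 (iv D19847) D19846
theorem F78556 : act 7 n19932 = n19914 := d33_2 (iv F78108) D19932 (iv D19914)
theorem F78557 : act 8 n19932 = n19852 := d34_2 (iv F78109) D19932 F78138
def n19933 : Q := act 5 n19848
theorem D19933 : act 5 n19848 = n19933 := rfl
theorem F78558 : act 1 n19933 = n19851 := d11_1 D19933 (iv D19851) (iv F78116)
theorem F78559 : act 6 n19933 = n19933 := d30_2 D19848 D19933 (iv D19933) (iv D19848) F77468
theorem F78560 : act 8 n19933 = n19919 := d32_2 (iv F78118) D19933 (iv D19919)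
def n19934 : Q := act 7 n19848
theorem D19934 : act 7 n19848 = n19934 := rfl
theorem F78561 : act 0 n19934 = n19914 := d6_1 D19934 (iv F78556) F78552
theorem F78562 : act 1 n19934 = n19852 := d13_1 D19934 (iv D19852) (iv F78116)
theorem F78563 : act 2 n19934 = n19898 := d19_1 D19934 F78364 F78278
theorem F78564 : act 4 n19934 = n19850 := d28_1 D19934 (iv D19850) (iv F78117)
theorem F78565 : act 6 n19934 = n19849 := d33_1 D19934 (iv D19849) D19848
theorem F78566 : act 8 n19934 = n19900 := d35_2 (iv F78118) D19934 F78376 F77958 (iv F77972)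
def n19935 : Q := act 7 n19851
theorem D19935 : act 7 n19851 = n19935 := rfl
theorem F78567 : act 0 n19935 = n19919 := d6_1 D19935 F78479 F78236
theorem F78568 : act 2 n19935 = n19853 := d19_1 D19935 (iv D19853) (iv F78132)
theorem F78569 : act 5 n19935 = n19852 := d31_1 D19935 (iv D19852) D19851
theorem F78570 : act 6 n19935 = n19935 := d33_1 D19935 (iv D19935) F78133
def n19936 : Q := act 8 n19853
theorem D19936 : act 8 n19853 = n19936 := rfl
theorem F78571 : act 1 n19936 = n19897 := d14_1 D19936 F78359 F78289
theorem F78572 : act 5 n19936 = n19854 := d32_1 D19936 (iv D19854) (iv F78139)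
theorem F78573 : act 6 n19936 = n19936 := d34_1 D19936 (iv D19936) F78140
theorem F78574 : act 7 n19936 = n19915 := d35_1 D19936 F78456 F77936 (iv F77491) D19853
def n19937 : Q := act 6 n19855
theorem D19937 : act 6 n19855 = n19937 := rfl
theorem F78575 : act 0 n19937 = n19859 := d5_1 D19937 (iv D19859) (iv F78145)
theorem F78576 : act 1 n19937 = n19878 := d12_1 D19937 (iv D19878) (iv F78146)
theorem F78577 : act 2 n19937 = n19904 := d18_1 D19937 F78394 (iv F78147)
theorem F78578 : act 3 n19937 = n19932 := d23_1 D19937 (iv D19932) (iv F78148)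
theorem F78579 : act 4 n19937 = n19856 := d27_1 D19937 (iv D19856) D19855
theorem F78580 : act 7 n19937 = n19874 := d33_2 (iv F78150) D19937 F78235
theorem F78581 : act 8 n19937 = n19871 := d34_2 (iv F78151) D19937 F78226
def n19938 : Q := act 6 n19857
theorem D19938 : act 6 n19857 = n19938 := rfl
theorem F78582 : act 0 n19938 = n19904 := d5_1 D19938 F78394 (iv F78158)
theorem F78583 : act 1 n19938 = n19865 := d12_1 D19938 (iv D19865) (iv F78159)
theorem F78584 : act 2 n19938 = n19859 := d18_1 D19938 (iv D19859) (iv F78160)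
theorem F78585 : act 4 n19938 = n19858 := d27_1 D19938 (iv D19858) D19857
theorem F78586 : act 7 n19938 = n19902 := d33_2 (iv F78162) D19938 (iv D19902)
theorem F78587 : act 8 n19938 = n19921 := d34_2 (iv F78163) D19938 F78490
def n19939 : Q := act 5 n19859
theorem D19939 : act 5 n19859 = n19939 := rfl
theorem F78588 : act 1 n19939 = n19860 := d11_1 D19939 (iv D19860) (iv F78171)
theorem F78589 : act 3 n19939 = n19933 := d22_1 D19939 (iv D19933) (iv F78172)
theorem F78590 : act 6 n19939 = n19939 := d30_2 D19859 D19939 (iv D19939) (iv D19859) F77520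
def n19940 : Q := act 6 n19861
theorem D19940 : act 6 n19861 = n19940 := rfl
theorem F78591 : act 0 n19940 = n19925 := d5_1 D19940 (iv D19925) (iv F78178)
theorem F78592 : act 1 n19940 = n19921 := d12_1 D19940 F78490 (iv F78179)
theorem F78593 : act 2 n19940 = n19863 := d18_1 D19940 (iv D19863) (iv F78180)
theorem F78594 : act 3 n19940 = n19938 := d23_1 D19940 (iv D19938) (iv F78181)
theorem F78595 : act 4 n19940 = n19862 := d27_1 D19940 (iv D19862) D19861
theorem F78596 : act 7 n19940 = n19913 := d33_2 (iv F78183) D19940 F78448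
theorem F78597 : act 8 n19940 = n19865 := d34_2 (iv F78184) D19940 (iv D19865)
def n19941 : Q := act 5 n19863
theorem D19941 : act 5 n19863 = n19941 := rfl
theorem F78598 : act 1 n19941 = n19864 := d11_1 D19941 (iv D19864) (iv F78191)
theorem F78599 : act 6 n19941 = n19941 := d30_2 D19863 D19941 (iv D19941) (iv D19863) F77547
theorem F78600 : act 8 n19941 = n19866 := d32_2 (iv F78193) D19941 (iv D19866)
def n19942 : Q := act 5 n19865
theorem D19942 : act 5 n19865 = n19942 := rfl
theorem F78601 : act 0 n19942 = n19927 := d4_1 D19942 (iv D19927) (iv F78197)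
theorem F78602 : act 2 n19942 = n19866 := d17_1 D19942 (iv D19866) (iv F78198)
theorem F78603 : act 6 n19942 = n19942 := d30_2 D19865 D19942 (iv D19942) (iv D19865) F77557
theorem F78604 : act 7 n19942 = n19911 := d31_2 (iv F78200) D19942 (iv D19911)
def n19943 : Q := act 5 n19867
theorem D19943 : act 5 n19867 = n19943 := rfl
theorem F78605 : act 1 n19943 = n19870 := d11_1 D19943 (iv D19870) (iv F78203)
theorem F78606 : act 6 n19943 = n19943 := d30_2 D19867 D19943 (iv D19943) (iv D19867) F77568
theorem F78607 : act 8 n19943 = n19872 := d32_2 (iv F78205) D19943 (iv D19872)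
def n19944 : Q := act 7 n19867
theorem D19944 : act 7 n19867 = n19944 := rfl
theorem F78608 : act 0 n19944 = n19876 := d6_1 D19944 (iv F78532) F78528
theorem F78609 : act 1 n19944 = n19871 := d13_1 D19944 (iv D19871) (iv F78203)
theorem F78610 : act 2 n19944 = n19928 := d19_1 D19944 F78532 F78242
theorem F78611 : act 3 n19944 = n19934 := d24_1 D19944 (iv D19934) (iv F78172) (iv F78298) F78296
theorem F78612 : act 4 n19944 = n19869 := d28_1 D19944 (iv D19869) (iv F78204)
theorem F78613 : act 6 n19944 = n19868 := d33_1 D19944 (iv D19868) D19867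
theorem F78614 : act 8 n19944 = n19878 := d35_2 (iv F78205) D19944 F78251 F78098 F77891
def n19945 : Q := act 7 n19870
theorem D19945 : act 7 n19870 = n19945 := rfl
theorem F78615 : act 2 n19945 = n19924 := d19_1 D19945 (iv D19924) (iv F78220)
theorem F78616 : act 3 n19945 = n19935 := d24_1 D19945 (iv D19935) (iv F78176) (iv F78305) F78302
theorem F78617 : act 5 n19945 = n19871 := d31_1 D19945 (iv D19871) D19870
theorem F78618 : act 6 n19945 = n19945 := d33_1 D19945 (iv D19945) F78221
def n19946 : Q := act 8 n19873
theorem D19946 : act 8 n19873 = n19946 := rfl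
theorem F78619 : act 1 n19946 = n19931 := d14_1 D19946 F78551 F78427
theorem F78620 : act 2 n19946 = n19903 := d20_1 D19946 F78391 (iv F78229)
theorem F78621 : act 5 n19946 = n19874 := d32_1 D19946 (iv D19874) (iv F78230)
theorem F78622 : act 6 n19946 = n19946 := d34_1 D19946 (iv D19946) F78231
def n19947 : Q := act 5 n19876
theorem D19947 : act 5 n19876 = n19947 := rfl
theorem F78623 : act 1 n19947 = n19877 := d11_1 D19947 (iv D19877) (iv F78241)
theorem F78624 : act 2 n19947 = n19943 := d17_1 D19947 (iv D19943) (iv F78242)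
theorem F78625 : act 6 n19947 = n19947 := d30_2 D19876 D19947 (iv D19947) (iv D19876) F77619
theorem F78626 : act 8 n19947 = n19879 := d32_2 (iv F78244) D19947 (iv D19879)
def n19948 : Q := act 5 n19878
theorem D19948 : act 5 n19878 = n19948 := rfl
theorem F78627 : act 0 n19948 = n19879 := d4_1 D19948 (iv D19879) (iv F78248)
theorem F78628 : act 2 n19948 = n19930 := d17_1 D19948 (iv D19930) (iv F78249)
theorem F78629 : act 4 n19948 = n19942 := d26_1 D19948 (iv D19942) F78199 (iv F77635) (iv F78250)
theorem F78630 : act 6 n19948 = n19948 := d30_2 D19878 D19948 (iv D19948) (iv D19878) F77630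
theorem F78631 : act 7 n19948 = n19931 := d31_2 (iv F78251) D19948 (iv D19931)
def n19949 : Q := act 5 n19884
theorem D19949 : act 5 n19884 = n19949 := rfl
theorem F78632 : act 0 n19949 = n19936 := d4_1 D19949 F78572 (iv F78276)
theorem F78633 : act 1 n19949 = n19885 := d11_1 D19949 (iv D19885) (iv F78277)
theorem F78634 : act 2 n19949 = n19933 := d17_1 D19949 (iv D19933) (iv F78278)
theorem F78635 : act 3 n19949 = n19941 := d22_1 D19949 (iv D19941) (iv F78279)
theorem F78636 : act 4 n19949 = n19915 := d26_1 D19949 (iv D19915) F77925 (iv F77679) (iv F78280)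
theorem F78637 : act 6 n19949 = n19949 := d30_2 D19884 D19949 (iv D19949) (iv D19884) F77673
theorem F78638 : act 8 n19949 = n19907 := d32_2 (iv F78281) D19949 (iv D19907)
def n19950 : Q := act 5 n19887
theorem D19950 : act 5 n19887 = n19950 := rfl
theorem F78639 : act 0 n19950 = n19946 := d4_1 D19950 F78621 (iv F78294)
theorem F78640 : act 1 n19950 = n19888 := d11_1 D19950 (iv D19888) (iv F78295)
theorem F78641 : act 3 n19950 = n19943 := d22_1 D19950 (iv D19943) (iv F78296)
theorem F78642 : act 4 n19950 = n19903 := d26_1 D19950 (iv D19903) F77830 (iv F77703) (iv F78297)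
theorem F78643 : act 6 n19950 = n19950 := d30_2 D19887 D19950 (iv D19950) (iv D19887) F77697
theorem F78644 : act 7 n19950 = n19939 := d31_2 (iv F78298) D19950 (iv D19939)
theorem F78645 : act 8 n19950 = n19896 := d32_2 (iv F78299) D19950 (iv D19896)
def n19951 : Q := act 7 n19893
theorem D19951 : act 7 n19893 = n19951 := rfl
theorem F78646 : act 0 n19951 = n19945 := d6_1 D19951 (iv D19945) (iv F78333)
theorem F78647 : act 1 n19951 = n19918 := d13_1 D19951 F78473 (iv F78334)
theorem F78648 : act 3 n19951 = n19919 := d24_1 D19951 F78479 F78238 (iv F77769) (iv F78335)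
theorem F78649 : act 4 n19951 = n19924 := d28_1 D19951 (iv D19924) (iv F78336)
theorem F78650 : act 5 n19951 = n19894 := d31_1 D19951 (iv D19894) D19893
theorem F78651 : act 6 n19951 = n19951 := d33_1 D19951 (iv D19951) F78337
theorem F78652 : act 8 n19951 = n19939 := d35_2 (iv F78338) D19951 (iv F78644) F78645 F78355
def n19952 : Q := act 5 n19898
theorem D19952 : act 5 n19898 = n19952 := rfl
theorem F78653 : act 0 n19952 = n19915 := d4_1 D19952 (iv D19915) (iv F78360)
theorem F78654 : act 1 n19952 = n19899 := d11_1 D19952 (iv D19899) (iv F78361)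
theorem F78655 : act 3 n19952 = n19903 := d22_1 D19952 (iv D19903) (iv F78362)
theorem F78656 : act 4 n19952 = n19936 := d26_1 D19952 F78572 F78142 (iv F77792) (iv F78363)
theorem F78657 : act 6 n19952 = n19952 := d30_2 D19898 D19952 (iv D19952) (iv D19898) F77786
theorem F78658 : act 7 n19952 = n19949 := d31_2 (iv F78364) D19952 (iv D19949)
theorem F78659 : act 8 n19952 = n19901 := d32_2 (iv F78365) D19952 (iv D19901)
def n19953 : Q := act 5 n19900
theorem D19953 : act 5 n19900 = n19953 := rfl
theorem F78660 : act 0 n19953 = n19916 := d4_1 D19953 (iv D19916) (iv F78372)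
theorem F78661 : act 2 n19953 = n19901 := d17_1 D19953 (iv D19901) (iv F78373)
theorem F78662 : act 3 n19953 = n19948 := d22_1 D19953 (iv D19948) (iv F78374)
theorem F78663 : act 4 n19953 = n19935 := d26_1 D19953 F78569 F78137 (iv F77808) (iv F78375)
theorem F78664 : act 6 n19953 = n19953 := d30_2 D19900 D19953 (iv D19953) (iv D19900) F77803
theorem F78665 : act 7 n19953 = n19917 := d31_2 (iv F78376) D19953 (iv D19917)
def n19954 : Q := act 5 n19902
theorem D19954 : act 5 n19902 = n19954 := rfl
theorem F78666 : act 0 n19954 = n19903 := d4_1 D19954 (iv D19903) (iv F78383)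
theorem F78667 : act 1 n19954 = n19911 := d11_1 D19954 (iv D19911) (iv F78384)
theorem F78668 : act 2 n19954 = n19950 := d17_1 D19954 (iv D19950) (iv F78385)
theorem F78669 : act 3 n19954 = n19915 := d22_1 D19954 (iv D19915) (iv F78386)
theorem F78670 : act 4 n19954 = n19946 := d26_1 D19954 F78621 F78234 (iv F77827) (iv F78387)
theorem F78671 : act 6 n19954 = n19954 := d30_2 D19902 D19954 (iv D19954) (iv D19902) F77821
theorem F78672 : act 8 n19954 = n19906 := d32_2 (iv F78388) D19954 (iv D19906)
def n19955 : Q := act 7 n19903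
theorem D19955 : act 7 n19903 = n19955 := rfl
theorem F78673 : act 1 n19955 = n19905 := d13_1 D19955 (iv D19905) (iv F78389)
theorem F78674 : act 4 n19955 = n19939 := d28_1 D19955 (iv F78644) F78642
theorem F78675 : act 5 n19955 = n19904 := d31_1 D19955 (iv D19904) D19903
theorem F78676 : act 6 n19955 = n19955 := d33_1 D19955 (iv D19955) F78390
theorem F78677 : act 8 n19955 = n19924 := d35_2 (iv F78391) D19955 (iv D19924) F78021 (iv F77856)
def n19956 : Q := act 8 n19912
theorem D19956 : act 8 n19912 = n19956 := rfl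
theorem F78678 : act 0 n19956 = n19941 := d7_1 D19956 F78600 (iv F78438)
theorem F78679 : act 1 n19956 = n19920 := d14_1 D19956 F78485 (iv F78439)
theorem F78680 : act 3 n19956 = n19936 := d25_1 D19956 (iv D19936) (iv F78440)
theorem F78681 : act 4 n19956 = n19943 := d29_1 D19956 F78607 (iv F78441)
theorem F78682 : act 5 n19956 = n19913 := d32_1 D19956 (iv D19913) (iv F78442)
theorem F78683 : act 6 n19956 = n19956 := d34_1 D19956 (iv D19956) F78443
def n19957 : Q := act 5 n19914
theorem D19957 : act 5 n19914 = n19957 := rfl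
theorem F78684 : act 1 n19957 = n19917 := d11_1 D19957 (iv D19917) (iv F78449)
theorem F78685 : act 2 n19957 = n19915 := d17_1 D19957 (iv D19915) (iv F78450)
theorem F78686 : act 3 n19957 = n19947 := d22_1 D19957 (iv D19947) (iv F78451)
theorem F78687 : act 4 n19957 = n19933 := d26_1 D19957 (iv D19933) F78117 (iv F77922) (iv F78452)
theorem F78688 : act 6 n19957 = n19957 := d30_2 D19914 D19957 (iv D19957) (iv D19914) F77917
theorem F78689 : act 8 n19957 = n19916 := d32_2 (iv F78453) D19957 (iv D19916)
def n19958 : Q := act 7 n19920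
theorem D19958 : act 7 n19920 = n19958 := rfl
theorem F78690 : act 0 n19958 = n19924 := d6_1 D19958 (iv D19924) (iv F78480)
theorem F78691 : act 2 n19958 = n19951 := d19_1 D19958 (iv D19951) (iv F78481)
theorem F78692 : act 3 n19958 = n19942 := d24_1 D19958 F78604 F78435 (iv F78358) (iv F78482)
theorem F78693 : act 4 n19958 = n19945 := d28_1 D19958 (iv D19945) (iv F78483)
theorem F78694 : act 5 n19958 = n19921 := d31_1 D19958 (iv D19921) D19920
theorem F78695 : act 6 n19958 = n19958 := d33_1 D19958 (iv D19958) F78484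
def n19959 : Q := act 5 n19925
theorem D19959 : act 5 n19925 = n19959 := rfl
theorem F78696 : act 1 n19959 = n19926 := d11_1 D19959 (iv D19926) (iv F78509)
theorem F78697 : act 2 n19959 = n19956 := d17_1 D19959 F78682 (iv F78510)
theorem F78698 : act 3 n19959 = n19955 := d22_1 D19959 F78675 (iv F78511)
theorem F78699 : act 4 n19959 = n19947 := d26_1 D19959 (iv D19947) F78243 (iv F78052) (iv F78512)
theorem F78700 : act 6 n19959 = n19959 := d30_2 D19925 D19959 (iv D19959) (iv D19925) F78046
theorem F78701 : act 7 n19959 = n19941 := d31_2 (iv F78513) D19959 (iv D19941)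
theorem F78702 : act 8 n19959 = n19927 := d32_2 (iv F78514) D19959 (iv D19927)
def n19960 : Q := act 5 n19928
theorem D19960 : act 5 n19928 = n19960 := rfl
theorem F78703 : act 0 n19960 = n19943 := d4_1 D19960 (iv D19943) (iv F78528)
theorem F78704 : act 1 n19960 = n19929 := d11_1 D19960 (iv D19929) (iv F78529)
theorem F78705 : act 3 n19960 = n19946 := d22_1 D19960 F78621 (iv F78530)
theorem F78706 : act 4 n19960 = n19941 := d26_1 D19960 (iv D19941) F78192 (iv F78078) (iv F78531)
theorem F78707 : act 6 n19960 = n19960 := d30_2 D19928 D19960 (iv D19960) (iv D19928) F78072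
theorem F78708 : act 7 n19960 = n19947 := d31_2 (iv F78532) D19960 (iv D19947)
theorem F78709 : act 8 n19960 = n19930 := d32_2 (iv F78533) D19960 (iv D19930)
def n19961 : Q := act 5 n19932
theorem D19961 : act 5 n19932 = n19961 := rfl
theorem F78710 : act 0 n19961 = n19933 := d4_1 D19961 (iv D19933) (iv F78552)
theorem F78711 : act 1 n19961 = n19953 := d11_1 D19961 (iv D19953) (iv F78553)
theorem F78712 : act 2 n19961 = n19936 := d17_1 D19961 F78572 (iv F78554)
theorem F78713 : act 6 n19961 = n19961 := d30_2 D19932 D19961 (iv D19961) (iv D19932) F78107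
theorem F78714 : act 7 n19961 = n19957 := d31_2 (iv F78556) D19961 (iv D19957)
theorem F78715 : act 8 n19961 = n19935 := d32_2 (iv F78557) D19961 F78569
def n19962 : Q := act 7 n19933
theorem D19962 : act 7 n19933 = n19962 := rfl
theorem F78716 : act 0 n19962 = n19957 := d6_1 D19962 (iv F78714) F78710
theorem F78717 : act 1 n19962 = n19935 := d13_1 D19962 (iv D19935) (iv F78558)
theorem F78718 : act 2 n19962 = n19952 := d19_1 D19962 F78658 F78634
theorem F78719 : act 4 n19962 = n19961 := d28_1 D19962 F78714 F78687
theorem F78720 : act 5 n19962 = n19934 := d31_1 D19962 (iv D19934) D19933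
theorem F78721 : act 6 n19962 = n19962 := d33_1 D19962 (iv D19962) F78559
theorem F78722 : act 8 n19962 = n19953 := d35_2 (iv F78560) D19962 F78665 F78467 (iv F78479)
def n19963 : Q := act 5 n19937
theorem D19963 : act 5 n19937 = n19963 := rfl
theorem F78723 : act 0 n19963 = n19939 := d4_1 D19963 (iv D19939) (iv F78575)
theorem F78724 : act 1 n19963 = n19948 := d11_1 D19963 (iv D19948) (iv F78576)
theorem F78725 : act 2 n19963 = n19955 := d17_1 D19963 F78675 (iv F78577)
theorem F78726 : act 3 n19963 = n19961 := d22_1 D19963 (iv D19961) (iv F78578)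
theorem F78727 : act 6 n19963 = n19963 := d30_2 D19937 D19963 (iv D19963) (iv D19937) F78149
theorem F78728 : act 7 n19963 = n19946 := d31_2 (iv F78580) D19963 F78621
theorem F78729 : act 8 n19963 = n19945 := d32_2 (iv F78581) D19963 F78617
def n19964 : Q := act 5 n19938
theorem D19964 : act 5 n19938 = n19964 := rfl
theorem F78730 : act 0 n19964 = n19955 := d4_1 D19964 F78675 (iv F78582)
theorem F78731 : act 1 n19964 = n19942 := d11_1 D19964 (iv D19942) (iv F78583)
theorem F78732 : act 2 n19964 = n19939 := d17_1 D19964 (iv D19939) (iv F78584)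
theorem F78733 : act 4 n19964 = n19963 := d26_1 D19964 (iv D19963) F78579 (iv F78168) (iv F78585)
theorem F78734 : act 6 n19964 = n19964 := d30_2 D19938 D19964 (iv D19964) (iv D19938) F78161
theorem F78735 : act 7 n19964 = n19954 := d31_2 (iv F78586) D19964 (iv D19954)
theorem F78736 : act 8 n19964 = n19958 := d32_2 (iv F78587) D19964 F78694
def n19965 : Q := act 5 n19940
theorem D19965 : act 5 n19940 = n19965 := rfl
theorem F78737 : act 0 n19965 = n19959 := d4_1 D19965 (iv D19959) (iv F78591)
theorem F78738 : act 1 n19965 = n19958 := d11_1 D19965 F78694 (iv F78592)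
theorem F78739 : act 2 n19965 = n19941 := d17_1 D19965 (iv D19941) (iv F78593)
theorem F78740 : act 3 n19965 = n19964 := d22_1 D19965 (iv D19964) (iv F78594)
theorem F78741 : act 6 n19965 = n19965 := d30_2 D19940 D19965 (iv D19965) (iv D19940) F78182
theorem F78742 : act 7 n19965 = n19956 := d31_2 (iv F78596) D19965 F78682
theorem F78743 : act 8 n19965 = n19942 := d32_2 (iv F78597) D19965 (iv D19942)
def n19966 : Q := act 7 n19943
theorem D19966 : act 7 n19943 = n19966 := rfl
theorem F78744 : act 0 n19966 = n19947 := d6_1 D19966 (iv F78708) F78703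
theorem F78745 : act 1 n19966 = n19945 := d13_1 D19966 (iv D19945) (iv F78605)
theorem F78746 : act 2 n19966 = n19960 := d19_1 D19966 F78708 F78624
theorem F78747 : act 3 n19966 = n19962 := d24_1 D19966 (iv D19962) (iv F78589) (iv F78644) F78641
theorem F78748 : act 4 n19966 = n19965 := d28_1 D19966 F78742 F78681
theorem F78749 : act 5 n19966 = n19944 := d31_1 D19966 (iv D19944) D19943
theorem F78750 : act 6 n19966 = n19966 := d33_1 D19966 (iv D19966) F78606
theorem F78751 : act 8 n19966 = n19948 := d35_2 (iv F78607) D19966 F78631 F78551 F78432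

end Cfsg.Agent.Helper17.Fi22bTC
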