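import Cfsg.Agent.Helper17.Fi22bTC.Fin1

set_option autoImplicit false
set_option linter.all false
set_option maxRecDepth 100000

noncomputable section

namespace Cfsg.Agent.Helper17.Fi22bTC

theorem N10001 : nd 10001 = n15888 := ndS (p := 9312) (l := 3) rfl N9312 D15888
theorem N10002 : nd 10002 = n15889 := ndS (p := 9313) (l := 3) rfl N9313 D15889
theorem N10003 : nd 10003 = n15890 := ndS (p := 9314) (l := 2) rfl N9314 D15890
theorem N10004 : nd 10004 = n15891 := ndS (p := 9315) (l := 2) rfl N9315 D15891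
theorem N10005 : nd 10005 = n15892 := ndS (p := 9315) (l := 4) rfl N9315 D15892
theorem N10006 : nd 10006 = n15893 := ndS (p := 9316) (l := 1) rfl N9316 D15893
theorem N10007 : nd 10007 = n15894 := ndS (p := 9317) (l := 7) rfl N9317 D15894
theorem N10008 : nd 10008 = n15895 := ndS (p := 9318) (l := 7) rfl N9318 D15895
theorem N10009 : nd 10009 = n15896 := ndS (p := 9319) (l := 7) rfl N9319 D15896
theorem N10010 : nd 10010 = n15897 := ndS (p := 9324) (l := 1) rfl N9324 D15897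
theorem N10011 : nd 10011 = n15898 := ndS (p := 9325) (l := 1) rfl N9325 D15898
theorem N10012 : nd 10012 = n15899 := ndS (p := 9327) (l := 0) rfl N9327 D15899
theorem N10013 : nd 10013 = n15900 := ndS (p := 9329) (l := 8) rfl N9329 D15900
theorem N10014 : nd 10014 = n15901 := ndS (p := 9330) (l := 7) rfl N9330 D15901
theorem N10015 : nd 10015 = n15902 := ndS (p := 9331) (l := 8) rfl N9331 D15902
theorem N10016 : nd 10016 = n15903 := ndS (p := 9332) (l := 8) rfl N9332 D15903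
theorem N10017 : nd 10017 = n15904 := ndS (p := 9333) (l := 7) rfl N9333 D15904
theorem N10018 : nd 10018 = n15905 := ndS (p := 9334) (l := 3) rfl N9334 D15905
theorem N10019 : nd 10019 = n15906 := ndS (p := 9335) (l := 7) rfl N9335 D15906
theorem N10020 : nd 10020 = n15907 := ndS (p := 9336) (l := 3) rfl N9336 D15907
theorem N10021 : nd 10021 = n15908 := ndS (p := 9337) (l := 3) rfl N9337 D15908
theorem N10022 : nd 10022 = n15909 := ndS (p := 9338) (l := 8) rfl N9338 D15909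
theorem N10023 : nd 10023 = n15910 := ndS (p := 9339) (l := 7) rfl N9339 D15910
theorem N10024 : nd 10024 = n15911 := ndS (p := 9340) (l := 3) rfl N9340 D15911
theorem N10025 : nd 10025 = n15912 := ndS (p := 9341) (l := 4) rfl N9341 D15912
theorem N10026 : nd 10026 = n15913 := ndS (p := 9342) (l := 2) rfl N9342 D15913
theorem N10027 : nd 10027 = n15914 := ndS (p := 9343) (l := 8) rfl N9343 D15914
theorem N10028 : nd 10028 = n15915 := ndS (p := 9344) (l := 7) rfl N9344 D15915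
theorem N10029 : nd 10029 = n15916 := ndS (p := 9345) (l := 3) rfl N9345 D15916
theorem N10030 : nd 10030 = n15917 := ndS (p := 9346) (l := 2) rfl N9346 D15917
theorem N10031 : nd 10031 = n15918 := ndS (p := 9346) (l := 4) rfl N9346 D15918
theorem N10032 : nd 10032 = n15919 := ndS (p := 9347) (l := 8) rfl N9347 D15919
theorem N10033 : nd 10033 = n15920 := ndS (p := 9348) (l := 8) rfl N9348 D15920
theorem N10034 : nd 10034 = n15921 := ndS (p := 9349) (l := 7) rfl N9349 D15921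
theorem N10035 : nd 10035 = n15922 := ndS (p := 9350) (l := 7) rfl N9350 D15922
theorem N10036 : nd 10036 = n15923 := ndS (p := 9351) (l := 3) rfl N9351 D15923
theorem N10037 : nd 10037 = n15924 := ndS (p := 9352) (l := 3) rfl N9352 D15924
theorem N10038 : nd 10038 = n15925 := ndS (p := 9353) (l := 2) rfl N9353 D15925
theorem N10039 : nd 10039 = n15926 := ndS (p := 9353) (l := 4) rfl N9353 D15926
theorem N10040 : nd 10040 = n15927 := ndS (p := 9354) (l := 5) rfl N9354 D15927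
theorem N10041 : nd 10041 = n15928 := ndS (p := 9355) (l := 2) rfl N9355 D15928
theorem N10042 : nd 10042 = n15929 := ndS (p := 9356) (l := 1) rfl N9356 D15929
theorem N10043 : nd 10043 = n15930 := ndS (p := 9357) (l := 7) rfl N9357 D15930
theorem N10044 : nd 10044 = n15931 := ndS (p := 9358) (l := 7) rfl N9358 D15931
theorem N10045 : nd 10045 = n15932 := ndS (p := 9359) (l := 7) rfl N9359 D15932
theorem N10046 : nd 10046 = n15933 := ndS (p := 9360) (l := 3) rfl N9360 D15933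
theorem N10047 : nd 10047 = n15934 := ndS (p := 9361) (l := 3) rfl N9361 D15934
theorem N10048 : nd 10048 = n15935 := ndS (p := 9362) (l := 2) rfl N9362 D15935
theorem N10049 : nd 10049 = n15936 := ndS (p := 9362) (l := 4) rfl N9362 D15936
theorem N10050 : nd 10050 = n15937 := ndS (p := 9363) (l := 3) rfl N9363 D15937
theorem N10051 : nd 10051 = n15938 := ndS (p := 9364) (l := 2) rfl N9364 D15938
theorem N10052 : nd 10052 = n15939 := ndS (p := 9365) (l := 1) rfl N9365 D15939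
theorem N10053 : nd 10053 = n15940 := ndS (p := 9365) (l := 4) rfl N9365 D15940
theorem N10054 : nd 10054 = n15941 := ndS (p := 9368) (l := 0) rfl N9368 D15941
theorem N10055 : nd 10055 = n15942 := ndS (p := 9369) (l := 2) rfl N9369 D15942
theorem N10056 : nd 10056 = n15943 := ndS (p := 9369) (l := 4) rfl N9369 D15943
theorem N10057 : nd 10057 = n15944 := ndS (p := 9371) (l := 1) rfl N9371 D15944
theorem N10058 : nd 10058 = n15945 := ndS (p := 9372) (l := 2) rfl N9372 D15945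
theorem N10059 : nd 10059 = n15946 := ndS (p := 9372) (l := 4) rfl N9372 D15946
theorem N10060 : nd 10060 = n15947 := ndS (p := 9373) (l := 4) rfl N9373 D15947
theorem N10061 : nd 10061 = n15948 := ndS (p := 9374) (l := 5) rfl N9374 D15948
theorem N10062 : nd 10062 = n15949 := ndS (p := 9375) (l := 1) rfl N9375 D15949
theorem N10063 : nd 10063 = n15950 := ndS (p := 9380) (l := 3) rfl N9380 D15950
theorem N10064 : nd 10064 = n15951 := ndS (p := 9381) (l := 8) rfl N9381 D15951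
theorem N10065 : nd 10065 = n15952 := ndS (p := 9382) (l := 8) rfl N9382 D15952
theorem N10066 : nd 10066 = n15953 := ndS (p := 9383) (l := 7) rfl N9383 D15953
theorem N10067 : nd 10067 = n15954 := ndS (p := 9384) (l := 8) rfl N9384 D15954
theorem N10068 : nd 10068 = n15955 := ndS (p := 9385) (l := 7) rfl N9385 D15955
theorem N10069 : nd 10069 = n15956 := ndS (p := 9386) (l := 3) rfl N9386 D15956
theorem N10070 : nd 10070 = n15957 := ndS (p := 9387) (l := 4) rfl N9387 D15957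
theorem N10071 : nd 10071 = n15958 := ndS (p := 9388) (l := 7) rfl N9388 D15958
theorem N10072 : nd 10072 = n15959 := ndS (p := 9389) (l := 3) rfl N9389 D15959
theorem N10073 : nd 10073 = n15960 := ndS (p := 9390) (l := 2) rfl N9390 D15960
theorem N10074 : nd 10074 = n15961 := ndS (p := 9391) (l := 8) rfl N9391 D15961
theorem N10075 : nd 10075 = n15962 := ndS (p := 9392) (l := 8) rfl N9392 D15962
theorem N10076 : nd 10076 = n15963 := ndS (p := 9393) (l := 7) rfl N9393 D15963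
theorem N10077 : nd 10077 = n15964 := ndS (p := 9394) (l := 7) rfl N9394 D15964
theorem N10078 : nd 10078 = n15965 := ndS (p := 9395) (l := 3) rfl N9395 D15965
theorem N10079 : nd 10079 = n15966 := ndS (p := 9396) (l := 3) rfl N9396 D15966
theorem N10080 : nd 10080 = n15967 := ndS (p := 9397) (l := 2) rfl N9397 D15967
theorem N10081 : nd 10081 = n15968 := ndS (p := 9397) (l := 4) rfl N9397 D15968
theorem N10082 : nd 10082 = n15969 := ndS (p := 9398) (l := 5) rfl N9398 D15969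
theorem N10083 : nd 10083 = n15970 := ndS (p := 9399) (l := 2) rfl N9399 D15970
theorem N10084 : nd 10084 = n15971 := ndS (p := 9401) (l := 7) rfl N9401 D15971
theorem N10085 : nd 10085 = n15972 := ndS (p := 9402) (l := 7) rfl N9402 D15972
theorem N10086 : nd 10086 = n15973 := ndS (p := 9403) (l := 7) rfl N9403 D15973
theorem N10087 : nd 10087 = n15974 := ndS (p := 9404) (l := 3) rfl N9404 D15974
theorem N10088 : nd 10088 = n15975 := ndS (p := 9405) (l := 3) rfl N9405 D15975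
theorem N10089 : nd 10089 = n15976 := ndS (p := 9406) (l := 2) rfl N9406 D15976
theorem N10090 : nd 10090 = n15977 := ndS (p := 9406) (l := 4) rfl N9406 D15977
theorem N10091 : nd 10091 = n15978 := ndS (p := 9407) (l := 3) rfl N9407 D15978
theorem N10092 : nd 10092 = n15979 := ndS (p := 9408) (l := 2) rfl N9408 D15979
theorem N10093 : nd 10093 = n15980 := ndS (p := 9408) (l := 4) rfl N9408 D15980
theorem N10094 : nd 10094 = n15981 := ndS (p := 9409) (l := 1) rfl N9409 D15981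
theorem N10095 : nd 10095 = n15982 := ndS (p := 9409) (l := 4) rfl N9409 D15982
theorem N10096 : nd 10096 = n15983 := ndS (p := 9410) (l := 5) rfl N9410 D15983
theorem N10097 : nd 10097 = n15984 := ndS (p := 9411) (l := 6) rfl N9411 D15984
theorem N10098 : nd 10098 = n15985 := ndS (p := 9412) (l := 2) rfl N9412 D15985
theorem N10099 : nd 10099 = n15986 := ndS (p := 9413) (l := 1) rfl N9413 D15986
theorem N10100 : nd 10100 = n15987 := ndS (p := 9413) (l := 4) rfl N9413 D15987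
theorem N10101 : nd 10101 = n15988 := ndS (p := 9415) (l := 0) rfl N9415 D15988
theorem N10102 : nd 10102 = n15989 := ndS (p := 9416) (l := 3) rfl N9416 D15989
theorem N10103 : nd 10103 = n15990 := ndS (p := 9417) (l := 3) rfl N9417 D15990
theorem N10104 : nd 10104 = n15991 := ndS (p := 9418) (l := 3) rfl N9418 D15991
theorem N10105 : nd 10105 = n15992 := ndS (p := 9419) (l := 2) rfl N9419 D15992
theorem N10106 : nd 10106 = n15993 := ndS (p := 9419) (l := 4) rfl N9419 D15993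
theorem N10107 : nd 10107 = n15994 := ndS (p := 9420) (l := 2) rfl N9420 D15994
theorem N10108 : nd 10108 = n15995 := ndS (p := 9420) (l := 4) rfl N9420 D15995
theorem N10109 : nd 10109 = n15996 := ndS (p := 9421) (l := 1) rfl N9421 D15996
theorem N10110 : nd 10110 = n15997 := ndS (p := 9421) (l := 4) rfl N9421 D15997
theorem N10111 : nd 10111 = n15998 := ndS (p := 9423) (l := 2) rfl N9423 D15998
theorem N10112 : nd 10112 = n15999 := ndS (p := 9424) (l := 1) rfl N9424 D15999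
theorem N10113 : nd 10113 = n16000 := ndS (p := 9424) (l := 4) rfl N9424 D16000
theorem N10114 : nd 10114 = n16001 := ndS (p := 9426) (l := 0) rfl N9426 D16001
theorem N10115 : nd 10115 = n16002 := ndS (p := 9426) (l := 4) rfl N9426 D16002
theorem N10116 : nd 10116 = n16003 := ndS (p := 9430) (l := 3) rfl N9430 D16003
theorem N10117 : nd 10117 = n16004 := ndS (p := 9432) (l := 2) rfl N9432 D16004
theorem N10118 : nd 10118 = n16005 := ndS (p := 9433) (l := 7) rfl N9433 D16005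
theorem N10119 : nd 10119 = n16006 := ndS (p := 9436) (l := 3) rfl N9436 D16006
theorem N10120 : nd 10120 = n16007 := ndS (p := 9437) (l := 2) rfl N9437 D16007
theorem N10121 : nd 10121 = n16008 := ndS (p := 9437) (l := 4) rfl N9437 D16008
theorem N10122 : nd 10122 = n16009 := ndS (p := 9438) (l := 1) rfl N9438 D16009
theorem N10123 : nd 10123 = n16010 := ndS (p := 9441) (l := 2) rfl N9441 D16010
theorem N10124 : nd 10124 = n16011 := ndS (p := 9441) (l := 4) rfl N9441 D16011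
theorem N10125 : nd 10125 = n16012 := ndS (p := 9442) (l := 1) rfl N9442 D16012
theorem N10126 : nd 10126 = n16013 := ndS (p := 9444) (l := 1) rfl N9444 D16013
theorem N10127 : nd 10127 = n16014 := ndS (p := 9444) (l := 4) rfl N9444 D16014
theorem N10128 : nd 10128 = n16015 := ndS (p := 9446) (l := 0) rfl N9446 D16015
theorem N10129 : nd 10129 = n16016 := ndS (p := 9446) (l := 4) rfl N9446 D16016
theorem N10130 : nd 10130 = n16017 := ndS (p := 9449) (l := 4) rfl N9449 D16017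
theorem N10131 : nd 10131 = n16018 := ndS (p := 9451) (l := 8) rfl N9451 D16018
theorem N10132 : nd 10132 = n16019 := ndS (p := 9452) (l := 8) rfl N9452 D16019
theorem N10133 : nd 10133 = n16020 := ndS (p := 9453) (l := 7) rfl N9453 D16020
theorem N10134 : nd 10134 = n16021 := ndS (p := 9454) (l := 8) rfl N9454 D16021
theorem N10135 : nd 10135 = n16022 := ndS (p := 9455) (l := 8) rfl N9455 D16022
theorem N10136 : nd 10136 = n16023 := ndS (p := 9456) (l := 7) rfl N9456 D16023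
theorem N10137 : nd 10137 = n16024 := ndS (p := 9457) (l := 3) rfl N9457 D16024
theorem N10138 : nd 10138 = n16025 := ndS (p := 9458) (l := 7) rfl N9458 D16025
theorem N10139 : nd 10139 = n16026 := ndS (p := 9459) (l := 3) rfl N9459 D16026
theorem N10140 : nd 10140 = n16027 := ndS (p := 9460) (l := 7) rfl N9460 D16027
theorem N10141 : nd 10141 = n16028 := ndS (p := 9462) (l := 7) rfl N9462 D16028
theorem N10142 : nd 10142 = n16029 := ndS (p := 9463) (l := 8) rfl N9463 D16029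
theorem N10143 : nd 10143 = n16030 := ndS (p := 9464) (l := 7) rfl N9464 D16030
theorem N10144 : nd 10144 = n16031 := ndS (p := 9465) (l := 3) rfl N9465 D16031
theorem N10145 : nd 10145 = n16032 := ndS (p := 9466) (l := 3) rfl N9466 D16032
theorem N10146 : nd 10146 = n16033 := ndS (p := 9467) (l := 7) rfl N9467 D16033
theorem N10147 : nd 10147 = n16034 := ndS (p := 9468) (l := 8) rfl N9468 D16034
theorem N10148 : nd 10148 = n16035 := ndS (p := 9469) (l := 7) rfl N9469 D16035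
theorem N10149 : nd 10149 = n16036 := ndS (p := 9470) (l := 3) rfl N9470 D16036
theorem N10150 : nd 10150 = n16037 := ndS (p := 9471) (l := 8) rfl N9471 D16037
theorem N10151 : nd 10151 = n16038 := ndS (p := 9472) (l := 8) rfl N9472 D16038
theorem N10152 : nd 10152 = n16039 := ndS (p := 9473) (l := 7) rfl N9473 D16039
theorem N10153 : nd 10153 = n16040 := ndS (p := 9474) (l := 7) rfl N9474 D16040
theorem N10154 : nd 10154 = n16041 := ndS (p := 9475) (l := 3) rfl N9475 D16041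
theorem N10155 : nd 10155 = n16042 := ndS (p := 9476) (l := 4) rfl N9476 D16042
theorem N10156 : nd 10156 = n16043 := ndS (p := 9477) (l := 3) rfl N9477 D16043
theorem N10157 : nd 10157 = n16044 := ndS (p := 9478) (l := 2) rfl N9478 D16044
theorem N10158 : nd 10158 = n16045 := ndS (p := 9479) (l := 7) rfl N9479 D16045
theorem N10159 : nd 10159 = n16046 := ndS (p := 9480) (l := 7) rfl N9480 D16046
theorem N10160 : nd 10160 = n16047 := ndS (p := 9481) (l := 3) rfl N9481 D16047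
theorem N10161 : nd 10161 = n16048 := ndS (p := 9482) (l := 3) rfl N9482 D16048
theorem N10162 : nd 10162 = n16049 := ndS (p := 9483) (l := 7) rfl N9483 D16049
theorem N10163 : nd 10163 = n16050 := ndS (p := 9484) (l := 3) rfl N9484 D16050
theorem N10164 : nd 10164 = n16051 := ndS (p := 9485) (l := 3) rfl N9485 D16051
theorem N10165 : nd 10165 = n16052 := ndS (p := 9486) (l := 4) rfl N9486 D16052
theorem N10166 : nd 10166 = n16053 := ndS (p := 9487) (l := 2) rfl N9487 D16053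
theorem N10167 : nd 10167 = n16054 := ndS (p := 9488) (l := 8) rfl N9488 D16054
theorem N10168 : nd 10168 = n16055 := ndS (p := 9489) (l := 7) rfl N9489 D16055
theorem N10169 : nd 10169 = n16056 := ndS (p := 9490) (l := 3) rfl N9490 D16056
theorem N10170 : nd 10170 = n16057 := ndS (p := 9491) (l := 8) rfl N9491 D16057
theorem N10171 : nd 10171 = n16058 := ndS (p := 9493) (l := 7) rfl N9493 D16058
theorem N10172 : nd 10172 = n16059 := ndS (p := 9494) (l := 7) rfl N9494 D16059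
theorem N10173 : nd 10173 = n16060 := ndS (p := 9495) (l := 3) rfl N9495 D16060
theorem N10174 : nd 10174 = n16061 := ndS (p := 9496) (l := 2) rfl N9496 D16061
theorem N10175 : nd 10175 = n16062 := ndS (p := 9496) (l := 4) rfl N9496 D16062
theorem N10176 : nd 10176 = n16063 := ndS (p := 9498) (l := 8) rfl N9498 D16063
theorem N10177 : nd 10177 = n16064 := ndS (p := 9499) (l := 8) rfl N9499 D16064
theorem N10178 : nd 10178 = n16065 := ndS (p := 9500) (l := 7) rfl N9500 D16065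
theorem N10179 : nd 10179 = n16066 := ndS (p := 9501) (l := 7) rfl N9501 D16066
theorem N10180 : nd 10180 = n16067 := ndS (p := 9502) (l := 3) rfl N9502 D16067
theorem N10181 : nd 10181 = n16068 := ndS (p := 9503) (l := 7) rfl N9503 D16068
theorem N10182 : nd 10182 = n16069 := ndS (p := 9504) (l := 3) rfl N9504 D16069
theorem N10183 : nd 10183 = n16070 := ndS (p := 9505) (l := 2) rfl N9505 D16070
theorem N10184 : nd 10184 = n16071 := ndS (p := 9505) (l := 4) rfl N9505 D16071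
theorem N10185 : nd 10185 = n16072 := ndS (p := 9506) (l := 5) rfl N9506 D16072
theorem N10186 : nd 10186 = n16073 := ndS (p := 9508) (l := 2) rfl N9508 D16073
theorem N10187 : nd 10187 = n16074 := ndS (p := 9509) (l := 1) rfl N9509 D16074
theorem N10188 : nd 10188 = n16075 := ndS (p := 9511) (l := 7) rfl N9511 D16075
theorem N10189 : nd 10189 = n16076 := ndS (p := 9512) (l := 7) rfl N9512 D16076
theorem N10190 : nd 10190 = n16077 := ndS (p := 9514) (l := 3) rfl N9514 D16077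
theorem N10191 : nd 10191 = n16078 := ndS (p := 9515) (l := 2) rfl N9515 D16078
theorem N10192 : nd 10192 = n16079 := ndS (p := 9516) (l := 1) rfl N9516 D16079
theorem N10193 : nd 10193 = n16080 := ndS (p := 9518) (l := 0) rfl N9518 D16080
theorem N10194 : nd 10194 = n16081 := ndS (p := 9519) (l := 3) rfl N9519 D16081
theorem N10195 : nd 10195 = n16082 := ndS (p := 9522) (l := 3) rfl N9522 D16082
theorem N10196 : nd 10196 = n16083 := ndS (p := 9524) (l := 2) rfl N9524 D16083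
theorem N10197 : nd 10197 = n16084 := ndS (p := 9524) (l := 4) rfl N9524 D16084
theorem N10198 : nd 10198 = n16085 := ndS (p := 9527) (l := 1) rfl N9527 D16085
theorem N10199 : nd 10199 = n16086 := ndS (p := 9531) (l := 2) rfl N9531 D16086
theorem N10200 : nd 10200 = n16087 := ndS (p := 9533) (l := 2) rfl N9533 D16087
theorem N10201 : nd 10201 = n16088 := ndS (p := 9535) (l := 4) rfl N9535 D16088
theorem N10202 : nd 10202 = n16089 := ndS (p := 9538) (l := 0) rfl N9538 D16089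
theorem N10203 : nd 10203 = n16090 := ndS (p := 9542) (l := 3) rfl N9542 D16090
theorem N10204 : nd 10204 = n16091 := ndS (p := 9545) (l := 7) rfl N9545 D16091
theorem N10205 : nd 10205 = n16092 := ndS (p := 9547) (l := 7) rfl N9547 D16092
theorem N10206 : nd 10206 = n16093 := ndS (p := 9548) (l := 3) rfl N9548 D16093
theorem N10207 : nd 10207 = n16094 := ndS (p := 9549) (l := 8) rfl N9549 D16094
theorem N10208 : nd 10208 = n16095 := ndS (p := 9550) (l := 7) rfl N9550 D16095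
theorem N10209 : nd 10209 = n16096 := ndS (p := 9551) (l := 8) rfl N9551 D16096
theorem N10210 : nd 10210 = n16097 := ndS (p := 9552) (l := 7) rfl N9552 D16097
theorem N10211 : nd 10211 = n16098 := ndS (p := 9553) (l := 3) rfl N9553 D16098
theorem N10212 : nd 10212 = n16099 := ndS (p := 9554) (l := 8) rfl N9554 D16099
theorem N10213 : nd 10213 = n16100 := ndS (p := 9555) (l := 7) rfl N9555 D16100
theorem N10214 : nd 10214 = n16101 := ndS (p := 9556) (l := 8) rfl N9556 D16101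
theorem N10215 : nd 10215 = n16102 := ndS (p := 9557) (l := 7) rfl N9557 D16102
theorem N10216 : nd 10216 = n16103 := ndS (p := 9558) (l := 3) rfl N9558 D16103
theorem N10217 : nd 10217 = n16104 := ndS (p := 9559) (l := 4) rfl N9559 D16104
theorem N10218 : nd 10218 = n16105 := ndS (p := 9560) (l := 7) rfl N9560 D16105
theorem N10219 : nd 10219 = n16106 := ndS (p := 9561) (l := 3) rfl N9561 D16106
theorem N10220 : nd 10220 = n16107 := ndS (p := 9562) (l := 2) rfl N9562 D16107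
theorem N10221 : nd 10221 = n16108 := ndS (p := 9563) (l := 3) rfl N9563 D16108
theorem N10222 : nd 10222 = n16109 := ndS (p := 9564) (l := 3) rfl N9564 D16109
theorem N10223 : nd 10223 = n16110 := ndS (p := 9565) (l := 7) rfl N9565 D16110
theorem N10224 : nd 10224 = n16111 := ndS (p := 9566) (l := 3) rfl N9566 D16111
theorem N10225 : nd 10225 = n16112 := ndS (p := 9567) (l := 4) rfl N9567 D16112
theorem N10226 : nd 10226 = n16113 := ndS (p := 9568) (l := 2) rfl N9568 D16113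
theorem N10227 : nd 10227 = n16114 := ndS (p := 9569) (l := 3) rfl N9569 D16114
theorem N10228 : nd 10228 = n16115 := ndS (p := 9570) (l := 8) rfl N9570 D16115
theorem N10229 : nd 10229 = n16116 := ndS (p := 9571) (l := 8) rfl N9571 D16116
theorem N10230 : nd 10230 = n16117 := ndS (p := 9572) (l := 7) rfl N9572 D16117
theorem N10231 : nd 10231 = n16118 := ndS (p := 9573) (l := 7) rfl N9573 D16118
theorem N10232 : nd 10232 = n16119 := ndS (p := 9574) (l := 3) rfl N9574 D16119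
theorem N10233 : nd 10233 = n16120 := ndS (p := 9575) (l := 4) rfl N9575 D16120
theorem N10234 : nd 10234 = n16121 := ndS (p := 9576) (l := 8) rfl N9576 D16121
theorem N10235 : nd 10235 = n16122 := ndS (p := 9577) (l := 8) rfl N9577 D16122
theorem N10236 : nd 10236 = n16123 := ndS (p := 9578) (l := 8) rfl N9578 D16123
theorem N10237 : nd 10237 = n16124 := ndS (p := 9579) (l := 7) rfl N9579 D16124
theorem N10238 : nd 10238 = n16125 := ndS (p := 9580) (l := 7) rfl N9580 D16125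
theorem N10239 : nd 10239 = n16126 := ndS (p := 9581) (l := 3) rfl N9581 D16126
theorem N10240 : nd 10240 = n16127 := ndS (p := 9582) (l := 7) rfl N9582 D16127
theorem N10241 : nd 10241 = n16128 := ndS (p := 9583) (l := 3) rfl N9583 D16128
theorem N10242 : nd 10242 = n16129 := ndS (p := 9584) (l := 2) rfl N9584 D16129
theorem N10243 : nd 10243 = n16130 := ndS (p := 9584) (l := 4) rfl N9584 D16130
theorem N10244 : nd 10244 = n16131 := ndS (p := 9585) (l := 5) rfl N9585 D16131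
theorem N10245 : nd 10245 = n16132 := ndS (p := 9587) (l := 2) rfl N9587 D16132
theorem N10246 : nd 10246 = n16133 := ndS (p := 9588) (l := 1) rfl N9588 D16133
theorem N10247 : nd 10247 = n16134 := ndS (p := 9589) (l := 7) rfl N9589 D16134
theorem N10248 : nd 10248 = n16135 := ndS (p := 9590) (l := 3) rfl N9590 D16135
theorem N10249 : nd 10249 = n16136 := ndS (p := 9591) (l := 4) rfl N9591 D16136
theorem N10250 : nd 10250 = n16137 := ndS (p := 9592) (l := 2) rfl N9592 D16137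
theorem N10251 : nd 10251 = n16138 := ndS (p := 9593) (l := 3) rfl N9593 D16138
theorem N10252 : nd 10252 = n16139 := ndS (p := 9594) (l := 7) rfl N9594 D16139
theorem N10253 : nd 10253 = n16140 := ndS (p := 9595) (l := 3) rfl N9595 D16140
theorem N10254 : nd 10254 = n16141 := ndS (p := 9596) (l := 4) rfl N9596 D16141
theorem N10255 : nd 10255 = n16142 := ndS (p := 9597) (l := 8) rfl N9597 D16142
theorem N10256 : nd 10256 = n16143 := ndS (p := 9598) (l := 7) rfl N9598 D16143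
theorem N10257 : nd 10257 = n16144 := ndS (p := 9599) (l := 3) rfl N9599 D16144
theorem N10258 : nd 10258 = n16145 := ndS (p := 9600) (l := 7) rfl N9600 D16145
theorem N10259 : nd 10259 = n16146 := ndS (p := 9601) (l := 3) rfl N9601 D16146
theorem N10260 : nd 10260 = n16147 := ndS (p := 9602) (l := 2) rfl N9602 D16147
theorem N10261 : nd 10261 = n16148 := ndS (p := 9602) (l := 4) rfl N9602 D16148
theorem N10262 : nd 10262 = n16149 := ndS (p := 9603) (l := 5) rfl N9603 D16149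
theorem N10263 : nd 10263 = n16150 := ndS (p := 9605) (l := 2) rfl N9605 D16150
theorem N10264 : nd 10264 = n16151 := ndS (p := 9605) (l := 4) rfl N9605 D16151
theorem N10265 : nd 10265 = n16152 := ndS (p := 9606) (l := 1) rfl N9606 D16152
theorem N10266 : nd 10266 = n16153 := ndS (p := 9607) (l := 8) rfl N9607 D16153
theorem N10267 : nd 10267 = n16154 := ndS (p := 9608) (l := 8) rfl N9608 D16154
theorem N10268 : nd 10268 = n16155 := ndS (p := 9609) (l := 7) rfl N9609 D16155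
theorem N10269 : nd 10269 = n16156 := ndS (p := 9610) (l := 7) rfl N9610 D16156
theorem N10270 : nd 10270 = n16157 := ndS (p := 9611) (l := 3) rfl N9611 D16157
theorem N10271 : nd 10271 = n16158 := ndS (p := 9612) (l := 4) rfl N9612 D16158
theorem N10272 : nd 10272 = n16159 := ndS (p := 9613) (l := 8) rfl N9613 D16159
theorem N10273 : nd 10273 = n16160 := ndS (p := 9614) (l := 8) rfl N9614 D16160
theorem N10274 : nd 10274 = n16161 := ndS (p := 9615) (l := 8) rfl N9615 D16161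
theorem N10275 : nd 10275 = n16162 := ndS (p := 9616) (l := 7) rfl N9616 D16162
theorem N10276 : nd 10276 = n16163 := ndS (p := 9617) (l := 7) rfl N9617 D16163
theorem N10277 : nd 10277 = n16164 := ndS (p := 9618) (l := 3) rfl N9618 D16164
theorem N10278 : nd 10278 = n16165 := ndS (p := 9619) (l := 7) rfl N9619 D16165
theorem N10279 : nd 10279 = n16166 := ndS (p := 9620) (l := 3) rfl N9620 D16166
theorem N10280 : nd 10280 = n16167 := ndS (p := 9621) (l := 2) rfl N9621 D16167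
theorem N10281 : nd 10281 = n16168 := ndS (p := 9621) (l := 4) rfl N9621 D16168
theorem N10282 : nd 10282 = n16169 := ndS (p := 9622) (l := 5) rfl N9622 D16169
theorem N10283 : nd 10283 = n16170 := ndS (p := 9623) (l := 7) rfl N9623 D16170
theorem N10284 : nd 10284 = n16171 := ndS (p := 9624) (l := 7) rfl N9624 D16171
theorem N10285 : nd 10285 = n16172 := ndS (p := 9625) (l := 7) rfl N9625 D16172
theorem N10286 : nd 10286 = n16173 := ndS (p := 9626) (l := 3) rfl N9626 D16173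
theorem N10287 : nd 10287 = n16174 := ndS (p := 9627) (l := 3) rfl N9627 D16174
theorem N10288 : nd 10288 = n16175 := ndS (p := 9628) (l := 2) rfl N9628 D16175
theorem N10289 : nd 10289 = n16176 := ndS (p := 9628) (l := 4) rfl N9628 D16176
theorem N10290 : nd 10290 = n16177 := ndS (p := 9629) (l := 3) rfl N9629 D16177
theorem N10291 : nd 10291 = n16178 := ndS (p := 9630) (l := 2) rfl N9630 D16178
theorem N10292 : nd 10292 = n16179 := ndS (p := 9630) (l := 4) rfl N9630 D16179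
theorem N10293 : nd 10293 = n16180 := ndS (p := 9631) (l := 1) rfl N9631 D16180
theorem N10294 : nd 10294 = n16181 := ndS (p := 9631) (l := 4) rfl N9631 D16181
theorem N10295 : nd 10295 = n16182 := ndS (p := 9632) (l := 5) rfl N9632 D16182
theorem N10296 : nd 10296 = n16183 := ndS (p := 9633) (l := 6) rfl N9633 D16183
theorem N10297 : nd 10297 = n16184 := ndS (p := 9634) (l := 1) rfl N9634 D16184
theorem N10298 : nd 10298 = n16185 := ndS (p := 9635) (l := 0) rfl N9635 D16185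
theorem N10299 : nd 10299 = n16186 := ndS (p := 9636) (l := 7) rfl N9636 D16186
theorem N10300 : nd 10300 = n16187 := ndS (p := 9637) (l := 3) rfl N9637 D16187
theorem N10301 : nd 10301 = n16188 := ndS (p := 9638) (l := 2) rfl N9638 D16188
theorem N10302 : nd 10302 = n16189 := ndS (p := 9639) (l := 2) rfl N9639 D16189
theorem N10303 : nd 10303 = n16190 := ndS (p := 9639) (l := 4) rfl N9639 D16190
theorem N10304 : nd 10304 = n16191 := ndS (p := 9640) (l := 1) rfl N9640 D16191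
theorem N10305 : nd 10305 = n16192 := ndS (p := 9641) (l := 1) rfl N9641 D16192
theorem N10306 : nd 10306 = n16193 := ndS (p := 9641) (l := 4) rfl N9641 D16193
theorem N10307 : nd 10307 = n16194 := ndS (p := 9645) (l := 3) rfl N9645 D16194
theorem N10308 : nd 10308 = n16195 := ndS (p := 9646) (l := 3) rfl N9646 D16195
theorem N10309 : nd 10309 = n16196 := ndS (p := 9647) (l := 2) rfl N9647 D16196
theorem N10310 : nd 10310 = n16197 := ndS (p := 9648) (l := 2) rfl N9648 D16197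
theorem N10311 : nd 10311 = n16198 := ndS (p := 9648) (l := 4) rfl N9648 D16198
theorem N10312 : nd 10312 = n16199 := ndS (p := 9649) (l := 1) rfl N9649 D16199
theorem N10313 : nd 10313 = n16200 := ndS (p := 9649) (l := 4) rfl N9649 D16200
theorem N10314 : nd 10314 = n16201 := ndS (p := 9652) (l := 1) rfl N9652 D16201
theorem N10315 : nd 10315 = n16202 := ndS (p := 9653) (l := 0) rfl N9653 D16202
theorem N10316 : nd 10316 = n16203 := ndS (p := 9653) (l := 4) rfl N9653 D16203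
theorem N10317 : nd 10317 = n16204 := ndS (p := 9657) (l := 1) rfl N9657 D16204
theorem N10318 : nd 10318 = n16205 := ndS (p := 9659) (l := 2) rfl N9659 D16205
theorem N10319 : nd 10319 = n16206 := ndS (p := 9660) (l := 1) rfl N9660 D16206
theorem N10320 : nd 10320 = n16207 := ndS (p := 9661) (l := 0) rfl N9661 D16207
theorem N10321 : nd 10321 = n16208 := ndS (p := 9662) (l := 2) rfl N9662 D16208
theorem N10322 : nd 10322 = n16209 := ndS (p := 9663) (l := 1) rfl N9663 D16209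
theorem N10323 : nd 10323 = n16210 := ndS (p := 9664) (l := 1) rfl N9664 D16210
theorem N10324 : nd 10324 = n16211 := ndS (p := 9668) (l := 2) rfl N9668 D16211
theorem N10325 : nd 10325 = n16212 := ndS (p := 9669) (l := 3) rfl N9669 D16212
theorem N10326 : nd 10326 = n16213 := ndS (p := 9670) (l := 2) rfl N9670 D16213
theorem N10327 : nd 10327 = n16214 := ndS (p := 9670) (l := 4) rfl N9670 D16214
theorem N10328 : nd 10328 = n16215 := ndS (p := 9671) (l := 1) rfl N9671 D16215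
theorem N10329 : nd 10329 = n16216 := ndS (p := 9682) (l := 7) rfl N9682 D16216
theorem N10330 : nd 10330 = n16217 := ndS (p := 9686) (l := 4) rfl N9686 D16217
theorem N10331 : nd 10331 = n16218 := ndS (p := 9687) (l := 1) rfl N9687 D16218
theorem N10332 : nd 10332 = n16219 := ndS (p := 9688) (l := 3) rfl N9688 D16219
theorem N10333 : nd 10333 = n16220 := ndS (p := 9689) (l := 4) rfl N9689 D16220
theorem N10334 : nd 10334 = n16221 := ndS (p := 9690) (l := 3) rfl N9690 D16221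
theorem N10335 : nd 10335 = n16222 := ndS (p := 9691) (l := 4) rfl N9691 D16222
theorem N10336 : nd 10336 = n16223 := ndS (p := 9692) (l := 3) rfl N9692 D16223
theorem N10337 : nd 10337 = n16224 := ndS (p := 9693) (l := 2) rfl N9693 D16224
theorem N10338 : nd 10338 = n16225 := ndS (p := 9693) (l := 4) rfl N9693 D16225
theorem N10339 : nd 10339 = n16226 := ndS (p := 9694) (l := 3) rfl N9694 D16226
theorem N10340 : nd 10340 = n16227 := ndS (p := 9695) (l := 4) rfl N9695 D16227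
theorem N10341 : nd 10341 = n16228 := ndS (p := 9696) (l := 5) rfl N9696 D16228
theorem N10342 : nd 10342 = n16229 := ndS (p := 9697) (l := 2) rfl N9697 D16229
theorem N10343 : nd 10343 = n16230 := ndS (p := 9698) (l := 2) rfl N9698 D16230
theorem N10344 : nd 10344 = n16231 := ndS (p := 9702) (l := 3) rfl N9702 D16231
theorem N10345 : nd 10345 = n16232 := ndS (p := 9703) (l := 7) rfl N9703 D16232
theorem N10346 : nd 10346 = n16233 := ndS (p := 9705) (l := 7) rfl N9705 D16233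
theorem N10347 : nd 10347 = n16234 := ndS (p := 9706) (l := 7) rfl N9706 D16234
theorem N10348 : nd 10348 = n16235 := ndS (p := 9707) (l := 3) rfl N9707 D16235
theorem N10349 : nd 10349 = n16236 := ndS (p := 9709) (l := 8) rfl N9709 D16236
theorem N10350 : nd 10350 = n16237 := ndS (p := 9710) (l := 7) rfl N9710 D16237
theorem N10351 : nd 10351 = n16238 := ndS (p := 9711) (l := 8) rfl N9711 D16238
theorem N10352 : nd 10352 = n16239 := ndS (p := 9712) (l := 7) rfl N9712 D16239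
theorem N10353 : nd 10353 = n16240 := ndS (p := 9713) (l := 3) rfl N9713 D16240
theorem N10354 : nd 10354 = n16241 := ndS (p := 9714) (l := 8) rfl N9714 D16241
theorem N10355 : nd 10355 = n16242 := ndS (p := 9715) (l := 7) rfl N9715 D16242
theorem N10356 : nd 10356 = n16243 := ndS (p := 9716) (l := 7) rfl N9716 D16243
theorem N10357 : nd 10357 = n16244 := ndS (p := 9717) (l := 3) rfl N9717 D16244
theorem N10358 : nd 10358 = n16245 := ndS (p := 9718) (l := 4) rfl N9718 D16245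
theorem N10359 : nd 10359 = n16246 := ndS (p := 9719) (l := 3) rfl N9719 D16246
theorem N10360 : nd 10360 = n16247 := ndS (p := 9720) (l := 2) rfl N9720 D16247
theorem N10361 : nd 10361 = n16248 := ndS (p := 9721) (l := 3) rfl N9721 D16248
theorem N10362 : nd 10362 = n16249 := ndS (p := 9722) (l := 3) rfl N9722 D16249
theorem N10363 : nd 10363 = n16250 := ndS (p := 9723) (l := 4) rfl N9723 D16250
theorem N10364 : nd 10364 = n16251 := ndS (p := 9724) (l := 3) rfl N9724 D16251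
theorem N10365 : nd 10365 = n16252 := ndS (p := 9725) (l := 7) rfl N9725 D16252
theorem N10366 : nd 10366 = n16253 := ndS (p := 9726) (l := 3) rfl N9726 D16253
theorem N10367 : nd 10367 = n16254 := ndS (p := 9727) (l := 2) rfl N9727 D16254
theorem N10368 : nd 10368 = n16255 := ndS (p := 9727) (l := 4) rfl N9727 D16255
theorem N10369 : nd 10369 = n16256 := ndS (p := 9728) (l := 8) rfl N9728 D16256
theorem N10370 : nd 10370 = n16257 := ndS (p := 9729) (l := 8) rfl N9729 D16257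
theorem N10371 : nd 10371 = n16258 := ndS (p := 9730) (l := 7) rfl N9730 D16258
theorem N10372 : nd 10372 = n16259 := ndS (p := 9731) (l := 7) rfl N9731 D16259
theorem N10373 : nd 10373 = n16260 := ndS (p := 9732) (l := 3) rfl N9732 D16260
theorem N10374 : nd 10374 = n16261 := ndS (p := 9733) (l := 3) rfl N9733 D16261
theorem N10375 : nd 10375 = n16262 := ndS (p := 9734) (l := 4) rfl N9734 D16262
theorem N10376 : nd 10376 = n16263 := ndS (p := 9735) (l := 5) rfl N9735 D16263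
theorem N10377 : nd 10377 = n16264 := ndS (p := 9736) (l := 7) rfl N9736 D16264
theorem N10378 : nd 10378 = n16265 := ndS (p := 9737) (l := 3) rfl N9737 D16265
theorem N10379 : nd 10379 = n16266 := ndS (p := 9738) (l := 4) rfl N9738 D16266
theorem N10380 : nd 10380 = n16267 := ndS (p := 9739) (l := 2) rfl N9739 D16267
theorem N10381 : nd 10381 = n16268 := ndS (p := 9740) (l := 7) rfl N9740 D16268
theorem N10382 : nd 10382 = n16269 := ndS (p := 9741) (l := 3) rfl N9741 D16269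
theorem N10383 : nd 10383 = n16270 := ndS (p := 9742) (l := 2) rfl N9742 D16270
theorem N10384 : nd 10384 = n16271 := ndS (p := 9742) (l := 4) rfl N9742 D16271
theorem N10385 : nd 10385 = n16272 := ndS (p := 9743) (l := 7) rfl N9743 D16272
theorem N10386 : nd 10386 = n16273 := ndS (p := 9744) (l := 7) rfl N9744 D16273
theorem N10387 : nd 10387 = n16274 := ndS (p := 9745) (l := 3) rfl N9745 D16274
theorem N10388 : nd 10388 = n16275 := ndS (p := 9746) (l := 3) rfl N9746 D16275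
theorem N10389 : nd 10389 = n16276 := ndS (p := 9747) (l := 4) rfl N9747 D16276
theorem N10390 : nd 10390 = n16277 := ndS (p := 9748) (l := 5) rfl N9748 D16277
theorem N10391 : nd 10391 = n16278 := ndS (p := 9749) (l := 8) rfl N9749 D16278
theorem N10392 : nd 10392 = n16279 := ndS (p := 9750) (l := 7) rfl N9750 D16279
theorem N10393 : nd 10393 = n16280 := ndS (p := 9751) (l := 3) rfl N9751 D16280
theorem N10394 : nd 10394 = n16281 := ndS (p := 9752) (l := 2) rfl N9752 D16281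
theorem N10395 : nd 10395 = n16282 := ndS (p := 9752) (l := 4) rfl N9752 D16282
theorem N10396 : nd 10396 = n16283 := ndS (p := 9753) (l := 8) rfl N9753 D16283
theorem N10397 : nd 10397 = n16284 := ndS (p := 9754) (l := 8) rfl N9754 D16284
theorem N10398 : nd 10398 = n16285 := ndS (p := 9755) (l := 7) rfl N9755 D16285
theorem N10399 : nd 10399 = n16286 := ndS (p := 9756) (l := 7) rfl N9756 D16286
theorem N10400 : nd 10400 = n16287 := ndS (p := 9757) (l := 3) rfl N9757 D16287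
theorem N10401 : nd 10401 = n16288 := ndS (p := 9758) (l := 3) rfl N9758 D16288
theorem N10402 : nd 10402 = n16289 := ndS (p := 9759) (l := 2) rfl N9759 D16289
theorem N10403 : nd 10403 = n16290 := ndS (p := 9759) (l := 4) rfl N9759 D16290
theorem N10404 : nd 10404 = n16291 := ndS (p := 9760) (l := 4) rfl N9760 D16291
theorem N10405 : nd 10405 = n16292 := ndS (p := 9761) (l := 5) rfl N9761 D16292
theorem N10406 : nd 10406 = n16293 := ndS (p := 9762) (l := 7) rfl N9762 D16293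
theorem N10407 : nd 10407 = n16294 := ndS (p := 9763) (l := 7) rfl N9763 D16294
theorem N10408 : nd 10408 = n16295 := ndS (p := 9764) (l := 7) rfl N9764 D16295
theorem N10409 : nd 10409 = n16296 := ndS (p := 9765) (l := 3) rfl N9765 D16296
theorem N10410 : nd 10410 = n16297 := ndS (p := 9766) (l := 3) rfl N9766 D16297
theorem N10411 : nd 10411 = n16298 := ndS (p := 9767) (l := 2) rfl N9767 D16298
theorem N10412 : nd 10412 = n16299 := ndS (p := 9767) (l := 4) rfl N9767 D16299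
theorem N10413 : nd 10413 = n16300 := ndS (p := 9768) (l := 3) rfl N9768 D16300
theorem N10414 : nd 10414 = n16301 := ndS (p := 9769) (l := 2) rfl N9769 D16301
theorem N10415 : nd 10415 = n16302 := ndS (p := 9769) (l := 4) rfl N9769 D16302
theorem N10416 : nd 10416 = n16303 := ndS (p := 9770) (l := 4) rfl N9770 D16303
theorem N10417 : nd 10417 = n16304 := ndS (p := 9771) (l := 5) rfl N9771 D16304
theorem N10418 : nd 10418 = n16305 := ndS (p := 9772) (l := 6) rfl N9772 D16305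
theorem N10419 : nd 10419 = n16306 := ndS (p := 9774) (l := 7) rfl N9774 D16306
theorem N10420 : nd 10420 = n16307 := ndS (p := 9775) (l := 7) rfl N9775 D16307
theorem N10421 : nd 10421 = n16308 := ndS (p := 9776) (l := 7) rfl N9776 D16308
theorem N10422 : nd 10422 = n16309 := ndS (p := 9780) (l := 3) rfl N9780 D16309
theorem N10423 : nd 10423 = n16310 := ndS (p := 9782) (l := 2) rfl N9782 D16310
theorem N10424 : nd 10424 = n16311 := ndS (p := 9783) (l := 2) rfl N9783 D16311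
theorem N10425 : nd 10425 = n16312 := ndS (p := 9783) (l := 4) rfl N9783 D16312
theorem N10426 : nd 10426 = n16313 := ndS (p := 9784) (l := 4) rfl N9784 D16313
theorem N10427 : nd 10427 = n16314 := ndS (p := 9789) (l := 2) rfl N9789 D16314
theorem N10428 : nd 10428 = n16315 := ndS (p := 9790) (l := 2) rfl N9790 D16315
theorem N10429 : nd 10429 = n16316 := ndS (p := 9792) (l := 2) rfl N9792 D16316
theorem N10430 : nd 10430 = n16317 := ndS (p := 9793) (l := 4) rfl N9793 D16317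
theorem N10431 : nd 10431 = n16318 := ndS (p := 9795) (l := 2) rfl N9795 D16318
theorem N10432 : nd 10432 = n16319 := ndS (p := 9797) (l := 2) rfl N9797 D16319
theorem N10433 : nd 10433 = n16320 := ndS (p := 9799) (l := 3) rfl N9799 D16320
theorem N10434 : nd 10434 = n16321 := ndS (p := 9800) (l := 3) rfl N9800 D16321
theorem N10435 : nd 10435 = n16322 := ndS (p := 9801) (l := 7) rfl N9801 D16322
theorem N10436 : nd 10436 = n16323 := ndS (p := 9802) (l := 3) rfl N9802 D16323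
theorem N10437 : nd 10437 = n16324 := ndS (p := 9803) (l := 3) rfl N9803 D16324
theorem N10438 : nd 10438 = n16325 := ndS (p := 9804) (l := 4) rfl N9804 D16325
theorem N10439 : nd 10439 = n16326 := ndS (p := 9805) (l := 2) rfl N9805 D16326
theorem N10440 : nd 10440 = n16327 := ndS (p := 9806) (l := 4) rfl N9806 D16327
theorem N10441 : nd 10441 = n16328 := ndS (p := 9807) (l := 5) rfl N9807 D16328
theorem N10442 : nd 10442 = n16329 := ndS (p := 9808) (l := 5) rfl N9808 D16329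
theorem N10443 : nd 10443 = n16330 := ndS (p := 9809) (l := 7) rfl N9809 D16330
theorem N10444 : nd 10444 = n16331 := ndS (p := 9810) (l := 7) rfl N9810 D16331
theorem N10445 : nd 10445 = n16332 := ndS (p := 9811) (l := 3) rfl N9811 D16332
theorem N10446 : nd 10446 = n16333 := ndS (p := 9812) (l := 3) rfl N9812 D16333
theorem N10447 : nd 10447 = n16334 := ndS (p := 9813) (l := 2) rfl N9813 D16334
theorem N10448 : nd 10448 = n16335 := ndS (p := 9813) (l := 4) rfl N9813 D16335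
theorem N10449 : nd 10449 = n16336 := ndS (p := 9814) (l := 5) rfl N9814 D16336
theorem N10450 : nd 10450 = n16337 := ndS (p := 9815) (l := 7) rfl N9815 D16337
theorem N10451 : nd 10451 = n16338 := ndS (p := 9816) (l := 7) rfl N9816 D16338
theorem N10452 : nd 10452 = n16339 := ndS (p := 9817) (l := 3) rfl N9817 D16339
theorem N10453 : nd 10453 = n16340 := ndS (p := 9818) (l := 3) rfl N9818 D16340
theorem N10454 : nd 10454 = n16341 := ndS (p := 9819) (l := 4) rfl N9819 D16341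
theorem N10455 : nd 10455 = n16342 := ndS (p := 9820) (l := 4) rfl N9820 D16342
theorem N10456 : nd 10456 = n16343 := ndS (p := 9821) (l := 5) rfl N9821 D16343
theorem N10457 : nd 10457 = n16344 := ndS (p := 9822) (l := 6) rfl N9822 D16344
theorem N10458 : nd 10458 = n16345 := ndS (p := 9825) (l := 2) rfl N9825 D16345
theorem N10459 : nd 10459 = n16346 := ndS (p := 9827) (l := 8) rfl N9827 D16346
theorem N10460 : nd 10460 = n16347 := ndS (p := 9828) (l := 3) rfl N9828 D16347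
theorem N10461 : nd 10461 = n16348 := ndS (p := 9829) (l := 4) rfl N9829 D16348
theorem N10462 : nd 10462 = n16349 := ndS (p := 9830) (l := 2) rfl N9830 D16349
theorem N10463 : nd 10463 = n16350 := ndS (p := 9831) (l := 8) rfl N9831 D16350
theorem N10464 : nd 10464 = n16351 := ndS (p := 9832) (l := 7) rfl N9832 D16351
theorem N10465 : nd 10465 = n16352 := ndS (p := 9833) (l := 3) rfl N9833 D16352
theorem N10466 : nd 10466 = n16353 := ndS (p := 9834) (l := 8) rfl N9834 D16353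
theorem N10467 : nd 10467 = n16354 := ndS (p := 9835) (l := 8) rfl N9835 D16354
theorem N10468 : nd 10468 = n16355 := ndS (p := 9836) (l := 7) rfl N9836 D16355
theorem N10469 : nd 10469 = n16356 := ndS (p := 9837) (l := 7) rfl N9837 D16356
theorem N10470 : nd 10470 = n16357 := ndS (p := 9838) (l := 3) rfl N9838 D16357
theorem N10471 : nd 10471 = n16358 := ndS (p := 9839) (l := 4) rfl N9839 D16358
theorem N10472 : nd 10472 = n16359 := ndS (p := 9840) (l := 8) rfl N9840 D16359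
theorem N10473 : nd 10473 = n16360 := ndS (p := 9841) (l := 8) rfl N9841 D16360
theorem N10474 : nd 10474 = n16361 := ndS (p := 9842) (l := 7) rfl N9842 D16361
theorem N10475 : nd 10475 = n16362 := ndS (p := 9843) (l := 7) rfl N9843 D16362
theorem N10476 : nd 10476 = n16363 := ndS (p := 9844) (l := 3) rfl N9844 D16363
theorem N10477 : nd 10477 = n16364 := ndS (p := 9845) (l := 7) rfl N9845 D16364
theorem N10478 : nd 10478 = n16365 := ndS (p := 9846) (l := 3) rfl N9846 D16365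
theorem N10479 : nd 10479 = n16366 := ndS (p := 9847) (l := 2) rfl N9847 D16366
theorem N10480 : nd 10480 = n16367 := ndS (p := 9847) (l := 4) rfl N9847 D16367
theorem N10481 : nd 10481 = n16368 := ndS (p := 9848) (l := 5) rfl N9848 D16368
theorem N10482 : nd 10482 = n16369 := ndS (p := 9849) (l := 3) rfl N9849 D16369
theorem N10483 : nd 10483 = n16370 := ndS (p := 9850) (l := 2) rfl N9850 D16370
theorem N10484 : nd 10484 = n16371 := ndS (p := 9850) (l := 4) rfl N9850 D16371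
theorem N10485 : nd 10485 = n16372 := ndS (p := 9851) (l := 1) rfl N9851 D16372
theorem N10486 : nd 10486 = n16373 := ndS (p := 9853) (l := 5) rfl N9853 D16373
theorem N10487 : nd 10487 = n16374 := ndS (p := 9854) (l := 8) rfl N9854 D16374
theorem N10488 : nd 10488 = n16375 := ndS (p := 9855) (l := 7) rfl N9855 D16375
theorem N10489 : nd 10489 = n16376 := ndS (p := 9856) (l := 3) rfl N9856 D16376
theorem N10490 : nd 10490 = n16377 := ndS (p := 9857) (l := 4) rfl N9857 D16377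
theorem N10491 : nd 10491 = n16378 := ndS (p := 9858) (l := 8) rfl N9858 D16378
theorem N10492 : nd 10492 = n16379 := ndS (p := 9859) (l := 8) rfl N9859 D16379
theorem N10493 : nd 10493 = n16380 := ndS (p := 9860) (l := 7) rfl N9860 D16380
theorem N10494 : nd 10494 = n16381 := ndS (p := 9861) (l := 7) rfl N9861 D16381
theorem N10495 : nd 10495 = n16382 := ndS (p := 9862) (l := 3) rfl N9862 D16382
theorem N10496 : nd 10496 = n16383 := ndS (p := 9863) (l := 3) rfl N9863 D16383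
theorem N10497 : nd 10497 = n16384 := ndS (p := 9864) (l := 2) rfl N9864 D16384
theorem N10498 : nd 10498 = n16385 := ndS (p := 9864) (l := 4) rfl N9864 D16385
theorem N10499 : nd 10499 = n16386 := ndS (p := 9865) (l := 5) rfl N9865 D16386
theorem N10500 : nd 10500 = n16387 := ndS (p := 9866) (l := 7) rfl N9866 D16387
theorem N10501 : nd 10501 = n16388 := ndS (p := 9867) (l := 7) rfl N9867 D16388
theorem N10502 : nd 10502 = n16389 := ndS (p := 9868) (l := 7) rfl N9868 D16389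
theorem N10503 : nd 10503 = n16390 := ndS (p := 9869) (l := 3) rfl N9869 D16390
theorem N10504 : nd 10504 = n16391 := ndS (p := 9870) (l := 3) rfl N9870 D16391
theorem N10505 : nd 10505 = n16392 := ndS (p := 9871) (l := 4) rfl N9871 D16392
theorem N10506 : nd 10506 = n16393 := ndS (p := 9872) (l := 3) rfl N9872 D16393
theorem N10507 : nd 10507 = n16394 := ndS (p := 9873) (l := 4) rfl N9873 D16394
theorem N10508 : nd 10508 = n16395 := ndS (p := 9874) (l := 5) rfl N9874 D16395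
theorem N10509 : nd 10509 = n16396 := ndS (p := 9875) (l := 6) rfl N9875 D16396
theorem N10510 : nd 10510 = n16397 := ndS (p := 9876) (l := 7) rfl N9876 D16397
theorem N10511 : nd 10511 = n16398 := ndS (p := 9877) (l := 7) rfl N9877 D16398
theorem N10512 : nd 10512 = n16399 := ndS (p := 9878) (l := 7) rfl N9878 D16399
theorem N10513 : nd 10513 = n16400 := ndS (p := 9879) (l := 3) rfl N9879 D16400
theorem N10514 : nd 10514 = n16401 := ndS (p := 9880) (l := 3) rfl N9880 D16401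
theorem N10515 : nd 10515 = n16402 := ndS (p := 9881) (l := 4) rfl N9881 D16402
theorem N10516 : nd 10516 = n16403 := ndS (p := 9882) (l := 3) rfl N9882 D16403
theorem N10517 : nd 10517 = n16404 := ndS (p := 9883) (l := 4) rfl N9883 D16404
theorem N10518 : nd 10518 = n16405 := ndS (p := 9884) (l := 5) rfl N9884 D16405
theorem N10519 : nd 10519 = n16406 := ndS (p := 9885) (l := 6) rfl N9885 D16406
theorem N10520 : nd 10520 = n16407 := ndS (p := 9886) (l := 8) rfl N9886 D16407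
theorem N10521 : nd 10521 = n16408 := ndS (p := 9887) (l := 8) rfl N9887 D16408
theorem N10522 : nd 10522 = n16409 := ndS (p := 9888) (l := 7) rfl N9888 D16409
theorem N10523 : nd 10523 = n16410 := ndS (p := 9889) (l := 7) rfl N9889 D16410
theorem N10524 : nd 10524 = n16411 := ndS (p := 9890) (l := 3) rfl N9890 D16411
theorem N10525 : nd 10525 = n16412 := ndS (p := 9891) (l := 3) rfl N9891 D16412
theorem N10526 : nd 10526 = n16413 := ndS (p := 9892) (l := 2) rfl N9892 D16413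
theorem N10527 : nd 10527 = n16414 := ndS (p := 9892) (l := 4) rfl N9892 D16414
theorem N10528 : nd 10528 = n16415 := ndS (p := 9893) (l := 5) rfl N9893 D16415
theorem N10529 : nd 10529 = n16416 := ndS (p := 9894) (l := 7) rfl N9894 D16416
theorem N10530 : nd 10530 = n16417 := ndS (p := 9895) (l := 7) rfl N9895 D16417
theorem N10531 : nd 10531 = n16418 := ndS (p := 9896) (l := 7) rfl N9896 D16418
theorem N10532 : nd 10532 = n16419 := ndS (p := 9897) (l := 3) rfl N9897 D16419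
theorem N10533 : nd 10533 = n16420 := ndS (p := 9898) (l := 3) rfl N9898 D16420
theorem N10534 : nd 10534 = n16421 := ndS (p := 9899) (l := 2) rfl N9899 D16421
theorem N10535 : nd 10535 = n16422 := ndS (p := 9899) (l := 4) rfl N9899 D16422
theorem N10536 : nd 10536 = n16423 := ndS (p := 9900) (l := 3) rfl N9900 D16423
theorem N10537 : nd 10537 = n16424 := ndS (p := 9901) (l := 2) rfl N9901 D16424
theorem N10538 : nd 10538 = n16425 := ndS (p := 9901) (l := 4) rfl N9901 D16425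
theorem N10539 : nd 10539 = n16426 := ndS (p := 9902) (l := 1) rfl N9902 D16426
theorem N10540 : nd 10540 = n16427 := ndS (p := 9902) (l := 4) rfl N9902 D16427
theorem N10541 : nd 10541 = n16428 := ndS (p := 9903) (l := 5) rfl N9903 D16428
theorem N10542 : nd 10542 = n16429 := ndS (p := 9904) (l := 6) rfl N9904 D16429
theorem N10543 : nd 10543 = n16430 := ndS (p := 9905) (l := 3) rfl N9905 D16430
theorem N10544 : nd 10544 = n16431 := ndS (p := 9906) (l := 3) rfl N9906 D16431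
theorem N10545 : nd 10545 = n16432 := ndS (p := 9907) (l := 3) rfl N9907 D16432
theorem N10546 : nd 10546 = n16433 := ndS (p := 9908) (l := 2) rfl N9908 D16433
theorem N10547 : nd 10547 = n16434 := ndS (p := 9908) (l := 4) rfl N9908 D16434
theorem N10548 : nd 10548 = n16435 := ndS (p := 9909) (l := 2) rfl N9909 D16435
theorem N10549 : nd 10549 = n16436 := ndS (p := 9909) (l := 4) rfl N9909 D16436
theorem N10550 : nd 10550 = n16437 := ndS (p := 9910) (l := 1) rfl N9910 D16437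
theorem N10551 : nd 10551 = n16438 := ndS (p := 9910) (l := 4) rfl N9910 D16438
theorem N10552 : nd 10552 = n16439 := ndS (p := 9911) (l := 5) rfl N9911 D16439
theorem N10553 : nd 10553 = n16440 := ndS (p := 9912) (l := 4) rfl N9912 D16440
theorem N10554 : nd 10554 = n16441 := ndS (p := 9913) (l := 4) rfl N9913 D16441
theorem N10555 : nd 10555 = n16442 := ndS (p := 9914) (l := 5) rfl N9914 D16442
theorem N10556 : nd 10556 = n16443 := ndS (p := 9915) (l := 4) rfl N9915 D16443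
theorem N10557 : nd 10557 = n16444 := ndS (p := 9916) (l := 5) rfl N9916 D16444
theorem N10558 : nd 10558 = n16445 := ndS (p := 9917) (l := 6) rfl N9917 D16445
theorem N10559 : nd 10559 = n16446 := ndS (p := 9919) (l := 3) rfl N9919 D16446
theorem N10560 : nd 10560 = n16447 := ndS (p := 9920) (l := 3) rfl N9920 D16447
theorem N10561 : nd 10561 = n16448 := ndS (p := 9921) (l := 3) rfl N9921 D16448
theorem N10562 : nd 10562 = n16449 := ndS (p := 9922) (l := 4) rfl N9922 D16449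
theorem N10563 : nd 10563 = n16450 := ndS (p := 9923) (l := 4) rfl N9923 D16450
theorem N10564 : nd 10564 = n16451 := ndS (p := 9927) (l := 2) rfl N9927 D16451
theorem N10565 : nd 10565 = n16452 := ndS (p := 9933) (l := 3) rfl N9933 D16452
theorem N10566 : nd 10566 = n16453 := ndS (p := 9935) (l := 2) rfl N9935 D16453
theorem N10567 : nd 10567 = n16454 := ndS (p := 9936) (l := 2) rfl N9936 D16454
theorem N10568 : nd 10568 = n16455 := ndS (p := 9936) (l := 4) rfl N9936 D16455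
theorem N10569 : nd 10569 = n16456 := ndS (p := 9939) (l := 2) rfl N9939 D16456
theorem N10570 : nd 10570 = n16457 := ndS (p := 9940) (l := 1) rfl N9940 D16457
theorem N10571 : nd 10571 = n16458 := ndS (p := 9946) (l := 1) rfl N9946 D16458
theorem N10572 : nd 10572 = n16459 := ndS (p := 9950) (l := 2) rfl N9950 D16459
theorem N10573 : nd 10573 = n16460 := ndS (p := 9952) (l := 1) rfl N9952 D16460
theorem N10574 : nd 10574 = n16461 := ndS (p := 9954) (l := 1) rfl N9954 D16461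
theorem N10575 : nd 10575 = n16462 := ndS (p := 9956) (l := 0) rfl N9956 D16462
theorem N10576 : nd 10576 = n16463 := ndS (p := 9957) (l := 7) rfl N9957 D16463
theorem N10577 : nd 10577 = n16464 := ndS (p := 9958) (l := 7) rfl N9958 D16464
theorem N10578 : nd 10578 = n16465 := ndS (p := 9959) (l := 7) rfl N9959 D16465
theorem N10579 : nd 10579 = n16466 := ndS (p := 9960) (l := 3) rfl N9960 D16466
theorem N10580 : nd 10580 = n16467 := ndS (p := 9961) (l := 3) rfl N9961 D16467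
theorem N10581 : nd 10581 = n16468 := ndS (p := 9962) (l := 2) rfl N9962 D16468
theorem N10582 : nd 10582 = n16469 := ndS (p := 9963) (l := 3) rfl N9963 D16469
theorem N10583 : nd 10583 = n16470 := ndS (p := 9964) (l := 2) rfl N9964 D16470
theorem N10584 : nd 10584 = n16471 := ndS (p := 9965) (l := 1) rfl N9965 D16471
theorem N10585 : nd 10585 = n16472 := ndS (p := 9966) (l := 3) rfl N9966 D16472
theorem N10586 : nd 10586 = n16473 := ndS (p := 9967) (l := 3) rfl N9967 D16473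
theorem N10587 : nd 10587 = n16474 := ndS (p := 9969) (l := 2) rfl N9969 D16474
theorem N10588 : nd 10588 = n16475 := ndS (p := 9970) (l := 2) rfl N9970 D16475
theorem N10589 : nd 10589 = n16476 := ndS (p := 9970) (l := 4) rfl N9970 D16476
theorem N10590 : nd 10590 = n16477 := ndS (p := 9971) (l := 1) rfl N9971 D16477
theorem N10591 : nd 10591 = n16478 := ndS (p := 9971) (l := 4) rfl N9971 D16478
theorem N10592 : nd 10592 = n16479 := ndS (p := 9975) (l := 4) rfl N9975 D16479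
theorem N10593 : nd 10593 = n16480 := ndS (p := 9976) (l := 5) rfl N9976 D16480
theorem N10594 : nd 10594 = n16481 := ndS (p := 9981) (l := 4) rfl N9981 D16481
theorem N10595 : nd 10595 = n16482 := ndS (p := 9992) (l := 2) rfl N9992 D16482
theorem N10596 : nd 10596 = n16483 := ndS (p := 9992) (l := 4) rfl N9992 D16483
theorem N10597 : nd 10597 = n16484 := ndS (p := 9993) (l := 1) rfl N9993 D16484
theorem N10598 : nd 10598 = n16485 := ndS (p := 9996) (l := 1) rfl N9996 D16485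
theorem N10599 : nd 10599 = n16486 := ndS (p := 9997) (l := 7) rfl N9997 D16486
theorem N10600 : nd 10600 = n16487 := ndS (p := 9998) (l := 7) rfl N9998 D16487
theorem N10601 : nd 10601 = n16488 := ndS (p := 9999) (l := 3) rfl N9999 D16488
theorem N10602 : nd 10602 = n16489 := ndS (p := 10000) (l := 3) rfl N10000 D16489
theorem N10603 : nd 10603 = n16490 := ndS (p := 10001) (l := 2) rfl N10001 D16490
theorem N10604 : nd 10604 = n16491 := ndS (p := 10002) (l := 2) rfl N10002 D16491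
theorem N10605 : nd 10605 = n16492 := ndS (p := 10002) (l := 4) rfl N10002 D16492
theorem N10606 : nd 10606 = n16493 := ndS (p := 10003) (l := 1) rfl N10003 D16493
theorem N10607 : nd 10607 = n16494 := ndS (p := 10004) (l := 1) rfl N10004 D16494
theorem N10608 : nd 10608 = n16495 := ndS (p := 10004) (l := 4) rfl N10004 D16495
theorem N10609 : nd 10609 = n16496 := ndS (p := 10006) (l := 0) rfl N10006 D16496
theorem N10610 : nd 10610 = n16497 := ndS (p := 10007) (l := 3) rfl N10007 D16497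
theorem N10611 : nd 10611 = n16498 := ndS (p := 10010) (l := 0) rfl N10010 D16498
theorem N10612 : nd 10612 = n16499 := ndS (p := 10013) (l := 7) rfl N10013 D16499
theorem N10613 : nd 10613 = n16500 := ndS (p := 10014) (l := 3) rfl N10014 D16500
theorem N10614 : nd 10614 = n16501 := ndS (p := 10015) (l := 7) rfl N10015 D16501
theorem N10615 : nd 10615 = n16502 := ndS (p := 10016) (l := 7) rfl N10016 D16502
theorem N10616 : nd 10616 = n16503 := ndS (p := 10017) (l := 3) rfl N10017 D16503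
theorem N10617 : nd 10617 = n16504 := ndS (p := 10018) (l := 4) rfl N10018 D16504
theorem N10618 : nd 10618 = n16505 := ndS (p := 10019) (l := 3) rfl N10019 D16505
theorem N10619 : nd 10619 = n16506 := ndS (p := 10020) (l := 2) rfl N10020 D16506
theorem N10620 : nd 10620 = n16507 := ndS (p := 10021) (l := 2) rfl N10021 D16507
theorem N10621 : nd 10621 = n16508 := ndS (p := 10021) (l := 4) rfl N10021 D16508
theorem N10622 : nd 10622 = n16509 := ndS (p := 10022) (l := 7) rfl N10022 D16509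
theorem N10623 : nd 10623 = n16510 := ndS (p := 10023) (l := 3) rfl N10023 D16510
theorem N10624 : nd 10624 = n16511 := ndS (p := 10024) (l := 2) rfl N10024 D16511
theorem N10625 : nd 10625 = n16512 := ndS (p := 10024) (l := 4) rfl N10024 D16512
theorem N10626 : nd 10626 = n16513 := ndS (p := 10025) (l := 5) rfl N10025 D16513
theorem N10627 : nd 10627 = n16514 := ndS (p := 10026) (l := 1) rfl N10026 D16514
theorem N10628 : nd 10628 = n16515 := ndS (p := 10027) (l := 7) rfl N10027 D16515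
theorem N10629 : nd 10629 = n16516 := ndS (p := 10028) (l := 3) rfl N10028 D16516
theorem N10630 : nd 10630 = n16517 := ndS (p := 10029) (l := 2) rfl N10029 D16517
theorem N10631 : nd 10631 = n16518 := ndS (p := 10029) (l := 4) rfl N10029 D16518
theorem N10632 : nd 10632 = n16519 := ndS (p := 10030) (l := 4) rfl N10030 D16519
theorem N10633 : nd 10633 = n16520 := ndS (p := 10031) (l := 5) rfl N10031 D16520
theorem N10634 : nd 10634 = n16521 := ndS (p := 10032) (l := 7) rfl N10032 D16521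
theorem N10635 : nd 10635 = n16522 := ndS (p := 10033) (l := 7) rfl N10033 D16522
theorem N10636 : nd 10636 = n16523 := ndS (p := 10034) (l := 3) rfl N10034 D16523
theorem N10637 : nd 10637 = n16524 := ndS (p := 10035) (l := 3) rfl N10035 D16524
theorem N10638 : nd 10638 = n16525 := ndS (p := 10036) (l := 2) rfl N10036 D16525
theorem N10639 : nd 10639 = n16526 := ndS (p := 10036) (l := 4) rfl N10036 D16526
theorem N10640 : nd 10640 = n16527 := ndS (p := 10037) (l := 2) rfl N10037 D16527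
theorem N10641 : nd 10641 = n16528 := ndS (p := 10037) (l := 4) rfl N10037 D16528
theorem N10642 : nd 10642 = n16529 := ndS (p := 10038) (l := 1) rfl N10038 D16529
theorem N10643 : nd 10643 = n16530 := ndS (p := 10038) (l := 4) rfl N10038 D16530
theorem N10644 : nd 10644 = n16531 := ndS (p := 10039) (l := 5) rfl N10039 D16531
theorem N10645 : nd 10645 = n16532 := ndS (p := 10040) (l := 6) rfl N10040 D16532
theorem N10646 : nd 10646 = n16533 := ndS (p := 10042) (l := 0) rfl N10042 D16533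
theorem N10647 : nd 10647 = n16534 := ndS (p := 10044) (l := 3) rfl N10044 D16534
theorem N10648 : nd 10648 = n16535 := ndS (p := 10045) (l := 3) rfl N10045 D16535
theorem N10649 : nd 10649 = n16536 := ndS (p := 10046) (l := 2) rfl N10046 D16536
theorem N10650 : nd 10650 = n16537 := ndS (p := 10047) (l := 2) rfl N10047 D16537
theorem N10651 : nd 10651 = n16538 := ndS (p := 10047) (l := 4) rfl N10047 D16538
theorem N10652 : nd 10652 = n16539 := ndS (p := 10048) (l := 1) rfl N10048 D16539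
theorem N10653 : nd 10653 = n16540 := ndS (p := 10048) (l := 4) rfl N10048 D16540
theorem N10654 : nd 10654 = n16541 := ndS (p := 10052) (l := 0) rfl N10052 D16541
theorem N10655 : nd 10655 = n16542 := ndS (p := 10052) (l := 4) rfl N10052 D16542
theorem N10656 : nd 10656 = n16543 := ndS (p := 10055) (l := 4) rfl N10055 D16543
theorem N10657 : nd 10657 = n16544 := ndS (p := 10058) (l := 1) rfl N10058 D16544
theorem N10658 : nd 10658 = n16545 := ndS (p := 10058) (l := 4) rfl N10058 D16545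
theorem N10659 : nd 10659 = n16546 := ndS (p := 10060) (l := 3) rfl N10060 D16546
theorem N10660 : nd 10660 = n16547 := ndS (p := 10063) (l := 7) rfl N10063 D16547
theorem N10661 : nd 10661 = n16548 := ndS (p := 10064) (l := 7) rfl N10064 D16548
theorem N10662 : nd 10662 = n16549 := ndS (p := 10065) (l := 7) rfl N10065 D16549
theorem N10663 : nd 10663 = n16550 := ndS (p := 10066) (l := 3) rfl N10066 D16550
theorem N10664 : nd 10664 = n16551 := ndS (p := 10067) (l := 7) rfl N10067 D16551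
theorem N10665 : nd 10665 = n16552 := ndS (p := 10068) (l := 3) rfl N10068 D16552
theorem N10666 : nd 10666 = n16553 := ndS (p := 10069) (l := 2) rfl N10069 D16553
theorem N10667 : nd 10667 = n16554 := ndS (p := 10069) (l := 4) rfl N10069 D16554
theorem N10668 : nd 10668 = n16555 := ndS (p := 10070) (l := 5) rfl N10070 D16555
theorem N10669 : nd 10669 = n16556 := ndS (p := 10071) (l := 3) rfl N10071 D16556
theorem N10670 : nd 10670 = n16557 := ndS (p := 10072) (l := 2) rfl N10072 D16557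
theorem N10671 : nd 10671 = n16558 := ndS (p := 10072) (l := 4) rfl N10072 D16558
theorem N10672 : nd 10672 = n16559 := ndS (p := 10073) (l := 1) rfl N10073 D16559
theorem N10673 : nd 10673 = n16560 := ndS (p := 10074) (l := 7) rfl N10074 D16560
theorem N10674 : nd 10674 = n16561 := ndS (p := 10075) (l := 7) rfl N10075 D16561
theorem N10675 : nd 10675 = n16562 := ndS (p := 10076) (l := 3) rfl N10076 D16562
theorem N10676 : nd 10676 = n16563 := ndS (p := 10077) (l := 3) rfl N10077 D16563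
theorem N10677 : nd 10677 = n16564 := ndS (p := 10078) (l := 2) rfl N10078 D16564
theorem N10678 : nd 10678 = n16565 := ndS (p := 10078) (l := 4) rfl N10078 D16565
theorem N10679 : nd 10679 = n16566 := ndS (p := 10079) (l := 2) rfl N10079 D16566
theorem N10680 : nd 10680 = n16567 := ndS (p := 10079) (l := 4) rfl N10079 D16567
theorem N10681 : nd 10681 = n16568 := ndS (p := 10080) (l := 4) rfl N10080 D16568
theorem N10682 : nd 10682 = n16569 := ndS (p := 10081) (l := 5) rfl N10081 D16569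
theorem N10683 : nd 10683 = n16570 := ndS (p := 10082) (l := 6) rfl N10082 D16570
theorem N10684 : nd 10684 = n16571 := ndS (p := 10084) (l := 3) rfl N10084 D16571
theorem N10685 : nd 10685 = n16572 := ndS (p := 10085) (l := 3) rfl N10085 D16572
theorem N10686 : nd 10686 = n16573 := ndS (p := 10086) (l := 3) rfl N10086 D16573
theorem N10687 : nd 10687 = n16574 := ndS (p := 10087) (l := 2) rfl N10087 D16574
theorem N10688 : nd 10688 = n16575 := ndS (p := 10087) (l := 4) rfl N10087 D16575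
theorem N10689 : nd 10689 = n16576 := ndS (p := 10088) (l := 2) rfl N10088 D16576
theorem N10690 : nd 10690 = n16577 := ndS (p := 10088) (l := 4) rfl N10088 D16577
theorem N10691 : nd 10691 = n16578 := ndS (p := 10089) (l := 1) rfl N10089 D16578
theorem N10692 : nd 10692 = n16579 := ndS (p := 10089) (l := 4) rfl N10089 D16579
theorem N10693 : nd 10693 = n16580 := ndS (p := 10090) (l := 5) rfl N10090 D16580
theorem N10694 : nd 10694 = n16581 := ndS (p := 10091) (l := 2) rfl N10091 D16581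
theorem N10695 : nd 10695 = n16582 := ndS (p := 10091) (l := 4) rfl N10091 D16582
theorem N10696 : nd 10696 = n16583 := ndS (p := 10092) (l := 1) rfl N10092 D16583
theorem N10697 : nd 10697 = n16584 := ndS (p := 10092) (l := 4) rfl N10092 D16584
theorem N10698 : nd 10698 = n16585 := ndS (p := 10093) (l := 5) rfl N10093 D16585
theorem N10699 : nd 10699 = n16586 := ndS (p := 10094) (l := 0) rfl N10094 D16586
theorem N10700 : nd 10700 = n16587 := ndS (p := 10094) (l := 4) rfl N10094 D16587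
theorem N10701 : nd 10701 = n16588 := ndS (p := 10095) (l := 5) rfl N10095 D16588
theorem N10702 : nd 10702 = n16589 := ndS (p := 10096) (l := 6) rfl N10096 D16589
theorem N10703 : nd 10703 = n16590 := ndS (p := 10100) (l := 3) rfl N10100 D16590
theorem N10704 : nd 10704 = n16591 := ndS (p := 10102) (l := 2) rfl N10102 D16591
theorem N10705 : nd 10705 = n16592 := ndS (p := 10103) (l := 2) rfl N10103 D16592
theorem N10706 : nd 10706 = n16593 := ndS (p := 10104) (l := 2) rfl N10104 D16593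
theorem N10707 : nd 10707 = n16594 := ndS (p := 10104) (l := 4) rfl N10104 D16594
theorem N10708 : nd 10708 = n16595 := ndS (p := 10105) (l := 1) rfl N10105 D16595
theorem N10709 : nd 10709 = n16596 := ndS (p := 10105) (l := 4) rfl N10105 D16596
theorem N10710 : nd 10710 = n16597 := ndS (p := 10107) (l := 1) rfl N10107 D16597
theorem N10711 : nd 10711 = n16598 := ndS (p := 10107) (l := 4) rfl N10107 D16598
theorem N10712 : nd 10712 = n16599 := ndS (p := 10109) (l := 0) rfl N10109 D16599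
theorem N10713 : nd 10713 = n16600 := ndS (p := 10109) (l := 4) rfl N10109 D16600
theorem N10714 : nd 10714 = n16601 := ndS (p := 10110) (l := 3) rfl N10110 D16601
theorem N10715 : nd 10715 = n16602 := ndS (p := 10114) (l := 4) rfl N10114 D16602
theorem N10716 : nd 10716 = n16603 := ndS (p := 10116) (l := 7) rfl N10116 D16603
theorem N10717 : nd 10717 = n16604 := ndS (p := 10120) (l := 1) rfl N10120 D16604
theorem N10718 : nd 10718 = n16605 := ndS (p := 10122) (l := 0) rfl N10122 D16605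
theorem N10719 : nd 10719 = n16606 := ndS (p := 10123) (l := 1) rfl N10123 D16606
theorem N10720 : nd 10720 = n16607 := ndS (p := 10126) (l := 0) rfl N10126 D16607
theorem N10721 : nd 10721 = n16608 := ndS (p := 10126) (l := 4) rfl N10126 D16608
theorem N10722 : nd 10722 = n16609 := ndS (p := 10128) (l := 4) rfl N10128 D16609
theorem N10723 : nd 10723 = n16610 := ndS (p := 10131) (l := 7) rfl N10131 D16610
theorem N10724 : nd 10724 = n16611 := ndS (p := 10132) (l := 7) rfl N10132 D16611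
theorem N10725 : nd 10725 = n16612 := ndS (p := 10133) (l := 3) rfl N10133 D16612
theorem N10726 : nd 10726 = n16613 := ndS (p := 10134) (l := 7) rfl N10134 D16613
theorem N10727 : nd 10727 = n16614 := ndS (p := 10135) (l := 7) rfl N10135 D16614
theorem N10728 : nd 10728 = n16615 := ndS (p := 10136) (l := 3) rfl N10136 D16615
theorem N10729 : nd 10729 = n16616 := ndS (p := 10137) (l := 4) rfl N10137 D16616
theorem N10730 : nd 10730 = n16617 := ndS (p := 10138) (l := 3) rfl N10138 D16617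
theorem N10731 : nd 10731 = n16618 := ndS (p := 10139) (l := 2) rfl N10139 D16618
theorem N10732 : nd 10732 = n16619 := ndS (p := 10140) (l := 3) rfl N10140 D16619
theorem N10733 : nd 10733 = n16620 := ndS (p := 10141) (l := 3) rfl N10141 D16620
theorem N10734 : nd 10734 = n16621 := ndS (p := 10142) (l := 7) rfl N10142 D16621
theorem N10735 : nd 10735 = n16622 := ndS (p := 10143) (l := 3) rfl N10143 D16622
theorem N10736 : nd 10736 = n16623 := ndS (p := 10144) (l := 4) rfl N10144 D16623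
theorem N10737 : nd 10737 = n16624 := ndS (p := 10145) (l := 2) rfl N10145 D16624
theorem N10738 : nd 10738 = n16625 := ndS (p := 10146) (l := 3) rfl N10146 D16625
theorem N10739 : nd 10739 = n16626 := ndS (p := 10147) (l := 7) rfl N10147 D16626
theorem N10740 : nd 10740 = n16627 := ndS (p := 10148) (l := 3) rfl N10148 D16627
theorem N10741 : nd 10741 = n16628 := ndS (p := 10149) (l := 2) rfl N10149 D16628
theorem N10742 : nd 10742 = n16629 := ndS (p := 10149) (l := 4) rfl N10149 D16629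
theorem N10743 : nd 10743 = n16630 := ndS (p := 10150) (l := 7) rfl N10150 D16630
theorem N10744 : nd 10744 = n16631 := ndS (p := 10151) (l := 7) rfl N10151 D16631
theorem N10745 : nd 10745 = n16632 := ndS (p := 10152) (l := 3) rfl N10152 D16632
theorem N10746 : nd 10746 = n16633 := ndS (p := 10153) (l := 3) rfl N10153 D16633
theorem N10747 : nd 10747 = n16634 := ndS (p := 10154) (l := 2) rfl N10154 D16634
theorem N10748 : nd 10748 = n16635 := ndS (p := 10154) (l := 4) rfl N10154 D16635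
theorem N10749 : nd 10749 = n16636 := ndS (p := 10155) (l := 5) rfl N10155 D16636
theorem N10750 : nd 10750 = n16637 := ndS (p := 10156) (l := 2) rfl N10156 D16637
theorem N10751 : nd 10751 = n16638 := ndS (p := 10157) (l := 1) rfl N10157 D16638
theorem N10752 : nd 10752 = n16639 := ndS (p := 10158) (l := 3) rfl N10158 D16639
theorem N10753 : nd 10753 = n16640 := ndS (p := 10159) (l := 3) rfl N10159 D16640
theorem N10754 : nd 10754 = n16641 := ndS (p := 10160) (l := 4) rfl N10160 D16641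
theorem N10755 : nd 10755 = n16642 := ndS (p := 10161) (l := 2) rfl N10161 D16642
theorem N10756 : nd 10756 = n16643 := ndS (p := 10162) (l := 3) rfl N10162 D16643
theorem N10757 : nd 10757 = n16644 := ndS (p := 10163) (l := 2) rfl N10163 D16644
theorem N10758 : nd 10758 = n16645 := ndS (p := 10163) (l := 4) rfl N10163 D16645
theorem N10759 : nd 10759 = n16646 := ndS (p := 10164) (l := 2) rfl N10164 D16646
theorem N10760 : nd 10760 = n16647 := ndS (p := 10164) (l := 4) rfl N10164 D16647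
theorem N10761 : nd 10761 = n16648 := ndS (p := 10165) (l := 5) rfl N10165 D16648
theorem N10762 : nd 10762 = n16649 := ndS (p := 10167) (l := 7) rfl N10167 D16649
theorem N10763 : nd 10763 = n16650 := ndS (p := 10168) (l := 3) rfl N10168 D16650
theorem N10764 : nd 10764 = n16651 := ndS (p := 10169) (l := 2) rfl N10169 D16651
theorem N10765 : nd 10765 = n16652 := ndS (p := 10169) (l := 4) rfl N10169 D16652
theorem N10766 : nd 10766 = n16653 := ndS (p := 10170) (l := 7) rfl N10170 D16653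
theorem N10767 : nd 10767 = n16654 := ndS (p := 10171) (l := 3) rfl N10171 D16654
theorem N10768 : nd 10768 = n16655 := ndS (p := 10172) (l := 3) rfl N10172 D16655
theorem N10769 : nd 10769 = n16656 := ndS (p := 10173) (l := 4) rfl N10173 D16656
theorem N10770 : nd 10770 = n16657 := ndS (p := 10174) (l := 4) rfl N10174 D16657
theorem N10771 : nd 10771 = n16658 := ndS (p := 10175) (l := 5) rfl N10175 D16658
theorem N10772 : nd 10772 = n16659 := ndS (p := 10176) (l := 7) rfl N10176 D16659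
theorem N10773 : nd 10773 = n16660 := ndS (p := 10177) (l := 7) rfl N10177 D16660
theorem N10774 : nd 10774 = n16661 := ndS (p := 10178) (l := 3) rfl N10178 D16661
theorem N10775 : nd 10775 = n16662 := ndS (p := 10179) (l := 3) rfl N10179 D16662
theorem N10776 : nd 10776 = n16663 := ndS (p := 10180) (l := 2) rfl N10180 D16663
theorem N10777 : nd 10777 = n16664 := ndS (p := 10180) (l := 4) rfl N10180 D16664
theorem N10778 : nd 10778 = n16665 := ndS (p := 10181) (l := 3) rfl N10181 D16665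
theorem N10779 : nd 10779 = n16666 := ndS (p := 10182) (l := 2) rfl N10182 D16666
theorem N10780 : nd 10780 = n16667 := ndS (p := 10182) (l := 4) rfl N10182 D16667
theorem N10781 : nd 10781 = n16668 := ndS (p := 10183) (l := 1) rfl N10183 D16668
theorem N10782 : nd 10782 = n16669 := ndS (p := 10183) (l := 4) rfl N10183 D16669
theorem N10783 : nd 10783 = n16670 := ndS (p := 10184) (l := 5) rfl N10184 D16670
theorem N10784 : nd 10784 = n16671 := ndS (p := 10185) (l := 6) rfl N10185 D16671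
theorem N10785 : nd 10785 = n16672 := ndS (p := 10187) (l := 0) rfl N10187 D16672
theorem N10786 : nd 10786 = n16673 := ndS (p := 10190) (l := 2) rfl N10190 D16673
theorem N10787 : nd 10787 = n16674 := ndS (p := 10191) (l := 1) rfl N10191 D16674
theorem N10788 : nd 10788 = n16675 := ndS (p := 10192) (l := 0) rfl N10192 D16675
theorem N10789 : nd 10789 = n16676 := ndS (p := 10194) (l := 2) rfl N10194 D16676
theorem N10790 : nd 10790 = n16677 := ndS (p := 10195) (l := 2) rfl N10195 D16677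
theorem N10791 : nd 10791 = n16678 := ndS (p := 10196) (l := 4) rfl N10196 D16678
theorem N10792 : nd 10792 = n16679 := ndS (p := 10201) (l := 3) rfl N10201 D16679
theorem N10793 : nd 10793 = n16680 := ndS (p := 10203) (l := 7) rfl N10203 D16680
theorem N10794 : nd 10794 = n16681 := ndS (p := 10204) (l := 3) rfl N10204 D16681
theorem N10795 : nd 10795 = n16682 := ndS (p := 10205) (l := 3) rfl N10205 D16682
theorem N10796 : nd 10796 = n16683 := ndS (p := 10206) (l := 4) rfl N10206 D16683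
theorem N10797 : nd 10797 = n16684 := ndS (p := 10207) (l := 7) rfl N10207 D16684
theorem N10798 : nd 10798 = n16685 := ndS (p := 10208) (l := 3) rfl N10208 D16685
theorem N10799 : nd 10799 = n16686 := ndS (p := 10209) (l := 7) rfl N10209 D16686
theorem N10800 : nd 10800 = n16687 := ndS (p := 10210) (l := 3) rfl N10210 D16687
theorem N10801 : nd 10801 = n16688 := ndS (p := 10211) (l := 4) rfl N10211 D16688
theorem N10802 : nd 10802 = n16689 := ndS (p := 10212) (l := 7) rfl N10212 D16689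
theorem N10803 : nd 10803 = n16690 := ndS (p := 10213) (l := 3) rfl N10213 D16690
theorem N10804 : nd 10804 = n16691 := ndS (p := 10214) (l := 7) rfl N10214 D16691
theorem N10805 : nd 10805 = n16692 := ndS (p := 10215) (l := 3) rfl N10215 D16692
theorem N10806 : nd 10806 = n16693 := ndS (p := 10216) (l := 2) rfl N10216 D16693
theorem N10807 : nd 10807 = n16694 := ndS (p := 10216) (l := 4) rfl N10216 D16694
theorem N10808 : nd 10808 = n16695 := ndS (p := 10217) (l := 5) rfl N10217 D16695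
theorem N10809 : nd 10809 = n16696 := ndS (p := 10219) (l := 2) rfl N10219 D16696
theorem N10810 : nd 10810 = n16697 := ndS (p := 10219) (l := 4) rfl N10219 D16697
theorem N10811 : nd 10811 = n16698 := ndS (p := 10220) (l := 1) rfl N10220 D16698
theorem N10812 : nd 10812 = n16699 := ndS (p := 10221) (l := 4) rfl N10221 D16699
theorem N10813 : nd 10813 = n16700 := ndS (p := 10222) (l := 4) rfl N10222 D16700
theorem N10814 : nd 10814 = n16701 := ndS (p := 10223) (l := 3) rfl N10223 D16701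
theorem N10815 : nd 10815 = n16702 := ndS (p := 10224) (l := 2) rfl N10224 D16702
theorem N10816 : nd 10816 = n16703 := ndS (p := 10224) (l := 4) rfl N10224 D16703
theorem N10817 : nd 10817 = n16704 := ndS (p := 10225) (l := 5) rfl N10225 D16704
theorem N10818 : nd 10818 = n16705 := ndS (p := 10226) (l := 1) rfl N10226 D16705
theorem N10819 : nd 10819 = n16706 := ndS (p := 10227) (l := 4) rfl N10227 D16706
theorem N10820 : nd 10820 = n16707 := ndS (p := 10228) (l := 7) rfl N10228 D16707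
theorem N10821 : nd 10821 = n16708 := ndS (p := 10229) (l := 7) rfl N10229 D16708
theorem N10822 : nd 10822 = n16709 := ndS (p := 10230) (l := 3) rfl N10230 D16709
theorem N10823 : nd 10823 = n16710 := ndS (p := 10231) (l := 3) rfl N10231 D16710
theorem N10824 : nd 10824 = n16711 := ndS (p := 10232) (l := 2) rfl N10232 D16711
theorem N10825 : nd 10825 = n16712 := ndS (p := 10232) (l := 4) rfl N10232 D16712
theorem N10826 : nd 10826 = n16713 := ndS (p := 10233) (l := 5) rfl N10233 D16713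
theorem N10827 : nd 10827 = n16714 := ndS (p := 10234) (l := 7) rfl N10234 D16714
theorem N10828 : nd 10828 = n16715 := ndS (p := 10235) (l := 7) rfl N10235 D16715
theorem N10829 : nd 10829 = n16716 := ndS (p := 10236) (l := 7) rfl N10236 D16716
theorem N10830 : nd 10830 = n16717 := ndS (p := 10237) (l := 3) rfl N10237 D16717
theorem N10831 : nd 10831 = n16718 := ndS (p := 10238) (l := 3) rfl N10238 D16718
theorem N10832 : nd 10832 = n16719 := ndS (p := 10239) (l := 2) rfl N10239 D16719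
theorem N10833 : nd 10833 = n16720 := ndS (p := 10239) (l := 4) rfl N10239 D16720
theorem N10834 : nd 10834 = n16721 := ndS (p := 10240) (l := 3) rfl N10240 D16721
theorem N10835 : nd 10835 = n16722 := ndS (p := 10241) (l := 2) rfl N10241 D16722
theorem N10836 : nd 10836 = n16723 := ndS (p := 10241) (l := 4) rfl N10241 D16723
theorem N10837 : nd 10837 = n16724 := ndS (p := 10242) (l := 1) rfl N10242 D16724
theorem N10838 : nd 10838 = n16725 := ndS (p := 10242) (l := 4) rfl N10242 D16725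
theorem N10839 : nd 10839 = n16726 := ndS (p := 10243) (l := 5) rfl N10243 D16726
theorem N10840 : nd 10840 = n16727 := ndS (p := 10244) (l := 6) rfl N10244 D16727
theorem N10841 : nd 10841 = n16728 := ndS (p := 10245) (l := 1) rfl N10245 D16728
theorem N10842 : nd 10842 = n16729 := ndS (p := 10246) (l := 0) rfl N10246 D16729
theorem N10843 : nd 10843 = n16730 := ndS (p := 10247) (l := 3) rfl N10247 D16730
theorem N10844 : nd 10844 = n16731 := ndS (p := 10248) (l := 2) rfl N10248 D16731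
theorem N10845 : nd 10845 = n16732 := ndS (p := 10248) (l := 4) rfl N10248 D16732
theorem N10846 : nd 10846 = n16733 := ndS (p := 10249) (l := 5) rfl N10249 D16733
theorem N10847 : nd 10847 = n16734 := ndS (p := 10251) (l := 4) rfl N10251 D16734
theorem N10848 : nd 10848 = n16735 := ndS (p := 10252) (l := 3) rfl N10252 D16735
theorem N10849 : nd 10849 = n16736 := ndS (p := 10253) (l := 2) rfl N10253 D16736
theorem N10850 : nd 10850 = n16737 := ndS (p := 10253) (l := 4) rfl N10253 D16737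
theorem N10851 : nd 10851 = n16738 := ndS (p := 10254) (l := 5) rfl N10254 D16738
theorem N10852 : nd 10852 = n16739 := ndS (p := 10255) (l := 7) rfl N10255 D16739
theorem N10853 : nd 10853 = n16740 := ndS (p := 10256) (l := 3) rfl N10256 D16740
theorem N10854 : nd 10854 = n16741 := ndS (p := 10257) (l := 2) rfl N10257 D16741
theorem N10855 : nd 10855 = n16742 := ndS (p := 10257) (l := 4) rfl N10257 D16742
theorem N10856 : nd 10856 = n16743 := ndS (p := 10258) (l := 3) rfl N10258 D16743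
theorem N10857 : nd 10857 = n16744 := ndS (p := 10259) (l := 2) rfl N10259 D16744
theorem N10858 : nd 10858 = n16745 := ndS (p := 10259) (l := 4) rfl N10259 D16745
theorem N10859 : nd 10859 = n16746 := ndS (p := 10260) (l := 1) rfl N10260 D16746
theorem N10860 : nd 10860 = n16747 := ndS (p := 10260) (l := 4) rfl N10260 D16747
theorem N10861 : nd 10861 = n16748 := ndS (p := 10261) (l := 5) rfl N10261 D16748
theorem N10862 : nd 10862 = n16749 := ndS (p := 10262) (l := 6) rfl N10262 D16749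
theorem N10863 : nd 10863 = n16750 := ndS (p := 10263) (l := 1) rfl N10263 D16750
theorem N10864 : nd 10864 = n16751 := ndS (p := 10263) (l := 4) rfl N10263 D16751
theorem N10865 : nd 10865 = n16752 := ndS (p := 10266) (l := 7) rfl N10266 D16752
theorem N10866 : nd 10866 = n16753 := ndS (p := 10267) (l := 7) rfl N10267 D16753
theorem N10867 : nd 10867 = n16754 := ndS (p := 10268) (l := 3) rfl N10268 D16754
theorem N10868 : nd 10868 = n16755 := ndS (p := 10269) (l := 3) rfl N10269 D16755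
theorem N10869 : nd 10869 = n16756 := ndS (p := 10270) (l := 2) rfl N10270 D16756
theorem N10870 : nd 10870 = n16757 := ndS (p := 10270) (l := 4) rfl N10270 D16757
theorem N10871 : nd 10871 = n16758 := ndS (p := 10271) (l := 5) rfl N10271 D16758
theorem N10872 : nd 10872 = n16759 := ndS (p := 10272) (l := 7) rfl N10272 D16759
theorem N10873 : nd 10873 = n16760 := ndS (p := 10273) (l := 7) rfl N10273 D16760
theorem N10874 : nd 10874 = n16761 := ndS (p := 10274) (l := 7) rfl N10274 D16761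
theorem N10875 : nd 10875 = n16762 := ndS (p := 10275) (l := 3) rfl N10275 D16762
theorem N10876 : nd 10876 = n16763 := ndS (p := 10276) (l := 3) rfl N10276 D16763
theorem N10877 : nd 10877 = n16764 := ndS (p := 10277) (l := 2) rfl N10277 D16764
theorem N10878 : nd 10878 = n16765 := ndS (p := 10277) (l := 4) rfl N10277 D16765
theorem N10879 : nd 10879 = n16766 := ndS (p := 10278) (l := 3) rfl N10278 D16766
theorem N10880 : nd 10880 = n16767 := ndS (p := 10279) (l := 2) rfl N10279 D16767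
theorem N10881 : nd 10881 = n16768 := ndS (p := 10279) (l := 4) rfl N10279 D16768
theorem N10882 : nd 10882 = n16769 := ndS (p := 10280) (l := 1) rfl N10280 D16769
theorem N10883 : nd 10883 = n16770 := ndS (p := 10280) (l := 4) rfl N10280 D16770
theorem N10884 : nd 10884 = n16771 := ndS (p := 10281) (l := 5) rfl N10281 D16771
theorem N10885 : nd 10885 = n16772 := ndS (p := 10282) (l := 6) rfl N10282 D16772
theorem N10886 : nd 10886 = n16773 := ndS (p := 10283) (l := 3) rfl N10283 D16773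
theorem N10887 : nd 10887 = n16774 := ndS (p := 10284) (l := 3) rfl N10284 D16774
theorem N10888 : nd 10888 = n16775 := ndS (p := 10285) (l := 3) rfl N10285 D16775
theorem N10889 : nd 10889 = n16776 := ndS (p := 10286) (l := 2) rfl N10286 D16776
theorem N10890 : nd 10890 = n16777 := ndS (p := 10286) (l := 4) rfl N10286 D16777
theorem N10891 : nd 10891 = n16778 := ndS (p := 10287) (l := 2) rfl N10287 D16778
theorem N10892 : nd 10892 = n16779 := ndS (p := 10287) (l := 4) rfl N10287 D16779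
theorem N10893 : nd 10893 = n16780 := ndS (p := 10288) (l := 1) rfl N10288 D16780
theorem N10894 : nd 10894 = n16781 := ndS (p := 10288) (l := 4) rfl N10288 D16781
theorem N10895 : nd 10895 = n16782 := ndS (p := 10289) (l := 5) rfl N10289 D16782
theorem N10896 : nd 10896 = n16783 := ndS (p := 10290) (l := 4) rfl N10290 D16783
theorem N10897 : nd 10897 = n16784 := ndS (p := 10291) (l := 1) rfl N10291 D16784
theorem N10898 : nd 10898 = n16785 := ndS (p := 10291) (l := 4) rfl N10291 D16785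
theorem N10899 : nd 10899 = n16786 := ndS (p := 10292) (l := 5) rfl N10292 D16786
theorem N10900 : nd 10900 = n16787 := ndS (p := 10293) (l := 0) rfl N10293 D16787
theorem N10901 : nd 10901 = n16788 := ndS (p := 10293) (l := 4) rfl N10293 D16788
theorem N10902 : nd 10902 = n16789 := ndS (p := 10294) (l := 5) rfl N10294 D16789
theorem N10903 : nd 10903 = n16790 := ndS (p := 10295) (l := 6) rfl N10295 D16790
theorem N10904 : nd 10904 = n16791 := ndS (p := 10300) (l := 2) rfl N10300 D16791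
theorem N10905 : nd 10905 = n16792 := ndS (p := 10300) (l := 4) rfl N10300 D16792
theorem N10906 : nd 10906 = n16793 := ndS (p := 10301) (l := 1) rfl N10301 D16793
theorem N10907 : nd 10907 = n16794 := ndS (p := 10302) (l := 1) rfl N10302 D16794
theorem N10908 : nd 10908 = n16795 := ndS (p := 10302) (l := 4) rfl N10302 D16795
theorem N10909 : nd 10909 = n16796 := ndS (p := 10304) (l := 0) rfl N10304 D16796
theorem N10910 : nd 10910 = n16797 := ndS (p := 10308) (l := 2) rfl N10308 D16797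
theorem N10911 : nd 10911 = n16798 := ndS (p := 10309) (l := 1) rfl N10309 D16798
theorem N10912 : nd 10912 = n16799 := ndS (p := 10310) (l := 1) rfl N10310 D16799
theorem N10913 : nd 10913 = n16800 := ndS (p := 10310) (l := 4) rfl N10310 D16800
theorem N10914 : nd 10914 = n16801 := ndS (p := 10312) (l := 0) rfl N10312 D16801
theorem N10915 : nd 10915 = n16802 := ndS (p := 10312) (l := 4) rfl N10312 D16802
theorem N10916 : nd 10916 = n16803 := ndS (p := 10313) (l := 3) rfl N10313 D16803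
theorem N10917 : nd 10917 = n16804 := ndS (p := 10315) (l := 4) rfl N10315 D16804
theorem N10918 : nd 10918 = n16805 := ndS (p := 10321) (l := 1) rfl N10321 D16805
theorem N10919 : nd 10919 = n16806 := ndS (p := 10325) (l := 2) rfl N10325 D16806
theorem N10920 : nd 10920 = n16807 := ndS (p := 10326) (l := 4) rfl N10326 D16807
theorem N10921 : nd 10921 = n16808 := ndS (p := 10331) (l := 0) rfl N10331 D16808
theorem N10922 : nd 10922 = n16809 := ndS (p := 10332) (l := 4) rfl N10332 D16809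
theorem N10923 : nd 10923 = n16810 := ndS (p := 10333) (l := 5) rfl N10333 D16810
theorem N10924 : nd 10924 = n16811 := ndS (p := 10334) (l := 2) rfl N10334 D16811
theorem N10925 : nd 10925 = n16812 := ndS (p := 10334) (l := 4) rfl N10334 D16812
theorem N10926 : nd 10926 = n16813 := ndS (p := 10335) (l := 5) rfl N10335 D16813
theorem N10927 : nd 10927 = n16814 := ndS (p := 10336) (l := 2) rfl N10336 D16814
theorem N10928 : nd 10928 = n16815 := ndS (p := 10336) (l := 4) rfl N10336 D16815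
theorem N10929 : nd 10929 = n16816 := ndS (p := 10337) (l := 4) rfl N10337 D16816
theorem N10930 : nd 10930 = n16817 := ndS (p := 10338) (l := 5) rfl N10338 D16817
theorem N10931 : nd 10931 = n16818 := ndS (p := 10339) (l := 4) rfl N10339 D16818
theorem N10932 : nd 10932 = n16819 := ndS (p := 10340) (l := 5) rfl N10340 D16819
theorem N10933 : nd 10933 = n16820 := ndS (p := 10341) (l := 6) rfl N10341 D16820
theorem N10934 : nd 10934 = n16821 := ndS (p := 10344) (l := 7) rfl N10344 D16821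
theorem N10935 : nd 10935 = n16822 := ndS (p := 10345) (l := 3) rfl N10345 D16822
theorem N10936 : nd 10936 = n16823 := ndS (p := 10346) (l := 3) rfl N10346 D16823
theorem N10937 : nd 10937 = n16824 := ndS (p := 10347) (l := 3) rfl N10347 D16824
theorem N10938 : nd 10938 = n16825 := ndS (p := 10348) (l := 4) rfl N10348 D16825
theorem N10939 : nd 10939 = n16826 := ndS (p := 10349) (l := 7) rfl N10349 D16826
theorem N10940 : nd 10940 = n16827 := ndS (p := 10350) (l := 3) rfl N10350 D16827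
theorem N10941 : nd 10941 = n16828 := ndS (p := 10351) (l := 7) rfl N10351 D16828
theorem N10942 : nd 10942 = n16829 := ndS (p := 10352) (l := 3) rfl N10352 D16829
theorem N10943 : nd 10943 = n16830 := ndS (p := 10353) (l := 2) rfl N10353 D16830
theorem N10944 : nd 10944 = n16831 := ndS (p := 10353) (l := 4) rfl N10353 D16831
theorem N10945 : nd 10945 = n16832 := ndS (p := 10354) (l := 7) rfl N10354 D16832
theorem N10946 : nd 10946 = n16833 := ndS (p := 10355) (l := 3) rfl N10355 D16833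
theorem N10947 : nd 10947 = n16834 := ndS (p := 10356) (l := 3) rfl N10356 D16834
theorem N10948 : nd 10948 = n16835 := ndS (p := 10357) (l := 2) rfl N10357 D16835
theorem N10949 : nd 10949 = n16836 := ndS (p := 10357) (l := 4) rfl N10357 D16836
theorem N10950 : nd 10950 = n16837 := ndS (p := 10358) (l := 5) rfl N10358 D16837
theorem N10951 : nd 10951 = n16838 := ndS (p := 10359) (l := 2) rfl N10359 D16838
theorem N10952 : nd 10952 = n16839 := ndS (p := 10359) (l := 4) rfl N10359 D16839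
theorem N10953 : nd 10953 = n16840 := ndS (p := 10360) (l := 1) rfl N10360 D16840
theorem N10954 : nd 10954 = n16841 := ndS (p := 10361) (l := 4) rfl N10361 D16841
theorem N10955 : nd 10955 = n16842 := ndS (p := 10362) (l := 2) rfl N10362 D16842
theorem N10956 : nd 10956 = n16843 := ndS (p := 10362) (l := 4) rfl N10362 D16843
theorem N10957 : nd 10957 = n16844 := ndS (p := 10363) (l := 5) rfl N10363 D16844
theorem N10958 : nd 10958 = n16845 := ndS (p := 10364) (l := 2) rfl N10364 D16845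
theorem N10959 : nd 10959 = n16846 := ndS (p := 10364) (l := 4) rfl N10364 D16846
theorem N10960 : nd 10960 = n16847 := ndS (p := 10365) (l := 3) rfl N10365 D16847
theorem N10961 : nd 10961 = n16848 := ndS (p := 10366) (l := 4) rfl N10366 D16848
theorem N10962 : nd 10962 = n16849 := ndS (p := 10367) (l := 4) rfl N10367 D16849
theorem N10963 : nd 10963 = n16850 := ndS (p := 10368) (l := 5) rfl N10368 D16850
theorem N10964 : nd 10964 = n16851 := ndS (p := 10369) (l := 7) rfl N10369 D16851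
theorem N10965 : nd 10965 = n16852 := ndS (p := 10370) (l := 7) rfl N10370 D16852
theorem N10966 : nd 10966 = n16853 := ndS (p := 10371) (l := 3) rfl N10371 D16853
theorem N10967 : nd 10967 = n16854 := ndS (p := 10372) (l := 3) rfl N10372 D16854
theorem N10968 : nd 10968 = n16855 := ndS (p := 10373) (l := 4) rfl N10373 D16855
theorem N10969 : nd 10969 = n16856 := ndS (p := 10374) (l := 4) rfl N10374 D16856
theorem N10970 : nd 10970 = n16857 := ndS (p := 10375) (l := 5) rfl N10375 D16857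
theorem N10971 : nd 10971 = n16858 := ndS (p := 10376) (l := 6) rfl N10376 D16858
theorem N10972 : nd 10972 = n16859 := ndS (p := 10377) (l := 3) rfl N10377 D16859
theorem N10973 : nd 10973 = n16860 := ndS (p := 10378) (l := 2) rfl N10378 D16860
theorem N10974 : nd 10974 = n16861 := ndS (p := 10378) (l := 4) rfl N10378 D16861
theorem N10975 : nd 10975 = n16862 := ndS (p := 10379) (l := 5) rfl N10379 D16862
theorem N10976 : nd 10976 = n16863 := ndS (p := 10381) (l := 3) rfl N10381 D16863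
theorem N10977 : nd 10977 = n16864 := ndS (p := 10382) (l := 2) rfl N10382 D16864
theorem N10978 : nd 10978 = n16865 := ndS (p := 10382) (l := 4) rfl N10382 D16865
theorem N10979 : nd 10979 = n16866 := ndS (p := 10383) (l := 4) rfl N10383 D16866
theorem N10980 : nd 10980 = n16867 := ndS (p := 10384) (l := 5) rfl N10384 D16867
theorem N10981 : nd 10981 = n16868 := ndS (p := 10385) (l := 3) rfl N10385 D16868
theorem N10982 : nd 10982 = n16869 := ndS (p := 10386) (l := 3) rfl N10386 D16869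
theorem N10983 : nd 10983 = n16870 := ndS (p := 10387) (l := 4) rfl N10387 D16870
theorem N10984 : nd 10984 = n16871 := ndS (p := 10388) (l := 4) rfl N10388 D16871
theorem N10985 : nd 10985 = n16872 := ndS (p := 10389) (l := 5) rfl N10389 D16872
theorem N10986 : nd 10986 = n16873 := ndS (p := 10390) (l := 6) rfl N10390 D16873
theorem N10987 : nd 10987 = n16874 := ndS (p := 10391) (l := 7) rfl N10391 D16874
theorem N10988 : nd 10988 = n16875 := ndS (p := 10392) (l := 3) rfl N10392 D16875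
theorem N10989 : nd 10989 = n16876 := ndS (p := 10393) (l := 2) rfl N10393 D16876
theorem N10990 : nd 10990 = n16877 := ndS (p := 10393) (l := 4) rfl N10393 D16877
theorem N10991 : nd 10991 = n16878 := ndS (p := 10394) (l := 4) rfl N10394 D16878
theorem N10992 : nd 10992 = n16879 := ndS (p := 10395) (l := 5) rfl N10395 D16879
theorem N10993 : nd 10993 = n16880 := ndS (p := 10396) (l := 7) rfl N10396 D16880
theorem N10994 : nd 10994 = n16881 := ndS (p := 10397) (l := 7) rfl N10397 D16881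
theorem N10995 : nd 10995 = n16882 := ndS (p := 10398) (l := 3) rfl N10398 D16882
theorem N10996 : nd 10996 = n16883 := ndS (p := 10399) (l := 3) rfl N10399 D16883
theorem N10997 : nd 10997 = n16884 := ndS (p := 10400) (l := 2) rfl N10400 D16884
theorem N10998 : nd 10998 = n16885 := ndS (p := 10400) (l := 4) rfl N10400 D16885
theorem N10999 : nd 10999 = n16886 := ndS (p := 10401) (l := 2) rfl N10401 D16886
theorem N11000 : nd 11000 = n16887 := ndS (p := 10401) (l := 4) rfl N10401 D16887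
theorem N11001 : nd 11001 = n16888 := ndS (p := 10402) (l := 4) rfl N10402 D16888
theorem N11002 : nd 11002 = n16889 := ndS (p := 10403) (l := 5) rfl N10403 D16889
theorem N11003 : nd 11003 = n16890 := ndS (p := 10404) (l := 3) rfl N10404 D16890
theorem N11004 : nd 11004 = n16891 := ndS (p := 10404) (l := 5) rfl N10404 D16891
theorem N11005 : nd 11005 = n16892 := ndS (p := 10405) (l := 6) rfl N10405 D16892
theorem N11006 : nd 11006 = n16893 := ndS (p := 10406) (l := 3) rfl N10406 D16893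
theorem N11007 : nd 11007 = n16894 := ndS (p := 10407) (l := 3) rfl N10407 D16894
theorem N11008 : nd 11008 = n16895 := ndS (p := 10408) (l := 3) rfl N10408 D16895
theorem N11009 : nd 11009 = n16896 := ndS (p := 10409) (l := 2) rfl N10409 D16896
theorem N11010 : nd 11010 = n16897 := ndS (p := 10409) (l := 4) rfl N10409 D16897
theorem N11011 : nd 11011 = n16898 := ndS (p := 10410) (l := 2) rfl N10410 D16898
theorem N11012 : nd 11012 = n16899 := ndS (p := 10410) (l := 4) rfl N10410 D16899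
theorem N11013 : nd 11013 = n16900 := ndS (p := 10411) (l := 4) rfl N10411 D16900
theorem N11014 : nd 11014 = n16901 := ndS (p := 10412) (l := 5) rfl N10412 D16901
theorem N11015 : nd 11015 = n16902 := ndS (p := 10413) (l := 4) rfl N10413 D16902
theorem N11016 : nd 11016 = n16903 := ndS (p := 10414) (l := 4) rfl N10414 D16903
theorem N11017 : nd 11017 = n16904 := ndS (p := 10415) (l := 5) rfl N10415 D16904
theorem N11018 : nd 11018 = n16905 := ndS (p := 10416) (l := 5) rfl N10416 D16905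
theorem N11019 : nd 11019 = n16906 := ndS (p := 10417) (l := 6) rfl N10417 D16906
theorem N11020 : nd 11020 = n16907 := ndS (p := 10419) (l := 3) rfl N10419 D16907
theorem N11021 : nd 11021 = n16908 := ndS (p := 10424) (l := 4) rfl N10424 D16908
theorem N11022 : nd 11022 = n16909 := ndS (p := 10426) (l := 3) rfl N10426 D16909
theorem N11023 : nd 11023 = n16910 := ndS (p := 10430) (l := 3) rfl N10430 D16910
theorem N11024 : nd 11024 = n16911 := ndS (p := 10433) (l := 7) rfl N10433 D16911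
theorem N11025 : nd 11025 = n16912 := ndS (p := 10434) (l := 7) rfl N10434 D16912
theorem N11026 : nd 11026 = n16913 := ndS (p := 10435) (l := 8) rfl N10435 D16913
theorem N11027 : nd 11027 = n16914 := ndS (p := 10436) (l := 4) rfl N10436 D16914
theorem N11028 : nd 11028 = n16915 := ndS (p := 10437) (l := 2) rfl N10437 D16915
theorem N11029 : nd 11029 = n16916 := ndS (p := 10437) (l := 4) rfl N10437 D16916
theorem N11030 : nd 11030 = n16917 := ndS (p := 10438) (l := 5) rfl N10438 D16917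
theorem N11031 : nd 11031 = n16918 := ndS (p := 10440) (l := 5) rfl N10440 D16918
theorem N11032 : nd 11032 = n16919 := ndS (p := 10441) (l := 6) rfl N10441 D16919
theorem N11033 : nd 11033 = n16920 := ndS (p := 10442) (l := 6) rfl N10442 D16920
theorem N11034 : nd 11034 = n16921 := ndS (p := 10443) (l := 3) rfl N10443 D16921
theorem N11035 : nd 11035 = n16922 := ndS (p := 10444) (l := 3) rfl N10444 D16922
theorem N11036 : nd 11036 = n16923 := ndS (p := 10445) (l := 2) rfl N10445 D16923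
theorem N11037 : nd 11037 = n16924 := ndS (p := 10445) (l := 4) rfl N10445 D16924
theorem N11038 : nd 11038 = n16925 := ndS (p := 10446) (l := 2) rfl N10446 D16925
theorem N11039 : nd 11039 = n16926 := ndS (p := 10446) (l := 4) rfl N10446 D16926
theorem N11040 : nd 11040 = n16927 := ndS (p := 10447) (l := 4) rfl N10447 D16927
theorem N11041 : nd 11041 = n16928 := ndS (p := 10448) (l := 5) rfl N10448 D16928
theorem N11042 : nd 11042 = n16929 := ndS (p := 10449) (l := 6) rfl N10449 D16929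
theorem N11043 : nd 11043 = n16930 := ndS (p := 10450) (l := 3) rfl N10450 D16930
theorem N11044 : nd 11044 = n16931 := ndS (p := 10451) (l := 3) rfl N10451 D16931
theorem N11045 : nd 11045 = n16932 := ndS (p := 10452) (l := 4) rfl N10452 D16932
theorem N11046 : nd 11046 = n16933 := ndS (p := 10453) (l := 4) rfl N10453 D16933
theorem N11047 : nd 11047 = n16934 := ndS (p := 10454) (l := 5) rfl N10454 D16934
theorem N11048 : nd 11048 = n16935 := ndS (p := 10455) (l := 5) rfl N10455 D16935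
theorem N11049 : nd 11049 = n16936 := ndS (p := 10456) (l := 6) rfl N10456 D16936
theorem N11050 : nd 11050 = n16937 := ndS (p := 10460) (l := 2) rfl N10460 D16937
theorem N11051 : nd 11051 = n16938 := ndS (p := 10460) (l := 4) rfl N10460 D16938
theorem N11052 : nd 11052 = n16939 := ndS (p := 10461) (l := 5) rfl N10461 D16939
theorem N11053 : nd 11053 = n16940 := ndS (p := 10462) (l := 1) rfl N10462 D16940
theorem N11054 : nd 11054 = n16941 := ndS (p := 10463) (l := 7) rfl N10463 D16941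
theorem N11055 : nd 11055 = n16942 := ndS (p := 10464) (l := 3) rfl N10464 D16942
theorem N11056 : nd 11056 = n16943 := ndS (p := 10465) (l := 4) rfl N10465 D16943
theorem N11057 : nd 11057 = n16944 := ndS (p := 10466) (l := 7) rfl N10466 D16944
theorem N11058 : nd 11058 = n16945 := ndS (p := 10467) (l := 7) rfl N10467 D16945
theorem N11059 : nd 11059 = n16946 := ndS (p := 10468) (l := 3) rfl N10468 D16946
theorem N11060 : nd 11060 = n16947 := ndS (p := 10469) (l := 3) rfl N10469 D16947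
theorem N11061 : nd 11061 = n16948 := ndS (p := 10470) (l := 2) rfl N10470 D16948
theorem N11062 : nd 11062 = n16949 := ndS (p := 10470) (l := 4) rfl N10470 D16949
theorem N11063 : nd 11063 = n16950 := ndS (p := 10471) (l := 5) rfl N10471 D16950
theorem N11064 : nd 11064 = n16951 := ndS (p := 10472) (l := 7) rfl N10472 D16951
theorem N11065 : nd 11065 = n16952 := ndS (p := 10473) (l := 7) rfl N10473 D16952
theorem N11066 : nd 11066 = n16953 := ndS (p := 10474) (l := 3) rfl N10474 D16953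
theorem N11067 : nd 11067 = n16954 := ndS (p := 10475) (l := 3) rfl N10475 D16954
theorem N11068 : nd 11068 = n16955 := ndS (p := 10476) (l := 2) rfl N10476 D16955
theorem N11069 : nd 11069 = n16956 := ndS (p := 10476) (l := 4) rfl N10476 D16956
theorem N11070 : nd 11070 = n16957 := ndS (p := 10477) (l := 3) rfl N10477 D16957
theorem N11071 : nd 11071 = n16958 := ndS (p := 10478) (l := 2) rfl N10478 D16958
theorem N11072 : nd 11072 = n16959 := ndS (p := 10478) (l := 4) rfl N10478 D16959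
theorem N11073 : nd 11073 = n16960 := ndS (p := 10479) (l := 1) rfl N10479 D16960
theorem N11074 : nd 11074 = n16961 := ndS (p := 10479) (l := 4) rfl N10479 D16961
theorem N11075 : nd 11075 = n16962 := ndS (p := 10480) (l := 5) rfl N10480 D16962
theorem N11076 : nd 11076 = n16963 := ndS (p := 10481) (l := 6) rfl N10481 D16963
theorem N11077 : nd 11077 = n16964 := ndS (p := 10482) (l := 2) rfl N10482 D16964
theorem N11078 : nd 11078 = n16965 := ndS (p := 10483) (l := 1) rfl N10483 D16965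
theorem N11079 : nd 11079 = n16966 := ndS (p := 10483) (l := 4) rfl N10483 D16966
theorem N11080 : nd 11080 = n16967 := ndS (p := 10485) (l := 0) rfl N10485 D16967
theorem N11081 : nd 11081 = n16968 := ndS (p := 10486) (l := 6) rfl N10486 D16968
theorem N11082 : nd 11082 = n16969 := ndS (p := 10487) (l := 7) rfl N10487 D16969
theorem N11083 : nd 11083 = n16970 := ndS (p := 10488) (l := 3) rfl N10488 D16970
theorem N11084 : nd 11084 = n16971 := ndS (p := 10489) (l := 2) rfl N10489 D16971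
theorem N11085 : nd 11085 = n16972 := ndS (p := 10489) (l := 4) rfl N10489 D16972
theorem N11086 : nd 11086 = n16973 := ndS (p := 10490) (l := 5) rfl N10490 D16973
theorem N11087 : nd 11087 = n16974 := ndS (p := 10491) (l := 7) rfl N10491 D16974
theorem N11088 : nd 11088 = n16975 := ndS (p := 10492) (l := 7) rfl N10492 D16975
theorem N11089 : nd 11089 = n16976 := ndS (p := 10493) (l := 3) rfl N10493 D16976
theorem N11090 : nd 11090 = n16977 := ndS (p := 10494) (l := 3) rfl N10494 D16977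
theorem N11091 : nd 11091 = n16978 := ndS (p := 10495) (l := 2) rfl N10495 D16978
theorem N11092 : nd 11092 = n16979 := ndS (p := 10495) (l := 4) rfl N10495 D16979
theorem N11093 : nd 11093 = n16980 := ndS (p := 10496) (l := 2) rfl N10496 D16980
theorem N11094 : nd 11094 = n16981 := ndS (p := 10496) (l := 4) rfl N10496 D16981
theorem N11095 : nd 11095 = n16982 := ndS (p := 10497) (l := 4) rfl N10497 D16982
theorem N11096 : nd 11096 = n16983 := ndS (p := 10498) (l := 5) rfl N10498 D16983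
theorem N11097 : nd 11097 = n16984 := ndS (p := 10499) (l := 6) rfl N10499 D16984
theorem N11098 : nd 11098 = n16985 := ndS (p := 10500) (l := 3) rfl N10500 D16985
theorem N11099 : nd 11099 = n16986 := ndS (p := 10501) (l := 3) rfl N10501 D16986
theorem N11100 : nd 11100 = n16987 := ndS (p := 10502) (l := 3) rfl N10502 D16987
theorem N11101 : nd 11101 = n16988 := ndS (p := 10503) (l := 4) rfl N10503 D16988
theorem N11102 : nd 11102 = n16989 := ndS (p := 10504) (l := 4) rfl N10504 D16989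
theorem N11103 : nd 11103 = n16990 := ndS (p := 10505) (l := 5) rfl N10505 D16990
theorem N11104 : nd 11104 = n16991 := ndS (p := 10506) (l := 4) rfl N10506 D16991
theorem N11105 : nd 11105 = n16992 := ndS (p := 10507) (l := 5) rfl N10507 D16992
theorem N11106 : nd 11106 = n16993 := ndS (p := 10508) (l := 6) rfl N10508 D16993
theorem N11107 : nd 11107 = n16994 := ndS (p := 10510) (l := 3) rfl N10510 D16994
theorem N11108 : nd 11108 = n16995 := ndS (p := 10511) (l := 3) rfl N10511 D16995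
theorem N11109 : nd 11109 = n16996 := ndS (p := 10512) (l := 3) rfl N10512 D16996
theorem N11110 : nd 11110 = n16997 := ndS (p := 10513) (l := 4) rfl N10513 D16997
theorem N11111 : nd 11111 = n16998 := ndS (p := 10514) (l := 4) rfl N10514 D16998
theorem N11112 : nd 11112 = n16999 := ndS (p := 10515) (l := 5) rfl N10515 D16999
theorem N11113 : nd 11113 = n17000 := ndS (p := 10516) (l := 4) rfl N10516 D17000
theorem N11114 : nd 11114 = n17001 := ndS (p := 10517) (l := 5) rfl N10517 D17001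
theorem N11115 : nd 11115 = n17002 := ndS (p := 10518) (l := 6) rfl N10518 D17002
theorem N11116 : nd 11116 = n17003 := ndS (p := 10520) (l := 7) rfl N10520 D17003
theorem N11117 : nd 11117 = n17004 := ndS (p := 10521) (l := 7) rfl N10521 D17004
theorem N11118 : nd 11118 = n17005 := ndS (p := 10522) (l := 3) rfl N10522 D17005
theorem N11119 : nd 11119 = n17006 := ndS (p := 10523) (l := 3) rfl N10523 D17006
theorem N11120 : nd 11120 = n17007 := ndS (p := 10524) (l := 2) rfl N10524 D17007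
theorem N11121 : nd 11121 = n17008 := ndS (p := 10524) (l := 4) rfl N10524 D17008
theorem N11122 : nd 11122 = n17009 := ndS (p := 10525) (l := 2) rfl N10525 D17009
theorem N11123 : nd 11123 = n17010 := ndS (p := 10525) (l := 4) rfl N10525 D17010
theorem N11124 : nd 11124 = n17011 := ndS (p := 10526) (l := 1) rfl N10526 D17011
theorem N11125 : nd 11125 = n17012 := ndS (p := 10526) (l := 4) rfl N10526 D17012
theorem N11126 : nd 11126 = n17013 := ndS (p := 10527) (l := 5) rfl N10527 D17013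
theorem N11127 : nd 11127 = n17014 := ndS (p := 10528) (l := 6) rfl N10528 D17014
theorem N11128 : nd 11128 = n17015 := ndS (p := 10529) (l := 3) rfl N10529 D17015
theorem N11129 : nd 11129 = n17016 := ndS (p := 10530) (l := 3) rfl N10530 D17016
theorem N11130 : nd 11130 = n17017 := ndS (p := 10531) (l := 3) rfl N10531 D17017
theorem N11131 : nd 11131 = n17018 := ndS (p := 10532) (l := 2) rfl N10532 D17018
theorem N11132 : nd 11132 = n17019 := ndS (p := 10532) (l := 4) rfl N10532 D17019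
theorem N11133 : nd 11133 = n17020 := ndS (p := 10533) (l := 2) rfl N10533 D17020
theorem N11134 : nd 11134 = n17021 := ndS (p := 10533) (l := 4) rfl N10533 D17021
theorem N11135 : nd 11135 = n17022 := ndS (p := 10534) (l := 1) rfl N10534 D17022
theorem N11136 : nd 11136 = n17023 := ndS (p := 10534) (l := 4) rfl N10534 D17023
theorem N11137 : nd 11137 = n17024 := ndS (p := 10535) (l := 5) rfl N10535 D17024
theorem N11138 : nd 11138 = n17025 := ndS (p := 10536) (l := 4) rfl N10536 D17025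
theorem N11139 : nd 11139 = n17026 := ndS (p := 10537) (l := 4) rfl N10537 D17026
theorem N11140 : nd 11140 = n17027 := ndS (p := 10538) (l := 5) rfl N10538 D17027
theorem N11141 : nd 11141 = n17028 := ndS (p := 10539) (l := 4) rfl N10539 D17028
theorem N11142 : nd 11142 = n17029 := ndS (p := 10540) (l := 5) rfl N10540 D17029
theorem N11143 : nd 11143 = n17030 := ndS (p := 10541) (l := 6) rfl N10541 D17030
theorem N11144 : nd 11144 = n17031 := ndS (p := 10543) (l := 2) rfl N10543 D17031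
theorem N11145 : nd 11145 = n17032 := ndS (p := 10543) (l := 4) rfl N10543 D17032
theorem N11146 : nd 11146 = n17033 := ndS (p := 10544) (l := 4) rfl N10544 D17033
theorem N11147 : nd 11147 = n17034 := ndS (p := 10545) (l := 4) rfl N10545 D17034
theorem N11148 : nd 11148 = n17035 := ndS (p := 10546) (l := 4) rfl N10546 D17035
theorem N11149 : nd 11149 = n17036 := ndS (p := 10547) (l := 5) rfl N10547 D17036
theorem N11150 : nd 11150 = n17037 := ndS (p := 10548) (l := 4) rfl N10548 D17037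
theorem N11151 : nd 11151 = n17038 := ndS (p := 10549) (l := 5) rfl N10549 D17038
theorem N11152 : nd 11152 = n17039 := ndS (p := 10550) (l := 4) rfl N10550 D17039
theorem N11153 : nd 11153 = n17040 := ndS (p := 10551) (l := 3) rfl N10551 D17040
theorem N11154 : nd 11154 = n17041 := ndS (p := 10551) (l := 5) rfl N10551 D17041
theorem N11155 : nd 11155 = n17042 := ndS (p := 10552) (l := 6) rfl N10552 D17042
theorem N11156 : nd 11156 = n17043 := ndS (p := 10553) (l := 5) rfl N10553 D17043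
theorem N11157 : nd 11157 = n17044 := ndS (p := 10554) (l := 5) rfl N10554 D17044
theorem N11158 : nd 11158 = n17045 := ndS (p := 10555) (l := 6) rfl N10555 D17045
theorem N11159 : nd 11159 = n17046 := ndS (p := 10556) (l := 5) rfl N10556 D17046
theorem N11160 : nd 11160 = n17047 := ndS (p := 10557) (l := 6) rfl N10557 D17047
theorem N11161 : nd 11161 = n17048 := ndS (p := 10559) (l := 2) rfl N10559 D17048
theorem N11162 : nd 11162 = n17049 := ndS (p := 10566) (l := 1) rfl N10566 D17049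
theorem N11163 : nd 11163 = n17050 := ndS (p := 10571) (l := 0) rfl N10571 D17050
theorem N11164 : nd 11164 = n17051 := ndS (p := 10572) (l := 1) rfl N10572 D17051
theorem N11165 : nd 11165 = n17052 := ndS (p := 10573) (l := 0) rfl N10573 D17052
theorem N11166 : nd 11166 = n17053 := ndS (p := 10574) (l := 0) rfl N10574 D17053
theorem N11167 : nd 11167 = n17054 := ndS (p := 10576) (l := 3) rfl N10576 D17054
theorem N11168 : nd 11168 = n17055 := ndS (p := 10577) (l := 3) rfl N10577 D17055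
theorem N11169 : nd 11169 = n17056 := ndS (p := 10579) (l := 2) rfl N10579 D17056
theorem N11170 : nd 11170 = n17057 := ndS (p := 10580) (l := 2) rfl N10580 D17057
theorem N11171 : nd 11171 = n17058 := ndS (p := 10581) (l := 1) rfl N10581 D17058
theorem N11172 : nd 11172 = n17059 := ndS (p := 10585) (l := 2) rfl N10585 D17059
theorem N11173 : nd 11173 = n17060 := ndS (p := 10588) (l := 4) rfl N10588 D17060
theorem N11174 : nd 11174 = n17061 := ndS (p := 10590) (l := 4) rfl N10590 D17061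
theorem N11175 : nd 11175 = n17062 := ndS (p := 10591) (l := 3) rfl N10591 D17062
theorem N11176 : nd 11176 = n17063 := ndS (p := 10595) (l := 1) rfl N10595 D17063
theorem N11177 : nd 11177 = n17064 := ndS (p := 10595) (l := 4) rfl N10595 D17064
theorem N11178 : nd 11178 = n17065 := ndS (p := 10597) (l := 0) rfl N10597 D17065
theorem N11179 : nd 11179 = n17066 := ndS (p := 10598) (l := 0) rfl N10598 D17066
theorem N11180 : nd 11180 = n17067 := ndS (p := 10600) (l := 3) rfl N10600 D17067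
theorem N11181 : nd 11181 = n17068 := ndS (p := 10601) (l := 2) rfl N10601 D17068
theorem N11182 : nd 11182 = n17069 := ndS (p := 10602) (l := 2) rfl N10602 D17069
theorem N11183 : nd 11183 = n17070 := ndS (p := 10603) (l := 1) rfl N10603 D17070
theorem N11184 : nd 11184 = n17071 := ndS (p := 10604) (l := 1) rfl N10604 D17071
theorem N11185 : nd 11185 = n17072 := ndS (p := 10604) (l := 4) rfl N10604 D17072
theorem N11186 : nd 11186 = n17073 := ndS (p := 10606) (l := 0) rfl N10606 D17073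
theorem N11187 : nd 11187 = n17074 := ndS (p := 10610) (l := 2) rfl N10610 D17074
theorem N11188 : nd 11188 = n17075 := ndS (p := 10612) (l := 3) rfl N10612 D17075
theorem N11189 : nd 11189 = n17076 := ndS (p := 10613) (l := 2) rfl N10613 D17076
theorem N11190 : nd 11190 = n17077 := ndS (p := 10613) (l := 4) rfl N10613 D17077
theorem N11191 : nd 11191 = n17078 := ndS (p := 10614) (l := 3) rfl N10614 D17078
theorem N11192 : nd 11192 = n17079 := ndS (p := 10615) (l := 3) rfl N10615 D17079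
theorem N11193 : nd 11193 = n17080 := ndS (p := 10616) (l := 2) rfl N10616 D17080
theorem N11194 : nd 11194 = n17081 := ndS (p := 10616) (l := 4) rfl N10616 D17081
theorem N11195 : nd 11195 = n17082 := ndS (p := 10617) (l := 5) rfl N10617 D17082
theorem N11196 : nd 11196 = n17083 := ndS (p := 10618) (l := 2) rfl N10618 D17083
theorem N11197 : nd 11197 = n17084 := ndS (p := 10618) (l := 4) rfl N10618 D17084
theorem N11198 : nd 11198 = n17085 := ndS (p := 10619) (l := 1) rfl N10619 D17085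
theorem N11199 : nd 11199 = n17086 := ndS (p := 10620) (l := 4) rfl N10620 D17086
theorem N11200 : nd 11200 = n17087 := ndS (p := 10621) (l := 5) rfl N10621 D17087
theorem N11201 : nd 11201 = n17088 := ndS (p := 10622) (l := 3) rfl N10622 D17088
theorem N11202 : nd 11202 = n17089 := ndS (p := 10623) (l := 2) rfl N10623 D17089
theorem N11203 : nd 11203 = n17090 := ndS (p := 10623) (l := 4) rfl N10623 D17090
theorem N11204 : nd 11204 = n17091 := ndS (p := 10624) (l := 1) rfl N10624 D17091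
theorem N11205 : nd 11205 = n17092 := ndS (p := 10624) (l := 4) rfl N10624 D17092
theorem N11206 : nd 11206 = n17093 := ndS (p := 10625) (l := 5) rfl N10625 D17093
theorem N11207 : nd 11207 = n17094 := ndS (p := 10626) (l := 6) rfl N10626 D17094
theorem N11208 : nd 11208 = n17095 := ndS (p := 10628) (l := 3) rfl N10628 D17095
theorem N11209 : nd 11209 = n17096 := ndS (p := 10629) (l := 2) rfl N10629 D17096
theorem N11210 : nd 11210 = n17097 := ndS (p := 10629) (l := 4) rfl N10629 D17097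
theorem N11211 : nd 11211 = n17098 := ndS (p := 10630) (l := 1) rfl N10630 D17098
theorem N11212 : nd 11212 = n17099 := ndS (p := 10630) (l := 4) rfl N10630 D17099
theorem N11213 : nd 11213 = n17100 := ndS (p := 10631) (l := 5) rfl N10631 D17100
theorem N11214 : nd 11214 = n17101 := ndS (p := 10632) (l := 3) rfl N10632 D17101
theorem N11215 : nd 11215 = n17102 := ndS (p := 10632) (l := 5) rfl N10632 D17102
theorem N11216 : nd 11216 = n17103 := ndS (p := 10633) (l := 6) rfl N10633 D17103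
theorem N11217 : nd 11217 = n17104 := ndS (p := 10634) (l := 3) rfl N10634 D17104
theorem N11218 : nd 11218 = n17105 := ndS (p := 10635) (l := 3) rfl N10635 D17105
theorem N11219 : nd 11219 = n17106 := ndS (p := 10636) (l := 2) rfl N10636 D17106
theorem N11220 : nd 11220 = n17107 := ndS (p := 10636) (l := 4) rfl N10636 D17107
theorem N11221 : nd 11221 = n17108 := ndS (p := 10637) (l := 2) rfl N10637 D17108
theorem N11222 : nd 11222 = n17109 := ndS (p := 10637) (l := 4) rfl N10637 D17109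
theorem N11223 : nd 11223 = n17110 := ndS (p := 10638) (l := 1) rfl N10638 D17110
theorem N11224 : nd 11224 = n17111 := ndS (p := 10638) (l := 4) rfl N10638 D17111
theorem N11225 : nd 11225 = n17112 := ndS (p := 10639) (l := 5) rfl N10639 D17112
theorem N11226 : nd 11226 = n17113 := ndS (p := 10640) (l := 4) rfl N10640 D17113
theorem N11227 : nd 11227 = n17114 := ndS (p := 10641) (l := 5) rfl N10641 D17114
theorem N11228 : nd 11228 = n17115 := ndS (p := 10642) (l := 0) rfl N10642 D17115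
theorem N11229 : nd 11229 = n17116 := ndS (p := 10642) (l := 4) rfl N10642 D17116
theorem N11230 : nd 11230 = n17117 := ndS (p := 10643) (l := 5) rfl N10643 D17117
theorem N11231 : nd 11231 = n17118 := ndS (p := 10644) (l := 6) rfl N10644 D17118
theorem N11232 : nd 11232 = n17119 := ndS (p := 10648) (l := 2) rfl N10648 D17119
theorem N11233 : nd 11233 = n17120 := ndS (p := 10650) (l := 1) rfl N10650 D17120
theorem N11234 : nd 11234 = n17121 := ndS (p := 10650) (l := 4) rfl N10650 D17121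
theorem N11235 : nd 11235 = n17122 := ndS (p := 10652) (l := 0) rfl N10652 D17122
theorem N11236 : nd 11236 = n17123 := ndS (p := 10652) (l := 4) rfl N10652 D17123
theorem N11237 : nd 11237 = n17124 := ndS (p := 10653) (l := 3) rfl N10653 D17124
theorem N11238 : nd 11238 = n17125 := ndS (p := 10654) (l := 4) rfl N10654 D17125
theorem N11239 : nd 11239 = n17126 := ndS (p := 10656) (l := 3) rfl N10656 D17126
theorem N11240 : nd 11240 = n17127 := ndS (p := 10658) (l := 3) rfl N10658 D17127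
theorem N11241 : nd 11241 = n17128 := ndS (p := 10659) (l := 7) rfl N10659 D17128
theorem N11242 : nd 11242 = n17129 := ndS (p := 10660) (l := 8) rfl N10660 D17129
theorem N11243 : nd 11243 = n17130 := ndS (p := 10661) (l := 3) rfl N10661 D17130
theorem N11244 : nd 11244 = n17131 := ndS (p := 10662) (l := 3) rfl N10662 D17131
theorem N11245 : nd 11245 = n17132 := ndS (p := 10663) (l := 2) rfl N10663 D17132
theorem N11246 : nd 11246 = n17133 := ndS (p := 10663) (l := 4) rfl N10663 D17133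
theorem N11247 : nd 11247 = n17134 := ndS (p := 10664) (l := 3) rfl N10664 D17134
theorem N11248 : nd 11248 = n17135 := ndS (p := 10665) (l := 2) rfl N10665 D17135
theorem N11249 : nd 11249 = n17136 := ndS (p := 10665) (l := 4) rfl N10665 D17136
theorem N11250 : nd 11250 = n17137 := ndS (p := 10666) (l := 1) rfl N10666 D17137
theorem N11251 : nd 11251 = n17138 := ndS (p := 10666) (l := 4) rfl N10666 D17138
theorem N11252 : nd 11252 = n17139 := ndS (p := 10667) (l := 5) rfl N10667 D17139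
theorem N11253 : nd 11253 = n17140 := ndS (p := 10668) (l := 6) rfl N10668 D17140
theorem N11254 : nd 11254 = n17141 := ndS (p := 10669) (l := 2) rfl N10669 D17141
theorem N11255 : nd 11255 = n17142 := ndS (p := 10670) (l := 1) rfl N10670 D17142
theorem N11256 : nd 11256 = n17143 := ndS (p := 10670) (l := 4) rfl N10670 D17143
theorem N11257 : nd 11257 = n17144 := ndS (p := 10672) (l := 0) rfl N10672 D17144
theorem N11258 : nd 11258 = n17145 := ndS (p := 10673) (l := 3) rfl N10673 D17145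
theorem N11259 : nd 11259 = n17146 := ndS (p := 10674) (l := 3) rfl N10674 D17146
theorem N11260 : nd 11260 = n17147 := ndS (p := 10675) (l := 2) rfl N10675 D17147
theorem N11261 : nd 11261 = n17148 := ndS (p := 10675) (l := 4) rfl N10675 D17148
theorem N11262 : nd 11262 = n17149 := ndS (p := 10676) (l := 2) rfl N10676 D17149
theorem N11263 : nd 11263 = n17150 := ndS (p := 10676) (l := 4) rfl N10676 D17150
theorem N11264 : nd 11264 = n17151 := ndS (p := 10677) (l := 4) rfl N10677 D17151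
theorem N11265 : nd 11265 = n17152 := ndS (p := 10678) (l := 5) rfl N10678 D17152
theorem N11266 : nd 11266 = n17153 := ndS (p := 10679) (l := 4) rfl N10679 D17153
theorem N11267 : nd 11267 = n17154 := ndS (p := 10680) (l := 5) rfl N10680 D17154
theorem N11268 : nd 11268 = n17155 := ndS (p := 10681) (l := 5) rfl N10681 D17155
theorem N11269 : nd 11269 = n17156 := ndS (p := 10682) (l := 6) rfl N10682 D17156
theorem N11270 : nd 11270 = n17157 := ndS (p := 10684) (l := 2) rfl N10684 D17157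
theorem N11271 : nd 11271 = n17158 := ndS (p := 10684) (l := 4) rfl N10684 D17158
theorem N11272 : nd 11272 = n17159 := ndS (p := 10685) (l := 2) rfl N10685 D17159
theorem N11273 : nd 11273 = n17160 := ndS (p := 10685) (l := 4) rfl N10685 D17160
theorem N11274 : nd 11274 = n17161 := ndS (p := 10686) (l := 2) rfl N10686 D17161
theorem N11275 : nd 11275 = n17162 := ndS (p := 10686) (l := 4) rfl N10686 D17162
theorem N11276 : nd 11276 = n17163 := ndS (p := 10687) (l := 1) rfl N10687 D17163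
theorem N11277 : nd 11277 = n17164 := ndS (p := 10687) (l := 4) rfl N10687 D17164
theorem N11278 : nd 11278 = n17165 := ndS (p := 10688) (l := 5) rfl N10688 D17165
theorem N11279 : nd 11279 = n17166 := ndS (p := 10689) (l := 1) rfl N10689 D17166
theorem N11280 : nd 11280 = n17167 := ndS (p := 10689) (l := 4) rfl N10689 D17167
theorem N11281 : nd 11281 = n17168 := ndS (p := 10690) (l := 5) rfl N10690 D17168
theorem N11282 : nd 11282 = n17169 := ndS (p := 10691) (l := 0) rfl N10691 D17169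
theorem N11283 : nd 11283 = n17170 := ndS (p := 10691) (l := 4) rfl N10691 D17170
theorem N11284 : nd 11284 = n17171 := ndS (p := 10692) (l := 3) rfl N10692 D17171
theorem N11285 : nd 11285 = n17172 := ndS (p := 10692) (l := 5) rfl N10692 D17172
theorem N11286 : nd 11286 = n17173 := ndS (p := 10693) (l := 6) rfl N10693 D17173
theorem N11287 : nd 11287 = n17174 := ndS (p := 10694) (l := 4) rfl N10694 D17174
theorem N11288 : nd 11288 = n17175 := ndS (p := 10695) (l := 5) rfl N10695 D17175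
theorem N11289 : nd 11289 = n17176 := ndS (p := 10696) (l := 4) rfl N10696 D17176
theorem N11290 : nd 11290 = n17177 := ndS (p := 10697) (l := 3) rfl N10697 D17177
theorem N11291 : nd 11291 = n17178 := ndS (p := 10697) (l := 5) rfl N10697 D17178
theorem N11292 : nd 11292 = n17179 := ndS (p := 10698) (l := 6) rfl N10698 D17179
theorem N11293 : nd 11293 = n17180 := ndS (p := 10699) (l := 4) rfl N10699 D17180
theorem N11294 : nd 11294 = n17181 := ndS (p := 10700) (l := 5) rfl N10700 D17181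
theorem N11295 : nd 11295 = n17182 := ndS (p := 10701) (l := 6) rfl N10701 D17182
theorem N11296 : nd 11296 = n17183 := ndS (p := 10703) (l := 7) rfl N10703 D17183
theorem N11297 : nd 11297 = n17184 := ndS (p := 10706) (l := 1) rfl N10706 D17184
theorem N11298 : nd 11298 = n17185 := ndS (p := 10706) (l := 4) rfl N10706 D17185
theorem N11299 : nd 11299 = n17186 := ndS (p := 10709) (l := 3) rfl N10709 D17186
theorem N11300 : nd 11300 = n17187 := ndS (p := 10710) (l := 0) rfl N10710 D17187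
theorem N11301 : nd 11301 = n17188 := ndS (p := 10710) (l := 4) rfl N10710 D17188
theorem N11302 : nd 11302 = n17189 := ndS (p := 10711) (l := 3) rfl N10711 D17189
theorem N11303 : nd 11303 = n17190 := ndS (p := 10712) (l := 4) rfl N10712 D17190
theorem N11304 : nd 11304 = n17191 := ndS (p := 10713) (l := 3) rfl N10713 D17191
theorem N11305 : nd 11305 = n17192 := ndS (p := 10717) (l := 0) rfl N10717 D17192
theorem N11306 : nd 11306 = n17193 := ndS (p := 10720) (l := 4) rfl N10720 D17193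
theorem N11307 : nd 11307 = n17194 := ndS (p := 10723) (l := 3) rfl N10723 D17194
theorem N11308 : nd 11308 = n17195 := ndS (p := 10724) (l := 3) rfl N10724 D17195
theorem N11309 : nd 11309 = n17196 := ndS (p := 10725) (l := 2) rfl N10725 D17196
theorem N11310 : nd 11310 = n17197 := ndS (p := 10725) (l := 4) rfl N10725 D17197
theorem N11311 : nd 11311 = n17198 := ndS (p := 10726) (l := 3) rfl N10726 D17198
theorem N11312 : nd 11312 = n17199 := ndS (p := 10727) (l := 3) rfl N10727 D17199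
theorem N11313 : nd 11313 = n17200 := ndS (p := 10728) (l := 2) rfl N10728 D17200
theorem N11314 : nd 11314 = n17201 := ndS (p := 10728) (l := 4) rfl N10728 D17201
theorem N11315 : nd 11315 = n17202 := ndS (p := 10729) (l := 5) rfl N10729 D17202
theorem N11316 : nd 11316 = n17203 := ndS (p := 10730) (l := 2) rfl N10730 D17203
theorem N11317 : nd 11317 = n17204 := ndS (p := 10730) (l := 4) rfl N10730 D17204
theorem N11318 : nd 11318 = n17205 := ndS (p := 10731) (l := 1) rfl N10731 D17205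
theorem N11319 : nd 11319 = n17206 := ndS (p := 10732) (l := 4) rfl N10732 D17206
theorem N11320 : nd 11320 = n17207 := ndS (p := 10733) (l := 2) rfl N10733 D17207
theorem N11321 : nd 11321 = n17208 := ndS (p := 10733) (l := 4) rfl N10733 D17208
theorem N11322 : nd 11322 = n17209 := ndS (p := 10734) (l := 3) rfl N10734 D17209
theorem N11323 : nd 11323 = n17210 := ndS (p := 10735) (l := 2) rfl N10735 D17210
theorem N11324 : nd 11324 = n17211 := ndS (p := 10735) (l := 4) rfl N10735 D17211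
theorem N11325 : nd 11325 = n17212 := ndS (p := 10736) (l := 5) rfl N10736 D17212
theorem N11326 : nd 11326 = n17213 := ndS (p := 10738) (l := 2) rfl N10738 D17213
theorem N11327 : nd 11327 = n17214 := ndS (p := 10738) (l := 4) rfl N10738 D17214
theorem N11328 : nd 11328 = n17215 := ndS (p := 10739) (l := 3) rfl N10739 D17215
theorem N11329 : nd 11329 = n17216 := ndS (p := 10740) (l := 4) rfl N10740 D17216
theorem N11330 : nd 11330 = n17217 := ndS (p := 10741) (l := 4) rfl N10741 D17217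
theorem N11331 : nd 11331 = n17218 := ndS (p := 10742) (l := 5) rfl N10742 D17218
theorem N11332 : nd 11332 = n17219 := ndS (p := 10743) (l := 3) rfl N10743 D17219
theorem N11333 : nd 11333 = n17220 := ndS (p := 10744) (l := 3) rfl N10744 D17220
theorem N11334 : nd 11334 = n17221 := ndS (p := 10745) (l := 2) rfl N10745 D17221
theorem N11335 : nd 11335 = n17222 := ndS (p := 10745) (l := 4) rfl N10745 D17222
theorem N11336 : nd 11336 = n17223 := ndS (p := 10746) (l := 2) rfl N10746 D17223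
theorem N11337 : nd 11337 = n17224 := ndS (p := 10746) (l := 4) rfl N10746 D17224
theorem N11338 : nd 11338 = n17225 := ndS (p := 10747) (l := 1) rfl N10747 D17225
theorem N11339 : nd 11339 = n17226 := ndS (p := 10747) (l := 4) rfl N10747 D17226
theorem N11340 : nd 11340 = n17227 := ndS (p := 10748) (l := 5) rfl N10748 D17227
theorem N11341 : nd 11341 = n17228 := ndS (p := 10749) (l := 6) rfl N10749 D17228
theorem N11342 : nd 11342 = n17229 := ndS (p := 10752) (l := 4) rfl N10752 D17229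
theorem N11343 : nd 11343 = n17230 := ndS (p := 10753) (l := 2) rfl N10753 D17230
theorem N11344 : nd 11344 = n17231 := ndS (p := 10753) (l := 4) rfl N10753 D17231
theorem N11345 : nd 11345 = n17232 := ndS (p := 10754) (l := 5) rfl N10754 D17232
theorem N11346 : nd 11346 = n17233 := ndS (p := 10756) (l := 4) rfl N10756 D17233
theorem N11347 : nd 11347 = n17234 := ndS (p := 10757) (l := 4) rfl N10757 D17234
theorem N11348 : nd 11348 = n17235 := ndS (p := 10758) (l := 5) rfl N10758 D17235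
theorem N11349 : nd 11349 = n17236 := ndS (p := 10759) (l := 4) rfl N10759 D17236
theorem N11350 : nd 11350 = n17237 := ndS (p := 10760) (l := 5) rfl N10760 D17237
theorem N11351 : nd 11351 = n17238 := ndS (p := 10761) (l := 6) rfl N10761 D17238
theorem N11352 : nd 11352 = n17239 := ndS (p := 10762) (l := 3) rfl N10762 D17239
theorem N11353 : nd 11353 = n17240 := ndS (p := 10763) (l := 4) rfl N10763 D17240
theorem N11354 : nd 11354 = n17241 := ndS (p := 10764) (l := 4) rfl N10764 D17241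
theorem N11355 : nd 11355 = n17242 := ndS (p := 10765) (l := 5) rfl N10765 D17242
theorem N11356 : nd 11356 = n17243 := ndS (p := 10766) (l := 3) rfl N10766 D17243
theorem N11357 : nd 11357 = n17244 := ndS (p := 10767) (l := 4) rfl N10767 D17244
theorem N11358 : nd 11358 = n17245 := ndS (p := 10768) (l := 4) rfl N10768 D17245
theorem N11359 : nd 11359 = n17246 := ndS (p := 10769) (l := 5) rfl N10769 D17246
theorem N11360 : nd 11360 = n17247 := ndS (p := 10770) (l := 3) rfl N10770 D17247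
theorem N11361 : nd 11361 = n17248 := ndS (p := 10770) (l := 5) rfl N10770 D17248
theorem N11362 : nd 11362 = n17249 := ndS (p := 10771) (l := 6) rfl N10771 D17249
theorem N11363 : nd 11363 = n17250 := ndS (p := 10772) (l := 3) rfl N10772 D17250
theorem N11364 : nd 11364 = n17251 := ndS (p := 10773) (l := 3) rfl N10773 D17251
theorem N11365 : nd 11365 = n17252 := ndS (p := 10774) (l := 4) rfl N10774 D17252
theorem N11366 : nd 11366 = n17253 := ndS (p := 10775) (l := 2) rfl N10775 D17253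
theorem N11367 : nd 11367 = n17254 := ndS (p := 10775) (l := 4) rfl N10775 D17254
theorem N11368 : nd 11368 = n17255 := ndS (p := 10776) (l := 1) rfl N10776 D17255
theorem N11369 : nd 11369 = n17256 := ndS (p := 10776) (l := 4) rfl N10776 D17256
theorem N11370 : nd 11370 = n17257 := ndS (p := 10777) (l := 5) rfl N10777 D17257
theorem N11371 : nd 11371 = n17258 := ndS (p := 10778) (l := 4) rfl N10778 D17258
theorem N11372 : nd 11372 = n17259 := ndS (p := 10779) (l := 4) rfl N10779 D17259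
theorem N11373 : nd 11373 = n17260 := ndS (p := 10780) (l := 5) rfl N10780 D17260
theorem N11374 : nd 11374 = n17261 := ndS (p := 10781) (l := 0) rfl N10781 D17261
theorem N11375 : nd 11375 = n17262 := ndS (p := 10781) (l := 4) rfl N10781 D17262
theorem N11376 : nd 11376 = n17263 := ndS (p := 10782) (l := 5) rfl N10782 D17263
theorem N11377 : nd 11377 = n17264 := ndS (p := 10783) (l := 6) rfl N10783 D17264
theorem N11378 : nd 11378 = n17265 := ndS (p := 10787) (l := 0) rfl N10787 D17265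
theorem N11379 : nd 11379 = n17266 := ndS (p := 10791) (l := 3) rfl N10791 D17266
theorem N11380 : nd 11380 = n17267 := ndS (p := 10792) (l := 7) rfl N10792 D17267
theorem N11381 : nd 11381 = n17268 := ndS (p := 10794) (l := 4) rfl N10794 D17268
theorem N11382 : nd 11382 = n17269 := ndS (p := 10795) (l := 4) rfl N10795 D17269
theorem N11383 : nd 11383 = n17270 := ndS (p := 10796) (l := 5) rfl N10796 D17270
theorem N11384 : nd 11384 = n17271 := ndS (p := 10797) (l := 3) rfl N10797 D17271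
theorem N11385 : nd 11385 = n17272 := ndS (p := 10798) (l := 4) rfl N10798 D17272
theorem N11386 : nd 11386 = n17273 := ndS (p := 10799) (l := 3) rfl N10799 D17273
theorem N11387 : nd 11387 = n17274 := ndS (p := 10800) (l := 4) rfl N10800 D17274
theorem N11388 : nd 11388 = n17275 := ndS (p := 10801) (l := 5) rfl N10801 D17275
theorem N11389 : nd 11389 = n17276 := ndS (p := 10802) (l := 3) rfl N10802 D17276
theorem N11390 : nd 11390 = n17277 := ndS (p := 10803) (l := 2) rfl N10803 D17277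
theorem N11391 : nd 11391 = n17278 := ndS (p := 10803) (l := 4) rfl N10803 D17278
theorem N11392 : nd 11392 = n17279 := ndS (p := 10804) (l := 3) rfl N10804 D17279
theorem N11393 : nd 11393 = n17280 := ndS (p := 10805) (l := 2) rfl N10805 D17280
theorem N11394 : nd 11394 = n17281 := ndS (p := 10805) (l := 4) rfl N10805 D17281
theorem N11395 : nd 11395 = n17282 := ndS (p := 10806) (l := 1) rfl N10806 D17282
theorem N11396 : nd 11396 = n17283 := ndS (p := 10806) (l := 4) rfl N10806 D17283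
theorem N11397 : nd 11397 = n17284 := ndS (p := 10807) (l := 5) rfl N10807 D17284
theorem N11398 : nd 11398 = n17285 := ndS (p := 10808) (l := 6) rfl N10808 D17285
theorem N11399 : nd 11399 = n17286 := ndS (p := 10809) (l := 4) rfl N10809 D17286
theorem N11400 : nd 11400 = n17287 := ndS (p := 10811) (l := 0) rfl N10811 D17287
theorem N11401 : nd 11401 = n17288 := ndS (p := 10812) (l := 5) rfl N10812 D17288
theorem N11402 : nd 11402 = n17289 := ndS (p := 10813) (l := 5) rfl N10813 D17289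
theorem N11403 : nd 11403 = n17290 := ndS (p := 10814) (l := 2) rfl N10814 D17290
theorem N11404 : nd 11404 = n17291 := ndS (p := 10814) (l := 4) rfl N10814 D17291
theorem N11405 : nd 11405 = n17292 := ndS (p := 10815) (l := 1) rfl N10815 D17292
theorem N11406 : nd 11406 = n17293 := ndS (p := 10815) (l := 4) rfl N10815 D17293
theorem N11407 : nd 11407 = n17294 := ndS (p := 10816) (l := 5) rfl N10816 D17294
theorem N11408 : nd 11408 = n17295 := ndS (p := 10817) (l := 6) rfl N10817 D17295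
theorem N11409 : nd 11409 = n17296 := ndS (p := 10819) (l := 5) rfl N10819 D17296
theorem N11410 : nd 11410 = n17297 := ndS (p := 10820) (l := 3) rfl N10820 D17297
theorem N11411 : nd 11411 = n17298 := ndS (p := 10821) (l := 3) rfl N10821 D17298
theorem N11412 : nd 11412 = n17299 := ndS (p := 10822) (l := 2) rfl N10822 D17299
theorem N11413 : nd 11413 = n17300 := ndS (p := 10822) (l := 4) rfl N10822 D17300
theorem N11414 : nd 11414 = n17301 := ndS (p := 10823) (l := 4) rfl N10823 D17301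
theorem N11415 : nd 11415 = n17302 := ndS (p := 10824) (l := 4) rfl N10824 D17302
theorem N11416 : nd 11416 = n17303 := ndS (p := 10825) (l := 5) rfl N10825 D17303
theorem N11417 : nd 11417 = n17304 := ndS (p := 10826) (l := 6) rfl N10826 D17304
theorem N11418 : nd 11418 = n17305 := ndS (p := 10827) (l := 3) rfl N10827 D17305
theorem N11419 : nd 11419 = n17306 := ndS (p := 10828) (l := 3) rfl N10828 D17306
theorem N11420 : nd 11420 = n17307 := ndS (p := 10829) (l := 3) rfl N10829 D17307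
theorem N11421 : nd 11421 = n17308 := ndS (p := 10830) (l := 2) rfl N10830 D17308
theorem N11422 : nd 11422 = n17309 := ndS (p := 10830) (l := 4) rfl N10830 D17309
theorem N11423 : nd 11423 = n17310 := ndS (p := 10831) (l := 2) rfl N10831 D17310
theorem N11424 : nd 11424 = n17311 := ndS (p := 10831) (l := 4) rfl N10831 D17311
theorem N11425 : nd 11425 = n17312 := ndS (p := 10832) (l := 1) rfl N10832 D17312
theorem N11426 : nd 11426 = n17313 := ndS (p := 10832) (l := 4) rfl N10832 D17313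
theorem N11427 : nd 11427 = n17314 := ndS (p := 10833) (l := 5) rfl N10833 D17314
theorem N11428 : nd 11428 = n17315 := ndS (p := 10834) (l := 4) rfl N10834 D17315
theorem N11429 : nd 11429 = n17316 := ndS (p := 10835) (l := 1) rfl N10835 D17316
theorem N11430 : nd 11430 = n17317 := ndS (p := 10835) (l := 4) rfl N10835 D17317
theorem N11431 : nd 11431 = n17318 := ndS (p := 10836) (l := 5) rfl N10836 D17318
theorem N11432 : nd 11432 = n17319 := ndS (p := 10837) (l := 0) rfl N10837 D17319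
theorem N11433 : nd 11433 = n17320 := ndS (p := 10837) (l := 4) rfl N10837 D17320
theorem N11434 : nd 11434 = n17321 := ndS (p := 10838) (l := 5) rfl N10838 D17321
theorem N11435 : nd 11435 = n17322 := ndS (p := 10839) (l := 6) rfl N10839 D17322
theorem N11436 : nd 11436 = n17323 := ndS (p := 10843) (l := 2) rfl N10843 D17323
theorem N11437 : nd 11437 = n17324 := ndS (p := 10843) (l := 4) rfl N10843 D17324
theorem N11438 : nd 11438 = n17325 := ndS (p := 10844) (l := 4) rfl N10844 D17325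
theorem N11439 : nd 11439 = n17326 := ndS (p := 10845) (l := 5) rfl N10845 D17326
theorem N11440 : nd 11440 = n17327 := ndS (p := 10846) (l := 6) rfl N10846 D17327
theorem N11441 : nd 11441 = n17328 := ndS (p := 10847) (l := 5) rfl N10847 D17328
theorem N11442 : nd 11442 = n17329 := ndS (p := 10848) (l := 2) rfl N10848 D17329
theorem N11443 : nd 11443 = n17330 := ndS (p := 10848) (l := 4) rfl N10848 D17330
theorem N11444 : nd 11444 = n17331 := ndS (p := 10849) (l := 1) rfl N10849 D17331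
theorem N11445 : nd 11445 = n17332 := ndS (p := 10849) (l := 4) rfl N10849 D17332
theorem N11446 : nd 11446 = n17333 := ndS (p := 10850) (l := 5) rfl N10850 D17333
theorem N11447 : nd 11447 = n17334 := ndS (p := 10851) (l := 6) rfl N10851 D17334
theorem N11448 : nd 11448 = n17335 := ndS (p := 10852) (l := 3) rfl N10852 D17335
theorem N11449 : nd 11449 = n17336 := ndS (p := 10853) (l := 2) rfl N10853 D17336
theorem N11450 : nd 11450 = n17337 := ndS (p := 10853) (l := 4) rfl N10853 D17337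
theorem N11451 : nd 11451 = n17338 := ndS (p := 10854) (l := 1) rfl N10854 D17338
theorem N11452 : nd 11452 = n17339 := ndS (p := 10854) (l := 4) rfl N10854 D17339
theorem N11453 : nd 11453 = n17340 := ndS (p := 10855) (l := 5) rfl N10855 D17340
theorem N11454 : nd 11454 = n17341 := ndS (p := 10856) (l := 4) rfl N10856 D17341
theorem N11455 : nd 11455 = n17342 := ndS (p := 10857) (l := 1) rfl N10857 D17342
theorem N11456 : nd 11456 = n17343 := ndS (p := 10857) (l := 4) rfl N10857 D17343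
theorem N11457 : nd 11457 = n17344 := ndS (p := 10858) (l := 5) rfl N10858 D17344
theorem N11458 : nd 11458 = n17345 := ndS (p := 10859) (l := 0) rfl N10859 D17345
theorem N11459 : nd 11459 = n17346 := ndS (p := 10859) (l := 4) rfl N10859 D17346
theorem N11460 : nd 11460 = n17347 := ndS (p := 10860) (l := 5) rfl N10860 D17347
theorem N11461 : nd 11461 = n17348 := ndS (p := 10861) (l := 6) rfl N10861 D17348
theorem N11462 : nd 11462 = n17349 := ndS (p := 10865) (l := 3) rfl N10865 D17349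
theorem N11463 : nd 11463 = n17350 := ndS (p := 10866) (l := 3) rfl N10866 D17350
theorem N11464 : nd 11464 = n17351 := ndS (p := 10867) (l := 2) rfl N10867 D17351
theorem N11465 : nd 11465 = n17352 := ndS (p := 10867) (l := 4) rfl N10867 D17352
theorem N11466 : nd 11466 = n17353 := ndS (p := 10868) (l := 4) rfl N10868 D17353
theorem N11467 : nd 11467 = n17354 := ndS (p := 10869) (l := 4) rfl N10869 D17354
theorem N11468 : nd 11468 = n17355 := ndS (p := 10870) (l := 5) rfl N10870 D17355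
theorem N11469 : nd 11469 = n17356 := ndS (p := 10871) (l := 6) rfl N10871 D17356
theorem N11470 : nd 11470 = n17357 := ndS (p := 10872) (l := 3) rfl N10872 D17357
theorem N11471 : nd 11471 = n17358 := ndS (p := 10873) (l := 3) rfl N10873 D17358
theorem N11472 : nd 11472 = n17359 := ndS (p := 10874) (l := 3) rfl N10874 D17359
theorem N11473 : nd 11473 = n17360 := ndS (p := 10875) (l := 2) rfl N10875 D17360
theorem N11474 : nd 11474 = n17361 := ndS (p := 10875) (l := 4) rfl N10875 D17361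
theorem N11475 : nd 11475 = n17362 := ndS (p := 10876) (l := 2) rfl N10876 D17362
theorem N11476 : nd 11476 = n17363 := ndS (p := 10876) (l := 4) rfl N10876 D17363
theorem N11477 : nd 11477 = n17364 := ndS (p := 10877) (l := 1) rfl N10877 D17364
theorem N11478 : nd 11478 = n17365 := ndS (p := 10877) (l := 4) rfl N10877 D17365
theorem N11479 : nd 11479 = n17366 := ndS (p := 10878) (l := 5) rfl N10878 D17366
theorem N11480 : nd 11480 = n17367 := ndS (p := 10879) (l := 2) rfl N10879 D17367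
theorem N11481 : nd 11481 = n17368 := ndS (p := 10879) (l := 4) rfl N10879 D17368
theorem N11482 : nd 11482 = n17369 := ndS (p := 10880) (l := 4) rfl N10880 D17369
theorem N11483 : nd 11483 = n17370 := ndS (p := 10881) (l := 5) rfl N10881 D17370
theorem N11484 : nd 11484 = n17371 := ndS (p := 10882) (l := 4) rfl N10882 D17371
theorem N11485 : nd 11485 = n17372 := ndS (p := 10883) (l := 5) rfl N10883 D17372
theorem N11486 : nd 11486 = n17373 := ndS (p := 10884) (l := 6) rfl N10884 D17373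
theorem N11487 : nd 11487 = n17374 := ndS (p := 10886) (l := 4) rfl N10886 D17374
theorem N11488 : nd 11488 = n17375 := ndS (p := 10887) (l := 4) rfl N10887 D17375
theorem N11489 : nd 11489 = n17376 := ndS (p := 10888) (l := 2) rfl N10888 D17376
theorem N11490 : nd 11490 = n17377 := ndS (p := 10888) (l := 4) rfl N10888 D17377
theorem N11491 : nd 11491 = n17378 := ndS (p := 10889) (l := 1) rfl N10889 D17378
theorem N11492 : nd 11492 = n17379 := ndS (p := 10889) (l := 4) rfl N10889 D17379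
theorem N11493 : nd 11493 = n17380 := ndS (p := 10890) (l := 5) rfl N10890 D17380
theorem N11494 : nd 11494 = n17381 := ndS (p := 10891) (l := 1) rfl N10891 D17381
theorem N11495 : nd 11495 = n17382 := ndS (p := 10891) (l := 4) rfl N10891 D17382
theorem N11496 : nd 11496 = n17383 := ndS (p := 10892) (l := 5) rfl N10892 D17383
theorem N11497 : nd 11497 = n17384 := ndS (p := 10893) (l := 0) rfl N10893 D17384
theorem N11498 : nd 11498 = n17385 := ndS (p := 10893) (l := 4) rfl N10893 D17385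
theorem N11499 : nd 11499 = n17386 := ndS (p := 10894) (l := 3) rfl N10894 D17386
theorem N11500 : nd 11500 = n17387 := ndS (p := 10894) (l := 5) rfl N10894 D17387
theorem N11501 : nd 11501 = n17388 := ndS (p := 10895) (l := 6) rfl N10895 D17388
theorem N11502 : nd 11502 = n17389 := ndS (p := 10896) (l := 5) rfl N10896 D17389
theorem N11503 : nd 11503 = n17390 := ndS (p := 10897) (l := 4) rfl N10897 D17390
theorem N11504 : nd 11504 = n17391 := ndS (p := 10898) (l := 5) rfl N10898 D17391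
theorem N11505 : nd 11505 = n17392 := ndS (p := 10899) (l := 6) rfl N10899 D17392
theorem N11506 : nd 11506 = n17393 := ndS (p := 10900) (l := 4) rfl N10900 D17393
theorem N11507 : nd 11507 = n17394 := ndS (p := 10901) (l := 5) rfl N10901 D17394
theorem N11508 : nd 11508 = n17395 := ndS (p := 10902) (l := 6) rfl N10902 D17395
theorem N11509 : nd 11509 = n17396 := ndS (p := 10904) (l := 1) rfl N10904 D17396
theorem N11510 : nd 11510 = n17397 := ndS (p := 10904) (l := 4) rfl N10904 D17397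
theorem N11511 : nd 11511 = n17398 := ndS (p := 10906) (l := 0) rfl N10906 D17398
theorem N11512 : nd 11512 = n17399 := ndS (p := 10910) (l := 1) rfl N10910 D17399
theorem N11513 : nd 11513 = n17400 := ndS (p := 10912) (l := 0) rfl N10912 D17400
theorem N11514 : nd 11514 = n17401 := ndS (p := 10912) (l := 4) rfl N10912 D17401
theorem N11515 : nd 11515 = n17402 := ndS (p := 10913) (l := 3) rfl N10913 D17402
theorem N11516 : nd 11516 = n17403 := ndS (p := 10914) (l := 4) rfl N10914 D17403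
theorem N11517 : nd 11517 = n17404 := ndS (p := 10915) (l := 3) rfl N10915 D17404
theorem N11518 : nd 11518 = n17405 := ndS (p := 10920) (l := 3) rfl N10920 D17405
theorem N11519 : nd 11519 = n17406 := ndS (p := 10922) (l := 5) rfl N10922 D17406
theorem N11520 : nd 11520 = n17407 := ndS (p := 10923) (l := 6) rfl N10923 D17407
theorem N11521 : nd 11521 = n17408 := ndS (p := 10924) (l := 4) rfl N10924 D17408
theorem N11522 : nd 11522 = n17409 := ndS (p := 10925) (l := 5) rfl N10925 D17409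
theorem N11523 : nd 11523 = n17410 := ndS (p := 10926) (l := 6) rfl N10926 D17410
theorem N11524 : nd 11524 = n17411 := ndS (p := 10927) (l := 4) rfl N10927 D17411
theorem N11525 : nd 11525 = n17412 := ndS (p := 10928) (l := 5) rfl N10928 D17412
theorem N11526 : nd 11526 = n17413 := ndS (p := 10929) (l := 5) rfl N10929 D17413
theorem N11527 : nd 11527 = n17414 := ndS (p := 10930) (l := 6) rfl N10930 D17414
theorem N11528 : nd 11528 = n17415 := ndS (p := 10931) (l := 5) rfl N10931 D17415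
theorem N11529 : nd 11529 = n17416 := ndS (p := 10932) (l := 6) rfl N10932 D17416
theorem N11530 : nd 11530 = n17417 := ndS (p := 10934) (l := 8) rfl N10934 D17417
theorem N11531 : nd 11531 = n17418 := ndS (p := 10935) (l := 4) rfl N10935 D17418
theorem N11532 : nd 11532 = n17419 := ndS (p := 10936) (l := 2) rfl N10936 D17419
theorem N11533 : nd 11533 = n17420 := ndS (p := 10936) (l := 4) rfl N10936 D17420
theorem N11534 : nd 11534 = n17421 := ndS (p := 10937) (l := 4) rfl N10937 D17421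
theorem N11535 : nd 11535 = n17422 := ndS (p := 10938) (l := 5) rfl N10938 D17422
theorem N11536 : nd 11536 = n17423 := ndS (p := 10939) (l := 3) rfl N10939 D17423
theorem N11537 : nd 11537 = n17424 := ndS (p := 10940) (l := 2) rfl N10940 D17424
theorem N11538 : nd 11538 = n17425 := ndS (p := 10940) (l := 4) rfl N10940 D17425
theorem N11539 : nd 11539 = n17426 := ndS (p := 10941) (l := 3) rfl N10941 D17426
theorem N11540 : nd 11540 = n17427 := ndS (p := 10942) (l := 2) rfl N10942 D17427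
theorem N11541 : nd 11541 = n17428 := ndS (p := 10942) (l := 4) rfl N10942 D17428
theorem N11542 : nd 11542 = n17429 := ndS (p := 10943) (l := 4) rfl N10943 D17429
theorem N11543 : nd 11543 = n17430 := ndS (p := 10944) (l := 5) rfl N10944 D17430
theorem N11544 : nd 11544 = n17431 := ndS (p := 10945) (l := 3) rfl N10945 D17431
theorem N11545 : nd 11545 = n17432 := ndS (p := 10946) (l := 4) rfl N10946 D17432
theorem N11546 : nd 11546 = n17433 := ndS (p := 10947) (l := 2) rfl N10947 D17433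
theorem N11547 : nd 11547 = n17434 := ndS (p := 10947) (l := 4) rfl N10947 D17434
theorem N11548 : nd 11548 = n17435 := ndS (p := 10948) (l := 1) rfl N10948 D17435
theorem N11549 : nd 11549 = n17436 := ndS (p := 10948) (l := 4) rfl N10948 D17436
theorem N11550 : nd 11550 = n17437 := ndS (p := 10949) (l := 5) rfl N10949 D17437
theorem N11551 : nd 11551 = n17438 := ndS (p := 10950) (l := 6) rfl N10950 D17438
theorem N11552 : nd 11552 = n17439 := ndS (p := 10951) (l := 1) rfl N10951 D17439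
theorem N11553 : nd 11553 = n17440 := ndS (p := 10951) (l := 4) rfl N10951 D17440
theorem N11554 : nd 11554 = n17441 := ndS (p := 10953) (l := 0) rfl N10953 D17441
theorem N11555 : nd 11555 = n17442 := ndS (p := 10954) (l := 5) rfl N10954 D17442
theorem N11556 : nd 11556 = n17443 := ndS (p := 10955) (l := 4) rfl N10955 D17443
theorem N11557 : nd 11557 = n17444 := ndS (p := 10956) (l := 5) rfl N10956 D17444
theorem N11558 : nd 11558 = n17445 := ndS (p := 10957) (l := 6) rfl N10957 D17445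
theorem N11559 : nd 11559 = n17446 := ndS (p := 10958) (l := 4) rfl N10958 D17446
theorem N11560 : nd 11560 = n17447 := ndS (p := 10959) (l := 5) rfl N10959 D17447
theorem N11561 : nd 11561 = n17448 := ndS (p := 10960) (l := 4) rfl N10960 D17448
theorem N11562 : nd 11562 = n17449 := ndS (p := 10961) (l := 5) rfl N10961 D17449
theorem N11563 : nd 11563 = n17450 := ndS (p := 10962) (l := 5) rfl N10962 D17450
theorem N11564 : nd 11564 = n17451 := ndS (p := 10963) (l := 6) rfl N10963 D17451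
theorem N11565 : nd 11565 = n17452 := ndS (p := 10964) (l := 3) rfl N10964 D17452
theorem N11566 : nd 11566 = n17453 := ndS (p := 10965) (l := 3) rfl N10965 D17453
theorem N11567 : nd 11567 = n17454 := ndS (p := 10966) (l := 4) rfl N10966 D17454
theorem N11568 : nd 11568 = n17455 := ndS (p := 10967) (l := 4) rfl N10967 D17455
theorem N11569 : nd 11569 = n17456 := ndS (p := 10968) (l := 5) rfl N10968 D17456
theorem N11570 : nd 11570 = n17457 := ndS (p := 10969) (l := 5) rfl N10969 D17457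
theorem N11571 : nd 11571 = n17458 := ndS (p := 10970) (l := 6) rfl N10970 D17458
theorem N11572 : nd 11572 = n17459 := ndS (p := 10972) (l := 2) rfl N10972 D17459
theorem N11573 : nd 11573 = n17460 := ndS (p := 10972) (l := 4) rfl N10972 D17460
theorem N11574 : nd 11574 = n17461 := ndS (p := 10973) (l := 4) rfl N10973 D17461
theorem N11575 : nd 11575 = n17462 := ndS (p := 10974) (l := 5) rfl N10974 D17462
theorem N11576 : nd 11576 = n17463 := ndS (p := 10975) (l := 6) rfl N10975 D17463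
theorem N11577 : nd 11577 = n17464 := ndS (p := 10976) (l := 2) rfl N10976 D17464
theorem N11578 : nd 11578 = n17465 := ndS (p := 10976) (l := 4) rfl N10976 D17465
theorem N11579 : nd 11579 = n17466 := ndS (p := 10977) (l := 4) rfl N10977 D17466
theorem N11580 : nd 11580 = n17467 := ndS (p := 10978) (l := 5) rfl N10978 D17467
theorem N11581 : nd 11581 = n17468 := ndS (p := 10979) (l := 3) rfl N10979 D17468
theorem N11582 : nd 11582 = n17469 := ndS (p := 10979) (l := 5) rfl N10979 D17469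
theorem N11583 : nd 11583 = n17470 := ndS (p := 10980) (l := 6) rfl N10980 D17470
theorem N11584 : nd 11584 = n17471 := ndS (p := 10981) (l := 4) rfl N10981 D17471
theorem N11585 : nd 11585 = n17472 := ndS (p := 10982) (l := 4) rfl N10982 D17472
theorem N11586 : nd 11586 = n17473 := ndS (p := 10983) (l := 5) rfl N10983 D17473
theorem N11587 : nd 11587 = n17474 := ndS (p := 10984) (l := 5) rfl N10984 D17474
theorem N11588 : nd 11588 = n17475 := ndS (p := 10985) (l := 6) rfl N10985 D17475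
theorem N11589 : nd 11589 = n17476 := ndS (p := 10987) (l := 3) rfl N10987 D17476
theorem N11590 : nd 11590 = n17477 := ndS (p := 10988) (l := 2) rfl N10988 D17477
theorem N11591 : nd 11591 = n17478 := ndS (p := 10988) (l := 4) rfl N10988 D17478
theorem N11592 : nd 11592 = n17479 := ndS (p := 10989) (l := 4) rfl N10989 D17479
theorem N11593 : nd 11593 = n17480 := ndS (p := 10990) (l := 5) rfl N10990 D17480
theorem N11594 : nd 11594 = n17481 := ndS (p := 10991) (l := 5) rfl N10991 D17481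
theorem N11595 : nd 11595 = n17482 := ndS (p := 10992) (l := 6) rfl N10992 D17482
theorem N11596 : nd 11596 = n17483 := ndS (p := 10993) (l := 3) rfl N10993 D17483
theorem N11597 : nd 11597 = n17484 := ndS (p := 10994) (l := 3) rfl N10994 D17484
theorem N11598 : nd 11598 = n17485 := ndS (p := 10995) (l := 2) rfl N10995 D17485
theorem N11599 : nd 11599 = n17486 := ndS (p := 10995) (l := 4) rfl N10995 D17486
theorem N11600 : nd 11600 = n17487 := ndS (p := 10996) (l := 2) rfl N10996 D17487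
theorem N11601 : nd 11601 = n17488 := ndS (p := 10996) (l := 4) rfl N10996 D17488
theorem N11602 : nd 11602 = n17489 := ndS (p := 10997) (l := 4) rfl N10997 D17489
theorem N11603 : nd 11603 = n17490 := ndS (p := 10998) (l := 5) rfl N10998 D17490
theorem N11604 : nd 11604 = n17491 := ndS (p := 10999) (l := 4) rfl N10999 D17491
theorem N11605 : nd 11605 = n17492 := ndS (p := 11000) (l := 5) rfl N11000 D17492
theorem N11606 : nd 11606 = n17493 := ndS (p := 11001) (l := 5) rfl N11001 D17493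
theorem N11607 : nd 11607 = n17494 := ndS (p := 11002) (l := 6) rfl N11002 D17494
theorem N11608 : nd 11608 = n17495 := ndS (p := 11003) (l := 5) rfl N11003 D17495
theorem N11609 : nd 11609 = n17496 := ndS (p := 11003) (l := 7) rfl N11003 D17496
theorem N11610 : nd 11610 = n17497 := ndS (p := 11004) (l := 6) rfl N11004 D17497
theorem N11611 : nd 11611 = n17498 := ndS (p := 11006) (l := 4) rfl N11006 D17498
theorem N11612 : nd 11612 = n17499 := ndS (p := 11007) (l := 4) rfl N11007 D17499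
theorem N11613 : nd 11613 = n17500 := ndS (p := 11008) (l := 4) rfl N11008 D17500
theorem N11614 : nd 11614 = n17501 := ndS (p := 11009) (l := 4) rfl N11009 D17501
theorem N11615 : nd 11615 = n17502 := ndS (p := 11010) (l := 5) rfl N11010 D17502
theorem N11616 : nd 11616 = n17503 := ndS (p := 11011) (l := 4) rfl N11011 D17503
theorem N11617 : nd 11617 = n17504 := ndS (p := 11012) (l := 5) rfl N11012 D17504
theorem N11618 : nd 11618 = n17505 := ndS (p := 11013) (l := 3) rfl N11013 D17505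
theorem N11619 : nd 11619 = n17506 := ndS (p := 11013) (l := 5) rfl N11013 D17506
theorem N11620 : nd 11620 = n17507 := ndS (p := 11014) (l := 6) rfl N11014 D17507
theorem N11621 : nd 11621 = n17508 := ndS (p := 11015) (l := 5) rfl N11015 D17508
theorem N11622 : nd 11622 = n17509 := ndS (p := 11016) (l := 5) rfl N11016 D17509
theorem N11623 : nd 11623 = n17510 := ndS (p := 11017) (l := 6) rfl N11017 D17510
theorem N11624 : nd 11624 = n17511 := ndS (p := 11018) (l := 6) rfl N11018 D17511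
theorem N11625 : nd 11625 = n17512 := ndS (p := 11021) (l := 3) rfl N11021 D17512
theorem N11626 : nd 11626 = n17513 := ndS (p := 11023) (l := 7) rfl N11023 D17513
theorem N11627 : nd 11627 = n17514 := ndS (p := 11024) (l := 8) rfl N11024 D17514
theorem N11628 : nd 11628 = n17515 := ndS (p := 11025) (l := 8) rfl N11025 D17515
theorem N11629 : nd 11629 = n17516 := ndS (p := 11027) (l := 5) rfl N11027 D17516
theorem N11630 : nd 11630 = n17517 := ndS (p := 11028) (l := 4) rfl N11028 D17517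
theorem N11631 : nd 11631 = n17518 := ndS (p := 11029) (l := 5) rfl N11029 D17518
theorem N11632 : nd 11632 = n17519 := ndS (p := 11030) (l := 6) rfl N11030 D17519
theorem N11633 : nd 11633 = n17520 := ndS (p := 11031) (l := 6) rfl N11031 D17520
theorem N11634 : nd 11634 = n17521 := ndS (p := 11034) (l := 2) rfl N11034 D17521
theorem N11635 : nd 11635 = n17522 := ndS (p := 11034) (l := 4) rfl N11034 D17522
theorem N11636 : nd 11636 = n17523 := ndS (p := 11035) (l := 2) rfl N11035 D17523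
theorem N11637 : nd 11637 = n17524 := ndS (p := 11035) (l := 4) rfl N11035 D17524
theorem N11638 : nd 11638 = n17525 := ndS (p := 11036) (l := 4) rfl N11036 D17525
theorem N11639 : nd 11639 = n17526 := ndS (p := 11037) (l := 5) rfl N11037 D17526
theorem N11640 : nd 11640 = n17527 := ndS (p := 11038) (l := 4) rfl N11038 D17527
theorem N11641 : nd 11641 = n17528 := ndS (p := 11039) (l := 5) rfl N11039 D17528
theorem N11642 : nd 11642 = n17529 := ndS (p := 11040) (l := 5) rfl N11040 D17529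
theorem N11643 : nd 11643 = n17530 := ndS (p := 11041) (l := 6) rfl N11041 D17530
theorem N11644 : nd 11644 = n17531 := ndS (p := 11043) (l := 4) rfl N11043 D17531
theorem N11645 : nd 11645 = n17532 := ndS (p := 11044) (l := 4) rfl N11044 D17532
theorem N11646 : nd 11646 = n17533 := ndS (p := 11045) (l := 5) rfl N11045 D17533
theorem N11647 : nd 11647 = n17534 := ndS (p := 11046) (l := 5) rfl N11046 D17534
theorem N11648 : nd 11648 = n17535 := ndS (p := 11047) (l := 6) rfl N11047 D17535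
theorem N11649 : nd 11649 = n17536 := ndS (p := 11048) (l := 6) rfl N11048 D17536
theorem N11650 : nd 11650 = n17537 := ndS (p := 11050) (l := 1) rfl N11050 D17537
theorem N11651 : nd 11651 = n17538 := ndS (p := 11050) (l := 4) rfl N11050 D17538
theorem N11652 : nd 11652 = n17539 := ndS (p := 11051) (l := 5) rfl N11051 D17539
theorem N11653 : nd 11653 = n17540 := ndS (p := 11052) (l := 6) rfl N11052 D17540
theorem N11654 : nd 11654 = n17541 := ndS (p := 11053) (l := 0) rfl N11053 D17541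
theorem N11655 : nd 11655 = n17542 := ndS (p := 11054) (l := 3) rfl N11054 D17542
theorem N11656 : nd 11656 = n17543 := ndS (p := 11055) (l := 4) rfl N11055 D17543
theorem N11657 : nd 11657 = n17544 := ndS (p := 11056) (l := 5) rfl N11056 D17544
theorem N11658 : nd 11658 = n17545 := ndS (p := 11057) (l := 3) rfl N11057 D17545
theorem N11659 : nd 11659 = n17546 := ndS (p := 11058) (l := 3) rfl N11058 D17546
theorem N11660 : nd 11660 = n17547 := ndS (p := 11059) (l := 2) rfl N11059 D17547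
theorem N11661 : nd 11661 = n17548 := ndS (p := 11059) (l := 4) rfl N11059 D17548
theorem N11662 : nd 11662 = n17549 := ndS (p := 11060) (l := 4) rfl N11060 D17549
theorem N11663 : nd 11663 = n17550 := ndS (p := 11061) (l := 1) rfl N11061 D17550
theorem N11664 : nd 11664 = n17551 := ndS (p := 11061) (l := 4) rfl N11061 D17551
theorem N11665 : nd 11665 = n17552 := ndS (p := 11062) (l := 5) rfl N11062 D17552
theorem N11666 : nd 11666 = n17553 := ndS (p := 11063) (l := 6) rfl N11063 D17553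
theorem N11667 : nd 11667 = n17554 := ndS (p := 11064) (l := 3) rfl N11064 D17554
theorem N11668 : nd 11668 = n17555 := ndS (p := 11065) (l := 3) rfl N11065 D17555
theorem N11669 : nd 11669 = n17556 := ndS (p := 11066) (l := 2) rfl N11066 D17556
theorem N11670 : nd 11670 = n17557 := ndS (p := 11066) (l := 4) rfl N11066 D17557
theorem N11671 : nd 11671 = n17558 := ndS (p := 11067) (l := 2) rfl N11067 D17558
theorem N11672 : nd 11672 = n17559 := ndS (p := 11067) (l := 4) rfl N11067 D17559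
theorem N11673 : nd 11673 = n17560 := ndS (p := 11068) (l := 1) rfl N11068 D17560
theorem N11674 : nd 11674 = n17561 := ndS (p := 11068) (l := 4) rfl N11068 D17561
theorem N11675 : nd 11675 = n17562 := ndS (p := 11069) (l := 5) rfl N11069 D17562
theorem N11676 : nd 11676 = n17563 := ndS (p := 11070) (l := 2) rfl N11070 D17563
theorem N11677 : nd 11677 = n17564 := ndS (p := 11070) (l := 4) rfl N11070 D17564
theorem N11678 : nd 11678 = n17565 := ndS (p := 11071) (l := 1) rfl N11071 D17565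
theorem N11679 : nd 11679 = n17566 := ndS (p := 11071) (l := 4) rfl N11071 D17566
theorem N11680 : nd 11680 = n17567 := ndS (p := 11072) (l := 5) rfl N11072 D17567
theorem N11681 : nd 11681 = n17568 := ndS (p := 11073) (l := 0) rfl N11073 D17568
theorem N11682 : nd 11682 = n17569 := ndS (p := 11073) (l := 4) rfl N11073 D17569
theorem N11683 : nd 11683 = n17570 := ndS (p := 11074) (l := 5) rfl N11074 D17570
theorem N11684 : nd 11684 = n17571 := ndS (p := 11075) (l := 6) rfl N11075 D17571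
theorem N11685 : nd 11685 = n17572 := ndS (p := 11078) (l := 0) rfl N11078 D17572
theorem N11686 : nd 11686 = n17573 := ndS (p := 11079) (l := 3) rfl N11079 D17573
theorem N11687 : nd 11687 = n17574 := ndS (p := 11082) (l := 3) rfl N11082 D17574
theorem N11688 : nd 11688 = n17575 := ndS (p := 11083) (l := 2) rfl N11083 D17575
theorem N11689 : nd 11689 = n17576 := ndS (p := 11083) (l := 4) rfl N11083 D17576
theorem N11690 : nd 11690 = n17577 := ndS (p := 11084) (l := 1) rfl N11084 D17577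
theorem N11691 : nd 11691 = n17578 := ndS (p := 11084) (l := 4) rfl N11084 D17578
theorem N11692 : nd 11692 = n17579 := ndS (p := 11085) (l := 5) rfl N11085 D17579
theorem N11693 : nd 11693 = n17580 := ndS (p := 11086) (l := 6) rfl N11086 D17580
theorem N11694 : nd 11694 = n17581 := ndS (p := 11087) (l := 3) rfl N11087 D17581
theorem N11695 : nd 11695 = n17582 := ndS (p := 11088) (l := 3) rfl N11088 D17582
theorem N11696 : nd 11696 = n17583 := ndS (p := 11089) (l := 2) rfl N11089 D17583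
theorem N11697 : nd 11697 = n17584 := ndS (p := 11089) (l := 4) rfl N11089 D17584
theorem N11698 : nd 11698 = n17585 := ndS (p := 11090) (l := 2) rfl N11090 D17585
theorem N11699 : nd 11699 = n17586 := ndS (p := 11090) (l := 4) rfl N11090 D17586
theorem N11700 : nd 11700 = n17587 := ndS (p := 11091) (l := 4) rfl N11091 D17587
theorem N11701 : nd 11701 = n17588 := ndS (p := 11092) (l := 5) rfl N11092 D17588
theorem N11702 : nd 11702 = n17589 := ndS (p := 11093) (l := 4) rfl N11093 D17589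
theorem N11703 : nd 11703 = n17590 := ndS (p := 11094) (l := 5) rfl N11094 D17590
theorem N11704 : nd 11704 = n17591 := ndS (p := 11095) (l := 5) rfl N11095 D17591
theorem N11705 : nd 11705 = n17592 := ndS (p := 11096) (l := 6) rfl N11096 D17592
theorem N11706 : nd 11706 = n17593 := ndS (p := 11098) (l := 2) rfl N11098 D17593
theorem N11707 : nd 11707 = n17594 := ndS (p := 11098) (l := 4) rfl N11098 D17594
theorem N11708 : nd 11708 = n17595 := ndS (p := 11099) (l := 4) rfl N11099 D17595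
theorem N11709 : nd 11709 = n17596 := ndS (p := 11100) (l := 4) rfl N11100 D17596
theorem N11710 : nd 11710 = n17597 := ndS (p := 11101) (l := 5) rfl N11101 D17597
theorem N11711 : nd 11711 = n17598 := ndS (p := 11102) (l := 5) rfl N11102 D17598
theorem N11712 : nd 11712 = n17599 := ndS (p := 11103) (l := 6) rfl N11103 D17599
theorem N11713 : nd 11713 = n17600 := ndS (p := 11104) (l := 5) rfl N11104 D17600
theorem N11714 : nd 11714 = n17601 := ndS (p := 11105) (l := 6) rfl N11105 D17601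
theorem N11715 : nd 11715 = n17602 := ndS (p := 11107) (l := 2) rfl N11107 D17602
theorem N11716 : nd 11716 = n17603 := ndS (p := 11107) (l := 4) rfl N11107 D17603
theorem N11717 : nd 11717 = n17604 := ndS (p := 11108) (l := 4) rfl N11108 D17604
theorem N11718 : nd 11718 = n17605 := ndS (p := 11109) (l := 4) rfl N11109 D17605
theorem N11719 : nd 11719 = n17606 := ndS (p := 11110) (l := 5) rfl N11110 D17606
theorem N11720 : nd 11720 = n17607 := ndS (p := 11111) (l := 5) rfl N11111 D17607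
theorem N11721 : nd 11721 = n17608 := ndS (p := 11112) (l := 6) rfl N11112 D17608
theorem N11722 : nd 11722 = n17609 := ndS (p := 11113) (l := 5) rfl N11113 D17609
theorem N11723 : nd 11723 = n17610 := ndS (p := 11114) (l := 6) rfl N11114 D17610
theorem N11724 : nd 11724 = n17611 := ndS (p := 11116) (l := 3) rfl N11116 D17611
theorem N11725 : nd 11725 = n17612 := ndS (p := 11117) (l := 3) rfl N11117 D17612
theorem N11726 : nd 11726 = n17613 := ndS (p := 11118) (l := 2) rfl N11118 D17613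
theorem N11727 : nd 11727 = n17614 := ndS (p := 11118) (l := 4) rfl N11118 D17614
theorem N11728 : nd 11728 = n17615 := ndS (p := 11119) (l := 2) rfl N11119 D17615
theorem N11729 : nd 11729 = n17616 := ndS (p := 11119) (l := 4) rfl N11119 D17616
theorem N11730 : nd 11730 = n17617 := ndS (p := 11120) (l := 1) rfl N11120 D17617
theorem N11731 : nd 11731 = n17618 := ndS (p := 11120) (l := 4) rfl N11120 D17618
theorem N11732 : nd 11732 = n17619 := ndS (p := 11121) (l := 5) rfl N11121 D17619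
theorem N11733 : nd 11733 = n17620 := ndS (p := 11122) (l := 4) rfl N11122 D17620
theorem N11734 : nd 11734 = n17621 := ndS (p := 11123) (l := 5) rfl N11123 D17621
theorem N11735 : nd 11735 = n17622 := ndS (p := 11124) (l := 4) rfl N11124 D17622
theorem N11736 : nd 11736 = n17623 := ndS (p := 11125) (l := 5) rfl N11125 D17623
theorem N11737 : nd 11737 = n17624 := ndS (p := 11126) (l := 6) rfl N11126 D17624
theorem N11738 : nd 11738 = n17625 := ndS (p := 11128) (l := 2) rfl N11128 D17625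
theorem N11739 : nd 11739 = n17626 := ndS (p := 11128) (l := 4) rfl N11128 D17626
theorem N11740 : nd 11740 = n17627 := ndS (p := 11129) (l := 4) rfl N11129 D17627
theorem N11741 : nd 11741 = n17628 := ndS (p := 11130) (l := 4) rfl N11130 D17628
theorem N11742 : nd 11742 = n17629 := ndS (p := 11131) (l := 4) rfl N11131 D17629
theorem N11743 : nd 11743 = n17630 := ndS (p := 11132) (l := 5) rfl N11132 D17630
theorem N11744 : nd 11744 = n17631 := ndS (p := 11133) (l := 4) rfl N11133 D17631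
theorem N11745 : nd 11745 = n17632 := ndS (p := 11134) (l := 5) rfl N11134 D17632
theorem N11746 : nd 11746 = n17633 := ndS (p := 11135) (l := 4) rfl N11135 D17633
theorem N11747 : nd 11747 = n17634 := ndS (p := 11136) (l := 3) rfl N11136 D17634
theorem N11748 : nd 11748 = n17635 := ndS (p := 11136) (l := 5) rfl N11136 D17635
theorem N11749 : nd 11749 = n17636 := ndS (p := 11137) (l := 6) rfl N11137 D17636
theorem N11750 : nd 11750 = n17637 := ndS (p := 11138) (l := 5) rfl N11138 D17637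
theorem N11751 : nd 11751 = n17638 := ndS (p := 11139) (l := 5) rfl N11139 D17638
theorem N11752 : nd 11752 = n17639 := ndS (p := 11140) (l := 6) rfl N11140 D17639
theorem N11753 : nd 11753 = n17640 := ndS (p := 11141) (l := 5) rfl N11141 D17640
theorem N11754 : nd 11754 = n17641 := ndS (p := 11142) (l := 6) rfl N11142 D17641
theorem N11755 : nd 11755 = n17642 := ndS (p := 11144) (l := 4) rfl N11144 D17642
theorem N11756 : nd 11756 = n17643 := ndS (p := 11145) (l := 5) rfl N11145 D17643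
theorem N11757 : nd 11757 = n17644 := ndS (p := 11146) (l := 5) rfl N11146 D17644
theorem N11758 : nd 11758 = n17645 := ndS (p := 11147) (l := 5) rfl N11147 D17645
theorem N11759 : nd 11759 = n17646 := ndS (p := 11148) (l := 5) rfl N11148 D17646
theorem N11760 : nd 11760 = n17647 := ndS (p := 11149) (l := 6) rfl N11149 D17647
theorem N11761 : nd 11761 = n17648 := ndS (p := 11150) (l := 5) rfl N11150 D17648
theorem N11762 : nd 11762 = n17649 := ndS (p := 11151) (l := 6) rfl N11151 D17649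
theorem N11763 : nd 11763 = n17650 := ndS (p := 11152) (l := 5) rfl N11152 D17650
theorem N11764 : nd 11764 = n17651 := ndS (p := 11153) (l := 5) rfl N11153 D17651
theorem N11765 : nd 11765 = n17652 := ndS (p := 11154) (l := 6) rfl N11154 D17652
theorem N11766 : nd 11766 = n17653 := ndS (p := 11156) (l := 6) rfl N11156 D17653
theorem N11767 : nd 11767 = n17654 := ndS (p := 11157) (l := 6) rfl N11157 D17654
theorem N11768 : nd 11768 = n17655 := ndS (p := 11159) (l := 6) rfl N11159 D17655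
theorem N11769 : nd 11769 = n17656 := ndS (p := 11164) (l := 0) rfl N11164 D17656
theorem N11770 : nd 11770 = n17657 := ndS (p := 11167) (l := 2) rfl N11167 D17657
theorem N11771 : nd 11771 = n17658 := ndS (p := 11170) (l := 1) rfl N11170 D17658
theorem N11772 : nd 11772 = n17659 := ndS (p := 11173) (l := 3) rfl N11173 D17659
theorem N11773 : nd 11773 = n17660 := ndS (p := 11174) (l := 3) rfl N11174 D17660
theorem N11774 : nd 11774 = n17661 := ndS (p := 11176) (l := 0) rfl N11176 D17661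
theorem N11775 : nd 11775 = n17662 := ndS (p := 11176) (l := 4) rfl N11176 D17662
theorem N11776 : nd 11776 = n17663 := ndS (p := 11180) (l := 2) rfl N11180 D17663
theorem N11777 : nd 11777 = n17664 := ndS (p := 11181) (l := 1) rfl N11181 D17664
theorem N11778 : nd 11778 = n17665 := ndS (p := 11182) (l := 1) rfl N11182 D17665
theorem N11779 : nd 11779 = n17666 := ndS (p := 11183) (l := 0) rfl N11183 D17666
theorem N11780 : nd 11780 = n17667 := ndS (p := 11188) (l := 2) rfl N11188 D17667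
theorem N11781 : nd 11781 = n17668 := ndS (p := 11188) (l := 4) rfl N11188 D17668
theorem N11782 : nd 11782 = n17669 := ndS (p := 11189) (l := 4) rfl N11189 D17669
theorem N11783 : nd 11783 = n17670 := ndS (p := 11190) (l := 5) rfl N11190 D17670
theorem N11784 : nd 11784 = n17671 := ndS (p := 11191) (l := 2) rfl N11191 D17671
theorem N11785 : nd 11785 = n17672 := ndS (p := 11191) (l := 4) rfl N11191 D17672
theorem N11786 : nd 11786 = n17673 := ndS (p := 11192) (l := 2) rfl N11192 D17673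
theorem N11787 : nd 11787 = n17674 := ndS (p := 11192) (l := 4) rfl N11192 D17674
theorem N11788 : nd 11788 = n17675 := ndS (p := 11193) (l := 1) rfl N11193 D17675
theorem N11789 : nd 11789 = n17676 := ndS (p := 11193) (l := 4) rfl N11193 D17676
theorem N11790 : nd 11790 = n17677 := ndS (p := 11194) (l := 5) rfl N11194 D17677
theorem N11791 : nd 11791 = n17678 := ndS (p := 11195) (l := 6) rfl N11195 D17678
theorem N11792 : nd 11792 = n17679 := ndS (p := 11196) (l := 1) rfl N11196 D17679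
theorem N11793 : nd 11793 = n17680 := ndS (p := 11196) (l := 4) rfl N11196 D17680
theorem N11794 : nd 11794 = n17681 := ndS (p := 11198) (l := 0) rfl N11198 D17681
theorem N11795 : nd 11795 = n17682 := ndS (p := 11199) (l := 3) rfl N11199 D17682
theorem N11796 : nd 11796 = n17683 := ndS (p := 11199) (l := 5) rfl N11199 D17683
theorem N11797 : nd 11797 = n17684 := ndS (p := 11200) (l := 6) rfl N11200 D17684
theorem N11798 : nd 11798 = n17685 := ndS (p := 11201) (l := 2) rfl N11201 D17685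
theorem N11799 : nd 11799 = n17686 := ndS (p := 11201) (l := 4) rfl N11201 D17686
theorem N11800 : nd 11800 = n17687 := ndS (p := 11202) (l := 1) rfl N11202 D17687
theorem N11801 : nd 11801 = n17688 := ndS (p := 11202) (l := 4) rfl N11202 D17688
theorem N11802 : nd 11802 = n17689 := ndS (p := 11203) (l := 5) rfl N11203 D17689
theorem N11803 : nd 11803 = n17690 := ndS (p := 11204) (l := 4) rfl N11204 D17690
theorem N11804 : nd 11804 = n17691 := ndS (p := 11205) (l := 5) rfl N11205 D17691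
theorem N11805 : nd 11805 = n17692 := ndS (p := 11206) (l := 6) rfl N11206 D17692
theorem N11806 : nd 11806 = n17693 := ndS (p := 11208) (l := 2) rfl N11208 D17693
theorem N11807 : nd 11807 = n17694 := ndS (p := 11208) (l := 4) rfl N11208 D17694
theorem N11808 : nd 11808 = n17695 := ndS (p := 11209) (l := 1) rfl N11209 D17695
theorem N11809 : nd 11809 = n17696 := ndS (p := 11209) (l := 4) rfl N11209 D17696
theorem N11810 : nd 11810 = n17697 := ndS (p := 11210) (l := 5) rfl N11210 D17697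
theorem N11811 : nd 11811 = n17698 := ndS (p := 11211) (l := 4) rfl N11211 D17698
theorem N11812 : nd 11812 = n17699 := ndS (p := 11212) (l := 3) rfl N11212 D17699
theorem N11813 : nd 11813 = n17700 := ndS (p := 11212) (l := 5) rfl N11212 D17700
theorem N11814 : nd 11814 = n17701 := ndS (p := 11213) (l := 6) rfl N11213 D17701
theorem N11815 : nd 11815 = n17702 := ndS (p := 11214) (l := 5) rfl N11214 D17702
theorem N11816 : nd 11816 = n17703 := ndS (p := 11214) (l := 7) rfl N11214 D17703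
theorem N11817 : nd 11817 = n17704 := ndS (p := 11215) (l := 6) rfl N11215 D17704
theorem N11818 : nd 11818 = n17705 := ndS (p := 11217) (l := 4) rfl N11217 D17705
theorem N11819 : nd 11819 = n17706 := ndS (p := 11218) (l := 2) rfl N11218 D17706
theorem N11820 : nd 11820 = n17707 := ndS (p := 11218) (l := 4) rfl N11218 D17707
theorem N11821 : nd 11821 = n17708 := ndS (p := 11219) (l := 4) rfl N11219 D17708
theorem N11822 : nd 11822 = n17709 := ndS (p := 11220) (l := 5) rfl N11220 D17709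
theorem N11823 : nd 11823 = n17710 := ndS (p := 11221) (l := 1) rfl N11221 D17710
theorem N11824 : nd 11824 = n17711 := ndS (p := 11221) (l := 4) rfl N11221 D17711
theorem N11825 : nd 11825 = n17712 := ndS (p := 11222) (l := 5) rfl N11222 D17712
theorem N11826 : nd 11826 = n17713 := ndS (p := 11223) (l := 0) rfl N11223 D17713
theorem N11827 : nd 11827 = n17714 := ndS (p := 11223) (l := 4) rfl N11223 D17714
theorem N11828 : nd 11828 = n17715 := ndS (p := 11224) (l := 3) rfl N11224 D17715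
theorem N11829 : nd 11829 = n17716 := ndS (p := 11224) (l := 5) rfl N11224 D17716
theorem N11830 : nd 11830 = n17717 := ndS (p := 11225) (l := 6) rfl N11225 D17717
theorem N11831 : nd 11831 = n17718 := ndS (p := 11226) (l := 5) rfl N11226 D17718
theorem N11832 : nd 11832 = n17719 := ndS (p := 11227) (l := 6) rfl N11227 D17719
theorem N11833 : nd 11833 = n17720 := ndS (p := 11228) (l := 4) rfl N11228 D17720
theorem N11834 : nd 11834 = n17721 := ndS (p := 11229) (l := 5) rfl N11229 D17721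
theorem N11835 : nd 11835 = n17722 := ndS (p := 11230) (l := 6) rfl N11230 D17722
theorem N11836 : nd 11836 = n17723 := ndS (p := 11233) (l := 0) rfl N11233 D17723
theorem N11837 : nd 11837 = n17724 := ndS (p := 11233) (l := 4) rfl N11233 D17724
theorem N11838 : nd 11838 = n17725 := ndS (p := 11234) (l := 3) rfl N11234 D17725
theorem N11839 : nd 11839 = n17726 := ndS (p := 11235) (l := 4) rfl N11235 D17726
theorem N11840 : nd 11840 = n17727 := ndS (p := 11236) (l := 3) rfl N11236 D17727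
theorem N11841 : nd 11841 = n17728 := ndS (p := 11239) (l := 7) rfl N11239 D17728
theorem N11842 : nd 11842 = n17729 := ndS (p := 11240) (l := 7) rfl N11240 D17729
theorem N11843 : nd 11843 = n17730 := ndS (p := 11241) (l := 8) rfl N11241 D17730
theorem N11844 : nd 11844 = n17731 := ndS (p := 11243) (l := 2) rfl N11243 D17731
theorem N11845 : nd 11845 = n17732 := ndS (p := 11243) (l := 4) rfl N11243 D17732
theorem N11846 : nd 11846 = n17733 := ndS (p := 11244) (l := 2) rfl N11244 D17733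
theorem N11847 : nd 11847 = n17734 := ndS (p := 11244) (l := 4) rfl N11244 D17734
theorem N11848 : nd 11848 = n17735 := ndS (p := 11245) (l := 1) rfl N11245 D17735
theorem N11849 : nd 11849 = n17736 := ndS (p := 11245) (l := 4) rfl N11245 D17736
theorem N11850 : nd 11850 = n17737 := ndS (p := 11246) (l := 5) rfl N11246 D17737
theorem N11851 : nd 11851 = n17738 := ndS (p := 11247) (l := 2) rfl N11247 D17738
theorem N11852 : nd 11852 = n17739 := ndS (p := 11247) (l := 4) rfl N11247 D17739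
theorem N11853 : nd 11853 = n17740 := ndS (p := 11248) (l := 1) rfl N11248 D17740
theorem N11854 : nd 11854 = n17741 := ndS (p := 11248) (l := 4) rfl N11248 D17741
theorem N11855 : nd 11855 = n17742 := ndS (p := 11249) (l := 5) rfl N11249 D17742
theorem N11856 : nd 11856 = n17743 := ndS (p := 11250) (l := 0) rfl N11250 D17743
theorem N11857 : nd 11857 = n17744 := ndS (p := 11250) (l := 4) rfl N11250 D17744
theorem N11858 : nd 11858 = n17745 := ndS (p := 11251) (l := 5) rfl N11251 D17745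
theorem N11859 : nd 11859 = n17746 := ndS (p := 11252) (l := 6) rfl N11252 D17746
theorem N11860 : nd 11860 = n17747 := ndS (p := 11255) (l := 0) rfl N11255 D17747
theorem N11861 : nd 11861 = n17748 := ndS (p := 11256) (l := 3) rfl N11256 D17748
theorem N11862 : nd 11862 = n17749 := ndS (p := 11258) (l := 2) rfl N11258 D17749
theorem N11863 : nd 11863 = n17750 := ndS (p := 11258) (l := 4) rfl N11258 D17750
theorem N11864 : nd 11864 = n17751 := ndS (p := 11259) (l := 2) rfl N11259 D17751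
theorem N11865 : nd 11865 = n17752 := ndS (p := 11259) (l := 4) rfl N11259 D17752
theorem N11866 : nd 11866 = n17753 := ndS (p := 11260) (l := 4) rfl N11260 D17753
theorem N11867 : nd 11867 = n17754 := ndS (p := 11261) (l := 5) rfl N11261 D17754
theorem N11868 : nd 11868 = n17755 := ndS (p := 11262) (l := 4) rfl N11262 D17755
theorem N11869 : nd 11869 = n17756 := ndS (p := 11263) (l := 5) rfl N11263 D17756
theorem N11870 : nd 11870 = n17757 := ndS (p := 11264) (l := 3) rfl N11264 D17757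
theorem N11871 : nd 11871 = n17758 := ndS (p := 11264) (l := 5) rfl N11264 D17758
theorem N11872 : nd 11872 = n17759 := ndS (p := 11265) (l := 6) rfl N11265 D17759
theorem N11873 : nd 11873 = n17760 := ndS (p := 11266) (l := 5) rfl N11266 D17760
theorem N11874 : nd 11874 = n17761 := ndS (p := 11267) (l := 6) rfl N11267 D17761
theorem N11875 : nd 11875 = n17762 := ndS (p := 11268) (l := 6) rfl N11268 D17762
theorem N11876 : nd 11876 = n17763 := ndS (p := 11270) (l := 4) rfl N11270 D17763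
theorem N11877 : nd 11877 = n17764 := ndS (p := 11271) (l := 5) rfl N11271 D17764
theorem N11878 : nd 11878 = n17765 := ndS (p := 11272) (l := 4) rfl N11272 D17765
theorem N11879 : nd 11879 = n17766 := ndS (p := 11273) (l := 5) rfl N11273 D17766
theorem N11880 : nd 11880 = n17767 := ndS (p := 11274) (l := 1) rfl N11274 D17767
theorem N11881 : nd 11881 = n17768 := ndS (p := 11274) (l := 4) rfl N11274 D17768
theorem N11882 : nd 11882 = n17769 := ndS (p := 11275) (l := 5) rfl N11275 D17769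
theorem N11883 : nd 11883 = n17770 := ndS (p := 11276) (l := 4) rfl N11276 D17770
theorem N11884 : nd 11884 = n17771 := ndS (p := 11277) (l := 3) rfl N11277 D17771
theorem N11885 : nd 11885 = n17772 := ndS (p := 11277) (l := 5) rfl N11277 D17772
theorem N11886 : nd 11886 = n17773 := ndS (p := 11278) (l := 6) rfl N11278 D17773
theorem N11887 : nd 11887 = n17774 := ndS (p := 11279) (l := 0) rfl N11279 D17774
theorem N11888 : nd 11888 = n17775 := ndS (p := 11279) (l := 4) rfl N11279 D17775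
theorem N11889 : nd 11889 = n17776 := ndS (p := 11280) (l := 3) rfl N11280 D17776
theorem N11890 : nd 11890 = n17777 := ndS (p := 11280) (l := 5) rfl N11280 D17777
theorem N11891 : nd 11891 = n17778 := ndS (p := 11281) (l := 6) rfl N11281 D17778
theorem N11892 : nd 11892 = n17779 := ndS (p := 11282) (l := 4) rfl N11282 D17779
theorem N11893 : nd 11893 = n17780 := ndS (p := 11283) (l := 3) rfl N11283 D17780
theorem N11894 : nd 11894 = n17781 := ndS (p := 11283) (l := 5) rfl N11283 D17781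
theorem N11895 : nd 11895 = n17782 := ndS (p := 11284) (l := 5) rfl N11284 D17782
theorem N11896 : nd 11896 = n17783 := ndS (p := 11285) (l := 6) rfl N11285 D17783
theorem N11897 : nd 11897 = n17784 := ndS (p := 11287) (l := 5) rfl N11287 D17784
theorem N11898 : nd 11898 = n17785 := ndS (p := 11288) (l := 6) rfl N11288 D17785
theorem N11899 : nd 11899 = n17786 := ndS (p := 11289) (l := 5) rfl N11289 D17786
theorem N11900 : nd 11900 = n17787 := ndS (p := 11290) (l := 5) rfl N11290 D17787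
theorem N11901 : nd 11901 = n17788 := ndS (p := 11290) (l := 7) rfl N11290 D17788
theorem N11902 : nd 11902 = n17789 := ndS (p := 11291) (l := 6) rfl N11291 D17789
theorem N11903 : nd 11903 = n17790 := ndS (p := 11293) (l := 5) rfl N11293 D17790
theorem N11904 : nd 11904 = n17791 := ndS (p := 11294) (l := 6) rfl N11294 D17791
theorem N11905 : nd 11905 = n17792 := ndS (p := 11298) (l := 3) rfl N11298 D17792
theorem N11906 : nd 11906 = n17793 := ndS (p := 11300) (l := 4) rfl N11300 D17793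
theorem N11907 : nd 11907 = n17794 := ndS (p := 11301) (l := 3) rfl N11301 D17794
theorem N11908 : nd 11908 = n17795 := ndS (p := 11302) (l := 7) rfl N11302 D17795
theorem N11909 : nd 11909 = n17796 := ndS (p := 11303) (l := 3) rfl N11303 D17796
theorem N11910 : nd 11910 = n17797 := ndS (p := 11307) (l := 2) rfl N11307 D17797
theorem N11911 : nd 11911 = n17798 := ndS (p := 11307) (l := 4) rfl N11307 D17798
theorem N11912 : nd 11912 = n17799 := ndS (p := 11308) (l := 2) rfl N11308 D17799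
theorem N11913 : nd 11913 = n17800 := ndS (p := 11308) (l := 4) rfl N11308 D17800
theorem N11914 : nd 11914 = n17801 := ndS (p := 11309) (l := 4) rfl N11309 D17801
theorem N11915 : nd 11915 = n17802 := ndS (p := 11310) (l := 5) rfl N11310 D17802
theorem N11916 : nd 11916 = n17803 := ndS (p := 11311) (l := 2) rfl N11311 D17803
theorem N11917 : nd 11917 = n17804 := ndS (p := 11311) (l := 4) rfl N11311 D17804
theorem N11918 : nd 11918 = n17805 := ndS (p := 11312) (l := 2) rfl N11312 D17805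
theorem N11919 : nd 11919 = n17806 := ndS (p := 11312) (l := 4) rfl N11312 D17806
theorem N11920 : nd 11920 = n17807 := ndS (p := 11313) (l := 1) rfl N11313 D17807
theorem N11921 : nd 11921 = n17808 := ndS (p := 11313) (l := 4) rfl N11313 D17808
theorem N11922 : nd 11922 = n17809 := ndS (p := 11314) (l := 5) rfl N11314 D17809
theorem N11923 : nd 11923 = n17810 := ndS (p := 11315) (l := 6) rfl N11315 D17810
theorem N11924 : nd 11924 = n17811 := ndS (p := 11316) (l := 1) rfl N11316 D17811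
theorem N11925 : nd 11925 = n17812 := ndS (p := 11316) (l := 4) rfl N11316 D17812
theorem N11926 : nd 11926 = n17813 := ndS (p := 11318) (l := 0) rfl N11318 D17813
theorem N11927 : nd 11927 = n17814 := ndS (p := 11319) (l := 5) rfl N11319 D17814
theorem N11928 : nd 11928 = n17815 := ndS (p := 11320) (l := 4) rfl N11320 D17815
theorem N11929 : nd 11929 = n17816 := ndS (p := 11321) (l := 5) rfl N11321 D17816
theorem N11930 : nd 11930 = n17817 := ndS (p := 11322) (l := 2) rfl N11322 D17817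
theorem N11931 : nd 11931 = n17818 := ndS (p := 11322) (l := 4) rfl N11322 D17818
theorem N11932 : nd 11932 = n17819 := ndS (p := 11323) (l := 4) rfl N11323 D17819
theorem N11933 : nd 11933 = n17820 := ndS (p := 11324) (l := 5) rfl N11324 D17820
theorem N11934 : nd 11934 = n17821 := ndS (p := 11325) (l := 6) rfl N11325 D17821
theorem N11935 : nd 11935 = n17822 := ndS (p := 11326) (l := 4) rfl N11326 D17822
theorem N11936 : nd 11936 = n17823 := ndS (p := 11327) (l := 5) rfl N11327 D17823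
theorem N11937 : nd 11937 = n17824 := ndS (p := 11328) (l := 4) rfl N11328 D17824
theorem N11938 : nd 11938 = n17825 := ndS (p := 11329) (l := 5) rfl N11329 D17825
theorem N11939 : nd 11939 = n17826 := ndS (p := 11330) (l := 3) rfl N11330 D17826
theorem N11940 : nd 11940 = n17827 := ndS (p := 11330) (l := 5) rfl N11330 D17827
theorem N11941 : nd 11941 = n17828 := ndS (p := 11331) (l := 6) rfl N11331 D17828
theorem N11942 : nd 11942 = n17829 := ndS (p := 11332) (l := 2) rfl N11332 D17829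
theorem N11943 : nd 11943 = n17830 := ndS (p := 11332) (l := 4) rfl N11332 D17830
theorem N11944 : nd 11944 = n17831 := ndS (p := 11333) (l := 2) rfl N11333 D17831
theorem N11945 : nd 11945 = n17832 := ndS (p := 11333) (l := 4) rfl N11333 D17832
theorem N11946 : nd 11946 = n17833 := ndS (p := 11334) (l := 1) rfl N11334 D17833
theorem N11947 : nd 11947 = n17834 := ndS (p := 11334) (l := 4) rfl N11334 D17834
theorem N11948 : nd 11948 = n17835 := ndS (p := 11335) (l := 5) rfl N11335 D17835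
theorem N11949 : nd 11949 = n17836 := ndS (p := 11336) (l := 4) rfl N11336 D17836
theorem N11950 : nd 11950 = n17837 := ndS (p := 11337) (l := 5) rfl N11337 D17837
theorem N11951 : nd 11951 = n17838 := ndS (p := 11338) (l := 4) rfl N11338 D17838
theorem N11952 : nd 11952 = n17839 := ndS (p := 11339) (l := 5) rfl N11339 D17839
theorem N11953 : nd 11953 = n17840 := ndS (p := 11340) (l := 6) rfl N11340 D17840
theorem N11954 : nd 11954 = n17841 := ndS (p := 11342) (l := 5) rfl N11342 D17841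
theorem N11955 : nd 11955 = n17842 := ndS (p := 11343) (l := 4) rfl N11343 D17842
theorem N11956 : nd 11956 = n17843 := ndS (p := 11344) (l := 5) rfl N11344 D17843
theorem N11957 : nd 11957 = n17844 := ndS (p := 11345) (l := 6) rfl N11345 D17844
theorem N11958 : nd 11958 = n17845 := ndS (p := 11346) (l := 5) rfl N11346 D17845
theorem N11959 : nd 11959 = n17846 := ndS (p := 11347) (l := 5) rfl N11347 D17846
theorem N11960 : nd 11960 = n17847 := ndS (p := 11348) (l := 6) rfl N11348 D17847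
theorem N11961 : nd 11961 = n17848 := ndS (p := 11349) (l := 5) rfl N11349 D17848
theorem N11962 : nd 11962 = n17849 := ndS (p := 11350) (l := 6) rfl N11350 D17849
theorem N11963 : nd 11963 = n17850 := ndS (p := 11352) (l := 4) rfl N11352 D17850
theorem N11964 : nd 11964 = n17851 := ndS (p := 11353) (l := 5) rfl N11353 D17851
theorem N11965 : nd 11965 = n17852 := ndS (p := 11354) (l := 5) rfl N11354 D17852
theorem N11966 : nd 11966 = n17853 := ndS (p := 11355) (l := 6) rfl N11355 D17853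
theorem N11967 : nd 11967 = n17854 := ndS (p := 11356) (l := 4) rfl N11356 D17854
theorem N11968 : nd 11968 = n17855 := ndS (p := 11357) (l := 5) rfl N11357 D17855
theorem N11969 : nd 11969 = n17856 := ndS (p := 11358) (l := 5) rfl N11358 D17856
theorem N11970 : nd 11970 = n17857 := ndS (p := 11359) (l := 6) rfl N11359 D17857
theorem N11971 : nd 11971 = n17858 := ndS (p := 11360) (l := 5) rfl N11360 D17858
theorem N11972 : nd 11972 = n17859 := ndS (p := 11360) (l := 7) rfl N11360 D17859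
theorem N11973 : nd 11973 = n17860 := ndS (p := 11361) (l := 6) rfl N11361 D17860
theorem N11974 : nd 11974 = n17861 := ndS (p := 11363) (l := 4) rfl N11363 D17861
theorem N11975 : nd 11975 = n17862 := ndS (p := 11364) (l := 4) rfl N11364 D17862
theorem N11976 : nd 11976 = n17863 := ndS (p := 11365) (l := 5) rfl N11365 D17863
theorem N11977 : nd 11977 = n17864 := ndS (p := 11366) (l := 4) rfl N11366 D17864
theorem N11978 : nd 11978 = n17865 := ndS (p := 11367) (l := 5) rfl N11367 D17865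
theorem N11979 : nd 11979 = n17866 := ndS (p := 11368) (l := 0) rfl N11368 D17866
theorem N11980 : nd 11980 = n17867 := ndS (p := 11368) (l := 4) rfl N11368 D17867
theorem N11981 : nd 11981 = n17868 := ndS (p := 11369) (l := 5) rfl N11369 D17868
theorem N11982 : nd 11982 = n17869 := ndS (p := 11370) (l := 6) rfl N11370 D17869
theorem N11983 : nd 11983 = n17870 := ndS (p := 11371) (l := 5) rfl N11371 D17870
theorem N11984 : nd 11984 = n17871 := ndS (p := 11372) (l := 5) rfl N11372 D17871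
theorem N11985 : nd 11985 = n17872 := ndS (p := 11373) (l := 6) rfl N11373 D17872
theorem N11986 : nd 11986 = n17873 := ndS (p := 11374) (l := 4) rfl N11374 D17873
theorem N11987 : nd 11987 = n17874 := ndS (p := 11375) (l := 5) rfl N11375 D17874
theorem N11988 : nd 11988 = n17875 := ndS (p := 11376) (l := 6) rfl N11376 D17875
theorem N11989 : nd 11989 = n17876 := ndS (p := 11379) (l := 7) rfl N11379 D17876
theorem N11990 : nd 11990 = n17877 := ndS (p := 11381) (l := 5) rfl N11381 D17877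
theorem N11991 : nd 11991 = n17878 := ndS (p := 11382) (l := 5) rfl N11382 D17878
theorem N11992 : nd 11992 = n17879 := ndS (p := 11383) (l := 6) rfl N11383 D17879
theorem N11993 : nd 11993 = n17880 := ndS (p := 11384) (l := 4) rfl N11384 D17880
theorem N11994 : nd 11994 = n17881 := ndS (p := 11385) (l := 5) rfl N11385 D17881
theorem N11995 : nd 11995 = n17882 := ndS (p := 11386) (l := 4) rfl N11386 D17882
theorem N11996 : nd 11996 = n17883 := ndS (p := 11387) (l := 5) rfl N11387 D17883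
theorem N11997 : nd 11997 = n17884 := ndS (p := 11388) (l := 6) rfl N11388 D17884
theorem N11998 : nd 11998 = n17885 := ndS (p := 11389) (l := 2) rfl N11389 D17885
theorem N11999 : nd 11999 = n17886 := ndS (p := 11389) (l := 4) rfl N11389 D17886
theorem N12000 : nd 12000 = n17887 := ndS (p := 11390) (l := 1) rfl N11390 D17887
theorem N12001 : nd 12001 = n17888 := ndS (p := 11390) (l := 4) rfl N11390 D17888
theorem N12002 : nd 12002 = n17889 := ndS (p := 11391) (l := 5) rfl N11391 D17889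
theorem N12003 : nd 12003 = n17890 := ndS (p := 11392) (l := 4) rfl N11392 D17890
theorem N12004 : nd 12004 = n17891 := ndS (p := 11393) (l := 4) rfl N11393 D17891
theorem N12005 : nd 12005 = n17892 := ndS (p := 11394) (l := 5) rfl N11394 D17892
theorem N12006 : nd 12006 = n17893 := ndS (p := 11395) (l := 0) rfl N11395 D17893
theorem N12007 : nd 12007 = n17894 := ndS (p := 11395) (l := 4) rfl N11395 D17894
theorem N12008 : nd 12008 = n17895 := ndS (p := 11396) (l := 5) rfl N11396 D17895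
theorem N12009 : nd 12009 = n17896 := ndS (p := 11397) (l := 6) rfl N11397 D17896
theorem N12010 : nd 12010 = n17897 := ndS (p := 11399) (l := 3) rfl N11399 D17897
theorem N12011 : nd 12011 = n17898 := ndS (p := 11401) (l := 6) rfl N11401 D17898
theorem N12012 : nd 12012 = n17899 := ndS (p := 11402) (l := 6) rfl N11402 D17899
theorem N12013 : nd 12013 = n17900 := ndS (p := 11403) (l := 1) rfl N11403 D17900
theorem N12014 : nd 12014 = n17901 := ndS (p := 11403) (l := 4) rfl N11403 D17901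
theorem N12015 : nd 12015 = n17902 := ndS (p := 11404) (l := 5) rfl N11404 D17902
theorem N12016 : nd 12016 = n17903 := ndS (p := 11405) (l := 4) rfl N11405 D17903
theorem N12017 : nd 12017 = n17904 := ndS (p := 11406) (l := 5) rfl N11406 D17904
theorem N12018 : nd 12018 = n17905 := ndS (p := 11407) (l := 6) rfl N11407 D17905
theorem N12019 : nd 12019 = n17906 := ndS (p := 11409) (l := 6) rfl N11409 D17906
theorem N12020 : nd 12020 = n17907 := ndS (p := 11410) (l := 4) rfl N11410 D17907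
theorem N12021 : nd 12021 = n17908 := ndS (p := 11411) (l := 2) rfl N11411 D17908
theorem N12022 : nd 12022 = n17909 := ndS (p := 11411) (l := 4) rfl N11411 D17909
theorem N12023 : nd 12023 = n17910 := ndS (p := 11412) (l := 4) rfl N11412 D17910
theorem N12024 : nd 12024 = n17911 := ndS (p := 11413) (l := 5) rfl N11413 D17911
theorem N12025 : nd 12025 = n17912 := ndS (p := 11414) (l := 5) rfl N11414 D17912
theorem N12026 : nd 12026 = n17913 := ndS (p := 11415) (l := 5) rfl N11415 D17913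
theorem N12027 : nd 12027 = n17914 := ndS (p := 11416) (l := 6) rfl N11416 D17914
theorem N12028 : nd 12028 = n17915 := ndS (p := 11418) (l := 2) rfl N11418 D17915
theorem N12029 : nd 12029 = n17916 := ndS (p := 11418) (l := 4) rfl N11418 D17916
theorem N12030 : nd 12030 = n17917 := ndS (p := 11419) (l := 4) rfl N11419 D17917
theorem N12031 : nd 12031 = n17918 := ndS (p := 11420) (l := 2) rfl N11420 D17918
theorem N12032 : nd 12032 = n17919 := ndS (p := 11420) (l := 4) rfl N11420 D17919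
theorem N12033 : nd 12033 = n17920 := ndS (p := 11421) (l := 1) rfl N11421 D17920
theorem N12034 : nd 12034 = n17921 := ndS (p := 11421) (l := 4) rfl N11421 D17921
theorem N12035 : nd 12035 = n17922 := ndS (p := 11422) (l := 5) rfl N11422 D17922
theorem N12036 : nd 12036 = n17923 := ndS (p := 11423) (l := 1) rfl N11423 D17923
theorem N12037 : nd 12037 = n17924 := ndS (p := 11423) (l := 4) rfl N11423 D17924
theorem N12038 : nd 12038 = n17925 := ndS (p := 11424) (l := 5) rfl N11424 D17925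
theorem N12039 : nd 12039 = n17926 := ndS (p := 11425) (l := 0) rfl N11425 D17926
theorem N12040 : nd 12040 = n17927 := ndS (p := 11425) (l := 4) rfl N11425 D17927
theorem N12041 : nd 12041 = n17928 := ndS (p := 11426) (l := 3) rfl N11426 D17928
theorem N12042 : nd 12042 = n17929 := ndS (p := 11426) (l := 5) rfl N11426 D17929
theorem N12043 : nd 12043 = n17930 := ndS (p := 11427) (l := 6) rfl N11427 D17930
theorem N12044 : nd 12044 = n17931 := ndS (p := 11428) (l := 5) rfl N11428 D17931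
theorem N12045 : nd 12045 = n17932 := ndS (p := 11429) (l := 4) rfl N11429 D17932
theorem N12046 : nd 12046 = n17933 := ndS (p := 11430) (l := 5) rfl N11430 D17933
theorem N12047 : nd 12047 = n17934 := ndS (p := 11431) (l := 6) rfl N11431 D17934
theorem N12048 : nd 12048 = n17935 := ndS (p := 11432) (l := 4) rfl N11432 D17935
theorem N12049 : nd 12049 = n17936 := ndS (p := 11433) (l := 5) rfl N11433 D17936
theorem N12050 : nd 12050 = n17937 := ndS (p := 11434) (l := 6) rfl N11434 D17937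
theorem N12051 : nd 12051 = n17938 := ndS (p := 11436) (l := 4) rfl N11436 D17938
theorem N12052 : nd 12052 = n17939 := ndS (p := 11437) (l := 5) rfl N11437 D17939
theorem N12053 : nd 12053 = n17940 := ndS (p := 11438) (l := 5) rfl N11438 D17940
theorem N12054 : nd 12054 = n17941 := ndS (p := 11439) (l := 6) rfl N11439 D17941
theorem N12055 : nd 12055 = n17942 := ndS (p := 11441) (l := 6) rfl N11441 D17942
theorem N12056 : nd 12056 = n17943 := ndS (p := 11442) (l := 1) rfl N11442 D17943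
theorem N12057 : nd 12057 = n17944 := ndS (p := 11442) (l := 4) rfl N11442 D17944
theorem N12058 : nd 12058 = n17945 := ndS (p := 11443) (l := 5) rfl N11443 D17945
theorem N12059 : nd 12059 = n17946 := ndS (p := 11444) (l := 4) rfl N11444 D17946
theorem N12060 : nd 12060 = n17947 := ndS (p := 11445) (l := 5) rfl N11445 D17947
theorem N12061 : nd 12061 = n17948 := ndS (p := 11446) (l := 6) rfl N11446 D17948
theorem N12062 : nd 12062 = n17949 := ndS (p := 11448) (l := 4) rfl N11448 D17949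
theorem N12063 : nd 12063 = n17950 := ndS (p := 11449) (l := 1) rfl N11449 D17950
theorem N12064 : nd 12064 = n17951 := ndS (p := 11449) (l := 4) rfl N11449 D17951
theorem N12065 : nd 12065 = n17952 := ndS (p := 11450) (l := 5) rfl N11450 D17952
theorem N12066 : nd 12066 = n17953 := ndS (p := 11451) (l := 0) rfl N11451 D17953
theorem N12067 : nd 12067 = n17954 := ndS (p := 11451) (l := 4) rfl N11451 D17954
theorem N12068 : nd 12068 = n17955 := ndS (p := 11452) (l := 5) rfl N11452 D17955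
theorem N12069 : nd 12069 = n17956 := ndS (p := 11453) (l := 6) rfl N11453 D17956
theorem N12070 : nd 12070 = n17957 := ndS (p := 11454) (l := 5) rfl N11454 D17957
theorem N12071 : nd 12071 = n17958 := ndS (p := 11455) (l := 4) rfl N11455 D17958
theorem N12072 : nd 12072 = n17959 := ndS (p := 11456) (l := 3) rfl N11456 D17959
theorem N12073 : nd 12073 = n17960 := ndS (p := 11456) (l := 5) rfl N11456 D17960
theorem N12074 : nd 12074 = n17961 := ndS (p := 11457) (l := 6) rfl N11457 D17961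
theorem N12075 : nd 12075 = n17962 := ndS (p := 11459) (l := 5) rfl N11459 D17962
theorem N12076 : nd 12076 = n17963 := ndS (p := 11460) (l := 6) rfl N11460 D17963
theorem N12077 : nd 12077 = n17964 := ndS (p := 11462) (l := 4) rfl N11462 D17964
theorem N12078 : nd 12078 = n17965 := ndS (p := 11463) (l := 2) rfl N11463 D17965
theorem N12079 : nd 12079 = n17966 := ndS (p := 11463) (l := 4) rfl N11463 D17966
theorem N12080 : nd 12080 = n17967 := ndS (p := 11464) (l := 4) rfl N11464 D17967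
theorem N12081 : nd 12081 = n17968 := ndS (p := 11465) (l := 5) rfl N11465 D17968
theorem N12082 : nd 12082 = n17969 := ndS (p := 11466) (l := 5) rfl N11466 D17969
theorem N12083 : nd 12083 = n17970 := ndS (p := 11467) (l := 5) rfl N11467 D17970
theorem N12084 : nd 12084 = n17971 := ndS (p := 11468) (l := 6) rfl N11468 D17971
theorem N12085 : nd 12085 = n17972 := ndS (p := 11470) (l := 2) rfl N11470 D17972
theorem N12086 : nd 12086 = n17973 := ndS (p := 11470) (l := 4) rfl N11470 D17973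
theorem N12087 : nd 12087 = n17974 := ndS (p := 11471) (l := 2) rfl N11471 D17974
theorem N12088 : nd 12088 = n17975 := ndS (p := 11471) (l := 4) rfl N11471 D17975
theorem N12089 : nd 12089 = n17976 := ndS (p := 11472) (l := 2) rfl N11472 D17976
theorem N12090 : nd 12090 = n17977 := ndS (p := 11472) (l := 4) rfl N11472 D17977
theorem N12091 : nd 12091 = n17978 := ndS (p := 11473) (l := 4) rfl N11473 D17978
theorem N12092 : nd 12092 = n17979 := ndS (p := 11474) (l := 5) rfl N11474 D17979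
theorem N12093 : nd 12093 = n17980 := ndS (p := 11475) (l := 1) rfl N11475 D17980
theorem N12094 : nd 12094 = n17981 := ndS (p := 11475) (l := 4) rfl N11475 D17981
theorem N12095 : nd 12095 = n17982 := ndS (p := 11476) (l := 5) rfl N11476 D17982
theorem N12096 : nd 12096 = n17983 := ndS (p := 11477) (l := 4) rfl N11477 D17983
theorem N12097 : nd 12097 = n17984 := ndS (p := 11478) (l := 3) rfl N11478 D17984
theorem N12098 : nd 12098 = n17985 := ndS (p := 11478) (l := 5) rfl N11478 D17985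
theorem N12099 : nd 12099 = n17986 := ndS (p := 11479) (l := 6) rfl N11479 D17986
theorem N12100 : nd 12100 = n17987 := ndS (p := 11480) (l := 4) rfl N11480 D17987
theorem N12101 : nd 12101 = n17988 := ndS (p := 11481) (l := 5) rfl N11481 D17988
theorem N12102 : nd 12102 = n17989 := ndS (p := 11482) (l := 3) rfl N11482 D17989
theorem N12103 : nd 12103 = n17990 := ndS (p := 11482) (l := 5) rfl N11482 D17990
theorem N12104 : nd 12104 = n17991 := ndS (p := 11483) (l := 6) rfl N11483 D17991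
theorem N12105 : nd 12105 = n17992 := ndS (p := 11484) (l := 5) rfl N11484 D17992
theorem N12106 : nd 12106 = n17993 := ndS (p := 11485) (l := 6) rfl N11485 D17993
theorem N12107 : nd 12107 = n17994 := ndS (p := 11487) (l := 5) rfl N11487 D17994
theorem N12108 : nd 12108 = n17995 := ndS (p := 11488) (l := 5) rfl N11488 D17995
theorem N12109 : nd 12109 = n17996 := ndS (p := 11489) (l := 1) rfl N11489 D17996
theorem N12110 : nd 12110 = n17997 := ndS (p := 11489) (l := 4) rfl N11489 D17997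
theorem N12111 : nd 12111 = n17998 := ndS (p := 11490) (l := 5) rfl N11490 D17998
theorem N12112 : nd 12112 = n17999 := ndS (p := 11491) (l := 4) rfl N11491 D17999
theorem N12113 : nd 12113 = n18000 := ndS (p := 11492) (l := 5) rfl N11492 D18000
theorem N12114 : nd 12114 = n18001 := ndS (p := 11493) (l := 6) rfl N11493 D18001
theorem N12115 : nd 12115 = n18002 := ndS (p := 11494) (l := 0) rfl N11494 D18002
theorem N12116 : nd 12116 = n18003 := ndS (p := 11494) (l := 4) rfl N11494 D18003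
theorem N12117 : nd 12117 = n18004 := ndS (p := 11495) (l := 3) rfl N11495 D18004
theorem N12118 : nd 12118 = n18005 := ndS (p := 11495) (l := 5) rfl N11495 D18005
theorem N12119 : nd 12119 = n18006 := ndS (p := 11496) (l := 6) rfl N11496 D18006
theorem N12120 : nd 12120 = n18007 := ndS (p := 11497) (l := 4) rfl N11497 D18007
theorem N12121 : nd 12121 = n18008 := ndS (p := 11498) (l := 3) rfl N11498 D18008
theorem N12122 : nd 12122 = n18009 := ndS (p := 11498) (l := 5) rfl N11498 D18009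
theorem N12123 : nd 12123 = n18010 := ndS (p := 11499) (l := 5) rfl N11499 D18010
theorem N12124 : nd 12124 = n18011 := ndS (p := 11500) (l := 6) rfl N11500 D18011
theorem N12125 : nd 12125 = n18012 := ndS (p := 11502) (l := 6) rfl N11502 D18012
theorem N12126 : nd 12126 = n18013 := ndS (p := 11503) (l := 5) rfl N11503 D18013
theorem N12127 : nd 12127 = n18014 := ndS (p := 11504) (l := 6) rfl N11504 D18014
theorem N12128 : nd 12128 = n18015 := ndS (p := 11506) (l := 5) rfl N11506 D18015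
theorem N12129 : nd 12129 = n18016 := ndS (p := 11507) (l := 6) rfl N11507 D18016
theorem N12130 : nd 12130 = n18017 := ndS (p := 11510) (l := 3) rfl N11510 D18017
theorem N12131 : nd 12131 = n18018 := ndS (p := 11513) (l := 4) rfl N11513 D18018
theorem N12132 : nd 12132 = n18019 := ndS (p := 11514) (l := 3) rfl N11514 D18019
theorem N12133 : nd 12133 = n18020 := ndS (p := 11515) (l := 7) rfl N11515 D18020
theorem N12134 : nd 12134 = n18021 := ndS (p := 11516) (l := 3) rfl N11516 D18021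
theorem N12135 : nd 12135 = n18022 := ndS (p := 11517) (l := 2) rfl N11517 D18022
theorem N12136 : nd 12136 = n18023 := ndS (p := 11518) (l := 7) rfl N11518 D18023
theorem N12137 : nd 12137 = n18024 := ndS (p := 11519) (l := 6) rfl N11519 D18024
theorem N12138 : nd 12138 = n18025 := ndS (p := 11521) (l := 5) rfl N11521 D18025
theorem N12139 : nd 12139 = n18026 := ndS (p := 11522) (l := 6) rfl N11522 D18026
theorem N12140 : nd 12140 = n18027 := ndS (p := 11524) (l := 5) rfl N11524 D18027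
theorem N12141 : nd 12141 = n18028 := ndS (p := 11525) (l := 6) rfl N11525 D18028
theorem N12142 : nd 12142 = n18029 := ndS (p := 11526) (l := 6) rfl N11526 D18029
theorem N12143 : nd 12143 = n18030 := ndS (p := 11528) (l := 6) rfl N11528 D18030
theorem N12144 : nd 12144 = n18031 := ndS (p := 11531) (l := 5) rfl N11531 D18031
theorem N12145 : nd 12145 = n18032 := ndS (p := 11532) (l := 4) rfl N11532 D18032
theorem N12146 : nd 12146 = n18033 := ndS (p := 11533) (l := 5) rfl N11533 D18033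
theorem N12147 : nd 12147 = n18034 := ndS (p := 11534) (l := 5) rfl N11534 D18034
theorem N12148 : nd 12148 = n18035 := ndS (p := 11535) (l := 6) rfl N11535 D18035
theorem N12149 : nd 12149 = n18036 := ndS (p := 11536) (l := 2) rfl N11536 D18036
theorem N12150 : nd 12150 = n18037 := ndS (p := 11536) (l := 4) rfl N11536 D18037
theorem N12151 : nd 12151 = n18038 := ndS (p := 11537) (l := 4) rfl N11537 D18038
theorem N12152 : nd 12152 = n18039 := ndS (p := 11538) (l := 5) rfl N11538 D18039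
theorem N12153 : nd 12153 = n18040 := ndS (p := 11539) (l := 2) rfl N11539 D18040
theorem N12154 : nd 12154 = n18041 := ndS (p := 11539) (l := 4) rfl N11539 D18041
theorem N12155 : nd 12155 = n18042 := ndS (p := 11540) (l := 1) rfl N11540 D18042
theorem N12156 : nd 12156 = n18043 := ndS (p := 11540) (l := 4) rfl N11540 D18043
theorem N12157 : nd 12157 = n18044 := ndS (p := 11541) (l := 5) rfl N11541 D18044
theorem N12158 : nd 12158 = n18045 := ndS (p := 11542) (l := 3) rfl N11542 D18045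
theorem N12159 : nd 12159 = n18046 := ndS (p := 11542) (l := 5) rfl N11542 D18046
theorem N12160 : nd 12160 = n18047 := ndS (p := 11543) (l := 6) rfl N11543 D18047
theorem N12161 : nd 12161 = n18048 := ndS (p := 11544) (l := 4) rfl N11544 D18048
theorem N12162 : nd 12162 = n18049 := ndS (p := 11545) (l := 5) rfl N11545 D18049
theorem N12163 : nd 12163 = n18050 := ndS (p := 11546) (l := 1) rfl N11546 D18050
theorem N12164 : nd 12164 = n18051 := ndS (p := 11546) (l := 4) rfl N11546 D18051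
theorem N12165 : nd 12165 = n18052 := ndS (p := 11547) (l := 5) rfl N11547 D18052
theorem N12166 : nd 12166 = n18053 := ndS (p := 11548) (l := 0) rfl N11548 D18053
theorem N12167 : nd 12167 = n18054 := ndS (p := 11548) (l := 4) rfl N11548 D18054
theorem N12168 : nd 12168 = n18055 := ndS (p := 11549) (l := 5) rfl N11549 D18055
theorem N12169 : nd 12169 = n18056 := ndS (p := 11550) (l := 6) rfl N11550 D18056
theorem N12170 : nd 12170 = n18057 := ndS (p := 11552) (l := 0) rfl N11552 D18057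
theorem N12171 : nd 12171 = n18058 := ndS (p := 11552) (l := 4) rfl N11552 D18058
theorem N12172 : nd 12172 = n18059 := ndS (p := 11553) (l := 3) rfl N11553 D18059
theorem N12173 : nd 12173 = n18060 := ndS (p := 11555) (l := 6) rfl N11555 D18060
theorem N12174 : nd 12174 = n18061 := ndS (p := 11556) (l := 5) rfl N11556 D18061
theorem N12175 : nd 12175 = n18062 := ndS (p := 11557) (l := 6) rfl N11557 D18062
theorem N12176 : nd 12176 = n18063 := ndS (p := 11559) (l := 5) rfl N11559 D18063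
theorem N12177 : nd 12177 = n18064 := ndS (p := 11560) (l := 6) rfl N11560 D18064
theorem N12178 : nd 12178 = n18065 := ndS (p := 11561) (l := 5) rfl N11561 D18065
theorem N12179 : nd 12179 = n18066 := ndS (p := 11562) (l := 6) rfl N11562 D18066
theorem N12180 : nd 12180 = n18067 := ndS (p := 11563) (l := 6) rfl N11563 D18067
theorem N12181 : nd 12181 = n18068 := ndS (p := 11565) (l := 4) rfl N11565 D18068
theorem N12182 : nd 12182 = n18069 := ndS (p := 11566) (l := 4) rfl N11566 D18069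
theorem N12183 : nd 12183 = n18070 := ndS (p := 11567) (l := 5) rfl N11567 D18070
theorem N12184 : nd 12184 = n18071 := ndS (p := 11568) (l := 5) rfl N11568 D18071
theorem N12185 : nd 12185 = n18072 := ndS (p := 11569) (l := 6) rfl N11569 D18072
theorem N12186 : nd 12186 = n18073 := ndS (p := 11570) (l := 6) rfl N11570 D18073
theorem N12187 : nd 12187 = n18074 := ndS (p := 11572) (l := 4) rfl N11572 D18074
theorem N12188 : nd 12188 = n18075 := ndS (p := 11573) (l := 5) rfl N11573 D18075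
theorem N12189 : nd 12189 = n18076 := ndS (p := 11574) (l := 5) rfl N11574 D18076
theorem N12190 : nd 12190 = n18077 := ndS (p := 11575) (l := 6) rfl N11575 D18077
theorem N12191 : nd 12191 = n18078 := ndS (p := 11577) (l := 4) rfl N11577 D18078
theorem N12192 : nd 12192 = n18079 := ndS (p := 11578) (l := 5) rfl N11578 D18079
theorem N12193 : nd 12193 = n18080 := ndS (p := 11579) (l := 5) rfl N11579 D18080
theorem N12194 : nd 12194 = n18081 := ndS (p := 11580) (l := 6) rfl N11580 D18081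
theorem N12195 : nd 12195 = n18082 := ndS (p := 11581) (l := 5) rfl N11581 D18082
theorem N12196 : nd 12196 = n18083 := ndS (p := 11581) (l := 7) rfl N11581 D18083
theorem N12197 : nd 12197 = n18084 := ndS (p := 11582) (l := 6) rfl N11582 D18084
theorem N12198 : nd 12198 = n18085 := ndS (p := 11584) (l := 5) rfl N11584 D18085
theorem N12199 : nd 12199 = n18086 := ndS (p := 11585) (l := 5) rfl N11585 D18086
theorem N12200 : nd 12200 = n18087 := ndS (p := 11586) (l := 6) rfl N11586 D18087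
theorem N12201 : nd 12201 = n18088 := ndS (p := 11587) (l := 6) rfl N11587 D18088
theorem N12202 : nd 12202 = n18089 := ndS (p := 11589) (l := 2) rfl N11589 D18089
theorem N12203 : nd 12203 = n18090 := ndS (p := 11589) (l := 4) rfl N11589 D18090
theorem N12204 : nd 12204 = n18091 := ndS (p := 11590) (l := 4) rfl N11590 D18091
theorem N12205 : nd 12205 = n18092 := ndS (p := 11591) (l := 5) rfl N11591 D18092
theorem N12206 : nd 12206 = n18093 := ndS (p := 11592) (l := 5) rfl N11592 D18093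
theorem N12207 : nd 12207 = n18094 := ndS (p := 11593) (l := 6) rfl N11593 D18094
theorem N12208 : nd 12208 = n18095 := ndS (p := 11594) (l := 6) rfl N11594 D18095
theorem N12209 : nd 12209 = n18096 := ndS (p := 11596) (l := 2) rfl N11596 D18096
theorem N12210 : nd 12210 = n18097 := ndS (p := 11596) (l := 4) rfl N11596 D18097
theorem N12211 : nd 12211 = n18098 := ndS (p := 11597) (l := 2) rfl N11597 D18098
theorem N12212 : nd 12212 = n18099 := ndS (p := 11597) (l := 4) rfl N11597 D18099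
theorem N12213 : nd 12213 = n18100 := ndS (p := 11598) (l := 4) rfl N11598 D18100
theorem N12214 : nd 12214 = n18101 := ndS (p := 11599) (l := 5) rfl N11599 D18101
theorem N12215 : nd 12215 = n18102 := ndS (p := 11600) (l := 4) rfl N11600 D18102
theorem N12216 : nd 12216 = n18103 := ndS (p := 11601) (l := 5) rfl N11601 D18103
theorem N12217 : nd 12217 = n18104 := ndS (p := 11602) (l := 3) rfl N11602 D18104
theorem N12218 : nd 12218 = n18105 := ndS (p := 11602) (l := 5) rfl N11602 D18105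
theorem N12219 : nd 12219 = n18106 := ndS (p := 11603) (l := 6) rfl N11603 D18106
theorem N12220 : nd 12220 = n18107 := ndS (p := 11604) (l := 5) rfl N11604 D18107
theorem N12221 : nd 12221 = n18108 := ndS (p := 11605) (l := 6) rfl N11605 D18108
theorem N12222 : nd 12222 = n18109 := ndS (p := 11606) (l := 6) rfl N11606 D18109
theorem N12223 : nd 12223 = n18110 := ndS (p := 11608) (l := 6) rfl N11608 D18110
theorem N12224 : nd 12224 = n18111 := ndS (p := 11608) (l := 7) rfl N11608 D18111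
theorem N12225 : nd 12225 = n18112 := ndS (p := 11609) (l := 8) rfl N11609 D18112
theorem N12226 : nd 12226 = n18113 := ndS (p := 11611) (l := 5) rfl N11611 D18113
theorem N12227 : nd 12227 = n18114 := ndS (p := 11612) (l := 5) rfl N11612 D18114
theorem N12228 : nd 12228 = n18115 := ndS (p := 11613) (l := 5) rfl N11613 D18115
theorem N12229 : nd 12229 = n18116 := ndS (p := 11614) (l := 5) rfl N11614 D18116
theorem N12230 : nd 12230 = n18117 := ndS (p := 11615) (l := 6) rfl N11615 D18117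
theorem N12231 : nd 12231 = n18118 := ndS (p := 11616) (l := 3) rfl N11616 D18118
theorem N12232 : nd 12232 = n18119 := ndS (p := 11616) (l := 5) rfl N11616 D18119
theorem N12233 : nd 12233 = n18120 := ndS (p := 11617) (l := 6) rfl N11617 D18120
theorem N12234 : nd 12234 = n18121 := ndS (p := 11618) (l := 5) rfl N11618 D18121
theorem N12235 : nd 12235 = n18122 := ndS (p := 11619) (l := 6) rfl N11619 D18122
theorem N12236 : nd 12236 = n18123 := ndS (p := 11621) (l := 6) rfl N11621 D18123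
theorem N12237 : nd 12237 = n18124 := ndS (p := 11622) (l := 6) rfl N11622 D18124
theorem N12238 : nd 12238 = n18125 := ndS (p := 11626) (l := 8) rfl N11626 D18125
theorem N12239 : nd 12239 = n18126 := ndS (p := 11629) (l := 6) rfl N11629 D18126
theorem N12240 : nd 12240 = n18127 := ndS (p := 11630) (l := 5) rfl N11630 D18127
theorem N12241 : nd 12241 = n18128 := ndS (p := 11631) (l := 6) rfl N11631 D18128
theorem N12242 : nd 12242 = n18129 := ndS (p := 11634) (l := 4) rfl N11634 D18129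
theorem N12243 : nd 12243 = n18130 := ndS (p := 11635) (l := 5) rfl N11635 D18130
theorem N12244 : nd 12244 = n18131 := ndS (p := 11636) (l := 4) rfl N11636 D18131
theorem N12245 : nd 12245 = n18132 := ndS (p := 11637) (l := 5) rfl N11637 D18132
theorem N12246 : nd 12246 = n18133 := ndS (p := 11638) (l := 3) rfl N11638 D18133
theorem N12247 : nd 12247 = n18134 := ndS (p := 11638) (l := 5) rfl N11638 D18134
theorem N12248 : nd 12248 = n18135 := ndS (p := 11639) (l := 6) rfl N11639 D18135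
theorem N12249 : nd 12249 = n18136 := ndS (p := 11640) (l := 5) rfl N11640 D18136
theorem N12250 : nd 12250 = n18137 := ndS (p := 11641) (l := 6) rfl N11641 D18137
theorem N12251 : nd 12251 = n18138 := ndS (p := 11642) (l := 6) rfl N11642 D18138
theorem N12252 : nd 12252 = n18139 := ndS (p := 11644) (l := 5) rfl N11644 D18139
theorem N12253 : nd 12253 = n18140 := ndS (p := 11645) (l := 5) rfl N11645 D18140
theorem N12254 : nd 12254 = n18141 := ndS (p := 11646) (l := 6) rfl N11646 D18141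
theorem N12255 : nd 12255 = n18142 := ndS (p := 11647) (l := 6) rfl N11647 D18142
theorem N12256 : nd 12256 = n18143 := ndS (p := 11650) (l := 0) rfl N11650 D18143
theorem N12257 : nd 12257 = n18144 := ndS (p := 11650) (l := 4) rfl N11650 D18144
theorem N12258 : nd 12258 = n18145 := ndS (p := 11651) (l := 5) rfl N11651 D18145
theorem N12259 : nd 12259 = n18146 := ndS (p := 11652) (l := 6) rfl N11652 D18146
theorem N12260 : nd 12260 = n18147 := ndS (p := 11655) (l := 4) rfl N11655 D18147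
theorem N12261 : nd 12261 = n18148 := ndS (p := 11656) (l := 5) rfl N11656 D18148
theorem N12262 : nd 12262 = n18149 := ndS (p := 11657) (l := 6) rfl N11657 D18149
theorem N12263 : nd 12263 = n18150 := ndS (p := 11658) (l := 4) rfl N11658 D18150
theorem N12264 : nd 12264 = n18151 := ndS (p := 11659) (l := 2) rfl N11659 D18151
theorem N12265 : nd 12265 = n18152 := ndS (p := 11659) (l := 4) rfl N11659 D18152
theorem N12266 : nd 12266 = n18153 := ndS (p := 11660) (l := 1) rfl N11660 D18153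
theorem N12267 : nd 12267 = n18154 := ndS (p := 11660) (l := 4) rfl N11660 D18154
theorem N12268 : nd 12268 = n18155 := ndS (p := 11661) (l := 5) rfl N11661 D18155
theorem N12269 : nd 12269 = n18156 := ndS (p := 11662) (l := 5) rfl N11662 D18156
theorem N12270 : nd 12270 = n18157 := ndS (p := 11663) (l := 0) rfl N11663 D18157
theorem N12271 : nd 12271 = n18158 := ndS (p := 11663) (l := 4) rfl N11663 D18158
theorem N12272 : nd 12272 = n18159 := ndS (p := 11664) (l := 5) rfl N11664 D18159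
theorem N12273 : nd 12273 = n18160 := ndS (p := 11665) (l := 6) rfl N11665 D18160
theorem N12274 : nd 12274 = n18161 := ndS (p := 11667) (l := 4) rfl N11667 D18161
theorem N12275 : nd 12275 = n18162 := ndS (p := 11668) (l := 2) rfl N11668 D18162
theorem N12276 : nd 12276 = n18163 := ndS (p := 11668) (l := 4) rfl N11668 D18163
theorem N12277 : nd 12277 = n18164 := ndS (p := 11669) (l := 1) rfl N11669 D18164
theorem N12278 : nd 12278 = n18165 := ndS (p := 11669) (l := 4) rfl N11669 D18165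
theorem N12279 : nd 12279 = n18166 := ndS (p := 11670) (l := 5) rfl N11670 D18166
theorem N12280 : nd 12280 = n18167 := ndS (p := 11671) (l := 1) rfl N11671 D18167
theorem N12281 : nd 12281 = n18168 := ndS (p := 11671) (l := 4) rfl N11671 D18168
theorem N12282 : nd 12282 = n18169 := ndS (p := 11672) (l := 5) rfl N11672 D18169
theorem N12283 : nd 12283 = n18170 := ndS (p := 11673) (l := 0) rfl N11673 D18170
theorem N12284 : nd 12284 = n18171 := ndS (p := 11673) (l := 4) rfl N11673 D18171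
theorem N12285 : nd 12285 = n18172 := ndS (p := 11674) (l := 5) rfl N11674 D18172
theorem N12286 : nd 12286 = n18173 := ndS (p := 11675) (l := 6) rfl N11675 D18173
theorem N12287 : nd 12287 = n18174 := ndS (p := 11676) (l := 4) rfl N11676 D18174
theorem N12288 : nd 12288 = n18175 := ndS (p := 11677) (l := 5) rfl N11677 D18175
theorem N12289 : nd 12289 = n18176 := ndS (p := 11678) (l := 0) rfl N11678 D18176
theorem N12290 : nd 12290 = n18177 := ndS (p := 11678) (l := 4) rfl N11678 D18177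
theorem N12291 : nd 12291 = n18178 := ndS (p := 11679) (l := 3) rfl N11679 D18178
theorem N12292 : nd 12292 = n18179 := ndS (p := 11679) (l := 5) rfl N11679 D18179
theorem N12293 : nd 12293 = n18180 := ndS (p := 11680) (l := 6) rfl N11680 D18180
theorem N12294 : nd 12294 = n18181 := ndS (p := 11681) (l := 4) rfl N11681 D18181
theorem N12295 : nd 12295 = n18182 := ndS (p := 11682) (l := 5) rfl N11682 D18182
theorem N12296 : nd 12296 = n18183 := ndS (p := 11683) (l := 6) rfl N11683 D18183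
theorem N12297 : nd 12297 = n18184 := ndS (p := 11687) (l := 2) rfl N11687 D18184
theorem N12298 : nd 12298 = n18185 := ndS (p := 11687) (l := 4) rfl N11687 D18185
theorem N12299 : nd 12299 = n18186 := ndS (p := 11688) (l := 1) rfl N11688 D18186
theorem N12300 : nd 12300 = n18187 := ndS (p := 11688) (l := 4) rfl N11688 D18187
theorem N12301 : nd 12301 = n18188 := ndS (p := 11689) (l := 5) rfl N11689 D18188
theorem N12302 : nd 12302 = n18189 := ndS (p := 11690) (l := 4) rfl N11690 D18189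
theorem N12303 : nd 12303 = n18190 := ndS (p := 11691) (l := 5) rfl N11691 D18190
theorem N12304 : nd 12304 = n18191 := ndS (p := 11692) (l := 6) rfl N11692 D18191
theorem N12305 : nd 12305 = n18192 := ndS (p := 11694) (l := 2) rfl N11694 D18192
theorem N12306 : nd 12306 = n18193 := ndS (p := 11694) (l := 4) rfl N11694 D18193
theorem N12307 : nd 12307 = n18194 := ndS (p := 11695) (l := 4) rfl N11695 D18194
theorem N12308 : nd 12308 = n18195 := ndS (p := 11696) (l := 4) rfl N11696 D18195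
theorem N12309 : nd 12309 = n18196 := ndS (p := 11697) (l := 5) rfl N11697 D18196
theorem N12310 : nd 12310 = n18197 := ndS (p := 11698) (l := 4) rfl N11698 D18197
theorem N12311 : nd 12311 = n18198 := ndS (p := 11699) (l := 5) rfl N11699 D18198
theorem N12312 : nd 12312 = n18199 := ndS (p := 11700) (l := 3) rfl N11700 D18199
theorem N12313 : nd 12313 = n18200 := ndS (p := 11700) (l := 5) rfl N11700 D18200
theorem N12314 : nd 12314 = n18201 := ndS (p := 11701) (l := 6) rfl N11701 D18201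
theorem N12315 : nd 12315 = n18202 := ndS (p := 11702) (l := 5) rfl N11702 D18202
theorem N12316 : nd 12316 = n18203 := ndS (p := 11703) (l := 6) rfl N11703 D18203
theorem N12317 : nd 12317 = n18204 := ndS (p := 11704) (l := 6) rfl N11704 D18204
theorem N12318 : nd 12318 = n18205 := ndS (p := 11706) (l := 4) rfl N11706 D18205
theorem N12319 : nd 12319 = n18206 := ndS (p := 11707) (l := 5) rfl N11707 D18206
theorem N12320 : nd 12320 = n18207 := ndS (p := 11708) (l := 5) rfl N11708 D18207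
theorem N12321 : nd 12321 = n18208 := ndS (p := 11709) (l := 5) rfl N11709 D18208
theorem N12322 : nd 12322 = n18209 := ndS (p := 11710) (l := 6) rfl N11710 D18209
theorem N12323 : nd 12323 = n18210 := ndS (p := 11711) (l := 6) rfl N11711 D18210
theorem N12324 : nd 12324 = n18211 := ndS (p := 11713) (l := 6) rfl N11713 D18211
theorem N12325 : nd 12325 = n18212 := ndS (p := 11715) (l := 4) rfl N11715 D18212
theorem N12326 : nd 12326 = n18213 := ndS (p := 11716) (l := 5) rfl N11716 D18213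
theorem N12327 : nd 12327 = n18214 := ndS (p := 11717) (l := 5) rfl N11717 D18214
theorem N12328 : nd 12328 = n18215 := ndS (p := 11718) (l := 5) rfl N11718 D18215
theorem N12329 : nd 12329 = n18216 := ndS (p := 11719) (l := 6) rfl N11719 D18216
theorem N12330 : nd 12330 = n18217 := ndS (p := 11720) (l := 6) rfl N11720 D18217
theorem N12331 : nd 12331 = n18218 := ndS (p := 11722) (l := 6) rfl N11722 D18218
theorem N12332 : nd 12332 = n18219 := ndS (p := 11724) (l := 2) rfl N11724 D18219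
theorem N12333 : nd 12333 = n18220 := ndS (p := 11724) (l := 4) rfl N11724 D18220
theorem N12334 : nd 12334 = n18221 := ndS (p := 11725) (l := 4) rfl N11725 D18221
theorem N12335 : nd 12335 = n18222 := ndS (p := 11726) (l := 4) rfl N11726 D18222
theorem N12336 : nd 12336 = n18223 := ndS (p := 11727) (l := 5) rfl N11727 D18223
theorem N12337 : nd 12337 = n18224 := ndS (p := 11728) (l := 1) rfl N11728 D18224
theorem N12338 : nd 12338 = n18225 := ndS (p := 11728) (l := 4) rfl N11728 D18225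
theorem N12339 : nd 12339 = n18226 := ndS (p := 11729) (l := 5) rfl N11729 D18226
theorem N12340 : nd 12340 = n18227 := ndS (p := 11730) (l := 4) rfl N11730 D18227
theorem N12341 : nd 12341 = n18228 := ndS (p := 11731) (l := 5) rfl N11731 D18228
theorem N12342 : nd 12342 = n18229 := ndS (p := 11732) (l := 6) rfl N11732 D18229
theorem N12343 : nd 12343 = n18230 := ndS (p := 11733) (l := 5) rfl N11733 D18230
theorem N12344 : nd 12344 = n18231 := ndS (p := 11734) (l := 6) rfl N11734 D18231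
theorem N12345 : nd 12345 = n18232 := ndS (p := 11735) (l := 5) rfl N11735 D18232
theorem N12346 : nd 12346 = n18233 := ndS (p := 11736) (l := 6) rfl N11736 D18233
theorem N12347 : nd 12347 = n18234 := ndS (p := 11738) (l := 4) rfl N11738 D18234
theorem N12348 : nd 12348 = n18235 := ndS (p := 11739) (l := 5) rfl N11739 D18235
theorem N12349 : nd 12349 = n18236 := ndS (p := 11740) (l := 5) rfl N11740 D18236
theorem N12350 : nd 12350 = n18237 := ndS (p := 11741) (l := 5) rfl N11741 D18237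
theorem N12351 : nd 12351 = n18238 := ndS (p := 11742) (l := 5) rfl N11742 D18238
theorem N12352 : nd 12352 = n18239 := ndS (p := 11743) (l := 6) rfl N11743 D18239
theorem N12353 : nd 12353 = n18240 := ndS (p := 11744) (l := 3) rfl N11744 D18240
theorem N12354 : nd 12354 = n18241 := ndS (p := 11744) (l := 5) rfl N11744 D18241
theorem N12355 : nd 12355 = n18242 := ndS (p := 11745) (l := 6) rfl N11745 D18242
theorem N12356 : nd 12356 = n18243 := ndS (p := 11746) (l := 3) rfl N11746 D18243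
theorem N12357 : nd 12357 = n18244 := ndS (p := 11746) (l := 5) rfl N11746 D18244
theorem N12358 : nd 12358 = n18245 := ndS (p := 11747) (l := 5) rfl N11747 D18245
theorem N12359 : nd 12359 = n18246 := ndS (p := 11748) (l := 6) rfl N11748 D18246
theorem N12360 : nd 12360 = n18247 := ndS (p := 11750) (l := 6) rfl N11750 D18247
theorem N12361 : nd 12361 = n18248 := ndS (p := 11751) (l := 6) rfl N11751 D18248
theorem N12362 : nd 12362 = n18249 := ndS (p := 11753) (l := 6) rfl N11753 D18249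
theorem N12363 : nd 12363 = n18250 := ndS (p := 11755) (l := 5) rfl N11755 D18250
theorem N12364 : nd 12364 = n18251 := ndS (p := 11756) (l := 6) rfl N11756 D18251
theorem N12365 : nd 12365 = n18252 := ndS (p := 11757) (l := 6) rfl N11757 D18252
theorem N12366 : nd 12366 = n18253 := ndS (p := 11758) (l := 6) rfl N11758 D18253
theorem N12367 : nd 12367 = n18254 := ndS (p := 11759) (l := 6) rfl N11759 D18254
theorem N12368 : nd 12368 = n18255 := ndS (p := 11761) (l := 6) rfl N11761 D18255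
theorem N12369 : nd 12369 = n18256 := ndS (p := 11763) (l := 6) rfl N11763 D18256
theorem N12370 : nd 12370 = n18257 := ndS (p := 11764) (l := 6) rfl N11764 D18257
theorem N12371 : nd 12371 = n18258 := ndS (p := 11776) (l := 1) rfl N11776 D18258
theorem N12372 : nd 12372 = n18259 := ndS (p := 11778) (l := 0) rfl N11778 D18259
theorem N12373 : nd 12373 = n18260 := ndS (p := 11780) (l := 1) rfl N11780 D18260
theorem N12374 : nd 12374 = n18261 := ndS (p := 11780) (l := 4) rfl N11780 D18261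
theorem N12375 : nd 12375 = n18262 := ndS (p := 11781) (l := 5) rfl N11781 D18262
theorem N12376 : nd 12376 = n18263 := ndS (p := 11782) (l := 3) rfl N11782 D18263
theorem N12377 : nd 12377 = n18264 := ndS (p := 11782) (l := 5) rfl N11782 D18264
theorem N12378 : nd 12378 = n18265 := ndS (p := 11783) (l := 6) rfl N11783 D18265
theorem N12379 : nd 12379 = n18266 := ndS (p := 11784) (l := 1) rfl N11784 D18266
theorem N12380 : nd 12380 = n18267 := ndS (p := 11784) (l := 4) rfl N11784 D18267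
theorem N12381 : nd 12381 = n18268 := ndS (p := 11785) (l := 5) rfl N11785 D18268
theorem N12382 : nd 12382 = n18269 := ndS (p := 11786) (l := 1) rfl N11786 D18269
theorem N12383 : nd 12383 = n18270 := ndS (p := 11786) (l := 4) rfl N11786 D18270
theorem N12384 : nd 12384 = n18271 := ndS (p := 11787) (l := 5) rfl N11787 D18271
theorem N12385 : nd 12385 = n18272 := ndS (p := 11788) (l := 0) rfl N11788 D18272
theorem N12386 : nd 12386 = n18273 := ndS (p := 11788) (l := 4) rfl N11788 D18273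
theorem N12387 : nd 12387 = n18274 := ndS (p := 11789) (l := 5) rfl N11789 D18274
theorem N12388 : nd 12388 = n18275 := ndS (p := 11790) (l := 6) rfl N11790 D18275
theorem N12389 : nd 12389 = n18276 := ndS (p := 11792) (l := 0) rfl N11792 D18276
theorem N12390 : nd 12390 = n18277 := ndS (p := 11792) (l := 4) rfl N11792 D18277
theorem N12391 : nd 12391 = n18278 := ndS (p := 11793) (l := 3) rfl N11793 D18278
theorem N12392 : nd 12392 = n18279 := ndS (p := 11795) (l := 5) rfl N11795 D18279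
theorem N12393 : nd 12393 = n18280 := ndS (p := 11795) (l := 7) rfl N11795 D18280
theorem N12394 : nd 12394 = n18281 := ndS (p := 11796) (l := 6) rfl N11796 D18281
theorem N12395 : nd 12395 = n18282 := ndS (p := 11798) (l := 1) rfl N11798 D18282
theorem N12396 : nd 12396 = n18283 := ndS (p := 11798) (l := 4) rfl N11798 D18283
theorem N12397 : nd 12397 = n18284 := ndS (p := 11799) (l := 5) rfl N11799 D18284
theorem N12398 : nd 12398 = n18285 := ndS (p := 11800) (l := 4) rfl N11800 D18285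
theorem N12399 : nd 12399 = n18286 := ndS (p := 11801) (l := 3) rfl N11801 D18286
theorem N12400 : nd 12400 = n18287 := ndS (p := 11801) (l := 5) rfl N11801 D18287
theorem N12401 : nd 12401 = n18288 := ndS (p := 11802) (l := 6) rfl N11802 D18288
theorem N12402 : nd 12402 = n18289 := ndS (p := 11803) (l := 5) rfl N11803 D18289
theorem N12403 : nd 12403 = n18290 := ndS (p := 11804) (l := 6) rfl N11804 D18290
theorem N12404 : nd 12404 = n18291 := ndS (p := 11806) (l := 1) rfl N11806 D18291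
theorem N12405 : nd 12405 = n18292 := ndS (p := 11806) (l := 4) rfl N11806 D18292
theorem N12406 : nd 12406 = n18293 := ndS (p := 11807) (l := 5) rfl N11807 D18293
theorem N12407 : nd 12407 = n18294 := ndS (p := 11808) (l := 4) rfl N11808 D18294
theorem N12408 : nd 12408 = n18295 := ndS (p := 11809) (l := 3) rfl N11809 D18295
theorem N12409 : nd 12409 = n18296 := ndS (p := 11809) (l := 5) rfl N11809 D18296
theorem N12410 : nd 12410 = n18297 := ndS (p := 11810) (l := 6) rfl N11810 D18297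
theorem N12411 : nd 12411 = n18298 := ndS (p := 11811) (l := 5) rfl N11811 D18298
theorem N12412 : nd 12412 = n18299 := ndS (p := 11812) (l := 5) rfl N11812 D18299
theorem N12413 : nd 12413 = n18300 := ndS (p := 11812) (l := 7) rfl N11812 D18300
theorem N12414 : nd 12414 = n18301 := ndS (p := 11813) (l := 6) rfl N11813 D18301
theorem N12415 : nd 12415 = n18302 := ndS (p := 11815) (l := 4) rfl N11815 D18302
theorem N12416 : nd 12416 = n18303 := ndS (p := 11815) (l := 6) rfl N11815 D18303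
theorem N12417 : nd 12417 = n18304 := ndS (p := 11815) (l := 7) rfl N11815 D18304
theorem N12418 : nd 12418 = n18305 := ndS (p := 11816) (l := 8) rfl N11816 D18305
theorem N12419 : nd 12419 = n18306 := ndS (p := 11818) (l := 5) rfl N11818 D18306
theorem N12420 : nd 12420 = n18307 := ndS (p := 11819) (l := 4) rfl N11819 D18307
theorem N12421 : nd 12421 = n18308 := ndS (p := 11820) (l := 5) rfl N11820 D18308
theorem N12422 : nd 12422 = n18309 := ndS (p := 11821) (l := 5) rfl N11821 D18309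
theorem N12423 : nd 12423 = n18310 := ndS (p := 11822) (l := 6) rfl N11822 D18310
theorem N12424 : nd 12424 = n18311 := ndS (p := 11823) (l := 0) rfl N11823 D18311
theorem N12425 : nd 12425 = n18312 := ndS (p := 11823) (l := 4) rfl N11823 D18312
theorem N12426 : nd 12426 = n18313 := ndS (p := 11824) (l := 3) rfl N11824 D18313
theorem N12427 : nd 12427 = n18314 := ndS (p := 11824) (l := 5) rfl N11824 D18314
theorem N12428 : nd 12428 = n18315 := ndS (p := 11825) (l := 6) rfl N11825 D18315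
theorem N12429 : nd 12429 = n18316 := ndS (p := 11826) (l := 4) rfl N11826 D18316
theorem N12430 : nd 12430 = n18317 := ndS (p := 11827) (l := 3) rfl N11827 D18317
theorem N12431 : nd 12431 = n18318 := ndS (p := 11827) (l := 5) rfl N11827 D18318
theorem N12432 : nd 12432 = n18319 := ndS (p := 11828) (l := 5) rfl N11828 D18319
theorem N12433 : nd 12433 = n18320 := ndS (p := 11829) (l := 6) rfl N11829 D18320
theorem N12434 : nd 12434 = n18321 := ndS (p := 11831) (l := 6) rfl N11831 D18321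
theorem N12435 : nd 12435 = n18322 := ndS (p := 11834) (l := 6) rfl N11834 D18322
theorem N12436 : nd 12436 = n18323 := ndS (p := 11836) (l := 4) rfl N11836 D18323
theorem N12437 : nd 12437 = n18324 := ndS (p := 11837) (l := 3) rfl N11837 D18324
theorem N12438 : nd 12438 = n18325 := ndS (p := 11839) (l := 3) rfl N11839 D18325
theorem N12439 : nd 12439 = n18326 := ndS (p := 11841) (l := 8) rfl N11841 D18326
theorem N12440 : nd 12440 = n18327 := ndS (p := 11842) (l := 8) rfl N11842 D18327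
theorem N12441 : nd 12441 = n18328 := ndS (p := 11844) (l := 4) rfl N11844 D18328
theorem N12442 : nd 12442 = n18329 := ndS (p := 11845) (l := 5) rfl N11845 D18329
theorem N12443 : nd 12443 = n18330 := ndS (p := 11846) (l := 1) rfl N11846 D18330
theorem N12444 : nd 12444 = n18331 := ndS (p := 11846) (l := 4) rfl N11846 D18331
theorem N12445 : nd 12445 = n18332 := ndS (p := 11847) (l := 5) rfl N11847 D18332
theorem N12446 : nd 12446 = n18333 := ndS (p := 11848) (l := 0) rfl N11848 D18333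
theorem N12447 : nd 12447 = n18334 := ndS (p := 11848) (l := 4) rfl N11848 D18334
theorem N12448 : nd 12448 = n18335 := ndS (p := 11849) (l := 3) rfl N11849 D18335
theorem N12449 : nd 12449 = n18336 := ndS (p := 11849) (l := 5) rfl N11849 D18336
theorem N12450 : nd 12450 = n18337 := ndS (p := 11850) (l := 6) rfl N11850 D18337
theorem N12451 : nd 12451 = n18338 := ndS (p := 11851) (l := 4) rfl N11851 D18338
theorem N12452 : nd 12452 = n18339 := ndS (p := 11852) (l := 5) rfl N11852 D18339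
theorem N12453 : nd 12453 = n18340 := ndS (p := 11853) (l := 0) rfl N11853 D18340
theorem N12454 : nd 12454 = n18341 := ndS (p := 11853) (l := 4) rfl N11853 D18341
theorem N12455 : nd 12455 = n18342 := ndS (p := 11854) (l := 3) rfl N11854 D18342
theorem N12456 : nd 12456 = n18343 := ndS (p := 11854) (l := 5) rfl N11854 D18343
theorem N12457 : nd 12457 = n18344 := ndS (p := 11855) (l := 6) rfl N11855 D18344
theorem N12458 : nd 12458 = n18345 := ndS (p := 11856) (l := 4) rfl N11856 D18345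
theorem N12459 : nd 12459 = n18346 := ndS (p := 11857) (l := 5) rfl N11857 D18346
theorem N12460 : nd 12460 = n18347 := ndS (p := 11858) (l := 6) rfl N11858 D18347
theorem N12461 : nd 12461 = n18348 := ndS (p := 11862) (l := 4) rfl N11862 D18348
theorem N12462 : nd 12462 = n18349 := ndS (p := 11863) (l := 5) rfl N11863 D18349
theorem N12463 : nd 12463 = n18350 := ndS (p := 11864) (l := 4) rfl N11864 D18350
theorem N12464 : nd 12464 = n18351 := ndS (p := 11865) (l := 5) rfl N11865 D18351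
theorem N12465 : nd 12465 = n18352 := ndS (p := 11866) (l := 3) rfl N11866 D18352
theorem N12466 : nd 12466 = n18353 := ndS (p := 11866) (l := 5) rfl N11866 D18353
theorem N12467 : nd 12467 = n18354 := ndS (p := 11867) (l := 6) rfl N11867 D18354
theorem N12468 : nd 12468 = n18355 := ndS (p := 11868) (l := 3) rfl N11868 D18355
theorem N12469 : nd 12469 = n18356 := ndS (p := 11868) (l := 5) rfl N11868 D18356
theorem N12470 : nd 12470 = n18357 := ndS (p := 11869) (l := 6) rfl N11869 D18357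
theorem N12471 : nd 12471 = n18358 := ndS (p := 11870) (l := 5) rfl N11870 D18358
theorem N12472 : nd 12472 = n18359 := ndS (p := 11871) (l := 6) rfl N11871 D18359
theorem N12473 : nd 12473 = n18360 := ndS (p := 11873) (l := 6) rfl N11873 D18360
theorem N12474 : nd 12474 = n18361 := ndS (p := 11876) (l := 5) rfl N11876 D18361
theorem N12475 : nd 12475 = n18362 := ndS (p := 11877) (l := 6) rfl N11877 D18362
theorem N12476 : nd 12476 = n18363 := ndS (p := 11878) (l := 5) rfl N11878 D18363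
theorem N12477 : nd 12477 = n18364 := ndS (p := 11879) (l := 6) rfl N11879 D18364
theorem N12478 : nd 12478 = n18365 := ndS (p := 11880) (l := 4) rfl N11880 D18365
theorem N12479 : nd 12479 = n18366 := ndS (p := 11881) (l := 3) rfl N11881 D18366
theorem N12480 : nd 12480 = n18367 := ndS (p := 11881) (l := 5) rfl N11881 D18367
theorem N12481 : nd 12481 = n18368 := ndS (p := 11882) (l := 6) rfl N11882 D18368
theorem N12482 : nd 12482 = n18369 := ndS (p := 11883) (l := 5) rfl N11883 D18369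
theorem N12483 : nd 12483 = n18370 := ndS (p := 11884) (l := 5) rfl N11884 D18370
theorem N12484 : nd 12484 = n18371 := ndS (p := 11885) (l := 6) rfl N11885 D18371
theorem N12485 : nd 12485 = n18372 := ndS (p := 11887) (l := 4) rfl N11887 D18372
theorem N12486 : nd 12486 = n18373 := ndS (p := 11888) (l := 3) rfl N11888 D18373
theorem N12487 : nd 12487 = n18374 := ndS (p := 11888) (l := 5) rfl N11888 D18374
theorem N12488 : nd 12488 = n18375 := ndS (p := 11889) (l := 5) rfl N11889 D18375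
theorem N12489 : nd 12489 = n18376 := ndS (p := 11889) (l := 7) rfl N11889 D18376
theorem N12490 : nd 12490 = n18377 := ndS (p := 11890) (l := 6) rfl N11890 D18377
theorem N12491 : nd 12491 = n18378 := ndS (p := 11892) (l := 3) rfl N11892 D18378
theorem N12492 : nd 12492 = n18379 := ndS (p := 11892) (l := 5) rfl N11892 D18379
theorem N12493 : nd 12493 = n18380 := ndS (p := 11893) (l := 5) rfl N11893 D18380
theorem N12494 : nd 12494 = n18381 := ndS (p := 11894) (l := 6) rfl N11894 D18381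
theorem N12495 : nd 12495 = n18382 := ndS (p := 11895) (l := 6) rfl N11895 D18382
theorem N12496 : nd 12496 = n18383 := ndS (p := 11897) (l := 6) rfl N11897 D18383
theorem N12497 : nd 12497 = n18384 := ndS (p := 11899) (l := 6) rfl N11899 D18384
theorem N12498 : nd 12498 = n18385 := ndS (p := 11900) (l := 6) rfl N11900 D18385
theorem N12499 : nd 12499 = n18386 := ndS (p := 11900) (l := 7) rfl N11900 D18386
theorem N12500 : nd 12500 = n18387 := ndS (p := 11903) (l := 6) rfl N11903 D18387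
theorem N12501 : nd 12501 = n18388 := ndS (p := 11906) (l := 3) rfl N11906 D18388
theorem N12502 : nd 12502 = n18389 := ndS (p := 11907) (l := 7) rfl N11907 D18389
theorem N12503 : nd 12503 = n18390 := ndS (p := 11910) (l := 4) rfl N11910 D18390
theorem N12504 : nd 12504 = n18391 := ndS (p := 11911) (l := 5) rfl N11911 D18391
theorem N12505 : nd 12505 = n18392 := ndS (p := 11912) (l := 1) rfl N11912 D18392
theorem N12506 : nd 12506 = n18393 := ndS (p := 11912) (l := 4) rfl N11912 D18393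
theorem N12507 : nd 12507 = n18394 := ndS (p := 11913) (l := 5) rfl N11913 D18394
theorem N12508 : nd 12508 = n18395 := ndS (p := 11914) (l := 3) rfl N11914 D18395
theorem N12509 : nd 12509 = n18396 := ndS (p := 11914) (l := 5) rfl N11914 D18396
theorem N12510 : nd 12510 = n18397 := ndS (p := 11915) (l := 6) rfl N11915 D18397
theorem N12511 : nd 12511 = n18398 := ndS (p := 11916) (l := 1) rfl N11916 D18398
theorem N12512 : nd 12512 = n18399 := ndS (p := 11916) (l := 4) rfl N11916 D18399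
theorem N12513 : nd 12513 = n18400 := ndS (p := 11917) (l := 5) rfl N11917 D18400
theorem N12514 : nd 12514 = n18401 := ndS (p := 11918) (l := 1) rfl N11918 D18401
theorem N12515 : nd 12515 = n18402 := ndS (p := 11918) (l := 4) rfl N11918 D18402
theorem N12516 : nd 12516 = n18403 := ndS (p := 11919) (l := 5) rfl N11919 D18403
theorem N12517 : nd 12517 = n18404 := ndS (p := 11920) (l := 0) rfl N11920 D18404
theorem N12518 : nd 12518 = n18405 := ndS (p := 11920) (l := 4) rfl N11920 D18405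
theorem N12519 : nd 12519 = n18406 := ndS (p := 11921) (l := 5) rfl N11921 D18406
theorem N12520 : nd 12520 = n18407 := ndS (p := 11922) (l := 6) rfl N11922 D18407
theorem N12521 : nd 12521 = n18408 := ndS (p := 11925) (l := 3) rfl N11925 D18408
theorem N12522 : nd 12522 = n18409 := ndS (p := 11927) (l := 6) rfl N11927 D18409
theorem N12523 : nd 12523 = n18410 := ndS (p := 11928) (l := 5) rfl N11928 D18410
theorem N12524 : nd 12524 = n18411 := ndS (p := 11929) (l := 6) rfl N11929 D18411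
theorem N12525 : nd 12525 = n18412 := ndS (p := 11930) (l := 4) rfl N11930 D18412
theorem N12526 : nd 12526 = n18413 := ndS (p := 11931) (l := 5) rfl N11931 D18413
theorem N12527 : nd 12527 = n18414 := ndS (p := 11932) (l := 5) rfl N11932 D18414
theorem N12528 : nd 12528 = n18415 := ndS (p := 11933) (l := 6) rfl N11933 D18415
theorem N12529 : nd 12529 = n18416 := ndS (p := 11935) (l := 5) rfl N11935 D18416
theorem N12530 : nd 12530 = n18417 := ndS (p := 11936) (l := 6) rfl N11936 D18417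
theorem N12531 : nd 12531 = n18418 := ndS (p := 11937) (l := 5) rfl N11937 D18418
theorem N12532 : nd 12532 = n18419 := ndS (p := 11938) (l := 6) rfl N11938 D18419
theorem N12533 : nd 12533 = n18420 := ndS (p := 11939) (l := 5) rfl N11939 D18420
theorem N12534 : nd 12534 = n18421 := ndS (p := 11939) (l := 7) rfl N11939 D18421
theorem N12535 : nd 12535 = n18422 := ndS (p := 11940) (l := 6) rfl N11940 D18422
theorem N12536 : nd 12536 = n18423 := ndS (p := 11942) (l := 4) rfl N11942 D18423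
theorem N12537 : nd 12537 = n18424 := ndS (p := 11943) (l := 5) rfl N11943 D18424
theorem N12538 : nd 12538 = n18425 := ndS (p := 11944) (l := 4) rfl N11944 D18425
theorem N12539 : nd 12539 = n18426 := ndS (p := 11945) (l := 5) rfl N11945 D18426
theorem N12540 : nd 12540 = n18427 := ndS (p := 11946) (l := 4) rfl N11946 D18427
theorem N12541 : nd 12541 = n18428 := ndS (p := 11947) (l := 3) rfl N11947 D18428
theorem N12542 : nd 12542 = n18429 := ndS (p := 11947) (l := 5) rfl N11947 D18429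
theorem N12543 : nd 12543 = n18430 := ndS (p := 11948) (l := 6) rfl N11948 D18430
theorem N12544 : nd 12544 = n18431 := ndS (p := 11949) (l := 5) rfl N11949 D18431
theorem N12545 : nd 12545 = n18432 := ndS (p := 11950) (l := 6) rfl N11950 D18432
theorem N12546 : nd 12546 = n18433 := ndS (p := 11951) (l := 5) rfl N11951 D18433
theorem N12547 : nd 12547 = n18434 := ndS (p := 11952) (l := 6) rfl N11952 D18434
theorem N12548 : nd 12548 = n18435 := ndS (p := 11954) (l := 6) rfl N11954 D18435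
theorem N12549 : nd 12549 = n18436 := ndS (p := 11955) (l := 5) rfl N11955 D18436
theorem N12550 : nd 12550 = n18437 := ndS (p := 11956) (l := 6) rfl N11956 D18437
theorem N12551 : nd 12551 = n18438 := ndS (p := 11958) (l := 6) rfl N11958 D18438
theorem N12552 : nd 12552 = n18439 := ndS (p := 11959) (l := 6) rfl N11959 D18439
theorem N12553 : nd 12553 = n18440 := ndS (p := 11961) (l := 6) rfl N11961 D18440
theorem N12554 : nd 12554 = n18441 := ndS (p := 11963) (l := 5) rfl N11963 D18441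
theorem N12555 : nd 12555 = n18442 := ndS (p := 11964) (l := 6) rfl N11964 D18442
theorem N12556 : nd 12556 = n18443 := ndS (p := 11965) (l := 6) rfl N11965 D18443
theorem N12557 : nd 12557 = n18444 := ndS (p := 11967) (l := 5) rfl N11967 D18444
theorem N12558 : nd 12558 = n18445 := ndS (p := 11968) (l := 6) rfl N11968 D18445
theorem N12559 : nd 12559 = n18446 := ndS (p := 11969) (l := 6) rfl N11969 D18446
theorem N12560 : nd 12560 = n18447 := ndS (p := 11971) (l := 6) rfl N11971 D18447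
theorem N12561 : nd 12561 = n18448 := ndS (p := 11971) (l := 7) rfl N11971 D18448
theorem N12562 : nd 12562 = n18449 := ndS (p := 11974) (l := 5) rfl N11974 D18449
theorem N12563 : nd 12563 = n18450 := ndS (p := 11975) (l := 5) rfl N11975 D18450
theorem N12564 : nd 12564 = n18451 := ndS (p := 11976) (l := 6) rfl N11976 D18451
theorem N12565 : nd 12565 = n18452 := ndS (p := 11977) (l := 5) rfl N11977 D18452
theorem N12566 : nd 12566 = n18453 := ndS (p := 11978) (l := 6) rfl N11978 D18453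
theorem N12567 : nd 12567 = n18454 := ndS (p := 11979) (l := 4) rfl N11979 D18454
theorem N12568 : nd 12568 = n18455 := ndS (p := 11980) (l := 5) rfl N11980 D18455
theorem N12569 : nd 12569 = n18456 := ndS (p := 11981) (l := 6) rfl N11981 D18456
theorem N12570 : nd 12570 = n18457 := ndS (p := 11983) (l := 6) rfl N11983 D18457
theorem N12571 : nd 12571 = n18458 := ndS (p := 11984) (l := 6) rfl N11984 D18458
theorem N12572 : nd 12572 = n18459 := ndS (p := 11986) (l := 5) rfl N11986 D18459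
theorem N12573 : nd 12573 = n18460 := ndS (p := 11987) (l := 6) rfl N11987 D18460
theorem N12574 : nd 12574 = n18461 := ndS (p := 11990) (l := 6) rfl N11990 D18461
theorem N12575 : nd 12575 = n18462 := ndS (p := 11991) (l := 6) rfl N11991 D18462
theorem N12576 : nd 12576 = n18463 := ndS (p := 11993) (l := 5) rfl N11993 D18463
theorem N12577 : nd 12577 = n18464 := ndS (p := 11994) (l := 6) rfl N11994 D18464
theorem N12578 : nd 12578 = n18465 := ndS (p := 11995) (l := 5) rfl N11995 D18465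
theorem N12579 : nd 12579 = n18466 := ndS (p := 11996) (l := 6) rfl N11996 D18466
theorem N12580 : nd 12580 = n18467 := ndS (p := 11998) (l := 4) rfl N11998 D18467
theorem N12581 : nd 12581 = n18468 := ndS (p := 11999) (l := 5) rfl N11999 D18468
theorem N12582 : nd 12582 = n18469 := ndS (p := 12000) (l := 4) rfl N12000 D18469
theorem N12583 : nd 12583 = n18470 := ndS (p := 12001) (l := 3) rfl N12001 D18470
theorem N12584 : nd 12584 = n18471 := ndS (p := 12001) (l := 5) rfl N12001 D18471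
theorem N12585 : nd 12585 = n18472 := ndS (p := 12002) (l := 6) rfl N12002 D18472
theorem N12586 : nd 12586 = n18473 := ndS (p := 12003) (l := 5) rfl N12003 D18473
theorem N12587 : nd 12587 = n18474 := ndS (p := 12004) (l := 3) rfl N12004 D18474
theorem N12588 : nd 12588 = n18475 := ndS (p := 12004) (l := 5) rfl N12004 D18475
theorem N12589 : nd 12589 = n18476 := ndS (p := 12005) (l := 6) rfl N12005 D18476
theorem N12590 : nd 12590 = n18477 := ndS (p := 12006) (l := 4) rfl N12006 D18477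
theorem N12591 : nd 12591 = n18478 := ndS (p := 12007) (l := 5) rfl N12007 D18478
theorem N12592 : nd 12592 = n18479 := ndS (p := 12008) (l := 6) rfl N12008 D18479
theorem N12593 : nd 12593 = n18480 := ndS (p := 12010) (l := 7) rfl N12010 D18480
theorem N12594 : nd 12594 = n18481 := ndS (p := 12013) (l := 4) rfl N12013 D18481
theorem N12595 : nd 12595 = n18482 := ndS (p := 12014) (l := 3) rfl N12014 D18482
theorem N12596 : nd 12596 = n18483 := ndS (p := 12014) (l := 5) rfl N12014 D18483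
theorem N12597 : nd 12597 = n18484 := ndS (p := 12015) (l := 6) rfl N12015 D18484
theorem N12598 : nd 12598 = n18485 := ndS (p := 12016) (l := 5) rfl N12016 D18485
theorem N12599 : nd 12599 = n18486 := ndS (p := 12017) (l := 6) rfl N12017 D18486
theorem N12600 : nd 12600 = n18487 := ndS (p := 12020) (l := 5) rfl N12020 D18487
theorem N12601 : nd 12601 = n18488 := ndS (p := 12021) (l := 4) rfl N12021 D18488
theorem N12602 : nd 12602 = n18489 := ndS (p := 12022) (l := 5) rfl N12022 D18489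
theorem N12603 : nd 12603 = n18490 := ndS (p := 12023) (l := 5) rfl N12023 D18490
theorem N12604 : nd 12604 = n18491 := ndS (p := 12024) (l := 6) rfl N12024 D18491
theorem N12605 : nd 12605 = n18492 := ndS (p := 12025) (l := 6) rfl N12025 D18492
theorem N12606 : nd 12606 = n18493 := ndS (p := 12026) (l := 6) rfl N12026 D18493
theorem N12607 : nd 12607 = n18494 := ndS (p := 12028) (l := 4) rfl N12028 D18494
theorem N12608 : nd 12608 = n18495 := ndS (p := 12029) (l := 5) rfl N12029 D18495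
theorem N12609 : nd 12609 = n18496 := ndS (p := 12030) (l := 5) rfl N12030 D18496
theorem N12610 : nd 12610 = n18497 := ndS (p := 12031) (l := 1) rfl N12031 D18497
theorem N12611 : nd 12611 = n18498 := ndS (p := 12031) (l := 4) rfl N12031 D18498
theorem N12612 : nd 12612 = n18499 := ndS (p := 12032) (l := 5) rfl N12032 D18499
theorem N12613 : nd 12613 = n18500 := ndS (p := 12033) (l := 4) rfl N12033 D18500
theorem N12614 : nd 12614 = n18501 := ndS (p := 12034) (l := 3) rfl N12034 D18501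
theorem N12615 : nd 12615 = n18502 := ndS (p := 12034) (l := 5) rfl N12034 D18502
theorem N12616 : nd 12616 = n18503 := ndS (p := 12035) (l := 6) rfl N12035 D18503
theorem N12617 : nd 12617 = n18504 := ndS (p := 12036) (l := 0) rfl N12036 D18504
theorem N12618 : nd 12618 = n18505 := ndS (p := 12036) (l := 4) rfl N12036 D18505
theorem N12619 : nd 12619 = n18506 := ndS (p := 12037) (l := 3) rfl N12037 D18506
theorem N12620 : nd 12620 = n18507 := ndS (p := 12037) (l := 5) rfl N12037 D18507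
theorem N12621 : nd 12621 = n18508 := ndS (p := 12038) (l := 6) rfl N12038 D18508
theorem N12622 : nd 12622 = n18509 := ndS (p := 12039) (l := 4) rfl N12039 D18509
theorem N12623 : nd 12623 = n18510 := ndS (p := 12040) (l := 3) rfl N12040 D18510
theorem N12624 : nd 12624 = n18511 := ndS (p := 12040) (l := 5) rfl N12040 D18511
theorem N12625 : nd 12625 = n18512 := ndS (p := 12041) (l := 5) rfl N12041 D18512
theorem N12626 : nd 12626 = n18513 := ndS (p := 12042) (l := 6) rfl N12042 D18513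
theorem N12627 : nd 12627 = n18514 := ndS (p := 12044) (l := 6) rfl N12044 D18514
theorem N12628 : nd 12628 = n18515 := ndS (p := 12045) (l := 5) rfl N12045 D18515
theorem N12629 : nd 12629 = n18516 := ndS (p := 12046) (l := 6) rfl N12046 D18516
theorem N12630 : nd 12630 = n18517 := ndS (p := 12048) (l := 5) rfl N12048 D18517
theorem N12631 : nd 12631 = n18518 := ndS (p := 12049) (l := 6) rfl N12049 D18518
theorem N12632 : nd 12632 = n18519 := ndS (p := 12051) (l := 3) rfl N12051 D18519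
theorem N12633 : nd 12633 = n18520 := ndS (p := 12051) (l := 5) rfl N12051 D18520
theorem N12634 : nd 12634 = n18521 := ndS (p := 12052) (l := 6) rfl N12052 D18521
theorem N12635 : nd 12635 = n18522 := ndS (p := 12053) (l := 6) rfl N12053 D18522
theorem N12636 : nd 12636 = n18523 := ndS (p := 12056) (l := 4) rfl N12056 D18523
theorem N12637 : nd 12637 = n18524 := ndS (p := 12057) (l := 3) rfl N12057 D18524
theorem N12638 : nd 12638 = n18525 := ndS (p := 12057) (l := 5) rfl N12057 D18525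
theorem N12639 : nd 12639 = n18526 := ndS (p := 12058) (l := 6) rfl N12058 D18526
theorem N12640 : nd 12640 = n18527 := ndS (p := 12059) (l := 5) rfl N12059 D18527
theorem N12641 : nd 12641 = n18528 := ndS (p := 12060) (l := 6) rfl N12060 D18528
theorem N12642 : nd 12642 = n18529 := ndS (p := 12062) (l := 5) rfl N12062 D18529
theorem N12643 : nd 12643 = n18530 := ndS (p := 12063) (l := 4) rfl N12063 D18530
theorem N12644 : nd 12644 = n18531 := ndS (p := 12064) (l := 3) rfl N12064 D18531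
theorem N12645 : nd 12645 = n18532 := ndS (p := 12064) (l := 5) rfl N12064 D18532
theorem N12646 : nd 12646 = n18533 := ndS (p := 12065) (l := 6) rfl N12065 D18533
theorem N12647 : nd 12647 = n18534 := ndS (p := 12066) (l := 4) rfl N12066 D18534
theorem N12648 : nd 12648 = n18535 := ndS (p := 12067) (l := 5) rfl N12067 D18535
theorem N12649 : nd 12649 = n18536 := ndS (p := 12068) (l := 6) rfl N12068 D18536
theorem N12650 : nd 12650 = n18537 := ndS (p := 12070) (l := 6) rfl N12070 D18537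
theorem N12651 : nd 12651 = n18538 := ndS (p := 12071) (l := 5) rfl N12071 D18538
theorem N12652 : nd 12652 = n18539 := ndS (p := 12072) (l := 5) rfl N12072 D18539
theorem N12653 : nd 12653 = n18540 := ndS (p := 12073) (l := 6) rfl N12073 D18540
theorem N12654 : nd 12654 = n18541 := ndS (p := 12075) (l := 6) rfl N12075 D18541
theorem N12655 : nd 12655 = n18542 := ndS (p := 12077) (l := 5) rfl N12077 D18542
theorem N12656 : nd 12656 = n18543 := ndS (p := 12078) (l := 4) rfl N12078 D18543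
theorem N12657 : nd 12657 = n18544 := ndS (p := 12079) (l := 5) rfl N12079 D18544
theorem N12658 : nd 12658 = n18545 := ndS (p := 12080) (l := 3) rfl N12080 D18545
theorem N12659 : nd 12659 = n18546 := ndS (p := 12080) (l := 5) rfl N12080 D18546
theorem N12660 : nd 12660 = n18547 := ndS (p := 12081) (l := 6) rfl N12081 D18547
theorem N12661 : nd 12661 = n18548 := ndS (p := 12082) (l := 6) rfl N12082 D18548
theorem N12662 : nd 12662 = n18549 := ndS (p := 12083) (l := 6) rfl N12083 D18549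
theorem N12663 : nd 12663 = n18550 := ndS (p := 12085) (l := 4) rfl N12085 D18550
theorem N12664 : nd 12664 = n18551 := ndS (p := 12086) (l := 5) rfl N12086 D18551
theorem N12665 : nd 12665 = n18552 := ndS (p := 12087) (l := 4) rfl N12087 D18552
theorem N12666 : nd 12666 = n18553 := ndS (p := 12088) (l := 5) rfl N12088 D18553
theorem N12667 : nd 12667 = n18554 := ndS (p := 12089) (l := 4) rfl N12089 D18554
theorem N12668 : nd 12668 = n18555 := ndS (p := 12090) (l := 5) rfl N12090 D18555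
theorem N12669 : nd 12669 = n18556 := ndS (p := 12091) (l := 3) rfl N12091 D18556
theorem N12670 : nd 12670 = n18557 := ndS (p := 12091) (l := 5) rfl N12091 D18557
theorem N12671 : nd 12671 = n18558 := ndS (p := 12092) (l := 6) rfl N12092 D18558
theorem N12672 : nd 12672 = n18559 := ndS (p := 12093) (l := 4) rfl N12093 D18559
theorem N12673 : nd 12673 = n18560 := ndS (p := 12094) (l := 3) rfl N12094 D18560
theorem N12674 : nd 12674 = n18561 := ndS (p := 12094) (l := 5) rfl N12094 D18561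
theorem N12675 : nd 12675 = n18562 := ndS (p := 12095) (l := 6) rfl N12095 D18562
theorem N12676 : nd 12676 = n18563 := ndS (p := 12096) (l := 3) rfl N12096 D18563
theorem N12677 : nd 12677 = n18564 := ndS (p := 12096) (l := 5) rfl N12096 D18564
theorem N12678 : nd 12678 = n18565 := ndS (p := 12097) (l := 5) rfl N12097 D18565
theorem N12679 : nd 12679 = n18566 := ndS (p := 12098) (l := 6) rfl N12098 D18566
theorem N12680 : nd 12680 = n18567 := ndS (p := 12100) (l := 5) rfl N12100 D18567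
theorem N12681 : nd 12681 = n18568 := ndS (p := 12101) (l := 6) rfl N12101 D18568
theorem N12682 : nd 12682 = n18569 := ndS (p := 12102) (l := 5) rfl N12102 D18569
theorem N12683 : nd 12683 = n18570 := ndS (p := 12102) (l := 7) rfl N12102 D18570
theorem N12684 : nd 12684 = n18571 := ndS (p := 12103) (l := 6) rfl N12103 D18571
theorem N12685 : nd 12685 = n18572 := ndS (p := 12105) (l := 6) rfl N12105 D18572
theorem N12686 : nd 12686 = n18573 := ndS (p := 12107) (l := 6) rfl N12107 D18573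
theorem N12687 : nd 12687 = n18574 := ndS (p := 12108) (l := 6) rfl N12108 D18574
theorem N12688 : nd 12688 = n18575 := ndS (p := 12109) (l := 4) rfl N12109 D18575
theorem N12689 : nd 12689 = n18576 := ndS (p := 12110) (l := 5) rfl N12110 D18576
theorem N12690 : nd 12690 = n18577 := ndS (p := 12111) (l := 6) rfl N12111 D18577
theorem N12691 : nd 12691 = n18578 := ndS (p := 12112) (l := 5) rfl N12112 D18578
theorem N12692 : nd 12692 = n18579 := ndS (p := 12113) (l := 6) rfl N12113 D18579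
theorem N12693 : nd 12693 = n18580 := ndS (p := 12115) (l := 4) rfl N12115 D18580
theorem N12694 : nd 12694 = n18581 := ndS (p := 12116) (l := 3) rfl N12116 D18581
theorem N12695 : nd 12695 = n18582 := ndS (p := 12116) (l := 5) rfl N12116 D18582
theorem N12696 : nd 12696 = n18583 := ndS (p := 12117) (l := 5) rfl N12117 D18583
theorem N12697 : nd 12697 = n18584 := ndS (p := 12117) (l := 7) rfl N12117 D18584
theorem N12698 : nd 12698 = n18585 := ndS (p := 12118) (l := 6) rfl N12118 D18585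
theorem N12699 : nd 12699 = n18586 := ndS (p := 12120) (l := 3) rfl N12120 D18586
theorem N12700 : nd 12700 = n18587 := ndS (p := 12120) (l := 5) rfl N12120 D18587
theorem N12701 : nd 12701 = n18588 := ndS (p := 12121) (l := 2) rfl N12121 D18588
theorem N12702 : nd 12702 = n18589 := ndS (p := 12121) (l := 5) rfl N12121 D18589
theorem N12703 : nd 12703 = n18590 := ndS (p := 12122) (l := 6) rfl N12122 D18590
theorem N12704 : nd 12704 = n18591 := ndS (p := 12123) (l := 6) rfl N12123 D18591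
theorem N12705 : nd 12705 = n18592 := ndS (p := 12126) (l := 6) rfl N12126 D18592
theorem N12706 : nd 12706 = n18593 := ndS (p := 12128) (l := 6) rfl N12128 D18593
theorem N12707 : nd 12707 = n18594 := ndS (p := 12131) (l := 3) rfl N12131 D18594
theorem N12708 : nd 12708 = n18595 := ndS (p := 12132) (l := 2) rfl N12132 D18595
theorem N12709 : nd 12709 = n18596 := ndS (p := 12132) (l := 7) rfl N12132 D18596
theorem N12710 : nd 12710 = n18597 := ndS (p := 12134) (l := 2) rfl N12134 D18597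
theorem N12711 : nd 12711 = n18598 := ndS (p := 12136) (l := 8) rfl N12136 D18598
theorem N12712 : nd 12712 = n18599 := ndS (p := 12138) (l := 6) rfl N12138 D18599
theorem N12713 : nd 12713 = n18600 := ndS (p := 12140) (l := 6) rfl N12140 D18600
theorem N12714 : nd 12714 = n18601 := ndS (p := 12144) (l := 6) rfl N12144 D18601
theorem N12715 : nd 12715 = n18602 := ndS (p := 12145) (l := 3) rfl N12145 D18602
theorem N12716 : nd 12716 = n18603 := ndS (p := 12145) (l := 5) rfl N12145 D18603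
theorem N12717 : nd 12717 = n18604 := ndS (p := 12146) (l := 6) rfl N12146 D18604
theorem N12718 : nd 12718 = n18605 := ndS (p := 12147) (l := 6) rfl N12147 D18605
theorem N12719 : nd 12719 = n18606 := ndS (p := 12149) (l := 4) rfl N12149 D18606
theorem N12720 : nd 12720 = n18607 := ndS (p := 12150) (l := 5) rfl N12150 D18607
theorem N12721 : nd 12721 = n18608 := ndS (p := 12151) (l := 3) rfl N12151 D18608
theorem N12722 : nd 12722 = n18609 := ndS (p := 12151) (l := 5) rfl N12151 D18609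
theorem N12723 : nd 12723 = n18610 := ndS (p := 12152) (l := 6) rfl N12152 D18610
theorem N12724 : nd 12724 = n18611 := ndS (p := 12153) (l := 4) rfl N12153 D18611
theorem N12725 : nd 12725 = n18612 := ndS (p := 12154) (l := 5) rfl N12154 D18612
theorem N12726 : nd 12726 = n18613 := ndS (p := 12155) (l := 0) rfl N12155 D18613
theorem N12727 : nd 12727 = n18614 := ndS (p := 12155) (l := 4) rfl N12155 D18614
theorem N12728 : nd 12728 = n18615 := ndS (p := 12156) (l := 3) rfl N12156 D18615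
theorem N12729 : nd 12729 = n18616 := ndS (p := 12156) (l := 5) rfl N12156 D18616
theorem N12730 : nd 12730 = n18617 := ndS (p := 12157) (l := 6) rfl N12157 D18617
theorem N12731 : nd 12731 = n18618 := ndS (p := 12158) (l := 5) rfl N12158 D18618
theorem N12732 : nd 12732 = n18619 := ndS (p := 12159) (l := 6) rfl N12159 D18619
theorem N12733 : nd 12733 = n18620 := ndS (p := 12161) (l := 5) rfl N12161 D18620
theorem N12734 : nd 12734 = n18621 := ndS (p := 12162) (l := 6) rfl N12162 D18621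
theorem N12735 : nd 12735 = n18622 := ndS (p := 12163) (l := 0) rfl N12163 D18622
theorem N12736 : nd 12736 = n18623 := ndS (p := 12163) (l := 4) rfl N12163 D18623
theorem N12737 : nd 12737 = n18624 := ndS (p := 12164) (l := 3) rfl N12164 D18624
theorem N12738 : nd 12738 = n18625 := ndS (p := 12164) (l := 5) rfl N12164 D18625
theorem N12739 : nd 12739 = n18626 := ndS (p := 12165) (l := 6) rfl N12165 D18626
theorem N12740 : nd 12740 = n18627 := ndS (p := 12166) (l := 4) rfl N12166 D18627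
theorem N12741 : nd 12741 = n18628 := ndS (p := 12167) (l := 5) rfl N12167 D18628
theorem N12742 : nd 12742 = n18629 := ndS (p := 12168) (l := 6) rfl N12168 D18629
theorem N12743 : nd 12743 = n18630 := ndS (p := 12171) (l := 3) rfl N12171 D18630
theorem N12744 : nd 12744 = n18631 := ndS (p := 12174) (l := 6) rfl N12174 D18631
theorem N12745 : nd 12745 = n18632 := ndS (p := 12176) (l := 6) rfl N12176 D18632
theorem N12746 : nd 12746 = n18633 := ndS (p := 12178) (l := 6) rfl N12178 D18633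
theorem N12747 : nd 12747 = n18634 := ndS (p := 12181) (l := 5) rfl N12181 D18634
theorem N12748 : nd 12748 = n18635 := ndS (p := 12182) (l := 5) rfl N12182 D18635
theorem N12749 : nd 12749 = n18636 := ndS (p := 12183) (l := 6) rfl N12183 D18636
theorem N12750 : nd 12750 = n18637 := ndS (p := 12184) (l := 6) rfl N12184 D18637
theorem N12751 : nd 12751 = n18638 := ndS (p := 12187) (l := 3) rfl N12187 D18638
theorem N12752 : nd 12752 = n18639 := ndS (p := 12187) (l := 5) rfl N12187 D18639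
theorem N12753 : nd 12753 = n18640 := ndS (p := 12188) (l := 6) rfl N12188 D18640
theorem N12754 : nd 12754 = n18641 := ndS (p := 12189) (l := 6) rfl N12189 D18641
theorem N12755 : nd 12755 = n18642 := ndS (p := 12191) (l := 3) rfl N12191 D18642
theorem N12756 : nd 12756 = n18643 := ndS (p := 12191) (l := 5) rfl N12191 D18643
theorem N12757 : nd 12757 = n18644 := ndS (p := 12192) (l := 6) rfl N12192 D18644
theorem N12758 : nd 12758 = n18645 := ndS (p := 12193) (l := 6) rfl N12193 D18645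
theorem N12759 : nd 12759 = n18646 := ndS (p := 12195) (l := 6) rfl N12195 D18646
theorem N12760 : nd 12760 = n18647 := ndS (p := 12195) (l := 7) rfl N12195 D18647
theorem N12761 : nd 12761 = n18648 := ndS (p := 12196) (l := 8) rfl N12196 D18648
theorem N12762 : nd 12762 = n18649 := ndS (p := 12198) (l := 6) rfl N12198 D18649
theorem N12763 : nd 12763 = n18650 := ndS (p := 12199) (l := 6) rfl N12199 D18650
theorem N12764 : nd 12764 = n18651 := ndS (p := 12202) (l := 4) rfl N12202 D18651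
theorem N12765 : nd 12765 = n18652 := ndS (p := 12203) (l := 5) rfl N12203 D18652
theorem N12766 : nd 12766 = n18653 := ndS (p := 12204) (l := 3) rfl N12204 D18653
theorem N12767 : nd 12767 = n18654 := ndS (p := 12204) (l := 5) rfl N12204 D18654
theorem N12768 : nd 12768 = n18655 := ndS (p := 12205) (l := 6) rfl N12205 D18655
theorem N12769 : nd 12769 = n18656 := ndS (p := 12206) (l := 6) rfl N12206 D18656
theorem N12770 : nd 12770 = n18657 := ndS (p := 12209) (l := 4) rfl N12209 D18657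
theorem N12771 : nd 12771 = n18658 := ndS (p := 12210) (l := 5) rfl N12210 D18658
theorem N12772 : nd 12772 = n18659 := ndS (p := 12211) (l := 4) rfl N12211 D18659
theorem N12773 : nd 12773 = n18660 := ndS (p := 12212) (l := 5) rfl N12212 D18660
theorem N12774 : nd 12774 = n18661 := ndS (p := 12213) (l := 3) rfl N12213 D18661
theorem N12775 : nd 12775 = n18662 := ndS (p := 12213) (l := 5) rfl N12213 D18662
theorem N12776 : nd 12776 = n18663 := ndS (p := 12214) (l := 6) rfl N12214 D18663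
theorem N12777 : nd 12777 = n18664 := ndS (p := 12215) (l := 3) rfl N12215 D18664
theorem N12778 : nd 12778 = n18665 := ndS (p := 12215) (l := 5) rfl N12215 D18665
theorem N12779 : nd 12779 = n18666 := ndS (p := 12216) (l := 6) rfl N12216 D18666
theorem N12780 : nd 12780 = n18667 := ndS (p := 12217) (l := 5) rfl N12217 D18667
theorem N12781 : nd 12781 = n18668 := ndS (p := 12218) (l := 6) rfl N12218 D18668
theorem N12782 : nd 12782 = n18669 := ndS (p := 12220) (l := 6) rfl N12220 D18669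
theorem N12783 : nd 12783 = n18670 := ndS (p := 12223) (l := 7) rfl N12223 D18670
theorem N12784 : nd 12784 = n18671 := ndS (p := 12224) (l := 8) rfl N12224 D18671
theorem N12785 : nd 12785 = n18672 := ndS (p := 12226) (l := 6) rfl N12226 D18672
theorem N12786 : nd 12786 = n18673 := ndS (p := 12227) (l := 6) rfl N12227 D18673
theorem N12787 : nd 12787 = n18674 := ndS (p := 12228) (l := 6) rfl N12228 D18674
theorem N12788 : nd 12788 = n18675 := ndS (p := 12229) (l := 6) rfl N12229 D18675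
theorem N12789 : nd 12789 = n18676 := ndS (p := 12231) (l := 5) rfl N12231 D18676
theorem N12790 : nd 12790 = n18677 := ndS (p := 12232) (l := 6) rfl N12232 D18677
theorem N12791 : nd 12791 = n18678 := ndS (p := 12234) (l := 6) rfl N12234 D18678
theorem N12792 : nd 12792 = n18679 := ndS (p := 12240) (l := 6) rfl N12240 D18679
theorem N12793 : nd 12793 = n18680 := ndS (p := 12242) (l := 3) rfl N12242 D18680
theorem N12794 : nd 12794 = n18681 := ndS (p := 12242) (l := 5) rfl N12242 D18681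
theorem N12795 : nd 12795 = n18682 := ndS (p := 12243) (l := 6) rfl N12243 D18682
theorem N12796 : nd 12796 = n18683 := ndS (p := 12244) (l := 3) rfl N12244 D18683
theorem N12797 : nd 12797 = n18684 := ndS (p := 12244) (l := 5) rfl N12244 D18684
theorem N12798 : nd 12798 = n18685 := ndS (p := 12245) (l := 6) rfl N12245 D18685
theorem N12799 : nd 12799 = n18686 := ndS (p := 12246) (l := 5) rfl N12246 D18686
theorem N12800 : nd 12800 = n18687 := ndS (p := 12247) (l := 6) rfl N12247 D18687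
theorem N12801 : nd 12801 = n18688 := ndS (p := 12249) (l := 6) rfl N12249 D18688
theorem N12802 : nd 12802 = n18689 := ndS (p := 12252) (l := 6) rfl N12252 D18689
theorem N12803 : nd 12803 = n18690 := ndS (p := 12253) (l := 6) rfl N12253 D18690
theorem N12804 : nd 12804 = n18691 := ndS (p := 12256) (l := 4) rfl N12256 D18691
theorem N12805 : nd 12805 = n18692 := ndS (p := 12257) (l := 5) rfl N12257 D18692
theorem N12806 : nd 12806 = n18693 := ndS (p := 12258) (l := 6) rfl N12258 D18693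
theorem N12807 : nd 12807 = n18694 := ndS (p := 12260) (l := 5) rfl N12260 D18694
theorem N12808 : nd 12808 = n18695 := ndS (p := 12261) (l := 6) rfl N12261 D18695
theorem N12809 : nd 12809 = n18696 := ndS (p := 12263) (l := 5) rfl N12263 D18696
theorem N12810 : nd 12810 = n18697 := ndS (p := 12264) (l := 1) rfl N12264 D18697
theorem N12811 : nd 12811 = n18698 := ndS (p := 12264) (l := 4) rfl N12264 D18698
theorem N12812 : nd 12812 = n18699 := ndS (p := 12265) (l := 5) rfl N12265 D18699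
theorem N12813 : nd 12813 = n18700 := ndS (p := 12266) (l := 0) rfl N12266 D18700
theorem N12814 : nd 12814 = n18701 := ndS (p := 12266) (l := 4) rfl N12266 D18701
theorem N12815 : nd 12815 = n18702 := ndS (p := 12267) (l := 3) rfl N12267 D18702
theorem N12816 : nd 12816 = n18703 := ndS (p := 12267) (l := 5) rfl N12267 D18703
theorem N12817 : nd 12817 = n18704 := ndS (p := 12268) (l := 6) rfl N12268 D18704
theorem N12818 : nd 12818 = n18705 := ndS (p := 12269) (l := 6) rfl N12269 D18705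
theorem N12819 : nd 12819 = n18706 := ndS (p := 12270) (l := 4) rfl N12270 D18706
theorem N12820 : nd 12820 = n18707 := ndS (p := 12271) (l := 5) rfl N12271 D18707
theorem N12821 : nd 12821 = n18708 := ndS (p := 12272) (l := 6) rfl N12272 D18708
theorem N12822 : nd 12822 = n18709 := ndS (p := 12274) (l := 5) rfl N12274 D18709
theorem N12823 : nd 12823 = n18710 := ndS (p := 12275) (l := 1) rfl N12275 D18710
theorem N12824 : nd 12824 = n18711 := ndS (p := 12275) (l := 4) rfl N12275 D18711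
theorem N12825 : nd 12825 = n18712 := ndS (p := 12276) (l := 5) rfl N12276 D18712
theorem N12826 : nd 12826 = n18713 := ndS (p := 12277) (l := 4) rfl N12277 D18713
theorem N12827 : nd 12827 = n18714 := ndS (p := 12278) (l := 3) rfl N12278 D18714
theorem N12828 : nd 12828 = n18715 := ndS (p := 12278) (l := 5) rfl N12278 D18715
theorem N12829 : nd 12829 = n18716 := ndS (p := 12279) (l := 6) rfl N12279 D18716
theorem N12830 : nd 12830 = n18717 := ndS (p := 12280) (l := 0) rfl N12280 D18717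
theorem N12831 : nd 12831 = n18718 := ndS (p := 12280) (l := 4) rfl N12280 D18718
theorem N12832 : nd 12832 = n18719 := ndS (p := 12281) (l := 5) rfl N12281 D18719
theorem N12833 : nd 12833 = n18720 := ndS (p := 12282) (l := 6) rfl N12282 D18720
theorem N12834 : nd 12834 = n18721 := ndS (p := 12283) (l := 4) rfl N12283 D18721
theorem N12835 : nd 12835 = n18722 := ndS (p := 12284) (l := 5) rfl N12284 D18722
theorem N12836 : nd 12836 = n18723 := ndS (p := 12285) (l := 6) rfl N12285 D18723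
theorem N12837 : nd 12837 = n18724 := ndS (p := 12287) (l := 5) rfl N12287 D18724
theorem N12838 : nd 12838 = n18725 := ndS (p := 12288) (l := 6) rfl N12288 D18725
theorem N12839 : nd 12839 = n18726 := ndS (p := 12290) (l := 5) rfl N12290 D18726
theorem N12840 : nd 12840 = n18727 := ndS (p := 12291) (l := 5) rfl N12291 D18727
theorem N12841 : nd 12841 = n18728 := ndS (p := 12292) (l := 6) rfl N12292 D18728
theorem N12842 : nd 12842 = n18729 := ndS (p := 12294) (l := 5) rfl N12294 D18729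
theorem N12843 : nd 12843 = n18730 := ndS (p := 12295) (l := 6) rfl N12295 D18730
theorem N12844 : nd 12844 = n18731 := ndS (p := 12297) (l := 1) rfl N12297 D18731
theorem N12845 : nd 12845 = n18732 := ndS (p := 12297) (l := 4) rfl N12297 D18732
theorem N12846 : nd 12846 = n18733 := ndS (p := 12298) (l := 5) rfl N12298 D18733
theorem N12847 : nd 12847 = n18734 := ndS (p := 12299) (l := 4) rfl N12299 D18734
theorem N12848 : nd 12848 = n18735 := ndS (p := 12300) (l := 3) rfl N12300 D18735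
theorem N12849 : nd 12849 = n18736 := ndS (p := 12300) (l := 5) rfl N12300 D18736
theorem N12850 : nd 12850 = n18737 := ndS (p := 12301) (l := 6) rfl N12301 D18737
theorem N12851 : nd 12851 = n18738 := ndS (p := 12302) (l := 5) rfl N12302 D18738
theorem N12852 : nd 12852 = n18739 := ndS (p := 12303) (l := 6) rfl N12303 D18739
theorem N12853 : nd 12853 = n18740 := ndS (p := 12305) (l := 4) rfl N12305 D18740
theorem N12854 : nd 12854 = n18741 := ndS (p := 12306) (l := 5) rfl N12306 D18741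
theorem N12855 : nd 12855 = n18742 := ndS (p := 12307) (l := 5) rfl N12307 D18742
theorem N12856 : nd 12856 = n18743 := ndS (p := 12308) (l := 3) rfl N12308 D18743
theorem N12857 : nd 12857 = n18744 := ndS (p := 12308) (l := 5) rfl N12308 D18744
theorem N12858 : nd 12858 = n18745 := ndS (p := 12309) (l := 6) rfl N12309 D18745
theorem N12859 : nd 12859 = n18746 := ndS (p := 12310) (l := 3) rfl N12310 D18746
theorem N12860 : nd 12860 = n18747 := ndS (p := 12310) (l := 5) rfl N12310 D18747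
theorem N12861 : nd 12861 = n18748 := ndS (p := 12311) (l := 6) rfl N12311 D18748
theorem N12862 : nd 12862 = n18749 := ndS (p := 12312) (l := 5) rfl N12312 D18749
theorem N12863 : nd 12863 = n18750 := ndS (p := 12313) (l := 6) rfl N12313 D18750
theorem N12864 : nd 12864 = n18751 := ndS (p := 12315) (l := 6) rfl N12315 D18751
theorem N12865 : nd 12865 = n18752 := ndS (p := 12318) (l := 5) rfl N12318 D18752
theorem N12866 : nd 12866 = n18753 := ndS (p := 12319) (l := 6) rfl N12319 D18753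
theorem N12867 : nd 12867 = n18754 := ndS (p := 12320) (l := 6) rfl N12320 D18754
theorem N12868 : nd 12868 = n18755 := ndS (p := 12321) (l := 6) rfl N12321 D18755
theorem N12869 : nd 12869 = n18756 := ndS (p := 12325) (l := 5) rfl N12325 D18756
theorem N12870 : nd 12870 = n18757 := ndS (p := 12326) (l := 6) rfl N12326 D18757
theorem N12871 : nd 12871 = n18758 := ndS (p := 12327) (l := 6) rfl N12327 D18758
theorem N12872 : nd 12872 = n18759 := ndS (p := 12328) (l := 6) rfl N12328 D18759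
theorem N12873 : nd 12873 = n18760 := ndS (p := 12332) (l := 4) rfl N12332 D18760
theorem N12874 : nd 12874 = n18761 := ndS (p := 12333) (l := 5) rfl N12333 D18761
theorem N12875 : nd 12875 = n18762 := ndS (p := 12334) (l := 5) rfl N12334 D18762
theorem N12876 : nd 12876 = n18763 := ndS (p := 12335) (l := 5) rfl N12335 D18763
theorem N12877 : nd 12877 = n18764 := ndS (p := 12336) (l := 6) rfl N12336 D18764
theorem N12878 : nd 12878 = n18765 := ndS (p := 12337) (l := 4) rfl N12337 D18765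
theorem N12879 : nd 12879 = n18766 := ndS (p := 12338) (l := 5) rfl N12338 D18766
theorem N12880 : nd 12880 = n18767 := ndS (p := 12339) (l := 6) rfl N12339 D18767
theorem N12881 : nd 12881 = n18768 := ndS (p := 12340) (l := 5) rfl N12340 D18768
theorem N12882 : nd 12882 = n18769 := ndS (p := 12341) (l := 6) rfl N12341 D18769
theorem N12883 : nd 12883 = n18770 := ndS (p := 12343) (l := 6) rfl N12343 D18770
theorem N12884 : nd 12884 = n18771 := ndS (p := 12345) (l := 6) rfl N12345 D18771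
theorem N12885 : nd 12885 = n18772 := ndS (p := 12347) (l := 5) rfl N12347 D18772
theorem N12886 : nd 12886 = n18773 := ndS (p := 12348) (l := 6) rfl N12348 D18773
theorem N12887 : nd 12887 = n18774 := ndS (p := 12349) (l := 6) rfl N12349 D18774
theorem N12888 : nd 12888 = n18775 := ndS (p := 12350) (l := 6) rfl N12350 D18775
theorem N12889 : nd 12889 = n18776 := ndS (p := 12351) (l := 6) rfl N12351 D18776
theorem N12890 : nd 12890 = n18777 := ndS (p := 12353) (l := 5) rfl N12353 D18777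
theorem N12891 : nd 12891 = n18778 := ndS (p := 12354) (l := 6) rfl N12354 D18778
theorem N12892 : nd 12892 = n18779 := ndS (p := 12356) (l := 5) rfl N12356 D18779
theorem N12893 : nd 12893 = n18780 := ndS (p := 12357) (l := 6) rfl N12357 D18780
theorem N12894 : nd 12894 = n18781 := ndS (p := 12358) (l := 6) rfl N12358 D18781
theorem N12895 : nd 12895 = n18782 := ndS (p := 12363) (l := 6) rfl N12363 D18782
theorem N12896 : nd 12896 = n18783 := ndS (p := 12373) (l := 0) rfl N12373 D18783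
theorem N12897 : nd 12897 = n18784 := ndS (p := 12373) (l := 4) rfl N12373 D18784
theorem N12898 : nd 12898 = n18785 := ndS (p := 12374) (l := 3) rfl N12374 D18785
theorem N12899 : nd 12899 = n18786 := ndS (p := 12374) (l := 5) rfl N12374 D18786
theorem N12900 : nd 12900 = n18787 := ndS (p := 12375) (l := 6) rfl N12375 D18787
theorem N12901 : nd 12901 = n18788 := ndS (p := 12376) (l := 5) rfl N12376 D18788
theorem N12902 : nd 12902 = n18789 := ndS (p := 12376) (l := 7) rfl N12376 D18789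
theorem N12903 : nd 12903 = n18790 := ndS (p := 12377) (l := 6) rfl N12377 D18790
theorem N12904 : nd 12904 = n18791 := ndS (p := 12379) (l := 0) rfl N12379 D18791
theorem N12905 : nd 12905 = n18792 := ndS (p := 12379) (l := 4) rfl N12379 D18792
theorem N12906 : nd 12906 = n18793 := ndS (p := 12380) (l := 3) rfl N12380 D18793
theorem N12907 : nd 12907 = n18794 := ndS (p := 12380) (l := 5) rfl N12380 D18794
theorem N12908 : nd 12908 = n18795 := ndS (p := 12381) (l := 6) rfl N12381 D18795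
theorem N12909 : nd 12909 = n18796 := ndS (p := 12382) (l := 0) rfl N12382 D18796
theorem N12910 : nd 12910 = n18797 := ndS (p := 12382) (l := 4) rfl N12382 D18797
theorem N12911 : nd 12911 = n18798 := ndS (p := 12383) (l := 3) rfl N12383 D18798
theorem N12912 : nd 12912 = n18799 := ndS (p := 12383) (l := 5) rfl N12383 D18799
theorem N12913 : nd 12913 = n18800 := ndS (p := 12384) (l := 6) rfl N12384 D18800
theorem N12914 : nd 12914 = n18801 := ndS (p := 12385) (l := 4) rfl N12385 D18801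
theorem N12915 : nd 12915 = n18802 := ndS (p := 12386) (l := 5) rfl N12386 D18802
theorem N12916 : nd 12916 = n18803 := ndS (p := 12387) (l := 6) rfl N12387 D18803
theorem N12917 : nd 12917 = n18804 := ndS (p := 12390) (l := 3) rfl N12390 D18804
theorem N12918 : nd 12918 = n18805 := ndS (p := 12392) (l := 6) rfl N12392 D18805
theorem N12919 : nd 12919 = n18806 := ndS (p := 12392) (l := 7) rfl N12392 D18806
theorem N12920 : nd 12920 = n18807 := ndS (p := 12393) (l := 8) rfl N12393 D18807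
theorem N12921 : nd 12921 = n18808 := ndS (p := 12395) (l := 4) rfl N12395 D18808
theorem N12922 : nd 12922 = n18809 := ndS (p := 12396) (l := 3) rfl N12396 D18809
theorem N12923 : nd 12923 = n18810 := ndS (p := 12396) (l := 5) rfl N12396 D18810
theorem N12924 : nd 12924 = n18811 := ndS (p := 12397) (l := 6) rfl N12397 D18811
theorem N12925 : nd 12925 = n18812 := ndS (p := 12398) (l := 3) rfl N12398 D18812
theorem N12926 : nd 12926 = n18813 := ndS (p := 12398) (l := 5) rfl N12398 D18813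
theorem N12927 : nd 12927 = n18814 := ndS (p := 12399) (l := 5) rfl N12399 D18814
theorem N12928 : nd 12928 = n18815 := ndS (p := 12400) (l := 6) rfl N12400 D18815
theorem N12929 : nd 12929 = n18816 := ndS (p := 12402) (l := 6) rfl N12402 D18816
theorem N12930 : nd 12930 = n18817 := ndS (p := 12404) (l := 4) rfl N12404 D18817
theorem N12931 : nd 12931 = n18818 := ndS (p := 12405) (l := 3) rfl N12405 D18818
theorem N12932 : nd 12932 = n18819 := ndS (p := 12405) (l := 5) rfl N12405 D18819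
theorem N12933 : nd 12933 = n18820 := ndS (p := 12406) (l := 6) rfl N12406 D18820
theorem N12934 : nd 12934 = n18821 := ndS (p := 12407) (l := 3) rfl N12407 D18821
theorem N12935 : nd 12935 = n18822 := ndS (p := 12407) (l := 5) rfl N12407 D18822
theorem N12936 : nd 12936 = n18823 := ndS (p := 12408) (l := 5) rfl N12408 D18823
theorem N12937 : nd 12937 = n18824 := ndS (p := 12408) (l := 7) rfl N12408 D18824
theorem N12938 : nd 12938 = n18825 := ndS (p := 12409) (l := 6) rfl N12409 D18825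
theorem N12939 : nd 12939 = n18826 := ndS (p := 12411) (l := 6) rfl N12411 D18826
theorem N12940 : nd 12940 = n18827 := ndS (p := 12412) (l := 6) rfl N12412 D18827
theorem N12941 : nd 12941 = n18828 := ndS (p := 12412) (l := 7) rfl N12412 D18828
theorem N12942 : nd 12942 = n18829 := ndS (p := 12413) (l := 8) rfl N12413 D18829
theorem N12943 : nd 12943 = n18830 := ndS (p := 12415) (l := 6) rfl N12415 D18830
theorem N12944 : nd 12944 = n18831 := ndS (p := 12415) (l := 7) rfl N12415 D18831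
theorem N12945 : nd 12945 = n18832 := ndS (p := 12416) (l := 7) rfl N12416 D18832
theorem N12946 : nd 12946 = n18833 := ndS (p := 12417) (l := 8) rfl N12417 D18833
theorem N12947 : nd 12947 = n18834 := ndS (p := 12419) (l := 6) rfl N12419 D18834
theorem N12948 : nd 12948 = n18835 := ndS (p := 12420) (l := 5) rfl N12420 D18835
theorem N12949 : nd 12949 = n18836 := ndS (p := 12421) (l := 6) rfl N12421 D18836
theorem N12950 : nd 12950 = n18837 := ndS (p := 12422) (l := 6) rfl N12422 D18837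
theorem N12951 : nd 12951 = n18838 := ndS (p := 12424) (l := 4) rfl N12424 D18838
theorem N12952 : nd 12952 = n18839 := ndS (p := 12425) (l := 3) rfl N12425 D18839
theorem N12953 : nd 12953 = n18840 := ndS (p := 12425) (l := 5) rfl N12425 D18840
theorem N12954 : nd 12954 = n18841 := ndS (p := 12426) (l := 5) rfl N12426 D18841
theorem N12955 : nd 12955 = n18842 := ndS (p := 12427) (l := 6) rfl N12427 D18842
theorem N12956 : nd 12956 = n18843 := ndS (p := 12429) (l := 3) rfl N12429 D18843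
theorem N12957 : nd 12957 = n18844 := ndS (p := 12430) (l := 5) rfl N12430 D18844
theorem N12958 : nd 12958 = n18845 := ndS (p := 12431) (l := 6) rfl N12431 D18845
theorem N12959 : nd 12959 = n18846 := ndS (p := 12432) (l := 6) rfl N12432 D18846
theorem N12960 : nd 12960 = n18847 := ndS (p := 12436) (l := 3) rfl N12436 D18847
theorem N12961 : nd 12961 = n18848 := ndS (p := 12441) (l := 3) rfl N12441 D18848
theorem N12962 : nd 12962 = n18849 := ndS (p := 12441) (l := 5) rfl N12441 D18849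
theorem N12963 : nd 12963 = n18850 := ndS (p := 12442) (l := 6) rfl N12442 D18850
theorem N12964 : nd 12964 = n18851 := ndS (p := 12443) (l := 0) rfl N12443 D18851
theorem N12965 : nd 12965 = n18852 := ndS (p := 12443) (l := 4) rfl N12443 D18852
theorem N12966 : nd 12966 = n18853 := ndS (p := 12444) (l := 3) rfl N12444 D18853
theorem N12967 : nd 12967 = n18854 := ndS (p := 12444) (l := 5) rfl N12444 D18854
theorem N12968 : nd 12968 = n18855 := ndS (p := 12445) (l := 6) rfl N12445 D18855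
theorem N12969 : nd 12969 = n18856 := ndS (p := 12446) (l := 4) rfl N12446 D18856
theorem N12970 : nd 12970 = n18857 := ndS (p := 12447) (l := 3) rfl N12447 D18857
theorem N12971 : nd 12971 = n18858 := ndS (p := 12447) (l := 5) rfl N12447 D18858
theorem N12972 : nd 12972 = n18859 := ndS (p := 12448) (l := 5) rfl N12448 D18859
theorem N12973 : nd 12973 = n18860 := ndS (p := 12449) (l := 6) rfl N12449 D18860
theorem N12974 : nd 12974 = n18861 := ndS (p := 12451) (l := 5) rfl N12451 D18861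
theorem N12975 : nd 12975 = n18862 := ndS (p := 12452) (l := 6) rfl N12452 D18862
theorem N12976 : nd 12976 = n18863 := ndS (p := 12453) (l := 4) rfl N12453 D18863
theorem N12977 : nd 12977 = n18864 := ndS (p := 12454) (l := 5) rfl N12454 D18864
theorem N12978 : nd 12978 = n18865 := ndS (p := 12455) (l := 5) rfl N12455 D18865
theorem N12979 : nd 12979 = n18866 := ndS (p := 12456) (l := 6) rfl N12456 D18866
theorem N12980 : nd 12980 = n18867 := ndS (p := 12458) (l := 5) rfl N12458 D18867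
theorem N12981 : nd 12981 = n18868 := ndS (p := 12459) (l := 6) rfl N12459 D18868
theorem N12982 : nd 12982 = n18869 := ndS (p := 12461) (l := 3) rfl N12461 D18869
theorem N12983 : nd 12983 = n18870 := ndS (p := 12461) (l := 5) rfl N12461 D18870
theorem N12984 : nd 12984 = n18871 := ndS (p := 12462) (l := 6) rfl N12462 D18871
theorem N12985 : nd 12985 = n18872 := ndS (p := 12463) (l := 3) rfl N12463 D18872
theorem N12986 : nd 12986 = n18873 := ndS (p := 12463) (l := 5) rfl N12463 D18873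
theorem N12987 : nd 12987 = n18874 := ndS (p := 12464) (l := 6) rfl N12464 D18874
theorem N12988 : nd 12988 = n18875 := ndS (p := 12465) (l := 5) rfl N12465 D18875
theorem N12989 : nd 12989 = n18876 := ndS (p := 12466) (l := 6) rfl N12466 D18876
theorem N12990 : nd 12990 = n18877 := ndS (p := 12468) (l := 5) rfl N12468 D18877
theorem N12991 : nd 12991 = n18878 := ndS (p := 12468) (l := 7) rfl N12468 D18878
theorem N12992 : nd 12992 = n18879 := ndS (p := 12469) (l := 6) rfl N12469 D18879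
theorem N12993 : nd 12993 = n18880 := ndS (p := 12471) (l := 4) rfl N12471 D18880
theorem N12994 : nd 12994 = n18881 := ndS (p := 12471) (l := 6) rfl N12471 D18881
theorem N12995 : nd 12995 = n18882 := ndS (p := 12474) (l := 6) rfl N12474 D18882
theorem N12996 : nd 12996 = n18883 := ndS (p := 12476) (l := 6) rfl N12476 D18883
theorem N12997 : nd 12997 = n18884 := ndS (p := 12478) (l := 5) rfl N12478 D18884
theorem N12998 : nd 12998 = n18885 := ndS (p := 12479) (l := 5) rfl N12479 D18885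
theorem N12999 : nd 12999 = n18886 := ndS (p := 12480) (l := 6) rfl N12480 D18886
theorem N13000 : nd 13000 = n18887 := ndS (p := 12482) (l := 6) rfl N12482 D18887
theorem N13001 : nd 13001 = n18888 := ndS (p := 12483) (l := 6) rfl N12483 D18888
theorem N13002 : nd 13002 = n18889 := ndS (p := 12485) (l := 3) rfl N12485 D18889
theorem N13003 : nd 13003 = n18890 := ndS (p := 12485) (l := 5) rfl N12485 D18890
theorem N13004 : nd 13004 = n18891 := ndS (p := 12486) (l := 5) rfl N12486 D18891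
theorem N13005 : nd 13005 = n18892 := ndS (p := 12486) (l := 7) rfl N12486 D18892
theorem N13006 : nd 13006 = n18893 := ndS (p := 12487) (l := 6) rfl N12487 D18893
theorem N13007 : nd 13007 = n18894 := ndS (p := 12488) (l := 6) rfl N12488 D18894
theorem N13008 : nd 13008 = n18895 := ndS (p := 12488) (l := 7) rfl N12488 D18895
theorem N13009 : nd 13009 = n18896 := ndS (p := 12491) (l := 5) rfl N12491 D18896
theorem N13010 : nd 13010 = n18897 := ndS (p := 12492) (l := 6) rfl N12492 D18897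
theorem N13011 : nd 13011 = n18898 := ndS (p := 12493) (l := 6) rfl N12493 D18898
theorem N13012 : nd 13012 = n18899 := ndS (p := 12498) (l := 7) rfl N12498 D18899
theorem N13013 : nd 13013 = n18900 := ndS (p := 12501) (l := 7) rfl N12501 D18900
theorem N13014 : nd 13014 = n18901 := ndS (p := 12503) (l := 3) rfl N12503 D18901
theorem N13015 : nd 13015 = n18902 := ndS (p := 12503) (l := 5) rfl N12503 D18902
theorem N13016 : nd 13016 = n18903 := ndS (p := 12504) (l := 6) rfl N12504 D18903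
theorem N13017 : nd 13017 = n18904 := ndS (p := 12505) (l := 4) rfl N12505 D18904
theorem N13018 : nd 13018 = n18905 := ndS (p := 12506) (l := 3) rfl N12506 D18905
theorem N13019 : nd 13019 = n18906 := ndS (p := 12506) (l := 5) rfl N12506 D18906
theorem N13020 : nd 13020 = n18907 := ndS (p := 12507) (l := 6) rfl N12507 D18907
theorem N13021 : nd 13021 = n18908 := ndS (p := 12508) (l := 5) rfl N12508 D18908
theorem N13022 : nd 13022 = n18909 := ndS (p := 12508) (l := 7) rfl N12508 D18909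
theorem N13023 : nd 13023 = n18910 := ndS (p := 12509) (l := 6) rfl N12509 D18910
theorem N13024 : nd 13024 = n18911 := ndS (p := 12511) (l := 4) rfl N12511 D18911
theorem N13025 : nd 13025 = n18912 := ndS (p := 12512) (l := 3) rfl N12512 D18912
theorem N13026 : nd 13026 = n18913 := ndS (p := 12512) (l := 5) rfl N12512 D18913
theorem N13027 : nd 13027 = n18914 := ndS (p := 12513) (l := 6) rfl N12513 D18914
theorem N13028 : nd 13028 = n18915 := ndS (p := 12514) (l := 4) rfl N12514 D18915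
theorem N13029 : nd 13029 = n18916 := ndS (p := 12515) (l := 3) rfl N12515 D18916
theorem N13030 : nd 13030 = n18917 := ndS (p := 12515) (l := 5) rfl N12515 D18917
theorem N13031 : nd 13031 = n18918 := ndS (p := 12516) (l := 6) rfl N12516 D18918
theorem N13032 : nd 13032 = n18919 := ndS (p := 12517) (l := 4) rfl N12517 D18919
theorem N13033 : nd 13033 = n18920 := ndS (p := 12518) (l := 5) rfl N12518 D18920
theorem N13034 : nd 13034 = n18921 := ndS (p := 12519) (l := 6) rfl N12519 D18921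
theorem N13035 : nd 13035 = n18922 := ndS (p := 12521) (l := 7) rfl N12521 D18922
theorem N13036 : nd 13036 = n18923 := ndS (p := 12523) (l := 6) rfl N12523 D18923
theorem N13037 : nd 13037 = n18924 := ndS (p := 12525) (l := 3) rfl N12525 D18924
theorem N13038 : nd 13038 = n18925 := ndS (p := 12525) (l := 5) rfl N12525 D18925
theorem N13039 : nd 13039 = n18926 := ndS (p := 12526) (l := 6) rfl N12526 D18926
theorem N13040 : nd 13040 = n18927 := ndS (p := 12527) (l := 6) rfl N12527 D18927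
theorem N13041 : nd 13041 = n18928 := ndS (p := 12529) (l := 6) rfl N12529 D18928
theorem N13042 : nd 13042 = n18929 := ndS (p := 12531) (l := 6) rfl N12531 D18929
theorem N13043 : nd 13043 = n18930 := ndS (p := 12533) (l := 6) rfl N12533 D18930
theorem N13044 : nd 13044 = n18931 := ndS (p := 12533) (l := 7) rfl N12533 D18931
theorem N13045 : nd 13045 = n18932 := ndS (p := 12536) (l := 3) rfl N12536 D18932
theorem N13046 : nd 13046 = n18933 := ndS (p := 12536) (l := 5) rfl N12536 D18933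
theorem N13047 : nd 13047 = n18934 := ndS (p := 12537) (l := 6) rfl N12537 D18934
theorem N13048 : nd 13048 = n18935 := ndS (p := 12538) (l := 3) rfl N12538 D18935
theorem N13049 : nd 13049 = n18936 := ndS (p := 12538) (l := 5) rfl N12538 D18936
theorem N13050 : nd 13050 = n18937 := ndS (p := 12539) (l := 6) rfl N12539 D18937
theorem N13051 : nd 13051 = n18938 := ndS (p := 12540) (l := 3) rfl N12540 D18938
theorem N13052 : nd 13052 = n18939 := ndS (p := 12540) (l := 5) rfl N12540 D18939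
theorem N13053 : nd 13053 = n18940 := ndS (p := 12541) (l := 5) rfl N12541 D18940
theorem N13054 : nd 13054 = n18941 := ndS (p := 12542) (l := 6) rfl N12542 D18941
theorem N13055 : nd 13055 = n18942 := ndS (p := 12544) (l := 6) rfl N12544 D18942
theorem N13056 : nd 13056 = n18943 := ndS (p := 12546) (l := 6) rfl N12546 D18943
theorem N13057 : nd 13057 = n18944 := ndS (p := 12549) (l := 6) rfl N12549 D18944
theorem N13058 : nd 13058 = n18945 := ndS (p := 12554) (l := 6) rfl N12554 D18945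
theorem N13059 : nd 13059 = n18946 := ndS (p := 12557) (l := 6) rfl N12557 D18946
theorem N13060 : nd 13060 = n18947 := ndS (p := 12560) (l := 7) rfl N12560 D18947
theorem N13061 : nd 13061 = n18948 := ndS (p := 12562) (l := 6) rfl N12562 D18948
theorem N13062 : nd 13062 = n18949 := ndS (p := 12563) (l := 6) rfl N12563 D18949
theorem N13063 : nd 13063 = n18950 := ndS (p := 12565) (l := 6) rfl N12565 D18950
theorem N13064 : nd 13064 = n18951 := ndS (p := 12567) (l := 5) rfl N12567 D18951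
theorem N13065 : nd 13065 = n18952 := ndS (p := 12568) (l := 6) rfl N12568 D18952
theorem N13066 : nd 13066 = n18953 := ndS (p := 12572) (l := 6) rfl N12572 D18953
theorem N13067 : nd 13067 = n18954 := ndS (p := 12576) (l := 6) rfl N12576 D18954
theorem N13068 : nd 13068 = n18955 := ndS (p := 12578) (l := 6) rfl N12578 D18955
theorem N13069 : nd 13069 = n18956 := ndS (p := 12580) (l := 3) rfl N12580 D18956
theorem N13070 : nd 13070 = n18957 := ndS (p := 12580) (l := 5) rfl N12580 D18957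
theorem N13071 : nd 13071 = n18958 := ndS (p := 12581) (l := 6) rfl N12581 D18958
theorem N13072 : nd 13072 = n18959 := ndS (p := 12582) (l := 3) rfl N12582 D18959
theorem N13073 : nd 13073 = n18960 := ndS (p := 12582) (l := 5) rfl N12582 D18960
theorem N13074 : nd 13074 = n18961 := ndS (p := 12583) (l := 5) rfl N12583 D18961
theorem N13075 : nd 13075 = n18962 := ndS (p := 12584) (l := 6) rfl N12584 D18962
theorem N13076 : nd 13076 = n18963 := ndS (p := 12586) (l := 6) rfl N12586 D18963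
theorem N13077 : nd 13077 = n18964 := ndS (p := 12587) (l := 5) rfl N12587 D18964
theorem N13078 : nd 13078 = n18965 := ndS (p := 12587) (l := 7) rfl N12587 D18965
theorem N13079 : nd 13079 = n18966 := ndS (p := 12588) (l := 6) rfl N12588 D18966
theorem N13080 : nd 13080 = n18967 := ndS (p := 12590) (l := 5) rfl N12590 D18967
theorem N13081 : nd 13081 = n18968 := ndS (p := 12591) (l := 6) rfl N12591 D18968
theorem N13082 : nd 13082 = n18969 := ndS (p := 12594) (l := 3) rfl N12594 D18969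
theorem N13083 : nd 13083 = n18970 := ndS (p := 12594) (l := 5) rfl N12594 D18970
theorem N13084 : nd 13084 = n18971 := ndS (p := 12595) (l := 5) rfl N12595 D18971
theorem N13085 : nd 13085 = n18972 := ndS (p := 12596) (l := 6) rfl N12596 D18972
theorem N13086 : nd 13086 = n18973 := ndS (p := 12598) (l := 6) rfl N12598 D18973
theorem N13087 : nd 13087 = n18974 := ndS (p := 12600) (l := 6) rfl N12600 D18974
theorem N13088 : nd 13088 = n18975 := ndS (p := 12601) (l := 5) rfl N12601 D18975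
theorem N13089 : nd 13089 = n18976 := ndS (p := 12602) (l := 6) rfl N12602 D18976
theorem N13090 : nd 13090 = n18977 := ndS (p := 12603) (l := 6) rfl N12603 D18977
theorem N13091 : nd 13091 = n18978 := ndS (p := 12607) (l := 3) rfl N12607 D18978
theorem N13092 : nd 13092 = n18979 := ndS (p := 12607) (l := 5) rfl N12607 D18979
theorem N13093 : nd 13093 = n18980 := ndS (p := 12608) (l := 6) rfl N12608 D18980
theorem N13094 : nd 13094 = n18981 := ndS (p := 12609) (l := 6) rfl N12609 D18981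
theorem N13095 : nd 13095 = n18982 := ndS (p := 12610) (l := 4) rfl N12610 D18982
theorem N13096 : nd 13096 = n18983 := ndS (p := 12611) (l := 3) rfl N12611 D18983
theorem N13097 : nd 13097 = n18984 := ndS (p := 12611) (l := 5) rfl N12611 D18984
theorem N13098 : nd 13098 = n18985 := ndS (p := 12612) (l := 6) rfl N12612 D18985
theorem N13099 : nd 13099 = n18986 := ndS (p := 12613) (l := 3) rfl N12613 D18986
theorem N13100 : nd 13100 = n18987 := ndS (p := 12613) (l := 5) rfl N12613 D18987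
theorem N13101 : nd 13101 = n18988 := ndS (p := 12614) (l := 5) rfl N12614 D18988
theorem N13102 : nd 13102 = n18989 := ndS (p := 12615) (l := 6) rfl N12615 D18989
theorem N13103 : nd 13103 = n18990 := ndS (p := 12617) (l := 4) rfl N12617 D18990
theorem N13104 : nd 13104 = n18991 := ndS (p := 12618) (l := 3) rfl N12618 D18991
theorem N13105 : nd 13105 = n18992 := ndS (p := 12618) (l := 5) rfl N12618 D18992
theorem N13106 : nd 13106 = n18993 := ndS (p := 12619) (l := 5) rfl N12619 D18993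
theorem N13107 : nd 13107 = n18994 := ndS (p := 12619) (l := 7) rfl N12619 D18994
theorem N13108 : nd 13108 = n18995 := ndS (p := 12620) (l := 6) rfl N12620 D18995
theorem N13109 : nd 13109 = n18996 := ndS (p := 12622) (l := 3) rfl N12622 D18996
theorem N13110 : nd 13110 = n18997 := ndS (p := 12622) (l := 5) rfl N12622 D18997
theorem N13111 : nd 13111 = n18998 := ndS (p := 12623) (l := 5) rfl N12623 D18998
theorem N13112 : nd 13112 = n18999 := ndS (p := 12624) (l := 6) rfl N12624 D18999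
theorem N13113 : nd 13113 = n19000 := ndS (p := 12625) (l := 4) rfl N12625 D19000
theorem N13114 : nd 13114 = n19001 := ndS (p := 12625) (l := 6) rfl N12625 D19001
theorem N13115 : nd 13115 = n19002 := ndS (p := 12628) (l := 6) rfl N12628 D19002
theorem N13116 : nd 13116 = n19003 := ndS (p := 12630) (l := 6) rfl N12630 D19003
theorem N13117 : nd 13117 = n19004 := ndS (p := 12632) (l := 5) rfl N12632 D19004
theorem N13118 : nd 13118 = n19005 := ndS (p := 12633) (l := 6) rfl N12633 D19005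
theorem N13119 : nd 13119 = n19006 := ndS (p := 12636) (l := 3) rfl N12636 D19006
theorem N13120 : nd 13120 = n19007 := ndS (p := 12636) (l := 5) rfl N12636 D19007
theorem N13121 : nd 13121 = n19008 := ndS (p := 12637) (l := 5) rfl N12637 D19008
theorem N13122 : nd 13122 = n19009 := ndS (p := 12638) (l := 6) rfl N12638 D19009
theorem N13123 : nd 13123 = n19010 := ndS (p := 12640) (l := 6) rfl N12640 D19010
theorem N13124 : nd 13124 = n19011 := ndS (p := 12642) (l := 6) rfl N12642 D19011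
theorem N13125 : nd 13125 = n19012 := ndS (p := 12643) (l := 5) rfl N12643 D19012
theorem N13126 : nd 13126 = n19013 := ndS (p := 12644) (l := 5) rfl N12644 D19013
theorem N13127 : nd 13127 = n19014 := ndS (p := 12645) (l := 6) rfl N12645 D19014
theorem N13128 : nd 13128 = n19015 := ndS (p := 12647) (l := 5) rfl N12647 D19015
theorem N13129 : nd 13129 = n19016 := ndS (p := 12648) (l := 6) rfl N12648 D19016
theorem N13130 : nd 13130 = n19017 := ndS (p := 12651) (l := 6) rfl N12651 D19017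
theorem N13131 : nd 13131 = n19018 := ndS (p := 12652) (l := 6) rfl N12652 D19018
theorem N13132 : nd 13132 = n19019 := ndS (p := 12655) (l := 6) rfl N12655 D19019
theorem N13133 : nd 13133 = n19020 := ndS (p := 12656) (l := 3) rfl N12656 D19020
theorem N13134 : nd 13134 = n19021 := ndS (p := 12656) (l := 5) rfl N12656 D19021
theorem N13135 : nd 13135 = n19022 := ndS (p := 12657) (l := 6) rfl N12657 D19022
theorem N13136 : nd 13136 = n19023 := ndS (p := 12658) (l := 5) rfl N12658 D19023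
theorem N13137 : nd 13137 = n19024 := ndS (p := 12659) (l := 6) rfl N12659 D19024
theorem N13138 : nd 13138 = n19025 := ndS (p := 12663) (l := 3) rfl N12663 D19025
theorem N13139 : nd 13139 = n19026 := ndS (p := 12663) (l := 5) rfl N12663 D19026
theorem N13140 : nd 13140 = n19027 := ndS (p := 12664) (l := 6) rfl N12664 D19027
theorem N13141 : nd 13141 = n19028 := ndS (p := 12665) (l := 3) rfl N12665 D19028
theorem N13142 : nd 13142 = n19029 := ndS (p := 12665) (l := 5) rfl N12665 D19029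
theorem N13143 : nd 13143 = n19030 := ndS (p := 12666) (l := 6) rfl N12666 D19030
theorem N13144 : nd 13144 = n19031 := ndS (p := 12667) (l := 3) rfl N12667 D19031
theorem N13145 : nd 13145 = n19032 := ndS (p := 12667) (l := 5) rfl N12667 D19032
theorem N13146 : nd 13146 = n19033 := ndS (p := 12668) (l := 6) rfl N12668 D19033
theorem N13147 : nd 13147 = n19034 := ndS (p := 12669) (l := 5) rfl N12669 D19034
theorem N13148 : nd 13148 = n19035 := ndS (p := 12669) (l := 7) rfl N12669 D19035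
theorem N13149 : nd 13149 = n19036 := ndS (p := 12670) (l := 6) rfl N12670 D19036
theorem N13150 : nd 13150 = n19037 := ndS (p := 12672) (l := 3) rfl N12672 D19037
theorem N13151 : nd 13151 = n19038 := ndS (p := 12672) (l := 5) rfl N12672 D19038
theorem N13152 : nd 13152 = n19039 := ndS (p := 12673) (l := 5) rfl N12673 D19039
theorem N13153 : nd 13153 = n19040 := ndS (p := 12674) (l := 6) rfl N12674 D19040
theorem N13154 : nd 13154 = n19041 := ndS (p := 12676) (l := 2) rfl N12676 D19041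
theorem N13155 : nd 13155 = n19042 := ndS (p := 12676) (l := 5) rfl N12676 D19042
theorem N13156 : nd 13156 = n19043 := ndS (p := 12677) (l := 6) rfl N12677 D19043
theorem N13157 : nd 13157 = n19044 := ndS (p := 12678) (l := 4) rfl N12678 D19044
theorem N13158 : nd 13158 = n19045 := ndS (p := 12678) (l := 6) rfl N12678 D19045
theorem N13159 : nd 13159 = n19046 := ndS (p := 12680) (l := 6) rfl N12680 D19046
theorem N13160 : nd 13160 = n19047 := ndS (p := 12682) (l := 6) rfl N12682 D19047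
theorem N13161 : nd 13161 = n19048 := ndS (p := 12682) (l := 7) rfl N12682 D19048
theorem N13162 : nd 13162 = n19049 := ndS (p := 12683) (l := 8) rfl N12683 D19049
theorem N13163 : nd 13163 = n19050 := ndS (p := 12688) (l := 5) rfl N12688 D19050
theorem N13164 : nd 13164 = n19051 := ndS (p := 12689) (l := 6) rfl N12689 D19051
theorem N13165 : nd 13165 = n19052 := ndS (p := 12691) (l := 6) rfl N12691 D19052
theorem N13166 : nd 13166 = n19053 := ndS (p := 12693) (l := 3) rfl N12693 D19053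
theorem N13167 : nd 13167 = n19054 := ndS (p := 12693) (l := 5) rfl N12693 D19054
theorem N13168 : nd 13168 = n19055 := ndS (p := 12694) (l := 2) rfl N12694 D19055
theorem N13169 : nd 13169 = n19056 := ndS (p := 12694) (l := 5) rfl N12694 D19056
theorem N13170 : nd 13170 = n19057 := ndS (p := 12694) (l := 7) rfl N12694 D19057
theorem N13171 : nd 13171 = n19058 := ndS (p := 12695) (l := 6) rfl N12695 D19058
theorem N13172 : nd 13172 = n19059 := ndS (p := 12696) (l := 6) rfl N12696 D19059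
theorem N13173 : nd 13173 = n19060 := ndS (p := 12696) (l := 7) rfl N12696 D19060
theorem N13174 : nd 13174 = n19061 := ndS (p := 12699) (l := 2) rfl N12699 D19061
theorem N13175 : nd 13175 = n19062 := ndS (p := 12699) (l := 5) rfl N12699 D19062
theorem N13176 : nd 13176 = n19063 := ndS (p := 12700) (l := 6) rfl N12700 D19063
theorem N13177 : nd 13177 = n19064 := ndS (p := 12701) (l := 5) rfl N12701 D19064
theorem N13178 : nd 13178 = n19065 := ndS (p := 12702) (l := 6) rfl N12702 D19065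
theorem N13179 : nd 13179 = n19066 := ndS (p := 12707) (l := 2) rfl N12707 D19066
theorem N13180 : nd 13180 = n19067 := ndS (p := 12707) (l := 7) rfl N12707 D19067
theorem N13181 : nd 13181 = n19068 := ndS (p := 12715) (l := 5) rfl N12715 D19068
theorem N13182 : nd 13182 = n19069 := ndS (p := 12716) (l := 6) rfl N12716 D19069
theorem N13183 : nd 13183 = n19070 := ndS (p := 12719) (l := 3) rfl N12719 D19070
theorem N13184 : nd 13184 = n19071 := ndS (p := 12719) (l := 5) rfl N12719 D19071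
theorem N13185 : nd 13185 = n19072 := ndS (p := 12720) (l := 6) rfl N12720 D19072
theorem N13186 : nd 13186 = n19073 := ndS (p := 12721) (l := 5) rfl N12721 D19073
theorem N13187 : nd 13187 = n19074 := ndS (p := 12722) (l := 6) rfl N12722 D19074
theorem N13188 : nd 13188 = n19075 := ndS (p := 12724) (l := 3) rfl N12724 D19075
theorem N13189 : nd 13189 = n19076 := ndS (p := 12724) (l := 5) rfl N12724 D19076
theorem N13190 : nd 13190 = n19077 := ndS (p := 12725) (l := 6) rfl N12725 D19077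
theorem N13191 : nd 13191 = n19078 := ndS (p := 12726) (l := 4) rfl N12726 D19078
theorem N13192 : nd 13192 = n19079 := ndS (p := 12727) (l := 3) rfl N12727 D19079
theorem N13193 : nd 13193 = n19080 := ndS (p := 12727) (l := 5) rfl N12727 D19080
theorem N13194 : nd 13194 = n19081 := ndS (p := 12728) (l := 5) rfl N12728 D19081
theorem N13195 : nd 13195 = n19082 := ndS (p := 12729) (l := 6) rfl N12729 D19082
theorem N13196 : nd 13196 = n19083 := ndS (p := 12731) (l := 4) rfl N12731 D19083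
theorem N13197 : nd 13197 = n19084 := ndS (p := 12731) (l := 6) rfl N12731 D19084
theorem N13198 : nd 13198 = n19085 := ndS (p := 12733) (l := 6) rfl N12733 D19085
theorem N13199 : nd 13199 = n19086 := ndS (p := 12735) (l := 4) rfl N12735 D19086
theorem N13200 : nd 13200 = n19087 := ndS (p := 12736) (l := 3) rfl N12736 D19087
theorem N13201 : nd 13201 = n19088 := ndS (p := 12736) (l := 5) rfl N12736 D19088
theorem N13202 : nd 13202 = n19089 := ndS (p := 12737) (l := 5) rfl N12737 D19089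
theorem N13203 : nd 13203 = n19090 := ndS (p := 12738) (l := 6) rfl N12738 D19090
theorem N13204 : nd 13204 = n19091 := ndS (p := 12740) (l := 5) rfl N12740 D19091
theorem N13205 : nd 13205 = n19092 := ndS (p := 12741) (l := 6) rfl N12741 D19092
theorem N13206 : nd 13206 = n19093 := ndS (p := 12747) (l := 6) rfl N12747 D19093
theorem N13207 : nd 13207 = n19094 := ndS (p := 12748) (l := 6) rfl N12748 D19094
theorem N13208 : nd 13208 = n19095 := ndS (p := 12751) (l := 5) rfl N12751 D19095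
theorem N13209 : nd 13209 = n19096 := ndS (p := 12752) (l := 6) rfl N12752 D19096
theorem N13210 : nd 13210 = n19097 := ndS (p := 12755) (l := 5) rfl N12755 D19097
theorem N13211 : nd 13211 = n19098 := ndS (p := 12756) (l := 6) rfl N12756 D19098
theorem N13212 : nd 13212 = n19099 := ndS (p := 12759) (l := 7) rfl N12759 D19099
theorem N13213 : nd 13213 = n19100 := ndS (p := 12760) (l := 8) rfl N12760 D19100
theorem N13214 : nd 13214 = n19101 := ndS (p := 12764) (l := 3) rfl N12764 D19101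
theorem N13215 : nd 13215 = n19102 := ndS (p := 12764) (l := 5) rfl N12764 D19102
theorem N13216 : nd 13216 = n19103 := ndS (p := 12765) (l := 6) rfl N12765 D19103
theorem N13217 : nd 13217 = n19104 := ndS (p := 12766) (l := 5) rfl N12766 D19104
theorem N13218 : nd 13218 = n19105 := ndS (p := 12767) (l := 6) rfl N12767 D19105
theorem N13219 : nd 13219 = n19106 := ndS (p := 12770) (l := 3) rfl N12770 D19106
theorem N13220 : nd 13220 = n19107 := ndS (p := 12770) (l := 5) rfl N12770 D19107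
theorem N13221 : nd 13221 = n19108 := ndS (p := 12771) (l := 6) rfl N12771 D19108
theorem N13222 : nd 13222 = n19109 := ndS (p := 12772) (l := 3) rfl N12772 D19109
theorem N13223 : nd 13223 = n19110 := ndS (p := 12772) (l := 5) rfl N12772 D19110
theorem N13224 : nd 13224 = n19111 := ndS (p := 12773) (l := 6) rfl N12773 D19111
theorem N13225 : nd 13225 = n19112 := ndS (p := 12774) (l := 5) rfl N12774 D19112
theorem N13226 : nd 13226 = n19113 := ndS (p := 12775) (l := 6) rfl N12775 D19113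
theorem N13227 : nd 13227 = n19114 := ndS (p := 12777) (l := 5) rfl N12777 D19114
theorem N13228 : nd 13228 = n19115 := ndS (p := 12777) (l := 7) rfl N12777 D19115
theorem N13229 : nd 13229 = n19116 := ndS (p := 12778) (l := 6) rfl N12778 D19116
theorem N13230 : nd 13230 = n19117 := ndS (p := 12780) (l := 4) rfl N12780 D19117
theorem N13231 : nd 13231 = n19118 := ndS (p := 12780) (l := 6) rfl N12780 D19118
theorem N13232 : nd 13232 = n19119 := ndS (p := 12783) (l := 8) rfl N12783 D19119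
theorem N13233 : nd 13233 = n19120 := ndS (p := 12789) (l := 6) rfl N12789 D19120
theorem N13234 : nd 13234 = n19121 := ndS (p := 12793) (l := 5) rfl N12793 D19121
theorem N13235 : nd 13235 = n19122 := ndS (p := 12794) (l := 6) rfl N12794 D19122
theorem N13236 : nd 13236 = n19123 := ndS (p := 12796) (l := 5) rfl N12796 D19123
theorem N13237 : nd 13237 = n19124 := ndS (p := 12797) (l := 6) rfl N12797 D19124
theorem N13238 : nd 13238 = n19125 := ndS (p := 12799) (l := 4) rfl N12799 D19125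
theorem N13239 : nd 13239 = n19126 := ndS (p := 12799) (l := 6) rfl N12799 D19126
theorem N13240 : nd 13240 = n19127 := ndS (p := 12804) (l := 5) rfl N12804 D19127
theorem N13241 : nd 13241 = n19128 := ndS (p := 12805) (l := 6) rfl N12805 D19128
theorem N13242 : nd 13242 = n19129 := ndS (p := 12807) (l := 6) rfl N12807 D19129
theorem N13243 : nd 13243 = n19130 := ndS (p := 12809) (l := 6) rfl N12809 D19130
theorem N13244 : nd 13244 = n19131 := ndS (p := 12810) (l := 0) rfl N12810 D19131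
theorem N13245 : nd 13245 = n19132 := ndS (p := 12810) (l := 4) rfl N12810 D19132
theorem N13246 : nd 13246 = n19133 := ndS (p := 12811) (l := 3) rfl N12811 D19133
theorem N13247 : nd 13247 = n19134 := ndS (p := 12811) (l := 5) rfl N12811 D19134
theorem N13248 : nd 13248 = n19135 := ndS (p := 12812) (l := 6) rfl N12812 D19135
theorem N13249 : nd 13249 = n19136 := ndS (p := 12813) (l := 4) rfl N12813 D19136
theorem N13250 : nd 13250 = n19137 := ndS (p := 12814) (l := 3) rfl N12814 D19137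
theorem N13251 : nd 13251 = n19138 := ndS (p := 12814) (l := 5) rfl N12814 D19138
theorem N13252 : nd 13252 = n19139 := ndS (p := 12815) (l := 5) rfl N12815 D19139
theorem N13253 : nd 13253 = n19140 := ndS (p := 12816) (l := 6) rfl N12816 D19140
theorem N13254 : nd 13254 = n19141 := ndS (p := 12819) (l := 5) rfl N12819 D19141
theorem N13255 : nd 13255 = n19142 := ndS (p := 12820) (l := 6) rfl N12820 D19142
theorem N13256 : nd 13256 = n19143 := ndS (p := 12822) (l := 6) rfl N12822 D19143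
theorem N13257 : nd 13257 = n19144 := ndS (p := 12823) (l := 4) rfl N12823 D19144
theorem N13258 : nd 13258 = n19145 := ndS (p := 12824) (l := 5) rfl N12824 D19145
theorem N13259 : nd 13259 = n19146 := ndS (p := 12825) (l := 6) rfl N12825 D19146
theorem N13260 : nd 13260 = n19147 := ndS (p := 12826) (l := 5) rfl N12826 D19147
theorem N13261 : nd 13261 = n19148 := ndS (p := 12827) (l := 5) rfl N12827 D19148
theorem N13262 : nd 13262 = n19149 := ndS (p := 12828) (l := 6) rfl N12828 D19149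
theorem N13263 : nd 13263 = n19150 := ndS (p := 12830) (l := 4) rfl N12830 D19150
theorem N13264 : nd 13264 = n19151 := ndS (p := 12831) (l := 5) rfl N12831 D19151
theorem N13265 : nd 13265 = n19152 := ndS (p := 12832) (l := 6) rfl N12832 D19152
theorem N13266 : nd 13266 = n19153 := ndS (p := 12834) (l := 5) rfl N12834 D19153
theorem N13267 : nd 13267 = n19154 := ndS (p := 12835) (l := 6) rfl N12835 D19154
theorem N13268 : nd 13268 = n19155 := ndS (p := 12837) (l := 6) rfl N12837 D19155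
theorem N13269 : nd 13269 = n19156 := ndS (p := 12839) (l := 6) rfl N12839 D19156
theorem N13270 : nd 13270 = n19157 := ndS (p := 12840) (l := 6) rfl N12840 D19157
theorem N13271 : nd 13271 = n19158 := ndS (p := 12842) (l := 6) rfl N12842 D19158
theorem N13272 : nd 13272 = n19159 := ndS (p := 12844) (l := 4) rfl N12844 D19159
theorem N13273 : nd 13273 = n19160 := ndS (p := 12845) (l := 3) rfl N12845 D19160
theorem N13274 : nd 13274 = n19161 := ndS (p := 12845) (l := 5) rfl N12845 D19161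
theorem N13275 : nd 13275 = n19162 := ndS (p := 12846) (l := 6) rfl N12846 D19162
theorem N13276 : nd 13276 = n19163 := ndS (p := 12847) (l := 3) rfl N12847 D19163
theorem N13277 : nd 13277 = n19164 := ndS (p := 12847) (l := 5) rfl N12847 D19164
theorem N13278 : nd 13278 = n19165 := ndS (p := 12848) (l := 5) rfl N12848 D19165
theorem N13279 : nd 13279 = n19166 := ndS (p := 12849) (l := 6) rfl N12849 D19166
theorem N13280 : nd 13280 = n19167 := ndS (p := 12851) (l := 6) rfl N12851 D19167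
theorem N13281 : nd 13281 = n19168 := ndS (p := 12853) (l := 3) rfl N12853 D19168
theorem N13282 : nd 13282 = n19169 := ndS (p := 12853) (l := 5) rfl N12853 D19169
theorem N13283 : nd 13283 = n19170 := ndS (p := 12854) (l := 6) rfl N12854 D19170
theorem N13284 : nd 13284 = n19171 := ndS (p := 12855) (l := 6) rfl N12855 D19171
theorem N13285 : nd 13285 = n19172 := ndS (p := 12856) (l := 5) rfl N12856 D19172
theorem N13286 : nd 13286 = n19173 := ndS (p := 12857) (l := 6) rfl N12857 D19173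
theorem N13287 : nd 13287 = n19174 := ndS (p := 12859) (l := 5) rfl N12859 D19174
theorem N13288 : nd 13288 = n19175 := ndS (p := 12860) (l := 6) rfl N12860 D19175
theorem N13289 : nd 13289 = n19176 := ndS (p := 12862) (l := 4) rfl N12862 D19176
theorem N13290 : nd 13290 = n19177 := ndS (p := 12862) (l := 6) rfl N12862 D19177
theorem N13291 : nd 13291 = n19178 := ndS (p := 12865) (l := 6) rfl N12865 D19178
theorem N13292 : nd 13292 = n19179 := ndS (p := 12869) (l := 6) rfl N12869 D19179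
theorem N13293 : nd 13293 = n19180 := ndS (p := 12873) (l := 5) rfl N12873 D19180
theorem N13294 : nd 13294 = n19181 := ndS (p := 12874) (l := 6) rfl N12874 D19181
theorem N13295 : nd 13295 = n19182 := ndS (p := 12875) (l := 6) rfl N12875 D19182
theorem N13296 : nd 13296 = n19183 := ndS (p := 12876) (l := 6) rfl N12876 D19183
theorem N13297 : nd 13297 = n19184 := ndS (p := 12878) (l := 5) rfl N12878 D19184
theorem N13298 : nd 13298 = n19185 := ndS (p := 12879) (l := 6) rfl N12879 D19185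
theorem N13299 : nd 13299 = n19186 := ndS (p := 12881) (l := 6) rfl N12881 D19186
theorem N13300 : nd 13300 = n19187 := ndS (p := 12885) (l := 6) rfl N12885 D19187
theorem N13301 : nd 13301 = n19188 := ndS (p := 12890) (l := 6) rfl N12890 D19188
theorem N13302 : nd 13302 = n19189 := ndS (p := 12892) (l := 6) rfl N12892 D19189
theorem N13303 : nd 13303 = n19190 := ndS (p := 12896) (l := 4) rfl N12896 D19190
theorem N13304 : nd 13304 = n19191 := ndS (p := 12897) (l := 3) rfl N12897 D19191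
theorem N13305 : nd 13305 = n19192 := ndS (p := 12897) (l := 5) rfl N12897 D19192
theorem N13306 : nd 13306 = n19193 := ndS (p := 12898) (l := 5) rfl N12898 D19193
theorem N13307 : nd 13307 = n19194 := ndS (p := 12898) (l := 7) rfl N12898 D19194
theorem N13308 : nd 13308 = n19195 := ndS (p := 12899) (l := 6) rfl N12899 D19195
theorem N13309 : nd 13309 = n19196 := ndS (p := 12901) (l := 4) rfl N12901 D19196
theorem N13310 : nd 13310 = n19197 := ndS (p := 12901) (l := 6) rfl N12901 D19197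
theorem N13311 : nd 13311 = n19198 := ndS (p := 12901) (l := 7) rfl N12901 D19198
theorem N13312 : nd 13312 = n19199 := ndS (p := 12902) (l := 8) rfl N12902 D19199
theorem N13313 : nd 13313 = n19200 := ndS (p := 12904) (l := 4) rfl N12904 D19200
theorem N13314 : nd 13314 = n19201 := ndS (p := 12905) (l := 3) rfl N12905 D19201
theorem N13315 : nd 13315 = n19202 := ndS (p := 12905) (l := 5) rfl N12905 D19202
theorem N13316 : nd 13316 = n19203 := ndS (p := 12906) (l := 5) rfl N12906 D19203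
theorem N13317 : nd 13317 = n19204 := ndS (p := 12907) (l := 6) rfl N12907 D19204
theorem N13318 : nd 13318 = n19205 := ndS (p := 12909) (l := 4) rfl N12909 D19205
theorem N13319 : nd 13319 = n19206 := ndS (p := 12910) (l := 3) rfl N12910 D19206
theorem N13320 : nd 13320 = n19207 := ndS (p := 12910) (l := 5) rfl N12910 D19207
theorem N13321 : nd 13321 = n19208 := ndS (p := 12911) (l := 5) rfl N12911 D19208
theorem N13322 : nd 13322 = n19209 := ndS (p := 12912) (l := 6) rfl N12912 D19209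
theorem N13323 : nd 13323 = n19210 := ndS (p := 12914) (l := 5) rfl N12914 D19210
theorem N13324 : nd 13324 = n19211 := ndS (p := 12915) (l := 6) rfl N12915 D19211
theorem N13325 : nd 13325 = n19212 := ndS (p := 12918) (l := 7) rfl N12918 D19212
theorem N13326 : nd 13326 = n19213 := ndS (p := 12919) (l := 8) rfl N12919 D19213
theorem N13327 : nd 13327 = n19214 := ndS (p := 12921) (l := 3) rfl N12921 D19214
theorem N13328 : nd 13328 = n19215 := ndS (p := 12921) (l := 5) rfl N12921 D19215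
theorem N13329 : nd 13329 = n19216 := ndS (p := 12922) (l := 5) rfl N12922 D19216
theorem N13330 : nd 13330 = n19217 := ndS (p := 12923) (l := 6) rfl N12923 D19217
theorem N13331 : nd 13331 = n19218 := ndS (p := 12925) (l := 2) rfl N12925 D19218
theorem N13332 : nd 13332 = n19219 := ndS (p := 12925) (l := 5) rfl N12925 D19219
theorem N13333 : nd 13333 = n19220 := ndS (p := 12926) (l := 6) rfl N12926 D19220
theorem N13334 : nd 13334 = n19221 := ndS (p := 12927) (l := 4) rfl N12927 D19221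
theorem N13335 : nd 13335 = n19222 := ndS (p := 12927) (l := 6) rfl N12927 D19222
theorem N13336 : nd 13336 = n19223 := ndS (p := 12930) (l := 3) rfl N12930 D19223
theorem N13337 : nd 13337 = n19224 := ndS (p := 12930) (l := 5) rfl N12930 D19224
theorem N13338 : nd 13338 = n19225 := ndS (p := 12931) (l := 5) rfl N12931 D19225
theorem N13339 : nd 13339 = n19226 := ndS (p := 12931) (l := 7) rfl N12931 D19226
theorem N13340 : nd 13340 = n19227 := ndS (p := 12932) (l := 6) rfl N12932 D19227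
theorem N13341 : nd 13341 = n19228 := ndS (p := 12934) (l := 5) rfl N12934 D19228
theorem N13342 : nd 13342 = n19229 := ndS (p := 12935) (l := 6) rfl N12935 D19229
theorem N13343 : nd 13343 = n19230 := ndS (p := 12936) (l := 4) rfl N12936 D19230
theorem N13344 : nd 13344 = n19231 := ndS (p := 12936) (l := 6) rfl N12936 D19231
theorem N13345 : nd 13345 = n19232 := ndS (p := 12936) (l := 7) rfl N12936 D19232
theorem N13346 : nd 13346 = n19233 := ndS (p := 12937) (l := 8) rfl N12937 D19233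
theorem N13347 : nd 13347 = n19234 := ndS (p := 12940) (l := 7) rfl N12940 D19234
theorem N13348 : nd 13348 = n19235 := ndS (p := 12941) (l := 8) rfl N12941 D19235
theorem N13349 : nd 13349 = n19236 := ndS (p := 12943) (l := 7) rfl N12943 D19236
theorem N13350 : nd 13350 = n19237 := ndS (p := 12944) (l := 3) rfl N12944 D19237
theorem N13351 : nd 13351 = n19238 := ndS (p := 12944) (l := 8) rfl N12944 D19238
theorem N13352 : nd 13352 = n19239 := ndS (p := 12945) (l := 8) rfl N12945 D19239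
theorem N13353 : nd 13353 = n19240 := ndS (p := 12948) (l := 6) rfl N12948 D19240
theorem N13354 : nd 13354 = n19241 := ndS (p := 12951) (l := 3) rfl N12951 D19241
theorem N13355 : nd 13355 = n19242 := ndS (p := 12952) (l := 5) rfl N12952 D19242
theorem N13356 : nd 13356 = n19243 := ndS (p := 12953) (l := 6) rfl N12953 D19243
theorem N13357 : nd 13357 = n19244 := ndS (p := 12954) (l := 6) rfl N12954 D19244
theorem N13358 : nd 13358 = n19245 := ndS (p := 12957) (l := 6) rfl N12957 D19245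
theorem N13359 : nd 13359 = n19246 := ndS (p := 12961) (l := 5) rfl N12961 D19246
theorem N13360 : nd 13360 = n19247 := ndS (p := 12962) (l := 6) rfl N12962 D19247
theorem N13361 : nd 13361 = n19248 := ndS (p := 12964) (l := 4) rfl N12964 D19248
theorem N13362 : nd 13362 = n19249 := ndS (p := 12965) (l := 3) rfl N12965 D19249
theorem N13363 : nd 13363 = n19250 := ndS (p := 12965) (l := 5) rfl N12965 D19250
theorem N13364 : nd 13364 = n19251 := ndS (p := 12966) (l := 5) rfl N12966 D19251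
theorem N13365 : nd 13365 = n19252 := ndS (p := 12967) (l := 6) rfl N12967 D19252
theorem N13366 : nd 13366 = n19253 := ndS (p := 12969) (l := 3) rfl N12969 D19253
theorem N13367 : nd 13367 = n19254 := ndS (p := 12969) (l := 5) rfl N12969 D19254
theorem N13368 : nd 13368 = n19255 := ndS (p := 12970) (l := 5) rfl N12970 D19255
theorem N13369 : nd 13369 = n19256 := ndS (p := 12971) (l := 6) rfl N12971 D19256
theorem N13370 : nd 13370 = n19257 := ndS (p := 12972) (l := 4) rfl N12972 D19257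
theorem N13371 : nd 13371 = n19258 := ndS (p := 12972) (l := 6) rfl N12972 D19258
theorem N13372 : nd 13372 = n19259 := ndS (p := 12974) (l := 6) rfl N12974 D19259
theorem N13373 : nd 13373 = n19260 := ndS (p := 12976) (l := 5) rfl N12976 D19260
theorem N13374 : nd 13374 = n19261 := ndS (p := 12977) (l := 6) rfl N12977 D19261
theorem N13375 : nd 13375 = n19262 := ndS (p := 12978) (l := 6) rfl N12978 D19262
theorem N13376 : nd 13376 = n19263 := ndS (p := 12980) (l := 6) rfl N12980 D19263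
theorem N13377 : nd 13377 = n19264 := ndS (p := 12982) (l := 5) rfl N12982 D19264
theorem N13378 : nd 13378 = n19265 := ndS (p := 12983) (l := 6) rfl N12983 D19265
theorem N13379 : nd 13379 = n19266 := ndS (p := 12985) (l := 5) rfl N12985 D19266
theorem N13380 : nd 13380 = n19267 := ndS (p := 12986) (l := 6) rfl N12986 D19267
theorem N13381 : nd 13381 = n19268 := ndS (p := 12988) (l := 4) rfl N12988 D19268
theorem N13382 : nd 13382 = n19269 := ndS (p := 12988) (l := 6) rfl N12988 D19269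
theorem N13383 : nd 13383 = n19270 := ndS (p := 12990) (l := 4) rfl N12990 D19270
theorem N13384 : nd 13384 = n19271 := ndS (p := 12990) (l := 6) rfl N12990 D19271
theorem N13385 : nd 13385 = n19272 := ndS (p := 12990) (l := 7) rfl N12990 D19272
theorem N13386 : nd 13386 = n19273 := ndS (p := 12993) (l := 6) rfl N12993 D19273
theorem N13387 : nd 13387 = n19274 := ndS (p := 12997) (l := 6) rfl N12997 D19274
theorem N13388 : nd 13388 = n19275 := ndS (p := 12998) (l := 6) rfl N12998 D19275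
theorem N13389 : nd 13389 = n19276 := ndS (p := 13002) (l := 5) rfl N13002 D19276
theorem N13390 : nd 13390 = n19277 := ndS (p := 13002) (l := 7) rfl N13002 D19277
theorem N13391 : nd 13391 = n19278 := ndS (p := 13003) (l := 6) rfl N13003 D19278
theorem N13392 : nd 13392 = n19279 := ndS (p := 13004) (l := 6) rfl N13004 D19279
theorem N13393 : nd 13393 = n19280 := ndS (p := 13004) (l := 7) rfl N13004 D19280
theorem N13394 : nd 13394 = n19281 := ndS (p := 13007) (l := 7) rfl N13007 D19281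
theorem N13395 : nd 13395 = n19282 := ndS (p := 13009) (l := 6) rfl N13009 D19282
theorem N13396 : nd 13396 = n19283 := ndS (p := 13014) (l := 5) rfl N13014 D19283
theorem N13397 : nd 13397 = n19284 := ndS (p := 13015) (l := 6) rfl N13015 D19284
theorem N13398 : nd 13398 = n19285 := ndS (p := 13017) (l := 3) rfl N13017 D19285
theorem N13399 : nd 13399 = n19286 := ndS (p := 13017) (l := 5) rfl N13017 D19286
theorem N13400 : nd 13400 = n19287 := ndS (p := 13018) (l := 5) rfl N13018 D19287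
theorem N13401 : nd 13401 = n19288 := ndS (p := 13019) (l := 6) rfl N13019 D19288
theorem N13402 : nd 13402 = n19289 := ndS (p := 13021) (l := 4) rfl N13021 D19289
theorem N13403 : nd 13403 = n19290 := ndS (p := 13021) (l := 6) rfl N13021 D19290
theorem N13404 : nd 13404 = n19291 := ndS (p := 13021) (l := 7) rfl N13021 D19291
theorem N13405 : nd 13405 = n19292 := ndS (p := 13024) (l := 3) rfl N13024 D19292
theorem N13406 : nd 13406 = n19293 := ndS (p := 13024) (l := 5) rfl N13024 D19293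
theorem N13407 : nd 13407 = n19294 := ndS (p := 13025) (l := 5) rfl N13025 D19294
theorem N13408 : nd 13408 = n19295 := ndS (p := 13026) (l := 6) rfl N13026 D19295
theorem N13409 : nd 13409 = n19296 := ndS (p := 13028) (l := 5) rfl N13028 D19296
theorem N13410 : nd 13410 = n19297 := ndS (p := 13029) (l := 5) rfl N13029 D19297
theorem N13411 : nd 13411 = n19298 := ndS (p := 13029) (l := 7) rfl N13029 D19298
theorem N13412 : nd 13412 = n19299 := ndS (p := 13030) (l := 6) rfl N13030 D19299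
theorem N13413 : nd 13413 = n19300 := ndS (p := 13032) (l := 5) rfl N13032 D19300
theorem N13414 : nd 13414 = n19301 := ndS (p := 13033) (l := 6) rfl N13033 D19301
theorem N13415 : nd 13415 = n19302 := ndS (p := 13037) (l := 5) rfl N13037 D19302
theorem N13416 : nd 13416 = n19303 := ndS (p := 13038) (l := 6) rfl N13038 D19303
theorem N13417 : nd 13417 = n19304 := ndS (p := 13043) (l := 7) rfl N13043 D19304
theorem N13418 : nd 13418 = n19305 := ndS (p := 13045) (l := 5) rfl N13045 D19305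
theorem N13419 : nd 13419 = n19306 := ndS (p := 13046) (l := 6) rfl N13046 D19306
theorem N13420 : nd 13420 = n19307 := ndS (p := 13048) (l := 5) rfl N13048 D19307
theorem N13421 : nd 13421 = n19308 := ndS (p := 13049) (l := 6) rfl N13049 D19308
theorem N13422 : nd 13422 = n19309 := ndS (p := 13051) (l := 5) rfl N13051 D19309
theorem N13423 : nd 13423 = n19310 := ndS (p := 13052) (l := 6) rfl N13052 D19310
theorem N13424 : nd 13424 = n19311 := ndS (p := 13053) (l := 4) rfl N13053 D19311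
theorem N13425 : nd 13425 = n19312 := ndS (p := 13053) (l := 6) rfl N13053 D19312
theorem N13426 : nd 13426 = n19313 := ndS (p := 13064) (l := 6) rfl N13064 D19313
theorem N13427 : nd 13427 = n19314 := ndS (p := 13069) (l := 5) rfl N13069 D19314
theorem N13428 : nd 13428 = n19315 := ndS (p := 13069) (l := 7) rfl N13069 D19315
theorem N13429 : nd 13429 = n19316 := ndS (p := 13070) (l := 6) rfl N13070 D19316
theorem N13430 : nd 13430 = n19317 := ndS (p := 13072) (l := 5) rfl N13072 D19317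
theorem N13431 : nd 13431 = n19318 := ndS (p := 13073) (l := 6) rfl N13073 D19318
theorem N13432 : nd 13432 = n19319 := ndS (p := 13074) (l := 4) rfl N13074 D19319
theorem N13433 : nd 13433 = n19320 := ndS (p := 13074) (l := 6) rfl N13074 D19320
theorem N13434 : nd 13434 = n19321 := ndS (p := 13077) (l := 6) rfl N13077 D19321
theorem N13435 : nd 13435 = n19322 := ndS (p := 13077) (l := 7) rfl N13077 D19322
theorem N13436 : nd 13436 = n19323 := ndS (p := 13080) (l := 6) rfl N13080 D19323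
theorem N13437 : nd 13437 = n19324 := ndS (p := 13082) (l := 5) rfl N13082 D19324
theorem N13438 : nd 13438 = n19325 := ndS (p := 13083) (l := 6) rfl N13083 D19325
theorem N13439 : nd 13439 = n19326 := ndS (p := 13084) (l := 4) rfl N13084 D19326
theorem N13440 : nd 13440 = n19327 := ndS (p := 13084) (l := 6) rfl N13084 D19327
theorem N13441 : nd 13441 = n19328 := ndS (p := 13088) (l := 6) rfl N13088 D19328
theorem N13442 : nd 13442 = n19329 := ndS (p := 13091) (l := 5) rfl N13091 D19329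
theorem N13443 : nd 13443 = n19330 := ndS (p := 13092) (l := 6) rfl N13092 D19330
theorem N13444 : nd 13444 = n19331 := ndS (p := 13095) (l := 3) rfl N13095 D19331
theorem N13445 : nd 13445 = n19332 := ndS (p := 13095) (l := 5) rfl N13095 D19332
theorem N13446 : nd 13446 = n19333 := ndS (p := 13096) (l := 5) rfl N13096 D19333
theorem N13447 : nd 13447 = n19334 := ndS (p := 13097) (l := 6) rfl N13097 D19334
theorem N13448 : nd 13448 = n19335 := ndS (p := 13099) (l := 2) rfl N13099 D19335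
theorem N13449 : nd 13449 = n19336 := ndS (p := 13099) (l := 5) rfl N13099 D19336
theorem N13450 : nd 13450 = n19337 := ndS (p := 13100) (l := 6) rfl N13100 D19337
theorem N13451 : nd 13451 = n19338 := ndS (p := 13101) (l := 4) rfl N13101 D19338
theorem N13452 : nd 13452 = n19339 := ndS (p := 13101) (l := 6) rfl N13101 D19339
theorem N13453 : nd 13453 = n19340 := ndS (p := 13103) (l := 3) rfl N13103 D19340
theorem N13454 : nd 13454 = n19341 := ndS (p := 13103) (l := 5) rfl N13103 D19341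
theorem N13455 : nd 13455 = n19342 := ndS (p := 13104) (l := 5) rfl N13104 D19342
theorem N13456 : nd 13456 = n19343 := ndS (p := 13104) (l := 7) rfl N13104 D19343
theorem N13457 : nd 13457 = n19344 := ndS (p := 13105) (l := 6) rfl N13105 D19344
theorem N13458 : nd 13458 = n19345 := ndS (p := 13106) (l := 4) rfl N13106 D19345
theorem N13459 : nd 13459 = n19346 := ndS (p := 13106) (l := 6) rfl N13106 D19346
theorem N13460 : nd 13460 = n19347 := ndS (p := 13106) (l := 7) rfl N13106 D19347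
theorem N13461 : nd 13461 = n19348 := ndS (p := 13109) (l := 5) rfl N13109 D19348
theorem N13462 : nd 13462 = n19349 := ndS (p := 13110) (l := 6) rfl N13110 D19349
theorem N13463 : nd 13463 = n19350 := ndS (p := 13111) (l := 4) rfl N13111 D19350
theorem N13464 : nd 13464 = n19351 := ndS (p := 13111) (l := 6) rfl N13111 D19351
theorem N13465 : nd 13465 = n19352 := ndS (p := 13113) (l := 6) rfl N13113 D19352
theorem N13466 : nd 13466 = n19353 := ndS (p := 13117) (l := 4) rfl N13117 D19353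
theorem N13467 : nd 13467 = n19354 := ndS (p := 13117) (l := 6) rfl N13117 D19354
theorem N13468 : nd 13468 = n19355 := ndS (p := 13119) (l := 5) rfl N13119 D19355
theorem N13469 : nd 13469 = n19356 := ndS (p := 13120) (l := 6) rfl N13120 D19356
theorem N13470 : nd 13470 = n19357 := ndS (p := 13121) (l := 4) rfl N13121 D19357
theorem N13471 : nd 13471 = n19358 := ndS (p := 13121) (l := 6) rfl N13121 D19358
theorem N13472 : nd 13472 = n19359 := ndS (p := 13125) (l := 6) rfl N13125 D19359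
theorem N13473 : nd 13473 = n19360 := ndS (p := 13126) (l := 6) rfl N13126 D19360
theorem N13474 : nd 13474 = n19361 := ndS (p := 13128) (l := 6) rfl N13128 D19361
theorem N13475 : nd 13475 = n19362 := ndS (p := 13133) (l := 5) rfl N13133 D19362
theorem N13476 : nd 13476 = n19363 := ndS (p := 13134) (l := 6) rfl N13134 D19363
theorem N13477 : nd 13477 = n19364 := ndS (p := 13136) (l := 4) rfl N13136 D19364
theorem N13478 : nd 13478 = n19365 := ndS (p := 13136) (l := 6) rfl N13136 D19365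
theorem N13479 : nd 13479 = n19366 := ndS (p := 13138) (l := 5) rfl N13138 D19366
theorem N13480 : nd 13480 = n19367 := ndS (p := 13139) (l := 6) rfl N13139 D19367
theorem N13481 : nd 13481 = n19368 := ndS (p := 13141) (l := 5) rfl N13141 D19368
theorem N13482 : nd 13482 = n19369 := ndS (p := 13142) (l := 6) rfl N13142 D19369
theorem N13483 : nd 13483 = n19370 := ndS (p := 13144) (l := 5) rfl N13144 D19370
theorem N13484 : nd 13484 = n19371 := ndS (p := 13145) (l := 6) rfl N13145 D19371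
theorem N13485 : nd 13485 = n19372 := ndS (p := 13147) (l := 4) rfl N13147 D19372
theorem N13486 : nd 13486 = n19373 := ndS (p := 13147) (l := 6) rfl N13147 D19373
theorem N13487 : nd 13487 = n19374 := ndS (p := 13147) (l := 7) rfl N13147 D19374
theorem N13488 : nd 13488 = n19375 := ndS (p := 13148) (l := 8) rfl N13148 D19375
theorem N13489 : nd 13489 = n19376 := ndS (p := 13150) (l := 2) rfl N13150 D19376
theorem N13490 : nd 13490 = n19377 := ndS (p := 13150) (l := 5) rfl N13150 D19377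
theorem N13491 : nd 13491 = n19378 := ndS (p := 13151) (l := 6) rfl N13151 D19378
theorem N13492 : nd 13492 = n19379 := ndS (p := 13152) (l := 4) rfl N13152 D19379
theorem N13493 : nd 13493 = n19380 := ndS (p := 13152) (l := 6) rfl N13152 D19380
theorem N13494 : nd 13494 = n19381 := ndS (p := 13154) (l := 5) rfl N13154 D19381
theorem N13495 : nd 13495 = n19382 := ndS (p := 13155) (l := 4) rfl N13155 D19382
theorem N13496 : nd 13496 = n19383 := ndS (p := 13155) (l := 6) rfl N13155 D19383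
theorem N13497 : nd 13497 = n19384 := ndS (p := 13157) (l := 6) rfl N13157 D19384
theorem N13498 : nd 13498 = n19385 := ndS (p := 13160) (l := 7) rfl N13160 D19385
theorem N13499 : nd 13499 = n19386 := ndS (p := 13161) (l := 8) rfl N13161 D19386
theorem N13500 : nd 13500 = n19387 := ndS (p := 13163) (l := 6) rfl N13163 D19387
theorem N13501 : nd 13501 = n19388 := ndS (p := 13166) (l := 2) rfl N13166 D19388
theorem N13502 : nd 13502 = n19389 := ndS (p := 13166) (l := 5) rfl N13166 D19389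
theorem N13503 : nd 13503 = n19390 := ndS (p := 13166) (l := 7) rfl N13166 D19390
theorem N13504 : nd 13504 = n19391 := ndS (p := 13167) (l := 6) rfl N13167 D19391
theorem N13505 : nd 13505 = n19392 := ndS (p := 13168) (l := 5) rfl N13168 D19392
theorem N13506 : nd 13506 = n19393 := ndS (p := 13169) (l := 6) rfl N13169 D19393
theorem N13507 : nd 13507 = n19394 := ndS (p := 13169) (l := 7) rfl N13169 D19394
theorem N13508 : nd 13508 = n19395 := ndS (p := 13172) (l := 7) rfl N13172 D19395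
theorem N13509 : nd 13509 = n19396 := ndS (p := 13174) (l := 5) rfl N13174 D19396
theorem N13510 : nd 13510 = n19397 := ndS (p := 13175) (l := 6) rfl N13175 D19397
theorem N13511 : nd 13511 = n19398 := ndS (p := 13177) (l := 6) rfl N13177 D19398
theorem N13512 : nd 13512 = n19399 := ndS (p := 13181) (l := 4) rfl N13181 D19399
theorem N13513 : nd 13513 = n19400 := ndS (p := 13181) (l := 6) rfl N13181 D19400
theorem N13514 : nd 13514 = n19401 := ndS (p := 13183) (l := 5) rfl N13183 D19401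
theorem N13515 : nd 13515 = n19402 := ndS (p := 13184) (l := 6) rfl N13184 D19402
theorem N13516 : nd 13516 = n19403 := ndS (p := 13186) (l := 4) rfl N13186 D19403
theorem N13517 : nd 13517 = n19404 := ndS (p := 13186) (l := 6) rfl N13186 D19404
theorem N13518 : nd 13518 = n19405 := ndS (p := 13188) (l := 5) rfl N13188 D19405
theorem N13519 : nd 13519 = n19406 := ndS (p := 13189) (l := 6) rfl N13189 D19406
theorem N13520 : nd 13520 = n19407 := ndS (p := 13191) (l := 5) rfl N13191 D19407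
theorem N13521 : nd 13521 = n19408 := ndS (p := 13192) (l := 5) rfl N13192 D19408
theorem N13522 : nd 13522 = n19409 := ndS (p := 13193) (l := 6) rfl N13193 D19409
theorem N13523 : nd 13523 = n19410 := ndS (p := 13194) (l := 4) rfl N13194 D19410
theorem N13524 : nd 13524 = n19411 := ndS (p := 13194) (l := 6) rfl N13194 D19411
theorem N13525 : nd 13525 = n19412 := ndS (p := 13196) (l := 6) rfl N13196 D19412
theorem N13526 : nd 13526 = n19413 := ndS (p := 13199) (l := 5) rfl N13199 D19413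
theorem N13527 : nd 13527 = n19414 := ndS (p := 13200) (l := 5) rfl N13200 D19414
theorem N13528 : nd 13528 = n19415 := ndS (p := 13201) (l := 6) rfl N13201 D19415
theorem N13529 : nd 13529 = n19416 := ndS (p := 13202) (l := 6) rfl N13202 D19416
theorem N13530 : nd 13530 = n19417 := ndS (p := 13204) (l := 6) rfl N13204 D19417
theorem N13531 : nd 13531 = n19418 := ndS (p := 13208) (l := 4) rfl N13208 D19418
theorem N13532 : nd 13532 = n19419 := ndS (p := 13208) (l := 6) rfl N13208 D19419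
theorem N13533 : nd 13533 = n19420 := ndS (p := 13210) (l := 4) rfl N13210 D19420
theorem N13534 : nd 13534 = n19421 := ndS (p := 13210) (l := 6) rfl N13210 D19421
theorem N13535 : nd 13535 = n19422 := ndS (p := 13212) (l := 8) rfl N13212 D19422
theorem N13536 : nd 13536 = n19423 := ndS (p := 13214) (l := 5) rfl N13214 D19423
theorem N13537 : nd 13537 = n19424 := ndS (p := 13214) (l := 7) rfl N13214 D19424
theorem N13538 : nd 13538 = n19425 := ndS (p := 13215) (l := 6) rfl N13215 D19425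
theorem N13539 : nd 13539 = n19426 := ndS (p := 13217) (l := 4) rfl N13217 D19426
theorem N13540 : nd 13540 = n19427 := ndS (p := 13217) (l := 6) rfl N13217 D19427
theorem N13541 : nd 13541 = n19428 := ndS (p := 13219) (l := 5) rfl N13219 D19428
theorem N13542 : nd 13542 = n19429 := ndS (p := 13220) (l := 6) rfl N13220 D19429
theorem N13543 : nd 13543 = n19430 := ndS (p := 13222) (l := 5) rfl N13222 D19430
theorem N13544 : nd 13544 = n19431 := ndS (p := 13223) (l := 6) rfl N13223 D19431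
theorem N13545 : nd 13545 = n19432 := ndS (p := 13225) (l := 4) rfl N13225 D19432
theorem N13546 : nd 13546 = n19433 := ndS (p := 13225) (l := 6) rfl N13225 D19433
theorem N13547 : nd 13547 = n19434 := ndS (p := 13227) (l := 4) rfl N13227 D19434
theorem N13548 : nd 13548 = n19435 := ndS (p := 13227) (l := 6) rfl N13227 D19435
theorem N13549 : nd 13549 = n19436 := ndS (p := 13227) (l := 7) rfl N13227 D19436
theorem N13550 : nd 13550 = n19437 := ndS (p := 13230) (l := 6) rfl N13230 D19437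
theorem N13551 : nd 13551 = n19438 := ndS (p := 13234) (l := 4) rfl N13234 D19438
theorem N13552 : nd 13552 = n19439 := ndS (p := 13234) (l := 6) rfl N13234 D19439
theorem N13553 : nd 13553 = n19440 := ndS (p := 13236) (l := 4) rfl N13236 D19440
theorem N13554 : nd 13554 = n19441 := ndS (p := 13236) (l := 6) rfl N13236 D19441
theorem N13555 : nd 13555 = n19442 := ndS (p := 13238) (l := 6) rfl N13238 D19442
theorem N13556 : nd 13556 = n19443 := ndS (p := 13240) (l := 6) rfl N13240 D19443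
theorem N13557 : nd 13557 = n19444 := ndS (p := 13244) (l := 4) rfl N13244 D19444
theorem N13558 : nd 13558 = n19445 := ndS (p := 13245) (l := 3) rfl N13245 D19445
theorem N13559 : nd 13559 = n19446 := ndS (p := 13245) (l := 5) rfl N13245 D19446
theorem N13560 : nd 13560 = n19447 := ndS (p := 13246) (l := 5) rfl N13246 D19447
theorem N13561 : nd 13561 = n19448 := ndS (p := 13247) (l := 6) rfl N13247 D19448
theorem N13562 : nd 13562 = n19449 := ndS (p := 13249) (l := 5) rfl N13249 D19449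
theorem N13563 : nd 13563 = n19450 := ndS (p := 13250) (l := 5) rfl N13250 D19450
theorem N13564 : nd 13564 = n19451 := ndS (p := 13251) (l := 6) rfl N13251 D19451
theorem N13565 : nd 13565 = n19452 := ndS (p := 13252) (l := 4) rfl N13252 D19452
theorem N13566 : nd 13566 = n19453 := ndS (p := 13252) (l := 6) rfl N13252 D19453
theorem N13567 : nd 13567 = n19454 := ndS (p := 13254) (l := 6) rfl N13254 D19454
theorem N13568 : nd 13568 = n19455 := ndS (p := 13257) (l := 5) rfl N13257 D19455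
theorem N13569 : nd 13569 = n19456 := ndS (p := 13258) (l := 6) rfl N13258 D19456
theorem N13570 : nd 13570 = n19457 := ndS (p := 13260) (l := 6) rfl N13260 D19457
theorem N13571 : nd 13571 = n19458 := ndS (p := 13261) (l := 6) rfl N13261 D19458
theorem N13572 : nd 13572 = n19459 := ndS (p := 13263) (l := 5) rfl N13263 D19459
theorem N13573 : nd 13573 = n19460 := ndS (p := 13264) (l := 6) rfl N13264 D19460
theorem N13574 : nd 13574 = n19461 := ndS (p := 13266) (l := 6) rfl N13266 D19461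
theorem N13575 : nd 13575 = n19462 := ndS (p := 13272) (l := 3) rfl N13272 D19462
theorem N13576 : nd 13576 = n19463 := ndS (p := 13272) (l := 5) rfl N13272 D19463
theorem N13577 : nd 13577 = n19464 := ndS (p := 13273) (l := 5) rfl N13273 D19464
theorem N13578 : nd 13578 = n19465 := ndS (p := 13274) (l := 6) rfl N13274 D19465
theorem N13579 : nd 13579 = n19466 := ndS (p := 13276) (l := 5) rfl N13276 D19466
theorem N13580 : nd 13580 = n19467 := ndS (p := 13277) (l := 6) rfl N13277 D19467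
theorem N13581 : nd 13581 = n19468 := ndS (p := 13278) (l := 4) rfl N13278 D19468
theorem N13582 : nd 13582 = n19469 := ndS (p := 13278) (l := 6) rfl N13278 D19469
theorem N13583 : nd 13583 = n19470 := ndS (p := 13281) (l := 5) rfl N13281 D19470
theorem N13584 : nd 13584 = n19471 := ndS (p := 13282) (l := 6) rfl N13282 D19471
theorem N13585 : nd 13585 = n19472 := ndS (p := 13285) (l := 4) rfl N13285 D19472
theorem N13586 : nd 13586 = n19473 := ndS (p := 13285) (l := 6) rfl N13285 D19473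
theorem N13587 : nd 13587 = n19474 := ndS (p := 13287) (l := 4) rfl N13287 D19474
theorem N13588 : nd 13588 = n19475 := ndS (p := 13287) (l := 6) rfl N13287 D19475
theorem N13589 : nd 13589 = n19476 := ndS (p := 13289) (l := 6) rfl N13289 D19476
theorem N13590 : nd 13590 = n19477 := ndS (p := 13293) (l := 6) rfl N13293 D19477
theorem N13591 : nd 13591 = n19478 := ndS (p := 13297) (l := 6) rfl N13297 D19478
theorem N13592 : nd 13592 = n19479 := ndS (p := 13303) (l := 3) rfl N13303 D19479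
theorem N13593 : nd 13593 = n19480 := ndS (p := 13303) (l := 5) rfl N13303 D19480
theorem N13594 : nd 13594 = n19481 := ndS (p := 13304) (l := 5) rfl N13304 D19481
theorem N13595 : nd 13595 = n19482 := ndS (p := 13304) (l := 7) rfl N13304 D19482
theorem N13596 : nd 13596 = n19483 := ndS (p := 13305) (l := 6) rfl N13305 D19483
theorem N13597 : nd 13597 = n19484 := ndS (p := 13306) (l := 4) rfl N13306 D19484
theorem N13598 : nd 13598 = n19485 := ndS (p := 13306) (l := 6) rfl N13306 D19485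
theorem N13599 : nd 13599 = n19486 := ndS (p := 13306) (l := 7) rfl N13306 D19486
theorem N13600 : nd 13600 = n19487 := ndS (p := 13309) (l := 6) rfl N13309 D19487
theorem N13601 : nd 13601 = n19488 := ndS (p := 13309) (l := 7) rfl N13309 D19488
theorem N13602 : nd 13602 = n19489 := ndS (p := 13310) (l := 7) rfl N13310 D19489
theorem N13603 : nd 13603 = n19490 := ndS (p := 13311) (l := 8) rfl N13311 D19490
theorem N13604 : nd 13604 = n19491 := ndS (p := 13313) (l := 3) rfl N13313 D19491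
theorem N13605 : nd 13605 = n19492 := ndS (p := 13313) (l := 5) rfl N13313 D19492
theorem N13606 : nd 13606 = n19493 := ndS (p := 13314) (l := 2) rfl N13314 D19493
theorem N13607 : nd 13607 = n19494 := ndS (p := 13314) (l := 5) rfl N13314 D19494
theorem N13608 : nd 13608 = n19495 := ndS (p := 13315) (l := 6) rfl N13315 D19495
theorem N13609 : nd 13609 = n19496 := ndS (p := 13316) (l := 4) rfl N13316 D19496
theorem N13610 : nd 13610 = n19497 := ndS (p := 13316) (l := 6) rfl N13316 D19497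
theorem N13611 : nd 13611 = n19498 := ndS (p := 13318) (l := 5) rfl N13318 D19498
theorem N13612 : nd 13612 = n19499 := ndS (p := 13319) (l := 5) rfl N13319 D19499
theorem N13613 : nd 13613 = n19500 := ndS (p := 13320) (l := 6) rfl N13320 D19500
theorem N13614 : nd 13614 = n19501 := ndS (p := 13321) (l := 6) rfl N13321 D19501
theorem N13615 : nd 13615 = n19502 := ndS (p := 13323) (l := 6) rfl N13323 D19502
theorem N13616 : nd 13616 = n19503 := ndS (p := 13325) (l := 8) rfl N13325 D19503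
theorem N13617 : nd 13617 = n19504 := ndS (p := 13327) (l := 2) rfl N13327 D19504
theorem N13618 : nd 13618 = n19505 := ndS (p := 13327) (l := 5) rfl N13327 D19505
theorem N13619 : nd 13619 = n19506 := ndS (p := 13328) (l := 6) rfl N13328 D19506
theorem N13620 : nd 13620 = n19507 := ndS (p := 13329) (l := 4) rfl N13329 D19507
theorem N13621 : nd 13621 = n19508 := ndS (p := 13329) (l := 6) rfl N13329 D19508
theorem N13622 : nd 13622 = n19509 := ndS (p := 13331) (l := 5) rfl N13331 D19509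
theorem N13623 : nd 13623 = n19510 := ndS (p := 13332) (l := 4) rfl N13332 D19510
theorem N13624 : nd 13624 = n19511 := ndS (p := 13332) (l := 6) rfl N13332 D19511
theorem N13625 : nd 13625 = n19512 := ndS (p := 13334) (l := 6) rfl N13334 D19512
theorem N13626 : nd 13626 = n19513 := ndS (p := 13336) (l := 5) rfl N13336 D19513
theorem N13627 : nd 13627 = n19514 := ndS (p := 13336) (l := 7) rfl N13336 D19514
theorem N13628 : nd 13628 = n19515 := ndS (p := 13337) (l := 6) rfl N13337 D19515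
theorem N13629 : nd 13629 = n19516 := ndS (p := 13338) (l := 4) rfl N13338 D19516
theorem N13630 : nd 13630 = n19517 := ndS (p := 13338) (l := 6) rfl N13338 D19517
theorem N13631 : nd 13631 = n19518 := ndS (p := 13338) (l := 7) rfl N13338 D19518
theorem N13632 : nd 13632 = n19519 := ndS (p := 13341) (l := 4) rfl N13341 D19519
theorem N13633 : nd 13633 = n19520 := ndS (p := 13341) (l := 6) rfl N13341 D19520
theorem N13634 : nd 13634 = n19521 := ndS (p := 13343) (l := 6) rfl N13343 D19521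
theorem N13635 : nd 13635 = n19522 := ndS (p := 13343) (l := 7) rfl N13343 D19522
theorem N13636 : nd 13636 = n19523 := ndS (p := 13344) (l := 7) rfl N13344 D19523
theorem N13637 : nd 13637 = n19524 := ndS (p := 13345) (l := 8) rfl N13345 D19524
theorem N13638 : nd 13638 = n19525 := ndS (p := 13347) (l := 8) rfl N13347 D19525
theorem N13639 : nd 13639 = n19526 := ndS (p := 13349) (l := 3) rfl N13349 D19526
theorem N13640 : nd 13640 = n19527 := ndS (p := 13349) (l := 8) rfl N13349 D19527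
theorem N13641 : nd 13641 = n19528 := ndS (p := 13350) (l := 8) rfl N13350 D19528
theorem N13642 : nd 13642 = n19529 := ndS (p := 13355) (l := 6) rfl N13355 D19529
theorem N13643 : nd 13643 = n19530 := ndS (p := 13359) (l := 4) rfl N13359 D19530
theorem N13644 : nd 13644 = n19531 := ndS (p := 13359) (l := 6) rfl N13359 D19531
theorem N13645 : nd 13645 = n19532 := ndS (p := 13361) (l := 5) rfl N13361 D19532
theorem N13646 : nd 13646 = n19533 := ndS (p := 13362) (l := 5) rfl N13362 D19533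
theorem N13647 : nd 13647 = n19534 := ndS (p := 13363) (l := 6) rfl N13363 D19534
theorem N13648 : nd 13648 = n19535 := ndS (p := 13364) (l := 4) rfl N13364 D19535
theorem N13649 : nd 13649 = n19536 := ndS (p := 13364) (l := 6) rfl N13364 D19536
theorem N13650 : nd 13650 = n19537 := ndS (p := 13366) (l := 5) rfl N13366 D19537
theorem N13651 : nd 13651 = n19538 := ndS (p := 13367) (l := 6) rfl N13367 D19538
theorem N13652 : nd 13652 = n19539 := ndS (p := 13368) (l := 4) rfl N13368 D19539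
theorem N13653 : nd 13653 = n19540 := ndS (p := 13368) (l := 6) rfl N13368 D19540
theorem N13654 : nd 13654 = n19541 := ndS (p := 13370) (l := 6) rfl N13370 D19541
theorem N13655 : nd 13655 = n19542 := ndS (p := 13373) (l := 6) rfl N13373 D19542
theorem N13656 : nd 13656 = n19543 := ndS (p := 13377) (l := 4) rfl N13377 D19543
theorem N13657 : nd 13657 = n19544 := ndS (p := 13377) (l := 6) rfl N13377 D19544
theorem N13658 : nd 13658 = n19545 := ndS (p := 13379) (l := 4) rfl N13379 D19545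
theorem N13659 : nd 13659 = n19546 := ndS (p := 13379) (l := 6) rfl N13379 D19546
theorem N13660 : nd 13660 = n19547 := ndS (p := 13381) (l := 6) rfl N13381 D19547
theorem N13661 : nd 13661 = n19548 := ndS (p := 13383) (l := 6) rfl N13383 D19548
theorem N13662 : nd 13662 = n19549 := ndS (p := 13383) (l := 7) rfl N13383 D19549
theorem N13663 : nd 13663 = n19550 := ndS (p := 13384) (l := 7) rfl N13384 D19550
theorem N13664 : nd 13664 = n19551 := ndS (p := 13386) (l := 5) rfl N13386 D19551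
theorem N13665 : nd 13665 = n19552 := ndS (p := 13389) (l := 6) rfl N13389 D19552
theorem N13666 : nd 13666 = n19553 := ndS (p := 13389) (l := 7) rfl N13389 D19553
theorem N13667 : nd 13667 = n19554 := ndS (p := 13392) (l := 7) rfl N13392 D19554
theorem N13668 : nd 13668 = n19555 := ndS (p := 13396) (l := 4) rfl N13396 D19555
theorem N13669 : nd 13669 = n19556 := ndS (p := 13396) (l := 6) rfl N13396 D19556
theorem N13670 : nd 13670 = n19557 := ndS (p := 13398) (l := 5) rfl N13398 D19557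
theorem N13671 : nd 13671 = n19558 := ndS (p := 13399) (l := 6) rfl N13399 D19558
theorem N13672 : nd 13672 = n19559 := ndS (p := 13400) (l := 4) rfl N13400 D19559
theorem N13673 : nd 13673 = n19560 := ndS (p := 13400) (l := 6) rfl N13400 D19560
theorem N13674 : nd 13674 = n19561 := ndS (p := 13402) (l := 6) rfl N13402 D19561
theorem N13675 : nd 13675 = n19562 := ndS (p := 13402) (l := 7) rfl N13402 D19562
theorem N13676 : nd 13676 = n19563 := ndS (p := 13403) (l := 7) rfl N13403 D19563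
theorem N13677 : nd 13677 = n19564 := ndS (p := 13405) (l := 5) rfl N13405 D19564
theorem N13678 : nd 13678 = n19565 := ndS (p := 13406) (l := 6) rfl N13406 D19565
theorem N13679 : nd 13679 = n19566 := ndS (p := 13407) (l := 4) rfl N13407 D19566
theorem N13680 : nd 13680 = n19567 := ndS (p := 13407) (l := 6) rfl N13407 D19567
theorem N13681 : nd 13681 = n19568 := ndS (p := 13409) (l := 6) rfl N13409 D19568
theorem N13682 : nd 13682 = n19569 := ndS (p := 13410) (l := 6) rfl N13410 D19569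
theorem N13683 : nd 13683 = n19570 := ndS (p := 13410) (l := 7) rfl N13410 D19570
theorem N13684 : nd 13684 = n19571 := ndS (p := 13413) (l := 6) rfl N13413 D19571
theorem N13685 : nd 13685 = n19572 := ndS (p := 13415) (l := 4) rfl N13415 D19572
theorem N13686 : nd 13686 = n19573 := ndS (p := 13415) (l := 6) rfl N13415 D19573
theorem N13687 : nd 13687 = n19574 := ndS (p := 13418) (l := 4) rfl N13418 D19574
theorem N13688 : nd 13688 = n19575 := ndS (p := 13418) (l := 6) rfl N13418 D19575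
theorem N13689 : nd 13689 = n19576 := ndS (p := 13420) (l := 4) rfl N13420 D19576
theorem N13690 : nd 13690 = n19577 := ndS (p := 13420) (l := 6) rfl N13420 D19577
theorem N13691 : nd 13691 = n19578 := ndS (p := 13422) (l := 4) rfl N13422 D19578
theorem N13692 : nd 13692 = n19579 := ndS (p := 13422) (l := 6) rfl N13422 D19579
theorem N13693 : nd 13693 = n19580 := ndS (p := 13424) (l := 6) rfl N13424 D19580
theorem N13694 : nd 13694 = n19581 := ndS (p := 13427) (l := 4) rfl N13427 D19581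
theorem N13695 : nd 13695 = n19582 := ndS (p := 13427) (l := 6) rfl N13427 D19582
theorem N13696 : nd 13696 = n19583 := ndS (p := 13427) (l := 7) rfl N13427 D19583
theorem N13697 : nd 13697 = n19584 := ndS (p := 13430) (l := 4) rfl N13430 D19584
theorem N13698 : nd 13698 = n19585 := ndS (p := 13430) (l := 6) rfl N13430 D19585
theorem N13699 : nd 13699 = n19586 := ndS (p := 13432) (l := 6) rfl N13432 D19586
theorem N13700 : nd 13700 = n19587 := ndS (p := 13434) (l := 7) rfl N13434 D19587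
theorem N13701 : nd 13701 = n19588 := ndS (p := 13437) (l := 4) rfl N13437 D19588
theorem N13702 : nd 13702 = n19589 := ndS (p := 13437) (l := 6) rfl N13437 D19589
theorem N13703 : nd 13703 = n19590 := ndS (p := 13439) (l := 6) rfl N13439 D19590
theorem N13704 : nd 13704 = n19591 := ndS (p := 13442) (l := 4) rfl N13442 D19591
theorem N13705 : nd 13705 = n19592 := ndS (p := 13442) (l := 6) rfl N13442 D19592
theorem N13706 : nd 13706 = n19593 := ndS (p := 13444) (l := 5) rfl N13444 D19593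
theorem N13707 : nd 13707 = n19594 := ndS (p := 13445) (l := 6) rfl N13445 D19594
theorem N13708 : nd 13708 = n19595 := ndS (p := 13446) (l := 4) rfl N13446 D19595
theorem N13709 : nd 13709 = n19596 := ndS (p := 13446) (l := 6) rfl N13446 D19596
theorem N13710 : nd 13710 = n19597 := ndS (p := 13448) (l := 5) rfl N13448 D19597
theorem N13711 : nd 13711 = n19598 := ndS (p := 13449) (l := 4) rfl N13449 D19598
theorem N13712 : nd 13712 = n19599 := ndS (p := 13449) (l := 6) rfl N13449 D19599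
theorem N13713 : nd 13713 = n19600 := ndS (p := 13451) (l := 6) rfl N13451 D19600
theorem N13714 : nd 13714 = n19601 := ndS (p := 13453) (l := 5) rfl N13453 D19601
theorem N13715 : nd 13715 = n19602 := ndS (p := 13454) (l := 6) rfl N13454 D19602
theorem N13716 : nd 13716 = n19603 := ndS (p := 13455) (l := 4) rfl N13455 D19603
theorem N13717 : nd 13717 = n19604 := ndS (p := 13455) (l := 6) rfl N13455 D19604
theorem N13718 : nd 13718 = n19605 := ndS (p := 13455) (l := 7) rfl N13455 D19605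
theorem N13719 : nd 13719 = n19606 := ndS (p := 13458) (l := 6) rfl N13458 D19606
theorem N13720 : nd 13720 = n19607 := ndS (p := 13458) (l := 7) rfl N13458 D19607
theorem N13721 : nd 13721 = n19608 := ndS (p := 13459) (l := 7) rfl N13459 D19608
theorem N13722 : nd 13722 = n19609 := ndS (p := 13461) (l := 4) rfl N13461 D19609
theorem N13723 : nd 13723 = n19610 := ndS (p := 13461) (l := 6) rfl N13461 D19610
theorem N13724 : nd 13724 = n19611 := ndS (p := 13463) (l := 6) rfl N13463 D19611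
theorem N13725 : nd 13725 = n19612 := ndS (p := 13465) (l := 5) rfl N13465 D19612
theorem N13726 : nd 13726 = n19613 := ndS (p := 13466) (l := 6) rfl N13466 D19613
theorem N13727 : nd 13727 = n19614 := ndS (p := 13468) (l := 4) rfl N13468 D19614
theorem N13728 : nd 13728 = n19615 := ndS (p := 13468) (l := 6) rfl N13468 D19615
theorem N13729 : nd 13729 = n19616 := ndS (p := 13470) (l := 6) rfl N13470 D19616
theorem N13730 : nd 13730 = n19617 := ndS (p := 13475) (l := 4) rfl N13475 D19617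
theorem N13731 : nd 13731 = n19618 := ndS (p := 13475) (l := 6) rfl N13475 D19618
theorem N13732 : nd 13732 = n19619 := ndS (p := 13477) (l := 6) rfl N13477 D19619
theorem N13733 : nd 13733 = n19620 := ndS (p := 13479) (l := 4) rfl N13479 D19620
theorem N13734 : nd 13734 = n19621 := ndS (p := 13479) (l := 6) rfl N13479 D19621
theorem N13735 : nd 13735 = n19622 := ndS (p := 13481) (l := 4) rfl N13481 D19622
theorem N13736 : nd 13736 = n19623 := ndS (p := 13481) (l := 6) rfl N13481 D19623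
theorem N13737 : nd 13737 = n19624 := ndS (p := 13483) (l := 4) rfl N13483 D19624
theorem N13738 : nd 13738 = n19625 := ndS (p := 13483) (l := 6) rfl N13483 D19625
theorem N13739 : nd 13739 = n19626 := ndS (p := 13485) (l := 6) rfl N13485 D19626
theorem N13740 : nd 13740 = n19627 := ndS (p := 13485) (l := 7) rfl N13485 D19627
theorem N13741 : nd 13741 = n19628 := ndS (p := 13486) (l := 7) rfl N13486 D19628
theorem N13742 : nd 13742 = n19629 := ndS (p := 13487) (l := 8) rfl N13487 D19629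
theorem N13743 : nd 13743 = n19630 := ndS (p := 13489) (l := 5) rfl N13489 D19630
theorem N13744 : nd 13744 = n19631 := ndS (p := 13490) (l := 4) rfl N13490 D19631
theorem N13745 : nd 13745 = n19632 := ndS (p := 13490) (l := 6) rfl N13490 D19632
theorem N13746 : nd 13746 = n19633 := ndS (p := 13492) (l := 6) rfl N13492 D19633
theorem N13747 : nd 13747 = n19634 := ndS (p := 13494) (l := 4) rfl N13494 D19634
theorem N13748 : nd 13748 = n19635 := ndS (p := 13494) (l := 6) rfl N13494 D19635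
theorem N13749 : nd 13749 = n19636 := ndS (p := 13495) (l := 6) rfl N13495 D19636
theorem N13750 : nd 13750 = n19637 := ndS (p := 13497) (l := 5) rfl N13497 D19637
theorem N13751 : nd 13751 = n19638 := ndS (p := 13498) (l := 8) rfl N13498 D19638
theorem N13752 : nd 13752 = n19639 := ndS (p := 13501) (l := 5) rfl N13501 D19639
theorem N13753 : nd 13753 = n19640 := ndS (p := 13502) (l := 6) rfl N13502 D19640
theorem N13754 : nd 13754 = n19641 := ndS (p := 13502) (l := 7) rfl N13502 D19641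
theorem N13755 : nd 13755 = n19642 := ndS (p := 13505) (l := 6) rfl N13505 D19642
theorem N13756 : nd 13756 = n19643 := ndS (p := 13506) (l := 7) rfl N13506 D19643
theorem N13757 : nd 13757 = n19644 := ndS (p := 13509) (l := 6) rfl N13509 D19644
theorem N13758 : nd 13758 = n19645 := ndS (p := 13512) (l := 6) rfl N13512 D19645
theorem N13759 : nd 13759 = n19646 := ndS (p := 13514) (l := 4) rfl N13514 D19646
theorem N13760 : nd 13760 = n19647 := ndS (p := 13514) (l := 6) rfl N13514 D19647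
theorem N13761 : nd 13761 = n19648 := ndS (p := 13516) (l := 6) rfl N13516 D19648
theorem N13762 : nd 13762 = n19649 := ndS (p := 13518) (l := 4) rfl N13518 D19649
theorem N13763 : nd 13763 = n19650 := ndS (p := 13518) (l := 6) rfl N13518 D19650
theorem N13764 : nd 13764 = n19651 := ndS (p := 13520) (l := 6) rfl N13520 D19651
theorem N13765 : nd 13765 = n19652 := ndS (p := 13521) (l := 4) rfl N13521 D19652
theorem N13766 : nd 13766 = n19653 := ndS (p := 13521) (l := 6) rfl N13521 D19653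
theorem N13767 : nd 13767 = n19654 := ndS (p := 13523) (l := 6) rfl N13523 D19654
theorem N13768 : nd 13768 = n19655 := ndS (p := 13525) (l := 5) rfl N13525 D19655
theorem N13769 : nd 13769 = n19656 := ndS (p := 13526) (l := 6) rfl N13526 D19656
theorem N13770 : nd 13770 = n19657 := ndS (p := 13527) (l := 6) rfl N13527 D19657
theorem N13771 : nd 13771 = n19658 := ndS (p := 13531) (l := 6) rfl N13531 D19658
theorem N13772 : nd 13772 = n19659 := ndS (p := 13533) (l := 6) rfl N13533 D19659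
theorem N13773 : nd 13773 = n19660 := ndS (p := 13536) (l := 4) rfl N13536 D19660
theorem N13774 : nd 13774 = n19661 := ndS (p := 13536) (l := 6) rfl N13536 D19661
theorem N13775 : nd 13775 = n19662 := ndS (p := 13536) (l := 7) rfl N13536 D19662
theorem N13776 : nd 13776 = n19663 := ndS (p := 13539) (l := 6) rfl N13539 D19663
theorem N13777 : nd 13777 = n19664 := ndS (p := 13541) (l := 4) rfl N13541 D19664
theorem N13778 : nd 13778 = n19665 := ndS (p := 13541) (l := 6) rfl N13541 D19665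
theorem N13779 : nd 13779 = n19666 := ndS (p := 13543) (l := 4) rfl N13543 D19666
theorem N13780 : nd 13780 = n19667 := ndS (p := 13543) (l := 6) rfl N13543 D19667
theorem N13781 : nd 13781 = n19668 := ndS (p := 13545) (l := 6) rfl N13545 D19668
theorem N13782 : nd 13782 = n19669 := ndS (p := 13547) (l := 6) rfl N13547 D19669
theorem N13783 : nd 13783 = n19670 := ndS (p := 13547) (l := 7) rfl N13547 D19670
theorem N13784 : nd 13784 = n19671 := ndS (p := 13548) (l := 7) rfl N13548 D19671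
theorem N13785 : nd 13785 = n19672 := ndS (p := 13550) (l := 5) rfl N13550 D19672
theorem N13786 : nd 13786 = n19673 := ndS (p := 13551) (l := 6) rfl N13551 D19673
theorem N13787 : nd 13787 = n19674 := ndS (p := 13553) (l := 6) rfl N13553 D19674
theorem N13788 : nd 13788 = n19675 := ndS (p := 13555) (l := 5) rfl N13555 D19675
theorem N13789 : nd 13789 = n19676 := ndS (p := 13557) (l := 5) rfl N13557 D19676
theorem N13790 : nd 13790 = n19677 := ndS (p := 13558) (l := 5) rfl N13558 D19677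
theorem N13791 : nd 13791 = n19678 := ndS (p := 13559) (l := 6) rfl N13559 D19678
theorem N13792 : nd 13792 = n19679 := ndS (p := 13560) (l := 4) rfl N13560 D19679
theorem N13793 : nd 13793 = n19680 := ndS (p := 13560) (l := 6) rfl N13560 D19680
theorem N13794 : nd 13794 = n19681 := ndS (p := 13562) (l := 6) rfl N13562 D19681
theorem N13795 : nd 13795 = n19682 := ndS (p := 13563) (l := 4) rfl N13563 D19682
theorem N13796 : nd 13796 = n19683 := ndS (p := 13563) (l := 6) rfl N13563 D19683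
theorem N13797 : nd 13797 = n19684 := ndS (p := 13565) (l := 6) rfl N13565 D19684
theorem N13798 : nd 13798 = n19685 := ndS (p := 13568) (l := 6) rfl N13568 D19685
theorem N13799 : nd 13799 = n19686 := ndS (p := 13572) (l := 6) rfl N13572 D19686
theorem N13800 : nd 13800 = n19687 := ndS (p := 13575) (l := 5) rfl N13575 D19687
theorem N13801 : nd 13801 = n19688 := ndS (p := 13576) (l := 6) rfl N13576 D19688
theorem N13802 : nd 13802 = n19689 := ndS (p := 13577) (l := 4) rfl N13577 D19689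
theorem N13803 : nd 13803 = n19690 := ndS (p := 13577) (l := 6) rfl N13577 D19690
theorem N13804 : nd 13804 = n19691 := ndS (p := 13579) (l := 4) rfl N13579 D19691
theorem N13805 : nd 13805 = n19692 := ndS (p := 13579) (l := 6) rfl N13579 D19692
theorem N13806 : nd 13806 = n19693 := ndS (p := 13581) (l := 6) rfl N13581 D19693
theorem N13807 : nd 13807 = n19694 := ndS (p := 13583) (l := 4) rfl N13583 D19694
theorem N13808 : nd 13808 = n19695 := ndS (p := 13583) (l := 6) rfl N13583 D19695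
theorem N13809 : nd 13809 = n19696 := ndS (p := 13585) (l := 6) rfl N13585 D19696
theorem N13810 : nd 13810 = n19697 := ndS (p := 13587) (l := 6) rfl N13587 D19697
theorem N13811 : nd 13811 = n19698 := ndS (p := 13589) (l := 5) rfl N13589 D19698
theorem N13812 : nd 13812 = n19699 := ndS (p := 13592) (l := 5) rfl N13592 D19699
theorem N13813 : nd 13813 = n19700 := ndS (p := 13593) (l := 6) rfl N13593 D19700
theorem N13814 : nd 13814 = n19701 := ndS (p := 13594) (l := 4) rfl N13594 D19701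
theorem N13815 : nd 13815 = n19702 := ndS (p := 13594) (l := 6) rfl N13594 D19702
theorem N13816 : nd 13816 = n19703 := ndS (p := 13594) (l := 7) rfl N13594 D19703
theorem N13817 : nd 13817 = n19704 := ndS (p := 13597) (l := 6) rfl N13597 D19704
theorem N13818 : nd 13818 = n19705 := ndS (p := 13597) (l := 7) rfl N13597 D19705
theorem N13819 : nd 13819 = n19706 := ndS (p := 13598) (l := 7) rfl N13598 D19706
theorem N13820 : nd 13820 = n19707 := ndS (p := 13600) (l := 5) rfl N13600 D19707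
theorem N13821 : nd 13821 = n19708 := ndS (p := 13600) (l := 7) rfl N13600 D19708
theorem N13822 : nd 13822 = n19709 := ndS (p := 13601) (l := 8) rfl N13601 D19709
theorem N13823 : nd 13823 = n19710 := ndS (p := 13602) (l := 8) rfl N13602 D19710
theorem N13824 : nd 13824 = n19711 := ndS (p := 13604) (l := 5) rfl N13604 D19711
theorem N13825 : nd 13825 = n19712 := ndS (p := 13605) (l := 6) rfl N13605 D19712
theorem N13826 : nd 13826 = n19713 := ndS (p := 13606) (l := 5) rfl N13606 D19713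
theorem N13827 : nd 13827 = n19714 := ndS (p := 13607) (l := 4) rfl N13607 D19714
theorem N13828 : nd 13828 = n19715 := ndS (p := 13607) (l := 6) rfl N13607 D19715
theorem N13829 : nd 13829 = n19716 := ndS (p := 13609) (l := 6) rfl N13609 D19716
theorem N13830 : nd 13830 = n19717 := ndS (p := 13611) (l := 6) rfl N13611 D19717
theorem N13831 : nd 13831 = n19718 := ndS (p := 13612) (l := 6) rfl N13612 D19718
theorem N13832 : nd 13832 = n19719 := ndS (p := 13617) (l := 5) rfl N13617 D19719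
theorem N13833 : nd 13833 = n19720 := ndS (p := 13618) (l := 4) rfl N13618 D19720
theorem N13834 : nd 13834 = n19721 := ndS (p := 13618) (l := 6) rfl N13618 D19721
theorem N13835 : nd 13835 = n19722 := ndS (p := 13620) (l := 6) rfl N13620 D19722
theorem N13836 : nd 13836 = n19723 := ndS (p := 13622) (l := 4) rfl N13622 D19723
theorem N13837 : nd 13837 = n19724 := ndS (p := 13622) (l := 6) rfl N13622 D19724
theorem N13838 : nd 13838 = n19725 := ndS (p := 13623) (l := 6) rfl N13623 D19725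
theorem N13839 : nd 13839 = n19726 := ndS (p := 13625) (l := 5) rfl N13625 D19726
theorem N13840 : nd 13840 = n19727 := ndS (p := 13626) (l := 4) rfl N13626 D19727
theorem N13841 : nd 13841 = n19728 := ndS (p := 13626) (l := 6) rfl N13626 D19728
theorem N13842 : nd 13842 = n19729 := ndS (p := 13626) (l := 7) rfl N13626 D19729
theorem N13843 : nd 13843 = n19730 := ndS (p := 13629) (l := 6) rfl N13629 D19730
theorem N13844 : nd 13844 = n19731 := ndS (p := 13629) (l := 7) rfl N13629 D19731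
theorem N13845 : nd 13845 = n19732 := ndS (p := 13630) (l := 7) rfl N13630 D19732
theorem N13846 : nd 13846 = n19733 := ndS (p := 13632) (l := 6) rfl N13632 D19733
theorem N13847 : nd 13847 = n19734 := ndS (p := 13634) (l := 5) rfl N13634 D19734
theorem N13848 : nd 13848 = n19735 := ndS (p := 13634) (l := 7) rfl N13634 D19735
theorem N13849 : nd 13849 = n19736 := ndS (p := 13635) (l := 8) rfl N13635 D19736
theorem N13850 : nd 13850 = n19737 := ndS (p := 13636) (l := 8) rfl N13636 D19737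
theorem N13851 : nd 13851 = n19738 := ndS (p := 13639) (l := 8) rfl N13639 D19738
theorem N13852 : nd 13852 = n19739 := ndS (p := 13643) (l := 6) rfl N13643 D19739
theorem N13853 : nd 13853 = n19740 := ndS (p := 13645) (l := 6) rfl N13645 D19740
theorem N13854 : nd 13854 = n19741 := ndS (p := 13646) (l := 4) rfl N13646 D19741
theorem N13855 : nd 13855 = n19742 := ndS (p := 13646) (l := 6) rfl N13646 D19742
theorem N13856 : nd 13856 = n19743 := ndS (p := 13648) (l := 6) rfl N13648 D19743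
theorem N13857 : nd 13857 = n19744 := ndS (p := 13650) (l := 4) rfl N13650 D19744
theorem N13858 : nd 13858 = n19745 := ndS (p := 13650) (l := 6) rfl N13650 D19745
theorem N13859 : nd 13859 = n19746 := ndS (p := 13652) (l := 6) rfl N13652 D19746
theorem N13860 : nd 13860 = n19747 := ndS (p := 13654) (l := 5) rfl N13654 D19747
theorem N13861 : nd 13861 = n19748 := ndS (p := 13656) (l := 6) rfl N13656 D19748
theorem N13862 : nd 13862 = n19749 := ndS (p := 13658) (l := 6) rfl N13658 D19749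
theorem N13863 : nd 13863 = n19750 := ndS (p := 13660) (l := 5) rfl N13660 D19750
theorem N13864 : nd 13864 = n19751 := ndS (p := 13661) (l := 5) rfl N13661 D19751
theorem N13865 : nd 13865 = n19752 := ndS (p := 13661) (l := 7) rfl N13661 D19752
theorem N13866 : nd 13866 = n19753 := ndS (p := 13665) (l := 7) rfl N13665 D19753
theorem N13867 : nd 13867 = n19754 := ndS (p := 13668) (l := 6) rfl N13668 D19754
theorem N13868 : nd 13868 = n19755 := ndS (p := 13670) (l := 4) rfl N13670 D19755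
theorem N13869 : nd 13869 = n19756 := ndS (p := 13670) (l := 6) rfl N13670 D19756
theorem N13870 : nd 13870 = n19757 := ndS (p := 13672) (l := 6) rfl N13672 D19757
theorem N13871 : nd 13871 = n19758 := ndS (p := 13674) (l := 5) rfl N13674 D19758
theorem N13872 : nd 13872 = n19759 := ndS (p := 13674) (l := 7) rfl N13674 D19759
theorem N13873 : nd 13873 = n19760 := ndS (p := 13677) (l := 4) rfl N13677 D19760
theorem N13874 : nd 13874 = n19761 := ndS (p := 13677) (l := 6) rfl N13677 D19761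
theorem N13875 : nd 13875 = n19762 := ndS (p := 13679) (l := 6) rfl N13679 D19762
theorem N13876 : nd 13876 = n19763 := ndS (p := 13682) (l := 7) rfl N13682 D19763
theorem N13877 : nd 13877 = n19764 := ndS (p := 13685) (l := 6) rfl N13685 D19764
theorem N13878 : nd 13878 = n19765 := ndS (p := 13687) (l := 6) rfl N13687 D19765
theorem N13879 : nd 13879 = n19766 := ndS (p := 13689) (l := 6) rfl N13689 D19766
theorem N13880 : nd 13880 = n19767 := ndS (p := 13691) (l := 6) rfl N13691 D19767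
theorem N13881 : nd 13881 = n19768 := ndS (p := 13693) (l := 5) rfl N13693 D19768
theorem N13882 : nd 13882 = n19769 := ndS (p := 13694) (l := 6) rfl N13694 D19769
theorem N13883 : nd 13883 = n19770 := ndS (p := 13694) (l := 7) rfl N13694 D19770
theorem N13884 : nd 13884 = n19771 := ndS (p := 13695) (l := 7) rfl N13695 D19771
theorem N13885 : nd 13885 = n19772 := ndS (p := 13697) (l := 6) rfl N13697 D19772
theorem N13886 : nd 13886 = n19773 := ndS (p := 13699) (l := 5) rfl N13699 D19773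
theorem N13887 : nd 13887 = n19774 := ndS (p := 13701) (l := 6) rfl N13701 D19774
theorem N13888 : nd 13888 = n19775 := ndS (p := 13703) (l := 5) rfl N13703 D19775
theorem N13889 : nd 13889 = n19776 := ndS (p := 13704) (l := 6) rfl N13704 D19776
theorem N13890 : nd 13890 = n19777 := ndS (p := 13706) (l := 4) rfl N13706 D19777
theorem N13891 : nd 13891 = n19778 := ndS (p := 13706) (l := 6) rfl N13706 D19778
theorem N13892 : nd 13892 = n19779 := ndS (p := 13708) (l := 6) rfl N13708 D19779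
theorem N13893 : nd 13893 = n19780 := ndS (p := 13710) (l := 4) rfl N13710 D19780
theorem N13894 : nd 13894 = n19781 := ndS (p := 13710) (l := 6) rfl N13710 D19781
theorem N13895 : nd 13895 = n19782 := ndS (p := 13711) (l := 6) rfl N13711 D19782
theorem N13896 : nd 13896 = n19783 := ndS (p := 13713) (l := 5) rfl N13713 D19783
theorem N13897 : nd 13897 = n19784 := ndS (p := 13714) (l := 4) rfl N13714 D19784
theorem N13898 : nd 13898 = n19785 := ndS (p := 13714) (l := 6) rfl N13714 D19785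
theorem N13899 : nd 13899 = n19786 := ndS (p := 13716) (l := 6) rfl N13716 D19786
theorem N13900 : nd 13900 = n19787 := ndS (p := 13716) (l := 7) rfl N13716 D19787
theorem N13901 : nd 13901 = n19788 := ndS (p := 13717) (l := 7) rfl N13717 D19788
theorem N13902 : nd 13902 = n19789 := ndS (p := 13719) (l := 5) rfl N13719 D19789
theorem N13903 : nd 13903 = n19790 := ndS (p := 13719) (l := 7) rfl N13719 D19790
theorem N13904 : nd 13904 = n19791 := ndS (p := 13722) (l := 6) rfl N13722 D19791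
theorem N13905 : nd 13905 = n19792 := ndS (p := 13724) (l := 5) rfl N13724 D19792
theorem N13906 : nd 13906 = n19793 := ndS (p := 13726) (l := 5) rfl N13726 D19793
theorem N13907 : nd 13907 = n19794 := ndS (p := 13727) (l := 6) rfl N13727 D19794
theorem N13908 : nd 13908 = n19795 := ndS (p := 13729) (l := 5) rfl N13729 D19795
theorem N13909 : nd 13909 = n19796 := ndS (p := 13730) (l := 6) rfl N13730 D19796
theorem N13910 : nd 13910 = n19797 := ndS (p := 13732) (l := 5) rfl N13732 D19797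
theorem N13911 : nd 13911 = n19798 := ndS (p := 13733) (l := 6) rfl N13733 D19798
theorem N13912 : nd 13912 = n19799 := ndS (p := 13735) (l := 6) rfl N13735 D19799
theorem N13913 : nd 13913 = n19800 := ndS (p := 13737) (l := 6) rfl N13737 D19800
theorem N13914 : nd 13914 = n19801 := ndS (p := 13739) (l := 5) rfl N13739 D19801
theorem N13915 : nd 13915 = n19802 := ndS (p := 13739) (l := 7) rfl N13739 D19802
theorem N13916 : nd 13916 = n19803 := ndS (p := 13740) (l := 8) rfl N13740 D19803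
theorem N13917 : nd 13917 = n19804 := ndS (p := 13741) (l := 8) rfl N13741 D19804
theorem N13918 : nd 13918 = n19805 := ndS (p := 13743) (l := 4) rfl N13743 D19805
theorem N13919 : nd 13919 = n19806 := ndS (p := 13743) (l := 6) rfl N13743 D19806
theorem N13920 : nd 13920 = n19807 := ndS (p := 13744) (l := 6) rfl N13744 D19807
theorem N13921 : nd 13921 = n19808 := ndS (p := 13746) (l := 5) rfl N13746 D19808
theorem N13922 : nd 13922 = n19809 := ndS (p := 13747) (l := 6) rfl N13747 D19809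
theorem N13923 : nd 13923 = n19810 := ndS (p := 13749) (l := 5) rfl N13749 D19810
theorem N13924 : nd 13924 = n19811 := ndS (p := 13752) (l := 6) rfl N13752 D19811
theorem N13925 : nd 13925 = n19812 := ndS (p := 13753) (l := 7) rfl N13753 D19812
theorem N13926 : nd 13926 = n19813 := ndS (p := 13758) (l := 5) rfl N13758 D19813
theorem N13927 : nd 13927 = n19814 := ndS (p := 13759) (l := 6) rfl N13759 D19814
theorem N13928 : nd 13928 = n19815 := ndS (p := 13761) (l := 5) rfl N13761 D19815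
theorem N13929 : nd 13929 = n19816 := ndS (p := 13762) (l := 6) rfl N13762 D19816
theorem N13930 : nd 13930 = n19817 := ndS (p := 13765) (l := 6) rfl N13765 D19817
theorem N13931 : nd 13931 = n19818 := ndS (p := 13767) (l := 5) rfl N13767 D19818
theorem N13932 : nd 13932 = n19819 := ndS (p := 13771) (l := 5) rfl N13771 D19819
theorem N13933 : nd 13933 = n19820 := ndS (p := 13772) (l := 5) rfl N13772 D19820
theorem N13934 : nd 13934 = n19821 := ndS (p := 13773) (l := 6) rfl N13773 D19821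
theorem N13935 : nd 13935 = n19822 := ndS (p := 13773) (l := 7) rfl N13773 D19822
theorem N13936 : nd 13936 = n19823 := ndS (p := 13774) (l := 7) rfl N13774 D19823
theorem N13937 : nd 13937 = n19824 := ndS (p := 13776) (l := 5) rfl N13776 D19824
theorem N13938 : nd 13938 = n19825 := ndS (p := 13777) (l := 6) rfl N13777 D19825
theorem N13939 : nd 13939 = n19826 := ndS (p := 13779) (l := 6) rfl N13779 D19826
theorem N13940 : nd 13940 = n19827 := ndS (p := 13781) (l := 5) rfl N13781 D19827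
theorem N13941 : nd 13941 = n19828 := ndS (p := 13782) (l := 5) rfl N13782 D19828
theorem N13942 : nd 13942 = n19829 := ndS (p := 13782) (l := 7) rfl N13782 D19829
theorem N13943 : nd 13943 = n19830 := ndS (p := 13786) (l := 5) rfl N13786 D19830
theorem N13944 : nd 13944 = n19831 := ndS (p := 13787) (l := 5) rfl N13787 D19831
theorem N13945 : nd 13945 = n19832 := ndS (p := 13789) (l := 6) rfl N13789 D19832
theorem N13946 : nd 13946 = n19833 := ndS (p := 13790) (l := 4) rfl N13790 D19833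
theorem N13947 : nd 13947 = n19834 := ndS (p := 13790) (l := 6) rfl N13790 D19834
theorem N13948 : nd 13948 = n19835 := ndS (p := 13792) (l := 6) rfl N13792 D19835
theorem N13949 : nd 13949 = n19836 := ndS (p := 13795) (l := 6) rfl N13795 D19836
theorem N13950 : nd 13950 = n19837 := ndS (p := 13797) (l := 5) rfl N13797 D19837
theorem N13951 : nd 13951 = n19838 := ndS (p := 13800) (l := 4) rfl N13800 D19838
theorem N13952 : nd 13952 = n19839 := ndS (p := 13800) (l := 6) rfl N13800 D19839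
theorem N13953 : nd 13953 = n19840 := ndS (p := 13802) (l := 6) rfl N13802 D19840
theorem N13954 : nd 13954 = n19841 := ndS (p := 13804) (l := 6) rfl N13804 D19841
theorem N13955 : nd 13955 = n19842 := ndS (p := 13806) (l := 5) rfl N13806 D19842
theorem N13956 : nd 13956 = n19843 := ndS (p := 13807) (l := 6) rfl N13807 D19843
theorem N13957 : nd 13957 = n19844 := ndS (p := 13809) (l := 5) rfl N13809 D19844
theorem N13958 : nd 13958 = n19845 := ndS (p := 13810) (l := 5) rfl N13810 D19845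
theorem N13959 : nd 13959 = n19846 := ndS (p := 13812) (l := 4) rfl N13812 D19846
theorem N13960 : nd 13960 = n19847 := ndS (p := 13812) (l := 6) rfl N13812 D19847
theorem N13961 : nd 13961 = n19848 := ndS (p := 13814) (l := 6) rfl N13814 D19848
theorem N13962 : nd 13962 = n19849 := ndS (p := 13814) (l := 7) rfl N13814 D19849
theorem N13963 : nd 13963 = n19850 := ndS (p := 13815) (l := 7) rfl N13815 D19850
theorem N13964 : nd 13964 = n19851 := ndS (p := 13817) (l := 5) rfl N13817 D19851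
theorem N13965 : nd 13965 = n19852 := ndS (p := 13817) (l := 7) rfl N13817 D19852
theorem N13966 : nd 13966 = n19853 := ndS (p := 13820) (l := 7) rfl N13820 D19853
theorem N13967 : nd 13967 = n19854 := ndS (p := 13821) (l := 8) rfl N13821 D19854
theorem N13968 : nd 13968 = n19855 := ndS (p := 13824) (l := 4) rfl N13824 D19855
theorem N13969 : nd 13969 = n19856 := ndS (p := 13824) (l := 6) rfl N13824 D19856
theorem N13970 : nd 13970 = n19857 := ndS (p := 13826) (l := 4) rfl N13826 D19857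
theorem N13971 : nd 13971 = n19858 := ndS (p := 13826) (l := 6) rfl N13826 D19858
theorem N13972 : nd 13972 = n19859 := ndS (p := 13827) (l := 6) rfl N13827 D19859
theorem N13973 : nd 13973 = n19860 := ndS (p := 13829) (l := 5) rfl N13829 D19860
theorem N13974 : nd 13974 = n19861 := ndS (p := 13832) (l := 4) rfl N13832 D19861
theorem N13975 : nd 13975 = n19862 := ndS (p := 13832) (l := 6) rfl N13832 D19862
theorem N13976 : nd 13976 = n19863 := ndS (p := 13833) (l := 6) rfl N13833 D19863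
theorem N13977 : nd 13977 = n19864 := ndS (p := 13835) (l := 5) rfl N13835 D19864
theorem N13978 : nd 13978 = n19865 := ndS (p := 13836) (l := 6) rfl N13836 D19865
theorem N13979 : nd 13979 = n19866 := ndS (p := 13838) (l := 5) rfl N13838 D19866
theorem N13980 : nd 13980 = n19867 := ndS (p := 13840) (l := 6) rfl N13840 D19867
theorem N13981 : nd 13981 = n19868 := ndS (p := 13840) (l := 7) rfl N13840 D19868
theorem N13982 : nd 13982 = n19869 := ndS (p := 13841) (l := 7) rfl N13841 D19869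
theorem N13983 : nd 13983 = n19870 := ndS (p := 13843) (l := 5) rfl N13843 D19870
theorem N13984 : nd 13984 = n19871 := ndS (p := 13843) (l := 7) rfl N13843 D19871
theorem N13985 : nd 13985 = n19872 := ndS (p := 13846) (l := 5) rfl N13846 D19872
theorem N13986 : nd 13986 = n19873 := ndS (p := 13847) (l := 7) rfl N13847 D19873
theorem N13987 : nd 13987 = n19874 := ndS (p := 13848) (l := 8) rfl N13848 D19874
theorem N13988 : nd 13988 = n19875 := ndS (p := 13852) (l := 5) rfl N13852 D19875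
theorem N13989 : nd 13989 = n19876 := ndS (p := 13854) (l := 6) rfl N13854 D19876
theorem N13990 : nd 13990 = n19877 := ndS (p := 13856) (l := 5) rfl N13856 D19877
theorem N13991 : nd 13991 = n19878 := ndS (p := 13857) (l := 6) rfl N13857 D19878
theorem N13992 : nd 13992 = n19879 := ndS (p := 13859) (l := 5) rfl N13859 D19879
theorem N13993 : nd 13993 = n19880 := ndS (p := 13861) (l := 5) rfl N13861 D19880
theorem N13994 : nd 13994 = n19881 := ndS (p := 13862) (l := 5) rfl N13862 D19881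
theorem N13995 : nd 13995 = n19882 := ndS (p := 13864) (l := 7) rfl N13864 D19882
theorem N13996 : nd 13996 = n19883 := ndS (p := 13867) (l := 5) rfl N13867 D19883
theorem N13997 : nd 13997 = n19884 := ndS (p := 13868) (l := 6) rfl N13868 D19884
theorem N13998 : nd 13998 = n19885 := ndS (p := 13870) (l := 5) rfl N13870 D19885
theorem N13999 : nd 13999 = n19886 := ndS (p := 13871) (l := 7) rfl N13871 D19886
theorem N14000 : nd 14000 = n19887 := ndS (p := 13873) (l := 6) rfl N13873 D19887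
theorem N14001 : nd 14001 = n19888 := ndS (p := 13875) (l := 5) rfl N13875 D19888
theorem N14002 : nd 14002 = n19889 := ndS (p := 13877) (l := 5) rfl N13877 D19889
theorem N14003 : nd 14003 = n19890 := ndS (p := 13878) (l := 5) rfl N13878 D19890
theorem N14004 : nd 14004 = n19891 := ndS (p := 13879) (l := 5) rfl N13879 D19891
theorem N14005 : nd 14005 = n19892 := ndS (p := 13880) (l := 5) rfl N13880 D19892
theorem N14006 : nd 14006 = n19893 := ndS (p := 13882) (l := 5) rfl N13882 D19893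
theorem N14007 : nd 14007 = n19894 := ndS (p := 13882) (l := 7) rfl N13882 D19894
theorem N14008 : nd 14008 = n19895 := ndS (p := 13885) (l := 5) rfl N13885 D19895
theorem N14009 : nd 14009 = n19896 := ndS (p := 13887) (l := 5) rfl N13887 D19896
theorem N14010 : nd 14010 = n19897 := ndS (p := 13889) (l := 5) rfl N13889 D19897
theorem N14011 : nd 14011 = n19898 := ndS (p := 13890) (l := 6) rfl N13890 D19898
theorem N14012 : nd 14012 = n19899 := ndS (p := 13892) (l := 5) rfl N13892 D19899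
theorem N14013 : nd 14013 = n19900 := ndS (p := 13893) (l := 6) rfl N13893 D19900
theorem N14014 : nd 14014 = n19901 := ndS (p := 13895) (l := 5) rfl N13895 D19901
theorem N14015 : nd 14015 = n19902 := ndS (p := 13897) (l := 6) rfl N13897 D19902
theorem N14016 : nd 14016 = n19903 := ndS (p := 13899) (l := 5) rfl N13899 D19903
theorem N14017 : nd 14017 = n19904 := ndS (p := 13899) (l := 7) rfl N13899 D19904
theorem N14018 : nd 14018 = n19905 := ndS (p := 13902) (l := 7) rfl N13902 D19905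
theorem N14019 : nd 14019 = n19906 := ndS (p := 13904) (l := 5) rfl N13904 D19906
theorem N14020 : nd 14020 = n19907 := ndS (p := 13907) (l := 5) rfl N13907 D19907
theorem N14021 : nd 14021 = n19908 := ndS (p := 13909) (l := 5) rfl N13909 D19908
theorem N14022 : nd 14022 = n19909 := ndS (p := 13911) (l := 5) rfl N13911 D19909
theorem N14023 : nd 14023 = n19910 := ndS (p := 13912) (l := 5) rfl N13912 D19910
theorem N14024 : nd 14024 = n19911 := ndS (p := 13913) (l := 5) rfl N13913 D19911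
theorem N14025 : nd 14025 = n19912 := ndS (p := 13914) (l := 7) rfl N13914 D19912
theorem N14026 : nd 14026 = n19913 := ndS (p := 13915) (l := 8) rfl N13915 D19913
theorem N14027 : nd 14027 = n19914 := ndS (p := 13918) (l := 6) rfl N13918 D19914
theorem N14028 : nd 14028 = n19915 := ndS (p := 13920) (l := 5) rfl N13920 D19915
theorem N14029 : nd 14029 = n19916 := ndS (p := 13922) (l := 5) rfl N13922 D19916
theorem N14030 : nd 14030 = n19917 := ndS (p := 13927) (l := 5) rfl N13927 D19917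
theorem N14031 : nd 14031 = n19918 := ndS (p := 13929) (l := 5) rfl N13929 D19918
theorem N14032 : nd 14032 = n19919 := ndS (p := 13930) (l := 5) rfl N13930 D19919
theorem N14033 : nd 14033 = n19920 := ndS (p := 13934) (l := 5) rfl N13934 D19920
theorem N14034 : nd 14034 = n19921 := ndS (p := 13934) (l := 7) rfl N13934 D19921
theorem N14035 : nd 14035 = n19922 := ndS (p := 13938) (l := 5) rfl N13938 D19922
theorem N14036 : nd 14036 = n19923 := ndS (p := 13939) (l := 5) rfl N13939 D19923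
theorem N14037 : nd 14037 = n19924 := ndS (p := 13941) (l := 7) rfl N13941 D19924
theorem N14038 : nd 14038 = n19925 := ndS (p := 13946) (l := 6) rfl N13946 D19925
theorem N14039 : nd 14039 = n19926 := ndS (p := 13948) (l := 5) rfl N13948 D19926
theorem N14040 : nd 14040 = n19927 := ndS (p := 13949) (l := 5) rfl N13949 D19927
theorem N14041 : nd 14041 = n19928 := ndS (p := 13951) (l := 6) rfl N13951 D19928
theorem N14042 : nd 14042 = n19929 := ndS (p := 13953) (l := 5) rfl N13953 D19929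
theorem N14043 : nd 14043 = n19930 := ndS (p := 13954) (l := 5) rfl N13954 D19930
theorem N14044 : nd 14044 = n19931 := ndS (p := 13956) (l := 5) rfl N13956 D19931
theorem N14045 : nd 14045 = n19932 := ndS (p := 13959) (l := 6) rfl N13959 D19932
theorem N14046 : nd 14046 = n19933 := ndS (p := 13961) (l := 5) rfl N13961 D19933
theorem N14047 : nd 14047 = n19934 := ndS (p := 13961) (l := 7) rfl N13961 D19934
theorem N14048 : nd 14048 = n19935 := ndS (p := 13964) (l := 7) rfl N13964 D19935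
theorem N14049 : nd 14049 = n19936 := ndS (p := 13966) (l := 8) rfl N13966 D19936
theorem N14050 : nd 14050 = n19937 := ndS (p := 13968) (l := 6) rfl N13968 D19937
theorem N14051 : nd 14051 = n19938 := ndS (p := 13970) (l := 6) rfl N13970 D19938
theorem N14052 : nd 14052 = n19939 := ndS (p := 13972) (l := 5) rfl N13972 D19939
theorem N14053 : nd 14053 = n19940 := ndS (p := 13974) (l := 6) rfl N13974 D19940
theorem N14054 : nd 14054 = n19941 := ndS (p := 13976) (l := 5) rfl N13976 D19941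
theorem N14055 : nd 14055 = n19942 := ndS (p := 13978) (l := 5) rfl N13978 D19942
theorem N14056 : nd 14056 = n19943 := ndS (p := 13980) (l := 5) rfl N13980 D19943
theorem N14057 : nd 14057 = n19944 := ndS (p := 13980) (l := 7) rfl N13980 D19944
theorem N14058 : nd 14058 = n19945 := ndS (p := 13983) (l := 7) rfl N13983 D19945
theorem N14059 : nd 14059 = n19946 := ndS (p := 13986) (l := 8) rfl N13986 D19946
theorem N14060 : nd 14060 = n19947 := ndS (p := 13989) (l := 5) rfl N13989 D19947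
theorem N14061 : nd 14061 = n19948 := ndS (p := 13991) (l := 5) rfl N13991 D19948
theorem N14062 : nd 14062 = n19949 := ndS (p := 13997) (l := 5) rfl N13997 D19949
theorem N14063 : nd 14063 = n19950 := ndS (p := 14000) (l := 5) rfl N14000 D19950
theorem N14064 : nd 14064 = n19951 := ndS (p := 14006) (l := 7) rfl N14006 D19951
theorem N14065 : nd 14065 = n19952 := ndS (p := 14011) (l := 5) rfl N14011 D19952
theorem N14066 : nd 14066 = n19953 := ndS (p := 14013) (l := 5) rfl N14013 D19953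
theorem N14067 : nd 14067 = n19954 := ndS (p := 14015) (l := 5) rfl N14015 D19954
theorem N14068 : nd 14068 = n19955 := ndS (p := 14016) (l := 7) rfl N14016 D19955
theorem N14069 : nd 14069 = n19956 := ndS (p := 14025) (l := 8) rfl N14025 D19956
theorem N14070 : nd 14070 = n19957 := ndS (p := 14027) (l := 5) rfl N14027 D19957
theorem N14071 : nd 14071 = n19958 := ndS (p := 14033) (l := 7) rfl N14033 D19958
theorem N14072 : nd 14072 = n19959 := ndS (p := 14038) (l := 5) rfl N14038 D19959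
theorem N14073 : nd 14073 = n19960 := ndS (p := 14041) (l := 5) rfl N14041 D19960
theorem N14074 : nd 14074 = n19961 := ndS (p := 14045) (l := 5) rfl N14045 D19961
theorem N14075 : nd 14075 = n19962 := ndS (p := 14046) (l := 7) rfl N14046 D19962
theorem N14076 : nd 14076 = n19963 := ndS (p := 14050) (l := 5) rfl N14050 D19963
theorem N14077 : nd 14077 = n19964 := ndS (p := 14051) (l := 5) rfl N14051 D19964
theorem N14078 : nd 14078 = n19965 := ndS (p := 14053) (l := 5) rfl N14053 D19965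
theorem N14079 : nd 14079 = n19966 := ndS (p := 14056) (l := 7) rfl N14056 D19966
theorem Q1 : ∀ i, i < 1 → P i := stepQ 0 Q0 (allL N0 (tt N1 D1) (tt N0 F1) (tt N0 F2) (tt N0 F3) (tt N0 F4) (tt N0 F5) (tt N0 F6) (tt N0 F7) (tt N0 F8))
theorem Q2 : ∀ i, i < 2 → P i := stepQ 1 Q1 (allL N1 (tt N0 (iv D1)) (tt N2 D2) (tt N1 F9) (tt N1 F10) (tt N1 F11) (tt N1 F12) (tt N1 F13) (tt N1 F14) (tt N1 F15))
theorem Q3 : ∀ i, i < 3 → P i := stepQ 2 Q2 (allL N2 (tt N2 F16) (tt N1 (iv D2)) (tt N3 D3) (tt N2 F17) (tt N2 F18) (tt N2 F19) (tt N2 F20) (tt N2 F21) (tt N2 F22))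
theorem Q4 : ∀ i, i < 4 → P i := stepQ 3 Q3 (allL N3 (tt N3 F23) (tt N3 F24) (tt N2 (iv D3)) (tt N4 D4) (tt N3 F25) (tt N3 F26) (tt N3 F27) (tt N3 F28) (tt N3 F29))
theorem Q5 : ∀ i, i < 5 → P i := stepQ 4 Q4 (allL N4 (tt N4 F30) (tt N4 F31) (tt N4 F32) (tt N3 (iv D4)) (tt N5 D5) (tt N4 F33) (tt N4 F34) (tt N6 D6) (tt N4 F35))
theorem Q6 : ∀ i, i < 6 → P i := stepQ 5 Q5 (allL N5 (tt N5 F36) (tt N5 F37) (tt N5 F38) (tt N5 F39) (tt N4 (iv D5)) (tt N7 D7) (tt N5 F40) (tt N8 D8) (tt N5 F41))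
theorem Q7 : ∀ i, i < 7 → P i := stepQ 6 Q6 (allL N6 (tt N6 F42) (tt N6 F43) (tt N6 F44) (tt N6 F45) (tt N8 (iv F57)) (tt N6 F46) (tt N6 F47) (tt N4 (iv D6)) (tt N9 D9))
theorem Q8 : ∀ i, i < 8 → P i := stepQ 7 Q7 (allL N7 (tt N7 F48) (tt N7 F49) (tt N7 F50) (tt N7 F51) (tt N7 F52) (tt N5 (iv D7)) (tt N10 D10) (tt N11 D11) (tt N7 F53))
theorem Q9 : ∀ i, i < 9 → P i := stepQ 8 Q8 (allL N8 (tt N8 F54) (tt N8 F55) (tt N8 F56) (tt N12 D12) (tt N6 F57) (tt N11 (iv F77)) (tt N8 F58) (tt N5 (iv D8)) (tt N13 D13))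
theorem Q10 : ∀ i, i < 10 → P i := stepQ 9 Q9 (allL N9 (tt N9 F59) (tt N9 F60) (tt N9 F61) (tt N9 F62) (tt N13 (iv F86)) (tt N9 F63) (tt N9 F64) (tt N9 F65) (tt N6 (iv D9)))
theorem Q11 : ∀ i, i < 11 → P i := stepQ 10 Q10 (allL N10 (tt N10 F66) (tt N10 F67) (tt N10 F68) (tt N10 F69) (tt N10 F70) (tt N10 F71) (tt N7 (iv D10)) (tt N14 D14) (tt N10 F72))
theorem Q12 : ∀ i, i < 12 → P i := stepQ 11 Q11 (allL N11 (tt N11 F73) (tt N11 F74) (tt N11 F75) (tt N15 D15) (tt N11 F76) (tt N8 F77) (tt N14 (iv F94)) (tt N7 (iv D11)) (tt N16 D16))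
theorem Q13 : ∀ i, i < 13 → P i := stepQ 12 Q12 (allL N12 (tt N12 F78) (tt N12 F79) (tt N17 D17) (tt N8 (iv D12)) (tt N12 F80) (tt N15 (iv F97)) (tt N12 F81) (tt N12 F82) (tt N18 D18))
theorem Q14 : ∀ i, i < 14 → P i := stepQ 13 Q13 (allL N13 (tt N13 F83) (tt N13 F84) (tt N13 F85) (tt N18 (iv F112)) (tt N9 F86) (tt N16 (iv F103)) (tt N13 F87) (tt N13 F88) (tt N8 (iv D13)))
theorem Q15 : ∀ i, i < 15 → P i := stepQ 14 Q14 (allL N14 (tt N14 F89) (tt N14 F90) (tt N14 F91) (tt N19 D19) (tt N14 F92) (tt N14 F93) (tt N11 F94) (tt N10 (iv D14)) (tt N20 D20))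
theorem Q16 : ∀ i, i < 16 → P i := stepQ 15 Q15 (allL N15 (tt N15 F95) (tt N15 F96) (tt N21 D21) (tt N11 (iv D15)) (tt N22 D22) (tt N12 F97) (tt N19 (iv F118)) (tt N15 F98) (tt N23 D23))
theorem Q17 : ∀ i, i < 17 → P i := stepQ 16 Q16 (allL N16 (tt N16 F99) (tt N16 F100) (tt N16 F101) (tt N23 (iv F138)) (tt N16 F102) (tt N13 F103) (tt N20 (iv F125)) (tt N16 F104) (tt N11 (iv D16)))
theorem Q18 : ∀ i, i < 18 → P i := stepQ 17 Q17 (allL N17 (tt N17 F105) (tt N24 D24) (tt N12 (iv D17)) (tt N17 F106) (tt N17 F107) (tt N21 (iv F129)) (tt N17 F108) (tt N17 F109) (tt N25 D25))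
theorem Q19 : ∀ i, i < 19 → P i := stepQ 18 Q18 (allL N18 (tt N18 F110) (tt N18 F111) (tt N25 (iv F146)) (tt N13 F112) (tt N18 F113) (tt N23 (iv F139)) (tt N18 F114) (tt N26 D26) (tt N12 (iv D18)))
theorem Q20 : ∀ i, i < 20 → P i := stepQ 19 Q19 (allL N19 (tt N19 F115) (tt N19 F116) (tt N27 D27) (tt N14 (iv D19)) (tt N28 D28) (tt N19 F117) (tt N15 F118) (tt N19 F119) (tt N29 D29))
theorem Q21 : ∀ i, i < 21 → P i := stepQ 20 Q20 (allL N20 (tt N20 F120) (tt N20 F121) (tt N20 F122) (tt N29 (iv F168)) (tt N20 F123) (tt N20 F124) (tt N16 F125) (tt N20 F126) (tt N14 (iv D20)))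
theorem Q22 : ∀ i, i < 22 → P i := stepQ 21 Q21 (allL N21 (tt N21 F127) (tt N30 D30) (tt N15 (iv D21)) (tt N21 F128) (tt N31 D31) (tt N17 F129) (tt N27 (iv F159)) (tt N21 F130) (tt N32 D32))
theorem Q23 : ∀ i, i < 23 → P i := stepQ 22 Q22 (allL N22 (tt N22 F131) (tt N22 F132) (tt N31 (iv F176)) (tt N22 F133) (tt N15 (iv D22)) (tt N22 F134) (tt N28 (iv F164)) (tt N22 F135) (tt N33 D33))
theorem Q24 : ∀ i, i < 24 → P i := stepQ 23 Q23 (allL N23 (tt N23 F136) (tt N23 F137) (tt N32 (iv F180)) (tt N16 F138) (tt N33 (iv F186)) (tt N18 F139) (tt N29 (iv F170)) (tt N34 D34) (tt N15 (iv D23)))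
theorem Q25 : ∀ i, i < 25 → P i := stepQ 24 Q24 (allL N24 (tt N35 D35) (tt N17 (iv D24)) (tt N24 F140) (tt N24 F141) (tt N24 F142) (tt N30 (iv F173)) (tt N24 F143) (tt N24 F144) (tt N36 D36))
theorem Q26 : ∀ i, i < 26 → P i := stepQ 25 Q25 (allL N25 (tt N25 F145) (tt N36 (iv F199)) (tt N18 F146) (tt N25 F147) (tt N25 F148) (tt N32 (iv F182)) (tt N25 F149) (tt N37 D37) (tt N17 (iv D25)))
theorem Q27 : ∀ i, i < 27 → P i := stepQ 26 Q26 (allL N26 (tt N26 F150) (tt N26 F151) (tt N37 (iv F205)) (tt N26 F152) (tt N26 F153) (tt N34 (iv F191)) (tt N26 F154) (tt N18 (iv D26)) (tt N26 F155))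
theorem Q28 : ∀ i, i < 28 → P i := stepQ 27 Q27 (allL N27 (tt N27 F156) (tt N38 D38) (tt N19 (iv D27)) (tt N27 F157) (tt N39 D39) (tt N27 F158) (tt N21 F159) (tt N27 F160) (tt N40 D40))
theorem Q29 : ∀ i, i < 29 → P i := stepQ 28 Q28 (allL N28 (tt N28 F161) (tt N28 F162) (tt N39 (iv F215)) (tt N28 F163) (tt N19 (iv D28)) (tt N41 D41) (tt N22 F164) (tt N28 F165) (tt N42 D42))
theorem Q30 : ∀ i, i < 30 → P i := stepQ 29 Q29 (allL N29 (tt N29 F166) (tt N29 F167) (tt N40 (iv F219)) (tt N20 F168) (tt N42 (iv F232)) (tt N29 F169) (tt N23 F170) (tt N43 D43) (tt N19 (iv D29)))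
theorem Q31 : ∀ i, i < 31 → P i := stepQ 30 Q30 (allL N30 (tt N44 D44) (tt N21 (iv D30)) (tt N30 F171) (tt N30 F172) (tt N45 D45) (tt N24 F173) (tt N38 (iv F212)) (tt N30 F174) (tt N46 D46))
theorem Q32 : ∀ i, i < 32 → P i := stepQ 31 Q31 (allL N31 (tt N31 F175) (tt N45 (iv F245)) (tt N22 F176) (tt N47 D47) (tt N21 (iv D31)) (tt N31 F177) (tt N39 (iv F216)) (tt N31 F178) (tt N48 D48))
theorem Q33 : ∀ i, i < 33 → P i := stepQ 32 Q32 (allL N32 (tt N32 F179) (tt N46 (iv F249)) (tt N23 F180) (tt N32 F181) (tt N48 (iv F259)) (tt N25 F182) (tt N40 (iv F222)) (tt N49 D49) (tt N21 (iv D32)))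
theorem Q34 : ∀ i, i < 34 → P i := stepQ 33 Q33 (allL N33 (tt N33 F183) (tt N33 F184) (tt N48 (iv F258)) (tt N33 F185) (tt N23 F186) (tt N33 F187) (tt N42 (iv F233)) (tt N50 D50) (tt N22 (iv D33)))
theorem Q35 : ∀ i, i < 35 → P i := stepQ 34 Q34 (allL N34 (tt N34 F188) (tt N34 F189) (tt N49 (iv F262)) (tt N34 F190) (tt N50 (iv F267)) (tt N26 F191) (tt N43 (iv F238)) (tt N23 (iv D34)) (tt N34 F192))
theorem Q36 : ∀ i, i < 36 → P i := stepQ 35 Q35 (allL N35 (tt N24 (iv D35)) (tt N35 F193) (tt N35 F194) (tt N35 F195) (tt N35 F196) (tt N44 (iv F243)) (tt N35 F197) (tt N35 F198) (tt N51 D51))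
theorem Q37 : ∀ i, i < 37 → P i := stepQ 36 Q36 (allL N36 (tt N51 (iv F270)) (tt N25 F199) (tt N36 F200) (tt N36 F201) (tt N36 F202) (tt N46 (iv F252)) (tt N36 F203) (tt N52 D52) (tt N24 (iv D36)))
theorem Q38 : ∀ i, i < 38 → P i := stepQ 37 Q37 (allL N37 (tt N37 F204) (tt N52 (iv F276)) (tt N26 F205) (tt N53 D53) (tt N37 F206) (tt N49 (iv F263)) (tt N37 F207) (tt N25 (iv D37)) (tt N37 F208))
theorem Q39 : ∀ i, i < 39 → P i := stepQ 38 Q38 (allL N38 (tt N54 D54) (tt N27 (iv D38)) (tt N38 F209) (tt N38 F210) (tt N55 D55) (tt N38 F211) (tt N30 F212) (tt N38 F213) (tt N56 D56))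
theorem Q40 : ∀ i, i < 40 → P i := stepQ 39 Q39 (allL N39 (tt N39 F214) (tt N55 (iv F292)) (tt N28 F215) (tt N57 D57) (tt N27 (iv D39)) (tt N58 D58) (tt N31 F216) (tt N39 F217) (tt N59 D59))
theorem Q41 : ∀ i, i < 41 → P i := stepQ 40 Q40 (allL N40 (tt N40 F218) (tt N56 (iv F296)) (tt N29 F219) (tt N40 F220) (tt N59 (iv F312)) (tt N40 F221) (tt N32 F222) (tt N60 D60) (tt N27 (iv D40)))
theorem Q42 : ∀ i, i < 42 → P i := stepQ 41 Q41 (allL N41 (tt N41 F223) (tt N41 F224) (tt N58 (iv F306)) (tt N41 F225) (tt N41 F226) (tt N28 (iv D41)) (tt N41 F227) (tt N41 F228) (tt N61 D61))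
theorem Q43 : ∀ i, i < 43 → P i := stepQ 42 Q42 (allL N42 (tt N42 F229) (tt N42 F230) (tt N59 (iv F311)) (tt N42 F231) (tt N29 F232) (tt N61 (iv F323)) (tt N33 F233) (tt N62 D62) (tt N28 (iv D42)))
theorem Q44 : ∀ i, i < 44 → P i := stepQ 43 Q43 (allL N43 (tt N43 F234) (tt N43 F235) (tt N60 (iv F315)) (tt N43 F236) (tt N62 (iv F327)) (tt N43 F237) (tt N34 F238) (tt N29 (iv D43)) (tt N43 F239))
theorem Q45 : ∀ i, i < 45 → P i := stepQ 44 Q44 (allL N44 (tt N30 (iv D44)) (tt N44 F240) (tt N44 F241) (tt N44 F242) (tt N63 D63) (tt N35 F243) (tt N54 (iv F290)) (tt N44 F244) (tt N64 D64))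
theorem Q46 : ∀ i, i < 46 → P i := stepQ 45 Q45 (allL N45 (tt N63 (iv F330)) (tt N31 F245) (tt N45 F246) (tt N65 D65) (tt N30 (iv D45)) (tt N45 F247) (tt N55 (iv F294)) (tt N45 F248) (tt N66 D66))
theorem Q47 : ∀ i, i < 47 → P i := stepQ 46 Q46 (allL N46 (tt N64 (iv F335)) (tt N32 F249) (tt N46 F250) (tt N46 F251) (tt N66 (iv F345)) (tt N36 F252) (tt N56 (iv F300)) (tt N67 D67) (tt N30 (iv D46)))
theorem Q48 : ∀ i, i < 48 → P i := stepQ 47 Q47 (allL N47 (tt N47 F253) (tt N65 (iv F340)) (tt N47 F254) (tt N31 (iv D47)) (tt N47 F255) (tt N47 F256) (tt N57 (iv F304)) (tt N68 D68) (tt N69 D69))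
theorem Q49 : ∀ i, i < 49 → P i := stepQ 48 Q48 (allL N48 (tt N48 F257) (tt N66 (iv F343)) (tt N33 F258) (tt N69 (iv F358)) (tt N32 F259) (tt N48 F260) (tt N59 (iv F313)) (tt N70 D70) (tt N31 (iv D48)))
theorem Q50 : ∀ i, i < 50 → P i := stepQ 49 Q49 (allL N49 (tt N49 F261) (tt N67 (iv F347)) (tt N34 F262) (tt N71 D71) (tt N70 (iv F363)) (tt N37 F263) (tt N60 (iv F317)) (tt N32 (iv D49)) (tt N49 F264))
theorem Q51 : ∀ i, i < 51 → P i := stepQ 50 Q50 (allL N50 (tt N50 F265) (tt N50 F266) (tt N70 (iv F362)) (tt N72 D72) (tt N34 F267) (tt N50 F268) (tt N62 (iv F328)) (tt N33 (iv D50)) (tt N50 F269))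
theorem Q52 : ∀ i, i < 52 → P i := stepQ 51 Q51 (allL N51 (tt N36 F270) (tt N51 F271) (tt N51 F272) (tt N51 F273) (tt N51 F274) (tt N64 (iv F339)) (tt N51 F275) (tt N73 D73) (tt N35 (iv D51)))
theorem Q53 : ∀ i, i < 53 → P i := stepQ 52 Q52 (allL N52 (tt N73 (iv F377)) (tt N37 F276) (tt N52 F277) (tt N74 D74) (tt N52 F278) (tt N67 (iv F349)) (tt N52 F279) (tt N36 (iv D52)) (tt N52 F280))
theorem Q54 : ∀ i, i < 54 → P i := stepQ 53 Q53 (allL N53 (tt N53 F281) (tt N74 (iv F383)) (tt N53 F282) (tt N37 (iv D53)) (tt N75 D75) (tt N71 (iv F368)) (tt N53 F283) (tt N53 F284) (tt N53 F285))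
theorem Q55 : ∀ i, i < 55 → P i := stepQ 54 Q54 (allL N54 (tt N38 (iv D54)) (tt N54 F286) (tt N54 F287) (tt N54 F288) (tt N76 D76) (tt N54 F289) (tt N44 F290) (tt N54 F291) (tt N77 D77))
theorem Q56 : ∀ i, i < 56 → P i := stepQ 55 Q55 (allL N55 (tt N76 (iv F393)) (tt N39 F292) (tt N55 F293) (tt N78 D78) (tt N38 (iv D55)) (tt N79 D79) (tt N45 F294) (tt N55 F295) (tt N80 D80))
theorem Q57 : ∀ i, i < 57 → P i := stepQ 56 Q56 (allL N56 (tt N77 (iv F398)) (tt N40 F296) (tt N56 F297) (tt N56 F298) (tt N80 (iv F414)) (tt N56 F299) (tt N46 F300) (tt N81 D81) (tt N38 (iv D56)))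
theorem Q58 : ∀ i, i < 58 → P i := stepQ 57 Q57 (allL N57 (tt N57 F301) (tt N78 (iv F404)) (tt N57 F302) (tt N39 (iv D57)) (tt N57 F303) (tt N82 D82) (tt N47 F304) (tt N83 D83) (tt N84 D84))
theorem Q59 : ∀ i, i < 59 → P i := stepQ 58 Q58 (allL N58 (tt N58 F305) (tt N79 (iv F407)) (tt N41 F306) (tt N82 (iv F423)) (tt N58 F307) (tt N39 (iv D58)) (tt N58 F308) (tt N58 F309) (tt N85 D85))
theorem Q60 : ∀ i, i < 60 → P i := stepQ 59 Q59 (allL N59 (tt N59 F310) (tt N80 (iv F412)) (tt N42 F311) (tt N84 (iv F432)) (tt N40 F312) (tt N85 (iv F438)) (tt N48 F313) (tt N86 D86) (tt N39 (iv D59)))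
theorem Q61 : ∀ i, i < 61 → P i := stepQ 60 Q60 (allL N60 (tt N60 F314) (tt N81 (iv F416)) (tt N43 F315) (tt N87 D87) (tt N86 (iv F442)) (tt N60 F316) (tt N49 F317) (tt N40 (iv D60)) (tt N60 F318))
theorem Q62 : ∀ i, i < 62 → P i := stepQ 61 Q61 (allL N61 (tt N61 F319) (tt N61 F320) (tt N85 (iv F436)) (tt N61 F321) (tt N61 F322) (tt N42 F323) (tt N61 F324) (tt N88 D88) (tt N41 (iv D61)))
theorem Q63 : ∀ i, i < 63 → P i := stepQ 62 Q62 (allL N62 (tt N62 F325) (tt N62 F326) (tt N86 (iv F441)) (tt N89 D89) (tt N43 F327) (tt N88 (iv F454)) (tt N50 F328) (tt N42 (iv D62)) (tt N62 F329))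
theorem Q64 : ∀ i, i < 64 → P i := stepQ 63 Q63 (allL N63 (tt N45 F330) (tt N63 F331) (tt N63 F332) (tt N90 D90) (tt N44 (iv D63)) (tt N63 F333) (tt N76 (iv F396)) (tt N63 F334) (tt N91 D91))
theorem Q65 : ∀ i, i < 65 → P i := stepQ 64 Q64 (allL N64 (tt N46 F335) (tt N64 F336) (tt N64 F337) (tt N64 F338) (tt N91 (iv F470)) (tt N51 F339) (tt N77 (iv F403)) (tt N92 D92) (tt N44 (iv D64)))
theorem Q66 : ∀ i, i < 66 → P i := stepQ 65 Q65 (allL N65 (tt N90 (iv F463)) (tt N47 F340) (tt N93 D93) (tt N45 (iv D65)) (tt N65 F341) (tt N65 F342) (tt N78 (iv F406)) (tt N94 D94) (tt N95 D95))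
theorem Q67 : ∀ i, i < 67 → P i := stepQ 66 Q66 (allL N66 (tt N91 (iv F467)) (tt N48 F343) (tt N66 F344) (tt N95 (iv F489)) (tt N46 F345) (tt N66 F346) (tt N80 (iv F415)) (tt N96 D96) (tt N45 (iv D66)))
theorem Q68 : ∀ i, i < 68 → P i := stepQ 67 Q67 (allL N67 (tt N92 (iv F472)) (tt N49 F347) (tt N67 F348) (tt N97 D97) (tt N96 (iv F494)) (tt N52 F349) (tt N81 (iv F419)) (tt N46 (iv D67)) (tt N67 F350))
theorem Q69 : ∀ i, i < 69 → P i := stepQ 68 Q68 (allL N68 (tt N68 F351) (tt N94 (iv F481)) (tt N68 F352) (tt N68 F353) (tt N68 F354) (tt N68 F355) (tt N83 (iv F429)) (tt N47 (iv D68)) (tt N98 D98))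
theorem Q70 : ∀ i, i < 70 → P i := stepQ 69 Q69 (allL N69 (tt N69 F356) (tt N95 (iv F488)) (tt N69 F357) (tt N48 F358) (tt N69 F359) (tt N69 F360) (tt N84 (iv F434)) (tt N99 D99) (tt N47 (iv D69)))
theorem Q71 : ∀ i, i < 71 → P i := stepQ 70 Q70 (allL N70 (tt N70 F361) (tt N96 (iv F492)) (tt N50 F362) (tt N100 D100) (tt N49 F363) (tt N70 F364) (tt N86 (iv F443)) (tt N48 (iv D70)) (tt N70 F365))
theorem Q72 : ∀ i, i < 72 → P i := stepQ 71 Q71 (allL N71 (tt N71 F366) (tt N97 (iv F497)) (tt N71 F367) (tt N49 (iv D71)) (tt N101 D101) (tt N53 F368) (tt N87 (iv F448)) (tt N71 F369) (tt N71 F370))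
theorem Q73 : ∀ i, i < 73 → P i := stepQ 72 Q72 (allL N72 (tt N72 F371) (tt N72 F372) (tt N102 D102) (tt N50 (iv D72)) (tt N72 F373) (tt N72 F374) (tt N89 (iv F460)) (tt N72 F375) (tt N72 F376))
theorem Q74 : ∀ i, i < 74 → P i := stepQ 73 Q73 (allL N73 (tt N52 F377) (tt N73 F378) (tt N73 F379) (tt N103 D103) (tt N73 F380) (tt N92 (iv F475)) (tt N73 F381) (tt N51 (iv D73)) (tt N73 F382))
theorem Q75 : ∀ i, i < 75 → P i := stepQ 74 Q74 (allL N74 (tt N103 (iv F522)) (tt N53 F383) (tt N104 D104) (tt N52 (iv D74)) (tt N105 D105) (tt N97 (iv F498)) (tt N74 F384) (tt N74 F385) (tt N74 F386))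
theorem Q76 : ∀ i, i < 76 → P i := stepQ 75 Q75 (allL N75 (tt N75 F387) (tt N105 (iv F532)) (tt N75 F388) (tt N75 F389) (tt N53 (iv D75)) (tt N106 D106) (tt N75 F390) (tt N75 F391) (tt N75 F392))
theorem Q77 : ∀ i, i < 77 → P i := stepQ 76 Q76 (allL N76 (tt N55 F393) (tt N76 F394) (tt N76 F395) (tt N107 D107) (tt N54 (iv D76)) (tt N108 D108) (tt N63 F396) (tt N76 F397) (tt N109 D109))
theorem Q78 : ∀ i, i < 78 → P i := stepQ 77 Q77 (allL N77 (tt N56 F398) (tt N77 F399) (tt N77 F400) (tt N77 F401) (tt N109 (iv F555)) (tt N77 F402) (tt N64 F403) (tt N110 D110) (tt N54 (iv D77)))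
theorem Q79 : ∀ i, i < 79 → P i := stepQ 78 Q78 (allL N78 (tt N107 (iv F542)) (tt N57 F404) (tt N111 D111) (tt N55 (iv D78)) (tt N78 F405) (tt N112 D112) (tt N65 F406) (tt N113 D113) (tt N114 D114))
theorem Q80 : ∀ i, i < 80 → P i := stepQ 79 Q79 (allL N79 (tt N108 (iv F546)) (tt N58 F407) (tt N79 F408) (tt N112 (iv F569)) (tt N79 F409) (tt N55 (iv D79)) (tt N79 F410) (tt N79 F411) (tt N115 D115))
theorem Q81 : ∀ i, i < 81 → P i := stepQ 80 Q80 (allL N80 (tt N109 (iv F552)) (tt N59 F412) (tt N80 F413) (tt N114 (iv F578)) (tt N56 F414) (tt N115 (iv F584)) (tt N66 F415) (tt N116 D116) (tt N55 (iv D80)))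
theorem Q82 : ∀ i, i < 82 → P i := stepQ 81 Q81 (allL N81 (tt N110 (iv F557)) (tt N60 F416) (tt N81 F417) (tt N117 D117) (tt N116 (iv F588)) (tt N81 F418) (tt N67 F419) (tt N56 (iv D81)) (tt N81 F420))
theorem Q83 : ∀ i, i < 83 → P i := stepQ 82 Q82 (allL N82 (tt N82 F421) (tt N112 (iv F568)) (tt N82 F422) (tt N58 F423) (tt N118 D118) (tt N57 (iv D82)) (tt N82 F424) (tt N119 D119) (tt N120 D120))
theorem Q84 : ∀ i, i < 84 → P i := stepQ 83 Q83 (allL N83 (tt N83 F425) (tt N113 (iv F572)) (tt N83 F426) (tt N83 F427) (tt N83 F428) (tt N119 (iv F604)) (tt N68 F429) (tt N57 (iv D83)) (tt N121 D121))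
theorem Q85 : ∀ i, i < 85 → P i := stepQ 84 Q84 (allL N84 (tt N84 F430) (tt N114 (iv F577)) (tt N84 F431) (tt N59 F432) (tt N84 F433) (tt N120 (iv F609)) (tt N69 F434) (tt N122 D122) (tt N57 (iv D84)))
theorem Q86 : ∀ i, i < 86 → P i := stepQ 85 Q85 (allL N85 (tt N85 F435) (tt N115 (iv F581)) (tt N61 F436) (tt N120 (iv F608)) (tt N85 F437) (tt N59 F438) (tt N85 F439) (tt N123 D123) (tt N58 (iv D85)))
theorem Q87 : ∀ i, i < 87 → P i := stepQ 86 Q86 (allL N86 (tt N86 F440) (tt N116 (iv F586)) (tt N62 F441) (tt N124 D124) (tt N60 F442) (tt N123 (iv F623)) (tt N70 F443) (tt N59 (iv D86)) (tt N86 F444))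
theorem Q88 : ∀ i, i < 88 → P i := stepQ 87 Q87 (allL N87 (tt N87 F445) (tt N117 (iv F591)) (tt N87 F446) (tt N60 (iv D87)) (tt N125 D125) (tt N87 F447) (tt N71 F448) (tt N87 F449) (tt N87 F450))
theorem Q89 : ∀ i, i < 89 → P i := stepQ 88 Q88 (allL N88 (tt N88 F451) (tt N88 F452) (tt N123 (iv F621)) (tt N126 D126) (tt N88 F453) (tt N62 F454) (tt N88 F455) (tt N61 (iv D88)) (tt N88 F456))
theorem Q90 : ∀ i, i < 90 → P i := stepQ 89 Q89 (allL N89 (tt N89 F457) (tt N89 F458) (tt N127 D127) (tt N62 (iv D89)) (tt N89 F459) (tt N126 (iv F636)) (tt N72 F460) (tt N89 F461) (tt N89 F462))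
theorem Q91 : ∀ i, i < 91 → P i := stepQ 90 Q90 (allL N90 (tt N65 F463) (tt N90 F464) (tt N94 (iv F486)) (tt N63 (iv D90)) (tt N90 F465) (tt N90 F466) (tt N107 (iv F545)) (tt N93 F487) (tt N128 D128))
theorem Q92 : ∀ i, i < 92 → P i := stepQ 91 Q91 (allL N91 (tt N66 F467) (tt N91 F468) (tt N91 F469) (tt N128 (iv F647)) (tt N64 F470) (tt N91 F471) (tt N109 (iv F556)) (tt N129 D129) (tt N63 (iv D91)))
theorem Q93 : ∀ i, i < 93 → P i := stepQ 92 Q92 (allL N92 (tt N67 F472) (tt N92 F473) (tt N92 F474) (tt N130 D130) (tt N129 (iv F653)) (tt N73 F475) (tt N110 (iv F561)) (tt N64 (iv D92)) (tt N92 F476))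
theorem Q94 : ∀ i, i < 94 → P i := stepQ 93 Q93 (allL N93 (tt N94 F485) (tt N93 F477) (tt N65 (iv D93)) (tt N93 F478) (tt N93 F479) (tt N93 F480) (tt N111 (iv F566)) (tt N90 (iv F487)) (tt N131 D131))
theorem Q95 : ∀ i, i < 95 → P i := stepQ 94 Q94 (allL N94 (tt N93 (iv F485)) (tt N68 F481) (tt N90 F486) (tt N94 F482) (tt N94 F483) (tt N94 F484) (tt N113 (iv F576)) (tt N65 (iv D94)) (tt N132 D132))
theorem Q96 : ∀ i, i < 96 → P i := stepQ 95 Q95 (allL N95 (tt N128 (iv F645)) (tt N69 F488) (tt N131 (iv F662)) (tt N66 F489) (tt N95 F490) (tt N95 F491) (tt N114 (iv F580)) (tt N133 D133) (tt N65 (iv D95)))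
theorem Q97 : ∀ i, i < 97 → P i := stepQ 96 Q96 (allL N96 (tt N129 (iv F650)) (tt N70 F492) (tt N96 F493) (tt N134 D134) (tt N67 F494) (tt N96 F495) (tt N116 (iv F589)) (tt N66 (iv D96)) (tt N96 F496))
theorem Q98 : ∀ i, i < 98 → P i := stepQ 97 Q97 (allL N97 (tt N130 (iv F656)) (tt N71 F497) (tt N135 D135) (tt N67 (iv D97)) (tt N136 D136) (tt N74 F498) (tt N117 (iv F593)) (tt N97 F499) (tt N97 F500))
theorem Q99 : ∀ i, i < 99 → P i := stepQ 98 Q98 (allL N98 (tt N98 F501) (tt N132 (iv F667)) (tt N98 F502) (tt N98 F503) (tt N98 F504) (tt N98 F505) (tt N121 (iv F615)) (tt N137 D137) (tt N68 (iv D98)))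
theorem Q100 : ∀ i, i < 100 → P i := stepQ 99 Q99 (allL N99 (tt N99 F506) (tt N133 (iv F672)) (tt N99 F507) (tt N138 D138) (tt N99 F508) (tt N99 F509) (tt N122 (iv F619)) (tt N69 (iv D99)) (tt N137 (iv F690)))
theorem Q101 : ∀ i, i < 101 → P i := stepQ 100 Q100 (allL N100 (tt N100 F510) (tt N134 (iv F675)) (tt N139 D139) (tt N70 (iv D100)) (tt N140 D140) (tt N100 F511) (tt N124 (iv F627)) (tt N138 (iv F693)) (tt N100 F512))
theorem Q102 : ∀ i, i < 102 → P i := stepQ 101 Q101 (allL N101 (tt N101 F513) (tt N136 (iv F683)) (tt N101 F514) (tt N140 (iv F699)) (tt N71 (iv D101)) (tt N141 D141) (tt N125 (iv F631)) (tt N101 F515) (tt N101 F516))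
theorem Q103 : ∀ i, i < 103 → P i := stepQ 102 Q102 (allL N102 (tt N102 F517) (tt N142 D142) (tt N72 (iv D102)) (tt N139 (iv F695)) (tt N102 F518) (tt N102 F519) (tt N127 (iv F642)) (tt N102 F520) (tt N102 F521))
theorem Q104 : ∀ i, i < 104 → P i := stepQ 103 Q103 (allL N103 (tt N74 F522) (tt N103 F523) (tt N105 F38446) (tt N73 (iv D103)) (tt N104 F38447) (tt N130 (iv F658)) (tt N103 F524) (tt N103 F525) (tt N103 F526))
theorem Q105 : ∀ i, i < 105 → P i := stepQ 104 Q104 (allL N104 (tt N105 F38426) (tt N104 F527) (tt N74 (iv D104)) (tt N104 F528) (tt N103 (iv F38447)) (tt N135 (iv F680)) (tt N104 F529) (tt N104 F530) (tt N104 F531))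
theorem Q106 : ∀ i, i < 106 → P i := stepQ 105 Q105 (allL N105 (tt N104 (iv F38426)) (tt N75 F532) (tt N103 (iv F38446)) (tt N105 F533) (tt N74 (iv D105)) (tt N143 D146) (tt N105 F534) (tt N105 F535) (tt N105 F536))
theorem Q107 : ∀ i, i < 107 → P i := stepQ 106 Q106 (allL N106 (tt N106 F537) (tt N143 (iv F727)) (tt N106 F538) (tt N106 F539) (tt N141 (iv F703)) (tt N75 (iv D106)) (tt N144 D147) (tt N106 F540) (tt N106 F541))
theorem Q108 : ∀ i, i < 108 → P i := stepQ 107 Q107 (allL N107 (tt N78 F542) (tt N107 F543) (tt N113 (iv F573)) (tt N76 (iv D107)) (tt N107 F544) (tt N145 D148) (tt N90 F545) (tt N111 F567) (tt N146 D149))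
theorem Q109 : ∀ i, i < 109 → P i := stepQ 108 Q108 (allL N108 (tt N79 F546) (tt N108 F547) (tt N108 F548) (tt N145 (iv F739)) (tt N108 F549) (tt N76 (iv D108)) (tt N108 F550) (tt N108 F551) (tt N147 D150))
theorem Q110 : ∀ i, i < 110 → P i := stepQ 109 Q109 (allL N109 (tt N80 F552) (tt N109 F553) (tt N109 F554) (tt N146 (iv F743)) (tt N77 F555) (tt N147 (iv F750)) (tt N91 F556) (tt N148 D151) (tt N76 (iv D109)))
theorem Q111 : ∀ i, i < 111 → P i := stepQ 110 Q110 (allL N110 (tt N81 F557) (tt N110 F558) (tt N110 F559) (tt N149 D152) (tt N148 (iv F755)) (tt N110 F560) (tt N92 F561) (tt N77 (iv D110)) (tt N110 F562))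
theorem Q112 : ∀ i, i < 112 → P i := stepQ 111 Q111 (allL N111 (tt N113 (iv F571)) (tt N111 F563) (tt N78 (iv D111)) (tt N111 F564) (tt N111 F565) (tt N150 D153) (tt N93 F566) (tt N107 (iv F567)) (tt N151 D154))
theorem Q113 : ∀ i, i < 113 → P i := stepQ 112 Q112 (allL N112 (tt N145 (iv F737)) (tt N82 F568) (tt N150 (iv F765)) (tt N79 F569) (tt N152 D155) (tt N78 (iv D112)) (tt N112 F570) (tt N153 D156) (tt N154 D157))
theorem Q114 : ∀ i, i < 114 → P i := stepQ 113 Q113 (allL N113 (tt N111 F571) (tt N83 F572) (tt N107 F573) (tt N113 F574) (tt N113 F575) (tt N153 (iv F782)) (tt N94 F576) (tt N78 (iv D113)) (tt N155 D158))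
theorem Q115 : ∀ i, i < 115 → P i := stepQ 114 Q114 (allL N114 (tt N146 (iv F741)) (tt N84 F577) (tt N151 (iv F770)) (tt N80 F578) (tt N114 F579) (tt N154 (iv F786)) (tt N95 F580) (tt N156 D159) (tt N78 (iv D114)))
theorem Q116 : ∀ i, i < 116 → P i := stepQ 115 Q115 (allL N115 (tt N147 (iv F746)) (tt N85 F581) (tt N115 F582) (tt N154 (iv F785)) (tt N115 F583) (tt N80 F584) (tt N115 F585) (tt N157 D160) (tt N79 (iv D115)))
theorem Q117 : ∀ i, i < 117 → P i := stepQ 116 Q116 (allL N116 (tt N148 (iv F752)) (tt N86 F586) (tt N116 F587) (tt N158 D161) (tt N81 F588) (tt N157 (iv F800)) (tt N96 F589) (tt N80 (iv D116)) (tt N116 F590))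
theorem Q118 : ∀ i, i < 118 → P i := stepQ 117 Q117 (allL N117 (tt N149 (iv F758)) (tt N87 F591) (tt N159 D162) (tt N81 (iv D117)) (tt N160 D163) (tt N117 F592) (tt N97 F593) (tt N117 F594) (tt N117 F595))
theorem Q119 : ∀ i, i < 119 → P i := stepQ 118 Q118 (allL N118 (tt N118 F596) (tt N152 (iv F774)) (tt N118 F597) (tt N118 F598) (tt N82 (iv D118)) (tt N118 F599) (tt N118 F600) (tt N161 D164) (tt N162 D165))
theorem Q120 : ∀ i, i < 120 → P i := stepQ 119 Q119 (allL N119 (tt N119 F601) (tt N153 (iv F779)) (tt N119 F602) (tt N119 F603) (tt N161 (iv F818)) (tt N83 F604) (tt N119 F605) (tt N82 (iv D119)) (tt N163 D166))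
theorem Q121 : ∀ i, i < 121 → P i := stepQ 120 Q120 (allL N120 (tt N120 F606) (tt N154 (iv F784)) (tt N120 F607) (tt N85 F608) (tt N162 (iv F824)) (tt N84 F609) (tt N120 F610) (tt N164 D167) (tt N82 (iv D120)))
theorem Q122 : ∀ i, i < 122 → P i := stepQ 121 Q121 (allL N121 (tt N121 F611) (tt N155 (iv F789)) (tt N121 F612) (tt N121 F613) (tt N121 F614) (tt N163 (iv F830)) (tt N98 F615) (tt N165 D168) (tt N83 (iv D121)))
theorem Q123 : ∀ i, i < 123 → P i := stepQ 122 Q122 (allL N122 (tt N122 F616) (tt N156 (iv F794)) (tt N122 F617) (tt N166 D169) (tt N122 F618) (tt N164 (iv F834)) (tt N99 F619) (tt N84 (iv D122)) (tt N165 (iv F840)))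
theorem Q124 : ∀ i, i < 124 → P i := stepQ 123 Q123 (allL N123 (tt N123 F620) (tt N157 (iv F797)) (tt N88 F621) (tt N167 D170) (tt N123 F622) (tt N86 F623) (tt N123 F624) (tt N85 (iv D123)) (tt N123 F625))
theorem Q125 : ∀ i, i < 125 → P i := stepQ 124 Q124 (allL N124 (tt N124 F626) (tt N158 (iv F803)) (tt N168 D171) (tt N86 (iv D124)) (tt N169 D172) (tt N167 (iv F845)) (tt N100 F627) (tt N166 (iv F843)) (tt N124 F628))
theorem Q126 : ∀ i, i < 126 → P i := stepQ 125 Q125 (allL N125 (tt N125 F629) (tt N160 (iv F812)) (tt N125 F630) (tt N169 (iv F853)) (tt N87 (iv D125)) (tt N170 D173) (tt N101 F631) (tt N125 F632) (tt N125 F633))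
theorem Q127 : ∀ i, i < 127 → P i := stepQ 126 Q126 (allL N126 (tt N126 F634) (tt N126 F635) (tt N171 D174) (tt N88 (iv D126)) (tt N172 D175) (tt N89 F636) (tt N126 F637) (tt N126 F638) (tt N126 F639))
theorem Q128 : ∀ i, i < 128 → P i := stepQ 127 Q127 (allL N127 (tt N127 F640) (tt N173 D176) (tt N89 (iv D127)) (tt N168 (iv F849)) (tt N127 F641) (tt N171 (iv F862)) (tt N102 F642) (tt N127 F643) (tt N127 F644))
theorem Q129 : ∀ i, i < 129 → P i := stepQ 128 Q128 (allL N128 (tt N95 F645) (tt N128 F646) (tt N132 (iv F668)) (tt N91 F647) (tt N128 F648) (tt N128 F649) (tt N146 (iv F745)) (tt N174 D177) (tt N90 (iv D128)))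
theorem Q130 : ∀ i, i < 130 → P i := stepQ 129 Q129 (allL N129 (tt N96 F650) (tt N129 F651) (tt N129 F652) (tt N175 D178) (tt N92 F653) (tt N129 F654) (tt N148 (iv F756)) (tt N91 (iv D129)) (tt N129 F655))
theorem Q131 : ∀ i, i < 131 → P i := stepQ 130 Q130 (allL N130 (tt N97 F656) (tt N130 F657) (tt N143 F38375) (tt N92 (iv D130)) (tt N176 D180) (tt N103 F658) (tt N149 (iv F761)) (tt N130 F659) (tt N130 F660))
theorem Q132 : ∀ i, i < 132 → P i := stepQ 131 Q131 (allL N131 (tt N132 (iv F666)) (tt N131 F661) (tt N95 F662) (tt N131 F663) (tt N131 F664) (tt N131 F665) (tt N151 (iv F773)) (tt N177 D181) (tt N93 (iv D131)))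
theorem Q133 : ∀ i, i < 133 → P i := stepQ 132 Q132 (allL N132 (tt N131 F666) (tt N98 F667) (tt N128 F668) (tt N132 F669) (tt N132 F670) (tt N132 F671) (tt N155 (iv F793)) (tt N178 D182) (tt N94 (iv D132)))
theorem Q134 : ∀ i, i < 134 → P i := stepQ 133 Q133 (allL N133 (tt N174 (iv F878)) (tt N99 F672) (tt N177 (iv F896)) (tt N179 D183) (tt N133 F673) (tt N133 F674) (tt N156 (iv F796)) (tt N95 (iv D133)) (tt N178 (iv F905)))
theorem Q135 : ∀ i, i < 135 → P i := stepQ 134 Q134 (allL N134 (tt N175 (iv F882)) (tt N100 F675) (tt N180 D184) (tt N96 (iv D134)) (tt N181 D185) (tt N134 F676) (tt N158 (iv F804)) (tt N179 (iv F908)) (tt N134 F677))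
theorem Q136 : ∀ i, i < 136 → P i := stepQ 135 Q135 (allL N135 (tt N143 F38356) (tt N135 F678) (tt N97 (iv D135)) (tt N135 F679) (tt N182 D186) (tt N104 F680) (tt N159 (iv F809)) (tt N135 F681) (tt N135 F682))
theorem Q137 : ∀ i, i < 137 → P i := stepQ 136 Q136 (allL N136 (tt N176 (iv F891)) (tt N101 F683) (tt N182 (iv F916)) (tt N181 (iv F913)) (tt N97 (iv D136)) (tt N183 D187) (tt N160 (iv F813)) (tt N136 F684) (tt N136 F685))
theorem Q138 : ∀ i, i < 138 → P i := stepQ 137 Q137 (allL N137 (tt N137 F686) (tt N178 (iv F901)) (tt N137 F687) (tt N184 D188) (tt N137 F688) (tt N137 F689) (tt N165 (iv F839)) (tt N98 (iv D137)) (tt N99 F690))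
theorem Q139 : ∀ i, i < 139 → P i := stepQ 138 Q138 (allL N138 (tt N138 F691) (tt N179 (iv F906)) (tt N185 D189) (tt N99 (iv D138)) (tt N186 D190) (tt N138 F692) (tt N166 (iv F842)) (tt N100 F693) (tt N184 (iv F926)))
theorem Q140 : ∀ i, i < 140 → P i := stepQ 139 Q139 (allL N139 (tt N139 F694) (tt N187 D191) (tt N100 (iv D139)) (tt N102 F695) (tt N188 D192) (tt N139 F696) (tt N168 (iv F850)) (tt N185 (iv F930)) (tt N139 F697))
theorem Q141 : ∀ i, i < 141 → P i := stepQ 140 Q140 (allL N140 (tt N140 F698) (tt N181 (iv F912)) (tt N188 (iv F938)) (tt N101 F699) (tt N100 (iv D140)) (tt N189 D193) (tt N169 (iv F854)) (tt N186 (iv F933)) (tt N140 F700))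
theorem Q142 : ∀ i, i < 142 → P i := stepQ 141 Q141 (allL N141 (tt N141 F701) (tt N183 (iv F919)) (tt N141 F702) (tt N189 (iv F942)) (tt N106 F703) (tt N101 (iv D141)) (tt N190 D194) (tt N141 F704) (tt N141 F705))
theorem Q143 : ∀ i, i < 143 → P i := stepQ 142 Q142 (allL N142 (tt N191 D195) (tt N102 (iv D142)) (tt N142 F706) (tt N187 (iv F934)) (tt N142 F707) (tt N142 F708) (tt N173 (iv F875)) (tt N142 F709) (tt N142 F710))
theorem Q144 : ∀ i, i < 144 → P i := stepQ 143 Q143 (allL N143 (tt N135 (iv F38356)) (tt N106 F727) (tt N130 (iv F38375)) (tt N143 F728) (tt N183 (iv F920)) (tt N105 (iv D146)) (tt N192 D201) (tt N143 F729) (tt N143 F730))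
theorem Q145 : ∀ i, i < 145 → P i := stepQ 144 Q144 (allL N144 (tt N144 F731) (tt N192 (iv F981)) (tt N144 F732) (tt N144 F733) (tt N190 (iv F947)) (tt N144 F734) (tt N106 (iv D147)) (tt N144 F735) (tt N144 F736))
theorem Q146 : ∀ i, i < 146 → P i := stepQ 145 Q145 (allL N145 (tt N112 F737) (tt N145 F738) (tt N153 (iv F780)) (tt N108 F739) (tt N193 D202) (tt N107 (iv D148)) (tt N145 F740) (tt N150 (iv F768)) (tt N194 D203))
theorem Q147 : ∀ i, i < 147 → P i := stepQ 146 Q146 (allL N146 (tt N114 F741) (tt N146 F742) (tt N155 (iv F790)) (tt N109 F743) (tt N146 F744) (tt N194 (iv F994)) (tt N128 F745) (tt N195 D204) (tt N107 (iv D149)))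
theorem Q148 : ∀ i, i < 148 → P i := stepQ 147 Q147 (allL N147 (tt N115 F746) (tt N147 F747) (tt N147 F748) (tt N194 (iv F993)) (tt N147 F749) (tt N109 F750) (tt N147 F751) (tt N196 D205) (tt N108 (iv D150)))
theorem Q149 : ∀ i, i < 149 → P i := stepQ 148 Q148 (allL N148 (tt N116 F752) (tt N148 F753) (tt N148 F754) (tt N197 D206) (tt N110 F755) (tt N196 (iv F1004)) (tt N129 F756) (tt N109 (iv D151)) (tt N148 F757))
theorem Q150 : ∀ i, i < 150 → P i := stepQ 149 Q149 (allL N149 (tt N117 F758) (tt N149 F759) (tt N192 F38448) (tt N110 (iv D152)) (tt N198 D208) (tt N149 F760) (tt N130 F761) (tt N149 F762) (tt N149 F763))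
theorem Q151 : ∀ i, i < 151 → P i := stepQ 150 Q150 (allL N150 (tt N153 (iv F778)) (tt N150 F764) (tt N112 F765) (tt N150 F766) (tt N199 D209) (tt N111 (iv D153)) (tt N150 F767) (tt N145 F768) (tt N200 D210))
theorem Q152 : ∀ i, i < 152 → P i := stepQ 151 Q151 (allL N151 (tt N155 (iv F788)) (tt N151 F769) (tt N114 F770) (tt N151 F771) (tt N151 F772) (tt N200 (iv F1030)) (tt N131 F773) (tt N201 D211) (tt N111 (iv D154)))
theorem Q153 : ∀ i, i < 153 → P i := stepQ 152 Q152 (allL N152 (tt N193 (iv F986)) (tt N118 F774) (tt N199 (iv F1023)) (tt N152 F775) (tt N112 (iv D155)) (tt N152 F776) (tt N152 F777) (tt N202 D212) (tt N203 D213))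
theorem Q154 : ∀ i, i < 154 → P i := stepQ 153 Q153 (allL N153 (tt N150 F778) (tt N119 F779) (tt N145 F780) (tt N153 F781) (tt N202 (iv F1040)) (tt N113 F782) (tt N153 F783) (tt N112 (iv D156)) (tt N204 D214))
theorem Q155 : ∀ i, i < 155 → P i := stepQ 154 Q154 (allL N154 (tt N194 (iv F991)) (tt N120 F784) (tt N200 (iv F1028)) (tt N115 F785) (tt N203 (iv F1045)) (tt N114 F786) (tt N154 F787) (tt N205 D215) (tt N112 (iv D157)))
theorem Q156 : ∀ i, i < 156 → P i := stepQ 155 Q155 (allL N155 (tt N151 F788) (tt N121 F789) (tt N146 F790) (tt N155 F791) (tt N155 F792) (tt N204 (iv F1052)) (tt N132 F793) (tt N206 D216) (tt N113 (iv D158)))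
theorem Q157 : ∀ i, i < 157 → P i := stepQ 156 Q156 (allL N156 (tt N195 (iv F996)) (tt N122 F794) (tt N201 (iv F1033)) (tt N207 D217) (tt N156 F795) (tt N205 (iv F1055)) (tt N133 F796) (tt N114 (iv D159)) (tt N206 (iv F1062)))
theorem Q158 : ∀ i, i < 158 → P i := stepQ 157 Q157 (allL N157 (tt N196 (iv F1000)) (tt N123 F797) (tt N157 F798) (tt N208 D218) (tt N157 F799) (tt N116 F800) (tt N157 F801) (tt N115 (iv D160)) (tt N157 F802))
theorem Q159 : ∀ i, i < 159 → P i := stepQ 158 Q158 (allL N158 (tt N197 (iv F1007)) (tt N124 F803) (tt N209 D219) (tt N116 (iv D161)) (tt N210 D220) (tt N208 (iv F1067)) (tt N134 F804) (tt N207 (iv F1065)) (tt N158 F805))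
theorem Q160 : ∀ i, i < 160 → P i := stepQ 159 Q159 (allL N159 (tt N192 F38425) (tt N159 F806) (tt N117 (iv D162)) (tt N159 F807) (tt N211 D221) (tt N159 F808) (tt N135 F809) (tt N159 F810) (tt N159 F811))
theorem Q161 : ∀ i, i < 161 → P i := stepQ 160 Q160 (allL N160 (tt N198 (iv F1017)) (tt N125 F812) (tt N211 (iv F1078)) (tt N210 (iv F1074)) (tt N117 (iv D163)) (tt N212 D222) (tt N136 F813) (tt N160 F814) (tt N160 F815))
theorem Q162 : ∀ i, i < 162 → P i := stepQ 161 Q161 (allL N161 (tt N161 F816) (tt N202 (iv F1038)) (tt N161 F817) (tt N213 D223) (tt N119 F818) (tt N161 F819) (tt N161 F820) (tt N118 (iv D164)) (tt N214 D224))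
theorem Q163 : ∀ i, i < 163 → P i := stepQ 162 Q162 (allL N162 (tt N162 F821) (tt N203 (iv F1043)) (tt N162 F822) (tt N162 F823) (tt N120 F824) (tt N162 F825) (tt N162 F826) (tt N215 D225) (tt N118 (iv D165)))
theorem Q164 : ∀ i, i < 164 → P i := stepQ 163 Q163 (allL N163 (tt N163 F827) (tt N204 (iv F1049)) (tt N163 F828) (tt N163 F829) (tt N214 (iv F1093)) (tt N121 F830) (tt N163 F831) (tt N216 D226) (tt N119 (iv D166)))
theorem Q165 : ∀ i, i < 165 → P i := stepQ 164 Q164 (allL N164 (tt N164 F832) (tt N205 (iv F1054)) (tt N164 F833) (tt N217 D227) (tt N215 (iv F1098)) (tt N122 F834) (tt N164 F835) (tt N120 (iv D167)) (tt N216 (iv F1105)))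
theorem Q166 : ∀ i, i < 166 → P i := stepQ 165 Q165 (allL N165 (tt N165 F836) (tt N206 (iv F1058)) (tt N165 F837) (tt N218 D228) (tt N165 F838) (tt N216 (iv F1103)) (tt N137 F839) (tt N121 (iv D168)) (tt N122 F840))
theorem Q167 : ∀ i, i < 167 → P i := stepQ 166 Q166 (allL N166 (tt N166 F841) (tt N207 (iv F1063)) (tt N219 D229) (tt N122 (iv D169)) (tt N220 D230) (tt N217 (iv F1107)) (tt N138 F842) (tt N124 F843) (tt N218 (iv F1113)))
theorem Q168 : ∀ i, i < 168 → P i := stepQ 167 Q167 (allL N167 (tt N167 F844) (tt N208 (iv F1066)) (tt N221 D231) (tt N123 (iv D170)) (tt N222 D232) (tt N124 F845) (tt N167 F846) (tt N217 (iv F1109)) (tt N167 F847))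
theorem Q169 : ∀ i, i < 169 → P i := stepQ 168 Q168 (allL N168 (tt N168 F848) (tt N223 D233) (tt N124 (iv D171)) (tt N127 F849) (tt N224 D234) (tt N221 (iv F1124)) (tt N139 F850) (tt N219 (iv F1117)) (tt N168 F851))
theorem Q170 : ∀ i, i < 170 → P i := stepQ 169 Q169 (allL N169 (tt N169 F852) (tt N210 (iv F1073)) (tt N224 (iv F1135)) (tt N125 F853) (tt N124 (iv D172)) (tt N225 D235) (tt N140 F854) (tt N220 (iv F1121)) (tt N169 F855))
theorem Q171 : ∀ i, i < 171 → P i := stepQ 170 Q170 (allL N170 (tt N170 F856) (tt N212 (iv F1082)) (tt N170 F857) (tt N225 (iv F1140)) (tt N170 F858) (tt N125 (iv D173)) (tt N226 D236) (tt N170 F859) (tt N170 F860))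
theorem Q172 : ∀ i, i < 172 → P i := stepQ 171 Q171 (allL N171 (tt N171 F861) (tt N227 D237) (tt N126 (iv D174)) (tt N221 (iv F1123)) (tt N228 D238) (tt N127 F862) (tt N171 F863) (tt N171 F864) (tt N171 F865))
theorem Q173 : ∀ i, i < 173 → P i := stepQ 172 Q172 (allL N172 (tt N172 F866) (tt N172 F867) (tt N228 (iv F1154)) (tt N172 F868) (tt N126 (iv D175)) (tt N172 F869) (tt N172 F870) (tt N172 F871) (tt N172 F872))
theorem Q174 : ∀ i, i < 174 → P i := stepQ 173 Q173 (allL N173 (tt N229 D239) (tt N127 (iv D176)) (tt N173 F873) (tt N223 (iv F1131)) (tt N173 F874) (tt N227 (iv F1149)) (tt N142 F875) (tt N173 F876) (tt N173 F877))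
theorem Q175 : ∀ i, i < 175 → P i := stepQ 174 Q174 (allL N174 (tt N133 F878) (tt N174 F879) (tt N178 (iv F902)) (tt N230 D240) (tt N174 F880) (tt N174 F881) (tt N195 (iv F999)) (tt N128 (iv D177)) (tt N177 (iv F899)))
theorem Q176 : ∀ i, i < 176 → P i := stepQ 175 Q175 (allL N175 (tt N134 F882) (tt N175 F883) (tt N231 D241) (tt N129 (iv D178)) (tt N232 D242) (tt N175 F884) (tt N197 (iv F1009)) (tt N230 (iv F1168)) (tt N175 F885))
theorem Q177 : ∀ i, i < 177 → P i := stepQ 176 Q176 (allL N176 (tt N136 F891) (tt N176 F892) (tt N183 F38313) (tt N232 (iv F1175)) (tt N130 (iv D180)) (tt N182 F38314) (tt N198 (iv F1019)) (tt N176 F893) (tt N176 F894))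
theorem Q178 : ∀ i, i < 178 → P i := stepQ 177 Q177 (allL N177 (tt N178 (iv F900)) (tt N177 F895) (tt N133 F896) (tt N233 D246) (tt N177 F897) (tt N177 F898) (tt N201 (iv F1035)) (tt N131 (iv D181)) (tt N174 F899))
theorem Q179 : ∀ i, i < 179 → P i := stepQ 178 Q178 (allL N178 (tt N177 F900) (tt N137 F901) (tt N174 F902) (tt N234 D247) (tt N178 F903) (tt N178 F904) (tt N206 (iv F1061)) (tt N132 (iv D182)) (tt N133 F905))
theorem Q180 : ∀ i, i < 180 → P i := stepQ 179 Q179 (allL N179 (tt N230 (iv F1165)) (tt N138 F906) (tt N235 D248) (tt N133 (iv D183)) (tt N236 D249) (tt N179 F907) (tt N207 (iv F1064)) (tt N134 F908) (tt N234 (iv F1200)))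
theorem Q181 : ∀ i, i < 181 → P i := stepQ 180 Q180 (allL N180 (tt N231 (iv F1169)) (tt N237 D250) (tt N134 (iv D184)) (tt N180 F909) (tt N238 D251) (tt N180 F910) (tt N209 (iv F1071)) (tt N235 (iv F1202)) (tt N180 F911))
theorem Q182 : ∀ i, i < 182 → P i := stepQ 181 Q181 (allL N181 (tt N232 (iv F1173)) (tt N140 F912) (tt N238 (iv F1210)) (tt N136 F913) (tt N134 (iv D185)) (tt N239 D252) (tt N210 (iv F1075)) (tt N236 (iv F1205)) (tt N181 F914))
theorem Q183 : ∀ i, i < 183 → P i := stepQ 182 Q182 (allL N182 (tt N183 F38289) (tt N182 F915) (tt N136 F916) (tt N240 D253) (tt N135 (iv D186)) (tt N176 (iv F38314)) (tt N211 (iv F1079)) (tt N182 F917) (tt N182 F918))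
theorem Q184 : ∀ i, i < 184 → P i := stepQ 183 Q183 (allL N183 (tt N182 (iv F38289)) (tt N141 F919) (tt N176 (iv F38313)) (tt N239 (iv F1213)) (tt N143 F920) (tt N136 (iv D187)) (tt N241 D255) (tt N183 F921) (tt N183 F922))
theorem Q185 : ∀ i, i < 185 → P i := stepQ 184 Q184 (allL N184 (tt N184 F923) (tt N234 (iv F1197)) (tt N242 D256) (tt N137 (iv D188)) (tt N243 D257) (tt N184 F924) (tt N218 (iv F1111)) (tt N184 F925) (tt N138 F926))
theorem Q186 : ∀ i, i < 186 → P i := stepQ 185 Q185 (allL N185 (tt N185 F927) (tt N244 D258) (tt N138 (iv D189)) (tt N185 F928) (tt N245 D259) (tt N185 F929) (tt N219 (iv F1116)) (tt N139 F930) (tt N242 (iv F1232)))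
theorem Q187 : ∀ i, i < 187 → P i := stepQ 186 Q186 (allL N186 (tt N186 F931) (tt N236 (iv F1203)) (tt N245 (iv F1241)) (tt N186 F932) (tt N138 (iv D190)) (tt N246 D260) (tt N220 (iv F1120)) (tt N140 F933) (tt N243 (iv F1236)))
theorem Q188 : ∀ i, i < 188 → P i := stepQ 187 Q187 (allL N187 (tt N247 D261) (tt N139 (iv D191)) (tt N237 (iv F1206)) (tt N142 F934) (tt N248 D262) (tt N187 F935) (tt N223 (iv F1132)) (tt N244 (iv F1239)) (tt N187 F936))
theorem Q189 : ∀ i, i < 189 → P i := stepQ 188 Q188 (allL N188 (tt N188 F937) (tt N248 (iv F1251)) (tt N140 F938) (tt N188 F939) (tt N139 (iv D192)) (tt N249 D263) (tt N224 (iv F1137)) (tt N245 (iv F1242)) (tt N188 F940))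
theorem Q190 : ∀ i, i < 190 → P i := stepQ 189 Q189 (allL N189 (tt N189 F941) (tt N239 (iv F1212)) (tt N249 (iv F1255)) (tt N141 F942) (tt N189 F943) (tt N140 (iv D193)) (tt N250 D264) (tt N246 (iv F1246)) (tt N189 F944))
theorem Q191 : ∀ i, i < 191 → P i := stepQ 190 Q190 (allL N190 (tt N190 F945) (tt N241 (iv F1224)) (tt N190 F946) (tt N250 (iv F1260)) (tt N144 F947) (tt N226 (iv F1145)) (tt N141 (iv D194)) (tt N190 F948) (tt N190 F949))
theorem Q192 : ∀ i, i < 192 → P i := stepQ 191 Q191 (allL N191 (tt N142 (iv D195)) (tt N191 F950) (tt N191 F951) (tt N247 (iv F1248)) (tt N191 F952) (tt N191 F953) (tt N229 (iv F1162)) (tt N191 F954) (tt N191 F955))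
theorem Q193 : ∀ i, i < 193 → P i := stepQ 192 Q192 (allL N192 (tt N159 (iv F38425)) (tt N144 F981) (tt N149 (iv F38448)) (tt N192 F982) (tt N241 (iv F1225)) (tt N192 F983) (tt N143 (iv D201)) (tt N192 F984) (tt N192 F985))
theorem Q194 : ∀ i, i < 194 → P i := stepQ 193 Q193 (allL N193 (tt N152 F986) (tt N193 F987) (tt N202 (iv F1039)) (tt N193 F988) (tt N145 (iv D202)) (tt N193 F989) (tt N193 F990) (tt N199 (iv F1026)) (tt N251 D272))
theorem Q195 : ∀ i, i < 195 → P i := stepQ 194 Q194 (allL N194 (tt N154 F991) (tt N194 F992) (tt N204 (iv F1050)) (tt N147 F993) (tt N251 (iv F1301)) (tt N146 F994) (tt N194 F995) (tt N252 D273) (tt N145 (iv D203)))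
theorem Q196 : ∀ i, i < 196 → P i := stepQ 195 Q195 (allL N195 (tt N156 F996) (tt N195 F997) (tt N206 (iv F1059)) (tt N253 D274) (tt N195 F998) (tt N252 (iv F1306)) (tt N174 F999) (tt N146 (iv D204)) (tt N201 (iv F1036)))
theorem Q197 : ∀ i, i < 197 → P i := stepQ 196 Q196 (allL N196 (tt N157 F1000) (tt N196 F1001) (tt N196 F1002) (tt N254 D275) (tt N196 F1003) (tt N148 F1004) (tt N196 F1005) (tt N147 (iv D205)) (tt N196 F1006))
theorem Q198 : ∀ i, i < 198 → P i := stepQ 197 Q197 (allL N197 (tt N158 F1007) (tt N197 F1008) (tt N255 D276) (tt N148 (iv D206)) (tt N256 D277) (tt N254 (iv F1314)) (tt N175 F1009) (tt N253 (iv F1311)) (tt N197 F1010))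
theorem Q199 : ∀ i, i < 199 → P i := stepQ 198 Q198 (allL N198 (tt N160 F1017) (tt N198 F1018) (tt N241 F38376) (tt N256 (iv F1323)) (tt N149 (iv D208)) (tt N257 D280) (tt N176 F1019) (tt N198 F1020) (tt N198 F1021))
theorem Q200 : ∀ i, i < 200 → P i := stepQ 199 Q199 (allL N199 (tt N202 (iv F1037)) (tt N199 F1022) (tt N152 F1023) (tt N258 D281) (tt N150 (iv D209)) (tt N199 F1024) (tt N199 F1025) (tt N193 F1026) (tt N259 D282))
theorem Q201 : ∀ i, i < 201 → P i := stepQ 200 Q200 (allL N200 (tt N204 (iv F1048)) (tt N200 F1027) (tt N154 F1028) (tt N200 F1029) (tt N259 (iv F1351)) (tt N151 F1030) (tt N200 F1031) (tt N260 D283) (tt N150 (iv D210)))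
theorem Q202 : ∀ i, i < 202 → P i := stepQ 201 Q201 (allL N201 (tt N206 (iv F1057)) (tt N201 F1032) (tt N156 F1033) (tt N261 D284) (tt N201 F1034) (tt N260 (iv F1356)) (tt N177 F1035) (tt N151 (iv D211)) (tt N195 F1036))
theorem Q203 : ∀ i, i < 203 → P i := stepQ 202 Q202 (allL N202 (tt N199 F1037) (tt N161 F1038) (tt N193 F1039) (tt N262 D285) (tt N153 F1040) (tt N202 F1041) (tt N202 F1042) (tt N152 (iv D212)) (tt N263 D286))
theorem Q204 : ∀ i, i < 204 → P i := stepQ 203 Q203 (allL N203 (tt N251 (iv F1298)) (tt N162 F1043) (tt N259 (iv F1350)) (tt N203 F1044) (tt N154 F1045) (tt N203 F1046) (tt N203 F1047) (tt N264 D287) (tt N152 (iv D213)))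
theorem Q205 : ∀ i, i < 205 → P i := stepQ 204 Q204 (allL N204 (tt N200 F1048) (tt N163 F1049) (tt N194 F1050) (tt N204 F1051) (tt N263 (iv F1373)) (tt N155 F1052) (tt N204 F1053) (tt N265 D288) (tt N153 (iv D214)))
theorem Q206 : ∀ i, i < 206 → P i := stepQ 205 Q205 (allL N205 (tt N252 (iv F1304)) (tt N164 F1054) (tt N260 (iv F1355)) (tt N266 D289) (tt N264 (iv F1377)) (tt N156 F1055) (tt N205 F1056) (tt N154 (iv D215)) (tt N265 (iv F1385)))
theorem Q207 : ∀ i, i < 207 → P i := stepQ 206 Q206 (allL N206 (tt N201 F1057) (tt N165 F1058) (tt N195 F1059) (tt N267 D290) (tt N206 F1060) (tt N265 (iv F1383)) (tt N178 F1061) (tt N155 (iv D216)) (tt N156 F1062))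
theorem Q208 : ∀ i, i < 208 → P i := stepQ 207 Q207 (allL N207 (tt N253 (iv F1308)) (tt N166 F1063) (tt N268 D291) (tt N156 (iv D217)) (tt N269 D292) (tt N266 (iv F1387)) (tt N179 F1064) (tt N158 F1065) (tt N267 (iv F1394)))
theorem Q209 : ∀ i, i < 209 → P i := stepQ 208 Q208 (allL N208 (tt N254 (iv F1312)) (tt N167 F1066) (tt N270 D293) (tt N157 (iv D218)) (tt N271 D294) (tt N158 F1067) (tt N208 F1068) (tt N266 (iv F1389)) (tt N208 F1069))
theorem Q210 : ∀ i, i < 210 → P i := stepQ 209 Q209 (allL N209 (tt N255 (iv F1317)) (tt N272 D295) (tt N158 (iv D219)) (tt N209 F1070) (tt N273 D296) (tt N270 (iv F1402)) (tt N180 F1071) (tt N268 (iv F1396)) (tt N209 F1072))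
theorem Q211 : ∀ i, i < 211 → P i := stepQ 210 Q210 (allL N210 (tt N256 (iv F1321)) (tt N169 F1073) (tt N273 (iv F1413)) (tt N160 F1074) (tt N158 (iv D220)) (tt N274 D297) (tt N181 F1075) (tt N269 (iv F1400)) (tt N210 F1076))
theorem Q212 : ∀ i, i < 212 → P i := stepQ 211 Q211 (allL N211 (tt N241 F38355) (tt N211 F1077) (tt N160 F1078) (tt N275 D298) (tt N159 (iv D221)) (tt N276 D299) (tt N182 F1079) (tt N211 F1080) (tt N211 F1081))
theorem Q213 : ∀ i, i < 213 → P i := stepQ 212 Q212 (allL N212 (tt N257 (iv F1338)) (tt N170 F1082) (tt N276 (iv F1424)) (tt N274 (iv F1417)) (tt N212 F1083) (tt N160 (iv D222)) (tt N277 D300) (tt N212 F1084) (tt N212 F1085))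
theorem Q214 : ∀ i, i < 214 → P i := stepQ 213 Q213 (allL N213 (tt N213 F1086) (tt N262 (iv F1364)) (tt N278 D301) (tt N161 (iv D223)) (tt N213 F1087) (tt N213 F1088) (tt N213 F1089) (tt N213 F1090) (tt N279 D302))
theorem Q215 : ∀ i, i < 215 → P i := stepQ 214 Q214 (allL N214 (tt N214 F1091) (tt N263 (iv F1371)) (tt N214 F1092) (tt N279 (iv F1441)) (tt N163 F1093) (tt N214 F1094) (tt N214 F1095) (tt N280 D303) (tt N161 (iv D224)))
theorem Q216 : ∀ i, i < 216 → P i := stepQ 215 Q215 (allL N215 (tt N215 F1096) (tt N264 (iv F1376)) (tt N215 F1097) (tt N281 D304) (tt N164 F1098) (tt N215 F1099) (tt N215 F1100) (tt N162 (iv D225)) (tt N280 (iv F1450)))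
theorem Q217 : ∀ i, i < 217 → P i := stepQ 216 Q216 (allL N216 (tt N216 F1101) (tt N265 (iv F1381)) (tt N216 F1102) (tt N282 D305) (tt N280 (iv F1447)) (tt N165 F1103) (tt N216 F1104) (tt N163 (iv D226)) (tt N164 F1105))
theorem Q218 : ∀ i, i < 218 → P i := stepQ 217 Q217 (allL N217 (tt N217 F1106) (tt N266 (iv F1386)) (tt N283 D306) (tt N164 (iv D227)) (tt N284 D307) (tt N166 F1107) (tt N217 F1108) (tt N167 F1109) (tt N282 (iv F1459)))
theorem Q219 : ∀ i, i < 219 → P i := stepQ 218 Q218 (allL N218 (tt N218 F1110) (tt N267 (iv F1391)) (tt N285 D308) (tt N165 (iv D228)) (tt N286 D309) (tt N282 (iv F1456)) (tt N184 F1111) (tt N218 F1112) (tt N166 F1113))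
theorem Q220 : ∀ i, i < 220 → P i := stepQ 219 Q219 (allL N219 (tt N219 F1114) (tt N287 D310) (tt N166 (iv D229)) (tt N219 F1115) (tt N288 D311) (tt N283 (iv F1462)) (tt N185 F1116) (tt N168 F1117) (tt N285 (iv F1472)))
theorem Q221 : ∀ i, i < 221 → P i := stepQ 220 Q220 (allL N220 (tt N220 F1118) (tt N269 (iv F1397)) (tt N288 (iv F1482)) (tt N220 F1119) (tt N166 (iv D230)) (tt N289 D312) (tt N186 F1120) (tt N169 F1121) (tt N286 (iv F1477)))
theorem Q222 : ∀ i, i < 222 → P i := stepQ 221 Q221 (allL N221 (tt N221 F1122) (tt N290 D313) (tt N167 (iv D231)) (tt N171 F1123) (tt N291 D314) (tt N168 F1124) (tt N221 F1125) (tt N283 (iv F1464)) (tt N221 F1126))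
theorem Q223 : ∀ i, i < 223 → P i := stepQ 222 Q222 (allL N222 (tt N222 F1127) (tt N271 (iv F1405)) (tt N291 (iv F1493)) (tt N222 F1128) (tt N167 (iv D232)) (tt N292 D315) (tt N222 F1129) (tt N284 (iv F1467)) (tt N222 F1130))
theorem Q224 : ∀ i, i < 224 → P i := stepQ 223 Q223 (allL N223 (tt N293 D316) (tt N168 (iv D233)) (tt N272 (iv F1409)) (tt N173 F1131) (tt N294 D317) (tt N290 (iv F1489)) (tt N187 F1132) (tt N287 (iv F1480)) (tt N223 F1133))
theorem Q225 : ∀ i, i < 225 → P i := stepQ 224 Q224 (allL N224 (tt N224 F1134) (tt N294 (iv F1504)) (tt N169 F1135) (tt N224 F1136) (tt N168 (iv D234)) (tt N295 D318) (tt N188 F1137) (tt N288 (iv F1484)) (tt N224 F1138))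
theorem Q226 : ∀ i, i < 226 → P i := stepQ 225 Q225 (allL N225 (tt N225 F1139) (tt N274 (iv F1416)) (tt N295 (iv F1509)) (tt N170 F1140) (tt N292 (iv F1498)) (tt N169 (iv D235)) (tt N296 D319) (tt N289 (iv F1487)) (tt N225 F1141))
theorem Q227 : ∀ i, i < 227 → P i := stepQ 226 Q226 (allL N226 (tt N226 F1142) (tt N277 (iv F1428)) (tt N226 F1143) (tt N296 (iv F1513)) (tt N226 F1144) (tt N190 F1145) (tt N170 (iv D236)) (tt N226 F1146) (tt N226 F1147))
theorem Q228 : ∀ i, i < 228 → P i := stepQ 227 Q227 (allL N227 (tt N297 D320) (tt N171 (iv D237)) (tt N227 F1148) (tt N290 (iv F1488)) (tt N298 D321) (tt N173 F1149) (tt N227 F1150) (tt N227 F1151) (tt N227 F1152))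
theorem Q229 : ∀ i, i < 229 → P i := stepQ 228 Q228 (allL N228 (tt N228 F1153) (tt N298 (iv F1522)) (tt N172 F1154) (tt N299 D322) (tt N171 (iv D238)) (tt N228 F1155) (tt N228 F1156) (tt N228 F1157) (tt N228 F1158))
theorem Q230 : ∀ i, i < 230 → P i := stepQ 229 Q229 (allL N229 (tt N173 (iv D239)) (tt N229 F1159) (tt N229 F1160) (tt N293 (iv F1501)) (tt N229 F1161) (tt N297 (iv F1518)) (tt N191 F1162) (tt N229 F1163) (tt N229 F1164))
theorem Q231 : ∀ i, i < 231 → P i := stepQ 230 Q230 (allL N230 (tt N179 F1165) (tt N230 F1166) (tt N300 D323) (tt N174 (iv D240)) (tt N301 D324) (tt N230 F1167) (tt N253 (iv F1310)) (tt N175 F1168) (tt N233 (iv F1195)))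
theorem Q232 : ∀ i, i < 232 → P i := stepQ 231 Q231 (allL N231 (tt N180 F1169) (tt N302 D325) (tt N175 (iv D241)) (tt N231 F1170) (tt N303 D326) (tt N231 F1171) (tt N255 (iv F1319)) (tt N300 (iv F1535)) (tt N231 F1172))
theorem Q233 : ∀ i, i < 233 → P i := stepQ 232 Q232 (allL N232 (tt N181 F1173) (tt N232 F1174) (tt N303 (iv F1545)) (tt N176 F1175) (tt N175 (iv D242)) (tt N240 F38250) (tt N256 (iv F1324)) (tt N301 (iv F1539)) (tt N232 F1176))
theorem Q234 : ∀ i, i < 234 → P i := stepQ 233 Q233 (allL N233 (tt N234 (iv F1196)) (tt N233 F1192) (tt N304 D332) (tt N177 (iv D246)) (tt N305 D333) (tt N233 F1193) (tt N261 (iv F1360)) (tt N233 F1194) (tt N230 F1195))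
theorem Q235 : ∀ i, i < 235 → P i := stepQ 234 Q234 (allL N234 (tt N233 F1196) (tt N184 F1197) (tt N306 D334) (tt N178 (iv D247)) (tt N307 D335) (tt N234 F1198) (tt N267 (iv F1392)) (tt N234 F1199) (tt N179 F1200))
theorem Q236 : ∀ i, i < 236 → P i := stepQ 235 Q235 (allL N235 (tt N300 (iv F1533)) (tt N308 D336) (tt N179 (iv D248)) (tt N304 (iv F1570)) (tt N309 D337) (tt N235 F1201) (tt N268 (iv F1395)) (tt N180 F1202) (tt N306 (iv F1582)))
theorem Q237 : ∀ i, i < 237 → P i := stepQ 236 Q236 (allL N236 (tt N301 (iv F1536)) (tt N186 F1203) (tt N309 (iv F1591)) (tt N236 F1204) (tt N179 (iv D249)) (tt N310 D338) (tt N269 (iv F1399)) (tt N181 F1205) (tt N307 (iv F1587)))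
theorem Q238 : ∀ i, i < 238 → P i := stepQ 237 Q237 (allL N237 (tt N311 D339) (tt N180 (iv D250)) (tt N187 F1206) (tt N237 F1207) (tt N312 D340) (tt N237 F1208) (tt N272 (iv F1411)) (tt N308 (iv F1590)) (tt N237 F1209))
theorem Q239 : ∀ i, i < 239 → P i := stepQ 238 Q238 (allL N238 (tt N303 (iv F1544)) (tt N312 (iv F1601)) (tt N181 F1210) (tt N313 D341) (tt N180 (iv D251)) (tt N314 D342) (tt N273 (iv F1414)) (tt N309 (iv F1592)) (tt N238 F1211))
theorem Q240 : ∀ i, i < 240 → P i := stepQ 239 Q239 (allL N239 (tt N240 (iv F38228)) (tt N189 F1212) (tt N314 (iv F1607)) (tt N183 F1213) (tt N239 F1214) (tt N181 (iv D252)) (tt N315 D343) (tt N310 (iv F1596)) (tt N239 F1215))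
theorem Q241 : ∀ i, i < 241 → P i := stepQ 240 Q240 (allL N240 (tt N239 F38228) (tt N240 F1216) (tt N313 (iv F1604)) (tt N182 (iv D253)) (tt N240 F1217) (tt N232 (iv F38250)) (tt N275 (iv F1421)) (tt N316 D345) (tt N240 F1218))
theorem Q242 : ∀ i, i < 242 → P i := stepQ 241 Q241 (allL N241 (tt N211 (iv F38355)) (tt N190 F1224) (tt N198 (iv F38376)) (tt N315 (iv F1611)) (tt N192 F1225) (tt N277 (iv F1430)) (tt N183 (iv D255)) (tt N241 F1226) (tt N241 F1227))
theorem Q243 : ∀ i, i < 243 → P i := stepQ 242 Q242 (allL N242 (tt N242 F1228) (tt N317 D347) (tt N184 (iv D256)) (tt N242 F1229) (tt N318 D348) (tt N242 F1230) (tt N285 (iv F1470)) (tt N242 F1231) (tt N185 F1232))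
theorem Q244 : ∀ i, i < 244 → P i := stepQ 243 Q243 (allL N243 (tt N243 F1233) (tt N307 (iv F1584)) (tt N318 (iv F1630)) (tt N243 F1234) (tt N184 (iv D257)) (tt N319 D349) (tt N286 (iv F1475)) (tt N243 F1235) (tt N186 F1236))
theorem Q245 : ∀ i, i < 245 → P i := stepQ 244 Q244 (allL N244 (tt N320 D350) (tt N185 (iv D258)) (tt N308 (iv F1588)) (tt N244 F1237) (tt N321 D351) (tt N244 F1238) (tt N287 (iv F1479)) (tt N187 F1239) (tt N317 (iv F1628)))
theorem Q246 : ∀ i, i < 246 → P i := stepQ 245 Q245 (allL N245 (tt N245 F1240) (tt N321 (iv F1642)) (tt N186 F1241) (tt N322 D352) (tt N185 (iv D259)) (tt N323 D353) (tt N288 (iv F1483)) (tt N188 F1242) (tt N318 (iv F1632)))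
theorem Q247 : ∀ i, i < 247 → P i := stepQ 246 Q246 (allL N246 (tt N246 F1243) (tt N310 (iv F1593)) (tt N323 (iv F1649)) (tt N246 F1244) (tt N246 F1245) (tt N186 (iv D260)) (tt N324 D354) (tt N189 F1246) (tt N319 (iv F1637)))
theorem Q248 : ∀ i, i < 248 → P i := stepQ 247 Q247 (allL N247 (tt N187 (iv D261)) (tt N247 F1247) (tt N311 (iv F1597)) (tt N191 F1248) (tt N325 D355) (tt N247 F1249) (tt N293 (iv F1502)) (tt N320 (iv F1641)) (tt N247 F1250))
theorem Q249 : ∀ i, i < 249 → P i := stepQ 248 Q248 (allL N248 (tt N325 (iv F1656)) (tt N188 F1251) (tt N312 (iv F1602)) (tt N248 F1252) (tt N187 (iv D262)) (tt N326 D356) (tt N294 (iv F1506)) (tt N321 (iv F1643)) (tt N248 F1253))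
theorem Q250 : ∀ i, i < 250 → P i := stepQ 249 Q249 (allL N249 (tt N249 F1254) (tt N326 (iv F1660)) (tt N189 F1255) (tt N249 F1256) (tt N249 F1257) (tt N188 (iv D263)) (tt N327 D357) (tt N323 (iv F1651)) (tt N249 F1258))
theorem Q251 : ∀ i, i < 251 → P i := stepQ 250 Q250 (allL N250 (tt N250 F1259) (tt N315 (iv F1610)) (tt N327 (iv F1665)) (tt N190 F1260) (tt N250 F1261) (tt N296 (iv F1514)) (tt N189 (iv D264)) (tt N324 (iv F1655)) (tt N250 F1262))
theorem Q252 : ∀ i, i < 252 → P i := stepQ 251 Q251 (allL N251 (tt N203 F1298) (tt N251 F1299) (tt N263 (iv F1372)) (tt N251 F1300) (tt N194 F1301) (tt N251 F1302) (tt N251 F1303) (tt N328 D367) (tt N193 (iv D272)))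
theorem Q253 : ∀ i, i < 253 → P i := stepQ 252 Q252 (allL N252 (tt N205 F1304) (tt N252 F1305) (tt N265 (iv F1382)) (tt N329 D368) (tt N328 (iv F1714)) (tt N195 F1306) (tt N252 F1307) (tt N194 (iv D273)) (tt N260 (iv F1358)))
theorem Q254 : ∀ i, i < 254 → P i := stepQ 253 Q253 (allL N253 (tt N207 F1308) (tt N253 F1309) (tt N330 D369) (tt N195 (iv D274)) (tt N331 D370) (tt N329 (iv F1719)) (tt N230 F1310) (tt N197 F1311) (tt N261 (iv F1362)))
theorem Q255 : ∀ i, i < 255 → P i := stepQ 254 Q254 (allL N254 (tt N208 F1312) (tt N254 F1313) (tt N332 D371) (tt N196 (iv D275)) (tt N333 D372) (tt N197 F1314) (tt N254 F1315) (tt N329 (iv F1721)) (tt N254 F1316))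
theorem Q256 : ∀ i, i < 256 → P i := stepQ 255 Q255 (allL N255 (tt N209 F1317) (tt N334 D373) (tt N197 (iv D276)) (tt N255 F1318) (tt N335 D374) (tt N332 (iv F1732)) (tt N231 F1319) (tt N330 (iv F1724)) (tt N255 F1320))
theorem Q257 : ∀ i, i < 257 → P i := stepQ 256 Q256 (allL N256 (tt N210 F1321) (tt N256 F1322) (tt N335 (iv F1745)) (tt N198 F1323) (tt N197 (iv D277)) (tt N336 D375) (tt N232 F1324) (tt N331 (iv F1729)) (tt N256 F1325))
theorem Q258 : ∀ i, i < 258 → P i := stepQ 257 Q257 (allL N257 (tt N212 F1338) (tt N257 F1339) (tt N277 F38441) (tt N336 (iv F1750)) (tt N257 F1340) (tt N198 (iv D280)) (tt N276 F38442) (tt N257 F1341) (tt N257 F1342))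
theorem Q259 : ∀ i, i < 259 → P i := stepQ 258 Q258 (allL N258 (tt N262 (iv F1363)) (tt N258 F1343) (tt N258 F1344) (tt N199 (iv D281)) (tt N258 F1345) (tt N258 F1346) (tt N258 F1347) (tt N258 F1348) (tt N337 D380))
theorem Q260 : ∀ i, i < 260 → P i := stepQ 259 Q259 (allL N259 (tt N263 (iv F1370)) (tt N259 F1349) (tt N203 F1350) (tt N337 (iv F1775)) (tt N200 F1351) (tt N259 F1352) (tt N259 F1353) (tt N338 D381) (tt N199 (iv D282)))
theorem Q261 : ∀ i, i < 261 → P i := stepQ 260 Q260 (allL N260 (tt N265 (iv F1380)) (tt N260 F1354) (tt N205 F1355) (tt N339 D382) (tt N338 (iv F1781)) (tt N201 F1356) (tt N260 F1357) (tt N200 (iv D283)) (tt N252 F1358))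
theorem Q262 : ∀ i, i < 262 → P i := stepQ 261 Q261 (allL N261 (tt N267 (iv F1390)) (tt N261 F1359) (tt N340 D383) (tt N201 (iv D284)) (tt N341 D384) (tt N339 (iv F1786)) (tt N233 F1360) (tt N261 F1361) (tt N253 F1362))
theorem Q263 : ∀ i, i < 263 → P i := stepQ 262 Q262 (allL N262 (tt N258 F1363) (tt N213 F1364) (tt N262 F1365) (tt N202 (iv D285)) (tt N262 F1366) (tt N262 F1367) (tt N262 F1368) (tt N262 F1369) (tt N342 D385))
theorem Q264 : ∀ i, i < 264 → P i := stepQ 263 Q263 (allL N263 (tt N259 F1370) (tt N214 F1371) (tt N251 F1372) (tt N342 (iv F1802)) (tt N204 F1373) (tt N263 F1374) (tt N263 F1375) (tt N343 D386) (tt N202 (iv D286)))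
theorem Q265 : ∀ i, i < 265 → P i := stepQ 264 Q264 (allL N264 (tt N328 (iv F1712)) (tt N215 F1376) (tt N338 (iv F1780)) (tt N344 D387) (tt N205 F1377) (tt N264 F1378) (tt N264 F1379) (tt N203 (iv D287)) (tt N343 (iv F1812)))
theorem Q266 : ∀ i, i < 266 → P i := stepQ 265 Q265 (allL N265 (tt N260 F1380) (tt N216 F1381) (tt N252 F1382) (tt N345 D388) (tt N343 (iv F1809)) (tt N206 F1383) (tt N265 F1384) (tt N204 (iv D288)) (tt N205 F1385))
theorem Q267 : ∀ i, i < 267 → P i := stepQ 266 Q266 (allL N266 (tt N329 (iv F1717)) (tt N217 F1386) (tt N346 D389) (tt N205 (iv D289)) (tt N347 D390) (tt N207 F1387) (tt N266 F1388) (tt N208 F1389) (tt N345 (iv F1822)))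
theorem Q268 : ∀ i, i < 268 → P i := stepQ 267 Q267 (allL N267 (tt N261 F1390) (tt N218 F1391) (tt N348 D391) (tt N206 (iv D290)) (tt N349 D392) (tt N345 (iv F1819)) (tt N234 F1392) (tt N267 F1393) (tt N207 F1394))
theorem Q269 : ∀ i, i < 269 → P i := stepQ 268 Q268 (allL N268 (tt N330 (iv F1722)) (tt N350 D393) (tt N207 (iv D291)) (tt N340 (iv F1790)) (tt N351 D394) (tt N346 (iv F1823)) (tt N235 F1395) (tt N209 F1396) (tt N348 (iv F1833)))
theorem Q270 : ∀ i, i < 270 → P i := stepQ 269 Q269 (allL N269 (tt N331 (iv F1725)) (tt N220 F1397) (tt N351 (iv F1843)) (tt N269 F1398) (tt N207 (iv D292)) (tt N352 D395) (tt N236 F1399) (tt N210 F1400) (tt N349 (iv F1839)))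
theorem Q271 : ∀ i, i < 271 → P i := stepQ 270 Q270 (allL N270 (tt N332 (iv F1730)) (tt N353 D396) (tt N208 (iv D293)) (tt N270 F1401) (tt N354 D397) (tt N209 F1402) (tt N270 F1403) (tt N346 (iv F1825)) (tt N270 F1404))
theorem Q272 : ∀ i, i < 272 → P i := stepQ 271 Q271 (allL N271 (tt N333 (iv F1735)) (tt N222 F1405) (tt N354 (iv F1854)) (tt N271 F1406) (tt N208 (iv D294)) (tt N355 D398) (tt N271 F1407) (tt N347 (iv F1828)) (tt N271 F1408))
theorem Q273 : ∀ i, i < 273 → P i := stepQ 272 Q272 (allL N272 (tt N356 D399) (tt N209 (iv D295)) (tt N223 F1409) (tt N272 F1410) (tt N357 D400) (tt N353 (iv F1851)) (tt N237 F1411) (tt N350 (iv F1842)) (tt N272 F1412))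
theorem Q274 : ∀ i, i < 274 → P i := stepQ 273 Q273 (allL N273 (tt N335 (iv F1744)) (tt N357 (iv F1865)) (tt N210 F1413) (tt N358 D401) (tt N209 (iv D296)) (tt N359 D402) (tt N238 F1414) (tt N351 (iv F1845)) (tt N273 F1415))
theorem Q275 : ∀ i, i < 275 → P i := stepQ 274 Q274 (allL N274 (tt N336 (iv F1748)) (tt N225 F1416) (tt N359 (iv F1873)) (tt N212 F1417) (tt N355 (iv F1859)) (tt N210 (iv D297)) (tt N360 D403) (tt N352 (iv F1848)) (tt N274 F1418))
theorem Q276 : ∀ i, i < 276 → P i := stepQ 275 Q275 (allL N275 (tt N315 F38288) (tt N275 F1419) (tt N358 (iv F1869)) (tt N211 (iv D298)) (tt N275 F1420) (tt N361 D404) (tt N240 F1421) (tt N362 D405) (tt N275 F1422))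
theorem Q277 : ∀ i, i < 277 → P i := stepQ 276 Q276 (allL N276 (tt N277 F38423) (tt N276 F1423) (tt N212 F1424) (tt N361 (iv F1880)) (tt N276 F1425) (tt N211 (iv D299)) (tt N257 (iv F38442)) (tt N276 F1426) (tt N276 F1427))
theorem Q278 : ∀ i, i < 278 → P i := stepQ 277 Q277 (allL N277 (tt N276 (iv F38423)) (tt N226 F1428) (tt N257 (iv F38441)) (tt N360 (iv F1876)) (tt N277 F1429) (tt N241 F1430) (tt N212 (iv D300)) (tt N277 F1431) (tt N277 F1432))
theorem Q279 : ∀ i, i < 279 → P i := stepQ 278 Q278 (allL N278 (tt N278 F1433) (tt N278 F1434) (tt N213 (iv D301)) (tt N278 F1435) (tt N278 F1436) (tt N278 F1437) (tt N278 F1438) (tt N278 F1439) (tt N363 D407))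
theorem Q280 : ∀ i, i < 280 → P i := stepQ 279 Q279 (allL N279 (tt N279 F1440) (tt N342 (iv F1800)) (tt N363 (iv F1894)) (tt N214 F1441) (tt N279 F1442) (tt N279 F1443) (tt N279 F1444) (tt N364 D408) (tt N213 (iv D302)))
theorem Q281 : ∀ i, i < 281 → P i := stepQ 280 Q280 (allL N280 (tt N280 F1445) (tt N343 (iv F1807)) (tt N280 F1446) (tt N365 D409) (tt N216 F1447) (tt N280 F1448) (tt N280 F1449) (tt N214 (iv D303)) (tt N215 F1450))
theorem Q282 : ∀ i, i < 282 → P i := stepQ 281 Q281 (allL N281 (tt N281 F1451) (tt N344 (iv F1813)) (tt N366 D410) (tt N215 (iv D304)) (tt N367 D411) (tt N281 F1452) (tt N281 F1453) (tt N281 F1454) (tt N365 (iv F1907)))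
theorem Q283 : ∀ i, i < 283 → P i := stepQ 282 Q282 (allL N282 (tt N282 F1455) (tt N345 (iv F1818)) (tt N368 D412) (tt N216 (iv D305)) (tt N369 D413) (tt N218 F1456) (tt N282 F1457) (tt N282 F1458) (tt N217 F1459))
theorem Q284 : ∀ i, i < 284 → P i := stepQ 283 Q283 (allL N283 (tt N283 F1460) (tt N370 D414) (tt N217 (iv D306)) (tt N283 F1461) (tt N371 D415) (tt N219 F1462) (tt N283 F1463) (tt N221 F1464) (tt N368 (iv F1922)))
theorem Q285 : ∀ i, i < 285 → P i := stepQ 284 Q284 (allL N284 (tt N284 F1465) (tt N347 (iv F1826)) (tt N371 (iv F1932)) (tt N367 (iv F1914)) (tt N217 (iv D307)) (tt N372 D416) (tt N284 F1466) (tt N222 F1467) (tt N369 (iv F1926)))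
theorem Q286 : ∀ i, i < 286 → P i := stepQ 285 Q285 (allL N285 (tt N285 F1468) (tt N373 D417) (tt N218 (iv D308)) (tt N285 F1469) (tt N374 D418) (tt N368 (iv F1919)) (tt N242 F1470) (tt N285 F1471) (tt N219 F1472))
theorem Q287 : ∀ i, i < 287 → P i := stepQ 286 Q286 (allL N286 (tt N286 F1473) (tt N349 (iv F1835)) (tt N374 (iv F1943)) (tt N286 F1474) (tt N218 (iv D309)) (tt N375 D419) (tt N243 F1475) (tt N286 F1476) (tt N220 F1477))
theorem Q288 : ∀ i, i < 288 → P i := stepQ 287 Q287 (allL N287 (tt N376 D420) (tt N219 (iv D310)) (tt N350 (iv F1840)) (tt N287 F1478) (tt N377 D421) (tt N370 (iv F1928)) (tt N244 F1479) (tt N223 F1480) (tt N373 (iv F1941)))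
theorem Q289 : ∀ i, i < 289 → P i := stepQ 288 Q288 (allL N288 (tt N288 F1481) (tt N377 (iv F1955)) (tt N220 F1482) (tt N378 D422) (tt N219 (iv D311)) (tt N379 D423) (tt N245 F1483) (tt N224 F1484) (tt N374 (iv F1946)))
theorem Q290 : ∀ i, i < 290 → P i := stepQ 289 Q289 (allL N289 (tt N289 F1485) (tt N352 (iv F1846)) (tt N379 (iv F1964)) (tt N289 F1486) (tt N372 (iv F1936)) (tt N220 (iv D312)) (tt N380 D424) (tt N225 F1487) (tt N375 (iv F1950)))
theorem Q291 : ∀ i, i < 291 → P i := stepQ 290 Q290 (allL N290 (tt N381 D425) (tt N221 (iv D313)) (tt N353 (iv F1849)) (tt N227 F1488) (tt N382 D426) (tt N223 F1489) (tt N290 F1490) (tt N370 (iv F1930)) (tt N290 F1491))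
theorem Q292 : ∀ i, i < 292 → P i := stepQ 291 Q291 (allL N291 (tt N291 F1492) (tt N382 (iv F1975)) (tt N222 F1493) (tt N383 D427) (tt N221 (iv D314)) (tt N384 D428) (tt N291 F1494) (tt N371 (iv F1934)) (tt N291 F1495))
theorem Q293 : ∀ i, i < 293 → P i := stepQ 292 Q292 (allL N292 (tt N292 F1496) (tt N355 (iv F1857)) (tt N384 (iv F1984)) (tt N292 F1497) (tt N225 F1498) (tt N222 (iv D315)) (tt N385 D429) (tt N372 (iv F1937)) (tt N292 F1499))
theorem Q294 : ∀ i, i < 294 → P i := stepQ 293 Q293 (allL N293 (tt N223 (iv D316)) (tt N293 F1500) (tt N356 (iv F1861)) (tt N229 F1501) (tt N386 D430) (tt N381 (iv F1972)) (tt N247 F1502) (tt N376 (iv F1954)) (tt N293 F1503))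
theorem Q295 : ∀ i, i < 295 → P i := stepQ 294 Q294 (allL N294 (tt N386 (iv F1992)) (tt N224 F1504) (tt N357 (iv F1866)) (tt N294 F1505) (tt N223 (iv D317)) (tt N387 D431) (tt N248 F1506) (tt N377 (iv F1957)) (tt N294 F1507))
theorem Q296 : ∀ i, i < 296 → P i := stepQ 295 Q295 (allL N295 (tt N295 F1508) (tt N387 (iv F1997)) (tt N225 F1509) (tt N295 F1510) (tt N384 (iv F1985)) (tt N224 (iv D318)) (tt N388 D432) (tt N379 (iv F1965)) (tt N295 F1511))
theorem Q297 : ∀ i, i < 297 → P i := stepQ 296 Q296 (allL N296 (tt N296 F1512) (tt N360 (iv F1875)) (tt N388 (iv F2001)) (tt N226 F1513) (tt N385 (iv F1989)) (tt N250 F1514) (tt N225 (iv D319)) (tt N380 (iv F1969)) (tt N296 F1515))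
theorem Q298 : ∀ i, i < 298 → P i := stepQ 297 Q297 (allL N297 (tt N227 (iv D320)) (tt N297 F1516) (tt N297 F1517) (tt N381 (iv F1971)) (tt N389 D433) (tt N229 F1518) (tt N297 F1519) (tt N297 F1520) (tt N297 F1521))
theorem Q299 : ∀ i, i < 299 → P i := stepQ 298 Q298 (allL N298 (tt N389 (iv F2005)) (tt N228 F1522) (tt N298 F1523) (tt N390 D434) (tt N227 (iv D321)) (tt N298 F1524) (tt N298 F1525) (tt N298 F1526) (tt N298 F1527))
theorem Q300 : ∀ i, i < 300 → P i := stepQ 299 Q299 (allL N299 (tt N299 F1528) (tt N390 (iv F2012)) (tt N299 F1529) (tt N228 (iv D322)) (tt N383 (iv F1980)) (tt N299 F1530) (tt N299 F1531) (tt N391 D435) (tt N299 F1532))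
theorem Q301 : ∀ i, i < 301 → P i := stepQ 300 Q300 (allL N300 (tt N235 F1533) (tt N392 D436) (tt N230 (iv D323)) (tt N306 (iv F1579)) (tt N393 D437) (tt N300 F1534) (tt N330 (iv F1723)) (tt N231 F1535) (tt N304 (iv F1573)))
theorem Q302 : ∀ i, i < 302 → P i := stepQ 301 Q301 (allL N301 (tt N236 F1536) (tt N301 F1537) (tt N393 (iv F2025)) (tt N301 F1538) (tt N230 (iv D324)) (tt N316 F38201) (tt N331 (iv F1728)) (tt N232 F1539) (tt N305 (iv F1577)))
theorem Q303 : ∀ i, i < 303 → P i := stepQ 302 Q302 (allL N302 (tt N394 D439) (tt N231 (iv D325)) (tt N302 F1540) (tt N302 F1541) (tt N395 D440) (tt N302 F1542) (tt N334 (iv F1742)) (tt N392 (iv F2023)) (tt N302 F1543))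
theorem Q304 : ∀ i, i < 304 → P i := stepQ 303 Q303 (allL N303 (tt N238 F1544) (tt N395 (iv F2037)) (tt N232 F1545) (tt N314 F38192) (tt N231 (iv D326)) (tt N313 F38193) (tt N335 (iv F1746)) (tt N393 (iv F2026)) (tt N303 F1546))
theorem Q305 : ∀ i, i < 305 → P i := stepQ 304 Q304 (allL N304 (tt N306 (iv F1578)) (tt N396 D449) (tt N233 (iv D332)) (tt N235 F1570) (tt N397 D450) (tt N304 F1571) (tt N340 (iv F1791)) (tt N304 F1572) (tt N300 F1573))
theorem Q306 : ∀ i, i < 306 → P i := stepQ 305 Q305 (allL N305 (tt N307 (iv F1583)) (tt N305 F1574) (tt N397 (iv F2079)) (tt N305 F1575) (tt N233 (iv D333)) (tt N398 D451) (tt N341 (iv F1796)) (tt N305 F1576) (tt N301 F1577))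
theorem Q307 : ∀ i, i < 307 → P i := stepQ 306 Q306 (allL N306 (tt N304 F1578) (tt N399 D452) (tt N234 (iv D334)) (tt N300 F1579) (tt N400 D453) (tt N306 F1580) (tt N348 (iv F1831)) (tt N306 F1581) (tt N235 F1582))
theorem Q308 : ∀ i, i < 308 → P i := stepQ 307 Q307 (allL N307 (tt N305 F1583) (tt N243 F1584) (tt N400 (iv F2093)) (tt N307 F1585) (tt N234 (iv D335)) (tt N401 D454) (tt N349 (iv F1837)) (tt N307 F1586) (tt N236 F1587))
theorem Q309 : ∀ i, i < 309 → P i := stepQ 308 Q308 (allL N308 (tt N402 D455) (tt N235 (iv D336)) (tt N244 F1588) (tt N396 (iv F2075)) (tt N403 D456) (tt N308 F1589) (tt N350 (iv F1841)) (tt N237 F1590) (tt N399 (iv F2091)))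
theorem Q310 : ∀ i, i < 310 → P i := stepQ 309 Q309 (allL N309 (tt N393 (iv F2024)) (tt N403 (iv F2105)) (tt N236 F1591) (tt N404 D457) (tt N235 (iv D337)) (tt N405 D458) (tt N351 (iv F1844)) (tt N238 F1592) (tt N400 (iv F2095)))
theorem Q311 : ∀ i, i < 311 → P i := stepQ 310 Q310 (allL N310 (tt N316 (iv F38162)) (tt N246 F1593) (tt N405 (iv F2109)) (tt N310 F1594) (tt N310 F1595) (tt N236 (iv D338)) (tt N406 D459) (tt N239 F1596) (tt N401 (iv F2101)))
theorem Q312 : ∀ i, i < 312 → P i := stepQ 311 Q311 (allL N311 (tt N237 (iv D339)) (tt N394 (iv F2032)) (tt N247 F1597) (tt N311 F1598) (tt N407 D460) (tt N311 F1599) (tt N356 (iv F1863)) (tt N402 (iv F2104)) (tt N311 F1600))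
theorem Q313 : ∀ i, i < 313 → P i := stepQ 312 Q312 (allL N312 (tt N407 (iv F2116)) (tt N238 F1601) (tt N248 F1602) (tt N408 D461) (tt N237 (iv D340)) (tt N409 D462) (tt N357 (iv F1867)) (tt N403 (iv F2107)) (tt N312 F1603))
theorem Q314 : ∀ i, i < 314 → P i := stepQ 313 Q313 (allL N313 (tt N314 F38163) (tt N408 (iv F2119)) (tt N240 F1604) (tt N238 (iv D341)) (tt N313 F1605) (tt N303 (iv F38193)) (tt N358 (iv F1871)) (tt N410 D464) (tt N313 F1606))
theorem Q315 : ∀ i, i < 315 → P i := stepQ 314 Q314 (allL N314 (tt N313 (iv F38163)) (tt N409 (iv F2123)) (tt N239 F1607) (tt N303 (iv F38192)) (tt N314 F1608) (tt N238 (iv D342)) (tt N411 D465) (tt N405 (iv F2111)) (tt N314 F1609))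
theorem Q316 : ∀ i, i < 316 → P i := stepQ 315 Q315 (allL N315 (tt N275 (iv F38288)) (tt N250 F1610) (tt N411 (iv F2132)) (tt N241 F1611) (tt N315 F1612) (tt N360 (iv F1877)) (tt N239 (iv D343)) (tt N406 (iv F2115)) (tt N315 F1613))
theorem Q317 : ∀ i, i < 317 → P i := stepQ 316 Q316 (allL N316 (tt N310 F38162) (tt N316 F1617) (tt N410 (iv F2130)) (tt N316 F1618) (tt N316 F1619) (tt N301 (iv F38201)) (tt N362 (iv F1885)) (tt N240 (iv D345)) (tt N398 (iv F38210)))
theorem Q318 : ∀ i, i < 318 → P i := stepQ 317 Q317 (allL N317 (tt N412 D470) (tt N242 (iv D347)) (tt N399 (iv F2087)) (tt N317 F1625) (tt N413 D471) (tt N317 F1626) (tt N373 (iv F1939)) (tt N317 F1627) (tt N244 F1628))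
theorem Q319 : ∀ i, i < 319 → P i := stepQ 318 Q318 (allL N318 (tt N318 F1629) (tt N413 (iv F2154)) (tt N243 F1630) (tt N414 D472) (tt N242 (iv D348)) (tt N415 D473) (tt N374 (iv F1944)) (tt N318 F1631) (tt N245 F1632))
theorem Q320 : ∀ i, i < 320 → P i := stepQ 319 Q319 (allL N319 (tt N319 F1633) (tt N401 (iv F2097)) (tt N415 (iv F2162)) (tt N319 F1634) (tt N319 F1635) (tt N243 (iv D349)) (tt N416 D474) (tt N319 F1636) (tt N246 F1637))
theorem Q321 : ∀ i, i < 321 → P i := stepQ 320 Q320 (allL N320 (tt N244 (iv D350)) (tt N320 F1638) (tt N402 (iv F2102)) (tt N320 F1639) (tt N417 D475) (tt N320 F1640) (tt N376 (iv F1953)) (tt N247 F1641) (tt N412 (iv F2153)))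
theorem Q322 : ∀ i, i < 322 → P i := stepQ 321 Q321 (allL N321 (tt N417 (iv F2171)) (tt N245 F1642) (tt N403 (iv F2106)) (tt N418 D476) (tt N244 (iv D351)) (tt N419 D477) (tt N377 (iv F1956)) (tt N248 F1643) (tt N413 (iv F2156)))
theorem Q323 : ∀ i, i < 323 → P i := stepQ 322 Q322 (allL N322 (tt N322 F1644) (tt N418 (iv F2174)) (tt N322 F1645) (tt N245 (iv D352)) (tt N322 F1646) (tt N420 D478) (tt N378 (iv F1961)) (tt N322 F1647) (tt N414 (iv F2160)))
theorem Q324 : ∀ i, i < 324 → P i := stepQ 323 Q323 (allL N323 (tt N323 F1648) (tt N419 (iv F2177)) (tt N246 F1649) (tt N420 (iv F2182)) (tt N323 F1650) (tt N245 (iv D353)) (tt N421 D479) (tt N249 F1651) (tt N415 (iv F2165)))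
theorem Q325 : ∀ i, i < 325 → P i := stepQ 324 Q324 (allL N324 (tt N324 F1652) (tt N406 (iv F2112)) (tt N421 (iv F2185)) (tt N324 F1653) (tt N324 F1654) (tt N380 (iv F1968)) (tt N246 (iv D354)) (tt N250 F1655) (tt N416 (iv F2170)))
theorem Q326 : ∀ i, i < 326 → P i := stepQ 325 Q325 (allL N325 (tt N248 F1656) (tt N325 F1657) (tt N407 (iv F2117)) (tt N325 F1658) (tt N247 (iv D355)) (tt N422 D480) (tt N386 (iv F1995)) (tt N417 (iv F2173)) (tt N325 F1659))
theorem Q327 : ∀ i, i < 327 → P i := stepQ 326 Q326 (allL N326 (tt N422 (iv F2188)) (tt N249 F1660) (tt N409 (iv F2124)) (tt N326 F1661) (tt N326 F1662) (tt N248 (iv D356)) (tt N423 D481) (tt N419 (iv F2179)) (tt N326 F1663))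
theorem Q328 : ∀ i, i < 328 → P i := stepQ 327 Q327 (allL N327 (tt N327 F1664) (tt N423 (iv F2193)) (tt N250 F1665) (tt N327 F1666) (tt N327 F1667) (tt N388 (iv F2003)) (tt N249 (iv D357)) (tt N421 (iv F2187)) (tt N327 F1668))
theorem Q329 : ∀ i, i < 329 → P i := stepQ 328 Q328 (allL N328 (tt N264 F1712) (tt N328 F1713) (tt N343 (iv F1808)) (tt N424 D494) (tt N252 F1714) (tt N328 F1715) (tt N328 F1716) (tt N251 (iv D367)) (tt N338 (iv F1784)))
theorem Q330 : ∀ i, i < 330 → P i := stepQ 329 Q329 (allL N329 (tt N266 F1717) (tt N329 F1718) (tt N425 D495) (tt N252 (iv D368)) (tt N426 D496) (tt N253 F1719) (tt N329 F1720) (tt N254 F1721) (tt N339 (iv F1789)))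
theorem Q331 : ∀ i, i < 331 → P i := stepQ 330 Q330 (allL N330 (tt N268 F1722) (tt N427 D497) (tt N253 (iv D369)) (tt N348 (iv F1830)) (tt N428 D498) (tt N425 (iv F2261)) (tt N300 F1723) (tt N255 F1724) (tt N340 (iv F1793)))
theorem Q332 : ∀ i, i < 332 → P i := stepQ 331 Q331 (allL N331 (tt N269 F1725) (tt N331 F1726) (tt N428 (iv F2272)) (tt N331 F1727) (tt N253 (iv D370)) (tt N429 D499) (tt N301 F1728) (tt N256 F1729) (tt N341 (iv F1798)))
theorem Q333 : ∀ i, i < 333 → P i := stepQ 332 Q332 (allL N332 (tt N270 F1730) (tt N430 D500) (tt N254 (iv D371)) (tt N332 F1731) (tt N431 D501) (tt N255 F1732) (tt N332 F1733) (tt N425 (iv F2263)) (tt N332 F1734))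
theorem Q334 : ∀ i, i < 334 → P i := stepQ 333 Q333 (allL N333 (tt N271 F1735) (tt N333 F1736) (tt N431 (iv F2285)) (tt N333 F1737) (tt N254 (iv D372)) (tt N432 D502) (tt N333 F1738) (tt N426 (iv F2267)) (tt N333 F1739))
theorem Q335 : ∀ i, i < 335 → P i := stepQ 334 Q334 (allL N334 (tt N433 D503) (tt N255 (iv D373)) (tt N334 F1740) (tt N334 F1741) (tt N434 D504) (tt N430 (iv F2281)) (tt N302 F1742) (tt N427 (iv F2270)) (tt N334 F1743))
theorem Q336 : ∀ i, i < 336 → P i := stepQ 335 Q335 (allL N335 (tt N273 F1744) (tt N434 (iv F2298)) (tt N256 F1745) (tt N411 F38249) (tt N255 (iv D374)) (tt N435 D506) (tt N303 F1746) (tt N428 (iv F2274)) (tt N335 F1747))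
theorem Q337 : ∀ i, i < 337 → P i := stepQ 336 Q336 (allL N336 (tt N274 F1748) (tt N336 F1749) (tt N435 (iv F2308)) (tt N257 F1750) (tt N432 (iv F2291)) (tt N256 (iv D375)) (tt N361 F38373) (tt N429 (iv F2278)) (tt N336 F1751))
theorem Q338 : ∀ i, i < 338 → P i := stepQ 337 Q337 (allL N337 (tt N342 (iv F1799)) (tt N337 F1773) (tt N337 F1774) (tt N259 F1775) (tt N337 F1776) (tt N337 F1777) (tt N337 F1778) (tt N436 D513) (tt N258 (iv D380)))
theorem Q339 : ∀ i, i < 339 → P i := stepQ 338 Q338 (allL N338 (tt N343 (iv F1806)) (tt N338 F1779) (tt N264 F1780) (tt N437 D514) (tt N260 F1781) (tt N338 F1782) (tt N338 F1783) (tt N259 (iv D381)) (tt N328 F1784))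
theorem Q340 : ∀ i, i < 340 → P i := stepQ 339 Q339 (allL N339 (tt N345 (iv F1817)) (tt N339 F1785) (tt N438 D515) (tt N260 (iv D382)) (tt N439 D516) (tt N261 F1786) (tt N339 F1787) (tt N339 F1788) (tt N329 F1789))
theorem Q341 : ∀ i, i < 341 → P i := stepQ 340 Q340 (allL N340 (tt N348 (iv F1829)) (tt N440 D517) (tt N261 (iv D383)) (tt N268 F1790) (tt N441 D518) (tt N438 (iv F2350)) (tt N304 F1791) (tt N340 F1792) (tt N330 F1793))
theorem Q342 : ∀ i, i < 342 → P i := stepQ 341 Q341 (allL N341 (tt N349 (iv F1834)) (tt N341 F1794) (tt N441 (iv F2363)) (tt N341 F1795) (tt N261 (iv D384)) (tt N442 D519) (tt N305 F1796) (tt N341 F1797) (tt N331 F1798))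
theorem Q343 : ∀ i, i < 343 → P i := stepQ 342 Q342 (allL N342 (tt N337 F1799) (tt N279 F1800) (tt N342 F1801) (tt N263 F1802) (tt N342 F1803) (tt N342 F1804) (tt N342 F1805) (tt N443 D520) (tt N262 (iv D385)))
theorem Q344 : ∀ i, i < 344 → P i := stepQ 343 Q343 (allL N343 (tt N338 F1806) (tt N280 F1807) (tt N328 F1808) (tt N444 D521) (tt N265 F1809) (tt N343 F1810) (tt N343 F1811) (tt N263 (iv D386)) (tt N264 F1812))
theorem Q345 : ∀ i, i < 345 → P i := stepQ 344 Q344 (allL N344 (tt N424 (iv F2255)) (tt N281 F1813) (tt N445 D522) (tt N264 (iv D387)) (tt N446 D523) (tt N344 F1814) (tt N344 F1815) (tt N344 F1816) (tt N444 (iv F2382)))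
theorem Q346 : ∀ i, i < 346 → P i := stepQ 345 Q345 (allL N345 (tt N339 F1817) (tt N282 F1818) (tt N447 D524) (tt N265 (iv D388)) (tt N448 D525) (tt N267 F1819) (tt N345 F1820) (tt N345 F1821) (tt N266 F1822))
theorem Q347 : ∀ i, i < 347 → P i := stepQ 346 Q346 (allL N346 (tt N425 (iv F2260)) (tt N449 D526) (tt N266 (iv D389)) (tt N438 (iv F2349)) (tt N450 D527) (tt N268 F1823) (tt N346 F1824) (tt N270 F1825) (tt N447 (iv F2395)))
theorem Q348 : ∀ i, i < 348 → P i := stepQ 347 Q347 (allL N347 (tt N426 (iv F2264)) (tt N284 F1826) (tt N450 (iv F2405)) (tt N446 (iv F2387)) (tt N266 (iv D390)) (tt N451 D528) (tt N347 F1827) (tt N271 F1828) (tt N448 (iv F2400)))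
theorem Q349 : ∀ i, i < 349 → P i := stepQ 348 Q348 (allL N348 (tt N340 F1829) (tt N452 D529) (tt N267 (iv D391)) (tt N330 F1830) (tt N453 D530) (tt N447 (iv F2392)) (tt N306 F1831) (tt N348 F1832) (tt N268 F1833))
theorem Q350 : ∀ i, i < 350 → P i := stepQ 349 Q349 (allL N349 (tt N341 F1834) (tt N286 F1835) (tt N453 (iv F2417)) (tt N349 F1836) (tt N267 (iv D392)) (tt N454 D531) (tt N307 F1837) (tt N349 F1838) (tt N269 F1839))
theorem Q351 : ∀ i, i < 351 → P i := stepQ 350 Q350 (allL N350 (tt N455 D532) (tt N268 (iv D393)) (tt N287 F1840) (tt N440 (iv F2359)) (tt N456 D533) (tt N449 (iv F2402)) (tt N308 F1841) (tt N272 F1842) (tt N452 (iv F2415)))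
theorem Q352 : ∀ i, i < 352 → P i := stepQ 351 Q351 (allL N351 (tt N428 (iv F2271)) (tt N456 (iv F2429)) (tt N269 F1843) (tt N457 D534) (tt N268 (iv D394)) (tt N458 D535) (tt N309 F1844) (tt N273 F1845) (tt N453 (iv F2420)))
theorem Q353 : ∀ i, i < 353 → P i := stepQ 352 Q352 (allL N352 (tt N429 (iv F2275)) (tt N289 F1846) (tt N458 (iv F2435)) (tt N352 F1847) (tt N451 (iv F2409)) (tt N269 (iv D395)) (tt N459 D536) (tt N274 F1848) (tt N454 (iv F2425)))
theorem Q354 : ∀ i, i < 354 → P i := stepQ 353 Q353 (allL N353 (tt N460 D537) (tt N270 (iv D396)) (tt N290 F1849) (tt N353 F1850) (tt N461 D538) (tt N272 F1851) (tt N353 F1852) (tt N449 (iv F2404)) (tt N353 F1853))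
theorem Q355 : ∀ i, i < 355 → P i := stepQ 354 Q354 (allL N354 (tt N431 (iv F2284)) (tt N461 (iv F2446)) (tt N271 F1854) (tt N462 D539) (tt N270 (iv D397)) (tt N463 D540) (tt N354 F1855) (tt N450 (iv F2407)) (tt N354 F1856))
theorem Q356 : ∀ i, i < 356 → P i := stepQ 355 Q355 (allL N355 (tt N432 (iv F2288)) (tt N292 F1857) (tt N463 (iv F2454)) (tt N355 F1858) (tt N274 F1859) (tt N271 (iv D398)) (tt N464 D541) (tt N451 (iv F2410)) (tt N355 F1860))
theorem Q357 : ∀ i, i < 357 → P i := stepQ 356 Q356 (allL N356 (tt N272 (iv D399)) (tt N433 (iv F2293)) (tt N293 F1861) (tt N356 F1862) (tt N465 D542) (tt N460 (iv F2443)) (tt N311 F1863) (tt N455 (iv F2428)) (tt N356 F1864))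
theorem Q358 : ∀ i, i < 358 → P i := stepQ 357 Q357 (allL N357 (tt N465 (iv F2462)) (tt N273 F1865) (tt N294 F1866) (tt N466 D543) (tt N272 (iv D400)) (tt N467 D544) (tt N312 F1867) (tt N456 (iv F2432)) (tt N357 F1868))
theorem Q359 : ∀ i, i < 359 → P i := stepQ 358 Q358 (allL N358 (tt N411 F38226) (tt N466 (iv F2466)) (tt N275 F1869) (tt N273 (iv D401)) (tt N358 F1870) (tt N468 D545) (tt N313 F1871) (tt N469 D546) (tt N358 F1872))
theorem Q360 : ∀ i, i < 360 → P i := stepQ 359 Q359 (allL N359 (tt N435 (iv F2307)) (tt N467 (iv F2471)) (tt N274 F1873) (tt N468 (iv F2475)) (tt N463 (iv F2455)) (tt N273 (iv D402)) (tt N470 D547) (tt N458 (iv F2436)) (tt N359 F1874))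
theorem Q361 : ∀ i, i < 361 → P i := stepQ 360 Q360 (allL N360 (tt N361 (iv F38353)) (tt N296 F1875) (tt N470 (iv F2480)) (tt N277 F1876) (tt N464 (iv F2459)) (tt N315 F1877) (tt N274 (iv D403)) (tt N459 (iv F2440)) (tt N360 F1878))
theorem Q362 : ∀ i, i < 362 → P i := stepQ 361 Q361 (allL N361 (tt N360 F38353) (tt N361 F1879) (tt N468 (iv F2474)) (tt N276 F1880) (tt N471 D548) (tt N275 (iv D404)) (tt N336 (iv F38373)) (tt N472 D550) (tt N361 F1881))
theorem Q363 : ∀ i, i < 363 → P i := stepQ 362 Q362 (allL N362 (tt N406 F38225) (tt N362 F1882) (tt N469 (iv F2477)) (tt N362 F1883) (tt N362 F1884) (tt N472 (iv F2493)) (tt N316 F1885) (tt N275 (iv D405)) (tt N473 D551))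
theorem Q364 : ∀ i, i < 364 → P i := stepQ 363 Q363 (allL N363 (tt N363 F1892) (tt N363 F1893) (tt N279 F1894) (tt N363 F1895) (tt N363 F1896) (tt N363 F1897) (tt N363 F1898) (tt N474 D552) (tt N278 (iv D407)))
theorem Q365 : ∀ i, i < 365 → P i := stepQ 364 Q364 (allL N364 (tt N364 F1899) (tt N443 (iv F2372)) (tt N474 (iv F2501)) (tt N475 D553) (tt N364 F1900) (tt N364 F1901) (tt N364 F1902) (tt N279 (iv D408)) (tt N364 F1903))
theorem Q366 : ∀ i, i < 366 → P i := stepQ 365 Q365 (allL N365 (tt N365 F1904) (tt N444 (iv F2379)) (tt N476 D554) (tt N280 (iv D409)) (tt N477 D555) (tt N365 F1905) (tt N365 F1906) (tt N475 (iv F2509)) (tt N281 F1907))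
theorem Q367 : ∀ i, i < 367 → P i := stepQ 366 Q366 (allL N366 (tt N366 F1908) (tt N478 D556) (tt N281 (iv D410)) (tt N366 F1909) (tt N479 D557) (tt N366 F1910) (tt N366 F1911) (tt N366 F1912) (tt N476 (iv F2515)))
theorem Q368 : ∀ i, i < 368 → P i := stepQ 367 Q367 (allL N367 (tt N367 F1913) (tt N446 (iv F2386)) (tt N479 (iv F2525)) (tt N284 F1914) (tt N281 (iv D411)) (tt N480 D558) (tt N367 F1915) (tt N367 F1916) (tt N477 (iv F2519)))
theorem Q369 : ∀ i, i < 369 → P i := stepQ 368 Q368 (allL N368 (tt N368 F1917) (tt N481 D559) (tt N282 (iv D412)) (tt N368 F1918) (tt N482 D560) (tt N285 F1919) (tt N368 F1920) (tt N368 F1921) (tt N283 F1922))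
theorem Q370 : ∀ i, i < 370 → P i := stepQ 369 Q369 (allL N369 (tt N369 F1923) (tt N448 (iv F2397)) (tt N482 (iv F2538)) (tt N477 (iv F2517)) (tt N282 (iv D413)) (tt N483 D561) (tt N369 F1924) (tt N369 F1925) (tt N284 F1926))
theorem Q371 : ∀ i, i < 371 → P i := stepQ 370 Q370 (allL N370 (tt N484 D562) (tt N283 (iv D414)) (tt N449 (iv F2401)) (tt N370 F1927) (tt N485 D563) (tt N287 F1928) (tt N370 F1929) (tt N290 F1930) (tt N481 (iv F2536)))
theorem Q372 : ∀ i, i < 372 → P i := stepQ 371 Q371 (allL N371 (tt N371 F1931) (tt N485 (iv F2551)) (tt N284 F1932) (tt N486 D564) (tt N283 (iv D415)) (tt N487 D565) (tt N371 F1933) (tt N291 F1934) (tt N482 (iv F2541)))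
theorem Q373 : ∀ i, i < 373 → P i := stepQ 372 Q372 (allL N372 (tt N372 F1935) (tt N451 (iv F2408)) (tt N487 (iv F2558)) (tt N480 (iv F2529)) (tt N289 F1936) (tt N284 (iv D416)) (tt N488 D566) (tt N292 F1937) (tt N483 (iv F2545)))
theorem Q374 : ∀ i, i < 374 → P i := stepQ 373 Q373 (allL N373 (tt N489 D567) (tt N285 (iv D417)) (tt N452 (iv F2411)) (tt N373 F1938) (tt N490 D568) (tt N481 (iv F2533)) (tt N317 F1939) (tt N373 F1940) (tt N287 F1941))
theorem Q375 : ∀ i, i < 375 → P i := stepQ 374 Q374 (allL N374 (tt N374 F1942) (tt N490 (iv F2570)) (tt N286 F1943) (tt N491 D569) (tt N285 (iv D418)) (tt N492 D570) (tt N318 F1944) (tt N374 F1945) (tt N288 F1946))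
theorem Q376 : ∀ i, i < 376 → P i := stepQ 375 Q375 (allL N375 (tt N375 F1947) (tt N454 (iv F2422)) (tt N492 (iv F2580)) (tt N375 F1948) (tt N483 (iv F2543)) (tt N286 (iv D419)) (tt N493 D571) (tt N375 F1949) (tt N289 F1950))
theorem Q377 : ∀ i, i < 377 → P i := stepQ 376 Q376 (allL N376 (tt N287 (iv D420)) (tt N376 F1951) (tt N455 (iv F2426)) (tt N376 F1952) (tt N494 D572) (tt N484 (iv F2548)) (tt N320 F1953) (tt N293 F1954) (tt N489 (iv F2569)))
theorem Q378 : ∀ i, i < 378 → P i := stepQ 377 Q377 (allL N377 (tt N494 (iv F2588)) (tt N288 F1955) (tt N456 (iv F2430)) (tt N495 D573) (tt N287 (iv D421)) (tt N496 D574) (tt N321 F1956) (tt N294 F1957) (tt N490 (iv F2573)))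
theorem Q379 : ∀ i, i < 379 → P i := stepQ 378 Q378 (allL N378 (tt N378 F1958) (tt N495 (iv F2592)) (tt N378 F1959) (tt N288 (iv D422)) (tt N378 F1960) (tt N497 D575) (tt N322 F1961) (tt N378 F1962) (tt N491 (iv F2578)))
theorem Q380 : ∀ i, i < 380 → P i := stepQ 379 Q379 (allL N379 (tt N379 F1963) (tt N496 (iv F2596)) (tt N289 F1964) (tt N497 (iv F2600)) (tt N487 (iv F2559)) (tt N288 (iv D423)) (tt N498 D576) (tt N295 F1965) (tt N492 (iv F2582)))
theorem Q381 : ∀ i, i < 381 → P i := stepQ 380 Q380 (allL N380 (tt N380 F1966) (tt N459 (iv F2437)) (tt N498 (iv F2603)) (tt N380 F1967) (tt N488 (iv F2562)) (tt N324 F1968) (tt N289 (iv D424)) (tt N296 F1969) (tt N493 (iv F2587)))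
theorem Q382 : ∀ i, i < 382 → P i := stepQ 381 Q381 (allL N381 (tt N290 (iv D425)) (tt N381 F1970) (tt N460 (iv F2441)) (tt N297 F1971) (tt N499 D577) (tt N293 F1972) (tt N381 F1973) (tt N484 (iv F2550)) (tt N381 F1974))
theorem Q383 : ∀ i, i < 383 → P i := stepQ 382 Q382 (allL N382 (tt N499 (iv F2606)) (tt N291 F1975) (tt N461 (iv F2447)) (tt N500 D578) (tt N290 (iv D426)) (tt N501 D579) (tt N382 F1976) (tt N485 (iv F2553)) (tt N382 F1977))
theorem Q384 : ∀ i, i < 384 → P i := stepQ 383 Q383 (allL N383 (tt N383 F1978) (tt N500 (iv F2610)) (tt N383 F1979) (tt N291 (iv D427)) (tt N299 F1980) (tt N502 D580) (tt N383 F1981) (tt N503 D581) (tt N383 F1982))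
theorem Q385 : ∀ i, i < 385 → P i := stepQ 384 Q384 (allL N384 (tt N384 F1983) (tt N501 (iv F2614)) (tt N292 F1984) (tt N502 (iv F2619)) (tt N295 F1985) (tt N291 (iv D428)) (tt N504 D582) (tt N487 (iv F2560)) (tt N384 F1986))
theorem Q386 : ∀ i, i < 386 → P i := stepQ 385 Q385 (allL N385 (tt N385 F1987) (tt N464 (iv F2457)) (tt N504 (iv F2627)) (tt N385 F1988) (tt N296 F1989) (tt N385 F1990) (tt N292 (iv D429)) (tt N488 (iv F2564)) (tt N385 F1991))
theorem Q387 : ∀ i, i < 387 → P i := stepQ 386 Q386 (allL N386 (tt N294 F1992) (tt N386 F1993) (tt N465 (iv F2463)) (tt N386 F1994) (tt N293 (iv D430)) (tt N505 D583) (tt N325 F1995) (tt N494 (iv F2591)) (tt N386 F1996))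
theorem Q388 : ∀ i, i < 388 → P i := stepQ 387 Q387 (allL N387 (tt N505 (iv F2631)) (tt N295 F1997) (tt N467 (iv F2472)) (tt N387 F1998) (tt N501 (iv F2615)) (tt N294 (iv D431)) (tt N506 D584) (tt N496 (iv F2597)) (tt N387 F1999))
theorem Q389 : ∀ i, i < 389 → P i := stepQ 388 Q388 (allL N388 (tt N388 F2000) (tt N506 (iv F2635)) (tt N296 F2001) (tt N388 F2002) (tt N504 (iv F2628)) (tt N327 F2003) (tt N295 (iv D432)) (tt N498 (iv F2605)) (tt N388 F2004))
theorem Q390 : ∀ i, i < 390 → P i := stepQ 389 Q389 (allL N389 (tt N298 F2005) (tt N389 F2006) (tt N389 F2007) (tt N507 D585) (tt N297 (iv D433)) (tt N389 F2008) (tt N389 F2009) (tt N389 F2010) (tt N389 F2011))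
theorem Q391 : ∀ i, i < 391 → P i := stepQ 390 Q390 (allL N390 (tt N507 (iv F2639)) (tt N299 F2012) (tt N508 D586) (tt N298 (iv D434)) (tt N500 (iv F2611)) (tt N390 F2013) (tt N390 F2014) (tt N509 D587) (tt N390 F2015))
theorem Q392 : ∀ i, i < 392 → P i := stepQ 391 Q391 (allL N391 (tt N391 F2016) (tt N509 (iv F2649)) (tt N391 F2017) (tt N391 F2018) (tt N503 (iv F2624)) (tt N391 F2019) (tt N391 F2020) (tt N299 (iv D435)) (tt N510 D588))
theorem Q393 : ∀ i, i < 393 → P i := stepQ 392 Q392 (allL N392 (tt N511 D589) (tt N300 (iv D436)) (tt N392 F2021) (tt N399 (iv F2088)) (tt N512 D590) (tt N392 F2022) (tt N427 (iv F2269)) (tt N302 F2023) (tt N396 (iv F2078)))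
theorem Q394 : ∀ i, i < 394 → P i := stepQ 393 Q393 (allL N393 (tt N309 F2024) (tt N512 (iv F2663)) (tt N301 F2025) (tt N513 D591) (tt N300 (iv D437)) (tt N410 F38134) (tt N428 (iv F2273)) (tt N303 F2026) (tt N397 (iv F2081)))
theorem Q395 : ∀ i, i < 395 → P i := stepQ 394 Q394 (allL N394 (tt N302 (iv D439)) (tt N311 F2032) (tt N394 F2033) (tt N394 F2034) (tt N514 D594) (tt N394 F2035) (tt N433 (iv F2296)) (tt N511 (iv F2662)) (tt N394 F2036))
theorem Q396 : ∀ i, i < 396 → P i := stepQ 395 Q395 (allL N395 (tt N514 (iv F2677)) (tt N303 F2037) (tt N395 F2038) (tt N409 F38135) (tt N302 (iv D440)) (tt N408 F38136) (tt N434 (iv F2300)) (tt N512 (iv F2665)) (tt N395 F2039))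
theorem Q397 : ∀ i, i < 397 → P i := stepQ 396 Q396 (allL N396 (tt N515 D608) (tt N304 (iv D449)) (tt N396 F2074) (tt N308 F2075) (tt N516 D609) (tt N396 F2076) (tt N440 (iv F2360)) (tt N396 F2077) (tt N392 F2078))
theorem Q398 : ∀ i, i < 398 → P i := stepQ 397 Q397 (allL N397 (tt N400 (iv F2092)) (tt N516 (iv F2736)) (tt N305 F2079) (tt N517 D610) (tt N304 (iv D450)) (tt N518 D611) (tt N441 (iv F2364)) (tt N397 F2080) (tt N393 F2081))
theorem Q399 : ∀ i, i < 399 → P i := stepQ 398 Q398 (allL N398 (tt N401 (iv F2096)) (tt N398 F2082) (tt N518 (iv F2743)) (tt N398 F2083) (tt N398 F2084) (tt N305 (iv D451)) (tt N473 F38209) (tt N398 F2085) (tt N316 F38210))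
theorem Q400 : ∀ i, i < 400 → P i := stepQ 399 Q399 (allL N399 (tt N519 D613) (tt N306 (iv D452)) (tt N317 F2087) (tt N392 F2088) (tt N520 D614) (tt N399 F2089) (tt N452 (iv F2413)) (tt N399 F2090) (tt N308 F2091))
theorem Q401 : ∀ i, i < 401 → P i := stepQ 400 Q400 (allL N400 (tt N397 F2092) (tt N520 (iv F2758)) (tt N307 F2093) (tt N521 D615) (tt N306 (iv D453)) (tt N522 D616) (tt N453 (iv F2418)) (tt N400 F2094) (tt N309 F2095))
theorem Q402 : ∀ i, i < 402 → P i := stepQ 401 Q401 (allL N401 (tt N398 F2096) (tt N319 F2097) (tt N522 (iv F2767)) (tt N401 F2098) (tt N401 F2099) (tt N307 (iv D454)) (tt N523 D617) (tt N401 F2100) (tt N310 F2101))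
theorem Q403 : ∀ i, i < 403 → P i := stepQ 402 Q402 (allL N402 (tt N308 (iv D455)) (tt N511 (iv F2659)) (tt N320 F2102) (tt N515 (iv F2732)) (tt N524 D618) (tt N402 F2103) (tt N455 (iv F2427)) (tt N311 F2104) (tt N519 (iv F2757)))
theorem Q404 : ∀ i, i < 404 → P i := stepQ 403 Q403 (allL N403 (tt N524 (iv F2777)) (tt N309 F2105) (tt N321 F2106) (tt N525 D619) (tt N308 (iv D456)) (tt N526 D620) (tt N456 (iv F2431)) (tt N312 F2107) (tt N520 (iv F2761)))
theorem Q405 : ∀ i, i < 405 → P i := stepQ 404 Q404 (allL N404 (tt N513 (iv F2666)) (tt N525 (iv F2780)) (tt N404 F2108) (tt N309 (iv D457)) (tt N517 (iv F2741)) (tt N527 D621) (tt N457 (iv F2434)) (tt N528 D622) (tt N521 (iv F2765)))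
theorem Q406 : ∀ i, i < 406 → P i := stepQ 405 Q405 (allL N405 (tt N410 (iv F38092)) (tt N526 (iv F2781)) (tt N310 F2109) (tt N527 (iv F2786)) (tt N405 F2110) (tt N309 (iv D458)) (tt N529 D623) (tt N314 F2111) (tt N522 (iv F2770)))
theorem Q407 : ∀ i, i < 407 → P i := stepQ 406 Q406 (allL N406 (tt N362 (iv F38225)) (tt N324 F2112) (tt N529 (iv F2789)) (tt N406 F2113) (tt N406 F2114) (tt N459 (iv F2439)) (tt N310 (iv D459)) (tt N315 F2115) (tt N523 (iv F2776)))
theorem Q408 : ∀ i, i < 408 → P i := stepQ 407 Q407 (allL N407 (tt N312 F2116) (tt N514 (iv F2678)) (tt N325 F2117) (tt N530 D624) (tt N311 (iv D460)) (tt N531 D625) (tt N465 (iv F2464)) (tt N524 (iv F2779)) (tt N407 F2118))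
theorem Q409 : ∀ i, i < 409 → P i := stepQ 408 Q408 (allL N408 (tt N530 (iv F2792)) (tt N313 F2119) (tt N408 F2120) (tt N312 (iv D461)) (tt N408 F2121) (tt N395 (iv F38136)) (tt N466 (iv F2469)) (tt N532 D627) (tt N408 F2122))
theorem Q410 : ∀ i, i < 410 → P i := stepQ 409 Q409 (allL N409 (tt N531 (iv F2796)) (tt N314 F2123) (tt N326 F2124) (tt N395 (iv F38135)) (tt N409 F2125) (tt N312 (iv D462)) (tt N533 D628) (tt N526 (iv F2784)) (tt N409 F2126))
theorem Q411 : ∀ i, i < 411 → P i := stepQ 410 Q410 (allL N410 (tt N405 F38092) (tt N532 (iv F2804)) (tt N316 F2130) (tt N528 (iv F2788)) (tt N410 F2131) (tt N393 (iv F38134)) (tt N469 (iv F2479)) (tt N313 (iv D464)) (tt N518 (iv F38145)))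
theorem Q412 : ∀ i, i < 412 → P i := stepQ 411 Q411 (allL N411 (tt N358 (iv F38226)) (tt N533 (iv F2807)) (tt N315 F2132) (tt N335 (iv F38249)) (tt N411 F2133) (tt N470 (iv F2481)) (tt N314 (iv D465)) (tt N529 (iv F2791)) (tt N411 F2134))
theorem Q413 : ∀ i, i < 413 → P i := stepQ 412 Q412 (allL N412 (tt N317 (iv D470)) (tt N412 F2149) (tt N519 (iv F2753)) (tt N412 F2150) (tt N534 D637) (tt N412 F2151) (tt N489 (iv F2567)) (tt N412 F2152) (tt N320 F2153))
theorem Q414 : ∀ i, i < 414 → P i := stepQ 413 Q413 (allL N413 (tt N534 (iv F2837)) (tt N318 F2154) (tt N520 (iv F2759)) (tt N535 D638) (tt N317 (iv D471)) (tt N536 D639) (tt N490 (iv F2571)) (tt N413 F2155) (tt N321 F2156))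
theorem Q415 : ∀ i, i < 415 → P i := stepQ 414 Q414 (allL N414 (tt N414 F2157) (tt N535 (iv F2841)) (tt N414 F2158) (tt N318 (iv D472)) (tt N414 F2159) (tt N537 D640) (tt N491 (iv F2577)) (tt N538 D641) (tt N322 F2160))
theorem Q416 : ∀ i, i < 416 → P i := stepQ 415 Q415 (allL N415 (tt N415 F2161) (tt N536 (iv F2844)) (tt N319 F2162) (tt N537 (iv F2850)) (tt N415 F2163) (tt N318 (iv D473)) (tt N539 D642) (tt N415 F2164) (tt N323 F2165))
theorem Q417 : ∀ i, i < 417 → P i := stepQ 416 Q416 (allL N416 (tt N416 F2166) (tt N523 (iv F2772)) (tt N539 (iv F2858)) (tt N416 F2167) (tt N416 F2168) (tt N493 (iv F2585)) (tt N319 (iv D474)) (tt N416 F2169) (tt N324 F2170))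
theorem Q418 : ∀ i, i < 418 → P i := stepQ 417 Q417 (allL N417 (tt N321 F2171) (tt N417 F2172) (tt N524 (iv F2778)) (tt N540 D643) (tt N320 (iv D475)) (tt N541 D644) (tt N494 (iv F2590)) (tt N325 F2173) (tt N534 (iv F2840)))
theorem Q419 : ∀ i, i < 419 → P i := stepQ 418 Q418 (allL N418 (tt N540 (iv F2862)) (tt N322 F2174) (tt N542 D645) (tt N321 (iv D476)) (tt N418 F2175) (tt N543 D646) (tt N495 (iv F2594)) (tt N418 F2176) (tt N535 (iv F2843)))
theorem Q420 : ∀ i, i < 420 → P i := stepQ 419 Q419 (allL N419 (tt N541 (iv F2866)) (tt N323 F2177) (tt N526 (iv F2782)) (tt N543 (iv F2874)) (tt N419 F2178) (tt N321 (iv D477)) (tt N544 D647) (tt N326 F2179) (tt N536 (iv F2847)))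
theorem Q421 : ∀ i, i < 421 → P i := stepQ 420 Q420 (allL N420 (tt N420 F2180) (tt N543 (iv F2873)) (tt N420 F2181) (tt N323 F2182) (tt N545 D648) (tt N322 (iv D478)) (tt N546 D649) (tt N420 F2183) (tt N537 (iv F2851)))
theorem Q422 : ∀ i, i < 422 → P i := stepQ 421 Q421 (allL N421 (tt N421 F2184) (tt N544 (iv F2876)) (tt N324 F2185) (tt N546 (iv F2886)) (tt N421 F2186) (tt N498 (iv F2604)) (tt N323 (iv D479)) (tt N327 F2187) (tt N539 (iv F2861)))
theorem Q423 : ∀ i, i < 423 → P i := stepQ 422 Q422 (allL N422 (tt N326 F2188) (tt N422 F2189) (tt N531 (iv F2797)) (tt N422 F2190) (tt N422 F2191) (tt N325 (iv D480)) (tt N547 D650) (tt N541 (iv F2869)) (tt N422 F2192))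
theorem Q424 : ∀ i, i < 424 → P i := stepQ 423 Q423 (allL N423 (tt N547 (iv F2888)) (tt N327 F2193) (tt N533 (iv F2808)) (tt N423 F2194) (tt N423 F2195) (tt N506 (iv F2637)) (tt N326 (iv D481)) (tt N544 (iv F2878)) (tt N423 F2196))
theorem Q425 : ∀ i, i < 425 → P i := stepQ 424 Q424 (allL N424 (tt N344 F2255) (tt N424 F2256) (tt N548 D666) (tt N328 (iv D494)) (tt N549 D667) (tt N424 F2257) (tt N424 F2258) (tt N424 F2259) (tt N437 (iv F2348)))
theorem Q426 : ∀ i, i < 426 → P i := stepQ 425 Q425 (allL N425 (tt N346 F2260) (tt N550 D668) (tt N329 (iv D495)) (tt N447 (iv F2391)) (tt N551 D669) (tt N330 F2261) (tt N425 F2262) (tt N332 F2263) (tt N438 (iv F2353)))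
theorem Q427 : ∀ i, i < 427 → P i := stepQ 426 Q426 (allL N426 (tt N347 F2264) (tt N426 F2265) (tt N551 (iv F2977)) (tt N549 (iv F2969)) (tt N329 (iv D496)) (tt N552 D670) (tt N426 F2266) (tt N333 F2267) (tt N439 (iv F2357)))
theorem Q428 : ∀ i, i < 428 → P i := stepQ 427 Q427 (allL N427 (tt N553 D671) (tt N330 (iv D497)) (tt N427 F2268) (tt N452 (iv F2412)) (tt N554 D672) (tt N550 (iv F2973)) (tt N392 F2269) (tt N334 F2270) (tt N440 (iv F2362)))
theorem Q429 : ∀ i, i < 429 → P i := stepQ 428 Q428 (allL N428 (tt N351 F2271) (tt N554 (iv F2988)) (tt N331 F2272) (tt N555 D673) (tt N330 (iv D498)) (tt N556 D674) (tt N393 F2273) (tt N335 F2274) (tt N441 (iv F2366)))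
theorem Q430 : ∀ i, i < 430 → P i := stepQ 429 Q429 (allL N429 (tt N352 F2275) (tt N429 F2276) (tt N556 (iv F2996)) (tt N429 F2277) (tt N552 (iv F2982)) (tt N331 (iv D499)) (tt N472 F38325) (tt N336 F2278) (tt N442 (iv F2370)))
theorem Q431 : ∀ i, i < 431 → P i := stepQ 430 Q430 (allL N430 (tt N557 D676) (tt N332 (iv D500)) (tt N430 F2279) (tt N430 F2280) (tt N558 D677) (tt N334 F2281) (tt N430 F2282) (tt N550 (iv F2975)) (tt N430 F2283))
theorem Q432 : ∀ i, i < 432 → P i := stepQ 431 Q431 (allL N431 (tt N354 F2284) (tt N558 (iv F3009)) (tt N333 F2285) (tt N559 D678) (tt N332 (iv D501)) (tt N560 D679) (tt N431 F2286) (tt N551 (iv F2979)) (tt N431 F2287))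
theorem Q433 : ∀ i, i < 433 → P i := stepQ 432 Q432 (allL N432 (tt N355 F2288) (tt N432 F2289) (tt N560 (iv F3019)) (tt N432 F2290) (tt N336 F2291) (tt N333 (iv D502)) (tt N471 F38443) (tt N552 (iv F2983)) (tt N432 F2292))
theorem Q434 : ∀ i, i < 434 → P i := stepQ 433 Q433 (allL N433 (tt N334 (iv D503)) (tt N356 F2293) (tt N433 F2294) (tt N433 F2295) (tt N561 D681) (tt N557 (iv F3006)) (tt N394 F2296) (tt N553 (iv F2987)) (tt N433 F2297))
theorem Q435 : ∀ i, i < 435 → P i := stepQ 434 Q434 (allL N434 (tt N561 (iv F3028)) (tt N335 F2298) (tt N434 F2299) (tt N533 F38194) (tt N334 (iv D504)) (tt N562 D683) (tt N395 F2300) (tt N554 (iv F2991)) (tt N434 F2301))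
theorem Q436 : ∀ i, i < 436 → P i := stepQ 435 Q435 (allL N435 (tt N359 F2307) (tt N562 (iv F3037)) (tt N336 F2308) (tt N470 F38311) (tt N560 (iv F3020)) (tt N335 (iv D506)) (tt N468 F38312) (tt N556 (iv F2997)) (tt N435 F2309))
theorem Q437 : ∀ i, i < 437 → P i := stepQ 436 Q436 (allL N436 (tt N443 (iv F2371)) (tt N436 F2339) (tt N436 F2340) (tt N563 D695) (tt N436 F2341) (tt N436 F2342) (tt N436 F2343) (tt N337 (iv D513)) (tt N436 F2344))
theorem Q438 : ∀ i, i < 438 → P i := stepQ 437 Q437 (allL N437 (tt N444 (iv F2378)) (tt N437 F2345) (tt N564 D696) (tt N338 (iv D514)) (tt N565 D697) (tt N437 F2346) (tt N437 F2347) (tt N563 (iv F3092)) (tt N424 F2348))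
theorem Q439 : ∀ i, i < 439 → P i := stepQ 438 Q438 (allL N438 (tt N447 (iv F2390)) (tt N566 D698) (tt N339 (iv D515)) (tt N346 F2349) (tt N567 D699) (tt N340 F2350) (tt N438 F2351) (tt N438 F2352) (tt N425 F2353))
theorem Q440 : ∀ i, i < 440 → P i := stepQ 439 Q439 (allL N439 (tt N448 (iv F2396)) (tt N439 F2354) (tt N567 (iv F3108)) (tt N565 (iv F3099)) (tt N339 (iv D516)) (tt N568 D700) (tt N439 F2355) (tt N439 F2356) (tt N426 F2357))
theorem Q441 : ∀ i, i < 441 → P i := stepQ 440 Q440 (allL N440 (tt N569 D701) (tt N340 (iv D517)) (tt N440 F2358) (tt N350 F2359) (tt N570 D702) (tt N566 (iv F3104)) (tt N396 F2360) (tt N440 F2361) (tt N427 F2362))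
theorem Q442 : ∀ i, i < 442 → P i := stepQ 441 Q441 (allL N441 (tt N453 (iv F2416)) (tt N570 (iv F3121)) (tt N341 F2363) (tt N571 D703) (tt N340 (iv D518)) (tt N572 D704) (tt N397 F2364) (tt N441 F2365) (tt N428 F2366))
theorem Q443 : ∀ i, i < 443 → P i := stepQ 442 Q442 (allL N442 (tt N454 (iv F2421)) (tt N442 F2367) (tt N572 (iv F3130)) (tt N442 F2368) (tt N568 (iv F3113)) (tt N341 (iv D519)) (tt N573 D705) (tt N442 F2369) (tt N429 F2370))
theorem Q444 : ∀ i, i < 444 → P i := stepQ 443 Q443 (allL N443 (tt N436 F2371) (tt N364 F2372) (tt N443 F2373) (tt N574 D706) (tt N443 F2374) (tt N443 F2375) (tt N443 F2376) (tt N342 (iv D520)) (tt N443 F2377))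
theorem Q445 : ∀ i, i < 445 → P i := stepQ 444 Q444 (allL N444 (tt N437 F2378) (tt N365 F2379) (tt N575 D707) (tt N343 (iv D521)) (tt N576 D708) (tt N444 F2380) (tt N444 F2381) (tt N574 (iv F3142)) (tt N344 F2382))
theorem Q446 : ∀ i, i < 446 → P i := stepQ 445 Q445 (allL N445 (tt N548 (iv F2963)) (tt N577 D709) (tt N344 (iv D522)) (tt N564 (iv F3094)) (tt N578 D710) (tt N445 F2383) (tt N445 F2384) (tt N445 F2385) (tt N575 (iv F3148)))
theorem Q447 : ∀ i, i < 447 → P i := stepQ 446 Q446 (allL N446 (tt N549 (iv F2967)) (tt N367 F2386) (tt N578 (iv F3158)) (tt N347 F2387) (tt N344 (iv D523)) (tt N579 D711) (tt N446 F2388) (tt N446 F2389) (tt N576 (iv F3153)))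
theorem Q448 : ∀ i, i < 448 → P i := stepQ 447 Q447 (allL N447 (tt N438 F2390) (tt N580 D712) (tt N345 (iv D524)) (tt N425 F2391) (tt N581 D713) (tt N348 F2392) (tt N447 F2393) (tt N447 F2394) (tt N346 F2395))
theorem Q449 : ∀ i, i < 449 → P i := stepQ 448 Q448 (allL N448 (tt N439 F2396) (tt N369 F2397) (tt N581 (iv F3172)) (tt N576 (iv F3151)) (tt N345 (iv D525)) (tt N582 D714) (tt N448 F2398) (tt N448 F2399) (tt N347 F2400))
theorem Q450 : ∀ i, i < 450 → P i := stepQ 449 Q449 (allL N449 (tt N583 D715) (tt N346 (iv D526)) (tt N370 F2401) (tt N566 (iv F3103)) (tt N584 D716) (tt N350 F2402) (tt N449 F2403) (tt N353 F2404) (tt N580 (iv F3170)))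
theorem Q451 : ∀ i, i < 451 → P i := stepQ 450 Q450 (allL N450 (tt N551 (iv F2976)) (tt N584 (iv F3185)) (tt N347 F2405) (tt N585 D717) (tt N346 (iv D527)) (tt N586 D718) (tt N450 F2406) (tt N354 F2407) (tt N581 (iv F3175)))
theorem Q452 : ∀ i, i < 452 → P i := stepQ 451 Q451 (allL N451 (tt N552 (iv F2980)) (tt N372 F2408) (tt N586 (iv F3190)) (tt N579 (iv F3162)) (tt N352 F2409) (tt N347 (iv D528)) (tt N587 D719) (tt N355 F2410) (tt N582 (iv F3180)))
theorem Q453 : ∀ i, i < 453 → P i := stepQ 452 Q452 (allL N452 (tt N588 D720) (tt N348 (iv D529)) (tt N373 F2411) (tt N427 F2412) (tt N589 D721) (tt N580 (iv F3167)) (tt N399 F2413) (tt N452 F2414) (tt N350 F2415))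
theorem Q454 : ∀ i, i < 454 → P i := stepQ 453 Q453 (allL N453 (tt N441 F2416) (tt N589 (iv F3203)) (tt N349 F2417) (tt N590 D722) (tt N348 (iv D530)) (tt N591 D723) (tt N400 F2418) (tt N453 F2419) (tt N351 F2420))
theorem Q455 : ∀ i, i < 455 → P i := stepQ 454 Q454 (allL N454 (tt N442 F2421) (tt N375 F2422) (tt N591 (iv F3214)) (tt N454 F2423) (tt N582 (iv F3178)) (tt N349 (iv D531)) (tt N592 D724) (tt N454 F2424) (tt N352 F2425))
theorem Q456 : ∀ i, i < 456 → P i := stepQ 455 Q455 (allL N455 (tt N350 (iv D532)) (tt N553 (iv F2984)) (tt N376 F2426) (tt N569 (iv F3117)) (tt N593 D725) (tt N583 (iv F3182)) (tt N402 F2427) (tt N356 F2428) (tt N588 (iv F3202)))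
theorem Q457 : ∀ i, i < 457 → P i := stepQ 456 Q456 (allL N456 (tt N593 (iv F3223)) (tt N351 F2429) (tt N377 F2430) (tt N594 D726) (tt N350 (iv D533)) (tt N595 D727) (tt N403 F2431) (tt N357 F2432) (tt N589 (iv F3207)))
theorem Q458 : ∀ i, i < 458 → P i := stepQ 457 Q457 (allL N457 (tt N555 (iv F2992)) (tt N594 (iv F3227)) (tt N457 F2433) (tt N351 (iv D534)) (tt N571 (iv F3127)) (tt N596 D728) (tt N404 F2434) (tt N597 D729) (tt N590 (iv F3212)))
theorem Q459 : ∀ i, i < 459 → P i := stepQ 458 Q458 (allL N458 (tt N556 (iv F2995)) (tt N595 (iv F3229)) (tt N352 F2435) (tt N596 (iv F3233)) (tt N586 (iv F3191)) (tt N351 (iv D535)) (tt N598 D730) (tt N359 F2436) (tt N591 (iv F3216)))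
theorem Q460 : ∀ i, i < 460 → P i := stepQ 459 Q459 (allL N459 (tt N472 (iv F38283)) (tt N380 F2437) (tt N598 (iv F3237)) (tt N459 F2438) (tt N587 (iv F3194)) (tt N406 F2439) (tt N352 (iv D536)) (tt N360 F2440) (tt N592 (iv F3222)))
theorem Q461 : ∀ i, i < 461 → P i := stepQ 460 Q460 (allL N460 (tt N353 (iv D537)) (tt N557 (iv F3003)) (tt N381 F2441) (tt N460 F2442) (tt N599 D731) (tt N356 F2443) (tt N460 F2444) (tt N583 (iv F3184)) (tt N460 F2445))
theorem Q462 : ∀ i, i < 462 → P i := stepQ 461 Q461 (allL N461 (tt N599 (iv F3240)) (tt N354 F2446) (tt N382 F2447) (tt N600 D732) (tt N353 (iv D538)) (tt N601 D733) (tt N461 F2448) (tt N584 (iv F3188)) (tt N461 F2449))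
theorem Q463 : ∀ i, i < 463 → P i := stepQ 462 Q462 (allL N462 (tt N559 (iv F3013)) (tt N600 (iv F3244)) (tt N462 F2450) (tt N354 (iv D539)) (tt N462 F2451) (tt N602 D734) (tt N462 F2452) (tt N603 D735) (tt N462 F2453))
theorem Q464 : ∀ i, i < 464 → P i := stepQ 463 Q463 (allL N463 (tt N560 (iv F3018)) (tt N601 (iv F3248)) (tt N355 F2454) (tt N602 (iv F3253)) (tt N359 F2455) (tt N354 (iv D540)) (tt N604 D736) (tt N586 (iv F3192)) (tt N463 F2456))
theorem Q465 : ∀ i, i < 465 → P i := stepQ 464 Q464 (allL N464 (tt N471 (iv F38422)) (tt N385 F2457) (tt N604 (iv F3258)) (tt N464 F2458) (tt N360 F2459) (tt N464 F2460) (tt N355 (iv D541)) (tt N587 (iv F3196)) (tt N464 F2461))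
theorem Q466 : ∀ i, i < 466 → P i := stepQ 465 Q465 (allL N465 (tt N357 F2462) (tt N561 (iv F3029)) (tt N386 F2463) (tt N605 D737) (tt N356 (iv D542)) (tt N606 D738) (tt N407 F2464) (tt N593 (iv F3226)) (tt N465 F2465))
theorem Q467 : ∀ i, i < 467 → P i := stepQ 466 Q466 (allL N466 (tt N605 (iv F3262)) (tt N358 F2466) (tt N466 F2467) (tt N357 (iv D543)) (tt N466 F2468) (tt N607 D739) (tt N408 F2469) (tt N608 D740) (tt N466 F2470))
theorem Q468 : ∀ i, i < 468 → P i := stepQ 467 Q467 (allL N467 (tt N606 (iv F3267)) (tt N359 F2471) (tt N387 F2472) (tt N607 (iv F3272)) (tt N601 (iv F3250)) (tt N357 (iv D544)) (tt N609 D741) (tt N595 (iv F3231)) (tt N467 F2473))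
theorem Q469 : ∀ i, i < 469 → P i := stepQ 468 Q468 (allL N468 (tt N470 F38287) (tt N607 (iv F3270)) (tt N361 F2474) (tt N359 F2475) (tt N610 D742) (tt N358 (iv D545)) (tt N435 (iv F38312)) (tt N611 D744) (tt N468 F2476))
theorem Q470 : ∀ i, i < 470 → P i := stepQ 469 Q469 (allL N469 (tt N529 F38160) (tt N608 (iv F3274)) (tt N362 F2477) (tt N597 (iv F3235)) (tt N469 F2478) (tt N611 (iv F3290)) (tt N410 F2479) (tt N358 (iv D546)) (tt N612 D745))
theorem Q471 : ∀ i, i < 471 → P i := stepQ 470 Q470 (allL N470 (tt N468 (iv F38287)) (tt N609 (iv F3278)) (tt N360 F2480) (tt N435 (iv F38311)) (tt N604 (iv F3259)) (tt N411 F2481) (tt N359 (iv D547)) (tt N598 (iv F3239)) (tt N470 F2482))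
theorem Q472 : ∀ i, i < 472 → P i := stepQ 471 Q471 (allL N471 (tt N464 F38422) (tt N471 F2483) (tt N610 (iv F3282)) (tt N471 F2484) (tt N361 (iv D548)) (tt N471 F2485) (tt N432 (iv F38443)) (tt N613 D747) (tt N471 F2486))
theorem Q473 : ∀ i, i < 473 → P i := stepQ 472 Q472 (allL N472 (tt N459 F38283) (tt N472 F2491) (tt N611 (iv F3289)) (tt N472 F2492) (tt N613 (iv F3300)) (tt N362 F2493) (tt N429 (iv F38325)) (tt N361 (iv D550)) (tt N573 F38284))
theorem Q474 : ∀ i, i < 474 → P i := stepQ 473 Q473 (allL N473 (tt N523 (iv F38221)) (tt N473 F2494) (tt N612 (iv F3291)) (tt N473 F2495) (tt N473 F2496) (tt N573 (iv F38222)) (tt N398 (iv F38209)) (tt N473 F2498) (tt N362 (iv D551)))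
theorem Q475 : ∀ i, i < 475 → P i := stepQ 474 Q474 (allL N474 (tt N474 F2499) (tt N474 F2500) (tt N364 F2501) (tt N614 D750) (tt N474 F2502) (tt N474 F2503) (tt N474 F2504) (tt N363 (iv D552)) (tt N474 F2505))
theorem Q476 : ∀ i, i < 476 → P i := stepQ 475 Q475 (allL N475 (tt N475 F2506) (tt N574 (iv F3139)) (tt N615 D751) (tt N364 (iv D553)) (tt N616 D752) (tt N475 F2507) (tt N475 F2508) (tt N365 F2509) (tt N475 F2510))
theorem Q477 : ∀ i, i < 477 → P i := stepQ 476 Q476 (allL N476 (tt N476 F2511) (tt N617 D753) (tt N365 (iv D554)) (tt N476 F2512) (tt N618 D754) (tt N476 F2513) (tt N476 F2514) (tt N615 (iv F3319)) (tt N366 F2515))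
theorem Q478 : ∀ i, i < 478 → P i := stepQ 477 Q477 (allL N477 (tt N477 F2516) (tt N576 (iv F3150)) (tt N618 (iv F3331)) (tt N369 F2517) (tt N365 (iv D555)) (tt N619 D755) (tt N477 F2518) (tt N616 (iv F3324)) (tt N367 F2519))
theorem Q479 : ∀ i, i < 479 → P i := stepQ 478 Q478 (allL N478 (tt N620 D756) (tt N366 (iv D556)) (tt N577 (iv F3154)) (tt N478 F2520) (tt N621 D757) (tt N478 F2521) (tt N478 F2522) (tt N478 F2523) (tt N617 (iv F3329)))
theorem Q480 : ∀ i, i < 480 → P i := stepQ 479 Q479 (allL N479 (tt N479 F2524) (tt N621 (iv F3343)) (tt N367 F2525) (tt N622 D758) (tt N366 (iv D557)) (tt N623 D759) (tt N479 F2526) (tt N479 F2527) (tt N618 (iv F3333)))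
theorem Q481 : ∀ i, i < 481 → P i := stepQ 480 Q480 (allL N480 (tt N480 F2528) (tt N579 (iv F3161)) (tt N623 (iv F3351)) (tt N372 F2529) (tt N480 F2530) (tt N367 (iv D558)) (tt N624 D760) (tt N480 F2531) (tt N619 (iv F3337)))
theorem Q482 : ∀ i, i < 482 → P i := stepQ 481 Q481 (allL N481 (tt N625 D761) (tt N368 (iv D559)) (tt N580 (iv F3165)) (tt N481 F2532) (tt N626 D762) (tt N373 F2533) (tt N481 F2534) (tt N481 F2535) (tt N370 F2536))
theorem Q483 : ∀ i, i < 483 → P i := stepQ 482 Q482 (allL N482 (tt N482 F2537) (tt N626 (iv F3365)) (tt N369 F2538) (tt N627 D763) (tt N368 (iv D560)) (tt N628 D764) (tt N482 F2539) (tt N482 F2540) (tt N371 F2541))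
theorem Q484 : ∀ i, i < 484 → P i := stepQ 483 Q483 (allL N483 (tt N483 F2542) (tt N582 (iv F3177)) (tt N628 (iv F3374)) (tt N619 (iv F3335)) (tt N375 F2543) (tt N369 (iv D561)) (tt N629 D765) (tt N483 F2544) (tt N372 F2545))
theorem Q485 : ∀ i, i < 485 → P i := stepQ 484 Q484 (allL N484 (tt N370 (iv D562)) (tt N484 F2546) (tt N583 (iv F3181)) (tt N484 F2547) (tt N630 D766) (tt N376 F2548) (tt N484 F2549) (tt N381 F2550) (tt N625 (iv F3364)))
theorem Q486 : ∀ i, i < 486 → P i := stepQ 485 Q485 (allL N485 (tt N630 (iv F3383)) (tt N371 F2551) (tt N584 (iv F3186)) (tt N631 D767) (tt N370 (iv D563)) (tt N632 D768) (tt N485 F2552) (tt N382 F2553) (tt N626 (iv F3368)))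
theorem Q487 : ∀ i, i < 487 → P i := stepQ 486 Q486 (allL N486 (tt N486 F2554) (tt N631 (iv F3387)) (tt N622 (iv F3347)) (tt N371 (iv D564)) (tt N486 F2555) (tt N633 D769) (tt N486 F2556) (tt N634 D770) (tt N627 (iv F3372)))
theorem Q488 : ∀ i, i < 488 → P i := stepQ 487 Q487 (allL N487 (tt N487 F2557) (tt N632 (iv F3390)) (tt N372 F2558) (tt N633 (iv F3394)) (tt N379 F2559) (tt N371 (iv D565)) (tt N635 D771) (tt N384 F2560) (tt N628 (iv F3377)))
theorem Q489 : ∀ i, i < 489 → P i := stepQ 488 Q488 (allL N488 (tt N488 F2561) (tt N587 (iv F3193)) (tt N635 (iv F3400)) (tt N624 (iv F3355)) (tt N380 F2562) (tt N488 F2563) (tt N372 (iv D566)) (tt N385 F2564) (tt N629 (iv F3382)))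
theorem Q490 : ∀ i, i < 490 → P i := stepQ 489 Q489 (allL N489 (tt N373 (iv D567)) (tt N489 F2565) (tt N588 (iv F3198)) (tt N489 F2566) (tt N636 D772) (tt N625 (iv F3361)) (tt N412 F2567) (tt N489 F2568) (tt N376 F2569))
theorem Q491 : ∀ i, i < 491 → P i := stepQ 490 Q490 (allL N490 (tt N636 (iv F3404)) (tt N374 F2570) (tt N589 (iv F3204)) (tt N637 D773) (tt N373 (iv D568)) (tt N638 D774) (tt N413 F2571) (tt N490 F2572) (tt N377 F2573))
theorem Q492 : ∀ i, i < 492 → P i := stepQ 491 Q491 (allL N491 (tt N491 F2574) (tt N637 (iv F3409)) (tt N491 F2575) (tt N374 (iv D569)) (tt N491 F2576) (tt N639 D775) (tt N414 F2577) (tt N640 D776) (tt N378 F2578))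
theorem Q493 : ∀ i, i < 493 → P i := stepQ 492 Q492 (allL N492 (tt N492 F2579) (tt N638 (iv F3413)) (tt N375 F2580) (tt N639 (iv F3418)) (tt N628 (iv F3375)) (tt N374 (iv D570)) (tt N641 D777) (tt N492 F2581) (tt N379 F2582))
theorem Q494 : ∀ i, i < 494 → P i := stepQ 493 Q493 (allL N493 (tt N493 F2583) (tt N592 (iv F3218)) (tt N641 (iv F3427)) (tt N493 F2584) (tt N629 (iv F3379)) (tt N416 F2585) (tt N375 (iv D571)) (tt N493 F2586) (tt N380 F2587))
theorem Q495 : ∀ i, i < 495 → P i := stepQ 494 Q494 (allL N494 (tt N377 F2588) (tt N494 F2589) (tt N593 (iv F3224)) (tt N642 D778) (tt N376 (iv D572)) (tt N643 D779) (tt N417 F2590) (tt N386 F2591) (tt N636 (iv F3408)))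
theorem Q496 : ∀ i, i < 496 → P i := stepQ 495 Q495 (allL N495 (tt N642 (iv F3431)) (tt N378 F2592) (tt N644 D780) (tt N377 (iv D573)) (tt N495 F2593) (tt N645 D781) (tt N418 F2594) (tt N495 F2595) (tt N637 (iv F3412)))
theorem Q497 : ∀ i, i < 497 → P i := stepQ 496 Q496 (allL N496 (tt N643 (iv F3436)) (tt N379 F2596) (tt N595 (iv F3230)) (tt N645 (iv F3444)) (tt N632 (iv F3391)) (tt N377 (iv D574)) (tt N646 D782) (tt N387 F2597) (tt N638 (iv F3415)))
theorem Q498 : ∀ i, i < 498 → P i := stepQ 497 Q497 (allL N497 (tt N497 F2598) (tt N645 (iv F3443)) (tt N497 F2599) (tt N379 F2600) (tt N647 D783) (tt N378 (iv D575)) (tt N648 D784) (tt N497 F2601) (tt N639 (iv F3419)))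
theorem Q499 : ∀ i, i < 499 → P i := stepQ 498 Q498 (allL N498 (tt N498 F2602) (tt N646 (iv F3446)) (tt N380 F2603) (tt N648 (iv F3455)) (tt N635 (iv F3401)) (tt N421 F2604) (tt N379 (iv D576)) (tt N388 F2605) (tt N641 (iv F3430)))
theorem Q500 : ∀ i, i < 500 → P i := stepQ 499 Q499 (allL N499 (tt N382 F2606) (tt N499 F2607) (tt N599 (iv F3241)) (tt N649 D785) (tt N381 (iv D577)) (tt N650 D786) (tt N499 F2608) (tt N630 (iv F3386)) (tt N499 F2609))
theorem Q501 : ∀ i, i < 501 → P i := stepQ 500 Q500 (allL N500 (tt N649 (iv F3458)) (tt N383 F2610) (tt N651 D787) (tt N382 (iv D578)) (tt N390 F2611) (tt N652 D788) (tt N500 F2612) (tt N653 D789) (tt N500 F2613))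
theorem Q502 : ∀ i, i < 502 → P i := stepQ 501 Q501 (allL N501 (tt N650 (iv F3463)) (tt N384 F2614) (tt N601 (iv F3249)) (tt N652 (iv F3472)) (tt N387 F2615) (tt N382 (iv D579)) (tt N654 D790) (tt N632 (iv F3392)) (tt N501 F2616))
theorem Q503 : ∀ i, i < 503 → P i := stepQ 502 Q502 (allL N502 (tt N502 F2617) (tt N652 (iv F3471)) (tt N502 F2618) (tt N384 F2619) (tt N502 F2620) (tt N383 (iv D580)) (tt N655 D791) (tt N656 D792) (tt N502 F2621))
theorem Q504 : ∀ i, i < 504 → P i := stepQ 503 Q503 (allL N503 (tt N503 F2622) (tt N653 (iv F3475)) (tt N503 F2623) (tt N634 (iv F3396)) (tt N391 F2624) (tt N656 (iv F3491)) (tt N503 F2625) (tt N383 (iv D581)) (tt N657 D793))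
theorem Q505 : ∀ i, i < 505 → P i := stepQ 504 Q504 (allL N504 (tt N504 F2626) (tt N654 (iv F3478)) (tt N385 F2627) (tt N655 (iv F3484)) (tt N388 F2628) (tt N504 F2629) (tt N384 (iv D582)) (tt N635 (iv F3403)) (tt N504 F2630))
theorem Q506 : ∀ i, i < 506 → P i := stepQ 505 Q505 (allL N505 (tt N387 F2631) (tt N505 F2632) (tt N606 (iv F3268)) (tt N505 F2633) (tt N650 (iv F3465)) (tt N386 (iv D583)) (tt N658 D794) (tt N643 (iv F3438)) (tt N505 F2634))
theorem Q507 : ∀ i, i < 507 → P i := stepQ 506 Q506 (allL N506 (tt N658 (iv F3497)) (tt N388 F2635) (tt N609 (iv F3279)) (tt N506 F2636) (tt N654 (iv F3479)) (tt N423 F2637) (tt N387 (iv D584)) (tt N646 (iv F3448)) (tt N506 F2638))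
theorem Q508 : ∀ i, i < 508 → P i := stepQ 507 Q507 (allL N507 (tt N390 F2639) (tt N507 F2640) (tt N659 D795) (tt N389 (iv D585)) (tt N649 (iv F3460)) (tt N507 F2641) (tt N507 F2642) (tt N660 D796) (tt N507 F2643))
theorem Q509 : ∀ i, i < 509 → P i := stepQ 508 Q508 (allL N508 (tt N659 (iv F3502)) (tt N508 F2644) (tt N390 (iv D586)) (tt N508 F2645) (tt N651 (iv F3468)) (tt N508 F2646) (tt N508 F2647) (tt N661 D797) (tt N508 F2648))
theorem Q510 : ∀ i, i < 510 → P i := stepQ 509 Q509 (allL N509 (tt N660 (iv F3507)) (tt N391 F2649) (tt N661 (iv F3513)) (tt N509 F2650) (tt N653 (iv F3476)) (tt N509 F2651) (tt N509 F2652) (tt N390 (iv D587)) (tt N662 D798))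
theorem Q511 : ∀ i, i < 511 → P i := stepQ 510 Q510 (allL N510 (tt N510 F2653) (tt N662 (iv F3516)) (tt N510 F2654) (tt N510 F2655) (tt N657 (iv F3494)) (tt N510 F2656) (tt N510 F2657) (tt N510 F2658) (tt N391 (iv D588)))
theorem Q512 : ∀ i, i < 512 → P i := stepQ 511 Q511 (allL N511 (tt N392 (iv D589)) (tt N402 F2659) (tt N511 F2660) (tt N519 (iv F2754)) (tt N663 D799) (tt N511 F2661) (tt N553 (iv F2986)) (tt N394 F2662) (tt N515 (iv F2735)))
theorem Q513 : ∀ i, i < 513 → P i := stepQ 512 Q512 (allL N512 (tt N663 (iv F3521)) (tt N393 F2663) (tt N512 F2664) (tt N664 D800) (tt N392 (iv D590)) (tt N532 F38063) (tt N554 (iv F2990)) (tt N395 F2665) (tt N516 (iv F2739)))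
theorem Q514 : ∀ i, i < 514 → P i := stepQ 513 Q513 (allL N513 (tt N404 F2666) (tt N664 (iv F3525)) (tt N513 F2667) (tt N393 (iv D591)) (tt N521 (iv F2764)) (tt N528 F38061) (tt N555 (iv F2994)) (tt N527 F38062) (tt N517 (iv F2742)))
theorem Q515 : ∀ i, i < 515 → P i := stepQ 514 Q514 (allL N514 (tt N395 F2677) (tt N407 F2678) (tt N514 F2679) (tt N531 F38097) (tt N394 (iv D594)) (tt N530 F38098) (tt N561 (iv F3031)) (tt N663 (iv F3524)) (tt N514 F2680))
theorem Q516 : ∀ i, i < 516 → P i := stepQ 515 Q515 (allL N515 (tt N396 (iv D608)) (tt N519 (iv F2752)) (tt N515 F2731) (tt N402 F2732) (tt N665 D825) (tt N515 F2733) (tt N569 (iv F3118)) (tt N515 F2734) (tt N511 F2735))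
theorem Q517 : ∀ i, i < 517 → P i := stepQ 516 Q516 (allL N516 (tt N665 (iv F3617)) (tt N397 F2736) (tt N516 F2737) (tt N666 D826) (tt N396 (iv D609)) (tt N667 D827) (tt N570 (iv F3123)) (tt N516 F2738) (tt N512 F2739))
theorem Q518 : ∀ i, i < 518 → P i := stepQ 517 Q517 (allL N517 (tt N521 (iv F2762)) (tt N666 (iv F3621)) (tt N517 F2740) (tt N397 (iv D610)) (tt N404 F2741) (tt N668 D828) (tt N571 (iv F3128)) (tt N669 D829) (tt N513 F2742))
theorem Q519 : ∀ i, i < 519 → P i := stepQ 518 Q518 (allL N518 (tt N522 (iv F2766)) (tt N667 (iv F3624)) (tt N398 F2743) (tt N668 (iv F3630)) (tt N518 F2744) (tt N397 (iv D611)) (tt N612 F38144) (tt N518 F2745) (tt N410 F38145))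
theorem Q520 : ∀ i, i < 520 → P i := stepQ 519 Q519 (allL N519 (tt N399 (iv D613)) (tt N515 F2752) (tt N412 F2753) (tt N511 F2754) (tt N670 D831) (tt N519 F2755) (tt N588 (iv F3200)) (tt N519 F2756) (tt N402 F2757))
theorem Q521 : ∀ i, i < 521 → P i := stepQ 520 Q520 (allL N520 (tt N670 (iv F3639)) (tt N400 F2758) (tt N413 F2759) (tt N671 D832) (tt N399 (iv D614)) (tt N672 D833) (tt N589 (iv F3205)) (tt N520 F2760) (tt N403 F2761))
theorem Q522 : ∀ i, i < 522 → P i := stepQ 521 Q521 (allL N521 (tt N517 F2762) (tt N671 (iv F3644)) (tt N521 F2763) (tt N400 (iv D615)) (tt N513 F2764) (tt N673 D834) (tt N590 (iv F3211)) (tt N674 D835) (tt N404 F2765))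
theorem Q523 : ∀ i, i < 523 → P i := stepQ 522 Q522 (allL N522 (tt N518 F2766) (tt N672 (iv F3647)) (tt N401 F2767) (tt N673 (iv F3654)) (tt N522 F2768) (tt N400 (iv D616)) (tt N675 D836) (tt N522 F2769) (tt N405 F2770))
theorem Q524 : ∀ i, i < 524 → P i := stepQ 523 Q523 (allL N523 (tt N473 F38221) (tt N416 F2772) (tt N675 (iv F3661)) (tt N523 F2773) (tt N523 F2774) (tt N592 (iv F3220)) (tt N401 (iv D617)) (tt N523 F2775) (tt N406 F2776))
theorem Q525 : ∀ i, i < 525 → P i := stepQ 524 Q524 (allL N524 (tt N403 F2777) (tt N663 (iv F3522)) (tt N417 F2778) (tt N676 D837) (tt N402 (iv D618)) (tt N677 D838) (tt N593 (iv F3225)) (tt N407 F2779) (tt N670 (iv F3643)))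
theorem Q526 : ∀ i, i < 526 → P i := stepQ 525 Q525 (allL N525 (tt N676 (iv F3665)) (tt N404 F2780) (tt N678 D839) (tt N403 (iv D619)) (tt N666 (iv F3622)) (tt N679 D840) (tt N594 (iv F3228)) (tt N680 D841) (tt N671 (iv F3646)))
theorem Q527 : ∀ i, i < 527 → P i := stepQ 526 Q526 (allL N526 (tt N677 (iv F3666)) (tt N405 F2781) (tt N419 F2782) (tt N679 (iv F3673)) (tt N526 F2783) (tt N403 (iv D620)) (tt N681 D842) (tt N409 F2784) (tt N672 (iv F3651)))
theorem Q528 : ∀ i, i < 528 → P i := stepQ 527 Q527 (allL N527 (tt N528 (iv F37995)) (tt N679 (iv F3672)) (tt N527 F2785) (tt N405 F2786) (tt N674 F37985) (tt N404 (iv D621)) (tt N682 D844) (tt N513 (iv F38062)) (tt N673 (iv F3655)))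
theorem Q529 : ∀ i, i < 529 → P i := stepQ 528 Q528 (allL N528 (tt N527 F37995) (tt N680 (iv F3674)) (tt N528 F2787) (tt N410 F2788) (tt N669 (iv F3634)) (tt N513 (iv F38061)) (tt N597 (iv F3236)) (tt N404 (iv D622)) (tt N668 (iv F38075)))
theorem Q530 : ∀ i, i < 530 → P i := stepQ 529 Q529 (allL N529 (tt N469 (iv F38160)) (tt N681 (iv F3676)) (tt N406 F2789) (tt N682 (iv F3683)) (tt N529 F2790) (tt N598 (iv F3238)) (tt N405 (iv D623)) (tt N411 F2791) (tt N675 (iv F3664)))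
theorem Q531 : ∀ i, i < 531 → P i := stepQ 530 Q530 (allL N530 (tt N408 F2792) (tt N531 F38026) (tt N530 F2793) (tt N407 (iv D624)) (tt N530 F2794) (tt N514 (iv F38098)) (tt N605 (iv F3265)) (tt N683 D848) (tt N530 F2795))
theorem Q532 : ∀ i, i < 532 → P i := stepQ 531 Q531 (allL N531 (tt N409 F2796) (tt N530 (iv F38026)) (tt N422 F2797) (tt N514 (iv F38097)) (tt N531 F2798) (tt N407 (iv D625)) (tt N684 D849) (tt N677 (iv F3669)) (tt N531 F2799))
theorem Q533 : ∀ i, i < 533 → P i := stepQ 532 Q532 (allL N532 (tt N683 (iv F3693)) (tt N410 F2804) (tt N532 F2805) (tt N680 (iv F3675)) (tt N532 F2806) (tt N512 (iv F38063)) (tt N608 (iv F3277)) (tt N408 (iv D627)) (tt N667 (iv F38077)))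
theorem Q534 : ∀ i, i < 534 → P i := stepQ 533 Q533 (allL N533 (tt N684 (iv F3696)) (tt N411 F2807) (tt N423 F2808) (tt N434 (iv F38194)) (tt N533 F2809) (tt N609 (iv F3280)) (tt N409 (iv D628)) (tt N681 (iv F3679)) (tt N533 F2810))
theorem Q535 : ∀ i, i < 535 → P i := stepQ 534 Q534 (allL N534 (tt N413 F2837) (tt N534 F2838) (tt N670 (iv F3641)) (tt N685 D863) (tt N412 (iv D637)) (tt N686 D864) (tt N636 (iv F3406)) (tt N534 F2839) (tt N417 F2840))
theorem Q536 : ∀ i, i < 536 → P i := stepQ 535 Q535 (allL N535 (tt N685 (iv F3747)) (tt N414 F2841) (tt N687 D865) (tt N413 (iv D638)) (tt N535 F2842) (tt N688 D866) (tt N637 (iv F3411)) (tt N689 D867) (tt N418 F2843))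
theorem Q537 : ∀ i, i < 537 → P i := stepQ 536 Q536 (allL N536 (tt N686 (iv F3751)) (tt N415 F2844) (tt N672 (iv F3648)) (tt N688 (iv F3760)) (tt N536 F2845) (tt N413 (iv D639)) (tt N690 D868) (tt N536 F2846) (tt N419 F2847))
theorem Q538 : ∀ i, i < 538 → P i := stepQ 537 Q537 (allL N537 (tt N537 F2848) (tt N688 (iv F3759)) (tt N537 F2849) (tt N415 F2850) (tt N691 D869) (tt N414 (iv D640)) (tt N692 D870) (tt N693 D871) (tt N420 F2851))
theorem Q539 : ∀ i, i < 539 → P i := stepQ 538 Q538 (allL N538 (tt N538 F2852) (tt N689 (iv F3762)) (tt N538 F2853) (tt N538 F2854) (tt N538 F2855) (tt N693 (iv F3782)) (tt N640 (iv F3424)) (tt N414 (iv D641)) (tt N538 F2856))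
theorem Q540 : ∀ i, i < 540 → P i := stepQ 539 Q539 (allL N539 (tt N539 F2857) (tt N690 (iv F3766)) (tt N416 F2858) (tt N692 (iv F3777)) (tt N539 F2859) (tt N641 (iv F3428)) (tt N415 (iv D642)) (tt N539 F2860) (tt N421 F2861))
theorem Q541 : ∀ i, i < 541 → P i := stepQ 540 Q540 (allL N540 (tt N418 F2862) (tt N540 F2863) (tt N694 D872) (tt N417 (iv D643)) (tt N540 F2864) (tt N695 D873) (tt N642 (iv F3434)) (tt N540 F2865) (tt N685 (iv F3750)))
theorem Q542 : ∀ i, i < 542 → P i := stepQ 541 Q541 (allL N541 (tt N419 F2866) (tt N541 F2867) (tt N677 (iv F3667)) (tt N695 (iv F3789)) (tt N541 F2868) (tt N417 (iv D644)) (tt N696 D874) (tt N422 F2869) (tt N686 (iv F3755)))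
theorem Q543 : ∀ i, i < 543 → P i := stepQ 542 Q542 (allL N542 (tt N694 (iv F3784)) (tt N542 F2870) (tt N418 (iv D645)) (tt N678 (iv F3671)) (tt N542 F2871) (tt N697 D875) (tt N644 (iv F3441)) (tt N542 F2872) (tt N687 (iv F3758)))
theorem Q544 : ∀ i, i < 544 → P i := stepQ 543 Q543 (allL N543 (tt N695 (iv F3787)) (tt N420 F2873) (tt N697 (iv F3796)) (tt N419 F2874) (tt N698 D876) (tt N418 (iv D646)) (tt N699 D877) (tt N543 F2875) (tt N688 (iv F3761)))
theorem Q545 : ∀ i, i < 545 → P i := stepQ 544 Q544 (allL N544 (tt N696 (iv F3791)) (tt N421 F2876) (tt N681 (iv F3677)) (tt N699 (iv F3803)) (tt N544 F2877) (tt N646 (iv F3447)) (tt N419 (iv D647)) (tt N423 F2878) (tt N690 (iv F3769)))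
theorem Q546 : ∀ i, i < 546 → P i := stepQ 545 Q545 (allL N545 (tt N545 F2879) (tt N698 (iv F3798)) (tt N545 F2880) (tt N545 F2881) (tt N420 (iv D648)) (tt N545 F2882) (tt N700 D878) (tt N545 F2883) (tt N691 (iv F3774)))
theorem Q547 : ∀ i, i < 547 → P i := stepQ 546 Q546 (allL N546 (tt N546 F2884) (tt N699 (iv F3802)) (tt N546 F2885) (tt N421 F2886) (tt N700 (iv F3808)) (tt N648 (iv F3456)) (tt N420 (iv D649)) (tt N546 F2887) (tt N692 (iv F3778)))
theorem Q548 : ∀ i, i < 548 → P i := stepQ 547 Q547 (allL N547 (tt N423 F2888) (tt N547 F2889) (tt N684 (iv F3697)) (tt N547 F2890) (tt N547 F2891) (tt N658 (iv F3500)) (tt N422 (iv D650)) (tt N696 (iv F3794)) (tt N547 F2892))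
theorem Q549 : ∀ i, i < 549 → P i := stepQ 548 Q548 (allL N548 (tt N445 F2963) (tt N701 D898) (tt N424 (iv D666)) (tt N575 (iv F3145)) (tt N702 D899) (tt N548 F2964) (tt N548 F2965) (tt N548 F2966) (tt N564 (iv F3097)))
theorem Q550 : ∀ i, i < 550 → P i := stepQ 549 Q549 (allL N549 (tt N446 F2967) (tt N549 F2968) (tt N702 (iv F3902)) (tt N426 F2969) (tt N424 (iv D667)) (tt N703 D900) (tt N549 F2970) (tt N549 F2971) (tt N565 (iv F3101)))
theorem Q551 : ∀ i, i < 551 → P i := stepQ 550 Q550 (allL N550 (tt N704 D901) (tt N425 (iv D668)) (tt N550 F2972) (tt N580 (iv F3166)) (tt N705 D902) (tt N427 F2973) (tt N550 F2974) (tt N430 F2975) (tt N566 (iv F3107)))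
theorem Q552 : ∀ i, i < 552 → P i := stepQ 551 Q551 (allL N551 (tt N450 F2976) (tt N705 (iv F3915)) (tt N426 F2977) (tt N706 D903) (tt N425 (iv D669)) (tt N707 D904) (tt N551 F2978) (tt N431 F2979) (tt N567 (iv F3111)))
theorem Q553 : ∀ i, i < 553 → P i := stepQ 552 Q552 (allL N552 (tt N451 F2980) (tt N552 F2981) (tt N707 (iv F3922)) (tt N703 (iv F3907)) (tt N429 F2982) (tt N426 (iv D670)) (tt N613 F38389) (tt N432 F2983) (tt N568 (iv F3115)))
theorem Q554 : ∀ i, i < 554 → P i := stepQ 553 Q553 (allL N553 (tt N427 (iv D671)) (tt N455 F2984) (tt N553 F2985) (tt N588 (iv F3199)) (tt N708 D906) (tt N704 (iv F3912)) (tt N511 F2986) (tt N433 F2987) (tt N569 (iv F3120)))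
theorem Q555 : ∀ i, i < 555 → P i := stepQ 554 Q554 (allL N554 (tt N708 (iv F3930)) (tt N428 F2988) (tt N554 F2989) (tt N709 D907) (tt N427 (iv D672)) (tt N710 D908) (tt N512 F2990) (tt N434 F2991) (tt N570 (iv F3125)))
theorem Q556 : ∀ i, i < 556 → P i := stepQ 555 Q555 (allL N555 (tt N457 F2992) (tt N709 (iv F3935)) (tt N555 F2993) (tt N428 (iv D673)) (tt N590 (iv F3210)) (tt N711 D909) (tt N513 F2994) (tt N682 F38131) (tt N571 (iv F3129)))
theorem Q557 : ∀ i, i < 557 → P i := stepQ 556 Q556 (allL N556 (tt N458 F2995) (tt N710 (iv F3937)) (tt N429 F2996) (tt N711 (iv F3942)) (tt N707 (iv F3923)) (tt N428 (iv D674)) (tt N611 F38259) (tt N435 F2997) (tt N572 (iv F3132)))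
theorem Q558 : ∀ i, i < 558 → P i := stepQ 557 Q557 (allL N557 (tt N430 (iv D676)) (tt N460 F3003) (tt N557 F3004) (tt N557 F3005) (tt N712 D912) (tt N433 F3006) (tt N557 F3007) (tt N704 (iv F3914)) (tt N557 F3008))
theorem Q559 : ∀ i, i < 559 → P i := stepQ 558 Q558 (allL N558 (tt N712 (iv F3951)) (tt N431 F3009) (tt N558 F3010) (tt N713 D913) (tt N430 (iv D677)) (tt N714 D914) (tt N558 F3011) (tt N705 (iv F3918)) (tt N558 F3012))
theorem Q560 : ∀ i, i < 560 → P i := stepQ 559 Q559 (allL N559 (tt N462 F3013) (tt N713 (iv F3956)) (tt N559 F3014) (tt N431 (iv D678)) (tt N559 F3015) (tt N715 D915) (tt N559 F3016) (tt N716 D916) (tt N559 F3017))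
theorem Q561 : ∀ i, i < 561 → P i := stepQ 560 Q560 (allL N560 (tt N463 F3018) (tt N714 (iv F3960)) (tt N432 F3019) (tt N715 (iv F3966)) (tt N435 F3020) (tt N431 (iv D679)) (tt N610 F38374) (tt N707 (iv F3924)) (tt N560 F3021))
theorem Q562 : ∀ i, i < 562 → P i := stepQ 561 Q561 (allL N561 (tt N434 F3028) (tt N465 F3029) (tt N561 F3030) (tt N684 F38165) (tt N433 (iv D681)) (tt N717 D919) (tt N514 F3031) (tt N708 (iv F3934)) (tt N561 F3032))
theorem Q563 : ∀ i, i < 563 → P i := stepQ 562 Q562 (allL N562 (tt N717 (iv F3982)) (tt N435 F3037) (tt N562 F3038) (tt N609 F38251) (tt N714 (iv F3962)) (tt N434 (iv D683)) (tt N607 F38252) (tt N710 (iv F3939)) (tt N562 F3039))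
theorem Q564 : ∀ i, i < 564 → P i := stepQ 563 Q563 (allL N563 (tt N574 (iv F3138)) (tt N563 F3089) (tt N718 D938) (tt N436 (iv D695)) (tt N719 D939) (tt N563 F3090) (tt N563 F3091) (tt N437 F3092) (tt N563 F3093))
theorem Q565 : ∀ i, i < 565 → P i := stepQ 564 Q564 (allL N564 (tt N575 (iv F3144)) (tt N720 D940) (tt N437 (iv D696)) (tt N445 F3094) (tt N721 D941) (tt N564 F3095) (tt N564 F3096) (tt N718 (iv F4064)) (tt N548 F3097))
theorem Q566 : ∀ i, i < 566 → P i := stepQ 565 Q565 (allL N565 (tt N576 (iv F3149)) (tt N565 F3098) (tt N721 (iv F4076)) (tt N439 F3099) (tt N437 (iv D697)) (tt N722 D942) (tt N565 F3100) (tt N719 (iv F4069)) (tt N549 F3101))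
theorem Q567 : ∀ i, i < 567 → P i := stepQ 566 Q566 (allL N566 (tt N723 D943) (tt N438 (iv D698)) (tt N566 F3102) (tt N449 F3103) (tt N724 D944) (tt N440 F3104) (tt N566 F3105) (tt N566 F3106) (tt N550 F3107))
theorem Q568 : ∀ i, i < 568 → P i := stepQ 567 Q567 (allL N567 (tt N581 (iv F3171)) (tt N724 (iv F4089)) (tt N439 F3108) (tt N725 D945) (tt N438 (iv D699)) (tt N726 D946) (tt N567 F3109) (tt N567 F3110) (tt N551 F3111))
theorem Q569 : ∀ i, i < 569 → P i := stepQ 568 Q568 (allL N568 (tt N582 (iv F3176)) (tt N568 F3112) (tt N726 (iv F4097)) (tt N722 (iv F4080)) (tt N442 F3113) (tt N439 (iv D700)) (tt N727 D947) (tt N568 F3114) (tt N552 F3115))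
theorem Q570 : ∀ i, i < 570 → P i := stepQ 569 Q569 (allL N569 (tt N440 (iv D701)) (tt N588 (iv F3197)) (tt N569 F3116) (tt N455 F3117) (tt N728 D948) (tt N723 (iv F4085)) (tt N515 F3118) (tt N569 F3119) (tt N553 F3120))
theorem Q571 : ∀ i, i < 571 → P i := stepQ 570 Q570 (allL N570 (tt N728 (iv F4106)) (tt N441 F3121) (tt N570 F3122) (tt N729 D949) (tt N440 (iv D702)) (tt N730 D950) (tt N516 F3123) (tt N570 F3124) (tt N554 F3125))
theorem Q572 : ∀ i, i < 572 → P i := stepQ 571 Q571 (allL N571 (tt N590 (iv F3208)) (tt N729 (iv F4111)) (tt N571 F3126) (tt N441 (iv D703)) (tt N457 F3127) (tt N731 D951) (tt N517 F3128) (tt N732 D952) (tt N555 F3129))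
theorem Q573 : ∀ i, i < 573 → P i := stepQ 572 Q572 (allL N572 (tt N591 (iv F3213)) (tt N730 (iv F4115)) (tt N442 F3130) (tt N731 (iv F4120)) (tt N726 (iv F4098)) (tt N441 (iv D704)) (tt N733 D953) (tt N572 F3131) (tt N556 F3132))
theorem Q574 : ∀ i, i < 574 → P i := stepQ 573 Q573 (allL N573 (tt N592 (iv F3217)) (tt N573 F3133) (tt N733 (iv F4126)) (tt N573 F3134) (tt N727 (iv F4102)) (tt N473 F38222) (tt N442 (iv D705)) (tt N573 F3136) (tt N472 (iv F38284)))
theorem Q575 : ∀ i, i < 575 → P i := stepQ 574 Q574 (allL N574 (tt N563 F3138) (tt N475 F3139) (tt N734 D954) (tt N443 (iv D706)) (tt N735 D955) (tt N574 F3140) (tt N574 F3141) (tt N444 F3142) (tt N574 F3143))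
theorem Q576 : ∀ i, i < 576 → P i := stepQ 575 Q575 (allL N575 (tt N564 F3144) (tt N736 D956) (tt N444 (iv D707)) (tt N548 F3145) (tt N737 D957) (tt N575 F3146) (tt N575 F3147) (tt N734 (iv F4134)) (tt N445 F3148))
theorem Q577 : ∀ i, i < 577 → P i := stepQ 576 Q576 (allL N576 (tt N565 F3149) (tt N477 F3150) (tt N737 (iv F4148)) (tt N448 F3151) (tt N444 (iv D708)) (tt N738 D958) (tt N576 F3152) (tt N735 (iv F4140)) (tt N446 F3153))
theorem Q578 : ∀ i, i < 578 → P i := stepQ 577 Q577 (allL N577 (tt N739 D959) (tt N445 (iv D709)) (tt N478 F3154) (tt N720 (iv F4072)) (tt N740 D960) (tt N577 F3155) (tt N577 F3156) (tt N577 F3157) (tt N736 (iv F4146)))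
theorem Q579 : ∀ i, i < 579 → P i := stepQ 578 Q578 (allL N578 (tt N702 (iv F3901)) (tt N740 (iv F4160)) (tt N446 F3158) (tt N741 D961) (tt N445 (iv D710)) (tt N742 D962) (tt N578 F3159) (tt N578 F3160) (tt N737 (iv F4150)))
theorem Q580 : ∀ i, i < 580 → P i := stepQ 579 Q579 (allL N579 (tt N703 (iv F3905)) (tt N480 F3161) (tt N742 (iv F4166)) (tt N451 F3162) (tt N579 F3163) (tt N446 (iv D711)) (tt N743 D963) (tt N579 F3164) (tt N738 (iv F4155)))
theorem Q581 : ∀ i, i < 581 → P i := stepQ 580 Q580 (allL N580 (tt N744 D964) (tt N447 (iv D712)) (tt N481 F3165) (tt N550 F3166) (tt N745 D965) (tt N452 F3167) (tt N580 F3168) (tt N580 F3169) (tt N449 F3170))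
theorem Q582 : ∀ i, i < 582 → P i := stepQ 581 Q581 (allL N581 (tt N567 F3171) (tt N745 (iv F4181)) (tt N448 F3172) (tt N746 D966) (tt N447 (iv D713)) (tt N747 D967) (tt N581 F3173) (tt N581 F3174) (tt N450 F3175))
theorem Q583 : ∀ i, i < 583 → P i := stepQ 582 Q582 (allL N582 (tt N568 F3176) (tt N483 F3177) (tt N747 (iv F4191)) (tt N738 (iv F4153)) (tt N454 F3178) (tt N448 (iv D714)) (tt N748 D968) (tt N582 F3179) (tt N451 F3180))
theorem Q584 : ∀ i, i < 584 → P i := stepQ 583 Q583 (allL N583 (tt N449 (iv D715)) (tt N704 (iv F3910)) (tt N484 F3181) (tt N723 (iv F4084)) (tt N749 D969) (tt N455 F3182) (tt N583 F3183) (tt N460 F3184) (tt N744 (iv F4180)))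
theorem Q585 : ∀ i, i < 585 → P i := stepQ 584 Q584 (allL N584 (tt N749 (iv F4201)) (tt N450 F3185) (tt N485 F3186) (tt N750 D970) (tt N449 (iv D716)) (tt N751 D971) (tt N584 F3187) (tt N461 F3188) (tt N745 (iv F4185)))
theorem Q586 : ∀ i, i < 586 → P i := stepQ 585 Q585 (allL N585 (tt N706 (iv F3919)) (tt N750 (iv F4205)) (tt N741 (iv F4164)) (tt N450 (iv D717)) (tt N725 (iv F4094)) (tt N752 D972) (tt N585 F3189) (tt N753 D973) (tt N746 (iv F4189)))
theorem Q587 : ∀ i, i < 587 → P i := stepQ 586 Q586 (allL N586 (tt N707 (iv F3921)) (tt N751 (iv F4207)) (tt N451 F3190) (tt N752 (iv F4211)) (tt N458 F3191) (tt N450 (iv D718)) (tt N754 D974) (tt N463 F3192) (tt N747 (iv F4194)))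
theorem Q588 : ∀ i, i < 588 → P i := stepQ 587 Q587 (allL N587 (tt N613 (iv F38351)) (tt N488 F3193) (tt N754 (iv F4214)) (tt N743 (iv F4170)) (tt N459 F3194) (tt N587 F3195) (tt N451 (iv D719)) (tt N464 F3196) (tt N748 (iv F4200)))
theorem Q589 : ∀ i, i < 589 → P i := stepQ 588 Q588 (allL N588 (tt N452 (iv D720)) (tt N569 F3197) (tt N489 F3198) (tt N553 F3199) (tt N755 D975) (tt N744 (iv F4177)) (tt N519 F3200) (tt N588 F3201) (tt N455 F3202))
theorem Q590 : ∀ i, i < 590 → P i := stepQ 589 Q589 (allL N589 (tt N755 (iv F4218)) (tt N453 F3203) (tt N490 F3204) (tt N756 D976) (tt N452 (iv D721)) (tt N757 D977) (tt N520 F3205) (tt N589 F3206) (tt N456 F3207))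
theorem Q591 : ∀ i, i < 591 → P i := stepQ 590 Q590 (allL N590 (tt N571 F3208) (tt N756 (iv F4224)) (tt N590 F3209) (tt N453 (iv D722)) (tt N555 F3210) (tt N758 D978) (tt N521 F3211) (tt N759 D979) (tt N457 F3212))
theorem Q592 : ∀ i, i < 592 → P i := stepQ 591 Q591 (allL N591 (tt N572 F3213) (tt N757 (iv F4228)) (tt N454 F3214) (tt N758 (iv F4234)) (tt N747 (iv F4192)) (tt N453 (iv D723)) (tt N760 D980) (tt N591 F3215) (tt N458 F3216))
theorem Q593 : ∀ i, i < 593 → P i := stepQ 592 Q592 (allL N592 (tt N573 F3217) (tt N493 F3218) (tt N760 (iv F4242)) (tt N592 F3219) (tt N748 (iv F4197)) (tt N523 F3220) (tt N454 (iv D724)) (tt N592 F3221) (tt N459 F3222))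
theorem Q594 : ∀ i, i < 594 → P i := stepQ 593 Q593 (allL N593 (tt N456 F3223) (tt N708 (iv F3931)) (tt N494 F3224) (tt N761 D981) (tt N455 (iv D725)) (tt N762 D982) (tt N524 F3225) (tt N465 F3226) (tt N755 (iv F4223)))
theorem Q595 : ∀ i, i < 595 → P i := stepQ 594 Q594 (allL N594 (tt N761 (iv F4246)) (tt N457 F3227) (tt N763 D983) (tt N456 (iv D726)) (tt N729 (iv F4112)) (tt N764 D984) (tt N525 F3228) (tt N765 D985) (tt N756 (iv F4227)))
theorem Q596 : ∀ i, i < 596 → P i := stepQ 595 Q595 (allL N595 (tt N762 (iv F4248)) (tt N458 F3229) (tt N496 F3230) (tt N764 (iv F4255)) (tt N751 (iv F4209)) (tt N456 (iv D727)) (tt N766 D986) (tt N467 F3231) (tt N757 (iv F4231)))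
theorem Q597 : ∀ i, i < 597 → P i := stepQ 596 Q596 (allL N596 (tt N711 (iv F3940)) (tt N764 (iv F4254)) (tt N596 F3232) (tt N458 F3233) (tt N767 D987) (tt N457 (iv D728)) (tt N768 D988) (tt N769 D989) (tt N758 (iv F4235)))
theorem Q598 : ∀ i, i < 598 → P i := stepQ 597 Q597 (allL N597 (tt N682 F38089) (tt N765 (iv F4256)) (tt N597 F3234) (tt N469 F3235) (tt N732 (iv F4124)) (tt N769 (iv F4269)) (tt N528 F3236) (tt N457 (iv D729)) (tt N770 D990))
theorem Q599 : ∀ i, i < 599 → P i := stepQ 598 Q598 (allL N598 (tt N611 (iv F38223)) (tt N766 (iv F4259)) (tt N459 F3237) (tt N768 (iv F4265)) (tt N754 (iv F4215)) (tt N529 F3238) (tt N458 (iv D730)) (tt N470 F3239) (tt N760 (iv F4245)))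
theorem Q600 : ∀ i, i < 600 → P i := stepQ 599 Q599 (allL N599 (tt N461 F3240) (tt N712 (iv F3952)) (tt N499 F3241) (tt N771 D991) (tt N460 (iv D731)) (tt N772 D992) (tt N599 F3242) (tt N749 (iv F4204)) (tt N599 F3243))
theorem Q601 : ∀ i, i < 601 → P i := stepQ 600 Q600 (allL N600 (tt N771 (iv F4273)) (tt N462 F3244) (tt N773 D993) (tt N461 (iv D732)) (tt N600 F3245) (tt N774 D994) (tt N600 F3246) (tt N775 D995) (tt N600 F3247))
theorem Q602 : ∀ i, i < 602 → P i := stepQ 601 Q601 (allL N601 (tt N772 (iv F4277)) (tt N463 F3248) (tt N501 F3249) (tt N774 (iv F4287)) (tt N467 F3250) (tt N461 (iv D733)) (tt N776 D996) (tt N751 (iv F4210)) (tt N601 F3251))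
theorem Q603 : ∀ i, i < 603 → P i := stepQ 602 Q602 (allL N602 (tt N715 (iv F3964)) (tt N774 (iv F4286)) (tt N602 F3252) (tt N463 F3253) (tt N777 D997) (tt N462 (iv D734)) (tt N778 D998) (tt N779 D999) (tt N602 F3254))
theorem Q604 : ∀ i, i < 604 → P i := stepQ 603 Q603 (allL N603 (tt N716 (iv F3968)) (tt N775 (iv F4289)) (tt N603 F3255) (tt N753 (iv F4212)) (tt N603 F3256) (tt N779 (iv F4306)) (tt N603 F3257) (tt N462 (iv D735)) (tt N780 D1000))
theorem Q605 : ∀ i, i < 605 → P i := stepQ 604 Q604 (allL N604 (tt N610 (iv F38354)) (tt N776 (iv F4292)) (tt N464 F3258) (tt N778 (iv F4302)) (tt N470 F3259) (tt N604 F3260) (tt N463 (iv D736)) (tt N754 (iv F4217)) (tt N604 F3261))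
theorem Q606 : ∀ i, i < 606 → P i := stepQ 605 Q605 (allL N605 (tt N466 F3262) (tt N684 F38119) (tt N605 F3263) (tt N465 (iv D737)) (tt N605 F3264) (tt N781 D1001) (tt N530 F3265) (tt N782 D1002) (tt N605 F3266))
theorem Q607 : ∀ i, i < 607 → P i := stepQ 606 Q606 (allL N606 (tt N467 F3267) (tt N717 (iv F3983)) (tt N505 F3268) (tt N781 (iv F4313)) (tt N772 (iv F4279)) (tt N465 (iv D738)) (tt N783 D1003) (tt N762 (iv F4250)) (tt N606 F3269))
theorem Q608 : ∀ i, i < 608 → P i := stepQ 607 Q607 (allL N607 (tt N781 (iv F4311)) (tt N468 F3270) (tt N607 F3271) (tt N467 F3272) (tt N784 D1004) (tt N466 (iv D739)) (tt N562 (iv F38252)) (tt N785 D1006) (tt N607 F3273))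
theorem Q609 : ∀ i, i < 609 → P i := stepQ 608 Q608 (allL N608 (tt N782 (iv F4315)) (tt N469 F3274) (tt N608 F3275) (tt N765 (iv F4257)) (tt N608 F3276) (tt N785 (iv F4334)) (tt N532 F3277) (tt N466 (iv D740)) (tt N786 D1007))
theorem Q610 : ∀ i, i < 610 → P i := stepQ 609 Q609 (allL N609 (tt N783 (iv F4319)) (tt N470 F3278) (tt N506 F3279) (tt N562 (iv F38251)) (tt N776 (iv F4294)) (tt N533 F3280) (tt N467 (iv D741)) (tt N766 (iv F4262)) (tt N609 F3281))
theorem Q611 : ∀ i, i < 611 → P i := stepQ 610 Q610 (allL N610 (tt N604 F38354) (tt N784 (iv F4323)) (tt N471 F3282) (tt N777 (iv F4298)) (tt N468 (iv D742)) (tt N610 F3283) (tt N560 (iv F38374)) (tt N787 D1009) (tt N610 F3284))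
theorem Q612 : ∀ i, i < 612 → P i := stepQ 611 Q611 (allL N611 (tt N598 F38223) (tt N785 (iv F4332)) (tt N472 F3289) (tt N769 (iv F4268)) (tt N787 (iv F4344)) (tt N469 F3290) (tt N556 (iv F38259)) (tt N468 (iv D744)) (tt N733 F38224))
theorem Q613 : ∀ i, i < 613 → P i := stepQ 612 Q612 (allL N612 (tt N675 (iv F38156)) (tt N786 (iv F4335)) (tt N473 F3291) (tt N770 (iv F4271)) (tt N612 F3292) (tt N733 (iv F38157)) (tt N518 (iv F38144)) (tt N612 F3294) (tt N469 (iv D745)))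
theorem Q614 : ∀ i, i < 614 → P i := stepQ 613 Q613 (allL N613 (tt N587 F38351) (tt N613 F3299) (tt N787 (iv F4343)) (tt N788 D1014) (tt N472 F3300) (tt N613 F3301) (tt N552 (iv F38389)) (tt N471 (iv D747)) (tt N727 F38352))
theorem Q615 : ∀ i, i < 615 → P i := stepQ 614 Q614 (allL N614 (tt N614 F3310) (tt N614 F3311) (tt N789 D1017) (tt N474 (iv D750)) (tt N790 D1018) (tt N614 F3312) (tt N614 F3313) (tt N614 F3314) (tt N614 F3315))
theorem Q616 : ∀ i, i < 616 → P i := stepQ 615 Q615 (allL N615 (tt N615 F3316) (tt N791 D1019) (tt N475 (iv D751)) (tt N789 (iv F4374)) (tt N792 D1020) (tt N615 F3317) (tt N615 F3318) (tt N476 F3319) (tt N615 F3320))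
theorem Q617 : ∀ i, i < 617 → P i := stepQ 616 Q616 (allL N616 (tt N616 F3321) (tt N735 (iv F4137)) (tt N792 (iv F4390)) (tt N616 F3322) (tt N475 (iv D752)) (tt N793 D1021) (tt N616 F3323) (tt N477 F3324) (tt N616 F3325))
theorem Q618 : ∀ i, i < 618 → P i := stepQ 617 Q617 (allL N617 (tt N794 D1022) (tt N476 (iv D753)) (tt N736 (iv F4142)) (tt N617 F3326) (tt N795 D1023) (tt N617 F3327) (tt N617 F3328) (tt N791 (iv F4387)) (tt N478 F3329))
theorem Q619 : ∀ i, i < 619 → P i := stepQ 618 Q618 (allL N618 (tt N618 F3330) (tt N795 (iv F4404)) (tt N477 F3331) (tt N796 D1024) (tt N476 (iv D754)) (tt N797 D1025) (tt N618 F3332) (tt N792 (iv F4392)) (tt N479 F3333))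
theorem Q620 : ∀ i, i < 620 → P i := stepQ 619 Q619 (allL N619 (tt N619 F3334) (tt N738 (iv F4152)) (tt N797 (iv F4413)) (tt N483 F3335) (tt N619 F3336) (tt N477 (iv D755)) (tt N798 D1026) (tt N793 (iv F4397)) (tt N480 F3337))
theorem Q621 : ∀ i, i < 621 → P i := stepQ 620 Q620 (allL N620 (tt N478 (iv D756)) (tt N620 F3338) (tt N739 (iv F4156)) (tt N620 F3339) (tt N799 D1027) (tt N620 F3340) (tt N620 F3341) (tt N620 F3342) (tt N794 (iv F4403)))
theorem Q622 : ∀ i, i < 622 → P i := stepQ 621 Q621 (allL N621 (tt N799 (iv F4421)) (tt N479 F3343) (tt N740 (iv F4161)) (tt N800 D1028) (tt N478 (iv D757)) (tt N801 D1029) (tt N621 F3344) (tt N621 F3345) (tt N795 (iv F4406)))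
theorem Q623 : ∀ i, i < 623 → P i := stepQ 622 Q622 (allL N622 (tt N622 F3346) (tt N800 (iv F4425)) (tt N486 F3347) (tt N479 (iv D758)) (tt N622 F3348) (tt N802 D1030) (tt N622 F3349) (tt N803 D1031) (tt N796 (iv F4411)))
theorem Q624 : ∀ i, i < 624 → P i := stepQ 623 Q623 (allL N623 (tt N623 F3350) (tt N801 (iv F4428)) (tt N480 F3351) (tt N802 (iv F4433)) (tt N623 F3352) (tt N479 (iv D759)) (tt N804 D1032) (tt N623 F3353) (tt N797 (iv F4415)))
theorem Q625 : ∀ i, i < 625 → P i := stepQ 624 Q624 (allL N624 (tt N624 F3354) (tt N743 (iv F4169)) (tt N804 (iv F4440)) (tt N488 F3355) (tt N624 F3356) (tt N624 F3357) (tt N480 (iv D760)) (tt N624 F3358) (tt N798 (iv F4420)))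
theorem Q626 : ∀ i, i < 626 → P i := stepQ 625 Q625 (allL N625 (tt N481 (iv D761)) (tt N625 F3359) (tt N744 (iv F4175)) (tt N625 F3360) (tt N805 D1033) (tt N489 F3361) (tt N625 F3362) (tt N625 F3363) (tt N484 F3364))
theorem Q627 : ∀ i, i < 627 → P i := stepQ 626 Q626 (allL N626 (tt N805 (iv F4444)) (tt N482 F3365) (tt N745 (iv F4182)) (tt N806 D1034) (tt N481 (iv D762)) (tt N807 D1035) (tt N626 F3366) (tt N626 F3367) (tt N485 F3368))
theorem Q628 : ∀ i, i < 628 → P i := stepQ 627 Q627 (allL N627 (tt N627 F3369) (tt N806 (iv F4449)) (tt N796 (iv F4408)) (tt N482 (iv D763)) (tt N627 F3370) (tt N808 D1036) (tt N627 F3371) (tt N809 D1037) (tt N486 F3372))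
theorem Q629 : ∀ i, i < 629 → P i := stepQ 628 Q628 (allL N628 (tt N628 F3373) (tt N807 (iv F4453)) (tt N483 F3374) (tt N808 (iv F4458)) (tt N492 F3375) (tt N482 (iv D764)) (tt N810 D1038) (tt N628 F3376) (tt N487 F3377))
theorem Q630 : ∀ i, i < 630 → P i := stepQ 629 Q629 (allL N629 (tt N629 F3378) (tt N748 (iv F4196)) (tt N810 (iv F4465)) (tt N798 (iv F4417)) (tt N493 F3379) (tt N629 F3380) (tt N483 (iv D765)) (tt N629 F3381) (tt N488 F3382))
theorem Q631 : ∀ i, i < 631 → P i := stepQ 630 Q630 (allL N630 (tt N485 F3383) (tt N630 F3384) (tt N749 (iv F4202)) (tt N811 D1039) (tt N484 (iv D766)) (tt N812 D1040) (tt N630 F3385) (tt N499 F3386) (tt N805 (iv F4448)))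
theorem Q632 : ∀ i, i < 632 → P i := stepQ 631 Q631 (allL N631 (tt N811 (iv F4470)) (tt N486 F3387) (tt N813 D1041) (tt N485 (iv D767)) (tt N631 F3388) (tt N814 D1042) (tt N631 F3389) (tt N815 D1043) (tt N806 (iv F4452)))
theorem Q633 : ∀ i, i < 633 → P i := stepQ 632 Q632 (allL N632 (tt N812 (iv F4474)) (tt N487 F3390) (tt N751 (iv F4208)) (tt N814 (iv F4481)) (tt N496 F3391) (tt N485 (iv D768)) (tt N816 D1044) (tt N501 F3392) (tt N807 (iv F4456)))
theorem Q634 : ∀ i, i < 634 → P i := stepQ 633 Q633 (allL N633 (tt N633 F3393) (tt N814 (iv F4480)) (tt N802 (iv F4432)) (tt N487 F3394) (tt N817 D1045) (tt N486 (iv D769)) (tt N818 D1046) (tt N819 D1047) (tt N808 (iv F4459)))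
theorem Q635 : ∀ i, i < 635 → P i := stepQ 634 Q634 (allL N634 (tt N634 F3395) (tt N815 (iv F4482)) (tt N803 (iv F4435)) (tt N503 F3396) (tt N634 F3397) (tt N819 (iv F4498)) (tt N634 F3398) (tt N486 (iv D770)) (tt N820 D1048))
theorem Q636 : ∀ i, i < 636 → P i := stepQ 635 Q635 (allL N635 (tt N635 F3399) (tt N816 (iv F4486)) (tt N488 F3400) (tt N818 (iv F4494)) (tt N498 F3401) (tt N635 F3402) (tt N487 (iv D771)) (tt N504 F3403) (tt N810 (iv F4469)))
theorem Q637 : ∀ i, i < 637 → P i := stepQ 636 Q636 (allL N636 (tt N490 F3404) (tt N636 F3405) (tt N755 (iv F4220)) (tt N821 D1049) (tt N489 (iv D772)) (tt N822 D1050) (tt N534 F3406) (tt N636 F3407) (tt N494 F3408))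
theorem Q638 : ∀ i, i < 638 → P i := stepQ 637 Q637 (allL N637 (tt N821 (iv F4503)) (tt N491 F3409) (tt N823 D1051) (tt N490 (iv D773)) (tt N637 F3410) (tt N824 D1052) (tt N535 F3411) (tt N825 D1053) (tt N495 F3412))
theorem Q639 : ∀ i, i < 639 → P i := stepQ 638 Q638 (allL N638 (tt N822 (iv F4508)) (tt N492 F3413) (tt N757 (iv F4229)) (tt N824 (iv F4517)) (tt N807 (iv F4454)) (tt N490 (iv D774)) (tt N826 D1054) (tt N638 F3414) (tt N496 F3415))
theorem Q640 : ∀ i, i < 640 → P i := stepQ 639 Q639 (allL N639 (tt N639 F3416) (tt N824 (iv F4516)) (tt N639 F3417) (tt N492 F3418) (tt N827 D1055) (tt N491 (iv D775)) (tt N828 D1056) (tt N829 D1057) (tt N497 F3419))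
theorem Q641 : ∀ i, i < 641 → P i := stepQ 640 Q640 (allL N640 (tt N640 F3420) (tt N825 (iv F4519)) (tt N640 F3421) (tt N640 F3422) (tt N640 F3423) (tt N829 (iv F4540)) (tt N538 F3424) (tt N491 (iv D776)) (tt N640 F3425))
theorem Q642 : ∀ i, i < 642 → P i := stepQ 641 Q641 (allL N641 (tt N641 F3426) (tt N826 (iv F4524)) (tt N493 F3427) (tt N828 (iv F4534)) (tt N810 (iv F4466)) (tt N539 F3428) (tt N492 (iv D777)) (tt N641 F3429) (tt N498 F3430))
theorem Q643 : ∀ i, i < 643 → P i := stepQ 642 Q642 (allL N642 (tt N495 F3431) (tt N642 F3432) (tt N830 D1058) (tt N494 (iv D778)) (tt N642 F3433) (tt N831 D1059) (tt N540 F3434) (tt N642 F3435) (tt N821 (iv F4507)))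
theorem Q644 : ∀ i, i < 644 → P i := stepQ 643 Q643 (allL N643 (tt N496 F3436) (tt N643 F3437) (tt N762 (iv F4249)) (tt N831 (iv F4548)) (tt N812 (iv F4476)) (tt N494 (iv D779)) (tt N832 D1060) (tt N505 F3438) (tt N822 (iv F4511)))
theorem Q645 : ∀ i, i < 645 → P i := stepQ 644 Q644 (allL N644 (tt N830 (iv F4542)) (tt N644 F3439) (tt N495 (iv D780)) (tt N763 (iv F4252)) (tt N644 F3440) (tt N833 D1061) (tt N542 F3441) (tt N644 F3442) (tt N823 (iv F4515)))
theorem Q646 : ∀ i, i < 646 → P i := stepQ 645 Q645 (allL N645 (tt N831 (iv F4546)) (tt N497 F3443) (tt N833 (iv F4555)) (tt N496 F3444) (tt N834 D1062) (tt N495 (iv D781)) (tt N835 D1063) (tt N645 F3445) (tt N824 (iv F4518)))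
theorem Q647 : ∀ i, i < 647 → P i := stepQ 646 Q646 (allL N646 (tt N832 (iv F4550)) (tt N498 F3446) (tt N766 (iv F4260)) (tt N835 (iv F4561)) (tt N816 (iv F4487)) (tt N544 F3447) (tt N496 (iv D782)) (tt N506 F3448) (tt N826 (iv F4527)))
theorem Q648 : ∀ i, i < 648 → P i := stepQ 647 Q647 (allL N647 (tt N647 F3449) (tt N834 (iv F4557)) (tt N647 F3450) (tt N817 (iv F4491)) (tt N497 (iv D783)) (tt N647 F3451) (tt N836 D1064) (tt N647 F3452) (tt N827 (iv F4531)))
theorem Q649 : ∀ i, i < 649 → P i := stepQ 648 Q648 (allL N648 (tt N648 F3453) (tt N835 (iv F4560)) (tt N648 F3454) (tt N498 F3455) (tt N836 (iv F4566)) (tt N546 F3456) (tt N497 (iv D784)) (tt N648 F3457) (tt N828 (iv F4536)))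
theorem Q650 : ∀ i, i < 650 → P i := stepQ 649 Q649 (allL N649 (tt N500 F3458) (tt N649 F3459) (tt N837 D1065) (tt N499 (iv D785)) (tt N507 F3460) (tt N838 D1066) (tt N649 F3461) (tt N839 D1067) (tt N649 F3462))
theorem Q651 : ∀ i, i < 651 → P i := stepQ 650 Q650 (allL N650 (tt N501 F3463) (tt N650 F3464) (tt N772 (iv F4278)) (tt N838 (iv F4574)) (tt N505 F3465) (tt N499 (iv D786)) (tt N840 D1068) (tt N812 (iv F4477)) (tt N650 F3466))
theorem Q652 : ∀ i, i < 652 → P i := stepQ 651 Q651 (allL N651 (tt N837 (iv F4568)) (tt N651 F3467) (tt N500 (iv D787)) (tt N773 (iv F4282)) (tt N508 F3468) (tt N841 D1069) (tt N651 F3469) (tt N842 D1070) (tt N651 F3470))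
theorem Q653 : ∀ i, i < 653 → P i := stepQ 652 Q652 (allL N652 (tt N838 (iv F4572)) (tt N502 F3471) (tt N841 (iv F4587)) (tt N501 F3472) (tt N652 F3473) (tt N500 (iv D788)) (tt N843 D1071) (tt N844 D1072) (tt N652 F3474))
theorem Q654 : ∀ i, i < 654 → P i := stepQ 653 Q653 (allL N653 (tt N839 (iv F4577)) (tt N503 F3475) (tt N842 (iv F4591)) (tt N815 (iv F4483)) (tt N509 F3476) (tt N844 (iv F4601)) (tt N653 F3477) (tt N500 (iv D789)) (tt N845 D1073))
theorem Q655 : ∀ i, i < 655 → P i := stepQ 654 Q654 (allL N654 (tt N840 (iv F4581)) (tt N504 F3478) (tt N776 (iv F4293)) (tt N843 (iv F4595)) (tt N506 F3479) (tt N654 F3480) (tt N501 (iv D790)) (tt N816 (iv F4489)) (tt N654 F3481))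
theorem Q656 : ∀ i, i < 656 → P i := stepQ 655 Q655 (allL N655 (tt N655 F3482) (tt N843 (iv F4594)) (tt N655 F3483) (tt N504 F3484) (tt N655 F3485) (tt N655 F3486) (tt N502 (iv D791)) (tt N846 D1074) (tt N655 F3487))
theorem Q657 : ∀ i, i < 657 → P i := stepQ 656 Q656 (allL N656 (tt N656 F3488) (tt N844 (iv F4599)) (tt N656 F3489) (tt N819 (iv F4497)) (tt N656 F3490) (tt N503 F3491) (tt N846 (iv F4610)) (tt N502 (iv D792)) (tt N847 D1075))
theorem Q658 : ∀ i, i < 658 → P i := stepQ 657 Q657 (allL N657 (tt N657 F3492) (tt N845 (iv F4602)) (tt N657 F3493) (tt N820 (iv F4500)) (tt N510 F3494) (tt N847 (iv F4614)) (tt N657 F3495) (tt N657 F3496) (tt N503 (iv D793)))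
theorem Q659 : ∀ i, i < 659 → P i := stepQ 658 Q658 (allL N658 (tt N506 F3497) (tt N658 F3498) (tt N783 (iv F4320)) (tt N658 F3499) (tt N840 (iv F4583)) (tt N547 F3500) (tt N505 (iv D794)) (tt N832 (iv F4553)) (tt N658 F3501))
theorem Q660 : ∀ i, i < 660 → P i := stepQ 659 Q659 (allL N659 (tt N508 F3502) (tt N848 D1076) (tt N507 (iv D795)) (tt N659 F3503) (tt N837 (iv F4569)) (tt N659 F3504) (tt N659 F3505) (tt N849 D1077) (tt N659 F3506))
theorem Q661 : ∀ i, i < 661 → P i := stepQ 660 Q660 (allL N660 (tt N509 F3507) (tt N660 F3508) (tt N849 (iv F4623)) (tt N660 F3509) (tt N839 (iv F4579)) (tt N660 F3510) (tt N660 F3511) (tt N507 (iv D796)) (tt N850 D1078))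
theorem Q662 : ∀ i, i < 662 → P i := stepQ 661 Q661 (allL N661 (tt N849 (iv F4622)) (tt N661 F3512) (tt N509 F3513) (tt N851 D1079) (tt N842 (iv F4592)) (tt N661 F3514) (tt N661 F3515) (tt N508 (iv D797)) (tt N852 D1080))
theorem Q663 : ∀ i, i < 663 → P i := stepQ 662 Q662 (allL N662 (tt N850 (iv F4626)) (tt N510 F3516) (tt N852 (iv F4638)) (tt N662 F3517) (tt N845 (iv F4603)) (tt N662 F3518) (tt N662 F3519) (tt N662 F3520) (tt N509 (iv D798)))
theorem Q664 : ∀ i, i < 664 → P i := stepQ 663 Q663 (allL N663 (tt N512 F3521) (tt N524 F3522) (tt N663 F3523) (tt N853 D1081) (tt N511 (iv D799)) (tt N683 F38000) (tt N708 (iv F3933)) (tt N514 F3524) (tt N665 (iv F3620)))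
theorem Q665 : ∀ i, i < 665 → P i := stepQ 664 Q664 (allL N664 (tt N853 (iv F4642)) (tt N513 F3525) (tt N854 D1083) (tt N512 (iv D800)) (tt N671 (iv F3645)) (tt N680 F37976) (tt N709 (iv F3936)) (tt N679 F37977) (tt N666 (iv F3623)))
theorem Q666 : ∀ i, i < 666 → P i := stepQ 665 Q665 (allL N665 (tt N516 F3617) (tt N670 (iv F3640)) (tt N665 F3618) (tt N855 D1119) (tt N515 (iv D825)) (tt N856 D1120) (tt N728 (iv F4108)) (tt N665 F3619) (tt N663 F3620))
theorem Q667 : ∀ i, i < 667 → P i := stepQ 666 Q666 (allL N666 (tt N855 (iv F4779)) (tt N517 F3621) (tt N857 D1121) (tt N516 (iv D826)) (tt N525 F3622) (tt N858 D1122) (tt N729 (iv F4113)) (tt N859 D1123) (tt N664 F3623))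
theorem Q668 : ∀ i, i < 668 → P i := stepQ 667 Q667 (allL N667 (tt N856 (iv F4782)) (tt N518 F3624) (tt N667 F3625) (tt N858 (iv F4792)) (tt N667 F3626) (tt N516 (iv D827)) (tt N786 F38076) (tt N667 F3627) (tt N532 F38077))
theorem Q669 : ∀ i, i < 669 → P i := stepQ 668 Q668 (allL N668 (tt N673 (iv F3652)) (tt N858 (iv F4791)) (tt N668 F3629) (tt N518 F3630) (tt N860 D1125) (tt N517 (iv D828)) (tt N770 F38074) (tt N861 D1127) (tt N528 F38075))
theorem Q670 : ∀ i, i < 670 → P i := stepQ 669 Q669 (allL N669 (tt N674 (iv F3656)) (tt N859 (iv F4794)) (tt N669 F3632) (tt N669 F3633) (tt N528 F3634) (tt N861 (iv F4811)) (tt N732 (iv F4125)) (tt N517 (iv D829)) (tt N860 (iv F37996)))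
theorem Q671 : ∀ i, i < 671 → P i := stepQ 670 Q670 (allL N670 (tt N520 F3639) (tt N665 F3640) (tt N534 F3641) (tt N862 D1129) (tt N519 (iv D831)) (tt N863 D1130) (tt N755 (iv F4221)) (tt N670 F3642) (tt N524 F3643))
theorem Q672 : ∀ i, i < 672 → P i := stepQ 671 Q671 (allL N671 (tt N862 (iv F4816)) (tt N521 F3644) (tt N864 D1131) (tt N520 (iv D832)) (tt N664 F3645) (tt N865 D1132) (tt N756 (iv F4226)) (tt N866 D1133) (tt N525 F3646))
theorem Q673 : ∀ i, i < 673 → P i := stepQ 672 Q672 (allL N672 (tt N863 (iv F4820)) (tt N522 F3647) (tt N536 F3648) (tt N865 (iv F4831)) (tt N672 F3649) (tt N520 (iv D833)) (tt N867 D1134) (tt N672 F3650) (tt N526 F3651))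
theorem Q674 : ∀ i, i < 674 → P i := stepQ 673 Q673 (allL N673 (tt N668 F3652) (tt N865 (iv F4830)) (tt N673 F3653) (tt N522 F3654) (tt N861 (iv F37912)) (tt N521 (iv D834)) (tt N868 D1136) (tt N860 F37901) (tt N527 F3655))
theorem Q675 : ∀ i, i < 675 → P i := stepQ 674 Q674 (allL N674 (tt N669 F3656) (tt N866 (iv F4833)) (tt N674 F3657) (tt N674 F3658) (tt N527 (iv F37985)) (tt N860 F37904) (tt N759 (iv F4240)) (tt N521 (iv D835)) (tt N861 F37994))
theorem Q676 : ∀ i, i < 676 → P i := stepQ 675 Q675 (allL N675 (tt N612 F38156) (tt N867 (iv F4836)) (tt N523 F3661) (tt N868 (iv F4848)) (tt N675 F3662) (tt N760 (iv F4243)) (tt N522 (iv D836)) (tt N675 F3663) (tt N529 F3664))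
theorem Q677 : ∀ i, i < 677 → P i := stepQ 676 Q676 (allL N676 (tt N525 F3665) (tt N853 (iv F4643)) (tt N869 D1139) (tt N524 (iv D837)) (tt N855 (iv F4780)) (tt N870 D1140) (tt N761 (iv F4247)) (tt N871 D1141) (tt N862 (iv F4819)))
theorem Q678 : ∀ i, i < 678 → P i := stepQ 677 Q677 (allL N677 (tt N526 F3666) (tt N683 (iv F37941)) (tt N541 F3667) (tt N870 (iv F4862)) (tt N677 F3668) (tt N524 (iv D838)) (tt N872 D1142) (tt N531 F3669) (tt N863 (iv F4825)))
theorem Q679 : ∀ i, i < 679 → P i := stepQ 678 Q678 (allL N678 (tt N869 (iv F4859)) (tt N678 F3670) (tt N525 (iv D839)) (tt N542 F3671) (tt N857 (iv F4789)) (tt N873 D1143) (tt N763 (iv F4253)) (tt N874 D1144) (tt N864 (iv F4829)))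
theorem Q680 : ∀ i, i < 680 → P i := stepQ 679 Q679 (allL N679 (tt N870 (iv F4861)) (tt N527 F3672) (tt N873 (iv F4870)) (tt N526 F3673) (tt N866 F37905) (tt N525 (iv D840)) (tt N875 D1146) (tt N664 (iv F37977)) (tt N865 (iv F4832)))
theorem Q681 : ∀ i, i < 681 → P i := stepQ 680 Q680 (allL N680 (tt N871 (iv F4863)) (tt N528 F3674) (tt N874 (iv F4873)) (tt N532 F3675) (tt N859 (iv F4796)) (tt N664 (iv F37976)) (tt N765 (iv F4258)) (tt N525 (iv D841)) (tt N858 (iv F37987)))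
theorem Q682 : ∀ i, i < 682 → P i := stepQ 681 Q681 (allL N681 (tt N872 (iv F4865)) (tt N529 F3676) (tt N544 F3677) (tt N875 (iv F4878)) (tt N681 F3678) (tt N766 (iv F4261)) (tt N526 (iv D842)) (tt N533 F3679) (tt N867 (iv F4840)))
theorem Q683 : ∀ i, i < 683 → P i := stepQ 682 Q682 (allL N682 (tt N597 (iv F38089)) (tt N875 (iv F4877)) (tt N682 F3682) (tt N529 F3683) (tt N759 F38073) (tt N768 (iv F4266)) (tt N527 (iv D844)) (tt N555 (iv F38131)) (tt N868 (iv F4849)))
theorem Q684 : ∀ i, i < 684 → P i := stepQ 683 Q683 (allL N683 (tt N532 F3693) (tt N677 F37941) (tt N683 F3694) (tt N871 (iv F4864)) (tt N683 F3695) (tt N663 (iv F38000)) (tt N782 (iv F4318)) (tt N530 (iv D848)) (tt N856 (iv F38006)))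
theorem Q685 : ∀ i, i < 685 → P i := stepQ 684 Q684 (allL N684 (tt N533 F3696) (tt N605 (iv F38119)) (tt N547 F3697) (tt N561 (iv F38165)) (tt N684 F3698) (tt N783 (iv F4321)) (tt N531 (iv D849)) (tt N872 (iv F4868)) (tt N684 F3699))
theorem Q686 : ∀ i, i < 686 → P i := stepQ 685 Q685 (allL N685 (tt N535 F3747) (tt N685 F3748) (tt N876 D1171) (tt N534 (iv D863)) (tt N685 F3749) (tt N877 D1172) (tt N821 (iv F4506)) (tt N878 D1173) (tt N540 F3750))
theorem Q687 : ∀ i, i < 687 → P i := stepQ 686 Q686 (allL N686 (tt N536 F3751) (tt N686 F3752) (tt N863 (iv F4822)) (tt N877 (iv F4966)) (tt N686 F3753) (tt N534 (iv D864)) (tt N879 D1174) (tt N686 F3754) (tt N541 F3755))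
theorem Q688 : ∀ i, i < 688 → P i := stepQ 687 Q687 (allL N687 (tt N876 (iv F4961)) (tt N687 F3756) (tt N535 (iv D865)) (tt N864 (iv F4827)) (tt N687 F3757) (tt N880 D1175) (tt N823 (iv F4514)) (tt N881 D1176) (tt N542 F3758))
theorem Q689 : ∀ i, i < 689 → P i := stepQ 688 Q688 (allL N688 (tt N877 (iv F4964)) (tt N537 F3759) (tt N880 (iv F4979)) (tt N536 F3760) (tt N882 D1177) (tt N535 (iv D866)) (tt N883 D1178) (tt N884 D1179) (tt N543 F3761))
theorem Q690 : ∀ i, i < 690 → P i := stepQ 689 Q689 (allL N689 (tt N878 (iv F4968)) (tt N538 F3762) (tt N881 (iv F4982)) (tt N689 F3763) (tt N689 F3764) (tt N884 (iv F4994)) (tt N825 (iv F4522)) (tt N535 (iv D867)) (tt N689 F3765))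
theorem Q691 : ∀ i, i < 691 → P i := stepQ 690 Q690 (allL N690 (tt N879 (iv F4973)) (tt N539 F3766) (tt N867 (iv F4837)) (tt N883 (iv F4990)) (tt N690 F3767) (tt N826 (iv F4525)) (tt N536 (iv D868)) (tt N690 F3768) (tt N544 F3769))
theorem Q692 : ∀ i, i < 692 → P i := stepQ 691 Q691 (allL N691 (tt N691 F3770) (tt N882 (iv F4985)) (tt N691 F3771) (tt N691 F3772) (tt N537 (iv D869)) (tt N691 F3773) (tt N885 D1180) (tt N886 D1181) (tt N545 F3774))
theorem Q693 : ∀ i, i < 693 → P i := stepQ 692 Q692 (allL N692 (tt N692 F3775) (tt N883 (iv F4989)) (tt N692 F3776) (tt N539 F3777) (tt N885 (iv F4999)) (tt N828 (iv F4535)) (tt N537 (iv D870)) (tt N887 D1182) (tt N546 F3778))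
theorem Q694 : ∀ i, i < 694 → P i := stepQ 693 Q693 (allL N693 (tt N693 F3779) (tt N884 (iv F4992)) (tt N693 F3780) (tt N693 F3781) (tt N886 (iv F5003)) (tt N538 F3782) (tt N887 (iv F5009)) (tt N537 (iv D871)) (tt N693 F3783))
theorem Q695 : ∀ i, i < 695 → P i := stepQ 694 Q694 (allL N694 (tt N542 F3784) (tt N888 D1183) (tt N540 (iv D872)) (tt N869 (iv F4860)) (tt N694 F3785) (tt N889 D1184) (tt N830 (iv F4544)) (tt N694 F3786) (tt N876 (iv F4963)))
theorem Q696 : ∀ i, i < 696 → P i := stepQ 695 Q695 (allL N695 (tt N543 F3787) (tt N695 F3788) (tt N889 (iv F5016)) (tt N541 F3789) (tt N890 D1185) (tt N540 (iv D873)) (tt N891 D1186) (tt N695 F3790) (tt N877 (iv F4967)))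
theorem Q697 : ∀ i, i < 697 → P i := stepQ 696 Q696 (allL N696 (tt N544 F3791) (tt N696 F3792) (tt N872 (iv F4866)) (tt N891 (iv F5025)) (tt N696 F3793) (tt N832 (iv F4552)) (tt N541 (iv D874)) (tt N547 F3794) (tt N879 (iv F4977)))
theorem Q698 : ∀ i, i < 698 → P i := stepQ 697 Q697 (allL N697 (tt N889 (iv F5015)) (tt N697 F3795) (tt N543 F3796) (tt N873 (iv F4871)) (tt N892 D1187) (tt N542 (iv D875)) (tt N893 D1188) (tt N697 F3797) (tt N880 (iv F4980)))
theorem Q699 : ∀ i, i < 699 → P i := stepQ 698 Q698 (allL N698 (tt N890 (iv F5018)) (tt N545 F3798) (tt N892 (iv F5028)) (tt N698 F3799) (tt N543 (iv D876)) (tt N698 F3800) (tt N894 D1189) (tt N698 F3801) (tt N882 (iv F4988)))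
theorem Q700 : ∀ i, i < 700 → P i := stepQ 699 Q699 (allL N699 (tt N891 (iv F5023)) (tt N546 F3802) (tt N893 (iv F5032)) (tt N544 F3803) (tt N894 (iv F5036)) (tt N835 (iv F4562)) (tt N543 (iv D877)) (tt N699 F3804) (tt N883 (iv F4991)))
theorem Q701 : ∀ i, i < 701 → P i := stepQ 700 Q700 (allL N700 (tt N700 F3805) (tt N894 (iv F5034)) (tt N700 F3806) (tt N700 F3807) (tt N546 F3808) (tt N895 D1190) (tt N545 (iv D878)) (tt N700 F3809) (tt N885 (iv F5000)))
theorem Q702 : ∀ i, i < 702 → P i := stepQ 701 Q701 (allL N701 (tt N896 D1216) (tt N548 (iv D898)) (tt N701 F3897) (tt N736 (iv F4143)) (tt N897 D1217) (tt N701 F3898) (tt N701 F3899) (tt N701 F3900) (tt N720 (iv F4075)))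
theorem Q703 : ∀ i, i < 703 → P i := stepQ 702 Q702 (allL N702 (tt N578 F3901) (tt N897 (iv F5162)) (tt N549 F3902) (tt N898 D1218) (tt N548 (iv D899)) (tt N899 D1219) (tt N702 F3903) (tt N702 F3904) (tt N721 (iv F4078)))
theorem Q704 : ∀ i, i < 704 → P i := stepQ 703 Q703 (allL N703 (tt N579 F3905) (tt N703 F3906) (tt N899 (iv F5170)) (tt N552 F3907) (tt N703 F3908) (tt N549 (iv D900)) (tt N788 F38467) (tt N703 F3909) (tt N722 (iv F4082)))
theorem Q705 : ∀ i, i < 705 → P i := stepQ 704 Q704 (allL N704 (tt N550 (iv D901)) (tt N583 F3910) (tt N704 F3911) (tt N744 (iv F4176)) (tt N900 D1221) (tt N553 F3912) (tt N704 F3913) (tt N557 F3914) (tt N723 (iv F4088)))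
theorem Q706 : ∀ i, i < 706 → P i := stepQ 705 Q705 (allL N705 (tt N900 (iv F5179)) (tt N551 F3915) (tt N705 F3916) (tt N901 D1222) (tt N550 (iv D902)) (tt N902 D1223) (tt N705 F3917) (tt N558 F3918) (tt N724 (iv F4093)))
theorem Q707 : ∀ i, i < 707 → P i := stepQ 706 Q706 (allL N706 (tt N585 F3919) (tt N901 (iv F5184)) (tt N898 (iv F5167)) (tt N551 (iv D903)) (tt N746 (iv F4187)) (tt N903 D1224) (tt N706 F3920) (tt N904 D1225) (tt N725 (iv F4096)))
theorem Q708 : ∀ i, i < 708 → P i := stepQ 707 Q707 (allL N707 (tt N586 F3921) (tt N902 (iv F5186)) (tt N552 F3922) (tt N903 (iv F5191)) (tt N556 F3923) (tt N551 (iv D904)) (tt N787 F38326) (tt N560 F3924) (tt N726 (iv F4100)))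
theorem Q709 : ∀ i, i < 709 → P i := stepQ 708 Q708 (allL N708 (tt N554 F3930) (tt N593 F3931) (tt N708 F3932) (tt N905 D1227) (tt N553 (iv D906)) (tt N906 D1228) (tt N663 F3933) (tt N561 F3934) (tt N728 (iv F4110)))
theorem Q710 : ∀ i, i < 710 → P i := stepQ 709 Q709 (allL N709 (tt N905 (iv F5200)) (tt N555 F3935) (tt N907 D1229) (tt N554 (iv D907)) (tt N756 (iv F4225)) (tt N908 D1230) (tt N664 F3936) (tt N875 F38058) (tt N729 (iv F4114)))
theorem Q711 : ∀ i, i < 711 → P i := stepQ 710 Q710 (allL N710 (tt N906 (iv F5203)) (tt N556 F3937) (tt N710 F3938) (tt N908 (iv F5211)) (tt N902 (iv F5188)) (tt N554 (iv D908)) (tt N785 F38200) (tt N562 F3939) (tt N730 (iv F4118)))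
theorem Q712 : ∀ i, i < 712 → P i := stepQ 711 Q711 (allL N711 (tt N596 F3940) (tt N908 (iv F5210)) (tt N711 F3941) (tt N556 F3942) (tt N909 D1233) (tt N555 (iv D909)) (tt N769 F38198) (tt N768 F38199) (tt N731 (iv F4121)))
theorem Q713 : ∀ i, i < 713 → P i := stepQ 712 Q712 (allL N712 (tt N558 F3951) (tt N599 F3952) (tt N712 F3953) (tt N910 D1237) (tt N557 (iv D912)) (tt N911 D1238) (tt N712 F3954) (tt N900 (iv F5183)) (tt N712 F3955))
theorem Q714 : ∀ i, i < 714 → P i := stepQ 713 Q713 (allL N713 (tt N910 (iv F5233)) (tt N559 F3956) (tt N912 D1239) (tt N558 (iv D913)) (tt N713 F3957) (tt N913 D1240) (tt N713 F3958) (tt N914 D1241) (tt N713 F3959))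
theorem Q715 : ∀ i, i < 715 → P i := stepQ 714 Q714 (allL N714 (tt N911 (iv F5238)) (tt N560 F3960) (tt N714 F3961) (tt N913 (iv F5249)) (tt N562 F3962) (tt N558 (iv D914)) (tt N784 F38315) (tt N902 (iv F5189)) (tt N714 F3963))
theorem Q716 : ∀ i, i < 716 → P i := stepQ 715 Q715 (allL N715 (tt N602 F3964) (tt N913 (iv F5248)) (tt N715 F3965) (tt N560 F3966) (tt N778 F38444) (tt N559 (iv D915)) (tt N777 F38445) (tt N915 D1245) (tt N715 F3967))
theorem Q717 : ∀ i, i < 717 → P i := stepQ 716 Q716 (allL N716 (tt N603 F3968) (tt N914 (iv F5251)) (tt N716 F3969) (tt N904 (iv F5193)) (tt N716 F3970) (tt N915 (iv F5271)) (tt N716 F3971) (tt N559 (iv D916)) (tt N916 D1246))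
theorem Q718 : ∀ i, i < 718 → P i := stepQ 717 Q717 (allL N717 (tt N562 F3982) (tt N606 F3983) (tt N717 F3984) (tt N783 F38230) (tt N911 (iv F5241)) (tt N561 (iv D919)) (tt N781 F38231) (tt N906 (iv F5206)) (tt N717 F3985))
theorem Q719 : ∀ i, i < 719 → P i := stepQ 718 Q718 (allL N718 (tt N734 (iv F4130)) (tt N917 D1275) (tt N563 (iv D938)) (tt N718 F4061) (tt N918 D1276) (tt N718 F4062) (tt N718 F4063) (tt N564 F4064) (tt N718 F4065))
theorem Q720 : ∀ i, i < 720 → P i := stepQ 719 Q719 (allL N719 (tt N735 (iv F4136)) (tt N719 F4066) (tt N918 (iv F5400)) (tt N719 F4067) (tt N563 (iv D939)) (tt N919 D1277) (tt N719 F4068) (tt N565 F4069) (tt N719 F4070))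
theorem Q721 : ∀ i, i < 721 → P i := stepQ 720 Q720 (allL N720 (tt N920 D1278) (tt N564 (iv D940)) (tt N720 F4071) (tt N577 F4072) (tt N921 D1279) (tt N720 F4073) (tt N720 F4074) (tt N917 (iv F5398)) (tt N701 F4075))
theorem Q722 : ∀ i, i < 722 → P i := stepQ 721 Q721 (allL N721 (tt N737 (iv F4147)) (tt N921 (iv F5414)) (tt N565 F4076) (tt N922 D1280) (tt N564 (iv D941)) (tt N923 D1281) (tt N721 F4077) (tt N918 (iv F5402)) (tt N702 F4078))
theorem Q723 : ∀ i, i < 723 → P i := stepQ 722 Q722 (allL N722 (tt N738 (iv F4151)) (tt N722 F4079) (tt N923 (iv F5422)) (tt N568 F4080) (tt N722 F4081) (tt N565 (iv D942)) (tt N924 D1282) (tt N919 (iv F5407)) (tt N703 F4082))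
theorem Q724 : ∀ i, i < 724 → P i := stepQ 723 Q723 (allL N723 (tt N566 (iv D943)) (tt N744 (iv F4174)) (tt N723 F4083) (tt N583 F4084) (tt N925 D1283) (tt N569 F4085) (tt N723 F4086) (tt N723 F4087) (tt N704 F4088))
theorem Q725 : ∀ i, i < 725 → P i := stepQ 724 Q724 (allL N724 (tt N925 (iv F5430)) (tt N567 F4089) (tt N724 F4090) (tt N926 D1284) (tt N566 (iv D944)) (tt N927 D1285) (tt N724 F4091) (tt N724 F4092) (tt N705 F4093))
theorem Q726 : ∀ i, i < 726 → P i := stepQ 725 Q725 (allL N725 (tt N746 (iv F4186)) (tt N926 (iv F5435)) (tt N922 (iv F5418)) (tt N567 (iv D945)) (tt N585 F4094) (tt N928 D1286) (tt N725 F4095) (tt N929 D1287) (tt N706 F4096))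
theorem Q727 : ∀ i, i < 727 → P i := stepQ 726 Q726 (allL N726 (tt N747 (iv F4190)) (tt N927 (iv F5439)) (tt N568 F4097) (tt N928 (iv F5444)) (tt N572 F4098) (tt N567 (iv D946)) (tt N930 D1288) (tt N726 F4099) (tt N707 F4100))
theorem Q728 : ∀ i, i < 728 → P i := stepQ 727 Q727 (allL N727 (tt N748 (iv F4195)) (tt N727 F4101) (tt N930 (iv F5449)) (tt N924 (iv F5426)) (tt N573 F4102) (tt N727 F4103) (tt N568 (iv D947)) (tt N727 F4104) (tt N613 (iv F38352)))
theorem Q729 : ∀ i, i < 729 → P i := stepQ 728 Q728 (allL N728 (tt N570 F4106) (tt N755 (iv F4219)) (tt N728 F4107) (tt N931 D1289) (tt N569 (iv D948)) (tt N932 D1290) (tt N665 F4108) (tt N728 F4109) (tt N708 F4110))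
theorem Q730 : ∀ i, i < 730 → P i := stepQ 729 Q729 (allL N729 (tt N931 (iv F5454)) (tt N571 F4111) (tt N933 D1291) (tt N570 (iv D949)) (tt N594 F4112) (tt N934 D1292) (tt N666 F4113) (tt N935 D1293) (tt N709 F4114))
theorem Q731 : ∀ i, i < 731 → P i := stepQ 730 Q730 (allL N730 (tt N932 (iv F5458)) (tt N572 F4115) (tt N730 F4116) (tt N934 (iv F5468)) (tt N927 (iv F5441)) (tt N570 (iv D950)) (tt N936 D1294) (tt N730 F4117) (tt N710 F4118))
theorem Q732 : ∀ i, i < 732 → P i := stepQ 731 Q731 (allL N731 (tt N758 (iv F4232)) (tt N934 (iv F5467)) (tt N731 F4119) (tt N572 F4120) (tt N937 D1295) (tt N571 (iv D951)) (tt N938 D1296) (tt N939 D1297) (tt N711 F4121))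
theorem Q733 : ∀ i, i < 733 → P i := stepQ 732 Q732 (allL N732 (tt N759 (iv F4236)) (tt N935 (iv F5470)) (tt N732 F4122) (tt N732 F4123) (tt N597 F4124) (tt N939 (iv F5488)) (tt N669 F4125) (tt N571 (iv D952)) (tt N940 D1298))
theorem Q734 : ∀ i, i < 734 → P i := stepQ 733 Q733 (allL N733 (tt N760 (iv F4241)) (tt N936 (iv F5474)) (tt N573 F4126) (tt N938 (iv F5483)) (tt N930 (iv F5450)) (tt N612 F38157) (tt N572 (iv D953)) (tt N733 F4128) (tt N611 (iv F38224)))
theorem Q735 : ∀ i, i < 735 → P i := stepQ 734 Q734 (allL N734 (tt N718 F4130) (tt N941 D1299) (tt N574 (iv D954)) (tt N734 F4131) (tt N942 D1300) (tt N734 F4132) (tt N734 F4133) (tt N575 F4134) (tt N734 F4135))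
theorem Q736 : ∀ i, i < 736 → P i := stepQ 735 Q735 (allL N735 (tt N719 F4136) (tt N616 F4137) (tt N942 (iv F5501)) (tt N735 F4138) (tt N574 (iv D955)) (tt N943 D1301) (tt N735 F4139) (tt N576 F4140) (tt N735 F4141))
theorem Q737 : ∀ i, i < 737 → P i := stepQ 736 Q736 (allL N736 (tt N944 D1302) (tt N575 (iv D956)) (tt N617 F4142) (tt N701 F4143) (tt N945 D1303) (tt N736 F4144) (tt N736 F4145) (tt N941 (iv F5498)) (tt N577 F4146))
theorem Q738 : ∀ i, i < 738 → P i := stepQ 737 Q737 (allL N737 (tt N721 F4147) (tt N945 (iv F5517)) (tt N576 F4148) (tt N946 D1304) (tt N575 (iv D957)) (tt N947 D1305) (tt N737 F4149) (tt N942 (iv F5503)) (tt N578 F4150))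
theorem Q739 : ∀ i, i < 739 → P i := stepQ 738 Q738 (allL N738 (tt N722 F4151) (tt N619 F4152) (tt N947 (iv F5527)) (tt N582 F4153) (tt N738 F4154) (tt N576 (iv D958)) (tt N948 D1306) (tt N943 (iv F5509)) (tt N579 F4155))
theorem Q740 : ∀ i, i < 740 → P i := stepQ 739 Q739 (allL N739 (tt N577 (iv D959)) (tt N896 (iv F5157)) (tt N620 F4156) (tt N920 (iv F5410)) (tt N949 D1307) (tt N739 F4157) (tt N739 F4158) (tt N739 F4159) (tt N944 (iv F5516)))
theorem Q741 : ∀ i, i < 741 → P i := stepQ 740 Q740 (allL N740 (tt N949 (iv F5536)) (tt N578 F4160) (tt N621 F4161) (tt N950 D1308) (tt N577 (iv D960)) (tt N951 D1309) (tt N740 F4162) (tt N740 F4163) (tt N945 (iv F5520)))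
theorem Q742 : ∀ i, i < 742 → P i := stepQ 741 Q741 (allL N741 (tt N898 (iv F5166)) (tt N950 (iv F5540)) (tt N585 F4164) (tt N578 (iv D961)) (tt N922 (iv F5419)) (tt N952 D1310) (tt N741 F4165) (tt N953 D1311) (tt N946 (iv F5525)))
theorem Q743 : ∀ i, i < 743 → P i := stepQ 742 Q742 (allL N742 (tt N899 (iv F5169)) (tt N951 (iv F5542)) (tt N579 F4166) (tt N952 (iv F5547)) (tt N742 F4167) (tt N578 (iv D962)) (tt N954 D1312) (tt N742 F4168) (tt N947 (iv F5529)))
theorem Q744 : ∀ i, i < 744 → P i := stepQ 743 Q743 (allL N743 (tt N788 (iv F38420)) (tt N624 F4169) (tt N954 (iv F5551)) (tt N587 F4170) (tt N743 F4171) (tt N743 F4172) (tt N579 (iv D963)) (tt N743 F4173) (tt N948 (iv F5535)))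
theorem Q745 : ∀ i, i < 745 → P i := stepQ 744 Q744 (allL N744 (tt N580 (iv D964)) (tt N723 F4174) (tt N625 F4175) (tt N704 F4176) (tt N955 D1313) (tt N588 F4177) (tt N744 F4178) (tt N744 F4179) (tt N583 F4180))
theorem Q746 : ∀ i, i < 746 → P i := stepQ 745 Q745 (allL N745 (tt N955 (iv F5555)) (tt N581 F4181) (tt N626 F4182) (tt N956 D1314) (tt N580 (iv D965)) (tt N957 D1315) (tt N745 F4183) (tt N745 F4184) (tt N584 F4185))
theorem Q747 : ∀ i, i < 747 → P i := stepQ 746 Q746 (allL N746 (tt N725 F4186) (tt N956 (iv F5561)) (tt N946 (iv F5522)) (tt N581 (iv D966)) (tt N706 F4187) (tt N958 D1316) (tt N746 F4188) (tt N959 D1317) (tt N585 F4189))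
theorem Q748 : ∀ i, i < 748 → P i := stepQ 747 Q747 (allL N747 (tt N726 F4190) (tt N957 (iv F5565)) (tt N582 F4191) (tt N958 (iv F5571)) (tt N591 F4192) (tt N581 (iv D967)) (tt N960 D1318) (tt N747 F4193) (tt N586 F4194))
theorem Q749 : ∀ i, i < 749 → P i := stepQ 748 Q748 (allL N748 (tt N727 F4195) (tt N629 F4196) (tt N960 (iv F5578)) (tt N948 (iv F5532)) (tt N592 F4197) (tt N748 F4198) (tt N582 (iv D968)) (tt N748 F4199) (tt N587 F4200))
theorem Q750 : ∀ i, i < 750 → P i := stepQ 749 Q749 (allL N749 (tt N584 F4201) (tt N900 (iv F5180)) (tt N630 F4202) (tt N961 D1319) (tt N583 (iv D969)) (tt N962 D1320) (tt N749 F4203) (tt N599 F4204) (tt N955 (iv F5560)))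
theorem Q751 : ∀ i, i < 751 → P i := stepQ 750 Q750 (allL N750 (tt N961 (iv F5583)) (tt N585 F4205) (tt N963 D1321) (tt N584 (iv D970)) (tt N926 (iv F5436)) (tt N964 D1322) (tt N750 F4206) (tt N965 D1323) (tt N956 (iv F5564)))
theorem Q752 : ∀ i, i < 752 → P i := stepQ 751 Q751 (allL N751 (tt N962 (iv F5585)) (tt N586 F4207) (tt N632 F4208) (tt N964 (iv F5592)) (tt N595 F4209) (tt N584 (iv D971)) (tt N966 D1324) (tt N601 F4210) (tt N957 (iv F5569)))
theorem Q753 : ∀ i, i < 753 → P i := stepQ 752 Q752 (allL N752 (tt N903 (iv F5190)) (tt N964 (iv F5591)) (tt N952 (iv F5546)) (tt N586 F4211) (tt N967 D1325) (tt N585 (iv D972)) (tt N968 D1326) (tt N969 D1327) (tt N958 (iv F5572)))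
theorem Q754 : ∀ i, i < 754 → P i := stepQ 753 Q753 (allL N753 (tt N904 (iv F5192)) (tt N965 (iv F5593)) (tt N953 (iv F5548)) (tt N603 F4212) (tt N929 (iv F5447)) (tt N969 (iv F5605)) (tt N753 F4213) (tt N585 (iv D973)) (tt N970 D1328))
theorem Q755 : ∀ i, i < 755 → P i := stepQ 754 Q754 (allL N754 (tt N787 (iv F38285)) (tt N966 (iv F5596)) (tt N587 F4214) (tt N968 (iv F5602)) (tt N598 F4215) (tt N754 F4216) (tt N586 (iv D974)) (tt N604 F4217) (tt N960 (iv F5582)))
theorem Q756 : ∀ i, i < 756 → P i := stepQ 755 Q755 (allL N755 (tt N589 F4218) (tt N728 F4219) (tt N636 F4220) (tt N971 D1329) (tt N588 (iv D975)) (tt N972 D1330) (tt N670 F4221) (tt N755 F4222) (tt N593 F4223))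
theorem Q757 : ∀ i, i < 757 → P i := stepQ 756 Q756 (allL N756 (tt N971 (iv F5608)) (tt N590 F4224) (tt N973 D1331) (tt N589 (iv D976)) (tt N709 F4225) (tt N974 D1332) (tt N671 F4226) (tt N975 D1333) (tt N594 F4227))
theorem Q758 : ∀ i, i < 758 → P i := stepQ 757 Q757 (allL N757 (tt N972 (iv F5613)) (tt N591 F4228) (tt N638 F4229) (tt N974 (iv F5624)) (tt N957 (iv F5567)) (tt N589 (iv D977)) (tt N976 D1334) (tt N757 F4230) (tt N595 F4231))
theorem Q759 : ∀ i, i < 759 → P i := stepQ 758 Q758 (allL N758 (tt N731 F4232) (tt N974 (iv F5623)) (tt N758 F4233) (tt N591 F4234) (tt N977 D1335) (tt N590 (iv D978)) (tt N978 D1336) (tt N979 D1337) (tt N596 F4235))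
theorem Q760 : ∀ i, i < 760 → P i := stepQ 759 Q759 (allL N759 (tt N732 F4236) (tt N975 (iv F5626)) (tt N759 F4237) (tt N759 F4238) (tt N682 (iv F38073)) (tt N979 (iv F5647)) (tt N674 F4240) (tt N590 (iv D979)) (tt N980 D1338))
theorem Q761 : ∀ i, i < 761 → P i := stepQ 760 Q760 (allL N760 (tt N733 F4241) (tt N976 (iv F5630)) (tt N592 F4242) (tt N978 (iv F5641)) (tt N960 (iv F5579)) (tt N675 F4243) (tt N591 (iv D980)) (tt N760 F4244) (tt N598 F4245))
theorem Q762 : ∀ i, i < 762 → P i := stepQ 761 Q761 (allL N761 (tt N594 F4246) (tt N905 (iv F5201)) (tt N981 D1339) (tt N593 (iv D981)) (tt N931 (iv F5455)) (tt N982 D1340) (tt N676 F4247) (tt N983 D1341) (tt N971 (iv F5612)))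
theorem Q763 : ∀ i, i < 763 → P i := stepQ 762 Q762 (allL N762 (tt N595 F4248) (tt N906 (iv F5204)) (tt N643 F4249) (tt N982 (iv F5658)) (tt N962 (iv F5587)) (tt N593 (iv D982)) (tt N984 D1342) (tt N606 F4250) (tt N972 (iv F5617)))
theorem Q764 : ∀ i, i < 764 → P i := stepQ 763 Q763 (allL N763 (tt N981 (iv F5654)) (tt N763 F4251) (tt N594 (iv D983)) (tt N644 F4252) (tt N933 (iv F5464)) (tt N985 D1343) (tt N678 F4253) (tt N986 D1344) (tt N973 (iv F5622)))
theorem Q765 : ∀ i, i < 765 → P i := stepQ 764 Q764 (allL N764 (tt N982 (iv F5657)) (tt N596 F4254) (tt N985 (iv F5667)) (tt N595 F4255) (tt N987 D1345) (tt N594 (iv D984)) (tt N988 D1346) (tt N989 D1347) (tt N974 (iv F5625)))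
theorem Q766 : ∀ i, i < 766 → P i := stepQ 765 Q765 (allL N765 (tt N983 (iv F5659)) (tt N597 F4256) (tt N986 (iv F5670)) (tt N608 F4257) (tt N935 (iv F5472)) (tt N989 (iv F5679)) (tt N680 F4258) (tt N594 (iv D985)) (tt N990 D1348))
theorem Q767 : ∀ i, i < 767 → P i := stepQ 766 Q766 (allL N766 (tt N984 (iv F5662)) (tt N598 F4259) (tt N646 F4260) (tt N988 (iv F5675)) (tt N966 (iv F5598)) (tt N681 F4261) (tt N595 (iv D986)) (tt N609 F4262) (tt N976 (iv F5634)))
theorem Q768 : ∀ i, i < 768 → P i := stepQ 767 Q767 (allL N767 (tt N909 (iv F5219)) (tt N987 (iv F5673)) (tt N767 F4263) (tt N967 (iv F5601)) (tt N596 (iv D987)) (tt N937 (iv F5480)) (tt N991 D1349) (tt N992 D1350) (tt N977 (iv F5638)))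
theorem Q769 : ∀ i, i < 769 → P i := stepQ 768 Q768 (allL N768 (tt N769 (iv F38158)) (tt N988 (iv F5674)) (tt N768 F4264) (tt N598 F4265) (tt N991 (iv F5684)) (tt N682 F4266) (tt N596 (iv D988)) (tt N711 (iv F38199)) (tt N978 (iv F5643)))
theorem Q770 : ∀ i, i < 770 → P i := stepQ 769 Q769 (allL N769 (tt N768 F38158) (tt N989 (iv F5677)) (tt N769 F4267) (tt N611 F4268) (tt N992 (iv F5686)) (tt N597 F4269) (tt N711 (iv F38198)) (tt N596 (iv D989)) (tt N938 F38159))
theorem Q771 : ∀ i, i < 771 → P i := stepQ 770 Q770 (allL N770 (tt N868 (iv F38084)) (tt N990 (iv F5680)) (tt N770 F4270) (tt N612 F4271) (tt N940 (iv F5491)) (tt N938 (iv F38088)) (tt N668 (iv F38074)) (tt N980 (iv F5653)) (tt N597 (iv D990)))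
theorem Q772 : ∀ i, i < 772 → P i := stepQ 771 Q771 (allL N771 (tt N600 F4273) (tt N910 (iv F5234)) (tt N993 D1353) (tt N599 (iv D991)) (tt N771 F4274) (tt N994 D1354) (tt N771 F4275) (tt N995 D1355) (tt N771 F4276))
theorem Q773 : ∀ i, i < 773 → P i := stepQ 772 Q772 (allL N772 (tt N601 F4277) (tt N911 (iv F5239)) (tt N650 F4278) (tt N994 (iv F5700)) (tt N606 F4279) (tt N599 (iv D992)) (tt N996 D1356) (tt N962 (iv F5588)) (tt N772 F4280))
theorem Q774 : ∀ i, i < 774 → P i := stepQ 773 Q773 (allL N773 (tt N993 (iv F5694)) (tt N773 F4281) (tt N600 (iv D993)) (tt N651 F4282) (tt N773 F4283) (tt N997 D1357) (tt N773 F4284) (tt N998 D1358) (tt N773 F4285))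
theorem Q775 : ∀ i, i < 775 → P i := stepQ 774 Q774 (allL N774 (tt N994 (iv F5699)) (tt N602 F4286) (tt N997 (iv F5711)) (tt N601 F4287) (tt N999 D1359) (tt N600 (iv D994)) (tt N1000 D1360) (tt N1001 D1361) (tt N774 F4288))
theorem Q776 : ∀ i, i < 776 → P i := stepQ 775 Q775 (allL N775 (tt N995 (iv F5702)) (tt N603 F4289) (tt N998 (iv F5715)) (tt N965 (iv F5594)) (tt N775 F4290) (tt N1001 (iv F5727)) (tt N775 F4291) (tt N600 (iv D995)) (tt N1002 D1362))
theorem Q777 : ∀ i, i < 777 → P i := stepQ 776 Q776 (allL N776 (tt N996 (iv F5705)) (tt N604 F4292) (tt N654 F4293) (tt N1000 (iv F5723)) (tt N609 F4294) (tt N776 F4295) (tt N601 (iv D996)) (tt N966 (iv F5600)) (tt N776 F4296))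
theorem Q778 : ∀ i, i < 778 → P i := stepQ 777 Q777 (allL N777 (tt N778 F38424) (tt N999 (iv F5718)) (tt N777 F4297) (tt N610 F4298) (tt N602 (iv D997)) (tt N777 F4299) (tt N715 (iv F38445)) (tt N1003 D1364) (tt N777 F4300))
theorem Q779 : ∀ i, i < 779 → P i := stepQ 778 Q778 (allL N778 (tt N777 (iv F38424)) (tt N1000 (iv F5722)) (tt N778 F4301) (tt N604 F4302) (tt N715 (iv F38444)) (tt N778 F4303) (tt N602 (iv D998)) (tt N1004 D1365) (tt N778 F4304))
theorem Q780 : ∀ i, i < 780 → P i := stepQ 779 Q779 (allL N779 (tt N915 (iv F5269)) (tt N1001 (iv F5726)) (tt N779 F4305) (tt N969 (iv F5604)) (tt N1003 (iv F5737)) (tt N603 F4306) (tt N1004 (iv F5741)) (tt N602 (iv D999)) (tt N1005 D1366))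
theorem Q781 : ∀ i, i < 781 → P i := stepQ 780 Q780 (allL N780 (tt N916 (iv F5272)) (tt N1002 (iv F5728)) (tt N780 F4307) (tt N970 (iv F5606)) (tt N780 F4308) (tt N1005 (iv F5743)) (tt N780 F4309) (tt N780 F4310) (tt N603 (iv D1000)))
theorem Q782 : ∀ i, i < 782 → P i := stepQ 781 Q781 (allL N781 (tt N607 F4311) (tt N783 F38179) (tt N781 F4312) (tt N606 F4313) (tt N1006 D1367) (tt N605 (iv D1001)) (tt N717 (iv F38231)) (tt N1007 D1369) (tt N781 F4314))
theorem Q783 : ∀ i, i < 783 → P i := stepQ 782 Q782 (allL N782 (tt N608 F4315) (tt N872 F38023) (tt N782 F4316) (tt N983 (iv F5660)) (tt N782 F4317) (tt N1007 (iv F5756)) (tt N683 F4318) (tt N605 (iv D1002)) (tt N1008 D1370))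
theorem Q784 : ∀ i, i < 784 → P i := stepQ 783 Q783 (allL N783 (tt N609 F4319) (tt N781 (iv F38179)) (tt N658 F4320) (tt N717 (iv F38230)) (tt N996 (iv F5707)) (tt N684 F4321) (tt N606 (iv D1003)) (tt N984 (iv F5665)) (tt N783 F4322))
theorem Q785 : ∀ i, i < 785 → P i := stepQ 784 Q784 (allL N784 (tt N1006 (iv F5745)) (tt N610 F4323) (tt N784 F4324) (tt N999 (iv F5719)) (tt N607 (iv D1004)) (tt N784 F4325) (tt N714 (iv F38315)) (tt N1009 D1372) (tt N784 F4326))
theorem Q786 : ∀ i, i < 786 → P i := stepQ 785 Q785 (allL N785 (tt N1007 (iv F5754)) (tt N611 F4332) (tt N785 F4333) (tt N989 (iv F5678)) (tt N1009 (iv F5768)) (tt N608 F4334) (tt N710 (iv F38200)) (tt N607 (iv D1006)) (tt N936 F38161))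
theorem Q787 : ∀ i, i < 787 → P i := stepQ 786 Q786 (allL N786 (tt N1008 (iv F5757)) (tt N612 F4335) (tt N786 F4336) (tt N990 (iv F5681)) (tt N786 F4337) (tt N936 (iv F38090)) (tt N667 (iv F38076)) (tt N786 F4339) (tt N608 (iv D1007)))
theorem Q788 : ∀ i, i < 788 → P i := stepQ 787 Q787 (allL N787 (tt N754 F38285) (tt N1009 (iv F5766)) (tt N613 F4343) (tt N1010 D1377) (tt N611 F4344) (tt N787 F4345) (tt N707 (iv F38326)) (tt N610 (iv D1009)) (tt N930 F38286))
theorem Q789 : ∀ i, i < 789 → P i := stepQ 788 Q788 (allL N788 (tt N743 F38420) (tt N788 F4360) (tt N1011 D1383) (tt N613 (iv D1014)) (tt N788 F4361) (tt N788 F4362) (tt N703 (iv F38467)) (tt N788 F4363) (tt N924 F38421))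
theorem Q790 : ∀ i, i < 790 → P i := stepQ 789 Q789 (allL N789 (tt N789 F4373) (tt N1012 D1385) (tt N614 (iv D1017)) (tt N615 F4374) (tt N1013 D1386) (tt N789 F4375) (tt N789 F4376) (tt N789 F4377) (tt N789 F4378))
theorem Q791 : ∀ i, i < 791 → P i := stepQ 790 Q790 (allL N790 (tt N790 F4379) (tt N790 F4380) (tt N1013 (iv F5820)) (tt N790 F4381) (tt N614 (iv D1018)) (tt N1014 D1387) (tt N790 F4382) (tt N790 F4383) (tt N790 F4384))
theorem Q792 : ∀ i, i < 792 → P i := stepQ 791 Q791 (allL N791 (tt N1015 D1388) (tt N615 (iv D1019)) (tt N941 (iv F5494)) (tt N1012 (iv F5814)) (tt N1016 D1389) (tt N791 F4385) (tt N791 F4386) (tt N617 F4387) (tt N791 F4388))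
theorem Q793 : ∀ i, i < 793 → P i := stepQ 792 Q792 (allL N792 (tt N792 F4389) (tt N1016 (iv F5835)) (tt N616 F4390) (tt N1017 D1390) (tt N615 (iv D1020)) (tt N1018 D1391) (tt N792 F4391) (tt N618 F4392) (tt N792 F4393))
theorem Q794 : ∀ i, i < 794 → P i := stepQ 793 Q793 (allL N793 (tt N793 F4394) (tt N943 (iv F5506)) (tt N1018 (iv F5844)) (tt N793 F4395) (tt N793 F4396) (tt N616 (iv D1021)) (tt N1019 D1392) (tt N619 F4397) (tt N793 F4398))
theorem Q795 : ∀ i, i < 795 → P i := stepQ 794 Q794 (allL N794 (tt N617 (iv D1022)) (tt N794 F4399) (tt N944 (iv F5512)) (tt N794 F4400) (tt N1020 D1393) (tt N794 F4401) (tt N794 F4402) (tt N1015 (iv F5833)) (tt N620 F4403))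
theorem Q796 : ∀ i, i < 796 → P i := stepQ 795 Q795 (allL N795 (tt N1020 (iv F5854)) (tt N618 F4404) (tt N945 (iv F5518)) (tt N1021 D1394) (tt N617 (iv D1023)) (tt N1022 D1395) (tt N795 F4405) (tt N1016 (iv F5837)) (tt N621 F4406))
theorem Q797 : ∀ i, i < 797 → P i := stepQ 796 Q796 (allL N796 (tt N796 F4407) (tt N1021 (iv F5858)) (tt N627 F4408) (tt N618 (iv D1024)) (tt N796 F4409) (tt N1023 D1396) (tt N796 F4410) (tt N1024 D1397) (tt N622 F4411))
theorem Q798 : ∀ i, i < 798 → P i := stepQ 797 Q797 (allL N797 (tt N797 F4412) (tt N1022 (iv F5862)) (tt N619 F4413) (tt N1023 (iv F5867)) (tt N797 F4414) (tt N618 (iv D1025)) (tt N1025 D1398) (tt N1018 (iv F5846)) (tt N623 F4415))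
theorem Q799 : ∀ i, i < 799 → P i := stepQ 798 Q798 (allL N798 (tt N798 F4416) (tt N948 (iv F5531)) (tt N1025 (iv F5874)) (tt N629 F4417) (tt N798 F4418) (tt N798 F4419) (tt N619 (iv D1026)) (tt N1019 (iv F5852)) (tt N624 F4420))
theorem Q800 : ∀ i, i < 800 → P i := stepQ 799 Q799 (allL N799 (tt N621 F4421) (tt N799 F4422) (tt N949 (iv F5537)) (tt N1026 D1399) (tt N620 (iv D1027)) (tt N1027 D1400) (tt N799 F4423) (tt N799 F4424) (tt N1020 (iv F5857)))
theorem Q801 : ∀ i, i < 801 → P i := stepQ 800 Q800 (allL N800 (tt N1026 (iv F5878)) (tt N622 F4425) (tt N1028 D1401) (tt N621 (iv D1028)) (tt N800 F4426) (tt N1029 D1402) (tt N800 F4427) (tt N1030 D1403) (tt N1021 (iv F5861)))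
theorem Q802 : ∀ i, i < 802 → P i := stepQ 801 Q801 (allL N801 (tt N1027 (iv F5882)) (tt N623 F4428) (tt N951 (iv F5543)) (tt N1029 (iv F5890)) (tt N801 F4429) (tt N621 (iv D1029)) (tt N1031 D1404) (tt N801 F4430) (tt N1022 (iv F5864)))
theorem Q803 : ∀ i, i < 803 → P i := stepQ 802 Q802 (allL N802 (tt N802 F4431) (tt N1029 (iv F5889)) (tt N633 F4432) (tt N623 F4433) (tt N1032 D1405) (tt N622 (iv D1030)) (tt N1033 D1406) (tt N1034 D1407) (tt N1023 (iv F5868)))
theorem Q804 : ∀ i, i < 804 → P i := stepQ 803 Q803 (allL N803 (tt N803 F4434) (tt N1030 (iv F5891)) (tt N634 F4435) (tt N803 F4436) (tt N803 F4437) (tt N1034 (iv F5910)) (tt N803 F4438) (tt N622 (iv D1031)) (tt N1035 D1408))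
theorem Q805 : ∀ i, i < 805 → P i := stepQ 804 Q804 (allL N804 (tt N804 F4439) (tt N1031 (iv F5895)) (tt N624 F4440) (tt N1033 (iv F5905)) (tt N804 F4441) (tt N804 F4442) (tt N623 (iv D1032)) (tt N804 F4443) (tt N1025 (iv F5877)))
theorem Q806 : ∀ i, i < 806 → P i := stepQ 805 Q805 (allL N805 (tt N626 F4444) (tt N805 F4445) (tt N955 (iv F5557)) (tt N1036 D1409) (tt N625 (iv D1033)) (tt N1037 D1410) (tt N805 F4446) (tt N805 F4447) (tt N630 F4448))
theorem Q807 : ∀ i, i < 807 → P i := stepQ 806 Q806 (allL N806 (tt N1036 (iv F5916)) (tt N627 F4449) (tt N1038 D1411) (tt N626 (iv D1034)) (tt N806 F4450) (tt N1039 D1412) (tt N806 F4451) (tt N1040 D1413) (tt N631 F4452))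
theorem Q808 : ∀ i, i < 808 → P i := stepQ 807 Q807 (allL N807 (tt N1037 (iv F5921)) (tt N628 F4453) (tt N957 (iv F5566)) (tt N1039 (iv F5930)) (tt N638 F4454) (tt N626 (iv D1035)) (tt N1041 D1414) (tt N807 F4455) (tt N632 F4456))
theorem Q809 : ∀ i, i < 809 → P i := stepQ 808 Q808 (allL N808 (tt N808 F4457) (tt N1039 (iv F5929)) (tt N1023 (iv F5866)) (tt N628 F4458) (tt N1042 D1415) (tt N627 (iv D1036)) (tt N1043 D1416) (tt N1044 D1417) (tt N633 F4459))
theorem Q810 : ∀ i, i < 810 → P i := stepQ 809 Q809 (allL N809 (tt N809 F4460) (tt N1040 (iv F5932)) (tt N1024 (iv F5870)) (tt N809 F4461) (tt N809 F4462) (tt N1044 (iv F5951)) (tt N809 F4463) (tt N627 (iv D1037)) (tt N1045 D1418))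
theorem Q811 : ∀ i, i < 811 → P i := stepQ 810 Q810 (allL N810 (tt N810 F4464) (tt N1041 (iv F5936)) (tt N629 F4465) (tt N1043 (iv F5946)) (tt N641 F4466) (tt N810 F4467) (tt N628 (iv D1038)) (tt N810 F4468) (tt N635 F4469))
theorem Q812 : ∀ i, i < 812 → P i := stepQ 811 Q811 (allL N811 (tt N631 F4470) (tt N811 F4471) (tt N1046 D1419) (tt N630 (iv D1039)) (tt N811 F4472) (tt N1047 D1420) (tt N811 F4473) (tt N1048 D1421) (tt N1036 (iv F5920)))
theorem Q813 : ∀ i, i < 813 → P i := stepQ 812 Q812 (allL N812 (tt N632 F4474) (tt N812 F4475) (tt N962 (iv F5586)) (tt N1047 (iv F5962)) (tt N643 F4476) (tt N630 (iv D1040)) (tt N1049 D1422) (tt N650 F4477) (tt N1037 (iv F5925)))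
theorem Q814 : ∀ i, i < 814 → P i := stepQ 813 Q813 (allL N813 (tt N1046 (iv F5957)) (tt N1028 (iv F5886)) (tt N631 (iv D1041)) (tt N963 (iv F5589)) (tt N813 F4478) (tt N1050 D1423) (tt N813 F4479) (tt N1051 D1424) (tt N1038 (iv F5928)))
theorem Q815 : ∀ i, i < 815 → P i := stepQ 814 Q814 (allL N814 (tt N1047 (iv F5960)) (tt N633 F4480) (tt N1050 (iv F5973)) (tt N632 F4481) (tt N1052 D1425) (tt N631 (iv D1042)) (tt N1053 D1426) (tt N1054 D1427) (tt N1039 (iv F5931)))
theorem Q816 : ∀ i, i < 816 → P i := stepQ 815 Q815 (allL N815 (tt N1048 (iv F5963)) (tt N634 F4482) (tt N1051 (iv F5974)) (tt N653 F4483) (tt N815 F4484) (tt N1054 (iv F5985)) (tt N815 F4485) (tt N631 (iv D1043)) (tt N1055 D1428))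
theorem Q817 : ∀ i, i < 817 → P i := stepQ 816 Q816 (allL N816 (tt N1049 (iv F5968)) (tt N635 F4486) (tt N966 (iv F5597)) (tt N1053 (iv F5981)) (tt N646 F4487) (tt N816 F4488) (tt N632 (iv D1044)) (tt N654 F4489) (tt N1041 (iv F5940)))
theorem Q818 : ∀ i, i < 818 → P i := stepQ 817 Q817 (allL N817 (tt N817 F4490) (tt N1052 (iv F5977)) (tt N1032 (iv F5900)) (tt N647 F4491) (tt N633 (iv D1045)) (tt N817 F4492) (tt N1056 D1429) (tt N1057 D1430) (tt N1042 (iv F5944)))
theorem Q819 : ∀ i, i < 819 → P i := stepQ 818 Q818 (allL N818 (tt N818 F4493) (tt N1053 (iv F5980)) (tt N1033 (iv F5904)) (tt N635 F4494) (tt N1056 (iv F5992)) (tt N818 F4495) (tt N633 (iv D1046)) (tt N1058 D1431) (tt N1043 (iv F5948)))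
theorem Q820 : ∀ i, i < 820 → P i := stepQ 819 Q819 (allL N819 (tt N819 F4496) (tt N1054 (iv F5983)) (tt N1034 (iv F5908)) (tt N656 F4497) (tt N1057 (iv F5995)) (tt N634 F4498) (tt N1058 (iv F6000)) (tt N633 (iv D1047)) (tt N1059 D1432))
theorem Q821 : ∀ i, i < 821 → P i := stepQ 820 Q820 (allL N820 (tt N820 F4499) (tt N1055 (iv F5986)) (tt N1035 (iv F5912)) (tt N657 F4500) (tt N820 F4501) (tt N1059 (iv F6003)) (tt N820 F4502) (tt N1045 (iv F5956)) (tt N634 (iv D1048)))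
theorem Q822 : ∀ i, i < 822 → P i := stepQ 821 Q821 (allL N821 (tt N637 F4503) (tt N821 F4504) (tt N1060 D1433) (tt N636 (iv D1049)) (tt N821 F4505) (tt N1061 D1434) (tt N685 F4506) (tt N1062 D1435) (tt N642 F4507))
theorem Q823 : ∀ i, i < 823 → P i := stepQ 822 Q822 (allL N822 (tt N638 F4508) (tt N822 F4509) (tt N972 (iv F5615)) (tt N1061 (iv F6010)) (tt N1037 (iv F5923)) (tt N636 (iv D1050)) (tt N1063 D1436) (tt N822 F4510) (tt N643 F4511))
theorem Q824 : ∀ i, i < 824 → P i := stepQ 823 Q823 (allL N823 (tt N1060 (iv F6004)) (tt N823 F4512) (tt N637 (iv D1051)) (tt N973 (iv F5619)) (tt N823 F4513) (tt N1064 D1437) (tt N687 F4514) (tt N1065 D1438) (tt N644 F4515))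
theorem Q825 : ∀ i, i < 825 → P i := stepQ 824 Q824 (allL N824 (tt N1061 (iv F6008)) (tt N639 F4516) (tt N1064 (iv F6024)) (tt N638 F4517) (tt N1066 D1439) (tt N637 (iv D1052)) (tt N1067 D1440) (tt N1068 D1441) (tt N645 F4518))
theorem Q826 : ∀ i, i < 826 → P i := stepQ 825 Q825 (allL N825 (tt N1062 (iv F6012)) (tt N640 F4519) (tt N1065 (iv F6027)) (tt N825 F4520) (tt N825 F4521) (tt N1068 (iv F6040)) (tt N689 F4522) (tt N637 (iv D1053)) (tt N825 F4523))
theorem Q827 : ∀ i, i < 827 → P i := stepQ 826 Q826 (allL N826 (tt N1063 (iv F6018)) (tt N641 F4524) (tt N976 (iv F5631)) (tt N1067 (iv F6035)) (tt N1041 (iv F5937)) (tt N690 F4525) (tt N638 (iv D1054)) (tt N826 F4526) (tt N646 F4527))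
theorem Q828 : ∀ i, i < 828 → P i := stepQ 827 Q827 (allL N827 (tt N827 F4528) (tt N1066 (iv F6031)) (tt N827 F4529) (tt N1042 (iv F5942)) (tt N639 (iv D1055)) (tt N827 F4530) (tt N1069 D1442) (tt N1070 D1443) (tt N647 F4531))
theorem Q829 : ∀ i, i < 829 → P i := stepQ 828 Q828 (allL N828 (tt N828 F4532) (tt N1067 (iv F6034)) (tt N828 F4533) (tt N641 F4534) (tt N1069 (iv F6044)) (tt N692 F4535) (tt N639 (iv D1056)) (tt N1071 D1444) (tt N648 F4536))
theorem Q830 : ∀ i, i < 830 → P i := stepQ 829 Q829 (allL N829 (tt N829 F4537) (tt N1068 (iv F6038)) (tt N829 F4538) (tt N829 F4539) (tt N1070 (iv F6048)) (tt N640 F4540) (tt N1071 (iv F6055)) (tt N639 (iv D1057)) (tt N829 F4541))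
theorem Q831 : ∀ i, i < 831 → P i := stepQ 830 Q830 (allL N830 (tt N644 F4542) (tt N1072 D1445) (tt N642 (iv D1058)) (tt N981 (iv F5655)) (tt N830 F4543) (tt N1073 D1446) (tt N694 F4544) (tt N830 F4545) (tt N1060 (iv F6007)))
theorem Q832 : ∀ i, i < 832 → P i := stepQ 831 Q831 (allL N831 (tt N645 F4546) (tt N831 F4547) (tt N1073 (iv F6063)) (tt N643 F4548) (tt N1074 D1447) (tt N642 (iv D1059)) (tt N1075 D1448) (tt N831 F4549) (tt N1061 (iv F6011)))
theorem Q833 : ∀ i, i < 833 → P i := stepQ 832 Q832 (allL N832 (tt N646 F4550) (tt N832 F4551) (tt N984 (iv F5663)) (tt N1075 (iv F6071)) (tt N1049 (iv F5970)) (tt N696 F4552) (tt N643 (iv D1060)) (tt N658 F4553) (tt N1063 (iv F6022)))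
theorem Q834 : ∀ i, i < 834 → P i := stepQ 833 Q833 (allL N833 (tt N1073 (iv F6062)) (tt N833 F4554) (tt N645 F4555) (tt N985 (iv F5668)) (tt N1076 D1449) (tt N644 (iv D1061)) (tt N1077 D1450) (tt N833 F4556) (tt N1064 (iv F6025)))
theorem Q835 : ∀ i, i < 835 → P i := stepQ 834 Q834 (allL N834 (tt N1074 (iv F6065)) (tt N647 F4557) (tt N1076 (iv F6075)) (tt N1052 (iv F5978)) (tt N645 (iv D1062)) (tt N834 F4558) (tt N1078 D1451) (tt N834 F4559) (tt N1066 (iv F6033)))
theorem Q836 : ∀ i, i < 836 → P i := stepQ 835 Q835 (allL N835 (tt N1075 (iv F6069)) (tt N648 F4560) (tt N1077 (iv F6079)) (tt N646 F4561) (tt N1078 (iv F6083)) (tt N699 F4562) (tt N645 (iv D1063)) (tt N835 F4563) (tt N1067 (iv F6037)))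
theorem Q837 : ∀ i, i < 837 → P i := stepQ 836 Q836 (allL N836 (tt N836 F4564) (tt N1078 (iv F6082)) (tt N836 F4565) (tt N1056 (iv F5991)) (tt N648 F4566) (tt N1079 D1452) (tt N647 (iv D1064)) (tt N836 F4567) (tt N1069 (iv F6045)))
theorem Q838 : ∀ i, i < 838 → P i := stepQ 837 Q837 (allL N837 (tt N651 F4568) (tt N1080 D1453) (tt N649 (iv D1065)) (tt N993 (iv F5695)) (tt N659 F4569) (tt N1081 D1454) (tt N837 F4570) (tt N1082 D1455) (tt N837 F4571))
theorem Q839 : ∀ i, i < 839 → P i := stepQ 838 Q838 (allL N838 (tt N652 F4572) (tt N838 F4573) (tt N1081 (iv F6096)) (tt N650 F4574) (tt N838 F4575) (tt N649 (iv D1066)) (tt N1083 D1456) (tt N1084 D1457) (tt N838 F4576))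
theorem Q840 : ∀ i, i < 840 → P i := stepQ 839 Q839 (allL N839 (tt N653 F4577) (tt N839 F4578) (tt N1082 (iv F6100)) (tt N1048 (iv F5965)) (tt N660 F4579) (tt N1084 (iv F6112)) (tt N839 F4580) (tt N649 (iv D1067)) (tt N1085 D1458))
theorem Q841 : ∀ i, i < 841 → P i := stepQ 840 Q840 (allL N840 (tt N654 F4581) (tt N840 F4582) (tt N996 (iv F5706)) (tt N1083 (iv F6105)) (tt N658 F4583) (tt N840 F4584) (tt N650 (iv D1068)) (tt N1049 (iv F5972)) (tt N840 F4585))
theorem Q842 : ∀ i, i < 842 → P i := stepQ 841 Q841 (allL N841 (tt N1081 (iv F6095)) (tt N841 F4586) (tt N652 F4587) (tt N997 (iv F5712)) (tt N841 F4588) (tt N651 (iv D1069)) (tt N1086 D1459) (tt N1087 D1460) (tt N841 F4589))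
theorem Q843 : ∀ i, i < 843 → P i := stepQ 842 Q842 (allL N842 (tt N1082 (iv F6099)) (tt N842 F4590) (tt N653 F4591) (tt N1088 D1461) (tt N661 F4592) (tt N1087 (iv F6126)) (tt N842 F4593) (tt N651 (iv D1070)) (tt N1089 D1462))
theorem Q844 : ∀ i, i < 844 → P i := stepQ 843 Q843 (allL N843 (tt N1083 (iv F6103)) (tt N655 F4594) (tt N1086 (iv F6119)) (tt N654 F4595) (tt N843 F4596) (tt N843 F4597) (tt N652 (iv D1071)) (tt N1090 D1463) (tt N843 F4598))
theorem Q845 : ∀ i, i < 845 → P i := stepQ 844 Q844 (allL N844 (tt N1084 (iv F6109)) (tt N656 F4599) (tt N1087 (iv F6124)) (tt N1054 (iv F5984)) (tt N844 F4600) (tt N653 F4601) (tt N1090 (iv F6137)) (tt N652 (iv D1072)) (tt N1091 D1464))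
theorem Q846 : ∀ i, i < 846 → P i := stepQ 845 Q845 (allL N845 (tt N1085 (iv F6113)) (tt N657 F4602) (tt N1089 (iv F6130)) (tt N1055 (iv F5987)) (tt N662 F4603) (tt N1091 (iv F6140)) (tt N845 F4604) (tt N845 F4605) (tt N653 (iv D1073)))
theorem Q847 : ∀ i, i < 847 → P i := stepQ 846 Q846 (allL N846 (tt N846 F4606) (tt N1090 (iv F6134)) (tt N846 F4607) (tt N1058 (iv F5998)) (tt N846 F4608) (tt N846 F4609) (tt N656 F4610) (tt N655 (iv D1074)) (tt N1092 D1465))
theorem Q848 : ∀ i, i < 848 → P i := stepQ 847 Q847 (allL N847 (tt N847 F4611) (tt N1091 (iv F6138)) (tt N847 F4612) (tt N1059 (iv F6002)) (tt N847 F4613) (tt N657 F4614) (tt N1092 (iv F6146)) (tt N847 F4615) (tt N656 (iv D1075)))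
theorem Q849 : ∀ i, i < 849 → P i := stepQ 848 Q848 (allL N848 (tt N848 F4616) (tt N659 (iv D1076)) (tt N848 F4617) (tt N848 F4618) (tt N1080 (iv F6092)) (tt N848 F4619) (tt N848 F4620) (tt N1093 D1466) (tt N848 F4621))
theorem Q850 : ∀ i, i < 850 → P i := stepQ 849 Q849 (allL N849 (tt N661 F4622) (tt N1093 (iv F6149)) (tt N660 F4623) (tt N1094 D1467) (tt N1082 (iv F6101)) (tt N849 F4624) (tt N849 F4625) (tt N659 (iv D1077)) (tt N1095 D1468))
theorem Q851 : ∀ i, i < 851 → P i := stepQ 850 Q850 (allL N850 (tt N662 F4626) (tt N850 F4627) (tt N1095 (iv F6159)) (tt N850 F4628) (tt N1085 (iv F6115)) (tt N850 F4629) (tt N850 F4630) (tt N850 F4631) (tt N660 (iv D1078)))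
theorem Q852 : ∀ i, i < 852 → P i := stepQ 851 Q851 (allL N851 (tt N1094 (iv F6153)) (tt N851 F4632) (tt N851 F4633) (tt N661 (iv D1079)) (tt N1096 D1469) (tt N851 F4634) (tt N851 F4635) (tt N851 F4636) (tt N1097 D1470))
theorem Q853 : ∀ i, i < 853 → P i := stepQ 852 Q852 (allL N852 (tt N1095 (iv F6158)) (tt N852 F4637) (tt N662 F4638) (tt N1097 (iv F6169)) (tt N1089 (iv F6131)) (tt N852 F4639) (tt N852 F4640) (tt N852 F4641) (tt N661 (iv D1080)))
theorem Q854 : ∀ i, i < 854 → P i := stepQ 853 Q853 (allL N853 (tt N664 F4642) (tt N676 F4643) (tt N1098 D1471) (tt N663 (iv D1081)) (tt N862 (iv F4818)) (tt N871 F37916) (tt N905 (iv F5202)) (tt N870 F37917) (tt N855 (iv F4781)))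
theorem Q855 : ∀ i, i < 855 → P i := stepQ 854 Q854 (allL N854 (tt N1098 (iv F6172)) (tt N854 F4649) (tt N664 (iv D1083)) (tt N854 F4650) (tt N864 (iv F4828)) (tt N874 F37898) (tt N907 (iv F5209)) (tt N873 F37899) (tt N857 (iv F4790)))
theorem Q856 : ∀ i, i < 856 → P i := stepQ 855 Q855 (allL N855 (tt N666 F4779) (tt N862 (iv F4817)) (tt N1099 D1523) (tt N665 (iv D1119)) (tt N676 F4780) (tt N1100 D1524) (tt N931 (iv F5456)) (tt N1101 D1525) (tt N853 F4781))
theorem Q857 : ∀ i, i < 857 → P i := stepQ 856 Q856 (allL N856 (tt N667 F4782) (tt N863 (iv F4821)) (tt N856 F4783) (tt N1100 (iv F6368)) (tt N856 F4784) (tt N665 (iv D1120)) (tt N1008 F38005) (tt N856 F4785) (tt N683 F38006))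
theorem Q858 : ∀ i, i < 858 → P i := stepQ 857 Q857 (allL N857 (tt N1099 (iv F6363)) (tt N857 F4787) (tt N666 (iv D1121)) (tt N857 F4788) (tt N678 F4789) (tt N1102 D1527) (tt N933 (iv F5465)) (tt N1103 D1528) (tt N854 F4790))
theorem Q859 : ∀ i, i < 859 → P i := stepQ 858 Q858 (allL N858 (tt N1100 (iv F6367)) (tt N668 F4791) (tt N1102 (iv F6379)) (tt N667 F4792) (tt N1104 D1529) (tt N666 (iv D1122)) (tt N990 F37986) (tt N1105 D1531) (tt N680 F37987))
theorem Q860 : ∀ i, i < 860 → P i := stepQ 859 Q859 (allL N859 (tt N1101 (iv F6370)) (tt N669 F4794) (tt N1103 (iv F6383)) (tt N859 F4795) (tt N680 F4796) (tt N1105 (iv F6394)) (tt N935 (iv F5473)) (tt N666 (iv D1123)) (tt N1104 (iv F37913)))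
theorem Q861 : ∀ i, i < 861 → P i := stepQ 860 Q860 (allL N860 (tt N861 (iv F37911)) (tt N1104 (iv F6385)) (tt N860 F4802) (tt N860 F4803) (tt N668 (iv D1125)) (tt N674 (iv F37904)) (tt N940 (iv F38083)) (tt N673 (iv F37901)) (tt N669 F37996))
theorem Q862 : ∀ i, i < 862 → P i := stepQ 861 Q861 (allL N861 (tt N860 F37911) (tt N1105 (iv F6392)) (tt N861 F4809) (tt N861 F4810) (tt N673 F37912) (tt N669 F4811) (tt N980 (iv F38007)) (tt N668 (iv D1127)) (tt N674 (iv F37994)))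
theorem Q863 : ∀ i, i < 863 → P i := stepQ 862 Q862 (allL N862 (tt N671 F4816) (tt N855 F4817) (tt N1106 D1537) (tt N670 (iv D1129)) (tt N853 F4818) (tt N1107 D1538) (tt N971 (iv F5611)) (tt N1108 D1539) (tt N676 F4819))
theorem Q864 : ∀ i, i < 864 → P i := stepQ 863 Q863 (allL N863 (tt N672 F4820) (tt N856 F4821) (tt N686 F4822) (tt N1107 (iv F6419)) (tt N863 F4823) (tt N670 (iv D1130)) (tt N1109 D1540) (tt N863 F4824) (tt N677 F4825))
theorem Q865 : ∀ i, i < 865 → P i := stepQ 864 Q864 (allL N864 (tt N1106 (iv F6413)) (tt N864 F4826) (tt N671 (iv D1131)) (tt N687 F4827) (tt N854 F4828) (tt N1110 D1541) (tt N973 (iv F5621)) (tt N1111 D1542) (tt N678 F4829))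
theorem Q866 : ∀ i, i < 866 → P i := stepQ 865 Q865 (allL N865 (tt N1107 (iv F6417)) (tt N673 F4830) (tt N1110 (iv F6432)) (tt N672 F4831) (tt N1105 (iv F37839)) (tt N671 (iv D1132)) (tt N1112 D1544) (tt N1104 F37823) (tt N679 F4832))
theorem Q867 : ∀ i, i < 867 → P i := stepQ 866 Q866 (allL N866 (tt N1108 (iv F6421)) (tt N674 F4833) (tt N1111 (iv F6436)) (tt N866 F4834) (tt N679 (iv F37905)) (tt N1104 F37826) (tt N975 (iv F5629)) (tt N671 (iv D1133)) (tt N1105 F37942))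
theorem Q868 : ∀ i, i < 868 → P i := stepQ 867 Q867 (allL N867 (tt N1109 (iv F6425)) (tt N675 F4836) (tt N690 F4837) (tt N1112 (iv F6443)) (tt N867 F4838) (tt N976 (iv F5632)) (tt N672 (iv D1134)) (tt N867 F4839) (tt N681 F4840))
theorem Q869 : ∀ i, i < 869 → P i := stepQ 868 Q868 (allL N868 (tt N770 F38084) (tt N1112 (iv F6442)) (tt N868 F4847) (tt N675 F4848) (tt N980 F38085) (tt N978 (iv F5642)) (tt N673 (iv D1136)) (tt N940 F38086) (tt N682 F4849))
theorem Q870 : ∀ i, i < 870 → P i := stepQ 869 Q869 (allL N869 (tt N678 F4859) (tt N1113 D1551) (tt N676 (iv D1139)) (tt N694 F4860) (tt N1099 (iv F6365)) (tt N1114 D1552) (tt N981 (iv F5656)) (tt N1115 D1553) (tt N1106 (iv F6416)))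
theorem Q871 : ∀ i, i < 871 → P i := stepQ 870 Q870 (allL N870 (tt N679 F4861) (tt N871 (iv F37841)) (tt N1114 (iv F6473)) (tt N677 F4862) (tt N1108 F37836) (tt N676 (iv D1140)) (tt N1116 D1555) (tt N853 (iv F37917)) (tt N1107 (iv F6420)))
theorem Q872 : ∀ i, i < 872 → P i := stepQ 871 Q871 (allL N871 (tt N680 F4863) (tt N870 F37841) (tt N1115 (iv F6476)) (tt N683 F4864) (tt N1101 (iv F6372)) (tt N853 (iv F37916)) (tt N983 (iv F5661)) (tt N676 (iv D1141)) (tt N1100 (iv F37925)))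
theorem Q873 : ∀ i, i < 873 → P i := stepQ 872 Q872 (allL N872 (tt N681 F4865) (tt N782 (iv F38023)) (tt N696 F4866) (tt N1116 (iv F6481)) (tt N872 F4867) (tt N984 (iv F5664)) (tt N677 (iv D1142)) (tt N684 F4868) (tt N1109 (iv F6430)))
theorem Q874 : ∀ i, i < 874 → P i := stepQ 873 Q873 (allL N873 (tt N1114 (iv F6472)) (tt N873 F4869) (tt N679 F4870) (tt N697 F4871) (tt N1111 F37827) (tt N678 (iv D1143)) (tt N1117 D1559) (tt N854 (iv F37899)) (tt N1110 (iv F6434)))
theorem Q875 : ∀ i, i < 875 → P i := stepQ 874 Q874 (allL N874 (tt N1115 (iv F6475)) (tt N874 F4872) (tt N680 F4873) (tt N874 F4874) (tt N1103 (iv F6384)) (tt N854 (iv F37898)) (tt N986 (iv F5672)) (tt N678 (iv D1144)) (tt N1102 (iv F37907)))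
theorem Q876 : ∀ i, i < 876 → P i := stepQ 875 Q875 (allL N875 (tt N1116 (iv F6480)) (tt N682 F4877) (tt N1117 (iv F6490)) (tt N681 F4878) (tt N975 F37984) (tt N988 (iv F5676)) (tt N679 (iv D1146)) (tt N709 (iv F38058)) (tt N1112 (iv F6444)))
theorem Q877 : ∀ i, i < 877 → P i := stepQ 876 Q876 (allL N876 (tt N687 F4961) (tt N1118 D1592) (tt N685 (iv D1171)) (tt N1106 (iv F6414)) (tt N876 F4962) (tt N1119 D1593) (tt N1060 (iv F6006)) (tt N1120 D1594) (tt N694 F4963))
theorem Q878 : ∀ i, i < 878 → P i := stepQ 877 Q877 (allL N877 (tt N688 F4964) (tt N877 F4965) (tt N1119 (iv F6605)) (tt N686 F4966) (tt N1121 D1595) (tt N685 (iv D1172)) (tt N1122 D1596) (tt N1123 D1597) (tt N695 F4967))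
theorem Q879 : ∀ i, i < 879 → P i := stepQ 878 Q878 (allL N878 (tt N689 F4968) (tt N878 F4969) (tt N1120 (iv F6608)) (tt N878 F4970) (tt N878 F4971) (tt N1123 (iv F6623)) (tt N1062 (iv F6016)) (tt N685 (iv D1173)) (tt N878 F4972))
theorem Q880 : ∀ i, i < 880 → P i := stepQ 879 Q879 (allL N879 (tt N690 F4973) (tt N879 F4974) (tt N1109 (iv F6427)) (tt N1122 (iv F6618)) (tt N879 F4975) (tt N1063 (iv F6020)) (tt N686 (iv D1174)) (tt N879 F4976) (tt N696 F4977))
theorem Q881 : ∀ i, i < 881 → P i := stepQ 880 Q880 (allL N880 (tt N1119 (iv F6604)) (tt N880 F4978) (tt N688 F4979) (tt N1110 (iv F6433)) (tt N1124 D1598) (tt N687 (iv D1175)) (tt N1125 D1599) (tt N1126 D1600) (tt N697 F4980))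
theorem Q882 : ∀ i, i < 882 → P i := stepQ 881 Q881 (allL N881 (tt N1120 (iv F6607)) (tt N881 F4981) (tt N689 F4982) (tt N1127 D1601) (tt N881 F4983) (tt N1126 (iv F6634)) (tt N1065 (iv F6029)) (tt N687 (iv D1176)) (tt N881 F4984))
theorem Q883 : ∀ i, i < 883 → P i := stepQ 882 Q882 (allL N882 (tt N1121 (iv F6611)) (tt N691 F4985) (tt N1124 (iv F6626)) (tt N882 F4986) (tt N688 (iv D1177)) (tt N882 F4987) (tt N1128 D1602) (tt N1129 D1603) (tt N698 F4988))
theorem Q884 : ∀ i, i < 884 → P i := stepQ 883 Q883 (allL N883 (tt N1122 (iv F6616)) (tt N692 F4989) (tt N1125 (iv F6630)) (tt N690 F4990) (tt N1128 (iv F6641)) (tt N1067 (iv F6036)) (tt N688 (iv D1178)) (tt N1130 D1604) (tt N699 F4991))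
theorem Q885 : ∀ i, i < 885 → P i := stepQ 884 Q884 (allL N884 (tt N1123 (iv F6620)) (tt N693 F4992) (tt N1126 (iv F6633)) (tt N884 F4993) (tt N1129 (iv F6644)) (tt N689 F4994) (tt N1130 (iv F6649)) (tt N688 (iv D1179)) (tt N884 F4995))
theorem Q886 : ∀ i, i < 886 → P i := stepQ 885 Q885 (allL N885 (tt N885 F4996) (tt N1128 (iv F6639)) (tt N885 F4997) (tt N885 F4998) (tt N692 F4999) (tt N1131 D1605) (tt N691 (iv D1180)) (tt N1132 D1606) (tt N700 F5000))
theorem Q887 : ∀ i, i < 887 → P i := stepQ 886 Q886 (allL N886 (tt N886 F5001) (tt N1129 (iv F6643)) (tt N886 F5002) (tt N1133 D1607) (tt N693 F5003) (tt N886 F5004) (tt N1132 (iv F6659)) (tt N691 (iv D1181)) (tt N886 F5005))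
theorem Q888 : ∀ i, i < 888 → P i := stepQ 887 Q887 (allL N887 (tt N887 F5006) (tt N1130 (iv F6647)) (tt N887 F5007) (tt N887 F5008) (tt N1132 (iv F6658)) (tt N1071 (iv F6054)) (tt N693 F5009) (tt N692 (iv D1182)) (tt N887 F5010))
theorem Q889 : ∀ i, i < 889 → P i := stepQ 888 Q888 (allL N888 (tt N888 F5011) (tt N694 (iv D1183)) (tt N888 F5012) (tt N1113 (iv F6471)) (tt N888 F5013) (tt N1134 D1608) (tt N1072 (iv F6060)) (tt N888 F5014) (tt N1118 (iv F6603)))
theorem Q890 : ∀ i, i < 890 → P i := stepQ 889 Q889 (allL N889 (tt N697 F5015) (tt N1134 (iv F6667)) (tt N695 F5016) (tt N1114 (iv F6474)) (tt N1135 D1609) (tt N694 (iv D1184)) (tt N1136 D1610) (tt N889 F5017) (tt N1119 (iv F6606)))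
theorem Q891 : ∀ i, i < 891 → P i := stepQ 890 Q890 (allL N890 (tt N698 F5018) (tt N890 F5019) (tt N1135 (iv F6671)) (tt N890 F5020) (tt N695 (iv D1185)) (tt N890 F5021) (tt N1137 D1611) (tt N890 F5022) (tt N1121 (iv F6615)))
theorem Q892 : ∀ i, i < 892 → P i := stepQ 891 Q891 (allL N891 (tt N699 F5023) (tt N891 F5024) (tt N1136 (iv F6675)) (tt N696 F5025) (tt N1137 (iv F6680)) (tt N1075 (iv F6072)) (tt N695 (iv D1186)) (tt N891 F5026) (tt N1122 (iv F6619)))
theorem Q893 : ∀ i, i < 893 → P i := stepQ 892 Q892 (allL N892 (tt N1135 (iv F6670)) (tt N892 F5027) (tt N698 F5028) (tt N1138 D1612) (tt N697 (iv D1187)) (tt N892 F5029) (tt N1139 D1613) (tt N892 F5030) (tt N1124 (iv F6628)))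
theorem Q894 : ∀ i, i < 894 → P i := stepQ 893 Q893 (allL N893 (tt N1136 (iv F6674)) (tt N893 F5031) (tt N699 F5032) (tt N1117 (iv F6491)) (tt N1139 (iv F6687)) (tt N1077 (iv F6080)) (tt N697 (iv D1188)) (tt N893 F5033) (tt N1125 (iv F6631)))
theorem Q895 : ∀ i, i < 895 → P i := stepQ 894 Q894 (allL N894 (tt N1137 (iv F6677)) (tt N700 F5034) (tt N1139 (iv F6686)) (tt N894 F5035) (tt N699 F5036) (tt N1140 D1614) (tt N698 (iv D1189)) (tt N894 F5037) (tt N1128 (iv F6642)))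
theorem Q896 : ∀ i, i < 896 → P i := stepQ 895 Q895 (allL N895 (tt N895 F5038) (tt N1140 (iv F6689)) (tt N895 F5039) (tt N895 F5040) (tt N1079 (iv F6087)) (tt N700 (iv D1190)) (tt N895 F5041) (tt N895 F5042) (tt N1131 (iv F6655)))
theorem Q897 : ∀ i, i < 897 → P i := stepQ 896 Q896 (allL N896 (tt N701 (iv D1216)) (tt N739 F5157) (tt N896 F5158) (tt N944 (iv F5513)) (tt N1141 D1649) (tt N896 F5159) (tt N896 F5160) (tt N896 F5161) (tt N920 (iv F5413)))
theorem Q898 : ∀ i, i < 898 → P i := stepQ 897 Q897 (allL N897 (tt N1141 (iv F6846)) (tt N702 F5162) (tt N897 F5163) (tt N1142 D1650) (tt N701 (iv D1217)) (tt N1143 D1651) (tt N897 F5164) (tt N897 F5165) (tt N921 (iv F5417)))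
theorem Q899 : ∀ i, i < 899 → P i := stepQ 898 Q898 (allL N898 (tt N741 F5166) (tt N1142 (iv F6851)) (tt N706 F5167) (tt N702 (iv D1218)) (tt N946 (iv F5523)) (tt N1144 D1652) (tt N898 F5168) (tt N1145 D1653) (tt N922 (iv F5421)))
theorem Q900 : ∀ i, i < 900 → P i := stepQ 899 Q899 (allL N899 (tt N742 F5169) (tt N1143 (iv F6853)) (tt N703 F5170) (tt N1144 (iv F6859)) (tt N899 F5171) (tt N702 (iv D1219)) (tt N1011 F38506) (tt N899 F5172) (tt N923 (iv F5424)))
theorem Q901 : ∀ i, i < 901 → P i := stepQ 900 Q900 (allL N900 (tt N705 F5179) (tt N749 F5180) (tt N900 F5181) (tt N1146 D1655) (tt N704 (iv D1221)) (tt N1147 D1656) (tt N900 F5182) (tt N712 F5183) (tt N925 (iv F5434)))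
theorem Q902 : ∀ i, i < 902 → P i := stepQ 901 Q901 (allL N901 (tt N1146 (iv F6869)) (tt N706 F5184) (tt N1148 D1657) (tt N705 (iv D1222)) (tt N956 (iv F5562)) (tt N1149 D1658) (tt N901 F5185) (tt N1150 D1659) (tt N926 (iv F5438)))
theorem Q903 : ∀ i, i < 903 → P i := stepQ 902 Q902 (allL N902 (tt N1147 (iv F6872)) (tt N707 F5186) (tt N902 F5187) (tt N1149 (iv F6880)) (tt N710 F5188) (tt N705 (iv D1223)) (tt N1009 F38260) (tt N714 F5189) (tt N927 (iv F5443)))
theorem Q904 : ∀ i, i < 904 → P i := stepQ 903 Q903 (allL N903 (tt N752 F5190) (tt N1149 (iv F6879)) (tt N1144 (iv F6858)) (tt N707 F5191) (tt N1151 D1661) (tt N706 (iv D1224)) (tt N1010 F38380) (tt N1152 D1663) (tt N928 (iv F5445)))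
theorem Q905 : ∀ i, i < 905 → P i := stepQ 904 Q904 (allL N904 (tt N753 F5192) (tt N1150 (iv F6881)) (tt N1145 (iv F6861)) (tt N716 F5193) (tt N959 (iv F5575)) (tt N1152 (iv F6896)) (tt N904 F5194) (tt N706 (iv D1225)) (tt N1153 D1664))
theorem Q906 : ∀ i, i < 906 → P i := stepQ 905 Q905 (allL N905 (tt N709 F5200) (tt N761 F5201) (tt N1154 D1665) (tt N708 (iv D1227)) (tt N971 (iv F5610)) (tt N1155 D1666) (tt N853 F5202) (tt N1116 F37997) (tt N931 (iv F5457)))
theorem Q907 : ∀ i, i < 907 → P i := stepQ 906 Q906 (allL N906 (tt N710 F5203) (tt N762 F5204) (tt N906 F5205) (tt N1155 (iv F6905)) (tt N1147 (iv F6875)) (tt N708 (iv D1228)) (tt N1007 F38164) (tt N717 F5206) (tt N932 (iv F5461)))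
theorem Q908 : ∀ i, i < 908 → P i := stepQ 907 Q907 (allL N907 (tt N1154 (iv F6900)) (tt N907 F5207) (tt N709 (iv D1229)) (tt N907 F5208) (tt N973 (iv F5620)) (tt N1156 D1669) (tt N854 F5209) (tt N1117 F37975) (tt N933 (iv F5466)))
theorem Q909 : ∀ i, i < 909 → P i := stepQ 908 Q908 (allL N908 (tt N1155 (iv F6903)) (tt N711 F5210) (tt N1156 (iv F6916)) (tt N710 F5211) (tt N1157 D1671) (tt N709 (iv D1230)) (tt N989 F38132) (tt N988 F38133) (tt N934 (iv F5469)))
theorem Q910 : ∀ i, i < 910 → P i := stepQ 909 Q909 (allL N909 (tt N767 F5219) (tt N1157 (iv F6921)) (tt N909 F5220) (tt N1151 (iv F6890)) (tt N711 (iv D1233)) (tt N977 (iv F5637)) (tt N992 F38253) (tt N991 F38254) (tt N937 (iv F5481)))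
theorem Q911 : ∀ i, i < 911 → P i := stepQ 910 Q910 (allL N910 (tt N713 F5233) (tt N771 F5234) (tt N1158 D1679) (tt N712 (iv D1237)) (tt N910 F5235) (tt N1159 D1680) (tt N910 F5236) (tt N1160 D1681) (tt N910 F5237))
theorem Q912 : ∀ i, i < 912 → P i := stepQ 911 Q911 (allL N911 (tt N714 F5238) (tt N772 F5239) (tt N911 F5240) (tt N1159 (iv F6953)) (tt N717 F5241) (tt N712 (iv D1238)) (tt N1006 F38291) (tt N1147 (iv F6876)) (tt N911 F5242))
theorem Q913 : ∀ i, i < 913 → P i := stepQ 912 Q912 (allL N912 (tt N1158 (iv F6946)) (tt N912 F5243) (tt N713 (iv D1239)) (tt N912 F5244) (tt N912 F5245) (tt N1161 D1683) (tt N912 F5246) (tt N1162 D1684) (tt N912 F5247))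
theorem Q914 : ∀ i, i < 914 → P i := stepQ 913 Q913 (allL N913 (tt N1159 (iv F6951)) (tt N715 F5248) (tt N1161 (iv F6966)) (tt N714 F5249) (tt N1000 F38377) (tt N713 (iv D1240)) (tt N999 F38378) (tt N1163 D1687) (tt N913 F5250))
theorem Q915 : ∀ i, i < 915 → P i := stepQ 914 Q914 (allL N914 (tt N1160 (iv F6955)) (tt N716 F5251) (tt N1162 (iv F6970)) (tt N1150 (iv F6882)) (tt N914 F5252) (tt N1163 (iv F6982)) (tt N914 F5253) (tt N713 (iv D1241)) (tt N1164 D1688))
theorem Q916 : ∀ i, i < 916 → P i := stepQ 915 Q915 (allL N915 (tt N779 F5269) (tt N1163 (iv F6981)) (tt N915 F5270) (tt N1152 (iv F6895)) (tt N1004 F38497) (tt N716 F5271) (tt N1003 F38498) (tt N715 (iv D1245)) (tt N1165 D1692))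
theorem Q917 : ∀ i, i < 917 → P i := stepQ 916 Q916 (allL N916 (tt N780 F5272) (tt N1164 (iv F6983)) (tt N916 F5273) (tt N1153 (iv F6898)) (tt N916 F5274) (tt N1165 (iv F7002)) (tt N916 F5275) (tt N916 F5276) (tt N716 (iv D1246)))
theorem Q918 : ∀ i, i < 918 → P i := stepQ 917 Q917 (allL N917 (tt N1166 D1731) (tt N718 (iv D1275)) (tt N917 F5394) (tt N917 F5395) (tt N1167 D1732) (tt N917 F5396) (tt N917 F5397) (tt N720 F5398) (tt N917 F5399))
theorem Q919 : ∀ i, i < 919 → P i := stepQ 918 Q918 (allL N918 (tt N942 (iv F5500)) (tt N1167 (iv F7170)) (tt N719 F5400) (tt N1168 D1733) (tt N718 (iv D1276)) (tt N1169 D1734) (tt N918 F5401) (tt N721 F5402) (tt N918 F5403))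
theorem Q920 : ∀ i, i < 920 → P i := stepQ 919 Q919 (allL N919 (tt N943 (iv F5505)) (tt N919 F5404) (tt N1169 (iv F7179)) (tt N919 F5405) (tt N919 F5406) (tt N719 (iv D1277)) (tt N1170 D1735) (tt N722 F5407) (tt N919 F5408))
theorem Q921 : ∀ i, i < 921 → P i := stepQ 920 Q920 (allL N920 (tt N720 (iv D1278)) (tt N944 (iv F5511)) (tt N920 F5409) (tt N739 F5410) (tt N1171 D1736) (tt N920 F5411) (tt N920 F5412) (tt N1166 (iv F7168)) (tt N896 F5413))
theorem Q922 : ∀ i, i < 922 → P i := stepQ 921 Q921 (allL N921 (tt N1171 (iv F7189)) (tt N721 F5414) (tt N921 F5415) (tt N1172 D1737) (tt N720 (iv D1279)) (tt N1173 D1738) (tt N921 F5416) (tt N1167 (iv F7173)) (tt N897 F5417))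
theorem Q923 : ∀ i, i < 923 → P i := stepQ 922 Q922 (allL N922 (tt N946 (iv F5521)) (tt N1172 (iv F7193)) (tt N725 F5418) (tt N721 (iv D1280)) (tt N741 F5419) (tt N1174 D1739) (tt N922 F5420) (tt N1175 D1740) (tt N898 F5421))
theorem Q924 : ∀ i, i < 924 → P i := stepQ 923 Q923 (allL N923 (tt N947 (iv F5526)) (tt N1173 (iv F7197)) (tt N722 F5422) (tt N1174 (iv F7202)) (tt N923 F5423) (tt N721 (iv D1281)) (tt N1176 D1741) (tt N1169 (iv F7181)) (tt N899 F5424))
theorem Q925 : ∀ i, i < 925 → P i := stepQ 924 Q924 (allL N924 (tt N948 (iv F5530)) (tt N924 F5425) (tt N1176 (iv F7207)) (tt N727 F5426) (tt N924 F5427) (tt N924 F5428) (tt N722 (iv D1282)) (tt N1170 (iv F7187)) (tt N788 (iv F38421)))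
theorem Q926 : ∀ i, i < 926 → P i := stepQ 925 Q925 (allL N925 (tt N724 F5430) (tt N955 (iv F5556)) (tt N925 F5431) (tt N1177 D1742) (tt N723 (iv D1283)) (tt N1178 D1743) (tt N925 F5432) (tt N925 F5433) (tt N900 F5434))
theorem Q927 : ∀ i, i < 927 → P i := stepQ 926 Q926 (allL N926 (tt N1177 (iv F7211)) (tt N725 F5435) (tt N1179 D1744) (tt N724 (iv D1284)) (tt N750 F5436) (tt N1180 D1745) (tt N926 F5437) (tt N1181 D1746) (tt N901 F5438))
theorem Q928 : ∀ i, i < 928 → P i := stepQ 927 Q927 (allL N927 (tt N1178 (iv F7215)) (tt N726 F5439) (tt N927 F5440) (tt N1180 (iv F7225)) (tt N730 F5441) (tt N724 (iv D1285)) (tt N1182 D1747) (tt N927 F5442) (tt N902 F5443))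
theorem Q929 : ∀ i, i < 929 → P i := stepQ 928 Q928 (allL N928 (tt N958 (iv F5570)) (tt N1180 (iv F7224)) (tt N1174 (iv F7201)) (tt N726 F5444) (tt N1183 D1748) (tt N725 (iv D1286)) (tt N1184 D1749) (tt N1185 D1750) (tt N903 F5445))
theorem Q930 : ∀ i, i < 930 → P i := stepQ 929 Q929 (allL N929 (tt N959 (iv F5573)) (tt N1181 (iv F7227)) (tt N1175 (iv F7204)) (tt N929 F5446) (tt N753 F5447) (tt N1185 (iv F7244)) (tt N929 F5448) (tt N725 (iv D1287)) (tt N1186 D1751))
theorem Q931 : ∀ i, i < 931 → P i := stepQ 930 Q930 (allL N930 (tt N960 (iv F5577)) (tt N1182 (iv F7231)) (tt N727 F5449) (tt N1184 (iv F7240)) (tt N733 F5450) (tt N930 F5451) (tt N726 (iv D1288)) (tt N930 F5452) (tt N787 (iv F38286)))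
theorem Q932 : ∀ i, i < 932 → P i := stepQ 931 Q931 (allL N931 (tt N729 F5454) (tt N971 (iv F5609)) (tt N1187 D1752) (tt N728 (iv D1289)) (tt N761 F5455) (tt N1188 D1753) (tt N855 F5456) (tt N1189 D1754) (tt N905 F5457))
theorem Q933 : ∀ i, i < 933 → P i := stepQ 932 Q932 (allL N932 (tt N730 F5458) (tt N972 (iv F5614)) (tt N932 F5459) (tt N1188 (iv F7255)) (tt N1178 (iv F7217)) (tt N728 (iv D1290)) (tt N1190 D1755) (tt N932 F5460) (tt N906 F5461))
theorem Q934 : ∀ i, i < 934 → P i := stepQ 933 Q933 (allL N933 (tt N1187 (iv F7249)) (tt N933 F5462) (tt N729 (iv D1291)) (tt N933 F5463) (tt N763 F5464) (tt N1191 D1756) (tt N857 F5465) (tt N1192 D1757) (tt N907 F5466))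
theorem Q935 : ∀ i, i < 935 → P i := stepQ 934 Q934 (allL N934 (tt N1188 (iv F7254)) (tt N731 F5467) (tt N1191 (iv F7267)) (tt N730 F5468) (tt N1193 D1758) (tt N729 (iv D1292)) (tt N1194 D1759) (tt N1195 D1760) (tt N908 F5469))
theorem Q936 : ∀ i, i < 936 → P i := stepQ 935 Q935 (allL N935 (tt N1189 (iv F7257)) (tt N732 F5470) (tt N1192 (iv F7271)) (tt N935 F5471) (tt N765 F5472) (tt N1195 (iv F7283)) (tt N859 F5473) (tt N729 (iv D1293)) (tt N1196 D1761))
theorem Q937 : ∀ i, i < 937 → P i := stepQ 936 Q936 (allL N936 (tt N1190 (iv F7261)) (tt N733 F5474) (tt N936 F5475) (tt N1194 (iv F7278)) (tt N1182 (iv F7233)) (tt N786 F38090) (tt N730 (iv D1294)) (tt N936 F5477) (tt N785 (iv F38161)))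
theorem Q938 : ∀ i, i < 938 → P i := stepQ 937 Q937 (allL N937 (tt N977 (iv F5635)) (tt N1193 (iv F7274)) (tt N937 F5479) (tt N1183 (iv F7237)) (tt N731 (iv D1295)) (tt N767 F5480) (tt N1197 D1762) (tt N1198 D1763) (tt N909 F5481))
theorem Q939 : ∀ i, i < 939 → P i := stepQ 938 Q938 (allL N938 (tt N978 (iv F5639)) (tt N1194 (iv F7277)) (tt N938 F5482) (tt N733 F5483) (tt N1197 (iv F7290)) (tt N770 F38088) (tt N731 (iv D1296)) (tt N1199 D1764) (tt N769 (iv F38159)))
theorem Q940 : ∀ i, i < 940 → P i := stepQ 939 Q939 (allL N939 (tt N979 (iv F5644)) (tt N1195 (iv F7281)) (tt N939 F5486) (tt N939 F5487) (tt N1198 (iv F7293)) (tt N732 F5488) (tt N1199 (iv F7298)) (tt N731 (iv D1297)) (tt N1200 D1765))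
theorem Q941 : ∀ i, i < 941 → P i := stepQ 940 Q940 (allL N940 (tt N980 (iv F5648)) (tt N1196 (iv F7284)) (tt N940 F5489) (tt N940 F5490) (tt N770 F5491) (tt N1200 (iv F7301)) (tt N860 F38083) (tt N868 (iv F38086)) (tt N732 (iv D1298)))
theorem Q942 : ∀ i, i < 942 → P i := stepQ 941 Q941 (allL N941 (tt N1201 D1766) (tt N734 (iv D1299)) (tt N791 F5494) (tt N941 F5495) (tt N1202 D1767) (tt N941 F5496) (tt N941 F5497) (tt N736 F5498) (tt N941 F5499))
theorem Q943 : ∀ i, i < 943 → P i := stepQ 942 Q942 (allL N942 (tt N918 F5500) (tt N1202 (iv F7310)) (tt N735 F5501) (tt N1203 D1768) (tt N734 (iv D1300)) (tt N1204 D1769) (tt N942 F5502) (tt N737 F5503) (tt N942 F5504))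
theorem Q944 : ∀ i, i < 944 → P i := stepQ 943 Q943 (allL N943 (tt N919 F5505) (tt N793 F5506) (tt N1204 (iv F7321)) (tt N943 F5507) (tt N943 F5508) (tt N735 (iv D1301)) (tt N1205 D1770) (tt N738 F5509) (tt N943 F5510))
theorem Q945 : ∀ i, i < 945 → P i := stepQ 944 Q944 (allL N944 (tt N736 (iv D1302)) (tt N920 F5511) (tt N794 F5512) (tt N896 F5513) (tt N1206 D1771) (tt N944 F5514) (tt N944 F5515) (tt N1201 (iv F7308)) (tt N739 F5516))
theorem Q946 : ∀ i, i < 946 → P i := stepQ 945 Q945 (allL N945 (tt N1206 (iv F7332)) (tt N737 F5517) (tt N795 F5518) (tt N1207 D1772) (tt N736 (iv D1303)) (tt N1208 D1773) (tt N945 F5519) (tt N1202 (iv F7313)) (tt N740 F5520))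
theorem Q947 : ∀ i, i < 947 → P i := stepQ 946 Q946 (allL N946 (tt N922 F5521) (tt N1207 (iv F7337)) (tt N746 F5522) (tt N737 (iv D1304)) (tt N898 F5523) (tt N1209 D1774) (tt N946 F5524) (tt N1210 D1775) (tt N741 F5525))
theorem Q948 : ∀ i, i < 948 → P i := stepQ 947 Q947 (allL N947 (tt N923 F5526) (tt N1208 (iv F7341)) (tt N738 F5527) (tt N1209 (iv F7347)) (tt N947 F5528) (tt N737 (iv D1305)) (tt N1211 D1776) (tt N1204 (iv F7323)) (tt N742 F5529))
theorem Q949 : ∀ i, i < 949 → P i := stepQ 948 Q948 (allL N948 (tt N924 F5530) (tt N798 F5531) (tt N1211 (iv F7354)) (tt N748 F5532) (tt N948 F5533) (tt N948 F5534) (tt N738 (iv D1306)) (tt N1205 (iv F7330)) (tt N743 F5535))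
theorem Q950 : ∀ i, i < 950 → P i := stepQ 949 Q949 (allL N949 (tt N740 F5536) (tt N1141 (iv F6847)) (tt N799 F5537) (tt N1212 D1777) (tt N739 (iv D1307)) (tt N1213 D1778) (tt N949 F5538) (tt N949 F5539) (tt N1206 (iv F7336)))
theorem Q951 : ∀ i, i < 951 → P i := stepQ 950 Q950 (allL N950 (tt N1212 (iv F7358)) (tt N741 F5540) (tt N1214 D1779) (tt N740 (iv D1308)) (tt N1172 (iv F7194)) (tt N1215 D1780) (tt N950 F5541) (tt N1216 D1781) (tt N1207 (iv F7340)))
theorem Q952 : ∀ i, i < 952 → P i := stepQ 951 Q951 (allL N951 (tt N1213 (iv F7360)) (tt N742 F5542) (tt N801 F5543) (tt N1215 (iv F7368)) (tt N951 F5544) (tt N740 (iv D1309)) (tt N1217 D1782) (tt N951 F5545) (tt N1208 (iv F7344)))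
theorem Q953 : ∀ i, i < 953 → P i := stepQ 952 Q952 (allL N952 (tt N1144 (iv F6857)) (tt N1215 (iv F7367)) (tt N752 F5546) (tt N742 F5547) (tt N1218 D1783) (tt N741 (iv D1310)) (tt N1219 D1784) (tt N1220 D1785) (tt N1209 (iv F7348)))
theorem Q954 : ∀ i, i < 954 → P i := stepQ 953 Q953 (allL N953 (tt N1145 (iv F6860)) (tt N1216 (iv F7369)) (tt N753 F5548) (tt N953 F5549) (tt N1175 (iv F7205)) (tt N1220 (iv F7384)) (tt N953 F5550) (tt N741 (iv D1311)) (tt N1221 D1786))
theorem Q955 : ∀ i, i < 955 → P i := stepQ 954 Q954 (allL N954 (tt N1011 (iv F38475)) (tt N1217 (iv F7372)) (tt N743 F5551) (tt N1219 (iv F7380)) (tt N954 F5552) (tt N954 F5553) (tt N742 (iv D1312)) (tt N954 F5554) (tt N1211 (iv F7357)))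
theorem Q956 : ∀ i, i < 956 → P i := stepQ 955 Q955 (allL N955 (tt N745 F5555) (tt N925 F5556) (tt N805 F5557) (tt N1222 D1787) (tt N744 (iv D1313)) (tt N1223 D1788) (tt N955 F5558) (tt N955 F5559) (tt N749 F5560))
theorem Q957 : ∀ i, i < 957 → P i := stepQ 956 Q956 (allL N956 (tt N1222 (iv F7388)) (tt N746 F5561) (tt N1224 D1789) (tt N745 (iv D1314)) (tt N901 F5562) (tt N1225 D1790) (tt N956 F5563) (tt N1226 D1791) (tt N750 F5564))
theorem Q958 : ∀ i, i < 958 → P i := stepQ 957 Q957 (allL N957 (tt N1223 (iv F7393)) (tt N747 F5565) (tt N807 F5566) (tt N1225 (iv F7404)) (tt N757 F5567) (tt N745 (iv D1315)) (tt N1227 D1792) (tt N957 F5568) (tt N751 F5569))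
theorem Q959 : ∀ i, i < 959 → P i := stepQ 958 Q958 (allL N958 (tt N928 F5570) (tt N1225 (iv F7403)) (tt N1209 (iv F7346)) (tt N747 F5571) (tt N1228 D1793) (tt N746 (iv D1316)) (tt N1229 D1794) (tt N1230 D1795) (tt N752 F5572))
theorem Q960 : ∀ i, i < 960 → P i := stepQ 959 Q959 (allL N959 (tt N929 F5573) (tt N1226 (iv F7406)) (tt N1210 (iv F7350)) (tt N959 F5574) (tt N904 F5575) (tt N1230 (iv F7426)) (tt N959 F5576) (tt N746 (iv D1317)) (tt N1231 D1796))
theorem Q961 : ∀ i, i < 961 → P i := stepQ 960 Q960 (allL N960 (tt N930 F5577) (tt N1227 (iv F7410)) (tt N748 F5578) (tt N1229 (iv F7421)) (tt N760 F5579) (tt N960 F5580) (tt N747 (iv D1318)) (tt N960 F5581) (tt N754 F5582))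
theorem Q962 : ∀ i, i < 962 → P i := stepQ 961 Q961 (allL N961 (tt N750 F5583) (tt N1146 (iv F6870)) (tt N1232 D1797) (tt N749 (iv D1319)) (tt N1177 (iv F7212)) (tt N1233 D1798) (tt N961 F5584) (tt N1234 D1799) (tt N1222 (iv F7392)))
theorem Q963 : ∀ i, i < 963 → P i := stepQ 962 Q962 (allL N962 (tt N751 F5585) (tt N1147 (iv F6873)) (tt N812 F5586) (tt N1233 (iv F7436)) (tt N762 F5587) (tt N749 (iv D1320)) (tt N1235 D1800) (tt N772 F5588) (tt N1223 (iv F7398)))
theorem Q964 : ∀ i, i < 964 → P i := stepQ 963 Q963 (allL N963 (tt N1232 (iv F7432)) (tt N1214 (iv F7364)) (tt N750 (iv D1321)) (tt N813 F5589) (tt N1179 (iv F7221)) (tt N1236 D1801) (tt N963 F5590) (tt N1237 D1802) (tt N1224 (iv F7402)))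
theorem Q965 : ∀ i, i < 965 → P i := stepQ 964 Q964 (allL N964 (tt N1233 (iv F7435)) (tt N752 F5591) (tt N1236 (iv F7445)) (tt N751 F5592) (tt N1238 D1803) (tt N750 (iv D1322)) (tt N1239 D1804) (tt N1240 D1805) (tt N1225 (iv F7405)))
theorem Q966 : ∀ i, i < 966 → P i := stepQ 965 Q965 (allL N965 (tt N1234 (iv F7437)) (tt N753 F5593) (tt N1237 (iv F7447)) (tt N775 F5594) (tt N1181 (iv F7229)) (tt N1240 (iv F7456)) (tt N965 F5595) (tt N750 (iv D1323)) (tt N1241 D1806))
theorem Q967 : ∀ i, i < 967 → P i := stepQ 966 Q966 (allL N966 (tt N1235 (iv F7440)) (tt N754 F5596) (tt N816 F5597) (tt N1239 (iv F7452)) (tt N766 F5598) (tt N966 F5599) (tt N751 (iv D1324)) (tt N776 F5600) (tt N1227 (iv F7415)))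
theorem Q968 : ∀ i, i < 968 → P i := stepQ 967 Q967 (allL N967 (tt N1151 (iv F6889)) (tt N1238 (iv F7449)) (tt N1218 (iv F7377)) (tt N767 F5601) (tt N752 (iv D1325)) (tt N1183 (iv F7238)) (tt N1242 D1807) (tt N1243 D1808) (tt N1228 (iv F7419)))
theorem Q969 : ∀ i, i < 969 → P i := stepQ 968 Q968 (allL N968 (tt N1010 (iv F38342)) (tt N1239 (iv F7451)) (tt N1219 (iv F7379)) (tt N754 F5602) (tt N1242 (iv F7461)) (tt N968 F5603) (tt N752 (iv D1326)) (tt N1244 D1809) (tt N1229 (iv F7423)))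
theorem Q970 : ∀ i, i < 970 → P i := stepQ 969 Q969 (allL N969 (tt N1152 (iv F6894)) (tt N1240 (iv F7454)) (tt N1220 (iv F7382)) (tt N779 F5604) (tt N1243 (iv F7462)) (tt N753 F5605) (tt N1244 (iv F7465)) (tt N752 (iv D1327)) (tt N1245 D1810))
theorem Q971 : ∀ i, i < 971 → P i := stepQ 970 Q970 (allL N970 (tt N1153 (iv F6897)) (tt N1241 (iv F7457)) (tt N1221 (iv F7385)) (tt N780 F5606) (tt N1186 (iv F7246)) (tt N1245 (iv F7467)) (tt N970 F5607) (tt N1231 (iv F7431)) (tt N753 (iv D1328)))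
theorem Q972 : ∀ i, i < 972 → P i := stepQ 971 Q971 (allL N971 (tt N756 F5608) (tt N931 F5609) (tt N1246 D1811) (tt N755 (iv D1329)) (tt N905 F5610) (tt N1247 D1812) (tt N862 F5611) (tt N1248 D1813) (tt N761 F5612))
theorem Q973 : ∀ i, i < 973 → P i := stepQ 972 Q972 (allL N972 (tt N757 F5613) (tt N932 F5614) (tt N822 F5615) (tt N1247 (iv F7475)) (tt N1223 (iv F7396)) (tt N755 (iv D1330)) (tt N1249 D1814) (tt N972 F5616) (tt N762 F5617))
theorem Q974 : ∀ i, i < 974 → P i := stepQ 973 Q973 (allL N973 (tt N1246 (iv F7468)) (tt N973 F5618) (tt N756 (iv D1331)) (tt N823 F5619) (tt N907 F5620) (tt N1250 D1815) (tt N864 F5621) (tt N1251 D1816) (tt N763 F5622))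
theorem Q975 : ∀ i, i < 975 → P i := stepQ 974 Q974 (allL N974 (tt N1247 (iv F7473)) (tt N758 F5623) (tt N1250 (iv F7489)) (tt N757 F5624) (tt N1252 D1817) (tt N756 (iv D1332)) (tt N1253 D1818) (tt N1254 D1819) (tt N764 F5625))
theorem Q976 : ∀ i, i < 976 → P i := stepQ 975 Q975 (allL N975 (tt N1248 (iv F7477)) (tt N759 F5626) (tt N1251 (iv F7493)) (tt N975 F5627) (tt N875 (iv F37984)) (tt N1254 (iv F7505)) (tt N866 F5629) (tt N756 (iv D1333)) (tt N1255 D1820))
theorem Q977 : ∀ i, i < 977 → P i := stepQ 976 Q976 (allL N976 (tt N1249 (iv F7482)) (tt N760 F5630) (tt N826 F5631) (tt N1253 (iv F7500)) (tt N1227 (iv F7412)) (tt N867 F5632) (tt N757 (iv D1334)) (tt N976 F5633) (tt N766 F5634))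
theorem Q978 : ∀ i, i < 978 → P i := stepQ 977 Q977 (allL N977 (tt N937 F5635) (tt N1252 (iv F7496)) (tt N977 F5636) (tt N1228 (iv F7417)) (tt N758 (iv D1335)) (tt N909 F5637) (tt N1256 D1821) (tt N1257 D1822) (tt N767 F5638))
theorem Q979 : ∀ i, i < 979 → P i := stepQ 978 Q978 (allL N978 (tt N938 F5639) (tt N1253 (iv F7499)) (tt N978 F5640) (tt N760 F5641) (tt N1256 (iv F7513)) (tt N868 F5642) (tt N758 (iv D1336)) (tt N1200 F38118) (tt N768 F5643))
theorem Q980 : ∀ i, i < 980 → P i := stepQ 979 Q979 (allL N979 (tt N939 F5644) (tt N1254 (iv F7503)) (tt N979 F5645) (tt N979 F5646) (tt N1257 (iv F7517)) (tt N759 F5647) (tt N1200 F38114) (tt N758 (iv D1337)) (tt N1199 F38115))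
theorem Q981 : ∀ i, i < 981 → P i := stepQ 980 Q980 (allL N980 (tt N940 F5648) (tt N1255 (iv F7506)) (tt N980 F5649) (tt N980 F5650) (tt N868 (iv F38085)) (tt N1199 (iv F38087)) (tt N861 F38007) (tt N770 F5653) (tt N759 (iv D1338)))
theorem Q982 : ∀ i, i < 982 → P i := stepQ 981 Q981 (allL N981 (tt N763 F5654) (tt N1258 D1825) (tt N761 (iv D1339)) (tt N830 F5655) (tt N1187 (iv F7251)) (tt N1259 D1826) (tt N869 F5656) (tt N1260 D1827) (tt N1246 (iv F7472)))
theorem Q983 : ∀ i, i < 983 → P i := stepQ 982 Q982 (allL N982 (tt N764 F5657) (tt N1155 (iv F6904)) (tt N1259 (iv F7533)) (tt N762 F5658) (tt N1261 D1828) (tt N761 (iv D1340)) (tt N1262 D1829) (tt N1263 D1830) (tt N1247 (iv F7476)))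
theorem Q984 : ∀ i, i < 984 → P i := stepQ 983 Q983 (allL N983 (tt N765 F5659) (tt N1116 F37937) (tt N1260 (iv F7536)) (tt N782 F5660) (tt N1189 (iv F7259)) (tt N1263 (iv F7545)) (tt N871 F5661) (tt N761 (iv D1341)) (tt N1264 D1831))
theorem Q985 : ∀ i, i < 985 → P i := stepQ 984 Q984 (allL N984 (tt N766 F5662) (tt N1007 (iv F38106)) (tt N832 F5663) (tt N1262 (iv F7541)) (tt N1235 (iv F7442)) (tt N872 F5664) (tt N762 (iv D1342)) (tt N783 F5665) (tt N1249 (iv F7487)))
theorem Q986 : ∀ i, i < 986 → P i := stepQ 985 Q985 (allL N985 (tt N1259 (iv F7532)) (tt N985 F5666) (tt N764 F5667) (tt N833 F5668) (tt N1265 D1832) (tt N763 (iv D1343)) (tt N1266 D1833) (tt N1267 D1834) (tt N1250 (iv F7491)))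
theorem Q987 : ∀ i, i < 987 → P i := stepQ 986 Q986 (allL N986 (tt N1260 (iv F7535)) (tt N986 F5669) (tt N765 F5670) (tt N986 F5671) (tt N1192 (iv F7272)) (tt N1267 (iv F7558)) (tt N874 F5672) (tt N763 (iv D1344)) (tt N1268 D1835))
theorem Q988 : ∀ i, i < 988 → P i := stepQ 987 Q987 (allL N987 (tt N1261 (iv F7539)) (tt N767 F5673) (tt N1265 (iv F7550)) (tt N1238 (iv F7450)) (tt N764 (iv D1345)) (tt N1193 (iv F7275)) (tt N1269 D1836) (tt N1270 D1837) (tt N1252 (iv F7498)))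
theorem Q989 : ∀ i, i < 989 → P i := stepQ 988 Q988 (allL N988 (tt N1262 (iv F7540)) (tt N768 F5674) (tt N1266 (iv F7552)) (tt N766 F5675) (tt N1269 (iv F7564)) (tt N875 F5676) (tt N764 (iv D1346)) (tt N908 (iv F38133)) (tt N1253 (iv F7502)))
theorem Q990 : ∀ i, i < 990 → P i := stepQ 989 Q989 (allL N989 (tt N1263 (iv F7543)) (tt N769 F5677) (tt N1267 (iv F7556)) (tt N785 F5678) (tt N1270 (iv F7566)) (tt N765 F5679) (tt N908 (iv F38132)) (tt N764 (iv D1347)) (tt N1194 F38091))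
theorem Q991 : ∀ i, i < 991 → P i := stepQ 990 Q990 (allL N990 (tt N1264 (iv F7546)) (tt N770 F5680) (tt N1268 (iv F7560)) (tt N786 F5681) (tt N1196 (iv F7286)) (tt N1194 (iv F37992)) (tt N858 (iv F37986)) (tt N1255 (iv F7510)) (tt N765 (iv D1348)))
theorem Q992 : ∀ i, i < 992 → P i := stepQ 991 Q991 (allL N991 (tt N992 (iv F38215)) (tt N1269 (iv F7563)) (tt N991 F5683) (tt N1242 (iv F7460)) (tt N768 F5684) (tt N1257 F38206) (tt N767 (iv D1349)) (tt N909 (iv F38254)) (tt N1256 (iv F7514)))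
theorem Q993 : ∀ i, i < 993 → P i := stepQ 992 Q992 (allL N992 (tt N991 F38215) (tt N1270 (iv F7565)) (tt N992 F5685) (tt N1271 D1842) (tt N769 F5686) (tt N1198 (iv F7294)) (tt N909 (iv F38253)) (tt N767 (iv D1350)) (tt N1197 F38216))
theorem Q994 : ∀ i, i < 994 → P i := stepQ 993 Q993 (allL N993 (tt N773 F5694) (tt N1272 D1845) (tt N771 (iv D1353)) (tt N837 F5695) (tt N993 F5696) (tt N1273 D1846) (tt N993 F5697) (tt N1274 D1847) (tt N993 F5698))
theorem Q995 : ∀ i, i < 995 → P i := stepQ 994 Q994 (allL N994 (tt N774 F5699) (tt N1159 (iv F6952)) (tt N1273 (iv F7592)) (tt N772 F5700) (tt N1275 D1848) (tt N771 (iv D1354)) (tt N1276 D1849) (tt N1277 D1850) (tt N994 F5701))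
theorem Q996 : ∀ i, i < 996 → P i := stepQ 995 Q995 (allL N995 (tt N775 F5702) (tt N1160 (iv F6956)) (tt N1274 (iv F7596)) (tt N1234 (iv F7438)) (tt N995 F5703) (tt N1277 (iv F7608)) (tt N995 F5704) (tt N771 (iv D1355)) (tt N1278 D1851))
theorem Q997 : ∀ i, i < 997 → P i := stepQ 996 Q996 (allL N996 (tt N776 F5705) (tt N1006 (iv F38243)) (tt N840 F5706) (tt N1276 (iv F7604)) (tt N783 F5707) (tt N996 F5708) (tt N772 (iv D1356)) (tt N1235 (iv F7444)) (tt N996 F5709))
theorem Q998 : ∀ i, i < 998 → P i := stepQ 997 Q997 (allL N997 (tt N1273 (iv F7591)) (tt N997 F5710) (tt N774 F5711) (tt N841 F5712) (tt N1279 D1852) (tt N773 (iv D1357)) (tt N1280 D1853) (tt N1281 D1854) (tt N997 F5713))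
theorem Q999 : ∀ i, i < 999 → P i := stepQ 998 Q998 (allL N998 (tt N1274 (iv F7595)) (tt N998 F5714) (tt N775 F5715) (tt N1282 D1855) (tt N998 F5716) (tt N1281 (iv F7625)) (tt N998 F5717) (tt N773 (iv D1358)) (tt N1283 D1856))
theorem Q1000 : ∀ i, i < 1000 → P i := stepQ 999 Q999 (allL N999 (tt N1275 (iv F7599)) (tt N777 F5718) (tt N1279 (iv F7614)) (tt N784 F5719) (tt N774 (iv D1359)) (tt N999 F5720) (tt N913 (iv F38378)) (tt N1284 D1858) (tt N999 F5721))
theorem Q1001 : ∀ i, i < 1001 → P i := stepQ 1000 Q1000 (allL N1000 (tt N1276 (iv F7603)) (tt N778 F5722) (tt N1280 (iv F7619)) (tt N776 F5723) (tt N913 (iv F38377)) (tt N1000 F5724) (tt N774 (iv D1360)) (tt N1285 D1859) (tt N1000 F5725))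
theorem Q1002 : ∀ i, i < 1002 → P i := stepQ 1001 Q1001 (allL N1001 (tt N1277 (iv F7607)) (tt N779 F5726) (tt N1281 (iv F7624)) (tt N1240 (iv F7455)) (tt N1284 (iv F7639)) (tt N775 F5727) (tt N1285 (iv F7643)) (tt N774 (iv D1361)) (tt N1286 D1860))
theorem Q1003 : ∀ i, i < 1003 → P i := stepQ 1002 Q1002 (allL N1002 (tt N1278 (iv F7609)) (tt N780 F5728) (tt N1283 (iv F7630)) (tt N1241 (iv F7458)) (tt N1002 F5729) (tt N1286 (iv F7645)) (tt N1002 F5730) (tt N1002 F5731) (tt N775 (iv D1362)))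
theorem Q1004 : ∀ i, i < 1004 → P i := stepQ 1003 Q1003 (allL N1003 (tt N1004 F38481) (tt N1284 (iv F7638)) (tt N1003 F5736) (tt N1287 D1863) (tt N779 F5737) (tt N1003 F5738) (tt N915 (iv F38498)) (tt N777 (iv D1364)) (tt N1288 D1864))
theorem Q1005 : ∀ i, i < 1005 → P i := stepQ 1004 Q1004 (allL N1004 (tt N1003 (iv F38481)) (tt N1285 (iv F7641)) (tt N1004 F5739) (tt N1244 (iv F7463)) (tt N915 (iv F38497)) (tt N1004 F5740) (tt N779 F5741) (tt N778 (iv D1365)) (tt N1289 D1865))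
theorem Q1006 : ∀ i, i < 1006 → P i := stepQ 1005 Q1005 (allL N1005 (tt N1165 (iv F7000)) (tt N1286 (iv F7644)) (tt N1005 F5742) (tt N1245 (iv F7466)) (tt N1288 (iv F7658)) (tt N780 F5743) (tt N1289 (iv F7663)) (tt N1005 F5744) (tt N779 (iv D1366)))
theorem Q1007 : ∀ i, i < 1007 → P i := stepQ 1006 Q1006 (allL N1006 (tt N784 F5745) (tt N996 F38243) (tt N1006 F5746) (tt N1275 (iv F7600)) (tt N781 (iv D1367)) (tt N1006 F5747) (tt N911 (iv F38291)) (tt N1290 D1867) (tt N1006 F5748))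
theorem Q1008 : ∀ i, i < 1008 → P i := stepQ 1007 Q1007 (allL N1007 (tt N785 F5754) (tt N984 F38106) (tt N1007 F5755) (tt N1263 (iv F7544)) (tt N1290 (iv F7671)) (tt N782 F5756) (tt N906 (iv F38164)) (tt N781 (iv D1369)) (tt N1190 F38107))
theorem Q1009 : ∀ i, i < 1009 → P i := stepQ 1008 Q1008 (allL N1008 (tt N786 F5757) (tt N1109 (iv F38010)) (tt N1008 F5758) (tt N1264 (iv F7547)) (tt N1008 F5759) (tt N1190 (iv F38014)) (tt N856 (iv F38005)) (tt N1008 F5761) (tt N782 (iv D1370)))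
theorem Q1010 : ∀ i, i < 1010 → P i := stepQ 1009 Q1009 (allL N1009 (tt N1290 (iv F7669)) (tt N787 F5766) (tt N1009 F5767) (tt N1291 D1872) (tt N785 F5768) (tt N1009 F5769) (tt N902 (iv F38260)) (tt N784 (iv D1372)) (tt N1182 F38227))
theorem Q1011 : ∀ i, i < 1011 → P i := stepQ 1010 Q1010 (allL N1010 (tt N968 F38342) (tt N1291 (iv F7690)) (tt N1292 D1878) (tt N787 (iv D1377)) (tt N1271 (iv F7579)) (tt N1010 F5785) (tt N903 (iv F38380)) (tt N1287 (iv F7656)) (tt N1184 F38343))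
theorem Q1012 : ∀ i, i < 1012 → P i := stepQ 1011 Q1011 (allL N1011 (tt N954 F38475) (tt N1293 D1884) (tt N788 (iv D1383)) (tt N1292 (iv F7711)) (tt N1011 F5806) (tt N1011 F5807) (tt N899 (iv F38506)) (tt N1011 F5808) (tt N1176 F38476))
theorem Q1013 : ∀ i, i < 1013 → P i := stepQ 1012 Q1012 (allL N1012 (tt N1294 D1887) (tt N789 (iv D1385)) (tt N1012 F5813) (tt N791 F5814) (tt N1295 D1888) (tt N1012 F5815) (tt N1012 F5816) (tt N1012 F5817) (tt N1012 F5818))
theorem Q1014 : ∀ i, i < 1014 → P i := stepQ 1013 Q1013 (allL N1013 (tt N1013 F5819) (tt N1295 (iv F7750)) (tt N790 F5820) (tt N1296 D1889) (tt N789 (iv D1386)) (tt N1297 D1890) (tt N1013 F5821) (tt N1013 F5822) (tt N1013 F5823))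
theorem Q1015 : ∀ i, i < 1015 → P i := stepQ 1014 Q1014 (allL N1014 (tt N1014 F5824) (tt N1014 F5825) (tt N1297 (iv F7761)) (tt N1014 F5826) (tt N1014 F5827) (tt N790 (iv D1387)) (tt N1298 D1891) (tt N1014 F5828) (tt N1014 F5829))
theorem Q1016 : ∀ i, i < 1016 → P i := stepQ 1015 Q1015 (allL N1015 (tt N791 (iv D1388)) (tt N1015 F5830) (tt N1201 (iv F7304)) (tt N1294 (iv F7745)) (tt N1299 D1892) (tt N1015 F5831) (tt N1015 F5832) (tt N794 F5833) (tt N1015 F5834))
theorem Q1017 : ∀ i, i < 1017 → P i := stepQ 1016 Q1016 (allL N1016 (tt N1299 (iv F7772)) (tt N792 F5835) (tt N1202 (iv F7311)) (tt N1300 D1893) (tt N791 (iv D1389)) (tt N1301 D1894) (tt N1016 F5836) (tt N795 F5837) (tt N1016 F5838))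
theorem Q1018 : ∀ i, i < 1018 → P i := stepQ 1017 Q1017 (allL N1017 (tt N1017 F5839) (tt N1300 (iv F7777)) (tt N1017 F5840) (tt N792 (iv D1390)) (tt N1296 (iv F7757)) (tt N1302 D1895) (tt N1017 F5841) (tt N1303 D1896) (tt N1017 F5842))
theorem Q1019 : ∀ i, i < 1019 → P i := stepQ 1018 Q1018 (allL N1018 (tt N1018 F5843) (tt N1301 (iv F7780)) (tt N793 F5844) (tt N1302 (iv F7786)) (tt N1018 F5845) (tt N792 (iv D1391)) (tt N1304 D1897) (tt N797 F5846) (tt N1018 F5847))
theorem Q1020 : ∀ i, i < 1020 → P i := stepQ 1019 Q1019 (allL N1019 (tt N1019 F5848) (tt N1205 (iv F7326)) (tt N1304 (iv F7793)) (tt N1019 F5849) (tt N1019 F5850) (tt N1019 F5851) (tt N793 (iv D1392)) (tt N798 F5852) (tt N1019 F5853))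
theorem Q1021 : ∀ i, i < 1021 → P i := stepQ 1020 Q1020 (allL N1020 (tt N795 F5854) (tt N1020 F5855) (tt N1206 (iv F7334)) (tt N1305 D1898) (tt N794 (iv D1393)) (tt N1306 D1899) (tt N1020 F5856) (tt N1299 (iv F7775)) (tt N799 F5857))
theorem Q1022 : ∀ i, i < 1022 → P i := stepQ 1021 Q1021 (allL N1021 (tt N1305 (iv F7798)) (tt N796 F5858) (tt N1307 D1900) (tt N795 (iv D1394)) (tt N1021 F5859) (tt N1308 D1901) (tt N1021 F5860) (tt N1309 D1902) (tt N800 F5861))
theorem Q1023 : ∀ i, i < 1023 → P i := stepQ 1022 Q1022 (allL N1022 (tt N1306 (iv F7803)) (tt N797 F5862) (tt N1208 (iv F7342)) (tt N1308 (iv F7812)) (tt N1022 F5863) (tt N795 (iv D1395)) (tt N1310 D1903) (tt N1301 (iv F7782)) (tt N801 F5864))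
theorem Q1024 : ∀ i, i < 1024 → P i := stepQ 1023 Q1023 (allL N1023 (tt N1023 F5865) (tt N1308 (iv F7811)) (tt N808 F5866) (tt N797 F5867) (tt N1311 D1904) (tt N796 (iv D1396)) (tt N1312 D1905) (tt N1313 D1906) (tt N802 F5868))
theorem Q1025 : ∀ i, i < 1025 → P i := stepQ 1024 Q1024 (allL N1024 (tt N1024 F5869) (tt N1309 (iv F7814)) (tt N809 F5870) (tt N1303 (iv F7790)) (tt N1024 F5871) (tt N1313 (iv F7833)) (tt N1024 F5872) (tt N796 (iv D1397)) (tt N1314 D1907))
theorem Q1026 : ∀ i, i < 1026 → P i := stepQ 1025 Q1025 (allL N1025 (tt N1025 F5873) (tt N1310 (iv F7817)) (tt N798 F5874) (tt N1312 (iv F7828)) (tt N1025 F5875) (tt N1025 F5876) (tt N797 (iv D1398)) (tt N1304 (iv F7796)) (tt N804 F5877))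
theorem Q1027 : ∀ i, i < 1027 → P i := stepQ 1026 Q1026 (allL N1026 (tt N800 F5878) (tt N1026 F5879) (tt N1315 D1908) (tt N799 (iv D1399)) (tt N1026 F5880) (tt N1316 D1909) (tt N1026 F5881) (tt N1317 D1910) (tt N1305 (iv F7802)))
theorem Q1028 : ∀ i, i < 1028 → P i := stepQ 1027 Q1027 (allL N1027 (tt N801 F5882) (tt N1027 F5883) (tt N1213 (iv F7361)) (tt N1316 (iv F7844)) (tt N1027 F5884) (tt N799 (iv D1400)) (tt N1318 D1911) (tt N1027 F5885) (tt N1306 (iv F7806)))
theorem Q1029 : ∀ i, i < 1029 → P i := stepQ 1028 Q1028 (allL N1028 (tt N1315 (iv F7839)) (tt N813 F5886) (tt N800 (iv D1401)) (tt N1214 (iv F7365)) (tt N1028 F5887) (tt N1319 D1912) (tt N1028 F5888) (tt N1320 D1913) (tt N1307 (iv F7810)))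
theorem Q1030 : ∀ i, i < 1030 → P i := stepQ 1029 Q1029 (allL N1029 (tt N1316 (iv F7842)) (tt N802 F5889) (tt N1319 (iv F7856)) (tt N801 F5890) (tt N1321 D1914) (tt N800 (iv D1402)) (tt N1322 D1915) (tt N1323 D1916) (tt N1308 (iv F7813)))
theorem Q1031 : ∀ i, i < 1031 → P i := stepQ 1030 Q1030 (allL N1030 (tt N1317 (iv F7845)) (tt N803 F5891) (tt N1320 (iv F7858)) (tt N1030 F5892) (tt N1030 F5893) (tt N1323 (iv F7869)) (tt N1030 F5894) (tt N800 (iv D1403)) (tt N1324 D1917))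
theorem Q1032 : ∀ i, i < 1032 → P i := stepQ 1031 Q1031 (allL N1031 (tt N1318 (iv F7850)) (tt N804 F5895) (tt N1217 (iv F7373)) (tt N1322 (iv F7865)) (tt N1031 F5896) (tt N1031 F5897) (tt N801 (iv D1404)) (tt N1031 F5898) (tt N1310 (iv F7820)))
theorem Q1033 : ∀ i, i < 1033 → P i := stepQ 1032 Q1032 (allL N1032 (tt N1032 F5899) (tt N1321 (iv F7861)) (tt N817 F5900) (tt N1032 F5901) (tt N802 (iv D1405)) (tt N1032 F5902) (tt N1325 D1918) (tt N1326 D1919) (tt N1311 (iv F7825)))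
theorem Q1034 : ∀ i, i < 1034 → P i := stepQ 1033 Q1033 (allL N1033 (tt N1033 F5903) (tt N1322 (iv F7864)) (tt N818 F5904) (tt N804 F5905) (tt N1325 (iv F7877)) (tt N1033 F5906) (tt N802 (iv D1406)) (tt N1327 D1920) (tt N1312 (iv F7830)))
theorem Q1035 : ∀ i, i < 1035 → P i := stepQ 1034 Q1034 (allL N1034 (tt N1034 F5907) (tt N1323 (iv F7867)) (tt N819 F5908) (tt N1034 F5909) (tt N1326 (iv F7880)) (tt N803 F5910) (tt N1327 (iv F7886)) (tt N802 (iv D1407)) (tt N1328 D1921))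
theorem Q1036 : ∀ i, i < 1036 → P i := stepQ 1035 Q1035 (allL N1035 (tt N1035 F5911) (tt N1324 (iv F7870)) (tt N820 F5912) (tt N1035 F5913) (tt N1035 F5914) (tt N1328 (iv F7890)) (tt N1035 F5915) (tt N1314 (iv F7838)) (tt N803 (iv D1408)))
theorem Q1037 : ∀ i, i < 1037 → P i := stepQ 1036 Q1036 (allL N1036 (tt N806 F5916) (tt N1036 F5917) (tt N1329 D1922) (tt N805 (iv D1409)) (tt N1036 F5918) (tt N1330 D1923) (tt N1036 F5919) (tt N1331 D1924) (tt N811 F5920))
theorem Q1038 : ∀ i, i < 1038 → P i := stepQ 1037 Q1037 (allL N1037 (tt N807 F5921) (tt N1037 F5922) (tt N1223 (iv F7395)) (tt N1330 (iv F7897)) (tt N822 F5923) (tt N805 (iv D1410)) (tt N1332 D1925) (tt N1037 F5924) (tt N812 F5925))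
theorem Q1039 : ∀ i, i < 1039 → P i := stepQ 1038 Q1038 (allL N1038 (tt N1329 (iv F7891)) (tt N1307 (iv F7807)) (tt N806 (iv D1411)) (tt N1224 (iv F7399)) (tt N1038 F5926) (tt N1333 D1926) (tt N1038 F5927) (tt N1334 D1927) (tt N813 F5928))
theorem Q1040 : ∀ i, i < 1040 → P i := stepQ 1039 Q1039 (allL N1039 (tt N1330 (iv F7895)) (tt N808 F5929) (tt N1333 (iv F7910)) (tt N807 F5930) (tt N1335 D1928) (tt N806 (iv D1412)) (tt N1336 D1929) (tt N1337 D1930) (tt N814 F5931))
theorem Q1041 : ∀ i, i < 1041 → P i := stepQ 1040 Q1040 (allL N1040 (tt N1331 (iv F7899)) (tt N809 F5932) (tt N1334 (iv F7912)) (tt N1040 F5933) (tt N1040 F5934) (tt N1337 (iv F7925)) (tt N1040 F5935) (tt N806 (iv D1413)) (tt N1338 D1931))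
theorem Q1042 : ∀ i, i < 1042 → P i := stepQ 1041 Q1041 (allL N1041 (tt N1332 (iv F7904)) (tt N810 F5936) (tt N1227 (iv F7411)) (tt N1336 (iv F7920)) (tt N826 F5937) (tt N1041 F5938) (tt N807 (iv D1414)) (tt N1041 F5939) (tt N816 F5940))
theorem Q1043 : ∀ i, i < 1043 → P i := stepQ 1042 Q1042 (allL N1042 (tt N1042 F5941) (tt N1335 (iv F7915)) (tt N1311 (iv F7822)) (tt N827 F5942) (tt N808 (iv D1415)) (tt N1042 F5943) (tt N1313 F38800) (tt N1312 (iv F38846)) (tt N817 F5944))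
theorem Q1044 : ∀ i, i < 1044 → P i := stepQ 1043 Q1043 (allL N1043 (tt N1043 F5945) (tt N1336 (iv F7919)) (tt N1312 (iv F7827)) (tt N810 F5946) (tt N1313 F38799) (tt N1043 F5947) (tt N808 (iv D1416)) (tt N1311 (iv F38848)) (tt N818 F5948))
theorem Q1045 : ∀ i, i < 1045 → P i := stepQ 1044 Q1044 (allL N1044 (tt N1044 F5949) (tt N1337 (iv F7923)) (tt N1313 (iv F7832)) (tt N1044 F5950) (tt N1312 (iv F38845)) (tt N809 F5951) (tt N1311 (iv F38847)) (tt N808 (iv D1417)) (tt N1325 (iv F38850)))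
theorem Q1046 : ∀ i, i < 1046 → P i := stepQ 1045 Q1045 (allL N1045 (tt N1045 F5952) (tt N1338 (iv F7926)) (tt N1314 (iv F7835)) (tt N1045 F5953) (tt N1045 F5954) (tt N1325 (iv F38849)) (tt N1045 F5955) (tt N820 F5956) (tt N809 (iv D1418)))
theorem Q1047 : ∀ i, i < 1047 → P i := stepQ 1046 Q1046 (allL N1046 (tt N813 F5957) (tt N1339 D1936) (tt N811 (iv D1419)) (tt N1232 (iv F7433)) (tt N1046 F5958) (tt N1340 D1937) (tt N1046 F5959) (tt N1341 D1938) (tt N1329 (iv F7894)))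
theorem Q1048 : ∀ i, i < 1048 → P i := stepQ 1047 Q1047 (allL N1047 (tt N814 F5960) (tt N1047 F5961) (tt N1340 (iv F7950)) (tt N812 F5962) (tt N1342 D1939) (tt N811 (iv D1420)) (tt N1343 D1940) (tt N1344 D1941) (tt N1330 (iv F7898)))
theorem Q1049 : ∀ i, i < 1049 → P i := stepQ 1048 Q1048 (allL N1048 (tt N815 F5963) (tt N1048 F5964) (tt N1341 (iv F7952)) (tt N839 F5965) (tt N1048 F5966) (tt N1344 (iv F7966)) (tt N1048 F5967) (tt N811 (iv D1421)) (tt N1345 D1942))
theorem Q1050 : ∀ i, i < 1050 → P i := stepQ 1049 Q1049 (allL N1049 (tt N816 F5968) (tt N1049 F5969) (tt N1235 (iv F7441)) (tt N1343 (iv F7961)) (tt N832 F5970) (tt N1049 F5971) (tt N812 (iv D1422)) (tt N840 F5972) (tt N1332 (iv F7909)))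
theorem Q1051 : ∀ i, i < 1051 → P i := stepQ 1050 Q1050 (allL N1050 (tt N1340 (iv F7949)) (tt N1319 (iv F7855)) (tt N814 F5973) (tt N1236 (iv F7446)) (tt N1346 D1943) (tt N813 (iv D1423)) (tt N1347 D1944) (tt N1348 D1945) (tt N1333 (iv F7911)))
theorem Q1052 : ∀ i, i < 1052 → P i := stepQ 1051 Q1051 (allL N1051 (tt N1341 (iv F7951)) (tt N1320 (iv F7857)) (tt N815 F5974) (tt N1349 D1946) (tt N1051 F5975) (tt N1348 (iv F7977)) (tt N1051 F5976) (tt N813 (iv D1424)) (tt N1350 D1947))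
theorem Q1053 : ∀ i, i < 1053 → P i := stepQ 1052 Q1052 (allL N1052 (tt N1342 (iv F7955)) (tt N817 F5977) (tt N1346 (iv F7972)) (tt N834 F5978) (tt N814 (iv D1425)) (tt N1052 F5979) (tt N1351 D1948) (tt N1352 D1949) (tt N1335 (iv F7918)))
theorem Q1054 : ∀ i, i < 1054 → P i := stepQ 1053 Q1053 (allL N1053 (tt N1343 (iv F7959)) (tt N818 F5980) (tt N1347 (iv F7974)) (tt N816 F5981) (tt N1351 (iv F7985)) (tt N1053 F5982) (tt N814 (iv D1426)) (tt N1353 D1950) (tt N1336 (iv F7922)))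
theorem Q1055 : ∀ i, i < 1055 → P i := stepQ 1054 Q1054 (allL N1054 (tt N1344 (iv F7963)) (tt N819 F5983) (tt N1348 (iv F7976)) (tt N844 F5984) (tt N1352 (iv F7988)) (tt N815 F5985) (tt N1353 (iv F7993)) (tt N814 (iv D1427)) (tt N1354 D1951))
theorem Q1056 : ∀ i, i < 1056 → P i := stepQ 1055 Q1055 (allL N1055 (tt N1345 (iv F7967)) (tt N820 F5986) (tt N1350 (iv F7980)) (tt N845 F5987) (tt N1055 F5988) (tt N1354 (iv F7996)) (tt N1055 F5989) (tt N1338 (iv F7930)) (tt N815 (iv D1428)))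
theorem Q1057 : ∀ i, i < 1057 → P i := stepQ 1056 Q1056 (allL N1056 (tt N1056 F5990) (tt N1351 (iv F7983)) (tt N1325 (iv F7875)) (tt N836 F5991) (tt N818 F5992) (tt N1314 F38801) (tt N817 (iv D1429)) (tt N1328 (iv F38857)) (tt N1313 F38802))
theorem Q1058 : ∀ i, i < 1058 → P i := stepQ 1057 Q1057 (allL N1057 (tt N1057 F5993) (tt N1352 (iv F7986)) (tt N1326 (iv F7879)) (tt N1057 F5994) (tt N819 F5995) (tt N1057 F5996) (tt N1328 F38898) (tt N817 (iv D1430)) (tt N1327 (iv F38916)))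
theorem Q1059 : ∀ i, i < 1059 → P i := stepQ 1058 Q1058 (allL N1058 (tt N1058 F5997) (tt N1353 (iv F7990)) (tt N1327 (iv F7883)) (tt N846 F5998) (tt N1328 F38897) (tt N1058 F5999) (tt N819 F6000) (tt N818 (iv D1431)) (tt N1326 (iv F38918)))
theorem Q1060 : ∀ i, i < 1060 → P i := stepQ 1059 Q1059 (allL N1059 (tt N1059 F6001) (tt N1354 (iv F7994)) (tt N1328 (iv F7888)) (tt N847 F6002) (tt N1327 (iv F38915)) (tt N820 F6003) (tt N1326 (iv F38917)) (tt N1325 F38881) (tt N819 (iv D1432)))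
theorem Q1061 : ∀ i, i < 1061 → P i := stepQ 1060 Q1060 (allL N1060 (tt N823 F6004) (tt N1355 D1956) (tt N821 (iv D1433)) (tt N1246 (iv F7469)) (tt N1060 F6005) (tt N1356 D1957) (tt N876 F6006) (tt N1357 D1958) (tt N830 F6007))
theorem Q1062 : ∀ i, i < 1062 → P i := stepQ 1061 Q1061 (allL N1061 (tt N824 F6008) (tt N1061 F6009) (tt N1356 (iv F8019)) (tt N822 F6010) (tt N1358 D1959) (tt N821 (iv D1434)) (tt N1359 D1960) (tt N1360 D1961) (tt N831 F6011))
theorem Q1063 : ∀ i, i < 1063 → P i := stepQ 1062 Q1062 (allL N1062 (tt N825 F6012) (tt N1062 F6013) (tt N1357 (iv F8022)) (tt N1062 F6014) (tt N1062 F6015) (tt N1360 (iv F8038)) (tt N878 F6016) (tt N821 (iv D1435)) (tt N1062 F6017))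
theorem Q1064 : ∀ i, i < 1064 → P i := stepQ 1063 Q1063 (allL N1063 (tt N826 F6018) (tt N1063 F6019) (tt N1249 (iv F7484)) (tt N1359 (iv F8032)) (tt N1332 (iv F7906)) (tt N879 F6020) (tt N822 (iv D1436)) (tt N1063 F6021) (tt N832 F6022))
theorem Q1065 : ∀ i, i < 1065 → P i := stepQ 1064 Q1064 (allL N1064 (tt N1356 (iv F8018)) (tt N1064 F6023) (tt N824 F6024) (tt N1250 (iv F7490)) (tt N1361 D1962) (tt N823 (iv D1437)) (tt N1362 D1963) (tt N1363 D1964) (tt N833 F6025))
theorem Q1066 : ∀ i, i < 1066 → P i := stepQ 1065 Q1065 (allL N1065 (tt N1357 (iv F8021)) (tt N1065 F6026) (tt N825 F6027) (tt N1364 D1965) (tt N1065 F6028) (tt N1363 (iv F8050)) (tt N881 F6029) (tt N823 (iv D1438)) (tt N1065 F6030))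
theorem Q1067 : ∀ i, i < 1067 → P i := stepQ 1066 Q1066 (allL N1066 (tt N1358 (iv F8026)) (tt N827 F6031) (tt N1361 (iv F8041)) (tt N1335 (iv F7916)) (tt N824 (iv D1439)) (tt N1066 F6032) (tt N1365 D1966) (tt N1366 D1967) (tt N834 F6033))
theorem Q1068 : ∀ i, i < 1068 → P i := stepQ 1067 Q1067 (allL N1067 (tt N1359 (iv F8030)) (tt N828 F6034) (tt N1362 (iv F8045)) (tt N826 F6035) (tt N1365 (iv F8057)) (tt N883 F6036) (tt N824 (iv D1440)) (tt N1367 D1968) (tt N835 F6037))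
theorem Q1069 : ∀ i, i < 1069 → P i := stepQ 1068 Q1068 (allL N1068 (tt N1360 (iv F8035)) (tt N829 F6038) (tt N1363 (iv F8049)) (tt N1068 F6039) (tt N1366 (iv F8060)) (tt N825 F6040) (tt N1367 (iv F8066)) (tt N824 (iv D1441)) (tt N1068 F6041))
theorem Q1070 : ∀ i, i < 1070 → P i := stepQ 1069 Q1069 (allL N1069 (tt N1069 F6042) (tt N1365 (iv F8056)) (tt N1069 F6043) (tt N1313 (iv F38731)) (tt N828 F6044) (tt N1303 F38692) (tt N827 (iv D1442)) (tt N1302 (iv F38742)) (tt N836 F6045))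
theorem Q1071 : ∀ i, i < 1071 → P i := stepQ 1070 Q1070 (allL N1070 (tt N1070 F6046) (tt N1366 (iv F8059)) (tt N1070 F6047) (tt N1304 (iv F38863)) (tt N829 F6048) (tt N1070 F6049) (tt N1302 F38817) (tt N827 (iv D1443)) (tt N1070 F6050))
theorem Q1072 : ∀ i, i < 1072 → P i := stepQ 1071 Q1071 (allL N1071 (tt N1071 F6051) (tt N1367 (iv F8063)) (tt N1071 F6052) (tt N1071 F6053) (tt N1302 F38816) (tt N887 F6054) (tt N829 F6055) (tt N828 (iv D1444)) (tt N1071 F6056))
theorem Q1073 : ∀ i, i < 1073 → P i := stepQ 1072 Q1072 (allL N1072 (tt N1072 F6057) (tt N830 (iv D1445)) (tt N1072 F6058) (tt N1258 (iv F7530)) (tt N1072 F6059) (tt N1368 D1972) (tt N888 F6060) (tt N1072 F6061) (tt N1355 (iv F8017)))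
theorem Q1074 : ∀ i, i < 1074 → P i := stepQ 1073 Q1073 (allL N1073 (tt N833 F6062) (tt N1368 (iv F8083)) (tt N831 F6063) (tt N1259 (iv F7534)) (tt N1369 D1973) (tt N830 (iv D1446)) (tt N1370 D1974) (tt N1073 F6064) (tt N1356 (iv F8020)))
theorem Q1075 : ∀ i, i < 1075 → P i := stepQ 1074 Q1074 (allL N1074 (tt N834 F6065) (tt N1074 F6066) (tt N1369 (iv F8087)) (tt N1342 (iv F7957)) (tt N831 (iv D1447)) (tt N1074 F6067) (tt N1371 D1975) (tt N1074 F6068) (tt N1358 (iv F8029)))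
theorem Q1076 : ∀ i, i < 1076 → P i := stepQ 1075 Q1075 (allL N1075 (tt N835 F6069) (tt N1075 F6070) (tt N1370 (iv F8091)) (tt N832 F6071) (tt N1371 (iv F8096)) (tt N891 F6072) (tt N831 (iv D1448)) (tt N1075 F6073) (tt N1359 (iv F8034)))
theorem Q1077 : ∀ i, i < 1077 → P i := stepQ 1076 Q1076 (allL N1076 (tt N1369 (iv F8086)) (tt N1076 F6074) (tt N834 F6075) (tt N1372 D1976) (tt N833 (iv D1449)) (tt N1076 F6076) (tt N1373 D1977) (tt N1076 F6077) (tt N1361 (iv F8043)))
theorem Q1078 : ∀ i, i < 1078 → P i := stepQ 1077 Q1077 (allL N1077 (tt N1370 (iv F8090)) (tt N1077 F6078) (tt N835 F6079) (tt N1266 (iv F7553)) (tt N1373 (iv F8102)) (tt N893 F6080) (tt N833 (iv D1450)) (tt N1077 F6081) (tt N1362 (iv F8047)))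
theorem Q1079 : ∀ i, i < 1079 → P i := stepQ 1078 Q1078 (allL N1078 (tt N1371 (iv F8094)) (tt N836 F6082) (tt N1373 (iv F8101)) (tt N1351 (iv F7984)) (tt N835 F6083) (tt N1374 D1978) (tt N834 (iv D1451)) (tt N1078 F6084) (tt N1365 (iv F8058)))
theorem Q1080 : ∀ i, i < 1080 → P i := stepQ 1079 Q1079 (allL N1079 (tt N1079 F6085) (tt N1374 (iv F8104)) (tt N1079 F6086) (tt N1314 (iv F38732)) (tt N895 F6087) (tt N836 (iv D1452)) (tt N1079 F6088) (tt N1079 F6089) (tt N1303 F38693))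
theorem Q1081 : ∀ i, i < 1081 → P i := stepQ 1080 Q1080 (allL N1080 (tt N1080 F6090) (tt N837 (iv D1453)) (tt N1080 F6091) (tt N1272 (iv F7587)) (tt N848 F6092) (tt N1375 D1979) (tt N1080 F6093) (tt N1376 D1980) (tt N1080 F6094))
theorem Q1082 : ∀ i, i < 1082 → P i := stepQ 1081 Q1081 (allL N1081 (tt N841 F6095) (tt N1375 (iv F8109)) (tt N838 F6096) (tt N1273 (iv F7593)) (tt N1081 F6097) (tt N837 (iv D1454)) (tt N1377 D1981) (tt N1378 D1982) (tt N1081 F6098))
theorem Q1083 : ∀ i, i < 1083 → P i := stepQ 1082 Q1082 (allL N1082 (tt N842 F6099) (tt N1376 (iv F8114)) (tt N839 F6100) (tt N1379 D1983) (tt N849 F6101) (tt N1378 (iv F8126)) (tt N1082 F6102) (tt N837 (iv D1455)) (tt N1380 D1984))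
theorem Q1084 : ∀ i, i < 1084 → P i := stepQ 1083 Q1083 (allL N1083 (tt N843 F6103) (tt N1083 F6104) (tt N1377 (iv F8119)) (tt N840 F6105) (tt N1083 F6106) (tt N1083 F6107) (tt N838 (iv D1456)) (tt N1381 D1985) (tt N1083 F6108))
theorem Q1085 : ∀ i, i < 1085 → P i := stepQ 1084 Q1084 (allL N1084 (tt N844 F6109) (tt N1084 F6110) (tt N1378 (iv F8124)) (tt N1344 (iv F7965)) (tt N1084 F6111) (tt N839 F6112) (tt N1381 (iv F8138)) (tt N838 (iv D1457)) (tt N1382 D1986))
theorem Q1086 : ∀ i, i < 1086 → P i := stepQ 1085 Q1085 (allL N1085 (tt N845 F6113) (tt N1085 F6114) (tt N1380 (iv F8130)) (tt N1345 (iv F7969)) (tt N850 F6115) (tt N1382 (iv F8142)) (tt N1085 F6116) (tt N1085 F6117) (tt N839 (iv D1458)))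
theorem Q1087 : ∀ i, i < 1087 → P i := stepQ 1086 Q1086 (allL N1086 (tt N1377 (iv F8118)) (tt N1086 F6118) (tt N843 F6119) (tt N1280 (iv F7620)) (tt N1086 F6120) (tt N1086 F6121) (tt N841 (iv D1459)) (tt N1383 D1987) (tt N1086 F6122))
theorem Q1088 : ∀ i, i < 1088 → P i := stepQ 1087 Q1087 (allL N1087 (tt N1378 (iv F8123)) (tt N1087 F6123) (tt N844 F6124) (tt N1384 D1988) (tt N1087 F6125) (tt N842 F6126) (tt N1383 (iv F8148)) (tt N841 (iv D1460)) (tt N1385 D1989))
theorem Q1089 : ∀ i, i < 1089 → P i := stepQ 1088 Q1088 (allL N1088 (tt N1379 (iv F8127)) (tt N1088 F6127) (tt N1349 (iv F7978)) (tt N842 (iv D1461)) (tt N1386 D1990) (tt N1384 (iv F8150)) (tt N1088 F6128) (tt N1282 (iv F7628)) (tt N1387 D1991))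
theorem Q1090 : ∀ i, i < 1090 → P i := stepQ 1089 Q1089 (allL N1089 (tt N1380 (iv F8129)) (tt N1089 F6129) (tt N845 F6130) (tt N1387 (iv F8160)) (tt N852 F6131) (tt N1385 (iv F8154)) (tt N1089 F6132) (tt N1089 F6133) (tt N842 (iv D1462)))
theorem Q1091 : ∀ i, i < 1091 → P i := stepQ 1090 Q1090 (allL N1090 (tt N1381 (iv F8134)) (tt N846 F6134) (tt N1383 (iv F8145)) (tt N1353 (iv F7991)) (tt N1090 F6135) (tt N1090 F6136) (tt N844 F6137) (tt N843 (iv D1463)) (tt N1388 D1992))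
theorem Q1092 : ∀ i, i < 1092 → P i := stepQ 1091 Q1091 (allL N1091 (tt N1382 (iv F8139)) (tt N847 F6138) (tt N1385 (iv F8152)) (tt N1354 (iv F7995)) (tt N1091 F6139) (tt N845 F6140) (tt N1388 (iv F8165)) (tt N1091 F6141) (tt N844 (iv D1464)))
theorem Q1093 : ∀ i, i < 1093 → P i := stepQ 1092 Q1092 (allL N1092 (tt N1092 F6142) (tt N1388 (iv F8162)) (tt N1092 F6143) (tt N1326 F38936) (tt N1092 F6144) (tt N1092 F6145) (tt N847 F6146) (tt N1092 F6147) (tt N846 (iv D1465)))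
theorem Q1094 : ∀ i, i < 1094 → P i := stepQ 1093 Q1093 (allL N1093 (tt N1093 F6148) (tt N849 F6149) (tt N1093 F6150) (tt N1389 D1993) (tt N1376 (iv F8116)) (tt N1093 F6151) (tt N1093 F6152) (tt N848 (iv D1466)) (tt N1390 D1994))
theorem Q1095 : ∀ i, i < 1095 → P i := stepQ 1094 Q1094 (allL N1094 (tt N851 F6153) (tt N1389 (iv F8168)) (tt N1094 F6154) (tt N849 (iv D1467)) (tt N1391 D1995) (tt N1094 F6155) (tt N1094 F6156) (tt N1094 F6157) (tt N1392 D1996))
theorem Q1096 : ∀ i, i < 1096 → P i := stepQ 1095 Q1095 (allL N1095 (tt N852 F6158) (tt N1390 (iv F8173)) (tt N850 F6159) (tt N1392 (iv F8184)) (tt N1380 (iv F8131)) (tt N1095 F6160) (tt N1095 F6161) (tt N1095 F6162) (tt N849 (iv D1468)))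
theorem Q1097 : ∀ i, i < 1097 → P i := stepQ 1096 Q1096 (allL N1096 (tt N1391 (iv F8178)) (tt N1096 F6163) (tt N1096 F6164) (tt N1386 (iv F8157)) (tt N851 (iv D1469)) (tt N1393 D1997) (tt N1096 F6165) (tt N1096 F6166) (tt N1394 D1998))
theorem Q1098 : ∀ i, i < 1098 → P i := stepQ 1097 Q1097 (allL N1097 (tt N1392 (iv F8182)) (tt N1097 F6167) (tt N1097 F6168) (tt N852 F6169) (tt N1394 (iv F8193)) (tt N1097 F6170) (tt N1097 F6171) (tt N1395 D1999) (tt N851 (iv D1470)))
theorem Q1099 : ∀ i, i < 1099 → P i := stepQ 1098 Q1098 (allL N1098 (tt N854 F6172) (tt N1396 D2000) (tt N853 (iv D1471)) (tt N1098 F6173) (tt N1106 (iv F6415)) (tt N1115 F37831) (tt N1154 (iv F6902)) (tt N1114 F37832) (tt N1099 (iv F6366)))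
theorem Q1100 : ∀ i, i < 1100 → P i := stepQ 1099 Q1099 (allL N1099 (tt N857 F6363) (tt N1397 D2073) (tt N855 (iv D1523)) (tt N1099 F6364) (tt N869 F6365) (tt N1398 D2074) (tt N1187 (iv F7252)) (tt N1399 D2075) (tt N1098 F6366))
theorem Q1101 : ∀ i, i < 1101 → P i := stepQ 1100 Q1100 (allL N1100 (tt N858 F6367) (tt N1107 (iv F6418)) (tt N1398 (iv F8472)) (tt N856 F6368) (tt N1400 D2076) (tt N855 (iv D1524)) (tt N1264 F37924) (tt N1401 D2078) (tt N871 F37925))
theorem Q1102 : ∀ i, i < 1102 → P i := stepQ 1101 Q1101 (allL N1101 (tt N859 F6370) (tt N1108 (iv F6422)) (tt N1399 (iv F8476)) (tt N1101 F6371) (tt N871 F6372) (tt N1401 (iv F8487)) (tt N1189 (iv F7260)) (tt N855 (iv D1525)) (tt N1400 (iv F37843)))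
theorem Q1103 : ∀ i, i < 1103 → P i := stepQ 1102 Q1102 (allL N1102 (tt N1398 (iv F8471)) (tt N1102 F6378) (tt N858 F6379) (tt N1102 F6380) (tt N1402 D2080) (tt N857 (iv D1527)) (tt N1268 F37906) (tt N1403 D2082) (tt N874 F37907))
theorem Q1104 : ∀ i, i < 1104 → P i := stepQ 1103 Q1103 (allL N1103 (tt N1399 (iv F8475)) (tt N1103 F6382) (tt N859 F6383) (tt N1404 D2083) (tt N874 F6384) (tt N1403 (iv F8502)) (tt N1192 (iv F7273)) (tt N857 (iv D1528)) (tt N1402 (iv F37842)))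
theorem Q1105 : ∀ i, i < 1105 → P i := stepQ 1104 Q1104 (allL N1104 (tt N1400 (iv F8478)) (tt N860 F6385) (tt N1402 (iv F8493)) (tt N1104 F6386) (tt N858 (iv D1529)) (tt N866 (iv F37826)) (tt N1196 (iv F37991)) (tt N865 (iv F37823)) (tt N859 F37913))
theorem Q1106 : ∀ i, i < 1106 → P i := stepQ 1105 Q1105 (allL N1105 (tt N1401 (iv F8485)) (tt N861 F6392) (tt N1403 (iv F8501)) (tt N1105 F6393) (tt N865 F37839) (tt N859 F6394) (tt N1255 (iv F37940)) (tt N858 (iv D1531)) (tt N866 (iv F37942)))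
theorem Q1107 : ∀ i, i < 1107 → P i := stepQ 1106 Q1106 (allL N1106 (tt N864 F6413) (tt N1405 D2094) (tt N862 (iv D1537)) (tt N876 F6414) (tt N1098 F6415) (tt N1406 D2095) (tt N1246 (iv F7471)) (tt N1407 D2096) (tt N869 F6416))
theorem Q1108 : ∀ i, i < 1108 → P i := stepQ 1107 Q1107 (allL N1107 (tt N865 F6417) (tt N1100 F6418) (tt N1406 (iv F8549)) (tt N863 F6419) (tt N1401 (iv F37757)) (tt N862 (iv D1538)) (tt N1408 D2098) (tt N1400 F37747) (tt N870 F6420))
theorem Q1109 : ∀ i, i < 1109 → P i := stepQ 1108 Q1108 (allL N1108 (tt N866 F6421) (tt N1101 F6422) (tt N1407 (iv F8553)) (tt N1108 F6423) (tt N870 (iv F37836)) (tt N1400 F37751) (tt N1248 (iv F7481)) (tt N862 (iv D1539)) (tt N1401 F37840))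
theorem Q1110 : ∀ i, i < 1110 → P i := stepQ 1109 Q1109 (allL N1109 (tt N867 F6425) (tt N1008 F38010) (tt N879 F6427) (tt N1408 (iv F8562)) (tt N1109 F6428) (tt N1249 (iv F7485)) (tt N863 (iv D1540)) (tt N1109 F6429) (tt N872 F6430))
theorem Q1111 : ∀ i, i < 1111 → P i := stepQ 1110 Q1110 (allL N1110 (tt N1406 (iv F8548)) (tt N1110 F6431) (tt N865 F6432) (tt N880 F6433) (tt N1403 (iv F37766)) (tt N864 (iv D1541)) (tt N1409 D2102) (tt N1402 F37742) (tt N873 F6434))
theorem Q1112 : ∀ i, i < 1112 → P i := stepQ 1111 Q1111 (allL N1111 (tt N1407 (iv F8552)) (tt N1111 F6435) (tt N866 F6436) (tt N1410 D2104) (tt N873 (iv F37827)) (tt N1402 F37745) (tt N1251 (iv F7495)) (tt N864 (iv D1542)) (tt N1403 F37864))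
theorem Q1113 : ∀ i, i < 1113 → P i := stepQ 1112 Q1112 (allL N1112 (tt N1408 (iv F8560)) (tt N868 F6442) (tt N1409 (iv F8578)) (tt N867 F6443) (tt N1255 F38008) (tt N1253 (iv F7501)) (tt N865 (iv D1544)) (tt N1196 F38009) (tt N875 F6444))
theorem Q1114 : ∀ i, i < 1114 → P i := stepQ 1113 Q1113 (allL N1113 (tt N1113 F6470) (tt N869 (iv D1551)) (tt N1396 (iv F8202)) (tt N888 F6471) (tt N1397 (iv F8469)) (tt N1411 D2115) (tt N1258 (iv F7531)) (tt N1412 D2116) (tt N1405 (iv F8547)))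
theorem Q1115 : ∀ i, i < 1115 → P i := stepQ 1114 Q1114 (allL N1114 (tt N873 F6472) (tt N1411 (iv F8629)) (tt N870 F6473) (tt N889 F6474) (tt N1407 F37752) (tt N869 (iv D1552)) (tt N1413 D2118) (tt N1098 (iv F37832)) (tt N1406 (iv F8551)))
theorem Q1116 : ∀ i, i < 1116 → P i := stepQ 1115 Q1115 (allL N1115 (tt N874 F6475) (tt N1412 (iv F8632)) (tt N871 F6476) (tt N1115 F6477) (tt N1399 (iv F8477)) (tt N1098 (iv F37831)) (tt N1260 (iv F7538)) (tt N869 (iv D1553)) (tt N1398 (iv F37838)))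
theorem Q1117 : ∀ i, i < 1117 → P i := stepQ 1116 Q1116 (allL N1116 (tt N875 F6480) (tt N983 (iv F37937)) (tt N1413 (iv F8637)) (tt N872 F6481) (tt N1248 F37923) (tt N1262 (iv F7542)) (tt N870 (iv D1555)) (tt N905 (iv F37997)) (tt N1408 (iv F8563)))
theorem Q1118 : ∀ i, i < 1118 → P i := stepQ 1117 Q1117 (allL N1117 (tt N1413 (iv F8636)) (tt N1117 F6489) (tt N875 F6490) (tt N893 F6491) (tt N1251 F37903) (tt N1266 (iv F7554)) (tt N873 (iv D1559)) (tt N907 (iv F37975)) (tt N1409 (iv F8580)))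
theorem Q1119 : ∀ i, i < 1119 → P i := stepQ 1118 Q1118 (allL N1118 (tt N1118 F6600) (tt N876 (iv D1592)) (tt N1118 F6601) (tt N1405 (iv F8545)) (tt N1118 F6602) (tt N1414 D2166) (tt N1355 (iv F8016)) (tt N1415 D2167) (tt N888 F6603))
theorem Q1120 : ∀ i, i < 1120 → P i := stepQ 1119 Q1119 (allL N1119 (tt N880 F6604) (tt N1414 (iv F8796)) (tt N877 F6605) (tt N1406 (iv F8550)) (tt N1416 D2168) (tt N876 (iv D1593)) (tt N1417 D2169) (tt N1418 D2170) (tt N889 F6606))
theorem Q1121 : ∀ i, i < 1121 → P i := stepQ 1120 Q1120 (allL N1120 (tt N881 F6607) (tt N1415 (iv F8800)) (tt N878 F6608) (tt N1419 D2171) (tt N1120 F6609) (tt N1418 (iv F8813)) (tt N1357 (iv F8024)) (tt N876 (iv D1594)) (tt N1120 F6610))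
theorem Q1122 : ∀ i, i < 1122 → P i := stepQ 1121 Q1121 (allL N1121 (tt N882 F6611) (tt N1121 F6612) (tt N1416 (iv F8805)) (tt N1121 F6613) (tt N877 (iv D1595)) (tt N1121 F6614) (tt N1420 D2172) (tt N1421 D2173) (tt N890 F6615))
theorem Q1123 : ∀ i, i < 1123 → P i := stepQ 1122 Q1122 (allL N1122 (tt N883 F6616) (tt N1122 F6617) (tt N1417 (iv F8809)) (tt N879 F6618) (tt N1420 (iv F8821)) (tt N1359 (iv F8033)) (tt N877 (iv D1596)) (tt N1422 D2174) (tt N891 F6619))
theorem Q1124 : ∀ i, i < 1124 → P i := stepQ 1123 Q1123 (allL N1123 (tt N884 F6620) (tt N1123 F6621) (tt N1418 (iv F8812)) (tt N1123 F6622) (tt N1421 (iv F8825)) (tt N878 F6623) (tt N1422 (iv F8831)) (tt N877 (iv D1597)) (tt N1123 F6624))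
theorem Q1125 : ∀ i, i < 1125 → P i := stepQ 1124 Q1124 (allL N1124 (tt N1416 (iv F8804)) (tt N1124 F6625) (tt N882 F6626) (tt N1423 D2175) (tt N880 (iv D1598)) (tt N1124 F6627) (tt N1424 D2176) (tt N1425 D2177) (tt N892 F6628))
theorem Q1126 : ∀ i, i < 1126 → P i := stepQ 1125 Q1125 (allL N1125 (tt N1417 (iv F8808)) (tt N1125 F6629) (tt N883 F6630) (tt N1409 (iv F8579)) (tt N1424 (iv F8839)) (tt N1362 (iv F8046)) (tt N880 (iv D1599)) (tt N1426 D2178) (tt N893 F6631))
theorem Q1127 : ∀ i, i < 1127 → P i := stepQ 1126 Q1126 (allL N1126 (tt N1418 (iv F8811)) (tt N1126 F6632) (tt N884 F6633) (tt N1427 D2179) (tt N1425 (iv F8843)) (tt N881 F6634) (tt N1426 (iv F8848)) (tt N880 (iv D1600)) (tt N1126 F6635))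
theorem Q1128 : ∀ i, i < 1128 → P i := stepQ 1127 Q1127 (allL N1127 (tt N1419 (iv F8815)) (tt N1127 F6636) (tt N1127 F6637) (tt N881 (iv D1601)) (tt N1428 D2180) (tt N1427 (iv F8852)) (tt N1364 (iv F8054)) (tt N1410 (iv F8586)) (tt N1127 F6638))
theorem Q1129 : ∀ i, i < 1129 → P i := stepQ 1128 Q1128 (allL N1128 (tt N1420 (iv F8818)) (tt N885 F6639) (tt N1424 (iv F8838)) (tt N1128 F6640) (tt N883 F6641) (tt N1429 D2181) (tt N882 (iv D1602)) (tt N1430 D2182) (tt N894 F6642))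
theorem Q1130 : ∀ i, i < 1130 → P i := stepQ 1129 Q1129 (allL N1129 (tt N1421 (iv F8823)) (tt N886 F6643) (tt N1425 (iv F8842)) (tt N1431 D2183) (tt N884 F6644) (tt N1129 F6645) (tt N1430 (iv F8864)) (tt N882 (iv D1603)) (tt N1129 F6646))
theorem Q1131 : ∀ i, i < 1131 → P i := stepQ 1130 Q1130 (allL N1130 (tt N1422 (iv F8828)) (tt N887 F6647) (tt N1426 (iv F8847)) (tt N1130 F6648) (tt N1430 (iv F8863)) (tt N1367 (iv F8065)) (tt N884 F6649) (tt N883 (iv D1604)) (tt N1130 F6650))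
theorem Q1132 : ∀ i, i < 1132 → P i := stepQ 1131 Q1131 (allL N1131 (tt N1131 F6651) (tt N1429 (iv F8858)) (tt N1131 F6652) (tt N1131 F6653) (tt N1303 F38689) (tt N885 (iv D1605)) (tt N1131 F6654) (tt N1296 (iv F38740)) (tt N895 F6655))
theorem Q1133 : ∀ i, i < 1133 → P i := stepQ 1132 Q1132 (allL N1132 (tt N1132 F6656) (tt N1430 (iv F8862)) (tt N1132 F6657) (tt N1297 (iv F38861)) (tt N887 F6658) (tt N1296 F38814) (tt N886 F6659) (tt N885 (iv D1606)) (tt N1132 F6660))
theorem Q1134 : ∀ i, i < 1134 → P i := stepQ 1133 Q1133 (allL N1133 (tt N1133 F6661) (tt N1431 (iv F8866)) (tt N1298 (iv F38925)) (tt N886 (iv D1607)) (tt N1133 F6662) (tt N1133 F6663) (tt N1297 F38902) (tt N1133 F6664) (tt N1133 F6665))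
theorem Q1135 : ∀ i, i < 1135 → P i := stepQ 1134 Q1134 (allL N1134 (tt N1134 F6666) (tt N889 F6667) (tt N1134 F6668) (tt N1411 (iv F8630)) (tt N1432 D2187) (tt N888 (iv D1608)) (tt N1433 D2188) (tt N1134 F6669) (tt N1414 (iv F8798)))
theorem Q1136 : ∀ i, i < 1136 → P i := stepQ 1135 Q1135 (allL N1135 (tt N892 F6670) (tt N1432 (iv F8888)) (tt N890 F6671) (tt N1434 D2189) (tt N889 (iv D1609)) (tt N1135 F6672) (tt N1435 D2190) (tt N1135 F6673) (tt N1416 (iv F8807)))
theorem Q1137 : ∀ i, i < 1137 → P i := stepQ 1136 Q1136 (allL N1136 (tt N893 F6674) (tt N1433 (iv F8893)) (tt N891 F6675) (tt N1413 (iv F8638)) (tt N1435 (iv F8901)) (tt N1370 (iv F8092)) (tt N889 (iv D1610)) (tt N1136 F6676) (tt N1417 (iv F8810)))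
theorem Q1138 : ∀ i, i < 1138 → P i := stepQ 1137 Q1137 (allL N1137 (tt N894 F6677) (tt N1137 F6678) (tt N1435 (iv F8900)) (tt N1137 F6679) (tt N891 F6680) (tt N1436 D2191) (tt N890 (iv D1611)) (tt N1137 F6681) (tt N1420 (iv F8822)))
theorem Q1139 : ∀ i, i < 1139 → P i := stepQ 1138 Q1138 (allL N1138 (tt N1434 (iv F8896)) (tt N1138 F6682) (tt N1138 F6683) (tt N892 (iv D1612)) (tt N1410 F37743) (tt N1138 F6684) (tt N1437 D2192) (tt N1428 F37744) (tt N1423 (iv F8836)))
theorem Q1140 : ∀ i, i < 1140 → P i := stepQ 1139 Q1139 (allL N1139 (tt N1435 (iv F8899)) (tt N1139 F6685) (tt N894 F6686) (tt N1437 (iv F8910)) (tt N893 F6687) (tt N1438 D2194) (tt N892 (iv D1613)) (tt N1139 F6688) (tt N1424 (iv F8840)))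
theorem Q1141 : ∀ i, i < 1141 → P i := stepQ 1140 Q1140 (allL N1140 (tt N1436 (iv F8903)) (tt N895 F6689) (tt N1438 (iv F8916)) (tt N1140 F6690) (tt N1374 (iv F8105)) (tt N894 (iv D1614)) (tt N1140 F6691) (tt N1140 F6692) (tt N1429 (iv F8861)))
theorem Q1142 : ∀ i, i < 1142 → P i := stepQ 1141 Q1141 (allL N1141 (tt N897 F6846) (tt N949 F6847) (tt N1141 F6848) (tt N1439 D2240) (tt N896 (iv D1649)) (tt N1440 D2241) (tt N1141 F6849) (tt N1141 F6850) (tt N1171 (iv F7192)))
theorem Q1143 : ∀ i, i < 1143 → P i := stepQ 1142 Q1142 (allL N1142 (tt N1439 (iv F9115)) (tt N898 F6851) (tt N1441 D2242) (tt N897 (iv D1650)) (tt N1207 (iv F7338)) (tt N1442 D2243) (tt N1142 F6852) (tt N1443 D2244) (tt N1172 (iv F7196)))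
theorem Q1144 : ∀ i, i < 1144 → P i := stepQ 1143 Q1143 (allL N1143 (tt N1440 (iv F9118)) (tt N899 F6853) (tt N1143 F6854) (tt N1442 (iv F9127)) (tt N1143 F6855) (tt N897 (iv D1651)) (tt N1293 F38541) (tt N1143 F6856) (tt N1173 (iv F7200)))
theorem Q1145 : ∀ i, i < 1145 → P i := stepQ 1144 Q1144 (allL N1144 (tt N952 F6857) (tt N1442 (iv F9126)) (tt N903 F6858) (tt N899 F6859) (tt N1444 D2246) (tt N898 (iv D1652)) (tt N1292 F38454) (tt N1445 D2248) (tt N1174 (iv F7203)))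
theorem Q1146 : ∀ i, i < 1146 → P i := stepQ 1145 Q1145 (allL N1145 (tt N953 F6860) (tt N1443 (iv F9128)) (tt N904 F6861) (tt N1145 F6862) (tt N1210 (iv F7351)) (tt N1445 (iv F9146)) (tt N1145 F6863) (tt N898 (iv D1653)) (tt N1446 D2249))
theorem Q1147 : ∀ i, i < 1147 → P i := stepQ 1146 Q1146 (allL N1146 (tt N901 F6869) (tt N961 F6870) (tt N1447 D2250) (tt N900 (iv D1655)) (tt N1222 (iv F7390)) (tt N1448 D2251) (tt N1146 F6871) (tt N1449 D2252) (tt N1177 (iv F7214)))
theorem Q1148 : ∀ i, i < 1148 → P i := stepQ 1147 Q1147 (allL N1147 (tt N902 F6872) (tt N962 F6873) (tt N1147 F6874) (tt N1448 (iv F9156)) (tt N906 F6875) (tt N900 (iv D1656)) (tt N1290 F38229) (tt N911 F6876) (tt N1178 (iv F7219)))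
theorem Q1149 : ∀ i, i < 1149 → P i := stepQ 1148 Q1148 (allL N1148 (tt N1447 (iv F9151)) (tt N1441 (iv F9123)) (tt N901 (iv D1657)) (tt N1148 F6877) (tt N1224 (iv F7400)) (tt N1450 D2254) (tt N1148 F6878) (tt N1451 D2255) (tt N1179 (iv F7223)))
theorem Q1150 : ∀ i, i < 1150 → P i := stepQ 1149 Q1149 (allL N1149 (tt N1448 (iv F9154)) (tt N903 F6879) (tt N1450 (iv F9167)) (tt N902 F6880) (tt N1452 D2256) (tt N901 (iv D1658)) (tt N1291 F38318) (tt N1453 D2258) (tt N1180 (iv F7226)))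
theorem Q1151 : ∀ i, i < 1151 → P i := stepQ 1150 Q1150 (allL N1150 (tt N1449 (iv F9157)) (tt N904 F6881) (tt N1451 (iv F9169)) (tt N914 F6882) (tt N1226 (iv F7408)) (tt N1453 (iv F9178)) (tt N1150 F6883) (tt N901 (iv D1659)) (tt N1454 D2259))
theorem Q1152 : ∀ i, i < 1152 → P i := stepQ 1151 Q1151 (allL N1151 (tt N967 F6889) (tt N1452 (iv F9171)) (tt N1444 (iv F9137)) (tt N909 F6890) (tt N903 (iv D1661)) (tt N1228 (iv F7418)) (tt N1271 F38316) (tt N1455 D2261) (tt N1183 (iv F7239)))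
theorem Q1153 : ∀ i, i < 1153 → P i := stepQ 1152 Q1152 (allL N1152 (tt N969 F6894) (tt N1453 (iv F9176)) (tt N1445 (iv F9144)) (tt N915 F6895) (tt N1455 (iv F9186)) (tt N904 F6896) (tt N1287 F38456) (tt N903 (iv D1663)) (tt N1456 D2263))
theorem Q1154 : ∀ i, i < 1154 → P i := stepQ 1153 Q1153 (allL N1153 (tt N970 F6897) (tt N1454 (iv F9179)) (tt N1446 (iv F9148)) (tt N916 F6898) (tt N1231 (iv F7429)) (tt N1456 (iv F9193)) (tt N1153 F6899) (tt N1186 (iv F7248)) (tt N904 (iv D1664)))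
theorem Q1155 : ∀ i, i < 1155 → P i := stepQ 1154 Q1154 (allL N1154 (tt N907 F6900) (tt N1457 D2264) (tt N905 (iv D1665)) (tt N1154 F6901) (tt N1246 (iv F7470)) (tt N1458 D2265) (tt N1098 F6902) (tt N1413 F37915) (tt N1187 (iv F7253)))
theorem Q1156 : ∀ i, i < 1156 → P i := stepQ 1155 Q1155 (allL N1155 (tt N908 F6903) (tt N982 F6904) (tt N1458 (iv F9199)) (tt N906 F6905) (tt N1459 D2267) (tt N905 (iv D1666)) (tt N1263 F38093) (tt N1262 F38094) (tt N1188 (iv F7256)))
theorem Q1157 : ∀ i, i < 1157 → P i := stepQ 1156 Q1156 (allL N1156 (tt N1458 (iv F9198)) (tt N1156 F6915) (tt N908 F6916) (tt N1156 F6917) (tt N1460 D2271) (tt N907 (iv D1669)) (tt N1267 F38059) (tt N1266 F38060) (tt N1191 (iv F7269)))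
theorem Q1158 : ∀ i, i < 1158 → P i := stepQ 1157 Q1157 (allL N1157 (tt N1459 (iv F9204)) (tt N909 F6921) (tt N1460 (iv F9219)) (tt N1452 (iv F9172)) (tt N908 (iv D1671)) (tt N1252 (iv F7497)) (tt N1270 F38195) (tt N1269 F38196) (tt N1193 (iv F7276)))
theorem Q1159 : ∀ i, i < 1159 → P i := stepQ 1158 Q1158 (allL N1158 (tt N912 F6946) (tt N1461 D2285) (tt N910 (iv D1679)) (tt N1158 F6947) (tt N1158 F6948) (tt N1462 D2286) (tt N1158 F6949) (tt N1463 D2287) (tt N1158 F6950))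
theorem Q1160 : ∀ i, i < 1160 → P i := stepQ 1159 Q1159 (allL N1159 (tt N913 F6951) (tt N994 F6952) (tt N1462 (iv F9269)) (tt N911 F6953) (tt N1276 F38359) (tt N910 (iv D1680)) (tt N1275 F38360) (tt N1464 D2290) (tt N1159 F6954))
theorem Q1161 : ∀ i, i < 1161 → P i := stepQ 1160 Q1160 (allL N1160 (tt N914 F6955) (tt N995 F6956) (tt N1463 (iv F9273)) (tt N1449 (iv F9159)) (tt N1160 F6957) (tt N1464 (iv F9288)) (tt N1160 F6958) (tt N910 (iv D1681)) (tt N1465 D2291))
theorem Q1162 : ∀ i, i < 1162 → P i := stepQ 1161 Q1161 (allL N1161 (tt N1462 (iv F9268)) (tt N1161 F6965) (tt N913 F6966) (tt N1161 F6967) (tt N1280 F38449) (tt N912 (iv D1683)) (tt N1279 F38450) (tt N1466 D2294) (tt N1161 F6968))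
theorem Q1163 : ∀ i, i < 1163 → P i := stepQ 1162 Q1162 (allL N1162 (tt N1463 (iv F9272)) (tt N1162 F6969) (tt N914 F6970) (tt N1467 D2295) (tt N1162 F6971) (tt N1466 (iv F9305)) (tt N1162 F6972) (tt N912 (iv D1684)) (tt N1468 D2296))
theorem Q1164 : ∀ i, i < 1164 → P i := stepQ 1163 Q1163 (allL N1163 (tt N1464 (iv F9286)) (tt N915 F6981) (tt N1466 (iv F9304)) (tt N1453 (iv F9177)) (tt N1285 F38451) (tt N914 F6982) (tt N1284 F38452) (tt N913 (iv D1687)) (tt N1469 D2300))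
theorem Q1165 : ∀ i, i < 1165 → P i := stepQ 1164 Q1164 (allL N1164 (tt N1465 (iv F9289)) (tt N916 F6983) (tt N1468 (iv F9310)) (tt N1454 (iv F9180)) (tt N1164 F6984) (tt N1469 (iv F9325)) (tt N1164 F6985) (tt N1164 F6986) (tt N914 (iv D1688)))
theorem Q1166 : ∀ i, i < 1166 → P i := stepQ 1165 Q1165 (allL N1165 (tt N1005 F7000) (tt N1469 (iv F9324)) (tt N1165 F7001) (tt N1456 (iv F9192)) (tt N1289 F38534) (tt N916 F7002) (tt N1288 F38535) (tt N1165 F7003) (tt N915 (iv D1692)))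
theorem Q1167 : ∀ i, i < 1167 → P i := stepQ 1166 Q1166 (allL N1166 (tt N917 (iv D1731)) (tt N1201 (iv F7303)) (tt N1166 F7164) (tt N1166 F7165) (tt N1470 D2358) (tt N1166 F7166) (tt N1166 F7167) (tt N920 F7168) (tt N1166 F7169))
theorem Q1168 : ∀ i, i < 1168 → P i := stepQ 1167 Q1167 (allL N1167 (tt N1470 (iv F9565)) (tt N918 F7170) (tt N1167 F7171) (tt N1471 D2359) (tt N917 (iv D1732)) (tt N1472 D2360) (tt N1167 F7172) (tt N921 F7173) (tt N1167 F7174))
theorem Q1169 : ∀ i, i < 1169 → P i := stepQ 1168 Q1168 (allL N1168 (tt N1203 (iv F7315)) (tt N1471 (iv F9570)) (tt N1168 F7175) (tt N918 (iv D1733)) (tt N1168 F7176) (tt N1473 D2361) (tt N1168 F7177) (tt N1474 D2362) (tt N1168 F7178))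
theorem Q1170 : ∀ i, i < 1170 → P i := stepQ 1169 Q1169 (allL N1169 (tt N1204 (iv F7320)) (tt N1472 (iv F9574)) (tt N919 F7179) (tt N1473 (iv F9580)) (tt N1169 F7180) (tt N918 (iv D1734)) (tt N1475 D2363) (tt N923 F7181) (tt N1169 F7182))
theorem Q1171 : ∀ i, i < 1171 → P i := stepQ 1170 Q1170 (allL N1170 (tt N1205 (iv F7325)) (tt N1170 F7183) (tt N1475 (iv F9586)) (tt N1170 F7184) (tt N1170 F7185) (tt N1170 F7186) (tt N919 (iv D1735)) (tt N924 F7187) (tt N1170 F7188))
theorem Q1172 : ∀ i, i < 1172 → P i := stepQ 1171 Q1171 (allL N1171 (tt N921 F7189) (tt N1206 (iv F7333)) (tt N1171 F7190) (tt N1476 D2364) (tt N920 (iv D1736)) (tt N1477 D2365) (tt N1171 F7191) (tt N1470 (iv F9568)) (tt N1141 F7192))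
theorem Q1173 : ∀ i, i < 1173 → P i := stepQ 1172 Q1172 (allL N1172 (tt N1476 (iv F9591)) (tt N922 F7193) (tt N1478 D2366) (tt N921 (iv D1737)) (tt N950 F7194) (tt N1479 D2367) (tt N1172 F7195) (tt N1480 D2368) (tt N1142 F7196))
theorem Q1174 : ∀ i, i < 1174 → P i := stepQ 1173 Q1173 (allL N1173 (tt N1477 (iv F9595)) (tt N923 F7197) (tt N1173 F7198) (tt N1479 (iv F9605)) (tt N1173 F7199) (tt N921 (iv D1738)) (tt N1481 D2369) (tt N1472 (iv F9577)) (tt N1143 F7200))
theorem Q1175 : ∀ i, i < 1175 → P i := stepQ 1174 Q1174 (allL N1174 (tt N1209 (iv F7345)) (tt N1479 (iv F9604)) (tt N928 F7201) (tt N923 F7202) (tt N1482 D2370) (tt N922 (iv D1739)) (tt N1483 D2371) (tt N1484 D2372) (tt N1144 F7203))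
theorem Q1176 : ∀ i, i < 1176 → P i := stepQ 1175 Q1175 (allL N1175 (tt N1210 (iv F7349)) (tt N1480 (iv F9607)) (tt N929 F7204) (tt N1474 (iv F9583)) (tt N953 F7205) (tt N1484 (iv F9624)) (tt N1175 F7206) (tt N922 (iv D1740)) (tt N1485 D2373))
theorem Q1177 : ∀ i, i < 1177 → P i := stepQ 1176 Q1176 (allL N1176 (tt N1211 (iv F7353)) (tt N1481 (iv F9610)) (tt N924 F7207) (tt N1483 (iv F9620)) (tt N1176 F7208) (tt N1176 F7209) (tt N923 (iv D1741)) (tt N1475 (iv F9589)) (tt N1011 (iv F38476)))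
theorem Q1178 : ∀ i, i < 1178 → P i := stepQ 1177 Q1177 (allL N1177 (tt N926 F7211) (tt N1222 (iv F7389)) (tt N1486 D2374) (tt N925 (iv D1742)) (tt N961 F7212) (tt N1487 D2375) (tt N1177 F7213) (tt N1488 D2376) (tt N1146 F7214))
theorem Q1179 : ∀ i, i < 1179 → P i := stepQ 1178 Q1178 (allL N1178 (tt N927 F7215) (tt N1223 (iv F7394)) (tt N1178 F7216) (tt N1487 (iv F9635)) (tt N932 F7217) (tt N925 (iv D1743)) (tt N1489 D2377) (tt N1178 F7218) (tt N1147 F7219))
theorem Q1180 : ∀ i, i < 1180 → P i := stepQ 1179 Q1179 (allL N1179 (tt N1486 (iv F9629)) (tt N1478 (iv F9599)) (tt N926 (iv D1744)) (tt N1179 F7220) (tt N963 F7221) (tt N1490 D2378) (tt N1179 F7222) (tt N1491 D2379) (tt N1148 F7223))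
theorem Q1181 : ∀ i, i < 1181 → P i := stepQ 1180 Q1180 (allL N1180 (tt N1487 (iv F9634)) (tt N928 F7224) (tt N1490 (iv F9647)) (tt N927 F7225) (tt N1492 D2380) (tt N926 (iv D1745)) (tt N1493 D2381) (tt N1494 D2382) (tt N1149 F7226))
theorem Q1182 : ∀ i, i < 1182 → P i := stepQ 1181 Q1181 (allL N1181 (tt N1488 (iv F9637)) (tt N929 F7227) (tt N1491 (iv F9650)) (tt N1181 F7228) (tt N965 F7229) (tt N1494 (iv F9663)) (tt N1181 F7230) (tt N926 (iv D1746)) (tt N1495 D2383))
theorem Q1183 : ∀ i, i < 1183 → P i := stepQ 1182 Q1182 (allL N1182 (tt N1489 (iv F9641)) (tt N930 F7231) (tt N1182 F7232) (tt N1493 (iv F9658)) (tt N936 F7233) (tt N1182 F7234) (tt N927 (iv D1747)) (tt N1182 F7235) (tt N1009 (iv F38227)))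
theorem Q1184 : ∀ i, i < 1184 → P i := stepQ 1183 Q1183 (allL N1183 (tt N1228 (iv F7416)) (tt N1492 (iv F9653)) (tt N1482 (iv F9615)) (tt N937 F7237) (tt N928 (iv D1748)) (tt N967 F7238) (tt N1496 D2384) (tt N1497 D2385) (tt N1151 F7239))
theorem Q1185 : ∀ i, i < 1185 → P i := stepQ 1184 Q1184 (allL N1184 (tt N1229 (iv F7420)) (tt N1493 (iv F9657)) (tt N1483 (iv F9619)) (tt N930 F7240) (tt N1496 (iv F9670)) (tt N1184 F7241) (tt N928 (iv D1749)) (tt N1498 D2386) (tt N1010 (iv F38343)))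
theorem Q1186 : ∀ i, i < 1186 → P i := stepQ 1185 Q1185 (allL N1185 (tt N1230 (iv F7424)) (tt N1494 (iv F9661)) (tt N1484 (iv F9623)) (tt N1185 F7243) (tt N1497 (iv F9672)) (tt N929 F7244) (tt N1498 (iv F9676)) (tt N928 (iv D1750)) (tt N1499 D2387))
theorem Q1187 : ∀ i, i < 1187 → P i := stepQ 1186 Q1186 (allL N1186 (tt N1231 (iv F7427)) (tt N1495 (iv F9664)) (tt N1485 (iv F9625)) (tt N1186 F7245) (tt N970 F7246) (tt N1499 (iv F9678)) (tt N1186 F7247) (tt N1153 F7248) (tt N929 (iv D1751)))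
theorem Q1188 : ∀ i, i < 1188 → P i := stepQ 1187 Q1187 (allL N1187 (tt N933 F7249) (tt N1500 D2388) (tt N931 (iv D1752)) (tt N1187 F7250) (tt N981 F7251) (tt N1501 D2389) (tt N1099 F7252) (tt N1502 D2390) (tt N1154 F7253))
theorem Q1189 : ∀ i, i < 1189 → P i := stepQ 1188 Q1188 (allL N1188 (tt N934 F7254) (tt N1247 (iv F7474)) (tt N1501 (iv F9686)) (tt N932 F7255) (tt N1503 D2391) (tt N931 (iv D1753)) (tt N1504 D2392) (tt N1505 D2393) (tt N1155 F7256))
theorem Q1190 : ∀ i, i < 1190 → P i := stepQ 1189 Q1189 (allL N1189 (tt N935 F7257) (tt N1248 (iv F7478)) (tt N1502 (iv F9690)) (tt N1189 F7258) (tt N983 F7259) (tt N1505 (iv F9702)) (tt N1101 F7260) (tt N931 (iv D1754)) (tt N1506 D2394))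
theorem Q1191 : ∀ i, i < 1191 → P i := stepQ 1190 Q1190 (allL N1190 (tt N936 F7261) (tt N1249 (iv F7483)) (tt N1190 F7262) (tt N1504 (iv F9697)) (tt N1489 (iv F9643)) (tt N1008 F38014) (tt N932 (iv D1755)) (tt N1190 F7264) (tt N1007 (iv F38107)))
theorem Q1192 : ∀ i, i < 1192 → P i := stepQ 1191 Q1191 (allL N1191 (tt N1501 (iv F9685)) (tt N1191 F7266) (tt N934 F7267) (tt N1191 F7268) (tt N1507 D2395) (tt N933 (iv D1756)) (tt N1508 D2396) (tt N1509 D2397) (tt N1156 F7269))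
theorem Q1193 : ∀ i, i < 1193 → P i := stepQ 1192 Q1192 (allL N1192 (tt N1502 (iv F9689)) (tt N1192 F7270) (tt N935 F7271) (tt N1510 D2398) (tt N986 F7272) (tt N1509 (iv F9719)) (tt N1103 F7273) (tt N933 (iv D1757)) (tt N1511 D2399))
theorem Q1194 : ∀ i, i < 1194 → P i := stepQ 1193 Q1193 (allL N1193 (tt N1503 (iv F9693)) (tt N937 F7274) (tt N1507 (iv F9709)) (tt N1492 (iv F9654)) (tt N934 (iv D1758)) (tt N987 F7275) (tt N1512 D2400) (tt N1513 D2401) (tt N1157 F7276))
theorem Q1195 : ∀ i, i < 1195 → P i := stepQ 1194 Q1194 (allL N1194 (tt N1504 (iv F9696)) (tt N938 F7277) (tt N1508 (iv F9713)) (tt N936 F7278) (tt N1512 (iv F9731)) (tt N990 F37992) (tt N934 (iv D1759)) (tt N1514 D2402) (tt N989 (iv F38091)))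
theorem Q1196 : ∀ i, i < 1196 → P i := stepQ 1195 Q1195 (allL N1195 (tt N1505 (iv F9700)) (tt N939 F7281) (tt N1509 (iv F9718)) (tt N1195 F7282) (tt N1513 (iv F9734)) (tt N935 F7283) (tt N1514 (iv F9739)) (tt N934 (iv D1760)) (tt N1515 D2403))
theorem Q1197 : ∀ i, i < 1197 → P i := stepQ 1196 Q1196 (allL N1196 (tt N1506 (iv F9703)) (tt N940 F7284) (tt N1511 (iv F9726)) (tt N1196 F7285) (tt N990 F7286) (tt N1515 (iv F9742)) (tt N1104 F37991) (tt N1112 (iv F38009)) (tt N935 (iv D1761)))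
theorem Q1198 : ∀ i, i < 1198 → P i := stepQ 1197 Q1197 (allL N1197 (tt N1256 (iv F7511)) (tt N1512 (iv F9730)) (tt N1197 F7289) (tt N1496 (iv F9669)) (tt N938 F7290) (tt N1516 D2404) (tt N937 (iv D1762)) (tt N1517 D2405) (tt N992 (iv F38216)))
theorem Q1199 : ∀ i, i < 1199 → P i := stepQ 1198 Q1198 (allL N1198 (tt N1257 (iv F7515)) (tt N1513 (iv F9733)) (tt N1198 F7292) (tt N1518 D2406) (tt N939 F7293) (tt N992 F7294) (tt N1517 (iv F9750)) (tt N937 (iv D1763)) (tt N1516 F38149))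
theorem Q1200 : ∀ i, i < 1200 → P i := stepQ 1199 Q1199 (allL N1199 (tt N1200 (iv F38113)) (tt N1514 (iv F9736)) (tt N1199 F7295) (tt N1199 F7296) (tt N1517 (iv F9749)) (tt N980 F38087) (tt N939 F7298) (tt N938 (iv D1764)) (tt N979 (iv F38115)))
theorem Q1201 : ∀ i, i < 1201 → P i := stepQ 1200 Q1200 (allL N1200 (tt N1199 F38113) (tt N1515 (iv F9740)) (tt N1200 F7299) (tt N1200 F7300) (tt N1516 (iv F38148)) (tt N940 F7301) (tt N979 (iv F38114)) (tt N978 (iv F38118)) (tt N939 (iv D1765)))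
theorem Q1202 : ∀ i, i < 1202 → P i := stepQ 1201 Q1201 (allL N1201 (tt N941 (iv D1766)) (tt N1166 F7303) (tt N1015 F7304) (tt N1201 F7305) (tt N1519 D2409) (tt N1201 F7306) (tt N1201 F7307) (tt N944 F7308) (tt N1201 F7309))
theorem Q1203 : ∀ i, i < 1203 → P i := stepQ 1202 Q1202 (allL N1202 (tt N1519 (iv F9762)) (tt N942 F7310) (tt N1016 F7311) (tt N1520 D2410) (tt N941 (iv D1767)) (tt N1521 D2411) (tt N1202 F7312) (tt N945 F7313) (tt N1202 F7314))
theorem Q1204 : ∀ i, i < 1204 → P i := stepQ 1203 Q1203 (allL N1203 (tt N1168 F7315) (tt N1520 (iv F9768)) (tt N1203 F7316) (tt N942 (iv D1768)) (tt N1203 F7317) (tt N1522 D2412) (tt N1203 F7318) (tt N1523 D2413) (tt N1203 F7319))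
theorem Q1205 : ∀ i, i < 1205 → P i := stepQ 1204 Q1204 (allL N1204 (tt N1169 F7320) (tt N1521 (iv F9772)) (tt N943 F7321) (tt N1522 (iv F9779)) (tt N1204 F7322) (tt N942 (iv D1769)) (tt N1524 D2414) (tt N947 F7323) (tt N1204 F7324))
theorem Q1206 : ∀ i, i < 1206 → P i := stepQ 1205 Q1205 (allL N1205 (tt N1170 F7325) (tt N1019 F7326) (tt N1524 (iv F9787)) (tt N1205 F7327) (tt N1205 F7328) (tt N1205 F7329) (tt N943 (iv D1770)) (tt N948 F7330) (tt N1205 F7331))
theorem Q1207 : ∀ i, i < 1207 → P i := stepQ 1206 Q1206 (allL N1206 (tt N945 F7332) (tt N1171 F7333) (tt N1020 F7334) (tt N1525 D2415) (tt N944 (iv D1771)) (tt N1526 D2416) (tt N1206 F7335) (tt N1519 (iv F9766)) (tt N949 F7336))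
theorem Q1208 : ∀ i, i < 1208 → P i := stepQ 1207 Q1207 (allL N1207 (tt N1525 (iv F9792)) (tt N946 F7337) (tt N1527 D2417) (tt N945 (iv D1772)) (tt N1142 F7338) (tt N1528 D2418) (tt N1207 F7339) (tt N1529 D2419) (tt N950 F7340))
theorem Q1209 : ∀ i, i < 1209 → P i := stepQ 1208 Q1208 (allL N1208 (tt N1526 (iv F9797)) (tt N947 F7341) (tt N1022 F7342) (tt N1528 (iv F9808)) (tt N1208 F7343) (tt N945 (iv D1773)) (tt N1530 D2420) (tt N1521 (iv F9775)) (tt N951 F7344))
theorem Q1210 : ∀ i, i < 1210 → P i := stepQ 1209 Q1209 (allL N1209 (tt N1174 F7345) (tt N1528 (iv F9807)) (tt N958 F7346) (tt N947 F7347) (tt N1531 D2421) (tt N946 (iv D1774)) (tt N1532 D2422) (tt N1533 D2423) (tt N952 F7348))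
theorem Q1211 : ∀ i, i < 1211 → P i := stepQ 1210 Q1210 (allL N1210 (tt N1175 F7349) (tt N1529 (iv F9810)) (tt N959 F7350) (tt N1523 (iv F9783)) (tt N1145 F7351) (tt N1533 (iv F9830)) (tt N1210 F7352) (tt N946 (iv D1775)) (tt N1534 D2424))
theorem Q1212 : ∀ i, i < 1212 → P i := stepQ 1211 Q1211 (allL N1211 (tt N1176 F7353) (tt N1530 (iv F9813)) (tt N948 F7354) (tt N1532 (iv F9825)) (tt N1211 F7355) (tt N1211 F7356) (tt N947 (iv D1776)) (tt N1524 (iv F9790)) (tt N954 F7357))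
theorem Q1213 : ∀ i, i < 1213 → P i := stepQ 1212 Q1212 (allL N1212 (tt N950 F7358) (tt N1439 (iv F9116)) (tt N1535 D2425) (tt N949 (iv D1777)) (tt N1476 (iv F9592)) (tt N1536 D2426) (tt N1212 F7359) (tt N1537 D2427) (tt N1525 (iv F9796)))
theorem Q1214 : ∀ i, i < 1214 → P i := stepQ 1213 Q1213 (allL N1213 (tt N951 F7360) (tt N1440 (iv F9119)) (tt N1027 F7361) (tt N1536 (iv F9840)) (tt N1213 F7362) (tt N949 (iv D1778)) (tt N1538 D2428) (tt N1213 F7363) (tt N1526 (iv F9801)))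
theorem Q1215 : ∀ i, i < 1215 → P i := stepQ 1214 Q1214 (allL N1214 (tt N1535 (iv F9836)) (tt N963 F7364) (tt N950 (iv D1779)) (tt N1028 F7365) (tt N1478 (iv F9601)) (tt N1539 D2429) (tt N1214 F7366) (tt N1540 D2430) (tt N1527 (iv F9806)))
theorem Q1216 : ∀ i, i < 1216 → P i := stepQ 1215 Q1215 (allL N1215 (tt N1536 (iv F9839)) (tt N952 F7367) (tt N1539 (iv F9850)) (tt N951 F7368) (tt N1541 D2431) (tt N950 (iv D1780)) (tt N1542 D2432) (tt N1543 D2433) (tt N1528 (iv F9809)))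
theorem Q1217 : ∀ i, i < 1217 → P i := stepQ 1216 Q1216 (allL N1216 (tt N1537 (iv F9841)) (tt N953 F7369) (tt N1540 (iv F9853)) (tt N1216 F7370) (tt N1480 (iv F9608)) (tt N1543 (iv F9862)) (tt N1216 F7371) (tt N950 (iv D1781)) (tt N1544 D2434))
theorem Q1218 : ∀ i, i < 1218 → P i := stepQ 1217 Q1217 (allL N1217 (tt N1538 (iv F9844)) (tt N954 F7372) (tt N1031 F7373) (tt N1542 (iv F9858)) (tt N1217 F7374) (tt N1217 F7375) (tt N951 (iv D1782)) (tt N1217 F7376) (tt N1530 (iv F9817)))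
theorem Q1219 : ∀ i, i < 1219 → P i := stepQ 1218 Q1218 (allL N1218 (tt N1444 (iv F9136)) (tt N1541 (iv F9855)) (tt N967 F7377) (tt N1218 F7378) (tt N952 (iv D1783)) (tt N1482 (iv F9617)) (tt N1545 D2435) (tt N1546 D2436) (tt N1531 (iv F9822)))
theorem Q1220 : ∀ i, i < 1220 → P i := stepQ 1219 Q1219 (allL N1219 (tt N1292 (iv F38407)) (tt N1542 (iv F9857)) (tt N968 F7379) (tt N954 F7380) (tt N1545 (iv F9868)) (tt N1219 F7381) (tt N952 (iv D1784)) (tt N1547 D2437) (tt N1532 (iv F9827)))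
theorem Q1221 : ∀ i, i < 1221 → P i := stepQ 1220 Q1220 (allL N1220 (tt N1445 (iv F9143)) (tt N1543 (iv F9860)) (tt N969 F7382) (tt N1220 F7383) (tt N1546 (iv F9870)) (tt N953 F7384) (tt N1547 (iv F9874)) (tt N952 (iv D1785)) (tt N1548 D2438))
theorem Q1222 : ∀ i, i < 1222 → P i := stepQ 1221 Q1221 (allL N1221 (tt N1446 (iv F9147)) (tt N1544 (iv F9863)) (tt N970 F7385) (tt N1221 F7386) (tt N1485 (iv F9626)) (tt N1548 (iv F9877)) (tt N1221 F7387) (tt N1534 (iv F9835)) (tt N953 (iv D1786)))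
theorem Q1223 : ∀ i, i < 1223 → P i := stepQ 1222 Q1222 (allL N1222 (tt N956 F7388) (tt N1177 F7389) (tt N1549 D2439) (tt N955 (iv D1787)) (tt N1146 F7390) (tt N1550 D2440) (tt N1222 F7391) (tt N1551 D2441) (tt N961 F7392))
theorem Q1224 : ∀ i, i < 1224 → P i := stepQ 1223 Q1223 (allL N1223 (tt N957 F7393) (tt N1178 F7394) (tt N1037 F7395) (tt N1550 (iv F9885)) (tt N972 F7396) (tt N955 (iv D1788)) (tt N1552 D2442) (tt N1223 F7397) (tt N962 F7398))
theorem Q1225 : ∀ i, i < 1225 → P i := stepQ 1224 Q1224 (allL N1224 (tt N1549 (iv F9878)) (tt N1527 (iv F9802)) (tt N956 (iv D1789)) (tt N1038 F7399) (tt N1148 F7400) (tt N1553 D2443) (tt N1224 F7401) (tt N1554 D2444) (tt N963 F7402))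
theorem Q1226 : ∀ i, i < 1226 → P i := stepQ 1225 Q1225 (allL N1225 (tt N1550 (iv F9883)) (tt N958 F7403) (tt N1553 (iv F9899)) (tt N957 F7404) (tt N1555 D2445) (tt N956 (iv D1790)) (tt N1556 D2446) (tt N1557 D2447) (tt N964 F7405))
theorem Q1227 : ∀ i, i < 1227 → P i := stepQ 1226 Q1226 (allL N1226 (tt N1551 (iv F9887)) (tt N959 F7406) (tt N1554 (iv F9902)) (tt N1226 F7407) (tt N1150 F7408) (tt N1557 (iv F9915)) (tt N1226 F7409) (tt N956 (iv D1791)) (tt N1558 D2448))
theorem Q1228 : ∀ i, i < 1228 → P i := stepQ 1227 Q1227 (allL N1227 (tt N1552 (iv F9892)) (tt N960 F7410) (tt N1041 F7411) (tt N1556 (iv F9910)) (tt N976 F7412) (tt N1227 F7413) (tt N957 (iv D1792)) (tt N1227 F7414) (tt N966 F7415))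
theorem Q1229 : ∀ i, i < 1229 → P i := stepQ 1228 Q1228 (allL N1228 (tt N1183 F7416) (tt N1555 (iv F9905)) (tt N1531 (iv F9819)) (tt N977 F7417) (tt N958 (iv D1793)) (tt N1151 F7418) (tt N1559 D2449) (tt N1560 D2450) (tt N967 F7419))
theorem Q1230 : ∀ i, i < 1230 → P i := stepQ 1229 Q1229 (allL N1229 (tt N1184 F7420) (tt N1556 (iv F9909)) (tt N1532 (iv F9824)) (tt N960 F7421) (tt N1559 (iv F9923)) (tt N1229 F7422) (tt N958 (iv D1794)) (tt N1561 D2451) (tt N968 F7423))
theorem Q1231 : ∀ i, i < 1231 → P i := stepQ 1230 Q1230 (allL N1230 (tt N1185 F7424) (tt N1557 (iv F9913)) (tt N1533 (iv F9829)) (tt N1230 F7425) (tt N1560 (iv F9926)) (tt N959 F7426) (tt N1561 (iv F9931)) (tt N958 (iv D1795)) (tt N1562 D2452))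
theorem Q1232 : ∀ i, i < 1232 → P i := stepQ 1231 Q1231 (allL N1231 (tt N1186 F7427) (tt N1558 (iv F9916)) (tt N1534 (iv F9832)) (tt N1231 F7428) (tt N1153 F7429) (tt N1562 (iv F9934)) (tt N1231 F7430) (tt N970 F7431) (tt N959 (iv D1796)))
theorem Q1233 : ∀ i, i < 1233 → P i := stepQ 1232 Q1232 (allL N1232 (tt N963 F7432) (tt N1563 D2453) (tt N961 (iv D1797)) (tt N1046 F7433) (tt N1486 (iv F9631)) (tt N1564 D2454) (tt N1232 F7434) (tt N1565 D2455) (tt N1549 (iv F9882)))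
theorem Q1234 : ∀ i, i < 1234 → P i := stepQ 1233 Q1233 (allL N1233 (tt N964 F7435) (tt N1448 (iv F9155)) (tt N1564 (iv F9939)) (tt N962 F7436) (tt N1566 D2456) (tt N961 (iv D1798)) (tt N1567 D2457) (tt N1568 D2458) (tt N1550 (iv F9886)))
theorem Q1235 : ∀ i, i < 1235 → P i := stepQ 1234 Q1234 (allL N1234 (tt N965 F7437) (tt N1449 (iv F9158)) (tt N1565 (iv F9942)) (tt N995 F7438) (tt N1488 (iv F9639)) (tt N1568 (iv F9951)) (tt N1234 F7439) (tt N961 (iv D1799)) (tt N1569 D2459))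
theorem Q1236 : ∀ i, i < 1236 → P i := stepQ 1235 Q1235 (allL N1235 (tt N966 F7440) (tt N1290 (iv F38177)) (tt N1049 F7441) (tt N1567 (iv F9947)) (tt N984 F7442) (tt N1235 F7443) (tt N962 (iv D1800)) (tt N996 F7444) (tt N1552 (iv F9898)))
theorem Q1237 : ∀ i, i < 1237 → P i := stepQ 1236 Q1236 (allL N1236 (tt N1564 (iv F9938)) (tt N1539 (iv F9849)) (tt N964 F7445) (tt N1050 F7446) (tt N1570 D2460) (tt N963 (iv D1801)) (tt N1571 D2461) (tt N1572 D2462) (tt N1553 (iv F9901)))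
theorem Q1238 : ∀ i, i < 1238 → P i := stepQ 1237 Q1237 (allL N1237 (tt N1565 (iv F9941)) (tt N1540 (iv F9852)) (tt N965 F7447) (tt N1573 D2463) (tt N1491 (iv F9651)) (tt N1572 (iv F9960)) (tt N1237 F7448) (tt N963 (iv D1802)) (tt N1574 D2464))
theorem Q1239 : ∀ i, i < 1239 → P i := stepQ 1238 Q1238 (allL N1238 (tt N1566 (iv F9944)) (tt N967 F7449) (tt N1570 (iv F9955)) (tt N987 F7450) (tt N964 (iv D1803)) (tt N1492 (iv F9655)) (tt N1575 D2465) (tt N1576 D2466) (tt N1555 (iv F9908)))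
theorem Q1240 : ∀ i, i < 1240 → P i := stepQ 1239 Q1239 (allL N1239 (tt N1567 (iv F9946)) (tt N968 F7451) (tt N1571 (iv F9956)) (tt N966 F7452) (tt N1575 (iv F9968)) (tt N1239 F7453) (tt N964 (iv D1804)) (tt N1577 D2467) (tt N1556 (iv F9912)))
theorem Q1241 : ∀ i, i < 1241 → P i := stepQ 1240 Q1240 (allL N1240 (tt N1568 (iv F9949)) (tt N969 F7454) (tt N1572 (iv F9959)) (tt N1001 F7455) (tt N1576 (iv F9970)) (tt N965 F7456) (tt N1577 (iv F9974)) (tt N964 (iv D1805)) (tt N1578 D2468))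
theorem Q1242 : ∀ i, i < 1242 → P i := stepQ 1241 Q1241 (allL N1241 (tt N1569 (iv F9952)) (tt N970 F7457) (tt N1574 (iv F9964)) (tt N1002 F7458) (tt N1495 (iv F9666)) (tt N1578 (iv F9977)) (tt N1241 F7459) (tt N1558 (iv F9920)) (tt N965 (iv D1806)))
theorem Q1243 : ∀ i, i < 1243 → P i := stepQ 1242 Q1242 (allL N1242 (tt N1271 (iv F38274)) (tt N1575 (iv F9966)) (tt N1545 (iv F9866)) (tt N991 F7460) (tt N968 F7461) (tt N1579 D2469) (tt N967 (iv D1807)) (tt N1580 D2470) (tt N1559 (iv F9924)))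
theorem Q1244 : ∀ i, i < 1244 → P i := stepQ 1243 Q1243 (allL N1243 (tt N1455 (iv F9185)) (tt N1576 (iv F9969)) (tt N1546 (iv F9869)) (tt N1581 D2471) (tt N969 F7462) (tt N1497 (iv F9673)) (tt N1580 (iv F9981)) (tt N967 (iv D1808)) (tt N1582 D2472))
theorem Q1245 : ∀ i, i < 1245 → P i := stepQ 1244 Q1244 (allL N1244 (tt N1287 (iv F38410)) (tt N1577 (iv F9971)) (tt N1547 (iv F9871)) (tt N1004 F7463) (tt N1580 (iv F9980)) (tt N1244 F7464) (tt N969 F7465) (tt N968 (iv D1809)) (tt N1583 D2473))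
theorem Q1246 : ∀ i, i < 1246 → P i := stepQ 1245 Q1245 (allL N1245 (tt N1456 (iv F9191)) (tt N1578 (iv F9975)) (tt N1548 (iv F9875)) (tt N1005 F7466) (tt N1582 (iv F9984)) (tt N970 F7467) (tt N1583 (iv F9987)) (tt N1562 (iv F9935)) (tt N969 (iv D1810)))
theorem Q1247 : ∀ i, i < 1247 → P i := stepQ 1246 Q1246 (allL N1246 (tt N973 F7468) (tt N1584 D2474) (tt N971 (iv D1811)) (tt N1060 F7469) (tt N1154 F7470) (tt N1585 D2475) (tt N1106 F7471) (tt N1586 D2476) (tt N981 F7472))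
theorem Q1248 : ∀ i, i < 1248 → P i := stepQ 1247 Q1247 (allL N1247 (tt N974 F7473) (tt N1188 F7474) (tt N1585 (iv F9995)) (tt N972 F7475) (tt N1587 D2477) (tt N971 (iv D1812)) (tt N1588 D2478) (tt N1589 D2479) (tt N982 F7476))
theorem Q1249 : ∀ i, i < 1249 → P i := stepQ 1248 Q1248 (allL N1248 (tt N975 F7477) (tt N1189 F7478) (tt N1586 (iv F9999)) (tt N1248 F7479) (tt N1116 (iv F37923)) (tt N1589 (iv F10014)) (tt N1108 F7481) (tt N971 (iv D1813)) (tt N1590 D2480))
theorem Q1250 : ∀ i, i < 1250 → P i := stepQ 1249 Q1249 (allL N1249 (tt N976 F7482) (tt N1190 F7483) (tt N1063 F7484) (tt N1588 (iv F10008)) (tt N1552 (iv F9895)) (tt N1109 F7485) (tt N972 (iv D1814)) (tt N1249 F7486) (tt N984 F7487))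
theorem Q1251 : ∀ i, i < 1251 → P i := stepQ 1250 Q1250 (allL N1250 (tt N1585 (iv F9994)) (tt N1250 F7488) (tt N974 F7489) (tt N1064 F7490) (tt N1591 D2481) (tt N973 (iv D1815)) (tt N1592 D2482) (tt N1593 D2483) (tt N985 F7491))
theorem Q1252 : ∀ i, i < 1252 → P i := stepQ 1251 Q1251 (allL N1251 (tt N1586 (iv F9998)) (tt N1251 F7492) (tt N975 F7493) (tt N1594 D2484) (tt N1117 (iv F37903)) (tt N1593 (iv F10032)) (tt N1111 F7495) (tt N973 (iv D1816)) (tt N1595 D2485))
theorem Q1253 : ∀ i, i < 1253 → P i := stepQ 1252 Q1252 (allL N1252 (tt N1587 (iv F10002)) (tt N977 F7496) (tt N1591 (iv F10022)) (tt N1555 (iv F9906)) (tt N974 (iv D1817)) (tt N1157 F7497) (tt N1596 D2486) (tt N1597 D2487) (tt N987 F7498))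
theorem Q1254 : ∀ i, i < 1254 → P i := stepQ 1253 Q1253 (allL N1253 (tt N1588 (iv F10006)) (tt N978 F7499) (tt N1592 (iv F10026)) (tt N976 F7500) (tt N1596 (iv F10043)) (tt N1112 F7501) (tt N974 (iv D1818)) (tt N1515 F38021) (tt N988 F7502))
theorem Q1255 : ∀ i, i < 1255 → P i := stepQ 1254 Q1254 (allL N1254 (tt N1589 (iv F10011)) (tt N979 F7503) (tt N1593 (iv F10031)) (tt N1254 F7504) (tt N1597 (iv F10046)) (tt N975 F7505) (tt N1515 F38018) (tt N974 (iv D1819)) (tt N1514 F38019))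
theorem Q1256 : ∀ i, i < 1256 → P i := stepQ 1255 Q1255 (allL N1255 (tt N1590 (iv F10015)) (tt N980 F7506) (tt N1595 (iv F10038)) (tt N1255 F7507) (tt N1112 (iv F38008)) (tt N1514 (iv F38011)) (tt N1105 F37940) (tt N990 F7510) (tt N975 (iv D1820)))
theorem Q1257 : ∀ i, i < 1257 → P i := stepQ 1256 Q1256 (allL N1256 (tt N1197 F7511) (tt N1596 (iv F10042)) (tt N1256 F7512) (tt N1559 (iv F9922)) (tt N978 F7513) (tt N1517 (iv F38147)) (tt N977 (iv D1821)) (tt N1516 F38137) (tt N991 F7514))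
theorem Q1258 : ∀ i, i < 1258 → P i := stepQ 1257 Q1257 (allL N1257 (tt N1198 F7515) (tt N1597 (iv F10045)) (tt N1257 F7516) (tt N1579 (iv F38205)) (tt N979 F7517) (tt N991 (iv F38206)) (tt N1516 F38141) (tt N977 (iv D1822)) (tt N1517 F38183))
theorem Q1259 : ∀ i, i < 1259 → P i := stepQ 1258 Q1258 (allL N1258 (tt N1258 F7529) (tt N981 (iv D1825)) (tt N1457 (iv F9195)) (tt N1072 F7530) (tt N1500 (iv F9682)) (tt N1598 D2495) (tt N1113 F7531) (tt N1599 D2496) (tt N1584 (iv F9993)))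
theorem Q1260 : ∀ i, i < 1260 → P i := stepQ 1259 Q1259 (allL N1259 (tt N985 F7532) (tt N1598 (iv F10080)) (tt N982 F7533) (tt N1073 F7534) (tt N1600 D2497) (tt N981 (iv D1826)) (tt N1601 D2498) (tt N1602 D2499) (tt N1585 (iv F9997)))
theorem Q1261 : ∀ i, i < 1261 → P i := stepQ 1260 Q1260 (allL N1260 (tt N986 F7535) (tt N1599 (iv F10083)) (tt N983 F7536) (tt N1260 F7537) (tt N1502 (iv F9691)) (tt N1602 (iv F10095)) (tt N1115 F7538) (tt N981 (iv D1827)) (tt N1603 D2500))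
theorem Q1262 : ∀ i, i < 1262 → P i := stepQ 1261 Q1261 (allL N1261 (tt N987 F7539) (tt N1459 (iv F9205)) (tt N1600 (iv F10087)) (tt N1566 (iv F9945)) (tt N982 (iv D1828)) (tt N1503 (iv F9694)) (tt N1604 D2501) (tt N1605 D2502) (tt N1587 (iv F10005)))
theorem Q1263 : ∀ i, i < 1263 → P i := stepQ 1262 Q1262 (allL N1262 (tt N988 F7540) (tt N1263 (iv F38015)) (tt N1601 (iv F10089)) (tt N984 F7541) (tt N1604 (iv F10101)) (tt N1116 F7542) (tt N982 (iv D1829)) (tt N1155 (iv F38094)) (tt N1588 (iv F10010)))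
theorem Q1264 : ∀ i, i < 1264 → P i := stepQ 1263 Q1263 (allL N1263 (tt N989 F7543) (tt N1262 F38015) (tt N1602 (iv F10093)) (tt N1007 F7544) (tt N1605 (iv F10103)) (tt N983 F7545) (tt N1155 (iv F38093)) (tt N982 (iv D1830)) (tt N1504 F38016))
theorem Q1265 : ∀ i, i < 1265 → P i := stepQ 1264 Q1264 (allL N1264 (tt N990 F7546) (tt N1408 (iv F37927)) (tt N1603 (iv F10097)) (tt N1008 F7547) (tt N1506 (iv F9705)) (tt N1504 (iv F37936)) (tt N1100 (iv F37924)) (tt N1590 (iv F10020)) (tt N983 (iv D1831)))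
theorem Q1266 : ∀ i, i < 1266 → P i := stepQ 1265 Q1265 (allL N1265 (tt N1600 (iv F10086)) (tt N1265 F7549) (tt N987 F7550) (tt N1606 D2505) (tt N985 (iv D1832)) (tt N1507 (iv F9710)) (tt N1607 D2506) (tt N1608 D2507) (tt N1591 (iv F10024)))
theorem Q1267 : ∀ i, i < 1267 → P i := stepQ 1266 Q1266 (allL N1266 (tt N1601 (iv F10088)) (tt N1266 F7551) (tt N988 F7552) (tt N1077 F7553) (tt N1607 (iv F10115)) (tt N1117 F7554) (tt N985 (iv D1833)) (tt N1156 (iv F38060)) (tt N1592 (iv F10029)))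
theorem Q1268 : ∀ i, i < 1268 → P i := stepQ 1267 Q1267 (allL N1267 (tt N1602 (iv F10092)) (tt N1267 F7555) (tt N989 F7556) (tt N1267 F7557) (tt N1608 (iv F10118)) (tt N986 F7558) (tt N1156 (iv F38059)) (tt N985 (iv D1834)) (tt N1508 F37993))
theorem Q1269 : ∀ i, i < 1269 → P i := stepQ 1268 Q1268 (allL N1268 (tt N1603 (iv F10096)) (tt N1268 F7559) (tt N990 F7560) (tt N1268 F7561) (tt N1511 (iv F9727)) (tt N1508 (iv F37935)) (tt N1102 (iv F37906)) (tt N1595 (iv F10041)) (tt N986 (iv D1835)))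
theorem Q1270 : ∀ i, i < 1270 → P i := stepQ 1269 Q1269 (allL N1269 (tt N1604 (iv F10100)) (tt N991 F7563) (tt N1607 (iv F10114)) (tt N1575 (iv F9967)) (tt N988 F7564) (tt N1597 F38143) (tt N987 (iv D1836)) (tt N1157 (iv F38196)) (tt N1596 (iv F10044)))
theorem Q1271 : ∀ i, i < 1271 → P i := stepQ 1270 Q1270 (allL N1270 (tt N1605 (iv F10102)) (tt N992 F7565) (tt N1608 (iv F10117)) (tt N1609 D2512) (tt N989 F7566) (tt N1513 (iv F9735)) (tt N1157 (iv F38195)) (tt N987 (iv D1837)) (tt N1512 F38151))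
theorem Q1272 : ∀ i, i < 1272 → P i := stepQ 1271 Q1271 (allL N1271 (tt N1242 F38274) (tt N1609 (iv F10133)) (tt N1610 D2518) (tt N992 (iv D1842)) (tt N1010 F7579) (tt N1518 (iv F9752)) (tt N1151 (iv F38316)) (tt N1581 (iv F9983)) (tt N1496 F38275))
theorem Q1273 : ∀ i, i < 1273 → P i := stepQ 1272 Q1272 (allL N1272 (tt N1272 F7586) (tt N993 (iv D1845)) (tt N1461 (iv F9263)) (tt N1080 F7587) (tt N1272 F7588) (tt N1611 D2520) (tt N1272 F7589) (tt N1612 D2521) (tt N1272 F7590))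
theorem Q1274 : ∀ i, i < 1274 → P i := stepQ 1273 Q1273 (allL N1273 (tt N997 F7591) (tt N1611 (iv F10154)) (tt N994 F7592) (tt N1081 F7593) (tt N1613 D2522) (tt N993 (iv D1846)) (tt N1614 D2523) (tt N1615 D2524) (tt N1273 F7594))
theorem Q1275 : ∀ i, i < 1275 → P i := stepQ 1274 Q1274 (allL N1274 (tt N998 F7595) (tt N1612 (iv F10158)) (tt N995 F7596) (tt N1616 D2525) (tt N1274 F7597) (tt N1615 (iv F10173)) (tt N1274 F7598) (tt N993 (iv D1847)) (tt N1617 D2526))
theorem Q1276 : ∀ i, i < 1276 → P i := stepQ 1275 Q1275 (allL N1275 (tt N999 F7599) (tt N1276 F38304) (tt N1613 (iv F10162)) (tt N1006 F7600) (tt N994 (iv D1848)) (tt N1275 F7601) (tt N1159 (iv F38360)) (tt N1618 D2528) (tt N1275 F7602))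
theorem Q1277 : ∀ i, i < 1277 → P i := stepQ 1276 Q1276 (allL N1276 (tt N1000 F7603) (tt N1275 (iv F38304)) (tt N1614 (iv F10167)) (tt N996 F7604) (tt N1159 (iv F38359)) (tt N1276 F7605) (tt N994 (iv D1849)) (tt N1619 D2529) (tt N1276 F7606))
theorem Q1278 : ∀ i, i < 1278 → P i := stepQ 1277 Q1277 (allL N1277 (tt N1001 F7607) (tt N1464 (iv F9287)) (tt N1615 (iv F10172)) (tt N1568 (iv F9950)) (tt N1618 (iv F10187)) (tt N995 F7608) (tt N1619 (iv F10191)) (tt N994 (iv D1850)) (tt N1620 D2530))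
theorem Q1279 : ∀ i, i < 1279 → P i := stepQ 1278 Q1278 (allL N1278 (tt N1002 F7609) (tt N1465 (iv F9290)) (tt N1617 (iv F10178)) (tt N1569 (iv F9953)) (tt N1278 F7610) (tt N1620 (iv F10193)) (tt N1278 F7611) (tt N1278 F7612) (tt N995 (iv D1851)))
theorem Q1280 : ∀ i, i < 1280 → P i := stepQ 1279 Q1279 (allL N1279 (tt N1613 (iv F10161)) (tt N1279 F7613) (tt N999 F7614) (tt N1279 F7615) (tt N997 (iv D1852)) (tt N1279 F7616) (tt N1161 (iv F38450)) (tt N1621 D2532) (tt N1279 F7617))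
theorem Q1281 : ∀ i, i < 1281 → P i := stepQ 1280 Q1280 (allL N1280 (tt N1614 (iv F10166)) (tt N1280 F7618) (tt N1000 F7619) (tt N1086 F7620) (tt N1161 (iv F38449)) (tt N1280 F7621) (tt N997 (iv D1853)) (tt N1622 D2533) (tt N1280 F7622))
theorem Q1282 : ∀ i, i < 1282 → P i := stepQ 1281 Q1281 (allL N1281 (tt N1615 (iv F10171)) (tt N1281 F7623) (tt N1001 F7624) (tt N1623 D2534) (tt N1621 (iv F10202)) (tt N998 F7625) (tt N1622 (iv F10207)) (tt N997 (iv D1854)) (tt N1624 D2535))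
theorem Q1283 : ∀ i, i < 1283 → P i := stepQ 1282 Q1282 (allL N1282 (tt N1616 (iv F10174)) (tt N1282 F7626) (tt N1573 (iv F9961)) (tt N998 (iv D1855)) (tt N1625 D2536) (tt N1623 (iv F10209)) (tt N1282 F7627) (tt N1088 F7628) (tt N1626 D2537))
theorem Q1284 : ∀ i, i < 1284 → P i := stepQ 1283 Q1283 (allL N1283 (tt N1617 (iv F10177)) (tt N1283 F7629) (tt N1002 F7630) (tt N1626 (iv F10220)) (tt N1283 F7631) (tt N1624 (iv F10213)) (tt N1283 F7632) (tt N1283 F7633) (tt N998 (iv D1856)))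
theorem Q1285 : ∀ i, i < 1285 → P i := stepQ 1284 Q1284 (allL N1284 (tt N1618 (iv F10186)) (tt N1003 F7638) (tt N1621 (iv F10201)) (tt N1627 D2540) (tt N1001 F7639) (tt N1284 F7640) (tt N1163 (iv F38452)) (tt N999 (iv D1858)) (tt N1628 D2541))
theorem Q1286 : ∀ i, i < 1286 → P i := stepQ 1285 Q1285 (allL N1285 (tt N1619 (iv F10189)) (tt N1004 F7641) (tt N1622 (iv F10205)) (tt N1577 (iv F9972)) (tt N1163 (iv F38451)) (tt N1285 F7642) (tt N1001 F7643) (tt N1000 (iv D1859)) (tt N1629 D2542))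
theorem Q1287 : ∀ i, i < 1287 → P i := stepQ 1286 Q1286 (allL N1286 (tt N1620 (iv F10192)) (tt N1005 F7644) (tt N1624 (iv F10212)) (tt N1578 (iv F9976)) (tt N1628 (iv F10234)) (tt N1002 F7645) (tt N1629 (iv F10239)) (tt N1286 F7646) (tt N1001 (iv D1860)))
theorem Q1288 : ∀ i, i < 1288 → P i := stepQ 1287 Q1287 (allL N1287 (tt N1244 F38410) (tt N1627 (iv F10230)) (tt N1630 D2546) (tt N1003 (iv D1863)) (tt N1581 (iv F9982)) (tt N1287 F7655) (tt N1152 (iv F38456)) (tt N1010 F7656) (tt N1631 D2547))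
theorem Q1289 : ∀ i, i < 1289 → P i := stepQ 1288 Q1288 (allL N1288 (tt N1289 F38526) (tt N1628 (iv F10233)) (tt N1288 F7657) (tt N1631 (iv F10254)) (tt N1005 F7658) (tt N1288 F7659) (tt N1165 (iv F38535)) (tt N1288 F7660) (tt N1003 (iv D1864)))
theorem Q1290 : ∀ i, i < 1290 → P i := stepQ 1289 Q1289 (allL N1289 (tt N1288 (iv F38526)) (tt N1629 (iv F10237)) (tt N1289 F7661) (tt N1583 (iv F9985)) (tt N1165 (iv F38534)) (tt N1289 F7662) (tt N1005 F7663) (tt N1289 F7664) (tt N1004 (iv D1865)))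
theorem Q1291 : ∀ i, i < 1291 → P i := stepQ 1290 Q1290 (allL N1290 (tt N1009 F7669) (tt N1235 F38177) (tt N1290 F7670) (tt N1632 D2550) (tt N1007 F7671) (tt N1290 F7672) (tt N1147 (iv F38229)) (tt N1006 (iv D1867)) (tt N1489 F38178))
theorem Q1292 : ∀ i, i < 1292 → P i := stepQ 1291 Q1291 (allL N1291 (tt N1632 (iv F10265)) (tt N1010 F7690) (tt N1633 D2556) (tt N1009 (iv D1872)) (tt N1609 (iv F10134)) (tt N1291 F7691) (tt N1149 (iv F38318)) (tt N1627 (iv F10232)) (tt N1493 F38278))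
theorem Q1293 : ∀ i, i < 1293 → P i := stepQ 1292 Q1292 (allL N1292 (tt N1219 F38407) (tt N1634 D2562) (tt N1010 (iv D1878)) (tt N1011 F7711) (tt N1610 (iv F10150)) (tt N1292 F7712) (tt N1144 (iv F38454)) (tt N1630 (iv F10253)) (tt N1483 F38408))
theorem Q1294 : ∀ i, i < 1294 → P i := stepQ 1293 Q1293 (allL N1293 (tt N1635 D2571) (tt N1011 (iv D1884)) (tt N1293 F7731) (tt N1634 (iv F10305)) (tt N1293 F7732) (tt N1293 F7733) (tt N1143 (iv F38541)) (tt N1293 F7734) (tt N1481 F38521))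
theorem Q1295 : ∀ i, i < 1295 → P i := stepQ 1294 Q1294 (allL N1294 (tt N1012 (iv D1887)) (tt N1294 F7743) (tt N1294 F7744) (tt N1015 F7745) (tt N1636 D2574) (tt N1294 F7746) (tt N1294 F7747) (tt N1294 F7748) (tt N1294 F7749))
theorem Q1296 : ∀ i, i < 1296 → P i := stepQ 1295 Q1295 (allL N1295 (tt N1636 (iv F10348)) (tt N1013 F7750) (tt N1295 F7751) (tt N1637 D2575) (tt N1012 (iv D1888)) (tt N1638 D2576) (tt N1295 F7752) (tt N1295 F7753) (tt N1295 F7754))
theorem Q1297 : ∀ i, i < 1297 → P i := stepQ 1296 Q1296 (allL N1296 (tt N1296 F7755) (tt N1637 (iv F10354)) (tt N1296 F7756) (tt N1013 (iv D1889)) (tt N1017 F7757) (tt N1132 (iv F38814)) (tt N1296 F7758) (tt N1131 F38740) (tt N1296 F7759))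
theorem Q1298 : ∀ i, i < 1298 → P i := stepQ 1297 Q1297 (allL N1297 (tt N1297 F7760) (tt N1638 (iv F10358)) (tt N1014 F7761) (tt N1132 F38861) (tt N1297 F7762) (tt N1013 (iv D1890)) (tt N1133 (iv F38902)) (tt N1297 F7763) (tt N1297 F7764))
theorem Q1299 : ∀ i, i < 1299 → P i := stepQ 1298 Q1298 (allL N1298 (tt N1298 F7765) (tt N1298 F7766) (tt N1133 F38925) (tt N1298 F7767) (tt N1298 F7768) (tt N1298 F7769) (tt N1014 (iv D1891)) (tt N1298 F7770) (tt N1298 F7771))
theorem Q1300 : ∀ i, i < 1300 → P i := stepQ 1299 Q1299 (allL N1299 (tt N1016 F7772) (tt N1299 F7773) (tt N1519 (iv F9764)) (tt N1639 D2580) (tt N1015 (iv D1892)) (tt N1640 D2581) (tt N1299 F7774) (tt N1020 F7775) (tt N1299 F7776))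
theorem Q1301 : ∀ i, i < 1301 → P i := stepQ 1300 Q1300 (allL N1300 (tt N1639 (iv F10378)) (tt N1017 F7777) (tt N1641 D2582) (tt N1016 (iv D1893)) (tt N1637 (iv F10355)) (tt N1642 D2583) (tt N1300 F7778) (tt N1643 D2584) (tt N1300 F7779))
theorem Q1302 : ∀ i, i < 1302 → P i := stepQ 1301 Q1301 (allL N1301 (tt N1640 (iv F10382)) (tt N1018 F7780) (tt N1521 (iv F9773)) (tt N1642 (iv F10391)) (tt N1301 F7781) (tt N1016 (iv D1894)) (tt N1644 D2585) (tt N1022 F7782) (tt N1301 F7783))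
theorem Q1303 : ∀ i, i < 1303 → P i := stepQ 1302 Q1302 (allL N1302 (tt N1302 F7784) (tt N1642 (iv F10390)) (tt N1302 F7785) (tt N1018 F7786) (tt N1071 (iv F38816)) (tt N1017 (iv D1895)) (tt N1070 (iv F38817)) (tt N1069 F38742) (tt N1302 F7787))
theorem Q1304 : ∀ i, i < 1304 → P i := stepQ 1303 Q1303 (allL N1303 (tt N1303 F7788) (tt N1643 (iv F10393)) (tt N1303 F7789) (tt N1024 F7790) (tt N1131 (iv F38689)) (tt N1069 (iv F38692)) (tt N1303 F7791) (tt N1017 (iv D1896)) (tt N1079 (iv F38693)))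
theorem Q1305 : ∀ i, i < 1305 → P i := stepQ 1304 Q1304 (allL N1304 (tt N1304 F7792) (tt N1644 (iv F10396)) (tt N1019 F7793) (tt N1070 F38863) (tt N1304 F7794) (tt N1304 F7795) (tt N1018 (iv D1897)) (tt N1025 F7796) (tt N1304 F7797))
theorem Q1306 : ∀ i, i < 1306 → P i := stepQ 1305 Q1305 (allL N1305 (tt N1021 F7798) (tt N1305 F7799) (tt N1645 D2590) (tt N1020 (iv D1898)) (tt N1305 F7800) (tt N1646 D2591) (tt N1305 F7801) (tt N1647 D2592) (tt N1026 F7802))
theorem Q1307 : ∀ i, i < 1307 → P i := stepQ 1306 Q1306 (allL N1306 (tt N1022 F7803) (tt N1306 F7804) (tt N1526 (iv F9799)) (tt N1646 (iv F10425)) (tt N1306 F7805) (tt N1020 (iv D1899)) (tt N1648 D2593) (tt N1640 (iv F10385)) (tt N1027 F7806))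
theorem Q1308 : ∀ i, i < 1308 → P i := stepQ 1307 Q1307 (allL N1307 (tt N1645 (iv F10419)) (tt N1038 F7807) (tt N1021 (iv D1900)) (tt N1527 (iv F9803)) (tt N1307 F7808) (tt N1649 D2594) (tt N1307 F7809) (tt N1650 D2595) (tt N1028 F7810))
theorem Q1309 : ∀ i, i < 1309 → P i := stepQ 1308 Q1308 (allL N1308 (tt N1646 (iv F10423)) (tt N1023 F7811) (tt N1649 (iv F10437)) (tt N1022 F7812) (tt N1651 D2596) (tt N1021 (iv D1901)) (tt N1652 D2597) (tt N1653 D2598) (tt N1029 F7813))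
theorem Q1310 : ∀ i, i < 1310 → P i := stepQ 1309 Q1309 (allL N1309 (tt N1647 (iv F10427)) (tt N1024 F7814) (tt N1650 (iv F10440)) (tt N1643 (iv F10394)) (tt N1309 F7815) (tt N1653 (iv F10452)) (tt N1309 F7816) (tt N1021 (iv D1902)) (tt N1654 D2599))
theorem Q1311 : ∀ i, i < 1311 → P i := stepQ 1310 Q1310 (allL N1310 (tt N1648 (iv F10431)) (tt N1025 F7817) (tt N1530 (iv F9814)) (tt N1652 (iv F10448)) (tt N1310 F7818) (tt N1310 F7819) (tt N1022 (iv D1903)) (tt N1644 (iv F10399)) (tt N1031 F7820))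
theorem Q1312 : ∀ i, i < 1312 → P i := stepQ 1311 Q1311 (allL N1311 (tt N1311 F7821) (tt N1651 (iv F10443)) (tt N1042 F7822) (tt N1311 F7823) (tt N1023 (iv D1904)) (tt N1311 F7824) (tt N1044 F38847) (tt N1043 F38848) (tt N1032 F7825))
theorem Q1313 : ∀ i, i < 1313 → P i := stepQ 1312 Q1312 (allL N1312 (tt N1312 F7826) (tt N1652 (iv F10447)) (tt N1043 F7827) (tt N1025 F7828) (tt N1044 F38845) (tt N1312 F7829) (tt N1023 (iv D1905)) (tt N1042 F38846) (tt N1033 F7830))
theorem Q1314 : ∀ i, i < 1314 → P i := stepQ 1313 Q1313 (allL N1313 (tt N1313 F7831) (tt N1653 (iv F10451)) (tt N1044 F7832) (tt N1069 F38731) (tt N1043 (iv F38799)) (tt N1024 F7833) (tt N1042 (iv F38800)) (tt N1023 (iv D1906)) (tt N1056 (iv F38802)))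
theorem Q1315 : ∀ i, i < 1315 → P i := stepQ 1314 Q1314 (allL N1314 (tt N1314 F7834) (tt N1654 (iv F10453)) (tt N1045 F7835) (tt N1079 F38732) (tt N1314 F7836) (tt N1056 (iv F38801)) (tt N1314 F7837) (tt N1035 F7838) (tt N1024 (iv D1907)))
theorem Q1316 : ∀ i, i < 1316 → P i := stepQ 1315 Q1315 (allL N1315 (tt N1028 F7839) (tt N1655 D2604) (tt N1026 (iv D1908)) (tt N1535 (iv F9837)) (tt N1315 F7840) (tt N1656 D2605) (tt N1315 F7841) (tt N1657 D2606) (tt N1645 (iv F10422)))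
theorem Q1317 : ∀ i, i < 1317 → P i := stepQ 1316 Q1316 (allL N1316 (tt N1029 F7842) (tt N1316 F7843) (tt N1656 (iv F10479)) (tt N1027 F7844) (tt N1658 D2607) (tt N1026 (iv D1909)) (tt N1659 D2608) (tt N1660 D2609) (tt N1646 (iv F10426)))
theorem Q1318 : ∀ i, i < 1318 → P i := stepQ 1317 Q1317 (allL N1317 (tt N1030 F7845) (tt N1317 F7846) (tt N1657 (iv F10481)) (tt N1317 F7847) (tt N1317 F7848) (tt N1660 (iv F10495)) (tt N1317 F7849) (tt N1026 (iv D1910)) (tt N1661 D2610))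
theorem Q1319 : ∀ i, i < 1319 → P i := stepQ 1318 Q1318 (allL N1318 (tt N1031 F7850) (tt N1318 F7851) (tt N1538 (iv F9845)) (tt N1659 (iv F10490)) (tt N1318 F7852) (tt N1318 F7853) (tt N1027 (iv D1911)) (tt N1318 F7854) (tt N1648 (iv F10435)))
theorem Q1320 : ∀ i, i < 1320 → P i := stepQ 1319 Q1319 (allL N1319 (tt N1656 (iv F10478)) (tt N1050 F7855) (tt N1029 F7856) (tt N1539 (iv F9851)) (tt N1662 D2611) (tt N1028 (iv D1912)) (tt N1663 D2612) (tt N1664 D2613) (tt N1649 (iv F10438)))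
theorem Q1321 : ∀ i, i < 1321 → P i := stepQ 1320 Q1320 (allL N1320 (tt N1657 (iv F10480)) (tt N1051 F7857) (tt N1030 F7858) (tt N1665 D2614) (tt N1320 F7859) (tt N1664 (iv F10509)) (tt N1320 F7860) (tt N1028 (iv D1913)) (tt N1666 D2615))
theorem Q1322 : ∀ i, i < 1322 → P i := stepQ 1321 Q1321 (allL N1321 (tt N1658 (iv F10484)) (tt N1032 F7861) (tt N1662 (iv F10502)) (tt N1321 F7862) (tt N1029 (iv D1914)) (tt N1321 F7863) (tt N1667 D2616) (tt N1668 D2617) (tt N1651 (iv F10446)))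
theorem Q1323 : ∀ i, i < 1323 → P i := stepQ 1322 Q1322 (allL N1322 (tt N1659 (iv F10488)) (tt N1033 F7864) (tt N1663 (iv F10505)) (tt N1031 F7865) (tt N1667 (iv F10519)) (tt N1322 F7866) (tt N1029 (iv D1915)) (tt N1669 D2618) (tt N1652 (iv F10450)))
theorem Q1324 : ∀ i, i < 1324 → P i := stepQ 1323 Q1323 (allL N1323 (tt N1660 (iv F10492)) (tt N1034 F7867) (tt N1664 (iv F10508)) (tt N1323 F7868) (tt N1668 (iv F10521)) (tt N1030 F7869) (tt N1669 (iv F10526)) (tt N1029 (iv D1916)) (tt N1670 D2619))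
theorem Q1325 : ∀ i, i < 1325 → P i := stepQ 1324 Q1324 (allL N1324 (tt N1661 (iv F10496)) (tt N1035 F7870) (tt N1666 (iv F10514)) (tt N1324 F7871) (tt N1324 F7872) (tt N1670 (iv F10529)) (tt N1324 F7873) (tt N1654 (iv F10456)) (tt N1030 (iv D1917)))
theorem Q1326 : ∀ i, i < 1326 → P i := stepQ 1325 Q1325 (allL N1325 (tt N1325 F7874) (tt N1667 (iv F10517)) (tt N1056 F7875) (tt N1325 F7876) (tt N1033 F7877) (tt N1045 F38849) (tt N1032 (iv D1918)) (tt N1059 (iv F38881)) (tt N1044 F38850))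
theorem Q1327 : ∀ i, i < 1327 → P i := stepQ 1326 Q1326 (allL N1326 (tt N1326 F7878) (tt N1668 (iv F10520)) (tt N1057 F7879) (tt N1092 (iv F38936)) (tt N1034 F7880) (tt N1326 F7881) (tt N1059 F38917) (tt N1032 (iv D1919)) (tt N1058 F38918))
theorem Q1328 : ∀ i, i < 1328 → P i := stepQ 1327 Q1327 (allL N1327 (tt N1327 F7882) (tt N1669 (iv F10523)) (tt N1058 F7883) (tt N1327 F7884) (tt N1059 F38915) (tt N1327 F7885) (tt N1034 F7886) (tt N1033 (iv D1920)) (tt N1057 F38916))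
theorem Q1329 : ∀ i, i < 1329 → P i := stepQ 1328 Q1328 (allL N1328 (tt N1328 F7887) (tt N1670 (iv F10527)) (tt N1059 F7888) (tt N1328 F7889) (tt N1058 (iv F38897)) (tt N1035 F7890) (tt N1057 (iv F38898)) (tt N1056 F38857) (tt N1034 (iv D1921)))
theorem Q1330 : ∀ i, i < 1330 → P i := stepQ 1329 Q1329 (allL N1329 (tt N1038 F7891) (tt N1671 D2625) (tt N1036 (iv D1922)) (tt N1549 (iv F9879)) (tt N1329 F7892) (tt N1672 D2626) (tt N1329 F7893) (tt N1673 D2627) (tt N1046 F7894))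
theorem Q1331 : ∀ i, i < 1331 → P i := stepQ 1330 Q1330 (allL N1330 (tt N1039 F7895) (tt N1330 F7896) (tt N1672 (iv F10558)) (tt N1037 F7897) (tt N1674 D2628) (tt N1036 (iv D1923)) (tt N1675 D2629) (tt N1676 D2630) (tt N1047 F7898))
theorem Q1332 : ∀ i, i < 1332 → P i := stepQ 1331 Q1331 (allL N1331 (tt N1040 F7899) (tt N1331 F7900) (tt N1673 (iv F10561)) (tt N1331 F7901) (tt N1331 F7902) (tt N1676 (iv F10577)) (tt N1331 F7903) (tt N1036 (iv D1924)) (tt N1677 D2631))
theorem Q1333 : ∀ i, i < 1333 → P i := stepQ 1332 Q1332 (allL N1332 (tt N1041 F7904) (tt N1332 F7905) (tt N1552 (iv F9894)) (tt N1675 (iv F10571)) (tt N1063 F7906) (tt N1332 F7907) (tt N1037 (iv D1925)) (tt N1332 F7908) (tt N1049 F7909))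
theorem Q1334 : ∀ i, i < 1334 → P i := stepQ 1333 Q1333 (allL N1333 (tt N1672 (iv F10557)) (tt N1649 (iv F10436)) (tt N1039 F7910) (tt N1553 (iv F9900)) (tt N1678 D2632) (tt N1038 (iv D1926)) (tt N1679 D2633) (tt N1680 D2634) (tt N1050 F7911))
theorem Q1335 : ∀ i, i < 1335 → P i := stepQ 1334 Q1334 (allL N1334 (tt N1673 (iv F10560)) (tt N1650 (iv F10439)) (tt N1040 F7912) (tt N1681 D2635) (tt N1334 F7913) (tt N1680 (iv F10591)) (tt N1334 F7914) (tt N1038 (iv D1927)) (tt N1682 D2636))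
theorem Q1336 : ∀ i, i < 1336 → P i := stepQ 1335 Q1335 (allL N1335 (tt N1674 (iv F10564)) (tt N1042 F7915) (tt N1678 (iv F10584)) (tt N1066 F7916) (tt N1039 (iv D1928)) (tt N1335 F7917) (tt N1653 F38734) (tt N1652 (iv F38773)) (tt N1052 F7918))
theorem Q1337 : ∀ i, i < 1337 → P i := stepQ 1336 Q1336 (allL N1336 (tt N1675 (iv F10569)) (tt N1043 F7919) (tt N1679 (iv F10587)) (tt N1041 F7920) (tt N1653 F38733) (tt N1336 F7921) (tt N1039 (iv D1929)) (tt N1651 (iv F38775)) (tt N1053 F7922))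
theorem Q1338 : ∀ i, i < 1338 → P i := stepQ 1337 Q1337 (allL N1337 (tt N1676 (iv F10574)) (tt N1044 F7923) (tt N1680 (iv F10590)) (tt N1337 F7924) (tt N1652 (iv F38772)) (tt N1040 F7925) (tt N1651 (iv F38774)) (tt N1039 (iv D1930)) (tt N1667 (iv F38777)))
theorem Q1339 : ∀ i, i < 1339 → P i := stepQ 1338 Q1338 (allL N1338 (tt N1677 (iv F10578)) (tt N1045 F7926) (tt N1682 (iv F10594)) (tt N1338 F7927) (tt N1338 F7928) (tt N1667 (iv F38776)) (tt N1338 F7929) (tt N1055 F7930) (tt N1040 (iv D1931)))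
theorem Q1340 : ∀ i, i < 1340 → P i := stepQ 1339 Q1339 (allL N1339 (tt N1655 (iv F10474)) (tt N1046 (iv D1936)) (tt N1339 F7946) (tt N1563 (iv F9936)) (tt N1339 F7947) (tt N1683 D2646) (tt N1339 F7948) (tt N1684 D2647) (tt N1671 (iv F10556)))
theorem Q1341 : ∀ i, i < 1341 → P i := stepQ 1340 Q1340 (allL N1340 (tt N1050 F7949) (tt N1683 (iv F10634)) (tt N1047 F7950) (tt N1564 (iv F9940)) (tt N1685 D2648) (tt N1046 (iv D1937)) (tt N1686 D2649) (tt N1687 D2650) (tt N1672 (iv F10559)))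
theorem Q1342 : ∀ i, i < 1342 → P i := stepQ 1341 Q1341 (allL N1341 (tt N1051 F7951) (tt N1684 (iv F10636)) (tt N1048 F7952) (tt N1688 D2651) (tt N1341 F7953) (tt N1687 (iv F10648)) (tt N1341 F7954) (tt N1046 (iv D1938)) (tt N1689 D2652))
theorem Q1343 : ∀ i, i < 1343 → P i := stepQ 1342 Q1342 (allL N1342 (tt N1052 F7955) (tt N1342 F7956) (tt N1685 (iv F10641)) (tt N1074 F7957) (tt N1047 (iv D1939)) (tt N1342 F7958) (tt N1690 D2653) (tt N1691 D2654) (tt N1674 (iv F10568)))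
theorem Q1344 : ∀ i, i < 1344 → P i := stepQ 1343 Q1343 (allL N1343 (tt N1053 F7959) (tt N1343 F7960) (tt N1686 (iv F10644)) (tt N1049 F7961) (tt N1690 (iv F10659)) (tt N1343 F7962) (tt N1047 (iv D1940)) (tt N1692 D2655) (tt N1675 (iv F10573)))
theorem Q1345 : ∀ i, i < 1345 → P i := stepQ 1344 Q1344 (allL N1344 (tt N1054 F7963) (tt N1344 F7964) (tt N1687 (iv F10647)) (tt N1084 F7965) (tt N1691 (iv F10663)) (tt N1048 F7966) (tt N1692 (iv F10669)) (tt N1047 (iv D1941)) (tt N1693 D2656))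
theorem Q1346 : ∀ i, i < 1346 → P i := stepQ 1345 Q1345 (allL N1345 (tt N1055 F7967) (tt N1345 F7968) (tt N1689 (iv F10653)) (tt N1085 F7969) (tt N1345 F7970) (tt N1693 (iv F10673)) (tt N1345 F7971) (tt N1677 (iv F10583)) (tt N1048 (iv D1942)))
theorem Q1347 : ∀ i, i < 1347 → P i := stepQ 1346 Q1346 (allL N1346 (tt N1685 (iv F10640)) (tt N1662 (iv F10501)) (tt N1052 F7972) (tt N1694 D2657) (tt N1050 (iv D1943)) (tt N1346 F7973) (tt N1695 D2658) (tt N1696 D2659) (tt N1678 (iv F10586)))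
theorem Q1348 : ∀ i, i < 1348 → P i := stepQ 1347 Q1347 (allL N1347 (tt N1686 (iv F10643)) (tt N1663 (iv F10504)) (tt N1053 F7974) (tt N1571 (iv F9957)) (tt N1695 (iv F10677)) (tt N1347 F7975) (tt N1050 (iv D1944)) (tt N1697 D2660) (tt N1679 (iv F10589)))
theorem Q1349 : ∀ i, i < 1349 → P i := stepQ 1348 Q1348 (allL N1348 (tt N1687 (iv F10646)) (tt N1664 (iv F10507)) (tt N1054 F7976) (tt N1698 D2661) (tt N1696 (iv F10679)) (tt N1051 F7977) (tt N1697 (iv F10683)) (tt N1050 (iv D1945)) (tt N1699 D2662))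
theorem Q1350 : ∀ i, i < 1350 → P i := stepQ 1349 Q1349 (allL N1349 (tt N1688 (iv F10649)) (tt N1665 (iv F10510)) (tt N1088 F7978) (tt N1051 (iv D1946)) (tt N1700 D2663) (tt N1698 (iv F10685)) (tt N1349 F7979) (tt N1573 (iv F9963)) (tt N1701 D2664))
theorem Q1351 : ∀ i, i < 1351 → P i := stepQ 1350 Q1350 (allL N1350 (tt N1689 (iv F10652)) (tt N1666 (iv F10513)) (tt N1055 F7980) (tt N1701 (iv F10692)) (tt N1350 F7981) (tt N1699 (iv F10687)) (tt N1350 F7982) (tt N1682 (iv F10597)) (tt N1051 (iv D1947)))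
theorem Q1352 : ∀ i, i < 1352 → P i := stepQ 1351 Q1351 (allL N1351 (tt N1690 (iv F10656)) (tt N1056 F7983) (tt N1695 (iv F10676)) (tt N1078 F7984) (tt N1053 F7985) (tt N1654 F38735) (tt N1052 (iv D1948)) (tt N1670 (iv F38803)) (tt N1653 F38736))
theorem Q1353 : ∀ i, i < 1353 → P i := stepQ 1352 Q1352 (allL N1352 (tt N1691 (iv F10660)) (tt N1057 F7986) (tt N1696 (iv F10678)) (tt N1352 F7987) (tt N1054 F7988) (tt N1352 F7989) (tt N1670 F38859) (tt N1052 (iv D1949)) (tt N1669 (iv F38883)))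
theorem Q1354 : ∀ i, i < 1354 → P i := stepQ 1353 Q1353 (allL N1353 (tt N1692 (iv F10665)) (tt N1058 F7990) (tt N1697 (iv F10681)) (tt N1090 F7991) (tt N1670 F38858) (tt N1353 F7992) (tt N1054 F7993) (tt N1053 (iv D1950)) (tt N1668 (iv F38885)))
theorem Q1355 : ∀ i, i < 1355 → P i := stepQ 1354 Q1354 (allL N1354 (tt N1693 (iv F10670)) (tt N1059 F7994) (tt N1699 (iv F10686)) (tt N1091 F7995) (tt N1669 (iv F38882)) (tt N1055 F7996) (tt N1668 (iv F38884)) (tt N1667 F38851) (tt N1054 (iv D1951)))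
theorem Q1356 : ∀ i, i < 1356 → P i := stepQ 1355 Q1355 (allL N1355 (tt N1355 F8013) (tt N1060 (iv D1956)) (tt N1355 F8014) (tt N1584 (iv F9990)) (tt N1355 F8015) (tt N1702 D2671) (tt N1118 F8016) (tt N1703 D2672) (tt N1072 F8017))
theorem Q1357 : ∀ i, i < 1357 → P i := stepQ 1356 Q1356 (allL N1356 (tt N1064 F8018) (tt N1702 (iv F10720)) (tt N1061 F8019) (tt N1585 (iv F9996)) (tt N1704 D2673) (tt N1060 (iv D1957)) (tt N1705 D2674) (tt N1706 D2675) (tt N1073 F8020))
theorem Q1358 : ∀ i, i < 1358 → P i := stepQ 1357 Q1357 (allL N1357 (tt N1065 F8021) (tt N1703 (iv F10724)) (tt N1062 F8022) (tt N1707 D2676) (tt N1357 F8023) (tt N1706 (iv F10739)) (tt N1120 F8024) (tt N1060 (iv D1958)) (tt N1357 F8025))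
theorem Q1359 : ∀ i, i < 1359 → P i := stepQ 1358 Q1358 (allL N1358 (tt N1066 F8026) (tt N1358 F8027) (tt N1704 (iv F10730)) (tt N1674 (iv F10566)) (tt N1061 (iv D1959)) (tt N1358 F8028) (tt N1708 D2677) (tt N1709 D2678) (tt N1074 F8029))
theorem Q1360 : ∀ i, i < 1360 → P i := stepQ 1359 Q1359 (allL N1359 (tt N1067 F8030) (tt N1359 F8031) (tt N1705 (iv F10734)) (tt N1063 F8032) (tt N1708 (iv F10747)) (tt N1122 F8033) (tt N1061 (iv D1960)) (tt N1710 D2679) (tt N1075 F8034))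
theorem Q1361 : ∀ i, i < 1361 → P i := stepQ 1360 Q1360 (allL N1360 (tt N1068 F8035) (tt N1360 F8036) (tt N1706 (iv F10738)) (tt N1360 F8037) (tt N1709 (iv F10751)) (tt N1062 F8038) (tt N1710 (iv F10758)) (tt N1061 (iv D1961)) (tt N1360 F8039))
theorem Q1362 : ∀ i, i < 1362 → P i := stepQ 1361 Q1361 (allL N1361 (tt N1704 (iv F10729)) (tt N1361 F8040) (tt N1066 F8041) (tt N1711 D2680) (tt N1064 (iv D1962)) (tt N1361 F8042) (tt N1712 D2681) (tt N1713 D2682) (tt N1076 F8043))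
theorem Q1363 : ∀ i, i < 1363 → P i := stepQ 1362 Q1362 (allL N1362 (tt N1705 (iv F10733)) (tt N1362 F8044) (tt N1067 F8045) (tt N1592 (iv F10027)) (tt N1712 (iv F10765)) (tt N1125 F8046) (tt N1064 (iv D1963)) (tt N1714 D2683) (tt N1077 F8047))
theorem Q1364 : ∀ i, i < 1364 → P i := stepQ 1363 Q1363 (allL N1363 (tt N1706 (iv F10737)) (tt N1363 F8048) (tt N1068 F8049) (tt N1715 D2684) (tt N1713 (iv F10769)) (tt N1065 F8050) (tt N1714 (iv F10775)) (tt N1064 (iv D1964)) (tt N1363 F8051))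
theorem Q1365 : ∀ i, i < 1365 → P i := stepQ 1364 Q1364 (allL N1364 (tt N1707 (iv F10741)) (tt N1364 F8052) (tt N1364 F8053) (tt N1065 (iv D1965)) (tt N1716 D2685) (tt N1715 (iv F10779)) (tt N1127 F8054) (tt N1594 (iv F10036)) (tt N1364 F8055))
theorem Q1366 : ∀ i, i < 1366 → P i := stepQ 1365 Q1365 (allL N1365 (tt N1708 (iv F10745)) (tt N1069 F8056) (tt N1712 (iv F10764)) (tt N1653 (iv F38671)) (tt N1067 F8057) (tt N1643 F38644) (tt N1066 (iv D1966)) (tt N1642 (iv F38694)) (tt N1078 F8058))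
theorem Q1367 : ∀ i, i < 1367 → P i := stepQ 1366 Q1366 (allL N1366 (tt N1709 (iv F10749)) (tt N1070 F8059) (tt N1713 (iv F10768)) (tt N1644 (iv F38818)) (tt N1068 F8060) (tt N1366 F8061) (tt N1642 F38744) (tt N1066 (iv D1967)) (tt N1366 F8062))
theorem Q1368 : ∀ i, i < 1368 → P i := stepQ 1367 Q1367 (allL N1367 (tt N1710 (iv F10754)) (tt N1071 F8063) (tt N1714 (iv F10773)) (tt N1367 F8064) (tt N1642 F38743) (tt N1130 F8065) (tt N1068 F8066) (tt N1067 (iv D1968)) (tt N1367 F8067))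
theorem Q1369 : ∀ i, i < 1369 → P i := stepQ 1368 Q1368 (allL N1368 (tt N1368 F8082) (tt N1073 F8083) (tt N1368 F8084) (tt N1598 (iv F10081)) (tt N1717 D2692) (tt N1072 (iv D1972)) (tt N1718 D2693) (tt N1368 F8085) (tt N1702 (iv F10722)))
theorem Q1370 : ∀ i, i < 1370 → P i := stepQ 1369 Q1369 (allL N1369 (tt N1076 F8086) (tt N1717 (iv F10814)) (tt N1074 F8087) (tt N1719 D2694) (tt N1073 (iv D1973)) (tt N1369 F8088) (tt N1720 D2695) (tt N1369 F8089) (tt N1704 (iv F10732)))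
theorem Q1371 : ∀ i, i < 1371 → P i := stepQ 1370 Q1370 (allL N1370 (tt N1077 F8090) (tt N1718 (iv F10819)) (tt N1075 F8091) (tt N1601 (iv F10090)) (tt N1720 (iv F10827)) (tt N1136 F8092) (tt N1073 (iv D1974)) (tt N1370 F8093) (tt N1705 (iv F10736)))
theorem Q1372 : ∀ i, i < 1372 → P i := stepQ 1371 Q1371 (allL N1371 (tt N1078 F8094) (tt N1371 F8095) (tt N1720 (iv F10826)) (tt N1690 (iv F10658)) (tt N1075 F8096) (tt N1721 D2696) (tt N1074 (iv D1975)) (tt N1371 F8097) (tt N1708 (iv F10748)))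
theorem Q1373 : ∀ i, i < 1373 → P i := stepQ 1372 Q1372 (allL N1372 (tt N1719 (iv F10823)) (tt N1372 F8098) (tt N1694 (iv F10674)) (tt N1076 (iv D1976)) (tt N1606 (iv F10112)) (tt N1372 F8099) (tt N1722 D2697) (tt N1723 D2698) (tt N1711 (iv F10762)))
theorem Q1374 : ∀ i, i < 1374 → P i := stepQ 1373 Q1373 (allL N1373 (tt N1720 (iv F10825)) (tt N1373 F8100) (tt N1078 F8101) (tt N1722 (iv F10835)) (tt N1077 F8102) (tt N1724 D2699) (tt N1076 (iv D1977)) (tt N1373 F8103) (tt N1712 (iv F10766)))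
theorem Q1375 : ∀ i, i < 1375 → P i := stepQ 1374 Q1374 (allL N1374 (tt N1721 (iv F10829)) (tt N1079 F8104) (tt N1724 (iv F10840)) (tt N1654 (iv F38672)) (tt N1140 F8105) (tt N1078 (iv D1978)) (tt N1374 F8106) (tt N1374 F8107) (tt N1643 F38645))
theorem Q1376 : ∀ i, i < 1376 → P i := stepQ 1375 Q1375 (allL N1375 (tt N1375 F8108) (tt N1081 F8109) (tt N1375 F8110) (tt N1611 (iv F10155)) (tt N1375 F8111) (tt N1080 (iv D1979)) (tt N1725 D2700) (tt N1726 D2701) (tt N1375 F8112))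
theorem Q1377 : ∀ i, i < 1377 → P i := stepQ 1376 Q1376 (allL N1376 (tt N1376 F8113) (tt N1082 F8114) (tt N1376 F8115) (tt N1727 D2702) (tt N1093 F8116) (tt N1726 (iv F10854)) (tt N1376 F8117) (tt N1080 (iv D1980)) (tt N1728 D2703))
theorem Q1378 : ∀ i, i < 1378 → P i := stepQ 1377 Q1377 (allL N1377 (tt N1086 F8118) (tt N1725 (iv F10845)) (tt N1083 F8119) (tt N1614 (iv F10168)) (tt N1377 F8120) (tt N1377 F8121) (tt N1081 (iv D1981)) (tt N1729 D2704) (tt N1377 F8122))
theorem Q1379 : ∀ i, i < 1379 → P i := stepQ 1378 Q1378 (allL N1378 (tt N1087 F8123) (tt N1726 (iv F10851)) (tt N1084 F8124) (tt N1730 D2705) (tt N1378 F8125) (tt N1082 F8126) (tt N1729 (iv F10868)) (tt N1081 (iv D1982)) (tt N1731 D2706))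
theorem Q1380 : ∀ i, i < 1380 → P i := stepQ 1379 Q1379 (allL N1379 (tt N1088 F8127) (tt N1727 (iv F10856)) (tt N1688 (iv F10650)) (tt N1082 (iv D1983)) (tt N1732 D2707) (tt N1730 (iv F10870)) (tt N1379 F8128) (tt N1616 (iv F10176)) (tt N1733 D2708))
theorem Q1381 : ∀ i, i < 1381 → P i := stepQ 1380 Q1380 (allL N1380 (tt N1089 F8129) (tt N1728 (iv F10859)) (tt N1085 F8130) (tt N1733 (iv F10880)) (tt N1095 F8131) (tt N1731 (iv F10874)) (tt N1380 F8132) (tt N1380 F8133) (tt N1082 (iv D1984)))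
theorem Q1382 : ∀ i, i < 1382 → P i := stepQ 1381 Q1381 (allL N1381 (tt N1090 F8134) (tt N1381 F8135) (tt N1729 (iv F10865)) (tt N1692 (iv F10667)) (tt N1381 F8136) (tt N1381 F8137) (tt N1084 F8138) (tt N1083 (iv D1985)) (tt N1734 D2709))
theorem Q1383 : ∀ i, i < 1383 → P i := stepQ 1382 Q1382 (allL N1382 (tt N1091 F8139) (tt N1382 F8140) (tt N1731 (iv F10872)) (tt N1693 (iv F10672)) (tt N1382 F8141) (tt N1085 F8142) (tt N1734 (iv F10886)) (tt N1382 F8143) (tt N1084 (iv D1986)))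
theorem Q1384 : ∀ i, i < 1384 → P i := stepQ 1383 Q1383 (allL N1383 (tt N1729 (iv F10864)) (tt N1383 F8144) (tt N1090 F8145) (tt N1735 D2710) (tt N1383 F8146) (tt N1383 F8147) (tt N1087 F8148) (tt N1086 (iv D1987)) (tt N1736 D2711))
theorem Q1385 : ∀ i, i < 1385 → P i := stepQ 1384 Q1384 (allL N1384 (tt N1730 (iv F10869)) (tt N1384 F8149) (tt N1698 (iv F10684)) (tt N1087 (iv D1988)) (tt N1737 D2712) (tt N1088 F8150) (tt N1735 (iv F10890)) (tt N1623 (iv F10210)) (tt N1738 D2713))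
theorem Q1386 : ∀ i, i < 1386 → P i := stepQ 1385 Q1385 (allL N1385 (tt N1731 (iv F10871)) (tt N1385 F8151) (tt N1091 F8152) (tt N1738 (iv F10900)) (tt N1385 F8153) (tt N1089 F8154) (tt N1736 (iv F10895)) (tt N1385 F8155) (tt N1087 (iv D1989)))
theorem Q1387 : ∀ i, i < 1387 → P i := stepQ 1386 Q1386 (allL N1386 (tt N1732 (iv F10876)) (tt N1386 F8156) (tt N1700 (iv F10688)) (tt N1096 F8157) (tt N1088 (iv D1990)) (tt N1739 D2714) (tt N1386 F8158) (tt N1625 (iv F10218)) (tt N1740 D2715))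
theorem Q1388 : ∀ i, i < 1388 → P i := stepQ 1387 Q1387 (allL N1387 (tt N1733 (iv F10879)) (tt N1387 F8159) (tt N1701 (iv F10691)) (tt N1089 F8160) (tt N1740 (iv F10906)) (tt N1738 (iv F10901)) (tt N1387 F8161) (tt N1741 D2716) (tt N1088 (iv D1991)))
theorem Q1389 : ∀ i, i < 1389 → P i := stepQ 1388 Q1388 (allL N1388 (tt N1734 (iv F10882)) (tt N1092 F8162) (tt N1736 (iv F10892)) (tt N1668 F38919) (tt N1388 F8163) (tt N1388 F8164) (tt N1091 F8165) (tt N1388 F8166) (tt N1090 (iv D1992)))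
theorem Q1390 : ∀ i, i < 1390 → P i := stepQ 1389 Q1389 (allL N1389 (tt N1389 F8167) (tt N1094 F8168) (tt N1742 D2717) (tt N1093 (iv D1993)) (tt N1743 D2718) (tt N1389 F8169) (tt N1389 F8170) (tt N1389 F8171) (tt N1744 D2719))
theorem Q1391 : ∀ i, i < 1391 → P i := stepQ 1390 Q1390 (allL N1390 (tt N1390 F8172) (tt N1095 F8173) (tt N1390 F8174) (tt N1744 (iv F10923)) (tt N1728 (iv F10861)) (tt N1390 F8175) (tt N1390 F8176) (tt N1390 F8177) (tt N1093 (iv D1994)))
theorem Q1392 : ∀ i, i < 1392 → P i := stepQ 1391 Q1391 (allL N1391 (tt N1096 F8178) (tt N1743 (iv F10918)) (tt N1391 F8179) (tt N1732 (iv F10877)) (tt N1094 (iv D1995)) (tt N1745 D2720) (tt N1391 F8180) (tt N1391 F8181) (tt N1746 D2721))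
theorem Q1393 : ∀ i, i < 1393 → P i := stepQ 1392 Q1392 (allL N1392 (tt N1097 F8182) (tt N1744 (iv F10922)) (tt N1392 F8183) (tt N1095 F8184) (tt N1746 (iv F10932)) (tt N1392 F8185) (tt N1392 F8186) (tt N1747 D2722) (tt N1094 (iv D1996)))
theorem Q1394 : ∀ i, i < 1394 → P i := stepQ 1393 Q1393 (allL N1393 (tt N1745 (iv F10926)) (tt N1393 F8187) (tt N1393 F8188) (tt N1739 (iv F10903)) (tt N1393 F8189) (tt N1096 (iv D1997)) (tt N1748 D2723) (tt N1393 F8190) (tt N1749 D2724))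
theorem Q1395 : ∀ i, i < 1395 → P i := stepQ 1394 Q1394 (allL N1394 (tt N1746 (iv F10930)) (tt N1394 F8191) (tt N1394 F8192) (tt N1740 (iv F10905)) (tt N1097 F8193) (tt N1749 (iv F10948)) (tt N1394 F8194) (tt N1750 D2725) (tt N1096 (iv D1998)))
theorem Q1396 : ∀ i, i < 1396 → P i := stepQ 1395 Q1395 (allL N1395 (tt N1747 (iv F10934)) (tt N1395 F8195) (tt N1395 F8196) (tt N1395 F8197) (tt N1750 (iv F10951)) (tt N1395 F8198) (tt N1395 F8199) (tt N1097 (iv D1999)) (tt N1395 F8200))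
theorem Q1397 : ∀ i, i < 1397 → P i := stepQ 1396 Q1396 (allL N1396 (tt N1396 F8201) (tt N1098 (iv D2000)) (tt N1113 F8202) (tt N1396 F8203) (tt N1405 (iv F8546)) (tt N1412 F37758) (tt N1457 (iv F9197)) (tt N1411 F37759) (tt N1397 (iv F8470)))
theorem Q1398 : ∀ i, i < 1398 → P i := stepQ 1397 Q1397 (allL N1397 (tt N1397 F8467) (tt N1099 (iv D2073)) (tt N1405 (iv F8544)) (tt N1397 F8468) (tt N1113 F8469) (tt N1751 D2827) (tt N1500 (iv F9683)) (tt N1752 D2828) (tt N1396 F8470))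
theorem Q1399 : ∀ i, i < 1399 → P i := stepQ 1398 Q1398 (allL N1398 (tt N1102 F8471) (tt N1751 (iv F11328)) (tt N1100 F8472) (tt N1398 F8473) (tt N1753 D2829) (tt N1099 (iv D2074)) (tt N1603 F37837) (tt N1754 D2831) (tt N1115 F37838))
theorem Q1400 : ∀ i, i < 1400 → P i := stepQ 1399 Q1399 (allL N1399 (tt N1103 F8475) (tt N1752 (iv F11332)) (tt N1101 F8476) (tt N1755 D2832) (tt N1115 F8477) (tt N1754 (iv F11344)) (tt N1502 (iv F9692)) (tt N1099 (iv D2075)) (tt N1753 (iv F37778)))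
theorem Q1401 : ∀ i, i < 1401 → P i := stepQ 1400 Q1400 (allL N1400 (tt N1104 F8478) (tt N1401 (iv F37756)) (tt N1753 (iv F11335)) (tt N1400 F8479) (tt N1100 (iv D2076)) (tt N1108 (iv F37751)) (tt N1506 (iv F37926)) (tt N1107 (iv F37747)) (tt N1101 F37843))
theorem Q1402 : ∀ i, i < 1402 → P i := stepQ 1401 Q1401 (allL N1401 (tt N1105 F8485) (tt N1400 F37756) (tt N1754 (iv F11343)) (tt N1401 F8486) (tt N1107 F37757) (tt N1101 F8487) (tt N1590 (iv F37848)) (tt N1100 (iv D2078)) (tt N1108 (iv F37840)))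
theorem Q1403 : ∀ i, i < 1403 → P i := stepQ 1402 Q1402 (allL N1402 (tt N1753 (iv F11334)) (tt N1402 F8492) (tt N1104 F8493) (tt N1756 D2838) (tt N1102 (iv D2080)) (tt N1111 (iv F37745)) (tt N1511 (iv F37914)) (tt N1110 (iv F37742)) (tt N1103 F37842))
theorem Q1404 : ∀ i, i < 1404 → P i := stepQ 1403 Q1403 (allL N1403 (tt N1754 (iv F11342)) (tt N1403 F8500) (tt N1105 F8501) (tt N1757 D2842) (tt N1110 F37766) (tt N1103 F8502) (tt N1595 (iv F37847)) (tt N1102 (iv D2082)) (tt N1111 (iv F37864)))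
theorem Q1405 : ∀ i, i < 1405 → P i := stepQ 1404 Q1404 (allL N1404 (tt N1755 (iv F11345)) (tt N1404 F8503) (tt N1404 F8504) (tt N1103 (iv D2083)) (tt N1404 F8505) (tt N1757 (iv F11385)) (tt N1510 (iv F9723)) (tt N1404 F8506) (tt N1756 (iv F37867)))
theorem Q1406 : ∀ i, i < 1406 → P i := stepQ 1405 Q1405 (allL N1405 (tt N1405 F8543) (tt N1106 (iv D2094)) (tt N1397 F8544) (tt N1118 F8545) (tt N1396 F8546) (tt N1758 D2855) (tt N1584 (iv F9992)) (tt N1759 D2856) (tt N1113 F8547))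
theorem Q1407 : ∀ i, i < 1407 → P i := stepQ 1406 Q1406 (allL N1406 (tt N1110 F8548) (tt N1758 (iv F11432)) (tt N1107 F8549) (tt N1119 F8550) (tt N1754 (iv F37701)) (tt N1106 (iv D2095)) (tt N1760 D2858) (tt N1753 F37691) (tt N1114 F8551))
theorem Q1408 : ∀ i, i < 1408 → P i := stepQ 1407 Q1407 (allL N1407 (tt N1111 F8552) (tt N1759 (iv F11437)) (tt N1108 F8553) (tt N1761 D2860) (tt N1114 (iv F37752)) (tt N1753 F37694) (tt N1586 (iv F10001)) (tt N1106 (iv D2096)) (tt N1754 F37779))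
theorem Q1409 : ∀ i, i < 1409 → P i := stepQ 1408 Q1408 (allL N1408 (tt N1112 F8560) (tt N1264 F37927) (tt N1760 (iv F11445)) (tt N1109 F8562) (tt N1590 F37928) (tt N1588 (iv F10009)) (tt N1107 (iv D2098)) (tt N1506 F37929) (tt N1116 F8563))
theorem Q1410 : ∀ i, i < 1410 → P i := stepQ 1409 Q1409 (allL N1409 (tt N1760 (iv F11444)) (tt N1409 F8577) (tt N1112 F8578) (tt N1125 F8579) (tt N1595 F37947) (tt N1592 (iv F10028)) (tt N1110 (iv D2102)) (tt N1511 F37948) (tt N1117 F8580))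
theorem Q1411 : ∀ i, i < 1411 → P i := stepQ 1410 Q1410 (allL N1410 (tt N1761 (iv F11451)) (tt N1410 F8584) (tt N1410 F8585) (tt N1111 (iv D2104)) (tt N1138 (iv F37743)) (tt N1756 F37689) (tt N1594 (iv F10035)) (tt N1127 F8586) (tt N1757 F37828))
theorem Q1412 : ∀ i, i < 1412 → P i := stepQ 1411 Q1411 (allL N1411 (tt N1411 F8628) (tt N1114 F8629) (tt N1412 (iv F37703)) (tt N1134 F8630) (tt N1759 F37699) (tt N1113 (iv D2115)) (tt N1762 D2885) (tt N1396 (iv F37759)) (tt N1758 (iv F11435)))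
theorem Q1413 : ∀ i, i < 1413 → P i := stepQ 1412 Q1412 (allL N1412 (tt N1412 F8631) (tt N1115 F8632) (tt N1411 F37703) (tt N1412 F8633) (tt N1752 (iv F11333)) (tt N1396 (iv F37758)) (tt N1599 (iv F10085)) (tt N1113 (iv D2116)) (tt N1751 (iv F37765)))
theorem Q1414 : ∀ i, i < 1414 → P i := stepQ 1413 Q1413 (allL N1413 (tt N1117 F8636) (tt N1762 (iv F11552)) (tt N1116 F8637) (tt N1136 F8638) (tt N1586 F37835) (tt N1601 (iv F10091)) (tt N1114 (iv D2118)) (tt N1154 (iv F37915)) (tt N1760 (iv F11447)))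
theorem Q1415 : ∀ i, i < 1415 → P i := stepQ 1414 Q1414 (allL N1414 (tt N1414 F8795) (tt N1119 F8796) (tt N1414 F8797) (tt N1758 (iv F11434)) (tt N1763 D2949) (tt N1118 (iv D2166)) (tt N1764 D2950) (tt N1765 D2951) (tt N1134 F8798))
theorem Q1416 : ∀ i, i < 1416 → P i := stepQ 1415 Q1415 (allL N1415 (tt N1415 F8799) (tt N1120 F8800) (tt N1415 F8801) (tt N1766 D2952) (tt N1415 F8802) (tt N1765 (iv F11774)) (tt N1703 (iv F10727)) (tt N1118 (iv D2167)) (tt N1415 F8803))
theorem Q1417 : ∀ i, i < 1417 → P i := stepQ 1416 Q1416 (allL N1416 (tt N1124 F8804) (tt N1763 (iv F11763)) (tt N1121 F8805) (tt N1767 D2953) (tt N1119 (iv D2168)) (tt N1416 F8806) (tt N1768 D2954) (tt N1769 D2955) (tt N1135 F8807))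
theorem Q1418 : ∀ i, i < 1418 → P i := stepQ 1417 Q1417 (allL N1417 (tt N1125 F8808) (tt N1764 (iv F11768)) (tt N1122 F8809) (tt N1760 (iv F11446)) (tt N1768 (iv F11785)) (tt N1705 (iv F10735)) (tt N1119 (iv D2169)) (tt N1770 D2956) (tt N1136 F8810))
theorem Q1419 : ∀ i, i < 1419 → P i := stepQ 1418 Q1418 (allL N1418 (tt N1126 F8811) (tt N1765 (iv F11772)) (tt N1123 F8812) (tt N1771 D2957) (tt N1769 (iv F11789)) (tt N1120 F8813) (tt N1770 (iv F11794)) (tt N1119 (iv D2170)) (tt N1418 F8814))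
theorem Q1420 : ∀ i, i < 1420 → P i := stepQ 1419 Q1419 (allL N1419 (tt N1127 F8815) (tt N1766 (iv F11777)) (tt N1419 F8816) (tt N1120 (iv D2171)) (tt N1772 D2958) (tt N1771 (iv F11798)) (tt N1707 (iv F10743)) (tt N1761 (iv F11453)) (tt N1419 F8817))
theorem Q1421 : ∀ i, i < 1421 → P i := stepQ 1420 Q1420 (allL N1420 (tt N1128 F8818) (tt N1420 F8819) (tt N1768 (iv F11784)) (tt N1420 F8820) (tt N1122 F8821) (tt N1773 D2959) (tt N1121 (iv D2172)) (tt N1774 D2960) (tt N1137 F8822))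
theorem Q1422 : ∀ i, i < 1422 → P i := stepQ 1421 Q1421 (allL N1421 (tt N1129 F8823) (tt N1421 F8824) (tt N1769 (iv F11788)) (tt N1775 D2961) (tt N1123 F8825) (tt N1421 F8826) (tt N1774 (iv F11812)) (tt N1121 (iv D2173)) (tt N1421 F8827))
theorem Q1423 : ∀ i, i < 1423 → P i := stepQ 1422 Q1422 (allL N1422 (tt N1130 F8828) (tt N1422 F8829) (tt N1770 (iv F11793)) (tt N1422 F8830) (tt N1774 (iv F11811)) (tt N1710 (iv F10757)) (tt N1123 F8831) (tt N1122 (iv D2174)) (tt N1422 F8832))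
theorem Q1424 : ∀ i, i < 1424 → P i := stepQ 1423 Q1423 (allL N1423 (tt N1767 (iv F11779)) (tt N1423 F8833) (tt N1423 F8834) (tt N1124 (iv D2175)) (tt N1757 F37783) (tt N1423 F8835) (tt N1776 D2962) (tt N1423 F37304) (tt N1138 F8836))
theorem Q1425 : ∀ i, i < 1425 → P i := stepQ 1424 Q1424 (allL N1424 (tt N1768 (iv F11783)) (tt N1424 F8837) (tt N1128 F8838) (tt N1776 (iv F11822)) (tt N1125 F8839) (tt N1777 D2964) (tt N1124 (iv D2176)) (tt N1778 D2965) (tt N1139 F8840))
theorem Q1426 : ∀ i, i < 1426 → P i := stepQ 1425 Q1425 (allL N1425 (tt N1769 (iv F11787)) (tt N1425 F8841) (tt N1129 F8842) (tt N1425 F37349) (tt N1126 F8843) (tt N1425 F8844) (tt N1778 (iv F11834)) (tt N1124 (iv D2177)) (tt N1425 F8845))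
theorem Q1427 : ∀ i, i < 1427 → P i := stepQ 1426 Q1426 (allL N1426 (tt N1770 (iv F11792)) (tt N1426 F8846) (tt N1130 F8847) (tt N1779 D2967) (tt N1778 (iv F11833)) (tt N1714 (iv F10774)) (tt N1126 F8848) (tt N1125 (iv D2178)) (tt N1426 F8849))
theorem Q1428 : ∀ i, i < 1428 → P i := stepQ 1427 Q1427 (allL N1427 (tt N1771 (iv F11796)) (tt N1427 F8850) (tt N1427 F8851) (tt N1126 (iv D2179)) (tt N1427 F37422) (tt N1127 F8852) (tt N1779 (iv F11841)) (tt N1756 (iv F37637)) (tt N1427 F8853))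
theorem Q1429 : ∀ i, i < 1429 → P i := stepQ 1428 Q1428 (allL N1428 (tt N1772 (iv F11800)) (tt N1428 F8854) (tt N1428 F8855) (tt N1428 F8856) (tt N1127 (iv D2180)) (tt N1428 F37511) (tt N1716 (iv F10784)) (tt N1138 (iv F37744)) (tt N1428 F8857))
theorem Q1430 : ∀ i, i < 1430 → P i := stepQ 1429 Q1429 (allL N1429 (tt N1773 (iv F11804)) (tt N1131 F8858) (tt N1777 (iv F11828)) (tt N1429 F8859) (tt N1643 F38642) (tt N1128 (iv D2181)) (tt N1429 F8860) (tt N1637 (iv F38690)) (tt N1140 F8861))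
theorem Q1431 : ∀ i, i < 1431 → P i := stepQ 1430 Q1430 (allL N1430 (tt N1774 (iv F11809)) (tt N1132 F8862) (tt N1778 (iv F11832)) (tt N1638 (iv F38815)) (tt N1130 F8863) (tt N1637 F38741) (tt N1129 F8864) (tt N1128 (iv D2182)) (tt N1430 F8865))
theorem Q1432 : ∀ i, i < 1432 → P i := stepQ 1431 Q1431 (allL N1431 (tt N1775 (iv F11814)) (tt N1133 F8866) (tt N1431 F37426) (tt N1129 (iv D2183)) (tt N1431 F8867) (tt N1431 F8868) (tt N1638 F38862) (tt N1431 F8869) (tt N1431 F8870))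
theorem Q1433 : ∀ i, i < 1433 → P i := stepQ 1432 Q1432 (allL N1432 (tt N1432 F8887) (tt N1135 F8888) (tt N1432 F8889) (tt N1780 D2976) (tt N1134 (iv D2187)) (tt N1432 F8890) (tt N1781 D2977) (tt N1432 F8891) (tt N1763 (iv F11766)))
theorem Q1434 : ∀ i, i < 1434 → P i := stepQ 1433 Q1433 (allL N1433 (tt N1433 F8892) (tt N1136 F8893) (tt N1433 F8894) (tt N1762 (iv F11553)) (tt N1781 (iv F11885)) (tt N1718 (iv F10821)) (tt N1134 (iv D2188)) (tt N1433 F8895) (tt N1764 (iv F11770)))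
theorem Q1435 : ∀ i, i < 1435 → P i := stepQ 1434 Q1434 (allL N1434 (tt N1138 F8896) (tt N1780 (iv F11880)) (tt N1434 F8897) (tt N1135 (iv D2189)) (tt N1761 F37692) (tt N1434 F8898) (tt N1782 D2978) (tt N1772 F37693) (tt N1767 (iv F11782)))
theorem Q1436 : ∀ i, i < 1436 → P i := stepQ 1435 Q1435 (allL N1435 (tt N1139 F8899) (tt N1781 (iv F11883)) (tt N1137 F8900) (tt N1782 (iv F11889)) (tt N1136 F8901) (tt N1783 D2980) (tt N1135 (iv D2190)) (tt N1435 F8902) (tt N1768 (iv F11786)))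
theorem Q1437 : ∀ i, i < 1437 → P i := stepQ 1436 Q1436 (allL N1436 (tt N1140 F8903) (tt N1436 F8904) (tt N1783 (iv F11895)) (tt N1436 F8905) (tt N1721 (iv F10831)) (tt N1137 (iv D2191)) (tt N1436 F8906) (tt N1436 F8907) (tt N1773 (iv F11808)))
theorem Q1438 : ∀ i, i < 1438 → P i := stepQ 1437 Q1437 (allL N1437 (tt N1782 (iv F11887)) (tt N1437 F8908) (tt N1437 F8909) (tt N1139 F8910) (tt N1594 F37824) (tt N1784 D2981) (tt N1138 (iv D2192)) (tt N1716 F37825) (tt N1776 (iv F11823)))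
theorem Q1439 : ∀ i, i < 1439 → P i := stepQ 1438 Q1438 (allL N1438 (tt N1783 (iv F11894)) (tt N1438 F8915) (tt N1140 F8916) (tt N1784 (iv F11900)) (tt N1724 (iv F10841)) (tt N1139 (iv D2194)) (tt N1438 F8917) (tt N1438 F8918) (tt N1777 (iv F11830)))
theorem Q1440 : ∀ i, i < 1440 → P i := stepQ 1439 Q1439 (allL N1439 (tt N1142 F9115) (tt N1212 F9116) (tt N1785 D3044) (tt N1141 (iv D2240)) (tt N1525 (iv F9794)) (tt N1786 D3045) (tt N1439 F9117) (tt N1787 D3046) (tt N1476 (iv F9594)))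
theorem Q1441 : ∀ i, i < 1441 → P i := stepQ 1440 Q1440 (allL N1440 (tt N1143 F9118) (tt N1213 F9119) (tt N1440 F9120) (tt N1786 (iv F12170)) (tt N1440 F9121) (tt N1141 (iv D2241)) (tt N1635 F38566) (tt N1440 F9122) (tt N1477 (iv F9598)))
theorem Q1442 : ∀ i, i < 1442 → P i := stepQ 1441 Q1441 (allL N1441 (tt N1785 (iv F12165)) (tt N1148 F9123) (tt N1142 (iv D2242)) (tt N1441 F9124) (tt N1527 (iv F9804)) (tt N1788 D3048) (tt N1441 F9125) (tt N1789 D3049) (tt N1478 (iv F9603)))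
theorem Q1443 : ∀ i, i < 1443 → P i := stepQ 1442 Q1442 (allL N1442 (tt N1786 (iv F12168)) (tt N1144 F9126) (tt N1788 (iv F12182)) (tt N1143 F9127) (tt N1790 D3050) (tt N1142 (iv D2243)) (tt N1634 F38504) (tt N1791 D3052) (tt N1479 (iv F9606)))
theorem Q1444 : ∀ i, i < 1444 → P i := stepQ 1443 Q1443 (allL N1443 (tt N1787 (iv F12171)) (tt N1145 F9128) (tt N1789 (iv F12185)) (tt N1443 F9129) (tt N1529 (iv F9811)) (tt N1791 (iv F12194)) (tt N1443 F9130) (tt N1142 (iv D2244)) (tt N1792 D3053))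
theorem Q1445 : ∀ i, i < 1445 → P i := stepQ 1444 Q1444 (allL N1444 (tt N1218 F9136) (tt N1790 (iv F12187)) (tt N1151 F9137) (tt N1444 F9138) (tt N1144 (iv D2246)) (tt N1531 (iv F9821)) (tt N1610 F38379) (tt N1793 D3055) (tt N1482 (iv F9618)))
theorem Q1446 : ∀ i, i < 1446 → P i := stepQ 1445 Q1445 (allL N1445 (tt N1220 F9143) (tt N1791 (iv F12192)) (tt N1152 F9144) (tt N1445 F9145) (tt N1793 (iv F12204)) (tt N1145 F9146) (tt N1630 F38507) (tt N1144 (iv D2248)) (tt N1794 D3057))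
theorem Q1447 : ∀ i, i < 1447 → P i := stepQ 1446 Q1446 (allL N1446 (tt N1221 F9147) (tt N1792 (iv F12195)) (tt N1153 F9148) (tt N1446 F9149) (tt N1534 (iv F9833)) (tt N1794 (iv F12213)) (tt N1446 F9150) (tt N1485 (iv F9628)) (tt N1145 (iv D2249)))
theorem Q1448 : ∀ i, i < 1448 → P i := stepQ 1447 Q1447 (allL N1447 (tt N1148 F9151) (tt N1795 D3058) (tt N1146 (iv D2250)) (tt N1447 F9152) (tt N1549 (iv F9880)) (tt N1796 D3059) (tt N1447 F9153) (tt N1797 D3060) (tt N1486 (iv F9633)))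
theorem Q1449 : ∀ i, i < 1449 → P i := stepQ 1448 Q1448 (allL N1448 (tt N1149 F9154) (tt N1233 F9155) (tt N1796 (iv F12218)) (tt N1147 F9156) (tt N1798 D3061) (tt N1146 (iv D2251)) (tt N1632 F38290) (tt N1799 D3063) (tt N1487 (iv F9636)))
theorem Q1450 : ∀ i, i < 1450 → P i := stepQ 1449 Q1449 (allL N1449 (tt N1150 F9157) (tt N1234 F9158) (tt N1797 (iv F12221)) (tt N1160 F9159) (tt N1551 (iv F9890)) (tt N1799 (iv F12233)) (tt N1449 F9160) (tt N1146 (iv D2252)) (tt N1800 D3064))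
theorem Q1451 : ∀ i, i < 1451 → P i := stepQ 1450 Q1450 (allL N1450 (tt N1796 (iv F12217)) (tt N1788 (iv F12181)) (tt N1149 F9167) (tt N1450 F9168) (tt N1801 D3065) (tt N1148 (iv D2254)) (tt N1633 F38384) (tt N1802 D3067) (tt N1490 (iv F9649)))
theorem Q1452 : ∀ i, i < 1452 → P i := stepQ 1451 Q1451 (allL N1451 (tt N1797 (iv F12220)) (tt N1789 (iv F12184)) (tt N1150 F9169) (tt N1803 D3068) (tt N1554 (iv F9903)) (tt N1802 (iv F12243)) (tt N1451 F9170) (tt N1148 (iv D2255)) (tt N1804 D3069))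
theorem Q1453 : ∀ i, i < 1453 → P i := stepQ 1452 Q1452 (allL N1452 (tt N1798 (iv F12223)) (tt N1151 F9171) (tt N1801 (iv F12238)) (tt N1157 F9172) (tt N1149 (iv D2256)) (tt N1555 (iv F9907)) (tt N1609 F38255) (tt N1805 D3071) (tt N1492 (iv F9656)))
theorem Q1454 : ∀ i, i < 1454 → P i := stepQ 1453 Q1453 (allL N1453 (tt N1799 (iv F12230)) (tt N1152 F9176) (tt N1802 (iv F12242)) (tt N1163 F9177) (tt N1805 (iv F12253)) (tt N1150 F9178) (tt N1627 F38386) (tt N1149 (iv D2258)) (tt N1806 D3073))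
theorem Q1455 : ∀ i, i < 1455 → P i := stepQ 1454 Q1454 (allL N1454 (tt N1800 (iv F12234)) (tt N1153 F9179) (tt N1804 (iv F12247)) (tt N1164 F9180) (tt N1558 (iv F9918)) (tt N1806 (iv F12260)) (tt N1454 F9181) (tt N1495 (iv F9668)) (tt N1150 (iv D2259)))
theorem Q1456 : ∀ i, i < 1456 → P i := stepQ 1455 Q1455 (allL N1455 (tt N1243 F9185) (tt N1805 (iv F12252)) (tt N1793 (iv F12203)) (tt N1580 F38381) (tt N1152 F9186) (tt N1560 (iv F9927)) (tt N1581 F38382) (tt N1151 (iv D2261)) (tt N1807 D3077))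
theorem Q1457 : ∀ i, i < 1457 → P i := stepQ 1456 Q1456 (allL N1456 (tt N1245 F9191) (tt N1806 (iv F12258)) (tt N1794 (iv F12211)) (tt N1165 F9192) (tt N1807 (iv F12271)) (tt N1153 F9193) (tt N1631 F38511) (tt N1499 (iv F9679)) (tt N1152 (iv D2263)))
theorem Q1458 : ∀ i, i < 1458 → P i := stepQ 1457 Q1457 (allL N1457 (tt N1457 F9194) (tt N1154 (iv D2264)) (tt N1258 F9195) (tt N1457 F9196) (tt N1584 (iv F9991)) (tt N1808 D3079) (tt N1396 F9197) (tt N1762 F37845) (tt N1500 (iv F9684)))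
theorem Q1459 : ∀ i, i < 1459 → P i := stepQ 1458 Q1458 (allL N1458 (tt N1156 F9198) (tt N1808 (iv F12277)) (tt N1155 F9199) (tt N1458 F9200) (tt N1809 D3081) (tt N1154 (iv D2265)) (tt N1602 F37998) (tt N1601 F37999) (tt N1501 (iv F9688)))
theorem Q1460 : ∀ i, i < 1460 → P i := stepQ 1459 Q1459 (allL N1459 (tt N1157 F9204) (tt N1261 F9205) (tt N1809 (iv F12285)) (tt N1798 (iv F12225)) (tt N1155 (iv D2267)) (tt N1587 (iv F10004)) (tt N1605 F38166) (tt N1604 F38167) (tt N1503 (iv F9695)))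
theorem Q1461 : ∀ i, i < 1461 → P i := stepQ 1460 Q1460 (allL N1460 (tt N1809 (iv F12284)) (tt N1460 F9218) (tt N1157 F9219) (tt N1810 D3090) (tt N1156 (iv D2271)) (tt N1591 (iv F10023)) (tt N1608 F38129) (tt N1607 F38130) (tt N1507 (iv F9711)))
theorem Q1462 : ∀ i, i < 1462 → P i := stepQ 1461 Q1461 (allL N1461 (tt N1461 F9262) (tt N1158 (iv D2285)) (tt N1272 F9263) (tt N1461 F9264) (tt N1461 F9265) (tt N1811 D3108) (tt N1461 F9266) (tt N1812 D3109) (tt N1461 F9267))
theorem Q1463 : ∀ i, i < 1463 → P i := stepQ 1462 Q1462 (allL N1462 (tt N1161 F9268) (tt N1811 (iv F12373)) (tt N1159 F9269) (tt N1462 F9270) (tt N1614 F38432) (tt N1158 (iv D2286)) (tt N1613 F38433) (tt N1813 D3112) (tt N1462 F9271))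
theorem Q1464 : ∀ i, i < 1464 → P i := stepQ 1463 Q1463 (allL N1463 (tt N1162 F9272) (tt N1812 (iv F12378)) (tt N1160 F9273) (tt N1814 D3113) (tt N1463 F9274) (tt N1813 (iv F12393)) (tt N1463 F9275) (tt N1158 (iv D2287)) (tt N1815 D3114))
theorem Q1465 : ∀ i, i < 1465 → P i := stepQ 1464 Q1464 (allL N1464 (tt N1163 F9286) (tt N1277 F9287) (tt N1813 (iv F12392)) (tt N1799 (iv F12232)) (tt N1619 F38429) (tt N1160 F9288) (tt N1618 F38430) (tt N1159 (iv D2290)) (tt N1816 D3118))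
theorem Q1466 : ∀ i, i < 1466 → P i := stepQ 1465 Q1465 (allL N1465 (tt N1164 F9289) (tt N1278 F9290) (tt N1815 (iv F12398)) (tt N1800 (iv F12236)) (tt N1465 F9291) (tt N1816 (iv F12417)) (tt N1465 F9292) (tt N1465 F9293) (tt N1160 (iv D2291)))
theorem Q1467 : ∀ i, i < 1467 → P i := stepQ 1466 Q1466 (allL N1466 (tt N1813 (iv F12391)) (tt N1466 F9303) (tt N1163 F9304) (tt N1817 D3123) (tt N1622 F38499) (tt N1162 F9305) (tt N1621 F38500) (tt N1161 (iv D2294)) (tt N1818 D3124))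
theorem Q1468 : ∀ i, i < 1468 → P i := stepQ 1467 Q1467 (allL N1467 (tt N1814 (iv F12394)) (tt N1467 F9306) (tt N1803 (iv F12244)) (tt N1162 (iv D2295)) (tt N1819 D3125) (tt N1817 (iv F12437)) (tt N1467 F9307) (tt N1467 F9308) (tt N1820 D3126))
theorem Q1469 : ∀ i, i < 1469 → P i := stepQ 1468 Q1468 (allL N1468 (tt N1815 (iv F12397)) (tt N1468 F9309) (tt N1164 F9310) (tt N1820 (iv F12448)) (tt N1468 F9311) (tt N1818 (iv F12441)) (tt N1468 F9312) (tt N1468 F9313) (tt N1162 (iv D2296)))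
theorem Q1470 : ∀ i, i < 1470 → P i := stepQ 1469 Q1469 (allL N1469 (tt N1816 (iv F12415)) (tt N1165 F9324) (tt N1818 (iv F12440)) (tt N1806 (iv F12259)) (tt N1629 F38501) (tt N1164 F9325) (tt N1628 F38502) (tt N1469 F9326) (tt N1163 (iv D2300)))
theorem Q1471 : ∀ i, i < 1471 → P i := stepQ 1470 Q1470 (allL N1470 (tt N1167 F9565) (tt N1519 (iv F9763)) (tt N1470 F9566) (tt N1821 D3209) (tt N1166 (iv D2358)) (tt N1822 D3210) (tt N1470 F9567) (tt N1171 F9568) (tt N1470 F9569))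
theorem Q1472 : ∀ i, i < 1472 → P i := stepQ 1471 Q1471 (allL N1471 (tt N1821 (iv F12778)) (tt N1168 F9570) (tt N1823 D3211) (tt N1167 (iv D2359)) (tt N1471 F9571) (tt N1824 D3212) (tt N1471 F9572) (tt N1825 D3213) (tt N1471 F9573))
theorem Q1473 : ∀ i, i < 1473 → P i := stepQ 1472 Q1472 (allL N1472 (tt N1822 (iv F12782)) (tt N1169 F9574) (tt N1472 F9575) (tt N1824 (iv F12793)) (tt N1472 F9576) (tt N1167 (iv D2360)) (tt N1826 D3214) (tt N1173 F9577) (tt N1472 F9578))
theorem Q1474 : ∀ i, i < 1474 → P i := stepQ 1473 Q1473 (allL N1473 (tt N1522 (iv F9777)) (tt N1824 (iv F12792)) (tt N1473 F9579) (tt N1169 F9580) (tt N1827 D3215) (tt N1168 (iv D2361)) (tt N1828 D3216) (tt N1829 D3217) (tt N1473 F9581))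
theorem Q1475 : ∀ i, i < 1475 → P i := stepQ 1474 Q1474 (allL N1474 (tt N1523 (iv F9781)) (tt N1825 (iv F12795)) (tt N1474 F9582) (tt N1175 F9583) (tt N1474 F9584) (tt N1829 (iv F12815)) (tt N1474 F9585) (tt N1168 (iv D2362)) (tt N1830 D3218))
theorem Q1476 : ∀ i, i < 1476 → P i := stepQ 1475 Q1475 (allL N1475 (tt N1524 (iv F9786)) (tt N1826 (iv F12799)) (tt N1170 F9586) (tt N1828 (iv F12810)) (tt N1475 F9587) (tt N1475 F9588) (tt N1169 (iv D2363)) (tt N1176 F9589) (tt N1475 F9590))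
theorem Q1477 : ∀ i, i < 1477 → P i := stepQ 1476 Q1476 (allL N1476 (tt N1172 F9591) (tt N1525 (iv F9793)) (tt N1831 D3219) (tt N1171 (iv D2364)) (tt N1212 F9592) (tt N1832 D3220) (tt N1476 F9593) (tt N1833 D3221) (tt N1439 F9594))
theorem Q1478 : ∀ i, i < 1478 → P i := stepQ 1477 Q1477 (allL N1477 (tt N1173 F9595) (tt N1526 (iv F9798)) (tt N1477 F9596) (tt N1832 (iv F12827)) (tt N1477 F9597) (tt N1171 (iv D2365)) (tt N1834 D3222) (tt N1822 (iv F12785)) (tt N1440 F9598))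
theorem Q1479 : ∀ i, i < 1479 → P i := stepQ 1478 Q1478 (allL N1478 (tt N1831 (iv F12821)) (tt N1179 F9599) (tt N1172 (iv D2366)) (tt N1478 F9600) (tt N1214 F9601) (tt N1835 D3223) (tt N1478 F9602) (tt N1836 D3224) (tt N1441 F9603))
theorem Q1480 : ∀ i, i < 1480 → P i := stepQ 1479 Q1479 (allL N1479 (tt N1832 (iv F12826)) (tt N1174 F9604) (tt N1835 (iv F12838)) (tt N1173 F9605) (tt N1837 D3225) (tt N1172 (iv D2367)) (tt N1838 D3226) (tt N1839 D3227) (tt N1442 F9606))
theorem Q1481 : ∀ i, i < 1481 → P i := stepQ 1480 Q1480 (allL N1480 (tt N1833 (iv F12829)) (tt N1175 F9607) (tt N1836 (iv F12842)) (tt N1825 (iv F12796)) (tt N1216 F9608) (tt N1839 (iv F12854)) (tt N1480 F9609) (tt N1172 (iv D2368)) (tt N1840 D3228))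
theorem Q1482 : ∀ i, i < 1482 → P i := stepQ 1481 Q1481 (allL N1481 (tt N1834 (iv F12832)) (tt N1176 F9610) (tt N1481 F9611) (tt N1838 (iv F12850)) (tt N1481 F9612) (tt N1481 F9613) (tt N1173 (iv D2369)) (tt N1826 (iv F12803)) (tt N1293 (iv F38521)))
theorem Q1483 : ∀ i, i < 1483 → P i := stepQ 1482 Q1482 (allL N1482 (tt N1531 (iv F9818)) (tt N1837 (iv F12845)) (tt N1183 F9615) (tt N1482 F9616) (tt N1174 (iv D2370)) (tt N1218 F9617) (tt N1841 D3229) (tt N1842 D3230) (tt N1444 F9618))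
theorem Q1484 : ∀ i, i < 1484 → P i := stepQ 1483 Q1483 (allL N1483 (tt N1532 (iv F9823)) (tt N1838 (iv F12849)) (tt N1184 F9619) (tt N1176 F9620) (tt N1841 (iv F12861)) (tt N1483 F9621) (tt N1174 (iv D2371)) (tt N1843 D3231) (tt N1292 (iv F38408)))
theorem Q1485 : ∀ i, i < 1485 → P i := stepQ 1484 Q1484 (allL N1484 (tt N1533 (iv F9828)) (tt N1839 (iv F12853)) (tt N1185 F9623) (tt N1829 (iv F12814)) (tt N1842 (iv F12864)) (tt N1175 F9624) (tt N1843 (iv F12868)) (tt N1174 (iv D2372)) (tt N1844 D3232))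
theorem Q1486 : ∀ i, i < 1486 → P i := stepQ 1485 Q1485 (allL N1485 (tt N1534 (iv F9831)) (tt N1840 (iv F12855)) (tt N1186 F9625) (tt N1830 (iv F12817)) (tt N1221 F9626) (tt N1844 (iv F12870)) (tt N1485 F9627) (tt N1446 F9628) (tt N1175 (iv D2373)))
theorem Q1487 : ∀ i, i < 1487 → P i := stepQ 1486 Q1486 (allL N1486 (tt N1179 F9629) (tt N1845 D3233) (tt N1177 (iv D2374)) (tt N1486 F9630) (tt N1232 F9631) (tt N1846 D3234) (tt N1486 F9632) (tt N1847 D3235) (tt N1447 F9633))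
theorem Q1488 : ∀ i, i < 1488 → P i := stepQ 1487 Q1487 (allL N1487 (tt N1180 F9634) (tt N1550 (iv F9884)) (tt N1846 (iv F12877)) (tt N1178 F9635) (tt N1848 D3236) (tt N1177 (iv D2375)) (tt N1849 D3237) (tt N1850 D3238) (tt N1448 F9636))
theorem Q1489 : ∀ i, i < 1489 → P i := stepQ 1488 Q1488 (allL N1488 (tt N1181 F9637) (tt N1551 (iv F9888)) (tt N1847 (iv F12881)) (tt N1488 F9638) (tt N1234 F9639) (tt N1850 (iv F12894)) (tt N1488 F9640) (tt N1177 (iv D2376)) (tt N1851 D3239))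
theorem Q1490 : ∀ i, i < 1490 → P i := stepQ 1489 Q1489 (allL N1489 (tt N1182 F9641) (tt N1552 (iv F9893)) (tt N1489 F9642) (tt N1849 (iv F12889)) (tt N1190 F9643) (tt N1489 F9644) (tt N1178 (iv D2377)) (tt N1489 F9645) (tt N1290 (iv F38178)))
theorem Q1491 : ∀ i, i < 1491 → P i := stepQ 1490 Q1490 (allL N1490 (tt N1846 (iv F12876)) (tt N1835 (iv F12837)) (tt N1180 F9647) (tt N1490 F9648) (tt N1852 D3240) (tt N1179 (iv D2378)) (tt N1853 D3241) (tt N1854 D3242) (tt N1450 F9649))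
theorem Q1492 : ∀ i, i < 1492 → P i := stepQ 1491 Q1491 (allL N1491 (tt N1847 (iv F12880)) (tt N1836 (iv F12841)) (tt N1181 F9650) (tt N1855 D3243) (tt N1237 F9651) (tt N1854 (iv F12908)) (tt N1491 F9652) (tt N1179 (iv D2379)) (tt N1856 D3244))
theorem Q1493 : ∀ i, i < 1493 → P i := stepQ 1492 Q1492 (allL N1492 (tt N1848 (iv F12884)) (tt N1183 F9653) (tt N1852 (iv F12900)) (tt N1193 F9654) (tt N1180 (iv D2380)) (tt N1238 F9655) (tt N1857 D3245) (tt N1858 D3246) (tt N1452 F9656))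
theorem Q1494 : ∀ i, i < 1494 → P i := stepQ 1493 Q1493 (allL N1493 (tt N1849 (iv F12888)) (tt N1184 F9657) (tt N1853 (iv F12903)) (tt N1182 F9658) (tt N1857 (iv F12918)) (tt N1493 F9659) (tt N1180 (iv D2381)) (tt N1859 D3247) (tt N1291 (iv F38278)))
theorem Q1495 : ∀ i, i < 1495 → P i := stepQ 1494 Q1494 (allL N1494 (tt N1850 (iv F12892)) (tt N1185 F9661) (tt N1854 (iv F12907)) (tt N1494 F9662) (tt N1858 (iv F12921)) (tt N1181 F9663) (tt N1859 (iv F12926)) (tt N1180 (iv D2382)) (tt N1860 D3248))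
theorem Q1496 : ∀ i, i < 1496 → P i := stepQ 1495 Q1495 (allL N1495 (tt N1851 (iv F12895)) (tt N1186 F9664) (tt N1856 (iv F12912)) (tt N1495 F9665) (tt N1241 F9666) (tt N1860 (iv F12929)) (tt N1495 F9667) (tt N1454 F9668) (tt N1181 (iv D2383)))
theorem Q1497 : ∀ i, i < 1497 → P i := stepQ 1496 Q1496 (allL N1496 (tt N1559 (iv F9921)) (tt N1857 (iv F12916)) (tt N1841 (iv F12859)) (tt N1197 F9669) (tt N1184 F9670) (tt N1861 D3249) (tt N1183 (iv D2384)) (tt N1862 D3250) (tt N1271 (iv F38275)))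
theorem Q1498 : ∀ i, i < 1498 → P i := stepQ 1497 Q1497 (allL N1497 (tt N1560 (iv F9925)) (tt N1858 (iv F12920)) (tt N1842 (iv F12863)) (tt N1863 D3251) (tt N1185 F9672) (tt N1243 F9673) (tt N1862 (iv F12936)) (tt N1183 (iv D2385)) (tt N1864 D3252))
theorem Q1499 : ∀ i, i < 1499 → P i := stepQ 1498 Q1498 (allL N1498 (tt N1561 (iv F9928)) (tt N1859 (iv F12923)) (tt N1843 (iv F12866)) (tt N1498 F9674) (tt N1862 (iv F12935)) (tt N1498 F9675) (tt N1185 F9676) (tt N1184 (iv D2386)) (tt N1865 D3253))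
theorem Q1500 : ∀ i, i < 1500 → P i := stepQ 1499 Q1499 (allL N1499 (tt N1562 (iv F9932)) (tt N1860 (iv F12927)) (tt N1844 (iv F12869)) (tt N1499 F9677) (tt N1864 (iv F12940)) (tt N1186 F9678) (tt N1865 (iv F12945)) (tt N1456 F9679) (tt N1185 (iv D2387)))
theorem Q1501 : ∀ i, i < 1501 → P i := stepQ 1500 Q1500 (allL N1500 (tt N1500 F9680) (tt N1187 (iv D2388)) (tt N1584 (iv F9989)) (tt N1500 F9681) (tt N1258 F9682) (tt N1866 D3254) (tt N1397 F9683) (tt N1867 D3255) (tt N1457 F9684))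
theorem Q1502 : ∀ i, i < 1502 → P i := stepQ 1501 Q1501 (allL N1501 (tt N1191 F9685) (tt N1866 (iv F12948)) (tt N1188 F9686) (tt N1501 F9687) (tt N1868 D3256) (tt N1187 (iv D2389)) (tt N1869 D3257) (tt N1870 D3258) (tt N1458 F9688))
theorem Q1503 : ∀ i, i < 1503 → P i := stepQ 1502 Q1502 (allL N1502 (tt N1192 F9689) (tt N1867 (iv F12952)) (tt N1189 F9690) (tt N1871 D3259) (tt N1260 F9691) (tt N1870 (iv F12966)) (tt N1399 F9692) (tt N1187 (iv D2390)) (tt N1872 D3260))
theorem Q1504 : ∀ i, i < 1504 → P i := stepQ 1503 Q1503 (allL N1503 (tt N1193 F9693) (tt N1587 (iv F10003)) (tt N1868 (iv F12956)) (tt N1848 (iv F12885)) (tt N1188 (iv D2391)) (tt N1261 F9694) (tt N1873 D3261) (tt N1874 D3262) (tt N1459 F9695))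
theorem Q1505 : ∀ i, i < 1505 → P i := stepQ 1504 Q1504 (allL N1504 (tt N1194 F9696) (tt N1588 (iv F10007)) (tt N1869 (iv F12960)) (tt N1190 F9697) (tt N1873 (iv F12978)) (tt N1264 F37936) (tt N1188 (iv D2392)) (tt N1875 D3263) (tt N1263 (iv F38016)))
theorem Q1506 : ∀ i, i < 1506 → P i := stepQ 1505 Q1505 (allL N1505 (tt N1195 F9700) (tt N1589 (iv F10012)) (tt N1870 (iv F12965)) (tt N1505 F9701) (tt N1874 (iv F12981)) (tt N1189 F9702) (tt N1875 (iv F12986)) (tt N1188 (iv D2393)) (tt N1876 D3264))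
theorem Q1507 : ∀ i, i < 1507 → P i := stepQ 1506 Q1506 (allL N1506 (tt N1196 F9703) (tt N1590 (iv F10016)) (tt N1872 (iv F12973)) (tt N1506 F9704) (tt N1264 F9705) (tt N1876 (iv F12989)) (tt N1400 F37926) (tt N1408 (iv F37929)) (tt N1189 (iv D2394)))
theorem Q1508 : ∀ i, i < 1508 → P i := stepQ 1507 Q1507 (allL N1507 (tt N1868 (iv F12955)) (tt N1507 F9708) (tt N1193 F9709) (tt N1877 D3265) (tt N1191 (iv D2395)) (tt N1265 F9710) (tt N1878 D3266) (tt N1879 D3267) (tt N1460 F9711))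
theorem Q1509 : ∀ i, i < 1509 → P i := stepQ 1508 Q1508 (allL N1508 (tt N1869 (iv F12959)) (tt N1508 F9712) (tt N1194 F9713) (tt N1508 F9714) (tt N1878 (iv F12997)) (tt N1268 F37935) (tt N1191 (iv D2396)) (tt N1880 D3268) (tt N1267 (iv F37993)))
theorem Q1510 : ∀ i, i < 1510 → P i := stepQ 1509 Q1509 (allL N1509 (tt N1870 (iv F12964)) (tt N1509 F9717) (tt N1195 F9718) (tt N1881 D3269) (tt N1879 (iv F13001)) (tt N1192 F9719) (tt N1880 (iv F13006)) (tt N1191 (iv D2397)) (tt N1882 D3270))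
theorem Q1511 : ∀ i, i < 1511 → P i := stepQ 1510 Q1510 (allL N1510 (tt N1871 (iv F12967)) (tt N1510 F9720) (tt N1510 F9721) (tt N1192 (iv D2398)) (tt N1510 F9722) (tt N1881 (iv F13009)) (tt N1404 F9723) (tt N1510 F9724) (tt N1883 D3271))
theorem Q1512 : ∀ i, i < 1512 → P i := stepQ 1511 Q1511 (allL N1511 (tt N1872 (iv F12972)) (tt N1511 F9725) (tt N1196 F9726) (tt N1883 (iv F13017)) (tt N1268 F9727) (tt N1882 (iv F13013)) (tt N1402 F37914) (tt N1409 (iv F37948)) (tt N1192 (iv D2399)))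
theorem Q1513 : ∀ i, i < 1513 → P i := stepQ 1512 Q1512 (allL N1512 (tt N1873 (iv F12977)) (tt N1197 F9730) (tt N1878 (iv F12996)) (tt N1857 (iv F12917)) (tt N1194 F9731) (tt N1884 D3272) (tt N1193 (iv D2400)) (tt N1885 D3273) (tt N1270 (iv F38151)))
theorem Q1514 : ∀ i, i < 1514 → P i := stepQ 1513 Q1513 (allL N1513 (tt N1874 (iv F12980)) (tt N1198 F9733) (tt N1879 (iv F13000)) (tt N1886 D3274) (tt N1195 F9734) (tt N1270 F9735) (tt N1885 (iv F13026)) (tt N1193 (iv D2401)) (tt N1884 F38079))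
theorem Q1515 : ∀ i, i < 1515 → P i := stepQ 1514 Q1514 (allL N1514 (tt N1875 (iv F12983)) (tt N1199 F9736) (tt N1880 (iv F13004)) (tt N1514 F9737) (tt N1885 (iv F13025)) (tt N1255 F38011) (tt N1195 F9739) (tt N1194 (iv D2402)) (tt N1254 (iv F38019)))
theorem Q1516 : ∀ i, i < 1516 → P i := stepQ 1515 Q1515 (allL N1515 (tt N1876 (iv F12987)) (tt N1200 F9740) (tt N1882 (iv F13012)) (tt N1515 F9741) (tt N1884 (iv F38078)) (tt N1196 F9742) (tt N1254 (iv F38018)) (tt N1253 (iv F38021)) (tt N1195 (iv D2403)))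
theorem Q1517 : ∀ i, i < 1517 → P i := stepQ 1516 Q1516 (allL N1516 (tt N1517 (iv F38146)) (tt N1884 (iv F13020)) (tt N1516 F9744) (tt N1861 (iv F12931)) (tt N1200 F38148) (tt N1197 (iv D2404)) (tt N1257 (iv F38141)) (tt N1256 (iv F38137)) (tt N1198 (iv F38149)))
theorem Q1518 : ∀ i, i < 1518 → P i := stepQ 1517 Q1517 (allL N1517 (tt N1516 F38146) (tt N1885 (iv F13024)) (tt N1517 F9748) (tt N1887 D3278) (tt N1199 F9749) (tt N1256 F38147) (tt N1198 F9750) (tt N1197 (iv D2405)) (tt N1257 (iv F38183)))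
theorem Q1519 : ∀ i, i < 1519 → P i := stepQ 1518 Q1518 (allL N1518 (tt N1579 F38213) (tt N1886 (iv F13027)) (tt N1888 D3280) (tt N1198 (iv D2406)) (tt N1518 F9751) (tt N1271 F9752) (tt N1887 (iv F13044)) (tt N1863 (iv F12939)) (tt N1861 F38214))
theorem Q1520 : ∀ i, i < 1520 → P i := stepQ 1519 Q1519 (allL N1519 (tt N1202 F9762) (tt N1470 F9763) (tt N1299 F9764) (tt N1889 D3282) (tt N1201 (iv D2409)) (tt N1890 D3283) (tt N1519 F9765) (tt N1206 F9766) (tt N1519 F9767))
theorem Q1521 : ∀ i, i < 1521 → P i := stepQ 1520 Q1520 (allL N1520 (tt N1889 (iv F13055)) (tt N1203 F9768) (tt N1891 D3284) (tt N1202 (iv D2410)) (tt N1520 F9769) (tt N1892 D3285) (tt N1520 F9770) (tt N1893 D3286) (tt N1520 F9771))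
theorem Q1522 : ∀ i, i < 1522 → P i := stepQ 1521 Q1521 (allL N1521 (tt N1890 (iv F13060)) (tt N1204 F9772) (tt N1301 F9773) (tt N1892 (iv F13072)) (tt N1521 F9774) (tt N1202 (iv D2411)) (tt N1894 D3287) (tt N1208 F9775) (tt N1521 F9776))
theorem Q1523 : ∀ i, i < 1523 → P i := stepQ 1522 Q1522 (allL N1522 (tt N1473 F9777) (tt N1892 (iv F13071)) (tt N1522 F9778) (tt N1204 F9779) (tt N1895 D3288) (tt N1203 (iv D2412)) (tt N1896 D3289) (tt N1897 D3290) (tt N1522 F9780))
theorem Q1524 : ∀ i, i < 1524 → P i := stepQ 1523 Q1523 (allL N1523 (tt N1474 F9781) (tt N1893 (iv F13074)) (tt N1523 F9782) (tt N1210 F9783) (tt N1523 F9784) (tt N1897 (iv F13097)) (tt N1523 F9785) (tt N1203 (iv D2413)) (tt N1898 D3291))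
theorem Q1525 : ∀ i, i < 1525 → P i := stepQ 1524 Q1524 (allL N1524 (tt N1475 F9786) (tt N1894 (iv F13078)) (tt N1205 F9787) (tt N1896 (iv F13091)) (tt N1524 F9788) (tt N1524 F9789) (tt N1204 (iv D2414)) (tt N1211 F9790) (tt N1524 F9791))
theorem Q1526 : ∀ i, i < 1526 → P i := stepQ 1525 Q1525 (allL N1525 (tt N1207 F9792) (tt N1476 F9793) (tt N1899 D3292) (tt N1206 (iv D2415)) (tt N1439 F9794) (tt N1900 D3293) (tt N1525 F9795) (tt N1901 D3294) (tt N1212 F9796))
theorem Q1527 : ∀ i, i < 1527 → P i := stepQ 1526 Q1526 (allL N1526 (tt N1208 F9797) (tt N1477 F9798) (tt N1306 F9799) (tt N1900 (iv F13111)) (tt N1526 F9800) (tt N1206 (iv D2416)) (tt N1902 D3295) (tt N1890 (iv F13064)) (tt N1213 F9801))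
theorem Q1528 : ∀ i, i < 1528 → P i := stepQ 1527 Q1527 (allL N1527 (tt N1899 (iv F13104)) (tt N1224 F9802) (tt N1207 (iv D2417)) (tt N1307 F9803) (tt N1441 F9804) (tt N1903 D3296) (tt N1527 F9805) (tt N1904 D3297) (tt N1214 F9806))
theorem Q1529 : ∀ i, i < 1529 → P i := stepQ 1528 Q1528 (allL N1528 (tt N1900 (iv F13109)) (tt N1209 F9807) (tt N1903 (iv F13124)) (tt N1208 F9808) (tt N1905 D3298) (tt N1207 (iv D2418)) (tt N1906 D3299) (tt N1907 D3300) (tt N1215 F9809))
theorem Q1530 : ∀ i, i < 1530 → P i := stepQ 1529 Q1529 (allL N1529 (tt N1901 (iv F13113)) (tt N1210 F9810) (tt N1904 (iv F13128)) (tt N1893 (iv F13075)) (tt N1443 F9811) (tt N1907 (iv F13140)) (tt N1529 F9812) (tt N1207 (iv D2419)) (tt N1908 D3301))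
theorem Q1531 : ∀ i, i < 1531 → P i := stepQ 1530 Q1530 (allL N1530 (tt N1902 (iv F13117)) (tt N1211 F9813) (tt N1310 F9814) (tt N1906 (iv F13136)) (tt N1530 F9815) (tt N1530 F9816) (tt N1208 (iv D2420)) (tt N1894 (iv F13082)) (tt N1217 F9817))
theorem Q1532 : ∀ i, i < 1532 → P i := stepQ 1531 Q1531 (allL N1531 (tt N1482 F9818) (tt N1905 (iv F13131)) (tt N1228 F9819) (tt N1531 F9820) (tt N1209 (iv D2421)) (tt N1444 F9821) (tt N1909 D3302) (tt N1910 D3303) (tt N1218 F9822))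
theorem Q1533 : ∀ i, i < 1533 → P i := stepQ 1532 Q1532 (allL N1532 (tt N1483 F9823) (tt N1906 (iv F13135)) (tt N1229 F9824) (tt N1211 F9825) (tt N1909 (iv F13148)) (tt N1532 F9826) (tt N1209 (iv D2422)) (tt N1911 D3304) (tt N1219 F9827))
theorem Q1534 : ∀ i, i < 1534 → P i := stepQ 1533 Q1533 (allL N1533 (tt N1484 F9828) (tt N1907 (iv F13139)) (tt N1230 F9829) (tt N1897 (iv F13096)) (tt N1910 (iv F13152)) (tt N1210 F9830) (tt N1911 (iv F13157)) (tt N1209 (iv D2423)) (tt N1912 D3305))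
theorem Q1535 : ∀ i, i < 1535 → P i := stepQ 1534 Q1534 (allL N1534 (tt N1485 F9831) (tt N1908 (iv F13141)) (tt N1231 F9832) (tt N1898 (iv F13100)) (tt N1446 F9833) (tt N1912 (iv F13160)) (tt N1534 F9834) (tt N1221 F9835) (tt N1210 (iv D2424)))
theorem Q1536 : ∀ i, i < 1536 → P i := stepQ 1535 Q1535 (allL N1535 (tt N1214 F9836) (tt N1913 D3306) (tt N1212 (iv D2425)) (tt N1315 F9837) (tt N1831 (iv F12823)) (tt N1914 D3307) (tt N1535 F9838) (tt N1915 D3308) (tt N1899 (iv F13108)))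
theorem Q1537 : ∀ i, i < 1537 → P i := stepQ 1536 Q1536 (allL N1536 (tt N1215 F9839) (tt N1786 (iv F12169)) (tt N1914 (iv F13166)) (tt N1213 F9840) (tt N1916 D3309) (tt N1212 (iv D2426)) (tt N1917 D3310) (tt N1918 D3311) (tt N1900 (iv F13112)))
theorem Q1538 : ∀ i, i < 1538 → P i := stepQ 1537 Q1537 (allL N1537 (tt N1216 F9841) (tt N1787 (iv F12172)) (tt N1915 (iv F13169)) (tt N1537 F9842) (tt N1833 (iv F12830)) (tt N1918 (iv F13178)) (tt N1537 F9843) (tt N1212 (iv D2427)) (tt N1919 D3312))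
theorem Q1539 : ∀ i, i < 1539 → P i := stepQ 1538 Q1538 (allL N1538 (tt N1217 F9844) (tt N1635 (iv F38553)) (tt N1318 F9845) (tt N1917 (iv F13174)) (tt N1538 F9846) (tt N1538 F9847) (tt N1213 (iv D2428)) (tt N1538 F9848) (tt N1902 (iv F13122)))
theorem Q1540 : ∀ i, i < 1540 → P i := stepQ 1539 Q1539 (allL N1539 (tt N1914 (iv F13165)) (tt N1236 F9849) (tt N1215 F9850) (tt N1319 F9851) (tt N1920 D3313) (tt N1214 (iv D2429)) (tt N1921 D3314) (tt N1922 D3315) (tt N1903 (iv F13126)))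
theorem Q1541 : ∀ i, i < 1541 → P i := stepQ 1540 Q1540 (allL N1540 (tt N1915 (iv F13168)) (tt N1237 F9852) (tt N1216 F9853) (tt N1923 D3316) (tt N1836 (iv F12843)) (tt N1922 (iv F13190)) (tt N1540 F9854) (tt N1214 (iv D2430)) (tt N1924 D3317))
theorem Q1542 : ∀ i, i < 1542 → P i := stepQ 1541 Q1541 (allL N1541 (tt N1916 (iv F13171)) (tt N1218 F9855) (tt N1920 (iv F13183)) (tt N1541 F9856) (tt N1215 (iv D2431)) (tt N1837 (iv F12847)) (tt N1925 D3318) (tt N1926 D3319) (tt N1905 (iv F13134)))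
theorem Q1543 : ∀ i, i < 1543 → P i := stepQ 1542 Q1542 (allL N1542 (tt N1917 (iv F13173)) (tt N1219 F9857) (tt N1921 (iv F13185)) (tt N1217 F9858) (tt N1925 (iv F13200)) (tt N1542 F9859) (tt N1215 (iv D2432)) (tt N1927 D3320) (tt N1906 (iv F13138)))
theorem Q1544 : ∀ i, i < 1544 → P i := stepQ 1543 Q1543 (allL N1543 (tt N1918 (iv F13176)) (tt N1220 F9860) (tt N1922 (iv F13189)) (tt N1543 F9861) (tt N1926 (iv F13202)) (tt N1216 F9862) (tt N1927 (iv F13206)) (tt N1215 (iv D2433)) (tt N1928 D3321))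
theorem Q1545 : ∀ i, i < 1545 → P i := stepQ 1544 Q1544 (allL N1544 (tt N1919 (iv F13179)) (tt N1221 F9863) (tt N1924 (iv F13196)) (tt N1544 F9864) (tt N1840 (iv F12856)) (tt N1928 (iv F13209)) (tt N1544 F9865) (tt N1908 (iv F13144)) (tt N1216 (iv D2434)))
theorem Q1546 : ∀ i, i < 1546 → P i := stepQ 1545 Q1545 (allL N1545 (tt N1610 (iv F38340)) (tt N1925 (iv F13198)) (tt N1242 F9866) (tt N1545 F9867) (tt N1219 F9868) (tt N1929 D3322) (tt N1218 (iv D2435)) (tt N1930 D3323) (tt N1909 (iv F13149)))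
theorem Q1547 : ∀ i, i < 1547 → P i := stepQ 1546 Q1546 (allL N1546 (tt N1793 (iv F12202)) (tt N1926 (iv F13201)) (tt N1243 F9869) (tt N1931 D3324) (tt N1220 F9870) (tt N1842 (iv F12865)) (tt N1930 (iv F13215)) (tt N1218 (iv D2436)) (tt N1932 D3325))
theorem Q1548 : ∀ i, i < 1548 → P i := stepQ 1547 Q1547 (allL N1547 (tt N1630 (iv F38477)) (tt N1927 (iv F13203)) (tt N1244 F9871) (tt N1547 F9872) (tt N1930 (iv F13214)) (tt N1547 F9873) (tt N1220 F9874) (tt N1219 (iv D2437)) (tt N1933 D3326))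
theorem Q1549 : ∀ i, i < 1549 → P i := stepQ 1548 Q1548 (allL N1548 (tt N1794 (iv F12210)) (tt N1928 (iv F13207)) (tt N1245 F9875) (tt N1548 F9876) (tt N1932 (iv F13219)) (tt N1221 F9877) (tt N1933 (iv F13223)) (tt N1912 (iv F13161)) (tt N1220 (iv D2438)))
theorem Q1550 : ∀ i, i < 1550 → P i := stepQ 1549 Q1549 (allL N1549 (tt N1224 F9878) (tt N1934 D3327) (tt N1222 (iv D2439)) (tt N1329 F9879) (tt N1447 F9880) (tt N1935 D3328) (tt N1549 F9881) (tt N1936 D3329) (tt N1232 F9882))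
theorem Q1551 : ∀ i, i < 1551 → P i := stepQ 1550 Q1550 (allL N1550 (tt N1225 F9883) (tt N1487 F9884) (tt N1935 (iv F13230)) (tt N1223 F9885) (tt N1937 D3330) (tt N1222 (iv D2440)) (tt N1938 D3331) (tt N1939 D3332) (tt N1233 F9886))
theorem Q1552 : ∀ i, i < 1552 → P i := stepQ 1551 Q1551 (allL N1551 (tt N1226 F9887) (tt N1488 F9888) (tt N1936 (iv F13234)) (tt N1551 F9889) (tt N1449 F9890) (tt N1939 (iv F13250)) (tt N1551 F9891) (tt N1222 (iv D2441)) (tt N1940 D3333))
theorem Q1553 : ∀ i, i < 1553 → P i := stepQ 1552 Q1552 (allL N1552 (tt N1227 F9892) (tt N1489 F9893) (tt N1332 F9894) (tt N1938 (iv F13244)) (tt N1249 F9895) (tt N1552 F9896) (tt N1223 (iv D2442)) (tt N1552 F9897) (tt N1235 F9898))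
theorem Q1554 : ∀ i, i < 1554 → P i := stepQ 1553 Q1553 (allL N1553 (tt N1935 (iv F13229)) (tt N1903 (iv F13123)) (tt N1225 F9899) (tt N1333 F9900) (tt N1941 D3334) (tt N1224 (iv D2443)) (tt N1942 D3335) (tt N1943 D3336) (tt N1236 F9901))
theorem Q1555 : ∀ i, i < 1555 → P i := stepQ 1554 Q1554 (allL N1554 (tt N1936 (iv F13233)) (tt N1904 (iv F13127)) (tt N1226 F9902) (tt N1944 D3337) (tt N1451 F9903) (tt N1943 (iv F13265)) (tt N1554 F9904) (tt N1224 (iv D2444)) (tt N1945 D3338))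
theorem Q1556 : ∀ i, i < 1556 → P i := stepQ 1555 Q1555 (allL N1555 (tt N1937 (iv F13237)) (tt N1228 F9905) (tt N1941 (iv F13257)) (tt N1252 F9906) (tt N1225 (iv D2445)) (tt N1452 F9907) (tt N1946 D3339) (tt N1947 D3340) (tt N1238 F9908))
theorem Q1557 : ∀ i, i < 1557 → P i := stepQ 1556 Q1556 (allL N1556 (tt N1938 (iv F13242)) (tt N1229 F9909) (tt N1942 (iv F13260)) (tt N1227 F9910) (tt N1946 (iv F13275)) (tt N1556 F9911) (tt N1225 (iv D2446)) (tt N1948 D3341) (tt N1239 F9912))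
theorem Q1558 : ∀ i, i < 1558 → P i := stepQ 1557 Q1557 (allL N1557 (tt N1939 (iv F13247)) (tt N1230 F9913) (tt N1943 (iv F13264)) (tt N1557 F9914) (tt N1947 (iv F13278)) (tt N1226 F9915) (tt N1948 (iv F13283)) (tt N1225 (iv D2447)) (tt N1949 D3342))
theorem Q1559 : ∀ i, i < 1559 → P i := stepQ 1558 Q1558 (allL N1558 (tt N1940 (iv F13251)) (tt N1231 F9916) (tt N1945 (iv F13269)) (tt N1558 F9917) (tt N1454 F9918) (tt N1949 (iv F13286)) (tt N1558 F9919) (tt N1241 F9920) (tt N1226 (iv D2448)))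
theorem Q1560 : ∀ i, i < 1560 → P i := stepQ 1559 Q1559 (allL N1559 (tt N1496 F9921) (tt N1946 (iv F13273)) (tt N1909 (iv F13146)) (tt N1256 F9922) (tt N1229 F9923) (tt N1887 (iv F38212)) (tt N1228 (iv D2449)) (tt N1950 D3344) (tt N1242 F9924))
theorem Q1561 : ∀ i, i < 1561 → P i := stepQ 1560 Q1560 (allL N1560 (tt N1497 F9925) (tt N1947 (iv F13277)) (tt N1910 (iv F13151)) (tt N1951 D3345) (tt N1230 F9926) (tt N1455 F9927) (tt N1950 (iv F13295)) (tt N1228 (iv D2450)) (tt N1952 D3346))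
theorem Q1562 : ∀ i, i < 1562 → P i := stepQ 1561 Q1561 (allL N1561 (tt N1498 F9928) (tt N1948 (iv F13280)) (tt N1911 (iv F13155)) (tt N1561 F9929) (tt N1950 (iv F13294)) (tt N1561 F9930) (tt N1230 F9931) (tt N1229 (iv D2451)) (tt N1953 D3347))
theorem Q1563 : ∀ i, i < 1563 → P i := stepQ 1562 Q1562 (allL N1562 (tt N1499 F9932) (tt N1949 (iv F13284)) (tt N1912 (iv F13159)) (tt N1562 F9933) (tt N1952 (iv F13301)) (tt N1231 F9934) (tt N1953 (iv F13307)) (tt N1245 F9935) (tt N1230 (iv D2452)))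
theorem Q1564 : ∀ i, i < 1564 → P i := stepQ 1563 Q1563 (allL N1563 (tt N1913 (iv F13162)) (tt N1232 (iv D2453)) (tt N1795 (iv F12214)) (tt N1339 F9936) (tt N1845 (iv F12873)) (tt N1954 D3348) (tt N1563 F9937) (tt N1955 D3349) (tt N1934 (iv F13228)))
theorem Q1565 : ∀ i, i < 1565 → P i := stepQ 1564 Q1564 (allL N1564 (tt N1236 F9938) (tt N1954 (iv F13309)) (tt N1233 F9939) (tt N1340 F9940) (tt N1956 D3350) (tt N1232 (iv D2454)) (tt N1957 D3351) (tt N1958 D3352) (tt N1935 (iv F13232)))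
theorem Q1566 : ∀ i, i < 1566 → P i := stepQ 1565 Q1565 (allL N1565 (tt N1237 F9941) (tt N1955 (iv F13311)) (tt N1234 F9942) (tt N1959 D3353) (tt N1847 (iv F12882)) (tt N1958 (iv F13321)) (tt N1565 F9943) (tt N1232 (iv D2455)) (tt N1960 D3354))
theorem Q1567 : ∀ i, i < 1567 → P i := stepQ 1566 Q1566 (allL N1566 (tt N1238 F9944) (tt N1798 (iv F12224)) (tt N1956 (iv F13314)) (tt N1261 F9945) (tt N1233 (iv D2456)) (tt N1848 (iv F12886)) (tt N1961 D3355) (tt N1962 D3356) (tt N1937 (iv F13241)))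
theorem Q1568 : ∀ i, i < 1568 → P i := stepQ 1567 Q1567 (allL N1567 (tt N1239 F9946) (tt N1632 (iv F38241)) (tt N1957 (iv F13316)) (tt N1235 F9947) (tt N1961 (iv F13331)) (tt N1567 F9948) (tt N1233 (iv D2457)) (tt N1963 D3357) (tt N1938 (iv F13246)))
theorem Q1569 : ∀ i, i < 1569 → P i := stepQ 1568 Q1568 (allL N1568 (tt N1240 F9949) (tt N1799 (iv F12231)) (tt N1958 (iv F13320)) (tt N1277 F9950) (tt N1962 (iv F13333)) (tt N1234 F9951) (tt N1963 (iv F13337)) (tt N1233 (iv D2458)) (tt N1964 D3358))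
theorem Q1570 : ∀ i, i < 1570 → P i := stepQ 1569 Q1569 (allL N1569 (tt N1241 F9952) (tt N1800 (iv F12235)) (tt N1960 (iv F13327)) (tt N1278 F9953) (tt N1851 (iv F12897)) (tt N1964 (iv F13340)) (tt N1569 F9954) (tt N1940 (iv F13256)) (tt N1234 (iv D2459)))
theorem Q1571 : ∀ i, i < 1571 → P i := stepQ 1570 Q1570 (allL N1570 (tt N1956 (iv F13313)) (tt N1920 (iv F13182)) (tt N1238 F9955) (tt N1965 D3359) (tt N1236 (iv D2460)) (tt N1852 (iv F12901)) (tt N1966 D3360) (tt N1967 D3361) (tt N1941 (iv F13259)))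
theorem Q1572 : ∀ i, i < 1572 → P i := stepQ 1571 Q1571 (allL N1571 (tt N1957 (iv F13315)) (tt N1921 (iv F13184)) (tt N1239 F9956) (tt N1347 F9957) (tt N1966 (iv F13344)) (tt N1571 F9958) (tt N1236 (iv D2461)) (tt N1968 D3362) (tt N1942 (iv F13263)))
theorem Q1573 : ∀ i, i < 1573 → P i := stepQ 1572 Q1572 (allL N1572 (tt N1958 (iv F13319)) (tt N1922 (iv F13188)) (tt N1240 F9959) (tt N1969 D3363) (tt N1967 (iv F13346)) (tt N1237 F9960) (tt N1968 (iv F13349)) (tt N1236 (iv D2462)) (tt N1970 D3364))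
theorem Q1574 : ∀ i, i < 1574 → P i := stepQ 1573 Q1573 (allL N1573 (tt N1959 (iv F13322)) (tt N1923 (iv F13191)) (tt N1282 F9961) (tt N1237 (iv D2463)) (tt N1971 D3365) (tt N1969 (iv F13351)) (tt N1573 F9962) (tt N1349 F9963) (tt N1972 D3366))
theorem Q1575 : ∀ i, i < 1575 → P i := stepQ 1574 Q1574 (allL N1574 (tt N1960 (iv F13326)) (tt N1924 (iv F13195)) (tt N1241 F9964) (tt N1972 (iv F13359)) (tt N1856 (iv F12913)) (tt N1970 (iv F13354)) (tt N1574 F9965) (tt N1945 (iv F13272)) (tt N1237 (iv D2464)))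
theorem Q1576 : ∀ i, i < 1576 → P i := stepQ 1575 Q1575 (allL N1575 (tt N1961 (iv F13329)) (tt N1242 F9966) (tt N1966 (iv F13343)) (tt N1269 F9967) (tt N1239 F9968) (tt N1973 D3367) (tt N1238 (iv D2465)) (tt N1974 D3368) (tt N1946 (iv F13276)))
theorem Q1577 : ∀ i, i < 1577 → P i := stepQ 1576 Q1576 (allL N1576 (tt N1962 (iv F13332)) (tt N1243 F9969) (tt N1967 (iv F13345)) (tt N1975 D3369) (tt N1240 F9970) (tt N1858 (iv F12922)) (tt N1974 (iv F13366)) (tt N1238 (iv D2466)) (tt N1976 D3370))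
theorem Q1578 : ∀ i, i < 1578 → P i := stepQ 1577 Q1577 (allL N1577 (tt N1963 (iv F13334)) (tt N1244 F9971) (tt N1968 (iv F13347)) (tt N1285 F9972) (tt N1974 (iv F13365)) (tt N1577 F9973) (tt N1240 F9974) (tt N1239 (iv D2467)) (tt N1977 D3371))
theorem Q1579 : ∀ i, i < 1579 → P i := stepQ 1578 Q1578 (allL N1578 (tt N1964 (iv F13338)) (tt N1245 F9975) (tt N1970 (iv F13353)) (tt N1286 F9976) (tt N1976 (iv F13371)) (tt N1241 F9977) (tt N1977 (iv F13375)) (tt N1949 (iv F13287)) (tt N1240 (iv D2468)))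
theorem Q1580 : ∀ i, i < 1580 → P i := stepQ 1579 Q1579 (allL N1579 (tt N1518 (iv F38213)) (tt N1973 (iv F13361)) (tt N1929 (iv F13210)) (tt N1257 F38205) (tt N1579 F9979) (tt N1242 (iv D2469)) (tt N1861 (iv F12933)) (tt N1951 (iv F38266)) (tt N1887 F38246))
theorem Q1581 : ∀ i, i < 1581 → P i := stepQ 1580 Q1580 (allL N1580 (tt N1581 (iv F38345)) (tt N1974 (iv F13364)) (tt N1930 (iv F13213)) (tt N1455 (iv F38381)) (tt N1244 F9980) (tt N1951 F38331) (tt N1243 F9981) (tt N1242 (iv D2470)) (tt N1978 D3374))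
theorem Q1582 : ∀ i, i < 1582 → P i := stepQ 1581 Q1581 (allL N1581 (tt N1580 F38345) (tt N1975 (iv F13367)) (tt N1979 D3375) (tt N1243 (iv D2471)) (tt N1287 F9982) (tt N1863 (iv F12938)) (tt N1455 (iv F38382)) (tt N1271 F9983) (tt N1980 D3376))
theorem Q1583 : ∀ i, i < 1583 → P i := stepQ 1582 Q1582 (allL N1582 (tt N1807 (iv F12270)) (tt N1976 (iv F13370)) (tt N1932 (iv F13218)) (tt N1980 (iv F13385)) (tt N1245 F9984) (tt N1864 (iv F12941)) (tt N1978 (iv F13382)) (tt N1952 (iv F13303)) (tt N1243 (iv D2472)))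
theorem Q1584 : ∀ i, i < 1584 → P i := stepQ 1583 Q1583 (allL N1583 (tt N1631 (iv F38482)) (tt N1977 (iv F13372)) (tt N1933 (iv F13220)) (tt N1289 F9985) (tt N1978 (iv F13381)) (tt N1583 F9986) (tt N1245 F9987) (tt N1953 (iv F13308)) (tt N1244 (iv D2473)))
theorem Q1585 : ∀ i, i < 1585 → P i := stepQ 1584 Q1584 (allL N1584 (tt N1584 F9988) (tt N1246 (iv D2474)) (tt N1500 F9989) (tt N1355 F9990) (tt N1457 F9991) (tt N1981 D3377) (tt N1405 F9992) (tt N1982 D3378) (tt N1258 F9993))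
theorem Q1586 : ∀ i, i < 1586 → P i := stepQ 1585 Q1585 (allL N1585 (tt N1250 F9994) (tt N1981 (iv F13388)) (tt N1247 F9995) (tt N1356 F9996) (tt N1983 D3379) (tt N1246 (iv D2475)) (tt N1984 D3380) (tt N1985 D3381) (tt N1259 F9997))
theorem Q1587 : ∀ i, i < 1587 → P i := stepQ 1586 Q1586 (allL N1586 (tt N1251 F9998) (tt N1982 (iv F13393)) (tt N1248 F9999) (tt N1986 D3382) (tt N1413 (iv F37835)) (tt N1985 (iv F13408)) (tt N1407 F10001) (tt N1246 (iv D2476)) (tt N1987 D3383))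
theorem Q1588 : ∀ i, i < 1588 → P i := stepQ 1587 Q1587 (allL N1587 (tt N1252 F10002) (tt N1503 F10003) (tt N1983 (iv F13398)) (tt N1937 (iv F13239)) (tt N1247 (iv D2477)) (tt N1459 F10004) (tt N1988 D3384) (tt N1989 D3385) (tt N1261 F10005))
theorem Q1589 : ∀ i, i < 1589 → P i := stepQ 1588 Q1588 (allL N1588 (tt N1253 F10006) (tt N1504 F10007) (tt N1984 (iv F13402)) (tt N1249 F10008) (tt N1988 (iv F13420)) (tt N1408 F10009) (tt N1247 (iv D2478)) (tt N1876 F37934) (tt N1262 F10010))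
theorem Q1590 : ∀ i, i < 1590 → P i := stepQ 1589 Q1589 (allL N1589 (tt N1254 F10011) (tt N1505 F10012) (tt N1985 (iv F13407)) (tt N1589 F10013) (tt N1989 (iv F13424)) (tt N1248 F10014) (tt N1876 F37932) (tt N1247 (iv D2479)) (tt N1875 F37933))
theorem Q1591 : ∀ i, i < 1591 → P i := stepQ 1590 Q1590 (allL N1590 (tt N1255 F10015) (tt N1506 F10016) (tt N1987 (iv F13414)) (tt N1590 F10017) (tt N1408 (iv F37928)) (tt N1875 (iv F37930)) (tt N1401 F37848) (tt N1264 F10020) (tt N1248 (iv D2480)))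
theorem Q1592 : ∀ i, i < 1592 → P i := stepQ 1591 Q1591 (allL N1591 (tt N1983 (iv F13397)) (tt N1591 F10021) (tt N1252 F10022) (tt N1990 D3388) (tt N1250 (iv D2481)) (tt N1460 F10023) (tt N1991 D3389) (tt N1992 D3390) (tt N1265 F10024))
theorem Q1593 : ∀ i, i < 1593 → P i := stepQ 1592 Q1592 (allL N1592 (tt N1984 (iv F13401)) (tt N1592 F10025) (tt N1253 F10026) (tt N1362 F10027) (tt N1991 (iv F13442)) (tt N1409 F10028) (tt N1250 (iv D2482)) (tt N1882 F38030) (tt N1266 F10029))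
theorem Q1594 : ∀ i, i < 1594 → P i := stepQ 1593 Q1593 (allL N1593 (tt N1985 (iv F13406)) (tt N1593 F10030) (tt N1254 F10031) (tt N1993 D3392) (tt N1992 (iv F13446)) (tt N1251 F10032) (tt N1882 F37953) (tt N1250 (iv D2483)) (tt N1880 F37954))
theorem Q1595 : ∀ i, i < 1595 → P i := stepQ 1594 Q1594 (allL N1594 (tt N1986 (iv F13409)) (tt N1594 F10033) (tt N1594 F10034) (tt N1251 (iv D2484)) (tt N1437 (iv F37824)) (tt N1993 (iv F13454)) (tt N1410 F10035) (tt N1364 F10036) (tt N1994 D3395))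
theorem Q1596 : ∀ i, i < 1596 → P i := stepQ 1595 Q1595 (allL N1595 (tt N1987 (iv F13413)) (tt N1595 F10037) (tt N1255 F10038) (tt N1994 (iv F13467)) (tt N1409 (iv F37947)) (tt N1880 (iv F37949)) (tt N1403 F37847) (tt N1268 F10041) (tt N1251 (iv D2485)))
theorem Q1597 : ∀ i, i < 1597 → P i := stepQ 1596 Q1596 (allL N1596 (tt N1988 (iv F13418)) (tt N1256 F10042) (tt N1991 (iv F13441)) (tt N1946 (iv F13274)) (tt N1253 F10043) (tt N1885 (iv F38103)) (tt N1252 (iv D2486)) (tt N1884 F38064) (tt N1269 F10044))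
theorem Q1598 : ∀ i, i < 1598 → P i := stepQ 1597 Q1597 (allL N1597 (tt N1989 (iv F13422)) (tt N1257 F10045) (tt N1992 (iv F13445)) (tt N1973 (iv F38142)) (tt N1254 F10046) (tt N1269 (iv F38143)) (tt N1884 F38071) (tt N1252 (iv D2487)) (tt N1885 F38116))
theorem Q1599 : ∀ i, i < 1599 → P i := stepQ 1598 Q1598 (allL N1598 (tt N1598 F10079) (tt N1259 F10080) (tt N1808 (iv F12278)) (tt N1368 F10081) (tt N1995 D3406) (tt N1258 (iv D2495)) (tt N1996 D3407) (tt N1997 D3408) (tt N1981 (iv F13391)))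
theorem Q1600 : ∀ i, i < 1600 → P i := stepQ 1599 Q1599 (allL N1599 (tt N1599 F10082) (tt N1260 F10083) (tt N1762 F37780) (tt N1599 F10084) (tt N1867 (iv F12953)) (tt N1997 (iv F13519)) (tt N1412 F10085) (tt N1258 (iv D2496)) (tt N1998 D3409))
theorem Q1601 : ∀ i, i < 1601 → P i := stepQ 1600 Q1600 (allL N1600 (tt N1265 F10086) (tt N1995 (iv F13511)) (tt N1261 F10087) (tt N1999 D3410) (tt N1259 (iv D2497)) (tt N1868 (iv F12957)) (tt N2000 D3411) (tt N2001 D3412) (tt N1983 (iv F13400)))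
theorem Q1602 : ∀ i, i < 1602 → P i := stepQ 1601 Q1601 (allL N1601 (tt N1266 F10088) (tt N1996 (iv F13513)) (tt N1262 F10089) (tt N1370 F10090) (tt N2000 (iv F13528)) (tt N1413 F10091) (tt N1259 (iv D2498)) (tt N1458 (iv F37999)) (tt N1984 (iv F13405)))
theorem Q1603 : ∀ i, i < 1603 → P i := stepQ 1602 Q1602 (allL N1602 (tt N1267 F10092) (tt N1997 (iv F13517)) (tt N1263 F10093) (tt N1602 F10094) (tt N2001 (iv F13531)) (tt N1260 F10095) (tt N1458 (iv F37998)) (tt N1259 (iv D2499)) (tt N1869 F37943))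
theorem Q1604 : ∀ i, i < 1604 → P i := stepQ 1603 Q1603 (allL N1603 (tt N1268 F10096) (tt N1998 (iv F13521)) (tt N1264 F10097) (tt N1603 F10098) (tt N1872 (iv F12974)) (tt N1869 (iv F37856)) (tt N1398 (iv F37837)) (tt N1987 (iv F13417)) (tt N1260 (iv D2500)))
theorem Q1605 : ∀ i, i < 1605 → P i := stepQ 1604 Q1604 (allL N1604 (tt N1269 F10100) (tt N1605 (iv F38108)) (tt N2000 (iv F13527)) (tt N1961 (iv F13330)) (tt N1262 F10101) (tt N1989 F38100) (tt N1261 (iv D2501)) (tt N1459 (iv F38167)) (tt N1988 (iv F13421)))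
theorem Q1606 : ∀ i, i < 1606 → P i := stepQ 1605 Q1605 (allL N1605 (tt N1270 F10102) (tt N1604 F38108) (tt N2001 (iv F13530)) (tt N2002 D3417) (tt N1263 F10103) (tt N1874 (iv F12982)) (tt N1459 (iv F38166)) (tt N1261 (iv D2502)) (tt N1873 F38109))
theorem Q1607 : ∀ i, i < 1607 → P i := stepQ 1606 Q1606 (allL N1606 (tt N1999 (iv F13524)) (tt N1606 F10111) (tt N1965 (iv F13341)) (tt N1265 (iv D2505)) (tt N1372 F10112) (tt N1877 (iv F12993)) (tt N2003 D3420) (tt N2004 D3421) (tt N1990 (iv F13439)))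
theorem Q1608 : ∀ i, i < 1608 → P i := stepQ 1607 Q1607 (allL N1607 (tt N2000 (iv F13526)) (tt N1607 F10113) (tt N1269 F10114) (tt N2003 (iv F13555)) (tt N1266 F10115) (tt N1992 F38072) (tt N1265 (iv D2506)) (tt N1460 (iv F38130)) (tt N1991 (iv F13443)))
theorem Q1609 : ∀ i, i < 1609 → P i := stepQ 1608 Q1608 (allL N1608 (tt N2001 (iv F13529)) (tt N1608 F10116) (tt N1270 F10117) (tt N2005 D3424) (tt N1267 F10118) (tt N1879 (iv F13002)) (tt N1460 (iv F38129)) (tt N1265 (iv D2507)) (tt N1878 F38082))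
theorem Q1610 : ∀ i, i < 1610 → P i := stepQ 1609 Q1609 (allL N1609 (tt N2002 (iv F13546)) (tt N1271 F10133) (tt N2006 D3430) (tt N1270 (iv D2512)) (tt N1291 F10134) (tt N1886 (iv F13029)) (tt N1452 (iv F38255)) (tt N1975 (iv F13369)) (tt N1857 F38218))
theorem Q1611 : ∀ i, i < 1611 → P i := stepQ 1610 Q1610 (allL N1610 (tt N1545 F38340) (tt N2007 D3436) (tt N1271 (iv D2518)) (tt N1610 F10149) (tt N1292 F10150) (tt N1888 (iv F13051)) (tt N1444 (iv F38379)) (tt N1979 (iv F13384)) (tt N1841 F38341))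
theorem Q1612 : ∀ i, i < 1612 → P i := stepQ 1611 Q1611 (allL N1611 (tt N1611 F10153) (tt N1273 F10154) (tt N1811 (iv F12374)) (tt N1375 F10155) (tt N2008 D3439) (tt N1272 (iv D2520)) (tt N2009 D3440) (tt N2010 D3441) (tt N1611 F10156))
theorem Q1613 : ∀ i, i < 1613 → P i := stepQ 1612 Q1612 (allL N1612 (tt N1612 F10157) (tt N1274 F10158) (tt N1812 (iv F12379)) (tt N2011 D3442) (tt N1612 F10159) (tt N2010 (iv F13617)) (tt N1612 F10160) (tt N1272 (iv D2521)) (tt N2012 D3443))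
theorem Q1614 : ∀ i, i < 1614 → P i := stepQ 1613 Q1613 (allL N1613 (tt N1279 F10161) (tt N2008 (iv F13606)) (tt N1275 F10162) (tt N1613 F10163) (tt N1273 (iv D2522)) (tt N1613 F10164) (tt N1462 (iv F38433)) (tt N2013 D3445) (tt N1613 F10165))
theorem Q1615 : ∀ i, i < 1615 → P i := stepQ 1614 Q1614 (allL N1614 (tt N1280 F10166) (tt N2009 (iv F13611)) (tt N1276 F10167) (tt N1377 F10168) (tt N1462 (iv F38432)) (tt N1614 F10169) (tt N1273 (iv D2523)) (tt N2014 D3446) (tt N1614 F10170))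
theorem Q1616 : ∀ i, i < 1616 → P i := stepQ 1615 Q1615 (allL N1615 (tt N1281 F10171) (tt N2010 (iv F13616)) (tt N1277 F10172) (tt N2015 D3447) (tt N2013 (iv F13634)) (tt N1274 F10173) (tt N2014 (iv F13639)) (tt N1273 (iv D2524)) (tt N2016 D3448))
theorem Q1617 : ∀ i, i < 1617 → P i := stepQ 1616 Q1616 (allL N1616 (tt N1282 F10174) (tt N2011 (iv F13619)) (tt N1959 (iv F13323)) (tt N1274 (iv D2525)) (tt N2017 D3449) (tt N2015 (iv F13641)) (tt N1616 F10175) (tt N1379 F10176) (tt N2018 D3450))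
theorem Q1618 : ∀ i, i < 1618 → P i := stepQ 1617 Q1617 (allL N1617 (tt N1283 F10177) (tt N2012 (iv F13623)) (tt N1278 F10178) (tt N2018 (iv F13652)) (tt N1617 F10179) (tt N2016 (iv F13645)) (tt N1617 F10180) (tt N1617 F10181) (tt N1274 (iv D2526)))
theorem Q1619 : ∀ i, i < 1619 → P i := stepQ 1618 Q1618 (allL N1618 (tt N1284 F10186) (tt N1619 F38369) (tt N2013 (iv F13633)) (tt N2019 D3453) (tt N1277 F10187) (tt N1618 F10188) (tt N1464 (iv F38430)) (tt N1275 (iv D2528)) (tt N2020 D3454))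
theorem Q1620 : ∀ i, i < 1620 → P i := stepQ 1619 Q1619 (allL N1619 (tt N1285 F10189) (tt N1618 (iv F38369)) (tt N2014 (iv F13637)) (tt N1963 (iv F13335)) (tt N1464 (iv F38429)) (tt N1619 F10190) (tt N1277 F10191) (tt N1276 (iv D2529)) (tt N2021 D3455))
theorem Q1621 : ∀ i, i < 1621 → P i := stepQ 1620 Q1620 (allL N1620 (tt N1286 F10192) (tt N1816 (iv F12416)) (tt N2016 (iv F13644)) (tt N1964 (iv F13339)) (tt N2020 (iv F13666)) (tt N1278 F10193) (tt N2021 (iv F13671)) (tt N1620 F10194) (tt N1277 (iv D2530)))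
theorem Q1622 : ∀ i, i < 1622 → P i := stepQ 1621 Q1621 (allL N1621 (tt N2013 (iv F13632)) (tt N1621 F10200) (tt N1284 F10201) (tt N2022 D3458) (tt N1281 F10202) (tt N1621 F10203) (tt N1466 (iv F38500)) (tt N1279 (iv D2532)) (tt N2023 D3459))
theorem Q1623 : ∀ i, i < 1623 → P i := stepQ 1622 Q1622 (allL N1622 (tt N2014 (iv F13636)) (tt N1622 F10204) (tt N1285 F10205) (tt N2024 D3460) (tt N1466 (iv F38499)) (tt N1622 F10206) (tt N1281 F10207) (tt N1280 (iv D2533)) (tt N2025 D3461))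
theorem Q1624 : ∀ i, i < 1624 → P i := stepQ 1623 Q1623 (allL N1623 (tt N2015 (iv F13640)) (tt N1623 F10208) (tt N1969 (iv F13350)) (tt N1281 (iv D2534)) (tt N2026 D3462) (tt N1282 F10209) (tt N2024 (iv F13693)) (tt N1384 F10210) (tt N2027 D3463))
theorem Q1625 : ∀ i, i < 1625 → P i := stepQ 1624 Q1624 (allL N1624 (tt N2016 (iv F13643)) (tt N1624 F10211) (tt N1286 F10212) (tt N2027 (iv F13703)) (tt N2023 (iv F13688)) (tt N1283 F10213) (tt N2025 (iv F13698)) (tt N1624 F10214) (tt N1281 (iv D2535)))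
theorem Q1626 : ∀ i, i < 1626 → P i := stepQ 1625 Q1625 (allL N1625 (tt N2017 (iv F13647)) (tt N1625 F10215) (tt N1971 (iv F13355)) (tt N1625 F10216) (tt N1282 (iv D2536)) (tt N2028 D3464) (tt N1625 F10217) (tt N1386 F10218) (tt N2029 D3465))
theorem Q1627 : ∀ i, i < 1627 → P i := stepQ 1626 Q1626 (allL N1626 (tt N2018 (iv F13651)) (tt N1626 F10219) (tt N1972 (iv F13358)) (tt N1283 F10220) (tt N2029 (iv F13710)) (tt N2027 (iv F13704)) (tt N1626 F10221) (tt N2030 D3466) (tt N1282 (iv D2537)))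
theorem Q1628 : ∀ i, i < 1628 → P i := stepQ 1627 Q1627 (allL N1627 (tt N2019 (iv F13662)) (tt N1287 F10230) (tt N2031 D3470) (tt N1284 (iv D2540)) (tt N1975 (iv F13368)) (tt N1627 F10231) (tt N1453 (iv F38386)) (tt N1291 F10232) (tt N2032 D3471))
theorem Q1629 : ∀ i, i < 1629 → P i := stepQ 1628 Q1628 (allL N1628 (tt N2020 (iv F13665)) (tt N1288 F10233) (tt N2023 (iv F13687)) (tt N2032 (iv F13730)) (tt N1286 F10234) (tt N1628 F10235) (tt N1469 (iv F38502)) (tt N1628 F10236) (tt N1284 (iv D2541)))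
theorem Q1630 : ∀ i, i < 1630 → P i := stepQ 1629 Q1629 (allL N1629 (tt N2021 (iv F13669)) (tt N1289 F10237) (tt N2025 (iv F13696)) (tt N1977 (iv F13373)) (tt N1469 (iv F38501)) (tt N1629 F10238) (tt N1286 F10239) (tt N1629 F10240) (tt N1285 (iv D2542)))
theorem Q1631 : ∀ i, i < 1631 → P i := stepQ 1630 Q1630 (allL N1630 (tt N1547 F38477) (tt N2033 D3476) (tt N1287 (iv D2546)) (tt N1630 F10251) (tt N1979 (iv F13383)) (tt N1630 F10252) (tt N1445 (iv F38507)) (tt N1292 F10253) (tt N2034 D3477))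
theorem Q1632 : ∀ i, i < 1632 → P i := stepQ 1631 Q1631 (allL N1631 (tt N1583 F38482) (tt N2032 (iv F13729)) (tt N2034 (iv F13748)) (tt N1288 F10254) (tt N1980 (iv F13386)) (tt N1631 F10255) (tt N1456 (iv F38511)) (tt N1865 F38483) (tt N1287 (iv D2547)))
theorem Q1633 : ∀ i, i < 1633 → P i := stepQ 1632 Q1632 (allL N1632 (tt N1291 F10265) (tt N1567 F38241) (tt N2035 D3482) (tt N1290 (iv D2550)) (tt N2002 (iv F13547)) (tt N1632 F10266) (tt N1448 (iv F38290)) (tt N2019 (iv F13664)) (tt N1849 F38242))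
theorem Q1634 : ∀ i, i < 1634 → P i := stepQ 1633 Q1633 (allL N1633 (tt N2035 (iv F13766)) (tt N2036 D3488) (tt N1291 (iv D2556)) (tt N1633 F10289) (tt N2006 (iv F13585)) (tt N1633 F10290) (tt N1450 (iv F38384)) (tt N2031 (iv F13728)) (tt N1853 F38349))
theorem Q1635 : ∀ i, i < 1635 → P i := stepQ 1634 Q1634 (allL N1634 (tt N2037 D3497) (tt N1292 (iv D2562)) (tt N2036 (iv F13786)) (tt N1293 F10305) (tt N2007 (iv F13600)) (tt N1634 F10306) (tt N1442 (iv F38504)) (tt N2033 (iv F13747)) (tt N1838 F38474))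
theorem Q1636 : ∀ i, i < 1636 → P i := stepQ 1635 Q1635 (allL N1635 (tt N1293 (iv D2571)) (tt N1538 F38553) (tt N1635 F10336) (tt N2037 (iv F13810)) (tt N1635 F10337) (tt N1635 F10338) (tt N1440 (iv F38566)) (tt N1635 F10339) (tt N1834 F38554))
theorem Q1637 : ∀ i, i < 1637 → P i := stepQ 1636 Q1636 (allL N1636 (tt N1295 F10348) (tt N1636 F10349) (tt N1636 F10350) (tt N2038 D3511) (tt N1294 (iv D2574)) (tt N2039 D3512) (tt N1636 F10351) (tt N1636 F10352) (tt N1636 F10353))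
theorem Q1638 : ∀ i, i < 1638 → P i := stepQ 1637 Q1637 (allL N1637 (tt N2038 (iv F13862)) (tt N1296 F10354) (tt N2040 D3513) (tt N1295 (iv D2575)) (tt N1300 F10355) (tt N1430 (iv F38741)) (tt N1637 F10356) (tt N1429 F38690) (tt N1637 F10357))
theorem Q1639 : ∀ i, i < 1639 → P i := stepQ 1638 Q1638 (allL N1638 (tt N2039 (iv F13867)) (tt N1297 F10358) (tt N1638 F10359) (tt N1430 F38815) (tt N1638 F10360) (tt N1295 (iv D2576)) (tt N1431 (iv F38862)) (tt N1638 F10361) (tt N1638 F10362))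
theorem Q1640 : ∀ i, i < 1640 → P i := stepQ 1639 Q1639 (allL N1639 (tt N1300 F10378) (tt N1639 F10379) (tt N2041 D3521) (tt N1299 (iv D2580)) (tt N2038 (iv F13864)) (tt N2042 D3522) (tt N1639 F10380) (tt N2043 D3523) (tt N1639 F10381))
theorem Q1641 : ∀ i, i < 1641 → P i := stepQ 1640 Q1640 (allL N1640 (tt N1301 F10382) (tt N1640 F10383) (tt N1890 (iv F13062)) (tt N2042 (iv F13916)) (tt N1640 F10384) (tt N1299 (iv D2581)) (tt N2044 D3524) (tt N1306 F10385) (tt N1640 F10386))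
theorem Q1642 : ∀ i, i < 1642 → P i := stepQ 1641 Q1641 (allL N1641 (tt N2041 (iv F13911)) (tt N1641 F10387) (tt N1300 (iv D2582)) (tt N1891 (iv F13067)) (tt N2040 (iv F13875)) (tt N2045 D3525) (tt N1641 F10388) (tt N2046 D3526) (tt N1641 F10389))
theorem Q1643 : ∀ i, i < 1643 → P i := stepQ 1642 Q1642 (allL N1642 (tt N2042 (iv F13914)) (tt N1302 F10390) (tt N2045 (iv F13929)) (tt N1301 F10391) (tt N1367 (iv F38743)) (tt N1300 (iv D2583)) (tt N1366 (iv F38744)) (tt N1365 F38694) (tt N1642 F10392))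
theorem Q1644 : ∀ i, i < 1644 → P i := stepQ 1643 Q1643 (allL N1643 (tt N2043 (iv F13918)) (tt N1303 F10393) (tt N2046 (iv F13932)) (tt N1309 F10394) (tt N1429 (iv F38642)) (tt N1365 (iv F38644)) (tt N1643 F10395) (tt N1300 (iv D2584)) (tt N1374 (iv F38645)))
theorem Q1645 : ∀ i, i < 1645 → P i := stepQ 1644 Q1644 (allL N1644 (tt N2044 (iv F13922)) (tt N1304 F10396) (tt N1894 (iv F13079)) (tt N1366 F38818) (tt N1644 F10397) (tt N1644 F10398) (tt N1301 (iv D2585)) (tt N1310 F10399) (tt N1644 F10400))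
theorem Q1646 : ∀ i, i < 1646 → P i := stepQ 1645 Q1645 (allL N1645 (tt N1307 F10419) (tt N2047 D3535) (tt N1305 (iv D2590)) (tt N1899 (iv F13105)) (tt N1645 F10420) (tt N2048 D3536) (tt N1645 F10421) (tt N2049 D3537) (tt N1315 F10422))
theorem Q1647 : ∀ i, i < 1647 → P i := stepQ 1646 Q1646 (allL N1646 (tt N1308 F10423) (tt N1646 F10424) (tt N2048 (iv F13972)) (tt N1306 F10425) (tt N2050 D3538) (tt N1305 (iv D2591)) (tt N2051 D3539) (tt N2052 D3540) (tt N1316 F10426))
theorem Q1648 : ∀ i, i < 1648 → P i := stepQ 1647 Q1647 (allL N1647 (tt N1309 F10427) (tt N1647 F10428) (tt N2049 (iv F13975)) (tt N2043 (iv F13920)) (tt N1647 F10429) (tt N2052 (iv F13990)) (tt N1647 F10430) (tt N1305 (iv D2592)) (tt N2053 D3541))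
theorem Q1649 : ∀ i, i < 1649 → P i := stepQ 1648 Q1648 (allL N1648 (tt N1310 F10431) (tt N1648 F10432) (tt N1902 (iv F13119)) (tt N2051 (iv F13985)) (tt N1648 F10433) (tt N1648 F10434) (tt N1306 (iv D2593)) (tt N2044 (iv F13926)) (tt N1318 F10435))
theorem Q1650 : ∀ i, i < 1650 → P i := stepQ 1649 Q1649 (allL N1649 (tt N2048 (iv F13971)) (tt N1333 F10436) (tt N1308 F10437) (tt N1903 (iv F13125)) (tt N2054 D3542) (tt N1307 (iv D2594)) (tt N2055 D3543) (tt N2056 D3544) (tt N1319 F10438))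
theorem Q1651 : ∀ i, i < 1651 → P i := stepQ 1650 Q1650 (allL N1650 (tt N2049 (iv F13974)) (tt N1334 F10439) (tt N1309 F10440) (tt N2057 D3545) (tt N1650 F10441) (tt N2056 (iv F14006)) (tt N1650 F10442) (tt N1307 (iv D2595)) (tt N2058 D3546))
theorem Q1652 : ∀ i, i < 1652 → P i := stepQ 1651 Q1651 (allL N1651 (tt N2050 (iv F13978)) (tt N1311 F10443) (tt N2054 (iv F13997)) (tt N1651 F10444) (tt N1308 (iv D2596)) (tt N1651 F10445) (tt N1337 F38774) (tt N1336 F38775) (tt N1321 F10446))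
theorem Q1653 : ∀ i, i < 1653 → P i := stepQ 1652 Q1652 (allL N1652 (tt N2051 (iv F13983)) (tt N1312 F10447) (tt N2055 (iv F14001)) (tt N1310 F10448) (tt N1337 F38772) (tt N1652 F10449) (tt N1308 (iv D2597)) (tt N1335 F38773) (tt N1322 F10450))
theorem Q1654 : ∀ i, i < 1654 → P i := stepQ 1653 Q1653 (allL N1653 (tt N2052 (iv F13988)) (tt N1313 F10451) (tt N2056 (iv F14005)) (tt N1365 F38671) (tt N1336 (iv F38733)) (tt N1309 F10452) (tt N1335 (iv F38734)) (tt N1308 (iv D2598)) (tt N1351 (iv F38736)))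
theorem Q1655 : ∀ i, i < 1655 → P i := stepQ 1654 Q1654 (allL N1654 (tt N2053 (iv F13991)) (tt N1314 F10453) (tt N2058 (iv F14010)) (tt N1374 F38672) (tt N1654 F10454) (tt N1351 (iv F38735)) (tt N1654 F10455) (tt N1324 F10456) (tt N1309 (iv D2599)))
theorem Q1656 : ∀ i, i < 1656 → P i := stepQ 1655 Q1655 (allL N1655 (tt N1339 F10474) (tt N1315 (iv D2604)) (tt N1655 F10475) (tt N1913 (iv F13163)) (tt N1655 F10476) (tt N2059 D3556) (tt N1655 F10477) (tt N2060 D3557) (tt N2047 (iv F13970)))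
theorem Q1657 : ∀ i, i < 1657 → P i := stepQ 1656 Q1656 (allL N1656 (tt N1319 F10478) (tt N2059 (iv F14051)) (tt N1316 F10479) (tt N1914 (iv F13167)) (tt N2061 D3558) (tt N1315 (iv D2605)) (tt N2062 D3559) (tt N2063 D3560) (tt N2048 (iv F13973)))
theorem Q1658 : ∀ i, i < 1658 → P i := stepQ 1657 Q1657 (allL N1657 (tt N1320 F10480) (tt N2060 (iv F14054)) (tt N1317 F10481) (tt N2064 D3561) (tt N1657 F10482) (tt N2063 (iv F14066)) (tt N1657 F10483) (tt N1315 (iv D2606)) (tt N2065 D3562))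
theorem Q1659 : ∀ i, i < 1659 → P i := stepQ 1658 Q1658 (allL N1658 (tt N1321 F10484) (tt N1658 F10485) (tt N2061 (iv F14059)) (tt N1658 F10486) (tt N1316 (iv D2607)) (tt N1658 F10487) (tt N2066 D3563) (tt N2067 D3564) (tt N2050 (iv F13982)))
theorem Q1660 : ∀ i, i < 1660 → P i := stepQ 1659 Q1659 (allL N1659 (tt N1322 F10488) (tt N1659 F10489) (tt N2062 (iv F14062)) (tt N1318 F10490) (tt N2066 (iv F14077)) (tt N1659 F10491) (tt N1316 (iv D2608)) (tt N2068 D3565) (tt N2051 (iv F13987)))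
theorem Q1661 : ∀ i, i < 1661 → P i := stepQ 1660 Q1660 (allL N1660 (tt N1323 F10492) (tt N1660 F10493) (tt N2063 (iv F14065)) (tt N1660 F10494) (tt N2067 (iv F14080)) (tt N1317 F10495) (tt N2068 (iv F14086)) (tt N1316 (iv D2609)) (tt N2069 D3566))
theorem Q1662 : ∀ i, i < 1662 → P i := stepQ 1661 Q1661 (allL N1661 (tt N1324 F10496) (tt N1661 F10497) (tt N2065 (iv F14071)) (tt N1661 F10498) (tt N1661 F10499) (tt N2069 (iv F14090)) (tt N1661 F10500) (tt N2053 (iv F13995)) (tt N1317 (iv D2610)))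
theorem Q1663 : ∀ i, i < 1663 → P i := stepQ 1662 Q1662 (allL N1662 (tt N2061 (iv F14058)) (tt N1346 F10501) (tt N1321 F10502) (tt N2070 D3567) (tt N1319 (iv D2611)) (tt N1662 F10503) (tt N2071 D3568) (tt N2072 D3569) (tt N2054 (iv F13999)))
theorem Q1664 : ∀ i, i < 1664 → P i := stepQ 1663 Q1663 (allL N1663 (tt N2062 (iv F14061)) (tt N1347 F10504) (tt N1322 F10505) (tt N1921 (iv F13186)) (tt N2071 (iv F14096)) (tt N1663 F10506) (tt N1319 (iv D2612)) (tt N2073 D3570) (tt N2055 (iv F14003)))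
theorem Q1665 : ∀ i, i < 1665 → P i := stepQ 1664 Q1664 (allL N1664 (tt N2063 (iv F14064)) (tt N1348 F10507) (tt N1323 F10508) (tt N2074 D3571) (tt N2072 (iv F14099)) (tt N1320 F10509) (tt N2073 (iv F14104)) (tt N1319 (iv D2613)) (tt N2075 D3572))
theorem Q1666 : ∀ i, i < 1666 → P i := stepQ 1665 Q1665 (allL N1665 (tt N2064 (iv F14067)) (tt N1349 F10510) (tt N1665 F10511) (tt N1320 (iv D2614)) (tt N2076 D3573) (tt N2074 (iv F14107)) (tt N1665 F10512) (tt N1923 (iv F13194)) (tt N2077 D3574))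
theorem Q1667 : ∀ i, i < 1667 → P i := stepQ 1666 Q1666 (allL N1666 (tt N2065 (iv F14070)) (tt N1350 F10513) (tt N1324 F10514) (tt N2077 (iv F14117)) (tt N1666 F10515) (tt N2075 (iv F14110)) (tt N1666 F10516) (tt N2058 (iv F14013)) (tt N1320 (iv D2615)))
theorem Q1668 : ∀ i, i < 1668 → P i := stepQ 1667 Q1667 (allL N1667 (tt N2066 (iv F14074)) (tt N1325 F10517) (tt N2071 (iv F14095)) (tt N1667 F10518) (tt N1322 F10519) (tt N1338 F38776) (tt N1321 (iv D2616)) (tt N1354 (iv F38851)) (tt N1337 F38777))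
theorem Q1669 : ∀ i, i < 1669 → P i := stepQ 1668 Q1668 (allL N1668 (tt N2067 (iv F14078)) (tt N1326 F10520) (tt N2072 (iv F14098)) (tt N1388 (iv F38919)) (tt N1323 F10521) (tt N1668 F10522) (tt N1354 F38884) (tt N1321 (iv D2617)) (tt N1353 F38885))
theorem Q1670 : ∀ i, i < 1670 → P i := stepQ 1669 Q1669 (allL N1669 (tt N2068 (iv F14082)) (tt N1327 F10523) (tt N2073 (iv F14102)) (tt N1669 F10524) (tt N1354 F38882) (tt N1669 F10525) (tt N1323 F10526) (tt N1322 (iv D2618)) (tt N1352 F38883))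
theorem Q1671 : ∀ i, i < 1671 → P i := stepQ 1670 Q1670 (allL N1670 (tt N2069 (iv F14087)) (tt N1328 F10527) (tt N2075 (iv F14109)) (tt N1670 F10528) (tt N1353 (iv F38858)) (tt N1324 F10529) (tt N1352 (iv F38859)) (tt N1351 F38803) (tt N1323 (iv D2619)))
theorem Q1672 : ∀ i, i < 1672 → P i := stepQ 1671 Q1671 (allL N1671 (tt N2047 (iv F13966)) (tt N1329 (iv D2625)) (tt N1671 F10553) (tt N1934 (iv F13225)) (tt N1671 F10554) (tt N2078 D3584) (tt N1671 F10555) (tt N2079 D3585) (tt N1339 F10556))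
theorem Q1673 : ∀ i, i < 1673 → P i := stepQ 1672 Q1672 (allL N1672 (tt N1333 F10557) (tt N2078 (iv F14156)) (tt N1330 F10558) (tt N1935 (iv F13231)) (tt N2080 D3586) (tt N1329 (iv D2626)) (tt N2081 D3587) (tt N2082 D3588) (tt N1340 F10559))
theorem Q1674 : ∀ i, i < 1674 → P i := stepQ 1673 Q1673 (allL N1673 (tt N1334 F10560) (tt N2079 (iv F14159)) (tt N1331 F10561) (tt N2083 D3589) (tt N1673 F10562) (tt N2082 (iv F14173)) (tt N1673 F10563) (tt N1329 (iv D2627)) (tt N2084 D3590))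
theorem Q1675 : ∀ i, i < 1675 → P i := stepQ 1674 Q1674 (allL N1674 (tt N1335 F10564) (tt N1674 F10565) (tt N2080 (iv F14164)) (tt N1358 F10566) (tt N1330 (iv D2628)) (tt N1674 F10567) (tt N2052 F38756) (tt N2051 (iv F38835)) (tt N1342 F10568))
theorem Q1676 : ∀ i, i < 1676 → P i := stepQ 1675 Q1675 (allL N1675 (tt N1336 F10569) (tt N1675 F10570) (tt N2081 (iv F14168)) (tt N1332 F10571) (tt N2052 F38755) (tt N1675 F10572) (tt N1330 (iv D2629)) (tt N2050 (iv F38833)) (tt N1343 F10573))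
theorem Q1677 : ∀ i, i < 1677 → P i := stepQ 1676 Q1676 (allL N1676 (tt N1337 F10574) (tt N1676 F10575) (tt N2082 (iv F14172)) (tt N1676 F10576) (tt N2051 (iv F38834)) (tt N1331 F10577) (tt N2050 (iv F38832)) (tt N1330 (iv D2630)) (tt N2066 (iv F38843)))
theorem Q1678 : ∀ i, i < 1678 → P i := stepQ 1677 Q1677 (allL N1677 (tt N1338 F10578) (tt N1677 F10579) (tt N2084 (iv F14178)) (tt N1677 F10580) (tt N1677 F10581) (tt N2066 (iv F38842)) (tt N1677 F10582) (tt N1345 F10583) (tt N1331 (iv D2631)))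
theorem Q1679 : ∀ i, i < 1679 → P i := stepQ 1678 Q1678 (allL N1678 (tt N2080 (iv F14163)) (tt N2054 (iv F13996)) (tt N1335 F10584) (tt N2085 D3595) (tt N1333 (iv D2632)) (tt N1678 F10585) (tt N2056 F38674) (tt N2055 (iv F38717)) (tt N1346 F10586))
theorem Q1680 : ∀ i, i < 1680 → P i := stepQ 1679 Q1679 (allL N1679 (tt N2081 (iv F14167)) (tt N2055 (iv F14000)) (tt N1336 F10587) (tt N1942 (iv F13261)) (tt N2056 F38673) (tt N1679 F10588) (tt N1333 (iv D2633)) (tt N2054 (iv F38719)) (tt N1347 F10589))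
theorem Q1681 : ∀ i, i < 1681 → P i := stepQ 1680 Q1680 (allL N1680 (tt N2082 (iv F14171)) (tt N2056 (iv F14004)) (tt N1337 F10590) (tt N2086 D3599) (tt N2055 (iv F38716)) (tt N1334 F10591) (tt N2054 (iv F38718)) (tt N1333 (iv D2634)) (tt N2071 (iv F38721)))
theorem Q1682 : ∀ i, i < 1682 → P i := stepQ 1681 Q1681 (allL N1681 (tt N2083 (iv F14174)) (tt N2057 (iv F14007)) (tt N1681 F10592) (tt N1334 (iv D2635)) (tt N2087 D3601) (tt N2086 (iv F14214)) (tt N1681 F10593) (tt N1944 (iv F13268)) (tt N2088 D3602))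
theorem Q1683 : ∀ i, i < 1683 → P i := stepQ 1682 Q1682 (allL N1682 (tt N2084 (iv F14177)) (tt N2058 (iv F14009)) (tt N1338 F10594) (tt N2088 (iv F14222)) (tt N1682 F10595) (tt N2071 (iv F38720)) (tt N1682 F10596) (tt N1350 F10597) (tt N1334 (iv D2636)))
theorem Q1684 : ∀ i, i < 1684 → P i := stepQ 1683 Q1683 (allL N1683 (tt N2059 (iv F14050)) (tt N1340 F10634) (tt N1683 F10635) (tt N1954 (iv F13310)) (tt N2089 D3613) (tt N1339 (iv D2646)) (tt N2090 D3614) (tt N2091 D3615) (tt N2078 (iv F14158)))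
theorem Q1685 : ∀ i, i < 1685 → P i := stepQ 1684 Q1684 (allL N1684 (tt N2060 (iv F14053)) (tt N1341 F10636) (tt N1684 F10637) (tt N2092 D3616) (tt N1684 F10638) (tt N2091 (iv F14274)) (tt N1684 F10639) (tt N1339 (iv D2647)) (tt N2093 D3617))
theorem Q1686 : ∀ i, i < 1686 → P i := stepQ 1685 Q1685 (allL N1685 (tt N1346 F10640) (tt N2089 (iv F14266)) (tt N1342 F10641) (tt N2094 D3618) (tt N1340 (iv D2648)) (tt N1685 F10642) (tt N2095 D3619) (tt N2096 D3620) (tt N2080 (iv F14166)))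
theorem Q1687 : ∀ i, i < 1687 → P i := stepQ 1686 Q1686 (allL N1686 (tt N1347 F10643) (tt N2090 (iv F14269)) (tt N1343 F10644) (tt N1957 (iv F13317)) (tt N2095 (iv F14286)) (tt N1686 F10645) (tt N1340 (iv D2649)) (tt N2097 D3621) (tt N2081 (iv F14170)))
theorem Q1688 : ∀ i, i < 1688 → P i := stepQ 1687 Q1687 (allL N1687 (tt N1348 F10646) (tt N2091 (iv F14272)) (tt N1344 F10647) (tt N2098 D3622) (tt N2096 (iv F14289)) (tt N1341 F10648) (tt N2097 (iv F14294)) (tt N1340 (iv D2650)) (tt N2099 D3623))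
theorem Q1689 : ∀ i, i < 1689 → P i := stepQ 1688 Q1688 (allL N1688 (tt N1349 F10649) (tt N2092 (iv F14275)) (tt N1379 F10650) (tt N1341 (iv D2651)) (tt N2100 D3624) (tt N2098 (iv F14297)) (tt N1688 F10651) (tt N1959 (iv F13325)) (tt N2101 D3625))
theorem Q1690 : ∀ i, i < 1690 → P i := stepQ 1689 Q1689 (allL N1689 (tt N1350 F10652) (tt N2093 (iv F14277)) (tt N1345 F10653) (tt N2101 (iv F14307)) (tt N1689 F10654) (tt N2099 (iv F14300)) (tt N1689 F10655) (tt N2084 (iv F14181)) (tt N1341 (iv D2652)))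
theorem Q1691 : ∀ i, i < 1691 → P i := stepQ 1690 Q1690 (allL N1690 (tt N1351 F10656) (tt N1690 F10657) (tt N2095 (iv F14285)) (tt N1371 F10658) (tt N1343 F10659) (tt N2053 F38757) (tt N1342 (iv D2653)) (tt N2069 (iv F38836)) (tt N2052 F38758))
theorem Q1692 : ∀ i, i < 1692 → P i := stepQ 1691 Q1691 (allL N1691 (tt N1352 F10660) (tt N1691 F10661) (tt N2096 (iv F14288)) (tt N1691 F10662) (tt N1344 F10663) (tt N1691 F10664) (tt N2069 F38870) (tt N1342 (iv D2654)) (tt N2068 (iv F38911)))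
theorem Q1693 : ∀ i, i < 1693 → P i := stepQ 1692 Q1692 (allL N1692 (tt N1353 F10665) (tt N1692 F10666) (tt N2097 (iv F14292)) (tt N1381 F10667) (tt N2069 F38869) (tt N1692 F10668) (tt N1344 F10669) (tt N1343 (iv D2655)) (tt N2067 (iv F38909)))
theorem Q1694 : ∀ i, i < 1694 → P i := stepQ 1693 Q1693 (allL N1693 (tt N1354 F10670) (tt N1693 F10671) (tt N2099 (iv F14299)) (tt N1382 F10672) (tt N2068 (iv F38910)) (tt N1345 F10673) (tt N2067 (iv F38908)) (tt N2066 F38880) (tt N1344 (iv D2656)))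
theorem Q1695 : ∀ i, i < 1695 → P i := stepQ 1694 Q1694 (allL N1694 (tt N2094 (iv F14281)) (tt N2070 (iv F14091)) (tt N1372 F10674) (tt N1346 (iv D2657)) (tt N1965 (iv F13342)) (tt N1694 F10675) (tt N2102 D3630) (tt N2103 D3631) (tt N2085 (iv F14203)))
theorem Q1696 : ∀ i, i < 1696 → P i := stepQ 1695 Q1695 (allL N1695 (tt N2095 (iv F14284)) (tt N2071 (iv F14094)) (tt N1351 F10676) (tt N2102 (iv F14330)) (tt N1347 F10677) (tt N2058 F38675) (tt N1346 (iv D2658)) (tt N2075 (iv F38737)) (tt N2056 F38676))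
theorem Q1697 : ∀ i, i < 1697 → P i := stepQ 1696 Q1696 (allL N1696 (tt N2096 (iv F14287)) (tt N2072 (iv F14097)) (tt N1352 F10678) (tt N2104 D3634) (tt N1348 F10679) (tt N1696 F10680) (tt N2075 F38805) (tt N1346 (iv D2659)) (tt N2073 (iv F38853)))
theorem Q1698 : ∀ i, i < 1698 → P i := stepQ 1697 Q1697 (allL N1697 (tt N2097 (iv F14291)) (tt N2073 (iv F14101)) (tt N1353 F10681) (tt N2105 D3636) (tt N2075 F38804) (tt N1697 F10682) (tt N1348 F10683) (tt N1347 (iv D2660)) (tt N2072 (iv F38855)))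
theorem Q1699 : ∀ i, i < 1699 → P i := stepQ 1698 Q1698 (allL N1698 (tt N2098 (iv F14295)) (tt N2074 (iv F14105)) (tt N1384 F10684) (tt N1348 (iv D2661)) (tt N2106 D3638) (tt N1349 F10685) (tt N2105 (iv F14346)) (tt N1969 (iv F13352)) (tt N2107 D3639))
theorem Q1700 : ∀ i, i < 1700 → P i := stepQ 1699 Q1699 (allL N1699 (tt N2099 (iv F14298)) (tt N2075 (iv F14108)) (tt N1354 F10686) (tt N2107 (iv F14352)) (tt N2073 (iv F38852)) (tt N1350 F10687) (tt N2072 (iv F38854)) (tt N2071 F38778) (tt N1348 (iv D2662)))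
theorem Q1701 : ∀ i, i < 1701 → P i := stepQ 1700 Q1700 (allL N1700 (tt N2100 (iv F14301)) (tt N2076 (iv F14111)) (tt N1386 F10688) (tt N1700 F10689) (tt N1349 (iv D2663)) (tt N2108 D3640) (tt N1700 F10690) (tt N1971 (iv F13357)) (tt N2109 D3641))
theorem Q1702 : ∀ i, i < 1702 → P i := stepQ 1701 Q1701 (allL N1701 (tt N2101 (iv F14305)) (tt N2077 (iv F14115)) (tt N1387 F10691) (tt N1350 F10692) (tt N2109 (iv F14358)) (tt N2107 (iv F14353)) (tt N1701 F10693) (tt N2110 D3642) (tt N1349 (iv D2664)))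
theorem Q1703 : ∀ i, i < 1703 → P i := stepQ 1702 Q1702 (allL N1702 (tt N1702 F10719) (tt N1356 F10720) (tt N1702 F10721) (tt N1981 (iv F13390)) (tt N2111 D3646) (tt N1355 (iv D2671)) (tt N2112 D3647) (tt N2113 D3648) (tt N1368 F10722))
theorem Q1704 : ∀ i, i < 1704 → P i := stepQ 1703 Q1703 (allL N1703 (tt N1703 F10723) (tt N1357 F10724) (tt N1703 F10725) (tt N2114 D3649) (tt N1703 F10726) (tt N2113 (iv F14389)) (tt N1415 F10727) (tt N1355 (iv D2672)) (tt N1703 F10728))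
theorem Q1705 : ∀ i, i < 1705 → P i := stepQ 1704 Q1704 (allL N1704 (tt N1361 F10729) (tt N2111 (iv F14377)) (tt N1358 F10730) (tt N2115 D3650) (tt N1356 (iv D2673)) (tt N1704 F10731) (tt N2116 D3651) (tt N2117 D3652) (tt N1369 F10732))
theorem Q1706 : ∀ i, i < 1706 → P i := stepQ 1705 Q1705 (allL N1705 (tt N1362 F10733) (tt N2112 (iv F14382)) (tt N1359 F10734) (tt N1984 (iv F13403)) (tt N2116 (iv F14400)) (tt N1417 F10735) (tt N1356 (iv D2674)) (tt N2118 D3653) (tt N1370 F10736))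
theorem Q1707 : ∀ i, i < 1707 → P i := stepQ 1706 Q1706 (allL N1706 (tt N1363 F10737) (tt N2113 (iv F14387)) (tt N1360 F10738) (tt N2119 D3654) (tt N2117 (iv F14404)) (tt N1357 F10739) (tt N2118 (iv F14410)) (tt N1356 (iv D2675)) (tt N1706 F10740))
theorem Q1708 : ∀ i, i < 1708 → P i := stepQ 1707 Q1707 (allL N1707 (tt N1364 F10741) (tt N2114 (iv F14392)) (tt N1707 F10742) (tt N1357 (iv D2676)) (tt N2120 D3655) (tt N2119 (iv F14414)) (tt N1419 F10743) (tt N1986 (iv F13412)) (tt N1707 F10744))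
theorem Q1709 : ∀ i, i < 1709 → P i := stepQ 1708 Q1708 (allL N1708 (tt N1365 F10745) (tt N1708 F10746) (tt N2116 (iv F14399)) (tt N2052 (iv F38705)) (tt N1359 F10747) (tt N2043 F38663) (tt N1358 (iv D2677)) (tt N2042 (iv F38712)) (tt N1371 F10748))
theorem Q1710 : ∀ i, i < 1710 → P i := stepQ 1709 Q1709 (allL N1709 (tt N1366 F10749) (tt N1709 F10750) (tt N2117 (iv F14403)) (tt N2044 (iv F38840)) (tt N1360 F10751) (tt N1709 F10752) (tt N2042 F38766) (tt N1358 (iv D2678)) (tt N1709 F10753))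
theorem Q1711 : ∀ i, i < 1711 → P i := stepQ 1710 Q1710 (allL N1710 (tt N1367 F10754) (tt N1710 F10755) (tt N2118 (iv F14408)) (tt N1710 F10756) (tt N2042 F38765) (tt N1422 F10757) (tt N1360 F10758) (tt N1359 (iv D2679)) (tt N1710 F10759))
theorem Q1712 : ∀ i, i < 1712 → P i := stepQ 1711 Q1711 (allL N1711 (tt N2115 (iv F14395)) (tt N1711 F10760) (tt N2085 (iv F14201)) (tt N1361 (iv D2680)) (tt N1990 (iv F13437)) (tt N1711 F10761) (tt N2121 D3659) (tt N2122 D3660) (tt N1372 F10762))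
theorem Q1713 : ∀ i, i < 1713 → P i := stepQ 1712 Q1712 (allL N1712 (tt N2116 (iv F14398)) (tt N1712 F10763) (tt N1365 F10764) (tt N2121 (iv F14437)) (tt N1362 F10765) (tt N2046 F38626) (tt N1361 (iv D2681)) (tt N2045 (iv F38646)) (tt N1373 F10766))
theorem Q1714 : ∀ i, i < 1714 → P i := stepQ 1713 Q1713 (allL N1713 (tt N2117 (iv F14402)) (tt N1713 F10767) (tt N1366 F10768) (tt N2123 D3663) (tt N1363 F10769) (tt N1713 F10770) (tt N2045 F38696) (tt N1361 (iv D2682)) (tt N1713 F10771))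
theorem Q1715 : ∀ i, i < 1715 → P i := stepQ 1714 Q1714 (allL N1714 (tt N2118 (iv F14407)) (tt N1714 F10772) (tt N1367 F10773) (tt N2124 D3664) (tt N2045 F38695) (tt N1426 F10774) (tt N1363 F10775) (tt N1362 (iv D2683)) (tt N1714 F10776))
theorem Q1716 : ∀ i, i < 1716 → P i := stepQ 1715 Q1715 (allL N1715 (tt N2119 (iv F14412)) (tt N1715 F10777) (tt N1715 F10778) (tt N1363 (iv D2684)) (tt N2125 D3665) (tt N1364 F10779) (tt N2124 (iv F14457)) (tt N1993 (iv F13455)) (tt N1715 F10780))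
theorem Q1717 : ∀ i, i < 1717 → P i := stepQ 1716 Q1716 (allL N1716 (tt N2120 (iv F14416)) (tt N1716 F10781) (tt N1716 F10782) (tt N1716 F10783) (tt N1364 (iv D2685)) (tt N2126 D3666) (tt N1428 F10784) (tt N1437 (iv F37825)) (tt N1716 F10785))
theorem Q1718 : ∀ i, i < 1718 → P i := stepQ 1717 Q1717 (allL N1717 (tt N1717 F10813) (tt N1369 F10814) (tt N1717 F10815) (tt N2127 D3673) (tt N1368 (iv D2692)) (tt N1717 F10816) (tt N2128 D3674) (tt N1717 F10817) (tt N2111 (iv F14380)))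
theorem Q1719 : ∀ i, i < 1719 → P i := stepQ 1718 Q1718 (allL N1718 (tt N1718 F10818) (tt N1370 F10819) (tt N1718 F10820) (tt N1996 (iv F13514)) (tt N2128 (iv F14497)) (tt N1433 F10821) (tt N1368 (iv D2693)) (tt N1718 F10822) (tt N2112 (iv F14385)))
theorem Q1720 : ∀ i, i < 1720 → P i := stepQ 1719 Q1719 (allL N1719 (tt N1372 F10823) (tt N2127 (iv F14492)) (tt N2094 (iv F14282)) (tt N1369 (iv D2694)) (tt N1999 (iv F13525)) (tt N1719 F10824) (tt N2129 D3675) (tt N2130 D3676) (tt N2115 (iv F14397)))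
theorem Q1721 : ∀ i, i < 1721 → P i := stepQ 1720 Q1720 (allL N1720 (tt N1373 F10825) (tt N2128 (iv F14495)) (tt N1371 F10826) (tt N2129 (iv F14500)) (tt N1370 F10827) (tt N2131 D3677) (tt N1369 (iv D2695)) (tt N1720 F10828) (tt N2116 (iv F14401)))
theorem Q1722 : ∀ i, i < 1722 → P i := stepQ 1721 Q1721 (allL N1721 (tt N1374 F10829) (tt N1721 F10830) (tt N2131 (iv F14505)) (tt N2053 (iv F38706)) (tt N1436 F10831) (tt N1371 (iv D2696)) (tt N1721 F10832) (tt N1721 F10833) (tt N2043 F38664))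
theorem Q1723 : ∀ i, i < 1723 → P i := stepQ 1722 Q1722 (allL N1722 (tt N2129 (iv F14499)) (tt N1722 F10834) (tt N2102 (iv F14329)) (tt N1373 F10835) (tt N2003 (iv F13556)) (tt N2132 D3678) (tt N1372 (iv D2697)) (tt N2133 D3679) (tt N2121 (iv F14438)))
theorem Q1724 : ∀ i, i < 1724 → P i := stepQ 1723 Q1723 (allL N1723 (tt N2130 (iv F14501)) (tt N1723 F10836) (tt N2103 (iv F14331)) (tt N1723 F10837) (tt N2004 (iv F13558)) (tt N1723 F10838) (tt N2133 (iv F14514)) (tt N1372 (iv D2698)) (tt N2134 D3680))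
theorem Q1725 : ∀ i, i < 1725 → P i := stepQ 1724 Q1724 (allL N1724 (tt N2131 (iv F14504)) (tt N1724 F10839) (tt N1374 F10840) (tt N2132 (iv F14510)) (tt N1438 F10841) (tt N1373 (iv D2699)) (tt N1724 F10842) (tt N1724 F10843) (tt N2046 F38627))
theorem Q1726 : ∀ i, i < 1726 → P i := stepQ 1725 Q1725 (allL N1725 (tt N1725 F10844) (tt N1377 F10845) (tt N1725 F10846) (tt N2009 (iv F13612)) (tt N1725 F10847) (tt N1725 F10848) (tt N1375 (iv D2700)) (tt N2135 D3681) (tt N1725 F10849))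
theorem Q1727 : ∀ i, i < 1727 → P i := stepQ 1726 Q1726 (allL N1726 (tt N1726 F10850) (tt N1378 F10851) (tt N1726 F10852) (tt N2136 D3682) (tt N1726 F10853) (tt N1376 F10854) (tt N2135 (iv F14523)) (tt N1375 (iv D2701)) (tt N2137 D3683))
theorem Q1728 : ∀ i, i < 1728 → P i := stepQ 1727 Q1727 (allL N1727 (tt N1727 F10855) (tt N1379 F10856) (tt N2138 D3684) (tt N1376 (iv D2702)) (tt N2139 D3685) (tt N2136 (iv F14526)) (tt N1727 F10857) (tt N2011 (iv F13621)) (tt N2140 D3686))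
theorem Q1729 : ∀ i, i < 1729 → P i := stepQ 1728 Q1728 (allL N1728 (tt N1728 F10858) (tt N1380 F10859) (tt N1728 F10860) (tt N2140 (iv F14542)) (tt N1390 F10861) (tt N2137 (iv F14531)) (tt N1728 F10862) (tt N1728 F10863) (tt N1376 (iv D2703)))
theorem Q1730 : ∀ i, i < 1730 → P i := stepQ 1729 Q1729 (allL N1729 (tt N1383 F10864) (tt N2135 (iv F14519)) (tt N1381 F10865) (tt N2141 D3687) (tt N1729 F10866) (tt N1729 F10867) (tt N1378 F10868) (tt N1377 (iv D2704)) (tt N2142 D3688))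
theorem Q1731 : ∀ i, i < 1731 → P i := stepQ 1730 Q1730 (allL N1730 (tt N1384 F10869) (tt N2136 (iv F14525)) (tt N2098 (iv F14296)) (tt N1378 (iv D2705)) (tt N2143 D3689) (tt N1379 F10870) (tt N2141 (iv F14546)) (tt N2015 (iv F13642)) (tt N2144 D3690))
theorem Q1732 : ∀ i, i < 1732 → P i := stepQ 1731 Q1731 (allL N1731 (tt N1385 F10871) (tt N2137 (iv F14528)) (tt N1382 F10872) (tt N2144 (iv F14556)) (tt N1731 F10873) (tt N1380 F10874) (tt N2142 (iv F14551)) (tt N1731 F10875) (tt N1378 (iv D2706)))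
theorem Q1733 : ∀ i, i < 1733 → P i := stepQ 1732 Q1732 (allL N1732 (tt N1386 F10876) (tt N2139 (iv F14537)) (tt N2100 (iv F14302)) (tt N1391 F10877) (tt N1379 (iv D2707)) (tt N2145 D3691) (tt N1732 F10878) (tt N2017 (iv F13650)) (tt N2146 D3692))
theorem Q1734 : ∀ i, i < 1734 → P i := stepQ 1733 Q1733 (allL N1733 (tt N1387 F10879) (tt N2140 (iv F14541)) (tt N2101 (iv F14306)) (tt N1380 F10880) (tt N2146 (iv F14562)) (tt N2144 (iv F14557)) (tt N1733 F10881) (tt N2147 D3693) (tt N1379 (iv D2708)))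
theorem Q1735 : ∀ i, i < 1735 → P i := stepQ 1734 Q1734 (allL N1734 (tt N1388 F10882) (tt N1734 F10883) (tt N2142 (iv F14548)) (tt N2067 F38929) (tt N1734 F10884) (tt N1734 F10885) (tt N1382 F10886) (tt N1734 F10887) (tt N1381 (iv D2709)))
theorem Q1736 : ∀ i, i < 1736 → P i := stepQ 1735 Q1735 (allL N1735 (tt N2141 (iv F14544)) (tt N1735 F10888) (tt N2105 (iv F14344)) (tt N1383 (iv D2710)) (tt N2148 D3694) (tt N1735 F10889) (tt N1384 F10890) (tt N2024 (iv F13694)) (tt N2149 D3695))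
theorem Q1737 : ∀ i, i < 1737 → P i := stepQ 1736 Q1736 (allL N1736 (tt N2142 (iv F14547)) (tt N1736 F10891) (tt N1388 F10892) (tt N2149 (iv F14571)) (tt N1736 F10893) (tt N1736 F10894) (tt N1385 F10895) (tt N1736 F10896) (tt N1383 (iv D2711)))
theorem Q1738 : ∀ i, i < 1738 → P i := stepQ 1737 Q1737 (allL N1737 (tt N2143 (iv F14553)) (tt N1737 F10897) (tt N2106 (iv F14350)) (tt N1737 F10898) (tt N1384 (iv D2712)) (tt N2150 D3696) (tt N2148 (iv F14569)) (tt N2026 (iv F13701)) (tt N2151 D3697))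
theorem Q1739 : ∀ i, i < 1739 → P i := stepQ 1738 Q1738 (allL N1738 (tt N2144 (iv F14555)) (tt N1738 F10899) (tt N2107 (iv F14351)) (tt N1385 F10900) (tt N2151 (iv F14579)) (tt N1387 F10901) (tt N2149 (iv F14573)) (tt N2152 D3698) (tt N1384 (iv D2713)))
theorem Q1740 : ∀ i, i < 1740 → P i := stepQ 1739 Q1739 (allL N1739 (tt N2145 (iv F14558)) (tt N1739 F10902) (tt N2108 (iv F14354)) (tt N1393 F10903) (tt N2150 (iv F14576)) (tt N1386 (iv D2714)) (tt N2153 D3699) (tt N2028 (iv F13707)) (tt N2154 D3700))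
theorem Q1741 : ∀ i, i < 1741 → P i := stepQ 1740 Q1740 (allL N1740 (tt N2146 (iv F14560)) (tt N1740 F10904) (tt N2109 (iv F14356)) (tt N1394 F10905) (tt N1387 F10906) (tt N2154 (iv F14588)) (tt N1740 F10907) (tt N2155 D3701) (tt N1386 (iv D2715)))
theorem Q1742 : ∀ i, i < 1742 → P i := stepQ 1741 Q1741 (allL N1741 (tt N2147 (iv F14564)) (tt N1741 F10908) (tt N2110 (iv F14360)) (tt N1741 F10909) (tt N2155 (iv F14590)) (tt N2152 (iv F14582)) (tt N1741 F10910) (tt N1387 (iv D2716)) (tt N2030 (iv F13715)))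
theorem Q1743 : ∀ i, i < 1743 → P i := stepQ 1742 Q1742 (allL N1742 (tt N1742 F10911) (tt N1742 F10912) (tt N1389 (iv D2717)) (tt N1742 F10913) (tt N2156 D3702) (tt N1742 F10914) (tt N1742 F10915) (tt N1742 F10916) (tt N2157 D3703))
theorem Q1744 : ∀ i, i < 1744 → P i := stepQ 1743 Q1743 (allL N1743 (tt N1743 F10917) (tt N1391 F10918) (tt N2156 (iv F14594)) (tt N2139 (iv F14538)) (tt N1389 (iv D2718)) (tt N2158 D3704) (tt N1743 F10919) (tt N1743 F10920) (tt N2159 D3705))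
theorem Q1745 : ∀ i, i < 1745 → P i := stepQ 1744 Q1744 (allL N1744 (tt N1744 F10921) (tt N1392 F10922) (tt N2157 (iv F14599)) (tt N1390 F10923) (tt N2159 (iv F14609)) (tt N1744 F10924) (tt N1744 F10925) (tt N2160 D3706) (tt N1389 (iv D2719)))
theorem Q1746 : ∀ i, i < 1746 → P i := stepQ 1745 Q1745 (allL N1745 (tt N1393 F10926) (tt N2158 (iv F14604)) (tt N1745 F10927) (tt N2145 (iv F14559)) (tt N1745 F10928) (tt N1391 (iv D2720)) (tt N2161 D3707) (tt N1745 F10929) (tt N2162 D3708))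
theorem Q1747 : ∀ i, i < 1747 → P i := stepQ 1746 Q1746 (allL N1746 (tt N1394 F10930) (tt N2159 (iv F14608)) (tt N1746 F10931) (tt N2146 (iv F14561)) (tt N1392 F10932) (tt N2162 (iv F14625)) (tt N1746 F10933) (tt N2163 D3709) (tt N1391 (iv D2721)))
theorem Q1748 : ∀ i, i < 1748 → P i := stepQ 1747 Q1747 (allL N1747 (tt N1395 F10934) (tt N2160 (iv F14612)) (tt N1747 F10935) (tt N1747 F10936) (tt N2163 (iv F14628)) (tt N1747 F10937) (tt N1747 F10938) (tt N1392 (iv D2722)) (tt N1747 F10939))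
theorem Q1749 : ∀ i, i < 1749 → P i := stepQ 1748 Q1748 (allL N1748 (tt N2161 (iv F14617)) (tt N1748 F10940) (tt N1748 F10941) (tt N2153 (iv F14584)) (tt N1748 F10942) (tt N1748 F10943) (tt N1393 (iv D2723)) (tt N1748 F10944) (tt N2164 D3710))
theorem Q1750 : ∀ i, i < 1750 → P i := stepQ 1749 Q1749 (allL N1749 (tt N2162 (iv F14622)) (tt N1749 F10945) (tt N1749 F10946) (tt N2154 (iv F14587)) (tt N1749 F10947) (tt N1394 F10948) (tt N2164 (iv F14635)) (tt N2165 D3711) (tt N1393 (iv D2724)))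
theorem Q1751 : ∀ i, i < 1751 → P i := stepQ 1750 Q1750 (allL N1750 (tt N2163 (iv F14626)) (tt N1750 F10949) (tt N1750 F10950) (tt N2166 D3712) (tt N1395 F10951) (tt N2165 (iv F14639)) (tt N1750 F10952) (tt N1394 (iv D2725)) (tt N1750 F10953))
theorem Q1752 : ∀ i, i < 1752 → P i := stepQ 1751 Q1751 (allL N1751 (tt N1751 F11327) (tt N1398 F11328) (tt N1758 (iv F11433)) (tt N1751 F11329) (tt N2167 D3855) (tt N1397 (iv D2827)) (tt N1998 (iv F37772)) (tt N2168 D3857) (tt N1412 F37765))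
theorem Q1753 : ∀ i, i < 1753 → P i := stepQ 1752 Q1752 (allL N1752 (tt N1752 F11331) (tt N1399 F11332) (tt N1759 (iv F11438)) (tt N2169 D3858) (tt N1412 F11333) (tt N2168 (iv F15173)) (tt N1867 (iv F12954)) (tt N1397 (iv D2828)) (tt N2167 (iv F37764)))
theorem Q1754 : ∀ i, i < 1754 → P i := stepQ 1753 Q1753 (allL N1753 (tt N1402 F11334) (tt N2167 (iv F15164)) (tt N1400 F11335) (tt N2170 D3860) (tt N1398 (iv D2829)) (tt N1407 (iv F37694)) (tt N1872 (iv F37844)) (tt N1406 (iv F37691)) (tt N1399 F37778))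
theorem Q1755 : ∀ i, i < 1755 → P i := stepQ 1754 Q1754 (allL N1754 (tt N1403 F11342) (tt N2168 (iv F15172)) (tt N1401 F11343) (tt N2171 D3864) (tt N1406 F37701) (tt N1399 F11344) (tt N1987 (iv F37767)) (tt N1398 (iv D2831)) (tt N1407 (iv F37779)))
theorem Q1756 : ∀ i, i < 1756 → P i := stepQ 1755 Q1755 (allL N1755 (tt N1404 F11345) (tt N2169 (iv F15175)) (tt N1755 F11346) (tt N1399 (iv D2832)) (tt N1755 F11347) (tt N2171 (iv F15200)) (tt N1871 (iv F12970)) (tt N1755 F11348) (tt N2170 (iv F37781)))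
theorem Q1757 : ∀ i, i < 1757 → P i := stepQ 1756 Q1756 (allL N1756 (tt N2170 (iv F15182)) (tt N1756 F11367) (tt N1756 F11368) (tt N1402 (iv D2838)) (tt N1756 F11369) (tt N1410 (iv F37689)) (tt N1883 (iv F37958)) (tt N1427 F37637) (tt N1404 F37867))
theorem Q1758 : ∀ i, i < 1758 → P i := stepQ 1757 Q1757 (allL N1757 (tt N2171 (iv F15198)) (tt N1757 F11383) (tt N1757 F11384) (tt N1403 (iv D2842)) (tt N1423 (iv F37783)) (tt N1404 F11385) (tt N1994 (iv F37784)) (tt N1757 F11386) (tt N1410 (iv F37828)))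
theorem Q1759 : ∀ i, i < 1759 → P i := stepQ 1758 Q1758 (allL N1758 (tt N1758 F11431) (tt N1406 F11432) (tt N1751 F11433) (tt N1414 F11434) (tt N2168 F37644) (tt N1405 (iv D2855)) (tt N2172 D3896) (tt N2167 F37645) (tt N1411 F11435))
theorem Q1760 : ∀ i, i < 1760 → P i := stepQ 1759 Q1759 (allL N1759 (tt N1759 F11436) (tt N1407 F11437) (tt N1752 F11438) (tt N2173 D3898) (tt N1411 (iv F37699)) (tt N2167 F37642) (tt N1982 (iv F13396)) (tt N1405 (iv D2856)) (tt N2168 F37702))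
theorem Q1761 : ∀ i, i < 1761 → P i := stepQ 1760 Q1760 (allL N1760 (tt N1409 F11444) (tt N2172 (iv F15324)) (tt N1408 F11445) (tt N1417 F11446) (tt N1987 F37849) (tt N1984 (iv F13404)) (tt N1406 (iv D2858)) (tt N1872 F37850) (tt N1413 F11447))
theorem Q1762 : ∀ i, i < 1762 → P i := stepQ 1761 Q1761 (allL N1761 (tt N1410 F11451) (tt N2173 (iv F15333)) (tt N1761 F11452) (tt N1407 (iv D2860)) (tt N1434 (iv F37692)) (tt N2170 F37638) (tt N1986 (iv F13411)) (tt N1419 F11453) (tt N2171 F37753))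
theorem Q1763 : ∀ i, i < 1763 → P i := stepQ 1762 Q1762 (allL N1762 (tt N1762 F11551) (tt N1413 F11552) (tt N1599 (iv F37780)) (tt N1433 F11553) (tt N1982 F37761) (tt N1996 (iv F13515)) (tt N1411 (iv D2885)) (tt N1457 (iv F37845)) (tt N2172 (iv F15327)))
theorem Q1764 : ∀ i, i < 1764 → P i := stepQ 1763 Q1763 (allL N1763 (tt N1763 F11762) (tt N1416 F11763) (tt N1763 F11764) (tt N2174 D4019) (tt N1414 (iv D2949)) (tt N1763 F11765) (tt N2175 D4020) (tt N2176 D4021) (tt N1432 F11766))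
theorem Q1765 : ∀ i, i < 1765 → P i := stepQ 1764 Q1764 (allL N1764 (tt N1764 F11767) (tt N1417 F11768) (tt N1764 F11769) (tt N2172 (iv F15326)) (tt N2175 (iv F15778)) (tt N2112 (iv F14384)) (tt N1414 (iv D2950)) (tt N2177 D4022) (tt N1433 F11770))
theorem Q1766 : ∀ i, i < 1766 → P i := stepQ 1765 Q1765 (allL N1765 (tt N1765 F11771) (tt N1418 F11772) (tt N1765 F11773) (tt N2178 D4023) (tt N2176 (iv F15783)) (tt N1415 F11774) (tt N2177 (iv F15789)) (tt N1414 (iv D2951)) (tt N1765 F11775))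
theorem Q1767 : ∀ i, i < 1767 → P i := stepQ 1766 Q1766 (allL N1766 (tt N1766 F11776) (tt N1419 F11777) (tt N2179 D4024) (tt N1415 (iv D2952)) (tt N2180 D4025) (tt N2178 (iv F15793)) (tt N2114 (iv F14393)) (tt N2173 (iv F15334)) (tt N1766 F11778))
theorem Q1768 : ∀ i, i < 1768 → P i := stepQ 1767 Q1767 (allL N1767 (tt N1423 F11779) (tt N2174 (iv F15772)) (tt N1767 F11780) (tt N1416 (iv D2953)) (tt N2171 F37706) (tt N1767 F11781) (tt N2181 D4026) (tt N1767 F37294) (tt N1434 F11782))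
theorem Q1769 : ∀ i, i < 1769 → P i := stepQ 1768 Q1768 (allL N1768 (tt N1424 F11783) (tt N2175 (iv F15776)) (tt N1420 F11784) (tt N2181 (iv F15805)) (tt N1417 F11785) (tt N2182 D4028) (tt N1416 (iv D2954)) (tt N2183 D4029) (tt N1435 F11786))
theorem Q1770 : ∀ i, i < 1770 → P i := stepQ 1769 Q1769 (allL N1769 (tt N1425 F11787) (tt N2176 (iv F15781)) (tt N1421 F11788) (tt N1769 F37332) (tt N1418 F11789) (tt N1769 F11790) (tt N2183 (iv F15817)) (tt N1416 (iv D2955)) (tt N1769 F11791))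
theorem Q1771 : ∀ i, i < 1771 → P i := stepQ 1770 Q1770 (allL N1770 (tt N1426 F11792) (tt N2177 (iv F15787)) (tt N1422 F11793) (tt N2184 D4031) (tt N2183 (iv F15816)) (tt N2118 (iv F14409)) (tt N1418 F11794) (tt N1417 (iv D2956)) (tt N1770 F11795))
theorem Q1772 : ∀ i, i < 1772 → P i := stepQ 1771 Q1771 (allL N1771 (tt N1427 F11796) (tt N2178 (iv F15792)) (tt N1771 F11797) (tt N1418 (iv D2957)) (tt N1771 F37399) (tt N1419 F11798) (tt N2184 (iv F15824)) (tt N2170 (iv F37588)) (tt N1771 F11799))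
theorem Q1773 : ∀ i, i < 1773 → P i := stepQ 1772 Q1772 (allL N1772 (tt N1428 F11800) (tt N2180 (iv F15800)) (tt N1772 F11801) (tt N1772 F11802) (tt N1419 (iv D2958)) (tt N1772 F37487) (tt N2120 (iv F14419)) (tt N1434 (iv F37693)) (tt N1772 F11803))
theorem Q1774 : ∀ i, i < 1774 → P i := stepQ 1773 Q1773 (allL N1773 (tt N1429 F11804) (tt N1773 F11805) (tt N2182 (iv F15811)) (tt N1773 F11806) (tt N2043 F38662) (tt N1420 (iv D2959)) (tt N1773 F11807) (tt N2038 (iv F38711)) (tt N1436 F11808))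
theorem Q1775 : ∀ i, i < 1775 → P i := stepQ 1774 Q1774 (allL N1774 (tt N1430 F11809) (tt N1774 F11810) (tt N2183 (iv F15815)) (tt N2039 (iv F38839)) (tt N1422 F11811) (tt N2038 F38764) (tt N1421 F11812) (tt N1420 (iv D2960)) (tt N1774 F11813))
theorem Q1776 : ∀ i, i < 1776 → P i := stepQ 1775 Q1775 (allL N1775 (tt N1431 F11814) (tt N1775 F11815) (tt N1775 F37401) (tt N1421 (iv D2961)) (tt N1775 F11816) (tt N1775 F11817) (tt N2039 F38878) (tt N1775 F11818) (tt N1775 F11819))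
theorem Q1777 : ∀ i, i < 1777 → P i := stepQ 1776 Q1776 (allL N1776 (tt N2181 (iv F15803)) (tt N1776 F11820) (tt N1776 F11821) (tt N1424 F11822) (tt N1994 F37870) (tt N2185 D4037) (tt N1423 (iv D2962)) (tt N1776 F37320) (tt N1437 F11823))
theorem Q1778 : ∀ i, i < 1778 → P i := stepQ 1777 Q1777 (allL N1777 (tt N2182 (iv F15810)) (tt N1777 F11827) (tt N1429 F11828) (tt N2185 (iv F15851)) (tt N2046 F38625) (tt N1424 (iv D2964)) (tt N1777 F11829) (tt N2040 (iv F38643)) (tt N1438 F11830))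
theorem Q1779 : ∀ i, i < 1779 → P i := stepQ 1778 Q1778 (allL N1778 (tt N2183 (iv F15814)) (tt N1778 F11831) (tt N1430 F11832) (tt N1778 F37378) (tt N1426 F11833) (tt N2040 F38691) (tt N1425 F11834) (tt N1424 (iv D2965)) (tt N1778 F11835))
theorem Q1780 : ∀ i, i < 1780 → P i := stepQ 1779 Q1779 (allL N1779 (tt N2184 (iv F15822)) (tt N1779 F11839) (tt N1779 F11840) (tt N1426 (iv D2967)) (tt N1779 F37469) (tt N2124 (iv F14456)) (tt N1427 F11841) (tt N1883 F38040) (tt N1779 F11842))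
theorem Q1781 : ∀ i, i < 1781 → P i := stepQ 1780 Q1780 (allL N1780 (tt N1780 F11879) (tt N1434 F11880) (tt N2186 D4055) (tt N1432 (iv D2976)) (tt N2173 F37640) (tt N1780 F11881) (tt N2187 D4056) (tt N2180 F37641) (tt N2174 (iv F15774)))
theorem Q1782 : ∀ i, i < 1782 → P i := stepQ 1781 Q1781 (allL N1781 (tt N1781 F11882) (tt N1435 F11883) (tt N1781 F11884) (tt N2187 (iv F15932)) (tt N1433 F11885) (tt N2188 D4058) (tt N1432 (iv D2977)) (tt N1781 F11886) (tt N2175 (iv F15779)))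
theorem Q1783 : ∀ i, i < 1783 → P i := stepQ 1782 Q1782 (allL N1782 (tt N1437 F11887) (tt N2187 (iv F15931)) (tt N1782 F11888) (tt N1435 F11889) (tt N1986 F37749) (tt N2189 D4059) (tt N1434 (iv D2978)) (tt N2120 F37750) (tt N2181 (iv F15806)))
theorem Q1784 : ∀ i, i < 1784 → P i := stepQ 1783 Q1783 (allL N1783 (tt N1438 F11894) (tt N2188 (iv F15938)) (tt N1436 F11895) (tt N2189 (iv F15944)) (tt N2131 (iv F14506)) (tt N1435 (iv D2980)) (tt N1783 F11896) (tt N1783 F11897) (tt N2182 (iv F15813)))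
theorem Q1785 : ∀ i, i < 1785 → P i := stepQ 1784 Q1784 (allL N1784 (tt N2189 (iv F15942)) (tt N1784 F11898) (tt N1784 F11899) (tt N1438 F11900) (tt N2190 D4062) (tt N1437 (iv D2981)) (tt N1784 F11901) (tt N2126 F37902) (tt N2185 (iv F15853)))
theorem Q1786 : ∀ i, i < 1786 → P i := stepQ 1785 Q1785 (allL N1785 (tt N1441 F12165) (tt N2191 D4145) (tt N1439 (iv D3044)) (tt N1785 F12166) (tt N1899 (iv F13106)) (tt N2192 D4146) (tt N1785 F12167) (tt N2193 D4147) (tt N1831 (iv F12825)))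
theorem Q1787 : ∀ i, i < 1787 → P i := stepQ 1786 Q1786 (allL N1786 (tt N1442 F12168) (tt N1536 F12169) (tt N2192 (iv F16307)) (tt N1440 F12170) (tt N2194 D4148) (tt N1439 (iv D3045)) (tt N2037 F38539) (tt N2195 D4150) (tt N1832 (iv F12828)))
theorem Q1788 : ∀ i, i < 1788 → P i := stepQ 1787 Q1787 (allL N1787 (tt N1443 F12171) (tt N1537 F12172) (tt N2193 (iv F16310)) (tt N1787 F12173) (tt N1901 (iv F13115)) (tt N2195 (iv F16322)) (tt N1787 F12174) (tt N1439 (iv D3046)) (tt N2196 D4151))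
theorem Q1789 : ∀ i, i < 1789 → P i := stepQ 1788 Q1788 (allL N1788 (tt N2192 (iv F16306)) (tt N1450 F12181) (tt N1442 F12182) (tt N1788 F12183) (tt N2197 D4152) (tt N1441 (iv D3048)) (tt N2036 F38460) (tt N2198 D4154) (tt N1835 (iv F12840)))
theorem Q1790 : ∀ i, i < 1790 → P i := stepQ 1789 Q1789 (allL N1789 (tt N2193 (iv F16309)) (tt N1451 F12184) (tt N1443 F12185) (tt N2199 D4155) (tt N1904 (iv F13129)) (tt N2198 (iv F16335)) (tt N1789 F12186) (tt N1441 (iv D3049)) (tt N2200 D4156))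
theorem Q1791 : ∀ i, i < 1791 → P i := stepQ 1790 Q1790 (allL N1790 (tt N2194 (iv F16312)) (tt N1444 F12187) (tt N2197 (iv F16328)) (tt N1790 F12188) (tt N1442 (iv D3050)) (tt N1905 (iv F13133)) (tt N2007 F38453) (tt N2201 D4158) (tt N1837 (iv F12848)))
theorem Q1792 : ∀ i, i < 1792 → P i := stepQ 1791 Q1791 (allL N1791 (tt N2195 (iv F16319)) (tt N1445 F12192) (tt N2198 (iv F16334)) (tt N1791 F12193) (tt N2201 (iv F16347)) (tt N1443 F12194) (tt N2033 F38542) (tt N1442 (iv D3052)) (tt N2202 D4160))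
theorem Q1793 : ∀ i, i < 1793 → P i := stepQ 1792 Q1792 (allL N1792 (tt N2196 (iv F16323)) (tt N1446 F12195) (tt N2200 (iv F16341)) (tt N1792 F12196) (tt N1908 (iv F13142)) (tt N2202 (iv F16354)) (tt N1792 F12197) (tt N1840 (iv F12858)) (tt N1443 (iv D3053)))
theorem Q1794 : ∀ i, i < 1794 → P i := stepQ 1793 Q1793 (allL N1793 (tt N1546 F12202) (tt N2201 (iv F16346)) (tt N1455 F12203) (tt N2203 D4163) (tt N1445 F12204) (tt N1910 (iv F13153)) (tt N1979 F38455) (tt N1444 (iv D3055)) (tt N2204 D4164))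
theorem Q1795 : ∀ i, i < 1795 → P i := stepQ 1794 Q1794 (allL N1794 (tt N1548 F12210) (tt N2202 (iv F16352)) (tt N1456 F12211) (tt N1794 F12212) (tt N2204 (iv F16368)) (tt N1446 F12213) (tt N2034 F38545) (tt N1844 (iv F12871)) (tt N1445 (iv D3057)))
theorem Q1796 : ∀ i, i < 1796 → P i := stepQ 1795 Q1795 (allL N1795 (tt N2191 (iv F16302)) (tt N1447 (iv D3058)) (tt N1563 F12214) (tt N1795 F12215) (tt N1934 (iv F13226)) (tt N2205 D4166) (tt N1795 F12216) (tt N2206 D4167) (tt N1845 (iv F12875)))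
theorem Q1797 : ∀ i, i < 1797 → P i := stepQ 1796 Q1796 (allL N1796 (tt N1450 F12217) (tt N2205 (iv F16374)) (tt N1448 F12218) (tt N1796 F12219) (tt N2207 D4168) (tt N1447 (iv D3059)) (tt N2035 F38357) (tt N2208 D4170) (tt N1846 (iv F12879)))
theorem Q1798 : ∀ i, i < 1798 → P i := stepQ 1797 Q1797 (allL N1797 (tt N1451 F12220) (tt N2206 (iv F16377)) (tt N1449 F12221) (tt N2209 D4171) (tt N1936 (iv F13235)) (tt N2208 (iv F16388)) (tt N1797 F12222) (tt N1447 (iv D3060)) (tt N2210 D4172))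
theorem Q1799 : ∀ i, i < 1799 → P i := stepQ 1798 Q1798 (allL N1798 (tt N1452 F12223) (tt N1566 F12224) (tt N2207 (iv F16381)) (tt N1459 F12225) (tt N1448 (iv D3061)) (tt N1937 (iv F13240)) (tt N2002 F38232) (tt N2211 D4174) (tt N1848 (iv F12887)))
theorem Q1800 : ∀ i, i < 1800 → P i := stepQ 1799 Q1799 (allL N1799 (tt N1453 F12230) (tt N1568 F12231) (tt N2208 (iv F16387)) (tt N1464 F12232) (tt N2211 (iv F16402)) (tt N1449 F12233) (tt N2019 F38358) (tt N1448 (iv D3063)) (tt N2212 D4176))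
theorem Q1801 : ∀ i, i < 1801 → P i := stepQ 1800 Q1800 (allL N1800 (tt N1454 F12234) (tt N1569 F12235) (tt N2210 (iv F16394)) (tt N1465 F12236) (tt N1940 (iv F13254)) (tt N2212 (iv F16411)) (tt N1800 F12237) (tt N1851 (iv F12899)) (tt N1449 (iv D3064)))
theorem Q1802 : ∀ i, i < 1802 → P i := stepQ 1801 Q1801 (allL N1801 (tt N2207 (iv F16380)) (tt N2197 (iv F16327)) (tt N1452 F12238) (tt N2213 D4177) (tt N1450 (iv D3065)) (tt N1941 (iv F13258)) (tt N2006 F38317) (tt N2214 D4179) (tt N1852 (iv F12902)))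
theorem Q1803 : ∀ i, i < 1803 → P i := stepQ 1802 Q1802 (allL N1802 (tt N2208 (iv F16386)) (tt N2198 (iv F16333)) (tt N1453 F12242) (tt N2215 D4181) (tt N2214 (iv F16417)) (tt N1451 F12243) (tt N2031 F38462) (tt N1450 (iv D3067)) (tt N2216 D4182))
theorem Q1804 : ∀ i, i < 1804 → P i := stepQ 1803 Q1803 (allL N1803 (tt N2209 (iv F16389)) (tt N2199 (iv F16336)) (tt N1467 F12244) (tt N1451 (iv D3068)) (tt N2217 D4183) (tt N2215 (iv F16422)) (tt N1803 F12245) (tt N1803 F12246) (tt N2218 D4184))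
theorem Q1805 : ∀ i, i < 1805 → P i := stepQ 1804 Q1804 (allL N1804 (tt N2210 (iv F16393)) (tt N2200 (iv F16340)) (tt N1454 F12247) (tt N2218 (iv F16430)) (tt N1945 (iv F13270)) (tt N2216 (iv F16425)) (tt N1804 F12248) (tt N1856 (iv F12915)) (tt N1451 (iv D3069)))
theorem Q1806 : ∀ i, i < 1806 → P i := stepQ 1805 Q1805 (allL N1805 (tt N2211 (iv F16400)) (tt N1455 F12252) (tt N2214 (iv F16416)) (tt N1974 F38319) (tt N1453 F12253) (tt N1947 (iv F13279)) (tt N1975 F38320) (tt N1452 (iv D3071)) (tt N2219 D4188))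
theorem Q1807 : ∀ i, i < 1807 → P i := stepQ 1806 Q1806 (allL N1806 (tt N2212 (iv F16408)) (tt N1456 F12258) (tt N2216 (iv F16424)) (tt N1469 F12259) (tt N2219 (iv F16442)) (tt N1454 F12260) (tt N2032 F38466) (tt N1860 (iv F12930)) (tt N1453 (iv D3073)))
theorem Q1808 : ∀ i, i < 1808 → P i := stepQ 1807 Q1807 (allL N1807 (tt N1582 F12270) (tt N2219 (iv F16441)) (tt N2204 (iv F16367)) (tt N1978 F38457) (tt N1456 F12271) (tt N1952 (iv F13302)) (tt N1980 F38458) (tt N1864 (iv F12942)) (tt N1455 (iv D3077)))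
theorem Q1809 : ∀ i, i < 1809 → P i := stepQ 1808 Q1808 (allL N1808 (tt N1808 F12276) (tt N1458 F12277) (tt N1598 F12278) (tt N1808 F12279) (tt N2220 D4195) (tt N1457 (iv D3079)) (tt N1997 F37944) (tt N1996 F37945) (tt N1866 (iv F12950)))
theorem Q1810 : ∀ i, i < 1810 → P i := stepQ 1809 Q1809 (allL N1809 (tt N1460 F12284) (tt N2220 (iv F16464)) (tt N1459 F12285) (tt N2221 D4200) (tt N1458 (iv D3081)) (tt N1983 (iv F13399)) (tt N2001 F38095) (tt N2000 F38096) (tt N1868 (iv F12958)))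
theorem Q1811 : ∀ i, i < 1811 → P i := stepQ 1810 Q1810 (allL N1810 (tt N2221 (iv F16484)) (tt N1810 F12315) (tt N2213 (iv F16412)) (tt N1460 (iv D3090)) (tt N1810 F12316) (tt N1990 (iv F13438)) (tt N2005 F38197) (tt N2222 D4214) (tt N1877 (iv F12994)))
theorem Q1812 : ∀ i, i < 1812 → P i := stepQ 1811 Q1811 (allL N1811 (tt N1811 F12372) (tt N1462 F12373) (tt N1611 F12374) (tt N1811 F12375) (tt N2009 F38494) (tt N1461 (iv D3108)) (tt N2008 F38495) (tt N2223 D4240) (tt N1811 F12376))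
theorem Q1813 : ∀ i, i < 1813 → P i := stepQ 1812 Q1812 (allL N1812 (tt N1812 F12377) (tt N1463 F12378) (tt N1612 F12379) (tt N2224 D4241) (tt N1812 F12380) (tt N2223 (iv F16621)) (tt N1812 F12381) (tt N1461 (iv D3109)) (tt N2225 D4242))
theorem Q1814 : ∀ i, i < 1814 → P i := stepQ 1813 Q1813 (allL N1813 (tt N1466 F12391) (tt N2223 (iv F16619)) (tt N1464 F12392) (tt N2226 D4247) (tt N2014 F38490) (tt N1463 F12393) (tt N2013 F38491) (tt N1462 (iv D3112)) (tt N2227 D4248))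
theorem Q1815 : ∀ i, i < 1815 → P i := stepQ 1814 Q1814 (allL N1814 (tt N1467 F12394) (tt N2224 (iv F16623)) (tt N2209 (iv F16390)) (tt N1463 (iv D3113)) (tt N2228 D4249) (tt N2226 (iv F16650)) (tt N1814 F12395) (tt N1814 F12396) (tt N2229 D4250))
theorem Q1816 : ∀ i, i < 1816 → P i := stepQ 1815 Q1815 (allL N1815 (tt N1468 F12397) (tt N2225 (iv F16627)) (tt N1465 F12398) (tt N2229 (iv F16661)) (tt N1815 F12399) (tt N2227 (iv F16654)) (tt N1815 F12400) (tt N1815 F12401) (tt N1463 (iv D3114)))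
theorem Q1817 : ∀ i, i < 1817 → P i := stepQ 1816 Q1816 (allL N1816 (tt N1469 F12415) (tt N1620 F12416) (tt N2227 (iv F16653)) (tt N2212 (iv F16410)) (tt N2021 F38492) (tt N1465 F12417) (tt N2020 F38493) (tt N1816 F12418) (tt N1464 (iv D3118)))
theorem Q1818 : ∀ i, i < 1818 → P i := stepQ 1817 Q1817 (allL N1817 (tt N2226 (iv F16649)) (tt N1817 F12436) (tt N2215 (iv F16421)) (tt N1466 (iv D3123)) (tt N2230 D4264) (tt N1467 F12437) (tt N2022 F38536) (tt N1817 F12438) (tt N2231 D4265))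
theorem Q1819 : ∀ i, i < 1819 → P i := stepQ 1818 Q1818 (allL N1818 (tt N2227 (iv F16652)) (tt N1818 F12439) (tt N1469 F12440) (tt N2231 (iv F16724)) (tt N2025 F38537) (tt N1468 F12441) (tt N2023 F38538) (tt N1818 F12442) (tt N1466 (iv D3124)))
theorem Q1820 : ∀ i, i < 1820 → P i := stepQ 1819 Q1819 (allL N1819 (tt N2228 (iv F16656)) (tt N1819 F12443) (tt N2217 (iv F16426)) (tt N1819 F12444) (tt N1467 (iv D3125)) (tt N2232 D4266) (tt N1819 F12445) (tt N1819 F12446) (tt N2233 D4267))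
theorem Q1821 : ∀ i, i < 1821 → P i := stepQ 1820 Q1820 (allL N1820 (tt N2229 (iv F16660)) (tt N1820 F12447) (tt N2218 (iv F16429)) (tt N1468 F12448) (tt N2233 (iv F16731)) (tt N2231 (iv F16725)) (tt N1820 F12449) (tt N2234 D4268) (tt N1467 (iv D3126)))
theorem Q1822 : ∀ i, i < 1822 → P i := stepQ 1821 Q1821 (allL N1821 (tt N1471 F12778) (tt N1889 (iv F13056)) (tt N2235 D4380) (tt N1470 (iv D3209)) (tt N1821 F12779) (tt N2236 D4381) (tt N1821 F12780) (tt N2237 D4382) (tt N1821 F12781))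
theorem Q1823 : ∀ i, i < 1823 → P i := stepQ 1822 Q1822 (allL N1822 (tt N1472 F12782) (tt N1890 (iv F13061)) (tt N1822 F12783) (tt N2236 (iv F17168)) (tt N1822 F12784) (tt N1470 (iv D3210)) (tt N2238 D4383) (tt N1477 F12785) (tt N1822 F12786))
theorem Q1824 : ∀ i, i < 1824 → P i := stepQ 1823 Q1823 (allL N1823 (tt N2235 (iv F17162)) (tt N1823 F12787) (tt N1471 (iv D3211)) (tt N1823 F12788) (tt N1823 F12789) (tt N2239 D4384) (tt N1823 F12790) (tt N2240 D4385) (tt N1823 F12791))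
theorem Q1825 : ∀ i, i < 1825 → P i := stepQ 1824 Q1824 (allL N1824 (tt N2236 (iv F17167)) (tt N1473 F12792) (tt N2239 (iv F17181)) (tt N1472 F12793) (tt N2241 D4386) (tt N1471 (iv D3212)) (tt N2242 D4387) (tt N2243 D4388) (tt N1824 F12794))
theorem Q1826 : ∀ i, i < 1826 → P i := stepQ 1825 Q1825 (allL N1825 (tt N2237 (iv F17170)) (tt N1474 F12795) (tt N2240 (iv F17185)) (tt N1480 F12796) (tt N1825 F12797) (tt N2243 (iv F17198)) (tt N1825 F12798) (tt N1471 (iv D3213)) (tt N2244 D4389))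
theorem Q1827 : ∀ i, i < 1827 → P i := stepQ 1826 Q1826 (allL N1826 (tt N2238 (iv F17174)) (tt N1475 F12799) (tt N1826 F12800) (tt N2242 (iv F17193)) (tt N1826 F12801) (tt N1826 F12802) (tt N1472 (iv D3214)) (tt N1481 F12803) (tt N1826 F12804))
theorem Q1828 : ∀ i, i < 1828 → P i := stepQ 1827 Q1827 (allL N1827 (tt N1895 (iv F13084)) (tt N2241 (iv F17188)) (tt N1827 F12805) (tt N1827 F12806) (tt N1473 (iv D3215)) (tt N1827 F12807) (tt N2245 D4390) (tt N2246 D4391) (tt N1827 F12808))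
theorem Q1829 : ∀ i, i < 1829 → P i := stepQ 1828 Q1828 (allL N1828 (tt N1896 (iv F13089)) (tt N2242 (iv F17192)) (tt N1828 F12809) (tt N1475 F12810) (tt N2245 (iv F17206)) (tt N1828 F12811) (tt N1473 (iv D3216)) (tt N2247 D4392) (tt N1828 F12812))
theorem Q1830 : ∀ i, i < 1830 → P i := stepQ 1829 Q1829 (allL N1829 (tt N1897 (iv F13094)) (tt N2243 (iv F17196)) (tt N1829 F12813) (tt N1484 F12814) (tt N2246 (iv F17209)) (tt N1474 F12815) (tt N2247 (iv F17214)) (tt N1473 (iv D3217)) (tt N2248 D4393))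
theorem Q1831 : ∀ i, i < 1831 → P i := stepQ 1830 Q1830 (allL N1830 (tt N1898 (iv F13098)) (tt N2244 (iv F17199)) (tt N1830 F12816) (tt N1485 F12817) (tt N1830 F12818) (tt N2248 (iv F17217)) (tt N1830 F12819) (tt N1830 F12820) (tt N1474 (iv D3218)))
theorem Q1832 : ∀ i, i < 1832 → P i := stepQ 1831 Q1831 (allL N1831 (tt N1478 F12821) (tt N2249 D4394) (tt N1476 (iv D3219)) (tt N1831 F12822) (tt N1535 F12823) (tt N2250 D4395) (tt N1831 F12824) (tt N2251 D4396) (tt N1785 F12825))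
theorem Q1833 : ∀ i, i < 1833 → P i := stepQ 1832 Q1832 (allL N1832 (tt N1479 F12826) (tt N1900 (iv F13110)) (tt N2250 (iv F17225)) (tt N1477 F12827) (tt N2252 D4397) (tt N1476 (iv D3220)) (tt N2253 D4398) (tt N2254 D4399) (tt N1786 F12828))
theorem Q1834 : ∀ i, i < 1834 → P i := stepQ 1833 Q1833 (allL N1833 (tt N1480 F12829) (tt N1901 (iv F13114)) (tt N2251 (iv F17229)) (tt N2237 (iv F17171)) (tt N1537 F12830) (tt N2254 (iv F17241)) (tt N1833 F12831) (tt N1476 (iv D3221)) (tt N2255 D4400))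
theorem Q1835 : ∀ i, i < 1835 → P i := stepQ 1834 Q1834 (allL N1834 (tt N1481 F12832) (tt N1902 (iv F13118)) (tt N1834 F12833) (tt N2253 (iv F17237)) (tt N1834 F12834) (tt N1834 F12835) (tt N1477 (iv D3222)) (tt N2238 (iv F17178)) (tt N1635 (iv F38554)))
theorem Q1836 : ∀ i, i < 1836 → P i := stepQ 1835 Q1835 (allL N1835 (tt N2250 (iv F17224)) (tt N1490 F12837) (tt N1479 F12838) (tt N1835 F12839) (tt N2256 D4401) (tt N1478 (iv D3223)) (tt N2257 D4402) (tt N2258 D4403) (tt N1788 F12840))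
theorem Q1837 : ∀ i, i < 1837 → P i := stepQ 1836 Q1836 (allL N1836 (tt N2251 (iv F17228)) (tt N1491 F12841) (tt N1480 F12842) (tt N2259 D4404) (tt N1540 F12843) (tt N2258 (iv F17257)) (tt N1836 F12844) (tt N1478 (iv D3224)) (tt N2260 D4405))
theorem Q1838 : ∀ i, i < 1838 → P i := stepQ 1837 Q1837 (allL N1837 (tt N2252 (iv F17232)) (tt N1482 F12845) (tt N2256 (iv F17247)) (tt N1837 F12846) (tt N1479 (iv D3225)) (tt N1541 F12847) (tt N2261 D4406) (tt N2262 D4407) (tt N1790 F12848))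
theorem Q1839 : ∀ i, i < 1839 → P i := stepQ 1838 Q1838 (allL N1838 (tt N2253 (iv F17236)) (tt N1483 F12849) (tt N2257 (iv F17251)) (tt N1481 F12850) (tt N2261 (iv F17268)) (tt N1838 F12851) (tt N1479 (iv D3226)) (tt N2263 D4408) (tt N1634 (iv F38474)))
theorem Q1840 : ∀ i, i < 1840 → P i := stepQ 1839 Q1839 (allL N1839 (tt N2254 (iv F17240)) (tt N1484 F12853) (tt N2258 (iv F17256)) (tt N2243 (iv F17197)) (tt N2262 (iv F17271)) (tt N1480 F12854) (tt N2263 (iv F17275)) (tt N1479 (iv D3227)) (tt N2264 D4409))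
theorem Q1841 : ∀ i, i < 1841 → P i := stepQ 1840 Q1840 (allL N1840 (tt N2255 (iv F17242)) (tt N1485 F12855) (tt N2260 (iv F17262)) (tt N2244 (iv F17200)) (tt N1544 F12856) (tt N2264 (iv F17277)) (tt N1840 F12857) (tt N1792 F12858) (tt N1480 (iv D3228)))
theorem Q1842 : ∀ i, i < 1842 → P i := stepQ 1841 Q1841 (allL N1841 (tt N1909 (iv F13145)) (tt N2261 (iv F17266)) (tt N1496 F12859) (tt N1841 F12860) (tt N1483 F12861) (tt N2265 D4410) (tt N1482 (iv D3229)) (tt N2266 D4411) (tt N1610 (iv F38341)))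
theorem Q1843 : ∀ i, i < 1843 → P i := stepQ 1842 Q1842 (allL N1842 (tt N1910 (iv F13150)) (tt N2262 (iv F17270)) (tt N1497 F12863) (tt N2267 D4412) (tt N1484 F12864) (tt N1546 F12865) (tt N2266 (iv F17286)) (tt N1482 (iv D3230)) (tt N2268 D4413))
theorem Q1844 : ∀ i, i < 1844 → P i := stepQ 1843 Q1843 (allL N1843 (tt N1911 (iv F13154)) (tt N2263 (iv F17273)) (tt N1498 F12866) (tt N2247 (iv F17212)) (tt N2266 (iv F17285)) (tt N1843 F12867) (tt N1484 F12868) (tt N1483 (iv D3231)) (tt N2269 D4414))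
theorem Q1845 : ∀ i, i < 1845 → P i := stepQ 1844 Q1844 (allL N1844 (tt N1912 (iv F13158)) (tt N2264 (iv F17276)) (tt N1499 F12869) (tt N2248 (iv F17216)) (tt N2268 (iv F17290)) (tt N1485 F12870) (tt N2269 (iv F17295)) (tt N1794 F12871) (tt N1484 (iv D3232)))
theorem Q1846 : ∀ i, i < 1846 → P i := stepQ 1845 Q1845 (allL N1845 (tt N2249 (iv F17219)) (tt N1486 (iv D3233)) (tt N1934 (iv F13224)) (tt N1845 F12872) (tt N1563 F12873) (tt N2270 D4415) (tt N1845 F12874) (tt N2271 D4416) (tt N1795 F12875))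
theorem Q1847 : ∀ i, i < 1847 → P i := stepQ 1846 Q1846 (allL N1846 (tt N1490 F12876) (tt N2270 (iv F17297)) (tt N1487 F12877) (tt N1846 F12878) (tt N2272 D4417) (tt N1486 (iv D3234)) (tt N2273 D4418) (tt N2274 D4419) (tt N1796 F12879))
theorem Q1848 : ∀ i, i < 1848 → P i := stepQ 1847 Q1847 (allL N1847 (tt N1491 F12880) (tt N2271 (iv F17300)) (tt N1488 F12881) (tt N2275 D4420) (tt N1565 F12882) (tt N2274 (iv F17314)) (tt N1847 F12883) (tt N1486 (iv D3235)) (tt N2276 D4421))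
theorem Q1849 : ∀ i, i < 1849 → P i := stepQ 1848 Q1848 (allL N1848 (tt N1492 F12884) (tt N1937 (iv F13238)) (tt N2272 (iv F17304)) (tt N1503 F12885) (tt N1487 (iv D3236)) (tt N1566 F12886) (tt N2277 D4422) (tt N2278 D4423) (tt N1798 F12887))
theorem Q1850 : ∀ i, i < 1850 → P i := stepQ 1849 Q1849 (allL N1849 (tt N1493 F12888) (tt N1938 (iv F13243)) (tt N2273 (iv F17308)) (tt N1489 F12889) (tt N2277 (iv F17326)) (tt N1849 F12890) (tt N1487 (iv D3237)) (tt N2279 D4424) (tt N1632 (iv F38242)))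
theorem Q1851 : ∀ i, i < 1851 → P i := stepQ 1850 Q1850 (allL N1850 (tt N1494 F12892) (tt N1939 (iv F13248)) (tt N2274 (iv F17313)) (tt N1850 F12893) (tt N2278 (iv F17329)) (tt N1488 F12894) (tt N2279 (iv F17334)) (tt N1487 (iv D3238)) (tt N2280 D4425))
theorem Q1852 : ∀ i, i < 1852 → P i := stepQ 1851 Q1851 (allL N1851 (tt N1495 F12895) (tt N1940 (iv F13252)) (tt N2276 (iv F17320)) (tt N1851 F12896) (tt N1569 F12897) (tt N2280 (iv F17337)) (tt N1851 F12898) (tt N1800 F12899) (tt N1488 (iv D3239)))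
theorem Q1853 : ∀ i, i < 1853 → P i := stepQ 1852 Q1852 (allL N1852 (tt N2272 (iv F17303)) (tt N2256 (iv F17246)) (tt N1492 F12900) (tt N2281 D4426) (tt N1490 (iv D3240)) (tt N1570 F12901) (tt N2282 D4427) (tt N2283 D4428) (tt N1801 F12902))
theorem Q1854 : ∀ i, i < 1854 → P i := stepQ 1853 Q1853 (allL N1853 (tt N2273 (iv F17307)) (tt N2257 (iv F17250)) (tt N1493 F12903) (tt N1853 F12904) (tt N2282 (iv F17344)) (tt N1853 F12905) (tt N1490 (iv D3241)) (tt N2284 D4429) (tt N1633 (iv F38349)))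
theorem Q1855 : ∀ i, i < 1855 → P i := stepQ 1854 Q1854 (allL N1854 (tt N2274 (iv F17312)) (tt N2258 (iv F17255)) (tt N1494 F12907) (tt N2285 D4430) (tt N2283 (iv F17347)) (tt N1491 F12908) (tt N2284 (iv F17351)) (tt N1490 (iv D3242)) (tt N2286 D4431))
theorem Q1856 : ∀ i, i < 1856 → P i := stepQ 1855 Q1855 (allL N1855 (tt N2275 (iv F17315)) (tt N2259 (iv F17258)) (tt N1855 F12909) (tt N1491 (iv D3243)) (tt N2287 D4432) (tt N2285 (iv F17353)) (tt N1855 F12910) (tt N1855 F12911) (tt N2288 D4433))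
theorem Q1857 : ∀ i, i < 1857 → P i := stepQ 1856 Q1856 (allL N1856 (tt N2276 (iv F17319)) (tt N2260 (iv F17261)) (tt N1495 F12912) (tt N2288 (iv F17363)) (tt N1574 F12913) (tt N2286 (iv F17356)) (tt N1856 F12914) (tt N1804 F12915) (tt N1491 (iv D3244)))
theorem Q1858 : ∀ i, i < 1858 → P i := stepQ 1857 Q1857 (allL N1857 (tt N2277 (iv F17324)) (tt N1496 F12916) (tt N2282 (iv F17343)) (tt N1512 F12917) (tt N1493 F12918) (tt N2289 D4434) (tt N1492 (iv D3245)) (tt N2290 D4435) (tt N1609 (iv F38218)))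
theorem Q1859 : ∀ i, i < 1859 → P i := stepQ 1858 Q1858 (allL N1858 (tt N2278 (iv F17328)) (tt N1497 F12920) (tt N2283 (iv F17346)) (tt N2291 D4436) (tt N1494 F12921) (tt N1576 F12922) (tt N2290 (iv F17372)) (tt N1492 (iv D3246)) (tt N2292 D4437))
theorem Q1860 : ∀ i, i < 1860 → P i := stepQ 1859 Q1859 (allL N1859 (tt N2279 (iv F17331)) (tt N1498 F12923) (tt N2284 (iv F17349)) (tt N1859 F12924) (tt N2290 (iv F17371)) (tt N1859 F12925) (tt N1494 F12926) (tt N1493 (iv D3247)) (tt N2293 D4438))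
theorem Q1861 : ∀ i, i < 1861 → P i := stepQ 1860 Q1860 (allL N1860 (tt N2280 (iv F17335)) (tt N1499 F12927) (tt N2286 (iv F17355)) (tt N1860 F12928) (tt N2292 (iv F17378)) (tt N1495 F12929) (tt N2293 (iv F17384)) (tt N1806 F12930) (tt N1494 (iv D3248)))
theorem Q1862 : ∀ i, i < 1862 → P i := stepQ 1861 Q1861 (allL N1861 (tt N1887 (iv F38211)) (tt N2289 (iv F17365)) (tt N2265 (iv F17279)) (tt N1516 F12931) (tt N1861 F12932) (tt N1496 (iv D3249)) (tt N1579 F12933) (tt N2294 D4439) (tt N1518 (iv F38214)))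
theorem Q1863 : ∀ i, i < 1863 → P i := stepQ 1862 Q1862 (allL N1862 (tt N1950 (iv F13293)) (tt N2290 (iv F17370)) (tt N2266 (iv F17284)) (tt N2295 D4440) (tt N1498 F12935) (tt N2294 (iv F17387)) (tt N1497 F12936) (tt N1496 (iv D3250)) (tt N2296 D4441))
theorem Q1864 : ∀ i, i < 1864 → P i := stepQ 1863 Q1863 (allL N1863 (tt N1951 (iv F13296)) (tt N2291 (iv F17373)) (tt N2297 D4442) (tt N1497 (iv D3251)) (tt N1863 F12937) (tt N1581 F12938) (tt N2295 (iv F17390)) (tt N1518 F12939) (tt N2298 D4443))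
theorem Q1865 : ∀ i, i < 1865 → P i := stepQ 1864 Q1864 (allL N1864 (tt N1952 (iv F13300)) (tt N2292 (iv F17377)) (tt N2268 (iv F17289)) (tt N2298 (iv F17398)) (tt N1499 F12940) (tt N1582 F12941) (tt N2296 (iv F17393)) (tt N1807 F12942) (tt N1497 (iv D3252)))
theorem Q1866 : ∀ i, i < 1866 → P i := stepQ 1865 Q1865 (allL N1865 (tt N1953 (iv F13304)) (tt N2293 (iv F17381)) (tt N2269 (iv F17293)) (tt N1865 F12943) (tt N2296 (iv F17392)) (tt N1865 F12944) (tt N1499 F12945) (tt N1631 (iv F38483)) (tt N1498 (iv D3253)))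
theorem Q1867 : ∀ i, i < 1867 → P i := stepQ 1866 Q1866 (allL N1866 (tt N1866 F12947) (tt N1501 F12948) (tt N1981 (iv F13389)) (tt N1866 F12949) (tt N2299 D4444) (tt N1500 (iv D3254)) (tt N2300 D4445) (tt N2301 D4446) (tt N1808 F12950))
theorem Q1868 : ∀ i, i < 1868 → P i := stepQ 1867 Q1867 (allL N1867 (tt N1867 F12951) (tt N1502 F12952) (tt N1982 (iv F13394)) (tt N2302 D4447) (tt N1599 F12953) (tt N2301 (iv F17412)) (tt N1752 F12954) (tt N1500 (iv D3255)) (tt N2303 D4448))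
theorem Q1869 : ∀ i, i < 1869 → P i := stepQ 1868 Q1868 (allL N1868 (tt N1507 F12955) (tt N2299 (iv F17402)) (tt N1503 F12956) (tt N2304 D4449) (tt N1501 (iv D3256)) (tt N1600 F12957) (tt N2305 D4450) (tt N2306 D4451) (tt N1809 F12958))
theorem Q1870 : ∀ i, i < 1870 → P i := stepQ 1869 Q1869 (allL N1869 (tt N1508 F12959) (tt N2300 (iv F17406)) (tt N1504 F12960) (tt N1869 F12961) (tt N2305 (iv F17429)) (tt N1603 F37856) (tt N1501 (iv D3257)) (tt N2307 D4452) (tt N1602 (iv F37943)))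
theorem Q1871 : ∀ i, i < 1871 → P i := stepQ 1870 Q1870 (allL N1870 (tt N1509 F12964) (tt N2301 (iv F17411)) (tt N1505 F12965) (tt N2308 D4453) (tt N2306 (iv F17433)) (tt N1502 F12966) (tt N2307 (iv F17438)) (tt N1501 (iv D3258)) (tt N2309 D4454))
theorem Q1872 : ∀ i, i < 1872 → P i := stepQ 1871 Q1871 (allL N1871 (tt N1510 F12967) (tt N2302 (iv F17414)) (tt N1871 F12968) (tt N1502 (iv D3259)) (tt N1871 F12969) (tt N2308 (iv F17441)) (tt N1755 F12970) (tt N1871 F12971) (tt N2310 D4455))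
theorem Q1873 : ∀ i, i < 1873 → P i := stepQ 1872 Q1872 (allL N1872 (tt N1511 F12972) (tt N2303 (iv F17419)) (tt N1506 F12973) (tt N2310 (iv F17449)) (tt N1603 F12974) (tt N2309 (iv F17445)) (tt N1753 F37844) (tt N1760 (iv F37850)) (tt N1502 (iv D3260)))
theorem Q1874 : ∀ i, i < 1874 → P i := stepQ 1873 Q1873 (allL N1873 (tt N1512 F12977) (tt N1988 (iv F13419)) (tt N2305 (iv F17428)) (tt N2277 (iv F17325)) (tt N1504 F12978) (tt N2311 D4456) (tt N1503 (iv D3261)) (tt N2312 D4457) (tt N1605 (iv F38109)))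
theorem Q1875 : ∀ i, i < 1875 → P i := stepQ 1874 Q1874 (allL N1874 (tt N1513 F12980) (tt N1989 (iv F13423)) (tt N2306 (iv F17432)) (tt N2313 D4458) (tt N1505 F12981) (tt N1605 F12982) (tt N2312 (iv F17458)) (tt N1503 (iv D3262)) (tt N2311 F38022))
theorem Q1876 : ∀ i, i < 1876 → P i := stepQ 1875 Q1875 (allL N1875 (tt N1514 F12983) (tt N1876 (iv F37931)) (tt N2307 (iv F17436)) (tt N1875 F12984) (tt N2312 (iv F17457)) (tt N1590 F37930) (tt N1505 F12986) (tt N1504 (iv D3263)) (tt N1589 (iv F37933)))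
theorem Q1877 : ∀ i, i < 1877 → P i := stepQ 1876 Q1876 (allL N1876 (tt N1515 F12987) (tt N1875 F37931) (tt N2309 (iv F17444)) (tt N1876 F12988) (tt N2311 (iv F38017)) (tt N1506 F12989) (tt N1589 (iv F37932)) (tt N1588 (iv F37934)) (tt N1505 (iv D3264)))
theorem Q1878 : ∀ i, i < 1878 → P i := stepQ 1877 Q1877 (allL N1877 (tt N2304 (iv F17423)) (tt N1877 F12991) (tt N2281 (iv F17339)) (tt N1507 (iv D3265)) (tt N1877 F12992) (tt N1606 F12993) (tt N2314 D4461) (tt N2315 D4462) (tt N1810 F12994))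
theorem Q1879 : ∀ i, i < 1879 → P i := stepQ 1878 Q1878 (allL N1878 (tt N2305 (iv F17427)) (tt N1878 F12995) (tt N1512 F12996) (tt N2314 (iv F17472)) (tt N1508 F12997) (tt N2316 D4463) (tt N1507 (iv D3266)) (tt N2317 D4464) (tt N1608 (iv F38082)))
theorem Q1880 : ∀ i, i < 1880 → P i := stepQ 1879 Q1879 (allL N1879 (tt N2306 (iv F17431)) (tt N1879 F12999) (tt N1513 F13000) (tt N2318 D4465) (tt N1509 F13001) (tt N1608 F13002) (tt N2317 (iv F17486)) (tt N1507 (iv D3267)) (tt N2316 F37990))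
theorem Q1881 : ∀ i, i < 1881 → P i := stepQ 1880 Q1880 (allL N1880 (tt N2307 (iv F17435)) (tt N1880 F13003) (tt N1514 F13004) (tt N2319 D4467) (tt N2317 (iv F17485)) (tt N1595 F37949) (tt N1509 F13006) (tt N1508 (iv D3268)) (tt N1593 (iv F37954)))
theorem Q1882 : ∀ i, i < 1882 → P i := stepQ 1881 Q1881 (allL N1881 (tt N2308 (iv F17439)) (tt N1881 F13007) (tt N1881 F13008) (tt N1509 (iv D3269)) (tt N2320 D4469) (tt N1510 F13009) (tt N2319 (iv F17497)) (tt N1881 F13010) (tt N2321 D4470))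
theorem Q1883 : ∀ i, i < 1883 → P i := stepQ 1882 Q1882 (allL N1882 (tt N2309 (iv F17443)) (tt N1882 F13011) (tt N1515 F13012) (tt N2321 (iv F17510)) (tt N2316 (iv F37989)) (tt N1511 F13013) (tt N1593 (iv F37953)) (tt N1592 (iv F38030)) (tt N1509 (iv D3270)))
theorem Q1884 : ∀ i, i < 1884 → P i := stepQ 1883 Q1883 (allL N1883 (tt N2310 (iv F17447)) (tt N1883 F13015) (tt N1883 F13016) (tt N1511 F13017) (tt N1883 F13018) (tt N2321 (iv F17511)) (tt N1756 F37958) (tt N1779 (iv F38040)) (tt N1510 (iv D3271)))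
theorem Q1885 : ∀ i, i < 1885 → P i := stepQ 1884 Q1884 (allL N1884 (tt N2311 (iv F17452)) (tt N1516 F13020) (tt N2316 (iv F17479)) (tt N2289 (iv F17366)) (tt N1515 F38078) (tt N1512 (iv D3272)) (tt N1597 (iv F38071)) (tt N1596 (iv F38064)) (tt N1513 (iv F38079)))
theorem Q1886 : ∀ i, i < 1886 → P i := stepQ 1885 Q1885 (allL N1885 (tt N2312 (iv F17456)) (tt N1517 F13024) (tt N2317 (iv F17484)) (tt N2322 D4473) (tt N1514 F13025) (tt N1596 F38103) (tt N1513 F13026) (tt N1512 (iv D3273)) (tt N1597 (iv F38116)))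
theorem Q1887 : ∀ i, i < 1887 → P i := stepQ 1886 Q1886 (allL N1886 (tt N2313 (iv F17459)) (tt N1518 F13027) (tt N2323 D4475) (tt N1513 (iv D3274)) (tt N1886 F13028) (tt N1609 F13029) (tt N2322 (iv F17524)) (tt N2291 (iv F17376)) (tt N2289 F38150))
theorem Q1888 : ∀ i, i < 1888 → P i := stepQ 1887 Q1887 (allL N1887 (tt N1861 F38211) (tt N2322 (iv F17522)) (tt N2324 D4479) (tt N1517 (iv D3278)) (tt N1887 F13043) (tt N1559 F38212) (tt N1518 F13044) (tt N2295 (iv F17391)) (tt N1579 (iv F38246)))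
theorem Q1889 : ∀ i, i < 1889 → P i := stepQ 1888 Q1888 (allL N1888 (tt N1929 F38273) (tt N2325 D4481) (tt N1518 (iv D3280)) (tt N1888 F13049) (tt N1888 F13050) (tt N1610 F13051) (tt N2324 (iv F17544)) (tt N2297 (iv F17397)) (tt N2265 (iv F38276)))
theorem Q1890 : ∀ i, i < 1890 → P i := stepQ 1889 Q1889 (allL N1889 (tt N1520 F13055) (tt N1821 F13056) (tt N2326 D4484) (tt N1519 (iv D3282)) (tt N1889 F13057) (tt N2327 D4485) (tt N1889 F13058) (tt N2328 D4486) (tt N1889 F13059))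
theorem Q1891 : ∀ i, i < 1891 → P i := stepQ 1890 Q1890 (allL N1890 (tt N1521 F13060) (tt N1822 F13061) (tt N1640 F13062) (tt N2327 (iv F17565)) (tt N1890 F13063) (tt N1519 (iv D3283)) (tt N2329 D4487) (tt N1526 F13064) (tt N1890 F13065))
theorem Q1892 : ∀ i, i < 1892 → P i := stepQ 1891 Q1891 (allL N1891 (tt N2326 (iv F17558)) (tt N1891 F13066) (tt N1520 (iv D3284)) (tt N1641 F13067) (tt N1891 F13068) (tt N2330 D4488) (tt N1891 F13069) (tt N2331 D4489) (tt N1891 F13070))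
theorem Q1893 : ∀ i, i < 1893 → P i := stepQ 1892 Q1892 (allL N1892 (tt N2327 (iv F17563)) (tt N1522 F13071) (tt N2330 (iv F17580)) (tt N1521 F13072) (tt N2332 D4490) (tt N1520 (iv D3285)) (tt N2333 D4491) (tt N2334 D4492) (tt N1892 F13073))
theorem Q1894 : ∀ i, i < 1894 → P i := stepQ 1893 Q1893 (allL N1893 (tt N2328 (iv F17567)) (tt N1523 F13074) (tt N2331 (iv F17584)) (tt N1529 F13075) (tt N1893 F13076) (tt N2334 (iv F17597)) (tt N1893 F13077) (tt N1520 (iv D3286)) (tt N2335 D4493))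
theorem Q1895 : ∀ i, i < 1895 → P i := stepQ 1894 Q1894 (allL N1894 (tt N2329 (iv F17572)) (tt N1524 F13078) (tt N1644 F13079) (tt N2333 (iv F17592)) (tt N1894 F13080) (tt N1894 F13081) (tt N1521 (iv D3287)) (tt N1530 F13082) (tt N1894 F13083))
theorem Q1896 : ∀ i, i < 1896 → P i := stepQ 1895 Q1895 (allL N1895 (tt N1827 F13084) (tt N2332 (iv F17587)) (tt N1895 F13085) (tt N1895 F13086) (tt N1522 (iv D3288)) (tt N1895 F13087) (tt N2336 D4494) (tt N2337 D4495) (tt N1895 F13088))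
theorem Q1897 : ∀ i, i < 1897 → P i := stepQ 1896 Q1896 (allL N1896 (tt N1828 F13089) (tt N2333 (iv F17591)) (tt N1896 F13090) (tt N1524 F13091) (tt N2336 (iv F17606)) (tt N1896 F13092) (tt N1522 (iv D3289)) (tt N2338 D4496) (tt N1896 F13093))
theorem Q1898 : ∀ i, i < 1898 → P i := stepQ 1897 Q1897 (allL N1897 (tt N1829 F13094) (tt N2334 (iv F17595)) (tt N1897 F13095) (tt N1533 F13096) (tt N2337 (iv F17610)) (tt N1523 F13097) (tt N2338 (iv F17616)) (tt N1522 (iv D3290)) (tt N2339 D4497))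
theorem Q1899 : ∀ i, i < 1899 → P i := stepQ 1898 Q1898 (allL N1898 (tt N1830 F13098) (tt N2335 (iv F17598)) (tt N1898 F13099) (tt N1534 F13100) (tt N1898 F13101) (tt N2339 (iv F17620)) (tt N1898 F13102) (tt N1898 F13103) (tt N1523 (iv D3291)))
theorem Q1900 : ∀ i, i < 1900 → P i := stepQ 1899 Q1899 (allL N1899 (tt N1527 F13104) (tt N2340 D4498) (tt N1525 (iv D3292)) (tt N1645 F13105) (tt N1785 F13106) (tt N2341 D4499) (tt N1899 F13107) (tt N2342 D4500) (tt N1535 F13108))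
theorem Q1901 : ∀ i, i < 1901 → P i := stepQ 1900 Q1900 (allL N1900 (tt N1528 F13109) (tt N1832 F13110) (tt N2341 (iv F17629)) (tt N1526 F13111) (tt N2343 D4501) (tt N1525 (iv D3293)) (tt N2344 D4502) (tt N2345 D4503) (tt N1536 F13112))
theorem Q1902 : ∀ i, i < 1902 → P i := stepQ 1901 Q1901 (allL N1901 (tt N1529 F13113) (tt N1833 F13114) (tt N2342 (iv F17633)) (tt N2328 (iv F17569)) (tt N1787 F13115) (tt N2345 (iv F17648)) (tt N1901 F13116) (tt N1525 (iv D3294)) (tt N2346 D4504))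
theorem Q1903 : ∀ i, i < 1903 → P i := stepQ 1902 Q1902 (allL N1902 (tt N1530 F13117) (tt N1834 F13118) (tt N1648 F13119) (tt N2344 (iv F17643)) (tt N1902 F13120) (tt N1902 F13121) (tt N1526 (iv D3295)) (tt N2329 (iv F17577)) (tt N1538 F13122))
theorem Q1904 : ∀ i, i < 1904 → P i := stepQ 1903 Q1903 (allL N1903 (tt N2341 (iv F17628)) (tt N1553 F13123) (tt N1528 F13124) (tt N1649 F13125) (tt N2347 D4505) (tt N1527 (iv D3296)) (tt N2348 D4506) (tt N2349 D4507) (tt N1539 F13126))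
theorem Q1905 : ∀ i, i < 1905 → P i := stepQ 1904 Q1904 (allL N1904 (tt N2342 (iv F17632)) (tt N1554 F13127) (tt N1529 F13128) (tt N2350 D4508) (tt N1789 F13129) (tt N2349 (iv F17665)) (tt N1904 F13130) (tt N1527 (iv D3297)) (tt N2351 D4509))
theorem Q1906 : ∀ i, i < 1906 → P i := stepQ 1905 Q1905 (allL N1905 (tt N2343 (iv F17636)) (tt N1531 F13131) (tt N2347 (iv F17655)) (tt N1905 F13132) (tt N1528 (iv D3298)) (tt N1790 F13133) (tt N2352 D4510) (tt N2353 D4511) (tt N1541 F13134))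
theorem Q1907 : ∀ i, i < 1907 → P i := stepQ 1906 Q1906 (allL N1906 (tt N2344 (iv F17641)) (tt N1532 F13135) (tt N2348 (iv F17659)) (tt N1530 F13136) (tt N2352 (iv F17676)) (tt N1906 F13137) (tt N1528 (iv D3299)) (tt N2354 D4512) (tt N1542 F13138))
theorem Q1908 : ∀ i, i < 1908 → P i := stepQ 1907 Q1907 (allL N1907 (tt N2345 (iv F17646)) (tt N1533 F13139) (tt N2349 (iv F17664)) (tt N2334 (iv F17596)) (tt N2353 (iv F17679)) (tt N1529 F13140) (tt N2354 (iv F17683)) (tt N1528 (iv D3300)) (tt N2355 D4513))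
theorem Q1909 : ∀ i, i < 1909 → P i := stepQ 1908 Q1908 (allL N1908 (tt N2346 (iv F17649)) (tt N1534 F13141) (tt N2351 (iv F17670)) (tt N2335 (iv F17599)) (tt N1792 F13142) (tt N2355 (iv F17685)) (tt N1908 F13143) (tt N1544 F13144) (tt N1529 (iv D3301)))
theorem Q1910 : ∀ i, i < 1910 → P i := stepQ 1909 Q1909 (allL N1909 (tt N1841 F13145) (tt N2352 (iv F17674)) (tt N1559 F13146) (tt N1909 F13147) (tt N1532 F13148) (tt N2324 (iv F38270)) (tt N1531 (iv D3302)) (tt N2356 D4515) (tt N1545 F13149))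
theorem Q1911 : ∀ i, i < 1911 → P i := stepQ 1910 Q1910 (allL N1910 (tt N1842 F13150) (tt N2353 (iv F17678)) (tt N1560 F13151) (tt N2357 D4516) (tt N1533 F13152) (tt N1793 F13153) (tt N2356 (iv F17696)) (tt N1531 (iv D3303)) (tt N2358 D4517))
theorem Q1912 : ∀ i, i < 1912 → P i := stepQ 1911 Q1911 (allL N1911 (tt N1843 F13154) (tt N2354 (iv F17681)) (tt N1561 F13155) (tt N2338 (iv F17614)) (tt N2356 (iv F17695)) (tt N1911 F13156) (tt N1533 F13157) (tt N1532 (iv D3304)) (tt N2359 D4518))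
theorem Q1913 : ∀ i, i < 1913 → P i := stepQ 1912 Q1912 (allL N1912 (tt N1844 F13158) (tt N2355 (iv F17684)) (tt N1562 F13159) (tt N2339 (iv F17619)) (tt N2358 (iv F17702)) (tt N1534 F13160) (tt N2359 (iv F17708)) (tt N1548 F13161) (tt N1533 (iv D3305)))
theorem Q1914 : ∀ i, i < 1914 → P i := stepQ 1913 Q1913 (allL N1913 (tt N1563 F13162) (tt N1535 (iv D3306)) (tt N2191 (iv F16303)) (tt N1655 F13163) (tt N2249 (iv F17221)) (tt N2360 D4519) (tt N1913 F13164) (tt N2361 D4520) (tt N2340 (iv F17627)))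
theorem Q1915 : ∀ i, i < 1915 → P i := stepQ 1914 Q1914 (allL N1914 (tt N1539 F13165) (tt N2360 (iv F17711)) (tt N1536 F13166) (tt N1656 F13167) (tt N2362 D4521) (tt N1535 (iv D3307)) (tt N2363 D4522) (tt N2364 D4523) (tt N2341 (iv F17631)))
theorem Q1916 : ∀ i, i < 1916 → P i := stepQ 1915 Q1915 (allL N1915 (tt N1540 F13168) (tt N2361 (iv F17714)) (tt N1537 F13169) (tt N2365 D4524) (tt N2251 (iv F17230)) (tt N2364 (iv F17724)) (tt N1915 F13170) (tt N1535 (iv D3308)) (tt N2366 D4525))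
theorem Q1917 : ∀ i, i < 1917 → P i := stepQ 1916 Q1916 (allL N1916 (tt N1541 F13171) (tt N2194 (iv F16313)) (tt N2362 (iv F17717)) (tt N1916 F13172) (tt N1536 (iv D3309)) (tt N2252 (iv F17234)) (tt N2367 D4526) (tt N2368 D4527) (tt N2343 (iv F17640)))
theorem Q1918 : ∀ i, i < 1918 → P i := stepQ 1917 Q1917 (allL N1917 (tt N1542 F13173) (tt N2037 (iv F38518)) (tt N2363 (iv F17719)) (tt N1538 F13174) (tt N2367 (iv F17734)) (tt N1917 F13175) (tt N1536 (iv D3310)) (tt N2369 D4528) (tt N2344 (iv F17645)))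
theorem Q1919 : ∀ i, i < 1919 → P i := stepQ 1918 Q1918 (allL N1918 (tt N1543 F13176) (tt N2195 (iv F16320)) (tt N2364 (iv F17723)) (tt N1918 F13177) (tt N2368 (iv F17736)) (tt N1537 F13178) (tt N2369 (iv F17740)) (tt N1536 (iv D3311)) (tt N2370 D4529))
theorem Q1920 : ∀ i, i < 1920 → P i := stepQ 1919 Q1919 (allL N1919 (tt N1544 F13179) (tt N2196 (iv F16324)) (tt N2366 (iv F17730)) (tt N1919 F13180) (tt N2255 (iv F17243)) (tt N2370 (iv F17743)) (tt N1919 F13181) (tt N2346 (iv F17653)) (tt N1537 (iv D3312)))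
theorem Q1921 : ∀ i, i < 1921 → P i := stepQ 1920 Q1920 (allL N1920 (tt N2362 (iv F17716)) (tt N1570 F13182) (tt N1541 F13183) (tt N2371 D4530) (tt N1539 (iv D3313)) (tt N2256 (iv F17248)) (tt N2372 D4531) (tt N2373 D4532) (tt N2347 (iv F17657)))
theorem Q1922 : ∀ i, i < 1922 → P i := stepQ 1921 Q1921 (allL N1921 (tt N2363 (iv F17718)) (tt N1571 F13184) (tt N1542 F13185) (tt N1663 F13186) (tt N2372 (iv F17749)) (tt N1921 F13187) (tt N1539 (iv D3314)) (tt N2374 D4533) (tt N2348 (iv F17662)))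
theorem Q1923 : ∀ i, i < 1923 → P i := stepQ 1922 Q1922 (allL N1922 (tt N2364 (iv F17722)) (tt N1572 F13188) (tt N1543 F13189) (tt N2375 D4534) (tt N2373 (iv F17752)) (tt N1540 F13190) (tt N2374 (iv F17756)) (tt N1539 (iv D3315)) (tt N2376 D4535))
theorem Q1924 : ∀ i, i < 1924 → P i := stepQ 1923 Q1923 (allL N1923 (tt N2365 (iv F17725)) (tt N1573 F13191) (tt N1923 F13192) (tt N1540 (iv D3316)) (tt N2377 D4536) (tt N2375 (iv F17759)) (tt N1923 F13193) (tt N1665 F13194) (tt N2378 D4537))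
theorem Q1925 : ∀ i, i < 1925 → P i := stepQ 1924 Q1924 (allL N1924 (tt N2366 (iv F17729)) (tt N1574 F13195) (tt N1544 F13196) (tt N2378 (iv F17770)) (tt N2260 (iv F17263)) (tt N2376 (iv F17763)) (tt N1924 F13197) (tt N2351 (iv F17673)) (tt N1540 (iv D3317)))
theorem Q1926 : ∀ i, i < 1926 → P i := stepQ 1925 Q1925 (allL N1925 (tt N2367 (iv F17732)) (tt N1545 F13198) (tt N2372 (iv F17748)) (tt N1925 F13199) (tt N1542 F13200) (tt N2379 D4538) (tt N1541 (iv D3318)) (tt N2380 D4539) (tt N2352 (iv F17677)))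
theorem Q1927 : ∀ i, i < 1927 → P i := stepQ 1926 Q1926 (allL N1926 (tt N2368 (iv F17735)) (tt N1546 F13201) (tt N2373 (iv F17751)) (tt N2381 D4540) (tt N1543 F13202) (tt N2262 (iv F17272)) (tt N2380 (iv F17777)) (tt N1541 (iv D3319)) (tt N2382 D4541))
theorem Q1928 : ∀ i, i < 1928 → P i := stepQ 1927 Q1927 (allL N1927 (tt N2369 (iv F17737)) (tt N1547 F13203) (tt N2374 (iv F17754)) (tt N1927 F13204) (tt N2380 (iv F17776)) (tt N1927 F13205) (tt N1543 F13206) (tt N1542 (iv D3320)) (tt N2383 D4542))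
theorem Q1929 : ∀ i, i < 1929 → P i := stepQ 1928 Q1928 (allL N1928 (tt N2370 (iv F17741)) (tt N1548 F13207) (tt N2376 (iv F17762)) (tt N1928 F13208) (tt N2382 (iv F17782)) (tt N1544 F13209) (tt N2383 (iv F17786)) (tt N2355 (iv F17686)) (tt N1543 (iv D3321)))
theorem Q1930 : ∀ i, i < 1930 → P i := stepQ 1929 Q1929 (allL N1929 (tt N1888 (iv F38273)) (tt N2379 (iv F17772)) (tt N1579 F13210) (tt N1929 F13211) (tt N1929 F13212) (tt N1545 (iv D3322)) (tt N2265 (iv F17282)) (tt N2384 D4543) (tt N2324 F38309))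
theorem Q1931 : ∀ i, i < 1931 → P i := stepQ 1930 Q1930 (allL N1930 (tt N1979 (iv F38409)) (tt N2380 (iv F17775)) (tt N1580 F13213) (tt N2385 D4544) (tt N1547 F13214) (tt N2384 (iv F17789)) (tt N1546 F13215) (tt N1545 (iv D3323)) (tt N2386 D4545))
theorem Q1932 : ∀ i, i < 1932 → P i := stepQ 1931 Q1931 (allL N1931 (tt N2203 (iv F16363)) (tt N2381 (iv F17778)) (tt N2387 D4546) (tt N1546 (iv D3324)) (tt N1931 F13216) (tt N2267 (iv F17287)) (tt N2385 (iv F17791)) (tt N1931 F13217) (tt N2388 D4547))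
theorem Q1933 : ∀ i, i < 1933 → P i := stepQ 1932 Q1932 (allL N1932 (tt N2204 (iv F16366)) (tt N2382 (iv F17781)) (tt N1582 F13218) (tt N2388 (iv F17799)) (tt N1548 F13219) (tt N2268 (iv F17291)) (tt N2386 (iv F17795)) (tt N2358 (iv F17704)) (tt N1546 (iv D3325)))
theorem Q1934 : ∀ i, i < 1934 → P i := stepQ 1933 Q1933 (allL N1933 (tt N2034 (iv F38523)) (tt N2383 (iv F17783)) (tt N1583 F13220) (tt N1933 F13221) (tt N2386 (iv F17794)) (tt N1933 F13222) (tt N1548 F13223) (tt N2359 (iv F17709)) (tt N1547 (iv D3326)))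
theorem Q1935 : ∀ i, i < 1935 → P i := stepQ 1934 Q1934 (allL N1934 (tt N2340 (iv F17622)) (tt N1549 (iv D3327)) (tt N1845 F13224) (tt N1671 F13225) (tt N1795 F13226) (tt N2389 D4548) (tt N1934 F13227) (tt N2390 D4549) (tt N1563 F13228))
theorem Q1936 : ∀ i, i < 1936 → P i := stepQ 1935 Q1935 (allL N1935 (tt N1553 F13229) (tt N2389 (iv F17801)) (tt N1550 F13230) (tt N1672 F13231) (tt N2391 D4550) (tt N1549 (iv D3328)) (tt N2392 D4551) (tt N2393 D4552) (tt N1564 F13232))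
theorem Q1937 : ∀ i, i < 1937 → P i := stepQ 1936 Q1936 (allL N1936 (tt N1554 F13233) (tt N2390 (iv F17805)) (tt N1551 F13234) (tt N2394 D4553) (tt N1797 F13235) (tt N2393 (iv F17820)) (tt N1936 F13236) (tt N1549 (iv D3329)) (tt N2395 D4554))
theorem Q1938 : ∀ i, i < 1938 → P i := stepQ 1937 Q1937 (allL N1937 (tt N1555 F13237) (tt N1848 F13238) (tt N2391 (iv F17810)) (tt N1587 F13239) (tt N1550 (iv D3330)) (tt N1798 F13240) (tt N2396 D4555) (tt N2397 D4556) (tt N1566 F13241))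
theorem Q1939 : ∀ i, i < 1939 → P i := stepQ 1938 Q1938 (allL N1938 (tt N1556 F13242) (tt N1849 F13243) (tt N2392 (iv F17814)) (tt N1552 F13244) (tt N2396 (iv F17833)) (tt N1938 F13245) (tt N1550 (iv D3331)) (tt N2398 D4557) (tt N1567 F13246))
theorem Q1940 : ∀ i, i < 1940 → P i := stepQ 1939 Q1939 (allL N1939 (tt N1557 F13247) (tt N1850 F13248) (tt N2393 (iv F17819)) (tt N1939 F13249) (tt N2397 (iv F17837)) (tt N1551 F13250) (tt N2398 (iv F17843)) (tt N1550 (iv D3332)) (tt N2399 D4558))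
theorem Q1941 : ∀ i, i < 1941 → P i := stepQ 1940 Q1940 (allL N1940 (tt N1558 F13251) (tt N1851 F13252) (tt N2395 (iv F17826)) (tt N1940 F13253) (tt N1800 F13254) (tt N2399 (iv F17847)) (tt N1940 F13255) (tt N1569 F13256) (tt N1551 (iv D3333)))
theorem Q1942 : ∀ i, i < 1942 → P i := stepQ 1941 Q1941 (allL N1941 (tt N2391 (iv F17809)) (tt N2347 (iv F17654)) (tt N1555 F13257) (tt N2400 D4559) (tt N1553 (iv D3334)) (tt N1801 F13258) (tt N2401 D4560) (tt N2402 D4561) (tt N1570 F13259))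
theorem Q1943 : ∀ i, i < 1943 → P i := stepQ 1942 Q1942 (allL N1942 (tt N2392 (iv F17813)) (tt N2348 (iv F17658)) (tt N1556 F13260) (tt N1679 F13261) (tt N2401 (iv F17854)) (tt N1942 F13262) (tt N1553 (iv D3335)) (tt N2403 D4562) (tt N1571 F13263))
theorem Q1944 : ∀ i, i < 1944 → P i := stepQ 1943 Q1943 (allL N1943 (tt N2393 (iv F17818)) (tt N2349 (iv F17663)) (tt N1557 F13264) (tt N2404 D4563) (tt N2402 (iv F17857)) (tt N1554 F13265) (tt N2403 (iv F17861)) (tt N1553 (iv D3336)) (tt N2405 D4564))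
theorem Q1945 : ∀ i, i < 1945 → P i := stepQ 1944 Q1944 (allL N1944 (tt N2394 (iv F17821)) (tt N2350 (iv F17666)) (tt N1944 F13266) (tt N1554 (iv D3337)) (tt N2406 D4565) (tt N2404 (iv F17863)) (tt N1944 F13267) (tt N1681 F13268) (tt N2407 D4566))
theorem Q1946 : ∀ i, i < 1946 → P i := stepQ 1945 Q1945 (allL N1945 (tt N2395 (iv F17825)) (tt N2351 (iv F17669)) (tt N1558 F13269) (tt N2407 (iv F17873)) (tt N1804 F13270) (tt N2405 (iv F17866)) (tt N1945 F13271) (tt N1574 F13272) (tt N1554 (iv D3338)))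
theorem Q1947 : ∀ i, i < 1947 → P i := stepQ 1946 Q1946 (allL N1946 (tt N2396 (iv F17830)) (tt N1559 F13273) (tt N2401 (iv F17853)) (tt N1596 F13274) (tt N1556 F13275) (tt N2322 (iv F38172)) (tt N1555 (iv D3339)) (tt N2408 D4568) (tt N1575 F13276))
theorem Q1948 : ∀ i, i < 1948 → P i := stepQ 1947 Q1947 (allL N1947 (tt N2397 (iv F17835)) (tt N1560 F13277) (tt N2402 (iv F17856)) (tt N2409 D4569) (tt N1557 F13278) (tt N1805 F13279) (tt N2408 (iv F17882)) (tt N1555 (iv D3340)) (tt N2410 D4570))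
theorem Q1949 : ∀ i, i < 1949 → P i := stepQ 1948 Q1948 (allL N1948 (tt N2398 (iv F17839)) (tt N1561 F13280) (tt N2403 (iv F17859)) (tt N1948 F13281) (tt N2408 (iv F17881)) (tt N1948 F13282) (tt N1557 F13283) (tt N1556 (iv D3341)) (tt N2411 D4571))
theorem Q1950 : ∀ i, i < 1950 → P i := stepQ 1949 Q1949 (allL N1949 (tt N2399 (iv F17844)) (tt N1562 F13284) (tt N2405 (iv F17865)) (tt N1949 F13285) (tt N2410 (iv F17888)) (tt N1558 F13286) (tt N2411 (iv F17894)) (tt N1578 F13287) (tt N1557 (iv D3342)))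
theorem Q1951 : ∀ i, i < 1951 → P i := stepQ 1950 Q1950 (allL N1950 (tt N1862 F13293) (tt N2408 (iv F17880)) (tt N2356 (iv F17694)) (tt N2294 F38261) (tt N1561 F13294) (tt N2295 (iv F38272)) (tt N1560 F13295) (tt N1559 (iv D3344)) (tt N2412 D4574))
theorem Q1952 : ∀ i, i < 1952 → P i := stepQ 1951 Q1951 (allL N1951 (tt N1863 F13296) (tt N2409 (iv F17883)) (tt N2384 (iv F38330)) (tt N1560 (iv D3345)) (tt N1951 F13297) (tt N1580 (iv F38331)) (tt N2294 F38265) (tt N1579 F38266) (tt N2413 D4576))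
theorem Q1953 : ∀ i, i < 1953 → P i := stepQ 1952 Q1952 (allL N1952 (tt N1864 F13300) (tt N2410 (iv F17887)) (tt N2358 (iv F17701)) (tt N2413 (iv F17913)) (tt N1562 F13301) (tt N1807 F13302) (tt N2412 (iv F17906)) (tt N1582 F13303) (tt N1560 (iv D3346)))
theorem Q1954 : ∀ i, i < 1954 → P i := stepQ 1953 Q1953 (allL N1953 (tt N1865 F13304) (tt N2411 (iv F17891)) (tt N2359 (iv F17706)) (tt N1953 F13305) (tt N2412 (iv F17905)) (tt N1953 F13306) (tt N1562 F13307) (tt N1583 F13308) (tt N1561 (iv D3347)))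
theorem Q1955 : ∀ i, i < 1955 → P i := stepQ 1954 Q1954 (allL N1954 (tt N2360 (iv F17710)) (tt N1564 F13309) (tt N2205 (iv F16375)) (tt N1683 F13310) (tt N2414 D4577) (tt N1563 (iv D3348)) (tt N2415 D4578) (tt N2416 D4579) (tt N2389 (iv F17804)))
theorem Q1956 : ∀ i, i < 1956 → P i := stepQ 1955 Q1955 (allL N1955 (tt N2361 (iv F17713)) (tt N1565 F13311) (tt N2206 (iv F16378)) (tt N2417 D4580) (tt N2271 (iv F17301)) (tt N2416 (iv F17921)) (tt N1955 F13312) (tt N1563 (iv D3349)) (tt N2418 D4581))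
theorem Q1957 : ∀ i, i < 1957 → P i := stepQ 1956 Q1956 (allL N1956 (tt N1570 F13313) (tt N2414 (iv F17916)) (tt N1566 F13314) (tt N2419 D4582) (tt N1564 (iv D3350)) (tt N2272 (iv F17305)) (tt N2420 D4583) (tt N2421 D4584) (tt N2391 (iv F17812)))
theorem Q1958 : ∀ i, i < 1958 → P i := stepQ 1957 Q1957 (allL N1957 (tt N1571 F13315) (tt N2415 (iv F17917)) (tt N1567 F13316) (tt N1686 F13317) (tt N2420 (iv F17932)) (tt N1957 F13318) (tt N1564 (iv D3351)) (tt N2422 D4585) (tt N2392 (iv F17817)))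
theorem Q1959 : ∀ i, i < 1959 → P i := stepQ 1958 Q1958 (allL N1958 (tt N1572 F13319) (tt N2416 (iv F17920)) (tt N1568 F13320) (tt N2423 D4586) (tt N2421 (iv F17935)) (tt N1565 F13321) (tt N2422 (iv F17939)) (tt N1564 (iv D3352)) (tt N2424 D4587))
theorem Q1960 : ∀ i, i < 1960 → P i := stepQ 1959 Q1959 (allL N1959 (tt N1573 F13322) (tt N2417 (iv F17922)) (tt N1616 F13323) (tt N1565 (iv D3353)) (tt N2425 D4588) (tt N2423 (iv F17942)) (tt N1959 F13324) (tt N1688 F13325) (tt N2426 D4589))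
theorem Q1961 : ∀ i, i < 1961 → P i := stepQ 1960 Q1960 (allL N1960 (tt N1574 F13326) (tt N2418 (iv F17925)) (tt N1569 F13327) (tt N2426 (iv F17953)) (tt N2276 (iv F17321)) (tt N2424 (iv F17946)) (tt N1960 F13328) (tt N2395 (iv F17829)) (tt N1565 (iv D3354)))
theorem Q1962 : ∀ i, i < 1962 → P i := stepQ 1961 Q1961 (allL N1961 (tt N1575 F13329) (tt N2002 (iv F38180)) (tt N2420 (iv F17931)) (tt N1604 F13330) (tt N1567 F13331) (tt N2427 D4590) (tt N1566 (iv D3355)) (tt N2428 D4591) (tt N2396 (iv F17834)))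
theorem Q1963 : ∀ i, i < 1963 → P i := stepQ 1962 Q1962 (allL N1962 (tt N1576 F13332) (tt N2211 (iv F16401)) (tt N2421 (iv F17934)) (tt N2429 D4592) (tt N1568 F13333) (tt N2278 (iv F17330)) (tt N2428 (iv F17960)) (tt N1566 (iv D3356)) (tt N2430 D4593))
theorem Q1964 : ∀ i, i < 1964 → P i := stepQ 1963 Q1963 (allL N1963 (tt N1577 F13334) (tt N2019 (iv F38303)) (tt N2422 (iv F17937)) (tt N1619 F13335) (tt N2428 (iv F17959)) (tt N1963 F13336) (tt N1568 F13337) (tt N1567 (iv D3357)) (tt N2431 D4594))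
theorem Q1965 : ∀ i, i < 1965 → P i := stepQ 1964 Q1964 (allL N1964 (tt N1578 F13338) (tt N2212 (iv F16409)) (tt N2424 (iv F17945)) (tt N1620 F13339) (tt N2430 (iv F17965)) (tt N1569 F13340) (tt N2431 (iv F17969)) (tt N2399 (iv F17848)) (tt N1568 (iv D3358)))
theorem Q1966 : ∀ i, i < 1966 → P i := stepQ 1965 Q1965 (allL N1965 (tt N2419 (iv F17927)) (tt N2371 (iv F17744)) (tt N1606 F13341) (tt N1570 (iv D3359)) (tt N1694 F13342) (tt N2281 (iv F17341)) (tt N2432 D4595) (tt N2433 D4596) (tt N2400 (iv F17852)))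
theorem Q1967 : ∀ i, i < 1967 → P i := stepQ 1966 Q1966 (allL N1966 (tt N2420 (iv F17930)) (tt N2372 (iv F17747)) (tt N1575 F13343) (tt N2432 (iv F17971)) (tt N1571 F13344) (tt N2434 D4597) (tt N1570 (iv D3360)) (tt N2435 D4598) (tt N2401 (iv F17855)))
theorem Q1968 : ∀ i, i < 1968 → P i := stepQ 1967 Q1967 (allL N1967 (tt N2421 (iv F17933)) (tt N2373 (iv F17750)) (tt N1576 F13345) (tt N2436 D4599) (tt N1572 F13346) (tt N2283 (iv F17348)) (tt N2435 (iv F17979)) (tt N1570 (iv D3361)) (tt N2437 D4600))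
theorem Q1969 : ∀ i, i < 1969 → P i := stepQ 1968 Q1968 (allL N1968 (tt N2422 (iv F17936)) (tt N2374 (iv F17753)) (tt N1577 F13347) (tt N2438 D4601) (tt N2435 (iv F17978)) (tt N1968 F13348) (tt N1572 F13349) (tt N1571 (iv D3362)) (tt N2439 D4602))
theorem Q1970 : ∀ i, i < 1970 → P i := stepQ 1969 Q1969 (allL N1969 (tt N2423 (iv F17940)) (tt N2375 (iv F17757)) (tt N1623 F13350) (tt N1572 (iv D3363)) (tt N2440 D4603) (tt N1573 F13351) (tt N2438 (iv F17984)) (tt N1698 F13352) (tt N2441 D4604))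
theorem Q1971 : ∀ i, i < 1971 → P i := stepQ 1970 Q1970 (allL N1970 (tt N2424 (iv F17944)) (tt N2376 (iv F17761)) (tt N1578 F13353) (tt N2441 (iv F17992)) (tt N2437 (iv F17981)) (tt N1574 F13354) (tt N2439 (iv F17988)) (tt N2405 (iv F17867)) (tt N1572 (iv D3364)))
theorem Q1972 : ∀ i, i < 1972 → P i := stepQ 1971 Q1971 (allL N1971 (tt N2425 (iv F17947)) (tt N2377 (iv F17764)) (tt N1625 F13355) (tt N2287 (iv F17359)) (tt N1573 (iv D3365)) (tt N2442 D4605) (tt N1971 F13356) (tt N1700 F13357) (tt N2443 D4606))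
theorem Q1973 : ∀ i, i < 1973 → P i := stepQ 1972 Q1972 (allL N1972 (tt N2426 (iv F17951)) (tt N2378 (iv F17768)) (tt N1626 F13358) (tt N1574 F13359) (tt N2443 (iv F17997)) (tt N2441 (iv F17993)) (tt N1972 F13360) (tt N2444 D4607) (tt N1573 (iv D3366)))
theorem Q1974 : ∀ i, i < 1974 → P i := stepQ 1973 Q1973 (allL N1973 (tt N2427 (iv F17955)) (tt N1579 F13361) (tt N2434 (iv F17975)) (tt N1597 F38142) (tt N1973 F13363) (tt N1575 (iv D3367)) (tt N2289 (iv F17368)) (tt N2409 (iv F38208)) (tt N2322 F38184))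
theorem Q1975 : ∀ i, i < 1975 → P i := stepQ 1974 Q1974 (allL N1974 (tt N2428 (iv F17958)) (tt N1580 F13364) (tt N2435 (iv F17977)) (tt N1805 (iv F38319)) (tt N1577 F13365) (tt N2409 F38267) (tt N1576 F13366) (tt N1575 (iv D3368)) (tt N2445 D4610))
theorem Q1976 : ∀ i, i < 1976 → P i := stepQ 1975 Q1975 (allL N1975 (tt N2429 (iv F17961)) (tt N1581 F13367) (tt N2446 D4611) (tt N1576 (iv D3369)) (tt N1627 F13368) (tt N2291 (iv F17375)) (tt N1805 (iv F38320)) (tt N1609 F13369) (tt N2447 D4612))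
theorem Q1977 : ∀ i, i < 1977 → P i := stepQ 1976 Q1976 (allL N1976 (tt N2430 (iv F17964)) (tt N1582 F13370) (tt N2437 (iv F17980)) (tt N2447 (iv F18015)) (tt N1578 F13371) (tt N2292 (iv F17379)) (tt N2445 (iv F18011)) (tt N2410 (iv F17890)) (tt N1576 (iv D3370)))
theorem Q1978 : ∀ i, i < 1978 → P i := stepQ 1977 Q1977 (allL N1977 (tt N2431 (iv F17966)) (tt N1583 F13372) (tt N2439 (iv F17986)) (tt N1629 F13373) (tt N2445 (iv F18010)) (tt N1977 F13374) (tt N1578 F13375) (tt N2411 (iv F17895)) (tt N1577 (iv D3371)))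
theorem Q1979 : ∀ i, i < 1979 → P i := stepQ 1978 Q1978 (allL N1978 (tt N1980 (iv F38412)) (tt N2445 (iv F18009)) (tt N2386 (iv F17793)) (tt N1807 (iv F38457)) (tt N1583 F13381) (tt N2413 F38395) (tt N1582 F13382) (tt N2412 (iv F17907)) (tt N1580 (iv D3374)))
theorem Q1980 : ∀ i, i < 1980 → P i := stepQ 1979 Q1979 (allL N1979 (tt N1930 F38409) (tt N2448 D4617) (tt N1581 (iv D3375)) (tt N2387 (iv F17796)) (tt N1630 F13383) (tt N2297 (iv F17396)) (tt N1793 (iv F38455)) (tt N1610 F13384) (tt N2449 D4618))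
theorem Q1981 : ∀ i, i < 1981 → P i := stepQ 1980 Q1980 (allL N1980 (tt N1978 F38412) (tt N2447 (iv F18014)) (tt N2449 (iv F18029)) (tt N1582 F13385) (tt N1631 F13386) (tt N2298 (iv F17400)) (tt N1807 (iv F38458)) (tt N2296 F38413) (tt N1581 (iv D3376)))
theorem Q1982 : ∀ i, i < 1982 → P i := stepQ 1981 Q1981 (allL N1981 (tt N1981 F13387) (tt N1585 F13388) (tt N1866 F13389) (tt N1702 F13390) (tt N2450 D4620) (tt N1584 (iv D3377)) (tt N2451 D4621) (tt N2452 D4622) (tt N1598 F13391))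
theorem Q1983 : ∀ i, i < 1983 → P i := stepQ 1982 Q1982 (allL N1982 (tt N1982 F13392) (tt N1586 F13393) (tt N1867 F13394) (tt N2453 D4623) (tt N1762 (iv F37761)) (tt N2452 (iv F18047)) (tt N1759 F13396) (tt N1584 (iv D3378)) (tt N2454 D4624))
theorem Q1984 : ∀ i, i < 1984 → P i := stepQ 1983 Q1983 (allL N1983 (tt N1591 F13397) (tt N2450 (iv F18034)) (tt N1587 F13398) (tt N2455 D4625) (tt N1585 (iv D3379)) (tt N1809 F13399) (tt N2456 D4626) (tt N2457 D4627) (tt N1600 F13400))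
theorem Q1985 : ∀ i, i < 1985 → P i := stepQ 1984 Q1984 (allL N1984 (tt N1592 F13401) (tt N2451 (iv F18039)) (tt N1588 F13402) (tt N1705 F13403) (tt N2456 (iv F18064)) (tt N1760 F13404) (tt N1585 (iv D3380)) (tt N2309 F37950) (tt N1601 F13405))
theorem Q1986 : ∀ i, i < 1986 → P i := stepQ 1985 Q1985 (allL N1985 (tt N1593 F13406) (tt N2452 (iv F18045)) (tt N1589 F13407) (tt N2458 D4629) (tt N2457 (iv F18068)) (tt N1586 F13408) (tt N2309 F37861) (tt N1585 (iv D3381)) (tt N2307 F37862))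
theorem Q1987 : ∀ i, i < 1987 → P i := stepQ 1986 Q1986 (allL N1986 (tt N1594 F13409) (tt N2453 (iv F18049)) (tt N1986 F13410) (tt N1586 (iv D3382)) (tt N1782 (iv F37749)) (tt N2458 (iv F18076)) (tt N1761 F13411) (tt N1707 F13412) (tt N2459 D4632))
theorem Q1988 : ∀ i, i < 1988 → P i := stepQ 1987 Q1987 (allL N1987 (tt N1595 F13413) (tt N2454 (iv F18053)) (tt N1590 F13414) (tt N2459 (iv F18089)) (tt N1760 (iv F37849)) (tt N2307 (iv F37851)) (tt N1754 F37767) (tt N1603 F13417) (tt N1586 (iv D3383)))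
theorem Q1989 : ∀ i, i < 1989 → P i := stepQ 1988 Q1988 (allL N1988 (tt N1596 F13418) (tt N1873 F13419) (tt N2456 (iv F18063)) (tt N2396 (iv F17832)) (tt N1588 F13420) (tt N2312 (iv F38013)) (tt N1587 (iv D3384)) (tt N2311 F38001) (tt N1604 F13421))
theorem Q1990 : ∀ i, i < 1990 → P i := stepQ 1989 Q1989 (allL N1989 (tt N1597 F13422) (tt N1874 F13423) (tt N2457 (iv F18067)) (tt N2427 (iv F38099)) (tt N1589 F13424) (tt N1604 (iv F38100)) (tt N2311 F38002) (tt N1587 (iv D3385)) (tt N2312 F38020))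
theorem Q1991 : ∀ i, i < 1991 → P i := stepQ 1990 Q1990 (allL N1990 (tt N2455 (iv F18058)) (tt N1990 F13436) (tt N2400 (iv F17849)) (tt N1591 (iv D3388)) (tt N1711 F13437) (tt N1810 F13438) (tt N2460 D4638) (tt N2461 D4639) (tt N1606 F13439))
theorem Q1992 : ∀ i, i < 1992 → P i := stepQ 1991 Q1991 (allL N1991 (tt N2456 (iv F18062)) (tt N1991 F13440) (tt N1596 F13441) (tt N2460 (iv F18117)) (tt N1592 F13442) (tt N2317 (iv F38031)) (tt N1591 (iv D3389)) (tt N2316 F37979) (tt N1607 F13443))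
theorem Q1993 : ∀ i, i < 1993 → P i := stepQ 1992 Q1992 (allL N1992 (tt N2457 (iv F18066)) (tt N1992 F13444) (tt N1597 F13445) (tt N2462 D4642) (tt N1593 F13446) (tt N1607 (iv F38072)) (tt N2316 F37983) (tt N1591 (iv D3390)) (tt N2317 F38038))
theorem Q1994 : ∀ i, i < 1994 → P i := stepQ 1993 Q1993 (allL N1993 (tt N2458 (iv F18074)) (tt N1993 F13452) (tt N1993 F13453) (tt N1593 (iv D3392)) (tt N2463 D4646) (tt N1594 F13454) (tt N2321 (iv F38034)) (tt N1715 F13455) (tt N2319 F37960))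
theorem Q1995 : ∀ i, i < 1995 → P i := stepQ 1994 Q1994 (allL N1994 (tt N2459 (iv F18087)) (tt N1994 F13465) (tt N1994 F13466) (tt N1595 F13467) (tt N1776 (iv F37870)) (tt N2319 (iv F37871)) (tt N1757 F37784) (tt N1994 F13469) (tt N1594 (iv D3395)))
theorem Q1996 : ∀ i, i < 1996 → P i := stepQ 1995 Q1995 (allL N1995 (tt N1995 F13510) (tt N1600 F13511) (tt N2220 (iv F16465)) (tt N2464 D4662) (tt N1598 (iv D3406)) (tt N2299 (iv F17403)) (tt N2465 D4663) (tt N2466 D4664) (tt N2450 (iv F18037)))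
theorem Q1997 : ∀ i, i < 1997 → P i := stepQ 1996 Q1996 (allL N1996 (tt N1996 F13512) (tt N1601 F13513) (tt N1997 (iv F37865)) (tt N1718 F13514) (tt N2465 (iv F18218)) (tt N1762 F13515) (tt N1598 (iv D3407)) (tt N1808 (iv F37945)) (tt N2451 (iv F18043)))
theorem Q1998 : ∀ i, i < 1998 → P i := stepQ 1997 Q1997 (allL N1997 (tt N1997 F13516) (tt N1602 F13517) (tt N1996 F37865) (tt N1997 F13518) (tt N2466 (iv F18221)) (tt N1599 F13519) (tt N1808 (iv F37944)) (tt N1598 (iv D3408)) (tt N2300 F37866))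
theorem Q1999 : ∀ i, i < 1999 → P i := stepQ 1998 Q1998 (allL N1998 (tt N1998 F13520) (tt N1603 F13521) (tt N2172 F37771) (tt N1998 F13522) (tt N2303 (iv F17420)) (tt N2300 (iv F37855)) (tt N1751 F37772) (tt N2454 (iv F18057)) (tt N1599 (iv D3409)))
theorem Q2000 : ∀ i, i < 2000 → P i := stepQ 1999 Q1999 (allL N1999 (tt N1606 F13524) (tt N2464 (iv F18214)) (tt N2419 (iv F17928)) (tt N1600 (iv D3410)) (tt N1719 F13525) (tt N2304 (iv F17425)) (tt N2467 D4667) (tt N2468 D4668) (tt N2455 (iv F18061)))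
theorem Q2001 : ∀ i, i < 2001 → P i := stepQ 2000 Q2000 (allL N2000 (tt N1607 F13526) (tt N2465 (iv F18217)) (tt N1604 F13527) (tt N2467 (iv F18232)) (tt N1601 F13528) (tt N2457 F38004) (tt N1600 (iv D3411)) (tt N1809 (iv F38096)) (tt N2456 (iv F18065)))
theorem Q2002 : ∀ i, i < 2002 → P i := stepQ 2001 Q2001 (allL N2001 (tt N1608 F13529) (tt N2466 (iv F18220)) (tt N1605 F13530) (tt N2469 D4671) (tt N1602 F13531) (tt N2306 (iv F17434)) (tt N1809 (iv F38095)) (tt N1600 (iv D3412)) (tt N2305 F38025))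
theorem Q2003 : ∀ i, i < 2003 → P i := stepQ 2002 Q2002 (allL N2002 (tt N1609 F13546) (tt N1961 F38180) (tt N2470 D4677) (tt N1605 (iv D3417)) (tt N1632 F13547) (tt N2313 (iv F17461)) (tt N1798 (iv F38232)) (tt N2429 (iv F17963)) (tt N2277 F38181))
theorem Q2004 : ∀ i, i < 2004 → P i := stepQ 2003 Q2003 (allL N2003 (tt N2467 (iv F18231)) (tt N2003 F13554) (tt N2432 (iv F17970)) (tt N1607 F13555) (tt N1722 F13556) (tt N2462 F38139) (tt N1606 (iv D3420)) (tt N2471 D4680) (tt N2460 (iv F18119)))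
theorem Q2005 : ∀ i, i < 2005 → P i := stepQ 2004 Q2004 (allL N2004 (tt N2468 (iv F18234)) (tt N2004 F13557) (tt N2433 (iv F17973)) (tt N2472 D4681) (tt N1723 F13558) (tt N2315 (iv F17477)) (tt N2471 (iv F18271)) (tt N1606 (iv D3421)) (tt N2473 D4682))
theorem Q2006 : ∀ i, i < 2006 → P i := stepQ 2005 Q2005 (allL N2005 (tt N2469 (iv F18243)) (tt N2005 F13566) (tt N2474 D4686) (tt N1608 (iv D3424)) (tt N2005 F13567) (tt N2318 (iv F17488)) (tt N1810 (iv F38197)) (tt N2472 (iv F18274)) (tt N2314 F38155))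
theorem Q2007 : ∀ i, i < 2007 → P i := stepQ 2006 Q2006 (allL N2006 (tt N2470 (iv F18262)) (tt N2475 D4692) (tt N1609 (iv D3430)) (tt N2474 (iv F18288)) (tt N1633 F13585) (tt N2323 (iv F17530)) (tt N1801 (iv F38317)) (tt N2446 (iv F18013)) (tt N2282 F38277))
theorem Q2008 : ∀ i, i < 2008 → P i := stepQ 2007 Q2007 (allL N2007 (tt N2476 D4701) (tt N1610 (iv D3436)) (tt N2475 (iv F18304)) (tt N2007 F13599) (tt N1634 F13600) (tt N2325 (iv F17550)) (tt N1790 (iv F38453)) (tt N2448 (iv F18028)) (tt N2261 F38406))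
theorem Q2009 : ∀ i, i < 2009 → P i := stepQ 2008 Q2008 (allL N2008 (tt N2008 F13605) (tt N1613 F13606) (tt N2009 F38439) (tt N2008 F13607) (tt N1611 (iv D3439)) (tt N2008 F13608) (tt N1811 (iv F38495)) (tt N2477 D4705) (tt N2008 F13609))
theorem Q2010 : ∀ i, i < 2010 → P i := stepQ 2009 Q2009 (allL N2009 (tt N2009 F13610) (tt N1614 F13611) (tt N2008 (iv F38439)) (tt N1725 F13612) (tt N1811 (iv F38494)) (tt N2009 F13613) (tt N1611 (iv D3440)) (tt N2478 D4706) (tt N2009 F13614))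
theorem Q2011 : ∀ i, i < 2011 → P i := stepQ 2010 Q2010 (allL N2010 (tt N2010 F13615) (tt N1615 F13616) (tt N2223 (iv F16620)) (tt N2479 D4707) (tt N2477 (iv F18339)) (tt N1612 F13617) (tt N2478 (iv F18344)) (tt N1611 (iv D3441)) (tt N2480 D4708))
theorem Q2012 : ∀ i, i < 2012 → P i := stepQ 2011 Q2011 (allL N2011 (tt N2011 F13618) (tt N1616 F13619) (tt N2481 D4709) (tt N1612 (iv D3442)) (tt N2482 D4710) (tt N2479 (iv F18347)) (tt N2011 F13620) (tt N1727 F13621) (tt N2483 D4711))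
theorem Q2013 : ∀ i, i < 2013 → P i := stepQ 2012 Q2012 (allL N2012 (tt N2012 F13622) (tt N1617 F13623) (tt N2225 (iv F16628)) (tt N2483 (iv F18363)) (tt N2012 F13624) (tt N2480 (iv F18351)) (tt N2012 F13625) (tt N2012 F13626) (tt N1612 (iv D3443)))
theorem Q2014 : ∀ i, i < 2014 → P i := stepQ 2013 Q2013 (allL N2013 (tt N1621 F13632) (tt N2477 (iv F18338)) (tt N1618 F13633) (tt N2484 D4714) (tt N1615 F13634) (tt N2013 F13635) (tt N1813 (iv F38491)) (tt N1613 (iv D3445)) (tt N2485 D4715))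
theorem Q2015 : ∀ i, i < 2015 → P i := stepQ 2014 Q2014 (allL N2014 (tt N1622 F13636) (tt N2478 (iv F18342)) (tt N1619 F13637) (tt N2486 D4716) (tt N1813 (iv F38490)) (tt N2014 F13638) (tt N1615 F13639) (tt N1614 (iv D3446)) (tt N2487 D4717))
theorem Q2016 : ∀ i, i < 2016 → P i := stepQ 2015 Q2015 (allL N2015 (tt N1623 F13640) (tt N2479 (iv F18346)) (tt N2423 (iv F17941)) (tt N1615 (iv D3447)) (tt N2488 D4718) (tt N1616 F13641) (tt N2486 (iv F18385)) (tt N1730 F13642) (tt N2489 D4719))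
theorem Q2017 : ∀ i, i < 2017 → P i := stepQ 2016 Q2016 (allL N2016 (tt N1624 F13643) (tt N2480 (iv F18350)) (tt N1620 F13644) (tt N2489 (iv F18395)) (tt N2485 (iv F18380)) (tt N1617 F13645) (tt N2487 (iv F18390)) (tt N2016 F13646) (tt N1615 (iv D3448)))
theorem Q2018 : ∀ i, i < 2018 → P i := stepQ 2017 Q2017 (allL N2017 (tt N1625 F13647) (tt N2482 (iv F18357)) (tt N2425 (iv F17948)) (tt N2017 F13648) (tt N1616 (iv D3449)) (tt N2490 D4720) (tt N2017 F13649) (tt N1732 F13650) (tt N2491 D4721))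
theorem Q2019 : ∀ i, i < 2019 → P i := stepQ 2018 Q2018 (allL N2018 (tt N1626 F13651) (tt N2483 (iv F18362)) (tt N2426 (iv F17952)) (tt N1617 F13652) (tt N2491 (iv F18402)) (tt N2489 (iv F18396)) (tt N2018 F13653) (tt N2492 D4722) (tt N1616 (iv D3450)))
theorem Q2020 : ∀ i, i < 2020 → P i := stepQ 2019 Q2019 (allL N2019 (tt N1627 F13662) (tt N1963 F38303) (tt N2493 D4726) (tt N1618 (iv D3453)) (tt N2429 (iv F17962)) (tt N2019 F13663) (tt N1799 (iv F38358)) (tt N1632 F13664) (tt N2494 D4727))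
theorem Q2021 : ∀ i, i < 2021 → P i := stepQ 2020 Q2020 (allL N2020 (tt N1628 F13665) (tt N2021 F38438) (tt N2485 (iv F18379)) (tt N2494 (iv F18423)) (tt N1620 F13666) (tt N2020 F13667) (tt N1816 (iv F38493)) (tt N2020 F13668) (tt N1618 (iv D3454)))
theorem Q2022 : ∀ i, i < 2022 → P i := stepQ 2021 Q2021 (allL N2021 (tt N1629 F13669) (tt N2020 (iv F38438)) (tt N2487 (iv F18388)) (tt N2431 (iv F17967)) (tt N1816 (iv F38492)) (tt N2021 F13670) (tt N1620 F13671) (tt N2021 F13672) (tt N1619 (iv D3455)))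
theorem Q2023 : ∀ i, i < 2023 → P i := stepQ 2022 Q2022 (allL N2022 (tt N2484 (iv F18375)) (tt N2022 F13683) (tt N2495 D4731) (tt N1621 (iv D3458)) (tt N2496 D4732) (tt N2022 F13684) (tt N1817 (iv F38536)) (tt N2022 F13685) (tt N2497 D4733))
theorem Q2024 : ∀ i, i < 2024 → P i := stepQ 2023 Q2023 (allL N2023 (tt N2485 (iv F18378)) (tt N2023 F13686) (tt N1628 F13687) (tt N2497 (iv F18445)) (tt N1624 F13688) (tt N2023 F13689) (tt N1818 (iv F38538)) (tt N2023 F13690) (tt N1621 (iv D3459)))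
theorem Q2025 : ∀ i, i < 2025 → P i := stepQ 2024 Q2024 (allL N2024 (tt N2486 (iv F18383)) (tt N2024 F13691) (tt N2438 (iv F17982)) (tt N1622 (iv D3460)) (tt N2498 D4734) (tt N2024 F13692) (tt N1623 F13693) (tt N1735 F13694) (tt N2499 D4735))
theorem Q2026 : ∀ i, i < 2026 → P i := stepQ 2025 Q2025 (allL N2025 (tt N2487 (iv F18387)) (tt N2025 F13695) (tt N1629 F13696) (tt N2499 (iv F18451)) (tt N1818 (iv F38537)) (tt N2025 F13697) (tt N1624 F13698) (tt N2025 F13699) (tt N1622 (iv D3461)))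
theorem Q2027 : ∀ i, i < 2027 → P i := stepQ 2026 Q2026 (allL N2026 (tt N2488 (iv F18392)) (tt N2026 F13700) (tt N2440 (iv F17989)) (tt N2496 (iv F18442)) (tt N1623 (iv D3462)) (tt N2500 D4736) (tt N2498 (iv F18448)) (tt N1737 F13701) (tt N2501 D4737))
theorem Q2028 : ∀ i, i < 2028 → P i := stepQ 2027 Q2027 (allL N2027 (tt N2489 (iv F18394)) (tt N2027 F13702) (tt N2441 (iv F17991)) (tt N1624 F13703) (tt N2501 (iv F18458)) (tt N1626 F13704) (tt N2499 (iv F18453)) (tt N2502 D4738) (tt N1623 (iv D3463)))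
theorem Q2029 : ∀ i, i < 2029 → P i := stepQ 2028 Q2028 (allL N2028 (tt N2490 (iv F18397)) (tt N2028 F13705) (tt N2442 (iv F17994)) (tt N2028 F13706) (tt N2500 (iv F18455)) (tt N1625 (iv D3464)) (tt N2503 D4739) (tt N1739 F13707) (tt N2504 D4740))
theorem Q2030 : ∀ i, i < 2030 → P i := stepQ 2029 Q2029 (allL N2029 (tt N2491 (iv F18400)) (tt N2029 F13708) (tt N2443 (iv F17996)) (tt N2029 F13709) (tt N1626 F13710) (tt N2504 (iv F18469)) (tt N2029 F13711) (tt N2505 D4741) (tt N1625 (iv D3465)))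
theorem Q2031 : ∀ i, i < 2031 → P i := stepQ 2030 Q2030 (allL N2030 (tt N2492 (iv F18404)) (tt N2030 F13712) (tt N2444 (iv F17999)) (tt N2030 F13713) (tt N2505 (iv F18471)) (tt N2502 (iv F18461)) (tt N2030 F13714) (tt N1626 (iv D3466)) (tt N1741 F13715))
theorem Q2032 : ∀ i, i < 2032 → P i := stepQ 2031 Q2031 (allL N2031 (tt N2493 (iv F18419)) (tt N2506 D4746) (tt N1627 (iv D3470)) (tt N2495 (iv F18438)) (tt N2446 (iv F18012)) (tt N2031 F13727) (tt N1802 (iv F38462)) (tt N1633 F13728) (tt N2507 D4747))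
theorem Q2033 : ∀ i, i < 2033 → P i := stepQ 2032 Q2032 (allL N2032 (tt N2494 (iv F18422)) (tt N1631 F13729) (tt N2507 (iv F18491)) (tt N1628 F13730) (tt N2447 (iv F18016)) (tt N2032 F13731) (tt N1806 (iv F38466)) (tt N2293 F38419) (tt N1627 (iv D3471)))
theorem Q2034 : ∀ i, i < 2034 → P i := stepQ 2033 Q2033 (allL N2033 (tt N2508 D4755) (tt N1630 (iv D3476)) (tt N2506 (iv F18488)) (tt N2033 F13745) (tt N2448 (iv F18027)) (tt N2033 F13746) (tt N1791 (iv F38542)) (tt N1634 F13747) (tt N2509 D4756))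
theorem Q2035 : ∀ i, i < 2035 → P i := stepQ 2034 Q2034 (allL N2034 (tt N1933 F38523) (tt N2509 (iv F18519)) (tt N1631 F13748) (tt N2034 F13749) (tt N2449 (iv F18030)) (tt N2034 F13750) (tt N1794 (iv F38545)) (tt N2269 F38524) (tt N1630 (iv D3477)))
theorem Q2036 : ∀ i, i < 2036 → P i := stepQ 2035 Q2035 (allL N2035 (tt N1633 F13766) (tt N2510 D4762) (tt N1632 (iv D3482)) (tt N2035 F13767) (tt N2470 (iv F18263)) (tt N2035 F13768) (tt N1796 (iv F38357)) (tt N2493 (iv F18421)) (tt N2273 F38302))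
theorem Q2037 : ∀ i, i < 2037 → P i := stepQ 2036 Q2036 (allL N2036 (tt N2511 D4771) (tt N1633 (iv D3488)) (tt N1634 F13786) (tt N2036 F13787) (tt N2475 (iv F18305)) (tt N2036 F13788) (tt N1788 (iv F38460)) (tt N2506 (iv F18490)) (tt N2257 F38417))
theorem Q2038 : ∀ i, i < 2038 → P i := stepQ 2037 Q2037 (allL N2037 (tt N1634 (iv D3497)) (tt N1917 F38518) (tt N2511 (iv F18568)) (tt N1635 F13810) (tt N2476 (iv F18326)) (tt N2037 F13811) (tt N1786 (iv F38539)) (tt N2508 (iv F18518)) (tt N2253 F38519))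
theorem Q2039 : ∀ i, i < 2039 → P i := stepQ 2038 Q2038 (allL N2038 (tt N1637 F13862) (tt N2038 F13863) (tt N2512 D4798) (tt N1636 (iv D3511)) (tt N1639 F13864) (tt N1774 (iv F38764)) (tt N2038 F13865) (tt N1773 F38711) (tt N2038 F13866))
theorem Q2040 : ∀ i, i < 2040 → P i := stepQ 2039 Q2039 (allL N2039 (tt N1638 F13867) (tt N2039 F13868) (tt N2039 F13869) (tt N1774 F38839) (tt N2039 F13870) (tt N1636 (iv D3512)) (tt N1775 (iv F38878)) (tt N2039 F13871) (tt N2039 F13872))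
theorem Q2041 : ∀ i, i < 2041 → P i := stepQ 2040 Q2040 (allL N2040 (tt N2512 (iv F18659)) (tt N2040 F13873) (tt N1637 (iv D3513)) (tt N2040 F13874) (tt N1641 F13875) (tt N1778 (iv F38691)) (tt N2040 F13876) (tt N1777 F38643) (tt N2040 F13877))
theorem Q2042 : ∀ i, i < 2042 → P i := stepQ 2041 Q2041 (allL N2041 (tt N1641 F13911) (tt N2513 D4812) (tt N1639 (iv D3521)) (tt N2326 (iv F17559)) (tt N2512 (iv F18661)) (tt N2514 D4813) (tt N2041 F13912) (tt N2515 D4814) (tt N2041 F13913))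
theorem Q2043 : ∀ i, i < 2043 → P i := stepQ 2042 Q2042 (allL N2042 (tt N1642 F13914) (tt N2042 F13915) (tt N2514 (iv F18728)) (tt N1640 F13916) (tt N1710 (iv F38765)) (tt N1639 (iv D3522)) (tt N1709 (iv F38766)) (tt N1708 F38712) (tt N2042 F13917))
theorem Q2044 : ∀ i, i < 2044 → P i := stepQ 2043 Q2043 (allL N2043 (tt N1643 F13918) (tt N2043 F13919) (tt N2515 (iv F18731)) (tt N1647 F13920) (tt N1773 (iv F38662)) (tt N1708 (iv F38663)) (tt N2043 F13921) (tt N1639 (iv D3523)) (tt N1721 (iv F38664)))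
theorem Q2045 : ∀ i, i < 2045 → P i := stepQ 2044 Q2044 (allL N2044 (tt N1644 F13922) (tt N2044 F13923) (tt N2329 (iv F17574)) (tt N1709 F38840) (tt N2044 F13924) (tt N2044 F13925) (tt N1640 (iv D3524)) (tt N1648 F13926) (tt N2044 F13927))
theorem Q2046 : ∀ i, i < 2046 → P i := stepQ 2045 Q2045 (allL N2045 (tt N2514 (iv F18727)) (tt N2045 F13928) (tt N1642 F13929) (tt N2330 (iv F17581)) (tt N1714 (iv F38695)) (tt N1641 (iv D3525)) (tt N1713 (iv F38696)) (tt N1712 F38646) (tt N2045 F13930))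
theorem Q2047 : ∀ i, i < 2047 → P i := stepQ 2046 Q2046 (allL N2046 (tt N2515 (iv F18730)) (tt N2046 F13931) (tt N1643 F13932) (tt N2516 D4822) (tt N1777 (iv F38625)) (tt N1712 (iv F38626)) (tt N2046 F13933) (tt N1641 (iv D3526)) (tt N1724 (iv F38627)))
theorem Q2048 : ∀ i, i < 2048 → P i := stepQ 2047 Q2047 (allL N2047 (tt N1671 F13966) (tt N1645 (iv D3535)) (tt N2047 F13967) (tt N2340 (iv F17624)) (tt N2047 F13968) (tt N2517 D4833) (tt N2047 F13969) (tt N2518 D4834) (tt N1655 F13970))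
theorem Q2049 : ∀ i, i < 2049 → P i := stepQ 2048 Q2048 (allL N2048 (tt N1649 F13971) (tt N2517 (iv F18805)) (tt N1646 F13972) (tt N2341 (iv F17630)) (tt N2519 D4835) (tt N1645 (iv D3536)) (tt N2520 D4836) (tt N2521 D4837) (tt N1656 F13973))
theorem Q2050 : ∀ i, i < 2050 → P i := stepQ 2049 Q2049 (allL N2049 (tt N1650 F13974) (tt N2518 (iv F18809)) (tt N1647 F13975) (tt N2522 D4838) (tt N2049 F13976) (tt N2521 (iv F18823)) (tt N2049 F13977) (tt N1645 (iv D3537)) (tt N2523 D4839))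
theorem Q2051 : ∀ i, i < 2051 → P i := stepQ 2050 Q2050 (allL N2050 (tt N1651 F13978) (tt N2050 F13979) (tt N2519 (iv F18814)) (tt N2050 F13980) (tt N1646 (iv D3538)) (tt N2050 F13981) (tt N1676 F38832) (tt N1675 F38833) (tt N1658 F13982))
theorem Q2052 : ∀ i, i < 2052 → P i := stepQ 2051 Q2051 (allL N2051 (tt N1652 F13983) (tt N2051 F13984) (tt N2520 (iv F18818)) (tt N1648 F13985) (tt N1676 F38834) (tt N2051 F13986) (tt N1646 (iv D3539)) (tt N1674 F38835) (tt N1659 F13987))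
theorem Q2053 : ∀ i, i < 2053 → P i := stepQ 2052 Q2052 (allL N2052 (tt N1653 F13988) (tt N2052 F13989) (tt N2521 (iv F18822)) (tt N1708 F38705) (tt N1675 (iv F38755)) (tt N1647 F13990) (tt N1674 (iv F38756)) (tt N1646 (iv D3540)) (tt N1690 (iv F38758)))
theorem Q2054 : ∀ i, i < 2054 → P i := stepQ 2053 Q2053 (allL N2053 (tt N1654 F13991) (tt N2053 F13992) (tt N2523 (iv F18827)) (tt N1721 F38706) (tt N2053 F13993) (tt N1690 (iv F38757)) (tt N2053 F13994) (tt N1661 F13995) (tt N1647 (iv D3541)))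
theorem Q2055 : ∀ i, i < 2055 → P i := stepQ 2054 Q2054 (allL N2054 (tt N2519 (iv F18813)) (tt N1678 F13996) (tt N1651 F13997) (tt N2524 D4844) (tt N1649 (iv D3542)) (tt N2054 F13998) (tt N1680 F38718) (tt N1679 F38719) (tt N1662 F13999))
theorem Q2056 : ∀ i, i < 2056 → P i := stepQ 2055 Q2055 (allL N2055 (tt N2520 (iv F18817)) (tt N1679 F14000) (tt N1652 F14001) (tt N2348 (iv F17660)) (tt N1680 F38716) (tt N2055 F14002) (tt N1649 (iv D3543)) (tt N1678 F38717) (tt N1663 F14003))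
theorem Q2057 : ∀ i, i < 2057 → P i := stepQ 2056 Q2056 (allL N2056 (tt N2521 (iv F18821)) (tt N1680 F14004) (tt N1653 F14005) (tt N2525 D4848) (tt N1679 (iv F38673)) (tt N1650 F14006) (tt N1678 (iv F38674)) (tt N1649 (iv D3544)) (tt N1695 (iv F38676)))
theorem Q2058 : ∀ i, i < 2058 → P i := stepQ 2057 Q2057 (allL N2057 (tt N2522 (iv F18824)) (tt N1681 F14007) (tt N2516 (iv F18762)) (tt N1650 (iv D3545)) (tt N2526 D4850) (tt N2525 (iv F18865)) (tt N2057 F14008) (tt N2350 (iv F17668)) (tt N2527 D4851))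
theorem Q2059 : ∀ i, i < 2059 → P i := stepQ 2058 Q2058 (allL N2058 (tt N2523 (iv F18826)) (tt N1682 F14009) (tt N1654 F14010) (tt N2527 (iv F18874)) (tt N2058 F14011) (tt N1695 (iv F38675)) (tt N2058 F14012) (tt N1666 F14013) (tt N1650 (iv D3546)))
theorem Q2060 : ∀ i, i < 2060 → P i := stepQ 2059 Q2059 (allL N2059 (tt N1683 F14050) (tt N1656 F14051) (tt N2059 F14052) (tt N2360 (iv F17712)) (tt N2528 D4862) (tt N1655 (iv D3556)) (tt N2529 D4863) (tt N2530 D4864) (tt N2517 (iv F18807)))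
theorem Q2061 : ∀ i, i < 2061 → P i := stepQ 2060 Q2060 (allL N2060 (tt N1684 F14053) (tt N1657 F14054) (tt N2060 F14055) (tt N2531 D4865) (tt N2060 F14056) (tt N2530 (iv F18926)) (tt N2060 F14057) (tt N1655 (iv D3557)) (tt N2532 D4866))
theorem Q2062 : ∀ i, i < 2062 → P i := stepQ 2061 Q2061 (allL N2061 (tt N1662 F14058) (tt N2528 (iv F18916)) (tt N1658 F14059) (tt N2533 D4867) (tt N1656 (iv D3558)) (tt N2061 F14060) (tt N2534 D4868) (tt N2535 D4869) (tt N2519 (iv F18816)))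
theorem Q2063 : ∀ i, i < 2063 → P i := stepQ 2062 Q2062 (allL N2062 (tt N1663 F14061) (tt N2529 (iv F18920)) (tt N1659 F14062) (tt N2363 (iv F17720)) (tt N2534 (iv F18940)) (tt N2062 F14063) (tt N1656 (iv D3559)) (tt N2536 D4870) (tt N2520 (iv F18820)))
theorem Q2064 : ∀ i, i < 2064 → P i := stepQ 2063 Q2063 (allL N2063 (tt N1664 F14064) (tt N2530 (iv F18924)) (tt N1660 F14065) (tt N2537 D4871) (tt N2535 (iv F18943)) (tt N1657 F14066) (tt N2536 (iv F18948)) (tt N1656 (iv D3560)) (tt N2538 D4872))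
theorem Q2065 : ∀ i, i < 2065 → P i := stepQ 2064 Q2064 (allL N2064 (tt N1665 F14067) (tt N2531 (iv F18928)) (tt N2064 F14068) (tt N1657 (iv D3561)) (tt N2539 D4873) (tt N2537 (iv F18951)) (tt N2064 F14069) (tt N2365 (iv F17728)) (tt N2540 D4874))
theorem Q2066 : ∀ i, i < 2066 → P i := stepQ 2065 Q2065 (allL N2065 (tt N1666 F14070) (tt N2532 (iv F18931)) (tt N1661 F14071) (tt N2540 (iv F18961)) (tt N2065 F14072) (tt N2538 (iv F18954)) (tt N2065 F14073) (tt N2523 (iv F18830)) (tt N1657 (iv D3562)))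
theorem Q2067 : ∀ i, i < 2067 → P i := stepQ 2066 Q2066 (allL N2066 (tt N1667 F14074) (tt N2066 F14075) (tt N2534 (iv F18939)) (tt N2066 F14076) (tt N1659 F14077) (tt N1677 F38842) (tt N1658 (iv D3563)) (tt N1693 (iv F38880)) (tt N1676 F38843))
theorem Q2068 : ∀ i, i < 2068 → P i := stepQ 2067 Q2067 (allL N2067 (tt N1668 F14078) (tt N2067 F14079) (tt N2535 (iv F18942)) (tt N1734 (iv F38929)) (tt N1660 F14080) (tt N2067 F14081) (tt N1693 F38908) (tt N1658 (iv D3564)) (tt N1692 F38909))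
theorem Q2069 : ∀ i, i < 2069 → P i := stepQ 2068 Q2068 (allL N2068 (tt N1669 F14082) (tt N2068 F14083) (tt N2536 (iv F18946)) (tt N2068 F14084) (tt N1693 F38910) (tt N2068 F14085) (tt N1660 F14086) (tt N1659 (iv D3565)) (tt N1691 F38911))
theorem Q2070 : ∀ i, i < 2070 → P i := stepQ 2069 Q2069 (allL N2069 (tt N1670 F14087) (tt N2069 F14088) (tt N2538 (iv F18953)) (tt N2069 F14089) (tt N1692 (iv F38869)) (tt N1661 F14090) (tt N1691 (iv F38870)) (tt N1690 F38836) (tt N1660 (iv D3566)))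
theorem Q2071 : ∀ i, i < 2071 → P i := stepQ 2070 Q2070 (allL N2070 (tt N2533 (iv F18935)) (tt N1694 F14091) (tt N2070 F14092) (tt N1662 (iv D3567)) (tt N2371 (iv F17746)) (tt N2070 F14093) (tt N2541 D4880) (tt N2542 D4881) (tt N2524 (iv F18851)))
theorem Q2072 : ∀ i, i < 2072 → P i := stepQ 2071 Q2071 (allL N2071 (tt N2534 (iv F18938)) (tt N1695 F14094) (tt N1667 F14095) (tt N2541 (iv F18988)) (tt N1663 F14096) (tt N1682 F38720) (tt N1662 (iv D3568)) (tt N1699 (iv F38778)) (tt N1680 F38721))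
theorem Q2073 : ∀ i, i < 2073 → P i := stepQ 2072 Q2072 (allL N2072 (tt N2535 (iv F18941)) (tt N1696 F14097) (tt N1668 F14098) (tt N2543 D4884) (tt N1664 F14099) (tt N2072 F14100) (tt N1699 F38854) (tt N1662 (iv D3569)) (tt N1697 F38855))
theorem Q2074 : ∀ i, i < 2074 → P i := stepQ 2073 Q2073 (allL N2073 (tt N2536 (iv F18945)) (tt N1697 F14101) (tt N1669 F14102) (tt N2544 D4886) (tt N1699 F38852) (tt N2073 F14103) (tt N1664 F14104) (tt N1663 (iv D3570)) (tt N1696 F38853))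
theorem Q2075 : ∀ i, i < 2075 → P i := stepQ 2074 Q2074 (allL N2074 (tt N2537 (iv F18949)) (tt N1698 F14105) (tt N2074 F14106) (tt N1664 (iv D3571)) (tt N2545 D4888) (tt N1665 F14107) (tt N2544 (iv F19009)) (tt N2375 (iv F17760)) (tt N2546 D4889))
theorem Q2076 : ∀ i, i < 2076 → P i := stepQ 2075 Q2075 (allL N2075 (tt N2538 (iv F18952)) (tt N1699 F14108) (tt N1670 F14109) (tt N2546 (iv F19018)) (tt N1697 (iv F38804)) (tt N1666 F14110) (tt N1696 (iv F38805)) (tt N1695 F38737) (tt N1664 (iv D3572)))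
theorem Q2077 : ∀ i, i < 2077 → P i := stepQ 2076 Q2076 (allL N2076 (tt N2539 (iv F18955)) (tt N1700 F14111) (tt N2076 F14112) (tt N2076 F14113) (tt N1665 (iv D3573)) (tt N2547 D4890) (tt N2076 F14114) (tt N2377 (iv F17767)) (tt N2548 D4891))
theorem Q2078 : ∀ i, i < 2078 → P i := stepQ 2077 Q2077 (allL N2077 (tt N2540 (iv F18959)) (tt N1701 F14115) (tt N2077 F14116) (tt N1666 F14117) (tt N2548 (iv F19026)) (tt N2546 (iv F19019)) (tt N2077 F14118) (tt N2549 D4892) (tt N1665 (iv D3574)))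
theorem Q2079 : ∀ i, i < 2079 → P i := stepQ 2078 Q2078 (allL N2078 (tt N2517 (iv F18804)) (tt N1672 F14156) (tt N2078 F14157) (tt N2389 (iv F17803)) (tt N2550 D4902) (tt N1671 (iv D3584)) (tt N2551 D4903) (tt N2552 D4904) (tt N1683 F14158))
theorem Q2080 : ∀ i, i < 2080 → P i := stepQ 2079 Q2079 (allL N2079 (tt N2518 (iv F18808)) (tt N1673 F14159) (tt N2079 F14160) (tt N2553 D4905) (tt N2079 F14161) (tt N2552 (iv F19080)) (tt N2079 F14162) (tt N1671 (iv D3585)) (tt N2554 D4906))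
theorem Q2081 : ∀ i, i < 2081 → P i := stepQ 2080 Q2080 (allL N2080 (tt N1678 F14163) (tt N2550 (iv F19070)) (tt N1674 F14164) (tt N2555 D4907) (tt N1672 (iv D3586)) (tt N2080 F14165) (tt N2521 F38708) (tt N2520 (iv F38762)) (tt N1685 F14166))
theorem Q2082 : ∀ i, i < 2082 → P i := stepQ 2081 Q2081 (allL N2081 (tt N1679 F14167) (tt N2551 (iv F19074)) (tt N1675 F14168) (tt N2392 (iv F17815)) (tt N2521 F38707) (tt N2081 F14169) (tt N1672 (iv D3587)) (tt N2519 (iv F38760)) (tt N1686 F14170))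
theorem Q2083 : ∀ i, i < 2083 → P i := stepQ 2082 Q2082 (allL N2082 (tt N1680 F14171) (tt N2552 (iv F19078)) (tt N1676 F14172) (tt N2556 D4911) (tt N2520 (iv F38761)) (tt N1673 F14173) (tt N2519 (iv F38759)) (tt N1672 (iv D3588)) (tt N2534 (iv F38771)))
theorem Q2084 : ∀ i, i < 2084 → P i := stepQ 2083 Q2083 (allL N2083 (tt N1681 F14174) (tt N2553 (iv F19081)) (tt N2083 F14175) (tt N1673 (iv D3589)) (tt N2557 D4913) (tt N2556 (iv F19106)) (tt N2083 F14176) (tt N2394 (iv F17824)) (tt N2558 D4914))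
theorem Q2085 : ∀ i, i < 2085 → P i := stepQ 2084 Q2084 (allL N2084 (tt N1682 F14177) (tt N2554 (iv F19083)) (tt N1677 F14178) (tt N2558 (iv F19117)) (tt N2084 F14179) (tt N2534 (iv F38770)) (tt N2084 F14180) (tt N1689 F14181) (tt N1673 (iv D3590)))
theorem Q2086 : ∀ i, i < 2086 → P i := stepQ 2085 Q2085 (allL N2085 (tt N2555 (iv F19088)) (tt N2524 (iv F18848)) (tt N1711 F14201) (tt N1678 (iv D3595)) (tt N2400 (iv F17850)) (tt N2085 F14202) (tt N2525 F38637) (tt N2559 D4921) (tt N1694 F14203))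
theorem Q2087 : ∀ i, i < 2087 → P i := stepQ 2086 Q2086 (allL N2086 (tt N2556 (iv F19104)) (tt N2525 (iv F18864)) (tt N2086 F14213) (tt N1680 (iv D3599)) (tt N2560 D4928) (tt N1681 F14214) (tt N2524 (iv F38668)) (tt N2404 (iv F17864)) (tt N2541 (iv F38670)))
theorem Q2088 : ∀ i, i < 2088 → P i := stepQ 2087 Q2087 (allL N2087 (tt N2557 (iv F19111)) (tt N2526 (iv F18870)) (tt N2087 F14218) (tt N2087 F14219) (tt N1681 (iv D3601)) (tt N2561 D4930) (tt N2087 F14220) (tt N2406 (iv F17871)) (tt N2562 D4931))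
theorem Q2089 : ∀ i, i < 2089 → P i := stepQ 2088 Q2088 (allL N2088 (tt N2558 (iv F19115)) (tt N2527 (iv F18873)) (tt N2088 F14221) (tt N1682 F14222) (tt N2562 (iv F19177)) (tt N2541 (iv F38669)) (tt N2088 F14223) (tt N2563 D4932) (tt N1681 (iv D3602)))
theorem Q2090 : ∀ i, i < 2090 → P i := stepQ 2089 Q2089 (allL N2089 (tt N2528 (iv F18915)) (tt N1685 F14266) (tt N2089 F14267) (tt N2564 D4944) (tt N1683 (iv D3613)) (tt N2089 F14268) (tt N2565 D4945) (tt N2566 D4946) (tt N2550 (iv F19073)))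
theorem Q2091 : ∀ i, i < 2091 → P i := stepQ 2090 Q2090 (allL N2090 (tt N2529 (iv F18919)) (tt N1686 F14269) (tt N2090 F14270) (tt N2415 (iv F17918)) (tt N2565 (iv F19232)) (tt N2090 F14271) (tt N1683 (iv D3614)) (tt N2567 D4947) (tt N2551 (iv F19077)))
theorem Q2092 : ∀ i, i < 2092 → P i := stepQ 2091 Q2091 (allL N2091 (tt N2530 (iv F18923)) (tt N1687 F14272) (tt N2091 F14273) (tt N2568 D4948) (tt N2566 (iv F19235)) (tt N1684 F14274) (tt N2567 (iv F19240)) (tt N1683 (iv D3615)) (tt N2569 D4949))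
theorem Q2093 : ∀ i, i < 2093 → P i := stepQ 2092 Q2092 (allL N2092 (tt N2531 (iv F18927)) (tt N1688 F14275) (tt N2570 D4950) (tt N1684 (iv D3616)) (tt N2571 D4951) (tt N2568 (iv F19242)) (tt N2092 F14276) (tt N2417 (iv F17924)) (tt N2572 D4952))
theorem Q2094 : ∀ i, i < 2094 → P i := stepQ 2093 Q2093 (allL N2093 (tt N2532 (iv F18930)) (tt N1689 F14277) (tt N2093 F14278) (tt N2572 (iv F19253)) (tt N2093 F14279) (tt N2569 (iv F19245)) (tt N2093 F14280) (tt N2554 (iv F19087)) (tt N1684 (iv D3617)))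
theorem Q2095 : ∀ i, i < 2095 → P i := stepQ 2094 Q2094 (allL N2094 (tt N1694 F14281) (tt N2564 (iv F19228)) (tt N1719 F14282) (tt N1685 (iv D3618)) (tt N2419 (iv F17929)) (tt N2094 F14283) (tt N2573 D4953) (tt N2574 D4954) (tt N2555 (iv F19091)))
theorem Q2096 : ∀ i, i < 2096 → P i := stepQ 2095 Q2095 (allL N2095 (tt N1695 F14284) (tt N2565 (iv F19230)) (tt N1690 F14285) (tt N2573 (iv F19257)) (tt N1686 F14286) (tt N2523 F38709) (tt N1685 (iv D3619)) (tt N2538 (iv F38763)) (tt N2521 F38710))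
theorem Q2097 : ∀ i, i < 2097 → P i := stepQ 2096 Q2096 (allL N2096 (tt N1696 F14287) (tt N2566 (iv F19233)) (tt N1691 F14288) (tt N2575 D4957) (tt N1687 F14289) (tt N2096 F14290) (tt N2538 F38838) (tt N1685 (iv D3620)) (tt N2536 (iv F38874)))
theorem Q2098 : ∀ i, i < 2098 → P i := stepQ 2097 Q2097 (allL N2097 (tt N1697 F14291) (tt N2567 (iv F19237)) (tt N1692 F14292) (tt N2576 D4959) (tt N2538 F38837) (tt N2097 F14293) (tt N1687 F14294) (tt N1686 (iv D3621)) (tt N2535 (iv F38872)))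
theorem Q2099 : ∀ i, i < 2099 → P i := stepQ 2098 Q2098 (allL N2098 (tt N1698 F14295) (tt N2568 (iv F19241)) (tt N1730 F14296) (tt N1687 (iv D3622)) (tt N2577 D4961) (tt N1688 F14297) (tt N2576 (iv F19279)) (tt N2423 (iv F17943)) (tt N2578 D4962))
theorem Q2100 : ∀ i, i < 2100 → P i := stepQ 2099 Q2099 (allL N2099 (tt N1699 F14298) (tt N2569 (iv F19243)) (tt N1693 F14299) (tt N2578 (iv F19288)) (tt N2536 (iv F38873)) (tt N1689 F14300) (tt N2535 (iv F38871)) (tt N2534 F38844) (tt N1687 (iv D3623)))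
theorem Q2101 : ∀ i, i < 2101 → P i := stepQ 2100 Q2100 (allL N2100 (tt N1700 F14301) (tt N2571 (iv F19249)) (tt N1732 F14302) (tt N2100 F14303) (tt N1688 (iv D3624)) (tt N2579 D4963) (tt N2100 F14304) (tt N2425 (iv F17950)) (tt N2580 D4964))
theorem Q2102 : ∀ i, i < 2102 → P i := stepQ 2101 Q2101 (allL N2101 (tt N1701 F14305) (tt N2572 (iv F19252)) (tt N1733 F14306) (tt N1689 F14307) (tt N2580 (iv F19296)) (tt N2578 (iv F19289)) (tt N2101 F14308) (tt N2581 D4965) (tt N1688 (iv D3625)))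
theorem Q2103 : ∀ i, i < 2103 → P i := stepQ 2102 Q2102 (allL N2102 (tt N2573 (iv F19255)) (tt N2541 (iv F18986)) (tt N1722 F14329) (tt N1695 F14330) (tt N2432 (iv F17972)) (tt N2527 F38639) (tt N1694 (iv D3630)) (tt N2582 D4969) (tt N2525 F38640))
theorem Q2104 : ∀ i, i < 2104 → P i := stepQ 2103 Q2103 (allL N2103 (tt N2574 (iv F19258)) (tt N2542 (iv F18989)) (tt N1723 F14331) (tt N2583 D4970) (tt N2433 (iv F17974)) (tt N2103 F14332) (tt N2582 (iv F19316)) (tt N1694 (iv D3631)) (tt N2584 D4971))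
theorem Q2105 : ∀ i, i < 2105 → P i := stepQ 2104 Q2104 (allL N2104 (tt N2575 (iv F19269)) (tt N2543 (iv F19000)) (tt N2104 F14339) (tt N1696 (iv D3634)) (tt N2585 D4975) (tt N2104 F14340) (tt N2546 F38860) (tt N2583 (iv F19319)) (tt N2544 (iv F38886)))
theorem Q2106 : ∀ i, i < 2106 → P i := stepQ 2105 Q2105 (allL N2105 (tt N2576 (iv F19276)) (tt N2544 (iv F19006)) (tt N1735 F14344) (tt N1697 (iv D3636)) (tt N2586 D4977) (tt N2105 F14345) (tt N1698 F14346) (tt N2438 (iv F17985)) (tt N2543 (iv F38888)))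
theorem Q2107 : ∀ i, i < 2107 → P i := stepQ 2106 Q2106 (allL N2106 (tt N2577 (iv F19284)) (tt N2545 (iv F19014)) (tt N1737 F14350) (tt N2585 (iv F19332)) (tt N1698 (iv D3638)) (tt N2587 D4979) (tt N2586 (iv F19337)) (tt N2440 (iv F17990)) (tt N2588 D4980))
theorem Q2108 : ∀ i, i < 2108 → P i := stepQ 2107 Q2107 (allL N2107 (tt N2578 (iv F19286)) (tt N2546 (iv F19016)) (tt N1738 F14351) (tt N1699 F14352) (tt N2588 (iv F19345)) (tt N1701 F14353) (tt N2543 (iv F38887)) (tt N2589 D4981) (tt N1698 (iv D3639)))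
theorem Q2109 : ∀ i, i < 2109 → P i := stepQ 2108 Q2108 (allL N2108 (tt N2579 (iv F19290)) (tt N2547 (iv F19020)) (tt N1739 F14354) (tt N2108 F14355) (tt N2587 (iv F19343)) (tt N1700 (iv D3640)) (tt N2590 D4982) (tt N2442 (iv F17995)) (tt N2591 D4983))
theorem Q2110 : ∀ i, i < 2110 → P i := stepQ 2109 Q2109 (allL N2109 (tt N2580 (iv F19293)) (tt N2548 (iv F19023)) (tt N1740 F14356) (tt N2109 F14357) (tt N1701 F14358) (tt N2591 (iv F19353)) (tt N2109 F14359) (tt N2592 D4984) (tt N1700 (iv D3641)))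
theorem Q2111 : ∀ i, i < 2111 → P i := stepQ 2110 Q2110 (allL N2110 (tt N2581 (iv F19298)) (tt N2549 (iv F19028)) (tt N1741 F14360) (tt N2563 (iv F19180)) (tt N2592 (iv F19355)) (tt N2589 (iv F19347)) (tt N2110 F14361) (tt N1701 (iv D3642)) (tt N2444 (iv F18001)))
theorem Q2112 : ∀ i, i < 2112 → P i := stepQ 2111 Q2111 (allL N2111 (tt N2111 F14376) (tt N1704 F14377) (tt N2111 F14378) (tt N2593 D4986) (tt N1702 (iv D3646)) (tt N2111 F14379) (tt N2594 D4987) (tt N2595 D4988) (tt N1717 F14380))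
theorem Q2113 : ∀ i, i < 2113 → P i := stepQ 2112 Q2112 (allL N2112 (tt N2112 F14381) (tt N1705 F14382) (tt N2112 F14383) (tt N2451 (iv F18041)) (tt N2594 (iv F19369)) (tt N1764 F14384) (tt N1702 (iv D3647)) (tt N2596 D4989) (tt N1718 F14385))
theorem Q2114 : ∀ i, i < 2114 → P i := stepQ 2113 Q2113 (allL N2113 (tt N2113 F14386) (tt N1706 F14387) (tt N2113 F14388) (tt N2597 D4990) (tt N2595 (iv F19374)) (tt N1703 F14389) (tt N2596 (iv F19381)) (tt N1702 (iv D3648)) (tt N2113 F14390))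
theorem Q2115 : ∀ i, i < 2115 → P i := stepQ 2114 Q2114 (allL N2114 (tt N2114 F14391) (tt N1707 F14392) (tt N2598 D4991) (tt N1703 (iv D3649)) (tt N2599 D4992) (tt N2597 (iv F19385)) (tt N1766 F14393) (tt N2453 (iv F18051)) (tt N2114 F14394))
theorem Q2116 : ∀ i, i < 2116 → P i := stepQ 2115 Q2115 (allL N2115 (tt N1711 F14395) (tt N2593 (iv F19363)) (tt N2555 (iv F19089)) (tt N1704 (iv D3650)) (tt N2455 (iv F18059)) (tt N2115 F14396) (tt N2600 D4993) (tt N2601 D4994) (tt N1719 F14397))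
theorem Q2117 : ∀ i, i < 2117 → P i := stepQ 2116 Q2116 (allL N2116 (tt N1712 F14398) (tt N2594 (iv F19367)) (tt N1708 F14399) (tt N2600 (iv F19398)) (tt N1705 F14400) (tt N2515 F38634) (tt N1704 (iv D3651)) (tt N2514 (iv F38666)) (tt N1720 F14401))
theorem Q2118 : ∀ i, i < 2118 → P i := stepQ 2117 Q2117 (allL N2117 (tt N1713 F14402) (tt N2595 (iv F19372)) (tt N1709 F14403) (tt N2602 D4997) (tt N1706 F14404) (tt N2117 F14405) (tt N2514 F38715) (tt N1704 (iv D3652)) (tt N2117 F14406))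
theorem Q2119 : ∀ i, i < 2119 → P i := stepQ 2118 Q2118 (allL N2118 (tt N1714 F14407) (tt N2596 (iv F19378)) (tt N1710 F14408) (tt N2603 D4998) (tt N2514 F38714) (tt N1770 F14409) (tt N1706 F14410) (tt N1705 (iv D3653)) (tt N2118 F14411))
theorem Q2120 : ∀ i, i < 2120 → P i := stepQ 2119 Q2119 (allL N2119 (tt N1715 F14412) (tt N2597 (iv F19384)) (tt N2119 F14413) (tt N1706 (iv D3654)) (tt N2604 D4999) (tt N1707 F14414) (tt N2603 (iv F19418)) (tt N2458 (iv F18077)) (tt N2119 F14415))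
theorem Q2121 : ∀ i, i < 2121 → P i := stepQ 2120 Q2120 (allL N2120 (tt N1716 F14416) (tt N2599 (iv F19393)) (tt N2120 F14417) (tt N2120 F14418) (tt N1707 (iv D3655)) (tt N2605 D5000) (tt N1772 F14419) (tt N1782 (iv F37750)) (tt N2120 F14420))
theorem Q2122 : ∀ i, i < 2122 → P i := stepQ 2121 Q2121 (allL N2121 (tt N2600 (iv F19397)) (tt N2121 F14436) (tt N2525 (iv F38618)) (tt N1712 F14437) (tt N2460 (iv F18118)) (tt N2516 F38611) (tt N1711 (iv D3659)) (tt N2606 D5005) (tt N1722 F14438))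
theorem Q2123 : ∀ i, i < 2123 → P i := stepQ 2122 Q2122 (allL N2122 (tt N2601 (iv F19400)) (tt N2122 F14439) (tt N2559 (iv F19148)) (tt N2607 D5006) (tt N2461 (iv F18121)) (tt N2122 F14440) (tt N2606 (iv F19447)) (tt N1711 (iv D3660)) (tt N2608 D5007))
theorem Q2124 : ∀ i, i < 2124 → P i := stepQ 2123 Q2123 (allL N2123 (tt N2602 (iv F19412)) (tt N2123 F14451) (tt N2333 (iv F38820)) (tt N1713 (iv D3663)) (tt N2609 D5011) (tt N2123 F14452) (tt N2330 F38745) (tt N2607 (iv F19450)) (tt N2123 F14453))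
theorem Q2125 : ∀ i, i < 2125 → P i := stepQ 2124 Q2124 (allL N2124 (tt N2603 (iv F19415)) (tt N2124 F14454) (tt N2124 F14455) (tt N1714 (iv D3664)) (tt N2610 D5012) (tt N1779 F14456) (tt N1715 F14457) (tt N2321 F38124) (tt N2124 F14458))
theorem Q2126 : ∀ i, i < 2126 → P i := stepQ 2125 Q2125 (allL N2125 (tt N2604 (iv F19420)) (tt N2125 F14459) (tt N2125 F14460) (tt N2609 (iv F19467)) (tt N1715 (iv D3665)) (tt N2611 D5013) (tt N2610 (iv F19471)) (tt N2463 (iv F18151)) (tt N2125 F14461))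
theorem Q2127 : ∀ i, i < 2127 → P i := stepQ 2126 Q2126 (allL N2126 (tt N2605 (iv F19423)) (tt N2126 F14462) (tt N2126 F14463) (tt N2126 F14464) (tt N2611 (iv F19475)) (tt N1716 (iv D3666)) (tt N2126 F37626) (tt N1784 (iv F37902)) (tt N2126 F14465))
theorem Q2128 : ∀ i, i < 2128 → P i := stepQ 2127 Q2127 (allL N2127 (tt N2127 F14491) (tt N1719 F14492) (tt N2612 D5022) (tt N1717 (iv D3673)) (tt N2464 (iv F18215)) (tt N2127 F14493) (tt N2613 D5023) (tt N2614 D5024) (tt N2593 (iv F19365)))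
theorem Q2129 : ∀ i, i < 2129 → P i := stepQ 2128 Q2128 (allL N2128 (tt N2128 F14494) (tt N1720 F14495) (tt N2128 F14496) (tt N2613 (iv F19517)) (tt N1718 F14497) (tt N2615 D5025) (tt N1717 (iv D3674)) (tt N2128 F14498) (tt N2594 (iv F19370)))
theorem Q2130 : ∀ i, i < 2130 → P i := stepQ 2129 Q2129 (allL N2129 (tt N1722 F14499) (tt N2613 (iv F19516)) (tt N2573 (iv F19256)) (tt N1720 F14500) (tt N2467 (iv F18233)) (tt N2616 D5026) (tt N1719 (iv D3675)) (tt N2617 D5027) (tt N2600 (iv F19399)))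
theorem Q2131 : ∀ i, i < 2131 → P i := stepQ 2130 Q2130 (allL N2130 (tt N1723 F14501) (tt N2614 (iv F19519)) (tt N2574 (iv F19259)) (tt N2130 F14502) (tt N2468 (iv F18235)) (tt N2130 F14503) (tt N2617 (iv F19533)) (tt N1719 (iv D3676)) (tt N2618 D5028))
theorem Q2132 : ∀ i, i < 2132 → P i := stepQ 2131 Q2131 (allL N2131 (tt N1724 F14504) (tt N2615 (iv F19523)) (tt N1721 F14505) (tt N2616 (iv F19529)) (tt N1783 F14506) (tt N1720 (iv D3677)) (tt N2131 F14507) (tt N2131 F14508) (tt N2515 F38635))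
theorem Q2133 : ∀ i, i < 2133 → P i := stepQ 2132 Q2132 (allL N2132 (tt N2616 (iv F19528)) (tt N2132 F14509) (tt N2527 (iv F38619)) (tt N1724 F14510) (tt N2619 D5029) (tt N1722 (iv D3678)) (tt N2132 F14511) (tt N2620 D5030) (tt N2516 F38612))
theorem Q2134 : ∀ i, i < 2134 → P i := stepQ 2133 Q2133 (allL N2133 (tt N2617 (iv F19531)) (tt N2133 F14512) (tt N2582 (iv F19315)) (tt N2133 F14513) (tt N2471 (iv F18270)) (tt N2620 (iv F19542)) (tt N1723 F14514) (tt N1722 (iv D3679)) (tt N2621 D5031))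
theorem Q2135 : ∀ i, i < 2135 → P i := stepQ 2134 Q2134 (allL N2134 (tt N2618 (iv F19534)) (tt N2134 F14515) (tt N2584 (iv F19320)) (tt N2134 F14516) (tt N2473 (iv F18276)) (tt N2134 F14517) (tt N2621 (iv F19546)) (tt N2608 (iv F19453)) (tt N1723 (iv D3680)))
theorem Q2136 : ∀ i, i < 2136 → P i := stepQ 2135 Q2135 (allL N2135 (tt N2135 F14518) (tt N1729 F14519) (tt N2135 F14520) (tt N2622 D5032) (tt N2135 F14521) (tt N2135 F14522) (tt N1726 F14523) (tt N1725 (iv D3681)) (tt N2623 D5033))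
theorem Q2137 : ∀ i, i < 2137 → P i := stepQ 2136 Q2136 (allL N2136 (tt N2136 F14524) (tt N1730 F14525) (tt N2624 D5034) (tt N1726 (iv D3682)) (tt N2625 D5035) (tt N1727 F14526) (tt N2622 (iv F19550)) (tt N2479 (iv F18348)) (tt N2626 D5036))
theorem Q2138 : ∀ i, i < 2138 → P i := stepQ 2137 Q2137 (allL N2137 (tt N2137 F14527) (tt N1731 F14528) (tt N2137 F14529) (tt N2626 (iv F19566)) (tt N2137 F14530) (tt N1728 F14531) (tt N2623 (iv F19556)) (tt N2137 F14532) (tt N1726 (iv D3683)))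
theorem Q2139 : ∀ i, i < 2139 → P i := stepQ 2138 Q2138 (allL N2138 (tt N2138 F14533) (tt N2570 (iv F19246)) (tt N1727 (iv D3684)) (tt N2138 F14534) (tt N2627 D5037) (tt N2624 (iv F19560)) (tt N2138 F14535) (tt N2481 (iv F18355)) (tt N2628 D5038))
theorem Q2140 : ∀ i, i < 2140 → P i := stepQ 2139 Q2139 (allL N2139 (tt N2139 F14536) (tt N1732 F14537) (tt N2627 (iv F19569)) (tt N1743 F14538) (tt N1727 (iv D3685)) (tt N2629 D5039) (tt N2139 F14539) (tt N2482 (iv F18360)) (tt N2630 D5040))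
theorem Q2141 : ∀ i, i < 2141 → P i := stepQ 2140 Q2140 (allL N2140 (tt N2140 F14540) (tt N1733 F14541) (tt N2628 (iv F19572)) (tt N1728 F14542) (tt N2630 (iv F19581)) (tt N2626 (iv F19567)) (tt N2140 F14543) (tt N2631 D5041) (tt N1727 (iv D3686)))
theorem Q2142 : ∀ i, i < 2142 → P i := stepQ 2141 Q2141 (allL N2141 (tt N1735 F14544) (tt N2622 (iv F19548)) (tt N2576 (iv F19277)) (tt N1729 (iv D3687)) (tt N2632 D5042) (tt N2141 F14545) (tt N1730 F14546) (tt N2486 (iv F18386)) (tt N2633 D5043))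
theorem Q2143 : ∀ i, i < 2143 → P i := stepQ 2142 Q2142 (allL N2142 (tt N1736 F14547) (tt N2623 (iv F19552)) (tt N1734 F14548) (tt N2633 (iv F19591)) (tt N2142 F14549) (tt N2142 F14550) (tt N1731 F14551) (tt N2142 F14552) (tt N1729 (iv D3688)))
theorem Q2144 : ∀ i, i < 2144 → P i := stepQ 2143 Q2143 (allL N2143 (tt N1737 F14553) (tt N2625 (iv F19562)) (tt N2577 (iv F19285)) (tt N2143 F14554) (tt N1730 (iv D3689)) (tt N2634 D5044) (tt N2632 (iv F19589)) (tt N2488 (iv F18393)) (tt N2635 D5045))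
theorem Q2145 : ∀ i, i < 2145 → P i := stepQ 2144 Q2144 (allL N2144 (tt N1738 F14555) (tt N2626 (iv F19565)) (tt N2578 (iv F19287)) (tt N1731 F14556) (tt N2635 (iv F19599)) (tt N1733 F14557) (tt N2633 (iv F19593)) (tt N2636 D5046) (tt N1730 (iv D3690)))
theorem Q2146 : ∀ i, i < 2146 → P i := stepQ 2145 Q2145 (allL N2145 (tt N1739 F14558) (tt N2629 (iv F19576)) (tt N2579 (iv F19291)) (tt N1745 F14559) (tt N2634 (iv F19596)) (tt N1732 (iv D3691)) (tt N2637 D5047) (tt N2490 (iv F18399)) (tt N2638 D5048))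
theorem Q2147 : ∀ i, i < 2147 → P i := stepQ 2146 Q2146 (allL N2146 (tt N1740 F14560) (tt N2630 (iv F19579)) (tt N2580 (iv F19294)) (tt N1746 F14561) (tt N1733 F14562) (tt N2638 (iv F19608)) (tt N2146 F14563) (tt N2639 D5049) (tt N1732 (iv D3692)))
theorem Q2148 : ∀ i, i < 2148 → P i := stepQ 2147 Q2147 (allL N2147 (tt N1741 F14564) (tt N2631 (iv F19584)) (tt N2581 (iv F19299)) (tt N2147 F14565) (tt N2639 (iv F19610)) (tt N2636 (iv F19602)) (tt N2147 F14566) (tt N1733 (iv D3693)) (tt N2492 (iv F18407)))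
theorem Q2149 : ∀ i, i < 2149 → P i := stepQ 2148 Q2148 (allL N2148 (tt N2632 (iv F19587)) (tt N2148 F14567) (tt N2586 (iv F19336)) (tt N2148 F14568) (tt N1735 (iv D3694)) (tt N2640 D5050) (tt N1737 F14569) (tt N2498 (iv F18449)) (tt N2641 D5051))
theorem Q2150 : ∀ i, i < 2150 → P i := stepQ 2149 Q2149 (allL N2149 (tt N2633 (iv F19590)) (tt N2149 F14570) (tt N2543 F38922) (tt N1736 F14571) (tt N2641 (iv F19617)) (tt N2149 F14572) (tt N1738 F14573) (tt N2642 D5052) (tt N1735 (iv D3695)))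
theorem Q2151 : ∀ i, i < 2151 → P i := stepQ 2150 Q2150 (allL N2150 (tt N2634 (iv F19594)) (tt N2150 F14574) (tt N2587 (iv F19342)) (tt N2150 F14575) (tt N1739 F14576) (tt N1737 (iv D3696)) (tt N2643 D5053) (tt N2500 (iv F18456)) (tt N2644 D5054))
theorem Q2152 : ∀ i, i < 2152 → P i := stepQ 2151 Q2151 (allL N2151 (tt N2635 (iv F19597)) (tt N2151 F14577) (tt N2588 (iv F19344)) (tt N2151 F14578) (tt N1738 F14579) (tt N2644 (iv F19629)) (tt N2641 (iv F19618)) (tt N2645 D5055) (tt N1737 (iv D3697)))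
theorem Q2153 : ∀ i, i < 2153 → P i := stepQ 2152 Q2152 (allL N2152 (tt N2636 (iv F19600)) (tt N2152 F14580) (tt N2589 (iv F19346)) (tt N2152 F14581) (tt N2645 (iv F19631)) (tt N1741 F14582) (tt N2642 (iv F19622)) (tt N1738 (iv D3698)) (tt N2502 (iv F18462)))
theorem Q2154 : ∀ i, i < 2154 → P i := stepQ 2153 Q2153 (allL N2153 (tt N2637 (iv F19603)) (tt N2153 F14583) (tt N2590 (iv F19348)) (tt N1748 F14584) (tt N2643 (iv F19625)) (tt N2153 F14585) (tt N1739 (iv D3699)) (tt N2503 (iv F18466)) (tt N2646 D5056))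
theorem Q2155 : ∀ i, i < 2155 → P i := stepQ 2154 Q2154 (allL N2154 (tt N2638 (iv F19606)) (tt N2154 F14586) (tt N2591 (iv F19351)) (tt N1749 F14587) (tt N2644 (iv F19628)) (tt N1740 F14588) (tt N2646 (iv F19635)) (tt N2647 D5057) (tt N1739 (iv D3700)))
theorem Q2156 : ∀ i, i < 2156 → P i := stepQ 2155 Q2155 (allL N2155 (tt N2639 (iv F19609)) (tt N2155 F14589) (tt N2592 (iv F19354)) (tt N2648 D5058) (tt N1741 F14590) (tt N2647 (iv F19637)) (tt N2155 F14591) (tt N1740 (iv D3701)) (tt N2505 (iv F18473)))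
theorem Q2157 : ∀ i, i < 2157 → P i := stepQ 2156 Q2156 (allL N2156 (tt N2156 F14592) (tt N2156 F14593) (tt N1743 F14594) (tt N2649 D5059) (tt N1742 (iv D3702)) (tt N2650 D5060) (tt N2156 F14595) (tt N2156 F14596) (tt N2651 D5061))
theorem Q2158 : ∀ i, i < 2158 → P i := stepQ 2157 Q2157 (allL N2157 (tt N2157 F14597) (tt N2157 F14598) (tt N1744 F14599) (tt N2157 F14600) (tt N2651 (iv F19654)) (tt N2157 F14601) (tt N2157 F14602) (tt N2652 D5062) (tt N1742 (iv D3703)))
theorem Q2159 : ∀ i, i < 2159 → P i := stepQ 2158 Q2158 (allL N2158 (tt N2158 F14603) (tt N1745 F14604) (tt N2650 (iv F19648)) (tt N2629 (iv F19577)) (tt N2158 F14605) (tt N1743 (iv D3704)) (tt N2653 D5063) (tt N2158 F14606) (tt N2654 D5064))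
theorem Q2160 : ∀ i, i < 2160 → P i := stepQ 2159 Q2159 (allL N2159 (tt N2159 F14607) (tt N1746 F14608) (tt N2651 (iv F19653)) (tt N2630 (iv F19580)) (tt N1744 F14609) (tt N2654 (iv F19670)) (tt N2159 F14610) (tt N2655 D5065) (tt N1743 (iv D3705)))
theorem Q2161 : ∀ i, i < 2161 → P i := stepQ 2160 Q2160 (allL N2160 (tt N2160 F14611) (tt N1747 F14612) (tt N2652 (iv F19658)) (tt N2160 F14613) (tt N2655 (iv F19673)) (tt N2160 F14614) (tt N2160 F14615) (tt N1744 (iv D3706)) (tt N2160 F14616))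
theorem Q2162 : ∀ i, i < 2162 → P i := stepQ 2161 Q2161 (allL N2161 (tt N1748 F14617) (tt N2653 (iv F19663)) (tt N2161 F14618) (tt N2637 (iv F19604)) (tt N2161 F14619) (tt N2161 F14620) (tt N1745 (iv D3707)) (tt N2161 F14621) (tt N2656 D5066))
theorem Q2163 : ∀ i, i < 2163 → P i := stepQ 2162 Q2162 (allL N2162 (tt N1749 F14622) (tt N2654 (iv F19668)) (tt N2162 F14623) (tt N2638 (iv F19607)) (tt N2162 F14624) (tt N1746 F14625) (tt N2656 (iv F19680)) (tt N2657 D5067) (tt N1745 (iv D3708)))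
theorem Q2164 : ∀ i, i < 2164 → P i := stepQ 2163 Q2163 (allL N2163 (tt N1750 F14626) (tt N2655 (iv F19672)) (tt N2163 F14627) (tt N2658 D5068) (tt N1747 F14628) (tt N2657 (iv F19684)) (tt N2163 F14629) (tt N1746 (iv D3709)) (tt N2163 F14630))
theorem Q2165 : ∀ i, i < 2165 → P i := stepQ 2164 Q2164 (allL N2164 (tt N2656 (iv F19676)) (tt N2164 F14631) (tt N2164 F14632) (tt N2646 (iv F19633)) (tt N2164 F14633) (tt N2164 F14634) (tt N1749 F14635) (tt N2659 D5069) (tt N1748 (iv D3710)))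
theorem Q2166 : ∀ i, i < 2166 → P i := stepQ 2165 Q2165 (allL N2165 (tt N2657 (iv F19681)) (tt N2165 F14636) (tt N2165 F14637) (tt N2660 D5070) (tt N2165 F14638) (tt N1750 F14639) (tt N2659 (iv F19694)) (tt N1749 (iv D3711)) (tt N2165 F14640))
theorem Q2167 : ∀ i, i < 2167 → P i := stepQ 2166 Q2166 (allL N2166 (tt N2658 (iv F19686)) (tt N2166 F14641) (tt N2661 D5071) (tt N1750 (iv D3712)) (tt N2166 F14642) (tt N2660 (iv F19697)) (tt N2166 F14643) (tt N2648 (iv F19641)) (tt N2166 F14644))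
theorem Q2168 : ∀ i, i < 2168 → P i := stepQ 2167 Q2167 (allL N2167 (tt N2167 F15163) (tt N1753 F15164) (tt N2168 (iv F37643)) (tt N2662 D5267) (tt N1751 (iv D3855)) (tt N1759 (iv F37642)) (tt N2303 (iv F37768)) (tt N1758 (iv F37645)) (tt N1752 F37764))
theorem Q2169 : ∀ i, i < 2169 → P i := stepQ 2168 Q2168 (allL N2168 (tt N2168 F15171) (tt N1754 F15172) (tt N2167 F37643) (tt N2663 D5271) (tt N1758 (iv F37644)) (tt N1752 F15173) (tt N2454 (iv F37708)) (tt N1751 (iv D3857)) (tt N1759 (iv F37702)))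
theorem Q2170 : ∀ i, i < 2170 → P i := stepQ 2169 Q2169 (allL N2169 (tt N2169 F15174) (tt N1755 F15175) (tt N2664 D5273) (tt N1752 (iv D3858)) (tt N2169 F15176) (tt N2663 (iv F20432)) (tt N2302 (iv F17416)) (tt N2169 F15177) (tt N2662 (iv F37704)))
theorem Q2171 : ∀ i, i < 2171 → P i := stepQ 2170 Q2170 (allL N2170 (tt N1756 F15182) (tt N2662 (iv F20415)) (tt N2170 F15183) (tt N1753 (iv D3860)) (tt N2170 F15184) (tt N1761 (iv F37638)) (tt N2310 (iv F37868)) (tt N1771 F37588) (tt N1755 F37781))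
theorem Q2172 : ∀ i, i < 2172 → P i := stepQ 2171 Q2171 (allL N2171 (tt N1757 F15198) (tt N2663 (iv F20431)) (tt N2171 F15199) (tt N1754 (iv D3864)) (tt N1767 (iv F37706)) (tt N1755 F15200) (tt N2459 (iv F37707)) (tt N2171 F15201) (tt N1761 (iv F37753)))
theorem Q2173 : ∀ i, i < 2173 → P i := stepQ 2172 Q2172 (allL N2172 (tt N2172 F15323) (tt N1760 F15324) (tt N1998 (iv F37771)) (tt N1764 F15326) (tt N2454 F37769) (tt N2451 (iv F18042)) (tt N1758 (iv D3896)) (tt N2303 F37770) (tt N1762 F15327))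
theorem Q2174 : ∀ i, i < 2174 → P i := stepQ 2173 Q2173 (allL N2173 (tt N2173 F15332) (tt N1761 F15333) (tt N2665 D5327) (tt N1759 (iv D3898)) (tt N1780 (iv F37640)) (tt N2662 F37589) (tt N2453 (iv F18050)) (tt N1766 F15334) (tt N2663 F37700))
theorem Q2175 : ∀ i, i < 2175 → P i := stepQ 2174 Q2174 (allL N2174 (tt N2174 F15771) (tt N1767 F15772) (tt N2666 D5486) (tt N1763 (iv D4019)) (tt N2663 F37649) (tt N2174 F15773) (tt N2667 D5487) (tt N2174 F37290) (tt N1780 F15774))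
theorem Q2176 : ∀ i, i < 2176 → P i := stepQ 2175 Q2175 (allL N2175 (tt N2175 F15775) (tt N1768 F15776) (tt N2175 F15777) (tt N2667 (iv F21237)) (tt N1764 F15778) (tt N2668 D5489) (tt N1763 (iv D4020)) (tt N2669 D5490) (tt N1781 F15779))
theorem Q2177 : ∀ i, i < 2177 → P i := stepQ 2176 Q2176 (allL N2176 (tt N2176 F15780) (tt N1769 F15781) (tt N2176 F15782) (tt N2176 F37315) (tt N1765 F15783) (tt N2176 F15784) (tt N2669 (iv F21251)) (tt N1763 (iv D4021)) (tt N2176 F15785))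
theorem Q2178 : ∀ i, i < 2178 → P i := stepQ 2177 Q2177 (allL N2177 (tt N2177 F15786) (tt N1770 F15787) (tt N2177 F15788) (tt N2670 D5492) (tt N2669 (iv F21250)) (tt N2596 (iv F19380)) (tt N1765 F15789) (tt N1764 (iv D4022)) (tt N2177 F15790))
theorem Q2179 : ∀ i, i < 2179 → P i := stepQ 2178 Q2178 (allL N2178 (tt N2178 F15791) (tt N1771 F15792) (tt N2671 D5493) (tt N1765 (iv D4023)) (tt N2178 F37365) (tt N1766 F15793) (tt N2670 (iv F21259)) (tt N2662 (iv F37539)) (tt N2178 F15794))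
theorem Q2180 : ∀ i, i < 2180 → P i := stepQ 2179 Q2179 (allL N2179 (tt N2179 F15795) (tt N2179 F15796) (tt N1766 (iv D4024)) (tt N2179 F15797) (tt N2672 D5495) (tt N2671 (iv F21264)) (tt N2598 (iv F19390)) (tt N2665 (iv F20655)) (tt N2179 F15798))
theorem Q2181 : ∀ i, i < 2181 → P i := stepQ 2180 Q2180 (allL N2180 (tt N2180 F15799) (tt N1772 F15800) (tt N2672 (iv F21271)) (tt N2180 F15801) (tt N1766 (iv D4025)) (tt N2180 F37445) (tt N2599 (iv F19395)) (tt N1780 (iv F37641)) (tt N2180 F15802))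
theorem Q2182 : ∀ i, i < 2182 → P i := stepQ 2181 Q2181 (allL N2181 (tt N1776 F15803) (tt N2667 (iv F21236)) (tt N2181 F15804) (tt N1768 F15805) (tt N2459 F37785) (tt N2673 D5497) (tt N1767 (iv D4026)) (tt N2181 F37311) (tt N1782 F15806))
theorem Q2183 : ∀ i, i < 2183 → P i := stepQ 2182 Q2182 (allL N2182 (tt N1777 F15810) (tt N2668 (iv F21243)) (tt N1773 F15811) (tt N2673 (iv F21279)) (tt N2515 F38633) (tt N1768 (iv D4028)) (tt N2182 F15812) (tt N2512 (iv F38665)) (tt N1783 F15813))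
theorem Q2184 : ∀ i, i < 2184 → P i := stepQ 2183 Q2183 (allL N2183 (tt N1778 F15814) (tt N2669 (iv F21248)) (tt N1774 F15815) (tt N2183 F37362) (tt N1770 F15816) (tt N2512 F38713) (tt N1769 F15817) (tt N1768 (iv D4029)) (tt N2183 F15818))
theorem Q2185 : ∀ i, i < 2185 → P i := stepQ 2184 Q2184 (allL N2184 (tt N1779 F15822) (tt N2670 (iv F21258)) (tt N2184 F15823) (tt N1770 (iv D4031)) (tt N2184 F37443) (tt N2603 (iv F19417)) (tt N1771 F15824) (tt N2310 F37959) (tt N2184 F15825))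
theorem Q2186 : ∀ i, i < 2186 → P i := stepQ 2185 Q2185 (allL N2185 (tt N2673 (iv F21277)) (tt N2185 F15849) (tt N2185 F15850) (tt N1777 F15851) (tt N2674 D5511) (tt N1776 (iv D4037)) (tt N2185 F15852) (tt N2185 F37350) (tt N1784 F15853))
theorem Q2187 : ∀ i, i < 2187 → P i := stepQ 2186 Q2186 (allL N2186 (tt N2186 F15926) (tt N2186 F15927) (tt N1780 (iv D4055)) (tt N2186 F15928) (tt N2665 F37593) (tt N2186 F15929) (tt N2675 D5533) (tt N2672 F37594) (tt N2666 (iv F21234)))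
theorem Q2188 : ∀ i, i < 2188 → P i := stepQ 2187 Q2187 (allL N2187 (tt N2187 F15930) (tt N1782 F15931) (tt N2675 (iv F21426)) (tt N1781 F15932) (tt N2453 F37696) (tt N2676 D5535) (tt N1780 (iv D4056)) (tt N2599 F37697) (tt N2667 (iv F21238)))
theorem Q2189 : ∀ i, i < 2189 → P i := stepQ 2188 Q2188 (allL N2188 (tt N2188 F15937) (tt N1783 F15938) (tt N2188 F15939) (tt N2676 (iv F21434)) (tt N2615 (iv F19525)) (tt N1781 (iv D4058)) (tt N2188 F15940) (tt N2188 F15941) (tt N2668 (iv F21246)))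
theorem Q2190 : ∀ i, i < 2190 → P i := stepQ 2189 Q2189 (allL N2189 (tt N1784 F15942) (tt N2676 (iv F21433)) (tt N2189 F15943) (tt N1783 F15944) (tt N2677 D5538) (tt N1782 (iv D4059)) (tt N2189 F15945) (tt N2605 F37834) (tt N2673 (iv F21281)))
theorem Q2191 : ∀ i, i < 2191 → P i := stepQ 2190 Q2190 (allL N2190 (tt N2677 (iv F21444)) (tt N2190 F15954) (tt N2190 F15955) (tt N2619 (iv F19538)) (tt N1784 (iv D4062)) (tt N2463 F37980) (tt N2190 F15956) (tt N2611 F37981) (tt N2674 (iv F21338)))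
theorem Q2192 : ∀ i, i < 2192 → P i := stepQ 2191 Q2191 (allL N2191 (tt N1795 F16302) (tt N1785 (iv D4145)) (tt N1913 F16303) (tt N2191 F16304) (tt N2340 (iv F17625)) (tt N2678 D5653) (tt N2191 F16305) (tt N2679 D5654) (tt N2249 (iv F17223)))
theorem Q2193 : ∀ i, i < 2193 → P i := stepQ 2192 Q2192 (allL N2192 (tt N1788 F16306) (tt N2678 (iv F21925)) (tt N1786 F16307) (tt N2192 F16308) (tt N2680 D5655) (tt N1785 (iv D4146)) (tt N2511 F38512) (tt N2681 D5657) (tt N2250 (iv F17227)))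
theorem Q2194 : ∀ i, i < 2194 → P i := stepQ 2193 Q2193 (allL N2193 (tt N1789 F16309) (tt N2679 (iv F21929)) (tt N1787 F16310) (tt N2682 D5658) (tt N2342 (iv F17634)) (tt N2681 (iv F21940)) (tt N2193 F16311) (tt N1785 (iv D4147)) (tt N2683 D5659))
theorem Q2195 : ∀ i, i < 2195 → P i := stepQ 2194 Q2194 (allL N2194 (tt N1790 F16312) (tt N1916 F16313) (tt N2680 (iv F21933)) (tt N2194 F16314) (tt N1786 (iv D4148)) (tt N2343 (iv F17639)) (tt N2476 F38503) (tt N2684 D5661) (tt N2252 (iv F17235)))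
theorem Q2196 : ∀ i, i < 2196 → P i := stepQ 2195 Q2195 (allL N2195 (tt N1791 F16319) (tt N1918 F16320) (tt N2681 (iv F21939)) (tt N2195 F16321) (tt N2684 (iv F21954)) (tt N1787 F16322) (tt N2508 F38567) (tt N1786 (iv D4150)) (tt N2685 D5663))
theorem Q2197 : ∀ i, i < 2197 → P i := stepQ 2196 Q2196 (allL N2196 (tt N1792 F16323) (tt N1919 F16324) (tt N2683 (iv F21946)) (tt N2196 F16325) (tt N2346 (iv F17651)) (tt N2685 (iv F21963)) (tt N2196 F16326) (tt N2255 (iv F17245)) (tt N1787 (iv D4151)))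
theorem Q2198 : ∀ i, i < 2198 → P i := stepQ 2197 Q2197 (allL N2197 (tt N2680 (iv F21932)) (tt N1801 F16327) (tt N1790 F16328) (tt N2686 D5664) (tt N1788 (iv D4152)) (tt N2347 (iv F17656)) (tt N2475 F38383) (tt N2687 D5666) (tt N2256 (iv F17249)))
theorem Q2199 : ∀ i, i < 2199 → P i := stepQ 2198 Q2198 (allL N2198 (tt N2681 (iv F21938)) (tt N1802 F16333) (tt N1791 F16334) (tt N2688 D5668) (tt N2687 (iv F21972)) (tt N1789 F16335) (tt N2506 F38513) (tt N1788 (iv D4154)) (tt N2689 D5669))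
theorem Q2200 : ∀ i, i < 2200 → P i := stepQ 2199 Q2199 (allL N2199 (tt N2682 (iv F21941)) (tt N1803 F16336) (tt N2199 F16337) (tt N1789 (iv D4155)) (tt N2690 D5670) (tt N2688 (iv F21979)) (tt N2199 F16338) (tt N2199 F16339) (tt N2691 D5671))
theorem Q2201 : ∀ i, i < 2201 → P i := stepQ 2200 Q2200 (allL N2200 (tt N2683 (iv F21945)) (tt N1804 F16340) (tt N1792 F16341) (tt N2691 (iv F21990)) (tt N2351 (iv F17671)) (tt N2689 (iv F21983)) (tt N2200 F16342) (tt N2260 (iv F17265)) (tt N1789 (iv D4156)))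
theorem Q2202 : ∀ i, i < 2202 → P i := stepQ 2201 Q2201 (allL N2201 (tt N2684 (iv F21952)) (tt N1793 F16346) (tt N2687 (iv F21971)) (tt N2692 D5674) (tt N1791 F16347) (tt N2353 (iv F17680)) (tt N2448 F38505) (tt N1790 (iv D4158)) (tt N2693 D5675))
theorem Q2203 : ∀ i, i < 2203 → P i := stepQ 2202 Q2202 (allL N2202 (tt N2685 (iv F21960)) (tt N1794 F16352) (tt N2689 (iv F21982)) (tt N2202 F16353) (tt N2693 (iv F22002)) (tt N1792 F16354) (tt N2509 F38568) (tt N2264 (iv F17278)) (tt N1791 (iv D4160)))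
theorem Q2204 : ∀ i, i < 2204 → P i := stepQ 2203 Q2203 (allL N2203 (tt N1931 F16363) (tt N2692 (iv F21998)) (tt N2385 F38508) (tt N1793 (iv D4163)) (tt N2203 F16364) (tt N2357 (iv F17698)) (tt N2387 F38509) (tt N2203 F16365) (tt N2694 D5681))
theorem Q2205 : ∀ i, i < 2205 → P i := stepQ 2204 Q2204 (allL N2204 (tt N1932 F16366) (tt N2693 (iv F22001)) (tt N1807 F16367) (tt N2694 (iv F22024)) (tt N1794 F16368) (tt N2358 (iv F17703)) (tt N2449 F38510) (tt N2268 (iv F17292)) (tt N1793 (iv D4164)))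
theorem Q2206 : ∀ i, i < 2206 → P i := stepQ 2205 Q2205 (allL N2205 (tt N2678 (iv F21924)) (tt N1796 F16374) (tt N1954 F16375) (tt N2205 F16376) (tt N2695 D5682) (tt N1795 (iv D4166)) (tt N2510 F38427) (tt N2696 D5684) (tt N2270 (iv F17299)))
theorem Q2207 : ∀ i, i < 2207 → P i := stepQ 2206 Q2206 (allL N2206 (tt N2679 (iv F21928)) (tt N1797 F16377) (tt N1955 F16378) (tt N2697 D5685) (tt N2390 (iv F17807)) (tt N2696 (iv F22034)) (tt N2206 F16379) (tt N1795 (iv D4167)) (tt N2698 D5686))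
theorem Q2208 : ∀ i, i < 2208 → P i := stepQ 2207 Q2207 (allL N2207 (tt N1801 F16380) (tt N2695 (iv F22026)) (tt N1798 F16381) (tt N2699 D5687) (tt N1796 (iv D4168)) (tt N2391 (iv F17811)) (tt N2470 F38292) (tt N2700 D5689) (tt N2272 (iv F17306)))
theorem Q2209 : ∀ i, i < 2209 → P i := stepQ 2208 Q2208 (allL N2208 (tt N1802 F16386) (tt N2696 (iv F22032)) (tt N1799 F16387) (tt N2701 D5691) (tt N2700 (iv F22049)) (tt N1797 F16388) (tt N2493 F38428) (tt N1796 (iv D4170)) (tt N2702 D5692))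
theorem Q2210 : ∀ i, i < 2210 → P i := stepQ 2209 Q2209 (allL N2209 (tt N1803 F16389) (tt N2697 (iv F22035)) (tt N1814 F16390) (tt N1797 (iv D4171)) (tt N2703 D5693) (tt N2701 (iv F22056)) (tt N2209 F16391) (tt N2209 F16392) (tt N2704 D5694))
theorem Q2211 : ∀ i, i < 2211 → P i := stepQ 2210 Q2210 (allL N2210 (tt N1804 F16393) (tt N2698 (iv F22038)) (tt N1800 F16394) (tt N2704 (iv F22067)) (tt N2395 (iv F17827)) (tt N2702 (iv F22060)) (tt N2210 F16395) (tt N2276 (iv F17323)) (tt N1797 (iv D4172)))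
theorem Q2212 : ∀ i, i < 2212 → P i := stepQ 2211 Q2211 (allL N2211 (tt N1805 F16400) (tt N1962 F16401) (tt N2700 (iv F22048)) (tt N2428 F38293) (tt N1799 F16402) (tt N2397 (iv F17838)) (tt N2429 F38294) (tt N1798 (iv D4174)) (tt N2705 D5698))
theorem Q2213 : ∀ i, i < 2213 → P i := stepQ 2212 Q2212 (allL N2212 (tt N1806 F16408) (tt N1964 F16409) (tt N2702 (iv F22059)) (tt N1816 F16410) (tt N2705 (iv F22083)) (tt N1800 F16411) (tt N2494 F38431) (tt N2280 (iv F17338)) (tt N1799 (iv D4176)))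
theorem Q2214 : ∀ i, i < 2214 → P i := stepQ 2213 Q2213 (allL N2213 (tt N2699 (iv F22041)) (tt N2686 (iv F21964)) (tt N1810 F16412) (tt N1801 (iv D4177)) (tt N2213 F16413) (tt N2400 (iv F17851)) (tt N2474 F38256) (tt N2706 D5701) (tt N2281 (iv F17342)))
theorem Q2215 : ∀ i, i < 2215 → P i := stepQ 2214 Q2214 (allL N2214 (tt N2700 (iv F22047)) (tt N2687 (iv F21970)) (tt N1805 F16416) (tt N2707 D5704) (tt N1802 F16417) (tt N2402 (iv F17858)) (tt N2446 F38385) (tt N1801 (iv D4179)) (tt N2708 D5705))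
theorem Q2216 : ∀ i, i < 2216 → P i := stepQ 2215 Q2215 (allL N2215 (tt N2701 (iv F22054)) (tt N2688 (iv F21977)) (tt N1817 F16421) (tt N1802 (iv D4181)) (tt N2709 D5708) (tt N1803 F16422) (tt N2495 F38514) (tt N2215 F16423) (tt N2710 D5709))
theorem Q2217 : ∀ i, i < 2217 → P i := stepQ 2216 Q2216 (allL N2216 (tt N2702 (iv F22058)) (tt N2689 (iv F21981)) (tt N1806 F16424) (tt N2710 (iv F22111)) (tt N2708 (iv F22100)) (tt N1804 F16425) (tt N2507 F38515) (tt N2286 (iv F17357)) (tt N1802 (iv D4182)))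
theorem Q2218 : ∀ i, i < 2218 → P i := stepQ 2217 Q2217 (allL N2217 (tt N2703 (iv F22061)) (tt N2690 (iv F21984)) (tt N1819 F16426) (tt N2406 (iv F17869)) (tt N1803 (iv D4183)) (tt N2711 D5710) (tt N2217 F16427) (tt N2217 F16428) (tt N2712 D5711))
theorem Q2219 : ∀ i, i < 2219 → P i := stepQ 2218 Q2218 (allL N2218 (tt N2704 (iv F22065)) (tt N2691 (iv F21988)) (tt N1820 F16429) (tt N1804 F16430) (tt N2712 (iv F22116)) (tt N2710 (iv F22112)) (tt N2218 F16431) (tt N2713 D5712) (tt N1803 (iv D4184)))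
theorem Q2220 : ∀ i, i < 2220 → P i := stepQ 2219 Q2219 (allL N2219 (tt N2705 (iv F22081)) (tt N1807 F16441) (tt N2708 (iv F22099)) (tt N2445 F38387) (tt N1806 F16442) (tt N2410 (iv F17889)) (tt N2447 F38388) (tt N2292 (iv F17380)) (tt N1805 (iv D4188)))
theorem Q2221 : ∀ i, i < 2221 → P i := stepQ 2220 Q2220 (allL N2220 (tt N2220 F16463) (tt N1809 F16464) (tt N1995 F16465) (tt N2714 D5725) (tt N1808 (iv D4195)) (tt N2450 (iv F18036)) (tt N2466 F38027) (tt N2465 F38028) (tt N2299 (iv F17404)))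
theorem Q2222 : ∀ i, i < 2222 → P i := stepQ 2221 Q2221 (allL N2221 (tt N1810 F16484) (tt N2714 (iv F22159)) (tt N2699 (iv F22042)) (tt N1809 (iv D4200)) (tt N2221 F16485) (tt N2455 (iv F18060)) (tt N2469 F38168) (tt N2715 D5734) (tt N2304 (iv F17426)))
theorem Q2223 : ∀ i, i < 2223 → P i := stepQ 2222 Q2222 (allL N2222 (tt N2715 (iv F22196)) (tt N2222 F16532) (tt N2706 (iv F22092)) (tt N2471 F38257) (tt N2222 F16533) (tt N2461 (iv F18122)) (tt N2472 F38258) (tt N1810 (iv D4214)) (tt N2716 D5754))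
theorem Q2224 : ∀ i, i < 2224 → P i := stepQ 2223 Q2223 (allL N2223 (tt N2223 F16618) (tt N1813 F16619) (tt N2010 F16620) (tt N2717 D5789) (tt N2478 F38529) (tt N1812 F16621) (tt N2477 F38530) (tt N1811 (iv D4240)) (tt N2718 D5790))
theorem Q2225 : ∀ i, i < 2225 → P i := stepQ 2224 Q2224 (allL N2224 (tt N2224 F16622) (tt N1814 F16623) (tt N2719 D5791) (tt N1812 (iv D4241)) (tt N2720 D5792) (tt N2717 (iv F22380)) (tt N2224 F16624) (tt N2224 F16625) (tt N2721 D5793))
theorem Q2226 : ∀ i, i < 2226 → P i := stepQ 2225 Q2225 (allL N2225 (tt N2225 F16626) (tt N1815 F16627) (tt N2012 F16628) (tt N2721 (iv F22398)) (tt N2225 F16629) (tt N2718 (iv F22385)) (tt N2225 F16630) (tt N2225 F16631) (tt N1812 (iv D4242)))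
theorem Q2227 : ∀ i, i < 2227 → P i := stepQ 2226 Q2226 (allL N2226 (tt N1817 F16649) (tt N2717 (iv F22379)) (tt N2701 (iv F22055)) (tt N1813 (iv D4247)) (tt N2722 D5802) (tt N1814 F16650) (tt N2484 F38528) (tt N2226 F16651) (tt N2723 D5803))
theorem Q2228 : ∀ i, i < 2228 → P i := stepQ 2227 Q2227 (allL N2227 (tt N1818 F16652) (tt N2718 (iv F22383)) (tt N1816 F16653) (tt N2723 (iv F22437)) (tt N2487 F38531) (tt N1815 F16654) (tt N2485 F38532) (tt N2227 F16655) (tt N1813 (iv D4248)))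
theorem Q2229 : ∀ i, i < 2229 → P i := stepQ 2228 Q2228 (allL N2228 (tt N1819 F16656) (tt N2720 (iv F22392)) (tt N2703 (iv F22062)) (tt N2228 F16657) (tt N1814 (iv D4249)) (tt N2724 D5804) (tt N2228 F16658) (tt N2228 F16659) (tt N2725 D5805))
theorem Q2230 : ∀ i, i < 2230 → P i := stepQ 2229 Q2229 (allL N2229 (tt N1820 F16660) (tt N2721 (iv F22397)) (tt N2704 (iv F22066)) (tt N1815 F16661) (tt N2725 (iv F22444)) (tt N2723 (iv F22438)) (tt N2229 F16662) (tt N2726 D5806) (tt N1814 (iv D4250)))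
theorem Q2231 : ∀ i, i < 2231 → P i := stepQ 2230 Q2230 (allL N2230 (tt N2722 (iv F22434)) (tt N2230 F16721) (tt N2709 (iv F22108)) (tt N2498 F38563) (tt N1817 (iv D4264)) (tt N2727 D5824) (tt N2496 F38564) (tt N2230 F16722) (tt N2728 D5825))
theorem Q2232 : ∀ i, i < 2232 → P i := stepQ 2231 Q2231 (allL N2231 (tt N2723 (iv F22436)) (tt N2231 F16723) (tt N2710 (iv F22110)) (tt N1818 F16724) (tt N2728 (iv F22518)) (tt N1820 F16725) (tt N2497 F38565) (tt N2729 D5826) (tt N1817 (iv D4265)))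
theorem Q2233 : ∀ i, i < 2233 → P i := stepQ 2232 Q2232 (allL N2232 (tt N2724 (iv F22439)) (tt N2232 F16726) (tt N2711 (iv F22113)) (tt N2232 F16727) (tt N2727 (iv F22515)) (tt N1819 (iv D4266)) (tt N2730 D5827) (tt N2232 F16728) (tt N2731 D5828))
theorem Q2234 : ∀ i, i < 2234 → P i := stepQ 2233 Q2233 (allL N2233 (tt N2725 (iv F22442)) (tt N2233 F16729) (tt N2712 (iv F22115)) (tt N2233 F16730) (tt N1820 F16731) (tt N2731 (iv F22529)) (tt N2233 F16732) (tt N2732 D5829) (tt N1819 (iv D4267)))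
theorem Q2235 : ∀ i, i < 2235 → P i := stepQ 2234 Q2234 (allL N2234 (tt N2726 (iv F22446)) (tt N2234 F16733) (tt N2713 (iv F22118)) (tt N2234 F16734) (tt N2732 (iv F22531)) (tt N2729 (iv F22521)) (tt N2234 F16735) (tt N1820 (iv D4268)) (tt N2234 F16736))
theorem Q2236 : ∀ i, i < 2236 → P i := stepQ 2235 Q2235 (allL N2235 (tt N1823 F17162) (tt N2733 D5981) (tt N1821 (iv D4380)) (tt N2235 F17163) (tt N2235 F17164) (tt N2734 D5982) (tt N2235 F17165) (tt N2735 D5983) (tt N2235 F17166))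
theorem Q2237 : ∀ i, i < 2237 → P i := stepQ 2236 Q2236 (allL N2236 (tt N1824 F17167) (tt N2327 (iv F17564)) (tt N2734 (iv F23104)) (tt N1822 F17168) (tt N2736 D5984) (tt N1821 (iv D4381)) (tt N2737 D5985) (tt N2738 D5986) (tt N2236 F17169))
theorem Q2238 : ∀ i, i < 2238 → P i := stepQ 2237 Q2237 (allL N2237 (tt N1825 F17170) (tt N2328 (iv F17568)) (tt N2735 (iv F23108)) (tt N1833 F17171) (tt N2237 F17172) (tt N2738 (iv F23121)) (tt N2237 F17173) (tt N1821 (iv D4382)) (tt N2739 D5987))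
theorem Q2239 : ∀ i, i < 2239 → P i := stepQ 2238 Q2238 (allL N2238 (tt N1826 F17174) (tt N2329 (iv F17573)) (tt N2238 F17175) (tt N2737 (iv F23116)) (tt N2238 F17176) (tt N2238 F17177) (tt N1822 (iv D4383)) (tt N1834 F17178) (tt N2238 F17179))
theorem Q2240 : ∀ i, i < 2240 → P i := stepQ 2239 Q2239 (allL N2239 (tt N2734 (iv F23103)) (tt N2239 F17180) (tt N1824 F17181) (tt N2239 F17182) (tt N2740 D5988) (tt N1823 (iv D4384)) (tt N2741 D5989) (tt N2742 D5990) (tt N2239 F17183))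
theorem Q2241 : ∀ i, i < 2241 → P i := stepQ 2240 Q2240 (allL N2240 (tt N2735 (iv F23107)) (tt N2240 F17184) (tt N1825 F17185) (tt N2743 D5991) (tt N2240 F17186) (tt N2742 (iv F23138)) (tt N2240 F17187) (tt N1823 (iv D4385)) (tt N2744 D5992))
theorem Q2242 : ∀ i, i < 2242 → P i := stepQ 2241 Q2241 (allL N2241 (tt N2736 (iv F23111)) (tt N1827 F17188) (tt N2740 (iv F23128)) (tt N2241 F17189) (tt N1824 (iv D4386)) (tt N2241 F17190) (tt N2745 D5993) (tt N2746 D5994) (tt N2241 F17191))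
theorem Q2243 : ∀ i, i < 2243 → P i := stepQ 2242 Q2242 (allL N2242 (tt N2737 (iv F23115)) (tt N1828 F17192) (tt N2741 (iv F23132)) (tt N1826 F17193) (tt N2745 (iv F23150)) (tt N2242 F17194) (tt N1824 (iv D4387)) (tt N2747 D5995) (tt N2242 F17195))
theorem Q2244 : ∀ i, i < 2244 → P i := stepQ 2243 Q2243 (allL N2243 (tt N2738 (iv F23119)) (tt N1829 F17196) (tt N2742 (iv F23137)) (tt N1839 F17197) (tt N2746 (iv F23153)) (tt N1825 F17198) (tt N2747 (iv F23158)) (tt N1824 (iv D4388)) (tt N2748 D5996))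
theorem Q2245 : ∀ i, i < 2245 → P i := stepQ 2244 Q2244 (allL N2244 (tt N2739 (iv F23122)) (tt N1830 F17199) (tt N2744 (iv F23144)) (tt N1840 F17200) (tt N2244 F17201) (tt N2748 (iv F23161)) (tt N2244 F17202) (tt N2244 F17203) (tt N1825 (iv D4389)))
theorem Q2246 : ∀ i, i < 2246 → P i := stepQ 2245 Q2245 (allL N2245 (tt N2336 (iv F17603)) (tt N2745 (iv F23148)) (tt N2245 F17204) (tt N2245 F17205) (tt N1828 F17206) (tt N2749 D5997) (tt N1827 (iv D4390)) (tt N2750 D5998) (tt N2245 F17207))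
theorem Q2247 : ∀ i, i < 2247 → P i := stepQ 2246 Q2246 (allL N2246 (tt N2337 (iv F17608)) (tt N2746 (iv F23152)) (tt N2246 F17208) (tt N2751 D5999) (tt N1829 F17209) (tt N2246 F17210) (tt N2750 (iv F23170)) (tt N1827 (iv D4391)) (tt N2752 D6000))
theorem Q2248 : ∀ i, i < 2248 → P i := stepQ 2247 Q2247 (allL N2247 (tt N2338 (iv F17612)) (tt N2747 (iv F23155)) (tt N2247 F17211) (tt N1843 F17212) (tt N2750 (iv F23169)) (tt N2247 F17213) (tt N1829 F17214) (tt N1828 (iv D4392)) (tt N2753 D6001))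
theorem Q2249 : ∀ i, i < 2249 → P i := stepQ 2248 Q2248 (allL N2248 (tt N2339 (iv F17617)) (tt N2748 (iv F23159)) (tt N2248 F17215) (tt N1844 F17216) (tt N2752 (iv F23175)) (tt N1830 F17217) (tt N2753 (iv F23181)) (tt N2248 F17218) (tt N1829 (iv D4393)))
theorem Q2250 : ∀ i, i < 2250 → P i := stepQ 2249 Q2249 (allL N2249 (tt N1845 F17219) (tt N1831 (iv D4394)) (tt N2340 (iv F17623)) (tt N2249 F17220) (tt N1913 F17221) (tt N2754 D6002) (tt N2249 F17222) (tt N2755 D6003) (tt N2191 F17223))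
theorem Q2251 : ∀ i, i < 2251 → P i := stepQ 2250 Q2250 (allL N2250 (tt N1835 F17224) (tt N2754 (iv F23184)) (tt N1832 F17225) (tt N2250 F17226) (tt N2756 D6004) (tt N1831 (iv D4395)) (tt N2757 D6005) (tt N2758 D6006) (tt N2192 F17227))
theorem Q2252 : ∀ i, i < 2252 → P i := stepQ 2251 Q2251 (allL N2251 (tt N1836 F17228) (tt N2755 (iv F23188)) (tt N1833 F17229) (tt N2759 D6007) (tt N1915 F17230) (tt N2758 (iv F23202)) (tt N2251 F17231) (tt N1831 (iv D4396)) (tt N2760 D6008))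
theorem Q2253 : ∀ i, i < 2253 → P i := stepQ 2252 Q2252 (allL N2252 (tt N1837 F17232) (tt N2343 (iv F17637)) (tt N2756 (iv F23192)) (tt N2252 F17233) (tt N1832 (iv D4397)) (tt N1916 F17234) (tt N2761 D6009) (tt N2762 D6010) (tt N2194 F17235))
theorem Q2254 : ∀ i, i < 2254 → P i := stepQ 2253 Q2253 (allL N2253 (tt N1838 F17236) (tt N2344 (iv F17642)) (tt N2757 (iv F23196)) (tt N1834 F17237) (tt N2761 (iv F23213)) (tt N2253 F17238) (tt N1832 (iv D4398)) (tt N2763 D6011) (tt N2037 (iv F38519)))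
theorem Q2255 : ∀ i, i < 2255 → P i := stepQ 2254 Q2254 (allL N2254 (tt N1839 F17240) (tt N2345 (iv F17647)) (tt N2758 (iv F23201)) (tt N2738 (iv F23120)) (tt N2762 (iv F23216)) (tt N1833 F17241) (tt N2763 (iv F23220)) (tt N1832 (iv D4399)) (tt N2764 D6012))
theorem Q2256 : ∀ i, i < 2256 → P i := stepQ 2255 Q2255 (allL N2255 (tt N1840 F17242) (tt N2346 (iv F17650)) (tt N2760 (iv F23207)) (tt N2739 (iv F23123)) (tt N1919 F17243) (tt N2764 (iv F23222)) (tt N2255 F17244) (tt N2196 F17245) (tt N1833 (iv D4400)))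
theorem Q2257 : ∀ i, i < 2257 → P i := stepQ 2256 Q2256 (allL N2256 (tt N2756 (iv F23191)) (tt N1852 F17246) (tt N1837 F17247) (tt N2765 D6013) (tt N1835 (iv D4401)) (tt N1920 F17248) (tt N2766 D6014) (tt N2767 D6015) (tt N2197 F17249))
theorem Q2258 : ∀ i, i < 2258 → P i := stepQ 2257 Q2257 (allL N2257 (tt N2757 (iv F23195)) (tt N1853 F17250) (tt N1838 F17251) (tt N2257 F17252) (tt N2766 (iv F23231)) (tt N2257 F17253) (tt N1835 (iv D4402)) (tt N2768 D6016) (tt N2036 (iv F38417)))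
theorem Q2259 : ∀ i, i < 2259 → P i := stepQ 2258 Q2258 (allL N2258 (tt N2758 (iv F23200)) (tt N1854 F17255) (tt N1839 F17256) (tt N2769 D6017) (tt N2767 (iv F23235)) (tt N1836 F17257) (tt N2768 (iv F23240)) (tt N1835 (iv D4403)) (tt N2770 D6018))
theorem Q2260 : ∀ i, i < 2260 → P i := stepQ 2259 Q2259 (allL N2259 (tt N2759 (iv F23203)) (tt N1855 F17258) (tt N2743 (iv F23140)) (tt N1836 (iv D4404)) (tt N2771 D6019) (tt N2769 (iv F23242)) (tt N2259 F17259) (tt N2259 F17260) (tt N2772 D6020))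
theorem Q2261 : ∀ i, i < 2261 → P i := stepQ 2260 Q2260 (allL N2260 (tt N2760 (iv F23206)) (tt N1856 F17261) (tt N1840 F17262) (tt N2772 (iv F23253)) (tt N1924 F17263) (tt N2770 (iv F23246)) (tt N2260 F17264) (tt N2200 F17265) (tt N1836 (iv D4405)))
theorem Q2262 : ∀ i, i < 2262 → P i := stepQ 2261 Q2261 (allL N2261 (tt N2761 (iv F23211)) (tt N1841 F17266) (tt N2766 (iv F23230)) (tt N2261 F17267) (tt N1838 F17268) (tt N2773 D6021) (tt N1837 (iv D4406)) (tt N2774 D6022) (tt N2007 (iv F38406)))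
theorem Q2263 : ∀ i, i < 2263 → P i := stepQ 2262 Q2262 (allL N2262 (tt N2762 (iv F23215)) (tt N1842 F17270) (tt N2767 (iv F23234)) (tt N2775 D6023) (tt N1839 F17271) (tt N1926 F17272) (tt N2774 (iv F23262)) (tt N1837 (iv D4407)) (tt N2776 D6024))
theorem Q2264 : ∀ i, i < 2264 → P i := stepQ 2263 Q2263 (allL N2263 (tt N2763 (iv F23218)) (tt N1843 F17273) (tt N2768 (iv F23238)) (tt N2747 (iv F23156)) (tt N2774 (iv F23261)) (tt N2263 F17274) (tt N1839 F17275) (tt N1838 (iv D4408)) (tt N2777 D6025))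
theorem Q2265 : ∀ i, i < 2265 → P i := stepQ 2264 Q2264 (allL N2264 (tt N2764 (iv F23221)) (tt N1844 F17276) (tt N2770 (iv F23245)) (tt N2748 (iv F23160)) (tt N2776 (iv F23267)) (tt N1840 F17277) (tt N2777 (iv F23272)) (tt N2202 F17278) (tt N1839 (iv D4409)))
theorem Q2266 : ∀ i, i < 2266 → P i := stepQ 2265 Q2265 (allL N2265 (tt N2324 (iv F38269)) (tt N2773 (iv F23255)) (tt N1861 F17279) (tt N2265 F17280) (tt N2265 F17281) (tt N1841 (iv D4410)) (tt N1929 F17282) (tt N2778 D6026) (tt N1888 F38276))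
theorem Q2267 : ∀ i, i < 2267 → P i := stepQ 2266 Q2266 (allL N2266 (tt N2356 (iv F17693)) (tt N2774 (iv F23260)) (tt N1862 F17284) (tt N2779 D6027) (tt N1843 F17285) (tt N2778 (iv F23276)) (tt N1842 F17286) (tt N1841 (iv D4411)) (tt N2780 D6028))
theorem Q2268 : ∀ i, i < 2268 → P i := stepQ 2267 Q2267 (allL N2267 (tt N2357 (iv F17697)) (tt N2775 (iv F23263)) (tt N2781 D6029) (tt N1842 (iv D4412)) (tt N2751 (iv F23171)) (tt N1931 F17287) (tt N2779 (iv F23278)) (tt N2267 F17288) (tt N2782 D6030))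
theorem Q2269 : ∀ i, i < 2269 → P i := stepQ 2268 Q2268 (allL N2268 (tt N2358 (iv F17700)) (tt N2776 (iv F23266)) (tt N1864 F17289) (tt N2782 (iv F23287)) (tt N1844 F17290) (tt N1932 F17291) (tt N2780 (iv F23282)) (tt N2204 F17292) (tt N1842 (iv D4413)))
theorem Q2270 : ∀ i, i < 2270 → P i := stepQ 2269 Q2269 (allL N2269 (tt N2359 (iv F17705)) (tt N2777 (iv F23270)) (tt N1865 F17293) (tt N2753 (iv F23179)) (tt N2780 (iv F23281)) (tt N2269 F17294) (tt N1844 F17295) (tt N2034 (iv F38524)) (tt N1843 (iv D4414)))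
theorem Q2271 : ∀ i, i < 2271 → P i := stepQ 2270 Q2270 (allL N2270 (tt N2754 (iv F23183)) (tt N1846 F17297) (tt N2389 (iv F17802)) (tt N2270 F17298) (tt N2783 D6031) (tt N1845 (iv D4415)) (tt N2784 D6032) (tt N2785 D6033) (tt N2205 F17299))
theorem Q2272 : ∀ i, i < 2272 → P i := stepQ 2271 Q2271 (allL N2271 (tt N2755 (iv F23187)) (tt N1847 F17300) (tt N2390 (iv F17806)) (tt N2786 D6034) (tt N1955 F17301) (tt N2785 (iv F23297)) (tt N2271 F17302) (tt N1845 (iv D4416)) (tt N2787 D6035))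
theorem Q2273 : ∀ i, i < 2273 → P i := stepQ 2272 Q2272 (allL N2272 (tt N1852 F17303) (tt N2783 (iv F23289)) (tt N1848 F17304) (tt N2788 D6036) (tt N1846 (iv D4417)) (tt N1956 F17305) (tt N2789 D6037) (tt N2790 D6038) (tt N2207 F17306))
theorem Q2274 : ∀ i, i < 2274 → P i := stepQ 2273 Q2273 (allL N2273 (tt N1853 F17307) (tt N2784 (iv F23292)) (tt N1849 F17308) (tt N2273 F17309) (tt N2789 (iv F23312)) (tt N2273 F17310) (tt N1846 (iv D4418)) (tt N2791 D6039) (tt N2035 (iv F38302)))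
theorem Q2275 : ∀ i, i < 2275 → P i := stepQ 2274 Q2274 (allL N2274 (tt N1854 F17312) (tt N2785 (iv F23296)) (tt N1850 F17313) (tt N2792 D6040) (tt N2790 (iv F23316)) (tt N1847 F17314) (tt N2791 (iv F23321)) (tt N1846 (iv D4419)) (tt N2793 D6041))
theorem Q2276 : ∀ i, i < 2276 → P i := stepQ 2275 Q2275 (allL N2275 (tt N1855 F17315) (tt N2786 (iv F23298)) (tt N2275 F17316) (tt N1847 (iv D4420)) (tt N2794 D6042) (tt N2792 (iv F23324)) (tt N2275 F17317) (tt N2275 F17318) (tt N2795 D6043))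
theorem Q2277 : ∀ i, i < 2277 → P i := stepQ 2276 Q2276 (allL N2276 (tt N1856 F17319) (tt N2787 (iv F23301)) (tt N1851 F17320) (tt N2795 (iv F23337)) (tt N1960 F17321) (tt N2793 (iv F23328)) (tt N2276 F17322) (tt N2210 F17323) (tt N1847 (iv D4421)))
theorem Q2278 : ∀ i, i < 2278 → P i := stepQ 2277 Q2277 (allL N2277 (tt N1857 F17324) (tt N2396 (iv F17831)) (tt N2789 (iv F23311)) (tt N1873 F17325) (tt N1849 F17326) (tt N2796 D6044) (tt N1848 (iv D4422)) (tt N2797 D6045) (tt N2002 (iv F38181)))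
theorem Q2279 : ∀ i, i < 2279 → P i := stepQ 2278 Q2278 (allL N2278 (tt N1858 F17328) (tt N2397 (iv F17836)) (tt N2790 (iv F23315)) (tt N2798 D6046) (tt N1850 F17329) (tt N1962 F17330) (tt N2797 (iv F23346)) (tt N1848 (iv D4423)) (tt N2799 D6047))
theorem Q2280 : ∀ i, i < 2280 → P i := stepQ 2279 Q2279 (allL N2279 (tt N1859 F17331) (tt N2398 (iv F17840)) (tt N2791 (iv F23319)) (tt N2279 F17332) (tt N2797 (iv F23345)) (tt N2279 F17333) (tt N1850 F17334) (tt N1849 (iv D4424)) (tt N2800 D6048))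
theorem Q2281 : ∀ i, i < 2281 → P i := stepQ 2280 Q2280 (allL N2280 (tt N1860 F17335) (tt N2399 (iv F17845)) (tt N2793 (iv F23327)) (tt N2280 F17336) (tt N2799 (iv F23352)) (tt N1851 F17337) (tt N2800 (iv F23358)) (tt N2212 F17338) (tt N1850 (iv D4425)))
theorem Q2282 : ∀ i, i < 2282 → P i := stepQ 2281 Q2281 (allL N2281 (tt N2788 (iv F23305)) (tt N2765 (iv F23224)) (tt N1877 F17339) (tt N1852 (iv D4426)) (tt N2281 F17340) (tt N1965 F17341) (tt N2801 D6049) (tt N2802 D6050) (tt N2213 F17342))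
theorem Q2283 : ∀ i, i < 2283 → P i := stepQ 2282 Q2282 (allL N2282 (tt N2789 (iv F23310)) (tt N2766 (iv F23229)) (tt N1857 F17343) (tt N2801 (iv F23361)) (tt N1853 F17344) (tt N2803 D6051) (tt N1852 (iv D4427)) (tt N2804 D6052) (tt N2006 (iv F38277)))
theorem Q2284 : ∀ i, i < 2284 → P i := stepQ 2283 Q2283 (allL N2283 (tt N2790 (iv F23314)) (tt N2767 (iv F23233)) (tt N1858 F17346) (tt N2805 D6053) (tt N1854 F17347) (tt N1967 F17348) (tt N2804 (iv F23373)) (tt N1852 (iv D4428)) (tt N2806 D6054))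
theorem Q2285 : ∀ i, i < 2285 → P i := stepQ 2284 Q2284 (allL N2284 (tt N2791 (iv F23318)) (tt N2768 (iv F23237)) (tt N1859 F17349) (tt N2807 D6055) (tt N2804 (iv F23372)) (tt N2284 F17350) (tt N1854 F17351) (tt N1853 (iv D4429)) (tt N2808 D6056))
theorem Q2286 : ∀ i, i < 2286 → P i := stepQ 2285 Q2285 (allL N2285 (tt N2792 (iv F23322)) (tt N2769 (iv F23241)) (tt N2285 F17352) (tt N1854 (iv D4430)) (tt N2809 D6057) (tt N1855 F17353) (tt N2807 (iv F23381)) (tt N2285 F17354) (tt N2810 D6058))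
theorem Q2287 : ∀ i, i < 2287 → P i := stepQ 2286 Q2286 (allL N2286 (tt N2793 (iv F23326)) (tt N2770 (iv F23244)) (tt N1860 F17355) (tt N2810 (iv F23390)) (tt N2806 (iv F23376)) (tt N1856 F17356) (tt N2808 (iv F23385)) (tt N2216 F17357) (tt N1854 (iv D4431)))
theorem Q2288 : ∀ i, i < 2288 → P i := stepQ 2287 Q2287 (allL N2287 (tt N2794 (iv F23330)) (tt N2771 (iv F23248)) (tt N2287 F17358) (tt N1971 F17359) (tt N1855 (iv D4432)) (tt N2811 D6059) (tt N2287 F17360) (tt N2287 F17361) (tt N2812 D6060))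
theorem Q2289 : ∀ i, i < 2289 → P i := stepQ 2288 Q2288 (allL N2288 (tt N2795 (iv F23335)) (tt N2772 (iv F23252)) (tt N2288 F17362) (tt N1856 F17363) (tt N2812 (iv F23397)) (tt N2810 (iv F23391)) (tt N2288 F17364) (tt N2813 D6061) (tt N1855 (iv D4433)))
theorem Q2290 : ∀ i, i < 2290 → P i := stepQ 2289 Q2289 (allL N2289 (tt N2796 (iv F23339)) (tt N1861 F17365) (tt N2803 (iv F23367)) (tt N1884 F17366) (tt N2289 F17367) (tt N1857 (iv D4434)) (tt N1973 F17368) (tt N2814 D6062) (tt N1886 (iv F38150)))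
theorem Q2291 : ∀ i, i < 2291 → P i := stepQ 2290 Q2290 (allL N2290 (tt N2797 (iv F23344)) (tt N1862 F17370) (tt N2804 (iv F23371)) (tt N2815 D6063) (tt N1859 F17371) (tt N2814 (iv F23405)) (tt N1858 F17372) (tt N1857 (iv D4435)) (tt N2816 D6064))
theorem Q2292 : ∀ i, i < 2292 → P i := stepQ 2291 Q2291 (allL N2291 (tt N2798 (iv F23347)) (tt N1863 F17373) (tt N2817 D6065) (tt N1858 (iv D4436)) (tt N2291 F17374) (tt N1975 F17375) (tt N2815 (iv F23409)) (tt N1886 F17376) (tt N2818 D6066))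
theorem Q2293 : ∀ i, i < 2293 → P i := stepQ 2292 Q2292 (allL N2292 (tt N2799 (iv F23351)) (tt N1864 F17377) (tt N2806 (iv F23375)) (tt N2818 (iv F23419)) (tt N1860 F17378) (tt N1976 F17379) (tt N2816 (iv F23413)) (tt N2219 F17380) (tt N1858 (iv D4437)))
theorem Q2294 : ∀ i, i < 2294 → P i := stepQ 2293 Q2293 (allL N2293 (tt N2800 (iv F23355)) (tt N1865 F17381) (tt N2808 (iv F23383)) (tt N2293 F17382) (tt N2816 (iv F23412)) (tt N2293 F17383) (tt N1860 F17384) (tt N2032 (iv F38419)) (tt N1859 (iv D4438)))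
theorem Q2295 : ∀ i, i < 2295 → P i := stepQ 2294 Q2294 (allL N2294 (tt N2295 (iv F38271)) (tt N2814 (iv F23403)) (tt N2778 (iv F23274)) (tt N1950 (iv F38261)) (tt N2294 F17386) (tt N1862 F17387) (tt N1951 (iv F38265)) (tt N1861 (iv D4439)) (tt N2819 D6068))
theorem Q2296 : ∀ i, i < 2296 → P i := stepQ 2295 Q2295 (allL N2295 (tt N2294 F38271) (tt N2815 (iv F23407)) (tt N2820 D6069) (tt N1862 (iv D4440)) (tt N2295 F17389) (tt N1950 F38272) (tt N1863 F17390) (tt N1887 F17391) (tt N2821 D6070))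
theorem Q2297 : ∀ i, i < 2297 → P i := stepQ 2296 Q2296 (allL N2296 (tt N2412 (iv F17904)) (tt N2816 (iv F23411)) (tt N2780 (iv F23280)) (tt N2821 (iv F23432)) (tt N1865 F17392) (tt N2819 (iv F23426)) (tt N1864 F17393) (tt N1980 (iv F38413)) (tt N1862 (iv D4441)))
theorem Q2298 : ∀ i, i < 2298 → P i := stepQ 2297 Q2297 (allL N2297 (tt N2384 F38344) (tt N2822 D6071) (tt N1863 (iv D4442)) (tt N2781 (iv F23284)) (tt N2297 F17395) (tt N1979 F17396) (tt N2820 (iv F23430)) (tt N1888 F17397) (tt N2823 D6072))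
theorem Q2299 : ∀ i, i < 2299 → P i := stepQ 2298 Q2298 (allL N2298 (tt N2413 (iv F17912)) (tt N2818 (iv F23418)) (tt N2823 (iv F23438)) (tt N1864 F17398) (tt N2298 F17399) (tt N1980 F17400) (tt N2821 (iv F23434)) (tt N2819 (iv F38347)) (tt N1863 (iv D4443)))
theorem Q2300 : ∀ i, i < 2300 → P i := stepQ 2299 Q2299 (allL N2299 (tt N2299 F17401) (tt N1868 F17402) (tt N2450 (iv F18035)) (tt N2824 D6074) (tt N1866 (iv D4444)) (tt N1995 F17403) (tt N2825 D6075) (tt N2826 D6076) (tt N2220 F17404))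
theorem Q2301 : ∀ i, i < 2301 → P i := stepQ 2300 Q2300 (allL N2300 (tt N2300 F17405) (tt N1869 F17406) (tt N2451 (iv F18040)) (tt N2300 F17407) (tt N2825 (iv F23452)) (tt N1998 F37855) (tt N1866 (iv D4445)) (tt N2827 D6077) (tt N1997 (iv F37866)))
theorem Q2302 : ∀ i, i < 2302 → P i := stepQ 2301 Q2301 (allL N2301 (tt N2301 F17410) (tt N1870 F17411) (tt N2452 (iv F18046)) (tt N2828 D6078) (tt N2826 (iv F23456)) (tt N1867 F17412) (tt N2827 (iv F23461)) (tt N1866 (iv D4446)) (tt N2829 D6079))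
theorem Q2303 : ∀ i, i < 2303 → P i := stepQ 2302 Q2302 (allL N2302 (tt N2302 F17413) (tt N1871 F17414) (tt N2830 D6080) (tt N1867 (iv D4447)) (tt N2302 F17415) (tt N2828 (iv F23464)) (tt N2169 F17416) (tt N2302 F17417) (tt N2831 D6081))
theorem Q2304 : ∀ i, i < 2304 → P i := stepQ 2303 Q2303 (allL N2303 (tt N2303 F17418) (tt N1872 F17419) (tt N2454 (iv F18054)) (tt N2831 (iv F23477)) (tt N1998 F17420) (tt N2829 (iv F23468)) (tt N2167 F37768) (tt N2172 (iv F37770)) (tt N1867 (iv D4448)))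
theorem Q2305 : ∀ i, i < 2305 → P i := stepQ 2304 Q2304 (allL N2304 (tt N1877 F17423) (tt N2824 (iv F23446)) (tt N2788 (iv F23306)) (tt N1868 (iv D4449)) (tt N2304 F17424) (tt N1999 F17425) (tt N2832 D6082) (tt N2833 D6083) (tt N2221 F17426))
theorem Q2306 : ∀ i, i < 2306 → P i := stepQ 2305 Q2305 (allL N2305 (tt N1878 F17427) (tt N2825 (iv F23451)) (tt N1873 F17428) (tt N2832 (iv F23481)) (tt N1869 F17429) (tt N2834 D6084) (tt N1868 (iv D4450)) (tt N2835 D6085) (tt N2001 (iv F38025)))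
theorem Q2307 : ∀ i, i < 2307 → P i := stepQ 2306 Q2306 (allL N2306 (tt N1879 F17431) (tt N2826 (iv F23455)) (tt N1874 F17432) (tt N2836 D6086) (tt N1870 F17433) (tt N2001 F17434) (tt N2835 (iv F23495)) (tt N1868 (iv D4451)) (tt N2834 F37939))
theorem Q2308 : ∀ i, i < 2308 → P i := stepQ 2307 Q2307 (allL N2307 (tt N1880 F17435) (tt N2827 (iv F23459)) (tt N1875 F17436) (tt N2837 D6088) (tt N2835 (iv F23494)) (tt N1987 F37851) (tt N1870 F17438) (tt N1869 (iv D4452)) (tt N1985 (iv F37862)))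
theorem Q2309 : ∀ i, i < 2309 → P i := stepQ 2308 Q2308 (allL N2308 (tt N1881 F17439) (tt N2828 (iv F23463)) (tt N2308 F17440) (tt N1870 (iv D4453)) (tt N2838 D6090) (tt N1871 F17441) (tt N2837 (iv F23506)) (tt N2308 F17442) (tt N2839 D6091))
theorem Q2310 : ∀ i, i < 2310 → P i := stepQ 2309 Q2309 (allL N2309 (tt N1882 F17443) (tt N2829 (iv F23467)) (tt N1876 F17444) (tt N2839 (iv F23519)) (tt N2834 (iv F37938)) (tt N1872 F17445) (tt N1985 (iv F37861)) (tt N1984 (iv F37950)) (tt N1870 (iv D4454)))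
theorem Q2311 : ∀ i, i < 2311 → P i := stepQ 2310 Q2310 (allL N2310 (tt N1883 F17447) (tt N2831 (iv F23476)) (tt N2310 F17448) (tt N1872 F17449) (tt N2310 F17450) (tt N2839 (iv F23520)) (tt N2170 F37868) (tt N2184 (iv F37959)) (tt N1871 (iv D4455)))
theorem Q2312 : ∀ i, i < 2312 → P i := stepQ 2311 Q2311 (allL N2311 (tt N1884 F17452) (tt N2312 (iv F38012)) (tt N2834 (iv F23488)) (tt N2796 (iv F23340)) (tt N1876 F38017) (tt N1873 (iv D4456)) (tt N1989 (iv F38002)) (tt N1988 (iv F38001)) (tt N1874 (iv F38022)))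
theorem Q2313 : ∀ i, i < 2313 → P i := stepQ 2312 Q2312 (allL N2312 (tt N1885 F17456) (tt N2311 F38012) (tt N2835 (iv F23493)) (tt N2840 D6094) (tt N1875 F17457) (tt N1988 F38013) (tt N1874 F17458) (tt N1873 (iv D4457)) (tt N1989 (iv F38020)))
theorem Q2314 : ∀ i, i < 2314 → P i := stepQ 2313 Q2313 (allL N2313 (tt N1886 F17459) (tt N2427 F38111) (tt N2841 D6096) (tt N1874 (iv D4458)) (tt N2313 F17460) (tt N2002 F17461) (tt N2840 (iv F23533)) (tt N2798 (iv F23350)) (tt N2796 F38112))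
theorem Q2315 : ∀ i, i < 2315 → P i := stepQ 2314 Q2314 (allL N2314 (tt N2832 (iv F23480)) (tt N2314 F17471) (tt N2801 (iv F23360)) (tt N1878 F17472) (tt N2314 F17473) (tt N2842 D6098) (tt N1877 (iv D4461)) (tt N2843 D6099) (tt N2005 (iv F38155)))
theorem Q2316 : ∀ i, i < 2316 → P i := stepQ 2315 Q2315 (allL N2315 (tt N2833 (iv F23484)) (tt N2315 F17475) (tt N2802 (iv F23364)) (tt N2844 D6100) (tt N2315 F17476) (tt N2004 F17477) (tt N2843 (iv F23551)) (tt N1877 (iv D4462)) (tt N2845 D6101))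
theorem Q2317 : ∀ i, i < 2317 → P i := stepQ 2316 Q2316 (allL N2316 (tt N2834 (iv F23487)) (tt N2316 F17478) (tt N1884 F17479) (tt N2842 (iv F23546)) (tt N1882 F37989) (tt N1878 (iv D4463)) (tt N1992 (iv F37983)) (tt N1991 (iv F37979)) (tt N1879 (iv F37990)))
theorem Q2318 : ∀ i, i < 2318 → P i := stepQ 2317 Q2317 (allL N2317 (tt N2835 (iv F23492)) (tt N2317 F17483) (tt N1885 F17484) (tt N2846 D6103) (tt N1880 F17485) (tt N1991 F38031) (tt N1879 F17486) (tt N1878 (iv D4464)) (tt N1992 (iv F38038)))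
theorem Q2319 : ∀ i, i < 2319 → P i := stepQ 2318 Q2318 (allL N2318 (tt N2836 (iv F23496)) (tt N2318 F17487) (tt N2847 D6105) (tt N1879 (iv D4465)) (tt N2848 D6106) (tt N2005 F17488) (tt N2846 (iv F23565)) (tt N2844 (iv F23554)) (tt N2842 F38081))
theorem Q2320 : ∀ i, i < 2320 → P i := stepQ 2319 Q2319 (allL N2319 (tt N2837 (iv F23503)) (tt N2319 F17494) (tt N2319 F17495) (tt N1880 (iv D4467)) (tt N2849 D6108) (tt N1994 F37871) (tt N1881 F17497) (tt N2319 F17498) (tt N1993 (iv F37960)))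
theorem Q2321 : ∀ i, i < 2321 → P i := stepQ 2320 Q2320 (allL N2320 (tt N2838 (iv F23513)) (tt N2320 F17504) (tt N2320 F17505) (tt N2848 (iv F23574)) (tt N1881 (iv D4469)) (tt N2320 F17506) (tt N2849 (iv F23581)) (tt N2320 F17507) (tt N2850 D6110))
theorem Q2322 : ∀ i, i < 2322 → P i := stepQ 2321 Q2321 (allL N2321 (tt N2839 (iv F23517)) (tt N2321 F17508) (tt N2321 F17509) (tt N1882 F17510) (tt N2850 (iv F23590)) (tt N1883 F17511) (tt N1993 F38034) (tt N2124 (iv F38124)) (tt N1881 (iv D4470)))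
theorem Q2323 : ∀ i, i < 2323 → P i := stepQ 2322 Q2322 (allL N2322 (tt N2840 (iv F23531)) (tt N1887 F17522) (tt N2851 D6114) (tt N1885 (iv D4473)) (tt N2322 F17523) (tt N1946 F38172) (tt N1886 F17524) (tt N2815 (iv F23410)) (tt N1973 (iv F38184)))
theorem Q2324 : ∀ i, i < 2324 → P i := stepQ 2323 Q2323 (allL N2323 (tt N2841 (iv F23538)) (tt N2852 D6116) (tt N1886 (iv D4475)) (tt N2847 (iv F23571)) (tt N2323 F17529) (tt N2006 F17530) (tt N2851 (iv F23606)) (tt N2817 (iv F23417)) (tt N2803 (iv F38219)))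
theorem Q2325 : ∀ i, i < 2325 → P i := stepQ 2324 Q2324 (allL N2324 (tt N2265 F38269) (tt N2853 D6122) (tt N1887 (iv D4479)) (tt N2324 F17542) (tt N2324 F17543) (tt N1909 F38270) (tt N1888 F17544) (tt N2820 (iv F23431)) (tt N1929 (iv F38309)))
theorem Q2326 : ∀ i, i < 2326 → P i := stepQ 2325 Q2325 (allL N2325 (tt N2854 D6125) (tt N1888 (iv D4481)) (tt N2852 (iv F23611)) (tt N2325 F17548) (tt N2325 F17549) (tt N2007 F17550) (tt N2853 (iv F23632)) (tt N2822 (iv F23437)) (tt N2773 (iv F38346)))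
theorem Q2327 : ∀ i, i < 2327 → P i := stepQ 2326 Q2326 (allL N2326 (tt N1891 F17558) (tt N2855 D6128) (tt N1889 (iv D4484)) (tt N2041 F17559) (tt N2326 F17560) (tt N2856 D6129) (tt N2326 F17561) (tt N2857 D6130) (tt N2326 F17562))
theorem Q2328 : ∀ i, i < 2328 → P i := stepQ 2327 Q2327 (allL N2327 (tt N1892 F17563) (tt N2236 F17564) (tt N2856 (iv F23657)) (tt N1890 F17565) (tt N2858 D6131) (tt N1889 (iv D4485)) (tt N2859 D6132) (tt N2860 D6133) (tt N2327 F17566))
theorem Q2329 : ∀ i, i < 2329 → P i := stepQ 2328 Q2328 (allL N2328 (tt N1893 F17567) (tt N2237 F17568) (tt N2857 (iv F23661)) (tt N1901 F17569) (tt N2328 F17570) (tt N2860 (iv F23677)) (tt N2328 F17571) (tt N1889 (iv D4486)) (tt N2861 D6134))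
theorem Q2330 : ∀ i, i < 2330 → P i := stepQ 2329 Q2329 (allL N2329 (tt N1894 F17572) (tt N2238 F17573) (tt N2044 F17574) (tt N2859 (iv F23671)) (tt N2329 F17575) (tt N2329 F17576) (tt N1890 (iv D4487)) (tt N1902 F17577) (tt N2329 F17578))
theorem Q2331 : ∀ i, i < 2331 → P i := stepQ 2330 Q2330 (allL N2330 (tt N2856 (iv F23656)) (tt N2330 F17579) (tt N1892 F17580) (tt N2045 F17581) (tt N2862 D6135) (tt N1891 (iv D4488)) (tt N2123 (iv F38745)) (tt N2863 D6137) (tt N2330 F17582))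
theorem Q2332 : ∀ i, i < 2332 → P i := stepQ 2331 Q2331 (allL N2331 (tt N2857 (iv F23660)) (tt N2331 F17583) (tt N1893 F17584) (tt N2864 D6138) (tt N2331 F17585) (tt N2863 (iv F23695)) (tt N2331 F17586) (tt N1891 (iv D4489)) (tt N2865 D6139))
theorem Q2333 : ∀ i, i < 2333 → P i := stepQ 2332 Q2332 (allL N2332 (tt N2858 (iv F23664)) (tt N1895 F17587) (tt N2862 (iv F23685)) (tt N2332 F17588) (tt N1892 (iv D4490)) (tt N2332 F17589) (tt N2866 D6140) (tt N2867 D6141) (tt N2332 F17590))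
theorem Q2334 : ∀ i, i < 2334 → P i := stepQ 2333 Q2333 (allL N2333 (tt N2859 (iv F23669)) (tt N1896 F17591) (tt N2123 F38820) (tt N1894 F17592) (tt N2866 (iv F23707)) (tt N2333 F17593) (tt N1892 (iv D4491)) (tt N2868 D6142) (tt N2333 F17594))
theorem Q2335 : ∀ i, i < 2335 → P i := stepQ 2334 Q2334 (allL N2334 (tt N2860 (iv F23674)) (tt N1897 F17595) (tt N2863 (iv F23694)) (tt N1907 F17596) (tt N2867 (iv F23710)) (tt N1893 F17597) (tt N2868 (iv F23715)) (tt N1892 (iv D4492)) (tt N2869 D6143))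
theorem Q2336 : ∀ i, i < 2336 → P i := stepQ 2335 Q2335 (allL N2335 (tt N2861 (iv F23678)) (tt N1898 F17598) (tt N2865 (iv F23701)) (tt N1908 F17599) (tt N2335 F17600) (tt N2869 (iv F23718)) (tt N2335 F17601) (tt N2335 F17602) (tt N1893 (iv D4493)))
theorem Q2337 : ∀ i, i < 2337 → P i := stepQ 2336 Q2336 (allL N2336 (tt N2245 F17603) (tt N2866 (iv F23705)) (tt N2336 F17604) (tt N2336 F17605) (tt N1896 F17606) (tt N2870 D6144) (tt N1895 (iv D4494)) (tt N2871 D6145) (tt N2336 F17607))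
theorem Q2338 : ∀ i, i < 2338 → P i := stepQ 2337 Q2337 (allL N2337 (tt N2246 F17608) (tt N2867 (iv F23709)) (tt N2337 F17609) (tt N2872 D6146) (tt N1897 F17610) (tt N2337 F17611) (tt N2871 (iv F23729)) (tt N1895 (iv D4495)) (tt N2873 D6147))
theorem Q2339 : ∀ i, i < 2339 → P i := stepQ 2338 Q2338 (allL N2338 (tt N2247 F17612) (tt N2868 (iv F23712)) (tt N2338 F17613) (tt N1911 F17614) (tt N2871 (iv F23728)) (tt N2338 F17615) (tt N1897 F17616) (tt N1896 (iv D4496)) (tt N2874 D6148))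
theorem Q2340 : ∀ i, i < 2340 → P i := stepQ 2339 Q2339 (allL N2339 (tt N2248 F17617) (tt N2869 (iv F23716)) (tt N2339 F17618) (tt N1912 F17619) (tt N2873 (iv F23736)) (tt N1898 F17620) (tt N2874 (iv F23743)) (tt N2339 F17621) (tt N1897 (iv D4497)))
theorem Q2341 : ∀ i, i < 2341 → P i := stepQ 2340 Q2340 (allL N2340 (tt N1934 F17622) (tt N1899 (iv D4498)) (tt N2249 F17623) (tt N2047 F17624) (tt N2191 F17625) (tt N2875 D6149) (tt N2340 F17626) (tt N2876 D6150) (tt N1913 F17627))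
theorem Q2342 : ∀ i, i < 2342 → P i := stepQ 2341 Q2341 (allL N2341 (tt N1903 F17628) (tt N2875 (iv F23746)) (tt N1900 F17629) (tt N2048 F17630) (tt N2877 D6151) (tt N1899 (iv D4499)) (tt N2878 D6152) (tt N2879 D6153) (tt N1914 F17631))
theorem Q2343 : ∀ i, i < 2343 → P i := stepQ 2342 Q2342 (allL N2342 (tt N1904 F17632) (tt N2876 (iv F23751)) (tt N1901 F17633) (tt N2880 D6154) (tt N2193 F17634) (tt N2879 (iv F23766)) (tt N2342 F17635) (tt N1899 (iv D4500)) (tt N2881 D6155))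
theorem Q2344 : ∀ i, i < 2344 → P i := stepQ 2343 Q2343 (allL N2343 (tt N1905 F17636) (tt N2252 F17637) (tt N2877 (iv F23756)) (tt N2343 F17638) (tt N1900 (iv D4501)) (tt N2194 F17639) (tt N2882 D6156) (tt N2883 D6157) (tt N1916 F17640))
theorem Q2345 : ∀ i, i < 2345 → P i := stepQ 2344 Q2344 (allL N2344 (tt N1906 F17641) (tt N2253 F17642) (tt N2878 (iv F23760)) (tt N1902 F17643) (tt N2882 (iv F23778)) (tt N2344 F17644) (tt N1900 (iv D4502)) (tt N2884 D6158) (tt N1917 F17645))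
theorem Q2346 : ∀ i, i < 2346 → P i := stepQ 2345 Q2345 (allL N2345 (tt N1907 F17646) (tt N2254 F17647) (tt N2879 (iv F23765)) (tt N2860 (iv F23676)) (tt N2883 (iv F23782)) (tt N1901 F17648) (tt N2884 (iv F23787)) (tt N1900 (iv D4503)) (tt N2885 D6159))
theorem Q2347 : ∀ i, i < 2347 → P i := stepQ 2346 Q2346 (allL N2346 (tt N1908 F17649) (tt N2255 F17650) (tt N2881 (iv F23771)) (tt N2861 (iv F23680)) (tt N2196 F17651) (tt N2885 (iv F23790)) (tt N2346 F17652) (tt N1919 F17653) (tt N1901 (iv D4504)))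
theorem Q2348 : ∀ i, i < 2348 → P i := stepQ 2347 Q2347 (allL N2347 (tt N2877 (iv F23755)) (tt N1941 F17654) (tt N1905 F17655) (tt N2886 D6160) (tt N1903 (iv D4505)) (tt N2197 F17656) (tt N2887 D6161) (tt N2888 D6162) (tt N1920 F17657))
theorem Q2349 : ∀ i, i < 2349 → P i := stepQ 2348 Q2348 (allL N2348 (tt N2878 (iv F23759)) (tt N1942 F17658) (tt N1906 F17659) (tt N2055 F17660) (tt N2887 (iv F23799)) (tt N2348 F17661) (tt N1903 (iv D4506)) (tt N2889 D6163) (tt N1921 F17662))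
theorem Q2350 : ∀ i, i < 2350 → P i := stepQ 2349 Q2349 (allL N2349 (tt N2879 (iv F23764)) (tt N1943 F17663) (tt N1907 F17664) (tt N2890 D6164) (tt N2888 (iv F23803)) (tt N1904 F17665) (tt N2889 (iv F23808)) (tt N1903 (iv D4507)) (tt N2891 D6165))
theorem Q2351 : ∀ i, i < 2351 → P i := stepQ 2350 Q2350 (allL N2350 (tt N2880 (iv F23767)) (tt N1944 F17666) (tt N2864 (iv F23697)) (tt N1904 (iv D4508)) (tt N2892 D6166) (tt N2890 (iv F23810)) (tt N2350 F17667) (tt N2057 F17668) (tt N2893 D6167))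
theorem Q2352 : ∀ i, i < 2352 → P i := stepQ 2351 Q2351 (allL N2351 (tt N2881 (iv F23770)) (tt N1945 F17669) (tt N1908 F17670) (tt N2893 (iv F23821)) (tt N2200 F17671) (tt N2891 (iv F23814)) (tt N2351 F17672) (tt N1924 F17673) (tt N1904 (iv D4509)))
theorem Q2353 : ∀ i, i < 2353 → P i := stepQ 2352 Q2352 (allL N2352 (tt N2882 (iv F23775)) (tt N1909 F17674) (tt N2887 (iv F23798)) (tt N2352 F17675) (tt N1906 F17676) (tt N2853 (iv F38334)) (tt N1905 (iv D4510)) (tt N2894 D6169) (tt N1925 F17677))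
theorem Q2354 : ∀ i, i < 2354 → P i := stepQ 2353 Q2353 (allL N2353 (tt N2883 (iv F23780)) (tt N1910 F17678) (tt N2888 (iv F23802)) (tt N2895 D6170) (tt N1907 F17679) (tt N2201 F17680) (tt N2894 (iv F23830)) (tt N1905 (iv D4511)) (tt N2896 D6171))
theorem Q2355 : ∀ i, i < 2355 → P i := stepQ 2354 Q2354 (allL N2354 (tt N2884 (iv F23784)) (tt N1911 F17681) (tt N2889 (iv F23806)) (tt N2868 (iv F23713)) (tt N2894 (iv F23829)) (tt N2354 F17682) (tt N1907 F17683) (tt N1906 (iv D4512)) (tt N2897 D6172))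
theorem Q2356 : ∀ i, i < 2356 → P i := stepQ 2355 Q2355 (allL N2355 (tt N2885 (iv F23788)) (tt N1912 F17684) (tt N2891 (iv F23813)) (tt N2869 (iv F23717)) (tt N2896 (iv F23835)) (tt N1908 F17685) (tt N2897 (iv F23840)) (tt N1928 F17686) (tt N1907 (iv D4513)))
theorem Q2357 : ∀ i, i < 2357 → P i := stepQ 2356 Q2356 (allL N2356 (tt N2266 F17693) (tt N2894 (iv F23828)) (tt N1950 F17694) (tt N2898 D6174) (tt N1911 F17695) (tt N2820 (iv F38336)) (tt N1910 F17696) (tt N1909 (iv D4515)) (tt N2899 D6175))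
theorem Q2358 : ∀ i, i < 2358 → P i := stepQ 2357 Q2357 (allL N2357 (tt N2267 F17697) (tt N2895 (iv F23831)) (tt N2900 D6176) (tt N1910 (iv D4516)) (tt N2872 (iv F23731)) (tt N2203 F17698) (tt N2898 (iv F23848)) (tt N2357 F17699) (tt N2901 D6177))
theorem Q2359 : ∀ i, i < 2359 → P i := stepQ 2358 Q2358 (allL N2358 (tt N2268 F17700) (tt N2896 (iv F23834)) (tt N1952 F17701) (tt N2901 (iv F23860)) (tt N1912 F17702) (tt N2204 F17703) (tt N2899 (iv F23853)) (tt N1932 F17704) (tt N1910 (iv D4517)))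
theorem Q2360 : ∀ i, i < 2360 → P i := stepQ 2359 Q2359 (allL N2359 (tt N2269 F17705) (tt N2897 (iv F23838)) (tt N1953 F17706) (tt N2874 (iv F23741)) (tt N2899 (iv F23852)) (tt N2359 F17707) (tt N1912 F17708) (tt N1933 F17709) (tt N1911 (iv D4518)))
theorem Q2361 : ∀ i, i < 2361 → P i := stepQ 2360 Q2360 (allL N2360 (tt N1954 F17710) (tt N1914 F17711) (tt N2678 (iv F21926)) (tt N2059 F17712) (tt N2902 D6178) (tt N1913 (iv D4519)) (tt N2903 D6179) (tt N2904 D6180) (tt N2875 (iv F23749)))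
theorem Q2362 : ∀ i, i < 2362 → P i := stepQ 2361 Q2361 (allL N2361 (tt N1955 F17713) (tt N1915 F17714) (tt N2679 (iv F21930)) (tt N2905 D6181) (tt N2755 (iv F23189)) (tt N2904 (iv F23870)) (tt N2361 F17715) (tt N1913 (iv D4520)) (tt N2906 D6182))
theorem Q2363 : ∀ i, i < 2363 → P i := stepQ 2362 Q2362 (allL N2362 (tt N1920 F17716) (tt N2902 (iv F23863)) (tt N1916 F17717) (tt N2907 D6183) (tt N1914 (iv D4521)) (tt N2756 (iv F23193)) (tt N2908 D6184) (tt N2909 D6185) (tt N2877 (iv F23758)))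
theorem Q2364 : ∀ i, i < 2364 → P i := stepQ 2363 Q2363 (allL N2363 (tt N1921 F17718) (tt N2903 (iv F23865)) (tt N1917 F17719) (tt N2062 F17720) (tt N2908 (iv F23883)) (tt N2363 F17721) (tt N1914 (iv D4522)) (tt N2910 D6186) (tt N2878 (iv F23763)))
theorem Q2365 : ∀ i, i < 2365 → P i := stepQ 2364 Q2364 (allL N2364 (tt N1922 F17722) (tt N2904 (iv F23869)) (tt N1918 F17723) (tt N2911 D6187) (tt N2909 (iv F23886)) (tt N1915 F17724) (tt N2910 (iv F23890)) (tt N1914 (iv D4523)) (tt N2912 D6188))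
theorem Q2366 : ∀ i, i < 2366 → P i := stepQ 2365 Q2365 (allL N2365 (tt N1923 F17725) (tt N2905 (iv F23872)) (tt N2365 F17726) (tt N1915 (iv D4524)) (tt N2913 D6189) (tt N2911 (iv F23893)) (tt N2365 F17727) (tt N2064 F17728) (tt N2914 D6190))
theorem Q2367 : ∀ i, i < 2367 → P i := stepQ 2366 Q2366 (allL N2366 (tt N1924 F17729) (tt N2906 (iv F23876)) (tt N1919 F17730) (tt N2914 (iv F23904)) (tt N2760 (iv F23208)) (tt N2912 (iv F23897)) (tt N2366 F17731) (tt N2881 (iv F23774)) (tt N1915 (iv D4525)))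
theorem Q2368 : ∀ i, i < 2368 → P i := stepQ 2367 Q2367 (allL N2367 (tt N1925 F17732) (tt N2476 (iv F38472)) (tt N2908 (iv F23882)) (tt N2367 F17733) (tt N1917 F17734) (tt N2915 D6191) (tt N1916 (iv D4526)) (tt N2916 D6192) (tt N2882 (iv F23779)))
theorem Q2369 : ∀ i, i < 2369 → P i := stepQ 2368 Q2368 (allL N2368 (tt N1926 F17735) (tt N2684 (iv F21953)) (tt N2909 (iv F23885)) (tt N2917 D6193) (tt N1918 F17736) (tt N2762 (iv F23217)) (tt N2916 (iv F23911)) (tt N1916 (iv D4527)) (tt N2918 D6194))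
theorem Q2370 : ∀ i, i < 2370 → P i := stepQ 2369 Q2369 (allL N2369 (tt N1927 F17737) (tt N2508 (iv F38555)) (tt N2910 (iv F23888)) (tt N2369 F17738) (tt N2916 (iv F23910)) (tt N2369 F17739) (tt N1918 F17740) (tt N1917 (iv D4528)) (tt N2919 D6195))
theorem Q2371 : ∀ i, i < 2371 → P i := stepQ 2370 Q2370 (allL N2370 (tt N1928 F17741) (tt N2685 (iv F21961)) (tt N2912 (iv F23896)) (tt N2370 F17742) (tt N2918 (iv F23916)) (tt N1919 F17743) (tt N2919 (iv F23920)) (tt N2885 (iv F23791)) (tt N1918 (iv D4529)))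
theorem Q2372 : ∀ i, i < 2372 → P i := stepQ 2371 Q2371 (allL N2371 (tt N2907 (iv F23878)) (tt N1965 F17744) (tt N2371 F17745) (tt N1920 (iv D4530)) (tt N2070 F17746) (tt N2765 (iv F23227)) (tt N2920 D6196) (tt N2921 D6197) (tt N2886 (iv F23796)))
theorem Q2373 : ∀ i, i < 2373 → P i := stepQ 2372 Q2372 (allL N2372 (tt N2908 (iv F23881)) (tt N1966 F17747) (tt N1925 F17748) (tt N2920 (iv F23923)) (tt N1921 F17749) (tt N2922 D6198) (tt N1920 (iv D4531)) (tt N2923 D6199) (tt N2887 (iv F23800)))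
theorem Q2374 : ∀ i, i < 2374 → P i := stepQ 2373 Q2373 (allL N2373 (tt N2909 (iv F23884)) (tt N1967 F17750) (tt N1926 F17751) (tt N2924 D6200) (tt N1922 F17752) (tt N2767 (iv F23236)) (tt N2923 (iv F23934)) (tt N1920 (iv D4532)) (tt N2925 D6201))
theorem Q2375 : ∀ i, i < 2375 → P i := stepQ 2374 Q2374 (allL N2374 (tt N2910 (iv F23887)) (tt N1968 F17753) (tt N1927 F17754) (tt N2926 D6202) (tt N2923 (iv F23933)) (tt N2374 F17755) (tt N1922 F17756) (tt N1921 (iv D4533)) (tt N2927 D6203))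
theorem Q2376 : ∀ i, i < 2376 → P i := stepQ 2375 Q2375 (allL N2375 (tt N2911 (iv F23891)) (tt N1969 F17757) (tt N2375 F17758) (tt N1922 (iv D4534)) (tt N2928 D6204) (tt N1923 F17759) (tt N2926 (iv F23942)) (tt N2074 F17760) (tt N2929 D6205))
theorem Q2377 : ∀ i, i < 2377 → P i := stepQ 2376 Q2376 (allL N2376 (tt N2912 (iv F23895)) (tt N1970 F17761) (tt N1928 F17762) (tt N2929 (iv F23953)) (tt N2925 (iv F23938)) (tt N1924 F17763) (tt N2927 (iv F23947)) (tt N2891 (iv F23815)) (tt N1922 (iv D4535)))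
theorem Q2378 : ∀ i, i < 2378 → P i := stepQ 2377 Q2377 (allL N2377 (tt N2913 (iv F23898)) (tt N1971 F17764) (tt N2377 F17765) (tt N2771 (iv F23249)) (tt N1923 (iv D4536)) (tt N2930 D6206) (tt N2377 F17766) (tt N2076 F17767) (tt N2931 D6207))
theorem Q2379 : ∀ i, i < 2379 → P i := stepQ 2378 Q2378 (allL N2378 (tt N2914 (iv F23902)) (tt N1972 F17768) (tt N2378 F17769) (tt N1924 F17770) (tt N2931 (iv F23960)) (tt N2929 (iv F23954)) (tt N2378 F17771) (tt N2932 D6208) (tt N1923 (iv D4537)))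
theorem Q2380 : ∀ i, i < 2380 → P i := stepQ 2379 Q2379 (allL N2379 (tt N2915 (iv F23906)) (tt N1929 F17772) (tt N2922 (iv F23929)) (tt N2379 F17773) (tt N2379 F17774) (tt N1925 (iv D4538)) (tt N2773 (iv F23258)) (tt N2933 D6209) (tt N2853 F38370))
theorem Q2381 : ∀ i, i < 2381 → P i := stepQ 2380 Q2380 (allL N2380 (tt N2916 (iv F23909)) (tt N1930 F17775) (tt N2923 (iv F23932)) (tt N2934 D6210) (tt N1927 F17776) (tt N2933 (iv F23968)) (tt N1926 F17777) (tt N1925 (iv D4539)) (tt N2935 D6211))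
theorem Q2382 : ∀ i, i < 2382 → P i := stepQ 2381 Q2381 (allL N2381 (tt N2917 (iv F23912)) (tt N1931 F17778) (tt N2936 D6212) (tt N1926 (iv D4540)) (tt N2381 F17779) (tt N2775 (iv F23264)) (tt N2934 (iv F23971)) (tt N2381 F17780) (tt N2937 D6213))
theorem Q2383 : ∀ i, i < 2383 → P i := stepQ 2382 Q2382 (allL N2382 (tt N2918 (iv F23915)) (tt N1932 F17781) (tt N2925 (iv F23937)) (tt N2937 (iv F23979)) (tt N1928 F17782) (tt N2776 (iv F23268)) (tt N2935 (iv F23975)) (tt N2896 (iv F23837)) (tt N1926 (iv D4541)))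
theorem Q2384 : ∀ i, i < 2384 → P i := stepQ 2383 Q2383 (allL N2383 (tt N2919 (iv F23917)) (tt N1933 F17783) (tt N2927 (iv F23945)) (tt N2383 F17784) (tt N2935 (iv F23974)) (tt N2383 F17785) (tt N1928 F17786) (tt N2897 (iv F23841)) (tt N1927 (iv D4542)))
theorem Q2385 : ∀ i, i < 2385 → P i := stepQ 2384 Q2384 (allL N2384 (tt N2297 (iv F38344)) (tt N2933 (iv F23966)) (tt N1951 F38330) (tt N2900 (iv F38392)) (tt N2384 F17788) (tt N1930 F17789) (tt N2778 (iv F23277)) (tt N1929 (iv D4543)) (tt N2938 D6215))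
theorem Q2386 : ∀ i, i < 2386 → P i := stepQ 2385 Q2385 (allL N2385 (tt N2387 (iv F38478)) (tt N2934 (iv F23969)) (tt N2203 (iv F38508)) (tt N1930 (iv D4544)) (tt N2385 F17790) (tt N2900 F38470) (tt N1931 F17791) (tt N2385 F17792) (tt N2939 D6217))
theorem Q2387 : ∀ i, i < 2387 → P i := stepQ 2386 Q2386 (allL N2386 (tt N2449 (iv F38479)) (tt N2935 (iv F23973)) (tt N1978 F17793) (tt N2939 (iv F23990)) (tt N1933 F17794) (tt N2938 (iv F23985)) (tt N1932 F17795) (tt N2899 (iv F23854)) (tt N1930 (iv D4545)))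
theorem Q2388 : ∀ i, i < 2388 → P i := stepQ 2387 Q2387 (allL N2387 (tt N2385 F38478) (tt N2940 D6218) (tt N1931 (iv D4546)) (tt N1979 F17796) (tt N2387 F17797) (tt N2781 (iv F23285)) (tt N2203 (iv F38509)) (tt N2387 F17798) (tt N2941 D6219))
theorem Q2389 : ∀ i, i < 2389 → P i := stepQ 2388 Q2388 (allL N2388 (tt N2694 (iv F22023)) (tt N2937 (iv F23978)) (tt N2941 (iv F23996)) (tt N1932 F17799) (tt N2388 F17800) (tt N2782 (iv F23288)) (tt N2939 (iv F23992)) (tt N2942 D6220) (tt N1931 (iv D4547)))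
theorem Q2390 : ∀ i, i < 2390 → P i := stepQ 2389 Q2389 (allL N2389 (tt N2875 (iv F23745)) (tt N1935 F17801) (tt N2270 F17802) (tt N2078 F17803) (tt N2943 D6221) (tt N1934 (iv D4548)) (tt N2944 D6222) (tt N2945 D6223) (tt N1954 F17804))
theorem Q2391 : ∀ i, i < 2391 → P i := stepQ 2390 Q2390 (allL N2390 (tt N2876 (iv F23750)) (tt N1936 F17805) (tt N2271 F17806) (tt N2946 D6224) (tt N2206 F17807) (tt N2945 (iv F24012)) (tt N2390 F17808) (tt N1934 (iv D4549)) (tt N2947 D6225))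
theorem Q2392 : ∀ i, i < 2392 → P i := stepQ 2391 Q2391 (allL N2391 (tt N1941 F17809) (tt N2943 (iv F24001)) (tt N1937 F17810) (tt N2948 D6226) (tt N1935 (iv D4550)) (tt N2207 F17811) (tt N2949 D6227) (tt N2950 D6228) (tt N1956 F17812))
theorem Q2393 : ∀ i, i < 2393 → P i := stepQ 2392 Q2392 (allL N2392 (tt N1942 F17813) (tt N2944 (iv F24005)) (tt N1938 F17814) (tt N2081 F17815) (tt N2949 (iv F24028)) (tt N2392 F17816) (tt N1935 (iv D4551)) (tt N2951 D6229) (tt N1957 F17817))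
theorem Q2394 : ∀ i, i < 2394 → P i := stepQ 2393 Q2393 (allL N2393 (tt N1943 F17818) (tt N2945 (iv F24010)) (tt N1939 F17819) (tt N2952 D6230) (tt N2950 (iv F24032)) (tt N1936 F17820) (tt N2951 (iv F24037)) (tt N1935 (iv D4552)) (tt N2953 D6231))
theorem Q2395 : ∀ i, i < 2395 → P i := stepQ 2394 Q2394 (allL N2394 (tt N1944 F17821) (tt N2946 (iv F24013)) (tt N2394 F17822) (tt N1936 (iv D4553)) (tt N2954 D6232) (tt N2952 (iv F24040)) (tt N2394 F17823) (tt N2083 F17824) (tt N2955 D6233))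
theorem Q2396 : ∀ i, i < 2396 → P i := stepQ 2395 Q2395 (allL N2395 (tt N1945 F17825) (tt N2947 (iv F24016)) (tt N1940 F17826) (tt N2955 (iv F24053)) (tt N2210 F17827) (tt N2953 (iv F24044)) (tt N2395 F17828) (tt N1960 F17829) (tt N1936 (iv D4554)))
theorem Q2397 : ∀ i, i < 2397 → P i := stepQ 2396 Q2396 (allL N2396 (tt N1946 F17830) (tt N2277 F17831) (tt N2949 (iv F24027)) (tt N1988 F17832) (tt N1938 F17833) (tt N2840 (iv F38105)) (tt N1937 (iv D4555)) (tt N2956 D6235) (tt N1961 F17834))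
theorem Q2398 : ∀ i, i < 2398 → P i := stepQ 2397 Q2397 (allL N2397 (tt N1947 F17835) (tt N2278 F17836) (tt N2950 (iv F24031)) (tt N2957 D6236) (tt N1939 F17837) (tt N2211 F17838) (tt N2956 (iv F24064)) (tt N1937 (iv D4556)) (tt N2958 D6237))
theorem Q2399 : ∀ i, i < 2399 → P i := stepQ 2398 Q2398 (allL N2398 (tt N1948 F17839) (tt N2279 F17840) (tt N2951 (iv F24035)) (tt N2398 F17841) (tt N2956 (iv F24063)) (tt N2398 F17842) (tt N1939 F17843) (tt N1938 (iv D4557)) (tt N2959 D6238))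
theorem Q2400 : ∀ i, i < 2400 → P i := stepQ 2399 Q2399 (allL N2399 (tt N1949 F17844) (tt N2280 F17845) (tt N2953 (iv F24043)) (tt N2399 F17846) (tt N2958 (iv F24072)) (tt N1940 F17847) (tt N2959 (iv F24079)) (tt N1964 F17848) (tt N1939 (iv D4558)))
theorem Q2401 : ∀ i, i < 2401 → P i := stepQ 2400 Q2400 (allL N2400 (tt N2948 (iv F24021)) (tt N2886 (iv F23792)) (tt N1990 F17849) (tt N1941 (iv D4559)) (tt N2085 F17850) (tt N2213 F17851) (tt N2960 D6239) (tt N2961 D6240) (tt N1965 F17852))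
theorem Q2402 : ∀ i, i < 2402 → P i := stepQ 2401 Q2401 (allL N2401 (tt N2949 (iv F24026)) (tt N2887 (iv F23797)) (tt N1946 F17853) (tt N2960 (iv F24082)) (tt N1942 F17854) (tt N2851 (iv F38239)) (tt N1941 (iv D4560)) (tt N2962 D6242) (tt N1966 F17855))
theorem Q2403 : ∀ i, i < 2403 → P i := stepQ 2402 Q2402 (allL N2402 (tt N2950 (iv F24030)) (tt N2888 (iv F23801)) (tt N1947 F17856) (tt N2963 D6243) (tt N1943 F17857) (tt N2214 F17858) (tt N2962 (iv F24094)) (tt N1941 (iv D4561)) (tt N2964 D6244))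
theorem Q2404 : ∀ i, i < 2404 → P i := stepQ 2403 Q2403 (allL N2403 (tt N2951 (iv F24034)) (tt N2889 (iv F23805)) (tt N1948 F17859) (tt N2965 D6245) (tt N2962 (iv F24093)) (tt N2403 F17860) (tt N1943 F17861) (tt N1942 (iv D4562)) (tt N2966 D6246))
theorem Q2405 : ∀ i, i < 2405 → P i := stepQ 2404 Q2404 (allL N2404 (tt N2952 (iv F24038)) (tt N2890 (iv F23809)) (tt N2404 F17862) (tt N1943 (iv D4563)) (tt N2967 D6247) (tt N1944 F17863) (tt N2965 (iv F24102)) (tt N2086 F17864) (tt N2968 D6248))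
theorem Q2406 : ∀ i, i < 2406 → P i := stepQ 2405 Q2405 (allL N2405 (tt N2953 (iv F24042)) (tt N2891 (iv F23812)) (tt N1949 F17865) (tt N2968 (iv F24111)) (tt N2964 (iv F24097)) (tt N1945 F17866) (tt N2966 (iv F24106)) (tt N1970 F17867) (tt N1943 (iv D4564)))
theorem Q2407 : ∀ i, i < 2407 → P i := stepQ 2406 Q2406 (allL N2406 (tt N2954 (iv F24046)) (tt N2892 (iv F23816)) (tt N2406 F17868) (tt N2217 F17869) (tt N1944 (iv D4565)) (tt N2969 D6249) (tt N2406 F17870) (tt N2087 F17871) (tt N2970 D6250))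
theorem Q2408 : ∀ i, i < 2408 → P i := stepQ 2407 Q2407 (allL N2407 (tt N2955 (iv F24051)) (tt N2893 (iv F23820)) (tt N2407 F17872) (tt N1945 F17873) (tt N2970 (iv F24118)) (tt N2968 (iv F24112)) (tt N2407 F17874) (tt N2971 D6251) (tt N1944 (iv D4566)))
theorem Q2409 : ∀ i, i < 2409 → P i := stepQ 2408 Q2408 (allL N2408 (tt N2956 (iv F24061)) (tt N1950 F17880) (tt N2962 (iv F24092)) (tt N2814 F38202) (tt N1948 F17881) (tt N2815 (iv F38240)) (tt N1947 F17882) (tt N1946 (iv D4568)) (tt N2972 D6254))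
theorem Q2410 : ∀ i, i < 2410 → P i := stepQ 2409 Q2409 (allL N2409 (tt N2957 (iv F24065)) (tt N1951 F17883) (tt N2973 D6255) (tt N1947 (iv D4569)) (tt N2409 F17884) (tt N1974 (iv F38267)) (tt N2814 F38207) (tt N1973 F38208) (tt N2974 D6256))
theorem Q2411 : ∀ i, i < 2411 → P i := stepQ 2410 Q2410 (allL N2410 (tt N2958 (iv F24070)) (tt N1952 F17887) (tt N2964 (iv F24096)) (tt N2974 (iv F24140)) (tt N1949 F17888) (tt N2219 F17889) (tt N2972 (iv F24134)) (tt N1976 F17890) (tt N1947 (iv D4570)))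
theorem Q2412 : ∀ i, i < 2412 → P i := stepQ 2411 Q2411 (allL N2411 (tt N2959 (iv F24075)) (tt N1953 F17891) (tt N2966 (iv F24104)) (tt N2411 F17892) (tt N2972 (iv F24133)) (tt N2411 F17893) (tt N1949 F17894) (tt N1977 F17895) (tt N1948 (iv D4571)))
theorem Q2413 : ∀ i, i < 2413 → P i := stepQ 2412 Q2412 (allL N2412 (tt N2296 F17904) (tt N2972 (iv F24132)) (tt N2899 (iv F23851)) (tt N2819 F38327) (tt N1953 F17905) (tt N2821 (iv F38338)) (tt N1952 F17906) (tt N1978 F17907) (tt N1950 (iv D4574)))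
theorem Q2414 : ∀ i, i < 2414 → P i := stepQ 2413 Q2413 (allL N2413 (tt N2298 F17912) (tt N2974 (iv F24139)) (tt N2938 (iv F38394)) (tt N1952 F17913) (tt N2413 F17914) (tt N1978 (iv F38395)) (tt N2819 F38332) (tt N2821 F38371) (tt N1951 (iv D4576)))
theorem Q2415 : ∀ i, i < 2415 → P i := stepQ 2414 Q2414 (allL N2414 (tt N2902 (iv F23862)) (tt N1956 F17916) (tt N2695 (iv F22027)) (tt N2975 D6264) (tt N1954 (iv D4577)) (tt N2783 (iv F23290)) (tt N2976 D6265) (tt N2977 D6266) (tt N2943 (iv F24004)))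
theorem Q2416 : ∀ i, i < 2416 → P i := stepQ 2415 Q2415 (allL N2415 (tt N2903 (iv F23864)) (tt N1957 F17917) (tt N2510 (iv F38365)) (tt N2090 F17918) (tt N2976 (iv F24175)) (tt N2415 F17919) (tt N1954 (iv D4578)) (tt N2978 D6267) (tt N2944 (iv F24009)))
theorem Q2417 : ∀ i, i < 2417 → P i := stepQ 2416 Q2416 (allL N2416 (tt N2904 (iv F23868)) (tt N1958 F17920) (tt N2696 (iv F22033)) (tt N2979 D6268) (tt N2977 (iv F24177)) (tt N1955 F17921) (tt N2978 (iv F24180)) (tt N1954 (iv D4579)) (tt N2980 D6269))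
theorem Q2418 : ∀ i, i < 2418 → P i := stepQ 2417 Q2417 (allL N2417 (tt N2905 (iv F23871)) (tt N1959 F17922) (tt N2981 D6270) (tt N1955 (iv D4580)) (tt N2982 D6271) (tt N2979 (iv F24182)) (tt N2417 F17923) (tt N2092 F17924) (tt N2983 D6272))
theorem Q2419 : ∀ i, i < 2419 → P i := stepQ 2418 Q2418 (allL N2418 (tt N2906 (iv F23875)) (tt N1960 F17925) (tt N2698 (iv F22039)) (tt N2983 (iv F24193)) (tt N2787 (iv F23302)) (tt N2980 (iv F24185)) (tt N2418 F17926) (tt N2947 (iv F24020)) (tt N1955 (iv D4581)))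
theorem Q2420 : ∀ i, i < 2420 → P i := stepQ 2419 Q2419 (allL N2419 (tt N1965 F17927) (tt N2975 (iv F24172)) (tt N1999 F17928) (tt N1956 (iv D4582)) (tt N2094 F17929) (tt N2788 (iv F23308)) (tt N2984 D6273) (tt N2985 D6274) (tt N2948 (iv F24025)))
theorem Q2421 : ∀ i, i < 2421 → P i := stepQ 2420 Q2420 (allL N2420 (tt N1966 F17930) (tt N2976 (iv F24174)) (tt N1961 F17931) (tt N2984 (iv F24197)) (tt N1957 F17932) (tt N2986 D6275) (tt N1956 (iv D4583)) (tt N2987 D6276) (tt N2949 (iv F24029)))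
theorem Q2422 : ∀ i, i < 2422 → P i := stepQ 2421 Q2421 (allL N2421 (tt N1967 F17933) (tt N2977 (iv F24176)) (tt N1962 F17934) (tt N2988 D6277) (tt N1958 F17935) (tt N2790 (iv F23317)) (tt N2987 (iv F24208)) (tt N1956 (iv D4584)) (tt N2989 D6278))
theorem Q2423 : ∀ i, i < 2423 → P i := stepQ 2422 Q2422 (allL N2422 (tt N1968 F17936) (tt N2978 (iv F24178)) (tt N1963 F17937) (tt N2990 D6279) (tt N2987 (iv F24207)) (tt N2422 F17938) (tt N1958 F17939) (tt N1957 (iv D4585)) (tt N2991 D6280))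
theorem Q2424 : ∀ i, i < 2424 → P i := stepQ 2423 Q2423 (allL N2423 (tt N1969 F17940) (tt N2979 (iv F24181)) (tt N2015 F17941) (tt N1958 (iv D4586)) (tt N2992 D6281) (tt N1959 F17942) (tt N2990 (iv F24216)) (tt N2098 F17943) (tt N2993 D6282))
theorem Q2425 : ∀ i, i < 2425 → P i := stepQ 2424 Q2424 (allL N2424 (tt N1970 F17944) (tt N2980 (iv F24184)) (tt N1964 F17945) (tt N2993 (iv F24227)) (tt N2989 (iv F24212)) (tt N1960 F17946) (tt N2991 (iv F24221)) (tt N2953 (iv F24045)) (tt N1958 (iv D4587)))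
theorem Q2426 : ∀ i, i < 2426 → P i := stepQ 2425 Q2425 (allL N2425 (tt N1971 F17947) (tt N2982 (iv F24189)) (tt N2017 F17948) (tt N2794 (iv F23332)) (tt N1959 (iv D4588)) (tt N2994 D6283) (tt N2425 F17949) (tt N2100 F17950) (tt N2995 D6284))
theorem Q2427 : ∀ i, i < 2427 → P i := stepQ 2426 Q2426 (allL N2426 (tt N1972 F17951) (tt N2983 (iv F24192)) (tt N2018 F17952) (tt N1960 F17953) (tt N2995 (iv F24234)) (tt N2993 (iv F24228)) (tt N2426 F17954) (tt N2996 D6285) (tt N1959 (iv D4589)))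
theorem Q2428 : ∀ i, i < 2428 → P i := stepQ 2427 Q2427 (allL N2427 (tt N1973 F17955) (tt N2313 (iv F38111)) (tt N2986 (iv F24203)) (tt N1989 F38099) (tt N2427 F17957) (tt N1961 (iv D4590)) (tt N2796 (iv F23342)) (tt N2957 (iv F38170)) (tt N2840 F38117))
theorem Q2429 : ∀ i, i < 2429 → P i := stepQ 2428 Q2428 (allL N2428 (tt N1974 F17958) (tt N2429 (iv F38245)) (tt N2987 (iv F24206)) (tt N2211 (iv F38293)) (tt N1963 F17959) (tt N2957 F38238) (tt N1962 F17960) (tt N1961 (iv D4591)) (tt N2997 D6288))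
theorem Q2430 : ∀ i, i < 2430 → P i := stepQ 2429 Q2429 (allL N2429 (tt N1975 F17961) (tt N2428 F38245) (tt N2998 D6289) (tt N1962 (iv D4592)) (tt N2019 F17962) (tt N2798 (iv F23349)) (tt N2211 (iv F38294)) (tt N2002 F17963) (tt N2999 D6290))
theorem Q2431 : ∀ i, i < 2431 → P i := stepQ 2430 Q2430 (allL N2430 (tt N1976 F17964) (tt N2705 (iv F22082)) (tt N2989 (iv F24211)) (tt N2999 (iv F24254)) (tt N1964 F17965) (tt N2799 (iv F23353)) (tt N2997 (iv F24249)) (tt N2958 (iv F24074)) (tt N1962 (iv D4593)))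
theorem Q2432 : ∀ i, i < 2432 → P i := stepQ 2431 Q2431 (allL N2431 (tt N1977 F17966) (tt N2494 (iv F38367)) (tt N2991 (iv F24219)) (tt N2021 F17967) (tt N2997 (iv F24248)) (tt N2431 F17968) (tt N1964 F17969) (tt N2959 (iv F24080)) (tt N1963 (iv D4594)))
theorem Q2433 : ∀ i, i < 2433 → P i := stepQ 2432 Q2432 (allL N2432 (tt N2984 (iv F24195)) (tt N2920 (iv F23921)) (tt N2003 F17970) (tt N1966 F17971) (tt N2102 F17972) (tt N3000 D6291) (tt N1965 (iv D4595)) (tt N3001 D6292) (tt N2960 (iv F24084)))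
theorem Q2434 : ∀ i, i < 2434 → P i := stepQ 2433 Q2433 (allL N2433 (tt N2985 (iv F24199)) (tt N2921 (iv F23925)) (tt N2004 F17973) (tt N3002 D6293) (tt N2103 F17974) (tt N2802 (iv F23366)) (tt N3001 (iv F24260)) (tt N1965 (iv D4596)) (tt N3003 D6294))
theorem Q2435 : ∀ i, i < 2435 → P i := stepQ 2434 Q2434 (allL N2434 (tt N2986 (iv F24202)) (tt N2922 (iv F23928)) (tt N1973 F17975) (tt N3000 (iv F24257)) (tt N2434 F17976) (tt N1966 (iv D4597)) (tt N2803 (iv F23369)) (tt N2973 (iv F38263)) (tt N2851 F38247))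
theorem Q2436 : ∀ i, i < 2436 → P i := stepQ 2435 Q2435 (allL N2435 (tt N2987 (iv F24205)) (tt N2923 (iv F23931)) (tt N1974 F17977) (tt N3004 D6296) (tt N1968 F17978) (tt N2973 F38329) (tt N1967 F17979) (tt N1966 (iv D4598)) (tt N3005 D6297))
theorem Q2437 : ∀ i, i < 2437 → P i := stepQ 2436 Q2436 (allL N2436 (tt N2988 (iv F24209)) (tt N2924 (iv F23935)) (tt N3006 D6298) (tt N1967 (iv D4599)) (tt N3007 D6299) (tt N2805 (iv F23374)) (tt N3004 (iv F24267)) (tt N3002 (iv F24261)) (tt N3008 D6300))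
theorem Q2438 : ∀ i, i < 2438 → P i := stepQ 2437 Q2437 (allL N2437 (tt N2989 (iv F24210)) (tt N2925 (iv F23936)) (tt N1976 F17980) (tt N3008 (iv F24273)) (tt N1970 F17981) (tt N2806 (iv F23377)) (tt N3005 (iv F24270)) (tt N2964 (iv F24099)) (tt N1967 (iv D4600)))
theorem Q2439 : ∀ i, i < 2439 → P i := stepQ 2438 Q2438 (allL N2438 (tt N2990 (iv F24213)) (tt N2926 (iv F23939)) (tt N2024 F17982) (tt N1968 (iv D4601)) (tt N3009 D6301) (tt N2438 F17983) (tt N1969 F17984) (tt N2105 F17985) (tt N3010 D6302))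
theorem Q2440 : ∀ i, i < 2440 → P i := stepQ 2439 Q2439 (allL N2439 (tt N2991 (iv F24218)) (tt N2927 (iv F23944)) (tt N1977 F17986) (tt N3010 (iv F24278)) (tt N3005 (iv F24269)) (tt N2439 F17987) (tt N1970 F17988) (tt N2966 (iv F24107)) (tt N1968 (iv D4602)))
theorem Q2441 : ∀ i, i < 2441 → P i := stepQ 2440 Q2440 (allL N2440 (tt N2992 (iv F24222)) (tt N2928 (iv F23948)) (tt N2026 F17989) (tt N3007 (iv F24272)) (tt N1969 (iv D4603)) (tt N3011 D6303) (tt N3009 (iv F24275)) (tt N2106 F17990) (tt N3012 D6304))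
theorem Q2442 : ∀ i, i < 2442 → P i := stepQ 2441 Q2441 (allL N2441 (tt N2993 (iv F24225)) (tt N2929 (iv F23951)) (tt N2027 F17991) (tt N1970 F17992) (tt N3012 (iv F24285)) (tt N1972 F17993) (tt N3010 (iv F24280)) (tt N3013 D6305) (tt N1969 (iv D4604)))
theorem Q2443 : ∀ i, i < 2443 → P i := stepQ 2442 Q2442 (allL N2442 (tt N2994 (iv F24229)) (tt N2930 (iv F23955)) (tt N2028 F17994) (tt N2811 (iv F23393)) (tt N3011 (iv F24282)) (tt N1971 (iv D4605)) (tt N3014 D6306) (tt N2108 F17995) (tt N3015 D6307))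
theorem Q2444 : ∀ i, i < 2444 → P i := stepQ 2443 Q2443 (allL N2443 (tt N2995 (iv F24232)) (tt N2931 (iv F23958)) (tt N2029 F17996) (tt N2812 (iv F23396)) (tt N1972 F17997) (tt N3015 (iv F24293)) (tt N2443 F17998) (tt N3016 D6308) (tt N1971 (iv D4606)))
theorem Q2445 : ∀ i, i < 2445 → P i := stepQ 2444 Q2444 (allL N2444 (tt N2996 (iv F24236)) (tt N2932 (iv F23962)) (tt N2030 F17999) (tt N2971 (iv F24121)) (tt N3016 (iv F24295)) (tt N3013 (iv F24287)) (tt N2444 F18000) (tt N1972 (iv D4607)) (tt N2110 F18001))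
theorem Q2446 : ∀ i, i < 2446 → P i := stepQ 2445 Q2445 (allL N2445 (tt N2997 (iv F24247)) (tt N1978 F18009) (tt N3005 (iv F24268)) (tt N2219 (iv F38387)) (tt N1977 F18010) (tt N2974 F38333) (tt N1976 F18011) (tt N2972 (iv F24135)) (tt N1974 (iv D4610)))
theorem Q2447 : ∀ i, i < 2447 → P i := stepQ 2446 Q2446 (allL N2446 (tt N2998 (iv F24250)) (tt N3017 D6313) (tt N1975 (iv D4611)) (tt N3006 (iv F24271)) (tt N2031 F18012) (tt N2817 (iv F23416)) (tt N2214 (iv F38385)) (tt N2006 F18013) (tt N3018 D6314))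
theorem Q2448 : ∀ i, i < 2448 → P i := stepQ 2447 Q2447 (allL N2447 (tt N2999 (iv F24253)) (tt N1980 F18014) (tt N3018 (iv F24314)) (tt N1976 F18015) (tt N2032 F18016) (tt N2818 (iv F23421)) (tt N2219 (iv F38388)) (tt N2816 F38350) (tt N1975 (iv D4612)))
theorem Q2449 : ∀ i, i < 2449 → P i := stepQ 2448 Q2448 (allL N2448 (tt N3019 D6322) (tt N1979 (iv D4617)) (tt N3017 (iv F24311)) (tt N2940 (iv F23993)) (tt N2033 F18027) (tt N2822 (iv F23436)) (tt N2201 (iv F38505)) (tt N2007 F18028) (tt N3020 D6323))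
theorem Q2450 : ∀ i, i < 2450 → P i := stepQ 2449 Q2449 (allL N2449 (tt N2386 F38479) (tt N3020 (iv F24337)) (tt N1980 F18029) (tt N2941 (iv F23997)) (tt N2034 F18030) (tt N2823 (iv F23440)) (tt N2204 (iv F38510)) (tt N2780 F38480) (tt N1979 (iv D4618)))
theorem Q2451 : ∀ i, i < 2451 → P i := stepQ 2450 Q2450 (allL N2450 (tt N2450 F18033) (tt N1983 F18034) (tt N2299 F18035) (tt N3021 D6325) (tt N1981 (iv D4620)) (tt N2220 F18036) (tt N3022 D6326) (tt N3023 D6327) (tt N1995 F18037))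
theorem Q2452 : ∀ i, i < 2452 → P i := stepQ 2451 Q2451 (allL N2451 (tt N2451 F18038) (tt N1984 F18039) (tt N2300 F18040) (tt N2112 F18041) (tt N3022 (iv F24350)) (tt N2172 F18042) (tt N1981 (iv D4621)) (tt N2829 F37852) (tt N1996 F18043))
theorem Q2453 : ∀ i, i < 2453 → P i := stepQ 2452 Q2452 (allL N2452 (tt N2452 F18044) (tt N1985 F18045) (tt N2301 F18046) (tt N3024 D6329) (tt N3023 (iv F24355)) (tt N1982 F18047) (tt N2829 F37776) (tt N1981 (iv D4622)) (tt N2827 F37777))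
theorem Q2454 : ∀ i, i < 2454 → P i := stepQ 2453 Q2453 (allL N2453 (tt N2453 F18048) (tt N1986 F18049) (tt N3025 D6331) (tt N1982 (iv D4623)) (tt N2187 (iv F37696)) (tt N3024 (iv F24364)) (tt N2173 F18050) (tt N2114 F18051) (tt N3026 D6333))
theorem Q2455 : ∀ i, i < 2455 → P i := stepQ 2454 Q2454 (allL N2454 (tt N2454 F18052) (tt N1987 F18053) (tt N2303 F18054) (tt N3026 (iv F24383)) (tt N2172 (iv F37769)) (tt N2827 (iv F37773)) (tt N2168 F37708) (tt N1998 F18057) (tt N1982 (iv D4624)))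
theorem Q2456 : ∀ i, i < 2456 → P i := stepQ 2455 Q2455 (allL N2455 (tt N1990 F18058) (tt N3021 (iv F24343)) (tt N2948 (iv F24022)) (tt N1983 (iv D4625)) (tt N2115 F18059) (tt N2221 F18060) (tt N3027 D6334) (tt N3028 D6335) (tt N1999 F18061))
theorem Q2457 : ∀ i, i < 2457 → P i := stepQ 2456 Q2456 (allL N2456 (tt N1991 F18062) (tt N3022 (iv F24348)) (tt N1988 F18063) (tt N3027 (iv F24387)) (tt N1984 F18064) (tt N2835 (iv F37951)) (tt N1983 (iv D4626)) (tt N2834 F37918) (tt N2000 F18065))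
theorem Q2458 : ∀ i, i < 2458 → P i := stepQ 2457 Q2457 (allL N2457 (tt N1992 F18066) (tt N3023 (iv F24353)) (tt N1989 F18067) (tt N3029 D6338) (tt N1985 F18068) (tt N2000 (iv F38004)) (tt N2834 F37921) (tt N1983 (iv D4627)) (tt N2835 F37955))
theorem Q2459 : ∀ i, i < 2459 → P i := stepQ 2458 Q2458 (allL N2458 (tt N1993 F18074) (tt N3024 (iv F24363)) (tt N2458 F18075) (tt N1985 (iv D4629)) (tt N3030 D6342) (tt N1986 F18076) (tt N2839 (iv F37952)) (tt N2119 F18077) (tt N2837 F37873))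
theorem Q2460 : ∀ i, i < 2460 → P i := stepQ 2459 Q2459 (allL N2459 (tt N1994 F18087) (tt N3026 (iv F24382)) (tt N2459 F18088) (tt N1987 F18089) (tt N2181 (iv F37785)) (tt N2837 (iv F37786)) (tt N2171 F37707) (tt N2459 F18091) (tt N1986 (iv D4632)))
theorem Q2461 : ∀ i, i < 2461 → P i := stepQ 2460 Q2460 (allL N2460 (tt N3027 (iv F24386)) (tt N2460 F18116) (tt N2960 (iv F24081)) (tt N1991 F18117) (tt N2121 F18118) (tt N2846 (iv F38122)) (tt N1990 (iv D4638)) (tt N3031 D6352) (tt N2003 F18119))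
theorem Q2462 : ∀ i, i < 2462 → P i := stepQ 2461 Q2461 (allL N2461 (tt N3028 (iv F24390)) (tt N2461 F18120) (tt N2961 (iv F24085)) (tt N3032 D6353) (tt N2122 F18121) (tt N2222 F18122) (tt N3031 (iv F24465)) (tt N1990 (iv D4639)) (tt N3033 D6354))
theorem Q2463 : ∀ i, i < 2463 → P i := stepQ 2462 Q2462 (allL N2462 (tt N3029 (iv F24402)) (tt N2462 F18132) (tt N3000 (iv F38138)) (tt N1992 (iv D4642)) (tt N3034 D6359) (tt N2003 (iv F38139)) (tt N2842 F38069) (tt N3032 (iv F24468)) (tt N2846 F38125))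
theorem Q2464 : ∀ i, i < 2464 → P i := stepQ 2463 Q2463 (allL N2463 (tt N3030 (iv F24419)) (tt N2463 F18149) (tt N2463 F18150) (tt N3034 (iv F24488)) (tt N1993 (iv D4646)) (tt N2190 (iv F37980)) (tt N2850 (iv F38123)) (tt N2125 F18151) (tt N2849 F38044))
theorem Q2465 : ∀ i, i < 2465 → P i := stepQ 2464 Q2464 (allL N2464 (tt N2464 F18213) (tt N1999 F18214) (tt N3035 D6383) (tt N1995 (iv D4662)) (tt N2127 F18215) (tt N2824 (iv F23448)) (tt N3036 D6384) (tt N3037 D6385) (tt N3021 (iv F24346)))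
theorem Q2466 : ∀ i, i < 2466 → P i := stepQ 2465 Q2465 (allL N2465 (tt N2465 F18216) (tt N2000 F18217) (tt N2466 (iv F37956)) (tt N3036 (iv F24584)) (tt N1996 F18218) (tt N3023 F37946) (tt N1995 (iv D4663)) (tt N2220 (iv F38028)) (tt N3022 (iv F24351)))
theorem Q2467 : ∀ i, i < 2467 → P i := stepQ 2466 Q2466 (allL N2466 (tt N2466 F18219) (tt N2001 F18220) (tt N2465 F37956) (tt N3038 D6388) (tt N1997 F18221) (tt N2826 (iv F23457)) (tt N2220 (iv F38027)) (tt N1995 (iv D4664)) (tt N2825 F37957))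
theorem Q2468 : ∀ i, i < 2468 → P i := stepQ 2467 Q2467 (allL N2467 (tt N2003 F18231) (tt N3036 (iv F24583)) (tt N2984 (iv F24196)) (tt N2000 F18232) (tt N2129 F18233) (tt N3029 F38102) (tt N1999 (iv D4667)) (tt N3039 D6392) (tt N3027 (iv F24389)))
theorem Q2469 : ∀ i, i < 2469 → P i := stepQ 2468 Q2468 (allL N2468 (tt N2004 F18234) (tt N3037 (iv F24587)) (tt N2985 (iv F24200)) (tt N3040 D6393) (tt N2130 F18235) (tt N2833 (iv F23486)) (tt N3039 (iv F24611)) (tt N1999 (iv D4668)) (tt N3041 D6394))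
theorem Q2470 : ∀ i, i < 2470 → P i := stepQ 2469 Q2469 (allL N2469 (tt N2005 F18243) (tt N3038 (iv F24597)) (tt N3042 D6398) (tt N2001 (iv D4671)) (tt N2469 F18244) (tt N2836 (iv F23497)) (tt N2221 (iv F38168)) (tt N3040 (iv F24614)) (tt N2832 F38120))
theorem Q2471 : ∀ i, i < 2471 → P i := stepQ 2470 Q2470 (allL N2470 (tt N2006 F18262) (tt N3043 D6404) (tt N2002 (iv D4677)) (tt N3042 (iv F24629)) (tt N2035 F18263) (tt N2841 (iv F23540)) (tt N2207 (iv F38292)) (tt N2998 (iv F24252)) (tt N2789 F38244))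
theorem Q2472 : ∀ i, i < 2472 → P i := stepQ 2471 Q2471 (allL N2471 (tt N3039 (iv F24609)) (tt N2471 F18269) (tt N3001 (iv F24258)) (tt N2222 (iv F38257)) (tt N2133 F18270) (tt N3032 F38204) (tt N2004 F18271) (tt N2003 (iv D4680)) (tt N3044 D6410))
theorem Q2473 : ∀ i, i < 2473 → P i := stepQ 2472 Q2472 (allL N2472 (tt N3040 (iv F24612)) (tt N2472 F18272) (tt N3045 D6411) (tt N2004 (iv D4681)) (tt N2472 F18273) (tt N2844 (iv F23553)) (tt N2222 (iv F38258)) (tt N2005 F18274) (tt N3046 D6412))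
theorem Q2474 : ∀ i, i < 2474 → P i := stepQ 2473 Q2473 (allL N2473 (tt N3041 (iv F24615)) (tt N2473 F18275) (tt N3003 (iv F24262)) (tt N3046 (iv F24667)) (tt N2134 F18276) (tt N2845 (iv F23557)) (tt N3044 (iv F24663)) (tt N3033 (iv F24472)) (tt N2004 (iv D4682)))
theorem Q2475 : ∀ i, i < 2475 → P i := stepQ 2474 Q2474 (allL N2474 (tt N3042 (iv F24628)) (tt N3047 D6417) (tt N2005 (iv D4686)) (tt N2006 F18288) (tt N2474 F18289) (tt N2847 (iv F23572)) (tt N2213 (iv F38256)) (tt N3045 (iv F24665)) (tt N2801 F38220))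
theorem Q2476 : ∀ i, i < 2476 → P i := stepQ 2475 Q2475 (allL N2475 (tt N3048 D6426) (tt N2006 (iv D4692)) (tt N2007 F18304) (tt N3047 (iv F24683)) (tt N2036 F18305) (tt N2852 (iv F23613)) (tt N2197 (iv F38383)) (tt N3017 (iv F24313)) (tt N2766 F38348))
theorem Q2477 : ∀ i, i < 2477 → P i := stepQ 2476 Q2476 (allL N2476 (tt N2007 (iv D4701)) (tt N2367 F38472) (tt N3048 (iv F24706)) (tt N2476 F18325) (tt N2037 F18326) (tt N2854 (iv F23642)) (tt N2194 (iv F38503)) (tt N3019 (iv F24336)) (tt N2761 F38473))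
theorem Q2478 : ∀ i, i < 2478 → P i := stepQ 2477 Q2477 (allL N2477 (tt N2477 F18337) (tt N2013 F18338) (tt N2478 F38496) (tt N3049 D6442) (tt N2010 F18339) (tt N2477 F18340) (tt N2223 (iv F38530)) (tt N2008 (iv D4705)) (tt N3050 D6443))
theorem Q2479 : ∀ i, i < 2479 → P i := stepQ 2478 Q2478 (allL N2478 (tt N2478 F18341) (tt N2014 F18342) (tt N2477 (iv F38496)) (tt N3051 D6444) (tt N2223 (iv F38529)) (tt N2478 F18343) (tt N2010 F18344) (tt N2009 (iv D4706)) (tt N3052 D6445))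
theorem Q2480 : ∀ i, i < 2480 → P i := stepQ 2479 Q2479 (allL N2479 (tt N2479 F18345) (tt N2015 F18346) (tt N3053 D6446) (tt N2010 (iv D4707)) (tt N3054 D6447) (tt N2011 F18347) (tt N3051 (iv F24762)) (tt N2136 F18348) (tt N3055 D6448))
theorem Q2481 : ∀ i, i < 2481 → P i := stepQ 2480 Q2480 (allL N2480 (tt N2480 F18349) (tt N2016 F18350) (tt N2718 (iv F22384)) (tt N3055 (iv F24777)) (tt N3050 (iv F24756)) (tt N2012 F18351) (tt N3052 (iv F24767)) (tt N2480 F18352) (tt N2010 (iv D4708)))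
theorem Q2482 : ∀ i, i < 2482 → P i := stepQ 2481 Q2481 (allL N2481 (tt N2481 F18353) (tt N2981 (iv F24186)) (tt N2011 (iv D4709)) (tt N2719 (iv F22388)) (tt N3056 D6449) (tt N3053 (iv F24770)) (tt N2481 F18354) (tt N2138 F18355) (tt N3057 D6450))
theorem Q2483 : ∀ i, i < 2483 → P i := stepQ 2482 Q2482 (allL N2482 (tt N2482 F18356) (tt N2017 F18357) (tt N3056 (iv F24780)) (tt N2482 F18358) (tt N2011 (iv D4710)) (tt N3058 D6451) (tt N2482 F18359) (tt N2139 F18360) (tt N3059 D6452))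
theorem Q2484 : ∀ i, i < 2484 → P i := stepQ 2483 Q2483 (allL N2483 (tt N2483 F18361) (tt N2018 F18362) (tt N3057 (iv F24784)) (tt N2012 F18363) (tt N3059 (iv F24793)) (tt N3055 (iv F24778)) (tt N2483 F18364) (tt N3060 D6453) (tt N2011 (iv D4711)))
theorem Q2485 : ∀ i, i < 2485 → P i := stepQ 2484 Q2484 (allL N2484 (tt N2022 F18375) (tt N3049 (iv F24751)) (tt N3061 D6457) (tt N2013 (iv D4714)) (tt N3062 D6458) (tt N2484 F18376) (tt N2226 (iv F38528)) (tt N2484 F18377) (tt N3063 D6459))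
theorem Q2486 : ∀ i, i < 2486 → P i := stepQ 2485 Q2485 (allL N2485 (tt N2023 F18378) (tt N3050 (iv F24755)) (tt N2020 F18379) (tt N3063 (iv F24821)) (tt N2016 F18380) (tt N2485 F18381) (tt N2227 (iv F38532)) (tt N2485 F18382) (tt N2013 (iv D4715)))
theorem Q2487 : ∀ i, i < 2487 → P i := stepQ 2486 Q2486 (allL N2486 (tt N2024 F18383) (tt N3051 (iv F24760)) (tt N2990 (iv F24214)) (tt N2014 (iv D4716)) (tt N3064 D6460) (tt N2486 F18384) (tt N2015 F18385) (tt N2141 F18386) (tt N3065 D6461))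
theorem Q2488 : ∀ i, i < 2488 → P i := stepQ 2487 Q2487 (allL N2487 (tt N2025 F18387) (tt N3052 (iv F24765)) (tt N2021 F18388) (tt N3065 (iv F24827)) (tt N2227 (iv F38531)) (tt N2487 F18389) (tt N2016 F18390) (tt N2487 F18391) (tt N2014 (iv D4717)))
theorem Q2489 : ∀ i, i < 2489 → P i := stepQ 2488 Q2488 (allL N2488 (tt N2026 F18392) (tt N3054 (iv F24773)) (tt N2992 (iv F24223)) (tt N3062 (iv F24818)) (tt N2015 (iv D4718)) (tt N3066 D6462) (tt N3064 (iv F24824)) (tt N2143 F18393) (tt N3067 D6463))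
theorem Q2490 : ∀ i, i < 2490 → P i := stepQ 2489 Q2489 (allL N2489 (tt N2027 F18394) (tt N3055 (iv F24776)) (tt N2993 (iv F24226)) (tt N2016 F18395) (tt N3067 (iv F24834)) (tt N2018 F18396) (tt N3065 (iv F24829)) (tt N3068 D6464) (tt N2015 (iv D4719)))
theorem Q2491 : ∀ i, i < 2491 → P i := stepQ 2490 Q2490 (allL N2490 (tt N2028 F18397) (tt N3058 (iv F24787)) (tt N2994 (iv F24230)) (tt N2490 F18398) (tt N3066 (iv F24831)) (tt N2017 (iv D4720)) (tt N3069 D6465) (tt N2145 F18399) (tt N3070 D6466))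
theorem Q2492 : ∀ i, i < 2492 → P i := stepQ 2491 Q2491 (allL N2491 (tt N2029 F18400) (tt N3059 (iv F24791)) (tt N2995 (iv F24233)) (tt N2491 F18401) (tt N2018 F18402) (tt N3070 (iv F24845)) (tt N2491 F18403) (tt N3071 D6467) (tt N2017 (iv D4721)))
theorem Q2493 : ∀ i, i < 2493 → P i := stepQ 2492 Q2492 (allL N2492 (tt N2030 F18404) (tt N3060 (iv F24796)) (tt N2996 (iv F24237)) (tt N2492 F18405) (tt N3071 (iv F24847)) (tt N3068 (iv F24837)) (tt N2492 F18406) (tt N2018 (iv D4722)) (tt N2147 F18407))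
theorem Q2494 : ∀ i, i < 2494 → P i := stepQ 2493 Q2493 (allL N2493 (tt N2031 F18419) (tt N3072 D6472) (tt N2019 (iv D4726)) (tt N3061 (iv F24814)) (tt N2998 (iv F24251)) (tt N2493 F18420) (tt N2208 (iv F38428)) (tt N2035 F18421) (tt N3073 D6473))
theorem Q2495 : ∀ i, i < 2495 → P i := stepQ 2494 Q2494 (allL N2494 (tt N2032 F18422) (tt N2431 F38367) (tt N3073 (iv F24868)) (tt N2020 F18423) (tt N2999 (iv F24255)) (tt N2494 F18424) (tt N2212 (iv F38431)) (tt N2800 F38368) (tt N2019 (iv D4727)))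
theorem Q2496 : ∀ i, i < 2496 → P i := stepQ 2495 Q2495 (allL N2495 (tt N3061 (iv F24813)) (tt N3074 D6480) (tt N2022 (iv D4731)) (tt N2031 F18438) (tt N3075 D6481) (tt N2495 F18439) (tt N2215 (iv F38514)) (tt N2495 F18440) (tt N3076 D6482))
theorem Q2497 : ∀ i, i < 2497 → P i := stepQ 2496 Q2496 (allL N2496 (tt N3062 (iv F24817)) (tt N2496 F18441) (tt N3075 (iv F24898)) (tt N2026 F18442) (tt N2022 (iv D4732)) (tt N3077 D6483) (tt N2230 (iv F38564)) (tt N2496 F18443) (tt N3078 D6484))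
theorem Q2498 : ∀ i, i < 2498 → P i := stepQ 2497 Q2497 (allL N2497 (tt N3063 (iv F24820)) (tt N2497 F18444) (tt N3076 (iv F24900)) (tt N2023 F18445) (tt N3078 (iv F24909)) (tt N2497 F18446) (tt N2231 (iv F38565)) (tt N3079 D6485) (tt N2022 (iv D4733)))
theorem Q2499 : ∀ i, i < 2499 → P i := stepQ 2498 Q2498 (allL N2498 (tt N3064 (iv F24823)) (tt N2498 F18447) (tt N3009 (iv F24274)) (tt N2230 (iv F38563)) (tt N2024 (iv D4734)) (tt N3080 D6486) (tt N2026 F18448) (tt N2148 F18449) (tt N3081 D6487))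
theorem Q2500 : ∀ i, i < 2500 → P i := stepQ 2499 Q2499 (allL N2499 (tt N3065 (iv F24826)) (tt N2499 F18450) (tt N3010 (iv F24277)) (tt N2025 F18451) (tt N3081 (iv F24918)) (tt N2499 F18452) (tt N2027 F18453) (tt N3082 D6488) (tt N2024 (iv D4735)))
theorem Q2501 : ∀ i, i < 2501 → P i := stepQ 2500 Q2500 (allL N2500 (tt N3066 (iv F24830)) (tt N2500 F18454) (tt N3011 (iv F24281)) (tt N3077 (iv F24904)) (tt N2028 F18455) (tt N2026 (iv D4736)) (tt N3083 D6489) (tt N2150 F18456) (tt N3084 D6490))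
theorem Q2502 : ∀ i, i < 2502 → P i := stepQ 2501 Q2501 (allL N2501 (tt N3067 (iv F24833)) (tt N2501 F18457) (tt N3012 (iv F24284)) (tt N3078 (iv F24908)) (tt N2027 F18458) (tt N3084 (iv F24930)) (tt N3081 (iv F24919)) (tt N3085 D6491) (tt N2026 (iv D4737)))
theorem Q2503 : ∀ i, i < 2503 → P i := stepQ 2502 Q2502 (allL N2502 (tt N3068 (iv F24835)) (tt N2502 F18459) (tt N3013 (iv F24286)) (tt N2502 F18460) (tt N3085 (iv F24932)) (tt N2030 F18461) (tt N3082 (iv F24923)) (tt N2027 (iv D4738)) (tt N2152 F18462))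
theorem Q2504 : ∀ i, i < 2504 → P i := stepQ 2503 Q2503 (allL N2503 (tt N3069 (iv F24839)) (tt N2503 F18463) (tt N3014 (iv F24289)) (tt N2503 F18464) (tt N3083 (iv F24926)) (tt N2503 F18465) (tt N2028 (iv D4739)) (tt N2153 F18466) (tt N3086 D6492))
theorem Q2505 : ∀ i, i < 2505 → P i := stepQ 2504 Q2504 (allL N2504 (tt N3070 (iv F24843)) (tt N2504 F18467) (tt N3015 (iv F24292)) (tt N2504 F18468) (tt N3084 (iv F24929)) (tt N2029 F18469) (tt N3086 (iv F24937)) (tt N3087 D6493) (tt N2028 (iv D4740)))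
theorem Q2506 : ∀ i, i < 2506 → P i := stepQ 2505 Q2505 (allL N2505 (tt N3071 (iv F24846)) (tt N2505 F18470) (tt N3016 (iv F24294)) (tt N3088 D6494) (tt N2030 F18471) (tt N3087 (iv F24939)) (tt N2505 F18472) (tt N2029 (iv D4741)) (tt N2155 F18473))
theorem Q2507 : ∀ i, i < 2507 → P i := stepQ 2506 Q2506 (allL N2506 (tt N3089 D6501) (tt N2031 (iv D4746)) (tt N2033 F18488) (tt N3074 (iv F24895)) (tt N3017 (iv F24312)) (tt N2506 F18489) (tt N2198 (iv F38513)) (tt N2036 F18490) (tt N3090 D6502))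
theorem Q2508 : ∀ i, i < 2508 → P i := stepQ 2507 Q2507 (allL N2507 (tt N3073 (iv F24867)) (tt N3090 (iv F24969)) (tt N2032 F18491) (tt N3076 (iv F24901)) (tt N3018 (iv F24315)) (tt N2507 F18492) (tt N2216 (iv F38515)) (tt N2808 F38485) (tt N2031 (iv D4747)))
theorem Q2509 : ∀ i, i < 2509 → P i := stepQ 2508 Q2508 (allL N2508 (tt N2033 (iv D4755)) (tt N2369 F38555) (tt N3089 (iv F24966)) (tt N2508 F18516) (tt N3019 (iv F24335)) (tt N2508 F18517) (tt N2195 (iv F38567)) (tt N2037 F18518) (tt N3091 D6512))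
theorem Q2510 : ∀ i, i < 2510 → P i := stepQ 2509 Q2509 (allL N2509 (tt N3091 (iv F25002)) (tt N2034 F18519) (tt N3090 (iv F24970)) (tt N2509 F18520) (tt N3020 (iv F24338)) (tt N2509 F18521) (tt N2202 (iv F38568)) (tt N2777 F38556) (tt N2033 (iv D4756)))
theorem Q2511 : ∀ i, i < 2511 → P i := stepQ 2510 Q2510 (allL N2510 (tt N3092 D6521) (tt N2035 (iv D4762)) (tt N2415 F38365) (tt N2510 F18540) (tt N3043 (iv F24646)) (tt N2510 F18541) (tt N2205 (iv F38427)) (tt N3072 (iv F24866)) (tt N2784 F38366))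
theorem Q2512 : ∀ i, i < 2512 → P i := stepQ 2511 Q2511 (allL N2511 (tt N2036 (iv D4771)) (tt N3092 (iv F25032)) (tt N2037 F18568) (tt N2511 F18569) (tt N3048 (iv F24707)) (tt N2511 F18570) (tt N2192 (iv F38512)) (tt N3089 (iv F24968)) (tt N2757 F38484))
theorem Q2513 : ∀ i, i < 2513 → P i := stepQ 2512 Q2512 (allL N2512 (tt N2040 F18659) (tt N3093 D6565) (tt N2038 (iv D4798)) (tt N2512 F18660) (tt N2041 F18661) (tt N2183 (iv F38713)) (tt N2512 F18662) (tt N2182 F38665) (tt N2512 F18663))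
theorem Q2514 : ∀ i, i < 2514 → P i := stepQ 2513 Q2513 (allL N2513 (tt N2513 F18723) (tt N2041 (iv D4812)) (tt N2513 F18724) (tt N2855 (iv F23652)) (tt N3093 (iv F25187)) (tt N3094 D6586) (tt N2513 F18725) (tt N3095 D6587) (tt N2513 F18726))
theorem Q2515 : ∀ i, i < 2515 → P i := stepQ 2514 Q2514 (allL N2514 (tt N2045 F18727) (tt N3094 (iv F25280)) (tt N2042 F18728) (tt N2856 (iv F23658)) (tt N2118 (iv F38714)) (tt N2041 (iv D4813)) (tt N2117 (iv F38715)) (tt N2116 F38666) (tt N2514 F18729))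
theorem Q2516 : ∀ i, i < 2516 → P i := stepQ 2515 Q2515 (allL N2515 (tt N2046 F18730) (tt N3095 (iv F25284)) (tt N2043 F18731) (tt N3096 D6591) (tt N2182 (iv F38633)) (tt N2116 (iv F38634)) (tt N2515 F18732) (tt N2041 (iv D4814)) (tt N2131 (iv F38635)))
theorem Q2517 : ∀ i, i < 2517 → P i := stepQ 2516 Q2516 (allL N2516 (tt N3096 (iv F25297)) (tt N2516 F18761) (tt N2057 F18762) (tt N2046 (iv D4822)) (tt N3097 D6603) (tt N2121 (iv F38611)) (tt N2516 F18763) (tt N2864 (iv F23699)) (tt N2132 (iv F38612)))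
theorem Q2518 : ∀ i, i < 2518 → P i := stepQ 2517 Q2517 (allL N2517 (tt N2078 F18804) (tt N2048 F18805) (tt N2517 F18806) (tt N2875 (iv F23748)) (tt N3098 D6615) (tt N2047 (iv D4833)) (tt N3099 D6616) (tt N3100 D6617) (tt N2059 F18807))
theorem Q2519 : ∀ i, i < 2519 → P i := stepQ 2518 Q2518 (allL N2518 (tt N2079 F18808) (tt N2049 F18809) (tt N2518 F18810) (tt N3101 D6618) (tt N2518 F18811) (tt N3100 (iv F25401)) (tt N2518 F18812) (tt N2047 (iv D4834)) (tt N3102 D6619))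
theorem Q2520 : ∀ i, i < 2520 → P i := stepQ 2519 Q2519 (allL N2519 (tt N2054 F18813) (tt N3098 (iv F25389)) (tt N2050 F18814) (tt N3103 D6620) (tt N2048 (iv D4835)) (tt N2519 F18815) (tt N2082 F38759) (tt N2081 F38760) (tt N2061 F18816))
theorem Q2521 : ∀ i, i < 2521 → P i := stepQ 2520 Q2520 (allL N2520 (tt N2055 F18817) (tt N3099 (iv F25394)) (tt N2051 F18818) (tt N2878 (iv F23761)) (tt N2082 F38761) (tt N2520 F18819) (tt N2048 (iv D4836)) (tt N2080 F38762) (tt N2062 F18820))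
theorem Q2522 : ∀ i, i < 2522 → P i := stepQ 2521 Q2521 (allL N2521 (tt N2056 F18821) (tt N3100 (iv F25399)) (tt N2052 F18822) (tt N3104 D6624) (tt N2081 (iv F38707)) (tt N2049 F18823) (tt N2080 (iv F38708)) (tt N2048 (iv D4837)) (tt N2095 (iv F38710)))
theorem Q2523 : ∀ i, i < 2523 → P i := stepQ 2522 Q2522 (allL N2522 (tt N2057 F18824) (tt N3101 (iv F25403)) (tt N3096 (iv F25298)) (tt N2049 (iv D4838)) (tt N3105 D6626) (tt N3104 (iv F25428)) (tt N2522 F18825) (tt N2880 (iv F23769)) (tt N3106 D6627))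
theorem Q2524 : ∀ i, i < 2524 → P i := stepQ 2523 Q2523 (allL N2523 (tt N2058 F18826) (tt N3102 (iv F25406)) (tt N2053 F18827) (tt N3106 (iv F25437)) (tt N2523 F18828) (tt N2095 (iv F38709)) (tt N2523 F18829) (tt N2065 F18830) (tt N2049 (iv D4839)))
theorem Q2525 : ∀ i, i < 2525 → P i := stepQ 2524 Q2524 (allL N2524 (tt N3103 (iv F25411)) (tt N2085 F18848) (tt N2524 F18849) (tt N2054 (iv D4844)) (tt N2886 (iv F23794)) (tt N2524 F18850) (tt N2086 F38668) (tt N2965 (iv F38729)) (tt N2070 F18851))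
theorem Q2526 : ∀ i, i < 2526 → P i := stepQ 2525 Q2525 (allL N2525 (tt N3104 (iv F25427)) (tt N2086 F18864) (tt N2121 F38618) (tt N2056 (iv D4848)) (tt N2960 (iv F38636)) (tt N2057 F18865) (tt N2085 (iv F38637)) (tt N2890 (iv F23811)) (tt N2102 (iv F38640)))
theorem Q2527 : ∀ i, i < 2527 → P i := stepQ 2526 Q2526 (allL N2526 (tt N3105 (iv F25433)) (tt N2087 F18870) (tt N3097 (iv F25344)) (tt N2526 F18871) (tt N2057 (iv D4850)) (tt N3107 D6643) (tt N2526 F18872) (tt N2892 (iv F23819)) (tt N3108 D6644))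
theorem Q2528 : ∀ i, i < 2528 → P i := stepQ 2527 Q2527 (allL N2527 (tt N3106 (iv F25436)) (tt N2088 F18873) (tt N2132 F38619) (tt N2058 F18874) (tt N3108 (iv F25502)) (tt N2102 (iv F38639)) (tt N2527 F18875) (tt N3109 D6645) (tt N2057 (iv D4851)))
theorem Q2529 : ∀ i, i < 2529 → P i := stepQ 2528 Q2528 (allL N2528 (tt N2089 F18915) (tt N2061 F18916) (tt N2528 F18917) (tt N3110 D6658) (tt N2059 (iv D4862)) (tt N2528 F18918) (tt N3111 D6659) (tt N3112 D6660) (tt N3098 (iv F25392)))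
theorem Q2530 : ∀ i, i < 2530 → P i := stepQ 2529 Q2529 (allL N2529 (tt N2090 F18919) (tt N2062 F18920) (tt N2529 F18921) (tt N2903 (iv F23866)) (tt N3111 (iv F25557)) (tt N2529 F18922) (tt N2059 (iv D4863)) (tt N3113 D6661) (tt N3099 (iv F25397)))
theorem Q2531 : ∀ i, i < 2531 → P i := stepQ 2530 Q2530 (allL N2530 (tt N2091 F18923) (tt N2063 F18924) (tt N2530 F18925) (tt N3114 D6662) (tt N3112 (iv F25561)) (tt N2060 F18926) (tt N3113 (iv F25567)) (tt N2059 (iv D4864)) (tt N3115 D6663))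
theorem Q2532 : ∀ i, i < 2532 → P i := stepQ 2531 Q2531 (allL N2531 (tt N2092 F18927) (tt N2064 F18928) (tt N3116 D6664) (tt N2060 (iv D4865)) (tt N3117 D6665) (tt N3114 (iv F25570)) (tt N2531 F18929) (tt N2905 (iv F23874)) (tt N3118 D6666))
theorem Q2533 : ∀ i, i < 2533 → P i := stepQ 2532 Q2532 (allL N2532 (tt N2093 F18930) (tt N2065 F18931) (tt N2532 F18932) (tt N3118 (iv F25585)) (tt N2532 F18933) (tt N3115 (iv F25574)) (tt N2532 F18934) (tt N3102 (iv F25410)) (tt N2060 (iv D4866)))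
theorem Q2534 : ∀ i, i < 2534 → P i := stepQ 2533 Q2533 (allL N2533 (tt N2070 F18935) (tt N3110 (iv F25552)) (tt N2533 F18936) (tt N2061 (iv D4867)) (tt N2907 (iv F23880)) (tt N2533 F18937) (tt N3119 D6667) (tt N3120 D6668) (tt N3103 (iv F25414)))
theorem Q2535 : ∀ i, i < 2535 → P i := stepQ 2534 Q2534 (allL N2534 (tt N2071 F18938) (tt N3111 (iv F25555)) (tt N2066 F18939) (tt N3119 (iv F25589)) (tt N2062 F18940) (tt N2084 F38770) (tt N2061 (iv D4868)) (tt N2099 (iv F38844)) (tt N2082 F38771))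
theorem Q2536 : ∀ i, i < 2536 → P i := stepQ 2535 Q2535 (allL N2535 (tt N2072 F18941) (tt N3112 (iv F25559)) (tt N2067 F18942) (tt N3121 D6671) (tt N2063 F18943) (tt N2535 F18944) (tt N2099 F38871) (tt N2061 (iv D4869)) (tt N2097 F38872))
theorem Q2537 : ∀ i, i < 2537 → P i := stepQ 2536 Q2536 (allL N2536 (tt N2073 F18945) (tt N3113 (iv F25564)) (tt N2068 F18946) (tt N3122 D6673) (tt N2099 F38873) (tt N2536 F18947) (tt N2063 F18948) (tt N2062 (iv D4870)) (tt N2096 F38874))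
theorem Q2538 : ∀ i, i < 2538 → P i := stepQ 2537 Q2537 (allL N2537 (tt N2074 F18949) (tt N3114 (iv F25569)) (tt N2537 F18950) (tt N2063 (iv D4871)) (tt N3123 D6675) (tt N2064 F18951) (tt N3122 (iv F25610)) (tt N2911 (iv F23894)) (tt N3124 D6676))
theorem Q2539 : ∀ i, i < 2539 → P i := stepQ 2538 Q2538 (allL N2538 (tt N2075 F18952) (tt N3115 (iv F25572)) (tt N2069 F18953) (tt N3124 (iv F25619)) (tt N2097 (iv F38837)) (tt N2065 F18954) (tt N2096 (iv F38838)) (tt N2095 F38763) (tt N2063 (iv D4872)))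
theorem Q2540 : ∀ i, i < 2540 → P i := stepQ 2539 Q2539 (allL N2539 (tt N2076 F18955) (tt N3117 (iv F25580)) (tt N2539 F18956) (tt N2539 F18957) (tt N2064 (iv D4873)) (tt N3125 D6677) (tt N2539 F18958) (tt N2913 (iv F23901)) (tt N3126 D6678))
theorem Q2541 : ∀ i, i < 2541 → P i := stepQ 2540 Q2540 (allL N2540 (tt N2077 F18959) (tt N3118 (iv F25584)) (tt N2540 F18960) (tt N2065 F18961) (tt N3126 (iv F25627)) (tt N3124 (iv F25620)) (tt N2540 F18962) (tt N3127 D6679) (tt N2064 (iv D4874)))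
theorem Q2542 : ∀ i, i < 2542 → P i := stepQ 2541 Q2541 (allL N2541 (tt N3119 (iv F25587)) (tt N2102 F18986) (tt N2541 F18987) (tt N2071 F18988) (tt N2920 (iv F23924)) (tt N2088 F38669) (tt N2070 (iv D4880)) (tt N3128 D6686) (tt N2086 F38670))
theorem Q2543 : ∀ i, i < 2543 → P i := stepQ 2542 Q2542 (allL N2542 (tt N3120 (iv F25590)) (tt N2103 F18989) (tt N2542 F18990) (tt N3129 D6687) (tt N2921 (iv F23927)) (tt N2542 F18991) (tt N3128 (iv F25661)) (tt N2070 (iv D4881)) (tt N3130 D6688))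
theorem Q2544 : ∀ i, i < 2544 → P i := stepQ 2543 Q2543 (allL N2543 (tt N3121 (iv F25601)) (tt N2104 F19000) (tt N2149 (iv F38922)) (tt N2072 (iv D4884)) (tt N3131 D6693) (tt N2543 F19001) (tt N2107 F38887) (tt N3129 (iv F25664)) (tt N2105 F38888))
theorem Q2545 : ∀ i, i < 2545 → P i := stepQ 2544 Q2544 (allL N2544 (tt N3122 (iv F25607)) (tt N2105 F19006) (tt N2544 F19007) (tt N2073 (iv D4886)) (tt N3132 D6695) (tt N2544 F19008) (tt N2074 F19009) (tt N2926 (iv F23943)) (tt N2104 F38886))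
theorem Q2546 : ∀ i, i < 2546 → P i := stepQ 2545 Q2545 (allL N2545 (tt N3123 (iv F25615)) (tt N2106 F19014) (tt N2545 F19015) (tt N3131 (iv F25683)) (tt N2074 (iv D4888)) (tt N3133 D6697) (tt N3132 (iv F25689)) (tt N2928 (iv F23950)) (tt N3134 D6698))
theorem Q2547 : ∀ i, i < 2547 → P i := stepQ 2546 Q2546 (allL N2546 (tt N3124 (iv F25617)) (tt N2107 F19016) (tt N2546 F19017) (tt N2075 F19018) (tt N3134 (iv F25700)) (tt N2077 F19019) (tt N2104 (iv F38860)) (tt N3135 D6699) (tt N2074 (iv D4889)))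
theorem Q2548 : ∀ i, i < 2548 → P i := stepQ 2547 Q2547 (allL N2547 (tt N3125 (iv F25621)) (tt N2108 F19020) (tt N2547 F19021) (tt N2547 F19022) (tt N3133 (iv F25697)) (tt N2076 (iv D4890)) (tt N3136 D6700) (tt N2930 (iv F23957)) (tt N3137 D6701))
theorem Q2549 : ∀ i, i < 2549 → P i := stepQ 2548 Q2548 (allL N2548 (tt N3126 (iv F25624)) (tt N2109 F19023) (tt N2548 F19024) (tt N2548 F19025) (tt N2077 F19026) (tt N3137 (iv F25711)) (tt N2548 F19027) (tt N3138 D6702) (tt N2076 (iv D4891)))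
theorem Q2550 : ∀ i, i < 2550 → P i := stepQ 2549 Q2549 (allL N2549 (tt N3127 (iv F25629)) (tt N2110 F19028) (tt N2549 F19029) (tt N3109 (iv F25505)) (tt N3138 (iv F25714)) (tt N3135 (iv F25703)) (tt N2549 F19030) (tt N2077 (iv D4892)) (tt N2932 (iv F23965)))
theorem Q2551 : ∀ i, i < 2551 → P i := stepQ 2550 Q2550 (allL N2550 (tt N3098 (iv F25388)) (tt N2080 F19070) (tt N2550 F19071) (tt N3139 D6712) (tt N2078 (iv D4902)) (tt N2550 F19072) (tt N3100 F38752) (tt N3099 (iv F38826)) (tt N2089 F19073))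
theorem Q2552 : ∀ i, i < 2552 → P i := stepQ 2551 Q2551 (allL N2551 (tt N3099 (iv F25393)) (tt N2081 F19074) (tt N2551 F19075) (tt N2944 (iv F24007)) (tt N3100 F38751) (tt N2551 F19076) (tt N2078 (iv D4903)) (tt N3098 (iv F38828)) (tt N2090 F19077))
theorem Q2553 : ∀ i, i < 2553 → P i := stepQ 2552 Q2552 (allL N2552 (tt N3100 (iv F25398)) (tt N2082 F19078) (tt N2552 F19079) (tt N3140 D6716) (tt N3099 (iv F38825)) (tt N2079 F19080) (tt N3098 (iv F38827)) (tt N2078 (iv D4904)) (tt N3111 (iv F38830)))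
theorem Q2554 : ∀ i, i < 2554 → P i := stepQ 2553 Q2553 (allL N2553 (tt N3101 (iv F25402)) (tt N2083 F19081) (tt N3141 D6718) (tt N2079 (iv D4905)) (tt N3142 D6719) (tt N3140 (iv F25772)) (tt N2553 F19082) (tt N2946 (iv F24015)) (tt N3143 D6720))
theorem Q2555 : ∀ i, i < 2555 → P i := stepQ 2554 Q2554 (allL N2554 (tt N3102 (iv F25405)) (tt N2084 F19083) (tt N2554 F19084) (tt N3143 (iv F25784)) (tt N2554 F19085) (tt N3111 (iv F38829)) (tt N2554 F19086) (tt N2093 F19087) (tt N2079 (iv D4906)))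
theorem Q2556 : ∀ i, i < 2556 → P i := stepQ 2555 Q2555 (allL N2555 (tt N2085 F19088) (tt N3139 (iv F25756)) (tt N2115 F19089) (tt N2080 (iv D4907)) (tt N2948 (iv F24023)) (tt N2555 F19090) (tt N3104 F38654) (tt N3144 D6722) (tt N2094 F19091))
theorem Q2557 : ∀ i, i < 2557 → P i := stepQ 2556 Q2556 (allL N2556 (tt N2086 F19104) (tt N3140 (iv F25771)) (tt N2556 F19105) (tt N2082 (iv D4911)) (tt N3145 D6729) (tt N2083 F19106) (tt N3103 (iv F38722)) (tt N2952 (iv F24041)) (tt N3119 (iv F38724)))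
theorem Q2558 : ∀ i, i < 2558 → P i := stepQ 2557 Q2557 (allL N2557 (tt N2087 F19111) (tt N3142 (iv F25780)) (tt N2557 F19112) (tt N2557 F19113) (tt N2083 (iv D4913)) (tt N3146 D6731) (tt N2557 F19114) (tt N2954 (iv F24050)) (tt N3147 D6732))
theorem Q2559 : ∀ i, i < 2559 → P i := stepQ 2558 Q2558 (allL N2558 (tt N2088 F19115) (tt N3143 (iv F25783)) (tt N2558 F19116) (tt N2084 F19117) (tt N3147 (iv F25830)) (tt N3119 (iv F38723)) (tt N2558 F19118) (tt N3148 D6733) (tt N2083 (iv D4914)))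
theorem Q2560 : ∀ i, i < 2560 → P i := stepQ 2559 Q2559 (allL N2559 (tt N3144 (iv F25790)) (tt N2965 (iv F38728)) (tt N2122 F19148) (tt N2889 (iv F38738)) (tt N2961 (iv F24086)) (tt N2559 F19149) (tt N2890 F38682) (tt N2085 (iv D4921)) (tt N3149 D6742))
theorem Q2561 : ∀ i, i < 2561 → P i := stepQ 2560 Q2560 (allL N2560 (tt N3145 (iv F25818)) (tt N2960 F38667) (tt N2560 F19169) (tt N2887 (iv F38725)) (tt N2086 (iv D4928)) (tt N3150 D6751) (tt N2886 (iv F38726)) (tt N2967 (iv F24109)) (tt N2920 (iv F38727)))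
theorem Q2562 : ∀ i, i < 2562 → P i := stepQ 2561 Q2561 (allL N2561 (tt N3146 (iv F25824)) (tt N3107 (iv F25498)) (tt N2561 F19173) (tt N2561 F19174) (tt N3150 (iv F25893)) (tt N2087 (iv D4930)) (tt N3151 D6754) (tt N2969 (iv F24115)) (tt N3152 D6755))
theorem Q2563 : ∀ i, i < 2563 → P i := stepQ 2562 Q2562 (allL N2562 (tt N3147 (iv F25827)) (tt N3108 (iv F25500)) (tt N2562 F19175) (tt N2562 F19176) (tt N2088 F19177) (tt N3152 (iv F25904)) (tt N2562 F19178) (tt N3153 D6756) (tt N2087 (iv D4931)))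
theorem Q2564 : ∀ i, i < 2564 → P i := stepQ 2563 Q2563 (allL N2563 (tt N3148 (iv F25832)) (tt N3109 (iv F25504)) (tt N2563 F19179) (tt N2110 F19180) (tt N3153 (iv F25906)) (tt N3128 (iv F38730)) (tt N2563 F19181) (tt N2088 (iv D4932)) (tt N2971 (iv F24123)))
theorem Q2565 : ∀ i, i < 2565 → P i := stepQ 2564 Q2564 (allL N2564 (tt N3110 (iv F25551)) (tt N2094 F19228) (tt N3154 D6770) (tt N2089 (iv D4944)) (tt N2975 (iv F24173)) (tt N2564 F19229) (tt N3155 D6771) (tt N3156 D6772) (tt N3139 (iv F25758)))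
theorem Q2566 : ∀ i, i < 2566 → P i := stepQ 2565 Q2565 (allL N2565 (tt N3111 (iv F25554)) (tt N2095 F19230) (tt N2565 F19231) (tt N3155 (iv F25967)) (tt N2090 F19232) (tt N3102 F38753) (tt N2089 (iv D4945)) (tt N3115 (iv F38831)) (tt N3100 F38754))
theorem Q2567 : ∀ i, i < 2567 → P i := stepQ 2566 Q2566 (allL N2566 (tt N3112 (iv F25558)) (tt N2096 F19233) (tt N2566 F19234) (tt N3157 D6775) (tt N2091 F19235) (tt N2566 F19236) (tt N3115 F38868) (tt N2089 (iv D4946)) (tt N3113 (iv F38905)))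
theorem Q2568 : ∀ i, i < 2568 → P i := stepQ 2567 Q2567 (allL N2567 (tt N3113 (iv F25563)) (tt N2097 F19237) (tt N2567 F19238) (tt N3158 D6777) (tt N3115 F38867) (tt N2567 F19239) (tt N2091 F19240) (tt N2090 (iv D4947)) (tt N3112 (iv F38907)))
theorem Q2569 : ∀ i, i < 2569 → P i := stepQ 2568 Q2568 (allL N2568 (tt N3114 (iv F25568)) (tt N2098 F19241) (tt N3159 D6779) (tt N2091 (iv D4948)) (tt N3160 D6780) (tt N2092 F19242) (tt N3158 (iv F25986)) (tt N2979 (iv F24183)) (tt N3161 D6781))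
theorem Q2570 : ∀ i, i < 2570 → P i := stepQ 2569 Q2569 (allL N2569 (tt N3115 (iv F25571)) (tt N2099 F19243) (tt N2569 F19244) (tt N3161 (iv F25996)) (tt N3113 (iv F38904)) (tt N2093 F19245) (tt N3112 (iv F38906)) (tt N3111 F38865) (tt N2091 (iv D4949)))
theorem Q2571 : ∀ i, i < 2571 → P i := stepQ 2570 Q2570 (allL N2570 (tt N3116 (iv F25575)) (tt N2138 F19246) (tt N2092 (iv D4950)) (tt N2570 F19247) (tt N3162 D6782) (tt N3159 (iv F25993)) (tt N2570 F19248) (tt N2981 (iv F24188)) (tt N3163 D6783))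
theorem Q2572 : ∀ i, i < 2572 → P i := stepQ 2571 Q2571 (allL N2571 (tt N3117 (iv F25579)) (tt N2100 F19249) (tt N3162 (iv F25999)) (tt N2571 F19250) (tt N2092 (iv D4951)) (tt N3164 D6784) (tt N2571 F19251) (tt N2982 (iv F24191)) (tt N3165 D6785))
theorem Q2573 : ∀ i, i < 2573 → P i := stepQ 2572 Q2572 (allL N2572 (tt N3118 (iv F25583)) (tt N2101 F19252) (tt N3163 (iv F26002)) (tt N2093 F19253) (tt N3165 (iv F26009)) (tt N3161 (iv F25997)) (tt N2572 F19254) (tt N3166 D6786) (tt N2092 (iv D4952)))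
theorem Q2574 : ∀ i, i < 2574 → P i := stepQ 2573 Q2573 (allL N2573 (tt N2102 F19255) (tt N3155 (iv F25966)) (tt N2129 F19256) (tt N2095 F19257) (tt N2984 (iv F24198)) (tt N3106 F38657) (tt N2094 (iv D4953)) (tt N3167 D6788) (tt N3104 F38658))
theorem Q2575 : ∀ i, i < 2575 → P i := stepQ 2574 Q2574 (allL N2574 (tt N2103 F19258) (tt N3156 (iv F25968)) (tt N2130 F19259) (tt N3168 D6789) (tt N2985 (iv F24201)) (tt N2574 F19260) (tt N3167 (iv F26019)) (tt N2094 (iv D4954)) (tt N3169 D6790))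
theorem Q2576 : ∀ i, i < 2576 → P i := stepQ 2575 Q2575 (allL N2575 (tt N2104 F19269) (tt N3157 (iv F25978)) (tt N2575 F19270) (tt N2096 (iv D4957)) (tt N3170 D6794) (tt N2575 F19271) (tt N3124 F38875) (tt N3168 (iv F26023)) (tt N3122 (iv F38914)))
theorem Q2577 : ∀ i, i < 2577 → P i := stepQ 2576 Q2576 (allL N2576 (tt N2105 F19276) (tt N3158 (iv F25984)) (tt N2141 F19277) (tt N2097 (iv D4959)) (tt N3171 D6796) (tt N2576 F19278) (tt N2098 F19279) (tt N2990 (iv F24217)) (tt N3121 (iv F38913)))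
theorem Q2578 : ∀ i, i < 2578 → P i := stepQ 2577 Q2577 (allL N2577 (tt N2106 F19284) (tt N3160 (iv F25994)) (tt N2143 F19285) (tt N3170 (iv F26041)) (tt N2098 (iv D4961)) (tt N3172 D6798) (tt N3171 (iv F26048)) (tt N2992 (iv F24224)) (tt N3173 D6799))
theorem Q2579 : ∀ i, i < 2579 → P i := stepQ 2578 Q2578 (allL N2578 (tt N2107 F19286) (tt N3161 (iv F25995)) (tt N2144 F19287) (tt N2099 F19288) (tt N3173 (iv F26059)) (tt N2101 F19289) (tt N3121 (iv F38912)) (tt N3174 D6800) (tt N2098 (iv D4962)))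
theorem Q2580 : ∀ i, i < 2580 → P i := stepQ 2579 Q2579 (allL N2579 (tt N2108 F19290) (tt N3164 (iv F26005)) (tt N2145 F19291) (tt N2579 F19292) (tt N3172 (iv F26056)) (tt N2100 (iv D4963)) (tt N3175 D6801) (tt N2994 (iv F24231)) (tt N3176 D6802))
theorem Q2581 : ∀ i, i < 2581 → P i := stepQ 2580 Q2580 (allL N2580 (tt N2109 F19293) (tt N3165 (iv F26007)) (tt N2146 F19294) (tt N2580 F19295) (tt N2101 F19296) (tt N3176 (iv F26070)) (tt N2580 F19297) (tt N3177 D6803) (tt N2100 (iv D4964)))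
theorem Q2582 : ∀ i, i < 2582 → P i := stepQ 2581 Q2581 (allL N2581 (tt N2110 F19298) (tt N3166 (iv F26011)) (tt N2147 F19299) (tt N3148 (iv F25834)) (tt N3177 (iv F26073)) (tt N3174 (iv F26062)) (tt N2581 F19300) (tt N2101 (iv D4965)) (tt N2996 (iv F24239)))
theorem Q2583 : ∀ i, i < 2583 → P i := stepQ 2582 Q2582 (allL N2582 (tt N3167 (iv F26017)) (tt N3128 (iv F25659)) (tt N2133 F19315) (tt N3135 (iv F38739)) (tt N3001 (iv F24259)) (tt N3109 F38686) (tt N2103 F19316) (tt N2102 (iv D4969)) (tt N3178 D6808))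
theorem Q2584 : ∀ i, i < 2584 → P i := stepQ 2583 Q2583 (allL N2583 (tt N3168 (iv F26020)) (tt N3129 (iv F25662)) (tt N2583 F19317) (tt N2103 (iv D4970)) (tt N3179 D6809) (tt N2583 F19318) (tt N3135 F38811) (tt N2104 F19319) (tt N3180 D6810))
theorem Q2585 : ∀ i, i < 2585 → P i := stepQ 2584 Q2584 (allL N2584 (tt N3169 (iv F26024)) (tt N3130 (iv F25665)) (tt N2134 F19320) (tt N3180 (iv F26095)) (tt N3003 (iv F24263)) (tt N2584 F19321) (tt N3178 (iv F26091)) (tt N3149 (iv F25871)) (tt N2103 (iv D4971)))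
theorem Q2586 : ∀ i, i < 2586 → P i := stepQ 2585 Q2585 (allL N2585 (tt N3170 (iv F26039)) (tt N3131 (iv F25682)) (tt N2585 F19331) (tt N2106 F19332) (tt N2104 (iv D4975)) (tt N3181 D6815) (tt N3134 F38900) (tt N3179 (iv F26093)) (tt N3132 (iv F38921)))
theorem Q2587 : ∀ i, i < 2587 → P i := stepQ 2586 Q2586 (allL N2586 (tt N3171 (iv F26046)) (tt N3132 (iv F25687)) (tt N2148 F19336) (tt N3134 F38899) (tt N2105 (iv D4977)) (tt N3182 D6818) (tt N2106 F19337) (tt N3009 (iv F24276)) (tt N3131 (iv F38924)))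
theorem Q2588 : ∀ i, i < 2588 → P i := stepQ 2587 Q2587 (allL N2587 (tt N3172 (iv F26054)) (tt N3133 (iv F25695)) (tt N2150 F19342) (tt N3181 (iv F26111)) (tt N2108 F19343) (tt N2106 (iv D4979)) (tt N3183 D6821) (tt N3011 (iv F24283)) (tt N3184 D6822))
theorem Q2589 : ∀ i, i < 2589 → P i := stepQ 2588 Q2588 (allL N2588 (tt N3173 (iv F26057)) (tt N3134 (iv F25698)) (tt N2151 F19344) (tt N3132 (iv F38920)) (tt N2107 F19345) (tt N3184 (iv F26130)) (tt N3131 (iv F38923)) (tt N3185 D6823) (tt N2106 (iv D4980)))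
theorem Q2590 : ∀ i, i < 2590 → P i := stepQ 2589 Q2589 (allL N2589 (tt N3174 (iv F26060)) (tt N3135 (iv F25701)) (tt N2152 F19346) (tt N3128 F38795) (tt N3185 (iv F26132)) (tt N2110 F19347) (tt N3129 (iv F38856)) (tt N2107 (iv D4981)) (tt N3013 (iv F24288)))
theorem Q2591 : ∀ i, i < 2591 → P i := stepQ 2590 Q2590 (allL N2590 (tt N3175 (iv F26063)) (tt N3136 (iv F25704)) (tt N2153 F19348) (tt N2590 F19349) (tt N3183 (iv F26127)) (tt N2590 F19350) (tt N2108 (iv D4982)) (tt N3014 (iv F24291)) (tt N3186 D6824))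
theorem Q2592 : ∀ i, i < 2592 → P i := stepQ 2591 Q2591 (allL N2591 (tt N3176 (iv F26067)) (tt N3137 (iv F25708)) (tt N2154 F19351) (tt N2591 F19352) (tt N3184 (iv F26129)) (tt N2109 F19353) (tt N3186 (iv F26136)) (tt N3187 D6825) (tt N2108 (iv D4983)))
theorem Q2593 : ∀ i, i < 2593 → P i := stepQ 2592 Q2592 (allL N2592 (tt N3177 (iv F26071)) (tt N3138 (iv F25712)) (tt N2155 F19354) (tt N3188 D6826) (tt N2110 F19355) (tt N3187 (iv F26138)) (tt N2592 F19356) (tt N2109 (iv D4984)) (tt N3016 (iv F24297)))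
theorem Q2594 : ∀ i, i < 2594 → P i := stepQ 2593 Q2593 (allL N2593 (tt N2593 F19362) (tt N2115 F19363) (tt N3189 D6827) (tt N2111 (iv D4986)) (tt N3021 (iv F24344)) (tt N2593 F19364) (tt N3190 D6828) (tt N3191 D6829) (tt N2127 F19365))
theorem Q2595 : ∀ i, i < 2595 → P i := stepQ 2594 Q2594 (allL N2594 (tt N2594 F19366) (tt N2116 F19367) (tt N2594 F19368) (tt N3190 (iv F26147)) (tt N2112 F19369) (tt N3095 F38649) (tt N2111 (iv D4987)) (tt N3094 (iv F38704)) (tt N2128 F19370))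
theorem Q2596 : ∀ i, i < 2596 → P i := stepQ 2595 Q2595 (allL N2595 (tt N2595 F19371) (tt N2117 F19372) (tt N2595 F19373) (tt N3192 D6832) (tt N2113 F19374) (tt N2595 F19375) (tt N3094 F38750) (tt N2111 (iv D4988)) (tt N2595 F19376))
theorem Q2597 : ∀ i, i < 2597 → P i := stepQ 2596 Q2596 (allL N2596 (tt N2596 F19377) (tt N2118 F19378) (tt N2596 F19379) (tt N3193 D6833) (tt N3094 F38749) (tt N2177 F19380) (tt N2113 F19381) (tt N2112 (iv D4989)) (tt N2596 F19382))
theorem Q2598 : ∀ i, i < 2598 → P i := stepQ 2597 Q2597 (allL N2597 (tt N2597 F19383) (tt N2119 F19384) (tt N3194 D6834) (tt N2113 (iv D4990)) (tt N3195 D6835) (tt N2114 F19385) (tt N3193 (iv F26171)) (tt N3024 (iv F24365)) (tt N2597 F19386))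
theorem Q2599 : ∀ i, i < 2599 → P i := stepQ 2598 Q2598 (allL N2598 (tt N2598 F19387) (tt N2598 F19388) (tt N2114 (iv D4991)) (tt N2598 F19389) (tt N3196 D6836) (tt N3194 (iv F26176)) (tt N2179 F19390) (tt N3025 (iv F24375)) (tt N2598 F19391))
theorem Q2600 : ∀ i, i < 2600 → P i := stepQ 2599 Q2599 (allL N2599 (tt N2599 F19392) (tt N2120 F19393) (tt N3196 (iv F26183)) (tt N2599 F19394) (tt N2114 (iv D4992)) (tt N3197 D6837) (tt N2180 F19395) (tt N2187 (iv F37697)) (tt N2599 F19396))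
theorem Q2601 : ∀ i, i < 2601 → P i := stepQ 2600 Q2600 (allL N2600 (tt N2121 F19397) (tt N3190 (iv F26146)) (tt N3104 (iv F38631)) (tt N2116 F19398) (tt N3027 (iv F24388)) (tt N3096 F38615) (tt N2115 (iv D4993)) (tt N3198 D6839) (tt N2129 F19399))
theorem Q2602 : ∀ i, i < 2602 → P i := stepQ 2601 Q2601 (allL N2601 (tt N2122 F19400) (tt N3191 (iv F26150)) (tt N3144 (iv F25791)) (tt N3199 D6840) (tt N3028 (iv F24391)) (tt N2601 F19401) (tt N3198 (iv F26195)) (tt N2115 (iv D4994)) (tt N3200 D6841))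
theorem Q2603 : ∀ i, i < 2603 → P i := stepQ 2602 Q2602 (allL N2602 (tt N2123 F19412) (tt N3192 (iv F26165)) (tt N2859 (iv F38841)) (tt N2117 (iv D4997)) (tt N3201 D6845) (tt N2602 F19413) (tt N2856 F38767) (tt N3199 (iv F26198)) (tt N2602 F19414))
theorem Q2604 : ∀ i, i < 2604 → P i := stepQ 2603 Q2603 (allL N2603 (tt N2124 F19415) (tt N3193 (iv F26169)) (tt N2603 F19416) (tt N2118 (iv D4998)) (tt N3202 D6846) (tt N2184 F19417) (tt N2119 F19418) (tt N2839 F38037) (tt N2603 F19419))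
theorem Q2605 : ∀ i, i < 2605 → P i := stepQ 2604 Q2604 (allL N2604 (tt N2125 F19420) (tt N3195 (iv F26179)) (tt N2604 F19421) (tt N3201 (iv F26216)) (tt N2119 (iv D4999)) (tt N3203 D6847) (tt N3202 (iv F26220)) (tt N3030 (iv F24421)) (tt N2604 F19422))
theorem Q2606 : ∀ i, i < 2606 → P i := stepQ 2605 Q2605 (allL N2605 (tt N2126 F19423) (tt N3197 (iv F26187)) (tt N2605 F19424) (tt N2605 F19425) (tt N3203 (iv F26224)) (tt N2120 (iv D5000)) (tt N2605 F37587) (tt N2189 (iv F37834)) (tt N2605 F19426))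
theorem Q2607 : ∀ i, i < 2607 → P i := stepQ 2606 Q2606 (allL N2606 (tt N3198 (iv F26194)) (tt N2606 F19446) (tt N2890 (iv F38638)) (tt N2863 (iv F38647)) (tt N3031 (iv F24464)) (tt N2864 F38628) (tt N2122 F19447) (tt N2121 (iv D5005)) (tt N3204 D6855))
theorem Q2608 : ∀ i, i < 2608 → P i := stepQ 2607 Q2607 (allL N2607 (tt N3199 (iv F26196)) (tt N2607 F19448) (tt N2868 (iv F38746)) (tt N2122 (iv D5006)) (tt N3205 D6857) (tt N2607 F19449) (tt N2863 F38700) (tt N2123 F19450) (tt N3206 D6858))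
theorem Q2609 : ∀ i, i < 2609 → P i := stepQ 2608 Q2608 (allL N2608 (tt N3200 (iv F26199)) (tt N2608 F19451) (tt N3149 (iv F25869)) (tt N3206 (iv F26262)) (tt N3033 (iv F24470)) (tt N2608 F19452) (tt N3204 (iv F26255)) (tt N2134 F19453) (tt N2122 (iv D5007)))
theorem Q2610 : ∀ i, i < 2610 → P i := stepQ 2609 Q2609 (allL N2609 (tt N3201 (iv F26215)) (tt N2609 F19466) (tt N2866 (iv F38864)) (tt N2125 F19467) (tt N2123 (iv D5011)) (tt N3207 D6864) (tt N2862 F38821) (tt N3205 (iv F26260)) (tt N2609 F19468))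
theorem Q2611 : ∀ i, i < 2611 → P i := stepQ 2610 Q2610 (allL N2610 (tt N3202 (iv F26218)) (tt N2610 F19469) (tt N2610 F19470) (tt N2862 F38819) (tt N2124 (iv D5012)) (tt N2610 F37577) (tt N2125 F19471) (tt N2850 F38189) (tt N2610 F19472))
theorem Q2612 : ∀ i, i < 2612 → P i := stepQ 2611 Q2611 (allL N2611 (tt N3203 (iv F26222)) (tt N2611 F19473) (tt N2611 F19474) (tt N3207 (iv F26284)) (tt N2126 F19475) (tt N2125 (iv D5013)) (tt N2611 F37682) (tt N2190 (iv F37981)) (tt N2611 F19476))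
theorem Q2613 : ∀ i, i < 2613 → P i := stepQ 2612 Q2612 (allL N2612 (tt N2612 F19512) (tt N3154 (iv F25963)) (tt N2127 (iv D5022)) (tt N2612 F19513) (tt N3035 (iv F24581)) (tt N2612 F19514) (tt N3208 D6874) (tt N3209 D6875) (tt N3189 (iv F26144)))
theorem Q2614 : ∀ i, i < 2614 → P i := stepQ 2613 Q2613 (allL N2613 (tt N2613 F19515) (tt N2129 F19516) (tt N3208 (iv F26326)) (tt N2128 F19517) (tt N3036 (iv F24585)) (tt N3210 D6876) (tt N2127 (iv D5023)) (tt N3211 D6877) (tt N3190 (iv F26148)))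
theorem Q2615 : ∀ i, i < 2615 → P i := stepQ 2614 Q2614 (allL N2614 (tt N2614 F19518) (tt N2130 F19519) (tt N3209 (iv F26329)) (tt N2614 F19520) (tt N3037 (iv F24588)) (tt N2614 F19521) (tt N3211 (iv F26338)) (tt N2127 (iv D5024)) (tt N3212 D6878))
theorem Q2616 : ∀ i, i < 2616 → P i := stepQ 2615 Q2615 (allL N2615 (tt N2615 F19522) (tt N2131 F19523) (tt N2615 F19524) (tt N3210 (iv F26333)) (tt N2188 F19525) (tt N2128 (iv D5025)) (tt N2615 F19526) (tt N2615 F19527) (tt N3095 F38650))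
theorem Q2617 : ∀ i, i < 2617 → P i := stepQ 2616 Q2616 (allL N2616 (tt N2132 F19528) (tt N3210 (iv F26332)) (tt N3106 (iv F38632)) (tt N2131 F19529) (tt N3213 D6879) (tt N2129 (iv D5026)) (tt N2616 F19530) (tt N3214 D6880) (tt N3096 F38617))
theorem Q2618 : ∀ i, i < 2618 → P i := stepQ 2617 Q2617 (allL N2617 (tt N2133 F19531) (tt N3211 (iv F26336)) (tt N3167 (iv F26018)) (tt N2617 F19532) (tt N3039 (iv F24610)) (tt N3214 (iv F26348)) (tt N2130 F19533) (tt N2129 (iv D5027)) (tt N3215 D6881))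
theorem Q2619 : ∀ i, i < 2619 → P i := stepQ 2618 Q2618 (allL N2618 (tt N2134 F19534) (tt N3212 (iv F26340)) (tt N3169 (iv F26025)) (tt N2618 F19535) (tt N3041 (iv F24616)) (tt N2618 F19536) (tt N3215 (iv F26352)) (tt N3200 (iv F26201)) (tt N2130 (iv D5028)))
theorem Q2620 : ∀ i, i < 2620 → P i := stepQ 2619 Q2619 (allL N2619 (tt N3213 (iv F26343)) (tt N2619 F19537) (tt N3108 (iv F38610)) (tt N2190 F19538) (tt N2132 (iv D5029)) (tt N3034 F38067) (tt N2619 F19539) (tt N3216 D6882) (tt N3097 F38609))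
theorem Q2621 : ∀ i, i < 2621 → P i := stepQ 2620 Q2620 (allL N2620 (tt N3214 (iv F26346)) (tt N2620 F19540) (tt N3109 (iv F38641)) (tt N2620 F19541) (tt N3216 (iv F26354)) (tt N2133 F19542) (tt N2620 F19543) (tt N2132 (iv D5030)) (tt N3217 D6883))
theorem Q2622 : ∀ i, i < 2622 → P i := stepQ 2621 Q2621 (allL N2621 (tt N3215 (iv F26350)) (tt N2621 F19544) (tt N3178 (iv F26090)) (tt N2621 F19545) (tt N3044 (iv F24662)) (tt N3217 (iv F26358)) (tt N2134 F19546) (tt N3204 (iv F26256)) (tt N2133 (iv D5031)))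
theorem Q2623 : ∀ i, i < 2623 → P i := stepQ 2622 Q2622 (allL N2622 (tt N2622 F19547) (tt N2141 F19548) (tt N3218 D6884) (tt N2135 (iv D5032)) (tt N3219 D6885) (tt N2622 F19549) (tt N2136 F19550) (tt N3051 (iv F24763)) (tt N3220 D6886))
theorem Q2624 : ∀ i, i < 2624 → P i := stepQ 2623 Q2623 (allL N2623 (tt N2623 F19551) (tt N2142 F19552) (tt N2623 F19553) (tt N3220 (iv F26370)) (tt N2623 F19554) (tt N2623 F19555) (tt N2137 F19556) (tt N2623 F19557) (tt N2135 (iv D5033)))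
theorem Q2625 : ∀ i, i < 2625 → P i := stepQ 2624 Q2624 (allL N2624 (tt N2624 F19558) (tt N3159 (iv F25991)) (tt N2136 (iv D5034)) (tt N2624 F19559) (tt N3221 D6887) (tt N2138 F19560) (tt N3218 (iv F26363)) (tt N3053 (iv F24771)) (tt N3222 D6888))
theorem Q2626 : ∀ i, i < 2626 → P i := stepQ 2625 Q2625 (allL N2625 (tt N2625 F19561) (tt N2143 F19562) (tt N3221 (iv F26374)) (tt N2625 F19563) (tt N2136 (iv D5035)) (tt N3223 D6889) (tt N3219 (iv F26367)) (tt N3054 (iv F24774)) (tt N3224 D6890))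
theorem Q2627 : ∀ i, i < 2627 → P i := stepQ 2626 Q2626 (allL N2626 (tt N2626 F19564) (tt N2144 F19565) (tt N3222 (iv F26376)) (tt N2137 F19566) (tt N3224 (iv F26386)) (tt N2140 F19567) (tt N3220 (iv F26372)) (tt N3225 D6891) (tt N2136 (iv D5036)))
theorem Q2628 : ∀ i, i < 2628 → P i := stepQ 2627 Q2627 (allL N2627 (tt N2627 F19568) (tt N3162 (iv F25998)) (tt N2139 F19569) (tt N3226 D6892) (tt N2138 (iv D5037)) (tt N3227 D6893) (tt N2627 F19570) (tt N3056 (iv F24782)) (tt N3228 D6894))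
theorem Q2629 : ∀ i, i < 2629 → P i := stepQ 2628 Q2628 (allL N2628 (tt N2628 F19571) (tt N3163 (iv F26001)) (tt N2140 F19572) (tt N2628 F19573) (tt N3228 (iv F26399)) (tt N3222 (iv F26378)) (tt N2628 F19574) (tt N3229 D6895) (tt N2138 (iv D5038)))
theorem Q2630 : ∀ i, i < 2630 → P i := stepQ 2629 Q2629 (allL N2629 (tt N2629 F19575) (tt N2145 F19576) (tt N3227 (iv F26396)) (tt N2158 F19577) (tt N3223 (iv F26382)) (tt N2139 (iv D5039)) (tt N3230 D6896) (tt N3058 (iv F24789)) (tt N3231 D6897))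
theorem Q2631 : ∀ i, i < 2631 → P i := stepQ 2630 Q2630 (allL N2630 (tt N2630 F19578) (tt N2146 F19579) (tt N3228 (iv F26398)) (tt N2159 F19580) (tt N2140 F19581) (tt N3231 (iv F26411)) (tt N2630 F19582) (tt N3232 D6898) (tt N2139 (iv D5040)))
theorem Q2632 : ∀ i, i < 2632 → P i := stepQ 2631 Q2631 (allL N2631 (tt N2631 F19583) (tt N2147 F19584) (tt N3229 (iv F26402)) (tt N2631 F19585) (tt N3232 (iv F26414)) (tt N3225 (iv F26390)) (tt N2631 F19586) (tt N2140 (iv D5041)) (tt N3060 (iv F24799)))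
theorem Q2633 : ∀ i, i < 2633 → P i := stepQ 2632 Q2632 (allL N2632 (tt N2148 F19587) (tt N3219 (iv F26365)) (tt N3171 (iv F26047)) (tt N2632 F19588) (tt N2141 (iv D5042)) (tt N3233 D6899) (tt N2143 F19589) (tt N3064 (iv F24825)) (tt N3234 D6900))
theorem Q2634 : ∀ i, i < 2634 → P i := stepQ 2633 Q2633 (allL N2633 (tt N2149 F19590) (tt N3220 (iv F26369)) (tt N3121 F38930) (tt N2142 F19591) (tt N3234 (iv F26421)) (tt N2633 F19592) (tt N2144 F19593) (tt N3235 D6901) (tt N2141 (iv D5043)))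
theorem Q2635 : ∀ i, i < 2635 → P i := stepQ 2634 Q2634 (allL N2634 (tt N2150 F19594) (tt N3223 (iv F26380)) (tt N3172 (iv F26055)) (tt N2634 F19595) (tt N2145 F19596) (tt N2143 (iv D5044)) (tt N3236 D6902) (tt N3066 (iv F24832)) (tt N3237 D6903))
theorem Q2636 : ∀ i, i < 2636 → P i := stepQ 2635 Q2635 (allL N2635 (tt N2151 F19597) (tt N3224 (iv F26384)) (tt N3173 (iv F26058)) (tt N2635 F19598) (tt N2144 F19599) (tt N3237 (iv F26433)) (tt N3234 (iv F26422)) (tt N3238 D6904) (tt N2143 (iv D5045)))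
theorem Q2637 : ∀ i, i < 2637 → P i := stepQ 2636 Q2636 (allL N2636 (tt N2152 F19600) (tt N3225 (iv F26388)) (tt N3174 (iv F26061)) (tt N2636 F19601) (tt N3238 (iv F26435)) (tt N2147 F19602) (tt N3235 (iv F26426)) (tt N2144 (iv D5046)) (tt N3068 (iv F24838)))
theorem Q2638 : ∀ i, i < 2638 → P i := stepQ 2637 Q2637 (allL N2637 (tt N2153 F19603) (tt N3230 (iv F26405)) (tt N3175 (iv F26064)) (tt N2161 F19604) (tt N3236 (iv F26429)) (tt N2637 F19605) (tt N2145 (iv D5047)) (tt N3069 (iv F24842)) (tt N3239 D6905))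
theorem Q2639 : ∀ i, i < 2639 → P i := stepQ 2638 Q2638 (allL N2638 (tt N2154 F19606) (tt N3231 (iv F26409)) (tt N3176 (iv F26068)) (tt N2162 F19607) (tt N3237 (iv F26432)) (tt N2146 F19608) (tt N3239 (iv F26439)) (tt N3240 D6906) (tt N2145 (iv D5048)))
theorem Q2640 : ∀ i, i < 2640 → P i := stepQ 2639 Q2639 (allL N2639 (tt N2155 F19609) (tt N3232 (iv F26413)) (tt N3177 (iv F26072)) (tt N3241 D6907) (tt N2147 F19610) (tt N3240 (iv F26441)) (tt N2639 F19611) (tt N2146 (iv D5049)) (tt N3071 (iv F24849)))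
theorem Q2641 : ∀ i, i < 2641 → P i := stepQ 2640 Q2640 (allL N2640 (tt N3233 (iv F26416)) (tt N2640 F19612) (tt N3182 (iv F26118)) (tt N2640 F19613) (tt N2640 F19614) (tt N2148 (iv D5050)) (tt N3242 D6908) (tt N3080 (iv F24916)) (tt N3243 D6909))
theorem Q2642 : ∀ i, i < 2642 → P i := stepQ 2641 Q2641 (allL N2641 (tt N3234 (iv F26419)) (tt N2641 F19615) (tt N3131 F38940) (tt N2641 F19616) (tt N2149 F19617) (tt N3243 (iv F26453)) (tt N2151 F19618) (tt N3244 D6910) (tt N2148 (iv D5051)))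
theorem Q2643 : ∀ i, i < 2643 → P i := stepQ 2642 Q2642 (allL N2642 (tt N3235 (iv F26423)) (tt N2642 F19619) (tt N3129 F38891) (tt N2642 F19620) (tt N3244 (iv F26455)) (tt N2642 F19621) (tt N2152 F19622) (tt N2149 (iv D5052)) (tt N3082 (iv F24924)))
theorem Q2644 : ∀ i, i < 2644 → P i := stepQ 2643 Q2643 (allL N2643 (tt N3236 (iv F26427)) (tt N2643 F19623) (tt N3183 (iv F26126)) (tt N2643 F19624) (tt N2153 F19625) (tt N3242 (iv F26449)) (tt N2150 (iv D5053)) (tt N3083 (iv F24927)) (tt N3245 D6911))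
theorem Q2645 : ∀ i, i < 2645 → P i := stepQ 2644 Q2644 (allL N2644 (tt N3237 (iv F26430)) (tt N2644 F19626) (tt N3184 (iv F26128)) (tt N2644 F19627) (tt N2154 F19628) (tt N2151 F19629) (tt N3245 (iv F26460)) (tt N3246 D6912) (tt N2150 (iv D5054)))
theorem Q2646 : ∀ i, i < 2646 → P i := stepQ 2645 Q2645 (allL N2645 (tt N3238 (iv F26434)) (tt N2645 F19630) (tt N3185 (iv F26131)) (tt N3247 D6913) (tt N2152 F19631) (tt N3246 (iv F26463)) (tt N3244 (iv F26456)) (tt N2151 (iv D5055)) (tt N3085 (iv F24933)))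
theorem Q2647 : ∀ i, i < 2647 → P i := stepQ 2646 Q2646 (allL N2646 (tt N3239 (iv F26436)) (tt N2646 F19632) (tt N3186 (iv F26133)) (tt N2164 F19633) (tt N3245 (iv F26459)) (tt N2646 F19634) (tt N2154 F19635) (tt N3248 D6914) (tt N2153 (iv D5056)))
theorem Q2648 : ∀ i, i < 2648 → P i := stepQ 2647 Q2647 (allL N2647 (tt N3240 (iv F26440)) (tt N2647 F19636) (tt N3187 (iv F26137)) (tt N3249 D6915) (tt N3246 (iv F26462)) (tt N2155 F19637) (tt N3248 (iv F26469)) (tt N2154 (iv D5057)) (tt N3087 (iv F24940)))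
theorem Q2649 : ∀ i, i < 2649 → P i := stepQ 2648 Q2648 (allL N2648 (tt N3241 (iv F26442)) (tt N2648 F19638) (tt N3250 D6916) (tt N2155 (iv D5058)) (tt N2648 F19639) (tt N3249 (iv F26471)) (tt N2648 F19640) (tt N2166 F19641) (tt N3088 (iv F24945)))
theorem Q2650 : ∀ i, i < 2650 → P i := stepQ 2649 Q2649 (allL N2649 (tt N2649 F19642) (tt N2649 F19643) (tt N3226 (iv F26392)) (tt N2156 (iv D5059)) (tt N2649 F19644) (tt N3251 D6917) (tt N2649 F19645) (tt N3252 D6918) (tt N3253 D6919))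
theorem Q2651 : ∀ i, i < 2651 → P i := stepQ 2650 Q2650 (allL N2650 (tt N2650 F19646) (tt N2650 F19647) (tt N2158 F19648) (tt N3251 (iv F26478)) (tt N2650 F19649) (tt N2156 (iv D5060)) (tt N3254 D6920) (tt N2650 F19650) (tt N3255 D6921))
theorem Q2652 : ∀ i, i < 2652 → P i := stepQ 2651 Q2651 (allL N2651 (tt N2651 F19651) (tt N2651 F19652) (tt N2159 F19653) (tt N3253 (iv F26486)) (tt N2157 F19654) (tt N3255 (iv F26499)) (tt N2651 F19655) (tt N3256 D6922) (tt N2156 (iv D5061)))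
theorem Q2653 : ∀ i, i < 2653 → P i := stepQ 2652 Q2652 (allL N2652 (tt N2652 F19656) (tt N2652 F19657) (tt N2160 F19658) (tt N3257 D6923) (tt N3256 (iv F26503)) (tt N2652 F19659) (tt N2652 F19660) (tt N2157 (iv D5062)) (tt N2652 F19661))
theorem Q2654 : ∀ i, i < 2654 → P i := stepQ 2653 Q2653 (allL N2653 (tt N2653 F19662) (tt N2161 F19663) (tt N3254 (iv F26491)) (tt N3230 (iv F26406)) (tt N2653 F19664) (tt N2653 F19665) (tt N2158 (iv D5063)) (tt N2653 F19666) (tt N3258 D6924))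
theorem Q2655 : ∀ i, i < 2655 → P i := stepQ 2654 Q2654 (allL N2654 (tt N2654 F19667) (tt N2162 F19668) (tt N3255 (iv F26497)) (tt N3231 (iv F26410)) (tt N2654 F19669) (tt N2159 F19670) (tt N3258 (iv F26517)) (tt N3259 D6925) (tt N2158 (iv D5064)))
theorem Q2656 : ∀ i, i < 2656 → P i := stepQ 2655 Q2655 (allL N2655 (tt N2655 F19671) (tt N2163 F19672) (tt N3256 (iv F26502)) (tt N3260 D6926) (tt N2160 F19673) (tt N3259 (iv F26521)) (tt N2655 F19674) (tt N2159 (iv D5065)) (tt N2655 F19675))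
theorem Q2657 : ∀ i, i < 2657 → P i := stepQ 2656 Q2656 (allL N2656 (tt N2164 F19676) (tt N3258 (iv F26514)) (tt N2656 F19677) (tt N3239 (iv F26437)) (tt N2656 F19678) (tt N2656 F19679) (tt N2162 F19680) (tt N3261 D6927) (tt N2161 (iv D5066)))
theorem Q2658 : ∀ i, i < 2658 → P i := stepQ 2657 Q2657 (allL N2657 (tt N2165 F19681) (tt N3259 (iv F26519)) (tt N2657 F19682) (tt N3262 D6928) (tt N2657 F19683) (tt N2163 F19684) (tt N3261 (iv F26532)) (tt N2162 (iv D5067)) (tt N2657 F19685))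
theorem Q2659 : ∀ i, i < 2659 → P i := stepQ 2658 Q2658 (allL N2658 (tt N2166 F19686) (tt N3260 (iv F26524)) (tt N3263 D6929) (tt N2163 (iv D5068)) (tt N2658 F19687) (tt N3262 (iv F26535)) (tt N2658 F19688) (tt N3241 (iv F26445)) (tt N2658 F19689))
theorem Q2660 : ∀ i, i < 2660 → P i := stepQ 2659 Q2659 (allL N2659 (tt N3261 (iv F26528)) (tt N2659 F19690) (tt N2659 F19691) (tt N2740 F38957) (tt N2659 F19692) (tt N2659 F19693) (tt N2165 F19694) (tt N2164 (iv D5069)) (tt N2659 F19695))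
theorem Q2661 : ∀ i, i < 2661 → P i := stepQ 2660 Q2660 (allL N2660 (tt N3262 (iv F26534)) (tt N2660 F19696) (tt N2745 F38947) (tt N2165 (iv D5070)) (tt N2741 (iv F38950)) (tt N2166 F19697) (tt N2740 (iv F38951)) (tt N3249 (iv F26472)) (tt N2660 F19698))
theorem Q2662 : ∀ i, i < 2662 → P i := stepQ 2661 Q2661 (allL N2661 (tt N3263 (iv F26537)) (tt N2749 (iv F38949)) (tt N2166 (iv D5071)) (tt N2661 F19699) (tt N2661 F19700) (tt N2745 F38948) (tt N2661 F19701) (tt N3250 (iv F26475)) (tt N2661 F19702))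
theorem Q2663 : ∀ i, i < 2663 → P i := stepQ 2662 Q2662 (allL N2662 (tt N2662 F20414) (tt N2170 F20415) (tt N3264 D7204) (tt N2167 (iv D5267)) (tt N2662 F20416) (tt N2173 (iv F37589)) (tt N2831 (iv F37782)) (tt N2178 F37539) (tt N2169 F37704))
theorem Q2664 : ∀ i, i < 2664 → P i := stepQ 2663 Q2663 (allL N2663 (tt N2663 F20430) (tt N2171 F20431) (tt N3265 D7213) (tt N2168 (iv D5271)) (tt N2174 (iv F37649)) (tt N2169 F20432) (tt N3026 (iv F37698)) (tt N2663 F20433) (tt N2173 (iv F37700)))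
theorem Q2665 : ∀ i, i < 2665 → P i := stepQ 2664 Q2664 (allL N2664 (tt N2664 F20438) (tt N2664 F20439) (tt N2169 (iv D5273)) (tt N2665 (iv F20654)) (tt N2664 F20440) (tt N3265 (iv F27577)) (tt N2830 (iv F23473)) (tt N2664 F20441) (tt N3264 (iv F37648)))
theorem Q2666 : ∀ i, i < 2666 → P i := stepQ 2665 Q2665 (allL N2665 (tt N2665 F20652) (tt N2665 F20653) (tt N2173 (iv D5327)) (tt N2664 F20654) (tt N2186 (iv F37593)) (tt N3264 F37540) (tt N3025 (iv F24374)) (tt N2179 F20655) (tt N3265 (iv F37596)))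
theorem Q2667 : ∀ i, i < 2667 → P i := stepQ 2666 Q2666 (allL N2666 (tt N2666 F21230) (tt N2666 F21231) (tt N2174 (iv D5486)) (tt N2666 F21232) (tt N3265 (iv F37542)) (tt N2666 F21233) (tt N3266 D7499) (tt N2666 F37301) (tt N2186 F21234))
theorem Q2668 : ∀ i, i < 2668 → P i := stepQ 2667 Q2667 (allL N2667 (tt N2667 F21235) (tt N2181 F21236) (tt N3266 (iv F28647)) (tt N2175 F21237) (tt N3026 F37709) (tt N3267 D7501) (tt N2174 (iv D5487)) (tt N2667 F37302) (tt N2187 F21238))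
theorem Q2669 : ∀ i, i < 2669 → P i := stepQ 2668 Q2668 (allL N2668 (tt N2668 F21242) (tt N2182 F21243) (tt N2668 F21244) (tt N3267 (iv F28656)) (tt N3095 F38648) (tt N2175 (iv D5489)) (tt N2668 F21245) (tt N3093 (iv F38703)) (tt N2188 F21246))
theorem Q2670 : ∀ i, i < 2670 → P i := stepQ 2669 Q2669 (allL N2669 (tt N2669 F21247) (tt N2183 F21248) (tt N2669 F21249) (tt N2669 F37340) (tt N2177 F21250) (tt N3093 F38747) (tt N2176 F21251) (tt N2175 (iv D5490)) (tt N2669 F21252))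
theorem Q2671 : ∀ i, i < 2671 → P i := stepQ 2670 Q2670 (allL N2670 (tt N2670 F21257) (tt N2184 F21258) (tt N3268 D7509) (tt N2177 (iv D5492)) (tt N2670 F37407) (tt N3193 (iv F26170)) (tt N2178 F21259) (tt N2831 F37869) (tt N2670 F21260))
theorem Q2672 : ∀ i, i < 2672 → P i := stepQ 2671 Q2671 (allL N2671 (tt N2671 F21261) (tt N2671 F21262) (tt N2178 (iv D5493)) (tt N2671 F21263) (tt N2671 F37406) (tt N2179 F21264) (tt N3268 (iv F28691)) (tt N3264 (iv F37493)) (tt N2671 F21265))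
theorem Q2673 : ∀ i, i < 2673 → P i := stepQ 2672 Q2672 (allL N2672 (tt N2672 F21269) (tt N2672 F21270) (tt N2180 F21271) (tt N3269 D7513) (tt N2179 (iv D5495)) (tt N2672 F37492) (tt N3196 (iv F26184)) (tt N2186 (iv F37594)) (tt N2672 F21272))
theorem Q2674 : ∀ i, i < 2674 → P i := stepQ 2673 Q2673 (allL N2673 (tt N2185 F21277) (tt N3267 (iv F28655)) (tt N2673 F21278) (tt N2182 F21279) (tt N3270 D7516) (tt N2181 (iv D5497)) (tt N2673 F21280) (tt N2673 F37333) (tt N2189 F21281))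
theorem Q2675 : ∀ i, i < 2675 → P i := stepQ 2674 Q2674 (allL N2674 (tt N3270 (iv F28719)) (tt N2674 F21335) (tt N2674 F21336) (tt N3097 F38608) (tt N2185 (iv D5511)) (tt N2849 F38041) (tt N2674 F21337) (tt N2674 F37379) (tt N2190 F21338))
theorem Q2676 : ∀ i, i < 2676 → P i := stepQ 2675 Q2675 (allL N2675 (tt N2675 F21424) (tt N2675 F21425) (tt N2187 F21426) (tt N2675 F21427) (tt N3025 F37646) (tt N3271 D7562) (tt N2186 (iv D5533)) (tt N3196 F37647) (tt N3266 (iv F28649)))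
theorem Q2677 : ∀ i, i < 2677 → P i := stepQ 2676 Q2676 (allL N2676 (tt N2676 F21432) (tt N2189 F21433) (tt N3271 (iv F28906)) (tt N2188 F21434) (tt N3272 D7566) (tt N2187 (iv D5535)) (tt N2676 F21435) (tt N3197 F37760) (tt N3267 (iv F28658)))
theorem Q2678 : ∀ i, i < 2678 → P i := stepQ 2677 Q2677 (allL N2677 (tt N2190 F21444) (tt N3272 (iv F28923)) (tt N2677 F21445) (tt N3213 (iv F26344)) (tt N2189 (iv D5538)) (tt N3030 F37919) (tt N2677 F21446) (tt N3203 F37920) (tt N3270 (iv F28722)))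
theorem Q2679 : ∀ i, i < 2679 → P i := stepQ 2678 Q2678 (allL N2678 (tt N2205 F21924) (tt N2192 F21925) (tt N2360 F21926) (tt N2678 F21927) (tt N3273 D7723) (tt N2191 (iv D5653)) (tt N3092 F38486) (tt N3274 D7725) (tt N2754 (iv F23186)))
theorem Q2680 : ∀ i, i < 2680 → P i := stepQ 2679 Q2679 (allL N2679 (tt N2206 F21928) (tt N2193 F21929) (tt N2361 F21930) (tt N3275 D7726) (tt N2876 (iv F23753)) (tt N3274 (iv F29582)) (tt N2679 F21931) (tt N2191 (iv D5654)) (tt N3276 D7727))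
theorem Q2681 : ∀ i, i < 2681 → P i := stepQ 2680 Q2680 (allL N2680 (tt N2197 F21932) (tt N3273 (iv F29572)) (tt N2194 F21933) (tt N3277 D7728) (tt N2192 (iv D5655)) (tt N2877 (iv F23757)) (tt N3048 F38459) (tt N3278 D7730) (tt N2756 (iv F23194)))
theorem Q2682 : ∀ i, i < 2682 → P i := stepQ 2681 Q2681 (allL N2681 (tt N2198 F21938) (tt N3274 (iv F29580)) (tt N2195 F21939) (tt N3279 D7732) (tt N3278 (iv F29599)) (tt N2193 F21940) (tt N3089 F38548) (tt N2192 (iv D5657)) (tt N3280 D7733))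
theorem Q2683 : ∀ i, i < 2683 → P i := stepQ 2682 Q2682 (allL N2682 (tt N2199 F21941) (tt N3275 (iv F29584)) (tt N2682 F21942) (tt N2193 (iv D5658)) (tt N3281 D7734) (tt N3279 (iv F29606)) (tt N2682 F21943) (tt N2682 F21944) (tt N3282 D7735))
theorem Q2684 : ∀ i, i < 2684 → P i := stepQ 2683 Q2683 (allL N2683 (tt N2200 F21945) (tt N3276 (iv F29588)) (tt N2196 F21946) (tt N3282 (iv F29617)) (tt N2881 (iv F23772)) (tt N3280 (iv F29610)) (tt N2683 F21947) (tt N2760 (iv F23210)) (tt N2193 (iv D5659)))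
theorem Q2685 : ∀ i, i < 2685 → P i := stepQ 2684 Q2684 (allL N2684 (tt N2201 F21952) (tt N2368 F21953) (tt N3278 (iv F29598)) (tt N3283 D7738) (tt N2195 F21954) (tt N2883 (iv F23783)) (tt N3019 F38540) (tt N2194 (iv D5661)) (tt N3284 D7739))
theorem Q2686 : ∀ i, i < 2686 → P i := stepQ 2685 Q2685 (allL N2685 (tt N2202 F21960) (tt N2370 F21961) (tt N3280 (iv F29609)) (tt N2685 F21962) (tt N3284 (iv F29633)) (tt N2196 F21963) (tt N3091 F38575) (tt N2764 (iv F23223)) (tt N2195 (iv D5663)))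
theorem Q2687 : ∀ i, i < 2687 → P i := stepQ 2686 Q2686 (allL N2686 (tt N3277 (iv F29591)) (tt N2213 F21964) (tt N2686 F21965) (tt N2197 (iv D5664)) (tt N2686 F21966) (tt N2886 (iv F23795)) (tt N3047 F38321) (tt N3285 D7742) (tt N2765 (iv F23228)))
theorem Q2688 : ∀ i, i < 2688 → P i := stepQ 2687 Q2687 (allL N2687 (tt N3278 (iv F29597)) (tt N2214 F21970) (tt N2201 F21971) (tt N3286 D7745) (tt N2198 F21972) (tt N2888 (iv F23804)) (tt N3017 F38461) (tt N2197 (iv D5666)) (tt N3287 D7746))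
theorem Q2689 : ∀ i, i < 2689 → P i := stepQ 2688 Q2688 (allL N2688 (tt N3279 (iv F29604)) (tt N2215 F21977) (tt N2688 F21978) (tt N2198 (iv D5668)) (tt N3288 D7749) (tt N2199 F21979) (tt N3074 F38549) (tt N2688 F21980) (tt N3289 D7750))
theorem Q2690 : ∀ i, i < 2690 → P i := stepQ 2689 Q2689 (allL N2689 (tt N3280 (iv F29608)) (tt N2216 F21981) (tt N2202 F21982) (tt N3289 (iv F29671)) (tt N3287 (iv F29656)) (tt N2200 F21983) (tt N3090 F38550) (tt N2770 (iv F23247)) (tt N2198 (iv D5669)))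
theorem Q2691 : ∀ i, i < 2691 → P i := stepQ 2690 Q2690 (allL N2690 (tt N3281 (iv F29611)) (tt N2217 F21984) (tt N2690 F21985) (tt N2892 (iv F23817)) (tt N2199 (iv D5670)) (tt N3290 D7751) (tt N2690 F21986) (tt N2690 F21987) (tt N3291 D7752))
theorem Q2692 : ∀ i, i < 2692 → P i := stepQ 2691 Q2691 (allL N2691 (tt N3282 (iv F29615)) (tt N2218 F21988) (tt N2691 F21989) (tt N2200 F21990) (tt N3291 (iv F29678)) (tt N3289 (iv F29672)) (tt N2691 F21991) (tt N3292 D7753) (tt N2199 (iv D5671)))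
theorem Q2693 : ∀ i, i < 2693 → P i := stepQ 2692 Q2692 (allL N2692 (tt N3283 (iv F29627)) (tt N2203 F21998) (tt N3293 D7757) (tt N2201 (iv D5674)) (tt N2692 F21999) (tt N2895 (iv F23832)) (tt N2940 F38543) (tt N2692 F22000) (tt N3294 D7758))
theorem Q2694 : ∀ i, i < 2694 → P i := stepQ 2693 Q2693 (allL N2693 (tt N3284 (iv F29631)) (tt N2204 F22001) (tt N3287 (iv F29655)) (tt N3294 (iv F29697)) (tt N2202 F22002) (tt N2896 (iv F23836)) (tt N3020 F38544) (tt N2776 (iv F23269)) (tt N2201 (iv D5675)))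
theorem Q2695 : ∀ i, i < 2695 → P i := stepQ 2694 Q2694 (allL N2694 (tt N2388 F22023) (tt N3294 (iv F29696)) (tt N2939 F38546) (tt N2204 F22024) (tt N2694 F22025) (tt N2901 (iv F23861)) (tt N2941 F38547) (tt N3295 D7765) (tt N2203 (iv D5681)))
theorem Q2696 : ∀ i, i < 2696 → P i := stepQ 2695 Q2695 (allL N2695 (tt N3273 (iv F29571)) (tt N2207 F22026) (tt N2414 F22027) (tt N3296 D7766) (tt N2205 (iv D5682)) (tt N2943 (iv F24003)) (tt N3043 F38361) (tt N3297 D7768) (tt N2783 (iv F23291)))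
theorem Q2697 : ∀ i, i < 2697 → P i := stepQ 2696 Q2696 (allL N2696 (tt N3274 (iv F29579)) (tt N2208 F22032) (tt N2416 F22033) (tt N3298 D7770) (tt N3297 (iv F29732)) (tt N2206 F22034) (tt N3072 F38487) (tt N2205 (iv D5684)) (tt N3299 D7771))
theorem Q2698 : ∀ i, i < 2698 → P i := stepQ 2697 Q2697 (allL N2697 (tt N3275 (iv F29583)) (tt N2209 F22035) (tt N3300 D7772) (tt N2206 (iv D5685)) (tt N3301 D7773) (tt N3298 (iv F29738)) (tt N2697 F22036) (tt N2697 F22037) (tt N3302 D7774))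
theorem Q2699 : ∀ i, i < 2699 → P i := stepQ 2698 Q2698 (allL N2698 (tt N3276 (iv F29587)) (tt N2210 F22038) (tt N2418 F22039) (tt N3302 (iv F29751)) (tt N2947 (iv F24018)) (tt N3299 (iv F29742)) (tt N2698 F22040) (tt N2787 (iv F23304)) (tt N2206 (iv D5686)))
theorem Q2700 : ∀ i, i < 2700 → P i := stepQ 2699 Q2699 (allL N2699 (tt N2213 F22041) (tt N3296 (iv F29725)) (tt N2221 F22042) (tt N2207 (iv D5687)) (tt N2699 F22043) (tt N2948 (iv F24024)) (tt N3042 F38233) (tt N3303 D7776) (tt N2788 (iv F23309)))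
theorem Q2701 : ∀ i, i < 2701 → P i := stepQ 2700 Q2700 (allL N2700 (tt N2214 F22047) (tt N3297 (iv F29730)) (tt N2211 F22048) (tt N3304 D7779) (tt N2208 F22049) (tt N2950 (iv F24033)) (tt N2998 F38362) (tt N2207 (iv D5689)) (tt N3305 D7780))
theorem Q2702 : ∀ i, i < 2702 → P i := stepQ 2701 Q2701 (allL N2701 (tt N2215 F22054) (tt N3298 (iv F29737)) (tt N2226 F22055) (tt N2208 (iv D5691)) (tt N3306 D7783) (tt N2209 F22056) (tt N3061 F38488) (tt N2701 F22057) (tt N3307 D7784))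
theorem Q2703 : ∀ i, i < 2703 → P i := stepQ 2702 Q2702 (allL N2702 (tt N2216 F22058) (tt N3299 (iv F29740)) (tt N2212 F22059) (tt N3307 (iv F29785)) (tt N3305 (iv F29770)) (tt N2210 F22060) (tt N3073 F38489) (tt N2793 (iv F23329)) (tt N2208 (iv D5692)))
theorem Q2704 : ∀ i, i < 2704 → P i := stepQ 2703 Q2703 (allL N2703 (tt N2217 F22061) (tt N3301 (iv F29747)) (tt N2228 F22062) (tt N2954 (iv F24048)) (tt N2209 (iv D5693)) (tt N3308 D7785) (tt N2703 F22063) (tt N2703 F22064) (tt N3309 D7786))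
theorem Q2705 : ∀ i, i < 2705 → P i := stepQ 2704 Q2704 (allL N2704 (tt N2218 F22065) (tt N3302 (iv F29750)) (tt N2229 F22066) (tt N2210 F22067) (tt N3309 (iv F29792)) (tt N3307 (iv F29786)) (tt N2704 F22068) (tt N3310 D7787) (tt N2209 (iv D5694)))
theorem Q2706 : ∀ i, i < 2706 → P i := stepQ 2705 Q2705 (allL N2705 (tt N2219 F22081) (tt N2430 F22082) (tt N3305 (iv F29769)) (tt N2997 F38363) (tt N2212 F22083) (tt N2958 (iv F24073)) (tt N2999 F38364) (tt N2799 (iv F23354)) (tt N2211 (iv D5698)))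
theorem Q2707 : ∀ i, i < 2707 → P i := stepQ 2706 Q2706 (allL N2706 (tt N3303 (iv F29757)) (tt N3285 (iv F29643)) (tt N2222 F22092) (tt N3311 D7795) (tt N2706 F22093) (tt N2961 (iv F24087)) (tt N3045 F38322) (tt N2213 (iv D5701)) (tt N3312 D7796))
theorem Q2708 : ∀ i, i < 2708 → P i := stepQ 2707 Q2707 (allL N2707 (tt N3304 (iv F29767)) (tt N3286 (iv F29653)) (tt N3004 F38463) (tt N2214 (iv D5704)) (tt N3313 D7801) (tt N2963 (iv F24095)) (tt N3006 F38464) (tt N3311 (iv F29823)) (tt N3314 D7802))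
theorem Q2709 : ∀ i, i < 2709 → P i := stepQ 2708 Q2708 (allL N2708 (tt N3305 (iv F29768)) (tt N3287 (iv F29654)) (tt N2219 F22099) (tt N3314 (iv F29835)) (tt N2216 F22100) (tt N2964 (iv F24098)) (tt N3018 F38465) (tt N2806 (iv F23378)) (tt N2214 (iv D5705)))
theorem Q2710 : ∀ i, i < 2710 → P i := stepQ 2709 Q2709 (allL N2709 (tt N3306 (iv F29780)) (tt N3288 (iv F29666)) (tt N2230 F22108) (tt N3313 (iv F29834)) (tt N2215 (iv D5708)) (tt N3315 D7805) (tt N3075 F38551) (tt N2709 F22109) (tt N3316 D7806))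
theorem Q2711 : ∀ i, i < 2711 → P i := stepQ 2710 Q2710 (allL N2710 (tt N3307 (iv F29783)) (tt N3289 (iv F29669)) (tt N2231 F22110) (tt N2216 F22111) (tt N3316 (iv F29847)) (tt N2218 F22112) (tt N3076 F38552) (tt N3317 D7807) (tt N2215 (iv D5709)))
theorem Q2712 : ∀ i, i < 2712 → P i := stepQ 2711 Q2711 (allL N2711 (tt N3308 (iv F29787)) (tt N3290 (iv F29673)) (tt N2232 F22113) (tt N2969 (iv F24114)) (tt N3315 (iv F29844)) (tt N2217 (iv D5710)) (tt N3318 D7808) (tt N2711 F22114) (tt N3319 D7809))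
theorem Q2713 : ∀ i, i < 2713 → P i := stepQ 2712 Q2712 (allL N2712 (tt N3309 (iv F29790)) (tt N3291 (iv F29676)) (tt N2233 F22115) (tt N2970 (iv F24117)) (tt N2218 F22116) (tt N3319 (iv F29855)) (tt N2712 F22117) (tt N3320 D7810) (tt N2217 (iv D5711)))
theorem Q2714 : ∀ i, i < 2714 → P i := stepQ 2713 Q2713 (allL N2713 (tt N3310 (iv F29794)) (tt N3292 (iv F29680)) (tt N2234 F22118) (tt N2813 (iv F23400)) (tt N3320 (iv F29857)) (tt N3317 (iv F29849)) (tt N2713 F22119) (tt N2218 (iv D5712)) (tt N2713 F22120))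
theorem Q2715 : ∀ i, i < 2715 → P i := stepQ 2714 Q2714 (allL N2714 (tt N2714 F22158) (tt N2221 F22159) (tt N3321 D7827) (tt N2220 (iv D5725)) (tt N2714 F22160) (tt N3021 (iv F24345)) (tt N3038 F38121) (tt N3322 D7829) (tt N2824 (iv F23449)))
theorem Q2716 : ∀ i, i < 2716 → P i := stepQ 2715 Q2715 (allL N2715 (tt N2222 F22196) (tt N3322 (iv F29919)) (tt N3303 (iv F29758)) (tt N3039 F38234) (tt N2715 F22197) (tt N3028 (iv F24392)) (tt N3040 F38235) (tt N2221 (iv D5734)) (tt N3323 D7844))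
theorem Q2717 : ∀ i, i < 2717 → P i := stepQ 2716 Q2716 (allL N2716 (tt N3323 (iv F29977)) (tt N2716 F22261) (tt N3312 (iv F29824)) (tt N3044 F38323) (tt N2716 F22262) (tt N3033 (iv F24471)) (tt N3046 F38324) (tt N2845 (iv F23558)) (tt N2222 (iv D5754)))
theorem Q2718 : ∀ i, i < 2718 → P i := stepQ 2717 Q2717 (allL N2717 (tt N2717 F22378) (tt N2226 F22379) (tt N3324 D7920) (tt N2223 (iv D5789)) (tt N3325 D7921) (tt N2224 F22380) (tt N3049 F38557) (tt N2717 F22381) (tt N3326 D7922))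
theorem Q2719 : ∀ i, i < 2719 → P i := stepQ 2718 Q2718 (allL N2718 (tt N2718 F22382) (tt N2227 F22383) (tt N2480 F22384) (tt N3326 (iv F30237)) (tt N3052 F38561) (tt N2225 F22385) (tt N3050 F38562) (tt N2718 F22386) (tt N2223 (iv D5790)))
theorem Q2720 : ∀ i, i < 2720 → P i := stepQ 2719 Q2719 (allL N2719 (tt N2719 F22387) (tt N3300 (iv F29743)) (tt N2224 (iv D5791)) (tt N2481 F22388) (tt N3327 D7923) (tt N3324 (iv F30230)) (tt N2719 F22389) (tt N2719 F22390) (tt N3328 D7924))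
theorem Q2721 : ∀ i, i < 2721 → P i := stepQ 2720 Q2720 (allL N2720 (tt N2720 F22391) (tt N2228 F22392) (tt N3327 (iv F30240)) (tt N2720 F22393) (tt N2224 (iv D5792)) (tt N3329 D7925) (tt N2720 F22394) (tt N2720 F22395) (tt N3330 D7926))
theorem Q2722 : ∀ i, i < 2722 → P i := stepQ 2721 Q2721 (allL N2721 (tt N2721 F22396) (tt N2229 F22397) (tt N3328 (iv F30244)) (tt N2225 F22398) (tt N3330 (iv F30254)) (tt N3326 (iv F30238)) (tt N2721 F22399) (tt N3331 D7927) (tt N2224 (iv D5793)))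
theorem Q2723 : ∀ i, i < 2723 → P i := stepQ 2722 Q2722 (allL N2722 (tt N2230 F22434) (tt N3325 (iv F30233)) (tt N3306 (iv F29781)) (tt N3064 F38558) (tt N2226 (iv D5802)) (tt N3332 D7940) (tt N3062 F38559) (tt N2722 F22435) (tt N3333 D7941))
theorem Q2724 : ∀ i, i < 2724 → P i := stepQ 2723 Q2723 (allL N2723 (tt N2231 F22436) (tt N3326 (iv F30236)) (tt N3307 (iv F29784)) (tt N2227 F22437) (tt N3333 (iv F30309)) (tt N2229 F22438) (tt N3063 F38560) (tt N3334 D7942) (tt N2226 (iv D5803)))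
theorem Q2725 : ∀ i, i < 2725 → P i := stepQ 2724 Q2724 (allL N2724 (tt N2232 F22439) (tt N3329 (iv F30248)) (tt N3308 (iv F29788)) (tt N2724 F22440) (tt N3332 (iv F30306)) (tt N2228 (iv D5804)) (tt N3335 D7943) (tt N2724 F22441) (tt N3336 D7944))
theorem Q2726 : ∀ i, i < 2726 → P i := stepQ 2725 Q2725 (allL N2725 (tt N2233 F22442) (tt N3330 (iv F30252)) (tt N3309 (iv F29791)) (tt N2725 F22443) (tt N2229 F22444) (tt N3336 (iv F30320)) (tt N2725 F22445) (tt N3337 D7945) (tt N2228 (iv D5805)))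
theorem Q2727 : ∀ i, i < 2727 → P i := stepQ 2726 Q2726 (allL N2726 (tt N2234 F22446) (tt N3331 (iv F30257)) (tt N3310 (iv F29795)) (tt N2726 F22447) (tt N3337 (iv F30322)) (tt N3334 (iv F30312)) (tt N2726 F22448) (tt N2229 (iv D5806)) (tt N2726 F22449))
theorem Q2728 : ∀ i, i < 2728 → P i := stepQ 2727 Q2727 (allL N2727 (tt N3332 (iv F30305)) (tt N2727 F22514) (tt N3315 (iv F29843)) (tt N3080 F38571) (tt N2232 F22515) (tt N2230 (iv D5824)) (tt N3338 D7974) (tt N2727 F22516) (tt N3339 D7975))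
theorem Q2729 : ∀ i, i < 2729 → P i := stepQ 2728 Q2728 (allL N2728 (tt N3333 (iv F30308)) (tt N2728 F22517) (tt N3316 (iv F29846)) (tt N3081 F38572) (tt N2231 F22518) (tt N3339 (iv F30430)) (tt N3078 F38573) (tt N3340 D7976) (tt N2230 (iv D5825)))
theorem Q2730 : ∀ i, i < 2730 → P i := stepQ 2729 Q2729 (allL N2729 (tt N3334 (iv F30310)) (tt N2729 F22519) (tt N3317 (iv F29848)) (tt N2729 F22520) (tt N3340 (iv F30432)) (tt N2234 F22521) (tt N3079 F38574) (tt N2231 (iv D5826)) (tt N2729 F22522))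
theorem Q2731 : ∀ i, i < 2731 → P i := stepQ 2730 Q2730 (allL N2730 (tt N3335 (iv F30314)) (tt N2730 F22523) (tt N3318 (iv F29851)) (tt N2730 F22524) (tt N3338 (iv F30426)) (tt N2730 F22525) (tt N2232 (iv D5827)) (tt N2730 F22526) (tt N3341 D7977))
theorem Q2732 : ∀ i, i < 2732 → P i := stepQ 2731 Q2731 (allL N2731 (tt N3336 (iv F30318)) (tt N2731 F22527) (tt N3319 (iv F29854)) (tt N2731 F22528) (tt N3339 (iv F30429)) (tt N2233 F22529) (tt N3341 (iv F30437)) (tt N3342 D7978) (tt N2232 (iv D5828)))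
theorem Q2733 : ∀ i, i < 2733 → P i := stepQ 2732 Q2732 (allL N2732 (tt N3337 (iv F30321)) (tt N2732 F22530) (tt N3320 (iv F29856)) (tt N3343 D7979) (tt N2234 F22531) (tt N3342 (iv F30439)) (tt N2732 F22532) (tt N2233 (iv D5829)) (tt N2732 F22533))
theorem Q2734 : ∀ i, i < 2734 → P i := stepQ 2733 Q2733 (allL N2733 (tt N2733 F23098) (tt N2235 (iv D5981)) (tt N2855 (iv F23651)) (tt N2733 F23099) (tt N2733 F23100) (tt N3344 D8185) (tt N2733 F23101) (tt N3345 D8186) (tt N2733 F23102))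
theorem Q2735 : ∀ i, i < 2735 → P i := stepQ 2734 Q2734 (allL N2734 (tt N2239 F23103) (tt N3344 (iv F31209)) (tt N2236 F23104) (tt N2734 F23105) (tt N3346 D8187) (tt N2235 (iv D5982)) (tt N3347 D8188) (tt N3348 D8189) (tt N2734 F23106))
theorem Q2736 : ∀ i, i < 2736 → P i := stepQ 2735 Q2735 (allL N2735 (tt N2240 F23107) (tt N3345 (iv F31213)) (tt N2237 F23108) (tt N3349 D8190) (tt N2735 F23109) (tt N3348 (iv F31227)) (tt N2735 F23110) (tt N2235 (iv D5983)) (tt N3350 D8191))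
theorem Q2737 : ∀ i, i < 2737 → P i := stepQ 2736 Q2736 (allL N2736 (tt N2241 F23111) (tt N2858 (iv F23665)) (tt N3346 (iv F31217)) (tt N2736 F23112) (tt N2236 (iv D5984)) (tt N2736 F23113) (tt N3351 D8192) (tt N3352 D8193) (tt N2736 F23114))
theorem Q2738 : ∀ i, i < 2738 → P i := stepQ 2737 Q2737 (allL N2737 (tt N2242 F23115) (tt N2859 (iv F23670)) (tt N3347 (iv F31221)) (tt N2238 F23116) (tt N3351 (iv F31239)) (tt N2737 F23117) (tt N2236 (iv D5985)) (tt N3353 D8194) (tt N2737 F23118))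
theorem Q2739 : ∀ i, i < 2739 → P i := stepQ 2738 Q2738 (allL N2738 (tt N2243 F23119) (tt N2860 (iv F23675)) (tt N3348 (iv F31226)) (tt N2254 F23120) (tt N3352 (iv F31242)) (tt N2237 F23121) (tt N3353 (iv F31247)) (tt N2236 (iv D5986)) (tt N3354 D8195))
theorem Q2740 : ∀ i, i < 2740 → P i := stepQ 2739 Q2739 (allL N2739 (tt N2244 F23122) (tt N2861 (iv F23679)) (tt N3350 (iv F31233)) (tt N2255 F23123) (tt N2739 F23124) (tt N3354 (iv F31250)) (tt N2739 F23125) (tt N2739 F23126) (tt N2237 (iv D5987)))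
theorem Q2741 : ∀ i, i < 2741 → P i := stepQ 2740 Q2740 (allL N2740 (tt N3346 (iv F31216)) (tt N2740 F23127) (tt N2241 F23128) (tt N2659 (iv F38957)) (tt N2239 (iv D5988)) (tt N2740 F23129) (tt N2660 F38951) (tt N3355 D8198) (tt N2740 F23130))
theorem Q2742 : ∀ i, i < 2742 → P i := stepQ 2741 Q2741 (allL N2741 (tt N3347 (iv F31220)) (tt N2741 F23131) (tt N2242 F23132) (tt N2741 F23133) (tt N2660 F38950) (tt N2741 F23134) (tt N2239 (iv D5989)) (tt N3356 D8199) (tt N2741 F23135))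
theorem Q2743 : ∀ i, i < 2743 → P i := stepQ 2742 Q2742 (allL N2742 (tt N3348 (iv F31225)) (tt N2742 F23136) (tt N2243 F23137) (tt N3357 D8200) (tt N3355 (iv F31263)) (tt N2240 F23138) (tt N3356 (iv F31268)) (tt N2239 (iv D5990)) (tt N3358 D8201))
theorem Q2744 : ∀ i, i < 2744 → P i := stepQ 2743 Q2743 (allL N2743 (tt N3349 (iv F31228)) (tt N2743 F23139) (tt N2259 F23140) (tt N2240 (iv D5991)) (tt N3359 D8202) (tt N3357 (iv F31271)) (tt N2743 F23141) (tt N2743 F23142) (tt N3360 D8203))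
theorem Q2745 : ∀ i, i < 2745 → P i := stepQ 2744 Q2744 (allL N2744 (tt N3350 (iv F31232)) (tt N2744 F23143) (tt N2244 F23144) (tt N3360 (iv F31284)) (tt N2744 F23145) (tt N3358 (iv F31275)) (tt N2744 F23146) (tt N2744 F23147) (tt N2240 (iv D5992)))
theorem Q2746 : ∀ i, i < 2746 → P i := stepQ 2745 Q2745 (allL N2745 (tt N3351 (iv F31237)) (tt N2245 F23148) (tt N2660 (iv F38947)) (tt N2745 F23149) (tt N2242 F23150) (tt N2661 (iv F38948)) (tt N2241 (iv D5993)) (tt N3361 D8205) (tt N2745 F23151))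
theorem Q2747 : ∀ i, i < 2747 → P i := stepQ 2746 Q2746 (allL N2746 (tt N3352 (iv F31241)) (tt N2246 F23152) (tt N3355 (iv F31262)) (tt N3362 D8206) (tt N2243 F23153) (tt N2746 F23154) (tt N3361 (iv F31293)) (tt N2241 (iv D5994)) (tt N3363 D8207))
theorem Q2748 : ∀ i, i < 2748 → P i := stepQ 2747 Q2747 (allL N2747 (tt N3353 (iv F31244)) (tt N2247 F23155) (tt N3356 (iv F31266)) (tt N2263 F23156) (tt N3361 (iv F31292)) (tt N2747 F23157) (tt N2243 F23158) (tt N2242 (iv D5995)) (tt N3364 D8208))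
theorem Q2749 : ∀ i, i < 2749 → P i := stepQ 2748 Q2748 (allL N2748 (tt N3354 (iv F31248)) (tt N2248 F23159) (tt N3358 (iv F31274)) (tt N2264 F23160) (tt N3363 (iv F31299)) (tt N2244 F23161) (tt N3364 (iv F31305)) (tt N2748 F23162) (tt N2243 (iv D5996)))
theorem Q2750 : ∀ i, i < 2750 → P i := stepQ 2749 Q2749 (allL N2749 (tt N2870 (iv F23720)) (tt N2661 F38949) (tt N2749 F23163) (tt N2749 F23164) (tt N2749 F23165) (tt N2245 (iv D5997)) (tt N2749 F23166) (tt N3365 D8209) (tt N2749 F23167))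
theorem Q2751 : ∀ i, i < 2751 → P i := stepQ 2750 Q2750 (allL N2750 (tt N2871 (iv F23726)) (tt N3361 (iv F31291)) (tt N2750 F23168) (tt N3366 D8210) (tt N2247 F23169) (tt N3365 (iv F31309)) (tt N2246 F23170) (tt N2245 (iv D5998)) (tt N3367 D8211))
theorem Q2752 : ∀ i, i < 2752 → P i := stepQ 2751 Q2751 (allL N2751 (tt N2872 (iv F23730)) (tt N3362 (iv F31294)) (tt N3368 D8212) (tt N2246 (iv D5999)) (tt N2267 F23171) (tt N2751 F23172) (tt N3366 (iv F31312)) (tt N2751 F23173) (tt N3369 D8213))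
theorem Q2753 : ∀ i, i < 2753 → P i := stepQ 2752 Q2752 (allL N2752 (tt N2873 (iv F23734)) (tt N3363 (iv F31298)) (tt N2752 F23174) (tt N3369 (iv F31322)) (tt N2248 F23175) (tt N2752 F23176) (tt N3367 (iv F31316)) (tt N2752 F23177) (tt N2246 (iv D6000)))
theorem Q2754 : ∀ i, i < 2754 → P i := stepQ 2753 Q2753 (allL N2753 (tt N2874 (iv F23739)) (tt N3364 (iv F31302)) (tt N2753 F23178) (tt N2269 F23179) (tt N3367 (iv F31315)) (tt N2753 F23180) (tt N2248 F23181) (tt N2753 F23182) (tt N2247 (iv D6001)))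
theorem Q2755 : ∀ i, i < 2755 → P i := stepQ 2754 Q2754 (allL N2754 (tt N2270 F23183) (tt N2250 F23184) (tt N2875 (iv F23747)) (tt N2754 F23185) (tt N3370 D8214) (tt N2249 (iv D6002)) (tt N3371 D8215) (tt N3372 D8216) (tt N2678 F23186))
theorem Q2756 : ∀ i, i < 2756 → P i := stepQ 2755 Q2755 (allL N2755 (tt N2271 F23187) (tt N2251 F23188) (tt N2876 (iv F23752)) (tt N3373 D8217) (tt N2361 F23189) (tt N3372 (iv F31336)) (tt N2755 F23190) (tt N2249 (iv D6003)) (tt N3374 D8218))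
theorem Q2757 : ∀ i, i < 2757 → P i := stepQ 2756 Q2756 (allL N2756 (tt N2256 F23191) (tt N3370 (iv F31326)) (tt N2252 F23192) (tt N3375 D8219) (tt N2250 (iv D6004)) (tt N2362 F23193) (tt N3376 D8220) (tt N3377 D8221) (tt N2680 F23194))
theorem Q2758 : ∀ i, i < 2758 → P i := stepQ 2757 Q2757 (allL N2757 (tt N2257 F23195) (tt N3371 (iv F31330)) (tt N2253 F23196) (tt N2757 F23197) (tt N3376 (iv F31353)) (tt N2757 F23198) (tt N2250 (iv D6005)) (tt N3378 D8222) (tt N2511 (iv F38484)))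
theorem Q2759 : ∀ i, i < 2759 → P i := stepQ 2758 Q2758 (allL N2758 (tt N2258 F23200) (tt N3372 (iv F31335)) (tt N2254 F23201) (tt N3379 D8223) (tt N3377 (iv F31357)) (tt N2251 F23202) (tt N3378 (iv F31362)) (tt N2250 (iv D6006)) (tt N3380 D8224))
theorem Q2760 : ∀ i, i < 2760 → P i := stepQ 2759 Q2759 (allL N2759 (tt N2259 F23203) (tt N3373 (iv F31338)) (tt N3349 (iv F31229)) (tt N2251 (iv D6007)) (tt N3381 D8225) (tt N3379 (iv F31364)) (tt N2759 F23204) (tt N2759 F23205) (tt N3382 D8226))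
theorem Q2761 : ∀ i, i < 2761 → P i := stepQ 2760 Q2760 (allL N2760 (tt N2260 F23206) (tt N3374 (iv F31342)) (tt N2255 F23207) (tt N3382 (iv F31375)) (tt N2366 F23208) (tt N3380 (iv F31368)) (tt N2760 F23209) (tt N2683 F23210) (tt N2251 (iv D6008)))
theorem Q2762 : ∀ i, i < 2762 → P i := stepQ 2761 Q2761 (allL N2761 (tt N2261 F23211) (tt N2882 (iv F23776)) (tt N3376 (iv F31352)) (tt N2761 F23212) (tt N2253 F23213) (tt N3383 D8227) (tt N2252 (iv D6009)) (tt N3384 D8228) (tt N2476 (iv F38473)))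
theorem Q2763 : ∀ i, i < 2763 → P i := stepQ 2762 Q2762 (allL N2762 (tt N2262 F23215) (tt N2883 (iv F23781)) (tt N3377 (iv F31356)) (tt N3385 D8229) (tt N2254 F23216) (tt N2368 F23217) (tt N3384 (iv F31384)) (tt N2252 (iv D6010)) (tt N3386 D8230))
theorem Q2764 : ∀ i, i < 2764 → P i := stepQ 2763 Q2763 (allL N2763 (tt N2263 F23218) (tt N2884 (iv F23785)) (tt N3378 (iv F31360)) (tt N3353 (iv F31245)) (tt N3384 (iv F31383)) (tt N2763 F23219) (tt N2254 F23220) (tt N2253 (iv D6011)) (tt N3387 D8231))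
theorem Q2765 : ∀ i, i < 2765 → P i := stepQ 2764 Q2764 (allL N2764 (tt N2264 F23221) (tt N2885 (iv F23789)) (tt N3380 (iv F31367)) (tt N3354 (iv F31249)) (tt N3386 (iv F31389)) (tt N2255 F23222) (tt N3387 (iv F31394)) (tt N2685 F23223) (tt N2254 (iv D6012)))
theorem Q2766 : ∀ i, i < 2766 → P i := stepQ 2765 Q2765 (allL N2765 (tt N3375 (iv F31346)) (tt N2281 F23224) (tt N2765 F23225) (tt N2256 (iv D6013)) (tt N2765 F23226) (tt N2371 F23227) (tt N3388 D8232) (tt N3389 D8233) (tt N2686 F23228))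
theorem Q2767 : ∀ i, i < 2767 → P i := stepQ 2766 Q2766 (allL N2766 (tt N3376 (iv F31351)) (tt N2282 F23229) (tt N2261 F23230) (tt N3388 (iv F31398)) (tt N2257 F23231) (tt N3390 D8234) (tt N2256 (iv D6014)) (tt N3391 D8235) (tt N2475 (iv F38348)))
theorem Q2768 : ∀ i, i < 2768 → P i := stepQ 2767 Q2767 (allL N2767 (tt N3377 (iv F31355)) (tt N2283 F23233) (tt N2262 F23234) (tt N3392 D8236) (tt N2258 F23235) (tt N2373 F23236) (tt N3391 (iv F31413)) (tt N2256 (iv D6015)) (tt N3393 D8237))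
theorem Q2769 : ∀ i, i < 2769 → P i := stepQ 2768 Q2768 (allL N2768 (tt N3378 (iv F31359)) (tt N2284 F23237) (tt N2263 F23238) (tt N3394 D8238) (tt N3391 (iv F31412)) (tt N2768 F23239) (tt N2258 F23240) (tt N2257 (iv D6016)) (tt N3395 D8239))
theorem Q2770 : ∀ i, i < 2770 → P i := stepQ 2769 Q2769 (allL N2769 (tt N3379 (iv F31363)) (tt N2285 F23241) (tt N3357 (iv F31270)) (tt N2258 (iv D6017)) (tt N3396 D8240) (tt N2259 F23242) (tt N3394 (iv F31423)) (tt N2769 F23243) (tt N3397 D8241))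
theorem Q2771 : ∀ i, i < 2771 → P i := stepQ 2770 Q2770 (allL N2770 (tt N3380 (iv F31366)) (tt N2286 F23244) (tt N2264 F23245) (tt N3397 (iv F31433)) (tt N3393 (iv F31418)) (tt N2260 F23246) (tt N3395 (iv F31428)) (tt N2689 F23247) (tt N2258 (iv D6018)))
theorem Q2772 : ∀ i, i < 2772 → P i := stepQ 2771 Q2771 (allL N2771 (tt N3381 (iv F31370)) (tt N2287 F23248) (tt N3359 (iv F31278)) (tt N2377 F23249) (tt N2259 (iv D6019)) (tt N3398 D8242) (tt N2771 F23250) (tt N2771 F23251) (tt N3399 D8243))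
theorem Q2773 : ∀ i, i < 2773 → P i := stepQ 2772 Q2772 (allL N2772 (tt N3382 (iv F31374)) (tt N2288 F23252) (tt N3360 (iv F31283)) (tt N2260 F23253) (tt N3399 (iv F31440)) (tt N3397 (iv F31434)) (tt N2772 F23254) (tt N3400 D8244) (tt N2259 (iv D6020)))
theorem Q2774 : ∀ i, i < 2774 → P i := stepQ 2773 Q2773 (allL N2773 (tt N3383 (iv F31377)) (tt N2265 F23255) (tt N3390 (iv F31406)) (tt N2773 F23256) (tt N2773 F23257) (tt N2261 (iv D6021)) (tt N2379 F23258) (tt N3401 D8245) (tt N2325 F38346))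
theorem Q2775 : ∀ i, i < 2775 → P i := stepQ 2774 Q2774 (allL N2774 (tt N3384 (iv F31382)) (tt N2266 F23260) (tt N3391 (iv F31411)) (tt N3402 D8246) (tt N2263 F23261) (tt N3401 (iv F31448)) (tt N2262 F23262) (tt N2261 (iv D6022)) (tt N3403 D8247))
theorem Q2776 : ∀ i, i < 2776 → P i := stepQ 2775 Q2775 (allL N2775 (tt N3385 (iv F31385)) (tt N2267 F23263) (tt N3404 D8248) (tt N2262 (iv D6023)) (tt N3362 (iv F31295)) (tt N2381 F23264) (tt N3402 (iv F31451)) (tt N2775 F23265) (tt N3405 D8249))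
theorem Q2777 : ∀ i, i < 2777 → P i := stepQ 2776 Q2776 (allL N2776 (tt N3386 (iv F31388)) (tt N2268 F23266) (tt N3393 (iv F31417)) (tt N3405 (iv F31460)) (tt N2264 F23267) (tt N2382 F23268) (tt N3403 (iv F31455)) (tt N2693 F23269) (tt N2262 (iv D6024)))
theorem Q2778 : ∀ i, i < 2778 → P i := stepQ 2777 Q2777 (allL N2777 (tt N3387 (iv F31392)) (tt N2269 F23270) (tt N3395 (iv F31426)) (tt N3364 (iv F31303)) (tt N3403 (iv F31454)) (tt N2777 F23271) (tt N2264 F23272) (tt N2509 (iv F38556)) (tt N2263 (iv D6025)))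
theorem Q2779 : ∀ i, i < 2779 → P i := stepQ 2778 Q2778 (allL N2778 (tt N2820 (iv F38335)) (tt N3401 (iv F31446)) (tt N2294 F23274) (tt N3406 D8250) (tt N2778 F23275) (tt N2266 F23276) (tt N2384 F23277) (tt N2265 (iv D6026)) (tt N3407 D8251))
theorem Q2780 : ∀ i, i < 2780 → P i := stepQ 2779 Q2779 (allL N2779 (tt N2898 (iv F23847)) (tt N3402 (iv F31450)) (tt N3408 D8252) (tt N2266 (iv D6027)) (tt N3366 (iv F31311)) (tt N3406 (iv F31462)) (tt N2267 F23278) (tt N2779 F23279) (tt N3409 D8253))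
theorem Q2781 : ∀ i, i < 2781 → P i := stepQ 2780 Q2780 (allL N2780 (tt N2899 (iv F23850)) (tt N3403 (iv F31453)) (tt N2296 F23280) (tt N3409 (iv F31473)) (tt N2269 F23281) (tt N3407 (iv F31467)) (tt N2268 F23282) (tt N2449 (iv F38480)) (tt N2266 (iv D6028)))
theorem Q2782 : ∀ i, i < 2782 → P i := stepQ 2781 Q2781 (allL N2781 (tt N2900 (iv F23855)) (tt N3410 D8254) (tt N2267 (iv D6029)) (tt N2297 F23284) (tt N3368 (iv F31319)) (tt N2387 F23285) (tt N3408 (iv F31471)) (tt N2781 F23286) (tt N3411 D8255))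
theorem Q2783 : ∀ i, i < 2783 → P i := stepQ 2782 Q2782 (allL N2782 (tt N2901 (iv F23859)) (tt N3405 (iv F31459)) (tt N3411 (iv F31478)) (tt N2268 F23287) (tt N3369 (iv F31323)) (tt N2388 F23288) (tt N3409 (iv F31474)) (tt N3412 D8256) (tt N2267 (iv D6030)))
theorem Q2784 : ∀ i, i < 2784 → P i := stepQ 2783 Q2783 (allL N2783 (tt N3370 (iv F31325)) (tt N2272 F23289) (tt N2943 (iv F24002)) (tt N3413 D8257) (tt N2270 (iv D6031)) (tt N2414 F23290) (tt N3414 D8258) (tt N3415 D8259) (tt N2695 F23291))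
theorem Q2785 : ∀ i, i < 2785 → P i := stepQ 2784 Q2784 (allL N2784 (tt N3371 (iv F31329)) (tt N2273 F23292) (tt N2944 (iv F24006)) (tt N2784 F23293) (tt N3414 (iv F31489)) (tt N2784 F23294) (tt N2270 (iv D6032)) (tt N3416 D8260) (tt N2510 (iv F38366)))
theorem Q2786 : ∀ i, i < 2786 → P i := stepQ 2785 Q2785 (allL N2785 (tt N3372 (iv F31334)) (tt N2274 F23296) (tt N2945 (iv F24011)) (tt N3417 D8261) (tt N3415 (iv F31492)) (tt N2271 F23297) (tt N3416 (iv F31496)) (tt N2270 (iv D6033)) (tt N3418 D8262))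
theorem Q2787 : ∀ i, i < 2787 → P i := stepQ 2786 Q2786 (allL N2786 (tt N3373 (iv F31337)) (tt N2275 F23298) (tt N3419 D8263) (tt N2271 (iv D6034)) (tt N3420 D8264) (tt N3417 (iv F31498)) (tt N2786 F23299) (tt N2786 F23300) (tt N3421 D8265))
theorem Q2788 : ∀ i, i < 2788 → P i := stepQ 2787 Q2787 (allL N2787 (tt N3374 (iv F31341)) (tt N2276 F23301) (tt N2947 (iv F24017)) (tt N3421 (iv F31511)) (tt N2418 F23302) (tt N3418 (iv F31501)) (tt N2787 F23303) (tt N2698 F23304) (tt N2271 (iv D6035)))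
theorem Q2789 : ∀ i, i < 2789 → P i := stepQ 2788 Q2788 (allL N2788 (tt N2281 F23305) (tt N3413 (iv F31484)) (tt N2304 F23306) (tt N2272 (iv D6036)) (tt N2788 F23307) (tt N2419 F23308) (tt N3422 D8266) (tt N3423 D8267) (tt N2699 F23309))
theorem Q2790 : ∀ i, i < 2790 → P i := stepQ 2789 Q2789 (allL N2789 (tt N2282 F23310) (tt N3414 (iv F31488)) (tt N2277 F23311) (tt N3422 (iv F31515)) (tt N2273 F23312) (tt N3424 D8268) (tt N2272 (iv D6037)) (tt N3425 D8269) (tt N2470 (iv F38244)))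
theorem Q2791 : ∀ i, i < 2791 → P i := stepQ 2790 Q2790 (allL N2790 (tt N2283 F23314) (tt N3415 (iv F31491)) (tt N2278 F23315) (tt N3426 D8270) (tt N2274 F23316) (tt N2421 F23317) (tt N3425 (iv F31530)) (tt N2272 (iv D6038)) (tt N3427 D8271))
theorem Q2792 : ∀ i, i < 2792 → P i := stepQ 2791 Q2791 (allL N2791 (tt N2284 F23318) (tt N3416 (iv F31494)) (tt N2279 F23319) (tt N3428 D8272) (tt N3425 (iv F31529)) (tt N2791 F23320) (tt N2274 F23321) (tt N2273 (iv D6039)) (tt N3429 D8273))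
theorem Q2793 : ∀ i, i < 2793 → P i := stepQ 2792 Q2792 (allL N2792 (tt N2285 F23322) (tt N3417 (iv F31497)) (tt N2792 F23323) (tt N2274 (iv D6040)) (tt N3430 D8274) (tt N2275 F23324) (tt N3428 (iv F31541)) (tt N2792 F23325) (tt N3431 D8275))
theorem Q2794 : ∀ i, i < 2794 → P i := stepQ 2793 Q2793 (allL N2793 (tt N2286 F23326) (tt N3418 (iv F31500)) (tt N2280 F23327) (tt N3431 (iv F31553)) (tt N3427 (iv F31535)) (tt N2276 F23328) (tt N3429 (iv F31546)) (tt N2702 F23329) (tt N2274 (iv D6041)))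
theorem Q2795 : ∀ i, i < 2795 → P i := stepQ 2794 Q2794 (allL N2794 (tt N2287 F23330) (tt N3420 (iv F31506)) (tt N2794 F23331) (tt N2425 F23332) (tt N2275 (iv D6042)) (tt N3432 D8276) (tt N2794 F23333) (tt N2794 F23334) (tt N3433 D8277))
theorem Q2796 : ∀ i, i < 2796 → P i := stepQ 2795 Q2795 (allL N2795 (tt N2288 F23335) (tt N3421 (iv F31510)) (tt N2795 F23336) (tt N2276 F23337) (tt N3433 (iv F31562)) (tt N3431 (iv F31554)) (tt N2795 F23338) (tt N3434 D8278) (tt N2275 (iv D6043)))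
theorem Q2797 : ∀ i, i < 2797 → P i := stepQ 2796 Q2796 (allL N2796 (tt N2289 F23339) (tt N2840 (iv F38104)) (tt N3424 (iv F31523)) (tt N2311 F23340) (tt N2796 F23341) (tt N2277 (iv D6044)) (tt N2427 F23342) (tt N3435 D8279) (tt N2313 (iv F38112)))
theorem Q2798 : ∀ i, i < 2798 → P i := stepQ 2797 Q2797 (allL N2797 (tt N2290 F23344) (tt N2956 (iv F24062)) (tt N3425 (iv F31528)) (tt N3436 D8280) (tt N2279 F23345) (tt N3435 (iv F31571)) (tt N2278 F23346) (tt N2277 (iv D6045)) (tt N3437 D8281))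
theorem Q2799 : ∀ i, i < 2799 → P i := stepQ 2798 Q2798 (allL N2798 (tt N2291 F23347) (tt N2957 (iv F24066)) (tt N3438 D8282) (tt N2278 (iv D6046)) (tt N2798 F23348) (tt N2429 F23349) (tt N3436 (iv F31575)) (tt N2313 F23350) (tt N3439 D8283))
theorem Q2800 : ∀ i, i < 2800 → P i := stepQ 2799 Q2799 (allL N2799 (tt N2292 F23351) (tt N2958 (iv F24071)) (tt N3427 (iv F31534)) (tt N3439 (iv F31586)) (tt N2280 F23352) (tt N2430 F23353) (tt N3437 (iv F31579)) (tt N2705 F23354) (tt N2278 (iv D6047)))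
theorem Q2801 : ∀ i, i < 2801 → P i := stepQ 2800 Q2800 (allL N2800 (tt N2293 F23355) (tt N2959 (iv F24076)) (tt N3429 (iv F31544)) (tt N2800 F23356) (tt N3437 (iv F31578)) (tt N2800 F23357) (tt N2280 F23358) (tt N2494 (iv F38368)) (tt N2279 (iv D6048)))
theorem Q2802 : ∀ i, i < 2802 → P i := stepQ 2801 Q2801 (allL N2801 (tt N3422 (iv F31513)) (tt N3388 (iv F31396)) (tt N2314 F23360) (tt N2282 F23361) (tt N2801 F23362) (tt N3440 D8284) (tt N2281 (iv D6049)) (tt N3441 D8285) (tt N2474 (iv F38220)))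
theorem Q2803 : ∀ i, i < 2803 → P i := stepQ 2802 Q2802 (allL N2802 (tt N3423 (iv F31518)) (tt N3389 (iv F31401)) (tt N2315 F23364) (tt N3442 D8286) (tt N2802 F23365) (tt N2433 F23366) (tt N3441 (iv F31595)) (tt N2281 (iv D6050)) (tt N3443 D8287))
theorem Q2804 : ∀ i, i < 2804 → P i := stepQ 2803 Q2803 (allL N2803 (tt N3424 (iv F31522)) (tt N3390 (iv F31405)) (tt N2289 F23367) (tt N3440 (iv F31590)) (tt N2803 F23368) (tt N2282 (iv D6051)) (tt N2434 F23369) (tt N3444 D8288) (tt N2323 F38219))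
theorem Q2805 : ∀ i, i < 2805 → P i := stepQ 2804 Q2804 (allL N2804 (tt N3425 (iv F31527)) (tt N3391 (iv F31410)) (tt N2290 F23371) (tt N3445 D8289) (tt N2284 F23372) (tt N3444 (iv F31604)) (tt N2283 F23373) (tt N2282 (iv D6052)) (tt N3446 D8290))
theorem Q2806 : ∀ i, i < 2806 → P i := stepQ 2805 Q2805 (allL N2805 (tt N3426 (iv F31531)) (tt N3392 (iv F31414)) (tt N3447 D8291) (tt N2283 (iv D6053)) (tt N3448 D8292) (tt N2436 F23374) (tt N3445 (iv F31606)) (tt N3442 (iv F31597)) (tt N3449 D8293))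
theorem Q2807 : ∀ i, i < 2807 → P i := stepQ 2806 Q2806 (allL N2806 (tt N3427 (iv F31533)) (tt N3393 (iv F31416)) (tt N2292 F23375) (tt N3449 (iv F31614)) (tt N2286 F23376) (tt N2437 F23377) (tt N3446 (iv F31609)) (tt N2708 F23378) (tt N2283 (iv D6054)))
theorem Q2808 : ∀ i, i < 2808 → P i := stepQ 2807 Q2807 (allL N2807 (tt N3428 (iv F31538)) (tt N3394 (iv F31421)) (tt N2807 F23379) (tt N2284 (iv D6055)) (tt N3450 D8294) (tt N2807 F23380) (tt N2285 F23381) (tt N2807 F23382) (tt N3451 D8295))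
theorem Q2809 : ∀ i, i < 2809 → P i := stepQ 2808 Q2808 (allL N2808 (tt N3429 (iv F31543)) (tt N3395 (iv F31425)) (tt N2293 F23383) (tt N3451 (iv F31620)) (tt N3446 (iv F31608)) (tt N2808 F23384) (tt N2286 F23385) (tt N2507 (iv F38485)) (tt N2284 (iv D6056)))
theorem Q2810 : ∀ i, i < 2810 → P i := stepQ 2809 Q2809 (allL N2809 (tt N3430 (iv F31548)) (tt N3396 (iv F31430)) (tt N2809 F23387) (tt N3448 (iv F31613)) (tt N2285 (iv D6057)) (tt N3452 D8296) (tt N3450 (iv F31617)) (tt N2809 F23388) (tt N3453 D8297))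
theorem Q2811 : ∀ i, i < 2811 → P i := stepQ 2810 Q2810 (allL N2810 (tt N3431 (iv F31551)) (tt N3397 (iv F31432)) (tt N2810 F23389) (tt N2286 F23390) (tt N3453 (iv F31627)) (tt N2288 F23391) (tt N3451 (iv F31622)) (tt N3454 D8298) (tt N2285 (iv D6058)))
theorem Q2812 : ∀ i, i < 2812 → P i := stepQ 2811 Q2811 (allL N2811 (tt N3432 (iv F31555)) (tt N3398 (iv F31435)) (tt N2811 F23392) (tt N2442 F23393) (tt N3452 (iv F31624)) (tt N2287 (iv D6059)) (tt N3455 D8299) (tt N2811 F23394) (tt N3456 D8300))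
theorem Q2813 : ∀ i, i < 2813 → P i := stepQ 2812 Q2812 (allL N2812 (tt N3433 (iv F31559)) (tt N3399 (iv F31438)) (tt N2812 F23395) (tt N2443 F23396) (tt N2288 F23397) (tt N3456 (iv F31638)) (tt N2812 F23398) (tt N3457 D8301) (tt N2287 (iv D6060)))
theorem Q2814 : ∀ i, i < 2814 → P i := stepQ 2813 Q2813 (allL N2813 (tt N3434 (iv F31564)) (tt N3400 (iv F31442)) (tt N2813 F23399) (tt N2713 F23400) (tt N3457 (iv F31640)) (tt N3454 (iv F31630)) (tt N2813 F23401) (tt N2288 (iv D6061)) (tt N2813 F23402))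
theorem Q2815 : ∀ i, i < 2815 → P i := stepQ 2814 Q2814 (allL N2814 (tt N3435 (iv F31569)) (tt N2294 F23403) (tt N3444 (iv F31602)) (tt N2408 (iv F38202)) (tt N2814 F23404) (tt N2290 F23405) (tt N2409 (iv F38207)) (tt N2289 (iv D6062)) (tt N3458 D8303))
theorem Q2816 : ∀ i, i < 2816 → P i := stepQ 2815 Q2815 (allL N2815 (tt N3436 (iv F31573)) (tt N2295 F23407) (tt N3459 D8304) (tt N2290 (iv D6063)) (tt N2815 F23408) (tt N2408 F38240) (tt N2291 F23409) (tt N2322 F23410) (tt N3460 D8305))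
theorem Q2817 : ∀ i, i < 2817 → P i := stepQ 2816 Q2816 (allL N2816 (tt N3437 (iv F31577)) (tt N2296 F23411) (tt N3446 (iv F31607)) (tt N3460 (iv F31656)) (tt N2293 F23412) (tt N3458 (iv F31649)) (tt N2292 F23413) (tt N2447 (iv F38350)) (tt N2290 (iv D6064)))
theorem Q2818 : ∀ i, i < 2818 → P i := stepQ 2817 Q2817 (allL N2817 (tt N3438 (iv F31581)) (tt N3461 D8306) (tt N2291 (iv D6065)) (tt N3447 (iv F31611)) (tt N2817 F23415) (tt N2446 F23416) (tt N3459 (iv F31653)) (tt N2323 F23417) (tt N3462 D8307))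
theorem Q2819 : ∀ i, i < 2819 → P i := stepQ 2818 Q2818 (allL N2818 (tt N3439 (iv F31585)) (tt N2298 F23418) (tt N3462 (iv F31663)) (tt N2292 F23419) (tt N2818 F23420) (tt N2447 F23421) (tt N3460 (iv F31658)) (tt N3458 F38280) (tt N2291 (iv D6066)))
theorem Q2820 : ∀ i, i < 2820 → P i := stepQ 2819 Q2819 (allL N2819 (tt N2821 (iv F38337)) (tt N3458 (iv F31647)) (tt N3407 (iv F31465)) (tt N2412 (iv F38327)) (tt N2819 F23425) (tt N2296 F23426) (tt N2413 (iv F38332)) (tt N2298 F38347) (tt N2294 (iv D6068)))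
theorem Q2821 : ∀ i, i < 2821 → P i := stepQ 2820 Q2820 (allL N2820 (tt N2778 F38335) (tt N3463 D8312) (tt N2295 (iv D6069)) (tt N3408 (iv F31470)) (tt N2820 F23429) (tt N2356 F38336) (tt N2297 F23430) (tt N2324 F23431) (tt N3464 D8313))
theorem Q2822 : ∀ i, i < 2822 → P i := stepQ 2821 Q2821 (allL N2821 (tt N2819 F38337) (tt N3460 (iv F31655)) (tt N3464 (iv F31684)) (tt N2296 F23432) (tt N2821 F23433) (tt N2412 F38338) (tt N2298 F23434) (tt N2413 (iv F38371)) (tt N2295 (iv D6070)))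
theorem Q2823 : ∀ i, i < 2823 → P i := stepQ 2822 Q2822 (allL N2822 (tt N3465 D8315) (tt N2297 (iv D6071)) (tt N3461 (iv F31659)) (tt N3410 (iv F31475)) (tt N2822 F23435) (tt N2448 F23436) (tt N3463 (iv F31682)) (tt N2325 F23437) (tt N3466 D8316))
theorem Q2824 : ∀ i, i < 2824 → P i := stepQ 2823 Q2823 (allL N2823 (tt N2938 F38411) (tt N3466 (iv F31694)) (tt N2298 F23438) (tt N3411 (iv F31479)) (tt N2823 F23439) (tt N2449 F23440) (tt N3464 (iv F31686)) (tt N3407 (iv F38415)) (tt N2297 (iv D6072)))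
theorem Q2825 : ∀ i, i < 2825 → P i := stepQ 2824 Q2824 (allL N2824 (tt N2824 F23445) (tt N2304 F23446) (tt N3467 D8318) (tt N2299 (iv D6074)) (tt N2824 F23447) (tt N2464 F23448) (tt N3468 D8319) (tt N3469 D8320) (tt N2714 F23449))
theorem Q2826 : ∀ i, i < 2826 → P i := stepQ 2825 Q2825 (allL N2825 (tt N2825 F23450) (tt N2305 F23451) (tt N3022 (iv F24349)) (tt N3468 (iv F31707)) (tt N2300 F23452) (tt N3470 D8321) (tt N2299 (iv D6075)) (tt N3471 D8322) (tt N2466 (iv F37957)))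
theorem Q2827 : ∀ i, i < 2827 → P i := stepQ 2826 Q2826 (allL N2826 (tt N2826 F23454) (tt N2306 F23455) (tt N3023 (iv F24354)) (tt N3472 D8323) (tt N2301 F23456) (tt N2466 F23457) (tt N3471 (iv F31722)) (tt N2299 (iv D6076)) (tt N3470 F37863))
theorem Q2828 : ∀ i, i < 2828 → P i := stepQ 2827 Q2827 (allL N2827 (tt N2827 F23458) (tt N2307 F23459) (tt N2829 (iv F37775)) (tt N3473 D8325) (tt N3471 (iv F31721)) (tt N2454 F37773) (tt N2301 F23461) (tt N2300 (iv D6077)) (tt N2452 (iv F37777)))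
theorem Q2829 : ∀ i, i < 2829 → P i := stepQ 2828 Q2828 (allL N2828 (tt N2828 F23462) (tt N2308 F23463) (tt N3474 D8327) (tt N2301 (iv D6078)) (tt N3475 D8328) (tt N2302 F23464) (tt N3473 (iv F31734)) (tt N2828 F23465) (tt N3476 D8329))
theorem Q2830 : ∀ i, i < 2830 → P i := stepQ 2829 Q2829 (allL N2829 (tt N2829 F23466) (tt N2309 F23467) (tt N2827 F37775) (tt N3476 (iv F31751)) (tt N3470 (iv F37858)) (tt N2303 F23468) (tt N2452 (iv F37776)) (tt N2451 (iv F37852)) (tt N2301 (iv D6079)))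
theorem Q2831 : ∀ i, i < 2831 → P i := stepQ 2830 Q2830 (allL N2830 (tt N2830 F23470) (tt N2830 F23471) (tt N2302 (iv D6080)) (tt N3025 (iv F24373)) (tt N2830 F23472) (tt N3474 (iv F31743)) (tt N2664 F23473) (tt N2830 F23474) (tt N3477 D8330))
theorem Q2832 : ∀ i, i < 2832 → P i := stepQ 2831 Q2831 (allL N2831 (tt N2831 F23475) (tt N2310 F23476) (tt N3477 (iv F31755)) (tt N2303 F23477) (tt N2831 F23478) (tt N3476 (iv F31752)) (tt N2662 F37782) (tt N2670 (iv F37869)) (tt N2302 (iv D6081)))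
theorem Q2833 : ∀ i, i < 2833 → P i := stepQ 2832 Q2832 (allL N2832 (tt N2314 F23480) (tt N3468 (iv F31706)) (tt N3422 (iv F31514)) (tt N2305 F23481) (tt N2832 F23482) (tt N3478 D8332) (tt N2304 (iv D6082)) (tt N3479 D8333) (tt N2469 (iv F38120)))
theorem Q2834 : ∀ i, i < 2834 → P i := stepQ 2833 Q2833 (allL N2833 (tt N2315 F23484) (tt N3469 (iv F31711)) (tt N3423 (iv F31519)) (tt N3480 D8334) (tt N2833 F23485) (tt N2468 F23486) (tt N3479 (iv F31770)) (tt N2304 (iv D6083)) (tt N3481 D8335))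
theorem Q2835 : ∀ i, i < 2835 → P i := stepQ 2834 Q2834 (allL N2834 (tt N2316 F23487) (tt N3470 (iv F31715)) (tt N2311 F23488) (tt N3478 (iv F31765)) (tt N2309 F37938) (tt N2305 (iv D6084)) (tt N2457 (iv F37921)) (tt N2456 (iv F37918)) (tt N2306 (iv F37939)))
theorem Q2836 : ∀ i, i < 2836 → P i := stepQ 2835 Q2835 (allL N2835 (tt N2317 F23492) (tt N3471 (iv F31720)) (tt N2312 F23493) (tt N3482 D8337) (tt N2307 F23494) (tt N2456 F37951) (tt N2306 F23495) (tt N2305 (iv D6085)) (tt N2457 (iv F37955)))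
theorem Q2837 : ∀ i, i < 2837 → P i := stepQ 2836 Q2836 (allL N2836 (tt N2318 F23496) (tt N3472 (iv F31724)) (tt N3483 D8339) (tt N2306 (iv D6086)) (tt N3484 D8340) (tt N2469 F23497) (tt N3482 (iv F31784)) (tt N3480 (iv F31773)) (tt N3478 F38024))
theorem Q2838 : ∀ i, i < 2838 → P i := stepQ 2837 Q2837 (allL N2837 (tt N2319 F23503) (tt N3473 (iv F31732)) (tt N2837 F23504) (tt N2307 (iv D6088)) (tt N3485 D8342) (tt N2459 F37786) (tt N2308 F23506) (tt N2837 F23507) (tt N2458 (iv F37873)))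
theorem Q2839 : ∀ i, i < 2839 → P i := stepQ 2838 Q2838 (allL N2838 (tt N2320 F23513) (tt N3475 (iv F31746)) (tt N2838 F23514) (tt N3484 (iv F31794)) (tt N2308 (iv D6090)) (tt N2838 F23515) (tt N3485 (iv F31801)) (tt N2838 F23516) (tt N3486 D8344))
theorem Q2840 : ∀ i, i < 2840 → P i := stepQ 2839 Q2839 (allL N2839 (tt N2321 F23517) (tt N3476 (iv F31750)) (tt N2839 F23518) (tt N2309 F23519) (tt N3486 (iv F31810)) (tt N2310 F23520) (tt N2458 F37952) (tt N2603 (iv F38037)) (tt N2308 (iv D6091)))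
theorem Q2841 : ∀ i, i < 2841 → P i := stepQ 2840 Q2840 (allL N2840 (tt N2322 F23531) (tt N2796 F38104) (tt N3487 D8348) (tt N2312 (iv D6094)) (tt N2840 F23532) (tt N2396 F38105) (tt N2313 F23533) (tt N3436 (iv F31576)) (tt N2427 (iv F38117)))
theorem Q2842 : ∀ i, i < 2842 → P i := stepQ 2841 Q2841 (allL N2841 (tt N2323 F23538) (tt N3488 D8350) (tt N2313 (iv D6096)) (tt N3483 (iv F31791)) (tt N2841 F23539) (tt N2470 F23540) (tt N3487 (iv F31827)) (tt N3438 (iv F31584)) (tt N3424 F38182))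
theorem Q2843 : ∀ i, i < 2843 → P i := stepQ 2842 Q2842 (allL N2842 (tt N3478 (iv F31764)) (tt N2842 F23545) (tt N3440 (iv F31589)) (tt N2316 F23546) (tt N3489 D8353) (tt N2314 (iv D6098)) (tt N2462 (iv F38069)) (tt N3490 D8354) (tt N2318 (iv F38081)))
theorem Q2844 : ∀ i, i < 2844 → P i := stepQ 2843 Q2843 (allL N2843 (tt N3479 (iv F31768)) (tt N2843 F23549) (tt N3441 (iv F31593)) (tt N3491 D8355) (tt N2843 F23550) (tt N3490 (iv F31848)) (tt N2315 F23551) (tt N2314 (iv D6099)) (tt N3492 D8356))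
theorem Q2845 : ∀ i, i < 2845 → P i := stepQ 2844 Q2844 (allL N2844 (tt N3480 (iv F31771)) (tt N2844 F23552) (tt N3493 D8357) (tt N2315 (iv D6100)) (tt N3494 D8358) (tt N2472 F23553) (tt N3491 (iv F31851)) (tt N2318 F23554) (tt N3495 D8359))
theorem Q2846 : ∀ i, i < 2846 → P i := stepQ 2845 Q2845 (allL N2845 (tt N3481 (iv F31774)) (tt N2845 F23555) (tt N3443 (iv F31598)) (tt N3495 (iv F31864)) (tt N2845 F23556) (tt N2473 F23557) (tt N3492 (iv F31855)) (tt N2716 F23558) (tt N2315 (iv D6101)))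
theorem Q2847 : ∀ i, i < 2847 → P i := stepQ 2846 Q2846 (allL N2846 (tt N3482 (iv F31783)) (tt N2846 F23564) (tt N3496 D8362) (tt N2317 (iv D6103)) (tt N3497 D8363) (tt N2460 F38122) (tt N2318 F23565) (tt N3491 (iv F31852)) (tt N2462 (iv F38125)))
theorem Q2848 : ∀ i, i < 2848 → P i := stepQ 2847 Q2847 (allL N2847 (tt N3483 (iv F31790)) (tt N3498 D8365) (tt N2318 (iv D6105)) (tt N2323 F23571) (tt N3499 D8366) (tt N2474 F23572) (tt N3496 (iv F31876)) (tt N3493 (iv F31858)) (tt N3440 F38154))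
theorem Q2849 : ∀ i, i < 2849 → P i := stepQ 2848 Q2848 (allL N2848 (tt N3484 (iv F31793)) (tt N2848 F23573) (tt N3499 (iv F31886)) (tt N2320 F23574) (tt N2318 (iv D6106)) (tt N2848 F23575) (tt N3497 (iv F31879)) (tt N3494 (iv F31862)) (tt N3489 (iv F38153)))
theorem Q2850 : ∀ i, i < 2850 → P i := stepQ 2849 Q2849 (allL N2849 (tt N3485 (iv F31799)) (tt N2849 F23579) (tt N2849 F23580) (tt N3497 (iv F31878)) (tt N2319 (iv D6108)) (tt N2674 (iv F38041)) (tt N2320 F23581) (tt N2849 F23582) (tt N2463 (iv F38044)))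
theorem Q2851 : ∀ i, i < 2851 → P i := stepQ 2850 Q2850 (allL N2850 (tt N3486 (iv F31808)) (tt N2850 F23588) (tt N2850 F23589) (tt N3489 (iv F38152)) (tt N2321 F23590) (tt N2850 F23591) (tt N2463 F38123) (tt N2610 (iv F38189)) (tt N2320 (iv D6110)))
theorem Q2852 : ∀ i, i < 2852 → P i := stepQ 2851 Q2851 (allL N2851 (tt N3487 (iv F31825)) (tt N3500 D8377) (tt N2322 (iv D6114)) (tt N3496 (iv F31875)) (tt N2851 F23605) (tt N2401 F38239) (tt N2323 F23606) (tt N3459 (iv F31654)) (tt N2434 (iv F38247)))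
theorem Q2853 : ∀ i, i < 2853 → P i := stepQ 2852 Q2852 (allL N2852 (tt N3501 D8380) (tt N2323 (iv D6116)) (tt N2325 F23611) (tt N3498 (iv F31884)) (tt N2852 F23612) (tt N2475 F23613) (tt N3500 (iv F31931)) (tt N3461 (iv F31662)) (tt N3390 (iv F38279)))
theorem Q2854 : ∀ i, i < 2854 → P i := stepQ 2853 Q2853 (allL N2853 (tt N3502 D8388) (tt N2324 (iv D6122)) (tt N3500 (iv F31929)) (tt N2853 F23630) (tt N2853 F23631) (tt N2352 F38334) (tt N2325 F23632) (tt N3463 (iv F31683)) (tt N2379 (iv F38370)))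
theorem Q2855 : ∀ i, i < 2855 → P i := stepQ 2854 Q2854 (allL N2854 (tt N2325 (iv D6125)) (tt N2915 F38405) (tt N3501 (iv F31939)) (tt N2854 F23640) (tt N2854 F23641) (tt N2476 F23642) (tt N3502 (iv F31968)) (tt N3465 (iv F31693)) (tt N3383 (iv F38414)))
theorem Q2856 : ∀ i, i < 2856 → P i := stepQ 2855 Q2855 (allL N2855 (tt N2855 F23650) (tt N2326 (iv D6128)) (tt N2733 F23651) (tt N2513 F23652) (tt N2855 F23653) (tt N3503 D8394) (tt N2855 F23654) (tt N3504 D8395) (tt N2855 F23655))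
theorem Q2857 : ∀ i, i < 2857 → P i := stepQ 2856 Q2856 (allL N2856 (tt N2330 F23656) (tt N3503 (iv F31987)) (tt N2327 F23657) (tt N2514 F23658) (tt N3505 D8396) (tt N2326 (iv D6129)) (tt N2602 (iv F38767)) (tt N3506 D8398) (tt N2856 F23659))
theorem Q2858 : ∀ i, i < 2858 → P i := stepQ 2857 Q2857 (allL N2857 (tt N2331 F23660) (tt N3504 (iv F31992)) (tt N2328 F23661) (tt N3507 D8399) (tt N2857 F23662) (tt N3506 (iv F32007)) (tt N2857 F23663) (tt N2326 (iv D6130)) (tt N3508 D8400))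
theorem Q2859 : ∀ i, i < 2859 → P i := stepQ 2858 Q2858 (allL N2858 (tt N2332 F23664) (tt N2736 F23665) (tt N3505 (iv F31997)) (tt N2858 F23666) (tt N2327 (iv D6131)) (tt N2858 F23667) (tt N3509 D8401) (tt N3510 D8402) (tt N2858 F23668))
theorem Q2860 : ∀ i, i < 2860 → P i := stepQ 2859 Q2859 (allL N2859 (tt N2333 F23669) (tt N2737 F23670) (tt N2602 F38841) (tt N2329 F23671) (tt N3509 (iv F32020)) (tt N2859 F23672) (tt N2327 (iv D6132)) (tt N3511 D8403) (tt N2859 F23673))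
theorem Q2861 : ∀ i, i < 2861 → P i := stepQ 2860 Q2860 (allL N2860 (tt N2334 F23674) (tt N2738 F23675) (tt N3506 (iv F32006)) (tt N2345 F23676) (tt N3510 (iv F32024)) (tt N2328 F23677) (tt N3511 (iv F32030)) (tt N2327 (iv D6133)) (tt N3512 D8404))
theorem Q2862 : ∀ i, i < 2862 → P i := stepQ 2861 Q2861 (allL N2861 (tt N2335 F23678) (tt N2739 F23679) (tt N3508 (iv F32013)) (tt N2346 F23680) (tt N2861 F23681) (tt N3512 (iv F32034)) (tt N2861 F23682) (tt N2861 F23683) (tt N2328 (iv D6134)))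
theorem Q2863 : ∀ i, i < 2863 → P i := stepQ 2862 Q2862 (allL N2862 (tt N3505 (iv F31996)) (tt N2862 F23684) (tt N2332 F23685) (tt N2610 (iv F38819)) (tt N2330 (iv D6135)) (tt N2862 F23686) (tt N2609 (iv F38821)) (tt N3513 D8407) (tt N2862 F23687))
theorem Q2864 : ∀ i, i < 2864 → P i := stepQ 2863 Q2863 (allL N2863 (tt N3506 (iv F32005)) (tt N2863 F23693) (tt N2334 F23694) (tt N2606 F38647) (tt N3513 (iv F32047)) (tt N2331 F23695) (tt N2607 (iv F38700)) (tt N2330 (iv D6137)) (tt N3514 D8410))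
theorem Q2865 : ∀ i, i < 2865 → P i := stepQ 2864 Q2864 (allL N2864 (tt N3507 (iv F32008)) (tt N2864 F23696) (tt N2350 F23697) (tt N2331 (iv D6138)) (tt N3515 D8411) (tt N2606 (iv F38628)) (tt N2864 F23698) (tt N2516 F23699) (tt N3516 D8412))
theorem Q2866 : ∀ i, i < 2866 → P i := stepQ 2865 Q2865 (allL N2865 (tt N3508 (iv F32012)) (tt N2865 F23700) (tt N2335 F23701) (tt N3516 (iv F32068)) (tt N2865 F23702) (tt N3514 (iv F32059)) (tt N2865 F23703) (tt N2865 F23704) (tt N2331 (iv D6139)))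
theorem Q2867 : ∀ i, i < 2867 → P i := stepQ 2866 Q2866 (allL N2866 (tt N3509 (iv F32017)) (tt N2336 F23705) (tt N2609 F38864) (tt N2866 F23706) (tt N2333 F23707) (tt N3517 D8413) (tt N2332 (iv D6140)) (tt N3518 D8414) (tt N2866 F23708))
theorem Q2868 : ∀ i, i < 2868 → P i := stepQ 2867 Q2867 (allL N2867 (tt N3510 (iv F32022)) (tt N2337 F23709) (tt N3513 (iv F32046)) (tt N3519 D8415) (tt N2334 F23710) (tt N2867 F23711) (tt N3518 (iv F32077)) (tt N2332 (iv D6141)) (tt N3520 D8416))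
theorem Q2869 : ∀ i, i < 2869 → P i := stepQ 2868 Q2868 (allL N2868 (tt N3511 (iv F32026)) (tt N2338 F23712) (tt N2607 F38746) (tt N2354 F23713) (tt N3518 (iv F32076)) (tt N2868 F23714) (tt N2334 F23715) (tt N2333 (iv D6142)) (tt N3521 D8417))
theorem Q2870 : ∀ i, i < 2870 → P i := stepQ 2869 Q2869 (allL N2869 (tt N3512 (iv F32031)) (tt N2339 F23716) (tt N3514 (iv F32058)) (tt N2355 F23717) (tt N3520 (iv F32083)) (tt N2335 F23718) (tt N3521 (iv F32089)) (tt N2869 F23719) (tt N2334 (iv D6143)))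
theorem Q2871 : ∀ i, i < 2871 → P i := stepQ 2870 Q2870 (allL N2870 (tt N2749 F23720) (tt N3517 (iv F32070)) (tt N2870 F23721) (tt N2870 F23722) (tt N2870 F23723) (tt N2336 (iv D6144)) (tt N2870 F23724) (tt N3522 D8418) (tt N2870 F23725))
theorem Q2872 : ∀ i, i < 2872 → P i := stepQ 2871 Q2871 (allL N2871 (tt N2750 F23726) (tt N3518 (iv F32075)) (tt N2871 F23727) (tt N3523 D8419) (tt N2338 F23728) (tt N3522 (iv F32094)) (tt N2337 F23729) (tt N2336 (iv D6145)) (tt N3524 D8420))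
theorem Q2873 : ∀ i, i < 2873 → P i := stepQ 2872 Q2872 (allL N2872 (tt N2751 F23730) (tt N3519 (iv F32078)) (tt N3525 D8421) (tt N2337 (iv D6146)) (tt N2357 F23731) (tt N2872 F23732) (tt N3523 (iv F32098)) (tt N2872 F23733) (tt N3526 D8422))
theorem Q2874 : ∀ i, i < 2874 → P i := stepQ 2873 Q2873 (allL N2873 (tt N2752 F23734) (tt N3520 (iv F32082)) (tt N2873 F23735) (tt N3526 (iv F32111)) (tt N2339 F23736) (tt N2873 F23737) (tt N3524 (iv F32103)) (tt N2873 F23738) (tt N2337 (iv D6147)))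
theorem Q2875 : ∀ i, i < 2875 → P i := stepQ 2874 Q2874 (allL N2874 (tt N2753 F23739) (tt N3521 (iv F32086)) (tt N2874 F23740) (tt N2359 F23741) (tt N3524 (iv F32102)) (tt N2874 F23742) (tt N2339 F23743) (tt N2874 F23744) (tt N2338 (iv D6148)))
theorem Q2876 : ∀ i, i < 2876 → P i := stepQ 2875 Q2875 (allL N2875 (tt N2389 F23745) (tt N2341 F23746) (tt N2754 F23747) (tt N2517 F23748) (tt N3527 D8423) (tt N2340 (iv D6149)) (tt N3528 D8424) (tt N3529 D8425) (tt N2360 F23749))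
theorem Q2877 : ∀ i, i < 2877 → P i := stepQ 2876 Q2876 (allL N2876 (tt N2390 F23750) (tt N2342 F23751) (tt N2755 F23752) (tt N3530 D8426) (tt N2679 F23753) (tt N3529 (iv F32128)) (tt N2876 F23754) (tt N2340 (iv D6150)) (tt N3531 D8427))
theorem Q2878 : ∀ i, i < 2878 → P i := stepQ 2877 Q2877 (allL N2877 (tt N2347 F23755) (tt N3527 (iv F32115)) (tt N2343 F23756) (tt N3532 D8428) (tt N2341 (iv D6151)) (tt N2680 F23757) (tt N3533 D8429) (tt N3534 D8430) (tt N2362 F23758))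
theorem Q2879 : ∀ i, i < 2879 → P i := stepQ 2878 Q2878 (allL N2878 (tt N2348 F23759) (tt N3528 (iv F32120)) (tt N2344 F23760) (tt N2520 F23761) (tt N3533 (iv F32146)) (tt N2878 F23762) (tt N2341 (iv D6152)) (tt N3535 D8431) (tt N2363 F23763))
theorem Q2880 : ∀ i, i < 2880 → P i := stepQ 2879 Q2879 (allL N2879 (tt N2349 F23764) (tt N3529 (iv F32126)) (tt N2345 F23765) (tt N3536 D8432) (tt N3534 (iv F32150)) (tt N2342 F23766) (tt N3535 (iv F32155)) (tt N2341 (iv D6153)) (tt N3537 D8433))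
theorem Q2881 : ∀ i, i < 2881 → P i := stepQ 2880 Q2880 (allL N2880 (tt N2350 F23767) (tt N3530 (iv F32130)) (tt N3507 (iv F32009)) (tt N2342 (iv D6154)) (tt N3538 D8434) (tt N3536 (iv F32157)) (tt N2880 F23768) (tt N2522 F23769) (tt N3539 D8435))
theorem Q2882 : ∀ i, i < 2882 → P i := stepQ 2881 Q2881 (allL N2881 (tt N2351 F23770) (tt N3531 (iv F32134)) (tt N2346 F23771) (tt N3539 (iv F32168)) (tt N2683 F23772) (tt N3537 (iv F32161)) (tt N2881 F23773) (tt N2366 F23774) (tt N2342 (iv D6155)))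
theorem Q2883 : ∀ i, i < 2883 → P i := stepQ 2882 Q2882 (allL N2882 (tt N2352 F23775) (tt N2761 F23776) (tt N3533 (iv F32145)) (tt N2882 F23777) (tt N2344 F23778) (tt N3502 (iv F38397)) (tt N2343 (iv D6156)) (tt N3540 D8437) (tt N2367 F23779))
theorem Q2884 : ∀ i, i < 2884 → P i := stepQ 2883 Q2883 (allL N2883 (tt N2353 F23780) (tt N2762 F23781) (tt N3534 (iv F32149)) (tt N3541 D8438) (tt N2345 F23782) (tt N2684 F23783) (tt N3540 (iv F32179)) (tt N2343 (iv D6157)) (tt N3542 D8439))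
theorem Q2885 : ∀ i, i < 2885 → P i := stepQ 2884 Q2884 (allL N2884 (tt N2354 F23784) (tt N2763 F23785) (tt N3535 (iv F32153)) (tt N3511 (iv F32028)) (tt N3540 (iv F32178)) (tt N2884 F23786) (tt N2345 F23787) (tt N2344 (iv D6158)) (tt N3543 D8440))
theorem Q2886 : ∀ i, i < 2886 → P i := stepQ 2885 Q2885 (allL N2885 (tt N2355 F23788) (tt N2764 F23789) (tt N3537 (iv F32160)) (tt N3512 (iv F32033)) (tt N3542 (iv F32186)) (tt N2346 F23790) (tt N3543 (iv F32192)) (tt N2370 F23791) (tt N2345 (iv D6159)))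
theorem Q2887 : ∀ i, i < 2887 → P i := stepQ 2886 Q2886 (allL N2886 (tt N3532 (iv F32139)) (tt N2400 F23792) (tt N2886 F23793) (tt N2347 (iv D6160)) (tt N2524 F23794) (tt N2686 F23795) (tt N2560 F38726) (tt N3544 D8442) (tt N2371 F23796))
theorem Q2888 : ∀ i, i < 2888 → P i := stepQ 2887 Q2887 (allL N2887 (tt N3533 (iv F32144)) (tt N2401 F23797) (tt N2352 F23798) (tt N2560 F38725) (tt N2348 F23799) (tt N3500 (iv F38297)) (tt N2347 (iv D6161)) (tt N3545 D8444) (tt N2372 F23800))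
theorem Q2889 : ∀ i, i < 2889 → P i := stepQ 2888 Q2888 (allL N2888 (tt N3534 (iv F32148)) (tt N2402 F23801) (tt N2353 F23802) (tt N3546 D8445) (tt N2349 F23803) (tt N2687 F23804) (tt N3545 (iv F32211)) (tt N2347 (iv D6162)) (tt N3547 D8446))
theorem Q2890 : ∀ i, i < 2890 → P i := stepQ 2889 Q2889 (allL N2889 (tt N3535 (iv F32152)) (tt N2403 F23805) (tt N2354 F23806) (tt N2559 F38738) (tt N3545 (iv F32210)) (tt N2889 F23807) (tt N2349 F23808) (tt N2348 (iv D6163)) (tt N3548 D8448))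
theorem Q2891 : ∀ i, i < 2891 → P i := stepQ 2890 Q2890 (allL N2890 (tt N3536 (iv F32156)) (tt N2404 F23809) (tt N2606 F38638) (tt N2349 (iv D6164)) (tt N3549 D8449) (tt N2350 F23810) (tt N2559 (iv F38682)) (tt N2525 F23811) (tt N3550 D8450))
theorem Q2892 : ∀ i, i < 2892 → P i := stepQ 2891 Q2891 (allL N2891 (tt N3537 (iv F32159)) (tt N2405 F23812) (tt N2355 F23813) (tt N3550 (iv F32231)) (tt N3547 (iv F32216)) (tt N2351 F23814) (tt N3548 (iv F32226)) (tt N2376 F23815) (tt N2349 (iv D6165)))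
theorem Q2893 : ∀ i, i < 2893 → P i := stepQ 2892 Q2892 (allL N2892 (tt N3538 (iv F32163)) (tt N2406 F23816) (tt N3515 (iv F32062)) (tt N2690 F23817) (tt N2350 (iv D6166)) (tt N3551 D8451) (tt N2892 F23818) (tt N2526 F23819) (tt N3552 D8452))
theorem Q2894 : ∀ i, i < 2894 → P i := stepQ 2893 Q2893 (allL N2893 (tt N3539 (iv F32167)) (tt N2407 F23820) (tt N3516 (iv F32067)) (tt N2351 F23821) (tt N3552 (iv F32238)) (tt N3550 (iv F32232)) (tt N2893 F23822) (tt N3553 D8453) (tt N2350 (iv D6167)))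
theorem Q2895 : ∀ i, i < 2895 → P i := stepQ 2894 Q2894 (allL N2894 (tt N3540 (iv F32176)) (tt N2356 F23828) (tt N3545 (iv F32209)) (tt N3554 D8455) (tt N2354 F23829) (tt N3463 (iv F38399)) (tt N2353 F23830) (tt N2352 (iv D6169)) (tt N3555 D8456))
theorem Q2896 : ∀ i, i < 2896 → P i := stepQ 2895 Q2895 (allL N2895 (tt N3541 (iv F32180)) (tt N2357 F23831) (tt N3556 D8457) (tt N2353 (iv D6170)) (tt N3519 (iv F32079)) (tt N2692 F23832) (tt N3554 (iv F32249)) (tt N2895 F23833) (tt N3557 D8458))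
theorem Q2897 : ∀ i, i < 2897 → P i := stepQ 2896 Q2896 (allL N2896 (tt N3542 (iv F32184)) (tt N2358 F23834) (tt N3547 (iv F32215)) (tt N3557 (iv F32258)) (tt N2355 F23835) (tt N2693 F23836) (tt N3555 (iv F32253)) (tt N2382 F23837) (tt N2353 (iv D6171)))
theorem Q2898 : ∀ i, i < 2898 → P i := stepQ 2897 Q2897 (allL N2897 (tt N3543 (iv F32189)) (tt N2359 F23838) (tt N3548 (iv F32224)) (tt N3521 (iv F32087)) (tt N3555 (iv F32252)) (tt N2897 F23839) (tt N2355 F23840) (tt N2383 F23841) (tt N2354 (iv D6172)))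
theorem Q2899 : ∀ i, i < 2899 → P i := stepQ 2898 Q2898 (allL N2898 (tt N2779 F23847) (tt N3554 (iv F32248)) (tt N3406 (iv F38339)) (tt N2356 (iv D6174)) (tt N3523 (iv F32097)) (tt N3408 (iv F38401)) (tt N2357 F23848) (tt N2898 F23849) (tt N3558 D8462))
theorem Q2900 : ∀ i, i < 2900 → P i := stepQ 2899 Q2899 (allL N2899 (tt N2780 F23850) (tt N3555 (iv F32251)) (tt N2412 F23851) (tt N3558 (iv F32275)) (tt N2359 F23852) (tt N3464 (iv F38403)) (tt N2358 F23853) (tt N2386 F23854) (tt N2356 (iv D6175)))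
theorem Q2901 : ∀ i, i < 2901 → P i := stepQ 2900 Q2900 (allL N2900 (tt N2781 F23855) (tt N3559 D8463) (tt N2357 (iv D6176)) (tt N2384 F38392) (tt N3525 (iv F32107)) (tt N2385 (iv F38470)) (tt N3406 F38393) (tt N2900 F23858) (tt N3560 D8464))
theorem Q2902 : ∀ i, i < 2902 → P i := stepQ 2901 Q2901 (allL N2901 (tt N2782 F23859) (tt N3557 (iv F32257)) (tt N3560 (iv F32281)) (tt N2358 F23860) (tt N3526 (iv F32112)) (tt N2694 F23861) (tt N3558 (iv F32276)) (tt N3561 D8465) (tt N2357 (iv D6177)))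
theorem Q2903 : ∀ i, i < 2903 → P i := stepQ 2902 Q2902 (allL N2902 (tt N2414 F23862) (tt N2362 F23863) (tt N3273 (iv F29573)) (tt N3562 D8466) (tt N2360 (iv D6178)) (tt N3370 (iv F31327)) (tt N3563 D8467) (tt N3564 D8468) (tt N3527 (iv F32118)))
theorem Q2904 : ∀ i, i < 2904 → P i := stepQ 2903 Q2903 (allL N2903 (tt N2415 F23864) (tt N2363 F23865) (tt N3092 (iv F38434)) (tt N2529 F23866) (tt N3563 (iv F32293)) (tt N2903 F23867) (tt N2360 (iv D6179)) (tt N3565 D8469) (tt N3528 (iv F32124)))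
theorem Q2905 : ∀ i, i < 2905 → P i := stepQ 2904 Q2904 (allL N2904 (tt N2416 F23868) (tt N2364 F23869) (tt N3274 (iv F29581)) (tt N3566 D8470) (tt N3564 (iv F32296)) (tt N2361 F23870) (tt N3565 (iv F32300)) (tt N2360 (iv D6180)) (tt N3567 D8471))
theorem Q2906 : ∀ i, i < 2906 → P i := stepQ 2905 Q2905 (allL N2905 (tt N2417 F23871) (tt N2365 F23872) (tt N3568 D8472) (tt N2361 (iv D6181)) (tt N3569 D8473) (tt N3566 (iv F32303)) (tt N2905 F23873) (tt N2531 F23874) (tt N3570 D8474))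
theorem Q2907 : ∀ i, i < 2907 → P i := stepQ 2906 Q2906 (allL N2906 (tt N2418 F23875) (tt N2366 F23876) (tt N3276 (iv F29589)) (tt N3570 (iv F32318)) (tt N3374 (iv F31343)) (tt N3567 (iv F32307)) (tt N2906 F23877) (tt N3531 (iv F32138)) (tt N2361 (iv D6182)))
theorem Q2908 : ∀ i, i < 2908 → P i := stepQ 2907 Q2907 (allL N2907 (tt N2371 F23878) (tt N3562 (iv F32289)) (tt N2907 F23879) (tt N2362 (iv D6183)) (tt N2533 F23880) (tt N3375 (iv F31349)) (tt N3571 D8475) (tt N3572 D8476) (tt N3532 (iv F32143)))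
theorem Q2909 : ∀ i, i < 2909 → P i := stepQ 2908 Q2908 (allL N2908 (tt N2372 F23881) (tt N3563 (iv F32292)) (tt N2367 F23882) (tt N3571 (iv F32322)) (tt N2363 F23883) (tt N3573 D8477) (tt N2362 (iv D6184)) (tt N3574 D8478) (tt N3533 (iv F32147)))
theorem Q2910 : ∀ i, i < 2910 → P i := stepQ 2909 Q2909 (allL N2909 (tt N2373 F23884) (tt N3564 (iv F32295)) (tt N2368 F23885) (tt N3575 D8479) (tt N2364 F23886) (tt N3377 (iv F31358)) (tt N3574 (iv F32333)) (tt N2362 (iv D6185)) (tt N3576 D8480))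
theorem Q2911 : ∀ i, i < 2911 → P i := stepQ 2910 Q2910 (allL N2910 (tt N2374 F23887) (tt N3565 (iv F32298)) (tt N2369 F23888) (tt N3577 D8481) (tt N3574 (iv F32332)) (tt N2910 F23889) (tt N2364 F23890) (tt N2363 (iv D6186)) (tt N3578 D8482))
theorem Q2912 : ∀ i, i < 2912 → P i := stepQ 2911 Q2911 (allL N2911 (tt N2375 F23891) (tt N3566 (iv F32302)) (tt N2911 F23892) (tt N2364 (iv D6187)) (tt N3579 D8483) (tt N2365 F23893) (tt N3577 (iv F32341)) (tt N2537 F23894) (tt N3580 D8484))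
theorem Q2913 : ∀ i, i < 2913 → P i := stepQ 2912 Q2912 (allL N2912 (tt N2376 F23895) (tt N3567 (iv F32306)) (tt N2370 F23896) (tt N3580 (iv F32352)) (tt N3576 (iv F32337)) (tt N2366 F23897) (tt N3578 (iv F32346)) (tt N3537 (iv F32162)) (tt N2364 (iv D6188)))
theorem Q2914 : ∀ i, i < 2914 → P i := stepQ 2913 Q2913 (allL N2913 (tt N2377 F23898) (tt N3569 (iv F32313)) (tt N2913 F23899) (tt N3381 (iv F31371)) (tt N2365 (iv D6189)) (tt N3581 D8485) (tt N2913 F23900) (tt N2539 F23901) (tt N3582 D8486))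
theorem Q2915 : ∀ i, i < 2915 → P i := stepQ 2914 Q2914 (allL N2914 (tt N2378 F23902) (tt N3570 (iv F32317)) (tt N2914 F23903) (tt N2366 F23904) (tt N3582 (iv F32359)) (tt N3580 (iv F32353)) (tt N2914 F23905) (tt N3583 D8487) (tt N2365 (iv D6190)))
theorem Q2916 : ∀ i, i < 2916 → P i := stepQ 2915 Q2915 (allL N2915 (tt N2379 F23906) (tt N2854 (iv F38405)) (tt N3573 (iv F32328)) (tt N2915 F23907) (tt N2915 F23908) (tt N2367 (iv D6191)) (tt N3383 (iv F31380)) (tt N3584 D8488) (tt N3502 (iv F38398)))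
theorem Q2917 : ∀ i, i < 2917 → P i := stepQ 2916 Q2916 (allL N2916 (tt N2380 F23909) (tt N3019 (iv F38520)) (tt N3574 (iv F32331)) (tt N3585 D8489) (tt N2369 F23910) (tt N3584 (iv F32367)) (tt N2368 F23911) (tt N2367 (iv D6192)) (tt N3586 D8490))
theorem Q2918 : ∀ i, i < 2918 → P i := stepQ 2917 Q2917 (allL N2917 (tt N2381 F23912) (tt N3283 (iv F29628)) (tt N3587 D8491) (tt N2368 (iv D6193)) (tt N2917 F23913) (tt N3385 (iv F31386)) (tt N3585 (iv F32370)) (tt N2917 F23914) (tt N3588 D8492))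
theorem Q2919 : ∀ i, i < 2919 → P i := stepQ 2918 Q2918 (allL N2918 (tt N2382 F23915) (tt N3284 (iv F29632)) (tt N3576 (iv F32336)) (tt N3588 (iv F32379)) (tt N2370 F23916) (tt N3386 (iv F31390)) (tt N3586 (iv F32374)) (tt N3542 (iv F32188)) (tt N2368 (iv D6194)))
theorem Q2920 : ∀ i, i < 2920 → P i := stepQ 2919 Q2919 (allL N2919 (tt N2383 F23917) (tt N3091 (iv F38569)) (tt N3578 (iv F32344)) (tt N2919 F23918) (tt N3586 (iv F32373)) (tt N2919 F23919) (tt N2370 F23920) (tt N3543 (iv F32193)) (tt N2369 (iv D6195)))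
theorem Q2921 : ∀ i, i < 2921 → P i := stepQ 2920 Q2920 (allL N2920 (tt N3571 (iv F32320)) (tt N2432 F23921) (tt N2920 F23922) (tt N2372 F23923) (tt N2541 F23924) (tt N3589 D8493) (tt N2371 (iv D6196)) (tt N3590 D8494) (tt N2560 F38727))
theorem Q2922 : ∀ i, i < 2922 → P i := stepQ 2921 Q2921 (allL N2921 (tt N3572 (iv F32324)) (tt N2433 F23925) (tt N2921 F23926) (tt N3591 D8495) (tt N2542 F23927) (tt N3389 (iv F31404)) (tt N3590 (iv F32387)) (tt N2371 (iv D6197)) (tt N3592 D8496))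
theorem Q2923 : ∀ i, i < 2923 → P i := stepQ 2922 Q2922 (allL N2922 (tt N3573 (iv F32327)) (tt N2434 F23928) (tt N2379 F23929) (tt N3589 (iv F32383)) (tt N2922 F23930) (tt N2372 (iv D6198)) (tt N3390 (iv F31408)) (tt N3593 D8497) (tt N3500 (iv F38298)))
theorem Q2924 : ∀ i, i < 2924 → P i := stepQ 2923 Q2923 (allL N2923 (tt N3574 (iv F32330)) (tt N2435 F23931) (tt N2380 F23932) (tt N3594 D8498) (tt N2374 F23933) (tt N3593 (iv F32396)) (tt N2373 F23934) (tt N2372 (iv D6199)) (tt N3595 D8499))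
theorem Q2925 : ∀ i, i < 2925 → P i := stepQ 2924 Q2924 (allL N2924 (tt N3575 (iv F32334)) (tt N2436 F23935) (tt N3596 D8500) (tt N2373 (iv D6200)) (tt N3597 D8501) (tt N3392 (iv F31415)) (tt N3594 (iv F32398)) (tt N3591 (iv F32389)) (tt N3598 D8502))
theorem Q2926 : ∀ i, i < 2926 → P i := stepQ 2925 Q2925 (allL N2925 (tt N3576 (iv F32335)) (tt N2437 F23936) (tt N2382 F23937) (tt N3598 (iv F32407)) (tt N2376 F23938) (tt N3393 (iv F31419)) (tt N3595 (iv F32402)) (tt N3547 (iv F32218)) (tt N2373 (iv D6201)))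
theorem Q2927 : ∀ i, i < 2927 → P i := stepQ 2926 Q2926 (allL N2926 (tt N3577 (iv F32338)) (tt N2438 F23939) (tt N2926 F23940) (tt N2374 (iv D6202)) (tt N3599 D8503) (tt N2926 F23941) (tt N2375 F23942) (tt N2544 F23943) (tt N3600 D8504))
theorem Q2928 : ∀ i, i < 2928 → P i := stepQ 2927 Q2927 (allL N2927 (tt N3578 (iv F32343)) (tt N2439 F23944) (tt N2383 F23945) (tt N3600 (iv F32414)) (tt N3595 (iv F32401)) (tt N2927 F23946) (tt N2376 F23947) (tt N3548 (iv F32227)) (tt N2374 (iv D6203)))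
theorem Q2929 : ∀ i, i < 2929 → P i := stepQ 2928 Q2928 (allL N2928 (tt N3579 (iv F32347)) (tt N2440 F23948) (tt N2928 F23949) (tt N3597 (iv F32405)) (tt N2375 (iv D6204)) (tt N3601 D8505) (tt N3599 (iv F32410)) (tt N2545 F23950) (tt N3602 D8506))
theorem Q2930 : ∀ i, i < 2930 → P i := stepQ 2929 Q2929 (allL N2929 (tt N3580 (iv F32350)) (tt N2441 F23951) (tt N2929 F23952) (tt N2376 F23953) (tt N3602 (iv F32423)) (tt N2378 F23954) (tt N3600 (iv F32416)) (tt N3603 D8507) (tt N2375 (iv D6205)))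
theorem Q2931 : ∀ i, i < 2931 → P i := stepQ 2930 Q2930 (allL N2930 (tt N3581 (iv F32354)) (tt N2442 F23955) (tt N2930 F23956) (tt N3398 (iv F31436)) (tt N3601 (iv F32419)) (tt N2377 (iv D6206)) (tt N3604 D8508) (tt N2547 F23957) (tt N3605 D8509))
theorem Q2932 : ∀ i, i < 2932 → P i := stepQ 2931 Q2931 (allL N2931 (tt N3582 (iv F32357)) (tt N2443 F23958) (tt N2931 F23959) (tt N3399 (iv F31439)) (tt N2378 F23960) (tt N3605 (iv F32434)) (tt N2931 F23961) (tt N3606 D8510) (tt N2377 (iv D6207)))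
theorem Q2933 : ∀ i, i < 2933 → P i := stepQ 2932 Q2932 (allL N2932 (tt N3583 (iv F32361)) (tt N2444 F23962) (tt N2932 F23963) (tt N3553 (iv F32241)) (tt N3606 (iv F32437)) (tt N3603 (iv F32426)) (tt N2932 F23964) (tt N2378 (iv D6208)) (tt N2549 F23965))
theorem Q2934 : ∀ i, i < 2934 → P i := stepQ 2933 Q2933 (allL N2933 (tt N3584 (iv F32365)) (tt N2384 F23966) (tt N3593 (iv F32394)) (tt N3559 (iv F38469)) (tt N2933 F23967) (tt N2380 F23968) (tt N3401 (iv F31449)) (tt N2379 (iv D6209)) (tt N3607 D8512))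
theorem Q2935 : ∀ i, i < 2935 → P i := stepQ 2934 Q2934 (allL N2934 (tt N3585 (iv F32368)) (tt N2385 F23969) (tt N3608 D8513) (tt N2380 (iv D6210)) (tt N2934 F23970) (tt N3559 F38516) (tt N2381 F23971) (tt N2934 F23972) (tt N3609 D8514))
theorem Q2936 : ∀ i, i < 2936 → P i := stepQ 2935 Q2935 (allL N2935 (tt N3586 (iv F32372)) (tt N2386 F23973) (tt N3595 (iv F32400)) (tt N3609 (iv F32450)) (tt N2383 F23974) (tt N3607 (iv F32445)) (tt N2382 F23975) (tt N3555 (iv F32254)) (tt N2380 (iv D6211)))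
theorem Q2937 : ∀ i, i < 2937 → P i := stepQ 2936 Q2936 (allL N2936 (tt N3587 (iv F32375)) (tt N3610 D8515) (tt N2381 (iv D6212)) (tt N3596 (iv F32403)) (tt N2936 F23976) (tt N3404 (iv F31457)) (tt N3608 (iv F32447)) (tt N2936 F23977) (tt N3611 D8516))
theorem Q2938 : ∀ i, i < 2938 → P i := stepQ 2937 Q2937 (allL N2937 (tt N3588 (iv F32378)) (tt N2388 F23978) (tt N3611 (iv F32456)) (tt N2382 F23979) (tt N2937 F23980) (tt N3405 (iv F31461)) (tt N3609 (iv F32452)) (tt N3612 D8517) (tt N2381 (iv D6213)))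
theorem Q2939 : ∀ i, i < 2939 → P i := stepQ 2938 Q2938 (allL N2938 (tt N2823 (iv F38411)) (tt N3607 (iv F32443)) (tt N2413 F38394) (tt N3560 (iv F38471)) (tt N2938 F23984) (tt N2386 F23985) (tt N3407 (iv F31468)) (tt N3464 (iv F38404)) (tt N2384 (iv D6215)))
theorem Q2940 : ∀ i, i < 2940 → P i := stepQ 2939 Q2939 (allL N2939 (tt N2941 (iv F38525)) (tt N3609 (iv F32449)) (tt N2694 (iv F38546)) (tt N2386 F23990) (tt N2939 F23991) (tt N3560 F38517) (tt N2388 F23992) (tt N3613 D8523) (tt N2385 (iv D6217)))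
theorem Q2941 : ∀ i, i < 2941 → P i := stepQ 2940 Q2940 (allL N2940 (tt N3614 D8524) (tt N2387 (iv D6218)) (tt N3610 (iv F32453)) (tt N2448 F23993) (tt N2940 F23994) (tt N3410 (iv F31476)) (tt N2692 (iv F38543)) (tt N2940 F23995) (tt N3615 D8525))
theorem Q2942 : ∀ i, i < 2942 → P i := stepQ 2941 Q2941 (allL N2941 (tt N2939 F38525) (tt N3615 (iv F32483)) (tt N2388 F23996) (tt N2449 F23997) (tt N2941 F23998) (tt N3411 (iv F31480)) (tt N2694 (iv F38547)) (tt N3616 D8526) (tt N2387 (iv D6219)))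
theorem Q2943 : ∀ i, i < 2943 → P i := stepQ 2942 Q2942 (allL N2942 (tt N3295 (iv F29722)) (tt N3612 (iv F32458)) (tt N3616 (iv F32486)) (tt N3561 (iv F32285)) (tt N2942 F23999) (tt N3412 (iv F31482)) (tt N3613 (iv F32478)) (tt N2388 (iv D6220)) (tt N2942 F24000))
theorem Q2944 : ∀ i, i < 2944 → P i := stepQ 2943 Q2943 (allL N2943 (tt N3527 (iv F32114)) (tt N2391 F24001) (tt N2783 F24002) (tt N3617 D8527) (tt N2389 (iv D6221)) (tt N2695 F24003) (tt N3618 D8528) (tt N3619 D8529) (tt N2414 F24004))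
theorem Q2945 : ∀ i, i < 2945 → P i := stepQ 2944 Q2944 (allL N2944 (tt N3528 (iv F32119)) (tt N2392 F24005) (tt N2784 F24006) (tt N2551 F24007) (tt N3618 (iv F32495)) (tt N2944 F24008) (tt N2389 (iv D6222)) (tt N3620 D8530) (tt N2415 F24009))
theorem Q2946 : ∀ i, i < 2946 → P i := stepQ 2945 Q2945 (allL N2945 (tt N3529 (iv F32125)) (tt N2393 F24010) (tt N2785 F24011) (tt N3621 D8531) (tt N3619 (iv F32499)) (tt N2390 F24012) (tt N3620 (iv F32504)) (tt N2389 (iv D6223)) (tt N3622 D8532))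
theorem Q2947 : ∀ i, i < 2947 → P i := stepQ 2946 Q2946 (allL N2946 (tt N3530 (iv F32129)) (tt N2394 F24013) (tt N3623 D8533) (tt N2390 (iv D6224)) (tt N3624 D8534) (tt N3621 (iv F32506)) (tt N2946 F24014) (tt N2553 F24015) (tt N3625 D8535))
theorem Q2948 : ∀ i, i < 2948 → P i := stepQ 2947 Q2947 (allL N2947 (tt N3531 (iv F32133)) (tt N2395 F24016) (tt N2787 F24017) (tt N3625 (iv F32521)) (tt N2698 F24018) (tt N3622 (iv F32510)) (tt N2947 F24019) (tt N2418 F24020) (tt N2390 (iv D6225)))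
theorem Q2949 : ∀ i, i < 2949 → P i := stepQ 2948 Q2948 (allL N2948 (tt N2400 F24021) (tt N3617 (iv F32489)) (tt N2455 F24022) (tt N2391 (iv D6226)) (tt N2555 F24023) (tt N2699 F24024) (tt N3626 D8536) (tt N3627 D8537) (tt N2419 F24025))
theorem Q2950 : ∀ i, i < 2950 → P i := stepQ 2949 Q2949 (allL N2949 (tt N2401 F24026) (tt N3618 (iv F32493)) (tt N2396 F24027) (tt N3626 (iv F32525)) (tt N2392 F24028) (tt N3487 (iv F38173)) (tt N2391 (iv D6227)) (tt N3628 D8539) (tt N2420 F24029))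
theorem Q2951 : ∀ i, i < 2951 → P i := stepQ 2950 Q2950 (allL N2950 (tt N2402 F24030) (tt N3619 (iv F32497)) (tt N2397 F24031) (tt N3629 D8540) (tt N2393 F24032) (tt N2700 F24033) (tt N3628 (iv F32540)) (tt N2391 (iv D6228)) (tt N3630 D8541))
theorem Q2952 : ∀ i, i < 2952 → P i := stepQ 2951 Q2951 (allL N2951 (tt N2403 F24034) (tt N3620 (iv F32501)) (tt N2398 F24035) (tt N3631 D8542) (tt N3628 (iv F32539)) (tt N2951 F24036) (tt N2393 F24037) (tt N2392 (iv D6229)) (tt N3632 D8543))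
theorem Q2953 : ∀ i, i < 2953 → P i := stepQ 2952 Q2952 (allL N2952 (tt N2404 F24038) (tt N3621 (iv F32505)) (tt N2952 F24039) (tt N2393 (iv D6230)) (tt N3633 D8544) (tt N2394 F24040) (tt N3631 (iv F32551)) (tt N2556 F24041) (tt N3634 D8545))
theorem Q2954 : ∀ i, i < 2954 → P i := stepQ 2953 Q2953 (allL N2953 (tt N2405 F24042) (tt N3622 (iv F32508)) (tt N2399 F24043) (tt N3634 (iv F32563)) (tt N3630 (iv F32545)) (tt N2395 F24044) (tt N3632 (iv F32556)) (tt N2424 F24045) (tt N2393 (iv D6231)))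
theorem Q2955 : ∀ i, i < 2955 → P i := stepQ 2954 Q2954 (allL N2954 (tt N2406 F24046) (tt N3624 (iv F32516)) (tt N2954 F24047) (tt N2703 F24048) (tt N2394 (iv D6232)) (tt N3635 D8546) (tt N2954 F24049) (tt N2557 F24050) (tt N3636 D8547))
theorem Q2956 : ∀ i, i < 2956 → P i := stepQ 2955 Q2955 (allL N2955 (tt N2407 F24051) (tt N3625 (iv F32520)) (tt N2955 F24052) (tt N2395 F24053) (tt N3636 (iv F32572)) (tt N3634 (iv F32564)) (tt N2955 F24054) (tt N3637 D8548) (tt N2394 (iv D6233)))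
theorem Q2957 : ∀ i, i < 2957 → P i := stepQ 2956 Q2956 (allL N2956 (tt N2408 F24061) (tt N2797 F24062) (tt N3628 (iv F32538)) (tt N3435 (iv F38110)) (tt N2398 F24063) (tt N3436 (iv F38176)) (tt N2397 F24064) (tt N2396 (iv D6235)) (tt N3638 D8551))
theorem Q2958 : ∀ i, i < 2958 → P i := stepQ 2957 Q2957 (allL N2957 (tt N2409 F24065) (tt N2798 F24066) (tt N3639 D8552) (tt N2397 (iv D6236)) (tt N2957 F24067) (tt N2428 (iv F38238)) (tt N3435 F38169) (tt N2427 F38170) (tt N3640 D8553))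
theorem Q2959 : ∀ i, i < 2959 → P i := stepQ 2958 Q2958 (allL N2958 (tt N2410 F24070) (tt N2799 F24071) (tt N3630 (iv F32544)) (tt N3640 (iv F32600)) (tt N2399 F24072) (tt N2705 F24073) (tt N3638 (iv F32592)) (tt N2430 F24074) (tt N2397 (iv D6237)))
theorem Q2960 : ∀ i, i < 2960 → P i := stepQ 2959 Q2959 (allL N2959 (tt N2411 F24075) (tt N2800 F24076) (tt N3632 (iv F32554)) (tt N2959 F24077) (tt N3638 (iv F32591)) (tt N2959 F24078) (tt N2399 F24079) (tt N2431 F24080) (tt N2398 (iv D6238)))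
theorem Q2961 : ∀ i, i < 2961 → P i := stepQ 2960 Q2960 (allL N2960 (tt N3626 (iv F32523)) (tt N2560 (iv F38667)) (tt N2460 F24081) (tt N2401 F24082) (tt N2525 F38636) (tt N3496 (iv F38186)) (tt N2400 (iv D6239)) (tt N3549 (iv F38681)) (tt N2432 F24084))
theorem Q2962 : ∀ i, i < 2962 → P i := stepQ 2961 Q2961 (allL N2961 (tt N3627 (iv F32528)) (tt N3544 (iv F32199)) (tt N2461 F24085) (tt N3641 D8556) (tt N2559 F24086) (tt N2706 F24087) (tt N3549 (iv F38680)) (tt N2400 (iv D6240)) (tt N3642 D8557))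
theorem Q2963 : ∀ i, i < 2963 → P i := stepQ 2962 Q2962 (allL N2962 (tt N3628 (iv F32537)) (tt N3545 (iv F32208)) (tt N2408 F24092) (tt N3643 D8559) (tt N2403 F24093) (tt N3459 (iv F38299)) (tt N2402 F24094) (tt N2401 (iv D6242)) (tt N3644 D8560))
theorem Q2964 : ∀ i, i < 2964 → P i := stepQ 2963 Q2963 (allL N2963 (tt N3629 (iv F32541)) (tt N3546 (iv F32212)) (tt N3645 D8561) (tt N2402 (iv D6243)) (tt N3646 D8562) (tt N2707 F24095) (tt N3643 (iv F32620)) (tt N3641 (iv F32611)) (tt N3647 D8563))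
theorem Q2965 : ∀ i, i < 2965 → P i := stepQ 2964 Q2964 (allL N2964 (tt N3630 (iv F32543)) (tt N3547 (iv F32214)) (tt N2410 F24096) (tt N3647 (iv F32628)) (tt N2405 F24097) (tt N2708 F24098) (tt N3644 (iv F32623)) (tt N2437 F24099) (tt N2402 (iv D6244)))
theorem Q2966 : ∀ i, i < 2966 → P i := stepQ 2965 Q2965 (allL N2965 (tt N3631 (iv F32548)) (tt N2559 F38728) (tt N2965 F24100) (tt N2403 (iv D6245)) (tt N3544 (iv F38789)) (tt N2965 F24101) (tt N2404 F24102) (tt N2524 F38729) (tt N3648 D8565))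
theorem Q2967 : ∀ i, i < 2967 → P i := stepQ 2966 Q2966 (allL N2966 (tt N3632 (iv F32553)) (tt N3548 (iv F32223)) (tt N2411 F24104) (tt N3648 (iv F32634)) (tt N3644 (iv F32622)) (tt N2966 F24105) (tt N2405 F24106) (tt N2439 F24107) (tt N2403 (iv D6246)))
theorem Q2968 : ∀ i, i < 2968 → P i := stepQ 2967 Q2967 (allL N2967 (tt N3633 (iv F32558)) (tt N3549 (iv F32228)) (tt N2967 F24108) (tt N3646 (iv F32627)) (tt N2404 (iv D6247)) (tt N3649 D8566) (tt N3544 (iv F38790)) (tt N2560 F24109) (tt N3650 D8567))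
theorem Q2969 : ∀ i, i < 2969 → P i := stepQ 2968 Q2968 (allL N2968 (tt N3634 (iv F32561)) (tt N3550 (iv F32230)) (tt N2968 F24110) (tt N2405 F24111) (tt N3650 (iv F32641)) (tt N2407 F24112) (tt N3648 (iv F32636)) (tt N3651 D8568) (tt N2404 (iv D6248)))
theorem Q2970 : ∀ i, i < 2970 → P i := stepQ 2969 Q2969 (allL N2969 (tt N3635 (iv F32565)) (tt N3551 (iv F32233)) (tt N2969 F24113) (tt N2711 F24114) (tt N3649 (iv F32638)) (tt N2406 (iv D6249)) (tt N3652 D8569) (tt N2561 F24115) (tt N3653 D8570))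
theorem Q2971 : ∀ i, i < 2971 → P i := stepQ 2970 Q2970 (allL N2970 (tt N3636 (iv F32569)) (tt N3552 (iv F32236)) (tt N2970 F24116) (tt N2712 F24117) (tt N2407 F24118) (tt N3653 (iv F32652)) (tt N2970 F24119) (tt N3654 D8571) (tt N2406 (iv D6250)))
theorem Q2972 : ∀ i, i < 2972 → P i := stepQ 2971 Q2971 (allL N2971 (tt N3637 (iv F32574)) (tt N3553 (iv F32240)) (tt N2971 F24120) (tt N2444 F24121) (tt N3654 (iv F32654)) (tt N3651 (iv F32644)) (tt N2971 F24122) (tt N2407 (iv D6251)) (tt N2563 F24123))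
theorem Q2973 : ∀ i, i < 2973 → P i := stepQ 2972 Q2972 (allL N2972 (tt N3638 (iv F32589)) (tt N2412 F24132) (tt N3644 (iv F32621)) (tt N3458 (iv F38217)) (tt N2411 F24133) (tt N3460 (iv F38300)) (tt N2410 F24134) (tt N2445 F24135) (tt N2408 (iv D6254)))
theorem Q2974 : ∀ i, i < 2974 → P i := stepQ 2973 Q2973 (allL N2973 (tt N3639 (iv F32594)) (tt N3593 (iv F38328)) (tt N2409 (iv D6255)) (tt N3645 (iv F32625)) (tt N2973 F24136) (tt N2435 (iv F38329)) (tt N3444 F38262) (tt N2434 F38263) (tt N3655 D8577))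
theorem Q2975 : ∀ i, i < 2975 → P i := stepQ 2974 Q2974 (allL N2974 (tt N3640 (iv F32598)) (tt N2413 F24139) (tt N3655 (iv F32677)) (tt N2410 F24140) (tt N2974 F24141) (tt N2445 (iv F38333)) (tt N3458 F38268) (tt N3460 (iv F38301)) (tt N2409 (iv D6256)))
theorem Q2976 : ∀ i, i < 2976 → P i := stepQ 2975 Q2975 (allL N2975 (tt N3562 (iv F32288)) (tt N2419 F24172) (tt N3656 D8588) (tt N2414 (iv D6264)) (tt N2564 F24173) (tt N3413 (iv F31486)) (tt N3657 D8589) (tt N3658 D8590) (tt N3617 (iv F32492)))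
theorem Q2977 : ∀ i, i < 2977 → P i := stepQ 2976 Q2976 (allL N2976 (tt N3563 (iv F32291)) (tt N2420 F24174) (tt N3043 (iv F38305)) (tt N3657 (iv F32725)) (tt N2415 F24175) (tt N3659 D8591) (tt N2414 (iv D6265)) (tt N3660 D8592) (tt N3618 (iv F32496)))
theorem Q2978 : ∀ i, i < 2978 → P i := stepQ 2977 Q2977 (allL N2977 (tt N3564 (iv F32294)) (tt N2421 F24176) (tt N3297 (iv F29731)) (tt N3661 D8593) (tt N2416 F24177) (tt N3415 (iv F31493)) (tt N3660 (iv F32733)) (tt N2414 (iv D6266)) (tt N3662 D8594))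
theorem Q2979 : ∀ i, i < 2979 → P i := stepQ 2978 Q2978 (allL N2978 (tt N3565 (iv F32297)) (tt N2422 F24178) (tt N3072 (iv F38436)) (tt N3663 D8595) (tt N3660 (iv F32732)) (tt N2978 F24179) (tt N2416 F24180) (tt N2415 (iv D6267)) (tt N3664 D8596))
theorem Q2980 : ∀ i, i < 2980 → P i := stepQ 2979 Q2979 (allL N2979 (tt N3566 (iv F32301)) (tt N2423 F24181) (tt N3665 D8597) (tt N2416 (iv D6268)) (tt N3666 D8598) (tt N2417 F24182) (tt N3663 (iv F32739)) (tt N2568 F24183) (tt N3667 D8599))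
theorem Q2981 : ∀ i, i < 2981 → P i := stepQ 2980 Q2980 (allL N2980 (tt N3567 (iv F32305)) (tt N2424 F24184) (tt N3299 (iv F29741)) (tt N3667 (iv F32750)) (tt N3662 (iv F32736)) (tt N2418 F24185) (tt N3664 (iv F32743)) (tt N3622 (iv F32511)) (tt N2416 (iv D6269)))
theorem Q2982 : ∀ i, i < 2982 → P i := stepQ 2981 Q2981 (allL N2981 (tt N3568 (iv F32308)) (tt N2481 F24186) (tt N2417 (iv D6270)) (tt N3300 (iv F29744)) (tt N3668 D8600) (tt N3665 (iv F32745)) (tt N2981 F24187) (tt N2570 F24188) (tt N3669 D8601))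
theorem Q2983 : ∀ i, i < 2983 → P i := stepQ 2982 Q2982 (allL N2982 (tt N3569 (iv F32312)) (tt N2425 F24189) (tt N3668 (iv F32753)) (tt N3420 (iv F31507)) (tt N2417 (iv D6271)) (tt N3670 D8602) (tt N2982 F24190) (tt N2571 F24191) (tt N3671 D8603))
theorem Q2984 : ∀ i, i < 2984 → P i := stepQ 2983 Q2983 (allL N2983 (tt N3570 (iv F32316)) (tt N2426 F24192) (tt N3669 (iv F32757)) (tt N2418 F24193) (tt N3671 (iv F32762)) (tt N3667 (iv F32751)) (tt N2983 F24194) (tt N3672 D8604) (tt N2417 (iv D6272)))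
theorem Q2985 : ∀ i, i < 2985 → P i := stepQ 2984 Q2984 (allL N2984 (tt N2432 F24195) (tt N3657 (iv F32724)) (tt N2467 F24196) (tt N2420 F24197) (tt N2573 F24198) (tt N3673 D8605) (tt N2419 (iv D6273)) (tt N3674 D8606) (tt N3626 (iv F32527)))
theorem Q2986 : ∀ i, i < 2986 → P i := stepQ 2985 Q2985 (allL N2985 (tt N2433 F24199) (tt N3658 (iv F32727)) (tt N2468 F24200) (tt N3675 D8607) (tt N2574 F24201) (tt N3423 (iv F31521)) (tt N3674 (iv F32773)) (tt N2419 (iv D6274)) (tt N3676 D8608))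
theorem Q2987 : ∀ i, i < 2987 → P i := stepQ 2986 Q2986 (allL N2986 (tt N2434 F24202) (tt N3659 (iv F32729)) (tt N2427 F24203) (tt N3673 (iv F32769)) (tt N2986 F24204) (tt N2420 (iv D6275)) (tt N3424 (iv F31525)) (tt N3639 (iv F38237)) (tt N3487 (iv F38174)))
theorem Q2988 : ∀ i, i < 2988 → P i := stepQ 2987 Q2987 (allL N2987 (tt N2435 F24205) (tt N3660 (iv F32731)) (tt N2428 F24206) (tt N3677 D8610) (tt N2422 F24207) (tt N3639 F38295) (tt N2421 F24208) (tt N2420 (iv D6276)) (tt N3678 D8611))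
theorem Q2989 : ∀ i, i < 2989 → P i := stepQ 2988 Q2988 (allL N2988 (tt N2436 F24209) (tt N3661 (iv F32734)) (tt N3679 D8612) (tt N2421 (iv D6277)) (tt N3680 D8613) (tt N3426 (iv F31532)) (tt N3677 (iv F32784)) (tt N3675 (iv F32775)) (tt N3681 D8614))
theorem Q2990 : ∀ i, i < 2990 → P i := stepQ 2989 Q2989 (allL N2989 (tt N2437 F24210) (tt N3662 (iv F32735)) (tt N2430 F24211) (tt N3681 (iv F32794)) (tt N2424 F24212) (tt N3427 (iv F31536)) (tt N3678 (iv F32788)) (tt N3630 (iv F32547)) (tt N2421 (iv D6278)))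
theorem Q2991 : ∀ i, i < 2991 → P i := stepQ 2990 Q2990 (allL N2990 (tt N2438 F24213) (tt N3663 (iv F32737)) (tt N2486 F24214) (tt N2422 (iv D6279)) (tt N3682 D8615) (tt N2990 F24215) (tt N2423 F24216) (tt N2576 F24217) (tt N3683 D8616))
theorem Q2992 : ∀ i, i < 2992 → P i := stepQ 2991 Q2991 (allL N2991 (tt N2439 F24218) (tt N3664 (iv F32741)) (tt N2431 F24219) (tt N3683 (iv F32801)) (tt N3678 (iv F32787)) (tt N2991 F24220) (tt N2424 F24221) (tt N3632 (iv F32557)) (tt N2422 (iv D6280)))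
theorem Q2993 : ∀ i, i < 2993 → P i := stepQ 2992 Q2992 (allL N2992 (tt N2440 F24222) (tt N3666 (iv F32747)) (tt N2488 F24223) (tt N3680 (iv F32792)) (tt N2423 (iv D6281)) (tt N3684 D8617) (tt N3682 (iv F32797)) (tt N2577 F24224) (tt N3685 D8618))
theorem Q2994 : ∀ i, i < 2994 → P i := stepQ 2993 Q2993 (allL N2993 (tt N2441 F24225) (tt N3667 (iv F32749)) (tt N2489 F24226) (tt N2424 F24227) (tt N3685 (iv F32810)) (tt N2426 F24228) (tt N3683 (iv F32803)) (tt N3686 D8619) (tt N2423 (iv D6282)))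
theorem Q2995 : ∀ i, i < 2995 → P i := stepQ 2994 Q2994 (allL N2994 (tt N2442 F24229) (tt N3670 (iv F32759)) (tt N2490 F24230) (tt N3432 (iv F31557)) (tt N3684 (iv F32806)) (tt N2425 (iv D6283)) (tt N3687 D8620) (tt N2579 F24231) (tt N3688 D8621))
theorem Q2996 : ∀ i, i < 2996 → P i := stepQ 2995 Q2995 (allL N2995 (tt N2443 F24232) (tt N3671 (iv F32761)) (tt N2491 F24233) (tt N3433 (iv F31561)) (tt N2426 F24234) (tt N3688 (iv F32821)) (tt N2995 F24235) (tt N3689 D8622) (tt N2425 (iv D6284)))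
theorem Q2997 : ∀ i, i < 2997 → P i := stepQ 2996 Q2996 (allL N2996 (tt N2444 F24236) (tt N3672 (iv F32764)) (tt N2492 F24237) (tt N3637 (iv F32576)) (tt N3689 (iv F32824)) (tt N3686 (iv F32813)) (tt N2996 F24238) (tt N2426 (iv D6285)) (tt N2581 F24239))
theorem Q2998 : ∀ i, i < 2998 → P i := stepQ 2997 Q2997 (allL N2997 (tt N2445 F24247) (tt N2999 (iv F38307)) (tt N3678 (iv F32786)) (tt N2705 (iv F38363)) (tt N2431 F24248) (tt N3640 F38296) (tt N2430 F24249) (tt N3638 (iv F32593)) (tt N2428 (iv D6288)))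
theorem Q2999 : ∀ i, i < 2999 → P i := stepQ 2998 Q2998 (allL N2998 (tt N2446 F24250) (tt N3690 D8627) (tt N2429 (iv D6289)) (tt N3679 (iv F32790)) (tt N2493 F24251) (tt N3438 (iv F31583)) (tt N2700 (iv F38362)) (tt N2470 F24252) (tt N3691 D8628))
theorem Q3000 : ∀ i, i < 3000 → P i := stepQ 2999 Q2999 (allL N2999 (tt N2447 F24253) (tt N2997 F38307) (tt N3691 (iv F32844)) (tt N2430 F24254) (tt N2494 F24255) (tt N3439 (iv F31588)) (tt N2705 (iv F38364)) (tt N3437 F38308) (tt N2429 (iv D6290)))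
theorem Q3001 : ∀ i, i < 3001 → P i := stepQ 3000 Q3000 (allL N3000 (tt N3673 (iv F32767)) (tt N3589 (iv F32381)) (tt N2462 F38138) (tt N2434 F24257) (tt N3692 D8630) (tt N2432 (iv D6291)) (tt N3440 (iv F31591)) (tt N3693 D8631) (tt N3496 (iv F38187)))
theorem Q3002 : ∀ i, i < 3002 → P i := stepQ 3001 Q3001 (allL N3001 (tt N3674 (iv F32770)) (tt N3590 (iv F32384)) (tt N2471 F24258) (tt N3694 D8632) (tt N2582 F24259) (tt N3693 (iv F32853)) (tt N2433 F24260) (tt N2432 (iv D6292)) (tt N3695 D8633))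
theorem Q3003 : ∀ i, i < 3003 → P i := stepQ 3002 Q3002 (allL N3002 (tt N3675 (iv F32774)) (tt N3591 (iv F32388)) (tt N3696 D8634) (tt N2433 (iv D6293)) (tt N3697 D8635) (tt N3442 (iv F31596)) (tt N3694 (iv F32854)) (tt N2436 F24261) (tt N3698 D8636))
theorem Q3004 : ∀ i, i < 3004 → P i := stepQ 3003 Q3003 (allL N3003 (tt N3676 (iv F32776)) (tt N3592 (iv F32390)) (tt N2473 F24262) (tt N3698 (iv F32863)) (tt N2584 F24263) (tt N3443 (iv F31600)) (tt N3695 (iv F32858)) (tt N3642 (iv F32615)) (tt N2433 (iv D6294)))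
theorem Q3005 : ∀ i, i < 3005 → P i := stepQ 3004 Q3004 (allL N3004 (tt N3677 (iv F32783)) (tt N3594 (iv F32397)) (tt N2707 (iv F38463)) (tt N2435 (iv D6296)) (tt N3699 D8640) (tt N3645 F38390) (tt N2436 F24267) (tt N3694 (iv F32855)) (tt N3700 D8641))
theorem Q3006 : ∀ i, i < 3006 → P i := stepQ 3005 Q3005 (allL N3005 (tt N3678 (iv F32785)) (tt N3595 (iv F32399)) (tt N2445 F24268) (tt N3700 (iv F32872)) (tt N2439 F24269) (tt N3655 F38391) (tt N2437 F24270) (tt N3644 (iv F32624)) (tt N2435 (iv D6297)))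
theorem Q3007 : ∀ i, i < 3007 → P i := stepQ 3006 Q3006 (allL N3006 (tt N3679 (iv F32789)) (tt N3701 D8642) (tt N2436 (iv D6298)) (tt N2446 F24271) (tt N3702 D8643) (tt N3447 (iv F31612)) (tt N2707 (iv F38464)) (tt N3696 (iv F32860)) (tt N3703 D8644))
theorem Q3008 : ∀ i, i < 3008 → P i := stepQ 3007 Q3007 (allL N3007 (tt N3680 (iv F32791)) (tt N3597 (iv F32404)) (tt N3702 (iv F32875)) (tt N2440 F24272) (tt N2436 (iv D6299)) (tt N3704 D8645) (tt N3699 (iv F32871)) (tt N3697 (iv F32862)) (tt N3705 D8646))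
theorem Q3009 : ∀ i, i < 3009 → P i := stepQ 3008 Q3008 (allL N3008 (tt N3681 (iv F32793)) (tt N3598 (iv F32406)) (tt N3703 (iv F32877)) (tt N2437 F24273) (tt N3705 (iv F32881)) (tt N3449 (iv F31615)) (tt N3700 (iv F32873)) (tt N3706 D8647) (tt N2436 (iv D6300)))
theorem Q3010 : ∀ i, i < 3010 → P i := stepQ 3009 Q3009 (allL N3009 (tt N3682 (iv F32795)) (tt N3599 (iv F32408)) (tt N2498 F24274) (tt N3699 (iv F32870)) (tt N2438 (iv D6301)) (tt N3707 D8648) (tt N2440 F24275) (tt N2586 F24276) (tt N3708 D8649))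
theorem Q3011 : ∀ i, i < 3011 → P i := stepQ 3010 Q3010 (allL N3010 (tt N3683 (iv F32799)) (tt N3600 (iv F32412)) (tt N2499 F24277) (tt N2439 F24278) (tt N3708 (iv F32886)) (tt N3010 F24279) (tt N2441 F24280) (tt N3709 D8650) (tt N2438 (iv D6302)))
theorem Q3012 : ∀ i, i < 3012 → P i := stepQ 3011 Q3011 (allL N3011 (tt N3684 (iv F32804)) (tt N3601 (iv F32417)) (tt N2500 F24281) (tt N3704 (iv F32879)) (tt N2442 F24282) (tt N2440 (iv D6303)) (tt N3710 D8651) (tt N2587 F24283) (tt N3711 D8652))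
theorem Q3013 : ∀ i, i < 3013 → P i := stepQ 3012 Q3012 (allL N3012 (tt N3685 (iv F32808)) (tt N3602 (iv F32421)) (tt N2501 F24284) (tt N3705 (iv F32880)) (tt N2441 F24285) (tt N3711 (iv F32897)) (tt N3708 (iv F32887)) (tt N3712 D8653) (tt N2440 (iv D6304)))
theorem Q3014 : ∀ i, i < 3014 → P i := stepQ 3013 Q3013 (allL N3013 (tt N3686 (iv F32811)) (tt N3603 (iv F32424)) (tt N2502 F24286) (tt N3651 (iv F32643)) (tt N3712 (iv F32899)) (tt N2444 F24287) (tt N3709 (iv F32890)) (tt N2441 (iv D6305)) (tt N2589 F24288))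
theorem Q3015 : ∀ i, i < 3015 → P i := stepQ 3014 Q3014 (allL N3014 (tt N3687 (iv F32815)) (tt N3604 (iv F32428)) (tt N2503 F24289) (tt N3455 (iv F31633)) (tt N3710 (iv F32893)) (tt N3014 F24290) (tt N2442 (iv D6306)) (tt N2590 F24291) (tt N3713 D8654))
theorem Q3016 : ∀ i, i < 3016 → P i := stepQ 3015 Q3015 (allL N3015 (tt N3688 (iv F32819)) (tt N3605 (iv F32432)) (tt N2504 F24292) (tt N3456 (iv F31637)) (tt N3711 (iv F32896)) (tt N2443 F24293) (tt N3713 (iv F32903)) (tt N3714 D8655) (tt N2442 (iv D6307)))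
theorem Q3017 : ∀ i, i < 3017 → P i := stepQ 3016 Q3016 (allL N3016 (tt N3689 (iv F32822)) (tt N3606 (iv F32435)) (tt N2505 F24294) (tt N3715 D8656) (tt N2444 F24295) (tt N3714 (iv F32905)) (tt N3016 F24296) (tt N2443 (iv D6308)) (tt N2592 F24297))
theorem Q3018 : ∀ i, i < 3018 → P i := stepQ 3017 Q3017 (allL N3017 (tt N3716 D8663) (tt N2446 (iv D6313)) (tt N2448 F24311) (tt N3701 (iv F32874)) (tt N2506 F24312) (tt N3461 (iv F31661)) (tt N2687 (iv F38461)) (tt N2475 F24313) (tt N3717 D8664))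
theorem Q3019 : ∀ i, i < 3019 → P i := stepQ 3018 Q3018 (allL N3018 (tt N3691 (iv F32843)) (tt N3717 (iv F32932)) (tt N2447 F24314) (tt N3703 (iv F32878)) (tt N2507 F24315) (tt N3462 (iv F31665)) (tt N2708 (iv F38465)) (tt N3446 F38418) (tt N2446 (iv D6314)))
theorem Q3020 : ∀ i, i < 3020 → P i := stepQ 3019 Q3019 (allL N3019 (tt N2448 (iv D6322)) (tt N2916 F38520) (tt N3716 (iv F32929)) (tt N3614 (iv F32480)) (tt N2508 F24335) (tt N3465 (iv F31692)) (tt N2684 (iv F38540)) (tt N2476 F24336) (tt N3718 D8674))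
theorem Q3021 : ∀ i, i < 3021 → P i := stepQ 3020 Q3020 (allL N3020 (tt N3718 (iv F32960)) (tt N2449 F24337) (tt N3717 (iv F32933)) (tt N3615 (iv F32484)) (tt N2509 F24338) (tt N3466 (iv F31696)) (tt N2693 (iv F38544)) (tt N3403 F38522) (tt N2448 (iv D6323)))
theorem Q3022 : ∀ i, i < 3022 → P i := stepQ 3021 Q3021 (allL N3021 (tt N3021 F24342) (tt N2455 F24343) (tt N3719 D8677) (tt N2450 (iv D6325)) (tt N2593 F24344) (tt N2714 F24345) (tt N3720 D8678) (tt N3721 D8679) (tt N2464 F24346))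
theorem Q3023 : ∀ i, i < 3023 → P i := stepQ 3022 Q3022 (allL N3022 (tt N3022 F24347) (tt N2456 F24348) (tt N2825 F24349) (tt N3720 (iv F32973)) (tt N2451 F24350) (tt N3471 (iv F37854)) (tt N2450 (iv D6326)) (tt N3470 (iv F37774)) (tt N2465 F24351))
theorem Q3024 : ∀ i, i < 3024 → P i := stepQ 3023 Q3023 (allL N3023 (tt N3023 F24352) (tt N2457 F24353) (tt N2826 F24354) (tt N3722 D8682) (tt N2452 F24355) (tt N2465 (iv F37946)) (tt N3470 F37846) (tt N2450 (iv D6327)) (tt N3471 (iv F37857)))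
theorem Q3025 : ∀ i, i < 3025 → P i := stepQ 3024 Q3024 (allL N3024 (tt N3024 F24362) (tt N2458 F24363) (tt N3723 D8686) (tt N2452 (iv D6329)) (tt N3724 D8687) (tt N2453 F24364) (tt N3476 (iv F37859)) (tt N2597 F24365) (tt N3473 (iv F37763)))
theorem Q3026 : ∀ i, i < 3026 → P i := stepQ 3025 Q3025 (allL N3025 (tt N3025 F24371) (tt N3025 F24372) (tt N2453 (iv D6331)) (tt N2830 F24373) (tt N2675 (iv F37646)) (tt N3723 (iv F33014)) (tt N2665 F24374) (tt N2598 F24375) (tt N3725 D8690))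
theorem Q3027 : ∀ i, i < 3027 → P i := stepQ 3026 Q3026 (allL N3026 (tt N3026 F24381) (tt N2459 F24382) (tt N3725 (iv F33032)) (tt N2454 F24383) (tt N2667 (iv F37709)) (tt N3473 (iv F37762)) (tt N2663 F37698) (tt N3026 F24385) (tt N2453 (iv D6333)))
theorem Q3028 : ∀ i, i < 3028 → P i := stepQ 3027 Q3027 (allL N3027 (tt N2460 F24386) (tt N3720 (iv F32972)) (tt N3626 (iv F32524)) (tt N2456 F24387) (tt N2600 F24388) (tt N3482 (iv F38032)) (tt N2455 (iv D6334)) (tt N3726 D8694) (tt N2467 F24389))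
theorem Q3029 : ∀ i, i < 3029 → P i := stepQ 3028 Q3028 (allL N3028 (tt N2461 F24390) (tt N3721 (iv F32977)) (tt N3627 (iv F32529)) (tt N3727 D8695) (tt N2601 F24391) (tt N2715 F24392) (tt N3726 (iv F33052)) (tt N2455 (iv D6335)) (tt N3728 D8696))
theorem Q3030 : ∀ i, i < 3030 → P i := stepQ 3029 Q3029 (allL N3029 (tt N2462 F24402) (tt N3722 (iv F32992)) (tt N3673 (iv F38101)) (tt N2457 (iv D6338)) (tt N3729 D8701) (tt N2467 (iv F38102)) (tt N3478 F38003) (tt N3727 (iv F33055)) (tt N3482 (iv F38033)))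
theorem Q3031 : ∀ i, i < 3031 → P i := stepQ 3030 Q3030 (allL N3030 (tt N2463 F24419) (tt N3724 (iv F33017)) (tt N3030 F24420) (tt N3729 (iv F33076)) (tt N2458 (iv D6342)) (tt N2677 (iv F37919)) (tt N3486 (iv F38035)) (tt N2604 F24421) (tt N3485 (iv F37872)))
theorem Q3032 : ∀ i, i < 3032 → P i := stepQ 3031 Q3031 (allL N3031 (tt N3726 (iv F33050)) (tt N3031 F24463) (tt N3549 (iv F38679)) (tt N3490 (iv F38080)) (tt N2606 F24464) (tt N3491 (iv F38188)) (tt N2461 F24465) (tt N2460 (iv D6352)) (tt N3730 D8719))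
theorem Q3033 : ∀ i, i < 3033 → P i := stepQ 3032 Q3032 (allL N3032 (tt N3727 (iv F33053)) (tt N3032 F24466) (tt N3693 (iv F38203)) (tt N2461 (iv D6353)) (tt N3731 D8721) (tt N2471 (iv F38204)) (tt N3490 F38140) (tt N2462 F24468) (tt N3732 D8722))
theorem Q3034 : ∀ i, i < 3034 → P i := stepQ 3033 Q3033 (allL N3033 (tt N3728 (iv F33056)) (tt N3033 F24469) (tt N3642 (iv F32612)) (tt N3732 (iv F33159)) (tt N2608 F24470) (tt N2716 F24471) (tt N3730 (iv F33151)) (tt N2473 F24472) (tt N2461 (iv D6354)))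
theorem Q3035 : ∀ i, i < 3035 → P i := stepQ 3034 Q3034 (allL N3034 (tt N3729 (iv F33075)) (tt N3034 F24487) (tt N3692 (iv F38068)) (tt N2463 F24488) (tt N2462 (iv D6359)) (tt N2619 (iv F38067)) (tt N3489 F37982) (tt N3731 (iv F33157)) (tt N3497 (iv F38043)))
theorem Q3036 : ∀ i, i < 3036 → P i := stepQ 3035 Q3035 (allL N3035 (tt N3035 F24580) (tt N3656 (iv F32722)) (tt N2464 (iv D6383)) (tt N3321 (iv F29912)) (tt N2612 F24581) (tt N3467 (iv F31703)) (tt N3733 D8759) (tt N3734 D8760) (tt N3719 (iv F32970)))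
theorem Q3037 : ∀ i, i < 3037 → P i := stepQ 3036 Q3036 (allL N3036 (tt N3036 F24582) (tt N2467 F24583) (tt N3733 (iv F33295)) (tt N2465 F24584) (tt N2613 F24585) (tt N3722 F38029) (tt N2464 (iv D6384)) (tt N3735 D8762) (tt N3720 (iv F32975)))
theorem Q3038 : ∀ i, i < 3038 → P i := stepQ 3037 Q3037 (allL N3037 (tt N3037 F24586) (tt N2468 F24587) (tt N3734 (iv F33298)) (tt N3736 D8763) (tt N2614 F24588) (tt N3469 (iv F31713)) (tt N3735 (iv F33306)) (tt N2464 (iv D6385)) (tt N3737 D8764))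
theorem Q3039 : ∀ i, i < 3039 → P i := stepQ 3038 Q3038 (allL N3038 (tt N3038 F24596) (tt N2469 F24597) (tt N3738 D8768) (tt N2466 (iv D6388)) (tt N3038 F24598) (tt N3472 (iv F31725)) (tt N2714 (iv F38121)) (tt N3736 (iv F33310)) (tt N3468 F38039))
theorem Q3040 : ∀ i, i < 3040 → P i := stepQ 3039 Q3039 (allL N3039 (tt N2471 F24609) (tt N3735 (iv F33304)) (tt N3674 (iv F32771)) (tt N2715 (iv F38234)) (tt N2617 F24610) (tt N3727 F38171) (tt N2468 F24611) (tt N2467 (iv D6392)) (tt N3739 D8773))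
theorem Q3041 : ∀ i, i < 3041 → P i := stepQ 3040 Q3040 (allL N3040 (tt N2472 F24612) (tt N3736 (iv F33308)) (tt N3740 D8774) (tt N2468 (iv D6393)) (tt N3040 F24613) (tt N3480 (iv F31772)) (tt N2715 (iv F38235)) (tt N2469 F24614) (tt N3741 D8775))
theorem Q3042 : ∀ i, i < 3042 → P i := stepQ 3041 Q3041 (allL N3041 (tt N2473 F24615) (tt N3737 (iv F33312)) (tt N3676 (iv F32777)) (tt N3741 (iv F33348)) (tt N2618 F24616) (tt N3481 (iv F31776)) (tt N3739 (iv F33343)) (tt N3728 (iv F33059)) (tt N2468 (iv D6394)))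
theorem Q3043 : ∀ i, i < 3043 → P i := stepQ 3042 Q3042 (allL N3042 (tt N2474 F24628) (tt N3742 D8780) (tt N2469 (iv D6398)) (tt N2470 F24629) (tt N3042 F24630) (tt N3483 (iv F31792)) (tt N2699 (iv F38233)) (tt N3740 (iv F33346)) (tt N3422 F38185))
theorem Q3044 : ∀ i, i < 3044 → P i := stepQ 3043 Q3043 (allL N3043 (tt N3743 D8789) (tt N2470 (iv D6404)) (tt N2976 F38305) (tt N3742 (iv F33364)) (tt N2510 F24646) (tt N3488 (iv F31833)) (tt N2695 (iv F38361)) (tt N3690 (iv F32842)) (tt N3414 F38306))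
theorem Q3045 : ∀ i, i < 3045 → P i := stepQ 3044 Q3044 (allL N3044 (tt N3739 (iv F33341)) (tt N3044 F24661) (tt N3695 (iv F32856)) (tt N2716 (iv F38323)) (tt N2621 F24662) (tt N3732 F38264) (tt N2473 F24663) (tt N3730 (iv F33152)) (tt N2471 (iv D6410)))
theorem Q3046 : ∀ i, i < 3046 → P i := stepQ 3045 Q3045 (allL N3045 (tt N3740 (iv F33344)) (tt N3744 D8797) (tt N2472 (iv D6411)) (tt N3696 (iv F32859)) (tt N3045 F24664) (tt N3493 (iv F31857)) (tt N2706 (iv F38322)) (tt N2474 F24665) (tt N3745 D8798))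
theorem Q3047 : ∀ i, i < 3047 → P i := stepQ 3046 Q3046 (allL N3046 (tt N3741 (iv F33347)) (tt N3046 F24666) (tt N3745 (iv F33414)) (tt N2473 F24667) (tt N3046 F24668) (tt N3495 (iv F31865)) (tt N2716 (iv F38324)) (tt N3492 F38282) (tt N2472 (iv D6412)))
theorem Q3048 : ∀ i, i < 3048 → P i := stepQ 3047 Q3047 (allL N3047 (tt N3746 D8806) (tt N2474 (iv D6417)) (tt N3047 F24682) (tt N2475 F24683) (tt N3047 F24684) (tt N3498 (iv F31885)) (tt N2686 (iv F38321)) (tt N3744 (iv F33413)) (tt N3388 F38281))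
theorem Q3049 : ∀ i, i < 3049 → P i := stepQ 3048 Q3048 (allL N3048 (tt N2475 (iv D6426)) (tt N3743 (iv F33389)) (tt N2476 F24706) (tt N3746 (iv F33439)) (tt N2511 F24707) (tt N3501 (iv F31941)) (tt N2680 (iv F38459)) (tt N3716 (iv F32931)) (tt N3376 F38416))
theorem Q3050 : ∀ i, i < 3050 → P i := stepQ 3049 Q3049 (allL N3049 (tt N3049 F24750) (tt N2484 F24751) (tt N3747 D8836) (tt N2477 (iv D6442)) (tt N3748 D8837) (tt N3049 F24752) (tt N2717 (iv F38557)) (tt N3049 F24753) (tt N3749 D8838))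
theorem Q3051 : ∀ i, i < 3051 → P i := stepQ 3050 Q3050 (allL N3050 (tt N3050 F24754) (tt N2485 F24755) (tt N3052 F38533) (tt N3749 (iv F33530)) (tt N2480 F24756) (tt N3050 F24757) (tt N2718 (iv F38562)) (tt N3050 F24758) (tt N2477 (iv D6443)))
theorem Q3052 : ∀ i, i < 3052 → P i := stepQ 3051 Q3051 (allL N3051 (tt N3051 F24759) (tt N2486 F24760) (tt N3750 D8839) (tt N2478 (iv D6444)) (tt N3751 D8840) (tt N3051 F24761) (tt N2479 F24762) (tt N2622 F24763) (tt N3752 D8841))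
theorem Q3053 : ∀ i, i < 3053 → P i := stepQ 3052 Q3052 (allL N3052 (tt N3052 F24764) (tt N2487 F24765) (tt N3050 (iv F38533)) (tt N3752 (iv F33542)) (tt N2718 (iv F38561)) (tt N3052 F24766) (tt N2480 F24767) (tt N3052 F24768) (tt N2478 (iv D6445)))
theorem Q3054 : ∀ i, i < 3054 → P i := stepQ 3053 Q3053 (allL N3053 (tt N3053 F24769) (tt N3665 (iv F32744)) (tt N2479 (iv D6446)) (tt N3324 (iv F30229)) (tt N3753 D8842) (tt N2481 F24770) (tt N3750 (iv F33534)) (tt N2624 F24771) (tt N3754 D8843))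
theorem Q3055 : ∀ i, i < 3055 → P i := stepQ 3054 Q3054 (allL N3054 (tt N3054 F24772) (tt N2488 F24773) (tt N3753 (iv F33546)) (tt N3748 (iv F33526)) (tt N2479 (iv D6447)) (tt N3755 D8844) (tt N3751 (iv F33538)) (tt N2625 F24774) (tt N3756 D8845))
theorem Q3056 : ∀ i, i < 3056 → P i := stepQ 3055 Q3055 (allL N3055 (tt N3055 F24775) (tt N2489 F24776) (tt N3754 (iv F33549)) (tt N2480 F24777) (tt N3756 (iv F33557)) (tt N2483 F24778) (tt N3752 (iv F33544)) (tt N3757 D8846) (tt N2479 (iv D6448)))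
theorem Q3057 : ∀ i, i < 3057 → P i := stepQ 3056 Q3056 (allL N3056 (tt N3056 F24779) (tt N3668 (iv F32752)) (tt N2482 F24780) (tt N3758 D8847) (tt N2481 (iv D6449)) (tt N3759 D8848) (tt N3056 F24781) (tt N2627 F24782) (tt N3760 D8849))
theorem Q3058 : ∀ i, i < 3058 → P i := stepQ 3057 Q3057 (allL N3057 (tt N3057 F24783) (tt N3669 (iv F32756)) (tt N2483 F24784) (tt N3328 (iv F30245)) (tt N3760 (iv F33571)) (tt N3754 (iv F33550)) (tt N3057 F24785) (tt N3761 D8850) (tt N2481 (iv D6450)))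
theorem Q3059 : ∀ i, i < 3059 → P i := stepQ 3058 Q3058 (allL N3058 (tt N3058 F24786) (tt N2490 F24787) (tt N3759 (iv F33567)) (tt N3058 F24788) (tt N3755 (iv F33553)) (tt N2482 (iv D6451)) (tt N3762 D8851) (tt N2629 F24789) (tt N3763 D8852))
theorem Q3060 : ∀ i, i < 3060 → P i := stepQ 3059 Q3059 (allL N3059 (tt N3059 F24790) (tt N2491 F24791) (tt N3760 (iv F33570)) (tt N3059 F24792) (tt N2483 F24793) (tt N3763 (iv F33585)) (tt N3059 F24794) (tt N3764 D8853) (tt N2482 (iv D6452)))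
theorem Q3061 : ∀ i, i < 3061 → P i := stepQ 3060 Q3060 (allL N3060 (tt N3060 F24795) (tt N2492 F24796) (tt N3761 (iv F33574)) (tt N3060 F24797) (tt N3764 (iv F33588)) (tt N3757 (iv F33561)) (tt N3060 F24798) (tt N2483 (iv D6453)) (tt N2631 F24799))
theorem Q3062 : ∀ i, i < 3062 → P i := stepQ 3061 Q3061 (allL N3061 (tt N2495 F24813) (tt N3765 D8859) (tt N2484 (iv D6457)) (tt N2493 F24814) (tt N3766 D8860) (tt N3061 F24815) (tt N2701 (iv F38488)) (tt N3061 F24816) (tt N3767 D8861))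
theorem Q3063 : ∀ i, i < 3063 → P i := stepQ 3062 Q3062 (allL N3062 (tt N2496 F24817) (tt N3748 (iv F33525)) (tt N3766 (iv F33616)) (tt N2488 F24818) (tt N2484 (iv D6458)) (tt N3768 D8862) (tt N2722 (iv F38559)) (tt N3062 F24819) (tt N3769 D8863))
theorem Q3064 : ∀ i, i < 3064 → P i := stepQ 3063 Q3063 (allL N3063 (tt N2497 F24820) (tt N3749 (iv F33529)) (tt N3767 (iv F33619)) (tt N2485 F24821) (tt N3769 (iv F33628)) (tt N3063 F24822) (tt N2723 (iv F38560)) (tt N3770 D8864) (tt N2484 (iv D6459)))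
theorem Q3065 : ∀ i, i < 3065 → P i := stepQ 3064 Q3064 (allL N3064 (tt N2498 F24823) (tt N3751 (iv F33537)) (tt N3682 (iv F32796)) (tt N2722 (iv F38558)) (tt N2486 (iv D6460)) (tt N3771 D8865) (tt N2488 F24824) (tt N2632 F24825) (tt N3772 D8866))
theorem Q3066 : ∀ i, i < 3066 → P i := stepQ 3065 Q3065 (allL N3065 (tt N2499 F24826) (tt N3752 (iv F33541)) (tt N3683 (iv F32800)) (tt N2487 F24827) (tt N3772 (iv F33637)) (tt N3065 F24828) (tt N2489 F24829) (tt N3773 D8867) (tt N2486 (iv D6461)))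
theorem Q3067 : ∀ i, i < 3067 → P i := stepQ 3066 Q3066 (allL N3066 (tt N2500 F24830) (tt N3755 (iv F33552)) (tt N3684 (iv F32805)) (tt N3768 (iv F33623)) (tt N2490 F24831) (tt N2488 (iv D6462)) (tt N3774 D8868) (tt N2634 F24832) (tt N3775 D8869))
theorem Q3068 : ∀ i, i < 3068 → P i := stepQ 3067 Q3067 (allL N3067 (tt N2501 F24833) (tt N3756 (iv F33556)) (tt N3685 (iv F32809)) (tt N3769 (iv F33627)) (tt N2489 F24834) (tt N3775 (iv F33649)) (tt N3772 (iv F33638)) (tt N3776 D8870) (tt N2488 (iv D6463)))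
theorem Q3069 : ∀ i, i < 3069 → P i := stepQ 3068 Q3068 (allL N3068 (tt N2502 F24835) (tt N3757 (iv F33559)) (tt N3686 (iv F32812)) (tt N3068 F24836) (tt N3776 (iv F33651)) (tt N2492 F24837) (tt N3773 (iv F33642)) (tt N2489 (iv D6464)) (tt N2636 F24838))
theorem Q3070 : ∀ i, i < 3070 → P i := stepQ 3069 Q3069 (allL N3069 (tt N2503 F24839) (tt N3762 (iv F33578)) (tt N3687 (iv F32816)) (tt N3069 F24840) (tt N3774 (iv F33645)) (tt N3069 F24841) (tt N2490 (iv D6465)) (tt N2637 F24842) (tt N3777 D8871))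
theorem Q3071 : ∀ i, i < 3071 → P i := stepQ 3070 Q3070 (allL N3070 (tt N2504 F24843) (tt N3763 (iv F33583)) (tt N3688 (iv F32820)) (tt N3070 F24844) (tt N3775 (iv F33648)) (tt N2491 F24845) (tt N3777 (iv F33656)) (tt N3778 D8872) (tt N2490 (iv D6466)))
theorem Q3072 : ∀ i, i < 3072 → P i := stepQ 3071 Q3071 (allL N3071 (tt N2505 F24846) (tt N3764 (iv F33587)) (tt N3689 (iv F32823)) (tt N3779 D8873) (tt N2492 F24847) (tt N3778 (iv F33658)) (tt N3071 F24848) (tt N2491 (iv D6467)) (tt N2639 F24849))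
theorem Q3073 : ∀ i, i < 3073 → P i := stepQ 3072 Q3072 (allL N3072 (tt N3780 D8880) (tt N2493 (iv D6472)) (tt N2978 F38436) (tt N3765 (iv F33612)) (tt N3690 (iv F32841)) (tt N3072 F24865) (tt N2696 (iv F38487)) (tt N2510 F24866) (tt N3781 D8881))
theorem Q3074 : ∀ i, i < 3074 → P i := stepQ 3073 Q3073 (allL N3073 (tt N2507 F24867) (tt N3781 (iv F33689)) (tt N2494 F24868) (tt N3767 (iv F33620)) (tt N3691 (iv F32845)) (tt N3073 F24869) (tt N2702 (iv F38489)) (tt N3429 F38437) (tt N2493 (iv D6473)))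
theorem Q3075 : ∀ i, i < 3075 → P i := stepQ 3074 Q3074 (allL N3074 (tt N3782 D8892) (tt N2495 (iv D6480)) (tt N3074 F24894) (tt N2506 F24895) (tt N3783 D8893) (tt N3074 F24896) (tt N2688 (iv F38549)) (tt N3074 F24897) (tt N3784 D8894))
theorem Q3076 : ∀ i, i < 3076 → P i := stepQ 3075 Q3075 (allL N3075 (tt N3766 (iv F33615)) (tt N3783 (iv F33732)) (tt N2496 F24898) (tt N3702 (iv F32876)) (tt N2495 (iv D6481)) (tt N3785 D8895) (tt N2709 (iv F38551)) (tt N3075 F24899) (tt N3786 D8896))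
theorem Q3077 : ∀ i, i < 3077 → P i := stepQ 3076 Q3076 (allL N3076 (tt N3767 (iv F33618)) (tt N3784 (iv F33735)) (tt N2497 F24900) (tt N2507 F24901) (tt N3786 (iv F33743)) (tt N3076 F24902) (tt N2710 (iv F38552)) (tt N3787 D8897) (tt N2495 (iv D6482)))
theorem Q3078 : ∀ i, i < 3078 → P i := stepQ 3077 Q3077 (allL N3077 (tt N3768 (iv F33622)) (tt N3077 F24903) (tt N3785 (iv F33739)) (tt N2500 F24904) (tt N3077 F24905) (tt N2496 (iv D6483)) (tt N3788 D8898) (tt N3077 F24906) (tt N3789 D8899))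
theorem Q3079 : ∀ i, i < 3079 → P i := stepQ 3078 Q3078 (allL N3078 (tt N3769 (iv F33626)) (tt N3078 F24907) (tt N3786 (iv F33742)) (tt N2501 F24908) (tt N2497 F24909) (tt N3789 (iv F33754)) (tt N2728 (iv F38573)) (tt N3790 D8900) (tt N2496 (iv D6484)))
theorem Q3080 : ∀ i, i < 3080 → P i := stepQ 3079 Q3079 (allL N3079 (tt N3770 (iv F33629)) (tt N3079 F24910) (tt N3787 (iv F33744)) (tt N3079 F24911) (tt N3790 (iv F33756)) (tt N3079 F24912) (tt N2729 (iv F38574)) (tt N2497 (iv D6485)) (tt N3079 F24913))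
theorem Q3081 : ∀ i, i < 3081 → P i := stepQ 3080 Q3080 (allL N3080 (tt N3771 (iv F33633)) (tt N3080 F24914) (tt N3707 (iv F32882)) (tt N2727 (iv F38571)) (tt N3080 F24915) (tt N2498 (iv D6486)) (tt N3791 D8901) (tt N2640 F24916) (tt N3792 D8902))
theorem Q3082 : ∀ i, i < 3082 → P i := stepQ 3081 Q3081 (allL N3081 (tt N3772 (iv F33636)) (tt N3081 F24917) (tt N3708 (iv F32885)) (tt N2728 (iv F38572)) (tt N2499 F24918) (tt N3792 (iv F33764)) (tt N2501 F24919) (tt N3793 D8903) (tt N2498 (iv D6487)))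
theorem Q3083 : ∀ i, i < 3083 → P i := stepQ 3082 Q3082 (allL N3082 (tt N3773 (iv F33639)) (tt N3082 F24920) (tt N3709 (iv F32888)) (tt N3082 F24921) (tt N3793 (iv F33766)) (tt N3082 F24922) (tt N2502 F24923) (tt N2499 (iv D6488)) (tt N2642 F24924))
theorem Q3084 : ∀ i, i < 3084 → P i := stepQ 3083 Q3083 (allL N3083 (tt N3774 (iv F33644)) (tt N3083 F24925) (tt N3710 (iv F32892)) (tt N3788 (iv F33748)) (tt N2503 F24926) (tt N3791 (iv F33760)) (tt N2500 (iv D6489)) (tt N2643 F24927) (tt N3794 D8904))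
theorem Q3085 : ∀ i, i < 3085 → P i := stepQ 3084 Q3084 (allL N3084 (tt N3775 (iv F33647)) (tt N3084 F24928) (tt N3711 (iv F32895)) (tt N3789 (iv F33752)) (tt N2504 F24929) (tt N2501 F24930) (tt N3794 (iv F33771)) (tt N3795 D8905) (tt N2500 (iv D6490)))
theorem Q3086 : ∀ i, i < 3086 → P i := stepQ 3085 Q3085 (allL N3085 (tt N3776 (iv F33650)) (tt N3085 F24931) (tt N3712 (iv F32898)) (tt N3796 D8906) (tt N2502 F24932) (tt N3795 (iv F33774)) (tt N3793 (iv F33767)) (tt N2501 (iv D6491)) (tt N2645 F24933))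
theorem Q3087 : ∀ i, i < 3087 → P i := stepQ 3086 Q3086 (allL N3086 (tt N3777 (iv F33653)) (tt N3086 F24934) (tt N3713 (iv F32901)) (tt N3086 F24935) (tt N3794 (iv F33770)) (tt N3086 F24936) (tt N2504 F24937) (tt N3797 D8907) (tt N2503 (iv D6492)))
theorem Q3088 : ∀ i, i < 3088 → P i := stepQ 3087 Q3087 (allL N3087 (tt N3778 (iv F33657)) (tt N3087 F24938) (tt N3714 (iv F32904)) (tt N3798 D8908) (tt N3795 (iv F33773)) (tt N2505 F24939) (tt N3797 (iv F33781)) (tt N2504 (iv D6493)) (tt N2647 F24940))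
theorem Q3089 : ∀ i, i < 3089 → P i := stepQ 3088 Q3088 (allL N3088 (tt N3779 (iv F33660)) (tt N3088 F24941) (tt N3799 D8909) (tt N2505 (iv D6494)) (tt N3088 F24942) (tt N3798 (iv F33784)) (tt N3088 F24943) (tt N3088 F24944) (tt N2648 F24945))
theorem Q3090 : ∀ i, i < 3090 → P i := stepQ 3089 Q3089 (allL N3089 (tt N2506 (iv D6501)) (tt N3780 (iv F33686)) (tt N2508 F24966) (tt N3782 (iv F33729)) (tt N3716 (iv F32930)) (tt N3089 F24967) (tt N2681 (iv F38548)) (tt N2511 F24968) (tt N3800 D8918))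
theorem Q3091 : ∀ i, i < 3091 → P i := stepQ 3090 Q3090 (allL N3090 (tt N3800 (iv F33819)) (tt N2507 F24969) (tt N2509 F24970) (tt N3784 (iv F33737)) (tt N3717 (iv F32934)) (tt N3090 F24971) (tt N2689 (iv F38550)) (tt N3395 F38527) (tt N2506 (iv D6502)))
theorem Q3092 : ∀ i, i < 3092 → P i := stepQ 3091 Q3091 (allL N3091 (tt N2509 F25002) (tt N2919 F38569) (tt N3800 (iv F33820)) (tt N3091 F25003) (tt N3718 (iv F32961)) (tt N3091 F25004) (tt N2685 (iv F38575)) (tt N3387 F38570) (tt N2508 (iv D6512)))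
theorem Q3093 : ∀ i, i < 3093 → P i := stepQ 3092 Q3092 (allL N3092 (tt N2510 (iv D6521)) (tt N2511 F25032) (tt N2903 F38434) (tt N3092 F25033) (tt N3743 (iv F33390)) (tt N3092 F25034) (tt N2678 (iv F38486)) (tt N3780 (iv F33688)) (tt N3371 F38435))
theorem Q3094 : ∀ i, i < 3094 → P i := stepQ 3093 Q3093 (allL N3093 (tt N3093 F25184) (tt N2512 (iv D6565)) (tt N3093 F25185) (tt N3093 F25186) (tt N2513 F25187) (tt N2669 (iv F38747)) (tt N3093 F25188) (tt N2668 F38703) (tt N3093 F25189))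
theorem Q3095 : ∀ i, i < 3095 → P i := stepQ 3094 Q3094 (allL N3094 (tt N3094 F25279) (tt N2514 F25280) (tt N3094 F25281) (tt N3503 (iv F31989)) (tt N2596 (iv F38749)) (tt N2513 (iv D6586)) (tt N2595 (iv F38750)) (tt N2594 F38704) (tt N3094 F25282))
theorem Q3096 : ∀ i, i < 3096 → P i := stepQ 3095 Q3095 (allL N3095 (tt N3095 F25283) (tt N2515 F25284) (tt N3095 F25285) (tt N3801 D9029) (tt N2668 (iv F38648)) (tt N2594 (iv F38649)) (tt N3095 F25286) (tt N2513 (iv D6587)) (tt N2615 (iv F38650)))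
theorem Q3097 : ∀ i, i < 3097 → P i := stepQ 3096 Q3096 (allL N3096 (tt N2516 F25297) (tt N3801 (iv F34231)) (tt N2522 F25298) (tt N2515 (iv D6591)) (tt N3802 D9037) (tt N2600 (iv F38615)) (tt N3096 F25299) (tt N3507 (iv F32011)) (tt N2616 (iv F38617)))
theorem Q3098 : ∀ i, i < 3098 → P i := stepQ 3097 Q3097 (allL N3097 (tt N3802 (iv F34259)) (tt N3097 F25343) (tt N2526 F25344) (tt N2674 (iv F38608)) (tt N2516 (iv D6603)) (tt N3497 F38605) (tt N3097 F25345) (tt N3515 (iv F32065)) (tt N2619 (iv F38609)))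
theorem Q3099 : ∀ i, i < 3099 → P i := stepQ 3098 Q3098 (allL N3098 (tt N2550 F25388) (tt N2519 F25389) (tt N3098 F25390) (tt N3803 D9069) (tt N2517 (iv D6615)) (tt N3098 F25391) (tt N2552 F38827) (tt N2551 F38828) (tt N2528 F25392))
theorem Q3100 : ∀ i, i < 3100 → P i := stepQ 3099 Q3099 (allL N3099 (tt N2551 F25393) (tt N2520 F25394) (tt N3099 F25395) (tt N3528 (iv F32122)) (tt N2552 F38825) (tt N3099 F25396) (tt N2517 (iv D6616)) (tt N2550 F38826) (tt N2529 F25397))
theorem Q3101 : ∀ i, i < 3101 → P i := stepQ 3100 Q3100 (allL N3100 (tt N2552 F25398) (tt N2521 F25399) (tt N3100 F25400) (tt N3804 D9073) (tt N2551 (iv F38751)) (tt N2518 F25401) (tt N2550 (iv F38752)) (tt N2517 (iv D6617)) (tt N2565 (iv F38754)))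
theorem Q3102 : ∀ i, i < 3102 → P i := stepQ 3101 Q3101 (allL N3101 (tt N2553 F25402) (tt N2522 F25403) (tt N3805 D9075) (tt N2518 (iv D6618)) (tt N3806 D9076) (tt N3804 (iv F34398)) (tt N3101 F25404) (tt N3530 (iv F32132)) (tt N3807 D9077))
theorem Q3103 : ∀ i, i < 3103 → P i := stepQ 3102 Q3102 (allL N3102 (tt N2554 F25405) (tt N2523 F25406) (tt N3102 F25407) (tt N3807 (iv F34413)) (tt N3102 F25408) (tt N2565 (iv F38753)) (tt N3102 F25409) (tt N2532 F25410) (tt N2518 (iv D6619)))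
theorem Q3104 : ∀ i, i < 3104 → P i := stepQ 3103 Q3103 (allL N3103 (tt N2524 F25411) (tt N3803 (iv F34378)) (tt N3103 F25412) (tt N2519 (iv D6620)) (tt N3532 (iv F32141)) (tt N3103 F25413) (tt N2556 F38722) (tt N3631 (iv F38781)) (tt N2533 F25414))
theorem Q3105 : ∀ i, i < 3105 → P i := stepQ 3104 Q3104 (allL N3104 (tt N2525 F25427) (tt N3804 (iv F34397)) (tt N2600 F38631) (tt N2521 (iv D6624)) (tt N3626 (iv F38653)) (tt N2522 F25428) (tt N2555 (iv F38654)) (tt N3536 (iv F32158)) (tt N2573 (iv F38658)))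
theorem Q3106 : ∀ i, i < 3106 → P i := stepQ 3105 Q3105 (allL N3105 (tt N2526 F25433) (tt N3806 (iv F34408)) (tt N3802 (iv F34260)) (tt N3105 F25434) (tt N2522 (iv D6626)) (tt N3808 D9088) (tt N3105 F25435) (tt N3538 (iv F32166)) (tt N3809 D9089))
theorem Q3107 : ∀ i, i < 3107 → P i := stepQ 3106 Q3106 (allL N3106 (tt N2527 F25436) (tt N3807 (iv F34412)) (tt N2616 F38632) (tt N2523 F25437) (tt N3809 (iv F34454)) (tt N2573 (iv F38657)) (tt N3106 F25438) (tt N3810 D9090) (tt N2522 (iv D6627)))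
theorem Q3108 : ∀ i, i < 3108 → P i := stepQ 3107 Q3107 (allL N3107 (tt N3808 (iv F34450)) (tt N2561 F25498) (tt N3497 (iv F38604)) (tt N3107 F25499) (tt N3496 (iv F38678)) (tt N2526 (iv D6643)) (tt N3499 (iv F38984)) (tt N3551 (iv F32235)) (tt N3692 (iv F38623)))
theorem Q3109 : ∀ i, i < 3109 → P i := stepQ 3108 Q3108 (allL N3108 (tt N3809 (iv F34452)) (tt N2562 F25500) (tt N2619 F38610) (tt N3108 F25501) (tt N2527 F25502) (tt N3692 (iv F38622)) (tt N3108 F25503) (tt N3811 D9113) (tt N2526 (iv D6644)))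
theorem Q3110 : ∀ i, i < 3110 → P i := stepQ 3109 Q3109 (allL N3109 (tt N3810 (iv F34456)) (tt N2563 F25504) (tt N2620 F38641) (tt N2549 F25505) (tt N3811 (iv F34534)) (tt N2582 (iv F38686)) (tt N3109 F25506) (tt N2527 (iv D6645)) (tt N3553 (iv F32243)))
theorem Q3111 : ∀ i, i < 3111 → P i := stepQ 3110 Q3110 (allL N3110 (tt N2564 F25551) (tt N2533 F25552) (tt N3812 D9130) (tt N2528 (iv D6658)) (tt N3562 (iv F32290)) (tt N3110 F25553) (tt N3813 D9131) (tt N3814 D9132) (tt N3803 (iv F34380)))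
theorem Q3112 : ∀ i, i < 3112 → P i := stepQ 3111 Q3111 (allL N3111 (tt N2565 F25554) (tt N2534 F25555) (tt N3111 F25556) (tt N3813 (iv F34601)) (tt N2529 F25557) (tt N2554 F38829) (tt N2528 (iv D6659)) (tt N2569 (iv F38865)) (tt N2552 F38830))
theorem Q3113 : ∀ i, i < 3113 → P i := stepQ 3112 Q3112 (allL N3112 (tt N2566 F25558) (tt N2535 F25559) (tt N3112 F25560) (tt N3815 D9135) (tt N2530 F25561) (tt N3112 F25562) (tt N2569 F38906) (tt N2528 (iv D6660)) (tt N2567 F38907))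
theorem Q3114 : ∀ i, i < 3114 → P i := stepQ 3113 Q3113 (allL N3113 (tt N2567 F25563) (tt N2536 F25564) (tt N3113 F25565) (tt N3816 D9137) (tt N2569 F38904) (tt N3113 F25566) (tt N2530 F25567) (tt N2529 (iv D6661)) (tt N2566 F38905))
theorem Q3115 : ∀ i, i < 3115 → P i := stepQ 3114 Q3114 (allL N3114 (tt N2568 F25568) (tt N2537 F25569) (tt N3817 D9139) (tt N2530 (iv D6662)) (tt N3818 D9140) (tt N2531 F25570) (tt N3816 (iv F34626)) (tt N3566 (iv F32304)) (tt N3819 D9141))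
theorem Q3116 : ∀ i, i < 3116 → P i := stepQ 3115 Q3115 (allL N3115 (tt N2569 F25571) (tt N2538 F25572) (tt N3115 F25573) (tt N3819 (iv F34640)) (tt N2567 (iv F38867)) (tt N2532 F25574) (tt N2566 (iv F38868)) (tt N2565 F38831) (tt N2530 (iv D6663)))
theorem Q3117 : ∀ i, i < 3117 → P i := stepQ 3116 Q3116 (allL N3116 (tt N2570 F25575) (tt N3116 F25576) (tt N2531 (iv D6664)) (tt N3116 F25577) (tt N3820 D9142) (tt N3817 (iv F34635)) (tt N3116 F25578) (tt N3568 (iv F32311)) (tt N3821 D9143))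
theorem Q3118 : ∀ i, i < 3118 → P i := stepQ 3117 Q3117 (allL N3117 (tt N2571 F25579) (tt N2539 F25580) (tt N3820 (iv F34644)) (tt N3117 F25581) (tt N2531 (iv D6665)) (tt N3822 D9144) (tt N3117 F25582) (tt N3569 (iv F32315)) (tt N3823 D9145))
theorem Q3119 : ∀ i, i < 3119 → P i := stepQ 3118 Q3118 (allL N3118 (tt N2572 F25583) (tt N2540 F25584) (tt N3821 (iv F34648)) (tt N2532 F25585) (tt N3823 (iv F34657)) (tt N3819 (iv F34641)) (tt N3118 F25586) (tt N3824 D9146) (tt N2531 (iv D6666)))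
theorem Q3120 : ∀ i, i < 3120 → P i := stepQ 3119 Q3119 (allL N3119 (tt N2541 F25587) (tt N3813 (iv F34600)) (tt N3119 F25588) (tt N2534 F25589) (tt N3571 (iv F32323)) (tt N2558 F38723) (tt N2533 (iv D6667)) (tt N3825 D9148) (tt N2556 F38724))
theorem Q3121 : ∀ i, i < 3121 → P i := stepQ 3120 Q3120 (allL N3120 (tt N2542 F25590) (tt N3814 (iv F34603)) (tt N3120 F25591) (tt N3826 D9149) (tt N3572 (iv F32326)) (tt N3120 F25592) (tt N3825 (iv F34668)) (tt N2533 (iv D6668)) (tt N3827 D9150))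
theorem Q3122 : ∀ i, i < 3122 → P i := stepQ 3121 Q3121 (allL N3121 (tt N2543 F25601) (tt N3815 (iv F34616)) (tt N2633 (iv F38930)) (tt N2535 (iv D6671)) (tt N3828 D9155) (tt N3121 F25602) (tt N2578 F38912) (tt N3826 (iv F34671)) (tt N2576 F38913))
theorem Q3123 : ∀ i, i < 3123 → P i := stepQ 3122 Q3122 (allL N3122 (tt N2544 F25607) (tt N3816 (iv F34624)) (tt N3122 F25608) (tt N2536 (iv D6673)) (tt N3829 D9157) (tt N3122 F25609) (tt N2537 F25610) (tt N3577 (iv F32342)) (tt N2575 F38914))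
theorem Q3124 : ∀ i, i < 3124 → P i := stepQ 3123 Q3123 (allL N3123 (tt N2545 F25615) (tt N3818 (iv F34637)) (tt N3123 F25616) (tt N3828 (iv F34690)) (tt N2537 (iv D6675)) (tt N3830 D9159) (tt N3829 (iv F34696)) (tt N3579 (iv F32349)) (tt N3831 D9160))
theorem Q3125 : ∀ i, i < 3125 → P i := stepQ 3124 Q3124 (allL N3124 (tt N2546 F25617) (tt N3819 (iv F34639)) (tt N3124 F25618) (tt N2538 F25619) (tt N3831 (iv F34707)) (tt N2540 F25620) (tt N2575 (iv F38875)) (tt N3832 D9161) (tt N2537 (iv D6676)))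
theorem Q3126 : ∀ i, i < 3126 → P i := stepQ 3125 Q3125 (allL N3125 (tt N2547 F25621) (tt N3822 (iv F34652)) (tt N3125 F25622) (tt N3125 F25623) (tt N3830 (iv F34704)) (tt N2539 (iv D6677)) (tt N3833 D9162) (tt N3581 (iv F32356)) (tt N3834 D9163))
theorem Q3127 : ∀ i, i < 3127 → P i := stepQ 3126 Q3126 (allL N3126 (tt N2548 F25624) (tt N3823 (iv F34655)) (tt N3126 F25625) (tt N3126 F25626) (tt N2540 F25627) (tt N3834 (iv F34718)) (tt N3126 F25628) (tt N3835 D9164) (tt N2539 (iv D6678)))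
theorem Q3128 : ∀ i, i < 3128 → P i := stepQ 3127 Q3127 (allL N3127 (tt N2549 F25629) (tt N3824 (iv F34660)) (tt N3127 F25630) (tt N3810 (iv F34457)) (tt N3835 (iv F34721)) (tt N3832 (iv F34710)) (tt N3127 F25631) (tt N2540 (iv D6679)) (tt N3583 (iv F32364)))
theorem Q3129 : ∀ i, i < 3129 → P i := stepQ 3128 Q3128 (allL N3128 (tt N3825 (iv F34666)) (tt N2582 F25659) (tt N3128 F25660) (tt N2589 (iv F38795)) (tt N3590 (iv F32386)) (tt N2563 F38730) (tt N2542 F25661) (tt N2541 (iv D6686)) (tt N3651 (iv F38798)))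
theorem Q3130 : ∀ i, i < 3130 → P i := stepQ 3129 Q3129 (allL N3129 (tt N3826 (iv F34669)) (tt N2583 F25662) (tt N2642 (iv F38891)) (tt N2542 (iv D6687)) (tt N3836 D9177) (tt N3129 F25663) (tt N2589 F38856) (tt N2543 F25664) (tt N3709 (iv F38896)))
theorem Q3131 : ∀ i, i < 3131 → P i := stepQ 3130 Q3130 (allL N3130 (tt N3827 (iv F34672)) (tt N2584 F25665) (tt N3130 F25666) (tt N3709 (iv F38895)) (tt N3592 (iv F32392)) (tt N3130 F25667) (tt N3651 (iv F38797)) (tt N3648 (iv F38794)) (tt N2542 (iv D6688)))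
theorem Q3132 : ∀ i, i < 3132 → P i := stepQ 3131 Q3131 (allL N3131 (tt N3828 (iv F34689)) (tt N2585 F25682) (tt N2641 (iv F38940)) (tt N2545 F25683) (tt N2543 (iv D6693)) (tt N3837 D9186) (tt N2588 F38923) (tt N3836 (iv F34775)) (tt N2586 F38924))
theorem Q3133 : ∀ i, i < 3133 → P i := stepQ 3132 Q3132 (allL N3132 (tt N3829 (iv F34694)) (tt N2586 F25687) (tt N3132 F25688) (tt N2588 F38920) (tt N2544 (iv D6695)) (tt N3838 D9189) (tt N2545 F25689) (tt N3599 (iv F32411)) (tt N2585 F38921))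
theorem Q3134 : ∀ i, i < 3134 → P i := stepQ 3133 Q3133 (allL N3133 (tt N3830 (iv F34702)) (tt N2587 F25695) (tt N3133 F25696) (tt N3837 (iv F34804)) (tt N2547 F25697) (tt N2545 (iv D6697)) (tt N3839 D9192) (tt N3601 (iv F32420)) (tt N3840 D9193))
theorem Q3135 : ∀ i, i < 3135 → P i := stepQ 3134 Q3134 (allL N3134 (tt N3831 (iv F34705)) (tt N2588 F25698) (tt N3134 F25699) (tt N2586 (iv F38899)) (tt N2546 F25700) (tt N3840 (iv F34828)) (tt N2585 (iv F38900)) (tt N3841 D9194) (tt N2545 (iv D6698)))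
theorem Q3136 : ∀ i, i < 3136 → P i := stepQ 3135 Q3135 (allL N3135 (tt N3832 (iv F34708)) (tt N2589 F25701) (tt N3135 F25702) (tt N2582 F38739) (tt N3841 (iv F34831)) (tt N2549 F25703) (tt N2583 (iv F38811)) (tt N2546 (iv D6699)) (tt N3603 (iv F32427)))
theorem Q3137 : ∀ i, i < 3137 → P i := stepQ 3136 Q3136 (allL N3136 (tt N3833 (iv F34711)) (tt N2590 F25704) (tt N3136 F25705) (tt N3136 F25706) (tt N3839 (iv F34824)) (tt N3136 F25707) (tt N2547 (iv D6700)) (tt N3604 (iv F32431)) (tt N3842 D9195))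
theorem Q3138 : ∀ i, i < 3138 → P i := stepQ 3137 Q3137 (allL N3137 (tt N3834 (iv F34715)) (tt N2591 F25708) (tt N3137 F25709) (tt N3137 F25710) (tt N3840 (iv F34827)) (tt N2548 F25711) (tt N3842 (iv F34836)) (tt N3843 D9196) (tt N2547 (iv D6701)))
theorem Q3139 : ∀ i, i < 3139 → P i := stepQ 3138 Q3138 (allL N3138 (tt N3835 (iv F34719)) (tt N2592 F25712) (tt N3138 F25713) (tt N3844 D9197) (tt N2549 F25714) (tt N3843 (iv F34839)) (tt N3138 F25715) (tt N2548 (iv D6702)) (tt N3606 (iv F32439)))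
theorem Q3140 : ∀ i, i < 3140 → P i := stepQ 3139 Q3139 (allL N3139 (tt N3803 (iv F34377)) (tt N2555 F25756) (tt N3845 D9206) (tt N2550 (iv D6712)) (tt N3617 (iv F32490)) (tt N3139 F25757) (tt N3804 (iv F38651)) (tt N3846 D9208) (tt N2564 F25758))
theorem Q3141 : ∀ i, i < 3141 → P i := stepQ 3140 Q3140 (allL N3140 (tt N3804 (iv F34396)) (tt N2556 F25771) (tt N3847 D9215) (tt N2552 (iv D6716)) (tt N3848 D9216) (tt N2553 F25772) (tt N3803 (iv F38779)) (tt N3621 (iv F32507)) (tt N3813 (iv F38783)))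
theorem Q3142 : ∀ i, i < 3142 → P i := stepQ 3141 Q3141 (allL N3141 (tt N3805 (iv F34404)) (tt N3141 F25777) (tt N2553 (iv D6718)) (tt N3141 F25778) (tt N3849 D9218) (tt N3847 (iv F34915)) (tt N3141 F25779) (tt N3623 (iv F32515)) (tt N3850 D9219))
theorem Q3143 : ∀ i, i < 3143 → P i := stepQ 3142 Q3142 (allL N3142 (tt N3806 (iv F34407)) (tt N2557 F25780) (tt N3849 (iv F34921)) (tt N3142 F25781) (tt N2553 (iv D6719)) (tt N3851 D9220) (tt N3142 F25782) (tt N3624 (iv F32519)) (tt N3852 D9221))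
theorem Q3144 : ∀ i, i < 3144 → P i := stepQ 3143 Q3143 (allL N3143 (tt N3807 (iv F34411)) (tt N2558 F25783) (tt N3850 (iv F34924)) (tt N2554 F25784) (tt N3852 (iv F34931)) (tt N3813 (iv F38782)) (tt N3143 F25785) (tt N3853 D9222) (tt N2553 (iv D6720)))
theorem Q3145 : ∀ i, i < 3145 → P i := stepQ 3144 Q3144 (allL N3144 (tt N2559 F25790) (tt N3846 (iv F34887)) (tt N2601 F25791) (tt N3535 (iv F38806)) (tt N3627 (iv F32530)) (tt N3144 F25792) (tt N3536 (iv F38656)) (tt N2555 (iv D6722)) (tt N3854 D9226))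
theorem Q3146 : ∀ i, i < 3146 → P i := stepQ 3145 Q3145 (allL N3145 (tt N2560 F25818) (tt N3848 (iv F34916)) (tt N3145 F25819) (tt N3533 (iv F38787)) (tt N2556 (iv D6729)) (tt N3855 D9235) (tt N3532 (iv F38780)) (tt N3633 (iv F32560)) (tt N3571 (iv F38784)))
theorem Q3147 : ∀ i, i < 3147 → P i := stepQ 3146 Q3146 (allL N3146 (tt N2561 F25824) (tt N3851 (iv F34927)) (tt N3146 F25825) (tt N3146 F25826) (tt N3855 (iv F34981)) (tt N2557 (iv D6731)) (tt N3856 D9238) (tt N3635 (iv F32568)) (tt N3857 D9239))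
theorem Q3148 : ∀ i, i < 3148 → P i := stepQ 3147 Q3147 (allL N3147 (tt N2562 F25827) (tt N3852 (iv F34929)) (tt N3147 F25828) (tt N3147 F25829) (tt N2558 F25830) (tt N3857 (iv F34996)) (tt N3147 F25831) (tt N3858 D9240) (tt N2557 (iv D6732)))
theorem Q3149 : ∀ i, i < 3149 → P i := stepQ 3148 Q3148 (allL N3148 (tt N2563 F25832) (tt N3853 (iv F34933)) (tt N3148 F25833) (tt N2581 F25834) (tt N3858 (iv F34999)) (tt N3825 (iv F38786)) (tt N3148 F25835) (tt N2558 (iv D6733)) (tt N3637 (iv F32578)))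
theorem Q3150 : ∀ i, i < 3150 → P i := stepQ 3149 Q3149 (allL N3149 (tt N3854 (iv F34947)) (tt N3648 (iv F38793)) (tt N2608 F25869) (tt N3548 (iv F38807)) (tt N3642 (iv F32613)) (tt N3149 F25870) (tt N3550 (iv F38684)) (tt N2584 F25871) (tt N2559 (iv D6742)))
theorem Q3151 : ∀ i, i < 3151 → P i := stepQ 3150 Q3150 (allL N3150 (tt N3855 (iv F34979)) (tt N3496 (iv F38677)) (tt N3150 F25892) (tt N3500 (iv F38788)) (tt N2561 F25893) (tt N2560 (iv D6751)) (tt N3498 (iv F38982)) (tt N3649 (iv F32639)) (tt N3589 (iv F38792)))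
theorem Q3152 : ∀ i, i < 3152 → P i := stepQ 3151 Q3151 (allL N3151 (tt N3856 (iv F34989)) (tt N3499 (iv F38983)) (tt N3151 F25899) (tt N3151 F25900) (tt N3498 (iv F38981)) (tt N3151 F25901) (tt N2561 (iv D6754)) (tt N3652 (iv F32649)) (tt N3859 D9271))
theorem Q3153 : ∀ i, i < 3153 → P i := stepQ 3152 Q3152 (allL N3152 (tt N3857 (iv F34993)) (tt N3692 (iv F38621)) (tt N3152 F25902) (tt N3152 F25903) (tt N3589 (iv F38791)) (tt N2562 F25904) (tt N3859 (iv F35094)) (tt N3860 D9272) (tt N2561 (iv D6755)))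
theorem Q3154 : ∀ i, i < 3154 → P i := stepQ 3153 Q3153 (allL N3153 (tt N3858 (iv F34997)) (tt N3811 (iv F34533)) (tt N3153 F25905) (tt N3861 D9273) (tt N2563 F25906) (tt N3860 (iv F35096)) (tt N3153 F25907) (tt N2562 (iv D6756)) (tt N3654 (iv F32656)))
theorem Q3155 : ∀ i, i < 3155 → P i := stepQ 3154 Q3154 (allL N3154 (tt N3812 (iv F34595)) (tt N2612 F25963) (tt N2564 (iv D6770)) (tt N3154 F25964) (tt N3656 (iv F32723)) (tt N3154 F25965) (tt N3862 D9288) (tt N3863 D9289) (tt N3845 (iv F34883)))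
theorem Q3156 : ∀ i, i < 3156 → P i := stepQ 3155 Q3155 (allL N3155 (tt N3813 (iv F34599)) (tt N2573 F25966) (tt N3862 (iv F35163)) (tt N2565 F25967) (tt N3657 (iv F32726)) (tt N3807 (iv F38659)) (tt N2564 (iv D6771)) (tt N3864 D9291) (tt N3804 (iv F38652)))
theorem Q3157 : ∀ i, i < 3157 → P i := stepQ 3156 Q3156 (allL N3156 (tt N3814 (iv F34602)) (tt N2574 F25968) (tt N3863 (iv F35166)) (tt N3865 D9292) (tt N3658 (iv F32728)) (tt N3156 F25969) (tt N3864 (iv F35172)) (tt N2564 (iv D6772)) (tt N3866 D9293))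
theorem Q3158 : ∀ i, i < 3158 → P i := stepQ 3157 Q3157 (allL N3157 (tt N3815 (iv F34615)) (tt N2575 F25978) (tt N3867 D9297) (tt N2566 (iv D6775)) (tt N3868 D9298) (tt N3157 F25979) (tt N3819 (iv F38866)) (tt N3865 (iv F35175)) (tt N3816 (iv F38926)))
theorem Q3159 : ∀ i, i < 3159 → P i := stepQ 3158 Q3158 (allL N3158 (tt N3816 (iv F34623)) (tt N2576 F25984) (tt N3869 D9300) (tt N2567 (iv D6777)) (tt N3870 D9301) (tt N3158 F25985) (tt N2568 F25986) (tt N3663 (iv F32740)) (tt N3815 (iv F38928)))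
theorem Q3160 : ∀ i, i < 3160 → P i := stepQ 3159 Q3159 (allL N3159 (tt N3817 (iv F34632)) (tt N2624 F25991) (tt N2568 (iv D6779)) (tt N3159 F25992) (tt N3871 D9303) (tt N2570 F25993) (tt N3869 (iv F35200)) (tt N3665 (iv F32746)) (tt N3872 D9304))
theorem Q3161 : ∀ i, i < 3161 → P i := stepQ 3160 Q3160 (allL N3160 (tt N3818 (iv F34636)) (tt N2577 F25994) (tt N3871 (iv F35208)) (tt N3868 (iv F35193)) (tt N2568 (iv D6780)) (tt N3873 D9305) (tt N3870 (iv F35202)) (tt N3666 (iv F32748)) (tt N3874 D9306))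
theorem Q3162 : ∀ i, i < 3162 → P i := stepQ 3161 Q3161 (allL N3161 (tt N3819 (iv F34638)) (tt N2578 F25995) (tt N3872 (iv F35210)) (tt N2569 F25996) (tt N3874 (iv F35216)) (tt N2572 F25997) (tt N3815 (iv F38927)) (tt N3875 D9307) (tt N2568 (iv D6781)))
theorem Q3163 : ∀ i, i < 3163 → P i := stepQ 3162 Q3162 (allL N3162 (tt N3820 (iv F34642)) (tt N2627 F25998) (tt N2571 F25999) (tt N3876 D9308) (tt N2570 (iv D6782)) (tt N3877 D9309) (tt N3162 F26000) (tt N3668 (iv F32755)) (tt N3878 D9310))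
theorem Q3164 : ∀ i, i < 3164 → P i := stepQ 3163 Q3163 (allL N3163 (tt N3821 (iv F34646)) (tt N2628 F26001) (tt N2572 F26002) (tt N3163 F26003) (tt N3878 (iv F35227)) (tt N3872 (iv F35212)) (tt N3163 F26004) (tt N3879 D9311) (tt N2570 (iv D6783)))
theorem Q3165 : ∀ i, i < 3165 → P i := stepQ 3164 Q3164 (allL N3164 (tt N3822 (iv F34651)) (tt N2579 F26005) (tt N3877 (iv F35224)) (tt N3164 F26006) (tt N3873 (iv F35214)) (tt N2571 (iv D6784)) (tt N3880 D9312) (tt N3670 (iv F32760)) (tt N3881 D9313))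
theorem Q3166 : ∀ i, i < 3166 → P i := stepQ 3165 Q3165 (allL N3165 (tt N3823 (iv F34654)) (tt N2580 F26007) (tt N3878 (iv F35226)) (tt N3165 F26008) (tt N2572 F26009) (tt N3881 (iv F35237)) (tt N3165 F26010) (tt N3882 D9314) (tt N2571 (iv D6785)))
theorem Q3167 : ∀ i, i < 3167 → P i := stepQ 3166 Q3166 (allL N3166 (tt N3824 (iv F34659)) (tt N2581 F26011) (tt N3879 (iv F35230)) (tt N3853 (iv F34934)) (tt N3882 (iv F35239)) (tt N3875 (iv F35218)) (tt N3166 F26012) (tt N2572 (iv D6786)) (tt N3672 (iv F32766)))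
theorem Q3168 : ∀ i, i < 3168 → P i := stepQ 3167 Q3167 (allL N3167 (tt N2582 F26017) (tt N3864 (iv F35171)) (tt N2617 F26018) (tt N3832 (iv F38808)) (tt N3674 (iv F32772)) (tt N3810 (iv F38661)) (tt N2574 F26019) (tt N2573 (iv D6788)) (tt N3883 D9318))
theorem Q3169 : ∀ i, i < 3169 → P i := stepQ 3168 Q3168 (allL N3168 (tt N2583 F26020) (tt N3865 (iv F35173)) (tt N3168 F26021) (tt N2574 (iv D6789)) (tt N3884 D9319) (tt N3168 F26022) (tt N3832 (iv F38809)) (tt N2575 F26023) (tt N3885 D9320))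
theorem Q3170 : ∀ i, i < 3170 → P i := stepQ 3169 Q3169 (allL N3169 (tt N2584 F26024) (tt N3866 (iv F35176)) (tt N2618 F26025) (tt N3885 (iv F35261)) (tt N3676 (iv F32778)) (tt N3169 F26026) (tt N3883 (iv F35255)) (tt N3854 (iv F34950)) (tt N2574 (iv D6790)))
theorem Q3171 : ∀ i, i < 3171 → P i := stepQ 3170 Q3170 (allL N3170 (tt N2585 F26039) (tt N3868 (iv F35192)) (tt N3170 F26040) (tt N2577 F26041) (tt N2575 (iv D6794)) (tt N3886 D9325) (tt N3831 (iv F38877)) (tt N3884 (iv F35258)) (tt N3829 (iv F38935)))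
theorem Q3172 : ∀ i, i < 3172 → P i := stepQ 3171 Q3171 (allL N3171 (tt N2586 F26046) (tt N3870 (iv F35201)) (tt N2632 F26047) (tt N3831 (iv F38876)) (tt N2576 (iv D6796)) (tt N3887 D9328) (tt N2577 F26048) (tt N3682 (iv F32798)) (tt N3828 (iv F38933)))
theorem Q3173 : ∀ i, i < 3173 → P i := stepQ 3172 Q3172 (allL N3172 (tt N2587 F26054) (tt N3873 (iv F35213)) (tt N2634 F26055) (tt N3886 (iv F35282)) (tt N2579 F26056) (tt N2577 (iv D6798)) (tt N3888 D9331) (tt N3684 (iv F32807)) (tt N3889 D9332))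
theorem Q3174 : ∀ i, i < 3174 → P i := stepQ 3173 Q3173 (allL N3173 (tt N2588 F26057) (tt N3874 (iv F35215)) (tt N2635 F26058) (tt N3829 (iv F38934)) (tt N2578 F26059) (tt N3889 (iv F35308)) (tt N3828 (iv F38932)) (tt N3890 D9333) (tt N2577 (iv D6799)))
theorem Q3175 : ∀ i, i < 3175 → P i := stepQ 3174 Q3174 (allL N3174 (tt N2589 F26060) (tt N3875 (iv F35217)) (tt N2636 F26061) (tt N3825 (iv F38785)) (tt N3890 (iv F35311)) (tt N2581 F26062) (tt N3826 (iv F38890)) (tt N2578 (iv D6800)) (tt N3686 (iv F32814)))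
theorem Q3176 : ∀ i, i < 3176 → P i := stepQ 3175 Q3175 (allL N3175 (tt N2590 F26063) (tt N3880 (iv F35232)) (tt N2637 F26064) (tt N3175 F26065) (tt N3888 (iv F35304)) (tt N3175 F26066) (tt N2579 (iv D6801)) (tt N3687 (iv F32818)) (tt N3891 D9334))
theorem Q3177 : ∀ i, i < 3177 → P i := stepQ 3176 Q3176 (allL N3176 (tt N2591 F26067) (tt N3881 (iv F35235)) (tt N2638 F26068) (tt N3176 F26069) (tt N3889 (iv F35307)) (tt N2580 F26070) (tt N3891 (iv F35316)) (tt N3892 D9335) (tt N2579 (iv D6802)))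
theorem Q3178 : ∀ i, i < 3178 → P i := stepQ 3177 Q3177 (allL N3177 (tt N2592 F26071) (tt N3882 (iv F35238)) (tt N2639 F26072) (tt N3893 D9336) (tt N2581 F26073) (tt N3892 (iv F35319)) (tt N3177 F26074) (tt N2580 (iv D6803)) (tt N3689 (iv F32826)))
theorem Q3179 : ∀ i, i < 3179 → P i := stepQ 3178 Q3178 (allL N3178 (tt N3883 (iv F35253)) (tt N3651 (iv F38796)) (tt N2621 F26090) (tt N3603 (iv F38812)) (tt N3695 (iv F32857)) (tt N3553 (iv F38688)) (tt N2584 F26091) (tt N3550 (iv F38685)) (tt N2582 (iv D6808)))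
theorem Q3180 : ∀ i, i < 3180 → P i := stepQ 3179 Q3179 (allL N3179 (tt N3884 (iv F35256)) (tt N3836 (iv F34774)) (tt N3179 F26092) (tt N3697 (iv F32861)) (tt N2583 (iv D6809)) (tt N3894 D9342) (tt N3841 (iv F38810)) (tt N2585 F26093) (tt N3895 D9343))
theorem Q3181 : ∀ i, i < 3181 → P i := stepQ 3180 Q3180 (allL N3180 (tt N3885 (iv F35259)) (tt N3709 (iv F38894)) (tt N3180 F26094) (tt N2584 F26095) (tt N3895 (iv F35343)) (tt N3180 F26096) (tt N3603 (iv F38813)) (tt N3600 (iv F38937)) (tt N2583 (iv D6810)))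
theorem Q3182 : ∀ i, i < 3182 → P i := stepQ 3181 Q3181 (allL N3181 (tt N3886 (iv F35280)) (tt N3837 (iv F34803)) (tt N3181 F26110) (tt N2587 F26111) (tt N3181 F26112) (tt N2585 (iv D6815)) (tt N3896 D9350) (tt N3894 (iv F35341)) (tt N3838 (iv F38939)))
theorem Q3183 : ∀ i, i < 3183 → P i := stepQ 3182 Q3182 (allL N3182 (tt N3887 (iv F35291)) (tt N3838 (iv F34811)) (tt N2640 F26118) (tt N3840 (iv F38901)) (tt N3182 F26119) (tt N2586 (iv D6818)) (tt N3897 D9353) (tt N3707 (iv F32884)) (tt N3837 (iv F38942)))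
theorem Q3184 : ∀ i, i < 3184 → P i := stepQ 3183 Q3183 (allL N3183 (tt N3888 (iv F35302)) (tt N3839 (iv F34822)) (tt N2643 F26126) (tt N3896 (iv F35363)) (tt N2590 F26127) (tt N3897 (iv F35373)) (tt N2587 (iv D6821)) (tt N3710 (iv F32894)) (tt N3898 D9356))
theorem Q3185 : ∀ i, i < 3185 → P i := stepQ 3184 Q3184 (allL N3184 (tt N3889 (iv F35305)) (tt N3840 (iv F34825)) (tt N2644 F26128) (tt N3838 (iv F38938)) (tt N2591 F26129) (tt N2588 F26130) (tt N3898 (iv F35382)) (tt N3899 D9357) (tt N2587 (iv D6822)))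
theorem Q3186 : ∀ i, i < 3186 → P i := stepQ 3185 Q3185 (allL N3185 (tt N3890 (iv F35309)) (tt N3841 (iv F34829)) (tt N2645 F26131) (tt N3900 D9358) (tt N2589 F26132) (tt N3899 (iv F35385)) (tt N3836 (iv F38893)) (tt N2588 (iv D6823)) (tt N3712 (iv F32900)))
theorem Q3187 : ∀ i, i < 3187 → P i := stepQ 3186 Q3186 (allL N3186 (tt N3891 (iv F35312)) (tt N3842 (iv F34832)) (tt N2646 F26133) (tt N3186 F26134) (tt N3898 (iv F35381)) (tt N3186 F26135) (tt N2591 F26136) (tt N3901 D9359) (tt N2590 (iv D6824)))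
theorem Q3188 : ∀ i, i < 3188 → P i := stepQ 3187 Q3187 (allL N3187 (tt N3892 (iv F35317)) (tt N3843 (iv F34837)) (tt N2647 F26137) (tt N3902 D9360) (tt N3899 (iv F35384)) (tt N2592 F26138) (tt N3901 (iv F35388)) (tt N2591 (iv D6825)) (tt N3714 (iv F32906)))
theorem Q3189 : ∀ i, i < 3189 → P i := stepQ 3188 Q3188 (allL N3188 (tt N3893 (iv F35320)) (tt N3844 (iv F34840)) (tt N3903 D9361) (tt N2592 (iv D6826)) (tt N3861 (iv F35097)) (tt N3902 (iv F35389)) (tt N3188 F26139) (tt N3188 F26140) (tt N3715 (iv F32908)))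
theorem Q3190 : ∀ i, i < 3190 → P i := stepQ 3189 Q3189 (allL N3189 (tt N3189 F26141) (tt N3845 (iv F34880)) (tt N2593 (iv D6827)) (tt N3189 F26142) (tt N3719 (iv F32968)) (tt N3189 F26143) (tt N3904 D9362) (tt N3905 D9363) (tt N2612 F26144))
theorem Q3191 : ∀ i, i < 3191 → P i := stepQ 3190 Q3190 (allL N3190 (tt N3190 F26145) (tt N2600 F26146) (tt N3904 (iv F35395)) (tt N2594 F26147) (tt N3720 (iv F32974)) (tt N3801 (iv F38613)) (tt N2593 (iv D6828)) (tt N3906 D9365) (tt N2613 F26148))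
theorem Q3192 : ∀ i, i < 3192 → P i := stepQ 3191 Q3191 (allL N3191 (tt N3191 F26149) (tt N2601 F26150) (tt N3905 (iv F35399)) (tt N3907 D9366) (tt N3721 (iv F32978)) (tt N3191 F26151) (tt N3906 (iv F35408)) (tt N2593 (iv D6829)) (tt N3908 D9367))
theorem Q3193 : ∀ i, i < 3193 → P i := stepQ 3192 Q3192 (allL N3192 (tt N3192 F26164) (tt N2602 F26165) (tt N3909 D9370) (tt N2595 (iv D6832)) (tt N3910 D9371) (tt N3192 F26166) (tt N3503 (iv F38748)) (tt N3907 (iv F35412)) (tt N3192 F26167))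
theorem Q3194 : ∀ i, i < 3194 → P i := stepQ 3193 Q3193 (allL N3193 (tt N3193 F26168) (tt N2603 F26169) (tt N3911 D9372) (tt N2596 (iv D6833)) (tt N3912 D9373) (tt N2670 F26170) (tt N2597 F26171) (tt N3476 (iv F37860)) (tt N3193 F26172))
theorem Q3195 : ∀ i, i < 3195 → P i := stepQ 3194 Q3194 (allL N3194 (tt N3194 F26173) (tt N3194 F26174) (tt N2597 (iv D6834)) (tt N3194 F26175) (tt N3913 D9374) (tt N2598 F26176) (tt N3911 (iv F35440)) (tt N3723 (iv F33015)) (tt N3194 F26177))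
theorem Q3196 : ∀ i, i < 3196 → P i := stepQ 3195 Q3195 (allL N3195 (tt N3195 F26178) (tt N2604 F26179) (tt N3913 (iv F35448)) (tt N3910 (iv F35434)) (tt N2597 (iv D6835)) (tt N3914 D9375) (tt N3912 (iv F35444)) (tt N3724 (iv F33018)) (tt N3195 F26180))
theorem Q3197 : ∀ i, i < 3197 → P i := stepQ 3196 Q3196 (allL N3196 (tt N3196 F26181) (tt N3196 F26182) (tt N2599 F26183) (tt N3915 D9376) (tt N2598 (iv D6836)) (tt N3916 D9377) (tt N2672 F26184) (tt N2675 (iv F37647)) (tt N3196 F26185))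
theorem Q3198 : ∀ i, i < 3198 → P i := stepQ 3197 Q3197 (allL N3197 (tt N3197 F26186) (tt N2605 F26187) (tt N3916 (iv F35463)) (tt N3197 F26188) (tt N3914 (iv F35452)) (tt N2599 (iv D6837)) (tt N3197 F37538) (tt N2676 (iv F37760)) (tt N3197 F26189))
theorem Q3199 : ∀ i, i < 3199 → P i := stepQ 3198 Q3198 (allL N3198 (tt N2606 F26194) (tt N3906 (iv F35407)) (tt N3536 (iv F38655)) (tt N3506 (iv F38697)) (tt N3726 (iv F33051)) (tt N3507 (iv F38616)) (tt N2601 F26195) (tt N2600 (iv D6839)) (tt N3917 D9382))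
theorem Q3200 : ∀ i, i < 3200 → P i := stepQ 3199 Q3199 (allL N3199 (tt N2607 F26196) (tt N3907 (iv F35410)) (tt N3511 (iv F38822)) (tt N2601 (iv D6840)) (tt N3918 D9384) (tt N3199 F26197) (tt N3506 (iv F38698)) (tt N2602 F26198) (tt N3919 D9385))
theorem Q3201 : ∀ i, i < 3201 → P i := stepQ 3200 Q3200 (allL N3200 (tt N2608 F26199) (tt N3908 (iv F35414)) (tt N3854 (iv F34948)) (tt N3919 (iv F35489)) (tt N3728 (iv F33057)) (tt N3200 F26200) (tt N3917 (iv F35481)) (tt N2618 F26201) (tt N2601 (iv D6841)))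
theorem Q3202 : ∀ i, i < 3202 → P i := stepQ 3201 Q3201 (allL N3201 (tt N2609 F26215) (tt N3910 (iv F35433)) (tt N3509 (iv F38879)) (tt N2604 F26216) (tt N2602 (iv D6845)) (tt N3920 D9391) (tt N3505 (iv F38769)) (tt N3918 (iv F35487)) (tt N3201 F26217))
theorem Q3203 : ∀ i, i < 3203 → P i := stepQ 3202 Q3202 (allL N3202 (tt N2610 F26218) (tt N3912 (iv F35443)) (tt N3202 F26219) (tt N3505 (iv F38768)) (tt N2603 (iv D6846)) (tt N3202 F37537) (tt N2604 F26220) (tt N3486 (iv F38036)) (tt N3202 F26221))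
theorem Q3204 : ∀ i, i < 3204 → P i := stepQ 3203 Q3203 (allL N3203 (tt N2611 F26222) (tt N3914 (iv F35451)) (tt N3203 F26223) (tt N3920 (iv F35512)) (tt N2605 F26224) (tt N2604 (iv D6847)) (tt N3203 F37636) (tt N2677 (iv F37920)) (tt N3203 F26225))
theorem Q3205 : ∀ i, i < 3205 → P i := stepQ 3204 Q3204 (allL N3204 (tt N3917 (iv F35480)) (tt N3204 F26254) (tt N3550 (iv F38683)) (tt N3514 (iv F38701)) (tt N3730 (iv F33150)) (tt N3516 (iv F38629)) (tt N2608 F26255) (tt N2621 F26256) (tt N2606 (iv D6855)))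
theorem Q3206 : ∀ i, i < 3206 → P i := stepQ 3205 Q3205 (allL N3205 (tt N3918 (iv F35486)) (tt N3205 F26259) (tt N3518 (iv F38823)) (tt N3731 (iv F33156)) (tt N2607 (iv D6857)) (tt N3921 D9407) (tt N3513 (iv F38699)) (tt N2609 F26260) (tt N3922 D9408))
theorem Q3207 : ∀ i, i < 3207 → P i := stepQ 3206 Q3206 (allL N3206 (tt N3919 (iv F35488)) (tt N3206 F26261) (tt N3521 (iv F38824)) (tt N2608 F26262) (tt N3922 (iv F35574)) (tt N3206 F26263) (tt N3514 (iv F38702)) (tt N3206 F26264) (tt N2607 (iv D6858)))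
theorem Q3208 : ∀ i, i < 3208 → P i := stepQ 3207 Q3207 (allL N3207 (tt N3920 (iv F35511)) (tt N3207 F26283) (tt N3517 (iv F38903)) (tt N2611 F26284) (tt N3207 F26285) (tt N2609 (iv D6864)) (tt N3207 F37741) (tt N3921 (iv F35572)) (tt N3207 F26286))
theorem Q3209 : ∀ i, i < 3209 → P i := stepQ 3208 Q3208 (allL N3208 (tt N3208 F26325) (tt N3862 (iv F35162)) (tt N2613 F26326) (tt N3208 F26327) (tt N3733 (iv F33296)) (tt N3923 D9425) (tt N2612 (iv D6874)) (tt N3924 D9426) (tt N3904 (iv F35397)))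
theorem Q3210 : ∀ i, i < 3210 → P i := stepQ 3209 Q3209 (allL N3209 (tt N3209 F26328) (tt N3863 (iv F35165)) (tt N2614 F26329) (tt N3925 D9427) (tt N3734 (iv F33299)) (tt N3209 F26330) (tt N3924 (iv F35649)) (tt N2612 (iv D6875)) (tt N3926 D9428))
theorem Q3211 : ∀ i, i < 3211 → P i := stepQ 3210 Q3210 (allL N3210 (tt N3210 F26331) (tt N2616 F26332) (tt N3923 (iv F35644)) (tt N2615 F26333) (tt N3927 D9429) (tt N2613 (iv D6876)) (tt N3210 F26334) (tt N3928 D9430) (tt N3801 (iv F38614)))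
theorem Q3212 : ∀ i, i < 3212 → P i := stepQ 3211 Q3211 (allL N3211 (tt N3211 F26335) (tt N2617 F26336) (tt N3924 (iv F35648)) (tt N3211 F26337) (tt N3735 (iv F33305)) (tt N3928 (iv F35664)) (tt N2614 F26338) (tt N2613 (iv D6877)) (tt N3929 D9431))
theorem Q3213 : ∀ i, i < 3213 → P i := stepQ 3212 Q3212 (allL N3212 (tt N3212 F26339) (tt N2618 F26340) (tt N3926 (iv F35655)) (tt N3212 F26341) (tt N3737 (iv F33313)) (tt N3212 F26342) (tt N3929 (iv F35669)) (tt N3908 (iv F35416)) (tt N2614 (iv D6878)))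
theorem Q3214 : ∀ i, i < 3214 → P i := stepQ 3213 Q3213 (allL N3213 (tt N2619 F26343) (tt N3927 (iv F35658)) (tt N3809 (iv F38620)) (tt N2677 F26344) (tt N2616 (iv D6879)) (tt N3729 (iv F37922)) (tt N3213 F26345) (tt N3930 D9432) (tt N3802 (iv F38607)))
theorem Q3215 : ∀ i, i < 3215 → P i := stepQ 3214 Q3214 (allL N3214 (tt N2620 F26346) (tt N3928 (iv F35662)) (tt N3810 (iv F38660)) (tt N3214 F26347) (tt N3930 (iv F35671)) (tt N2617 F26348) (tt N3214 F26349) (tt N2616 (iv D6880)) (tt N3931 D9433))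
theorem Q3216 : ∀ i, i < 3216 → P i := stepQ 3215 Q3215 (allL N3215 (tt N2621 F26350) (tt N3929 (iv F35667)) (tt N3883 (iv F35254)) (tt N3215 F26351) (tt N3739 (iv F33342)) (tt N3931 (iv F35675)) (tt N2618 F26352) (tt N3917 (iv F35482)) (tt N2617 (iv D6881)))
theorem Q3217 : ∀ i, i < 3217 → P i := stepQ 3216 Q3216 (allL N3216 (tt N3930 (iv F35670)) (tt N3216 F26353) (tt N3811 (iv F38624)) (tt N3921 (iv F38065)) (tt N2620 F26354) (tt N3731 (iv F38070)) (tt N3216 F26355) (tt N2619 (iv D6882)) (tt N3932 D9435))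
theorem Q3218 : ∀ i, i < 3218 → P i := stepQ 3217 Q3217 (allL N3217 (tt N3931 (iv F35673)) (tt N3217 F26356) (tt N3553 (iv F38687)) (tt N3217 F26357) (tt N3932 (iv F35682)) (tt N2621 F26358) (tt N3217 F26359) (tt N3516 (iv F38630)) (tt N2620 (iv D6883)))
theorem Q3219 : ∀ i, i < 3219 → P i := stepQ 3218 Q3218 (allL N3218 (tt N3218 F26360) (tt N3869 (iv F35197)) (tt N2622 (iv D6884)) (tt N3218 F26361) (tt N3933 D9436) (tt N3218 F26362) (tt N2624 F26363) (tt N3750 (iv F33535)) (tt N3934 D9437))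
theorem Q3220 : ∀ i, i < 3220 → P i := stepQ 3219 Q3219 (allL N3219 (tt N3219 F26364) (tt N2632 F26365) (tt N3933 (iv F35685)) (tt N3219 F26366) (tt N2622 (iv D6885)) (tt N3935 D9438) (tt N2625 F26367) (tt N3751 (iv F33539)) (tt N3936 D9439))
theorem Q3221 : ∀ i, i < 3221 → P i := stepQ 3220 Q3220 (allL N3220 (tt N3220 F26368) (tt N2633 F26369) (tt N3934 (iv F35688)) (tt N2623 F26370) (tt N3936 (iv F35699)) (tt N3220 F26371) (tt N2626 F26372) (tt N3937 D9440) (tt N2622 (iv D6886)))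
theorem Q3222 : ∀ i, i < 3222 → P i := stepQ 3221 Q3221 (allL N3221 (tt N3221 F26373) (tt N3871 (iv F35207)) (tt N2625 F26374) (tt N3938 D9441) (tt N2624 (iv D6887)) (tt N3939 D9442) (tt N3933 (iv F35686)) (tt N3753 (iv F33547)) (tt N3940 D9443))
theorem Q3223 : ∀ i, i < 3223 → P i := stepQ 3222 Q3222 (allL N3222 (tt N3222 F26375) (tt N3872 (iv F35209)) (tt N2626 F26376) (tt N3222 F26377) (tt N3940 (iv F35714)) (tt N2628 F26378) (tt N3934 (iv F35691)) (tt N3941 D9444) (tt N2624 (iv D6888)))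
theorem Q3224 : ∀ i, i < 3224 → P i := stepQ 3223 Q3223 (allL N3223 (tt N3223 F26379) (tt N2634 F26380) (tt N3939 (iv F35710)) (tt N3223 F26381) (tt N2629 F26382) (tt N2625 (iv D6889)) (tt N3942 D9445) (tt N3755 (iv F33554)) (tt N3943 D9446))
theorem Q3225 : ∀ i, i < 3225 → P i := stepQ 3224 Q3224 (allL N3224 (tt N3224 F26383) (tt N2635 F26384) (tt N3940 (iv F35713)) (tt N3224 F26385) (tt N2626 F26386) (tt N3943 (iv F35726)) (tt N3936 (iv F35700)) (tt N3944 D9447) (tt N2625 (iv D6890)))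
theorem Q3226 : ∀ i, i < 3226 → P i := stepQ 3225 Q3225 (allL N3225 (tt N3225 F26387) (tt N2636 F26388) (tt N3941 (iv F35716)) (tt N3225 F26389) (tt N3944 (iv F35729)) (tt N2631 F26390) (tt N3937 (iv F35705)) (tt N2626 (iv D6891)) (tt N3757 (iv F33562)))
theorem Q3227 : ∀ i, i < 3227 → P i := stepQ 3226 Q3226 (allL N3226 (tt N3226 F26391) (tt N3876 (iv F35219)) (tt N2649 F26392) (tt N2627 (iv D6892)) (tt N3226 F26393) (tt N3945 D9448) (tt N3226 F26394) (tt N3946 D9449) (tt N3947 D9450))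
theorem Q3228 : ∀ i, i < 3228 → P i := stepQ 3227 Q3227 (allL N3227 (tt N3227 F26395) (tt N3877 (iv F35223)) (tt N2629 F26396) (tt N3945 (iv F35732)) (tt N3939 (iv F35711)) (tt N2627 (iv D6893)) (tt N3948 D9451) (tt N3759 (iv F33568)) (tt N3949 D9452))
theorem Q3229 : ∀ i, i < 3229 → P i := stepQ 3228 Q3228 (allL N3228 (tt N3228 F26397) (tt N3878 (iv F35225)) (tt N2630 F26398) (tt N3947 (iv F35739)) (tt N2628 F26399) (tt N3949 (iv F35747)) (tt N3228 F26400) (tt N3950 D9453) (tt N2627 (iv D6894)))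
theorem Q3230 : ∀ i, i < 3230 → P i := stepQ 3229 Q3229 (allL N3229 (tt N3229 F26401) (tt N3879 (iv F35229)) (tt N2631 F26402) (tt N3951 D9454) (tt N3950 (iv F35750)) (tt N3941 (iv F35717)) (tt N3229 F26403) (tt N2628 (iv D6895)) (tt N3761 (iv F33576)))
theorem Q3231 : ∀ i, i < 3231 → P i := stepQ 3230 Q3230 (allL N3230 (tt N3230 F26404) (tt N2637 F26405) (tt N3948 (iv F35743)) (tt N2653 F26406) (tt N3942 (iv F35721)) (tt N3230 F26407) (tt N2629 (iv D6896)) (tt N3762 (iv F33581)) (tt N3952 D9455))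
theorem Q3232 : ∀ i, i < 3232 → P i := stepQ 3231 Q3231 (allL N3231 (tt N3231 F26408) (tt N2638 F26409) (tt N3949 (iv F35746)) (tt N2654 F26410) (tt N3943 (iv F35725)) (tt N2630 F26411) (tt N3952 (iv F35760)) (tt N3953 D9456) (tt N2629 (iv D6897)))
theorem Q3233 : ∀ i, i < 3233 → P i := stepQ 3232 Q3232 (allL N3232 (tt N3232 F26412) (tt N2639 F26413) (tt N3950 (iv F35749)) (tt N3954 D9457) (tt N2631 F26414) (tt N3953 (iv F35763)) (tt N3232 F26415) (tt N2630 (iv D6898)) (tt N3764 (iv F33590)))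
theorem Q3234 : ∀ i, i < 3234 → P i := stepQ 3233 Q3233 (allL N3233 (tt N2640 F26416) (tt N3935 (iv F35693)) (tt N3887 (iv F35292)) (tt N3233 F26417) (tt N3233 F26418) (tt N2632 (iv D6899)) (tt N3955 D9458) (tt N3771 (iv F33635)) (tt N3956 D9459))
theorem Q3235 : ∀ i, i < 3235 → P i := stepQ 3234 Q3234 (allL N3234 (tt N2641 F26419) (tt N3936 (iv F35697)) (tt N3828 (iv F38931)) (tt N3234 F26420) (tt N2633 F26421) (tt N3956 (iv F35776)) (tt N2635 F26422) (tt N3957 D9460) (tt N2632 (iv D6900)))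
theorem Q3236 : ∀ i, i < 3236 → P i := stepQ 3235 Q3235 (allL N3235 (tt N2642 F26423) (tt N3937 (iv F35702)) (tt N3826 (iv F38889)) (tt N3235 F26424) (tt N3957 (iv F35778)) (tt N3235 F26425) (tt N2636 F26426) (tt N2633 (iv D6901)) (tt N3773 (iv F33643)))
theorem Q3237 : ∀ i, i < 3237 → P i := stepQ 3236 Q3236 (allL N3236 (tt N2643 F26427) (tt N3942 (iv F35719)) (tt N3888 (iv F35303)) (tt N3236 F26428) (tt N2637 F26429) (tt N3955 (iv F35772)) (tt N2634 (iv D6902)) (tt N3774 (iv F33646)) (tt N3958 D9461))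
theorem Q3238 : ∀ i, i < 3238 → P i := stepQ 3237 Q3237 (allL N3237 (tt N2644 F26430) (tt N3943 (iv F35723)) (tt N3889 (iv F35306)) (tt N3237 F26431) (tt N2638 F26432) (tt N2635 F26433) (tt N3958 (iv F35783)) (tt N3959 D9462) (tt N2634 (iv D6903)))
theorem Q3239 : ∀ i, i < 3239 → P i := stepQ 3238 Q3238 (allL N3238 (tt N2645 F26434) (tt N3944 (iv F35728)) (tt N3890 (iv F35310)) (tt N3960 D9463) (tt N2636 F26435) (tt N3959 (iv F35786)) (tt N3957 (iv F35779)) (tt N2635 (iv D6904)) (tt N3776 (iv F33652)))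
theorem Q3240 : ∀ i, i < 3240 → P i := stepQ 3239 Q3239 (allL N3239 (tt N2646 F26436) (tt N3952 (iv F35757)) (tt N3891 (iv F35313)) (tt N2656 F26437) (tt N3958 (iv F35782)) (tt N3239 F26438) (tt N2638 F26439) (tt N3961 D9464) (tt N2637 (iv D6905)))
theorem Q3241 : ∀ i, i < 3241 → P i := stepQ 3240 Q3240 (allL N3240 (tt N2647 F26440) (tt N3953 (iv F35762)) (tt N3892 (iv F35318)) (tt N3962 D9465) (tt N3959 (iv F35785)) (tt N2639 F26441) (tt N3961 (iv F35792)) (tt N2638 (iv D6906)) (tt N3778 (iv F33659)))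
theorem Q3242 : ∀ i, i < 3242 → P i := stepQ 3241 Q3241 (allL N3241 (tt N2648 F26442) (tt N3954 (iv F35765)) (tt N3963 D9466) (tt N2639 (iv D6907)) (tt N3241 F26443) (tt N3962 (iv F35794)) (tt N3241 F26444) (tt N2658 F26445) (tt N3779 (iv F33664)))
theorem Q3243 : ∀ i, i < 3243 → P i := stepQ 3242 Q3242 (allL N3242 (tt N3955 (iv F35769)) (tt N3242 F26446) (tt N3897 (iv F35371)) (tt N3242 F26447) (tt N3242 F26448) (tt N2643 F26449) (tt N2640 (iv D6908)) (tt N3791 (iv F33761)) (tt N3964 D9467))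
theorem Q3244 : ∀ i, i < 3244 → P i := stepQ 3243 Q3243 (allL N3243 (tt N3956 (iv F35773)) (tt N3243 F26450) (tt N3837 (iv F38941)) (tt N3243 F26451) (tt N3243 F26452) (tt N2641 F26453) (tt N3964 (iv F35804)) (tt N3965 D9468) (tt N2640 (iv D6909)))
theorem Q3245 : ∀ i, i < 3245 → P i := stepQ 3244 Q3244 (allL N3244 (tt N3957 (iv F35777)) (tt N3244 F26454) (tt N3836 (iv F38892)) (tt N3966 D9469) (tt N2642 F26455) (tt N3965 (iv F35807)) (tt N2645 F26456) (tt N2641 (iv D6910)) (tt N3793 (iv F33768)))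
theorem Q3246 : ∀ i, i < 3246 → P i := stepQ 3245 Q3245 (allL N3245 (tt N3958 (iv F35780)) (tt N3245 F26457) (tt N3898 (iv F35380)) (tt N3245 F26458) (tt N2646 F26459) (tt N3964 (iv F35803)) (tt N2644 F26460) (tt N3967 D9470) (tt N2643 (iv D6911)))
theorem Q3247 : ∀ i, i < 3247 → P i := stepQ 3246 Q3246 (allL N3246 (tt N3959 (iv F35784)) (tt N3246 F26461) (tt N3899 (iv F35383)) (tt N3968 D9471) (tt N2647 F26462) (tt N2645 F26463) (tt N3967 (iv F35814)) (tt N2644 (iv D6912)) (tt N3795 (iv F33775)))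
theorem Q3248 : ∀ i, i < 3248 → P i := stepQ 3247 Q3247 (allL N3247 (tt N3960 (iv F35787)) (tt N3247 F26464) (tt N3969 D9472) (tt N2645 (iv D6913)) (tt N3247 F26465) (tt N3968 (iv F35816)) (tt N3966 (iv F35810)) (tt N3247 F26466) (tt N3796 (iv F33778)))
theorem Q3249 : ∀ i, i < 3249 → P i := stepQ 3248 Q3248 (allL N3248 (tt N3961 (iv F35790)) (tt N3248 F26467) (tt N3901 (iv F35386)) (tt N3355 (iv F38958)) (tt N3967 (iv F35813)) (tt N3248 F26468) (tt N2647 F26469) (tt N2646 (iv D6914)) (tt N3797 (iv F33782)))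
theorem Q3250 : ∀ i, i < 3250 → P i := stepQ 3249 Q3249 (allL N3249 (tt N3962 (iv F35793)) (tt N3249 F26470) (tt N3361 (iv F38943)) (tt N2647 (iv D6915)) (tt N3356 (iv F38954)) (tt N2648 F26471) (tt N3355 (iv F38959)) (tt N2660 F26472) (tt N3798 (iv F33786)))
theorem Q3251 : ∀ i, i < 3251 → P i := stepQ 3250 Q3250 (allL N3250 (tt N3963 (iv F35796)) (tt N3365 (iv F38952)) (tt N2648 (iv D6916)) (tt N3903 (iv F35391)) (tt N3250 F26473) (tt N3361 (iv F38944)) (tt N3250 F26474) (tt N2661 F26475) (tt N3799 (iv F33790)))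
theorem Q3252 : ∀ i, i < 3252 → P i := stepQ 3251 Q3251 (allL N3251 (tt N3251 F26476) (tt N3251 F26477) (tt N3945 (iv F35731)) (tt N2650 F26478) (tt N3970 D9477) (tt N2649 (iv D6917)) (tt N3971 D9478) (tt N3972 D9479) (tt N3973 D9480))
theorem Q3253 : ∀ i, i < 3253 → P i := stepQ 3252 Q3252 (allL N3252 (tt N3252 F26479) (tt N3252 F26480) (tt N3946 (iv F35734)) (tt N3252 F26481) (tt N3252 F26482) (tt N3972 (iv F35844)) (tt N3252 F26483) (tt N2649 (iv D6918)) (tt N3974 D9481))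
theorem Q3254 : ∀ i, i < 3254 → P i := stepQ 3253 Q3253 (allL N3253 (tt N3253 F26484) (tt N3253 F26485) (tt N3947 (iv F35738)) (tt N2651 F26486) (tt N3253 F26487) (tt N3973 (iv F35848)) (tt N3253 F26488) (tt N3975 D9482) (tt N2649 (iv D6919)))
theorem Q3255 : ∀ i, i < 3255 → P i := stepQ 3254 Q3254 (allL N3254 (tt N3254 F26489) (tt N3254 F26490) (tt N2653 F26491) (tt N3971 (iv F35839)) (tt N3254 F26492) (tt N3254 F26493) (tt N2650 (iv D6920)) (tt N3254 F26494) (tt N3976 D9483))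
theorem Q3256 : ∀ i, i < 3256 → P i := stepQ 3255 Q3255 (allL N3255 (tt N3255 F26495) (tt N3255 F26496) (tt N2654 F26497) (tt N3973 (iv F35847)) (tt N3255 F26498) (tt N2651 F26499) (tt N3976 (iv F35863)) (tt N3977 D9484) (tt N2650 (iv D6921)))
theorem Q3257 : ∀ i, i < 3257 → P i := stepQ 3256 Q3256 (allL N3256 (tt N3256 F26500) (tt N3256 F26501) (tt N2655 F26502) (tt N3978 D9485) (tt N2652 F26503) (tt N3977 (iv F35868)) (tt N3256 F26504) (tt N2651 (iv D6922)) (tt N3256 F26505))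
theorem Q3258 : ∀ i, i < 3258 → P i := stepQ 3257 Q3257 (allL N3257 (tt N3257 F26506) (tt N3257 F26507) (tt N3257 F26508) (tt N2652 (iv D6923)) (tt N3979 D9486) (tt N3257 F26509) (tt N3257 F26510) (tt N3257 F26511) (tt N3257 F26512))
theorem Q3259 : ∀ i, i < 3259 → P i := stepQ 3258 Q3258 (allL N3258 (tt N3258 F26513) (tt N2656 F26514) (tt N3976 (iv F35860)) (tt N3952 (iv F35758)) (tt N3258 F26515) (tt N3258 F26516) (tt N2654 F26517) (tt N3980 D9487) (tt N2653 (iv D6924)))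
theorem Q3260 : ∀ i, i < 3260 → P i := stepQ 3259 Q3259 (allL N3259 (tt N3259 F26518) (tt N2657 F26519) (tt N3977 (iv F35866)) (tt N3981 D9488) (tt N3259 F26520) (tt N2655 F26521) (tt N3980 (iv F35884)) (tt N2654 (iv D6925)) (tt N3259 F26522))
theorem Q3261 : ∀ i, i < 3261 → P i := stepQ 3260 Q3260 (allL N3260 (tt N3260 F26523) (tt N2658 F26524) (tt N3982 D9489) (tt N2655 (iv D6926)) (tt N3260 F26525) (tt N3981 (iv F35888)) (tt N3260 F26526) (tt N3954 (iv F35768)) (tt N3260 F26527))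
theorem Q3262 : ∀ i, i < 3262 → P i := stepQ 3261 Q3261 (allL N3261 (tt N2659 F26528) (tt N3980 (iv F35881)) (tt N3261 F26529) (tt N3346 (iv F38955)) (tt N3261 F26530) (tt N3261 F26531) (tt N2657 F26532) (tt N2656 (iv D6927)) (tt N3261 F26533))
theorem Q3263 : ∀ i, i < 3263 → P i := stepQ 3262 Q3262 (allL N3262 (tt N2660 F26534) (tt N3981 (iv F35887)) (tt N3351 (iv F38945)) (tt N2657 (iv D6928)) (tt N3347 (iv F38953)) (tt N2658 F26535) (tt N3346 (iv F38956)) (tt N3962 (iv F35795)) (tt N3262 F26536))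
theorem Q3264 : ∀ i, i < 3264 → P i := stepQ 3263 Q3263 (allL N3263 (tt N2661 F26537) (tt N3983 D9493) (tt N2658 (iv D6929)) (tt N3263 F26538) (tt N3263 F26539) (tt N3351 (iv F38946)) (tt N3263 F26540) (tt N3963 (iv F35799)) (tt N3263 F26541))
theorem Q3265 : ∀ i, i < 3265 → P i := stepQ 3264 Q3264 (allL N3264 (tt N3264 F27537) (tt N3264 F27538) (tt N2662 (iv D7204)) (tt N3265 (iv F37541)) (tt N3264 F27539) (tt N2665 (iv F37540)) (tt N3477 (iv F37705)) (tt N2671 F37493) (tt N2664 F37648))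
theorem Q3266 : ∀ i, i < 3266 → P i := stepQ 3265 Q3265 (allL N3265 (tt N3265 F27575) (tt N3265 F27576) (tt N2663 (iv D7213)) (tt N3264 F37541) (tt N2666 F37542) (tt N2664 F27577) (tt N3725 F37595) (tt N3265 F27578) (tt N2665 F37596))
theorem Q3267 : ∀ i, i < 3267 → P i := stepQ 3266 Q3266 (allL N3266 (tt N3266 F28645) (tt N3266 F28646) (tt N2667 F28647) (tt N3266 F28648) (tt N3725 (iv F39027)) (tt N3984 D9871) (tt N2666 (iv D7499)) (tt N3266 F39028) (tt N2675 F28649))
theorem Q3268 : ∀ i, i < 3268 → P i := stepQ 3267 Q3267 (allL N3267 (tt N3267 F28654) (tt N2673 F28655) (tt N3984 (iv F39031)) (tt N2668 F28656) (tt N3985 D9872) (tt N2667 (iv D7501)) (tt N3267 F28657) (tt N3267 F38985) (tt N2676 F28658))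
theorem Q3269 : ∀ i, i < 3269 → P i := stepQ 3268 Q3268 (allL N3268 (tt N3268 F28688) (tt N3268 F28689) (tt N2670 (iv D7509)) (tt N3268 F28690) (tt N3268 F39025) (tt N3911 (iv F35439)) (tt N2671 F28691) (tt N3477 (iv F39024)) (tt N3268 F28692))
theorem Q3270 : ∀ i, i < 3270 → P i := stepQ 3269 Q3269 (allL N3269 (tt N3269 F28705) (tt N3269 F28706) (tt N3269 F28707) (tt N2672 (iv D7513)) (tt N3269 F28708) (tt N3269 F37592) (tt N3915 (iv F35458)) (tt N3269 F28709) (tt N3269 F28710))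
theorem Q3271 : ∀ i, i < 3271 → P i := stepQ 3270 Q3270 (allL N3270 (tt N2674 F28719) (tt N3985 (iv F39037)) (tt N3270 F28720) (tt N3802 (iv F38606)) (tt N2673 (iv D7516)) (tt N3485 (iv F39020)) (tt N3270 F28721) (tt N3270 F39021) (tt N2677 F28722))
theorem Q3272 : ∀ i, i < 3272 → P i := stepQ 3271 Q3271 (allL N3271 (tt N3271 F28904) (tt N3271 F28905) (tt N2676 F28906) (tt N3271 F28907) (tt N3986 D9873) (tt N2675 (iv D7562)) (tt N3271 F28908) (tt N3916 (iv F39026)) (tt N3984 (iv F39035)))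
theorem Q3273 : ∀ i, i < 3273 → P i := stepQ 3272 Q3272 (allL N3272 (tt N3272 F28922) (tt N2677 F28923) (tt N3986 (iv F39043)) (tt N3927 (iv F35659)) (tt N2676 (iv D7566)) (tt N3724 F39023) (tt N3272 F28924) (tt N3914 (iv F39022)) (tt N3985 (iv F39040)))
theorem Q3274 : ∀ i, i < 3274 → P i := stepQ 3273 Q3273 (allL N3273 (tt N2695 F29571) (tt N2680 F29572) (tt N2902 F29573) (tt N3987 D9874) (tt N2678 (iv D7723)) (tt N3527 (iv F32117)) (tt N3743 (iv F39001)) (tt N3988 D9875) (tt N3370 (iv F31328)))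
theorem Q3275 : ∀ i, i < 3275 → P i := stepQ 3274 Q3274 (allL N3274 (tt N2696 F29579) (tt N2681 F29580) (tt N2904 F29581) (tt N3989 D9876) (tt N3988 (iv F39053)) (tt N2679 F29582) (tt N3780 (iv F38599)) (tt N2678 (iv D7725)) (tt N3990 D9877))
theorem Q3276 : ∀ i, i < 3276 → P i := stepQ 3275 Q3275 (allL N3275 (tt N2697 F29583) (tt N2682 F29584) (tt N3991 D9878) (tt N2679 (iv D7726)) (tt N3992 D9879) (tt N3989 (iv F39056)) (tt N3275 F29585) (tt N3275 F29586) (tt N3993 D9880))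
theorem Q3277 : ∀ i, i < 3277 → P i := stepQ 3276 Q3276 (allL N3276 (tt N2698 F29587) (tt N2683 F29588) (tt N2906 F29589) (tt N3993 (iv F39073)) (tt N3531 (iv F32136)) (tt N3990 (iv F39061)) (tt N3276 F29590) (tt N3374 (iv F31345)) (tt N2679 (iv D7727)))
theorem Q3278 : ∀ i, i < 3278 → P i := stepQ 3277 Q3277 (allL N3277 (tt N2686 F29591) (tt N3987 (iv F39048)) (tt N3277 F29592) (tt N2680 (iv D7728)) (tt N3277 F29593) (tt N3532 (iv F32142)) (tt N3746 (iv F39010)) (tt N3994 D9881) (tt N3375 (iv F31350)))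
theorem Q3279 : ∀ i, i < 3279 → P i := stepQ 3278 Q3278 (allL N3278 (tt N2687 F29597) (tt N3988 (iv F39051)) (tt N2684 F29598) (tt N3995 D9882) (tt N2681 F29599) (tt N3534 (iv F32151)) (tt N3716 (iv F38986)) (tt N2680 (iv D7730)) (tt N3996 D9883))
theorem Q3280 : ∀ i, i < 3280 → P i := stepQ 3279 Q3279 (allL N3279 (tt N2688 F29604) (tt N3989 (iv F39055)) (tt N3279 F29605) (tt N2681 (iv D7732)) (tt N3997 D9884) (tt N2682 F29606) (tt N3782 (iv F38603)) (tt N3279 F29607) (tt N3998 D9885))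
theorem Q3281 : ∀ i, i < 3281 → P i := stepQ 3280 Q3280 (allL N3280 (tt N2689 F29608) (tt N3990 (iv F39059)) (tt N2685 F29609) (tt N3998 (iv F39087)) (tt N3996 (iv F39081)) (tt N2683 F29610) (tt N3800 (iv F38576)) (tt N3380 (iv F31369)) (tt N2681 (iv D7733)))
theorem Q3282 : ∀ i, i < 3282 → P i := stepQ 3281 Q3281 (allL N3281 (tt N2690 F29611) (tt N3992 (iv F39068)) (tt N3281 F29612) (tt N3538 (iv F32164)) (tt N2682 (iv D7734)) (tt N3999 D9886) (tt N3281 F29613) (tt N3281 F29614) (tt N4000 D9887))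
theorem Q3283 : ∀ i, i < 3283 → P i := stepQ 3282 Q3282 (allL N3282 (tt N2691 F29615) (tt N3993 (iv F39072)) (tt N3282 F29616) (tt N2683 F29617) (tt N4000 (iv F39094)) (tt N3998 (iv F39088)) (tt N3282 F29618) (tt N4001 D9888) (tt N2682 (iv D7735)))
theorem Q3284 : ∀ i, i < 3284 → P i := stepQ 3283 Q3283 (allL N3283 (tt N2692 F29627) (tt N2917 F29628) (tt N4002 D9889) (tt N2684 (iv D7738)) (tt N3283 F29629) (tt N3541 (iv F32182)) (tt N3614 (iv F38991)) (tt N3283 F29630) (tt N4003 D9890))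
theorem Q3285 : ∀ i, i < 3285 → P i := stepQ 3284 Q3284 (allL N3284 (tt N2693 F29631) (tt N2918 F29632) (tt N3996 (iv F39080)) (tt N4003 (iv F39105)) (tt N2685 F29633) (tt N3542 (iv F32187)) (tt N3718 (iv F38577)) (tt N3386 (iv F31391)) (tt N2684 (iv D7739)))
theorem Q3286 : ∀ i, i < 3286 → P i := stepQ 3285 Q3285 (allL N3285 (tt N3994 (iv F39075)) (tt N2706 F29643) (tt N3285 F29644) (tt N4004 D9891) (tt N3285 F29645) (tt N3544 (iv F32202)) (tt N3744 (iv F38980)) (tt N2686 (iv D7742)) (tt N4005 D9892))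
theorem Q3287 : ∀ i, i < 3287 → P i := stepQ 3286 Q3286 (allL N3286 (tt N3995 (iv F39078)) (tt N2707 F29653) (tt N4006 D9893) (tt N2687 (iv D7745)) (tt N4007 D9894) (tt N3546 (iv F32213)) (tt N3701 (iv F39006)) (tt N4004 (iv F39108)) (tt N4008 D9895))
theorem Q3288 : ∀ i, i < 3288 → P i := stepQ 3287 Q3287 (allL N3287 (tt N3996 (iv F39079)) (tt N2708 F29654) (tt N2693 F29655) (tt N4008 (iv F39116)) (tt N2689 F29656) (tt N3547 (iv F32217)) (tt N3717 (iv F38602)) (tt N3393 (iv F31420)) (tt N2687 (iv D7746)))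
theorem Q3289 : ∀ i, i < 3289 → P i := stepQ 3288 Q3288 (allL N3288 (tt N3997 (iv F39082)) (tt N2709 F29666) (tt N3288 F29667) (tt N4007 (iv F39114)) (tt N2688 (iv D7749)) (tt N4009 D9896) (tt N3783 (iv F38601)) (tt N3288 F29668) (tt N4010 D9897))
theorem Q3290 : ∀ i, i < 3290 → P i := stepQ 3289 Q3289 (allL N3289 (tt N3998 (iv F39085)) (tt N2710 F29669) (tt N3289 F29670) (tt N2689 F29671) (tt N4010 (iv F39123)) (tt N2691 F29672) (tt N3784 (iv F38600)) (tt N4011 D9898) (tt N2688 (iv D7750)))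
theorem Q3291 : ∀ i, i < 3291 → P i := stepQ 3290 Q3290 (allL N3290 (tt N3999 (iv F39089)) (tt N2711 F29673) (tt N3290 F29674) (tt N3551 (iv F32234)) (tt N4009 (iv F39119)) (tt N2690 (iv D7751)) (tt N4012 D9899) (tt N3290 F29675) (tt N4013 D9900))
theorem Q3292 : ∀ i, i < 3292 → P i := stepQ 3291 Q3291 (allL N3291 (tt N4000 (iv F39092)) (tt N2712 F29676) (tt N3291 F29677) (tt N3552 (iv F32237)) (tt N2691 F29678) (tt N4013 (iv F39134)) (tt N3291 F29679) (tt N4014 D9901) (tt N2690 (iv D7752)))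
theorem Q3293 : ∀ i, i < 3293 → P i := stepQ 3292 Q3292 (allL N3292 (tt N4001 (iv F39096)) (tt N2713 F29680) (tt N3292 F29681) (tt N3400 (iv F31443)) (tt N4014 (iv F39137)) (tt N4011 (iv F39126)) (tt N3292 F29682) (tt N2691 (iv D7753)) (tt N3292 F29683))
theorem Q3294 : ∀ i, i < 3294 → P i := stepQ 3293 Q3293 (allL N3293 (tt N4002 (iv F39100)) (tt N3608 F38993) (tt N2692 (iv D7757)) (tt N4006 (iv F39112)) (tt N3293 F29694) (tt N3556 (iv F32255)) (tt N3610 (iv F38992)) (tt N3293 F29695) (tt N4015 D9902))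
theorem Q3295 : ∀ i, i < 3295 → P i := stepQ 3294 Q3294 (allL N3294 (tt N4003 (iv F39103)) (tt N2694 F29696) (tt N4015 (iv F39140)) (tt N2693 F29697) (tt N3294 F29698) (tt N3557 (iv F32259)) (tt N3615 (iv F38987)) (tt N4016 D9903) (tt N2692 (iv D7758)))
theorem Q3296 : ∀ i, i < 3296 → P i := stepQ 3295 Q3295 (allL N3295 (tt N2942 F29722) (tt N4016 (iv F39142)) (tt N3613 F38990) (tt N3412 (iv F31481)) (tt N3295 F29723) (tt N3561 (iv F32286)) (tt N3616 (iv F38988)) (tt N2694 (iv D7765)) (tt N3295 F29724))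
theorem Q3297 : ∀ i, i < 3297 → P i := stepQ 3296 Q3296 (allL N3296 (tt N3987 (iv F39047)) (tt N2699 F29725) (tt N4017 D9904) (tt N2695 (iv D7766)) (tt N3296 F29726) (tt N3617 (iv F32491)) (tt N3742 (iv F39011)) (tt N4018 D9905) (tt N3413 (iv F31487)))
theorem Q3298 : ∀ i, i < 3298 → P i := stepQ 3297 Q3297 (allL N3297 (tt N3988 (iv F39050)) (tt N2700 F29730) (tt N2977 F29731) (tt N4019 D9906) (tt N2696 F29732) (tt N3619 (iv F32500)) (tt N3690 (iv F38999)) (tt N2695 (iv D7768)) (tt N4020 D9907))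
theorem Q3299 : ∀ i, i < 3299 → P i := stepQ 3298 Q3298 (allL N3298 (tt N3989 (iv F39054)) (tt N2701 F29737) (tt N4021 D9908) (tt N2696 (iv D7770)) (tt N4022 D9909) (tt N2697 F29738) (tt N3765 (iv F38998)) (tt N3298 F29739) (tt N4023 D9910))
theorem Q3300 : ∀ i, i < 3300 → P i := stepQ 3299 Q3299 (allL N3299 (tt N3990 (iv F39058)) (tt N2702 F29740) (tt N2980 F29741) (tt N4023 (iv F39161)) (tt N4020 (iv F39153)) (tt N2698 F29742) (tt N3781 (iv F38995)) (tt N3418 (iv F31502)) (tt N2696 (iv D7771)))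
theorem Q3301 : ∀ i, i < 3301 → P i := stepQ 3300 Q3300 (allL N3300 (tt N3991 (iv F39062)) (tt N2719 F29743) (tt N2697 (iv D7772)) (tt N2981 F29744) (tt N4024 D9911) (tt N4021 (iv F39156)) (tt N3300 F29745) (tt N3300 F29746) (tt N4025 D9912))
theorem Q3302 : ∀ i, i < 3302 → P i := stepQ 3301 Q3301 (allL N3301 (tt N3992 (iv F39067)) (tt N2703 F29747) (tt N4024 (iv F39164)) (tt N3624 (iv F32517)) (tt N2697 (iv D7773)) (tt N4026 D9913) (tt N3301 F29748) (tt N3301 F29749) (tt N4027 D9914))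
theorem Q3303 : ∀ i, i < 3303 → P i := stepQ 3302 Q3302 (allL N3302 (tt N3993 (iv F39071)) (tt N2704 F29750) (tt N4025 (iv F39168)) (tt N2698 F29751) (tt N4027 (iv F39174)) (tt N4023 (iv F39162)) (tt N3302 F29752) (tt N4028 D9915) (tt N2697 (iv D7774)))
theorem Q3304 : ∀ i, i < 3304 → P i := stepQ 3303 Q3303 (allL N3303 (tt N2706 F29757) (tt N4018 (iv F39148)) (tt N2715 F29758) (tt N4029 D9916) (tt N3303 F29759) (tt N3627 (iv F32531)) (tt N3740 (iv F39015)) (tt N2699 (iv D7776)) (tt N4030 D9917))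
theorem Q3305 : ∀ i, i < 3305 → P i := stepQ 3304 Q3304 (allL N3304 (tt N2707 F29767) (tt N4019 (iv F39150)) (tt N3677 F39009) (tt N2700 (iv D7779)) (tt N4031 D9918) (tt N3629 (iv F32542)) (tt N3679 (iv F39005)) (tt N4029 (iv F39180)) (tt N4032 D9919))
theorem Q3306 : ∀ i, i < 3306 → P i := stepQ 3305 Q3305 (allL N3305 (tt N2708 F29768) (tt N4020 (iv F39151)) (tt N2705 F29769) (tt N4032 (iv F39187)) (tt N2702 F29770) (tt N3630 (iv F32546)) (tt N3691 (iv F38996)) (tt N3427 (iv F31537)) (tt N2700 (iv D7780)))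
theorem Q3307 : ∀ i, i < 3307 → P i := stepQ 3306 Q3306 (allL N3306 (tt N2709 F29780) (tt N4022 (iv F39158)) (tt N2722 F29781) (tt N4031 (iv F39185)) (tt N2701 (iv D7783)) (tt N4033 D9920) (tt N3766 (iv F38594)) (tt N3306 F29782) (tt N4034 D9921))
theorem Q3308 : ∀ i, i < 3308 → P i := stepQ 3307 Q3307 (allL N3307 (tt N2710 F29783) (tt N4023 (iv F39160)) (tt N2723 F29784) (tt N2702 F29785) (tt N4034 (iv F39194)) (tt N2704 F29786) (tt N3767 (iv F38592)) (tt N4035 D9922) (tt N2701 (iv D7784)))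
theorem Q3309 : ∀ i, i < 3309 → P i := stepQ 3308 Q3308 (allL N3308 (tt N2711 F29787) (tt N4026 (iv F39171)) (tt N2724 F29788) (tt N3635 (iv F32567)) (tt N4033 (iv F39190)) (tt N2703 (iv D7785)) (tt N4036 D9923) (tt N3308 F29789) (tt N4037 D9924))
theorem Q3310 : ∀ i, i < 3310 → P i := stepQ 3309 Q3309 (allL N3309 (tt N2712 F29790) (tt N4027 (iv F39173)) (tt N2725 F29791) (tt N3636 (iv F32571)) (tt N2704 F29792) (tt N4037 (iv F39205)) (tt N3309 F29793) (tt N4038 D9925) (tt N2703 (iv D7786)))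
theorem Q3311 : ∀ i, i < 3311 → P i := stepQ 3310 Q3310 (allL N3310 (tt N2713 F29794) (tt N4028 (iv F39176)) (tt N2726 F29795) (tt N3434 (iv F31566)) (tt N4038 (iv F39208)) (tt N4035 (iv F39197)) (tt N3310 F29796) (tt N2704 (iv D7787)) (tt N3310 F29797))
theorem Q3312 : ∀ i, i < 3312 → P i := stepQ 3311 Q3311 (allL N3311 (tt N4029 (iv F39179)) (tt N4004 (iv F39107)) (tt N3694 F39008) (tt N2706 (iv D7795)) (tt N4039 D9926) (tt N3641 (iv F32610)) (tt N3696 (iv F39007)) (tt N2707 F29823) (tt N4040 D9927))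
theorem Q3313 : ∀ i, i < 3313 → P i := stepQ 3312 Q3312 (allL N3312 (tt N4030 (iv F39181)) (tt N4005 (iv F39109)) (tt N2716 F29824) (tt N4040 (iv F39213)) (tt N3312 F29825) (tt N3642 (iv F32614)) (tt N3745 (iv F39013)) (tt N3443 (iv F31601)) (tt N2706 (iv D7796)))
theorem Q3314 : ∀ i, i < 3314 → P i := stepQ 3313 Q3313 (allL N3313 (tt N4031 (iv F39184)) (tt N4007 (iv F39113)) (tt N3699 (iv F38589)) (tt N2709 F29834) (tt N2707 (iv D7801)) (tt N4041 D9928) (tt N3702 F38590) (tt N4039 (iv F39212)) (tt N4042 D9929))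
theorem Q3315 : ∀ i, i < 3315 → P i := stepQ 3314 Q3314 (allL N3314 (tt N4032 (iv F39186)) (tt N4008 (iv F39115)) (tt N3700 F39004) (tt N2708 F29835) (tt N4042 (iv F39216)) (tt N3647 (iv F32629)) (tt N3703 (iv F39003)) (tt N4043 D9930) (tt N2707 (iv D7802)))
theorem Q3316 : ∀ i, i < 3316 → P i := stepQ 3315 Q3315 (allL N3315 (tt N4033 (iv F39188)) (tt N4009 (iv F39117)) (tt N2727 F29843) (tt N4041 (iv F39214)) (tt N2711 F29844) (tt N2709 (iv D7805)) (tt N4044 D9931) (tt N3315 F29845) (tt N4045 D9932))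
theorem Q3317 : ∀ i, i < 3317 → P i := stepQ 3316 Q3316 (allL N3316 (tt N4034 (iv F39192)) (tt N4010 (iv F39121)) (tt N2728 F29846) (tt N4042 (iv F39215)) (tt N2710 F29847) (tt N4045 (iv F39222)) (tt N3786 (iv F38583)) (tt N4046 D9933) (tt N2709 (iv D7806)))
theorem Q3318 : ∀ i, i < 3318 → P i := stepQ 3317 Q3317 (allL N3317 (tt N4035 (iv F39195)) (tt N4011 (iv F39124)) (tt N2729 F29848) (tt N3454 (iv F31629)) (tt N4046 (iv F39224)) (tt N2713 F29849) (tt N3787 (iv F38580)) (tt N2710 (iv D7807)) (tt N3317 F29850))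
theorem Q3319 : ∀ i, i < 3319 → P i := stepQ 3318 Q3318 (allL N3318 (tt N4036 (iv F39199)) (tt N4012 (iv F39128)) (tt N2730 F29851) (tt N3652 (iv F32647)) (tt N4044 (iv F39218)) (tt N3318 F29852) (tt N2711 (iv D7808)) (tt N3318 F29853) (tt N4047 D9934))
theorem Q3320 : ∀ i, i < 3320 → P i := stepQ 3319 Q3319 (allL N3319 (tt N4037 (iv F39203)) (tt N4013 (iv F39132)) (tt N2731 F29854) (tt N3653 (iv F32651)) (tt N4045 (iv F39221)) (tt N2712 F29855) (tt N4047 (iv F39228)) (tt N4048 D9935) (tt N2711 (iv D7809)))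
theorem Q3321 : ∀ i, i < 3321 → P i := stepQ 3320 Q3320 (allL N3320 (tt N4038 (iv F39206)) (tt N4014 (iv F39135)) (tt N2732 F29856) (tt N4049 D9936) (tt N2713 F29857) (tt N4048 (iv F39230)) (tt N3320 F29858) (tt N2712 (iv D7810)) (tt N3320 F29859))
theorem Q3322 : ∀ i, i < 3322 → P i := stepQ 3321 Q3321 (allL N3321 (tt N3321 F29911) (tt N4017 (iv F39145)) (tt N2714 (iv D7827)) (tt N3035 F29912) (tt N3321 F29913) (tt N3719 (iv F32969)) (tt N3738 (iv F39018)) (tt N4050 D9937) (tt N3467 (iv F31704)))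
theorem Q3323 : ∀ i, i < 3323 → P i := stepQ 3322 Q3322 (allL N3322 (tt N3322 F29918) (tt N2715 F29919) (tt N4050 (iv F39235)) (tt N3735 F39017) (tt N3322 F29920) (tt N3721 (iv F32979)) (tt N3736 (iv F39016)) (tt N2714 (iv D7829)) (tt N4051 D9938))
theorem Q3324 : ∀ i, i < 3324 → P i := stepQ 3323 Q3323 (allL N3323 (tt N2716 F29977) (tt N4051 (iv F39238)) (tt N4030 (iv F39182)) (tt N3739 F39014) (tt N3323 F29978) (tt N3728 (iv F33058)) (tt N3741 (iv F39012)) (tt N3481 (iv F31777)) (tt N2715 (iv D7844)))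
theorem Q3325 : ∀ i, i < 3325 → P i := stepQ 3324 Q3324 (allL N3324 (tt N3324 F30228) (tt N4021 (iv F39154)) (tt N2717 (iv D7920)) (tt N3053 F30229) (tt N4052 D9939) (tt N2719 F30230) (tt N3747 (iv F38596)) (tt N3324 F30231) (tt N4053 D9940))
theorem Q3326 : ∀ i, i < 3326 → P i := stepQ 3325 Q3325 (allL N3325 (tt N3325 F30232) (tt N2722 F30233) (tt N4052 (iv F39241)) (tt N3751 F38595) (tt N2717 (iv D7921)) (tt N4054 D9941) (tt N3748 (iv F38593)) (tt N3325 F30234) (tt N4055 D9942))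
theorem Q3327 : ∀ i, i < 3327 → P i := stepQ 3326 Q3326 (allL N3326 (tt N3326 F30235) (tt N2723 F30236) (tt N4053 (iv F39244)) (tt N2718 F30237) (tt N4055 (iv F39253)) (tt N2721 F30238) (tt N3749 (iv F38591)) (tt N4056 D9943) (tt N2717 (iv D7922)))
theorem Q3328 : ∀ i, i < 3328 → P i := stepQ 3327 Q3327 (allL N3327 (tt N3327 F30239) (tt N4024 (iv F39163)) (tt N2720 F30240) (tt N4057 D9944) (tt N2719 (iv D7923)) (tt N4058 D9945) (tt N3327 F30241) (tt N3327 F30242) (tt N4059 D9946))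
theorem Q3329 : ∀ i, i < 3329 → P i := stepQ 3328 Q3328 (allL N3328 (tt N3328 F30243) (tt N4025 (iv F39167)) (tt N2721 F30244) (tt N3057 F30245) (tt N4059 (iv F39268)) (tt N4053 (iv F39246)) (tt N3328 F30246) (tt N4060 D9947) (tt N2719 (iv D7924)))
theorem Q3330 : ∀ i, i < 3330 → P i := stepQ 3329 Q3329 (allL N3329 (tt N3329 F30247) (tt N2724 F30248) (tt N4058 (iv F39264)) (tt N3329 F30249) (tt N4054 (iv F39249)) (tt N2720 (iv D7925)) (tt N4061 D9948) (tt N3329 F30250) (tt N4062 D9949))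
theorem Q3331 : ∀ i, i < 3331 → P i := stepQ 3330 Q3330 (allL N3330 (tt N3330 F30251) (tt N2725 F30252) (tt N4059 (iv F39267)) (tt N3330 F30253) (tt N2721 F30254) (tt N4062 (iv F39282)) (tt N3330 F30255) (tt N4063 D9950) (tt N2720 (iv D7926)))
theorem Q3332 : ∀ i, i < 3332 → P i := stepQ 3331 Q3331 (allL N3331 (tt N3331 F30256) (tt N2726 F30257) (tt N4060 (iv F39271)) (tt N3331 F30258) (tt N4063 (iv F39285)) (tt N4056 (iv F39257)) (tt N3331 F30259) (tt N2721 (iv D7927)) (tt N3331 F30260))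
theorem Q3333 : ∀ i, i < 3333 → P i := stepQ 3332 Q3332 (allL N3332 (tt N2727 F30305) (tt N4054 (iv F39248)) (tt N4033 (iv F39189)) (tt N3771 (iv F38586)) (tt N2724 F30306) (tt N2722 (iv D7940)) (tt N4064 D9951) (tt N3332 F30307) (tt N4065 D9952))
theorem Q3334 : ∀ i, i < 3334 → P i := stepQ 3333 Q3333 (allL N3333 (tt N2728 F30308) (tt N4055 (iv F39252)) (tt N4034 (iv F39193)) (tt N3772 F38584) (tt N2723 F30309) (tt N4065 (iv F39293)) (tt N3769 (iv F38582)) (tt N4066 D9953) (tt N2722 (iv D7941)))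
theorem Q3335 : ∀ i, i < 3335 → P i := stepQ 3334 Q3334 (allL N3334 (tt N2729 F30310) (tt N4056 (iv F39255)) (tt N4035 (iv F39196)) (tt N3334 F30311) (tt N4066 (iv F39295)) (tt N2726 F30312) (tt N3770 (iv F38579)) (tt N2723 (iv D7942)) (tt N3334 F30313))
theorem Q3336 : ∀ i, i < 3336 → P i := stepQ 3335 Q3335 (allL N3335 (tt N2730 F30314) (tt N4061 (iv F39275)) (tt N4036 (iv F39200)) (tt N3335 F30315) (tt N4064 (iv F39289)) (tt N3335 F30316) (tt N2724 (iv D7943)) (tt N3335 F30317) (tt N4067 D9954))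
theorem Q3337 : ∀ i, i < 3337 → P i := stepQ 3336 Q3336 (allL N3336 (tt N2731 F30318) (tt N4062 (iv F39280)) (tt N4037 (iv F39204)) (tt N3336 F30319) (tt N4065 (iv F39292)) (tt N2725 F30320) (tt N4067 (iv F39300)) (tt N4068 D9955) (tt N2724 (iv D7944)))
theorem Q3338 : ∀ i, i < 3338 → P i := stepQ 3337 Q3337 (allL N3337 (tt N2732 F30321) (tt N4063 (iv F39284)) (tt N4038 (iv F39207)) (tt N4069 D9956) (tt N2726 F30322) (tt N4068 (iv F39302)) (tt N3337 F30323) (tt N2725 (iv D7945)) (tt N3337 F30324))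
theorem Q3339 : ∀ i, i < 3339 → P i := stepQ 3338 Q3338 (allL N3338 (tt N4064 (iv F39288)) (tt N3338 F30425) (tt N4044 (iv F39217)) (tt N3791 (iv F38587)) (tt N2730 F30426) (tt N3788 F38588) (tt N2727 (iv D7974)) (tt N3338 F30427) (tt N4070 D9957))
theorem Q3340 : ∀ i, i < 3340 → P i := stepQ 3339 Q3339 (allL N3339 (tt N4065 (iv F39291)) (tt N3339 F30428) (tt N4045 (iv F39220)) (tt N3792 (iv F38585)) (tt N2731 F30429) (tt N2728 F30430) (tt N4070 (iv F39311)) (tt N4071 D9958) (tt N2727 (iv D7975)))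
theorem Q3341 : ∀ i, i < 3341 → P i := stepQ 3340 Q3340 (allL N3340 (tt N4066 (iv F39294)) (tt N3340 F30431) (tt N4046 (iv F39223)) (tt N4072 D9959) (tt N2729 F30432) (tt N4071 (iv F39314)) (tt N3790 (iv F38581)) (tt N2728 (iv D7976)) (tt N3340 F30433))
theorem Q3342 : ∀ i, i < 3342 → P i := stepQ 3341 Q3341 (allL N3341 (tt N4067 (iv F39297)) (tt N3341 F30434) (tt N4047 (iv F39226)) (tt N3341 F30435) (tt N4070 (iv F39310)) (tt N3341 F30436) (tt N2731 F30437) (tt N4073 D9960) (tt N2730 (iv D7977)))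
theorem Q3343 : ∀ i, i < 3343 → P i := stepQ 3342 Q3342 (allL N3342 (tt N4068 (iv F39301)) (tt N3342 F30438) (tt N4048 (iv F39229)) (tt N4074 D9961) (tt N4071 (iv F39313)) (tt N2732 F30439) (tt N4073 (iv F39321)) (tt N2731 (iv D7978)) (tt N3342 F30440))
theorem Q3344 : ∀ i, i < 3344 → P i := stepQ 3343 Q3343 (allL N3343 (tt N4069 (iv F39304)) (tt N3343 F30441) (tt N4075 D9962) (tt N2732 (iv D7979)) (tt N3343 F30442) (tt N4074 (iv F39324)) (tt N3343 F30443) (tt N3343 F30444) (tt N3343 F30445))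
theorem Q3345 : ∀ i, i < 3345 → P i := stepQ 3344 Q3344 (allL N3344 (tt N3344 F31208) (tt N2734 F31209) (tt N3503 (iv F31988)) (tt N3344 F31210) (tt N4076 D9963) (tt N2733 (iv D8185)) (tt N3909 (iv F38971)) (tt N4077 D9964) (tt N3344 F31211))
theorem Q3346 : ∀ i, i < 3346 → P i := stepQ 3345 Q3345 (allL N3345 (tt N3345 F31212) (tt N2735 F31213) (tt N3504 (iv F31993)) (tt N4078 D9965) (tt N3345 F31214) (tt N4077 (iv F39339)) (tt N3345 F31215) (tt N2733 (iv D8186)) (tt N4079 D9966))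
theorem Q3347 : ∀ i, i < 3347 → P i := stepQ 3346 Q3346 (allL N3346 (tt N2740 F31216) (tt N4076 (iv F39332)) (tt N2736 F31217) (tt N3261 F38955) (tt N2734 (iv D8187)) (tt N3346 F31218) (tt N3262 F38956) (tt N4080 D9967) (tt N3346 F31219))
theorem Q3348 : ∀ i, i < 3348 → P i := stepQ 3347 Q3347 (allL N3347 (tt N2741 F31220) (tt N3909 F38970) (tt N2737 F31221) (tt N3347 F31222) (tt N3262 F38953) (tt N3347 F31223) (tt N2734 (iv D8188)) (tt N4081 D9968) (tt N3347 F31224))
theorem Q3349 : ∀ i, i < 3349 → P i := stepQ 3348 Q3348 (allL N3348 (tt N2742 F31225) (tt N4077 (iv F39338)) (tt N2738 F31226) (tt N4082 D9969) (tt N4080 (iv F39352)) (tt N2735 F31227) (tt N4081 (iv F39359)) (tt N2734 (iv D8189)) (tt N4083 D9970))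
theorem Q3350 : ∀ i, i < 3350 → P i := stepQ 3349 Q3349 (allL N3349 (tt N2743 F31228) (tt N4078 (iv F39341)) (tt N2759 F31229) (tt N2735 (iv D8190)) (tt N4084 D9971) (tt N4082 (iv F39362)) (tt N3349 F31230) (tt N3349 F31231) (tt N4085 D9972))
theorem Q3351 : ∀ i, i < 3351 → P i := stepQ 3350 Q3350 (allL N3350 (tt N2744 F31232) (tt N4079 (iv F39345)) (tt N2739 F31233) (tt N4085 (iv F39375)) (tt N3350 F31234) (tt N4083 (iv F39366)) (tt N3350 F31235) (tt N3350 F31236) (tt N2735 (iv D8191)))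
theorem Q3352 : ∀ i, i < 3352 → P i := stepQ 3351 Q3351 (allL N3351 (tt N2745 F31237) (tt N3509 (iv F32018)) (tt N3262 F38945) (tt N3351 F31238) (tt N2737 F31239) (tt N3263 F38946) (tt N2736 (iv D8192)) (tt N4086 D9973) (tt N3351 F31240))
theorem Q3353 : ∀ i, i < 3353 → P i := stepQ 3352 Q3352 (allL N3352 (tt N2746 F31241) (tt N3510 (iv F32023)) (tt N4080 (iv F39350)) (tt N4087 D9974) (tt N2738 F31242) (tt N3352 F31243) (tt N4086 (iv F39381)) (tt N2736 (iv D8193)) (tt N4088 D9975))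
theorem Q3354 : ∀ i, i < 3354 → P i := stepQ 3353 Q3353 (allL N3353 (tt N2747 F31244) (tt N3511 (iv F32027)) (tt N4081 (iv F39356)) (tt N2763 F31245) (tt N4086 (iv F39379)) (tt N3353 F31246) (tt N2738 F31247) (tt N2737 (iv D8194)) (tt N4089 D9976))
theorem Q3355 : ∀ i, i < 3355 → P i := stepQ 3354 Q3354 (allL N3354 (tt N2748 F31248) (tt N3512 (iv F32032)) (tt N4083 (iv F39365)) (tt N2764 F31249) (tt N4088 (iv F39387)) (tt N2739 F31250) (tt N4089 (iv F39393)) (tt N3354 F31251) (tt N2738 (iv D8195)))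
theorem Q3356 : ∀ i, i < 3356 → P i := stepQ 3355 Q3355 (allL N3355 (tt N4080 (iv F39349)) (tt N3355 F31261) (tt N2746 F31262) (tt N3248 F38958) (tt N2742 F31263) (tt N3355 F31264) (tt N3249 F38959) (tt N2740 (iv D8198)) (tt N4090 D9977))
theorem Q3357 : ∀ i, i < 3357 → P i := stepQ 3356 Q3356 (allL N3356 (tt N4081 (iv F39355)) (tt N3356 F31265) (tt N2747 F31266) (tt N4091 D9978) (tt N3249 F38954) (tt N3356 F31267) (tt N2742 F31268) (tt N2741 (iv D8199)) (tt N4092 D9979))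
theorem Q3358 : ∀ i, i < 3358 → P i := stepQ 3357 Q3357 (allL N3357 (tt N4082 (iv F39360)) (tt N3357 F31269) (tt N2769 F31270) (tt N2742 (iv D8200)) (tt N4093 D9980) (tt N2743 F31271) (tt N4091 (iv F39406)) (tt N3357 F31272) (tt N4094 D9981))
theorem Q3359 : ∀ i, i < 3359 → P i := stepQ 3358 Q3358 (allL N3358 (tt N4083 (iv F39364)) (tt N3358 F31273) (tt N2748 F31274) (tt N4094 (iv F39421)) (tt N4090 (iv F39398)) (tt N2744 F31275) (tt N4092 (iv F39412)) (tt N3358 F31276) (tt N2742 (iv D8201)))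
theorem Q3360 : ∀ i, i < 3360 → P i := stepQ 3359 Q3359 (allL N3359 (tt N4084 (iv F39368)) (tt N3359 F31277) (tt N2771 F31278) (tt N3359 F31279) (tt N2743 (iv D8202)) (tt N4095 D9982) (tt N3359 F31280) (tt N3359 F31281) (tt N4096 D9983))
theorem Q3361 : ∀ i, i < 3361 → P i := stepQ 3360 Q3360 (allL N3360 (tt N4085 (iv F39373)) (tt N3360 F31282) (tt N2772 F31283) (tt N2744 F31284) (tt N4096 (iv F39430)) (tt N4094 (iv F39422)) (tt N3360 F31285) (tt N4097 D9984) (tt N2743 (iv D8203)))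
theorem Q3362 : ∀ i, i < 3362 → P i := stepQ 3361 Q3361 (allL N3361 (tt N4086 (iv F39377)) (tt N2750 F31291) (tt N3249 F38943) (tt N4098 D9985) (tt N2747 F31292) (tt N3250 F38944) (tt N2746 F31293) (tt N2745 (iv D8205)) (tt N4099 D9986))
theorem Q3363 : ∀ i, i < 3363 → P i := stepQ 3362 Q3362 (allL N3362 (tt N4087 (iv F39382)) (tt N2751 F31294) (tt N4100 D9987) (tt N2746 (iv D8206)) (tt N2775 F31295) (tt N3362 F31296) (tt N4098 (iv F39441)) (tt N3362 F31297) (tt N4101 D9988))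
theorem Q3364 : ∀ i, i < 3364 → P i := stepQ 3363 Q3363 (allL N3363 (tt N4088 (iv F39386)) (tt N2752 F31298) (tt N4090 (iv F39396)) (tt N4101 (iv F39455)) (tt N2748 F31299) (tt N3363 F31300) (tt N4099 (iv F39447)) (tt N3363 F31301) (tt N2746 (iv D8207)))
theorem Q3365 : ∀ i, i < 3365 → P i := stepQ 3364 Q3364 (allL N3364 (tt N4089 (iv F39390)) (tt N2753 F31302) (tt N4092 (iv F39409)) (tt N2777 F31303) (tt N4099 (iv F39445)) (tt N3364 F31304) (tt N2748 F31305) (tt N3364 F31306) (tt N2747 (iv D8208)))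
theorem Q3366 : ∀ i, i < 3366 → P i := stepQ 3365 Q3365 (allL N3365 (tt N3522 (iv F32091)) (tt N3250 F38952) (tt N3365 F31307) (tt N4102 D9989) (tt N3365 F31308) (tt N2750 F31309) (tt N3365 F31310) (tt N2749 (iv D8209)) (tt N4103 D9990))
theorem Q3367 : ∀ i, i < 3367 → P i := stepQ 3366 Q3366 (allL N3366 (tt N3523 (iv F32096)) (tt N4098 (iv F39437)) (tt N4104 D9991) (tt N2750 (iv D8210)) (tt N2779 F31311) (tt N4102 (iv F39459)) (tt N2751 F31312) (tt N3366 F31313) (tt N4105 D9992))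
theorem Q3368 : ∀ i, i < 3368 → P i := stepQ 3367 Q3367 (allL N3367 (tt N3524 (iv F32100)) (tt N4099 (iv F39443)) (tt N3367 F31314) (tt N4105 (iv F39472)) (tt N2753 F31315) (tt N4103 (iv F39465)) (tt N2752 F31316) (tt N3367 F31317) (tt N2750 (iv D8211)))
theorem Q3369 : ∀ i, i < 3369 → P i := stepQ 3368 Q3368 (allL N3368 (tt N3525 (iv F32105)) (tt N4106 D9993) (tt N2751 (iv D8212)) (tt N3368 F31318) (tt N2781 F31319) (tt N3368 F31320) (tt N4104 (iv F39470)) (tt N3368 F31321) (tt N4107 D9994))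
theorem Q3370 : ∀ i, i < 3370 → P i := stepQ 3369 Q3369 (allL N3369 (tt N3526 (iv F32110)) (tt N4101 (iv F39454)) (tt N4107 (iv F39479)) (tt N2752 F31322) (tt N2782 F31323) (tt N3369 F31324) (tt N4105 (iv F39474)) (tt N4108 D9995) (tt N2751 (iv D8213)))
theorem Q3371 : ∀ i, i < 3371 → P i := stepQ 3370 Q3370 (allL N3370 (tt N2783 F31325) (tt N2756 F31326) (tt N3527 (iv F32116)) (tt N4109 D9996) (tt N2754 (iv D8214)) (tt N2902 F31327) (tt N4110 D9997) (tt N4111 D9998) (tt N3273 F31328))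
theorem Q3372 : ∀ i, i < 3372 → P i := stepQ 3371 Q3371 (allL N3371 (tt N2784 F31329) (tt N2757 F31330) (tt N3528 (iv F32121)) (tt N3371 F31331) (tt N4110 (iv F39494)) (tt N3371 F31332) (tt N2754 (iv D8215)) (tt N4112 D9999) (tt N3092 (iv F38435)))
theorem Q3373 : ∀ i, i < 3373 → P i := stepQ 3372 Q3372 (allL N3372 (tt N2785 F31334) (tt N2758 F31335) (tt N3529 (iv F32127)) (tt N4113 D10000) (tt N4111 (iv F39498)) (tt N2755 F31336) (tt N4112 (iv F39503)) (tt N2754 (iv D8216)) (tt N4114 D10001))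
theorem Q3374 : ∀ i, i < 3374 → P i := stepQ 3373 Q3373 (allL N3373 (tt N2786 F31337) (tt N2759 F31338) (tt N4115 D10002) (tt N2755 (iv D8217)) (tt N4116 D10003) (tt N4113 (iv F39506)) (tt N3373 F31339) (tt N3373 F31340) (tt N4117 D10004))
theorem Q3375 : ∀ i, i < 3375 → P i := stepQ 3374 Q3374 (allL N3374 (tt N2787 F31341) (tt N2760 F31342) (tt N3531 (iv F32135)) (tt N4117 (iv F39522)) (tt N2906 F31343) (tt N4114 (iv F39510)) (tt N3374 F31344) (tt N3276 F31345) (tt N2755 (iv D8218)))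
theorem Q3376 : ∀ i, i < 3376 → P i := stepQ 3375 Q3375 (allL N3375 (tt N2765 F31346) (tt N4109 (iv F39488)) (tt N3375 F31347) (tt N2756 (iv D8219)) (tt N3375 F31348) (tt N2907 F31349) (tt N4118 D10005) (tt N4119 D10006) (tt N3277 F31350))
theorem Q3377 : ∀ i, i < 3377 → P i := stepQ 3376 Q3376 (allL N3376 (tt N2766 F31351) (tt N4110 (iv F39493)) (tt N2761 F31352) (tt N4118 (iv F39526)) (tt N2757 F31353) (tt N4120 D10007) (tt N2756 (iv D8220)) (tt N4121 D10008) (tt N3048 (iv F38416)))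
theorem Q3378 : ∀ i, i < 3378 → P i := stepQ 3377 Q3377 (allL N3377 (tt N2767 F31355) (tt N4111 (iv F39497)) (tt N2762 F31356) (tt N4122 D10009) (tt N2758 F31357) (tt N2909 F31358) (tt N4121 (iv F39541)) (tt N2756 (iv D8221)) (tt N4123 D10010))
theorem Q3379 : ∀ i, i < 3379 → P i := stepQ 3378 Q3378 (allL N3378 (tt N2768 F31359) (tt N4112 (iv F39501)) (tt N2763 F31360) (tt N4124 D10011) (tt N4121 (iv F39540)) (tt N3378 F31361) (tt N2758 F31362) (tt N2757 (iv D8222)) (tt N4125 D10012))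
theorem Q3380 : ∀ i, i < 3380 → P i := stepQ 3379 Q3379 (allL N3379 (tt N2769 F31363) (tt N4113 (iv F39505)) (tt N4082 (iv F39361)) (tt N2758 (iv D8223)) (tt N4126 D10013) (tt N2759 F31364) (tt N4124 (iv F39551)) (tt N3379 F31365) (tt N4127 D10014))
theorem Q3381 : ∀ i, i < 3381 → P i := stepQ 3380 Q3380 (allL N3380 (tt N2770 F31366) (tt N4114 (iv F39509)) (tt N2764 F31367) (tt N4127 (iv F39561)) (tt N4123 (iv F39546)) (tt N2760 F31368) (tt N4125 (iv F39556)) (tt N3280 F31369) (tt N2758 (iv D8224)))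
theorem Q3382 : ∀ i, i < 3382 → P i := stepQ 3381 Q3381 (allL N3381 (tt N2771 F31370) (tt N4116 (iv F39516)) (tt N4084 (iv F39369)) (tt N2913 F31371) (tt N2759 (iv D8225)) (tt N4128 D10015) (tt N3381 F31372) (tt N3381 F31373) (tt N4129 D10016))
theorem Q3383 : ∀ i, i < 3383 → P i := stepQ 3382 Q3382 (allL N3382 (tt N2772 F31374) (tt N4117 (iv F39521)) (tt N4085 (iv F39374)) (tt N2760 F31375) (tt N4129 (iv F39568)) (tt N4127 (iv F39562)) (tt N3382 F31376) (tt N4130 D10017) (tt N2759 (iv D8226)))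
theorem Q3384 : ∀ i, i < 3384 → P i := stepQ 3383 Q3383 (allL N3383 (tt N2773 F31377) (tt N3502 (iv F38396)) (tt N4120 (iv F39534)) (tt N3383 F31378) (tt N3383 F31379) (tt N2761 (iv D8227)) (tt N2915 F31380) (tt N4131 D10018) (tt N2854 F38414))
theorem Q3385 : ∀ i, i < 3385 → P i := stepQ 3384 Q3384 (allL N3384 (tt N2774 F31382) (tt N3540 (iv F32177)) (tt N4121 (iv F39539)) (tt N4132 D10019) (tt N2763 F31383) (tt N4131 (iv F39576)) (tt N2762 F31384) (tt N2761 (iv D8228)) (tt N4133 D10020))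
theorem Q3386 : ∀ i, i < 3386 → P i := stepQ 3385 Q3385 (allL N3385 (tt N2775 F31385) (tt N3541 (iv F32181)) (tt N4134 D10021) (tt N2762 (iv D8229)) (tt N4087 (iv F39383)) (tt N2917 F31386) (tt N4132 (iv F39579)) (tt N3385 F31387) (tt N4135 D10022))
theorem Q3387 : ∀ i, i < 3387 → P i := stepQ 3386 Q3386 (allL N3386 (tt N2776 F31388) (tt N3542 (iv F32185)) (tt N4123 (iv F39545)) (tt N4135 (iv F39589)) (tt N2764 F31389) (tt N2918 F31390) (tt N4133 (iv F39583)) (tt N3284 F31391) (tt N2762 (iv D8230)))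
theorem Q3388 : ∀ i, i < 3388 → P i := stepQ 3387 Q3387 (allL N3387 (tt N2777 F31392) (tt N3543 (iv F32190)) (tt N4125 (iv F39554)) (tt N4089 (iv F39391)) (tt N4133 (iv F39582)) (tt N3387 F31393) (tt N2764 F31394) (tt N3091 (iv F38570)) (tt N2763 (iv D8231)))
theorem Q3389 : ∀ i, i < 3389 → P i := stepQ 3388 Q3388 (allL N3388 (tt N4118 (iv F39524)) (tt N2801 F31396) (tt N3388 F31397) (tt N2766 F31398) (tt N3388 F31399) (tt N4136 D10023) (tt N2765 (iv D8232)) (tt N4137 D10024) (tt N3047 (iv F38281)))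
theorem Q3390 : ∀ i, i < 3390 → P i := stepQ 3389 Q3389 (allL N3389 (tt N4119 (iv F39529)) (tt N2802 F31401) (tt N3389 F31402) (tt N4138 D10025) (tt N3389 F31403) (tt N2921 F31404) (tt N4137 (iv F39600)) (tt N2765 (iv D8233)) (tt N4139 D10026))
theorem Q3391 : ∀ i, i < 3391 → P i := stepQ 3390 Q3390 (allL N3390 (tt N4120 (iv F39533)) (tt N2803 F31405) (tt N2773 F31406) (tt N4136 (iv F39593)) (tt N3390 F31407) (tt N2766 (iv D8234)) (tt N2922 F31408) (tt N4140 D10027) (tt N2852 F38279))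
theorem Q3392 : ∀ i, i < 3392 → P i := stepQ 3391 Q3391 (allL N3391 (tt N4121 (iv F39538)) (tt N2804 F31410) (tt N2774 F31411) (tt N4141 D10028) (tt N2768 F31412) (tt N4140 (iv F39612)) (tt N2767 F31413) (tt N2766 (iv D8235)) (tt N4142 D10029))
theorem Q3393 : ∀ i, i < 3393 → P i := stepQ 3392 Q3392 (allL N3392 (tt N4122 (iv F39542)) (tt N2805 F31414) (tt N4143 D10030) (tt N2767 (iv D8236)) (tt N4144 D10031) (tt N2924 F31415) (tt N4141 (iv F39615)) (tt N4138 (iv F39603)) (tt N4145 D10032))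
theorem Q3394 : ∀ i, i < 3394 → P i := stepQ 3393 Q3393 (allL N3393 (tt N4123 (iv F39544)) (tt N2806 F31416) (tt N2776 F31417) (tt N4145 (iv F39626)) (tt N2770 F31418) (tt N2925 F31419) (tt N4142 (iv F39619)) (tt N3287 F31420) (tt N2767 (iv D8237)))
theorem Q3395 : ∀ i, i < 3395 → P i := stepQ 3394 Q3394 (allL N3394 (tt N4124 (iv F39549)) (tt N2807 F31421) (tt N4091 (iv F39403)) (tt N2768 (iv D8238)) (tt N4146 D10033) (tt N3394 F31422) (tt N2769 F31423) (tt N3394 F31424) (tt N4147 D10034))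
theorem Q3396 : ∀ i, i < 3396 → P i := stepQ 3395 Q3395 (allL N3395 (tt N4125 (iv F39553)) (tt N2808 F31425) (tt N2777 F31426) (tt N4147 (iv F39634)) (tt N4142 (iv F39618)) (tt N3395 F31427) (tt N2770 F31428) (tt N3090 (iv F38527)) (tt N2768 (iv D8239)))
theorem Q3397 : ∀ i, i < 3397 → P i := stepQ 3396 Q3396 (allL N3396 (tt N4126 (iv F39558)) (tt N2809 F31430) (tt N4093 (iv F39415)) (tt N4144 (iv F39624)) (tt N2769 (iv D8240)) (tt N4148 D10035) (tt N4146 (iv F39630)) (tt N3396 F31431) (tt N4149 D10036))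
theorem Q3398 : ∀ i, i < 3398 → P i := stepQ 3397 Q3397 (allL N3397 (tt N4127 (iv F39560)) (tt N2810 F31432) (tt N4094 (iv F39420)) (tt N2770 F31433) (tt N4149 (iv F39641)) (tt N2772 F31434) (tt N4147 (iv F39636)) (tt N4150 D10037) (tt N2769 (iv D8241)))
theorem Q3399 : ∀ i, i < 3399 → P i := stepQ 3398 Q3398 (allL N3398 (tt N4128 (iv F39563)) (tt N2811 F31435) (tt N4095 (iv F39424)) (tt N2930 F31436) (tt N4148 (iv F39638)) (tt N2771 (iv D8242)) (tt N4151 D10038) (tt N3398 F31437) (tt N4152 D10039))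
theorem Q3400 : ∀ i, i < 3400 → P i := stepQ 3399 Q3399 (allL N3399 (tt N4129 (iv F39566)) (tt N2812 F31438) (tt N4096 (iv F39428)) (tt N2931 F31439) (tt N2772 F31440) (tt N4152 (iv F39652)) (tt N3399 F31441) (tt N4153 D10040) (tt N2771 (iv D8243)))
theorem Q3401 : ∀ i, i < 3401 → P i := stepQ 3400 Q3400 (allL N3400 (tt N4130 (iv F39570)) (tt N2813 F31442) (tt N4097 (iv F39433)) (tt N3292 F31443) (tt N4153 (iv F39654)) (tt N4150 (iv F39644)) (tt N3400 F31444) (tt N2772 (iv D8244)) (tt N3400 F31445))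
theorem Q3402 : ∀ i, i < 3402 → P i := stepQ 3401 Q3401 (allL N3401 (tt N4131 (iv F39574)) (tt N2778 F31446) (tt N4140 (iv F39610)) (tt N4154 D10041) (tt N3401 F31447) (tt N2774 F31448) (tt N2933 F31449) (tt N2773 (iv D8245)) (tt N4155 D10042))
theorem Q3403 : ∀ i, i < 3403 → P i := stepQ 3402 Q3402 (allL N3402 (tt N4132 (iv F39578)) (tt N2779 F31450) (tt N4156 D10043) (tt N2774 (iv D8246)) (tt N4098 (iv F39439)) (tt N4154 (iv F39658)) (tt N2775 F31451) (tt N3402 F31452) (tt N4157 D10044))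
theorem Q3404 : ∀ i, i < 3404 → P i := stepQ 3403 Q3403 (allL N3403 (tt N4133 (iv F39581)) (tt N2780 F31453) (tt N4142 (iv F39617)) (tt N4157 (iv F39670)) (tt N2777 F31454) (tt N4155 (iv F39663)) (tt N2776 F31455) (tt N3020 (iv F38522)) (tt N2774 (iv D8247)))
theorem Q3405 : ∀ i, i < 3405 → P i := stepQ 3404 Q3404 (allL N3404 (tt N4134 (iv F39585)) (tt N4158 D10045) (tt N2775 (iv D8248)) (tt N4143 (iv F39621)) (tt N4100 (iv F39450)) (tt N2936 F31457) (tt N4156 (iv F39667)) (tt N3404 F31458) (tt N4159 D10046))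
theorem Q3406 : ∀ i, i < 3406 → P i := stepQ 3405 Q3405 (allL N3405 (tt N4135 (iv F39588)) (tt N2782 F31459) (tt N4159 (iv F39675)) (tt N2776 F31460) (tt N4101 (iv F39456)) (tt N2937 F31461) (tt N4157 (iv F39671)) (tt N4160 D10047) (tt N2775 (iv D8249)))
theorem Q3407 : ∀ i, i < 3407 → P i := stepQ 3406 Q3406 (allL N3406 (tt N3408 (iv F38400)) (tt N4154 (iv F39657)) (tt N2898 F38339) (tt N2778 (iv D8250)) (tt N4161 D10048) (tt N2779 F31462) (tt N2900 (iv F38393)) (tt N3406 F31464) (tt N4162 D10049))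
theorem Q3408 : ∀ i, i < 3408 → P i := stepQ 3407 Q3407 (allL N3407 (tt N3464 (iv F38402)) (tt N4155 (iv F39661)) (tt N2819 F31465) (tt N4162 (iv F39687)) (tt N3407 F31466) (tt N2780 F31467) (tt N2938 F31468) (tt N2823 F38415) (tt N2778 (iv D8251)))
theorem Q3409 : ∀ i, i < 3409 → P i := stepQ 3408 Q3408 (allL N3408 (tt N3406 F38400) (tt N4163 D10050) (tt N2779 (iv D8252)) (tt N2820 F31470) (tt N4104 (iv F39469)) (tt N2898 F38401) (tt N2781 F31471) (tt N3408 F31472) (tt N4164 D10051))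
theorem Q3410 : ∀ i, i < 3410 → P i := stepQ 3409 Q3409 (allL N3409 (tt N3558 (iv F32274)) (tt N4157 (iv F39669)) (tt N4164 (iv F39695)) (tt N2780 F31473) (tt N4105 (iv F39473)) (tt N4162 (iv F39688)) (tt N2782 F31474) (tt N4165 D10052) (tt N2779 (iv D8253)))
theorem Q3411 : ∀ i, i < 3411 → P i := stepQ 3410 Q3410 (allL N3410 (tt N4166 D10053) (tt N2781 (iv D8254)) (tt N4158 (iv F39672)) (tt N2822 F31475) (tt N4106 (iv F39476)) (tt N2940 F31476) (tt N4163 (iv F39692)) (tt N3410 F31477) (tt N4167 D10054))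
theorem Q3412 : ∀ i, i < 3412 → P i := stepQ 3411 Q3411 (allL N3411 (tt N3560 (iv F32280)) (tt N4167 (iv F39705)) (tt N2782 F31478) (tt N2823 F31479) (tt N4107 (iv F39481)) (tt N2941 F31480) (tt N4164 (iv F39698)) (tt N4168 D10055) (tt N2781 (iv D8255)))
theorem Q3413 : ∀ i, i < 3413 → P i := stepQ 3412 Q3412 (allL N3412 (tt N3561 (iv F32284)) (tt N4160 (iv F39677)) (tt N4168 (iv F39708)) (tt N3295 F31481) (tt N4108 (iv F39484)) (tt N2942 F31482) (tt N4165 (iv F39700)) (tt N2782 (iv D8256)) (tt N3412 F31483))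
theorem Q3414 : ∀ i, i < 3414 → P i := stepQ 3413 Q3413 (allL N3413 (tt N4109 (iv F39487)) (tt N2788 F31484) (tt N4169 D10056) (tt N2783 (iv D8257)) (tt N3413 F31485) (tt N2975 F31486) (tt N4170 D10057) (tt N4171 D10058) (tt N3296 F31487))
theorem Q3415 : ∀ i, i < 3415 → P i := stepQ 3414 Q3414 (allL N3414 (tt N4110 (iv F39492)) (tt N2789 F31488) (tt N3618 (iv F32494)) (tt N4170 (iv F39716)) (tt N2784 F31489) (tt N4172 D10059) (tt N2783 (iv D8258)) (tt N4173 D10060) (tt N3043 (iv F38306)))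
theorem Q3416 : ∀ i, i < 3416 → P i := stepQ 3415 Q3415 (allL N3415 (tt N4111 (iv F39496)) (tt N2790 F31491) (tt N3619 (iv F32498)) (tt N4174 D10061) (tt N2785 F31492) (tt N2977 F31493) (tt N4173 (iv F39728)) (tt N2783 (iv D8259)) (tt N4175 D10062))
theorem Q3417 : ∀ i, i < 3417 → P i := stepQ 3416 Q3416 (allL N3416 (tt N4112 (iv F39500)) (tt N2791 F31494) (tt N3620 (iv F32502)) (tt N4176 D10063) (tt N4173 (iv F39727)) (tt N3416 F31495) (tt N2785 F31496) (tt N2784 (iv D8260)) (tt N4177 D10064))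
theorem Q3418 : ∀ i, i < 3418 → P i := stepQ 3417 Q3417 (allL N3417 (tt N4113 (iv F39504)) (tt N2792 F31497) (tt N4178 D10065) (tt N2785 (iv D8261)) (tt N4179 D10066) (tt N2786 F31498) (tt N4176 (iv F39737)) (tt N3417 F31499) (tt N4180 D10067))
theorem Q3419 : ∀ i, i < 3419 → P i := stepQ 3418 Q3418 (allL N3418 (tt N4114 (iv F39508)) (tt N2793 F31500) (tt N3622 (iv F32509)) (tt N4180 (iv F39749)) (tt N4175 (iv F39732)) (tt N2787 F31501) (tt N4177 (iv F39741)) (tt N3299 F31502) (tt N2785 (iv D8262)))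
theorem Q3420 : ∀ i, i < 3420 → P i := stepQ 3419 Q3419 (allL N3419 (tt N4115 (iv F39512)) (tt N3419 F31503) (tt N2786 (iv D8263)) (tt N3623 (iv F32513)) (tt N4181 D10068) (tt N4178 (iv F39744)) (tt N3419 F31504) (tt N3419 F31505) (tt N4182 D10069))
theorem Q3421 : ∀ i, i < 3421 → P i := stepQ 3420 Q3420 (allL N3420 (tt N4116 (iv F39515)) (tt N2794 F31506) (tt N4181 (iv F39752)) (tt N2982 F31507) (tt N2786 (iv D8264)) (tt N4183 D10070) (tt N3420 F31508) (tt N3420 F31509) (tt N4184 D10071))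
theorem Q3422 : ∀ i, i < 3422 → P i := stepQ 3421 Q3421 (allL N3421 (tt N4117 (iv F39520)) (tt N2795 F31510) (tt N4182 (iv F39756)) (tt N2787 F31511) (tt N4184 (iv F39763)) (tt N4180 (iv F39750)) (tt N3421 F31512) (tt N4185 D10072) (tt N2786 (iv D8265)))
theorem Q3423 : ∀ i, i < 3423 → P i := stepQ 3422 Q3422 (allL N3422 (tt N2801 F31513) (tt N4170 (iv F39715)) (tt N2832 F31514) (tt N2789 F31515) (tt N3422 F31516) (tt N4186 D10073) (tt N2788 (iv D8266)) (tt N4187 D10074) (tt N3042 (iv F38185)))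
theorem Q3424 : ∀ i, i < 3424 → P i := stepQ 3423 Q3423 (allL N3423 (tt N2802 F31518) (tt N4171 (iv F39719)) (tt N2833 F31519) (tt N4188 D10075) (tt N3423 F31520) (tt N2985 F31521) (tt N4187 (iv F39777)) (tt N2788 (iv D8267)) (tt N4189 D10076))
theorem Q3425 : ∀ i, i < 3425 → P i := stepQ 3424 Q3424 (allL N3424 (tt N2803 F31522) (tt N4172 (iv F39722)) (tt N2796 F31523) (tt N4186 (iv F39771)) (tt N3424 F31524) (tt N2789 (iv D8268)) (tt N2986 F31525) (tt N4190 D10077) (tt N2841 (iv F38182)))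
theorem Q3426 : ∀ i, i < 3426 → P i := stepQ 3425 Q3425 (allL N3425 (tt N2804 F31527) (tt N4173 (iv F39726)) (tt N2797 F31528) (tt N4191 D10078) (tt N2791 F31529) (tt N4190 (iv F39789)) (tt N2790 F31530) (tt N2789 (iv D8269)) (tt N4192 D10079))
theorem Q3427 : ∀ i, i < 3427 → P i := stepQ 3426 Q3426 (allL N3426 (tt N2805 F31531) (tt N4174 (iv F39729)) (tt N4193 D10080) (tt N2790 (iv D8270)) (tt N4194 D10081) (tt N2988 F31532) (tt N4191 (iv F39792)) (tt N4188 (iv F39780)) (tt N4195 D10082))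
theorem Q3428 : ∀ i, i < 3428 → P i := stepQ 3427 Q3427 (allL N3427 (tt N2806 F31533) (tt N4175 (iv F39731)) (tt N2799 F31534) (tt N4195 (iv F39804)) (tt N2793 F31535) (tt N2989 F31536) (tt N4192 (iv F39796)) (tt N3305 F31537) (tt N2790 (iv D8271)))
theorem Q3429 : ∀ i, i < 3429 → P i := stepQ 3428 Q3428 (allL N3428 (tt N2807 F31538) (tt N4176 (iv F39735)) (tt N3428 F31539) (tt N2791 (iv D8272)) (tt N4196 D10083) (tt N3428 F31540) (tt N2792 F31541) (tt N3428 F31542) (tt N4197 D10084))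
theorem Q3430 : ∀ i, i < 3430 → P i := stepQ 3429 Q3429 (allL N3429 (tt N2808 F31543) (tt N4177 (iv F39739)) (tt N2800 F31544) (tt N4197 (iv F39812)) (tt N4192 (iv F39795)) (tt N3429 F31545) (tt N2793 F31546) (tt N3073 (iv F38437)) (tt N2791 (iv D8273)))
theorem Q3431 : ∀ i, i < 3431 → P i := stepQ 3430 Q3430 (allL N3430 (tt N2809 F31548) (tt N4179 (iv F39746)) (tt N3430 F31549) (tt N4194 (iv F39802)) (tt N2792 (iv D8274)) (tt N4198 D10085) (tt N4196 (iv F39808)) (tt N3430 F31550) (tt N4199 D10086))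
theorem Q3432 : ∀ i, i < 3432 → P i := stepQ 3431 Q3431 (allL N3431 (tt N2810 F31551) (tt N4180 (iv F39748)) (tt N3431 F31552) (tt N2793 F31553) (tt N4199 (iv F39821)) (tt N2795 F31554) (tt N4197 (iv F39814)) (tt N4200 D10087) (tt N2792 (iv D8275)))
theorem Q3433 : ∀ i, i < 3433 → P i := stepQ 3432 Q3432 (allL N3432 (tt N2811 F31555) (tt N4183 (iv F39758)) (tt N3432 F31556) (tt N2994 F31557) (tt N4198 (iv F39817)) (tt N2794 (iv D8276)) (tt N4201 D10088) (tt N3432 F31558) (tt N4202 D10089))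
theorem Q3434 : ∀ i, i < 3434 → P i := stepQ 3433 Q3433 (allL N3433 (tt N2812 F31559) (tt N4184 (iv F39761)) (tt N3433 F31560) (tt N2995 F31561) (tt N2795 F31562) (tt N4202 (iv F39835)) (tt N3433 F31563) (tt N4203 D10090) (tt N2794 (iv D8277)))
theorem Q3435 : ∀ i, i < 3435 → P i := stepQ 3434 Q3434 (allL N3434 (tt N2813 F31564) (tt N4185 (iv F39765)) (tt N3434 F31565) (tt N3310 F31566) (tt N4203 (iv F39838)) (tt N4200 (iv F39825)) (tt N3434 F31567) (tt N2795 (iv D8278)) (tt N3434 F31568))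
theorem Q3436 : ∀ i, i < 3436 → P i := stepQ 3435 Q3435 (allL N3435 (tt N2814 F31569) (tt N3436 (iv F38175)) (tt N4190 (iv F39787)) (tt N2956 F38110) (tt N3435 F31570) (tt N2797 F31571) (tt N2957 (iv F38169)) (tt N2796 (iv D8279)) (tt N4204 D10091))
theorem Q3437 : ∀ i, i < 3437 → P i := stepQ 3436 Q3436 (allL N3436 (tt N2815 F31573) (tt N3435 F38175) (tt N4205 D10092) (tt N2797 (iv D8280)) (tt N3436 F31574) (tt N2956 F38176) (tt N2798 F31575) (tt N2840 F31576) (tt N4206 D10093))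
theorem Q3438 : ∀ i, i < 3438 → P i := stepQ 3437 Q3437 (allL N3437 (tt N2816 F31577) (tt N3638 (iv F32590)) (tt N4192 (iv F39794)) (tt N4206 (iv F39854)) (tt N2800 F31578) (tt N4204 (iv F39844)) (tt N2799 F31579) (tt N2999 (iv F38308)) (tt N2797 (iv D8281)))
theorem Q3439 : ∀ i, i < 3439 → P i := stepQ 3438 Q3438 (allL N3438 (tt N2817 F31581) (tt N4207 D10094) (tt N2798 (iv D8282)) (tt N4193 (iv F39799)) (tt N3438 F31582) (tt N2998 F31583) (tt N4205 (iv F39850)) (tt N2841 F31584) (tt N4208 D10095))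
theorem Q3440 : ∀ i, i < 3440 → P i := stepQ 3439 Q3439 (allL N3439 (tt N2818 F31585) (tt N3640 (iv F32599)) (tt N4208 (iv F39863)) (tt N2799 F31586) (tt N3439 F31587) (tt N2999 F31588) (tt N4206 (iv F39857)) (tt N4204 (iv F39846)) (tt N2798 (iv D8283)))
theorem Q3441 : ∀ i, i < 3441 → P i := stepQ 3440 Q3440 (allL N3440 (tt N4186 (iv F39769)) (tt N4136 (iv F39591)) (tt N2842 F31589) (tt N2803 F31590) (tt N4209 D10096) (tt N2801 (iv D8284)) (tt N3000 F31591) (tt N4210 D10097) (tt N2847 (iv F38154)))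
theorem Q3442 : ∀ i, i < 3442 → P i := stepQ 3441 Q3441 (allL N3441 (tt N4187 (iv F39774)) (tt N4137 (iv F39597)) (tt N2843 F31593) (tt N4211 D10098) (tt N3441 F31594) (tt N4210 (iv F39873)) (tt N2802 F31595) (tt N2801 (iv D8285)) (tt N4212 D10099))
theorem Q3443 : ∀ i, i < 3443 → P i := stepQ 3442 Q3442 (allL N3442 (tt N4188 (iv F39778)) (tt N4138 (iv F39601)) (tt N4213 D10100) (tt N2802 (iv D8286)) (tt N4214 D10101) (tt N3002 F31596) (tt N4211 (iv F39875)) (tt N2805 F31597) (tt N4215 D10102))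
theorem Q3444 : ∀ i, i < 3444 → P i := stepQ 3443 Q3443 (allL N3443 (tt N4189 (iv F39781)) (tt N4139 (iv F39604)) (tt N2845 F31598) (tt N4215 (iv F39886)) (tt N3443 F31599) (tt N3003 F31600) (tt N4212 (iv F39879)) (tt N3312 F31601) (tt N2802 (iv D8287)))
theorem Q3445 : ∀ i, i < 3445 → P i := stepQ 3444 Q3444 (allL N3444 (tt N4190 (iv F39786)) (tt N4140 (iv F39609)) (tt N2814 F31602) (tt N4216 D10103) (tt N3444 F31603) (tt N2804 F31604) (tt N2973 (iv F38262)) (tt N2803 (iv D8288)) (tt N4217 D10104))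
theorem Q3446 : ∀ i, i < 3446 → P i := stepQ 3445 Q3445 (allL N3445 (tt N4191 (iv F39791)) (tt N4141 (iv F39614)) (tt N4218 D10105) (tt N2804 (iv D8289)) (tt N4219 D10106) (tt N4216 (iv F39889)) (tt N2805 F31606) (tt N4211 (iv F39876)) (tt N4220 D10107))
theorem Q3447 : ∀ i, i < 3447 → P i := stepQ 3446 Q3446 (allL N3446 (tt N4192 (iv F39793)) (tt N4142 (iv F39616)) (tt N2816 F31607) (tt N4220 (iv F39901)) (tt N2808 F31608) (tt N4217 (iv F39893)) (tt N2806 F31609) (tt N3018 (iv F38418)) (tt N2804 (iv D8290)))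
theorem Q3448 : ∀ i, i < 3448 → P i := stepQ 3447 Q3447 (allL N3447 (tt N4193 (iv F39798)) (tt N4221 D10108) (tt N2805 (iv D8291)) (tt N2817 F31611) (tt N4222 D10109) (tt N3006 F31612) (tt N4218 (iv F39898)) (tt N4213 (iv F39883)) (tt N4223 D10110))
theorem Q3449 : ∀ i, i < 3449 → P i := stepQ 3448 Q3448 (allL N3448 (tt N4194 (iv F39801)) (tt N4144 (iv F39623)) (tt N4222 (iv F39905)) (tt N2809 F31613) (tt N2805 (iv D8292)) (tt N4224 D10111) (tt N4219 (iv F39900)) (tt N4214 (iv F39885)) (tt N4225 D10112))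
theorem Q3450 : ∀ i, i < 3450 → P i := stepQ 3449 Q3449 (allL N3449 (tt N4195 (iv F39803)) (tt N4145 (iv F39625)) (tt N4223 (iv F39907)) (tt N2806 F31614) (tt N4225 (iv F39913)) (tt N3008 F31615) (tt N4220 (iv F39902)) (tt N4226 D10113) (tt N2805 (iv D8293)))
theorem Q3451 : ∀ i, i < 3451 → P i := stepQ 3450 Q3450 (allL N3450 (tt N4196 (iv F39806)) (tt N4146 (iv F39628)) (tt N3450 F31616) (tt N4219 (iv F39899)) (tt N2807 (iv D8294)) (tt N4227 D10114) (tt N2809 F31617) (tt N3450 F31618) (tt N4228 D10115))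
theorem Q3452 : ∀ i, i < 3452 → P i := stepQ 3451 Q3451 (allL N3451 (tt N4197 (iv F39810)) (tt N4147 (iv F39633)) (tt N3451 F31619) (tt N2808 F31620) (tt N4228 (iv F39921)) (tt N3451 F31621) (tt N2810 F31622) (tt N4229 D10116) (tt N2807 (iv D8295)))
theorem Q3453 : ∀ i, i < 3453 → P i := stepQ 3452 Q3452 (allL N3452 (tt N4198 (iv F39815)) (tt N4148 (iv F39637)) (tt N3452 F31623) (tt N4224 (iv F39910)) (tt N2811 F31624) (tt N2809 (iv D8296)) (tt N4230 D10117) (tt N3452 F31625) (tt N4231 D10118))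
theorem Q3454 : ∀ i, i < 3454 → P i := stepQ 3453 Q3453 (allL N3453 (tt N4199 (iv F39819)) (tt N4149 (iv F39640)) (tt N3453 F31626) (tt N4225 (iv F39912)) (tt N2810 F31627) (tt N4231 (iv F39933)) (tt N4228 (iv F39922)) (tt N4232 D10119) (tt N2809 (iv D8297)))
theorem Q3455 : ∀ i, i < 3455 → P i := stepQ 3454 Q3454 (allL N3454 (tt N4200 (iv F39822)) (tt N4150 (iv F39642)) (tt N3454 F31628) (tt N3317 F31629) (tt N4232 (iv F39935)) (tt N2813 F31630) (tt N4229 (iv F39926)) (tt N2810 (iv D8298)) (tt N3454 F31631))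
theorem Q3456 : ∀ i, i < 3456 → P i := stepQ 3455 Q3455 (allL N3455 (tt N4201 (iv F39827)) (tt N4151 (iv F39646)) (tt N3455 F31632) (tt N3014 F31633) (tt N4230 (iv F39929)) (tt N3455 F31634) (tt N2811 (iv D8299)) (tt N3455 F31635) (tt N4233 D10120))
theorem Q3457 : ∀ i, i < 3457 → P i := stepQ 3456 Q3456 (allL N3456 (tt N4202 (iv F39832)) (tt N4152 (iv F39650)) (tt N3456 F31636) (tt N3015 F31637) (tt N4231 (iv F39932)) (tt N2812 F31638) (tt N4233 (iv F39940)) (tt N4234 D10121) (tt N2811 (iv D8300)))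
theorem Q3458 : ∀ i, i < 3458 → P i := stepQ 3457 Q3457 (allL N3457 (tt N4203 (iv F39836)) (tt N4153 (iv F39653)) (tt N3457 F31639) (tt N4235 D10122) (tt N2813 F31640) (tt N4234 (iv F39942)) (tt N3457 F31641) (tt N2812 (iv D8301)) (tt N3457 F31642))
theorem Q3459 : ∀ i, i < 3459 → P i := stepQ 3458 Q3458 (allL N3458 (tt N4204 (iv F39841)) (tt N2819 F31647) (tt N4217 (iv F39891)) (tt N2972 F38217) (tt N3458 F31648) (tt N2816 F31649) (tt N2974 (iv F38268)) (tt N2818 (iv F38280)) (tt N2814 (iv D8303)))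
theorem Q3460 : ∀ i, i < 3460 → P i := stepQ 3459 Q3459 (allL N3459 (tt N4205 (iv F39847)) (tt N4236 D10123) (tt N2815 (iv D8304)) (tt N4218 (iv F39896)) (tt N3459 F31652) (tt N2962 F38299) (tt N2817 F31653) (tt N2851 F31654) (tt N4237 D10124))
theorem Q3461 : ∀ i, i < 3461 → P i := stepQ 3460 Q3460 (allL N3460 (tt N4206 (iv F39852)) (tt N2821 F31655) (tt N4237 (iv F39953)) (tt N2816 F31656) (tt N3460 F31657) (tt N2972 F38300) (tt N2818 F31658) (tt N2974 F38301) (tt N2815 (iv D8305)))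
theorem Q3462 : ∀ i, i < 3462 → P i := stepQ 3461 Q3461 (allL N3461 (tt N4238 D10125) (tt N2817 (iv D8306)) (tt N2822 F31659) (tt N4221 (iv F39903)) (tt N3461 F31660) (tt N3017 F31661) (tt N4236 (iv F39951)) (tt N2852 F31662) (tt N4239 D10126))
theorem Q3463 : ∀ i, i < 3463 → P i := stepQ 3462 Q3462 (allL N3462 (tt N4208 (iv F39862)) (tt N4239 (iv F39962)) (tt N2818 F31663) (tt N4223 (iv F39908)) (tt N3462 F31664) (tt N3018 F31665) (tt N4237 (iv F39956)) (tt N4217 (iv F39895)) (tt N2817 (iv D8307)))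
theorem Q3464 : ∀ i, i < 3464 → P i := stepQ 3463 Q3463 (allL N3463 (tt N4240 D10127) (tt N2820 (iv D8312)) (tt N4236 (iv F39948)) (tt N4163 (iv F39690)) (tt N3463 F31681) (tt N2894 F38399) (tt N2822 F31682) (tt N2853 F31683) (tt N4241 D10128))
theorem Q3465 : ∀ i, i < 3465 → P i := stepQ 3464 Q3464 (allL N3464 (tt N3407 F38402) (tt N4241 (iv F39971)) (tt N2821 F31684) (tt N4164 (iv F39696)) (tt N3464 F31685) (tt N2899 F38403) (tt N2823 F31686) (tt N2938 F38404) (tt N2820 (iv D8313)))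
theorem Q3466 : ∀ i, i < 3466 → P i := stepQ 3465 Q3465 (allL N3465 (tt N2822 (iv D8315)) (tt N3584 (iv F38468)) (tt N4238 (iv F39958)) (tt N4166 (iv F39702)) (tt N3465 F31691) (tt N3019 F31692) (tt N4240 (iv F39969)) (tt N2854 F31693) (tt N4242 D10129))
theorem Q3467 : ∀ i, i < 3467 → P i := stepQ 3466 Q3466 (allL N3466 (tt N4242 (iv F39976)) (tt N2823 F31694) (tt N4239 (iv F39963)) (tt N4167 (iv F39706)) (tt N3466 F31695) (tt N3020 F31696) (tt N4241 (iv F39974)) (tt N4155 (iv F39665)) (tt N2822 (iv D8316)))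
theorem Q3468 : ∀ i, i < 3468 → P i := stepQ 3467 Q3467 (allL N3467 (tt N3467 F31701) (tt N4169 (iv F39711)) (tt N2824 (iv D8318)) (tt N3719 (iv F32967)) (tt N3467 F31702) (tt N3035 F31703) (tt N4243 D10130) (tt N4244 D10131) (tt N3321 F31704))
theorem Q3469 : ∀ i, i < 3469 → P i := stepQ 3468 Q3468 (allL N3468 (tt N3468 F31705) (tt N2832 F31706) (tt N4243 (iv F39980)) (tt N2825 F31707) (tt N3468 F31708) (tt N4245 D10132) (tt N2824 (iv D8319)) (tt N4246 D10133) (tt N3038 (iv F38039)))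
theorem Q3470 : ∀ i, i < 3470 → P i := stepQ 3469 Q3469 (allL N3469 (tt N3469 F31710) (tt N2833 F31711) (tt N4244 (iv F39984)) (tt N4247 D10134) (tt N3469 F31712) (tt N3037 F31713) (tt N4246 (iv F39995)) (tt N2824 (iv D8320)) (tt N4248 D10135))
theorem Q3471 : ∀ i, i < 3471 → P i := stepQ 3470 Q3470 (allL N3470 (tt N3470 F31714) (tt N2834 F31715) (tt N3471 (iv F37853)) (tt N4245 (iv F39989)) (tt N2829 F37858) (tt N2825 (iv D8321)) (tt N3023 (iv F37846)) (tt N3022 F37774) (tt N2826 (iv F37863)))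
theorem Q3472 : ∀ i, i < 3472 → P i := stepQ 3471 Q3471 (allL N3471 (tt N3471 F31719) (tt N2835 F31720) (tt N3470 F37853) (tt N4249 D10136) (tt N2827 F31721) (tt N3022 F37854) (tt N2826 F31722) (tt N2825 (iv D8322)) (tt N3023 F37857))
theorem Q3473 : ∀ i, i < 3473 → P i := stepQ 3472 Q3472 (allL N3472 (tt N3472 F31723) (tt N2836 F31724) (tt N4250 D10137) (tt N2826 (iv D8323)) (tt N4251 D10138) (tt N3038 F31725) (tt N4249 (iv F40008)) (tt N4247 (iv F39999)) (tt N4245 (iv F39991)))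
theorem Q3474 : ∀ i, i < 3474 → P i := stepQ 3473 Q3473 (allL N3473 (tt N3473 F31731) (tt N2837 F31732) (tt N4252 D10139) (tt N2827 (iv D8325)) (tt N4253 D10140) (tt N3026 F37762) (tt N2828 F31734) (tt N3473 F31735) (tt N3024 F37763))
theorem Q3475 : ∀ i, i < 3475 → P i := stepQ 3474 Q3474 (allL N3474 (tt N3474 F31741) (tt N3474 F31742) (tt N2828 (iv D8327)) (tt N3723 (iv F33013)) (tt N4254 D10141) (tt N2830 F31743) (tt N4252 (iv F40019)) (tt N3474 F31744) (tt N4255 D10142))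
theorem Q3476 : ∀ i, i < 3476 → P i := stepQ 3475 Q3475 (allL N3475 (tt N3475 F31745) (tt N2838 F31746) (tt N4254 (iv F40030)) (tt N4251 (iv F40014)) (tt N2828 (iv D8328)) (tt N3475 F31747) (tt N4253 (iv F40025)) (tt N3475 F31748) (tt N4256 D10143))
theorem Q3477 : ∀ i, i < 3477 → P i := stepQ 3476 Q3476 (allL N3476 (tt N3476 F31749) (tt N2839 F31750) (tt N4255 (iv F40035)) (tt N2829 F31751) (tt N4256 (iv F40042)) (tt N2831 F31752) (tt N3024 F37859) (tt N3193 F37860) (tt N2828 (iv D8329)))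
theorem Q3478 : ∀ i, i < 3478 → P i := stepQ 3477 Q3477 (allL N3477 (tt N3477 F31753) (tt N3477 F31754) (tt N2831 F31755) (tt N3725 (iv F33033)) (tt N3477 F31756) (tt N4255 (iv F40037)) (tt N3264 F37705) (tt N3268 F39024) (tt N2830 (iv D8330)))
theorem Q3479 : ∀ i, i < 3479 → P i := stepQ 3478 Q3478 (allL N3478 (tt N2842 F31764) (tt N4245 (iv F39988)) (tt N4186 (iv F39770)) (tt N2834 F31765) (tt N4257 D10144) (tt N2832 (iv D8332)) (tt N3029 (iv F38003)) (tt N4258 D10145) (tt N2836 (iv F38024)))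
theorem Q3480 : ∀ i, i < 3480 → P i := stepQ 3479 Q3479 (allL N3479 (tt N2843 F31768) (tt N4246 (iv F39993)) (tt N4187 (iv F39775)) (tt N4259 D10146) (tt N3479 F31769) (tt N4258 (iv F40053)) (tt N2833 F31770) (tt N2832 (iv D8333)) (tt N4260 D10147))
theorem Q3481 : ∀ i, i < 3481 → P i := stepQ 3480 Q3480 (allL N3480 (tt N2844 F31771) (tt N4247 (iv F39997)) (tt N4261 D10148) (tt N2833 (iv D8334)) (tt N4262 D10149) (tt N3040 F31772) (tt N4259 (iv F40057)) (tt N2836 F31773) (tt N4263 D10150))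
theorem Q3482 : ∀ i, i < 3482 → P i := stepQ 3481 Q3481 (allL N3481 (tt N2845 F31774) (tt N4248 (iv F40001)) (tt N4189 (iv F39782)) (tt N4263 (iv F40071)) (tt N3481 F31775) (tt N3041 F31776) (tt N4260 (iv F40061)) (tt N3323 F31777) (tt N2833 (iv D8335)))
theorem Q3483 : ∀ i, i < 3483 → P i := stepQ 3482 Q3482 (allL N3482 (tt N2846 F31783) (tt N4249 (iv F40006)) (tt N4264 D10151) (tt N2835 (iv D8337)) (tt N4265 D10152) (tt N3027 F38032) (tt N2836 F31784) (tt N4259 (iv F40058)) (tt N3029 F38033))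
theorem Q3484 : ∀ i, i < 3484 → P i := stepQ 3483 Q3483 (allL N3483 (tt N2847 F31790) (tt N4266 D10153) (tt N2836 (iv D8339)) (tt N2841 F31791) (tt N4267 D10154) (tt N3042 F31792) (tt N4264 (iv F40076)) (tt N4261 (iv F40065)) (tt N4186 (iv F39773)))
theorem Q3485 : ∀ i, i < 3485 → P i := stepQ 3484 Q3484 (allL N3484 (tt N2848 F31793) (tt N4251 (iv F40013)) (tt N4267 (iv F40088)) (tt N2838 F31794) (tt N2836 (iv D8340)) (tt N3484 F31795) (tt N4265 (iv F40083)) (tt N4262 (iv F40069)) (tt N4257 (iv F40050)))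
theorem Q3486 : ∀ i, i < 3486 → P i := stepQ 3485 Q3485 (allL N3485 (tt N2849 F31799) (tt N4253 (iv F40023)) (tt N3485 F31800) (tt N4265 (iv F40081)) (tt N2837 (iv D8342)) (tt N3270 F39020) (tt N2838 F31801) (tt N3485 F31802) (tt N3030 F37872))
theorem Q3487 : ∀ i, i < 3487 → P i := stepQ 3486 Q3486 (allL N3486 (tt N2850 F31808) (tt N4256 (iv F40041)) (tt N3486 F31809) (tt N4257 (iv F40047)) (tt N2839 F31810) (tt N3486 F31811) (tt N3030 F38035) (tt N3202 F38036) (tt N2838 (iv D8344)))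
theorem Q3488 : ∀ i, i < 3488 → P i := stepQ 3487 Q3487 (allL N3487 (tt N2851 F31825) (tt N4268 D10155) (tt N2840 (iv D8348)) (tt N4264 (iv F40074)) (tt N3487 F31826) (tt N2949 F38173) (tt N2841 F31827) (tt N4205 (iv F39851)) (tt N2986 F38174))
theorem Q3489 : ∀ i, i < 3489 → P i := stepQ 3488 Q3488 (allL N3488 (tt N4269 D10156) (tt N2841 (iv D8350)) (tt N3659 (iv F38236)) (tt N4266 (iv F40085)) (tt N3488 F31832) (tt N3043 F31833) (tt N4268 (iv F40095)) (tt N4207 (iv F39861)) (tt N4172 (iv F39725)))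
theorem Q3490 : ∀ i, i < 3490 → P i := stepQ 3489 Q3489 (allL N3489 (tt N4257 (iv F40046)) (tt N3489 F31842) (tt N4209 (iv F39867)) (tt N2850 F38152) (tt N2842 (iv D8353)) (tt N3489 F31844) (tt N3034 (iv F37982)) (tt N4270 D10157) (tt N2848 F38153))
theorem Q3491 : ∀ i, i < 3491 → P i := stepQ 3490 Q3490 (allL N3490 (tt N4258 (iv F40051)) (tt N3490 F31847) (tt N4210 (iv F39872)) (tt N3031 F38080) (tt N4270 (iv F40102)) (tt N2843 F31848) (tt N3032 (iv F38140)) (tt N2842 (iv D8354)) (tt N4271 D10158))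
theorem Q3492 : ∀ i, i < 3492 → P i := stepQ 3491 Q3491 (allL N3491 (tt N4259 (iv F40055)) (tt N3491 F31850) (tt N4272 D10159) (tt N2843 (iv D8355)) (tt N4273 D10160) (tt N3031 F38188) (tt N2844 F31851) (tt N2846 F31852) (tt N4274 D10161))
theorem Q3493 : ∀ i, i < 3493 → P i := stepQ 3492 Q3492 (allL N3492 (tt N4260 (iv F40059)) (tt N3492 F31853) (tt N4212 (iv F39877)) (tt N4274 (iv F40122)) (tt N3492 F31854) (tt N4271 (iv F40107)) (tt N2845 F31855) (tt N3046 (iv F38282)) (tt N2843 (iv D8356)))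
theorem Q3494 : ∀ i, i < 3494 → P i := stepQ 3493 Q3493 (allL N3493 (tt N4261 (iv F40063)) (tt N4275 D10162) (tt N2844 (iv D8357)) (tt N4213 (iv F39881)) (tt N4276 D10163) (tt N3045 F31857) (tt N4272 (iv F40111)) (tt N2847 F31858) (tt N4277 D10164))
theorem Q3495 : ∀ i, i < 3495 → P i := stepQ 3494 Q3494 (allL N3494 (tt N4262 (iv F40066)) (tt N3494 F31859) (tt N4276 (iv F40132)) (tt N3494 F31860) (tt N2844 (iv D8358)) (tt N3494 F31861) (tt N4273 (iv F40119)) (tt N2848 F31862) (tt N4278 D10165))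
theorem Q3496 : ∀ i, i < 3496 → P i := stepQ 3495 Q3495 (allL N3495 (tt N4263 (iv F40070)) (tt N3495 F31863) (tt N4277 (iv F40137)) (tt N2845 F31864) (tt N4278 (iv F40141)) (tt N3046 F31865) (tt N4274 (iv F40124)) (tt N4271 (iv F40109)) (tt N2844 (iv D8359)))
theorem Q3497 : ∀ i, i < 3497 → P i := stepQ 3496 Q3496 (allL N3496 (tt N4264 (iv F40073)) (tt N3150 F38677) (tt N2846 (iv D8362)) (tt N2851 F31875) (tt N3107 F38678) (tt N2960 F38186) (tt N2847 F31876) (tt N4272 (iv F40112)) (tt N3000 F38187))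
theorem Q3498 : ∀ i, i < 3498 → P i := stepQ 3497 Q3497 (allL N3497 (tt N4265 (iv F40079)) (tt N3497 F31877) (tt N3107 F38604) (tt N2849 F31878) (tt N2846 (iv D8363)) (tt N3097 (iv F38605)) (tt N2848 F31879) (tt N4273 (iv F40120)) (tt N3034 F38043))
theorem Q3499 : ∀ i, i < 3499 → P i := stepQ 3498 Q3498 (allL N3498 (tt N4279 D10166) (tt N2847 (iv D8365)) (tt N3498 F31883) (tt N2852 F31884) (tt N3151 F38981) (tt N3047 F31885) (tt N3150 F38982) (tt N4275 (iv F40129)) (tt N4136 (iv F39595)))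
theorem Q3500 : ∀ i, i < 3500 → P i := stepQ 3499 Q3499 (allL N3499 (tt N4267 (iv F40087)) (tt N3151 F38983) (tt N2848 F31886) (tt N3499 F31887) (tt N2847 (iv D8366)) (tt N3499 F31888) (tt N3107 F38984) (tt N4276 (iv F40135)) (tt N4209 (iv F39871)))
theorem Q3501 : ∀ i, i < 3501 → P i := stepQ 3500 Q3500 (allL N3500 (tt N4280 D10167) (tt N2851 (iv D8377)) (tt N2853 F31929) (tt N3150 F38788) (tt N3500 F31930) (tt N2887 F38297) (tt N2852 F31931) (tt N4236 (iv F39952)) (tt N2922 F38298))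
theorem Q3502 : ∀ i, i < 3502 → P i := stepQ 3501 Q3501 (allL N3501 (tt N2852 (iv D8380)) (tt N4269 (iv F40097)) (tt N2854 F31939) (tt N4279 (iv F40144)) (tt N3501 F31940) (tt N3048 F31941) (tt N4280 (iv F40152)) (tt N4238 (iv F39961)) (tt N4120 (iv F39537)))
theorem Q3503 : ∀ i, i < 3503 → P i := stepQ 3502 Q3502 (allL N3502 (tt N2853 (iv D8388)) (tt N3383 F38396) (tt N4280 (iv F40148)) (tt N3502 F31966) (tt N3502 F31967) (tt N2882 F38397) (tt N2854 F31968) (tt N4240 (iv F39970)) (tt N2915 F38398))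
theorem Q3504 : ∀ i, i < 3504 → P i := stepQ 3503 Q3503 (allL N3503 (tt N3503 F31986) (tt N2856 F31987) (tt N3344 F31988) (tt N3094 F31989) (tt N4281 D10168) (tt N2855 (iv D8394)) (tt N3192 F38748) (tt N4282 D10169) (tt N3503 F31990))
theorem Q3505 : ∀ i, i < 3505 → P i := stepQ 3504 Q3504 (allL N3504 (tt N3504 F31991) (tt N2857 F31992) (tt N3345 F31993) (tt N4283 D10170) (tt N3504 F31994) (tt N4282 (iv F40165)) (tt N3504 F31995) (tt N2855 (iv D8395)) (tt N4284 D10171))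
theorem Q3506 : ∀ i, i < 3506 → P i := stepQ 3505 Q3505 (allL N3505 (tt N2862 F31996) (tt N4281 (iv F40155)) (tt N2858 F31997) (tt N3202 F38768) (tt N2856 (iv D8396)) (tt N3505 F31998) (tt N3201 F38769) (tt N4285 D10172) (tt N3505 F31999))
theorem Q3507 : ∀ i, i < 3507 → P i := stepQ 3506 Q3506 (allL N3506 (tt N2863 F32005) (tt N4282 (iv F40162)) (tt N2860 F32006) (tt N3198 F38697) (tt N4285 (iv F40180)) (tt N2857 F32007) (tt N3199 F38698) (tt N2856 (iv D8398)) (tt N4286 D10173))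
theorem Q3508 : ∀ i, i < 3508 → P i := stepQ 3507 Q3507 (allL N3507 (tt N2864 F32008) (tt N4283 (iv F40168)) (tt N2880 F32009) (tt N2857 (iv D8399)) (tt N4287 D10174) (tt N3198 F38616) (tt N3507 F32010) (tt N3096 F32011) (tt N4288 D10175))
theorem Q3509 : ∀ i, i < 3509 → P i := stepQ 3508 Q3508 (allL N3508 (tt N2865 F32012) (tt N4284 (iv F40173)) (tt N2861 F32013) (tt N4288 (iv F40196)) (tt N3508 F32014) (tt N4286 (iv F40186)) (tt N3508 F32015) (tt N3508 F32016) (tt N2857 (iv D8400)))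
theorem Q3510 : ∀ i, i < 3510 → P i := stepQ 3509 Q3509 (allL N3509 (tt N2866 F32017) (tt N3351 F32018) (tt N3201 F38879) (tt N3509 F32019) (tt N2859 F32020) (tt N3983 F38962) (tt N2858 (iv D8401)) (tt N4289 D10176) (tt N3509 F32021))
theorem Q3511 : ∀ i, i < 3511 → P i := stepQ 3510 Q3510 (allL N3510 (tt N2867 F32022) (tt N3352 F32023) (tt N4285 (iv F40179)) (tt N4290 D10177) (tt N2860 F32024) (tt N3510 F32025) (tt N4289 (iv F40204)) (tt N2858 (iv D8402)) (tt N4291 D10178))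
theorem Q3512 : ∀ i, i < 3512 → P i := stepQ 3511 Q3511 (allL N3511 (tt N2868 F32026) (tt N3353 F32027) (tt N3199 F38822) (tt N2884 F32028) (tt N4289 (iv F40203)) (tt N3511 F32029) (tt N2860 F32030) (tt N2859 (iv D8403)) (tt N4292 D10179))
theorem Q3513 : ∀ i, i < 3513 → P i := stepQ 3512 Q3512 (allL N3512 (tt N2869 F32031) (tt N3354 F32032) (tt N4286 (iv F40184)) (tt N2885 F32033) (tt N4291 (iv F40212)) (tt N2861 F32034) (tt N4292 (iv F40220)) (tt N3512 F32035) (tt N2860 (iv D8404)))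
theorem Q3514 : ∀ i, i < 3514 → P i := stepQ 3513 Q3513 (allL N3513 (tt N4285 (iv F40178)) (tt N3513 F32045) (tt N2867 F32046) (tt N4270 (iv F40101)) (tt N2863 F32047) (tt N3513 F32048) (tt N3205 F38699) (tt N2862 (iv D8407)) (tt N4293 D10180))
theorem Q3515 : ∀ i, i < 3515 → P i := stepQ 3514 Q3514 (allL N3514 (tt N4286 (iv F40183)) (tt N3514 F32057) (tt N2869 F32058) (tt N3204 F38701) (tt N4293 (iv F40224)) (tt N2865 F32059) (tt N3206 F38702) (tt N3514 F32060) (tt N2863 (iv D8410)))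
theorem Q3516 : ∀ i, i < 3516 → P i := stepQ 3515 Q3515 (allL N3515 (tt N4287 (iv F40189)) (tt N3515 F32061) (tt N2892 F32062) (tt N3515 F32063) (tt N2864 (iv D8411)) (tt N4273 (iv F40118)) (tt N3515 F32064) (tt N3097 F32065) (tt N4294 D10181))
theorem Q3517 : ∀ i, i < 3517 → P i := stepQ 3516 Q3516 (allL N3516 (tt N4288 (iv F40194)) (tt N3516 F32066) (tt N2893 F32067) (tt N2865 F32068) (tt N4294 (iv F40231)) (tt N3204 F38629) (tt N3516 F32069) (tt N3217 F38630) (tt N2864 (iv D8412)))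
theorem Q3518 : ∀ i, i < 3518 → P i := stepQ 3517 Q3517 (allL N3517 (tt N3983 (iv F38960)) (tt N2870 F32070) (tt N3207 F38903) (tt N3517 F32071) (tt N3517 F32072) (tt N2866 (iv D8413)) (tt N3517 F32073) (tt N4295 D10182) (tt N3517 F32074))
theorem Q3519 : ∀ i, i < 3519 → P i := stepQ 3518 Q3518 (allL N3518 (tt N4289 (iv F40200)) (tt N2871 F32075) (tt N3205 F38823) (tt N4296 D10183) (tt N2868 F32076) (tt N4295 (iv F40237)) (tt N2867 F32077) (tt N2866 (iv D8414)) (tt N4297 D10184))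
theorem Q3520 : ∀ i, i < 3520 → P i := stepQ 3519 Q3519 (allL N3519 (tt N4290 (iv F40205)) (tt N2872 F32078) (tt N4298 D10185) (tt N2867 (iv D8415)) (tt N2895 F32079) (tt N3519 F32080) (tt N4296 (iv F40241)) (tt N3519 F32081) (tt N4299 D10186))
theorem Q3521 : ∀ i, i < 3521 → P i := stepQ 3520 Q3520 (allL N3520 (tt N4291 (iv F40210)) (tt N2873 F32082) (tt N4293 (iv F40223)) (tt N4299 (iv F40252)) (tt N2869 F32083) (tt N3520 F32084) (tt N4297 (iv F40246)) (tt N3520 F32085) (tt N2867 (iv D8416)))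
theorem Q3522 : ∀ i, i < 3522 → P i := stepQ 3521 Q3521 (allL N3521 (tt N4292 (iv F40215)) (tt N2874 F32086) (tt N3206 F38824) (tt N2897 F32087) (tt N4297 (iv F40245)) (tt N3521 F32088) (tt N2869 F32089) (tt N3521 F32090) (tt N2868 (iv D8417)))
theorem Q3523 : ∀ i, i < 3523 → P i := stepQ 3522 Q3522 (allL N3522 (tt N3365 F32091) (tt N4295 (iv F40234)) (tt N3522 F32092) (tt N4300 D10187) (tt N3522 F32093) (tt N2871 F32094) (tt N3522 F32095) (tt N2870 (iv D8418)) (tt N4301 D10188))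
theorem Q3524 : ∀ i, i < 3524 → P i := stepQ 3523 Q3523 (allL N3523 (tt N3366 F32096) (tt N4296 (iv F40239)) (tt N4161 (iv F39682)) (tt N2871 (iv D8419)) (tt N2898 F32097) (tt N4300 (iv F40256)) (tt N2872 F32098) (tt N3523 F32099) (tt N4302 D10189))
theorem Q3525 : ∀ i, i < 3525 → P i := stepQ 3524 Q3524 (allL N3524 (tt N3367 F32100) (tt N4297 (iv F40243)) (tt N3524 F32101) (tt N4302 (iv F40266)) (tt N2874 F32102) (tt N4301 (iv F40262)) (tt N2873 F32103) (tt N3524 F32104) (tt N2871 (iv D8420)))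
theorem Q3526 : ∀ i, i < 3526 → P i := stepQ 3525 Q3525 (allL N3525 (tt N3368 F32105) (tt N4303 D10190) (tt N2872 (iv D8421)) (tt N3525 F32106) (tt N2900 F32107) (tt N3525 F32108) (tt N4161 (iv F39684)) (tt N3525 F32109) (tt N4304 D10191))
theorem Q3527 : ∀ i, i < 3527 → P i := stepQ 3526 Q3526 (allL N3526 (tt N3369 F32110) (tt N4299 (iv F40251)) (tt N4304 (iv F40274)) (tt N2873 F32111) (tt N2901 F32112) (tt N3526 F32113) (tt N4302 (iv F40268)) (tt N4305 D10192) (tt N2872 (iv D8422)))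
theorem Q3528 : ∀ i, i < 3528 → P i := stepQ 3527 Q3527 (allL N3527 (tt N2943 F32114) (tt N2877 F32115) (tt N3370 F32116) (tt N4306 D10193) (tt N2875 (iv D8423)) (tt N3273 F32117) (tt N4307 D10194) (tt N4308 D10195) (tt N2902 F32118))
theorem Q3529 : ∀ i, i < 3529 → P i := stepQ 3528 Q3528 (allL N3528 (tt N2944 F32119) (tt N2878 F32120) (tt N3371 F32121) (tt N3099 F32122) (tt N4307 (iv F40293)) (tt N3528 F32123) (tt N2875 (iv D8424)) (tt N4309 D10196) (tt N2903 F32124))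
theorem Q3530 : ∀ i, i < 3530 → P i := stepQ 3529 Q3529 (allL N3529 (tt N2945 F32125) (tt N2879 F32126) (tt N3372 F32127) (tt N4310 D10197) (tt N4308 (iv F40298)) (tt N2876 F32128) (tt N4309 (iv F40305)) (tt N2875 (iv D8425)) (tt N4311 D10198))
theorem Q3531 : ∀ i, i < 3531 → P i := stepQ 3530 Q3530 (allL N3530 (tt N2946 F32129) (tt N2880 F32130) (tt N4312 D10199) (tt N2876 (iv D8426)) (tt N4313 D10200) (tt N4310 (iv F40308)) (tt N3530 F32131) (tt N3101 F32132) (tt N4314 D10201))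
theorem Q3532 : ∀ i, i < 3532 → P i := stepQ 3531 Q3531 (allL N3531 (tt N2947 F32133) (tt N2881 F32134) (tt N3374 F32135) (tt N4314 (iv F40327)) (tt N3276 F32136) (tt N4311 (iv F40314)) (tt N3531 F32137) (tt N2906 F32138) (tt N2876 (iv D8427)))
theorem Q3533 : ∀ i, i < 3533 → P i := stepQ 3532 Q3532 (allL N3532 (tt N2886 F32139) (tt N4306 (iv F40284)) (tt N3532 F32140) (tt N2877 (iv D8428)) (tt N3103 F32141) (tt N3277 F32142) (tt N3145 F38780) (tt N4315 D10202) (tt N2907 F32143))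
theorem Q3534 : ∀ i, i < 3534 → P i := stepQ 3533 Q3533 (allL N3533 (tt N2887 F32144) (tt N4307 (iv F40290)) (tt N2882 F32145) (tt N3145 F38787) (tt N2878 F32146) (tt N4280 (iv F40151)) (tt N2877 (iv D8429)) (tt N4316 D10203) (tt N2908 F32147))
theorem Q3535 : ∀ i, i < 3535 → P i := stepQ 3534 Q3534 (allL N3534 (tt N2888 F32148) (tt N4308 (iv F40296)) (tt N2883 F32149) (tt N4317 D10204) (tt N2879 F32150) (tt N3278 F32151) (tt N4316 (iv F40337)) (tt N2877 (iv D8430)) (tt N4318 D10205))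
theorem Q3536 : ∀ i, i < 3536 → P i := stepQ 3535 Q3535 (allL N3535 (tt N2889 F32152) (tt N4309 (iv F40301)) (tt N2884 F32153) (tt N3144 F38806) (tt N4316 (iv F40336)) (tt N3535 F32154) (tt N2879 F32155) (tt N2878 (iv D8431)) (tt N4319 D10206))
theorem Q3537 : ∀ i, i < 3537 → P i := stepQ 3536 Q3536 (allL N3536 (tt N2890 F32156) (tt N4310 (iv F40307)) (tt N3198 F38655) (tt N2879 (iv D8432)) (tt N4320 D10207) (tt N2880 F32157) (tt N3144 F38656) (tt N3104 F32158) (tt N4321 D10208))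
theorem Q3538 : ∀ i, i < 3538 → P i := stepQ 3537 Q3537 (allL N3537 (tt N2891 F32159) (tt N4311 (iv F40312)) (tt N2885 F32160) (tt N4321 (iv F40357)) (tt N4318 (iv F40342)) (tt N2881 F32161) (tt N4319 (iv F40349)) (tt N2912 F32162) (tt N2879 (iv D8433)))
theorem Q3539 : ∀ i, i < 3539 → P i := stepQ 3538 Q3538 (allL N3538 (tt N2892 F32163) (tt N4313 (iv F40321)) (tt N4287 (iv F40190)) (tt N3281 F32164) (tt N2880 (iv D8434)) (tt N4322 D10209) (tt N3538 F32165) (tt N3105 F32166) (tt N4323 D10210))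
theorem Q3540 : ∀ i, i < 3540 → P i := stepQ 3539 Q3539 (allL N3539 (tt N2893 F32167) (tt N4314 (iv F40326)) (tt N4288 (iv F40195)) (tt N2881 F32168) (tt N4323 (iv F40366)) (tt N4321 (iv F40358)) (tt N3539 F32169) (tt N4324 D10211) (tt N2880 (iv D8435)))
theorem Q3541 : ∀ i, i < 3541 → P i := stepQ 3540 Q3540 (allL N3540 (tt N2894 F32176) (tt N3384 F32177) (tt N4316 (iv F40335)) (tt N4325 D10212) (tt N2884 F32178) (tt N4240 (iv F39968)) (tt N2883 F32179) (tt N2882 (iv D8437)) (tt N4326 D10213))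
theorem Q3542 : ∀ i, i < 3542 → P i := stepQ 3541 Q3541 (allL N3541 (tt N2895 F32180) (tt N3385 F32181) (tt N4327 D10214) (tt N2883 (iv D8438)) (tt N4290 (iv F40207)) (tt N3283 F32182) (tt N4325 (iv F40376)) (tt N3541 F32183) (tt N4328 D10215))
theorem Q3543 : ∀ i, i < 3543 → P i := stepQ 3542 Q3542 (allL N3542 (tt N2896 F32184) (tt N3386 F32185) (tt N4318 (iv F40341)) (tt N4328 (iv F40388)) (tt N2885 F32186) (tt N3284 F32187) (tt N4326 (iv F40381)) (tt N2918 F32188) (tt N2883 (iv D8439)))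
theorem Q3544 : ∀ i, i < 3544 → P i := stepQ 3543 Q3543 (allL N3543 (tt N2897 F32189) (tt N3387 F32190) (tt N4319 (iv F40346)) (tt N4292 (iv F40218)) (tt N4326 (iv F40380)) (tt N3543 F32191) (tt N2885 F32192) (tt N2919 F32193) (tt N2884 (iv D8440)))
theorem Q3545 : ∀ i, i < 3545 → P i := stepQ 3544 Q3544 (allL N3544 (tt N4315 (iv F40329)) (tt N2961 F32199) (tt N3544 F32200) (tt N4329 D10216) (tt N2965 F38789) (tt N3285 F32202) (tt N2967 F38790) (tt N2886 (iv D8442)) (tt N4330 D10217))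
theorem Q3546 : ∀ i, i < 3546 → P i := stepQ 3545 Q3545 (allL N3545 (tt N4316 (iv F40334)) (tt N2962 F32208) (tt N2894 F32209) (tt N4331 D10218) (tt N2889 F32210) (tt N4236 (iv F39950)) (tt N2888 F32211) (tt N2887 (iv D8444)) (tt N4332 D10219))
theorem Q3547 : ∀ i, i < 3547 → P i := stepQ 3546 Q3546 (allL N3546 (tt N4317 (iv F40338)) (tt N2963 F32212) (tt N4333 D10220) (tt N2888 (iv D8445)) (tt N4334 D10221) (tt N3286 F32213) (tt N4331 (iv F40403)) (tt N4329 (iv F40394)) (tt N4335 D10222))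
theorem Q3548 : ∀ i, i < 3548 → P i := stepQ 3547 Q3547 (allL N3547 (tt N4318 (iv F40340)) (tt N2964 F32214) (tt N2896 F32215) (tt N4335 (iv F40417)) (tt N2891 F32216) (tt N3287 F32217) (tt N4332 (iv F40408)) (tt N2925 F32218) (tt N2888 (iv D8446)))
theorem Q3549 : ∀ i, i < 3549 → P i := stepQ 3548 Q3548 (allL N3548 (tt N4319 (iv F40345)) (tt N2966 F32223) (tt N2897 F32224) (tt N3149 F38807) (tt N4332 (iv F40407)) (tt N3548 F32225) (tt N2891 F32226) (tt N2927 F32227) (tt N2889 (iv D8448)))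
theorem Q3550 : ∀ i, i < 3550 → P i := stepQ 3549 Q3549 (allL N3549 (tt N4320 (iv F40351)) (tt N2967 F32228) (tt N3031 F38679) (tt N4334 (iv F40413)) (tt N2890 (iv D8449)) (tt N4272 (iv F40110)) (tt N2961 F38680) (tt N2960 F38681) (tt N4336 D10223))
theorem Q3551 : ∀ i, i < 3551 → P i := stepQ 3550 Q3550 (allL N3550 (tt N4321 (iv F40355)) (tt N2968 F32230) (tt N3204 F38683) (tt N2891 F32231) (tt N4336 (iv F40421)) (tt N2893 F32232) (tt N3149 F38684) (tt N3178 F38685) (tt N2890 (iv D8450)))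
theorem Q3552 : ∀ i, i < 3552 → P i := stepQ 3551 Q3551 (allL N3551 (tt N4322 (iv F40361)) (tt N2969 F32233) (tt N4273 (iv F40116)) (tt N3290 F32234) (tt N4272 F40114) (tt N2892 (iv D8451)) (tt N4276 (iv F40134)) (tt N3107 F32235) (tt N4337 D10224))
theorem Q3553 : ∀ i, i < 3553 → P i := stepQ 3552 Q3552 (allL N3552 (tt N4323 (iv F40364)) (tt N2970 F32236) (tt N4294 (iv F40229)) (tt N3291 F32237) (tt N2893 F32238) (tt N4337 (iv F40426)) (tt N3552 F32239) (tt N4338 D10225) (tt N2892 (iv D8452)))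
theorem Q3554 : ∀ i, i < 3554 → P i := stepQ 3553 Q3553 (allL N3553 (tt N4324 (iv F40368)) (tt N2971 F32240) (tt N3217 F38687) (tt N2932 F32241) (tt N4338 (iv F40429)) (tt N3178 F38688) (tt N3553 F32242) (tt N2893 (iv D8453)) (tt N3109 F32243))
theorem Q3555 : ∀ i, i < 3555 → P i := stepQ 3554 Q3554 (allL N3554 (tt N4325 (iv F40374)) (tt N2898 F32248) (tt N4339 D10226) (tt N2894 (iv D8455)) (tt N4296 (iv F40240)) (tt N4163 (iv F39691)) (tt N2895 F32249) (tt N3554 F32250) (tt N4340 D10227))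
theorem Q3556 : ∀ i, i < 3556 → P i := stepQ 3555 Q3555 (allL N3555 (tt N4326 (iv F40378)) (tt N2899 F32251) (tt N4332 (iv F40406)) (tt N4340 (iv F40435)) (tt N2897 F32252) (tt N4241 (iv F39973)) (tt N2896 F32253) (tt N2935 F32254) (tt N2894 (iv D8456)))
theorem Q3557 : ∀ i, i < 3557 → P i := stepQ 3556 Q3556 (allL N3556 (tt N4327 (iv F40383)) (tt N4341 D10228) (tt N2895 (iv D8457)) (tt N4333 (iv F40410)) (tt N4298 (iv F40248)) (tt N3293 F32255) (tt N4339 (iv F40432)) (tt N3556 F32256) (tt N4342 D10229))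
theorem Q3558 : ∀ i, i < 3558 → P i := stepQ 3557 Q3557 (allL N3557 (tt N4328 (iv F40386)) (tt N2901 F32257) (tt N4342 (iv F40440)) (tt N2896 F32258) (tt N4299 (iv F40253)) (tt N3294 F32259) (tt N4340 (iv F40436)) (tt N4343 D10230) (tt N2895 (iv D8458)))
theorem Q3559 : ∀ i, i < 3559 → P i := stepQ 3558 Q3558 (allL N3558 (tt N3409 F32274) (tt N4340 (iv F40434)) (tt N4162 (iv F39686)) (tt N2899 F32275) (tt N4302 (iv F40267)) (tt N4164 (iv F39697)) (tt N2901 F32276) (tt N4344 D10231) (tt N2898 (iv D8462)))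
theorem Q3560 : ∀ i, i < 3560 → P i := stepQ 3559 Q3559 (allL N3559 (tt N4345 D10232) (tt N2900 (iv D8463)) (tt N4341 (iv F40437)) (tt N2933 F38469) (tt N4303 (iv F40270)) (tt N2934 (iv F38516)) (tt N4154 (iv F39659)) (tt N3559 F32279) (tt N4346 D10233))
theorem Q3561 : ∀ i, i < 3561 → P i := stepQ 3560 Q3560 (allL N3560 (tt N3411 F32280) (tt N4346 (iv F40454)) (tt N2901 F32281) (tt N2938 F38471) (tt N4304 (iv F40276)) (tt N2939 (iv F38517)) (tt N4162 (iv F39689)) (tt N4347 D10234) (tt N2900 (iv D8464)))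
theorem Q3562 : ∀ i, i < 3562 → P i := stepQ 3561 Q3561 (allL N3561 (tt N3412 F32284) (tt N4343 (iv F40442)) (tt N4347 (iv F40458)) (tt N2942 F32285) (tt N4305 (iv F40280)) (tt N3295 F32286) (tt N4344 (iv F40448)) (tt N2901 (iv D8465)) (tt N3561 F32287))
theorem Q3563 : ∀ i, i < 3563 → P i := stepQ 3562 Q3562 (allL N3562 (tt N2975 F32288) (tt N2907 F32289) (tt N4348 D10235) (tt N2902 (iv D8466)) (tt N3110 F32290) (tt N4109 (iv F39490)) (tt N4349 D10236) (tt N4350 D10237) (tt N4306 (iv F40287)))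
theorem Q3564 : ∀ i, i < 3564 → P i := stepQ 3563 Q3563 (allL N3563 (tt N2976 F32291) (tt N2908 F32292) (tt N3743 F39002) (tt N4349 (iv F40466)) (tt N2903 F32293) (tt N4351 D10238) (tt N2902 (iv D8467)) (tt N4352 D10239) (tt N4307 (iv F40294)))
theorem Q3565 : ∀ i, i < 3565 → P i := stepQ 3564 Q3564 (allL N3564 (tt N2977 F32294) (tt N2909 F32295) (tt N3988 (iv F39052)) (tt N4353 D10240) (tt N2904 F32296) (tt N4111 (iv F39499)) (tt N4352 (iv F40479)) (tt N2902 (iv D8468)) (tt N4354 D10241))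
theorem Q3566 : ∀ i, i < 3566 → P i := stepQ 3565 Q3565 (allL N3565 (tt N2978 F32297) (tt N2910 F32298) (tt N3780 F38598) (tt N4355 D10242) (tt N4352 (iv F40478)) (tt N3565 F32299) (tt N2904 F32300) (tt N2903 (iv D8469)) (tt N4356 D10243))
theorem Q3567 : ∀ i, i < 3567 → P i := stepQ 3566 Q3566 (allL N3566 (tt N2979 F32301) (tt N2911 F32302) (tt N4357 D10244) (tt N2904 (iv D8470)) (tt N4358 D10245) (tt N2905 F32303) (tt N4355 (iv F40488)) (tt N3114 F32304) (tt N4359 D10246))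
theorem Q3568 : ∀ i, i < 3568 → P i := stepQ 3567 Q3567 (allL N3567 (tt N2980 F32305) (tt N2912 F32306) (tt N3990 (iv F39060)) (tt N4359 (iv F40503)) (tt N4354 (iv F40484)) (tt N2906 F32307) (tt N4356 (iv F40493)) (tt N4311 (iv F40315)) (tt N2904 (iv D8471)))
theorem Q3569 : ∀ i, i < 3569 → P i := stepQ 3568 Q3568 (allL N3568 (tt N2981 F32308) (tt N3568 F32309) (tt N2905 (iv D8472)) (tt N3991 (iv F39064)) (tt N4360 D10247) (tt N4357 (iv F40496)) (tt N3568 F32310) (tt N3116 F32311) (tt N4361 D10248))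
theorem Q3570 : ∀ i, i < 3570 → P i := stepQ 3569 Q3569 (allL N3569 (tt N2982 F32312) (tt N2913 F32313) (tt N4360 (iv F40507)) (tt N4116 (iv F39517)) (tt N2905 (iv D8473)) (tt N4362 D10249) (tt N3569 F32314) (tt N3117 F32315) (tt N4363 D10250))
theorem Q3571 : ∀ i, i < 3571 → P i := stepQ 3570 Q3570 (allL N3570 (tt N2983 F32316) (tt N2914 F32317) (tt N4361 (iv F40512)) (tt N2906 F32318) (tt N4363 (iv F40519)) (tt N4359 (iv F40504)) (tt N3570 F32319) (tt N4364 D10251) (tt N2905 (iv D8474)))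
theorem Q3572 : ∀ i, i < 3572 → P i := stepQ 3571 Q3571 (allL N3571 (tt N2920 F32320) (tt N4349 (iv F40465)) (tt N3571 F32321) (tt N2908 F32322) (tt N3119 F32323) (tt N4365 D10252) (tt N2907 (iv D8475)) (tt N4366 D10253) (tt N3145 F38784))
theorem Q3573 : ∀ i, i < 3573 → P i := stepQ 3572 Q3572 (allL N3572 (tt N2921 F32324) (tt N4350 (iv F40470)) (tt N3572 F32325) (tt N4367 D10254) (tt N3120 F32326) (tt N4119 (iv F39532)) (tt N4366 (iv F40533)) (tt N2907 (iv D8476)) (tt N4368 D10255))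
theorem Q3574 : ∀ i, i < 3574 → P i := stepQ 3573 Q3573 (allL N3573 (tt N2922 F32327) (tt N4351 (iv F40473)) (tt N2915 F32328) (tt N4365 (iv F40527)) (tt N3573 F32329) (tt N2908 (iv D8477)) (tt N4120 (iv F39536)) (tt N4369 D10256) (tt N4280 (iv F40153)))
theorem Q3575 : ∀ i, i < 3575 → P i := stepQ 3574 Q3574 (allL N3574 (tt N2923 F32330) (tt N4352 (iv F40477)) (tt N2916 F32331) (tt N4370 D10257) (tt N2910 F32332) (tt N4369 (iv F40542)) (tt N2909 F32333) (tt N2908 (iv D8478)) (tt N4371 D10258))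
theorem Q3576 : ∀ i, i < 3576 → P i := stepQ 3575 Q3575 (allL N3575 (tt N2924 F32334) (tt N4353 (iv F40481)) (tt N4372 D10259) (tt N2909 (iv D8479)) (tt N4373 D10260) (tt N4122 (iv F39543)) (tt N4370 (iv F40544)) (tt N4367 (iv F40535)) (tt N4374 D10261))
theorem Q3577 : ∀ i, i < 3577 → P i := stepQ 3576 Q3576 (allL N3576 (tt N2925 F32335) (tt N4354 (iv F40483)) (tt N2918 F32336) (tt N4374 (iv F40554)) (tt N2912 F32337) (tt N4123 (iv F39547)) (tt N4371 (iv F40548)) (tt N4318 (iv F40344)) (tt N2909 (iv D8480)))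
theorem Q3578 : ∀ i, i < 3578 → P i := stepQ 3577 Q3577 (allL N3577 (tt N2926 F32338) (tt N4355 (iv F40486)) (tt N3577 F32339) (tt N2910 (iv D8481)) (tt N4375 D10262) (tt N3577 F32340) (tt N2911 F32341) (tt N3122 F32342) (tt N4376 D10263))
theorem Q3579 : ∀ i, i < 3579 → P i := stepQ 3578 Q3578 (allL N3578 (tt N2927 F32343) (tt N4356 (iv F40491)) (tt N2919 F32344) (tt N4376 (iv F40561)) (tt N4371 (iv F40547)) (tt N3578 F32345) (tt N2912 F32346) (tt N4319 (iv F40350)) (tt N2910 (iv D8482)))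
theorem Q3580 : ∀ i, i < 3580 → P i := stepQ 3579 Q3579 (allL N3579 (tt N2928 F32347) (tt N4358 (iv F40499)) (tt N3579 F32348) (tt N4373 (iv F40552)) (tt N2911 (iv D8483)) (tt N4377 D10264) (tt N4375 (iv F40557)) (tt N3123 F32349) (tt N4378 D10265))
theorem Q3581 : ∀ i, i < 3581 → P i := stepQ 3580 Q3580 (allL N3580 (tt N2929 F32350) (tt N4359 (iv F40502)) (tt N3580 F32351) (tt N2912 F32352) (tt N4378 (iv F40571)) (tt N2914 F32353) (tt N4376 (iv F40563)) (tt N4379 D10266) (tt N2911 (iv D8484)))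
theorem Q3582 : ∀ i, i < 3582 → P i := stepQ 3581 Q3581 (allL N3581 (tt N2930 F32354) (tt N4362 (iv F40515)) (tt N3581 F32355) (tt N4128 (iv F39564)) (tt N4377 (iv F40567)) (tt N2913 (iv D8485)) (tt N4380 D10267) (tt N3125 F32356) (tt N4381 D10268))
theorem Q3583 : ∀ i, i < 3583 → P i := stepQ 3582 Q3582 (allL N3582 (tt N2931 F32357) (tt N4363 (iv F40518)) (tt N3582 F32358) (tt N4129 (iv F39567)) (tt N2914 F32359) (tt N4381 (iv F40584)) (tt N3582 F32360) (tt N4382 D10269) (tt N2913 (iv D8486)))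
theorem Q3584 : ∀ i, i < 3584 → P i := stepQ 3583 Q3583 (allL N3583 (tt N2932 F32361) (tt N4364 (iv F40522)) (tt N3583 F32362) (tt N4324 (iv F40370)) (tt N4382 (iv F40587)) (tt N4379 (iv F40575)) (tt N3583 F32363) (tt N2914 (iv D8487)) (tt N3127 F32364))
theorem Q3585 : ∀ i, i < 3585 → P i := stepQ 3584 Q3584 (allL N3584 (tt N2933 F32365) (tt N3465 F38468) (tt N4369 (iv F40540)) (tt N4345 (iv F40451)) (tt N3584 F32366) (tt N2916 F32367) (tt N4131 (iv F39577)) (tt N2915 (iv D8488)) (tt N4383 D10270))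
theorem Q3586 : ∀ i, i < 3586 → P i := stepQ 3585 Q3585 (allL N3585 (tt N2934 F32368) (tt N3614 F38994) (tt N4384 D10271) (tt N2916 (iv D8489)) (tt N3585 F32369) (tt N4345 (iv F40452)) (tt N2917 F32370) (tt N3585 F32371) (tt N4385 D10272))
theorem Q3587 : ∀ i, i < 3587 → P i := stepQ 3586 Q3586 (allL N3586 (tt N2935 F32372) (tt N3718 F38578) (tt N4371 (iv F40546)) (tt N4385 (iv F40599)) (tt N2919 F32373) (tt N4383 (iv F40593)) (tt N2918 F32374) (tt N4326 (iv F40382)) (tt N2916 (iv D8490)))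
theorem Q3588 : ∀ i, i < 3588 → P i := stepQ 3587 Q3587 (allL N3587 (tt N2936 F32375) (tt N4386 D10273) (tt N2917 (iv D8491)) (tt N4372 (iv F40550)) (tt N3587 F32376) (tt N4134 (iv F39586)) (tt N4384 (iv F40596)) (tt N3587 F32377) (tt N4387 D10274))
theorem Q3589 : ∀ i, i < 3589 → P i := stepQ 3588 Q3588 (allL N3588 (tt N2937 F32378) (tt N4003 (iv F39104)) (tt N4387 (iv F40605)) (tt N2918 F32379) (tt N3588 F32380) (tt N4135 (iv F39590)) (tt N4385 (iv F40601)) (tt N4388 D10275) (tt N2917 (iv D8492)))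
theorem Q3590 : ∀ i, i < 3590 → P i := stepQ 3589 Q3589 (allL N3589 (tt N4365 (iv F40525)) (tt N3000 F32381) (tt N3589 F32382) (tt N2922 F32383) (tt N3152 F38791) (tt N2920 (iv D8493)) (tt N4136 (iv F39594)) (tt N4389 D10276) (tt N3150 F38792))
theorem Q3591 : ∀ i, i < 3591 → P i := stepQ 3590 Q3590 (allL N3590 (tt N4366 (iv F40530)) (tt N3001 F32384) (tt N3590 F32385) (tt N4390 D10277) (tt N3128 F32386) (tt N4389 (iv F40613)) (tt N2921 F32387) (tt N2920 (iv D8494)) (tt N4391 D10278))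
theorem Q3592 : ∀ i, i < 3592 → P i := stepQ 3591 Q3591 (allL N3591 (tt N4367 (iv F40534)) (tt N3002 F32388) (tt N4392 D10279) (tt N2921 (iv D8495)) (tt N4393 D10280) (tt N4138 (iv F39602)) (tt N4390 (iv F40616)) (tt N2924 F32389) (tt N4394 D10281))
theorem Q3593 : ∀ i, i < 3593 → P i := stepQ 3592 Q3592 (allL N3592 (tt N4368 (iv F40536)) (tt N3003 F32390) (tt N3592 F32391) (tt N4394 (iv F40630)) (tt N3130 F32392) (tt N4139 (iv F39607)) (tt N4391 (iv F40621)) (tt N4330 (iv F40400)) (tt N2921 (iv D8496)))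
theorem Q3594 : ∀ i, i < 3594 → P i := stepQ 3593 Q3593 (allL N3593 (tt N4369 (iv F40539)) (tt N2973 F38328) (tt N2933 F32394) (tt N4395 D10282) (tt N3593 F32395) (tt N2923 F32396) (tt N4140 (iv F39613)) (tt N2922 (iv D8497)) (tt N4396 D10283))
theorem Q3595 : ∀ i, i < 3595 → P i := stepQ 3594 Q3594 (allL N3594 (tt N4370 (iv F40543)) (tt N3004 F32397) (tt N4397 D10284) (tt N2923 (iv D8498)) (tt N4398 D10285) (tt N4395 (iv F40632)) (tt N2924 F32398) (tt N4390 (iv F40617)) (tt N4399 D10286))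
theorem Q3596 : ∀ i, i < 3596 → P i := stepQ 3595 Q3595 (allL N3595 (tt N4371 (iv F40545)) (tt N3005 F32399) (tt N2935 F32400) (tt N4399 (iv F40645)) (tt N2927 F32401) (tt N4396 (iv F40636)) (tt N2925 F32402) (tt N4332 (iv F40409)) (tt N2923 (iv D8499)))
theorem Q3597 : ∀ i, i < 3597 → P i := stepQ 3596 Q3596 (allL N3596 (tt N4372 (iv F40549)) (tt N4400 D10287) (tt N2924 (iv D8500)) (tt N2936 F32403) (tt N4401 D10288) (tt N4143 (iv F39622)) (tt N4397 (iv F40639)) (tt N4392 (iv F40624)) (tt N4402 D10289))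
theorem Q3598 : ∀ i, i < 3598 → P i := stepQ 3597 Q3597 (allL N3597 (tt N4373 (iv F40551)) (tt N3007 F32404) (tt N4401 (iv F40650)) (tt N2928 F32405) (tt N2924 (iv D8501)) (tt N4403 D10290) (tt N4398 (iv F40642)) (tt N4393 (iv F40628)) (tt N4404 D10291))
theorem Q3599 : ∀ i, i < 3599 → P i := stepQ 3598 Q3598 (allL N3598 (tt N4374 (iv F40553)) (tt N3008 F32406) (tt N4402 (iv F40652)) (tt N2925 F32407) (tt N4404 (iv F40658)) (tt N4145 (iv F39627)) (tt N4399 (iv F40646)) (tt N4405 D10292) (tt N2924 (iv D8502)))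
theorem Q3600 : ∀ i, i < 3600 → P i := stepQ 3599 Q3599 (allL N3599 (tt N4375 (iv F40555)) (tt N3009 F32408) (tt N3599 F32409) (tt N4398 (iv F40641)) (tt N2926 (iv D8503)) (tt N4406 D10293) (tt N2928 F32410) (tt N3132 F32411) (tt N4407 D10294))
theorem Q3601 : ∀ i, i < 3601 → P i := stepQ 3600 Q3600 (allL N3600 (tt N4376 (iv F40559)) (tt N3010 F32412) (tt N3600 F32413) (tt N2927 F32414) (tt N4407 (iv F40666)) (tt N3600 F32415) (tt N2929 F32416) (tt N3180 F38937) (tt N2926 (iv D8504)))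
theorem Q3602 : ∀ i, i < 3602 → P i := stepQ 3601 Q3601 (allL N3601 (tt N4377 (iv F40565)) (tt N3011 F32417) (tt N3601 F32418) (tt N4403 (iv F40655)) (tt N2930 F32419) (tt N2928 (iv D8505)) (tt N4408 D10295) (tt N3133 F32420) (tt N4409 D10296))
theorem Q3603 : ∀ i, i < 3603 → P i := stepQ 3602 Q3602 (allL N3602 (tt N4378 (iv F40569)) (tt N3012 F32421) (tt N3602 F32422) (tt N4404 (iv F40657)) (tt N2929 F32423) (tt N4409 (iv F40676)) (tt N4407 (iv F40667)) (tt N4410 D10297) (tt N2928 (iv D8506)))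
theorem Q3604 : ∀ i, i < 3604 → P i := stepQ 3603 Q3603 (allL N3603 (tt N4379 (iv F40572)) (tt N3013 F32424) (tt N3603 F32425) (tt N3178 F38812) (tt N4410 (iv F40679)) (tt N2932 F32426) (tt N3180 F38813) (tt N2929 (iv D8507)) (tt N3135 F32427))
theorem Q3605 : ∀ i, i < 3605 → P i := stepQ 3604 Q3604 (allL N3604 (tt N4380 (iv F40578)) (tt N3014 F32428) (tt N3604 F32429) (tt N4151 (iv F39647)) (tt N4408 (iv F40671)) (tt N3604 F32430) (tt N2930 (iv D8508)) (tt N3136 F32431) (tt N4411 D10298))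
theorem Q3606 : ∀ i, i < 3606 → P i := stepQ 3605 Q3605 (allL N3605 (tt N4381 (iv F40582)) (tt N3015 F32432) (tt N3605 F32433) (tt N4152 (iv F39651)) (tt N4409 (iv F40675)) (tt N2931 F32434) (tt N4411 (iv F40685)) (tt N4412 D10299) (tt N2930 (iv D8509)))
theorem Q3607 : ∀ i, i < 3607 → P i := stepQ 3606 Q3606 (allL N3606 (tt N4382 (iv F40585)) (tt N3016 F32435) (tt N3606 F32436) (tt N4413 D10300) (tt N2932 F32437) (tt N4412 (iv F40688)) (tt N3606 F32438) (tt N2931 (iv D8510)) (tt N3138 F32439))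
theorem Q3608 : ∀ i, i < 3608 → P i := stepQ 3607 Q3607 (allL N3607 (tt N4383 (iv F40590)) (tt N2938 F32443) (tt N4396 (iv F40634)) (tt N4346 (iv F40455)) (tt N3607 F32444) (tt N2935 F32445) (tt N4155 (iv F39664)) (tt N4241 (iv F39975)) (tt N2933 (iv D8512)))
theorem Q3609 : ∀ i, i < 3609 → P i := stepQ 3608 Q3608 (allL N3608 (tt N4384 (iv F40594)) (tt N3293 (iv F38993)) (tt N2934 (iv D8513)) (tt N4397 (iv F40638)) (tt N3608 F32446) (tt N4341 (iv F40438)) (tt N2936 F32447) (tt N3608 F32448) (tt N4414 D10301))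
theorem Q3610 : ∀ i, i < 3610 → P i := stepQ 3609 Q3609 (allL N3609 (tt N4385 (iv F40598)) (tt N2939 F32449) (tt N4414 (iv F40694)) (tt N2935 F32450) (tt N3609 F32451) (tt N4346 (iv F40456)) (tt N2937 F32452) (tt N4415 D10302) (tt N2934 (iv D8514)))
theorem Q3611 : ∀ i, i < 3611 → P i := stepQ 3610 Q3610 (allL N3610 (tt N4416 D10303) (tt N2936 (iv D8515)) (tt N2940 F32453) (tt N4400 (iv F40648)) (tt N3610 F32454) (tt N4158 (iv F39673)) (tt N3293 F38992) (tt N3610 F32455) (tt N4417 D10304))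
theorem Q3612 : ∀ i, i < 3612 → P i := stepQ 3611 Q3611 (allL N3611 (tt N4387 (iv F40604)) (tt N4417 (iv F40705)) (tt N2937 F32456) (tt N4402 (iv F40653)) (tt N3611 F32457) (tt N4159 (iv F39676)) (tt N4414 (iv F40696)) (tt N4418 D10305) (tt N2936 (iv D8516)))
theorem Q3613 : ∀ i, i < 3613 → P i := stepQ 3612 Q3612 (allL N3612 (tt N4388 (iv F40607)) (tt N2942 F32458) (tt N4418 (iv F40709)) (tt N4343 (iv F40443)) (tt N3612 F32459) (tt N4160 (iv F39679)) (tt N4415 (iv F40699)) (tt N2937 (iv D8517)) (tt N3612 F32460))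
theorem Q3614 : ∀ i, i < 3614 → P i := stepQ 3613 Q3613 (allL N3613 (tt N3616 F38989) (tt N4415 (iv F40697)) (tt N3295 (iv F38990)) (tt N4344 (iv F40447)) (tt N3613 F32477) (tt N4347 (iv F40459)) (tt N2942 F32478) (tt N2939 (iv D8523)) (tt N3613 F32479))
theorem Q3615 : ∀ i, i < 3615 → P i := stepQ 3614 Q3614 (allL N3614 (tt N2940 (iv D8524)) (tt N3585 (iv F38994)) (tt N4416 (iv F40701)) (tt N3019 F32480) (tt N3614 F32481) (tt N4166 (iv F39703)) (tt N3283 F38991) (tt N3614 F32482) (tt N4419 D10306))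
theorem Q3616 : ∀ i, i < 3616 → P i := stepQ 3615 Q3615 (allL N3615 (tt N4419 (iv F40712)) (tt N2941 F32483) (tt N4417 (iv F40706)) (tt N3020 F32484) (tt N3615 F32485) (tt N4167 (iv F39707)) (tt N3294 F38987) (tt N4420 D10307) (tt N2940 (iv D8525)))
theorem Q3617 : ∀ i, i < 3617 → P i := stepQ 3616 Q3616 (allL N3616 (tt N3613 (iv F38989)) (tt N4420 (iv F40717)) (tt N2942 F32486) (tt N4165 (iv F39699)) (tt N3616 F32487) (tt N4168 (iv F39709)) (tt N3295 F38988) (tt N2941 (iv D8526)) (tt N3616 F32488))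
theorem Q3618 : ∀ i, i < 3618 → P i := stepQ 3617 Q3617 (allL N3617 (tt N4306 (iv F40283)) (tt N2948 F32489) (tt N4421 D10308) (tt N2943 (iv D8527)) (tt N3139 F32490) (tt N3296 F32491) (tt N4422 D10309) (tt N4423 D10310) (tt N2975 F32492))
theorem Q3619 : ∀ i, i < 3619 → P i := stepQ 3618 Q3618 (allL N3618 (tt N4307 (iv F40289)) (tt N2949 F32493) (tt N3414 F32494) (tt N4422 (iv F40728)) (tt N2944 F32495) (tt N4268 (iv F40094)) (tt N2943 (iv D8528)) (tt N4424 D10311) (tt N2976 F32496))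
theorem Q3620 : ∀ i, i < 3620 → P i := stepQ 3619 Q3619 (allL N3619 (tt N4308 (iv F40295)) (tt N2950 F32497) (tt N3415 F32498) (tt N4425 D10312) (tt N2945 F32499) (tt N3297 F32500) (tt N4424 (iv F40737)) (tt N2943 (iv D8529)) (tt N4426 D10313))
theorem Q3621 : ∀ i, i < 3621 → P i := stepQ 3620 Q3620 (allL N3620 (tt N4309 (iv F40300)) (tt N2951 F32501) (tt N3416 F32502) (tt N4427 D10314) (tt N4424 (iv F40736)) (tt N3620 F32503) (tt N2945 F32504) (tt N2944 (iv D8530)) (tt N4428 D10315))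
theorem Q3622 : ∀ i, i < 3622 → P i := stepQ 3621 Q3621 (allL N3621 (tt N4310 (iv F40306)) (tt N2952 F32505) (tt N4429 D10316) (tt N2945 (iv D8531)) (tt N4430 D10317) (tt N2946 F32506) (tt N4427 (iv F40748)) (tt N3140 F32507) (tt N4431 D10318))
theorem Q3623 : ∀ i, i < 3623 → P i := stepQ 3622 Q3622 (allL N3622 (tt N4311 (iv F40311)) (tt N2953 F32508) (tt N3418 F32509) (tt N4431 (iv F40762)) (tt N4426 (iv F40742)) (tt N2947 F32510) (tt N4428 (iv F40753)) (tt N2980 F32511) (tt N2945 (iv D8532)))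
theorem Q3624 : ∀ i, i < 3624 → P i := stepQ 3623 Q3623 (allL N3623 (tt N4312 (iv F40316)) (tt N3623 F32512) (tt N2946 (iv D8533)) (tt N3419 F32513) (tt N4432 D10319) (tt N4429 (iv F40757)) (tt N3623 F32514) (tt N3141 F32515) (tt N4433 D10320))
theorem Q3625 : ∀ i, i < 3625 → P i := stepQ 3624 Q3624 (allL N3624 (tt N4313 (iv F40320)) (tt N2954 F32516) (tt N4432 (iv F40765)) (tt N3301 F32517) (tt N2946 (iv D8534)) (tt N4434 D10321) (tt N3624 F32518) (tt N3142 F32519) (tt N4435 D10322))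
theorem Q3626 : ∀ i, i < 3626 → P i := stepQ 3625 Q3625 (allL N3625 (tt N4314 (iv F40325)) (tt N2955 F32520) (tt N4433 (iv F40769)) (tt N2947 F32521) (tt N4435 (iv F40777)) (tt N4431 (iv F40763)) (tt N3625 F32522) (tt N4436 D10323) (tt N2946 (iv D8535)))
theorem Q3627 : ∀ i, i < 3627 → P i := stepQ 3626 Q3626 (allL N3626 (tt N2960 F32523) (tt N4422 (iv F40727)) (tt N3027 F32524) (tt N2949 F32525) (tt N3104 F38653) (tt N4264 (iv F40075)) (tt N2948 (iv D8536)) (tt N4320 (iv F40354)) (tt N2984 F32527))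
theorem Q3628 : ∀ i, i < 3628 → P i := stepQ 3627 Q3627 (allL N3627 (tt N2961 F32528) (tt N4423 (iv F40731)) (tt N3028 F32529) (tt N4437 D10324) (tt N3144 F32530) (tt N3303 F32531) (tt N4320 (iv F40353)) (tt N2948 (iv D8537)) (tt N4438 D10325))
theorem Q3629 : ∀ i, i < 3629 → P i := stepQ 3628 Q3628 (allL N3628 (tt N2962 F32537) (tt N4424 (iv F40734)) (tt N2956 F32538) (tt N4439 D10326) (tt N2951 F32539) (tt N4205 (iv F39849)) (tt N2950 F32540) (tt N2949 (iv D8539)) (tt N4440 D10327))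
theorem Q3630 : ∀ i, i < 3630 → P i := stepQ 3629 Q3629 (allL N3629 (tt N2963 F32541) (tt N4425 (iv F40738)) (tt N4441 D10328) (tt N2950 (iv D8540)) (tt N4442 D10329) (tt N3304 F32542) (tt N4439 (iv F40792)) (tt N4437 (iv F40785)) (tt N4443 D10330))
theorem Q3631 : ∀ i, i < 3631 → P i := stepQ 3630 Q3630 (allL N3630 (tt N2964 F32543) (tt N4426 (iv F40740)) (tt N2958 F32544) (tt N4443 (iv F40804)) (tt N2953 F32545) (tt N3305 F32546) (tt N4440 (iv F40796)) (tt N2989 F32547) (tt N2950 (iv D8541)))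
theorem Q3632 : ∀ i, i < 3632 → P i := stepQ 3631 Q3631 (allL N3631 (tt N2965 F32548) (tt N4427 (iv F40746)) (tt N3631 F32549) (tt N2951 (iv D8542)) (tt N4315 (iv F40331)) (tt N3631 F32550) (tt N2952 F32551) (tt N3103 F38781) (tt N4444 D10331))
theorem Q3633 : ∀ i, i < 3633 → P i := stepQ 3632 Q3632 (allL N3632 (tt N2966 F32553) (tt N4428 (iv F40750)) (tt N2959 F32554) (tt N4444 (iv F40808)) (tt N4440 (iv F40795)) (tt N3632 F32555) (tt N2953 F32556) (tt N2991 F32557) (tt N2951 (iv D8543)))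
theorem Q3634 : ∀ i, i < 3634 → P i := stepQ 3633 Q3633 (allL N3633 (tt N2967 F32558) (tt N4430 (iv F40759)) (tt N3633 F32559) (tt N4442 (iv F40802)) (tt N2952 (iv D8544)) (tt N4445 D10332) (tt N4315 (iv F40333)) (tt N3145 F32560) (tt N4446 D10333))
theorem Q3635 : ∀ i, i < 3635 → P i := stepQ 3634 Q3634 (allL N3634 (tt N2968 F32561) (tt N4431 (iv F40761)) (tt N3634 F32562) (tt N2953 F32563) (tt N4446 (iv F40818)) (tt N2955 F32564) (tt N4444 (iv F40810)) (tt N4447 D10334) (tt N2952 (iv D8545)))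
theorem Q3636 : ∀ i, i < 3636 → P i := stepQ 3635 Q3635 (allL N3635 (tt N2969 F32565) (tt N4434 (iv F40772)) (tt N3635 F32566) (tt N3308 F32567) (tt N4445 (iv F40814)) (tt N2954 (iv D8546)) (tt N4448 D10335) (tt N3146 F32568) (tt N4449 D10336))
theorem Q3637 : ∀ i, i < 3637 → P i := stepQ 3636 Q3636 (allL N3636 (tt N2970 F32569) (tt N4435 (iv F40775)) (tt N3636 F32570) (tt N3309 F32571) (tt N2955 F32572) (tt N4449 (iv F40833)) (tt N3636 F32573) (tt N4450 D10337) (tt N2954 (iv D8547)))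
theorem Q3638 : ∀ i, i < 3638 → P i := stepQ 3637 Q3637 (allL N3637 (tt N2971 F32574) (tt N4436 (iv F40779)) (tt N3637 F32575) (tt N2996 F32576) (tt N4450 (iv F40836)) (tt N4447 (iv F40822)) (tt N3637 F32577) (tt N2955 (iv D8548)) (tt N3148 F32578))
theorem Q3639 : ∀ i, i < 3639 → P i := stepQ 3638 Q3638 (allL N3638 (tt N2972 F32589) (tt N3437 F32590) (tt N4440 (iv F40794)) (tt N4204 (iv F39842)) (tt N2959 F32591) (tt N4206 (iv F39856)) (tt N2958 F32592) (tt N2997 F32593) (tt N2956 (iv D8551)))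
theorem Q3640 : ∀ i, i < 3640 → P i := stepQ 3639 Q3639 (allL N3639 (tt N2973 F32594) (tt N4451 D10338) (tt N2957 (iv D8552)) (tt N4441 (iv F40799)) (tt N3639 F32595) (tt N2987 (iv F38295)) (tt N4190 (iv F39790)) (tt N2986 F38237) (tt N4452 D10339))
theorem Q3641 : ∀ i, i < 3641 → P i := stepQ 3640 Q3640 (allL N3640 (tt N2974 F32598) (tt N3439 F32599) (tt N4452 (iv F40844)) (tt N2958 F32600) (tt N3640 F32601) (tt N2997 (iv F38296)) (tt N4204 (iv F39845)) (tt N4206 (iv F39858)) (tt N2957 (iv D8553)))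
theorem Q3642 : ∀ i, i < 3642 → P i := stepQ 3641 Q3641 (allL N3641 (tt N4437 (iv F40783)) (tt N4329 (iv F40390)) (tt N4453 D10340) (tt N2961 (iv D8556)) (tt N4331 (iv F40402)) (tt N3311 F32610) (tt N4334 (iv F40414)) (tt N2963 F32611) (tt N4454 D10341))
theorem Q3643 : ∀ i, i < 3643 → P i := stepQ 3642 Q3642 (allL N3642 (tt N4438 (iv F40786)) (tt N4330 (iv F40395)) (tt N3033 F32612) (tt N4454 (iv F40850)) (tt N3149 F32613) (tt N3312 F32614) (tt N4336 (iv F40422)) (tt N3003 F32615) (tt N2961 (iv D8557)))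
theorem Q3644 : ∀ i, i < 3644 → P i := stepQ 3643 Q3643 (allL N3643 (tt N4439 (iv F40791)) (tt N4331 (iv F40401)) (tt N4216 (iv F39888)) (tt N2962 (iv D8559)) (tt N4329 (iv F40391)) (tt N4218 (iv F39897)) (tt N2963 F32620) (tt N4334 (iv F40415)) (tt N4455 D10342))
theorem Q3645 : ∀ i, i < 3645 → P i := stepQ 3644 Q3644 (allL N3644 (tt N4440 (iv F40793)) (tt N4332 (iv F40405)) (tt N2972 F32621) (tt N4455 (iv F40852)) (tt N2966 F32622) (tt N4237 (iv F39955)) (tt N2964 F32623) (tt N3005 F32624) (tt N2962 (iv D8560)))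
theorem Q3646 : ∀ i, i < 3646 → P i := stepQ 3645 Q3645 (allL N3645 (tt N4441 (iv F40798)) (tt N4395 (iv F40631)) (tt N2963 (iv D8561)) (tt N2973 F32625) (tt N4456 D10343) (tt N3004 (iv F38390)) (tt N4216 (iv F39890)) (tt N4453 (iv F40849)) (tt N4457 D10344))
theorem Q3647 : ∀ i, i < 3647 → P i := stepQ 3646 Q3646 (allL N3646 (tt N4442 (iv F40801)) (tt N4334 (iv F40412)) (tt N4456 (iv F40854)) (tt N2967 F32627) (tt N2963 (iv D8562)) (tt N4458 D10345) (tt N4329 (iv F40393)) (tt N4331 (iv F40404)) (tt N4459 D10346))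
theorem Q3648 : ∀ i, i < 3648 → P i := stepQ 3647 Q3647 (allL N3647 (tt N4443 (iv F40803)) (tt N4335 (iv F40416)) (tt N4457 (iv F40856)) (tt N2964 F32628) (tt N4459 (iv F40862)) (tt N3314 F32629) (tt N4455 (iv F40853)) (tt N4460 D10347) (tt N2963 (iv D8563)))
theorem Q3649 : ∀ i, i < 3649 → P i := stepQ 3648 Q3648 (allL N3648 (tt N4444 (iv F40806)) (tt N3149 F38793) (tt N3648 F32633) (tt N2966 F32634) (tt N4330 (iv F40397)) (tt N3648 F32635) (tt N2968 F32636) (tt N3130 F38794) (tt N2965 (iv D8565)))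
theorem Q3650 : ∀ i, i < 3650 → P i := stepQ 3649 Q3649 (allL N3649 (tt N4445 (iv F40812)) (tt N4272 (iv F40113)) (tt N3649 F32637) (tt N4458 (iv F40859)) (tt N2969 F32638) (tt N2967 (iv D8566)) (tt N4275 (iv F40128)) (tt N3150 F32639) (tt N4461 D10348))
theorem Q3651 : ∀ i, i < 3651 → P i := stepQ 3650 Q3650 (allL N3650 (tt N4446 (iv F40816)) (tt N4336 (iv F40419)) (tt N3650 F32640) (tt N4459 (iv F40861)) (tt N2968 F32641) (tt N4461 (iv F40867)) (tt N4330 (iv F40399)) (tt N4391 (iv F40622)) (tt N2967 (iv D8567)))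
theorem Q3652 : ∀ i, i < 3652 → P i := stepQ 3651 Q3651 (allL N3651 (tt N4447 (iv F40819)) (tt N3178 F38796) (tt N3651 F32642) (tt N3013 F32643) (tt N4391 (iv F40620)) (tt N2971 F32644) (tt N3130 F38797) (tt N2968 (iv D8568)) (tt N3128 F38798))
theorem Q3653 : ∀ i, i < 3653 → P i := stepQ 3652 Q3652 (allL N3652 (tt N4448 (iv F40825)) (tt N4276 (iv F40131)) (tt N3652 F32646) (tt N3318 F32647) (tt N4275 F40130) (tt N3652 F32648) (tt N2969 (iv D8569)) (tt N3151 F32649) (tt N4462 D10349))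
theorem Q3654 : ∀ i, i < 3654 → P i := stepQ 3653 Q3653 (allL N3653 (tt N4449 (iv F40830)) (tt N4337 (iv F40424)) (tt N3653 F32650) (tt N3319 F32651) (tt N4461 (iv F40866)) (tt N2970 F32652) (tt N4462 (iv F40871)) (tt N4463 D10350) (tt N2969 (iv D8570)))
theorem Q3655 : ∀ i, i < 3655 → P i := stepQ 3654 Q3654 (allL N3654 (tt N4450 (iv F40834)) (tt N4338 (iv F40427)) (tt N3654 F32653) (tt N4464 D10351) (tt N2971 F32654) (tt N4463 (iv F40873)) (tt N3654 F32655) (tt N2970 (iv D8571)) (tt N3153 F32656))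
theorem Q3656 : ∀ i, i < 3656 → P i := stepQ 3655 Q3655 (allL N3655 (tt N4452 (iv F40843)) (tt N4396 (iv F40633)) (tt N2974 F32677) (tt N4457 (iv F40857)) (tt N3655 F32678) (tt N3005 (iv F38391)) (tt N4217 (iv F39894)) (tt N4237 (iv F39957)) (tt N2973 (iv D8577)))
theorem Q3657 : ∀ i, i < 3657 → P i := stepQ 3656 Q3656 (allL N3656 (tt N4348 (iv F40461)) (tt N3035 F32722) (tt N2975 (iv D8588)) (tt N4017 (iv F39146)) (tt N3154 F32723) (tt N4169 (iv F39713)) (tt N4465 D10352) (tt N4466 D10353) (tt N4421 (iv F40725)))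
theorem Q3658 : ∀ i, i < 3658 → P i := stepQ 3657 Q3657 (allL N3657 (tt N4349 (iv F40464)) (tt N2984 F32724) (tt N4465 (iv F40880)) (tt N2976 F32725) (tt N3155 F32726) (tt N4467 D10354) (tt N2975 (iv D8589)) (tt N4468 D10355) (tt N4422 (iv F40730)))
theorem Q3659 : ∀ i, i < 3659 → P i := stepQ 3658 Q3658 (allL N3658 (tt N4350 (iv F40469)) (tt N2985 F32727) (tt N4466 (iv F40883)) (tt N4469 D10356) (tt N3156 F32728) (tt N4171 (iv F39721)) (tt N4468 (iv F40889)) (tt N2975 (iv D8590)) (tt N4470 D10357))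
theorem Q3660 : ∀ i, i < 3660 → P i := stepQ 3659 Q3659 (allL N3659 (tt N4351 (iv F40472)) (tt N2986 F32729) (tt N3488 F38236) (tt N4467 (iv F40886)) (tt N3659 F32730) (tt N2976 (iv D8591)) (tt N4172 (iv F39724)) (tt N4451 (iv F40842)) (tt N4268 (iv F40096)))
theorem Q3661 : ∀ i, i < 3661 → P i := stepQ 3660 Q3660 (allL N3660 (tt N4352 (iv F40476)) (tt N2987 F32731) (tt N3690 F39000) (tt N4471 D10358) (tt N2978 F32732) (tt N4451 (iv F40841)) (tt N2977 F32733) (tt N2976 (iv D8592)) (tt N4472 D10359))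
theorem Q3662 : ∀ i, i < 3662 → P i := stepQ 3661 Q3661 (allL N3661 (tt N4353 (iv F40480)) (tt N2988 F32734) (tt N4473 D10360) (tt N2977 (iv D8593)) (tt N4474 D10361) (tt N4174 (iv F39730)) (tt N4471 (iv F40895)) (tt N4469 (iv F40891)) (tt N4475 D10362))
theorem Q3663 : ∀ i, i < 3663 → P i := stepQ 3662 Q3662 (allL N3662 (tt N4354 (iv F40482)) (tt N2989 F32735) (tt N4020 (iv F39152)) (tt N4475 (iv F40902)) (tt N2980 F32736) (tt N4175 (iv F39733)) (tt N4472 (iv F40898)) (tt N4426 (iv F40744)) (tt N2977 (iv D8594)))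
theorem Q3664 : ∀ i, i < 3664 → P i := stepQ 3663 Q3663 (allL N3663 (tt N4355 (iv F40485)) (tt N2990 F32737) (tt N4476 D10363) (tt N2978 (iv D8595)) (tt N4477 D10364) (tt N3663 F32738) (tt N2979 F32739) (tt N3158 F32740) (tt N4478 D10365))
theorem Q3665 : ∀ i, i < 3665 → P i := stepQ 3664 Q3664 (allL N3664 (tt N4356 (iv F40490)) (tt N2991 F32741) (tt N3781 F38997) (tt N4478 (iv F40911)) (tt N4472 (iv F40897)) (tt N3664 F32742) (tt N2980 F32743) (tt N4428 (iv F40754)) (tt N2978 (iv D8596)))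
theorem Q3666 : ∀ i, i < 3666 → P i := stepQ 3665 Q3665 (allL N3665 (tt N4357 (iv F40494)) (tt N3053 F32744) (tt N2979 (iv D8597)) (tt N4021 (iv F39155)) (tt N4479 D10366) (tt N2981 F32745) (tt N4476 (iv F40905)) (tt N3159 F32746) (tt N4480 D10367))
theorem Q3667 : ∀ i, i < 3667 → P i := stepQ 3666 Q3666 (allL N3666 (tt N4358 (iv F40498)) (tt N2992 F32747) (tt N4479 (iv F40915)) (tt N4474 (iv F40900)) (tt N2979 (iv D8598)) (tt N4481 D10368) (tt N4477 (iv F40908)) (tt N3160 F32748) (tt N4482 D10369))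
theorem Q3668 : ∀ i, i < 3668 → P i := stepQ 3667 Q3667 (allL N3667 (tt N4359 (iv F40501)) (tt N2993 F32749) (tt N4480 (iv F40918)) (tt N2980 F32750) (tt N4482 (iv F40924)) (tt N2983 F32751) (tt N4478 (iv F40913)) (tt N4483 D10370) (tt N2979 (iv D8599)))
theorem Q3669 : ∀ i, i < 3669 → P i := stepQ 3668 Q3668 (allL N3668 (tt N4360 (iv F40505)) (tt N3056 F32752) (tt N2982 F32753) (tt N4484 D10371) (tt N2981 (iv D8600)) (tt N4485 D10372) (tt N3668 F32754) (tt N3162 F32755) (tt N4486 D10373))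
theorem Q3670 : ∀ i, i < 3670 → P i := stepQ 3669 Q3669 (allL N3669 (tt N4361 (iv F40510)) (tt N3057 F32756) (tt N2983 F32757) (tt N4025 (iv F39169)) (tt N4486 (iv F40935)) (tt N4480 (iv F40919)) (tt N3669 F32758) (tt N4487 D10374) (tt N2981 (iv D8601)))
theorem Q3671 : ∀ i, i < 3671 → P i := stepQ 3670 Q3670 (allL N3670 (tt N4362 (iv F40514)) (tt N2994 F32759) (tt N4485 (iv F40931)) (tt N4183 (iv F39759)) (tt N4481 (iv F40921)) (tt N2982 (iv D8602)) (tt N4488 D10375) (tt N3164 F32760) (tt N4489 D10376))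
theorem Q3672 : ∀ i, i < 3672 → P i := stepQ 3671 Q3671 (allL N3671 (tt N4363 (iv F40517)) (tt N2995 F32761) (tt N4486 (iv F40934)) (tt N4184 (iv F39762)) (tt N2983 F32762) (tt N4489 (iv F40945)) (tt N3671 F32763) (tt N4490 D10377) (tt N2982 (iv D8603)))
theorem Q3673 : ∀ i, i < 3673 → P i := stepQ 3672 Q3672 (allL N3672 (tt N4364 (iv F40521)) (tt N2996 F32764) (tt N4487 (iv F40938)) (tt N4436 (iv F40780)) (tt N4490 (iv F40947)) (tt N4483 (iv F40926)) (tt N3672 F32765) (tt N2983 (iv D8604)) (tt N3166 F32766))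
theorem Q3674 : ∀ i, i < 3674 → P i := stepQ 3673 Q3673 (allL N3673 (tt N3000 F32767) (tt N4467 (iv F40885)) (tt N3029 F38101) (tt N2986 F32769) (tt N4491 D10378) (tt N2984 (iv D8605)) (tt N4186 (iv F39772)) (tt N4492 D10379) (tt N4264 (iv F40077)))
theorem Q3675 : ∀ i, i < 3675 → P i := stepQ 3674 Q3674 (allL N3674 (tt N3001 F32770) (tt N4468 (iv F40887)) (tt N3039 F32771) (tt N4493 D10380) (tt N3167 F32772) (tt N4492 (iv F40957)) (tt N2985 F32773) (tt N2984 (iv D8606)) (tt N4494 D10381))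
theorem Q3676 : ∀ i, i < 3676 → P i := stepQ 3675 Q3675 (allL N3675 (tt N3002 F32774) (tt N4469 (iv F40890)) (tt N4495 D10382) (tt N2985 (iv D8607)) (tt N4496 D10383) (tt N4188 (iv F39779)) (tt N4493 (iv F40960)) (tt N2988 F32775) (tt N4497 D10384))
theorem Q3677 : ∀ i, i < 3677 → P i := stepQ 3676 Q3676 (allL N3676 (tt N3003 F32776) (tt N4470 (iv F40892)) (tt N3041 F32777) (tt N4497 (iv F40974)) (tt N3169 F32778) (tt N4189 (iv F39784)) (tt N4494 (iv F40965)) (tt N4438 (iv F40790)) (tt N2985 (iv D8608)))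
theorem Q3678 : ∀ i, i < 3678 → P i := stepQ 3677 Q3677 (allL N3677 (tt N3004 F32783) (tt N4471 (iv F40894)) (tt N3304 (iv F39009)) (tt N2987 (iv D8610)) (tt N4498 D10385) (tt N4441 (iv F40800)) (tt N2988 F32784) (tt N4493 (iv F40961)) (tt N4499 D10386))
theorem Q3679 : ∀ i, i < 3679 → P i := stepQ 3678 Q3678 (allL N3678 (tt N3005 F32785) (tt N4472 (iv F40896)) (tt N2997 F32786) (tt N4499 (iv F40981)) (tt N2991 F32787) (tt N4452 (iv F40846)) (tt N2989 F32788) (tt N4440 (iv F40797)) (tt N2987 (iv D8611)))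
theorem Q3680 : ∀ i, i < 3680 → P i := stepQ 3679 Q3679 (allL N3679 (tt N3006 F32789) (tt N4500 D10387) (tt N2988 (iv D8612)) (tt N2998 F32790) (tt N4501 D10388) (tt N4193 (iv F39800)) (tt N3304 F39005) (tt N4495 (iv F40969)) (tt N4502 D10389))
theorem Q3681 : ∀ i, i < 3681 → P i := stepQ 3680 Q3680 (allL N3680 (tt N3007 F32791) (tt N4474 (iv F40899)) (tt N4501 (iv F40986)) (tt N2992 F32792) (tt N2988 (iv D8613)) (tt N4503 D10390) (tt N4498 (iv F40978)) (tt N4496 (iv F40972)) (tt N4504 D10391))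
theorem Q3682 : ∀ i, i < 3682 → P i := stepQ 3681 Q3681 (allL N3681 (tt N3008 F32793) (tt N4475 (iv F40901)) (tt N4502 (iv F40990)) (tt N2989 F32794) (tt N4504 (iv F40997)) (tt N4195 (iv F39805)) (tt N4499 (iv F40982)) (tt N4505 D10392) (tt N2988 (iv D8614)))
theorem Q3683 : ∀ i, i < 3683 → P i := stepQ 3682 Q3682 (allL N3682 (tt N3009 F32795) (tt N4477 (iv F40907)) (tt N3064 F32796) (tt N4498 (iv F40977)) (tt N2990 (iv D8615)) (tt N4506 D10393) (tt N2992 F32797) (tt N3171 F32798) (tt N4507 D10394))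
theorem Q3684 : ∀ i, i < 3684 → P i := stepQ 3683 Q3683 (allL N3683 (tt N3010 F32799) (tt N4478 (iv F40910)) (tt N3065 F32800) (tt N2991 F32801) (tt N4507 (iv F41005)) (tt N3683 F32802) (tt N2993 F32803) (tt N4508 D10395) (tt N2990 (iv D8616)))
theorem Q3685 : ∀ i, i < 3685 → P i := stepQ 3684 Q3684 (allL N3684 (tt N3011 F32804) (tt N4481 (iv F40920)) (tt N3066 F32805) (tt N4503 (iv F40994)) (tt N2994 F32806) (tt N2992 (iv D8617)) (tt N4509 D10396) (tt N3172 F32807) (tt N4510 D10397))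
theorem Q3686 : ∀ i, i < 3686 → P i := stepQ 3685 Q3685 (allL N3685 (tt N3012 F32808) (tt N4482 (iv F40923)) (tt N3067 F32809) (tt N4504 (iv F40996)) (tt N2993 F32810) (tt N4510 (iv F41020)) (tt N4507 (iv F41006)) (tt N4511 D10398) (tt N2992 (iv D8618)))
theorem Q3687 : ∀ i, i < 3687 → P i := stepQ 3686 Q3686 (allL N3686 (tt N3013 F32811) (tt N4483 (iv F40925)) (tt N3068 F32812) (tt N4447 (iv F40821)) (tt N4511 (iv F41023)) (tt N2996 F32813) (tt N4508 (iv F41011)) (tt N2993 (iv D8619)) (tt N3174 F32814))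
theorem Q3688 : ∀ i, i < 3688 → P i := stepQ 3687 Q3687 (allL N3687 (tt N3014 F32815) (tt N4488 (iv F40941)) (tt N3069 F32816) (tt N4201 (iv F39829)) (tt N4509 (iv F41015)) (tt N3687 F32817) (tt N2994 (iv D8620)) (tt N3175 F32818) (tt N4512 D10399))
theorem Q3689 : ∀ i, i < 3689 → P i := stepQ 3688 Q3688 (allL N3688 (tt N3015 F32819) (tt N4489 (iv F40944)) (tt N3070 F32820) (tt N4202 (iv F39834)) (tt N4510 (iv F41019)) (tt N2995 F32821) (tt N4512 (iv F41028)) (tt N4513 D10400) (tt N2994 (iv D8621)))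
theorem Q3690 : ∀ i, i < 3690 → P i := stepQ 3689 Q3689 (allL N3689 (tt N3016 F32822) (tt N4490 (iv F40946)) (tt N3071 F32823) (tt N4514 D10401) (tt N2996 F32824) (tt N4513 (iv F41031)) (tt N3689 F32825) (tt N2995 (iv D8622)) (tt N3177 F32826))
theorem Q3691 : ∀ i, i < 3691 → P i := stepQ 3690 Q3690 (allL N3690 (tt N4515 D10402) (tt N2998 (iv D8627)) (tt N3660 (iv F39000)) (tt N4500 (iv F40983)) (tt N3072 F32841) (tt N4207 (iv F39860)) (tt N3297 F38999) (tt N3043 F32842) (tt N4516 D10403))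
theorem Q3692 : ∀ i, i < 3692 → P i := stepQ 3691 Q3691 (allL N3691 (tt N3018 F32843) (tt N4516 (iv F41041)) (tt N2999 F32844) (tt N4502 (iv F40991)) (tt N3073 F32845) (tt N4208 (iv F39865)) (tt N3305 F38996) (tt N4192 (iv F39797)) (tt N2998 (iv D8628)))
theorem Q3693 : ∀ i, i < 3693 → P i := stepQ 3692 Q3692 (allL N3692 (tt N4491 (iv F40950)) (tt N3152 F38621) (tt N3034 F38068) (tt N3692 F32850) (tt N3000 (iv D8630)) (tt N3108 F38622) (tt N4209 (iv F39870)) (tt N4517 D10404) (tt N3107 F38623))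
theorem Q3694 : ∀ i, i < 3694 → P i := stepQ 3693 Q3693 (allL N3693 (tt N4492 (iv F40955)) (tt N4389 (iv F40610)) (tt N3032 F38203) (tt N4453 (iv F40847)) (tt N4517 (iv F41047)) (tt N3001 F32853) (tt N4210 (iv F39874)) (tt N3000 (iv D8631)) (tt N4518 D10405))
theorem Q3695 : ∀ i, i < 3695 → P i := stepQ 3694 Q3694 (allL N3694 (tt N4493 (iv F40958)) (tt N4390 (iv F40614)) (tt N3311 (iv F39008)) (tt N3001 (iv D8632)) (tt N4519 D10406) (tt N4453 (iv F40848)) (tt N3002 F32854) (tt N3004 F32855) (tt N4520 D10407))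
theorem Q3696 : ∀ i, i < 3696 → P i := stepQ 3695 Q3695 (allL N3695 (tt N4494 (iv F40962)) (tt N4391 (iv F40618)) (tt N3044 F32856) (tt N4520 (iv F41057)) (tt N3178 F32857) (tt N4518 (iv F41050)) (tt N3003 F32858) (tt N4336 (iv F40423)) (tt N3001 (iv D8633)))
theorem Q3697 : ∀ i, i < 3697 → P i := stepQ 3696 Q3696 (allL N3696 (tt N4495 (iv F40966)) (tt N4521 D10408) (tt N3002 (iv D8634)) (tt N3045 F32859) (tt N4522 D10409) (tt N4213 (iv F39882)) (tt N3311 F39007) (tt N3006 F32860) (tt N4523 D10410))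
theorem Q3698 : ∀ i, i < 3698 → P i := stepQ 3697 Q3697 (allL N3697 (tt N4496 (iv F40970)) (tt N4393 (iv F40625)) (tt N4522 (iv F41062)) (tt N3179 F32861) (tt N3002 (iv D8635)) (tt N4524 D10411) (tt N4519 (iv F41054)) (tt N3007 F32862) (tt N4525 D10412))
theorem Q3699 : ∀ i, i < 3699 → P i := stepQ 3698 Q3698 (allL N3698 (tt N4497 (iv F40973)) (tt N4394 (iv F40629)) (tt N4523 (iv F41066)) (tt N3003 F32863) (tt N4525 (iv F41072)) (tt N4215 (iv F39887)) (tt N4520 (iv F41058)) (tt N4526 D10413) (tt N3002 (iv D8636)))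
theorem Q3700 : ∀ i, i < 3700 → P i := stepQ 3699 Q3699 (allL N3699 (tt N4498 (iv F40975)) (tt N4398 (iv F40640)) (tt N3313 F38589) (tt N3009 F32870) (tt N3004 (iv D8640)) (tt N4527 D10414) (tt N3007 F32871) (tt N4519 (iv F41055)) (tt N4528 D10415))
theorem Q3701 : ∀ i, i < 3701 → P i := stepQ 3700 Q3700 (allL N3700 (tt N4499 (iv F40979)) (tt N4399 (iv F40644)) (tt N3314 (iv F39004)) (tt N3005 F32872) (tt N4528 (iv F41078)) (tt N4457 (iv F40858)) (tt N3008 F32873) (tt N4529 D10416) (tt N3004 (iv D8641)))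
theorem Q3702 : ∀ i, i < 3702 → P i := stepQ 3701 Q3701 (allL N3701 (tt N4530 D10417) (tt N3006 (iv D8642)) (tt N4400 (iv F40647)) (tt N3017 F32874) (tt N4531 D10418) (tt N4221 (iv F39904)) (tt N3286 F39006) (tt N4521 (iv F41061)) (tt N4532 D10419))
theorem Q3703 : ∀ i, i < 3703 → P i := stepQ 3702 Q3702 (allL N3702 (tt N4501 (iv F40985)) (tt N4531 (iv F41084)) (tt N3007 F32875) (tt N3075 F32876) (tt N3006 (iv D8643)) (tt N4533 D10420) (tt N3313 (iv F38590)) (tt N4522 (iv F41065)) (tt N4534 D10421))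
theorem Q3704 : ∀ i, i < 3704 → P i := stepQ 3703 Q3703 (allL N3703 (tt N4502 (iv F40989)) (tt N4532 (iv F41087)) (tt N3008 F32877) (tt N3018 F32878) (tt N4534 (iv F41094)) (tt N4223 (iv F39909)) (tt N3314 F39003) (tt N4535 D10422) (tt N3006 (iv D8644)))
theorem Q3705 : ∀ i, i < 3705 → P i := stepQ 3704 Q3704 (allL N3704 (tt N4503 (iv F40993)) (tt N4403 (iv F40654)) (tt N4533 (iv F41090)) (tt N3011 F32879) (tt N4224 (iv F39911)) (tt N3007 (iv D8645)) (tt N4536 D10423) (tt N4524 (iv F41070)) (tt N4537 D10424))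
theorem Q3706 : ∀ i, i < 3706 → P i := stepQ 3705 Q3705 (allL N3705 (tt N4504 (iv F40995)) (tt N4404 (iv F40656)) (tt N4534 (iv F41092)) (tt N3012 F32880) (tt N3008 F32881) (tt N4537 (iv F41100)) (tt N4528 (iv F41079)) (tt N4538 D10425) (tt N3007 (iv D8646)))
theorem Q3707 : ∀ i, i < 3707 → P i := stepQ 3706 Q3706 (allL N3706 (tt N4505 (iv F40998)) (tt N4405 (iv F40659)) (tt N4535 (iv F41096)) (tt N4460 (iv F40863)) (tt N4538 (iv F41101)) (tt N4226 (iv F39915)) (tt N4529 (iv F41081)) (tt N3008 (iv D8647)) (tt N4526 (iv F41073)))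
theorem Q3708 : ∀ i, i < 3708 → P i := stepQ 3707 Q3707 (allL N3707 (tt N4506 (iv F40999)) (tt N4406 (iv F40660)) (tt N3080 F32882) (tt N4527 (iv F41075)) (tt N3707 F32883) (tt N3009 (iv D8648)) (tt N4539 D10426) (tt N3182 F32884) (tt N4540 D10427))
theorem Q3709 : ∀ i, i < 3709 → P i := stepQ 3708 Q3708 (allL N3708 (tt N4507 (iv F41003)) (tt N4407 (iv F40664)) (tt N3081 F32885) (tt N4528 (iv F41077)) (tt N3010 F32886) (tt N4540 (iv F41108)) (tt N3012 F32887) (tt N4541 D10428) (tt N3009 (iv D8649)))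
theorem Q3710 : ∀ i, i < 3710 → P i := stepQ 3709 Q3709 (allL N3709 (tt N4508 (iv F41007)) (tt N3180 F38894) (tt N3082 F32888) (tt N3130 F38895) (tt N4541 (iv F41111)) (tt N3709 F32889) (tt N3013 F32890) (tt N3010 (iv D8650)) (tt N3129 F38896))
theorem Q3711 : ∀ i, i < 3711 → P i := stepQ 3710 Q3710 (allL N3710 (tt N4509 (iv F41013)) (tt N4408 (iv F40669)) (tt N3083 F32892) (tt N4536 (iv F41098)) (tt N3014 F32893) (tt N4539 (iv F41104)) (tt N3011 (iv D8651)) (tt N3183 F32894) (tt N4542 D10429))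
theorem Q3712 : ∀ i, i < 3712 → P i := stepQ 3711 Q3711 (allL N3711 (tt N4510 (iv F41017)) (tt N4409 (iv F40673)) (tt N3084 F32895) (tt N4537 (iv F41099)) (tt N3015 F32896) (tt N3012 F32897) (tt N4542 (iv F41116)) (tt N4543 D10430) (tt N3011 (iv D8652)))
theorem Q3713 : ∀ i, i < 3713 → P i := stepQ 3712 Q3712 (allL N3712 (tt N4511 (iv F41021)) (tt N4410 (iv F40677)) (tt N3085 F32898) (tt N4544 D10431) (tt N3013 F32899) (tt N4543 (iv F41119)) (tt N4541 (iv F41112)) (tt N3012 (iv D8653)) (tt N3185 F32900))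
theorem Q3714 : ∀ i, i < 3714 → P i := stepQ 3713 Q3713 (allL N3713 (tt N4512 (iv F41025)) (tt N4411 (iv F40682)) (tt N3086 F32901) (tt N4233 (iv F39938)) (tt N4542 (iv F41115)) (tt N3713 F32902) (tt N3015 F32903) (tt N4545 D10432) (tt N3014 (iv D8654)))
theorem Q3715 : ∀ i, i < 3715 → P i := stepQ 3714 Q3714 (allL N3714 (tt N4513 (iv F41029)) (tt N4412 (iv F40686)) (tt N3087 F32904) (tt N4546 D10433) (tt N4543 (iv F41118)) (tt N3016 F32905) (tt N4545 (iv F41124)) (tt N3015 (iv D8655)) (tt N3187 F32906))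
theorem Q3716 : ∀ i, i < 3716 → P i := stepQ 3715 Q3715 (allL N3715 (tt N4514 (iv F41033)) (tt N4413 (iv F40690)) (tt N4547 D10434) (tt N3016 (iv D8656)) (tt N4464 (iv F40875)) (tt N4546 (iv F41126)) (tt N3715 F32907) (tt N4235 (iv F39946)) (tt N3188 F32908))
theorem Q3717 : ∀ i, i < 3717 → P i := stepQ 3716 Q3716 (allL N3716 (tt N3017 (iv D8663)) (tt N4515 (iv F41036)) (tt N3019 F32929) (tt N4530 (iv F41082)) (tt N3089 F32930) (tt N4238 (iv F39960)) (tt N3278 F38986) (tt N3048 F32931) (tt N4548 D10435))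
theorem Q3718 : ∀ i, i < 3718 → P i := stepQ 3717 Q3717 (allL N3717 (tt N4548 (iv F41131)) (tt N3018 F32932) (tt N3020 F32933) (tt N4532 (iv F41088)) (tt N3090 F32934) (tt N4239 (iv F39965)) (tt N3287 F38602) (tt N4142 (iv F39620)) (tt N3017 (iv D8664)))
theorem Q3719 : ∀ i, i < 3719 → P i := stepQ 3718 Q3718 (allL N3718 (tt N3020 F32960) (tt N3586 (iv F38578)) (tt N4548 (iv F41132)) (tt N4419 (iv F40714)) (tt N3091 F32961) (tt N4242 (iv F39978)) (tt N3284 F38577) (tt N4133 (iv F39584)) (tt N3019 (iv D8674)))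
theorem Q3720 : ∀ i, i < 3720 → P i := stepQ 3719 Q3719 (allL N3719 (tt N3719 F32966) (tt N4421 (iv F40721)) (tt N3021 (iv D8677)) (tt N3467 F32967) (tt N3189 F32968) (tt N3321 F32969) (tt N4549 D10436) (tt N4550 D10437) (tt N3035 F32970))
theorem Q3721 : ∀ i, i < 3721 → P i := stepQ 3720 Q3720 (allL N3720 (tt N3720 F32971) (tt N3027 F32972) (tt N4549 (iv F41136)) (tt N3022 F32973) (tt N3190 F32974) (tt N4249 (iv F40007)) (tt N3021 (iv D8678)) (tt N4551 D10438) (tt N3036 F32975))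
theorem Q3722 : ∀ i, i < 3722 → P i := stepQ 3721 Q3721 (allL N3721 (tt N3721 F32976) (tt N3028 F32977) (tt N4550 (iv F41141)) (tt N4552 D10439) (tt N3191 F32978) (tt N3322 F32979) (tt N4551 (iv F41147)) (tt N3021 (iv D8679)) (tt N4553 D10440))
theorem Q3723 : ∀ i, i < 3723 → P i := stepQ 3722 Q3722 (allL N3722 (tt N3722 F32991) (tt N3029 F32992) (tt N4554 D10441) (tt N3023 (iv D8682)) (tt N4555 D10442) (tt N3036 (iv F38029)) (tt N4245 (iv F39990)) (tt N4552 (iv F41151)) (tt N4249 (iv F40009)))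
theorem Q3724 : ∀ i, i < 3724 → P i := stepQ 3723 Q3723 (allL N3723 (tt N3723 F33011) (tt N3723 F33012) (tt N3024 (iv D8686)) (tt N3474 F33013) (tt N4556 D10443) (tt N3025 F33014) (tt N4255 (iv F40038)) (tt N3194 F33015) (tt N4252 (iv F40021)))
theorem Q3725 : ∀ i, i < 3725 → P i := stepQ 3724 Q3724 (allL N3724 (tt N3724 F33016) (tt N3030 F33017) (tt N4556 (iv F41166)) (tt N4555 (iv F41162)) (tt N3024 (iv D8687)) (tt N3272 (iv F39023)) (tt N4256 (iv F40044)) (tt N3195 F33018) (tt N4253 (iv F40027)))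
theorem Q3726 : ∀ i, i < 3726 → P i := stepQ 3725 Q3725 (allL N3725 (tt N3725 F33030) (tt N3725 F33031) (tt N3026 F33032) (tt N3477 F33033) (tt N3266 F39027) (tt N4252 (iv F40018)) (tt N3265 (iv F37595)) (tt N3725 F33035) (tt N3025 (iv D8690)))
theorem Q3727 : ∀ i, i < 3727 → P i := stepQ 3726 Q3726 (allL N3726 (tt N3031 F33050) (tt N4551 (iv F41145)) (tt N4320 (iv F40352)) (tt N4258 (iv F40052)) (tt N3198 F33051) (tt N4259 (iv F40056)) (tt N3028 F33052) (tt N3027 (iv D8694)) (tt N4557 D10444))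
theorem Q3728 : ∀ i, i < 3728 → P i := stepQ 3727 Q3727 (allL N3727 (tt N3032 F33053) (tt N4552 (iv F41149)) (tt N4492 (iv F40956)) (tt N3028 (iv D8695)) (tt N4558 D10445) (tt N3039 (iv F38171)) (tt N4258 (iv F40054)) (tt N3029 F33055) (tt N4559 D10446))
theorem Q3729 : ∀ i, i < 3729 → P i := stepQ 3728 Q3728 (allL N3728 (tt N3033 F33056) (tt N4553 (iv F41153)) (tt N4438 (iv F40787)) (tt N4559 (iv F41178)) (tt N3200 F33057) (tt N3323 F33058) (tt N4557 (iv F41171)) (tt N3041 F33059) (tt N3028 (iv D8696)))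
theorem Q3730 : ∀ i, i < 3730 → P i := stepQ 3729 Q3729 (allL N3729 (tt N3034 F33075) (tt N4555 (iv F41161)) (tt N4491 (iv F40951)) (tt N3030 F33076) (tt N3029 (iv D8701)) (tt N3213 F37922) (tt N4257 (iv F40049)) (tt N4558 (iv F41176)) (tt N4265 (iv F40084)))
theorem Q3731 : ∀ i, i < 3731 → P i := stepQ 3730 Q3730 (allL N3730 (tt N4557 (iv F41169)) (tt N3730 F33149) (tt N4336 (iv F40420)) (tt N4271 (iv F40106)) (tt N3204 F33150) (tt N4274 (iv F40123)) (tt N3033 F33151) (tt N3044 F33152) (tt N3031 (iv D8719)))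
theorem Q3732 : ∀ i, i < 3732 → P i := stepQ 3731 Q3731 (allL N3731 (tt N4558 (iv F41173)) (tt N3731 F33155) (tt N4517 (iv F41046)) (tt N3205 F33156) (tt N3032 (iv D8721)) (tt N3216 F38070) (tt N4270 (iv F40104)) (tt N3034 F33157) (tt N4560 D10447))
theorem Q3733 : ∀ i, i < 3733 → P i := stepQ 3732 Q3732 (allL N3732 (tt N4559 (iv F41177)) (tt N3732 F33158) (tt N4518 (iv F41049)) (tt N3033 F33159) (tt N4560 (iv F41182)) (tt N3044 (iv F38264)) (tt N4271 (iv F40108)) (tt N4274 (iv F40125)) (tt N3032 (iv D8722)))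
theorem Q3734 : ∀ i, i < 3734 → P i := stepQ 3733 Q3733 (allL N3733 (tt N3733 F33294) (tt N4465 (iv F40879)) (tt N3036 F33295) (tt N3738 F39019) (tt N3208 F33296) (tt N4554 (iv F41159)) (tt N3035 (iv D8759)) (tt N4561 D10448) (tt N4549 (iv F41139)))
theorem Q3735 : ∀ i, i < 3735 → P i := stepQ 3734 Q3734 (allL N3734 (tt N3734 F33297) (tt N4466 (iv F40882)) (tt N3037 F33298) (tt N4562 D10449) (tt N3209 F33299) (tt N4244 (iv F39986)) (tt N4561 (iv F41187)) (tt N3035 (iv D8760)) (tt N4563 D10450))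
theorem Q3736 : ∀ i, i < 3736 → P i := stepQ 3735 Q3735 (allL N3735 (tt N3735 F33303) (tt N3039 F33304) (tt N4561 (iv F41185)) (tt N3322 (iv F39017)) (tt N3211 F33305) (tt N4552 (iv F41150)) (tt N3037 F33306) (tt N3036 (iv D8762)) (tt N4564 D10451))
theorem Q3737 : ∀ i, i < 3737 → P i := stepQ 3736 Q3736 (allL N3736 (tt N3736 F33307) (tt N3040 F33308) (tt N4565 D10452) (tt N3037 (iv D8763)) (tt N3736 F33309) (tt N4247 (iv F39998)) (tt N3322 F39016) (tt N3038 F33310) (tt N4566 D10453))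
theorem Q3738 : ∀ i, i < 3738 → P i := stepQ 3737 Q3737 (allL N3737 (tt N3737 F33311) (tt N3041 F33312) (tt N4563 (iv F41190)) (tt N4566 (iv F41203)) (tt N3212 F33313) (tt N4248 (iv F40003)) (tt N4564 (iv F41196)) (tt N4553 (iv F41156)) (tt N3037 (iv D8764)))
theorem Q3739 : ∀ i, i < 3739 → P i := stepQ 3738 Q3738 (allL N3738 (tt N3738 F33326) (tt N4567 D10454) (tt N3038 (iv D8768)) (tt N3733 (iv F39019)) (tt N3738 F33327) (tt N4250 (iv F40011)) (tt N3321 F39018) (tt N4565 (iv F41200)) (tt N4243 (iv F39982)))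
theorem Q3740 : ∀ i, i < 3740 → P i := stepQ 3739 Q3739 (allL N3739 (tt N3044 F33341) (tt N4564 (iv F41193)) (tt N4494 (iv F40963)) (tt N3323 (iv F39014)) (tt N3215 F33342) (tt N4559 (iv F41179)) (tt N3041 F33343) (tt N4557 (iv F41172)) (tt N3039 (iv D8773)))
theorem Q3741 : ∀ i, i < 3741 → P i := stepQ 3740 Q3740 (allL N3740 (tt N3045 F33344) (tt N4568 D10455) (tt N3040 (iv D8774)) (tt N4495 (iv F40967)) (tt N3740 F33345) (tt N4261 (iv F40064)) (tt N3303 F39015) (tt N3042 F33346) (tt N4569 D10456))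
theorem Q3742 : ∀ i, i < 3742 → P i := stepQ 3741 Q3741 (allL N3741 (tt N3046 F33347) (tt N4566 (iv F41202)) (tt N4569 (iv F41214)) (tt N3041 F33348) (tt N3741 F33349) (tt N4263 (iv F40072)) (tt N3323 F39012) (tt N4260 (iv F40062)) (tt N3040 (iv D8775)))
theorem Q3743 : ∀ i, i < 3743 → P i := stepQ 3742 Q3742 (allL N3742 (tt N4570 D10457) (tt N3042 (iv D8780)) (tt N4567 (iv F41206)) (tt N3043 F33364) (tt N3742 F33365) (tt N4266 (iv F40086)) (tt N3296 F39011) (tt N4568 (iv F41212)) (tt N4170 (iv F39718)))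
theorem Q3744 : ∀ i, i < 3744 → P i := stepQ 3743 Q3743 (allL N3743 (tt N3043 (iv D8789)) (tt N3048 F33389) (tt N3563 (iv F39002)) (tt N4570 (iv F41218)) (tt N3092 F33390) (tt N4269 (iv F40099)) (tt N3273 F39001) (tt N4515 (iv F41040)) (tt N4110 (iv F39495)))
theorem Q3745 : ∀ i, i < 3745 → P i := stepQ 3744 Q3744 (allL N3744 (tt N4571 D10458) (tt N3045 (iv D8797)) (tt N3744 F33411) (tt N4521 (iv F41059)) (tt N3744 F33412) (tt N4275 (iv F40127)) (tt N3285 F38980) (tt N3047 F33413) (tt N4572 D10459))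
theorem Q3746 : ∀ i, i < 3746 → P i := stepQ 3745 Q3745 (allL N3745 (tt N4569 (iv F41213)) (tt N4572 (iv F41225)) (tt N3046 F33414) (tt N4523 (iv F41067)) (tt N3745 F33415) (tt N4277 (iv F40138)) (tt N3312 F39013) (tt N4212 (iv F39880)) (tt N3045 (iv D8798)))
theorem Q3747 : ∀ i, i < 3747 → P i := stepQ 3746 Q3746 (allL N3746 (tt N3047 (iv D8806)) (tt N4570 (iv F41217)) (tt N3746 F33438) (tt N3048 F33439) (tt N3746 F33440) (tt N4279 (iv F40146)) (tt N3277 F39010) (tt N4571 (iv F41224)) (tt N4118 (iv F39528)))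
theorem Q3748 : ∀ i, i < 3748 → P i := stepQ 3747 Q3747 (allL N3747 (tt N3747 F33521) (tt N4573 D10460) (tt N3049 (iv D8836)) (tt N3750 (iv F38597)) (tt N4574 D10461) (tt N3747 F33522) (tt N3324 F38596) (tt N3747 F33523) (tt N4575 D10462))
theorem Q3749 : ∀ i, i < 3749 → P i := stepQ 3748 Q3748 (allL N3748 (tt N3748 F33524) (tt N3062 F33525) (tt N4574 (iv F41235)) (tt N3054 F33526) (tt N3049 (iv D8837)) (tt N4576 D10463) (tt N3325 F38593) (tt N3748 F33527) (tt N4577 D10464))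
theorem Q3750 : ∀ i, i < 3750 → P i := stepQ 3749 Q3749 (allL N3749 (tt N3749 F33528) (tt N3063 F33529) (tt N4575 (iv F41239)) (tt N3050 F33530) (tt N4577 (iv F41250)) (tt N3749 F33531) (tt N3326 F38591) (tt N4578 D10465) (tt N3049 (iv D8838)))
theorem Q3751 : ∀ i, i < 3751 → P i := stepQ 3750 Q3750 (allL N3750 (tt N3750 F33532) (tt N4476 (iv F40903)) (tt N3051 (iv D8839)) (tt N3747 F38597) (tt N4579 D10466) (tt N3750 F33533) (tt N3053 F33534) (tt N3218 F33535) (tt N4580 D10467))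
theorem Q3752 : ∀ i, i < 3752 → P i := stepQ 3751 Q3751 (allL N3751 (tt N3751 F33536) (tt N3064 F33537) (tt N4579 (iv F41259)) (tt N3325 (iv F38595)) (tt N3051 (iv D8840)) (tt N4581 D10468) (tt N3054 F33538) (tt N3219 F33539) (tt N4582 D10469))
theorem Q3753 : ∀ i, i < 3753 → P i := stepQ 3752 Q3752 (allL N3752 (tt N3752 F33540) (tt N3065 F33541) (tt N4580 (iv F41263)) (tt N3052 F33542) (tt N4582 (iv F41275)) (tt N3752 F33543) (tt N3055 F33544) (tt N4583 D10470) (tt N3051 (iv D8841)))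
theorem Q3754 : ∀ i, i < 3754 → P i := stepQ 3753 Q3753 (allL N3753 (tt N3753 F33545) (tt N4479 (iv F40914)) (tt N3054 F33546) (tt N4584 D10471) (tt N3053 (iv D8842)) (tt N4585 D10472) (tt N4579 (iv F41260)) (tt N3221 F33547) (tt N4586 D10473))
theorem Q3755 : ∀ i, i < 3755 → P i := stepQ 3754 Q3754 (allL N3754 (tt N3754 F33548) (tt N4480 (iv F40917)) (tt N3055 F33549) (tt N4053 (iv F39245)) (tt N4586 (iv F41290)) (tt N3057 F33550) (tt N4580 (iv F41266)) (tt N4587 D10474) (tt N3053 (iv D8843)))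
theorem Q3756 : ∀ i, i < 3756 → P i := stepQ 3755 Q3755 (allL N3755 (tt N3755 F33551) (tt N3066 F33552) (tt N4585 (iv F41285)) (tt N4576 (iv F41244)) (tt N3058 F33553) (tt N3054 (iv D8844)) (tt N4588 D10475) (tt N3223 F33554) (tt N4589 D10476))
theorem Q3757 : ∀ i, i < 3757 → P i := stepQ 3756 Q3756 (allL N3756 (tt N3756 F33555) (tt N3067 F33556) (tt N4586 (iv F41289)) (tt N4577 (iv F41249)) (tt N3055 F33557) (tt N4589 (iv F41302)) (tt N4582 (iv F41276)) (tt N4590 D10477) (tt N3054 (iv D8845)))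
theorem Q3758 : ∀ i, i < 3758 → P i := stepQ 3757 Q3757 (allL N3757 (tt N3757 F33558) (tt N3068 F33559) (tt N4587 (iv F41292)) (tt N3757 F33560) (tt N4590 (iv F41305)) (tt N3060 F33561) (tt N4583 (iv F41281)) (tt N3055 (iv D8846)) (tt N3225 F33562))
theorem Q3759 : ∀ i, i < 3759 → P i := stepQ 3758 Q3758 (allL N3758 (tt N3758 F33563) (tt N4484 (iv F40928)) (tt N3758 F33564) (tt N3056 (iv D8847)) (tt N4057 (iv F39261)) (tt N4591 D10478) (tt N3758 F33565) (tt N4592 D10479) (tt N4593 D10480))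
theorem Q3760 : ∀ i, i < 3760 → P i := stepQ 3759 Q3759 (allL N3759 (tt N3759 F33566) (tt N4485 (iv F40930)) (tt N3058 F33567) (tt N4591 (iv F41309)) (tt N4585 (iv F41286)) (tt N3056 (iv D8848)) (tt N4594 D10481) (tt N3227 F33568) (tt N4595 D10482))
theorem Q3761 : ∀ i, i < 3761 → P i := stepQ 3760 Q3760 (allL N3760 (tt N3760 F33569) (tt N4486 (iv F40933)) (tt N3059 F33570) (tt N4593 (iv F41316)) (tt N3057 F33571) (tt N4595 (iv F41324)) (tt N3760 F33572) (tt N4596 D10483) (tt N3056 (iv D8849)))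
theorem Q3762 : ∀ i, i < 3762 → P i := stepQ 3761 Q3761 (allL N3761 (tt N3761 F33573) (tt N4487 (iv F40937)) (tt N3060 F33574) (tt N4597 D10484) (tt N4596 (iv F41327)) (tt N4587 (iv F41293)) (tt N3761 F33575) (tt N3057 (iv D8850)) (tt N3229 F33576))
theorem Q3763 : ∀ i, i < 3763 → P i := stepQ 3762 Q3762 (allL N3762 (tt N3762 F33577) (tt N3069 F33578) (tt N4594 (iv F41319)) (tt N3762 F33579) (tt N4588 (iv F41297)) (tt N3762 F33580) (tt N3058 (iv D8851)) (tt N3230 F33581) (tt N4598 D10485))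
theorem Q3764 : ∀ i, i < 3764 → P i := stepQ 3763 Q3763 (allL N3763 (tt N3763 F33582) (tt N3070 F33583) (tt N4595 (iv F41323)) (tt N3763 F33584) (tt N4589 (iv F41301)) (tt N3059 F33585) (tt N4598 (iv F41338)) (tt N4599 D10486) (tt N3058 (iv D8852)))
theorem Q3765 : ∀ i, i < 3765 → P i := stepQ 3764 Q3764 (allL N3764 (tt N3764 F33586) (tt N3071 F33587) (tt N4596 (iv F41326)) (tt N4600 D10487) (tt N3060 F33588) (tt N4599 (iv F41341)) (tt N3764 F33589) (tt N3059 (iv D8853)) (tt N3232 F33590))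
theorem Q3766 : ∀ i, i < 3766 → P i := stepQ 3765 Q3765 (allL N3765 (tt N4601 D10488) (tt N3061 (iv D8859)) (tt N4573 (iv F41229)) (tt N3072 F33612) (tt N4602 D10489) (tt N3765 F33613) (tt N3298 F38998) (tt N3765 F33614) (tt N4603 D10490))
theorem Q3767 : ∀ i, i < 3767 → P i := stepQ 3766 Q3766 (allL N3766 (tt N3075 F33615) (tt N4602 (iv F41354)) (tt N3062 F33616) (tt N4501 (iv F40987)) (tt N3061 (iv D8860)) (tt N4604 D10491) (tt N3306 F38594) (tt N3766 F33617) (tt N4605 D10492))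
theorem Q3768 : ∀ i, i < 3768 → P i := stepQ 3767 Q3767 (allL N3767 (tt N3076 F33618) (tt N4603 (iv F41357)) (tt N3063 F33619) (tt N3073 F33620) (tt N4605 (iv F41367)) (tt N3767 F33621) (tt N3307 F38592) (tt N4606 D10493) (tt N3061 (iv D8861)))
theorem Q3769 : ∀ i, i < 3769 → P i := stepQ 3768 Q3768 (allL N3768 (tt N3077 F33622) (tt N4576 (iv F41243)) (tt N4604 (iv F41362)) (tt N3066 F33623) (tt N3768 F33624) (tt N3062 (iv D8862)) (tt N4607 D10494) (tt N3768 F33625) (tt N4608 D10495))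
theorem Q3770 : ∀ i, i < 3770 → P i := stepQ 3769 Q3769 (allL N3769 (tt N3078 F33626) (tt N4577 (iv F41248)) (tt N4605 (iv F41366)) (tt N3067 F33627) (tt N3063 F33628) (tt N4608 (iv F41382)) (tt N3333 F38582) (tt N4609 D10496) (tt N3062 (iv D8863)))
theorem Q3771 : ∀ i, i < 3771 → P i := stepQ 3770 Q3770 (allL N3770 (tt N3079 F33629) (tt N4578 (iv F41253)) (tt N4606 (iv F41370)) (tt N3770 F33630) (tt N4609 (iv F41384)) (tt N3770 F33631) (tt N3334 F38579) (tt N3063 (iv D8864)) (tt N3770 F33632))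
theorem Q3772 : ∀ i, i < 3772 → P i := stepQ 3771 Q3771 (allL N3771 (tt N3080 F33633) (tt N4581 (iv F41268)) (tt N4506 (iv F41000)) (tt N3332 F38586) (tt N3771 F33634) (tt N3064 (iv D8865)) (tt N4610 D10497) (tt N3233 F33635) (tt N4611 D10498))
theorem Q3773 : ∀ i, i < 3773 → P i := stepQ 3772 Q3772 (allL N3772 (tt N3081 F33636) (tt N4582 (iv F41273)) (tt N4507 (iv F41004)) (tt N3333 (iv F38584)) (tt N3065 F33637) (tt N4611 (iv F41395)) (tt N3067 F33638) (tt N4612 D10499) (tt N3064 (iv D8866)))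
theorem Q3774 : ∀ i, i < 3774 → P i := stepQ 3773 Q3773 (allL N3773 (tt N3082 F33639) (tt N4583 (iv F41278)) (tt N4508 (iv F41008)) (tt N3773 F33640) (tt N4612 (iv F41397)) (tt N3773 F33641) (tt N3068 F33642) (tt N3065 (iv D8867)) (tt N3235 F33643))
theorem Q3775 : ∀ i, i < 3775 → P i := stepQ 3774 Q3774 (allL N3774 (tt N3083 F33644) (tt N4588 (iv F41296)) (tt N4509 (iv F41014)) (tt N4607 (iv F41375)) (tt N3069 F33645) (tt N4610 (iv F41390)) (tt N3066 (iv D8868)) (tt N3236 F33646) (tt N4613 D10500))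
theorem Q3776 : ∀ i, i < 3776 → P i := stepQ 3775 Q3775 (allL N3775 (tt N3084 F33647) (tt N4589 (iv F41300)) (tt N4510 (iv F41018)) (tt N4608 (iv F41380)) (tt N3070 F33648) (tt N3067 F33649) (tt N4613 (iv F41402)) (tt N4614 D10501) (tt N3066 (iv D8869)))
theorem Q3777 : ∀ i, i < 3777 → P i := stepQ 3776 Q3776 (allL N3776 (tt N3085 F33650) (tt N4590 (iv F41304)) (tt N4511 (iv F41022)) (tt N4615 D10502) (tt N3068 F33651) (tt N4614 (iv F41405)) (tt N4612 (iv F41398)) (tt N3067 (iv D8870)) (tt N3238 F33652))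
theorem Q3778 : ∀ i, i < 3778 → P i := stepQ 3777 Q3777 (allL N3777 (tt N3086 F33653) (tt N4598 (iv F41335)) (tt N4512 (iv F41026)) (tt N3777 F33654) (tt N4613 (iv F41401)) (tt N3777 F33655) (tt N3070 F33656) (tt N4616 D10503) (tt N3069 (iv D8871)))
theorem Q3779 : ∀ i, i < 3779 → P i := stepQ 3778 Q3778 (allL N3778 (tt N3087 F33657) (tt N4599 (iv F41340)) (tt N4513 (iv F41030)) (tt N4617 D10504) (tt N4614 (iv F41404)) (tt N3071 F33658) (tt N4616 (iv F41412)) (tt N3070 (iv D8872)) (tt N3240 F33659))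
theorem Q3780 : ∀ i, i < 3780 → P i := stepQ 3779 Q3779 (allL N3779 (tt N3088 F33660) (tt N4600 (iv F41344)) (tt N4618 D10505) (tt N3071 (iv D8873)) (tt N3779 F33661) (tt N4617 (iv F41415)) (tt N3779 F33662) (tt N3779 F33663) (tt N3241 F33664))
theorem Q3781 : ∀ i, i < 3781 → P i := stepQ 3780 Q3780 (allL N3780 (tt N3072 (iv D8880)) (tt N3089 F33686) (tt N3565 (iv F38598)) (tt N4601 (iv F41350)) (tt N4515 (iv F41038)) (tt N3780 F33687) (tt N3274 F38599) (tt N3092 F33688) (tt N4619 D10506))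
theorem Q3782 : ∀ i, i < 3782 → P i := stepQ 3781 Q3781 (allL N3781 (tt N4619 (iv F41423)) (tt N3073 F33689) (tt N3664 (iv F38997)) (tt N4603 (iv F41358)) (tt N4516 (iv F41043)) (tt N3781 F33690) (tt N3299 F38995) (tt N4177 (iv F39742)) (tt N3072 (iv D8881)))
theorem Q3783 : ∀ i, i < 3783 → P i := stepQ 3782 Q3782 (allL N3782 (tt N3074 (iv D8892)) (tt N4601 (iv F41349)) (tt N3782 F33728) (tt N3089 F33729) (tt N4620 D10507) (tt N3782 F33730) (tt N3279 F38603) (tt N3782 F33731) (tt N4621 D10508))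
theorem Q3784 : ∀ i, i < 3784 → P i := stepQ 3783 Q3783 (allL N3783 (tt N4620 (iv F41428)) (tt N3075 F33732) (tt N3783 F33733) (tt N4531 (iv F41085)) (tt N3074 (iv D8893)) (tt N4622 D10509) (tt N3288 F38601) (tt N3783 F33734) (tt N4623 D10510))
theorem Q3785 : ∀ i, i < 3785 → P i := stepQ 3784 Q3784 (allL N3784 (tt N4621 (iv F41432)) (tt N3076 F33735) (tt N3784 F33736) (tt N3090 F33737) (tt N4623 (iv F41443)) (tt N3784 F33738) (tt N3289 F38600) (tt N4624 D10511) (tt N3074 (iv D8894)))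
theorem Q3786 : ∀ i, i < 3786 → P i := stepQ 3785 Q3785 (allL N3785 (tt N4604 (iv F41361)) (tt N4622 (iv F41437)) (tt N3077 F33739) (tt N4533 (iv F41091)) (tt N3785 F33740) (tt N3075 (iv D8895)) (tt N4625 D10512) (tt N3785 F33741) (tt N4626 D10513))
theorem Q3787 : ∀ i, i < 3787 → P i := stepQ 3786 Q3786 (allL N3786 (tt N4605 (iv F41365)) (tt N4623 (iv F41441)) (tt N3078 F33742) (tt N4534 (iv F41093)) (tt N3076 F33743) (tt N4626 (iv F41456)) (tt N3316 F38583) (tt N4627 D10514) (tt N3075 (iv D8896)))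
theorem Q3788 : ∀ i, i < 3788 → P i := stepQ 3787 Q3787 (allL N3787 (tt N4606 (iv F41369)) (tt N4624 (iv F41445)) (tt N3079 F33744) (tt N4229 (iv F39924)) (tt N4627 (iv F41458)) (tt N3787 F33745) (tt N3317 F38580) (tt N3076 (iv D8897)) (tt N3787 F33746))
theorem Q3789 : ∀ i, i < 3789 → P i := stepQ 3788 Q3788 (allL N3788 (tt N4607 (iv F41374)) (tt N3788 F33747) (tt N4625 (iv F41450)) (tt N3083 F33748) (tt N3788 F33749) (tt N3338 (iv F38588)) (tt N3077 (iv D8898)) (tt N3788 F33750) (tt N4628 D10515))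
theorem Q3790 : ∀ i, i < 3790 → P i := stepQ 3789 Q3789 (allL N3789 (tt N4608 (iv F41379)) (tt N3789 F33751) (tt N4626 (iv F41454)) (tt N3084 F33752) (tt N3789 F33753) (tt N3078 F33754) (tt N4628 (iv F41465)) (tt N4629 D10516) (tt N3077 (iv D8899)))
theorem Q3791 : ∀ i, i < 3791 → P i := stepQ 3790 Q3790 (allL N3790 (tt N4609 (iv F41383)) (tt N3790 F33755) (tt N4627 (iv F41457)) (tt N4630 D10517) (tt N3079 F33756) (tt N4629 (iv F41468)) (tt N3340 F38581) (tt N3078 (iv D8900)) (tt N3790 F33757))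
theorem Q3792 : ∀ i, i < 3792 → P i := stepQ 3791 Q3791 (allL N3791 (tt N4610 (iv F41387)) (tt N3791 F33758) (tt N4539 (iv F41102)) (tt N3338 F38587) (tt N3791 F33759) (tt N3083 F33760) (tt N3080 (iv D8901)) (tt N3242 F33761) (tt N4631 D10518))
theorem Q3793 : ∀ i, i < 3793 → P i := stepQ 3792 Q3792 (allL N3792 (tt N4611 (iv F41392)) (tt N3792 F33762) (tt N4540 (iv F41106)) (tt N3339 F38585) (tt N3792 F33763) (tt N3081 F33764) (tt N4631 (iv F41479)) (tt N4632 D10519) (tt N3080 (iv D8902)))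
theorem Q3794 : ∀ i, i < 3794 → P i := stepQ 3793 Q3793 (allL N3793 (tt N4612 (iv F41396)) (tt N3793 F33765) (tt N4541 (iv F41110)) (tt N4633 D10520) (tt N3082 F33766) (tt N4632 (iv F41482)) (tt N3085 F33767) (tt N3081 (iv D8903)) (tt N3244 F33768))
theorem Q3795 : ∀ i, i < 3795 → P i := stepQ 3794 Q3794 (allL N3794 (tt N4613 (iv F41400)) (tt N3794 F33769) (tt N4542 (iv F41114)) (tt N4628 (iv F41462)) (tt N3086 F33770) (tt N4631 (iv F41478)) (tt N3084 F33771) (tt N4634 D10521) (tt N3083 (iv D8904)))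
theorem Q3796 : ∀ i, i < 3796 → P i := stepQ 3795 Q3795 (allL N3795 (tt N4614 (iv F41403)) (tt N3795 F33772) (tt N4543 (iv F41117)) (tt N4635 D10522) (tt N3087 F33773) (tt N3085 F33774) (tt N4634 (iv F41491)) (tt N3084 (iv D8905)) (tt N3246 F33775))
theorem Q3797 : ∀ i, i < 3797 → P i := stepQ 3796 Q3796 (allL N3796 (tt N4615 (iv F41407)) (tt N3796 F33776) (tt N4636 D10523) (tt N3085 (iv D8906)) (tt N3796 F33777) (tt N4635 (iv F41494)) (tt N4633 (iv F41486)) (tt N4630 (iv F41473)) (tt N3247 F33778))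
theorem Q3798 : ∀ i, i < 3798 → P i := stepQ 3797 Q3797 (allL N3797 (tt N4616 (iv F41410)) (tt N3797 F33779) (tt N4545 (iv F41122)) (tt N4090 (iv F39397)) (tt N4634 (iv F41490)) (tt N3797 F33780) (tt N3087 F33781) (tt N3086 (iv D8907)) (tt N3248 F33782))
theorem Q3799 : ∀ i, i < 3799 → P i := stepQ 3798 Q3798 (allL N3798 (tt N4617 (iv F41414)) (tt N3798 F33783) (tt N4099 (iv F39444)) (tt N3087 (iv D8908)) (tt N4092 (iv F39410)) (tt N3088 F33784) (tt N4090 (iv F39400)) (tt N3798 F33785) (tt N3249 F33786))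
theorem Q3800 : ∀ i, i < 3800 → P i := stepQ 3799 Q3799 (allL N3799 (tt N4618 (iv F41418)) (tt N4103 (iv F39462)) (tt N3088 (iv D8909)) (tt N4547 (iv F41128)) (tt N3799 F33787) (tt N4099 (iv F39446)) (tt N3799 F33788) (tt N3799 F33789) (tt N3250 F33790))
theorem Q3801 : ∀ i, i < 3801 → P i := stepQ 3800 Q3800 (allL N3800 (tt N3090 F33819) (tt N4619 (iv F41424)) (tt N3091 F33820) (tt N4621 (iv F41434)) (tt N4548 (iv F41133)) (tt N3800 F33821) (tt N3280 F38576) (tt N4125 (iv F39557)) (tt N3089 (iv D8918)))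
theorem Q3802 : ∀ i, i < 3802 → P i := stepQ 3801 Q3801 (allL N3801 (tt N3801 F34230) (tt N3096 F34231) (tt N4637 D10524) (tt N3095 (iv D9029)) (tt N4638 D10525) (tt N3190 F38613) (tt N3801 F34232) (tt N4283 (iv F40171)) (tt N3210 F38614))
theorem Q3803 : ∀ i, i < 3803 → P i := stepQ 3802 Q3802 (allL N3802 (tt N3097 F34259) (tt N4638 (iv F41505)) (tt N3105 F34260) (tt N3270 F38606) (tt N3096 (iv D9037)) (tt N4265 (iv F40082)) (tt N3802 F34261) (tt N4287 (iv F40193)) (tt N3213 F38607))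
theorem Q3804 : ∀ i, i < 3804 → P i := stepQ 3803 Q3803 (allL N3803 (tt N3139 F34377) (tt N3103 F34378) (tt N4639 D10526) (tt N3098 (iv D9069)) (tt N4306 (iv F40285)) (tt N3803 F34379) (tt N3140 F38779) (tt N4427 (iv F40749)) (tt N3110 F34380))
theorem Q3805 : ∀ i, i < 3805 → P i := stepQ 3804 Q3804 (allL N3804 (tt N3140 F34396) (tt N3104 F34397) (tt N4640 D10527) (tt N3100 (iv D9073)) (tt N4422 (iv F40729)) (tt N3101 F34398) (tt N3139 F38651) (tt N4310 (iv F40310)) (tt N3155 F38652))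
theorem Q3806 : ∀ i, i < 3806 → P i := stepQ 3805 Q3805 (allL N3805 (tt N3141 F34404) (tt N4637 (iv F41499)) (tt N3101 (iv D9075)) (tt N3805 F34405) (tt N4641 D10528) (tt N4640 (iv F41518)) (tt N3805 F34406) (tt N4312 (iv F40319)) (tt N4642 D10529))
theorem Q3807 : ∀ i, i < 3807 → P i := stepQ 3806 Q3806 (allL N3806 (tt N3142 F34407) (tt N3105 F34408) (tt N4641 (iv F41522)) (tt N3806 F34409) (tt N3101 (iv D9076)) (tt N4643 D10530) (tt N3806 F34410) (tt N4313 (iv F40324)) (tt N4644 D10531))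
theorem Q3808 : ∀ i, i < 3808 → P i := stepQ 3807 Q3807 (allL N3807 (tt N3143 F34411) (tt N3106 F34412) (tt N4642 (iv F41526)) (tt N3102 F34413) (tt N4644 (iv F41536)) (tt N3155 F38659) (tt N3807 F34414) (tt N4645 D10532) (tt N3101 (iv D9077)))
theorem Q3809 : ∀ i, i < 3809 → P i := stepQ 3808 Q3808 (allL N3808 (tt N3107 F34450) (tt N4643 (iv F41531)) (tt N4265 (iv F40080)) (tt N3808 F34451) (tt N4264 F40078) (tt N3105 (iv D9088)) (tt N4267 (iv F40091)) (tt N4322 (iv F40363)) (tt N4491 (iv F40954)))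
theorem Q3810 : ∀ i, i < 3810 → P i := stepQ 3809 Q3809 (allL N3809 (tt N3108 F34452) (tt N4644 (iv F41534)) (tt N3213 F38620) (tt N3809 F34453) (tt N3106 F34454) (tt N4491 (iv F40953)) (tt N3809 F34455) (tt N4646 D10533) (tt N3105 (iv D9089)))
theorem Q3811 : ∀ i, i < 3811 → P i := stepQ 3810 Q3810 (allL N3810 (tt N3109 F34456) (tt N4645 (iv F41539)) (tt N3214 F38660) (tt N3127 F34457) (tt N4646 (iv F41545)) (tt N3167 F38661) (tt N3810 F34458) (tt N3106 (iv D9090)) (tt N4324 (iv F40373)))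
theorem Q3812 : ∀ i, i < 3812 → P i := stepQ 3811 Q3811 (allL N3811 (tt N4646 (iv F41543)) (tt N3153 F34533) (tt N3216 F38624) (tt N4647 D10534) (tt N3109 F34534) (tt N4517 (iv F41048)) (tt N3811 F34535) (tt N3108 (iv D9113)) (tt N4338 (iv F40431)))
theorem Q3813 : ∀ i, i < 3813 → P i := stepQ 3812 Q3812 (allL N3812 (tt N3154 F34595) (tt N3812 F34596) (tt N3110 (iv D9130)) (tt N3812 F34597) (tt N4348 (iv F40463)) (tt N3812 F34598) (tt N4648 D10535) (tt N4649 D10536) (tt N4639 (iv F41514)))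
theorem Q3814 : ∀ i, i < 3814 → P i := stepQ 3813 Q3813 (allL N3813 (tt N3155 F34599) (tt N3119 F34600) (tt N4648 (iv F41553)) (tt N3111 F34601) (tt N4349 (iv F40467)) (tt N3143 F38782) (tt N3110 (iv D9131)) (tt N4650 D10537) (tt N3140 F38783))
theorem Q3815 : ∀ i, i < 3815 → P i := stepQ 3814 Q3814 (allL N3814 (tt N3156 F34602) (tt N3120 F34603) (tt N4649 (iv F41559)) (tt N4651 D10538) (tt N4350 (iv F40471)) (tt N3814 F34604) (tt N4650 (iv F41565)) (tt N3110 (iv D9132)) (tt N4652 D10539))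
theorem Q3816 : ∀ i, i < 3816 → P i := stepQ 3815 Q3815 (allL N3815 (tt N3157 F34615) (tt N3121 F34616) (tt N4653 D10540) (tt N3112 (iv D9135)) (tt N4654 D10541) (tt N3815 F34617) (tt N3161 F38927) (tt N4651 (iv F41570)) (tt N3158 F38928))
theorem Q3817 : ∀ i, i < 3817 → P i := stepQ 3816 Q3816 (allL N3816 (tt N3158 F34623) (tt N3122 F34624) (tt N4655 D10542) (tt N3113 (iv D9137)) (tt N4656 D10543) (tt N3816 F34625) (tt N3114 F34626) (tt N4355 (iv F40489)) (tt N3157 F38926))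
theorem Q3818 : ∀ i, i < 3818 → P i := stepQ 3817 Q3817 (allL N3817 (tt N3159 F34632) (tt N3817 F34633) (tt N3114 (iv D9139)) (tt N3817 F34634) (tt N4657 D10544) (tt N3116 F34635) (tt N4655 (iv F41589)) (tt N4357 (iv F40497)) (tt N4658 D10545))
theorem Q3819 : ∀ i, i < 3819 → P i := stepQ 3818 Q3818 (allL N3818 (tt N3160 F34636) (tt N3123 F34637) (tt N4657 (iv F41598)) (tt N4654 (iv F41582)) (tt N3114 (iv D9140)) (tt N4659 D10546) (tt N4656 (iv F41594)) (tt N4358 (iv F40500)) (tt N4660 D10547))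
theorem Q3820 : ∀ i, i < 3820 → P i := stepQ 3819 Q3819 (allL N3819 (tt N3161 F34638) (tt N3124 F34639) (tt N4658 (iv F41601)) (tt N3115 F34640) (tt N4660 (iv F41611)) (tt N3118 F34641) (tt N3157 F38866) (tt N4661 D10548) (tt N3114 (iv D9141)))
theorem Q3821 : ∀ i, i < 3821 → P i := stepQ 3820 Q3820 (allL N3820 (tt N3162 F34642) (tt N3820 F34643) (tt N3117 F34644) (tt N4662 D10549) (tt N3116 (iv D9142)) (tt N4663 D10550) (tt N3820 F34645) (tt N4360 (iv F40509)) (tt N4664 D10551))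
theorem Q3822 : ∀ i, i < 3822 → P i := stepQ 3821 Q3821 (allL N3821 (tt N3163 F34646) (tt N3821 F34647) (tt N3118 F34648) (tt N3821 F34649) (tt N4664 (iv F41629)) (tt N4658 (iv F41603)) (tt N3821 F34650) (tt N4665 D10552) (tt N3116 (iv D9143)))
theorem Q3823 : ∀ i, i < 3823 → P i := stepQ 3822 Q3822 (allL N3822 (tt N3164 F34651) (tt N3125 F34652) (tt N4663 (iv F41625)) (tt N3822 F34653) (tt N4659 (iv F41607)) (tt N3117 (iv D9144)) (tt N4666 D10553) (tt N4362 (iv F40516)) (tt N4667 D10554))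
theorem Q3824 : ∀ i, i < 3824 → P i := stepQ 3823 Q3823 (allL N3823 (tt N3165 F34654) (tt N3126 F34655) (tt N4664 (iv F41628)) (tt N3823 F34656) (tt N3118 F34657) (tt N4667 (iv F41642)) (tt N3823 F34658) (tt N4668 D10555) (tt N3117 (iv D9145)))
theorem Q3825 : ∀ i, i < 3825 → P i := stepQ 3824 Q3824 (allL N3824 (tt N3166 F34659) (tt N3127 F34660) (tt N4665 (iv F41633)) (tt N4645 (iv F41540)) (tt N4668 (iv F41645)) (tt N4661 (iv F41616)) (tt N3824 F34661) (tt N3118 (iv D9146)) (tt N4364 (iv F40524)))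
theorem Q3826 : ∀ i, i < 3826 → P i := stepQ 3825 Q3825 (allL N3825 (tt N3128 F34666) (tt N4650 (iv F41562)) (tt N3825 F34667) (tt N3174 F38785) (tt N4366 (iv F40532)) (tt N3148 F38786) (tt N3120 F34668) (tt N3119 (iv D9148)) (tt N4447 (iv F40824)))
theorem Q3827 : ∀ i, i < 3827 → P i := stepQ 3826 Q3826 (allL N3826 (tt N3129 F34669) (tt N4651 (iv F41567)) (tt N3235 F38889) (tt N3120 (iv D9149)) (tt N4669 D10556) (tt N3826 F34670) (tt N3174 F38890) (tt N3121 F34671) (tt N4508 (iv F41012)))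
theorem Q3828 : ∀ i, i < 3828 → P i := stepQ 3827 Q3827 (allL N3827 (tt N3130 F34672) (tt N4652 (iv F41572)) (tt N3827 F34673) (tt N4508 (iv F41009)) (tt N4368 (iv F40538)) (tt N3827 F34674) (tt N4447 (iv F40823)) (tt N4444 (iv F40811)) (tt N3120 (iv D9150)))
theorem Q3829 : ∀ i, i < 3829 → P i := stepQ 3828 Q3828 (allL N3828 (tt N3131 F34689) (tt N4654 (iv F41581)) (tt N3234 F38931) (tt N3123 F34690) (tt N3121 (iv D9155)) (tt N4670 D10557) (tt N3173 F38932) (tt N4669 (iv F41650)) (tt N3171 F38933))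
theorem Q3830 : ∀ i, i < 3830 → P i := stepQ 3829 Q3829 (allL N3829 (tt N3132 F34694) (tt N4656 (iv F41592)) (tt N3829 F34695) (tt N3173 F38934) (tt N3122 (iv D9157)) (tt N4671 D10558) (tt N3123 F34696) (tt N4375 (iv F40558)) (tt N3170 F38935))
theorem Q3831 : ∀ i, i < 3831 → P i := stepQ 3830 Q3830 (allL N3830 (tt N3133 F34702) (tt N4659 (iv F41606)) (tt N3830 F34703) (tt N4670 (iv F41653)) (tt N3125 F34704) (tt N3123 (iv D9159)) (tt N4672 D10559) (tt N4377 (iv F40568)) (tt N4673 D10560))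
theorem Q3832 : ∀ i, i < 3832 → P i := stepQ 3831 Q3831 (allL N3831 (tt N3134 F34705) (tt N4660 (iv F41609)) (tt N3831 F34706) (tt N3171 F38876) (tt N3124 F34707) (tt N4673 (iv F41668)) (tt N3170 F38877) (tt N4674 D10561) (tt N3123 (iv D9160)))
theorem Q3833 : ∀ i, i < 3833 → P i := stepQ 3832 Q3832 (allL N3832 (tt N3135 F34708) (tt N4661 (iv F41614)) (tt N3832 F34709) (tt N3167 F38808) (tt N4674 (iv F41671)) (tt N3127 F34710) (tt N3168 F38809) (tt N3124 (iv D9161)) (tt N4379 (iv F40577)))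
theorem Q3834 : ∀ i, i < 3834 → P i := stepQ 3833 Q3833 (allL N3833 (tt N3136 F34711) (tt N4666 (iv F41636)) (tt N3833 F34712) (tt N3833 F34713) (tt N4672 (iv F41663)) (tt N3833 F34714) (tt N3125 (iv D9162)) (tt N4380 (iv F40581)) (tt N4675 D10562))
theorem Q3835 : ∀ i, i < 3835 → P i := stepQ 3834 Q3834 (allL N3834 (tt N3137 F34715) (tt N4667 (iv F41640)) (tt N3834 F34716) (tt N3834 F34717) (tt N4673 (iv F41667)) (tt N3126 F34718) (tt N4675 (iv F41677)) (tt N4676 D10563) (tt N3125 (iv D9163)))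
theorem Q3836 : ∀ i, i < 3836 → P i := stepQ 3835 Q3835 (allL N3835 (tt N3138 F34719) (tt N4668 (iv F41644)) (tt N3835 F34720) (tt N4677 D10564) (tt N3127 F34721) (tt N4676 (iv F41680)) (tt N3835 F34722) (tt N3126 (iv D9164)) (tt N4382 (iv F40589)))
theorem Q3837 : ∀ i, i < 3837 → P i := stepQ 3836 Q3836 (allL N3836 (tt N4669 (iv F41647)) (tt N3179 F34774) (tt N3244 F38892) (tt N4393 (iv F40626)) (tt N3129 (iv D9177)) (tt N4678 D10565) (tt N3185 F38893) (tt N3131 F34775) (tt N4541 (iv F41113)))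
theorem Q3838 : ∀ i, i < 3838 → P i := stepQ 3837 Q3837 (allL N3837 (tt N4670 (iv F41651)) (tt N3181 F34803) (tt N3243 F38941) (tt N3133 F34804) (tt N3837 F34805) (tt N3131 (iv D9186)) (tt N4679 D10566) (tt N4678 (iv F41687)) (tt N3182 F38942))
theorem Q3839 : ∀ i, i < 3839 → P i := stepQ 3838 Q3838 (allL N3838 (tt N4671 (iv F41656)) (tt N3182 F34811) (tt N3838 F34812) (tt N3184 F38938) (tt N3838 F34813) (tt N3132 (iv D9189)) (tt N4680 D10567) (tt N4406 (iv F40663)) (tt N3181 F38939))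
theorem Q3840 : ∀ i, i < 3840 → P i := stepQ 3839 Q3839 (allL N3839 (tt N4672 (iv F41661)) (tt N3183 F34822) (tt N3839 F34823) (tt N4679 (iv F41690)) (tt N3136 F34824) (tt N4680 (iv F41698)) (tt N3133 (iv D9192)) (tt N4408 (iv F40672)) (tt N4681 D10568))
theorem Q3841 : ∀ i, i < 3841 → P i := stepQ 3840 Q3840 (allL N3840 (tt N4673 (iv F41664)) (tt N3184 F34825) (tt N3840 F34826) (tt N3182 F38901) (tt N3137 F34827) (tt N3134 F34828) (tt N4681 (iv F41705)) (tt N4682 D10569) (tt N3133 (iv D9193)))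
theorem Q3842 : ∀ i, i < 3842 → P i := stepQ 3841 Q3841 (allL N3841 (tt N4674 (iv F41669)) (tt N3185 F34829) (tt N3841 F34830) (tt N4519 (iv F41053)) (tt N3135 F34831) (tt N4682 (iv F41709)) (tt N3179 F38810) (tt N3134 (iv D9194)) (tt N4410 (iv F40681)))
theorem Q3843 : ∀ i, i < 3843 → P i := stepQ 3842 Q3842 (allL N3842 (tt N4675 (iv F41673)) (tt N3186 F34832) (tt N3842 F34833) (tt N3842 F34834) (tt N4681 (iv F41703)) (tt N3842 F34835) (tt N3137 F34836) (tt N4683 D10570) (tt N3136 (iv D9195)))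
theorem Q3844 : ∀ i, i < 3844 → P i := stepQ 3843 Q3843 (allL N3843 (tt N4676 (iv F41678)) (tt N3187 F34837) (tt N3843 F34838) (tt N4684 D10571) (tt N4682 (iv F41708)) (tt N3138 F34839) (tt N4683 (iv F41713)) (tt N3137 (iv D9196)) (tt N4412 (iv F40689)))
theorem Q3845 : ∀ i, i < 3845 → P i := stepQ 3844 Q3844 (allL N3844 (tt N4677 (iv F41681)) (tt N3188 F34840) (tt N4685 D10572) (tt N3138 (iv D9197)) (tt N4647 (iv F41548)) (tt N4684 (iv F41715)) (tt N3844 F34841) (tt N3844 F34842) (tt N4413 (iv F40692)))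
theorem Q3846 : ∀ i, i < 3846 → P i := stepQ 3845 Q3845 (allL N3845 (tt N4639 (iv F41509)) (tt N3189 F34880) (tt N3139 (iv D9206)) (tt N3845 F34881) (tt N4421 (iv F40723)) (tt N3845 F34882) (tt N4640 (iv F41519)) (tt N4686 D10573) (tt N3154 F34883))
theorem Q3847 : ∀ i, i < 3847 → P i := stepQ 3846 Q3846 (allL N3846 (tt N4427 (iv F40745)) (tt N3144 F34887) (tt N4686 (iv F41721)) (tt N4309 (iv F40303)) (tt N4423 (iv F40732)) (tt N3846 F34888) (tt N4310 (iv F40309)) (tt N3139 (iv D9208)) (tt N4687 D10574))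
theorem Q3848 : ∀ i, i < 3848 → P i := stepQ 3847 Q3847 (allL N3847 (tt N4640 (iv F41515)) (tt N3847 F34913) (tt N3140 (iv D9215)) (tt N3847 F34914) (tt N4688 D10575) (tt N3141 F34915) (tt N4639 (iv F41513)) (tt N4429 (iv F40758)) (tt N4648 (iv F41555)))
theorem Q3849 : ∀ i, i < 3849 → P i := stepQ 3848 Q3848 (allL N3848 (tt N4422 (iv F40726)) (tt N3145 F34916) (tt N4688 (iv F41727)) (tt N4307 (iv F40292)) (tt N3140 (iv D9216)) (tt N4689 D10576) (tt N4306 F40288) (tt N4430 (iv F40760)) (tt N4349 (iv F40468)))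
theorem Q3850 : ∀ i, i < 3850 → P i := stepQ 3849 Q3849 (allL N3849 (tt N4641 (iv F41521)) (tt N3849 F34920) (tt N3142 F34921) (tt N4690 D10577) (tt N3141 (iv D9218)) (tt N4691 D10578) (tt N3849 F34922) (tt N4432 (iv F40767)) (tt N4692 D10579))
theorem Q3851 : ∀ i, i < 3851 → P i := stepQ 3850 Q3850 (allL N3850 (tt N4642 (iv F41524)) (tt N3850 F34923) (tt N3143 F34924) (tt N3850 F34925) (tt N4692 (iv F41738)) (tt N4648 F41556) (tt N3850 F34926) (tt N4693 D10580) (tt N3141 (iv D9219)))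
theorem Q3852 : ∀ i, i < 3852 → P i := stepQ 3851 Q3851 (allL N3851 (tt N4643 (iv F41530)) (tt N3146 F34927) (tt N4691 (iv F41735)) (tt N3851 F34928) (tt N4689 (iv F41729)) (tt N3142 (iv D9220)) (tt N4694 D10581) (tt N4434 (iv F40774)) (tt N4695 D10582))
theorem Q3853 : ∀ i, i < 3853 → P i := stepQ 3852 Q3852 (allL N3852 (tt N4644 (iv F41533)) (tt N3147 F34929) (tt N4692 (iv F41737)) (tt N3852 F34930) (tt N3143 F34931) (tt N4695 (iv F41748)) (tt N3852 F34932) (tt N4696 D10583) (tt N3142 (iv D9221)))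
theorem Q3854 : ∀ i, i < 3854 → P i := stepQ 3853 Q3853 (allL N3853 (tt N4645 (iv F41538)) (tt N3148 F34933) (tt N4693 (iv F41741)) (tt N3166 F34934) (tt N4696 (iv F41750)) (tt N4650 (iv F41564)) (tt N3853 F34935) (tt N3143 (iv D9222)) (tt N4436 (iv F40782)))
theorem Q3855 : ∀ i, i < 3855 → P i := stepQ 3854 Q3854 (allL N3854 (tt N3149 F34947) (tt N4687 (iv F41723)) (tt N3200 F34948) (tt N4319 (iv F40347)) (tt N4438 (iv F40788)) (tt N3854 F34949) (tt N4321 (iv F40359)) (tt N3169 F34950) (tt N3144 (iv D9226)))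
theorem Q3856 : ∀ i, i < 3856 → P i := stepQ 3855 Q3855 (allL N3855 (tt N3150 F34979) (tt N4689 (iv F41728)) (tt N3855 F34980) (tt N4280 (iv F40149)) (tt N3146 F34981) (tt N3145 (iv D9235)) (tt N4279 (iv F40147)) (tt N4445 (iv F40815)) (tt N4365 (iv F40529)))
theorem Q3857 : ∀ i, i < 3857 → P i := stepQ 3856 Q3856 (allL N3856 (tt N3151 F34989) (tt N4694 (iv F41743)) (tt N3856 F34990) (tt N3856 F34991) (tt N4279 (iv F40145)) (tt N3856 F34992) (tt N3146 (iv D9238)) (tt N4448 (iv F40829)) (tt N4697 D10584))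
theorem Q3858 : ∀ i, i < 3858 → P i := stepQ 3857 Q3857 (allL N3857 (tt N3152 F34993) (tt N4695 (iv F41746)) (tt N3857 F34994) (tt N3857 F34995) (tt N4365 (iv F40528)) (tt N3147 F34996) (tt N4697 (iv F41756)) (tt N4698 D10585) (tt N3146 (iv D9239)))
theorem Q3859 : ∀ i, i < 3859 → P i := stepQ 3858 Q3858 (allL N3858 (tt N3153 F34997) (tt N4696 (iv F41749)) (tt N3858 F34998) (tt N4699 D10586) (tt N3148 F34999) (tt N4698 (iv F41759)) (tt N3858 F35000) (tt N3147 (iv D9240)) (tt N4450 (iv F40838)))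
theorem Q3860 : ∀ i, i < 3860 → P i := stepQ 3859 Q3859 (allL N3859 (tt N4697 (iv F41752)) (tt N4209 (iv F39866)) (tt N3859 F35091) (tt N3859 F35092) (tt N4136 F39596) (tt N3859 F35093) (tt N3152 F35094) (tt N4700 D10587) (tt N3151 (iv D9271)))
theorem Q3861 : ∀ i, i < 3861 → P i := stepQ 3860 Q3860 (allL N3860 (tt N4698 (iv F41757)) (tt N4517 (iv F41045)) (tt N3860 F35095) (tt N4701 D10588) (tt N4389 (iv F40612)) (tt N3153 F35096) (tt N4700 (iv F41766)) (tt N3152 (iv D9272)) (tt N4463 (iv F40874)))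
theorem Q3862 : ∀ i, i < 3862 → P i := stepQ 3861 Q3861 (allL N3861 (tt N4699 (iv F41760)) (tt N4647 (iv F41547)) (tt N4702 D10589) (tt N3153 (iv D9273)) (tt N3188 F35097) (tt N4701 (iv F41767)) (tt N3861 F35098) (tt N3861 F35099) (tt N4464 (iv F40878)))
theorem Q3863 : ∀ i, i < 3863 → P i := stepQ 3862 Q3862 (allL N3862 (tt N4648 (iv F41551)) (tt N3208 F35162) (tt N3155 F35163) (tt N3862 F35164) (tt N4465 (iv F40881)) (tt N4642 (iv F41528)) (tt N3154 (iv D9288)) (tt N4703 D10590) (tt N4640 (iv F41520)))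
theorem Q3864 : ∀ i, i < 3864 → P i := stepQ 3863 Q3863 (allL N3863 (tt N4649 (iv F41557)) (tt N3209 F35165) (tt N3156 F35166) (tt N4704 D10591) (tt N4466 (iv F40884)) (tt N3863 F35167) (tt N4703 (iv F41775)) (tt N3154 (iv D9289)) (tt N4705 D10592))
theorem Q3865 : ∀ i, i < 3865 → P i := stepQ 3864 Q3864 (allL N3864 (tt N4650 (iv F41561)) (tt N3167 F35171) (tt N4703 (iv F41774)) (tt N4661 (iv F41615)) (tt N4468 (iv F40888)) (tt N4645 (iv F41541)) (tt N3156 F35172) (tt N3155 (iv D9291)) (tt N4706 D10593))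
theorem Q3866 : ∀ i, i < 3866 → P i := stepQ 3865 Q3865 (allL N3865 (tt N4651 (iv F41566)) (tt N3168 F35173) (tt N4707 D10594) (tt N3156 (iv D9292)) (tt N4708 D10595) (tt N3865 F35174) (tt N4661 (iv F41617)) (tt N3157 F35175) (tt N4709 D10596))
theorem Q3867 : ∀ i, i < 3867 → P i := stepQ 3866 Q3866 (allL N3866 (tt N4652 (iv F41571)) (tt N3169 F35176) (tt N4705 (iv F41780)) (tt N4709 (iv F41790)) (tt N4470 (iv F40893)) (tt N3866 F35177) (tt N4706 (iv F41783)) (tt N4687 (iv F41725)) (tt N3156 (iv D9293)))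
theorem Q3868 : ∀ i, i < 3868 → P i := stepQ 3867 Q3867 (allL N3867 (tt N4653 (iv F41574)) (tt N3867 F35189) (tt N3157 (iv D9297)) (tt N3867 F35190) (tt N4710 D10597) (tt N3867 F35191) (tt N4658 (iv F41604)) (tt N4707 (iv F41786)) (tt N4655 (iv F41590)))
theorem Q3869 : ∀ i, i < 3869 → P i := stepQ 3868 Q3868 (allL N3868 (tt N4654 (iv F41580)) (tt N3170 F35192) (tt N4710 (iv F41793)) (tt N3160 F35193) (tt N3157 (iv D9298)) (tt N4711 D10598) (tt N4660 (iv F41612)) (tt N4708 (iv F41788)) (tt N4656 (iv F41595)))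
theorem Q3870 : ∀ i, i < 3870 → P i := stepQ 3869 Q3869 (allL N3869 (tt N4655 (iv F41585)) (tt N3218 F35197) (tt N3158 (iv D9300)) (tt N3869 F35198) (tt N4712 D10599) (tt N3869 F35199) (tt N3159 F35200) (tt N4476 (iv F40906)) (tt N4653 (iv F41579)))
theorem Q3871 : ∀ i, i < 3871 → P i := stepQ 3870 Q3870 (allL N3870 (tt N4656 (iv F41591)) (tt N3171 F35201) (tt N4712 (iv F41798)) (tt N4660 (iv F41610)) (tt N3158 (iv D9301)) (tt N4713 D10600) (tt N3160 F35202) (tt N4477 (iv F40909)) (tt N4654 (iv F41584)))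
theorem Q3872 : ∀ i, i < 3872 → P i := stepQ 3871 Q3871 (allL N3871 (tt N4657 (iv F41596)) (tt N3221 F35207) (tt N3160 F35208) (tt N4714 D10601) (tt N3159 (iv D9303)) (tt N4715 D10602) (tt N4712 (iv F41799)) (tt N4479 (iv F40916)) (tt N4716 D10603))
theorem Q3873 : ∀ i, i < 3873 → P i := stepQ 3872 Q3872 (allL N3872 (tt N4658 (iv F41599)) (tt N3222 F35209) (tt N3161 F35210) (tt N3872 F35211) (tt N4716 (iv F41809)) (tt N3163 F35212) (tt N4653 (iv F41578)) (tt N4717 D10604) (tt N3159 (iv D9304)))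
theorem Q3874 : ∀ i, i < 3874 → P i := stepQ 3873 Q3873 (allL N3873 (tt N4659 (iv F41605)) (tt N3172 F35213) (tt N4715 (iv F41805)) (tt N4711 (iv F41795)) (tt N3164 F35214) (tt N3160 (iv D9305)) (tt N4718 D10605) (tt N4481 (iv F40922)) (tt N4719 D10606))
theorem Q3875 : ∀ i, i < 3875 → P i := stepQ 3874 Q3874 (allL N3874 (tt N4660 (iv F41608)) (tt N3173 F35215) (tt N4716 (iv F41808)) (tt N4656 (iv F41593)) (tt N3161 F35216) (tt N4719 (iv F41817)) (tt N4654 (iv F41583)) (tt N4720 D10607) (tt N3160 (iv D9306)))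
theorem Q3876 : ∀ i, i < 3876 → P i := stepQ 3875 Q3875 (allL N3875 (tt N4661 (iv F41613)) (tt N3174 F35217) (tt N4717 (iv F41811)) (tt N4650 (iv F41563)) (tt N4720 (iv F41819)) (tt N3166 F35218) (tt N4651 (iv F41569)) (tt N3161 (iv D9307)) (tt N4483 (iv F40927)))
theorem Q3877 : ∀ i, i < 3877 → P i := stepQ 3876 Q3876 (allL N3876 (tt N4662 (iv F41618)) (tt N3226 F35219) (tt N3876 F35220) (tt N3162 (iv D9308)) (tt N3876 F35221) (tt N4721 D10608) (tt N3876 F35222) (tt N4722 D10609) (tt N4723 D10610))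
theorem Q3878 : ∀ i, i < 3878 → P i := stepQ 3877 Q3877 (allL N3877 (tt N4663 (iv F41623)) (tt N3227 F35223) (tt N3164 F35224) (tt N4721 (iv F41822)) (tt N4715 (iv F41806)) (tt N3162 (iv D9309)) (tt N4724 D10611) (tt N4485 (iv F40932)) (tt N4725 D10612))
theorem Q3879 : ∀ i, i < 3879 → P i := stepQ 3878 Q3878 (allL N3878 (tt N4664 (iv F41626)) (tt N3228 F35225) (tt N3165 F35226) (tt N4723 (iv F41829)) (tt N3163 F35227) (tt N4725 (iv F41837)) (tt N3878 F35228) (tt N4726 D10613) (tt N3162 (iv D9310)))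
theorem Q3880 : ∀ i, i < 3880 → P i := stepQ 3879 Q3879 (allL N3879 (tt N4665 (iv F41631)) (tt N3229 F35229) (tt N3166 F35230) (tt N4727 D10614) (tt N4726 (iv F41840)) (tt N4717 (iv F41812)) (tt N3879 F35231) (tt N3163 (iv D9311)) (tt N4487 (iv F40940)))
theorem Q3881 : ∀ i, i < 3881 → P i := stepQ 3880 Q3880 (allL N3880 (tt N4666 (iv F41635)) (tt N3175 F35232) (tt N4724 (iv F41833)) (tt N3880 F35233) (tt N4718 (iv F41814)) (tt N3880 F35234) (tt N3164 (iv D9312)) (tt N4488 (iv F40943)) (tt N4728 D10615))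
theorem Q3882 : ∀ i, i < 3882 → P i := stepQ 3881 Q3881 (allL N3881 (tt N4667 (iv F41639)) (tt N3176 F35235) (tt N4725 (iv F41836)) (tt N3881 F35236) (tt N4719 (iv F41816)) (tt N3165 F35237) (tt N4728 (iv F41848)) (tt N4729 D10616) (tt N3164 (iv D9313)))
theorem Q3883 : ∀ i, i < 3883 → P i := stepQ 3882 Q3882 (allL N3882 (tt N4668 (iv F41643)) (tt N3177 F35238) (tt N4726 (iv F41839)) (tt N4730 D10617) (tt N3166 F35239) (tt N4729 (iv F41850)) (tt N3882 F35240) (tt N3165 (iv D9314)) (tt N4490 (iv F40949)))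
theorem Q3884 : ∀ i, i < 3884 → P i := stepQ 3883 Q3883 (allL N3883 (tt N3178 F35253) (tt N4706 (iv F41782)) (tt N3215 F35254) (tt N4379 (iv F40574)) (tt N4494 (iv F40964)) (tt N4324 (iv F40371)) (tt N3169 F35255) (tt N4321 (iv F40360)) (tt N3167 (iv D9318)))
theorem Q3885 : ∀ i, i < 3885 → P i := stepQ 3884 Q3884 (allL N3884 (tt N3179 F35256) (tt N4708 (iv F41787)) (tt N3884 F35257) (tt N4496 (iv F40971)) (tt N3168 (iv D9319)) (tt N4731 D10618) (tt N4674 (iv F41672)) (tt N3170 F35258) (tt N4732 D10619))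
theorem Q3886 : ∀ i, i < 3886 → P i := stepQ 3885 Q3885 (allL N3885 (tt N3180 F35259) (tt N4709 (iv F41789)) (tt N3885 F35260) (tt N3169 F35261) (tt N4732 (iv F41860)) (tt N3885 F35262) (tt N4379 (iv F40576)) (tt N4376 (iv F40564)) (tt N3168 (iv D9320)))
theorem Q3887 : ∀ i, i < 3887 → P i := stepQ 3886 Q3886 (allL N3886 (tt N3181 F35280) (tt N4711 (iv F41794)) (tt N3886 F35281) (tt N3172 F35282) (tt N3886 F35283) (tt N3170 (iv D9325)) (tt N4733 D10620) (tt N4731 (iv F41857)) (tt N4671 (iv F41660)))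
theorem Q3888 : ∀ i, i < 3888 → P i := stepQ 3887 Q3887 (allL N3887 (tt N3182 F35291) (tt N4713 (iv F41800)) (tt N3233 F35292) (tt N4673 (iv F41666)) (tt N3887 F35293) (tt N3171 (iv D9328)) (tt N4734 D10621) (tt N4506 (iv F41002)) (tt N4670 (iv F41655)))
theorem Q3889 : ∀ i, i < 3889 → P i := stepQ 3888 Q3888 (allL N3888 (tt N3183 F35302) (tt N4718 (iv F41813)) (tt N3236 F35303) (tt N4733 (iv F41863)) (tt N3175 F35304) (tt N4734 (iv F41868)) (tt N3172 (iv D9331)) (tt N4509 (iv F41016)) (tt N4735 D10622))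
theorem Q3890 : ∀ i, i < 3890 → P i := stepQ 3889 Q3889 (allL N3889 (tt N3184 F35305) (tt N4719 (iv F41815)) (tt N3237 F35306) (tt N4671 (iv F41658)) (tt N3176 F35307) (tt N3173 F35308) (tt N4735 (iv F41872)) (tt N4736 D10623) (tt N3172 (iv D9332)))
theorem Q3891 : ∀ i, i < 3891 → P i := stepQ 3890 Q3890 (allL N3890 (tt N3185 F35309) (tt N4720 (iv F41818)) (tt N3238 F35310) (tt N4737 D10624) (tt N3174 F35311) (tt N4736 (iv F41876)) (tt N4669 (iv F41649)) (tt N3173 (iv D9333)) (tt N4511 (iv F41024)))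
theorem Q3892 : ∀ i, i < 3892 → P i := stepQ 3891 Q3891 (allL N3891 (tt N3186 F35312) (tt N4728 (iv F41845)) (tt N3239 F35313) (tt N3891 F35314) (tt N4735 (iv F41871)) (tt N3891 F35315) (tt N3176 F35316) (tt N4738 D10625) (tt N3175 (iv D9334)))
theorem Q3893 : ∀ i, i < 3893 → P i := stepQ 3892 Q3892 (allL N3892 (tt N3187 F35317) (tt N4729 (iv F41849)) (tt N3240 F35318) (tt N4739 D10626) (tt N4736 (iv F41875)) (tt N3177 F35319) (tt N4738 (iv F41881)) (tt N3176 (iv D9335)) (tt N4513 (iv F41032)))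
theorem Q3894 : ∀ i, i < 3894 → P i := stepQ 3893 Q3893 (allL N3893 (tt N3188 F35320) (tt N4730 (iv F41851)) (tt N4740 D10627) (tt N3177 (iv D9336)) (tt N4699 (iv F41761)) (tt N4739 (iv F41883)) (tt N3893 F35321) (tt N3893 F35322) (tt N4514 (iv F41035)))
theorem Q3895 : ∀ i, i < 3895 → P i := stepQ 3894 Q3894 (allL N3894 (tt N4731 (iv F41854)) (tt N4678 (iv F41684)) (tt N3894 F35339) (tt N4524 (iv F41069)) (tt N3894 F35340) (tt N3179 (iv D9342)) (tt N4741 D10628) (tt N3181 F35341) (tt N4742 D10629))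
theorem Q3896 : ∀ i, i < 3896 → P i := stepQ 3895 Q3895 (allL N3895 (tt N4732 (iv F41858)) (tt N4541 (iv F41109)) (tt N3895 F35342) (tt N4525 (iv F41071)) (tt N3180 F35343) (tt N4742 (iv F41894)) (tt N4410 (iv F40680)) (tt N4407 (iv F40668)) (tt N3179 (iv D9343)))
theorem Q3897 : ∀ i, i < 3897 → P i := stepQ 3896 Q3896 (allL N3896 (tt N4733 (iv F41861)) (tt N4679 (iv F41688)) (tt N3896 F35362) (tt N3183 F35363) (tt N3896 F35364) (tt N4681 (iv F41704)) (tt N3181 (iv D9350)) (tt N4741 (iv F41891)) (tt N4680 (iv F41699)))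
theorem Q3898 : ∀ i, i < 3898 → P i := stepQ 3897 Q3897 (allL N3897 (tt N4734 (iv F41865)) (tt N4680 (iv F41694)) (tt N3242 F35371) (tt N4681 (iv F41702)) (tt N3897 F35372) (tt N3183 F35373) (tt N3182 (iv D9353)) (tt N4539 (iv F41105)) (tt N4679 (iv F41693)))
theorem Q3899 : ∀ i, i < 3899 → P i := stepQ 3898 Q3898 (allL N3898 (tt N4735 (iv F41869)) (tt N4681 (iv F41700)) (tt N3245 F35380) (tt N4680 (iv F41696)) (tt N3186 F35381) (tt N4679 (iv F41692)) (tt N3184 F35382) (tt N4743 D10630) (tt N3183 (iv D9356)))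
theorem Q3900 : ∀ i, i < 3900 → P i := stepQ 3899 Q3899 (allL N3899 (tt N4736 (iv F41873)) (tt N4682 (iv F41706)) (tt N3246 F35383) (tt N4744 D10631) (tt N3187 F35384) (tt N3185 F35385) (tt N4743 (iv F41897)) (tt N3184 (iv D9357)) (tt N4543 (iv F41120)))
theorem Q3901 : ∀ i, i < 3901 → P i := stepQ 3900 Q3900 (allL N3900 (tt N4737 (iv F41877)) (tt N4519 (iv F41051)) (tt N4745 D10632) (tt N3185 (iv D9358)) (tt N4390 (iv F40615)) (tt N4744 (iv F41898)) (tt N4393 (iv F40627)) (tt N4398 (iv F40643)) (tt N4544 (iv F41121)))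
theorem Q3902 : ∀ i, i < 3902 → P i := stepQ 3901 Q3901 (allL N3901 (tt N4738 (iv F41878)) (tt N4683 (iv F41710)) (tt N3248 F35386) (tt N4100 (iv F39449)) (tt N4743 (iv F41896)) (tt N3901 F35387) (tt N3187 F35388) (tt N3186 (iv D9359)) (tt N4545 (iv F41125)))
theorem Q3903 : ∀ i, i < 3903 → P i := stepQ 3902 Q3902 (allL N3902 (tt N4739 (iv F41882)) (tt N4684 (iv F41714)) (tt N4098 (iv F39438)) (tt N3187 (iv D9360)) (tt N4156 (iv F39666)) (tt N3188 F35389) (tt N4100 (iv F39452)) (tt N3902 F35390) (tt N4546 (iv F41127)))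
theorem Q3904 : ∀ i, i < 3904 → P i := stepQ 3903 Q3903 (allL N3903 (tt N4740 (iv F41885)) (tt N4102 (iv F39458)) (tt N3188 (iv D9361)) (tt N3250 F35391) (tt N4702 (iv F41770)) (tt N4098 (iv F39440)) (tt N3903 F35392) (tt N3903 F35393) (tt N4547 (iv F41130)))
theorem Q3905 : ∀ i, i < 3905 → P i := stepQ 3904 Q3904 (allL N3904 (tt N3904 F35394) (tt N4640 (iv F41516)) (tt N3190 F35395) (tt N3904 F35396) (tt N4549 (iv F41138)) (tt N4637 (iv F41501)) (tt N3189 (iv D9362)) (tt N4746 D10633) (tt N3208 F35397))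
theorem Q3906 : ∀ i, i < 3906 → P i := stepQ 3905 Q3905 (allL N3905 (tt N3905 F35398) (tt N4686 (iv F41720)) (tt N3191 F35399) (tt N4747 D10634) (tt N4550 (iv F41142)) (tt N3905 F35400) (tt N4746 (iv F41902)) (tt N3189 (iv D9363)) (tt N4748 D10635))
theorem Q3907 : ∀ i, i < 3907 → P i := stepQ 3906 Q3906 (allL N3906 (tt N3906 F35406) (tt N3198 F35407) (tt N4746 (iv F41901)) (tt N4282 (iv F40164)) (tt N4551 (iv F41146)) (tt N4283 (iv F40169)) (tt N3191 F35408) (tt N3190 (iv D9365)) (tt N4749 D10636))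
theorem Q3908 : ∀ i, i < 3908 → P i := stepQ 3907 Q3907 (allL N3907 (tt N3907 F35409) (tt N3199 F35410) (tt N4750 D10637) (tt N3191 (iv D9366)) (tt N4751 D10638) (tt N3907 F35411) (tt N4282 (iv F40166)) (tt N3192 F35412) (tt N4752 D10639))
theorem Q3909 : ∀ i, i < 3909 → P i := stepQ 3908 Q3908 (allL N3908 (tt N3908 F35413) (tt N3200 F35414) (tt N4748 (iv F41907)) (tt N4752 (iv F41924)) (tt N4553 (iv F41154)) (tt N3908 F35415) (tt N4749 (iv F41912)) (tt N3212 F35416) (tt N3191 (iv D9367)))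
theorem Q3910 : ∀ i, i < 3910 → P i := stepQ 3909 Q3909 (allL N3909 (tt N3909 F35428) (tt N3347 (iv F38970)) (tt N3192 (iv D9370)) (tt N3909 F35429) (tt N3981 F38969) (tt N3909 F35430) (tt N3344 F38971) (tt N4750 (iv F41918)) (tt N3909 F35431))
theorem Q3911 : ∀ i, i < 3911 → P i := stepQ 3910 Q3910 (allL N3910 (tt N3910 F35432) (tt N3201 F35433) (tt N3981 (iv F38967)) (tt N3195 F35434) (tt N3192 (iv D9371)) (tt N3982 F38966) (tt N4281 (iv F40159)) (tt N4751 (iv F41921)) (tt N3910 F35435))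
theorem Q3912 : ∀ i, i < 3912 → P i := stepQ 3911 Q3911 (allL N3911 (tt N3911 F35436) (tt N3911 F35437) (tt N3193 (iv D9372)) (tt N3911 F35438) (tt N4753 D10640) (tt N3268 F35439) (tt N3194 F35440) (tt N4255 F40039) (tt N3911 F35441))
theorem Q3913 : ∀ i, i < 3913 → P i := stepQ 3912 Q3912 (allL N3912 (tt N3912 F35442) (tt N3202 F35443) (tt N4753 (iv F41929)) (tt N4281 (iv F40157)) (tt N3193 (iv D9373)) (tt N3912 F38979) (tt N3195 F35444) (tt N4256 F40045) (tt N3912 F35445))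
theorem Q3914 : ∀ i, i < 3914 → P i := stepQ 3913 Q3913 (allL N3913 (tt N3913 F35446) (tt N3913 F35447) (tt N3195 F35448) (tt N3977 F38968) (tt N3194 (iv D9374)) (tt N3978 (iv F38972)) (tt N4753 (iv F41931)) (tt N4556 (iv F41168)) (tt N3913 F35449))
theorem Q3915 : ∀ i, i < 3915 → P i := stepQ 3914 Q3914 (allL N3914 (tt N3914 F35450) (tt N3203 F35451) (tt N3978 F38973) (tt N3982 F38965) (tt N3197 F35452) (tt N3195 (iv D9375)) (tt N3914 F38978) (tt N3272 F39022) (tt N3914 F35453))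
theorem Q3916 : ∀ i, i < 3916 → P i := stepQ 3915 Q3915 (allL N3915 (tt N3915 F35454) (tt N3915 F35455) (tt N3915 F35456) (tt N3196 (iv D9376)) (tt N3915 F35457) (tt N3979 F38977) (tt N3269 F35458) (tt N3915 F35459) (tt N3915 F35460))
theorem Q3917 : ∀ i, i < 3917 → P i := stepQ 3916 Q3916 (allL N3916 (tt N3916 F35461) (tt N3916 F35462) (tt N3197 F35463) (tt N3979 (iv F38975)) (tt N3978 F38974) (tt N3196 (iv D9377)) (tt N3916 F38976) (tt N3271 F39026) (tt N3916 F35464))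
theorem Q3918 : ∀ i, i < 3918 → P i := stepQ 3917 Q3917 (allL N3917 (tt N3204 F35480) (tt N4749 (iv F41911)) (tt N4321 (iv F40356)) (tt N4286 (iv F40185)) (tt N4557 (iv F41170)) (tt N4288 (iv F40197)) (tt N3200 F35481) (tt N3215 F35482) (tt N3198 (iv D9382)))
theorem Q3919 : ∀ i, i < 3919 → P i := stepQ 3918 Q3918 (allL N3918 (tt N3205 F35486) (tt N4751 (iv F41920)) (tt N4289 (iv F40202)) (tt N4558 (iv F41174)) (tt N3199 (iv D9384)) (tt N4754 D10641) (tt N4285 (iv F40182)) (tt N3201 F35487) (tt N4755 D10642))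
theorem Q3920 : ∀ i, i < 3920 → P i := stepQ 3919 Q3919 (allL N3919 (tt N3206 F35488) (tt N4752 (iv F41923)) (tt N4292 (iv F40217)) (tt N3200 F35489) (tt N4755 (iv F41939)) (tt N3919 F35490) (tt N4286 (iv F40187)) (tt N3919 F35491) (tt N3199 (iv D9385)))
theorem Q3921 : ∀ i, i < 3921 → P i := stepQ 3920 Q3920 (allL N3920 (tt N3207 F35511) (tt N3982 (iv F38963)) (tt N3983 F38961) (tt N3203 F35512) (tt N3920 F35513) (tt N3201 (iv D9391)) (tt N3920 F38964) (tt N4754 (iv F41937)) (tt N3920 F35514))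
theorem Q3922 : ∀ i, i < 3922 → P i := stepQ 3921 Q3921 (allL N3921 (tt N4754 (iv F41933)) (tt N3921 F35570) (tt N4295 (iv F40235)) (tt N3216 F38065) (tt N3921 F35571) (tt N3205 (iv D9407)) (tt N3921 F38066) (tt N3207 F35572) (tt N4756 D10643))
theorem Q3923 : ∀ i, i < 3923 → P i := stepQ 3922 Q3922 (allL N3922 (tt N4755 (iv F41938)) (tt N3922 F35573) (tt N4297 (iv F40244)) (tt N4560 (iv F41181)) (tt N3206 F35574) (tt N4756 (iv F41944)) (tt N4293 (iv F40226)) (tt N3922 F35575) (tt N3205 (iv D9408)))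
theorem Q3924 : ∀ i, i < 3924 → P i := stepQ 3923 Q3923 (allL N3923 (tt N3923 F35643) (tt N4642 (iv F41525)) (tt N3210 F35644) (tt N3923 F35645) (tt N4757 D10644) (tt N3208 (iv D9425)) (tt N3923 F35646) (tt N4758 D10645) (tt N4637 (iv F41503)))
theorem Q3925 : ∀ i, i < 3925 → P i := stepQ 3924 Q3924 (allL N3924 (tt N3924 F35647) (tt N4703 (iv F41773)) (tt N3211 F35648) (tt N4759 D10646) (tt N4561 (iv F41186)) (tt N4758 (iv F41952)) (tt N3209 F35649) (tt N3208 (iv D9426)) (tt N4760 D10647))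
theorem Q3926 : ∀ i, i < 3926 → P i := stepQ 3925 Q3925 (allL N3925 (tt N3925 F35650) (tt N4704 (iv F41776)) (tt N3925 F35651) (tt N3209 (iv D9427)) (tt N4761 D10648) (tt N3925 F35652) (tt N4759 (iv F41956)) (tt N3925 F35653) (tt N4762 D10649))
theorem Q3927 : ∀ i, i < 3927 → P i := stepQ 3926 Q3926 (allL N3926 (tt N3926 F35654) (tt N4705 (iv F41779)) (tt N3212 F35655) (tt N4762 (iv F41966)) (tt N4563 (iv F41191)) (tt N3926 F35656) (tt N4760 (iv F41960)) (tt N4748 (iv F41909)) (tt N3209 (iv D9428)))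
theorem Q3928 : ∀ i, i < 3928 → P i := stepQ 3927 Q3927 (allL N3927 (tt N3927 F35657) (tt N3213 F35658) (tt N4757 (iv F41948)) (tt N3272 F35659) (tt N3210 (iv D9429)) (tt N4555 (iv F41163)) (tt N3927 F35660) (tt N4763 D10650) (tt N4638 (iv F41508)))
theorem Q3929 : ∀ i, i < 3929 → P i := stepQ 3928 Q3928 (allL N3928 (tt N3928 F35661) (tt N3214 F35662) (tt N4758 (iv F41951)) (tt N3928 F35663) (tt N4763 (iv F41970)) (tt N3211 F35664) (tt N3928 F35665) (tt N3210 (iv D9430)) (tt N4764 D10651))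
theorem Q3930 : ∀ i, i < 3930 → P i := stepQ 3929 Q3929 (allL N3929 (tt N3929 F35666) (tt N3215 F35667) (tt N4760 (iv F41959)) (tt N3929 F35668) (tt N4564 (iv F41195)) (tt N4764 (iv F41975)) (tt N3212 F35669) (tt N4749 (iv F41913)) (tt N3211 (iv D9431)))
theorem Q3931 : ∀ i, i < 3931 → P i := stepQ 3930 Q3930 (allL N3930 (tt N3216 F35670) (tt N4763 (iv F41969)) (tt N4646 (iv F41544)) (tt N4754 (iv F41934)) (tt N3214 F35671) (tt N4558 (iv F41175)) (tt N3930 F35672) (tt N3213 (iv D9432)) (tt N4765 D10652))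
theorem Q3932 : ∀ i, i < 3932 → P i := stepQ 3931 Q3931 (allL N3931 (tt N3217 F35673) (tt N4764 (iv F41973)) (tt N4324 (iv F40369)) (tt N3931 F35674) (tt N4765 (iv F41978)) (tt N3215 F35675) (tt N3931 F35676) (tt N4288 (iv F40199)) (tt N3214 (iv D9433)))
theorem Q3933 : ∀ i, i < 3933 → P i := stepQ 3932 Q3932 (allL N3932 (tt N4765 (iv F41977)) (tt N3932 F35681) (tt N4338 (iv F40428)) (tt N4756 (iv F41942)) (tt N3217 F35682) (tt N4560 (iv F41183)) (tt N3932 F35683) (tt N4294 (iv F40233)) (tt N3216 (iv D9435)))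
theorem Q3934 : ∀ i, i < 3934 → P i := stepQ 3933 Q3933 (allL N3933 (tt N3933 F35684) (tt N4712 (iv F41797)) (tt N3219 F35685) (tt N4766 D10653) (tt N3218 (iv D9436)) (tt N4767 D10654) (tt N3221 F35686) (tt N4579 (iv F41261)) (tt N4768 D10655))
theorem Q3935 : ∀ i, i < 3935 → P i := stepQ 3934 Q3934 (allL N3934 (tt N3934 F35687) (tt N4653 (iv F41575)) (tt N3220 F35688) (tt N3934 F35689) (tt N4768 (iv F41989)) (tt N3934 F35690) (tt N3222 F35691) (tt N4769 D10656) (tt N3218 (iv D9437)))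
theorem Q3936 : ∀ i, i < 3936 → P i := stepQ 3935 Q3935 (allL N3935 (tt N3935 F35692) (tt N3233 F35693) (tt N4767 (iv F41985)) (tt N3935 F35694) (tt N3935 F35695) (tt N3219 (iv D9438)) (tt N4770 D10657) (tt N4581 (iv F41271)) (tt N4771 D10658))
theorem Q3937 : ∀ i, i < 3937 → P i := stepQ 3936 Q3936 (allL N3936 (tt N3936 F35696) (tt N3234 F35697) (tt N4768 (iv F41988)) (tt N3936 F35698) (tt N3220 F35699) (tt N4771 (iv F42004)) (tt N3224 F35700) (tt N4772 D10659) (tt N3219 (iv D9439)))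
theorem Q3938 : ∀ i, i < 3938 → P i := stepQ 3937 Q3937 (allL N3937 (tt N3937 F35701) (tt N3235 F35702) (tt N4769 (iv F41992)) (tt N3937 F35703) (tt N4772 (iv F42007)) (tt N3937 F35704) (tt N3225 F35705) (tt N3220 (iv D9440)) (tt N4583 (iv F41282)))
theorem Q3939 : ∀ i, i < 3939 → P i := stepQ 3938 Q3938 (allL N3938 (tt N3938 F35706) (tt N4714 (iv F41802)) (tt N3938 F35707) (tt N3221 (iv D9441)) (tt N3938 F35708) (tt N4773 D10660) (tt N4766 (iv F41983)) (tt N4774 D10661) (tt N4775 D10662))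
theorem Q3940 : ∀ i, i < 3940 → P i := stepQ 3939 Q3939 (allL N3939 (tt N3939 F35709) (tt N4715 (iv F41804)) (tt N3223 F35710) (tt N4773 (iv F42011)) (tt N3227 F35711) (tt N3221 (iv D9442)) (tt N4776 D10663) (tt N4585 (iv F41287)) (tt N4777 D10664))
theorem Q3941 : ∀ i, i < 3941 → P i := stepQ 3940 Q3940 (allL N3940 (tt N3940 F35712) (tt N4716 (iv F41807)) (tt N3224 F35713) (tt N4775 (iv F42017)) (tt N3222 F35714) (tt N4777 (iv F42025)) (tt N4768 (iv F41990)) (tt N4778 D10665) (tt N3221 (iv D9443)))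
theorem Q3942 : ∀ i, i < 3942 → P i := stepQ 3941 Q3941 (allL N3941 (tt N3941 F35715) (tt N4717 (iv F41810)) (tt N3225 F35716) (tt N4779 D10666) (tt N4778 (iv F42028)) (tt N3229 F35717) (tt N4769 (iv F41994)) (tt N3222 (iv D9444)) (tt N4587 (iv F41294)))
theorem Q3943 : ∀ i, i < 3943 → P i := stepQ 3942 Q3942 (allL N3942 (tt N3942 F35718) (tt N3236 F35719) (tt N4776 (iv F42020)) (tt N3942 F35720) (tt N3230 F35721) (tt N4770 (iv F41999)) (tt N3223 (iv D9445)) (tt N4588 (iv F41298)) (tt N4780 D10667))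
theorem Q3944 : ∀ i, i < 3944 → P i := stepQ 3943 Q3943 (allL N3943 (tt N3943 F35722) (tt N3237 F35723) (tt N4777 (iv F42023)) (tt N3943 F35724) (tt N3231 F35725) (tt N3224 F35726) (tt N4780 (iv F42037)) (tt N4781 D10668) (tt N3223 (iv D9446)))
theorem Q3945 : ∀ i, i < 3945 → P i := stepQ 3944 Q3944 (allL N3944 (tt N3944 F35727) (tt N3238 F35728) (tt N4778 (iv F42027)) (tt N4782 D10669) (tt N3225 F35729) (tt N4781 (iv F42041)) (tt N4772 (iv F42008)) (tt N3224 (iv D9447)) (tt N4590 (iv F41306)))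
theorem Q3946 : ∀ i, i < 3946 → P i := stepQ 3945 Q3945 (allL N3945 (tt N3945 F35730) (tt N4721 (iv F41820)) (tt N3251 F35731) (tt N3227 F35732) (tt N4783 D10670) (tt N3226 (iv D9448)) (tt N4784 D10671) (tt N4785 D10672) (tt N4786 D10673))
theorem Q3947 : ∀ i, i < 3947 → P i := stepQ 3946 Q3946 (allL N3946 (tt N3946 F35733) (tt N4722 (iv F41823)) (tt N3252 F35734) (tt N4592 (iv F41312)) (tt N3946 F35735) (tt N4785 (iv F42055)) (tt N3946 F35736) (tt N3226 (iv D9449)) (tt N4787 D10674))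
theorem Q3948 : ∀ i, i < 3948 → P i := stepQ 3947 Q3947 (allL N3947 (tt N3947 F35737) (tt N4723 (iv F41827)) (tt N3253 F35738) (tt N3228 F35739) (tt N3947 F35740) (tt N4786 (iv F42065)) (tt N3947 F35741) (tt N4788 D10675) (tt N3226 (iv D9450)))
theorem Q3949 : ∀ i, i < 3949 → P i := stepQ 3948 Q3948 (allL N3948 (tt N3948 F35742) (tt N4724 (iv F41832)) (tt N3230 F35743) (tt N4784 (iv F42051)) (tt N4776 (iv F42021)) (tt N3948 F35744) (tt N3227 (iv D9451)) (tt N4594 (iv F41321)) (tt N4789 D10676))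
theorem Q3950 : ∀ i, i < 3950 → P i := stepQ 3949 Q3949 (allL N3949 (tt N3949 F35745) (tt N4725 (iv F41835)) (tt N3231 F35746) (tt N4786 (iv F42064)) (tt N4777 (iv F42024)) (tt N3228 F35747) (tt N4789 (iv F42078)) (tt N4790 D10677) (tt N3227 (iv D9452)))
theorem Q3951 : ∀ i, i < 3951 → P i := stepQ 3950 Q3950 (allL N3950 (tt N3950 F35748) (tt N4726 (iv F41838)) (tt N3232 F35749) (tt N4791 D10678) (tt N3229 F35750) (tt N4790 (iv F42081)) (tt N3950 F35751) (tt N3228 (iv D9453)) (tt N4596 (iv F41329)))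
theorem Q3952 : ∀ i, i < 3952 → P i := stepQ 3951 Q3951 (allL N3951 (tt N3951 F35752) (tt N4727 (iv F41842)) (tt N3951 F35753) (tt N3229 (iv D9454)) (tt N4792 D10679) (tt N4779 (iv F42031)) (tt N3951 F35754) (tt N3951 F35755) (tt N4597 (iv F41333)))
theorem Q3953 : ∀ i, i < 3953 → P i := stepQ 3952 Q3952 (allL N3952 (tt N3952 F35756) (tt N3239 F35757) (tt N4789 (iv F42076)) (tt N3258 F35758) (tt N4780 (iv F42036)) (tt N3952 F35759) (tt N3231 F35760) (tt N4793 D10680) (tt N3230 (iv D9455)))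
theorem Q3954 : ∀ i, i < 3954 → P i := stepQ 3953 Q3953 (allL N3953 (tt N3953 F35761) (tt N3240 F35762) (tt N4790 (iv F42080)) (tt N4794 D10681) (tt N4781 (iv F42040)) (tt N3232 F35763) (tt N4793 (iv F42096)) (tt N3231 (iv D9456)) (tt N4599 (iv F41342)))
theorem Q3955 : ∀ i, i < 3955 → P i := stepQ 3954 Q3954 (allL N3954 (tt N3954 F35764) (tt N3241 F35765) (tt N4795 D10682) (tt N3232 (iv D9457)) (tt N3954 F35766) (tt N4794 (iv F42099)) (tt N3954 F35767) (tt N3260 F35768) (tt N4600 (iv F41348)))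
theorem Q3956 : ∀ i, i < 3956 → P i := stepQ 3955 Q3955 (allL N3955 (tt N3242 F35769) (tt N4770 (iv F41996)) (tt N4734 (iv F41866)) (tt N3955 F35770) (tt N3955 F35771) (tt N3236 F35772) (tt N3233 (iv D9458)) (tt N4610 (iv F41391)) (tt N4796 D10683))
theorem Q3957 : ∀ i, i < 3957 → P i := stepQ 3956 Q3956 (allL N3956 (tt N3243 F35773) (tt N4771 (iv F42001)) (tt N4670 (iv F41652)) (tt N3956 F35774) (tt N3956 F35775) (tt N3234 F35776) (tt N4796 (iv F42114)) (tt N4797 D10684) (tt N3233 (iv D9459)))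
theorem Q3958 : ∀ i, i < 3958 → P i := stepQ 3957 Q3957 (allL N3957 (tt N3244 F35777) (tt N4772 (iv F42006)) (tt N4669 (iv F41648)) (tt N4798 D10685) (tt N3235 F35778) (tt N4797 (iv F42117)) (tt N3238 F35779) (tt N3234 (iv D9460)) (tt N4612 (iv F41399)))
theorem Q3959 : ∀ i, i < 3959 → P i := stepQ 3958 Q3958 (allL N3958 (tt N3245 F35780) (tt N4780 (iv F42034)) (tt N4735 (iv F41870)) (tt N3958 F35781) (tt N3239 F35782) (tt N4796 (iv F42113)) (tt N3237 F35783) (tt N4799 D10686) (tt N3236 (iv D9461)))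
theorem Q3960 : ∀ i, i < 3960 → P i := stepQ 3959 Q3959 (allL N3959 (tt N3246 F35784) (tt N4781 (iv F42039)) (tt N4736 (iv F41874)) (tt N4800 D10687) (tt N3240 F35785) (tt N3238 F35786) (tt N4799 (iv F42124)) (tt N3237 (iv D9462)) (tt N4614 (iv F41406)))
theorem Q3961 : ∀ i, i < 3961 → P i := stepQ 3960 Q3960 (allL N3960 (tt N3247 F35787) (tt N4782 (iv F42043)) (tt N4801 D10688) (tt N3238 (iv D9463)) (tt N3960 F35788) (tt N4800 (iv F42126)) (tt N4798 (iv F42120)) (tt N3960 F35789) (tt N4615 (iv F41409)))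
theorem Q3962 : ∀ i, i < 3962 → P i := stepQ 3961 Q3961 (allL N3961 (tt N3248 F35790) (tt N4793 (iv F42094)) (tt N4738 (iv F41879)) (tt N4080 (iv F39351)) (tt N4799 (iv F42123)) (tt N3961 F35791) (tt N3240 F35792) (tt N3239 (iv D9464)) (tt N4616 (iv F41413)))
theorem Q3963 : ∀ i, i < 3963 → P i := stepQ 3962 Q3962 (allL N3962 (tt N3249 F35793) (tt N4794 (iv F42098)) (tt N4086 (iv F39378)) (tt N3240 (iv D9465)) (tt N4081 (iv F39357)) (tt N3241 F35794) (tt N4080 (iv F39354)) (tt N3262 F35795) (tt N4617 (iv F41417)))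
theorem Q3964 : ∀ i, i < 3964 → P i := stepQ 3963 Q3963 (allL N3963 (tt N3250 F35796) (tt N4802 D10689) (tt N3241 (iv D9466)) (tt N4740 (iv F41886)) (tt N3963 F35797) (tt N4086 (iv F39380)) (tt N3963 F35798) (tt N3263 F35799) (tt N4618 (iv F41422)))
theorem Q3965 : ∀ i, i < 3965 → P i := stepQ 3964 Q3964 (allL N3964 (tt N4796 (iv F42110)) (tt N3964 F35800) (tt N4679 (iv F41689)) (tt N3964 F35801) (tt N3964 F35802) (tt N3245 F35803) (tt N3243 F35804) (tt N4803 D10690) (tt N3242 (iv D9467)))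
theorem Q3966 : ∀ i, i < 3966 → P i := stepQ 3965 Q3965 (allL N3965 (tt N4797 (iv F42115)) (tt N3965 F35805) (tt N4678 (iv F41685)) (tt N4804 D10691) (tt N3965 F35806) (tt N3244 F35807) (tt N4803 (iv F42140)) (tt N3243 (iv D9468)) (tt N4632 (iv F41483)))
theorem Q3967 : ∀ i, i < 3967 → P i := stepQ 3966 Q3966 (allL N3966 (tt N4798 (iv F42118)) (tt N3966 F35808) (tt N4805 D10692) (tt N3244 (iv D9469)) (tt N3966 F35809) (tt N4804 (iv F42142)) (tt N3247 F35810) (tt N3966 F35811) (tt N4633 (iv F41488)))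
theorem Q3968 : ∀ i, i < 3968 → P i := stepQ 3967 Q3967 (allL N3967 (tt N4799 (iv F42122)) (tt N3967 F35812) (tt N4743 (iv F41895)) (tt N4093 (iv F39416)) (tt N3248 F35813) (tt N4803 (iv F42139)) (tt N3246 F35814) (tt N3245 (iv D9470)) (tt N4634 (iv F41492)))
theorem Q3969 : ∀ i, i < 3969 → P i := stepQ 3968 Q3968 (allL N3968 (tt N4800 (iv F42125)) (tt N3968 F35815) (tt N4146 (iv F39629)) (tt N3246 (iv D9471)) (tt N4091 (iv F39404)) (tt N3247 F35816) (tt N4093 (iv F39417)) (tt N3968 F35817) (tt N4635 (iv F41495)))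
theorem Q3970 : ∀ i, i < 3970 → P i := stepQ 3969 Q3969 (allL N3969 (tt N4801 (iv F42128)) (tt N4227 (iv F39916)) (tt N3247 (iv D9472)) (tt N4745 (iv F41899)) (tt N3969 F35818) (tt N4146 F39632) (tt N4805 (iv F42145)) (tt N3969 F35819) (tt N4636 (iv F41497)))
theorem Q3971 : ∀ i, i < 3971 → P i := stepQ 3970 Q3970 (allL N3970 (tt N3970 F35833) (tt N3970 F35834) (tt N4783 (iv F42047)) (tt N3970 F35835) (tt N3251 (iv D9477)) (tt N3970 F35836) (tt N3972 (iv F42061)) (tt N3971 F42060) (tt N4806 D10693))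
theorem Q3972 : ∀ i, i < 3972 → P i := stepQ 3971 Q3971 (allL N3971 (tt N3971 F35837) (tt N3971 F35838) (tt N4784 (iv F42050)) (tt N3254 F35839) (tt N3972 F42057) (tt N3971 F35840) (tt N3251 (iv D9478)) (tt N3970 (iv F42060)) (tt N4807 D10694))
theorem Q3973 : ∀ i, i < 3973 → P i := stepQ 3972 Q3972 (allL N3972 (tt N3972 F35841) (tt N3972 F35842) (tt N4785 (iv F42054)) (tt N3972 F35843) (tt N3971 (iv F42057)) (tt N3252 F35844) (tt N3970 F42061) (tt N3251 (iv D9479)) (tt N4808 D10695))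
theorem Q3974 : ∀ i, i < 3974 → P i := stepQ 3973 Q3973 (allL N3973 (tt N3973 F35845) (tt N3973 F35846) (tt N4786 (iv F42063)) (tt N3255 F35847) (tt N4806 (iv F42150)) (tt N3253 F35848) (tt N4807 (iv F42156)) (tt N4809 D10696) (tt N3251 (iv D9480)))
theorem Q3975 : ∀ i, i < 3975 → P i := stepQ 3974 Q3974 (allL N3974 (tt N3974 F35849) (tt N3974 F35850) (tt N4787 (iv F42067)) (tt N3974 F35851) (tt N3974 F35852) (tt N4808 (iv F42161)) (tt N3974 F35853) (tt N4810 D10697) (tt N3252 (iv D9481)))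
theorem Q3976 : ∀ i, i < 3976 → P i := stepQ 3975 Q3975 (allL N3975 (tt N3975 F35854) (tt N3975 F35855) (tt N4788 (iv F42071)) (tt N3986 F39046) (tt N3975 F35856) (tt N4809 (iv F42166)) (tt N3975 F35857) (tt N3253 (iv D9482)) (tt N4810 (iv F42171)))
theorem Q3977 : ∀ i, i < 3977 → P i := stepQ 3976 Q3976 (allL N3976 (tt N3976 F35858) (tt N3976 F35859) (tt N3258 F35860) (tt N4807 (iv F42154)) (tt N3976 F35861) (tt N3976 F35862) (tt N3255 F35863) (tt N4811 D10698) (tt N3254 (iv D9483)))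
theorem Q3978 : ∀ i, i < 3978 → P i := stepQ 3977 Q3977 (allL N3977 (tt N3977 F35864) (tt N3977 F35865) (tt N3259 F35866) (tt N3913 (iv F38968)) (tt N3977 F35867) (tt N3256 F35868) (tt N4811 (iv F42177)) (tt N3255 (iv D9484)) (tt N3977 F35869))
theorem Q3979 : ∀ i, i < 3979 → P i := stepQ 3978 Q3978 (allL N3978 (tt N3978 F35870) (tt N3978 F35871) (tt N3914 (iv F38973)) (tt N3256 (iv D9485)) (tt N3916 (iv F38974)) (tt N3913 F38972) (tt N3978 F35872) (tt N3986 (iv F39045)) (tt N3978 F35873))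
theorem Q3980 : ∀ i, i < 3980 → P i := stepQ 3979 Q3979 (allL N3979 (tt N3979 F35874) (tt N3979 F35875) (tt N3979 F35876) (tt N3916 F38975) (tt N3257 (iv D9486)) (tt N3915 (iv F38977)) (tt N3979 F35877) (tt N3979 F35878) (tt N3979 F35879))
theorem Q3981 : ∀ i, i < 3981 → P i := stepQ 3980 Q3980 (allL N3980 (tt N3980 F35880) (tt N3261 F35881) (tt N4811 (iv F42174)) (tt N4076 F39336) (tt N3980 F35882) (tt N3980 F35883) (tt N3259 F35884) (tt N3258 (iv D9487)) (tt N3980 F35885))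
theorem Q3982 : ∀ i, i < 3982 → P i := stepQ 3981 Q3981 (allL N3981 (tt N3981 F35886) (tt N3262 F35887) (tt N3910 F38967) (tt N3259 (iv D9488)) (tt N3909 (iv F38969)) (tt N3260 F35888) (tt N4076 (iv F39334)) (tt N4794 (iv F42100)) (tt N3981 F35889))
theorem Q3983 : ∀ i, i < 3983 → P i := stepQ 3982 Q3982 (allL N3982 (tt N3982 F35890) (tt N3920 F38963) (tt N3260 (iv D9489)) (tt N3914 (iv F38965)) (tt N3982 F35891) (tt N3910 (iv F38966)) (tt N3982 F35892) (tt N4795 (iv F42108)) (tt N3982 F35893))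
theorem Q3984 : ∀ i, i < 3984 → P i := stepQ 3983 Q3983 (allL N3983 (tt N3517 F38960) (tt N3263 (iv D9493)) (tt N3920 (iv F38961)) (tt N3983 F35906) (tt N3983 F35907) (tt N3509 (iv F38962)) (tt N3983 F35908) (tt N4802 (iv F42136)) (tt N3983 F35909))
theorem Q3985 : ∀ i, i < 3985 → P i := stepQ 3984 Q3984 (allL N3984 (tt N3984 F39029) (tt N3984 F39030) (tt N3267 F39031) (tt N3984 F39032) (tt N4812 D10699) (tt N3266 (iv D9871)) (tt N3984 F39033) (tt N3984 F39034) (tt N3271 F39035))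
theorem Q3986 : ∀ i, i < 3986 → P i := stepQ 3985 Q3985 (allL N3985 (tt N3985 F39036) (tt N3270 F39037) (tt N4812 (iv F42182)) (tt N4638 (iv F41506)) (tt N3267 (iv D9872)) (tt N4253 (iv F40024)) (tt N3985 F39038) (tt N3985 F39039) (tt N3272 F39040))
theorem Q3987 : ∀ i, i < 3987 → P i := stepQ 3986 Q3986 (allL N3986 (tt N3986 F39041) (tt N3986 F39042) (tt N3272 F39043) (tt N3975 (iv F39046)) (tt N3271 (iv D9873)) (tt N4556 (iv F41167)) (tt N3986 F39044) (tt N3978 F39045) (tt N4812 (iv F42185)))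
theorem Q3988 : ∀ i, i < 3988 → P i := stepQ 3987 Q3987 (allL N3987 (tt N3296 F39047) (tt N3277 F39048) (tt N4813 D10700) (tt N3273 (iv D9874)) (tt N3987 F39049) (tt N4306 (iv F40286)) (tt N4570 (iv F41220)) (tt N4814 D10701) (tt N4109 (iv F39491)))
theorem Q3989 : ∀ i, i < 3989 → P i := stepQ 3988 Q3988 (allL N3988 (tt N3297 F39050) (tt N3278 F39051) (tt N3564 F39052) (tt N4815 D10702) (tt N3274 F39053) (tt N4308 (iv F40299)) (tt N4515 (iv F41039)) (tt N3273 (iv D9875)) (tt N4816 D10703))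
theorem Q3990 : ∀ i, i < 3990 → P i := stepQ 3989 Q3989 (allL N3989 (tt N3298 F39054) (tt N3279 F39055) (tt N4817 D10704) (tt N3274 (iv D9876)) (tt N4818 D10705) (tt N3275 F39056) (tt N4601 (iv F41352)) (tt N3989 F39057) (tt N4819 D10706))
theorem Q3991 : ∀ i, i < 3991 → P i := stepQ 3990 Q3990 (allL N3990 (tt N3299 F39058) (tt N3280 F39059) (tt N3567 F39060) (tt N4819 (iv F42210)) (tt N4816 (iv F42199)) (tt N3276 F39061) (tt N4619 (iv F41427)) (tt N4114 (iv F39511)) (tt N3274 (iv D9877)))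
theorem Q3992 : ∀ i, i < 3992 → P i := stepQ 3991 Q3991 (allL N3991 (tt N3300 F39062) (tt N3991 F39063) (tt N3275 (iv D9878)) (tt N3568 F39064) (tt N4820 D10707) (tt N4817 (iv F42203)) (tt N3991 F39065) (tt N3991 F39066) (tt N4821 D10708))
theorem Q3993 : ∀ i, i < 3993 → P i := stepQ 3992 Q3992 (allL N3992 (tt N3301 F39067) (tt N3281 F39068) (tt N4820 (iv F42214)) (tt N4313 (iv F40322)) (tt N3275 (iv D9879)) (tt N4822 D10709) (tt N3992 F39069) (tt N3992 F39070) (tt N4823 D10710))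
theorem Q3994 : ∀ i, i < 3994 → P i := stepQ 3993 Q3993 (allL N3993 (tt N3302 F39071) (tt N3282 F39072) (tt N4821 (iv F42219)) (tt N3276 F39073) (tt N4823 (iv F42227)) (tt N4819 (iv F42211)) (tt N3993 F39074) (tt N4824 D10711) (tt N3275 (iv D9880)))
theorem Q3995 : ∀ i, i < 3995 → P i := stepQ 3994 Q3994 (allL N3994 (tt N3285 F39075) (tt N4814 (iv F42192)) (tt N3994 F39076) (tt N4825 D10712) (tt N3994 F39077) (tt N4315 (iv F40332)) (tt N4571 (iv F41223)) (tt N3277 (iv D9881)) (tt N4826 D10713))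
theorem Q3996 : ∀ i, i < 3996 → P i := stepQ 3995 Q3995 (allL N3995 (tt N3286 F39078) (tt N4815 (iv F42195)) (tt N4827 D10714) (tt N3278 (iv D9882)) (tt N4828 D10715) (tt N4317 (iv F40339)) (tt N4530 (iv F41083)) (tt N4825 (iv F42234)) (tt N4829 D10716))
theorem Q3997 : ∀ i, i < 3997 → P i := stepQ 3996 Q3996 (allL N3996 (tt N3287 F39079) (tt N4816 (iv F42197)) (tt N3284 F39080) (tt N4829 (iv F42243)) (tt N3280 F39081) (tt N4318 (iv F40343)) (tt N4548 (iv F41134)) (tt N4123 (iv F39548)) (tt N3278 (iv D9883)))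
theorem Q3998 : ∀ i, i < 3998 → P i := stepQ 3997 Q3997 (allL N3997 (tt N3288 F39082) (tt N4818 (iv F42206)) (tt N3997 F39083) (tt N4828 (iv F42241)) (tt N3279 (iv D9884)) (tt N4830 D10717) (tt N4620 (iv F41430)) (tt N3997 F39084) (tt N4831 D10718))
theorem Q3999 : ∀ i, i < 3999 → P i := stepQ 3998 Q3998 (allL N3998 (tt N3289 F39085) (tt N4819 (iv F42209)) (tt N3998 F39086) (tt N3280 F39087) (tt N4831 (iv F42250)) (tt N3282 F39088) (tt N4621 (iv F41436)) (tt N4832 D10719) (tt N3279 (iv D9885)))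
theorem Q4000 : ∀ i, i < 4000 → P i := stepQ 3999 Q3999 (allL N3999 (tt N3290 F39089) (tt N4822 (iv F42223)) (tt N3999 F39090) (tt N4322 (iv F40362)) (tt N4830 (iv F42246)) (tt N3281 (iv D9886)) (tt N4833 D10720) (tt N3999 F39091) (tt N4834 D10721))
theorem Q4001 : ∀ i, i < 4001 → P i := stepQ 4000 Q4000 (allL N4000 (tt N3291 F39092) (tt N4823 (iv F42226)) (tt N4000 F39093) (tt N4323 (iv F40365)) (tt N3282 F39094) (tt N4834 (iv F42261)) (tt N4000 F39095) (tt N4835 D10722) (tt N3281 (iv D9887)))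
theorem Q4002 : ∀ i, i < 4002 → P i := stepQ 4001 Q4001 (allL N4001 (tt N3292 F39096) (tt N4824 (iv F42230)) (tt N4001 F39097) (tt N4130 (iv F39571)) (tt N4835 (iv F42264)) (tt N4832 (iv F42253)) (tt N4001 F39098) (tt N3282 (iv D9888)) (tt N4001 F39099))
theorem Q4003 : ∀ i, i < 4003 → P i := stepQ 4002 Q4002 (allL N4002 (tt N3293 F39100) (tt N4836 D10723) (tt N3283 (iv D9889)) (tt N4827 (iv F42239)) (tt N4002 F39101) (tt N4327 (iv F40384)) (tt N4416 (iv F40703)) (tt N4002 F39102) (tt N4837 D10724))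
theorem Q4004 : ∀ i, i < 4004 → P i := stepQ 4003 Q4003 (allL N4003 (tt N3294 F39103) (tt N3588 F39104) (tt N4837 (iv F42271)) (tt N3284 F39105) (tt N4003 F39106) (tt N4328 (iv F40389)) (tt N4419 (iv F40716)) (tt N4838 D10725) (tt N3283 (iv D9890)))
theorem Q4005 : ∀ i, i < 4005 → P i := stepQ 4004 Q4004 (allL N4004 (tt N4825 (iv F42233)) (tt N3311 F39107) (tt N4839 D10726) (tt N3285 (iv D9891)) (tt N4840 D10727) (tt N4329 (iv F40392)) (tt N4521 (iv F41060)) (tt N3286 F39108) (tt N4841 D10728))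
theorem Q4006 : ∀ i, i < 4006 → P i := stepQ 4005 Q4005 (allL N4005 (tt N4826 (iv F42235)) (tt N3312 F39109) (tt N4005 F39110) (tt N4841 (iv F42283)) (tt N4005 F39111) (tt N4330 (iv F40398)) (tt N4572 (iv F41228)) (tt N4139 (iv F39608)) (tt N3285 (iv D9892)))
theorem Q4007 : ∀ i, i < 4007 → P i := stepQ 4006 Q4006 (allL N4006 (tt N4827 (iv F42238)) (tt N4397 (iv F40637)) (tt N3286 (iv D9893)) (tt N3293 F39112) (tt N4842 D10729) (tt N4333 (iv F40411)) (tt N4400 (iv F40649)) (tt N4839 (iv F42278)) (tt N4843 D10730))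
theorem Q4008 : ∀ i, i < 4008 → P i := stepQ 4007 Q4007 (allL N4007 (tt N4828 (iv F42240)) (tt N3313 F39113) (tt N4842 (iv F42284)) (tt N3288 F39114) (tt N3286 (iv D9894)) (tt N4844 D10731) (tt N4531 (iv F41086)) (tt N4840 (iv F42281)) (tt N4845 D10732))
theorem Q4009 : ∀ i, i < 4009 → P i := stepQ 4008 Q4008 (allL N4008 (tt N4829 (iv F42242)) (tt N3314 F39115) (tt N4843 (iv F42286)) (tt N3287 F39116) (tt N4845 (iv F42292)) (tt N4335 (iv F40418)) (tt N4532 (iv F41089)) (tt N4846 D10733) (tt N3286 (iv D9895)))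
theorem Q4010 : ∀ i, i < 4010 → P i := stepQ 4009 Q4009 (allL N4009 (tt N4830 (iv F42244)) (tt N3315 F39117) (tt N4009 F39118) (tt N4844 (iv F42289)) (tt N3290 F39119) (tt N3288 (iv D9896)) (tt N4847 D10734) (tt N4009 F39120) (tt N4848 D10735))
theorem Q4011 : ∀ i, i < 4011 → P i := stepQ 4010 Q4010 (allL N4010 (tt N4831 (iv F42248)) (tt N3316 F39121) (tt N4010 F39122) (tt N4845 (iv F42291)) (tt N3289 F39123) (tt N4848 (iv F42301)) (tt N4623 (iv F41444)) (tt N4849 D10736) (tt N3288 (iv D9897)))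
theorem Q4012 : ∀ i, i < 4012 → P i := stepQ 4011 Q4011 (allL N4011 (tt N4832 (iv F42251)) (tt N3317 F39124) (tt N4011 F39125) (tt N4150 (iv F39643)) (tt N4849 (iv F42304)) (tt N3292 F39126) (tt N4624 (iv F41448)) (tt N3289 (iv D9898)) (tt N4011 F39127))
theorem Q4013 : ∀ i, i < 4013 → P i := stepQ 4012 Q4012 (allL N4012 (tt N4833 (iv F42255)) (tt N3318 F39128) (tt N4012 F39129) (tt N4276 (iv F40136)) (tt N4847 (iv F42296)) (tt N4012 F39130) (tt N3290 (iv D9899)) (tt N4012 F39131) (tt N4850 D10737))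
theorem Q4014 : ∀ i, i < 4014 → P i := stepQ 4013 Q4013 (allL N4013 (tt N4834 (iv F42259)) (tt N3319 F39132) (tt N4013 F39133) (tt N4337 (iv F40425)) (tt N4848 (iv F42300)) (tt N3291 F39134) (tt N4850 (iv F42309)) (tt N4851 D10738) (tt N3290 (iv D9900)))
theorem Q4015 : ∀ i, i < 4015 → P i := stepQ 4014 Q4014 (allL N4014 (tt N4835 (iv F42262)) (tt N3320 F39135) (tt N4014 F39136) (tt N4852 D10739) (tt N3292 F39137) (tt N4851 (iv F42312)) (tt N4014 F39138) (tt N3291 (iv D9901)) (tt N4014 F39139))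
theorem Q4016 : ∀ i, i < 4016 → P i := stepQ 4015 Q4015 (allL N4015 (tt N4837 (iv F42270)) (tt N4414 (iv F40693)) (tt N3294 F39140) (tt N4843 (iv F42287)) (tt N4015 F39141) (tt N4342 (iv F40441)) (tt N4417 (iv F40708)) (tt N4853 D10740) (tt N3293 (iv D9902)))
theorem Q4017 : ∀ i, i < 4017 → P i := stepQ 4016 Q4016 (allL N4016 (tt N4838 (iv F42273)) (tt N3295 F39142) (tt N4853 (iv F42317)) (tt N4160 (iv F39678)) (tt N4016 F39143) (tt N4343 (iv F40444)) (tt N4420 (iv F40719)) (tt N3294 (iv D9903)) (tt N4016 F39144))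
theorem Q4018 : ∀ i, i < 4018 → P i := stepQ 4017 Q4017 (allL N4017 (tt N4813 (iv F42187)) (tt N3321 F39145) (tt N3296 (iv D9904)) (tt N3656 F39146) (tt N4017 F39147) (tt N4421 (iv F40724)) (tt N4567 (iv F41209)) (tt N4854 D10741) (tt N4169 (iv F39714)))
theorem Q4019 : ∀ i, i < 4019 → P i := stepQ 4018 Q4018 (allL N4018 (tt N4814 (iv F42191)) (tt N3303 F39148) (tt N4854 (iv F42321)) (tt N4855 D10742) (tt N4018 F39149) (tt N4423 (iv F40733)) (tt N4568 (iv F41211)) (tt N3296 (iv D9905)) (tt N4856 D10743))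
theorem Q4020 : ∀ i, i < 4020 → P i := stepQ 4019 Q4019 (allL N4019 (tt N4815 (iv F42194)) (tt N3304 F39150) (tt N4857 D10744) (tt N3297 (iv D9906)) (tt N4858 D10745) (tt N4425 (iv F40739)) (tt N4500 (iv F40984)) (tt N4855 (iv F42324)) (tt N4859 D10746))
theorem Q4021 : ∀ i, i < 4021 → P i := stepQ 4020 Q4020 (allL N4020 (tt N4816 (iv F42196)) (tt N3305 F39151) (tt N3662 F39152) (tt N4859 (iv F42331)) (tt N3299 F39153) (tt N4426 (iv F40743)) (tt N4516 (iv F41044)) (tt N4175 (iv F39734)) (tt N3297 (iv D9907)))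
theorem Q4022 : ∀ i, i < 4022 → P i := stepQ 4021 Q4021 (allL N4021 (tt N4817 (iv F42200)) (tt N3324 F39154) (tt N3298 (iv D9908)) (tt N3665 F39155) (tt N4860 D10747) (tt N3300 F39156) (tt N4573 (iv F41232)) (tt N4021 F39157) (tt N4861 D10748))
theorem Q4023 : ∀ i, i < 4023 → P i := stepQ 4022 Q4022 (allL N4022 (tt N4818 (iv F42205)) (tt N3306 F39158) (tt N4860 (iv F42333)) (tt N4858 (iv F42329)) (tt N3298 (iv D9909)) (tt N4862 D10749) (tt N4602 (iv F41355)) (tt N4022 F39159) (tt N4863 D10750))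
theorem Q4024 : ∀ i, i < 4024 → P i := stepQ 4023 Q4023 (allL N4023 (tt N4819 (iv F42208)) (tt N3307 F39160) (tt N4861 (iv F42336)) (tt N3299 F39161) (tt N4863 (iv F42343)) (tt N3302 F39162) (tt N4603 (iv F41360)) (tt N4864 D10751) (tt N3298 (iv D9910)))
theorem Q4025 : ∀ i, i < 4025 → P i := stepQ 4024 Q4024 (allL N4024 (tt N4820 (iv F42212)) (tt N3327 F39163) (tt N3301 F39164) (tt N4865 D10752) (tt N3300 (iv D9911)) (tt N4866 D10753) (tt N4024 F39165) (tt N4024 F39166) (tt N4867 D10754))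
theorem Q4026 : ∀ i, i < 4026 → P i := stepQ 4025 Q4025 (allL N4025 (tt N4821 (iv F42217)) (tt N3328 F39167) (tt N3302 F39168) (tt N3669 F39169) (tt N4867 (iv F42355)) (tt N4861 (iv F42338)) (tt N4025 F39170) (tt N4868 D10755) (tt N3300 (iv D9912)))
theorem Q4027 : ∀ i, i < 4027 → P i := stepQ 4026 Q4026 (allL N4026 (tt N4822 (iv F42222)) (tt N3308 F39171) (tt N4866 (iv F42351)) (tt N4434 (iv F40773)) (tt N4862 (iv F42340)) (tt N3301 (iv D9913)) (tt N4869 D10756) (tt N4026 F39172) (tt N4870 D10757))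
theorem Q4028 : ∀ i, i < 4028 → P i := stepQ 4027 Q4027 (allL N4027 (tt N4823 (iv F42225)) (tt N3309 F39173) (tt N4867 (iv F42354)) (tt N4435 (iv F40776)) (tt N3302 F39174) (tt N4870 (iv F42365)) (tt N4027 F39175) (tt N4871 D10758) (tt N3301 (iv D9914)))
theorem Q4029 : ∀ i, i < 4029 → P i := stepQ 4028 Q4028 (allL N4028 (tt N4824 (iv F42229)) (tt N3310 F39176) (tt N4868 (iv F42358)) (tt N4185 (iv F39766)) (tt N4871 (iv F42367)) (tt N4864 (iv F42345)) (tt N4028 F39177) (tt N3302 (iv D9915)) (tt N4028 F39178))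
theorem Q4030 : ∀ i, i < 4030 → P i := stepQ 4029 Q4029 (allL N4029 (tt N3311 F39179) (tt N4855 (iv F42323)) (tt N4493 (iv F40959)) (tt N3303 (iv D9916)) (tt N4872 D10759) (tt N4437 (iv F40784)) (tt N4495 (iv F40968)) (tt N3304 F39180) (tt N4873 D10760))
theorem Q4031 : ∀ i, i < 4031 → P i := stepQ 4030 Q4030 (allL N4030 (tt N3312 F39181) (tt N4856 (iv F42325)) (tt N3323 F39182) (tt N4873 (iv F42374)) (tt N4030 F39183) (tt N4438 (iv F40789)) (tt N4569 (iv F41216)) (tt N4189 (iv F39785)) (tt N3303 (iv D9917)))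
theorem Q4032 : ∀ i, i < 4032 → P i := stepQ 4031 Q4031 (allL N4031 (tt N3313 F39184) (tt N4858 (iv F42328)) (tt N4498 (iv F40976)) (tt N3306 F39185) (tt N3304 (iv D9918)) (tt N4874 D10761) (tt N4501 (iv F40988)) (tt N4872 (iv F42372)) (tt N4875 D10762))
theorem Q4033 : ∀ i, i < 4033 → P i := stepQ 4032 Q4032 (allL N4032 (tt N3314 F39186) (tt N4859 (iv F42330)) (tt N4499 (iv F40980)) (tt N3305 F39187) (tt N4875 (iv F42379)) (tt N4443 (iv F40805)) (tt N4502 (iv F40992)) (tt N4876 D10763) (tt N3304 (iv D9919)))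
theorem Q4034 : ∀ i, i < 4034 → P i := stepQ 4033 Q4033 (allL N4033 (tt N3315 F39188) (tt N4862 (iv F42339)) (tt N3332 F39189) (tt N4874 (iv F42376)) (tt N3308 F39190) (tt N3306 (iv D9920)) (tt N4877 D10764) (tt N4033 F39191) (tt N4878 D10765))
theorem Q4035 : ∀ i, i < 4035 → P i := stepQ 4034 Q4034 (allL N4034 (tt N3316 F39192) (tt N4863 (iv F42342)) (tt N3333 F39193) (tt N4875 (iv F42378)) (tt N3307 F39194) (tt N4878 (iv F42388)) (tt N4605 (iv F41368)) (tt N4879 D10766) (tt N3306 (iv D9921)))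
theorem Q4036 : ∀ i, i < 4036 → P i := stepQ 4035 Q4035 (allL N4035 (tt N3317 F39195) (tt N4864 (iv F42344)) (tt N3334 F39196) (tt N4200 (iv F39824)) (tt N4879 (iv F42391)) (tt N3310 F39197) (tt N4606 (iv F41372)) (tt N3307 (iv D9922)) (tt N4035 F39198))
theorem Q4037 : ∀ i, i < 4037 → P i := stepQ 4036 Q4036 (allL N4036 (tt N3318 F39199) (tt N4869 (iv F42361)) (tt N3335 F39200) (tt N4448 (iv F40827)) (tt N4877 (iv F42383)) (tt N4036 F39201) (tt N3308 (iv D9923)) (tt N4036 F39202) (tt N4880 D10767))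
theorem Q4038 : ∀ i, i < 4038 → P i := stepQ 4037 Q4037 (allL N4037 (tt N3319 F39203) (tt N4870 (iv F42364)) (tt N3336 F39204) (tt N4449 (iv F40832)) (tt N4878 (iv F42387)) (tt N3309 F39205) (tt N4880 (iv F42396)) (tt N4881 D10768) (tt N3308 (iv D9924)))
theorem Q4039 : ∀ i, i < 4039 → P i := stepQ 4038 Q4038 (allL N4038 (tt N3320 F39206) (tt N4871 (iv F42366)) (tt N3337 F39207) (tt N4882 D10769) (tt N3310 F39208) (tt N4881 (iv F42399)) (tt N4038 F39209) (tt N3309 (iv D9925)) (tt N4038 F39210))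
theorem Q4040 : ∀ i, i < 4040 → P i := stepQ 4039 Q4039 (allL N4039 (tt N4872 (iv F42370)) (tt N4840 (iv F42279)) (tt N4519 (iv F41052)) (tt N4039 F39211) (tt N3311 (iv D9926)) (tt N4883 D10770) (tt N4522 (iv F41064)) (tt N3313 F39212) (tt N4884 D10771))
theorem Q4041 : ∀ i, i < 4041 → P i := stepQ 4040 Q4040 (allL N4040 (tt N4873 (iv F42373)) (tt N4841 (iv F42282)) (tt N4520 (iv F41056)) (tt N3312 F39213) (tt N4884 (iv F42407)) (tt N4454 (iv F40851)) (tt N4523 (iv F41068)) (tt N4885 D10772) (tt N3311 (iv D9927)))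
theorem Q4042 : ∀ i, i < 4042 → P i := stepQ 4041 Q4041 (allL N4041 (tt N4874 (iv F42375)) (tt N4844 (iv F42288)) (tt N4527 (iv F41074)) (tt N3315 F39214) (tt N4458 (iv F40860)) (tt N3313 (iv D9928)) (tt N4886 D10773) (tt N4883 (iv F42405)) (tt N4887 D10774))
theorem Q4043 : ∀ i, i < 4043 → P i := stepQ 4042 Q4042 (allL N4042 (tt N4875 (iv F42377)) (tt N4845 (iv F42290)) (tt N4528 (iv F41076)) (tt N3316 F39215) (tt N3314 F39216) (tt N4887 (iv F42411)) (tt N4534 (iv F41095)) (tt N4888 D10775) (tt N3313 (iv D9929)))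
theorem Q4044 : ∀ i, i < 4044 → P i := stepQ 4043 Q4043 (allL N4043 (tt N4876 (iv F42380)) (tt N4846 (iv F42293)) (tt N4529 (iv F41080)) (tt N4226 (iv F39914)) (tt N4888 (iv F42412)) (tt N4460 (iv F40864)) (tt N4535 (iv F41097)) (tt N3314 (iv D9930)) (tt N4885 (iv F42408)))
theorem Q4045 : ∀ i, i < 4045 → P i := stepQ 4044 Q4044 (allL N4044 (tt N4877 (iv F42381)) (tt N4847 (iv F42294)) (tt N3338 F39217) (tt N4886 (iv F42409)) (tt N3318 F39218) (tt N4625 (iv F41452)) (tt N3315 (iv D9931)) (tt N4044 F39219) (tt N4889 D10776))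
theorem Q4046 : ∀ i, i < 4046 → P i := stepQ 4045 Q4045 (allL N4045 (tt N4878 (iv F42385)) (tt N4848 (iv F42298)) (tt N3339 F39220) (tt N4887 (iv F42410)) (tt N3319 F39221) (tt N3316 F39222) (tt N4889 (iv F42415)) (tt N4890 D10777) (tt N3315 (iv D9932)))
theorem Q4047 : ∀ i, i < 4047 → P i := stepQ 4046 Q4046 (allL N4046 (tt N4879 (iv F42389)) (tt N4849 (iv F42302)) (tt N3340 F39223) (tt N4891 D10778) (tt N3317 F39224) (tt N4890 (iv F42418)) (tt N4627 (iv F41459)) (tt N3316 (iv D9933)) (tt N4046 F39225))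
theorem Q4048 : ∀ i, i < 4048 → P i := stepQ 4047 Q4047 (allL N4047 (tt N4880 (iv F42393)) (tt N4850 (iv F42306)) (tt N3341 F39226) (tt N4462 (iv F40869)) (tt N4889 (iv F42414)) (tt N4047 F39227) (tt N3319 F39228) (tt N4892 D10779) (tt N3318 (iv D9934)))
theorem Q4049 : ∀ i, i < 4049 → P i := stepQ 4048 Q4048 (allL N4048 (tt N4881 (iv F42397)) (tt N4851 (iv F42310)) (tt N3342 F39229) (tt N4893 D10780) (tt N4890 (iv F42417)) (tt N3320 F39230) (tt N4892 (iv F42423)) (tt N3319 (iv D9935)) (tt N4048 F39231))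
theorem Q4050 : ∀ i, i < 4050 → P i := stepQ 4049 Q4049 (allL N4049 (tt N4882 (iv F42401)) (tt N4852 (iv F42314)) (tt N4894 D10781) (tt N3320 (iv D9936)) (tt N4235 (iv F39944)) (tt N4893 (iv F42425)) (tt N4049 F39232) (tt N4464 (iv F40877)) (tt N4049 F39233))
theorem Q4051 : ∀ i, i < 4051 → P i := stepQ 4050 Q4050 (allL N4050 (tt N4050 F39234) (tt N4854 (iv F42320)) (tt N3322 F39235) (tt N4895 D10782) (tt N4050 F39236) (tt N4550 (iv F41143)) (tt N4565 (iv F41199)) (tt N3321 (iv D9937)) (tt N4896 D10783))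
theorem Q4052 : ∀ i, i < 4052 → P i := stepQ 4051 Q4051 (allL N4051 (tt N4051 F39237) (tt N3323 F39238) (tt N4896 (iv F42433)) (tt N4564 (iv F41194)) (tt N4051 F39239) (tt N4553 (iv F41155)) (tt N4566 (iv F41205)) (tt N4248 (iv F40004)) (tt N3322 (iv D9938)))
theorem Q4053 : ∀ i, i < 4053 → P i := stepQ 4052 Q4052 (allL N4052 (tt N4052 F39240) (tt N4860 (iv F42332)) (tt N3325 F39241) (tt N4897 D10784) (tt N3324 (iv D9939)) (tt N4898 D10785) (tt N4574 (iv F41236)) (tt N4052 F39242) (tt N4899 D10786))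
theorem Q4054 : ∀ i, i < 4054 → P i := stepQ 4053 Q4053 (allL N4053 (tt N4053 F39243) (tt N4861 (iv F42335)) (tt N3326 F39244) (tt N3754 F39245) (tt N4899 (iv F42443)) (tt N3328 F39246) (tt N4575 (iv F41241)) (tt N4900 D10787) (tt N3324 (iv D9940)))
theorem Q4055 : ∀ i, i < 4055 → P i := stepQ 4054 Q4054 (allL N4054 (tt N4054 F39247) (tt N3332 F39248) (tt N4898 (iv F42438)) (tt N4581 (iv F41269)) (tt N3329 F39249) (tt N3325 (iv D9941)) (tt N4901 D10788) (tt N4054 F39250) (tt N4902 D10789))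
theorem Q4056 : ∀ i, i < 4056 → P i := stepQ 4055 Q4055 (allL N4055 (tt N4055 F39251) (tt N3333 F39252) (tt N4899 (iv F42442)) (tt N4582 (iv F41274)) (tt N3326 F39253) (tt N4902 (iv F42455)) (tt N4577 (iv F41251)) (tt N4903 D10790) (tt N3325 (iv D9942)))
theorem Q4057 : ∀ i, i < 4057 → P i := stepQ 4056 Q4056 (allL N4056 (tt N4056 F39254) (tt N3334 F39255) (tt N4900 (iv F42445)) (tt N4056 F39256) (tt N4903 (iv F42458)) (tt N3331 F39257) (tt N4578 (iv F41256)) (tt N3326 (iv D9943)) (tt N4056 F39258))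
theorem Q4058 : ∀ i, i < 4058 → P i := stepQ 4057 Q4057 (allL N4057 (tt N4057 F39259) (tt N4865 (iv F42347)) (tt N4057 F39260) (tt N3327 (iv D9944)) (tt N3758 F39261) (tt N4904 D10791) (tt N4057 F39262) (tt N4905 D10792) (tt N4906 D10793))
theorem Q4059 : ∀ i, i < 4059 → P i := stepQ 4058 Q4058 (allL N4058 (tt N4058 F39263) (tt N4866 (iv F42350)) (tt N3329 F39264) (tt N4904 (iv F42462)) (tt N4898 (iv F42439)) (tt N3327 (iv D9945)) (tt N4907 D10794) (tt N4058 F39265) (tt N4908 D10795))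
theorem Q4060 : ∀ i, i < 4060 → P i := stepQ 4059 Q4059 (allL N4059 (tt N4059 F39266) (tt N4867 (iv F42353)) (tt N3330 F39267) (tt N4906 (iv F42470)) (tt N3328 F39268) (tt N4908 (iv F42479)) (tt N4059 F39269) (tt N4909 D10796) (tt N3327 (iv D9946)))
theorem Q4061 : ∀ i, i < 4061 → P i := stepQ 4060 Q4060 (allL N4060 (tt N4060 F39270) (tt N4868 (iv F42357)) (tt N3331 F39271) (tt N4910 D10797) (tt N4909 (iv F42482)) (tt N4900 (iv F42446)) (tt N4060 F39272) (tt N3328 (iv D9947)) (tt N4060 F39273))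
theorem Q4062 : ∀ i, i < 4062 → P i := stepQ 4061 Q4061 (allL N4061 (tt N4061 F39274) (tt N3335 F39275) (tt N4907 (iv F42474)) (tt N4061 F39276) (tt N4901 (iv F42450)) (tt N4061 F39277) (tt N3329 (iv D9948)) (tt N4061 F39278) (tt N4911 D10798))
theorem Q4063 : ∀ i, i < 4063 → P i := stepQ 4062 Q4062 (allL N4062 (tt N4062 F39279) (tt N3336 F39280) (tt N4908 (iv F42478)) (tt N4062 F39281) (tt N4902 (iv F42454)) (tt N3330 F39282) (tt N4911 (iv F42494)) (tt N4912 D10799) (tt N3329 (iv D9949)))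
theorem Q4064 : ∀ i, i < 4064 → P i := stepQ 4063 Q4063 (allL N4063 (tt N4063 F39283) (tt N3337 F39284) (tt N4909 (iv F42481)) (tt N4913 D10800) (tt N3331 F39285) (tt N4912 (iv F42497)) (tt N4063 F39286) (tt N3330 (iv D9950)) (tt N4063 F39287))
theorem Q4065 : ∀ i, i < 4065 → P i := stepQ 4064 Q4064 (allL N4064 (tt N3338 F39288) (tt N4901 (iv F42449)) (tt N4877 (iv F42382)) (tt N4610 (iv F41388)) (tt N3335 F39289) (tt N4607 (iv F41377)) (tt N3332 (iv D9951)) (tt N4064 F39290) (tt N4914 D10801))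
theorem Q4066 : ∀ i, i < 4066 → P i := stepQ 4065 Q4065 (allL N4065 (tt N3339 F39291) (tt N4902 (iv F42453)) (tt N4878 (iv F42386)) (tt N4611 (iv F41393)) (tt N3336 F39292) (tt N3333 F39293) (tt N4914 (iv F42507)) (tt N4915 D10802) (tt N3332 (iv D9952)))
theorem Q4067 : ∀ i, i < 4067 → P i := stepQ 4066 Q4066 (allL N4066 (tt N3340 F39294) (tt N4903 (iv F42457)) (tt N4879 (iv F42390)) (tt N4916 D10803) (tt N3334 F39295) (tt N4915 (iv F42510)) (tt N4609 (iv F41385)) (tt N3333 (iv D9953)) (tt N4066 F39296))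
theorem Q4068 : ∀ i, i < 4068 → P i := stepQ 4067 Q4067 (allL N4067 (tt N3341 F39297) (tt N4911 (iv F42491)) (tt N4880 (iv F42394)) (tt N4067 F39298) (tt N4914 (iv F42506)) (tt N4067 F39299) (tt N3336 F39300) (tt N4917 D10804) (tt N3335 (iv D9954)))
theorem Q4069 : ∀ i, i < 4069 → P i := stepQ 4068 Q4068 (allL N4068 (tt N3342 F39301) (tt N4912 (iv F42496)) (tt N4881 (iv F42398)) (tt N4918 D10805) (tt N4915 (iv F42509)) (tt N3337 F39302) (tt N4917 (iv F42517)) (tt N3336 (iv D9955)) (tt N4068 F39303))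
theorem Q4070 : ∀ i, i < 4070 → P i := stepQ 4069 Q4069 (allL N4069 (tt N3343 F39304) (tt N4913 (iv F42500)) (tt N4919 D10806) (tt N3337 (iv D9956)) (tt N4069 F39305) (tt N4918 (iv F42520)) (tt N4069 F39306) (tt N4069 F39307) (tt N4069 F39308))
theorem Q4071 : ∀ i, i < 4071 → P i := stepQ 4070 Q4070 (allL N4070 (tt N4914 (iv F42505)) (tt N4070 F39309) (tt N4889 (iv F42413)) (tt N4631 (iv F41476)) (tt N3341 F39310) (tt N4628 (iv F41464)) (tt N3339 F39311) (tt N4920 D10807) (tt N3338 (iv D9957)))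
theorem Q4072 : ∀ i, i < 4072 → P i := stepQ 4071 Q4071 (allL N4071 (tt N4915 (iv F42508)) (tt N4071 F39312) (tt N4890 (iv F42416)) (tt N4921 D10808) (tt N3342 F39313) (tt N3340 F39314) (tt N4920 (iv F42530)) (tt N3339 (iv D9958)) (tt N4071 F39315))
theorem Q4073 : ∀ i, i < 4073 → P i := stepQ 4072 Q4072 (allL N4072 (tt N4916 (iv F42512)) (tt N4072 F39316) (tt N4922 D10809) (tt N3340 (iv D9959)) (tt N4072 F39317) (tt N4921 (iv F42533)) (tt N4630 (iv F41472)) (tt N4633 (iv F41487)) (tt N4072 F39318))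
theorem Q4074 : ∀ i, i < 4074 → P i := stepQ 4073 Q4073 (allL N4073 (tt N4917 (iv F42515)) (tt N4073 F39319) (tt N4892 (iv F42421)) (tt N4923 D10810) (tt N4920 (iv F42529)) (tt N4073 F39320) (tt N3342 F39321) (tt N3341 (iv D9960)) (tt N4073 F39322))
theorem Q4075 : ∀ i, i < 4075 → P i := stepQ 4074 Q4074 (allL N4074 (tt N4918 (iv F42519)) (tt N4074 F39323) (tt N4924 D10811) (tt N3342 (iv D9961)) (tt N4925 D10812) (tt N3343 F39324) (tt N4923 (iv F42539)) (tt N4074 F39325) (tt N4074 F39326))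
theorem Q4076 : ∀ i, i < 4076 → P i := stepQ 4075 Q4075 (allL N4075 (tt N4919 (iv F42523)) (tt N4926 D10813) (tt N3343 (iv D9962)) (tt N4894 (iv F42427)) (tt N4075 F39327) (tt N4924 (iv F42542)) (tt N4075 F39328) (tt N4075 F39329) (tt N4075 F39330))
theorem Q4077 : ∀ i, i < 4077 → P i := stepQ 4076 Q4076 (allL N4076 (tt N4076 F39331) (tt N3346 F39332) (tt N4281 (iv F40156)) (tt N3980 (iv F39336)) (tt N3344 (iv D9963)) (tt N4076 F39333) (tt N3981 F39334) (tt N4927 D10814) (tt N4076 F39335))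
theorem Q4078 : ∀ i, i < 4078 → P i := stepQ 4077 Q4077 (allL N4077 (tt N4077 F39337) (tt N3348 F39338) (tt N4282 (iv F40163)) (tt N4928 D10815) (tt N4927 (iv F42557)) (tt N3345 F39339) (tt N4750 (iv F41917)) (tt N3344 (iv D9964)) (tt N4929 D10816))
theorem Q4079 : ∀ i, i < 4079 → P i := stepQ 4078 Q4078 (allL N4078 (tt N4078 F39340) (tt N3349 F39341) (tt N4930 D10817) (tt N3345 (iv D9965)) (tt N4931 D10818) (tt N4928 (iv F42562)) (tt N4078 F39342) (tt N4078 F39343) (tt N4932 D10819))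
theorem Q4080 : ∀ i, i < 4080 → P i := stepQ 4079 Q4079 (allL N4079 (tt N4079 F39344) (tt N3350 F39345) (tt N4284 (iv F40174)) (tt N4932 (iv F42579)) (tt N4079 F39346) (tt N4929 (iv F42566)) (tt N4079 F39347) (tt N4079 F39348) (tt N3345 (iv D9966)))
theorem Q4081 : ∀ i, i < 4081 → P i := stepQ 4080 Q4080 (allL N4080 (tt N3355 F39349) (tt N4927 (iv F42555)) (tt N3352 F39350) (tt N3961 F39351) (tt N3348 F39352) (tt N4080 F39353) (tt N3962 F39354) (tt N3346 (iv D9967)) (tt N4933 D10820))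
theorem Q4082 : ∀ i, i < 4082 → P i := stepQ 4081 Q4081 (allL N4081 (tt N3356 F39355) (tt N4750 (iv F41915)) (tt N3353 F39356) (tt N4934 D10821) (tt N3962 F39357) (tt N4081 F39358) (tt N3348 F39359) (tt N3347 (iv D9968)) (tt N4935 D10822))
theorem Q4083 : ∀ i, i < 4083 → P i := stepQ 4082 Q4082 (allL N4082 (tt N3357 F39360) (tt N4928 (iv F42561)) (tt N3379 F39361) (tt N3348 (iv D9969)) (tt N4936 D10823) (tt N3349 F39362) (tt N4934 (iv F42592)) (tt N4082 F39363) (tt N4937 D10824))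
theorem Q4084 : ∀ i, i < 4084 → P i := stepQ 4083 Q4083 (allL N4083 (tt N3358 F39364) (tt N4929 (iv F42565)) (tt N3354 F39365) (tt N4937 (iv F42607)) (tt N4933 (iv F42584)) (tt N3350 F39366) (tt N4935 (iv F42598)) (tt N4083 F39367) (tt N3348 (iv D9970)))
theorem Q4085 : ∀ i, i < 4085 → P i := stepQ 4084 Q4084 (allL N4084 (tt N3359 F39368) (tt N4931 (iv F42573)) (tt N3381 F39369) (tt N4084 F39370) (tt N3349 (iv D9971)) (tt N4938 D10825) (tt N4084 F39371) (tt N4084 F39372) (tt N4939 D10826))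
theorem Q4086 : ∀ i, i < 4086 → P i := stepQ 4085 Q4085 (allL N4085 (tt N3360 F39373) (tt N4932 (iv F42578)) (tt N3382 F39374) (tt N3350 F39375) (tt N4939 (iv F42616)) (tt N4937 (iv F42608)) (tt N4085 F39376) (tt N4940 D10827) (tt N3349 (iv D9972)))
theorem Q4087 : ∀ i, i < 4087 → P i := stepQ 4086 Q4086 (allL N4086 (tt N3361 F39377) (tt N4289 (iv F40201)) (tt N3962 F39378) (tt N4941 D10828) (tt N3353 F39379) (tt N3963 F39380) (tt N3352 F39381) (tt N3351 (iv D9973)) (tt N4942 D10829))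
theorem Q4088 : ∀ i, i < 4088 → P i := stepQ 4087 Q4087 (allL N4087 (tt N3362 F39382) (tt N4290 (iv F40206)) (tt N4943 D10830) (tt N3352 (iv D9974)) (tt N3385 F39383) (tt N4087 F39384) (tt N4941 (iv F42627)) (tt N4087 F39385) (tt N4944 D10831))
theorem Q4089 : ∀ i, i < 4089 → P i := stepQ 4088 Q4088 (allL N4088 (tt N3363 F39386) (tt N4291 (iv F40211)) (tt N4933 (iv F42582)) (tt N4944 (iv F42642)) (tt N3354 F39387) (tt N4088 F39388) (tt N4942 (iv F42633)) (tt N4088 F39389) (tt N3352 (iv D9975)))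
theorem Q4090 : ∀ i, i < 4090 → P i := stepQ 4089 Q4089 (allL N4089 (tt N3364 F39390) (tt N4292 (iv F40216)) (tt N4935 (iv F42595)) (tt N3387 F39391) (tt N4942 (iv F42631)) (tt N4089 F39392) (tt N3354 F39393) (tt N4089 F39394) (tt N3353 (iv D9976)))
theorem Q4091 : ∀ i, i < 4091 → P i := stepQ 4090 Q4090 (allL N4090 (tt N4933 (iv F42581)) (tt N4090 F39395) (tt N3363 F39396) (tt N3797 F39397) (tt N3358 F39398) (tt N4090 F39399) (tt N3798 F39400) (tt N4090 F39401) (tt N3355 (iv D9977)))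
theorem Q4092 : ∀ i, i < 4092 → P i := stepQ 4091 Q4091 (allL N4091 (tt N4934 (iv F42588)) (tt N4091 F39402) (tt N3394 F39403) (tt N3356 (iv D9978)) (tt N3968 F39404) (tt N4091 F39405) (tt N3357 F39406) (tt N4091 F39407) (tt N4945 D10832))
theorem Q4093 : ∀ i, i < 4093 → P i := stepQ 4092 Q4092 (allL N4092 (tt N4935 (iv F42594)) (tt N4092 F39408) (tt N3364 F39409) (tt N4945 (iv F42647)) (tt N3798 F39410) (tt N4092 F39411) (tt N3358 F39412) (tt N4092 F39413) (tt N3356 (iv D9979)))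
theorem Q4094 : ∀ i, i < 4094 → P i := stepQ 4093 Q4093 (allL N4093 (tt N4936 (iv F42600)) (tt N4093 F39414) (tt N3396 F39415) (tt N3967 F39416) (tt N3357 (iv D9980)) (tt N4946 D10833) (tt N3968 F39417) (tt N4093 F39418) (tt N4947 D10834))
theorem Q4095 : ∀ i, i < 4095 → P i := stepQ 4094 Q4094 (allL N4094 (tt N4937 (iv F42605)) (tt N4094 F39419) (tt N3397 F39420) (tt N3358 F39421) (tt N4947 (iv F42660)) (tt N3360 F39422) (tt N4945 (iv F42650)) (tt N4948 D10835) (tt N3357 (iv D9981)))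
theorem Q4096 : ∀ i, i < 4096 → P i := stepQ 4095 Q4095 (allL N4095 (tt N4938 (iv F42609)) (tt N4095 F39423) (tt N3398 F39424) (tt N4095 F39425) (tt N4946 (iv F42654)) (tt N3359 (iv D9982)) (tt N4949 D10836) (tt N4095 F39426) (tt N4950 D10837))
theorem Q4097 : ∀ i, i < 4097 → P i := stepQ 4096 Q4096 (allL N4096 (tt N4939 (iv F42613)) (tt N4096 F39427) (tt N3399 F39428) (tt N4096 F39429) (tt N3360 F39430) (tt N4950 (iv F42676)) (tt N4096 F39431) (tt N4951 D10838) (tt N3359 (iv D9983)))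
theorem Q4098 : ∀ i, i < 4098 → P i := stepQ 4097 Q4097 (allL N4097 (tt N4940 (iv F42618)) (tt N4097 F39432) (tt N3400 F39433) (tt N4097 F39434) (tt N4951 (iv F42679)) (tt N4948 (iv F42665)) (tt N4097 F39435) (tt N3360 (iv D9984)) (tt N4097 F39436))
theorem Q4099 : ∀ i, i < 4099 → P i := stepQ 4098 Q4098 (allL N4098 (tt N4941 (iv F42623)) (tt N3366 F39437) (tt N3902 F39438) (tt N3361 (iv D9985)) (tt N3402 F39439) (tt N3903 F39440) (tt N3362 F39441) (tt N4098 F39442) (tt N4952 D10839))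
theorem Q4100 : ∀ i, i < 4100 → P i := stepQ 4099 Q4099 (allL N4099 (tt N4942 (iv F42629)) (tt N3367 F39443) (tt N3798 F39444) (tt N4952 (iv F42684)) (tt N3364 F39445) (tt N3799 F39446) (tt N3363 F39447) (tt N4099 F39448) (tt N3361 (iv D9986)))
theorem Q4101 : ∀ i, i < 4101 → P i := stepQ 4100 Q4100 (allL N4100 (tt N4943 (iv F42635)) (tt N4953 D10840) (tt N3362 (iv D9987)) (tt N3901 F39449) (tt N3404 F39450) (tt N4100 F39451) (tt N3902 F39452) (tt N4100 F39453) (tt N4954 D10841))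
theorem Q4102 : ∀ i, i < 4102 → P i := stepQ 4101 Q4101 (allL N4101 (tt N4944 (iv F42641)) (tt N3369 F39454) (tt N4954 (iv F42694)) (tt N3363 F39455) (tt N3405 F39456) (tt N4101 F39457) (tt N4952 (iv F42687)) (tt N4955 D10842) (tt N3362 (iv D9988)))
theorem Q4103 : ∀ i, i < 4103 → P i := stepQ 4102 Q4102 (allL N4102 (tt N4300 (iv F40255)) (tt N3903 F39458) (tt N4956 D10843) (tt N3365 (iv D9989)) (tt N4957 D10844) (tt N3366 F39459) (tt N4102 F39460) (tt N4102 F39461) (tt N4958 D10845))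
theorem Q4104 : ∀ i, i < 4104 → P i := stepQ 4103 Q4103 (allL N4103 (tt N4301 (iv F40259)) (tt N3799 F39462) (tt N4103 F39463) (tt N4958 (iv F42718)) (tt N4103 F39464) (tt N3367 F39465) (tt N4103 F39466) (tt N4103 F39467) (tt N3365 (iv D9990)))
theorem Q4105 : ∀ i, i < 4105 → P i := stepQ 4104 Q4104 (allL N4104 (tt N4161 (iv F39681)) (tt N4959 D10846) (tt N3366 (iv D9991)) (tt N4104 F39468) (tt N3408 F39469) (tt N4956 (iv F42706)) (tt N3368 F39470) (tt N4104 F39471) (tt N4960 D10847))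
theorem Q4106 : ∀ i, i < 4106 → P i := stepQ 4105 Q4105 (allL N4105 (tt N4302 (iv F40265)) (tt N4952 (iv F42682)) (tt N4960 (iv F42727)) (tt N3367 F39472) (tt N3409 F39473) (tt N4958 (iv F42719)) (tt N3369 F39474) (tt N4961 D10848) (tt N3366 (iv D9992)))
theorem Q4107 : ∀ i, i < 4107 → P i := stepQ 4106 Q4106 (allL N4106 (tt N4962 D10849) (tt N3368 (iv D9993)) (tt N4953 (iv F42688)) (tt N4106 F39475) (tt N3410 F39476) (tt N4106 F39477) (tt N4959 (iv F42725)) (tt N4106 F39478) (tt N4963 D10850))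
theorem Q4108 : ∀ i, i < 4108 → P i := stepQ 4107 Q4107 (allL N4107 (tt N4304 (iv F40273)) (tt N4963 (iv F42739)) (tt N3369 F39479) (tt N4107 F39480) (tt N3411 F39481) (tt N4107 F39482) (tt N4960 (iv F42730)) (tt N4964 D10851) (tt N3368 (iv D9994)))
theorem Q4109 : ∀ i, i < 4109 → P i := stepQ 4108 Q4108 (allL N4108 (tt N4305 (iv F40278)) (tt N4955 (iv F42699)) (tt N4964 (iv F42743)) (tt N4108 F39483) (tt N3412 F39484) (tt N4108 F39485) (tt N4961 (iv F42733)) (tt N3369 (iv D9995)) (tt N4108 F39486))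
theorem Q4110 : ∀ i, i < 4110 → P i := stepQ 4109 Q4109 (allL N4109 (tt N3413 F39487) (tt N3375 F39488) (tt N4965 D10852) (tt N3370 (iv D9996)) (tt N4109 F39489) (tt N3562 F39490) (tt N4966 D10853) (tt N4967 D10854) (tt N3987 F39491))
theorem Q4111 : ∀ i, i < 4111 → P i := stepQ 4110 Q4110 (allL N4110 (tt N3414 F39492) (tt N3376 F39493) (tt N4307 (iv F40291)) (tt N4966 (iv F42754)) (tt N3371 F39494) (tt N4968 D10855) (tt N3370 (iv D9997)) (tt N4969 D10856) (tt N3743 F39495))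
theorem Q4112 : ∀ i, i < 4112 → P i := stepQ 4111 Q4111 (allL N4111 (tt N3415 F39496) (tt N3377 F39497) (tt N4308 (iv F40297)) (tt N4970 D10857) (tt N3372 F39498) (tt N3564 F39499) (tt N4969 (iv F42769)) (tt N3370 (iv D9998)) (tt N4971 D10858))
theorem Q4113 : ∀ i, i < 4113 → P i := stepQ 4112 Q4112 (allL N4112 (tt N3416 F39500) (tt N3378 F39501) (tt N4309 (iv F40302)) (tt N4972 D10859) (tt N4969 (iv F42768)) (tt N4112 F39502) (tt N3372 F39503) (tt N3371 (iv D9999)) (tt N4973 D10860))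
theorem Q4114 : ∀ i, i < 4114 → P i := stepQ 4113 Q4113 (allL N4113 (tt N3417 F39504) (tt N3379 F39505) (tt N4974 D10861) (tt N3372 (iv D10000)) (tt N4975 D10862) (tt N3373 F39506) (tt N4972 (iv F42781)) (tt N4113 F39507) (tt N4976 D10863))
theorem Q4115 : ∀ i, i < 4115 → P i := stepQ 4114 Q4114 (allL N4114 (tt N3418 F39508) (tt N3380 F39509) (tt N4311 (iv F40313)) (tt N4976 (iv F42796)) (tt N4971 (iv F42775)) (tt N3374 F39510) (tt N4973 (iv F42786)) (tt N3990 F39511) (tt N3372 (iv D10001)))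
theorem Q4116 : ∀ i, i < 4116 → P i := stepQ 4115 Q4115 (allL N4115 (tt N3419 F39512) (tt N4930 (iv F42569)) (tt N3373 (iv D10002)) (tt N4312 (iv F40317)) (tt N4977 D10864) (tt N4974 (iv F42789)) (tt N4115 F39513) (tt N4115 F39514) (tt N4978 D10865))
theorem Q4117 : ∀ i, i < 4117 → P i := stepQ 4116 Q4116 (allL N4116 (tt N3420 F39515) (tt N3381 F39516) (tt N4977 (iv F42799)) (tt N3569 F39517) (tt N3373 (iv D10003)) (tt N4979 D10866) (tt N4116 F39518) (tt N4116 F39519) (tt N4980 D10867))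
theorem Q4118 : ∀ i, i < 4118 → P i := stepQ 4117 Q4117 (allL N4117 (tt N3421 F39520) (tt N3382 F39521) (tt N4978 (iv F42803)) (tt N3374 F39522) (tt N4980 (iv F42812)) (tt N4976 (iv F42797)) (tt N4117 F39523) (tt N4981 D10868) (tt N3373 (iv D10004)))
theorem Q4119 : ∀ i, i < 4119 → P i := stepQ 4118 Q4118 (allL N4118 (tt N3388 F39524) (tt N4966 (iv F42753)) (tt N4118 F39525) (tt N3376 F39526) (tt N4118 F39527) (tt N4982 D10869) (tt N3375 (iv D10005)) (tt N4983 D10870) (tt N3746 F39528))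
theorem Q4120 : ∀ i, i < 4120 → P i := stepQ 4119 Q4119 (allL N4119 (tt N3389 F39529) (tt N4967 (iv F42758)) (tt N4119 F39530) (tt N4984 D10871) (tt N4119 F39531) (tt N3572 F39532) (tt N4983 (iv F42828)) (tt N3375 (iv D10006)) (tt N4985 D10872))
theorem Q4121 : ∀ i, i < 4121 → P i := stepQ 4120 Q4120 (allL N4120 (tt N3390 F39533) (tt N4968 (iv F42762)) (tt N3383 F39534) (tt N4982 (iv F42821)) (tt N4120 F39535) (tt N3376 (iv D10007)) (tt N3573 F39536) (tt N4986 D10873) (tt N3501 F39537))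
theorem Q4122 : ∀ i, i < 4122 → P i := stepQ 4121 Q4121 (allL N4121 (tt N3391 F39538) (tt N4969 (iv F42767)) (tt N3384 F39539) (tt N4987 D10874) (tt N3378 F39540) (tt N4986 (iv F42840)) (tt N3377 F39541) (tt N3376 (iv D10008)) (tt N4988 D10875))
theorem Q4123 : ∀ i, i < 4123 → P i := stepQ 4122 Q4122 (allL N4122 (tt N3392 F39542) (tt N4970 (iv F42771)) (tt N4989 D10876) (tt N3377 (iv D10009)) (tt N4990 D10877) (tt N3575 F39543) (tt N4987 (iv F42843)) (tt N4984 (iv F42831)) (tt N4991 D10878))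
theorem Q4124 : ∀ i, i < 4124 → P i := stepQ 4123 Q4123 (allL N4123 (tt N3393 F39544) (tt N4971 (iv F42774)) (tt N3386 F39545) (tt N4991 (iv F42855)) (tt N3380 F39546) (tt N3576 F39547) (tt N4988 (iv F42847)) (tt N3996 F39548) (tt N3377 (iv D10010)))
theorem Q4125 : ∀ i, i < 4125 → P i := stepQ 4124 Q4124 (allL N4124 (tt N3394 F39549) (tt N4972 (iv F42779)) (tt N4934 (iv F42589)) (tt N3378 (iv D10011)) (tt N4992 D10879) (tt N4124 F39550) (tt N3379 F39551) (tt N4124 F39552) (tt N4993 D10880))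
theorem Q4126 : ∀ i, i < 4126 → P i := stepQ 4125 Q4125 (allL N4125 (tt N3395 F39553) (tt N4973 (iv F42784)) (tt N3387 F39554) (tt N4993 (iv F42863)) (tt N4988 (iv F42846)) (tt N4125 F39555) (tt N3380 F39556) (tt N3800 F39557) (tt N3378 (iv D10012)))
theorem Q4127 : ∀ i, i < 4127 → P i := stepQ 4126 Q4126 (allL N4126 (tt N3396 F39558) (tt N4975 (iv F42792)) (tt N4936 (iv F42601)) (tt N4990 (iv F42853)) (tt N3379 (iv D10013)) (tt N4994 D10881) (tt N4992 (iv F42859)) (tt N4126 F39559) (tt N4995 D10882))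
theorem Q4128 : ∀ i, i < 4128 → P i := stepQ 4127 Q4127 (allL N4127 (tt N3397 F39560) (tt N4976 (iv F42795)) (tt N4937 (iv F42606)) (tt N3380 F39561) (tt N4995 (iv F42870)) (tt N3382 F39562) (tt N4993 (iv F42865)) (tt N4996 D10883) (tt N3379 (iv D10014)))
theorem Q4129 : ∀ i, i < 4129 → P i := stepQ 4128 Q4128 (allL N4128 (tt N3398 F39563) (tt N4979 (iv F42806)) (tt N4938 (iv F42610)) (tt N3581 F39564) (tt N4994 (iv F42867)) (tt N3381 (iv D10015)) (tt N4997 D10884) (tt N4128 F39565) (tt N4998 D10885))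
theorem Q4130 : ∀ i, i < 4130 → P i := stepQ 4129 Q4129 (allL N4129 (tt N3399 F39566) (tt N4980 (iv F42810)) (tt N4939 (iv F42614)) (tt N3582 F39567) (tt N3382 F39568) (tt N4998 (iv F42881)) (tt N4129 F39569) (tt N4999 D10886) (tt N3381 (iv D10016)))
theorem Q4131 : ∀ i, i < 4131 → P i := stepQ 4130 Q4130 (allL N4130 (tt N3400 F39570) (tt N4981 (iv F42815)) (tt N4940 (iv F42619)) (tt N4001 F39571) (tt N4999 (iv F42883)) (tt N4996 (iv F42873)) (tt N4130 F39572) (tt N3382 (iv D10017)) (tt N4130 F39573))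
theorem Q4132 : ∀ i, i < 4132 → P i := stepQ 4131 Q4131 (allL N4131 (tt N3401 F39574) (tt N4240 (iv F39966)) (tt N4986 (iv F42838)) (tt N5000 D10887) (tt N4131 F39575) (tt N3384 F39576) (tt N3584 F39577) (tt N3383 (iv D10018)) (tt N5001 D10888))
theorem Q4133 : ∀ i, i < 4133 → P i := stepQ 4132 Q4132 (allL N4132 (tt N3402 F39578) (tt N4325 (iv F40375)) (tt N5002 D10889) (tt N3384 (iv D10019)) (tt N4941 (iv F42625)) (tt N5000 (iv F42887)) (tt N3385 F39579) (tt N4132 F39580) (tt N5003 D10890))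
theorem Q4134 : ∀ i, i < 4134 → P i := stepQ 4133 Q4133 (allL N4133 (tt N3403 F39581) (tt N4326 (iv F40379)) (tt N4988 (iv F42845)) (tt N5003 (iv F42900)) (tt N3387 F39582) (tt N5001 (iv F42892)) (tt N3386 F39583) (tt N3718 F39584) (tt N3384 (iv D10020)))
theorem Q4135 : ∀ i, i < 4135 → P i := stepQ 4134 Q4134 (allL N4134 (tt N3404 F39585) (tt N5004 D10891) (tt N3385 (iv D10021)) (tt N4989 (iv F42850)) (tt N4943 (iv F42637)) (tt N3587 F39586) (tt N5002 (iv F42897)) (tt N4134 F39587) (tt N5005 D10892))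
theorem Q4136 : ∀ i, i < 4136 → P i := stepQ 4135 Q4135 (allL N4135 (tt N3405 F39588) (tt N4328 (iv F40387)) (tt N5005 (iv F42905)) (tt N3386 F39589) (tt N4944 (iv F42643)) (tt N3588 F39590) (tt N5003 (iv F42901)) (tt N5006 D10893) (tt N3385 (iv D10022)))
theorem Q4137 : ∀ i, i < 4137 → P i := stepQ 4136 Q4136 (allL N4136 (tt N4982 (iv F42819)) (tt N3440 F39591) (tt N4136 F39592) (tt N3390 F39593) (tt N3859 (iv F39596)) (tt N3388 (iv D10023)) (tt N3589 F39594) (tt N5007 D10894) (tt N3498 F39595))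
theorem Q4138 : ∀ i, i < 4138 → P i := stepQ 4137 Q4137 (allL N4137 (tt N4983 (iv F42825)) (tt N3441 F39597) (tt N4137 F39598) (tt N5008 D10895) (tt N4137 F39599) (tt N5007 (iv F42914)) (tt N3389 F39600) (tt N3388 (iv D10024)) (tt N5009 D10896))
theorem Q4139 : ∀ i, i < 4139 → P i := stepQ 4138 Q4138 (allL N4138 (tt N4984 (iv F42829)) (tt N3442 F39601) (tt N5010 D10897) (tt N3389 (iv D10025)) (tt N5011 D10898) (tt N3591 F39602) (tt N5008 (iv F42917)) (tt N3392 F39603) (tt N5012 D10899))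
theorem Q4140 : ∀ i, i < 4140 → P i := stepQ 4139 Q4139 (allL N4139 (tt N4985 (iv F42832)) (tt N3443 F39604) (tt N4139 F39605) (tt N5012 (iv F42931)) (tt N4139 F39606) (tt N3592 F39607) (tt N5009 (iv F42922)) (tt N4005 F39608) (tt N3389 (iv D10026)))
theorem Q4141 : ∀ i, i < 4141 → P i := stepQ 4140 Q4140 (allL N4140 (tt N4986 (iv F42837)) (tt N3444 F39609) (tt N3401 F39610) (tt N5013 D10900) (tt N4140 F39611) (tt N3391 F39612) (tt N3593 F39613) (tt N3390 (iv D10027)) (tt N5014 D10901))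
theorem Q4142 : ∀ i, i < 4142 → P i := stepQ 4141 Q4141 (allL N4141 (tt N4987 (iv F42842)) (tt N3445 F39614) (tt N5015 D10902) (tt N3391 (iv D10028)) (tt N5016 D10903) (tt N5013 (iv F42934)) (tt N3392 F39615) (tt N5008 (iv F42918)) (tt N5017 D10904))
theorem Q4143 : ∀ i, i < 4143 → P i := stepQ 4142 Q4142 (allL N4142 (tt N4988 (iv F42844)) (tt N3446 F39616) (tt N3403 F39617) (tt N5017 (iv F42951)) (tt N3395 F39618) (tt N5014 (iv F42939)) (tt N3393 F39619) (tt N3717 F39620) (tt N3391 (iv D10029)))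
theorem Q4144 : ∀ i, i < 4144 → P i := stepQ 4143 Q4143 (allL N4143 (tt N4989 (iv F42849)) (tt N5018 D10905) (tt N3392 (iv D10030)) (tt N3404 F39621) (tt N5019 D10906) (tt N3596 F39622) (tt N5015 (iv F42943)) (tt N5010 (iv F42926)) (tt N5020 D10907))
theorem Q4145 : ∀ i, i < 4145 → P i := stepQ 4144 Q4144 (allL N4144 (tt N4990 (iv F42852)) (tt N3448 F39623) (tt N5019 (iv F42956)) (tt N3396 F39624) (tt N3392 (iv D10031)) (tt N5021 D10908) (tt N5016 (iv F42948)) (tt N5011 (iv F42929)) (tt N5022 D10909))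
theorem Q4146 : ∀ i, i < 4146 → P i := stepQ 4145 Q4145 (allL N4145 (tt N4991 (iv F42854)) (tt N3449 F39625) (tt N5020 (iv F42959)) (tt N3393 F39626) (tt N5022 (iv F42967)) (tt N3598 F39627) (tt N5017 (iv F42952)) (tt N5023 D10910) (tt N3392 (iv D10032)))
theorem Q4147 : ∀ i, i < 4147 → P i := stepQ 4146 Q4146 (allL N4146 (tt N4992 (iv F42857)) (tt N3450 F39628) (tt N3968 F39629) (tt N5016 (iv F42947)) (tt N3394 (iv D10033)) (tt N3969 (iv F39632)) (tt N3396 F39630) (tt N4146 F39631) (tt N5024 D10911))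
theorem Q4148 : ∀ i, i < 4148 → P i := stepQ 4147 Q4147 (allL N4147 (tt N4993 (iv F42862)) (tt N3451 F39633) (tt N4945 (iv F42646)) (tt N3395 F39634) (tt N5024 (iv F42973)) (tt N4147 F39635) (tt N3397 F39636) (tt N5025 D10912) (tt N3394 (iv D10034)))
theorem Q4149 : ∀ i, i < 4149 → P i := stepQ 4148 Q4148 (allL N4148 (tt N4994 (iv F42866)) (tt N3452 F39637) (tt N4946 (iv F42652)) (tt N5021 (iv F42963)) (tt N3398 F39638) (tt N3396 (iv D10035)) (tt N5026 D10913) (tt N4148 F39639) (tt N5027 D10914))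
theorem Q4150 : ∀ i, i < 4150 → P i := stepQ 4149 Q4149 (allL N4149 (tt N4995 (iv F42869)) (tt N3453 F39640) (tt N4947 (iv F42658)) (tt N5022 (iv F42966)) (tt N3397 F39641) (tt N5027 (iv F42988)) (tt N5024 (iv F42975)) (tt N5028 D10915) (tt N3396 (iv D10036)))
theorem Q4151 : ∀ i, i < 4151 → P i := stepQ 4150 Q4150 (allL N4150 (tt N4996 (iv F42871)) (tt N3454 F39642) (tt N4948 (iv F42663)) (tt N4011 F39643) (tt N5028 (iv F42990)) (tt N3400 F39644) (tt N5025 (iv F42979)) (tt N3397 (iv D10037)) (tt N4150 F39645))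
theorem Q4152 : ∀ i, i < 4152 → P i := stepQ 4151 Q4151 (allL N4151 (tt N4997 (iv F42875)) (tt N3455 F39646) (tt N4949 (iv F42668)) (tt N3604 F39647) (tt N5026 (iv F42983)) (tt N4151 F39648) (tt N3398 (iv D10038)) (tt N4151 F39649) (tt N5029 D10916))
theorem Q4153 : ∀ i, i < 4153 → P i := stepQ 4152 Q4152 (allL N4152 (tt N4998 (iv F42879)) (tt N3456 F39650) (tt N4950 (iv F42674)) (tt N3605 F39651) (tt N5027 (iv F42987)) (tt N3399 F39652) (tt N5029 (iv F42995)) (tt N5030 D10917) (tt N3398 (iv D10039)))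
theorem Q4154 : ∀ i, i < 4154 → P i := stepQ 4153 Q4153 (allL N4153 (tt N4999 (iv F42882)) (tt N3457 F39653) (tt N4951 (iv F42678)) (tt N5031 D10918) (tt N3400 F39654) (tt N5030 (iv F42997)) (tt N4153 F39655) (tt N3399 (iv D10040)) (tt N4153 F39656))
theorem Q4155 : ∀ i, i < 4155 → P i := stepQ 4154 Q4154 (allL N4154 (tt N5000 (iv F42886)) (tt N3406 F39657) (tt N5032 D10919) (tt N3401 (iv D10041)) (tt N5033 D10920) (tt N3402 F39658) (tt N3559 F39659) (tt N4154 F39660) (tt N5034 D10921))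
theorem Q4156 : ∀ i, i < 4156 → P i := stepQ 4155 Q4155 (allL N4155 (tt N5001 (iv F42890)) (tt N3407 F39661) (tt N5014 (iv F42937)) (tt N5034 (iv F43016)) (tt N4155 F39662) (tt N3403 F39663) (tt N3607 F39664) (tt N3466 F39665) (tt N3401 (iv D10042)))
theorem Q4157 : ∀ i, i < 4157 → P i := stepQ 4156 Q4156 (allL N4156 (tt N5002 (iv F42895)) (tt N5035 D10922) (tt N3402 (iv D10043)) (tt N5015 (iv F42942)) (tt N3902 F39666) (tt N5032 (iv F43005)) (tt N3404 F39667) (tt N4156 F39668) (tt N5036 D10923))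
theorem Q4158 : ∀ i, i < 4158 → P i := stepQ 4157 Q4157 (allL N4157 (tt N5003 (iv F42899)) (tt N3409 F39669) (tt N5036 (iv F43024)) (tt N3403 F39670) (tt N4952 (iv F42685)) (tt N5034 (iv F43017)) (tt N3405 F39671) (tt N5037 D10924) (tt N3402 (iv D10044)))
theorem Q4159 : ∀ i, i < 4159 → P i := stepQ 4158 Q4158 (allL N4158 (tt N5038 D10925) (tt N3404 (iv D10045)) (tt N3410 F39672) (tt N5018 (iv F42954)) (tt N4953 (iv F42690)) (tt N3610 F39673) (tt N5035 (iv F43022)) (tt N4158 F39674) (tt N5039 D10926))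
theorem Q4160 : ∀ i, i < 4160 → P i := stepQ 4159 Q4159 (allL N4159 (tt N5005 (iv F42904)) (tt N5039 (iv F43034)) (tt N3405 F39675) (tt N5020 (iv F42960)) (tt N4954 (iv F42696)) (tt N3611 F39676) (tt N5036 (iv F43026)) (tt N5040 D10927) (tt N3404 (iv D10046)))
theorem Q4161 : ∀ i, i < 4161 → P i := stepQ 4160 Q4160 (allL N4160 (tt N5006 (iv F42907)) (tt N3412 F39677) (tt N5040 (iv F43037)) (tt N4016 F39678) (tt N4955 (iv F42701)) (tt N3612 F39679) (tt N5037 (iv F43029)) (tt N3405 (iv D10047)) (tt N4160 F39680))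
theorem Q4162 : ∀ i, i < 4162 → P i := stepQ 4161 Q4161 (allL N4161 (tt N4104 F39681) (tt N5033 (iv F43009)) (tt N3523 F39682) (tt N4161 F39683) (tt N3406 (iv D10048)) (tt N4957 (iv F42714)) (tt N3525 F39684) (tt N4161 F39685) (tt N5041 D10928))
theorem Q4163 : ∀ i, i < 4163 → P i := stepQ 4162 Q4162 (allL N4162 (tt N4164 (iv F39694)) (tt N5034 (iv F43015)) (tt N3558 F39686) (tt N3407 F39687) (tt N5041 (iv F43043)) (tt N3409 F39688) (tt N3560 F39689) (tt N5042 D10929) (tt N3406 (iv D10049)))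
theorem Q4164 : ∀ i, i < 4164 → P i := stepQ 4163 Q4163 (allL N4163 (tt N5043 D10930) (tt N3408 (iv D10050)) (tt N5035 (iv F43019)) (tt N3463 F39690) (tt N4959 (iv F42723)) (tt N3554 F39691) (tt N3410 F39692) (tt N4163 F39693) (tt N5044 D10931))
theorem Q4165 : ∀ i, i < 4165 → P i := stepQ 4164 Q4164 (allL N4164 (tt N4162 F39694) (tt N5044 (iv F43055)) (tt N3409 F39695) (tt N3464 F39696) (tt N4960 (iv F42729)) (tt N3558 F39697) (tt N3411 F39698) (tt N5045 D10932) (tt N3408 (iv D10051)))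
theorem Q4166 : ∀ i, i < 4166 → P i := stepQ 4165 Q4165 (allL N4165 (tt N4344 (iv F40446)) (tt N5037 (iv F43027)) (tt N5045 (iv F43060)) (tt N3616 F39699) (tt N4961 (iv F42732)) (tt N5042 (iv F43047)) (tt N3412 F39700) (tt N3409 (iv D10052)) (tt N4165 F39701))
theorem Q4167 : ∀ i, i < 4167 → P i := stepQ 4166 Q4166 (allL N4166 (tt N3410 (iv D10053)) (tt N4345 (iv F40450)) (tt N5038 (iv F43031)) (tt N3465 F39702) (tt N4962 (iv F42736)) (tt N3614 F39703) (tt N5043 (iv F43053)) (tt N4166 F39704) (tt N5046 D10933))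
theorem Q4168 : ∀ i, i < 4168 → P i := stepQ 4167 Q4167 (allL N4167 (tt N5046 (iv F43065)) (tt N3411 F39705) (tt N5039 (iv F43035)) (tt N3466 F39706) (tt N4963 (iv F42741)) (tt N3615 F39707) (tt N5044 (iv F43058)) (tt N5047 D10934) (tt N3410 (iv D10054)))
theorem Q4169 : ∀ i, i < 4169 → P i := stepQ 4168 Q4168 (allL N4168 (tt N4347 (iv F40457)) (tt N5047 (iv F43068)) (tt N3412 F39708) (tt N5042 (iv F43046)) (tt N4964 (iv F42744)) (tt N3616 F39709) (tt N5045 (iv F43063)) (tt N3411 (iv D10055)) (tt N4168 F39710))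
theorem Q4170 : ∀ i, i < 4170 → P i := stepQ 4169 Q4169 (allL N4169 (tt N4965 (iv F42747)) (tt N3467 F39711) (tt N3413 (iv D10056)) (tt N4421 (iv F40722)) (tt N4169 F39712) (tt N3656 F39713) (tt N5048 D10935) (tt N5049 D10936) (tt N4017 F39714))
theorem Q4171 : ∀ i, i < 4171 → P i := stepQ 4170 Q4170 (allL N4170 (tt N4966 (iv F42752)) (tt N3422 F39715) (tt N5048 (iv F43072)) (tt N3414 F39716) (tt N4170 F39717) (tt N5050 D10937) (tt N3413 (iv D10057)) (tt N5051 D10938) (tt N3742 F39718))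
theorem Q4172 : ∀ i, i < 4172 → P i := stepQ 4171 Q4171 (allL N4171 (tt N4967 (iv F42757)) (tt N3423 F39719) (tt N5049 (iv F43076)) (tt N5052 D10939) (tt N4171 F39720) (tt N3658 F39721) (tt N5051 (iv F43085)) (tt N3413 (iv D10058)) (tt N5053 D10940))
theorem Q4173 : ∀ i, i < 4173 → P i := stepQ 4172 Q4172 (allL N4172 (tt N4968 (iv F42761)) (tt N3424 F39722) (tt N4268 (iv F40092)) (tt N5050 (iv F43080)) (tt N4172 F39723) (tt N3414 (iv D10059)) (tt N3659 F39724) (tt N5054 D10941) (tt N3488 F39725))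
theorem Q4174 : ∀ i, i < 4174 → P i := stepQ 4173 Q4173 (allL N4173 (tt N4969 (iv F42766)) (tt N3425 F39726) (tt N4424 (iv F40735)) (tt N5055 D10942) (tt N3416 F39727) (tt N5054 (iv F43095)) (tt N3415 F39728) (tt N3414 (iv D10060)) (tt N5056 D10943))
theorem Q4175 : ∀ i, i < 4175 → P i := stepQ 4174 Q4174 (allL N4174 (tt N4970 (iv F42770)) (tt N3426 F39729) (tt N5057 D10944) (tt N3415 (iv D10061)) (tt N5058 D10945) (tt N3661 F39730) (tt N5055 (iv F43098)) (tt N5052 (iv F43088)) (tt N5059 D10946))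
theorem Q4176 : ∀ i, i < 4176 → P i := stepQ 4175 Q4175 (allL N4175 (tt N4971 (iv F42773)) (tt N3427 F39731) (tt N4426 (iv F40741)) (tt N5059 (iv F43107)) (tt N3418 F39732) (tt N3662 F39733) (tt N5056 (iv F43101)) (tt N4020 F39734) (tt N3415 (iv D10062)))
theorem Q4177 : ∀ i, i < 4177 → P i := stepQ 4176 Q4176 (allL N4176 (tt N4972 (iv F42778)) (tt N3428 F39735) (tt N5060 D10947) (tt N3416 (iv D10063)) (tt N5061 D10948) (tt N4176 F39736) (tt N3417 F39737) (tt N4176 F39738) (tt N5062 D10949))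
theorem Q4178 : ∀ i, i < 4178 → P i := stepQ 4177 Q4177 (allL N4177 (tt N4973 (iv F42783)) (tt N3429 F39739) (tt N4428 (iv F40751)) (tt N5062 (iv F43117)) (tt N5056 (iv F43100)) (tt N4177 F39740) (tt N3418 F39741) (tt N3781 F39742) (tt N3416 (iv D10064)))
theorem Q4179 : ∀ i, i < 4179 → P i := stepQ 4178 Q4178 (allL N4178 (tt N4974 (iv F42788)) (tt N4178 F39743) (tt N3417 (iv D10065)) (tt N4429 (iv F40756)) (tt N5063 D10950) (tt N3419 F39744) (tt N5060 (iv F43111)) (tt N4178 F39745) (tt N5064 D10951))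
theorem Q4180 : ∀ i, i < 4180 → P i := stepQ 4179 Q4179 (allL N4179 (tt N4975 (iv F42791)) (tt N3430 F39746) (tt N5063 (iv F43121)) (tt N5058 (iv F43105)) (tt N3417 (iv D10066)) (tt N5065 D10952) (tt N5061 (iv F43114)) (tt N4179 F39747) (tt N5066 D10953))
theorem Q4181 : ∀ i, i < 4181 → P i := stepQ 4180 Q4180 (allL N4180 (tt N4976 (iv F42794)) (tt N3431 F39748) (tt N5064 (iv F43124)) (tt N3418 F39749) (tt N5066 (iv F43130)) (tt N3421 F39750) (tt N5062 (iv F43119)) (tt N5067 D10954) (tt N3417 (iv D10067)))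
theorem Q4182 : ∀ i, i < 4182 → P i := stepQ 4181 Q4181 (allL N4181 (tt N4977 (iv F42798)) (tt N4181 F39751) (tt N3420 F39752) (tt N5068 D10955) (tt N3419 (iv D10068)) (tt N5069 D10956) (tt N4181 F39753) (tt N4181 F39754) (tt N5070 D10957))
theorem Q4183 : ∀ i, i < 4183 → P i := stepQ 4182 Q4182 (allL N4182 (tt N4978 (iv F42802)) (tt N4182 F39755) (tt N3421 F39756) (tt N4433 (iv F40770)) (tt N5070 (iv F43143)) (tt N5064 (iv F43125)) (tt N4182 F39757) (tt N5071 D10958) (tt N3419 (iv D10069)))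
theorem Q4184 : ∀ i, i < 4184 → P i := stepQ 4183 Q4183 (allL N4183 (tt N4979 (iv F42805)) (tt N3432 F39758) (tt N5069 (iv F43139)) (tt N3670 F39759) (tt N5065 (iv F43127)) (tt N3420 (iv D10070)) (tt N5072 D10959) (tt N4183 F39760) (tt N5073 D10960))
theorem Q4185 : ∀ i, i < 4185 → P i := stepQ 4184 Q4184 (allL N4184 (tt N4980 (iv F42809)) (tt N3433 F39761) (tt N5070 (iv F43142)) (tt N3671 F39762) (tt N3421 F39763) (tt N5073 (iv F43155)) (tt N4184 F39764) (tt N5074 D10961) (tt N3420 (iv D10071)))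
theorem Q4186 : ∀ i, i < 4186 → P i := stepQ 4185 Q4185 (allL N4185 (tt N4981 (iv F42814)) (tt N3434 F39765) (tt N5071 (iv F43146)) (tt N4028 F39766) (tt N5074 (iv F43157)) (tt N5067 (iv F43133)) (tt N4185 F39767) (tt N3421 (iv D10072)) (tt N4185 F39768))
theorem Q4187 : ∀ i, i < 4187 → P i := stepQ 4186 Q4186 (allL N4186 (tt N3440 F39769) (tt N5050 (iv F43079)) (tt N3478 F39770) (tt N3424 F39771) (tt N5075 D10962) (tt N3422 (iv D10073)) (tt N3673 F39772) (tt N5076 D10963) (tt N3483 F39773))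
theorem Q4188 : ∀ i, i < 4188 → P i := stepQ 4187 Q4187 (allL N4187 (tt N3441 F39774) (tt N5051 (iv F43083)) (tt N3479 F39775) (tt N5077 D10964) (tt N4187 F39776) (tt N5076 (iv F43168)) (tt N3423 F39777) (tt N3422 (iv D10074)) (tt N5078 D10965))
theorem Q4189 : ∀ i, i < 4189 → P i := stepQ 4188 Q4188 (allL N4188 (tt N3442 F39778) (tt N5052 (iv F43086)) (tt N5079 D10966) (tt N3423 (iv D10075)) (tt N5080 D10967) (tt N3675 F39779) (tt N5077 (iv F43171)) (tt N3426 F39780) (tt N5081 D10968))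
theorem Q4190 : ∀ i, i < 4190 → P i := stepQ 4189 Q4189 (allL N4189 (tt N3443 F39781) (tt N5053 (iv F43089)) (tt N3481 F39782) (tt N5081 (iv F43186)) (tt N4189 F39783) (tt N3676 F39784) (tt N5078 (iv F43176)) (tt N4030 F39785) (tt N3423 (iv D10076)))
theorem Q4191 : ∀ i, i < 4191 → P i := stepQ 4190 Q4190 (allL N4190 (tt N3444 F39786) (tt N5054 (iv F43093)) (tt N3435 F39787) (tt N5082 D10969) (tt N4190 F39788) (tt N3425 F39789) (tt N3639 F39790) (tt N3424 (iv D10077)) (tt N5083 D10970))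
theorem Q4192 : ∀ i, i < 4192 → P i := stepQ 4191 Q4191 (allL N4191 (tt N3445 F39791) (tt N5055 (iv F43097)) (tt N5084 D10971) (tt N3425 (iv D10078)) (tt N5085 D10972) (tt N5082 (iv F43190)) (tt N3426 F39792) (tt N5077 (iv F43172)) (tt N5086 D10973))
theorem Q4193 : ∀ i, i < 4193 → P i := stepQ 4192 Q4192 (allL N4192 (tt N3446 F39793) (tt N5056 (iv F43099)) (tt N3437 F39794) (tt N5086 (iv F43206)) (tt N3429 F39795) (tt N5083 (iv F43195)) (tt N3427 F39796) (tt N3691 F39797) (tt N3425 (iv D10079)))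
theorem Q4194 : ∀ i, i < 4194 → P i := stepQ 4193 Q4193 (allL N4193 (tt N3447 F39798) (tt N5087 D10974) (tt N3426 (iv D10080)) (tt N3438 F39799) (tt N5088 D10975) (tt N3679 F39800) (tt N5084 (iv F43201)) (tt N5079 (iv F43181)) (tt N5089 D10976))
theorem Q4195 : ∀ i, i < 4195 → P i := stepQ 4194 Q4194 (allL N4194 (tt N3448 F39801) (tt N5058 (iv F43104)) (tt N5088 (iv F43211)) (tt N3430 F39802) (tt N3426 (iv D10081)) (tt N5090 D10977) (tt N5085 (iv F43204)) (tt N5080 (iv F43184)) (tt N5091 D10978))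
theorem Q4196 : ∀ i, i < 4196 → P i := stepQ 4195 Q4195 (allL N4195 (tt N3449 F39803) (tt N5059 (iv F43106)) (tt N5089 (iv F43214)) (tt N3427 F39804) (tt N5091 (iv F43222)) (tt N3681 F39805) (tt N5086 (iv F43207)) (tt N5092 D10979) (tt N3426 (iv D10082)))
theorem Q4197 : ∀ i, i < 4197 → P i := stepQ 4196 Q4196 (allL N4196 (tt N3450 F39806) (tt N5061 (iv F43113)) (tt N4196 F39807) (tt N5085 (iv F43203)) (tt N3428 (iv D10083)) (tt N5093 D10980) (tt N3430 F39808) (tt N4196 F39809) (tt N5094 D10981))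
theorem Q4198 : ∀ i, i < 4198 → P i := stepQ 4197 Q4197 (allL N4197 (tt N3451 F39810) (tt N5062 (iv F43116)) (tt N4197 F39811) (tt N3429 F39812) (tt N5094 (iv F43232)) (tt N4197 F39813) (tt N3431 F39814) (tt N5095 D10982) (tt N3428 (iv D10084)))
theorem Q4199 : ∀ i, i < 4199 → P i := stepQ 4198 Q4198 (allL N4198 (tt N3452 F39815) (tt N5065 (iv F43126)) (tt N4198 F39816) (tt N5090 (iv F43218)) (tt N3432 F39817) (tt N3430 (iv D10085)) (tt N5096 D10983) (tt N4198 F39818) (tt N5097 D10984))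
theorem Q4200 : ∀ i, i < 4200 → P i := stepQ 4199 Q4199 (allL N4199 (tt N3453 F39819) (tt N5066 (iv F43129)) (tt N4199 F39820) (tt N5091 (iv F43221)) (tt N3431 F39821) (tt N5097 (iv F43247)) (tt N5094 (iv F43233)) (tt N5098 D10985) (tt N3430 (iv D10086)))
theorem Q4201 : ∀ i, i < 4201 → P i := stepQ 4200 Q4200 (allL N4200 (tt N3454 F39822) (tt N5067 (iv F43131)) (tt N4200 F39823) (tt N4035 F39824) (tt N5098 (iv F43250)) (tt N3434 F39825) (tt N5095 (iv F43238)) (tt N3431 (iv D10087)) (tt N4200 F39826))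
theorem Q4202 : ∀ i, i < 4202 → P i := stepQ 4201 Q4201 (allL N4201 (tt N3455 F39827) (tt N5072 (iv F43149)) (tt N4201 F39828) (tt N3687 F39829) (tt N5096 (iv F43242)) (tt N4201 F39830) (tt N3432 (iv D10088)) (tt N4201 F39831) (tt N5099 D10986))
theorem Q4203 : ∀ i, i < 4203 → P i := stepQ 4202 Q4202 (allL N4202 (tt N3456 F39832) (tt N5073 (iv F43153)) (tt N4202 F39833) (tt N3688 F39834) (tt N5097 (iv F43246)) (tt N3433 F39835) (tt N5099 (iv F43256)) (tt N5100 D10987) (tt N3432 (iv D10089)))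
theorem Q4204 : ∀ i, i < 4204 → P i := stepQ 4203 Q4203 (allL N4203 (tt N3457 F39836) (tt N5074 (iv F43156)) (tt N4203 F39837) (tt N5101 D10988) (tt N3434 F39838) (tt N5100 (iv F43259)) (tt N4203 F39839) (tt N3433 (iv D10090)) (tt N4203 F39840))
theorem Q4205 : ∀ i, i < 4205 → P i := stepQ 4204 Q4204 (allL N4204 (tt N3458 F39841) (tt N4206 (iv F39853)) (tt N5083 (iv F43193)) (tt N3638 F39842) (tt N4204 F39843) (tt N3437 F39844) (tt N3640 F39845) (tt N3439 F39846) (tt N3435 (iv D10091)))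
theorem Q4206 : ∀ i, i < 4206 → P i := stepQ 4205 Q4205 (allL N4205 (tt N3459 F39847) (tt N5102 D10989) (tt N3436 (iv D10092)) (tt N5084 (iv F43199)) (tt N4205 F39848) (tt N3628 F39849) (tt N3438 F39850) (tt N3487 F39851) (tt N5103 D10990))
theorem Q4207 : ∀ i, i < 4207 → P i := stepQ 4206 Q4206 (allL N4206 (tt N3460 F39852) (tt N4204 F39853) (tt N5103 (iv F43272)) (tt N3437 F39854) (tt N4206 F39855) (tt N3638 F39856) (tt N3439 F39857) (tt N3640 F39858) (tt N3436 (iv D10093)))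
theorem Q4208 : ∀ i, i < 4208 → P i := stepQ 4207 Q4207 (allL N4207 (tt N5104 D10991) (tt N3438 (iv D10094)) (tt N4451 (iv F40839)) (tt N5087 (iv F43208)) (tt N4207 F39859) (tt N3690 F39860) (tt N5102 (iv F43269)) (tt N3488 F39861) (tt N5105 D10992))
theorem Q4209 : ∀ i, i < 4209 → P i := stepQ 4208 Q4208 (allL N4208 (tt N3462 F39862) (tt N5105 (iv F43281)) (tt N3439 F39863) (tt N5089 (iv F43215)) (tt N4208 F39864) (tt N3691 F39865) (tt N5103 (iv F43275)) (tt N5083 (iv F43197)) (tt N3438 (iv D10095)))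
theorem Q4210 : ∀ i, i < 4210 → P i := stepQ 4209 Q4209 (allL N4209 (tt N5075 (iv F43160)) (tt N3859 F39866) (tt N3489 F39867) (tt N4209 F39868) (tt N3440 (iv D10096)) (tt N4209 F39869) (tt N3692 F39870) (tt N5106 D10993) (tt N3499 F39871))
theorem Q4211 : ∀ i, i < 4211 → P i := stepQ 4210 Q4210 (allL N4210 (tt N5076 (iv F43166)) (tt N5007 (iv F42911)) (tt N3490 F39872) (tt N5107 D10994) (tt N5106 (iv F43286)) (tt N3441 F39873) (tt N3693 F39874) (tt N3440 (iv D10097)) (tt N5108 D10995))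
theorem Q4212 : ∀ i, i < 4212 → P i := stepQ 4211 Q4211 (allL N4211 (tt N5077 (iv F43170)) (tt N5008 (iv F42916)) (tt N5109 D10996) (tt N3441 (iv D10098)) (tt N5110 D10997) (tt N5107 (iv F43292)) (tt N3442 F39875) (tt N3445 F39876) (tt N5111 D10998))
theorem Q4213 : ∀ i, i < 4213 → P i := stepQ 4212 Q4212 (allL N4212 (tt N5078 (iv F43173)) (tt N5009 (iv F42919)) (tt N3492 F39877) (tt N5111 (iv F43310)) (tt N4212 F39878) (tt N5108 (iv F43296)) (tt N3443 F39879) (tt N3745 F39880) (tt N3441 (iv D10099)))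
theorem Q4214 : ∀ i, i < 4214 → P i := stepQ 4213 Q4213 (allL N4213 (tt N5079 (iv F43178)) (tt N5112 D10999) (tt N3442 (iv D10100)) (tt N3493 F39881) (tt N5113 D11000) (tt N3696 F39882) (tt N5109 (iv F43301)) (tt N3447 F39883) (tt N5114 D11001))
theorem Q4215 : ∀ i, i < 4215 → P i := stepQ 4214 Q4214 (allL N4214 (tt N5080 (iv F43182)) (tt N5011 (iv F42927)) (tt N5113 (iv F43318)) (tt N4214 F39884) (tt N3442 (iv D10101)) (tt N5115 D11002) (tt N5110 (iv F43308)) (tt N3448 F39885) (tt N5116 D11003))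
theorem Q4216 : ∀ i, i < 4216 → P i := stepQ 4215 Q4215 (allL N4215 (tt N5081 (iv F43185)) (tt N5012 (iv F42930)) (tt N5114 (iv F43322)) (tt N3443 F39886) (tt N5116 (iv F43329)) (tt N3698 F39887) (tt N5111 (iv F43311)) (tt N5117 D11004) (tt N3442 (iv D10102)))
theorem Q4217 : ∀ i, i < 4217 → P i := stepQ 4216 Q4216 (allL N4216 (tt N5082 (iv F43188)) (tt N5013 (iv F42933)) (tt N3643 F39888) (tt N3444 (iv D10103)) (tt N5118 D11005) (tt N3445 F39889) (tt N3645 F39890) (tt N5107 (iv F43294)) (tt N5119 D11006))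
theorem Q4218 : ∀ i, i < 4218 → P i := stepQ 4217 Q4217 (allL N4217 (tt N5083 (iv F43192)) (tt N5014 (iv F42936)) (tt N3458 F39891) (tt N5119 (iv F43339)) (tt N4217 F39892) (tt N3446 F39893) (tt N3655 F39894) (tt N3462 F39895) (tt N3444 (iv D10104)))
theorem Q4219 : ∀ i, i < 4219 → P i := stepQ 4218 Q4218 (allL N4218 (tt N5084 (iv F43198)) (tt N5120 D11007) (tt N3445 (iv D10105)) (tt N3459 F39896) (tt N5121 D11008) (tt N3643 F39897) (tt N3447 F39898) (tt N5109 (iv F43302)) (tt N5122 D11009))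
theorem Q4220 : ∀ i, i < 4220 → P i := stepQ 4219 Q4219 (allL N4219 (tt N5085 (iv F43202)) (tt N5016 (iv F42945)) (tt N5121 (iv F43348)) (tt N3450 F39899) (tt N3445 (iv D10106)) (tt N5123 D11010) (tt N3448 F39900) (tt N5110 (iv F43309)) (tt N5124 D11011))
theorem Q4221 : ∀ i, i < 4221 → P i := stepQ 4220 Q4220 (allL N4220 (tt N5086 (iv F43205)) (tt N5017 (iv F42950)) (tt N5122 (iv F43353)) (tt N3446 F39901) (tt N5124 (iv F43363)) (tt N5119 (iv F43340)) (tt N3449 F39902) (tt N5125 D11012) (tt N3445 (iv D10107)))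
theorem Q4222 : ∀ i, i < 4222 → P i := stepQ 4221 Q4221 (allL N4221 (tt N5126 D11013) (tt N3447 (iv D10108)) (tt N5018 (iv F42953)) (tt N3461 F39903) (tt N5127 D11014) (tt N3701 F39904) (tt N5120 (iv F43344)) (tt N5112 (iv F43315)) (tt N5128 D11015))
theorem Q4223 : ∀ i, i < 4223 → P i := stepQ 4222 Q4222 (allL N4222 (tt N5088 (iv F43210)) (tt N5127 (iv F43369)) (tt N3448 F39905) (tt N4222 F39906) (tt N3447 (iv D10109)) (tt N5129 D11016) (tt N5121 (iv F43351)) (tt N5113 (iv F43321)) (tt N5130 D11017))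
theorem Q4224 : ∀ i, i < 4224 → P i := stepQ 4223 Q4223 (allL N4223 (tt N5089 (iv F43213)) (tt N5128 (iv F43373)) (tt N3449 F39907) (tt N3462 F39908) (tt N5130 (iv F43381)) (tt N3703 F39909) (tt N5122 (iv F43356)) (tt N5131 D11018) (tt N3447 (iv D10110)))
theorem Q4225 : ∀ i, i < 4225 → P i := stepQ 4224 Q4224 (allL N4224 (tt N5090 (iv F43217)) (tt N5021 (iv F42962)) (tt N5129 (iv F43376)) (tt N3452 F39910) (tt N3704 F39911) (tt N3448 (iv D10111)) (tt N5132 D11019) (tt N5115 (iv F43327)) (tt N5133 D11020))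
theorem Q4226 : ∀ i, i < 4226 → P i := stepQ 4225 Q4225 (allL N4225 (tt N5091 (iv F43220)) (tt N5022 (iv F42965)) (tt N5130 (iv F43379)) (tt N3453 F39912) (tt N3449 F39913) (tt N5133 (iv F43388)) (tt N5124 (iv F43364)) (tt N5134 D11021) (tt N3448 (iv D10112)))
theorem Q4227 : ∀ i, i < 4227 → P i := stepQ 4226 Q4226 (allL N4226 (tt N5092 (iv F43223)) (tt N5023 (iv F42968)) (tt N5131 (iv F43382)) (tt N4043 F39914) (tt N5134 (iv F43389)) (tt N3706 F39915) (tt N5125 (iv F43366)) (tt N3449 (iv D10113)) (tt N5117 (iv F43332)))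
theorem Q4228 : ∀ i, i < 4228 → P i := stepQ 4227 Q4227 (allL N4227 (tt N5093 (iv F43226)) (tt N3969 F39916) (tt N4227 F39917) (tt N5123 (iv F43359)) (tt N4227 F39918) (tt N3450 (iv D10114)) (tt N5135 D11022) (tt N4227 F39919) (tt N5136 D11023))
theorem Q4229 : ∀ i, i < 4229 → P i := stepQ 4228 Q4228 (allL N4228 (tt N5094 (iv F43230)) (tt N5024 (iv F42971)) (tt N4228 F39920) (tt N5124 (iv F43362)) (tt N3451 F39921) (tt N5136 (iv F43398)) (tt N3453 F39922) (tt N5137 D11024) (tt N3450 (iv D10115)))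
theorem Q4230 : ∀ i, i < 4230 → P i := stepQ 4229 Q4229 (allL N4229 (tt N5095 (iv F43234)) (tt N5025 (iv F42976)) (tt N4229 F39923) (tt N3787 F39924) (tt N5137 (iv F43400)) (tt N4229 F39925) (tt N3454 F39926) (tt N3451 (iv D10116)) (tt N4229 F39927))
theorem Q4231 : ∀ i, i < 4231 → P i := stepQ 4230 Q4230 (allL N4230 (tt N5096 (iv F43240)) (tt N5026 (iv F42981)) (tt N4230 F39928) (tt N5132 (iv F43384)) (tt N3455 F39929) (tt N5135 (iv F43393)) (tt N3452 (iv D10117)) (tt N4230 F39930) (tt N5138 D11025))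
theorem Q4232 : ∀ i, i < 4232 → P i := stepQ 4231 Q4231 (allL N4231 (tt N5097 (iv F43244)) (tt N5027 (iv F42986)) (tt N4231 F39931) (tt N5133 (iv F43386)) (tt N3456 F39932) (tt N3453 F39933) (tt N5138 (iv F43405)) (tt N5139 D11026) (tt N3452 (iv D10118)))
theorem Q4233 : ∀ i, i < 4233 → P i := stepQ 4232 Q4232 (allL N4232 (tt N5098 (iv F43248)) (tt N5028 (iv F42989)) (tt N4232 F39934) (tt N5140 D11027) (tt N3454 F39935) (tt N5139 (iv F43408)) (tt N5137 (iv F43401)) (tt N3453 (iv D10119)) (tt N4232 F39936))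
theorem Q4234 : ∀ i, i < 4234 → P i := stepQ 4233 Q4233 (allL N4233 (tt N5099 (iv F43252)) (tt N5029 (iv F42992)) (tt N4233 F39937) (tt N3713 F39938) (tt N5138 (iv F43404)) (tt N4233 F39939) (tt N3456 F39940) (tt N5141 D11028) (tt N3455 (iv D10120)))
theorem Q4235 : ∀ i, i < 4235 → P i := stepQ 4234 Q4234 (allL N4234 (tt N5100 (iv F43257)) (tt N5030 (iv F42996)) (tt N4234 F39941) (tt N5142 D11029) (tt N5139 (iv F43407)) (tt N3457 F39942) (tt N5141 (iv F43414)) (tt N3456 (iv D10121)) (tt N4234 F39943))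
theorem Q4236 : ∀ i, i < 4236 → P i := stepQ 4235 Q4235 (allL N4235 (tt N5101 (iv F43261)) (tt N5031 (iv F42999)) (tt N5143 D11030) (tt N3457 (iv D10122)) (tt N4049 F39944) (tt N5142 (iv F43416)) (tt N4235 F39945) (tt N3715 F39946) (tt N4235 F39947))
theorem Q4237 : ∀ i, i < 4237 → P i := stepQ 4236 Q4236 (allL N4236 (tt N5144 D11031) (tt N3459 (iv D10123)) (tt N3463 F39948) (tt N5120 (iv F43342)) (tt N4236 F39949) (tt N3545 F39950) (tt N3461 F39951) (tt N3500 F39952) (tt N5145 D11032))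
theorem Q4238 : ∀ i, i < 4238 → P i := stepQ 4237 Q4237 (allL N4237 (tt N5103 (iv F43271)) (tt N5145 (iv F43429)) (tt N3460 F39953) (tt N5122 (iv F43354)) (tt N4237 F39954) (tt N3644 F39955) (tt N3462 F39956) (tt N3655 F39957) (tt N3459 (iv D10124)))
theorem Q4239 : ∀ i, i < 4239 → P i := stepQ 4238 Q4238 (allL N4238 (tt N3461 (iv D10125)) (tt N5104 (iv F43277)) (tt N3465 F39958) (tt N5126 (iv F43367)) (tt N4238 F39959) (tt N3716 F39960) (tt N5144 (iv F43427)) (tt N3501 F39961) (tt N5146 D11033))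
theorem Q4240 : ∀ i, i < 4240 → P i := stepQ 4239 Q4239 (allL N4239 (tt N5146 (iv F43435)) (tt N3462 F39962) (tt N3466 F39963) (tt N5128 (iv F43374)) (tt N4239 F39964) (tt N3717 F39965) (tt N5145 (iv F43433)) (tt N5014 (iv F42941)) (tt N3461 (iv D10126)))
theorem Q4241 : ∀ i, i < 4241 → P i := stepQ 4240 Q4240 (allL N4240 (tt N3463 (iv D10127)) (tt N4131 F39966) (tt N5144 (iv F43424)) (tt N5043 (iv F43051)) (tt N4240 F39967) (tt N3540 F39968) (tt N3465 F39969) (tt N3502 F39970) (tt N5147 D11034))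
theorem Q4242 : ∀ i, i < 4242 → P i := stepQ 4241 Q4241 (allL N4241 (tt N5147 (iv F43439)) (tt N3464 F39971) (tt N5145 (iv F43430)) (tt N5044 (iv F43056)) (tt N4241 F39972) (tt N3555 F39973) (tt N3466 F39974) (tt N3607 F39975) (tt N3463 (iv D10128)))
theorem Q4243 : ∀ i, i < 4243 → P i := stepQ 4242 Q4242 (allL N4242 (tt N3466 F39976) (tt N4383 (iv F40591)) (tt N5146 (iv F43436)) (tt N5046 (iv F43066)) (tt N4242 F39977) (tt N3718 F39978) (tt N5147 (iv F43443)) (tt N5001 (iv F42894)) (tt N3465 (iv D10129)))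
theorem Q4244 : ∀ i, i < 4244 → P i := stepQ 4243 Q4243 (allL N4243 (tt N4243 F39979) (tt N5048 (iv F43071)) (tt N3468 F39980) (tt N4549 (iv F41137)) (tt N4243 F39981) (tt N5148 D11035) (tt N3467 (iv D10130)) (tt N5149 D11036) (tt N3738 F39982))
theorem Q4245 : ∀ i, i < 4245 → P i := stepQ 4244 Q4244 (allL N4244 (tt N4244 F39983) (tt N5049 (iv F43075)) (tt N3469 F39984) (tt N5150 D11037) (tt N4244 F39985) (tt N3734 F39986) (tt N5149 (iv F43452)) (tt N3467 (iv D10131)) (tt N5151 D11038))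
theorem Q4246 : ∀ i, i < 4246 → P i := stepQ 4245 Q4245 (allL N4245 (tt N4245 F39987) (tt N3478 F39988) (tt N5148 (iv F43446)) (tt N3470 F39989) (tt N5152 D11039) (tt N3468 (iv D10132)) (tt N3722 F39990) (tt N5153 D11040) (tt N3472 F39991))
theorem Q4247 : ∀ i, i < 4247 → P i := stepQ 4246 Q4246 (allL N4246 (tt N4246 F39992) (tt N3479 F39993) (tt N5149 (iv F43450)) (tt N5154 D11041) (tt N4246 F39994) (tt N5153 (iv F43469)) (tt N3469 F39995) (tt N3468 (iv D10133)) (tt N5155 D11042))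
theorem Q4248 : ∀ i, i < 4248 → P i := stepQ 4247 Q4247 (allL N4247 (tt N4247 F39996) (tt N3480 F39997) (tt N5156 D11043) (tt N3469 (iv D10134)) (tt N5157 D11044) (tt N3736 F39998) (tt N5154 (iv F43474)) (tt N3472 F39999) (tt N5158 D11045))
theorem Q4249 : ∀ i, i < 4249 → P i := stepQ 4248 Q4248 (allL N4248 (tt N4248 F40000) (tt N3481 F40001) (tt N5151 (iv F43456)) (tt N5158 (iv F43491)) (tt N4248 F40002) (tt N3737 F40003) (tt N5155 (iv F43479)) (tt N4051 F40004) (tt N3469 (iv D10135)))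
theorem Q4250 : ∀ i, i < 4250 → P i := stepQ 4249 Q4249 (allL N4249 (tt N4249 F40005) (tt N3482 F40006) (tt N5159 D11046) (tt N3471 (iv D10136)) (tt N5160 D11047) (tt N3720 F40007) (tt N3472 F40008) (tt N5154 (iv F43475)) (tt N3722 F40009))
theorem Q4251 : ∀ i, i < 4251 → P i := stepQ 4250 Q4250 (allL N4250 (tt N4250 F40010) (tt N5161 D11048) (tt N3472 (iv D10137)) (tt N4554 (iv F41158)) (tt N5162 D11049) (tt N3738 F40011) (tt N5159 (iv F43496)) (tt N5156 (iv F43483)) (tt N5148 (iv F43448)))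
theorem Q4252 : ∀ i, i < 4252 → P i := stepQ 4251 Q4251 (allL N4251 (tt N4251 F40012) (tt N3484 F40013) (tt N5162 (iv F43507)) (tt N3475 F40014) (tt N3472 (iv D10138)) (tt N4251 F40015) (tt N5160 (iv F43502)) (tt N5157 (iv F43488)) (tt N5152 (iv F43465)))
theorem Q4253 : ∀ i, i < 4253 → P i := stepQ 4252 Q4252 (allL N4252 (tt N4252 F40016) (tt N4252 F40017) (tt N3473 (iv D10139)) (tt N4255 (iv F40036)) (tt N5163 D11050) (tt N3725 F40018) (tt N3474 F40019) (tt N4252 F40020) (tt N3723 F40021))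
theorem Q4254 : ∀ i, i < 4254 → P i := stepQ 4253 Q4253 (allL N4253 (tt N4253 F40022) (tt N3485 F40023) (tt N5163 (iv F43511)) (tt N5160 (iv F43500)) (tt N3473 (iv D10140)) (tt N3985 F40024) (tt N3475 F40025) (tt N4253 F40026) (tt N3724 F40027))
theorem Q4255 : ∀ i, i < 4255 → P i := stepQ 4254 Q4254 (allL N4254 (tt N4254 F40028) (tt N4254 F40029) (tt N3475 F40030) (tt N5164 D11051) (tt N3474 (iv D10141)) (tt N4254 F40031) (tt N5163 (iv F43513)) (tt N4254 F40032) (tt N5165 D11052))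
theorem Q4256 : ∀ i, i < 4256 → P i := stepQ 4255 Q4255 (allL N4255 (tt N4255 F40033) (tt N4255 F40034) (tt N3476 F40035) (tt N4252 F40036) (tt N5165 (iv F43524)) (tt N3477 F40037) (tt N3723 F40038) (tt N3911 (iv F40039)) (tt N3474 (iv D10142)))
theorem Q4257 : ∀ i, i < 4257 → P i := stepQ 4256 Q4256 (allL N4256 (tt N4256 F40040) (tt N3486 F40041) (tt N5165 (iv F43523)) (tt N5152 (iv F43462)) (tt N3476 F40042) (tt N4256 F40043) (tt N3724 F40044) (tt N3912 (iv F40045)) (tt N3475 (iv D10143)))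
theorem Q4258 : ∀ i, i < 4258 → P i := stepQ 4257 Q4257 (allL N4257 (tt N3489 F40046) (tt N5152 (iv F43461)) (tt N5075 (iv F43161)) (tt N3486 F40047) (tt N3478 (iv D10144)) (tt N4257 F40048) (tt N3729 F40049) (tt N5166 D11053) (tt N3484 F40050))
theorem Q4259 : ∀ i, i < 4259 → P i := stepQ 4258 Q4258 (allL N4258 (tt N3490 F40051) (tt N5153 (iv F43467)) (tt N5076 (iv F43167)) (tt N3726 F40052) (tt N5166 (iv F43530)) (tt N3479 F40053) (tt N3727 F40054) (tt N3478 (iv D10145)) (tt N5167 D11054))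
theorem Q4260 : ∀ i, i < 4260 → P i := stepQ 4259 Q4259 (allL N4259 (tt N3491 F40055) (tt N5154 (iv F43472)) (tt N5168 D11055) (tt N3479 (iv D10146)) (tt N5169 D11056) (tt N3726 F40056) (tt N3480 F40057) (tt N3482 F40058) (tt N5170 D11057))
theorem Q4261 : ∀ i, i < 4261 → P i := stepQ 4260 Q4260 (allL N4260 (tt N3492 F40059) (tt N5155 (iv F43477)) (tt N5078 (iv F43174)) (tt N5170 (iv F43550)) (tt N4260 F40060) (tt N5167 (iv F43535)) (tt N3481 F40061) (tt N3741 F40062) (tt N3479 (iv D10147)))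
theorem Q4262 : ∀ i, i < 4262 → P i := stepQ 4261 Q4261 (allL N4261 (tt N3493 F40063) (tt N5171 D11058) (tt N3480 (iv D10148)) (tt N5079 (iv F43179)) (tt N5172 D11059) (tt N3740 F40064) (tt N5168 (iv F43540)) (tt N3483 F40065) (tt N5173 D11060))
theorem Q4263 : ∀ i, i < 4263 → P i := stepQ 4262 Q4262 (allL N4262 (tt N3494 F40066) (tt N5157 (iv F43485)) (tt N5172 (iv F43557)) (tt N4262 F40067) (tt N3480 (iv D10149)) (tt N4262 F40068) (tt N5169 (iv F43547)) (tt N3484 F40069) (tt N5174 D11061))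
theorem Q4264 : ∀ i, i < 4264 → P i := stepQ 4263 Q4263 (allL N4263 (tt N3495 F40070) (tt N5158 (iv F43490)) (tt N5173 (iv F43563)) (tt N3481 F40071) (tt N5174 (iv F43567)) (tt N3741 F40072) (tt N5170 (iv F43552)) (tt N5167 (iv F43537)) (tt N3480 (iv D10150)))
theorem Q4265 : ∀ i, i < 4265 → P i := stepQ 4264 Q4264 (allL N4264 (tt N3496 F40073) (tt N5175 D11062) (tt N3482 (iv D10151)) (tt N3487 F40074) (tt N3808 (iv F40078)) (tt N3626 F40075) (tt N3483 F40076) (tt N5168 (iv F43541)) (tt N3673 F40077))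
theorem Q4266 : ∀ i, i < 4266 → P i := stepQ 4265 Q4265 (allL N4265 (tt N3497 F40079) (tt N5160 (iv F43499)) (tt N3808 F40080) (tt N3485 F40081) (tt N3482 (iv D10152)) (tt N3802 F40082) (tt N3484 F40083) (tt N5169 (iv F43548)) (tt N3729 F40084))
theorem Q4267 : ∀ i, i < 4267 → P i := stepQ 4266 Q4266 (allL N4266 (tt N5176 D11063) (tt N3483 (iv D10153)) (tt N5161 (iv F43504)) (tt N3488 F40085) (tt N5177 D11064) (tt N3742 F40086) (tt N5175 (iv F43573)) (tt N5171 (iv F43555)) (tt N5050 (iv F43082)))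
theorem Q4268 : ∀ i, i < 4268 → P i := stepQ 4267 Q4267 (allL N4267 (tt N3499 F40087) (tt N5177 (iv F43581)) (tt N3484 F40088) (tt N4267 F40089) (tt N3483 (iv D10154)) (tt N4267 F40090) (tt N3808 F40091) (tt N5172 (iv F43560)) (tt N5075 (iv F43165)))
theorem Q4269 : ∀ i, i < 4269 → P i := stepQ 4268 Q4268 (allL N4268 (tt N5178 D11065) (tt N3487 (iv D10155)) (tt N4172 F40092) (tt N5175 (iv F43570)) (tt N4268 F40093) (tt N3618 F40094) (tt N3488 F40095) (tt N5102 (iv F43270)) (tt N3659 F40096))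
theorem Q4270 : ∀ i, i < 4270 → P i := stepQ 4269 Q4269 (allL N4269 (tt N3488 (iv D10156)) (tt N3501 F40097) (tt N4351 (iv F40474)) (tt N5176 (iv F43576)) (tt N4269 F40098) (tt N3743 F40099) (tt N5178 (iv F43590)) (tt N5104 (iv F43280)) (tt N4968 (iv F42765)))
theorem Q4271 : ∀ i, i < 4271 → P i := stepQ 4270 Q4270 (allL N4270 (tt N5166 (iv F43528)) (tt N4270 F40100) (tt N5106 (iv F43285)) (tt N3513 F40101) (tt N3490 F40102) (tt N4270 F40103) (tt N3731 F40104) (tt N3489 (iv D10157)) (tt N5179 D11066))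
theorem Q4272 : ∀ i, i < 4272 → P i := stepQ 4271 Q4271 (allL N4271 (tt N5167 (iv F43533)) (tt N4271 F40105) (tt N5108 (iv F43295)) (tt N3730 F40106) (tt N5179 (iv F43594)) (tt N3492 F40107) (tt N3732 F40108) (tt N3495 F40109) (tt N3490 (iv D10158)))
theorem Q4273 : ∀ i, i < 4273 → P i := stepQ 4272 Q4272 (allL N4272 (tt N5168 (iv F43538)) (tt N3649 F40113) (tt N3491 (iv D10159)) (tt N5109 (iv F43299)) (tt N3551 (iv F40114)) (tt N3549 F40110) (tt N3493 F40111) (tt N3496 F40112) (tt N5180 D11067))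
theorem Q4274 : ∀ i, i < 4274 → P i := stepQ 4273 Q4273 (allL N4273 (tt N5169 (iv F43543)) (tt N4273 F40115) (tt N3551 F40116) (tt N4273 F40117) (tt N3491 (iv D10160)) (tt N3515 F40118) (tt N3494 F40119) (tt N3497 F40120) (tt N5181 D11068))
theorem Q4275 : ∀ i, i < 4275 → P i := stepQ 4274 Q4274 (allL N4274 (tt N5170 (iv F43549)) (tt N4274 F40121) (tt N5180 (iv F43599)) (tt N3492 F40122) (tt N5181 (iv F43607)) (tt N3730 F40123) (tt N3495 F40124) (tt N3732 F40125) (tt N3491 (iv D10161)))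
theorem Q4276 : ∀ i, i < 4276 → P i := stepQ 4275 Q4275 (allL N4275 (tt N5182 D11069) (tt N3493 (iv D10162)) (tt N4275 F40126) (tt N5112 (iv F43312)) (tt N3652 (iv F40130)) (tt N3744 F40127) (tt N3649 F40128) (tt N3498 F40129) (tt N5183 D11070))
theorem Q4277 : ∀ i, i < 4277 → P i := stepQ 4276 Q4276 (allL N4276 (tt N5172 (iv F43556)) (tt N3652 F40131) (tt N3494 F40132) (tt N4012 F40136) (tt N3493 (iv D10163)) (tt N4276 F40133) (tt N3551 F40134) (tt N3499 F40135) (tt N5184 D11071))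
theorem Q4278 : ∀ i, i < 4278 → P i := stepQ 4277 Q4277 (allL N4277 (tt N5173 (iv F43562)) (tt N5183 (iv F43616)) (tt N3495 F40137) (tt N5114 (iv F43323)) (tt N5184 (iv F43624)) (tt N3745 F40138) (tt N5180 (iv F43602)) (tt N5108 (iv F43298)) (tt N3493 (iv D10164)))
theorem Q4279 : ∀ i, i < 4279 → P i := stepQ 4278 Q4278 (allL N4278 (tt N5174 (iv F43565)) (tt N4278 F40139) (tt N5184 (iv F43622)) (tt N4278 F40140) (tt N3495 F40141) (tt N4278 F40142) (tt N5181 (iv F43609)) (tt N5179 (iv F43597)) (tt N3494 (iv D10165)))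
theorem Q4280 : ∀ i, i < 4280 → P i := stepQ 4279 Q4279 (allL N4279 (tt N3498 (iv D10166)) (tt N5176 (iv F43575)) (tt N4279 F40143) (tt N3501 F40144) (tt N3856 F40145) (tt N3746 F40146) (tt N3855 F40147) (tt N5182 (iv F43615)) (tt N4982 (iv F42823)))
theorem Q4281 : ∀ i, i < 4281 → P i := stepQ 4280 Q4280 (allL N4280 (tt N3500 (iv D10167)) (tt N5178 (iv F43585)) (tt N3502 F40148) (tt N3855 F40149) (tt N4280 F40150) (tt N3533 F40151) (tt N3501 F40152) (tt N5144 (iv F43428)) (tt N3573 F40153))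
theorem Q4282 : ∀ i, i < 4282 → P i := stepQ 4281 Q4281 (allL N4281 (tt N4281 F40154) (tt N3505 F40155) (tt N4076 F40156) (tt N3912 F40157) (tt N3503 (iv D10168)) (tt N4281 F40158) (tt N3910 F40159) (tt N5185 D11072) (tt N4281 F40160))
theorem Q4283 : ∀ i, i < 4283 → P i := stepQ 4282 Q4282 (allL N4282 (tt N4282 F40161) (tt N3506 F40162) (tt N4077 F40163) (tt N3906 F40164) (tt N5185 (iv F43630)) (tt N3504 F40165) (tt N3907 F40166) (tt N3503 (iv D10169)) (tt N5186 D11073))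
theorem Q4284 : ∀ i, i < 4284 → P i := stepQ 4283 Q4283 (allL N4283 (tt N4283 F40167) (tt N3507 F40168) (tt N5187 D11074) (tt N3504 (iv D10170)) (tt N5188 D11075) (tt N3906 F40169) (tt N4283 F40170) (tt N3801 F40171) (tt N5189 D11076))
theorem Q4285 : ∀ i, i < 4285 → P i := stepQ 4284 Q4284 (allL N4284 (tt N4284 F40172) (tt N3508 F40173) (tt N4079 F40174) (tt N5189 (iv F43653)) (tt N4284 F40175) (tt N5186 (iv F43637)) (tt N4284 F40176) (tt N4284 F40177) (tt N3504 (iv D10171)))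
theorem Q4286 : ∀ i, i < 4286 → P i := stepQ 4285 Q4285 (allL N4285 (tt N3513 F40178) (tt N5185 (iv F43628)) (tt N3510 F40179) (tt N5166 (iv F43529)) (tt N3506 F40180) (tt N4285 F40181) (tt N3918 F40182) (tt N3505 (iv D10172)) (tt N5190 D11077))
theorem Q4287 : ∀ i, i < 4287 → P i := stepQ 4286 Q4286 (allL N4286 (tt N3514 F40183) (tt N5186 (iv F43634)) (tt N3512 F40184) (tt N3917 F40185) (tt N5190 (iv F43659)) (tt N3508 F40186) (tt N3919 F40187) (tt N4286 F40188) (tt N3506 (iv D10173)))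
theorem Q4288 : ∀ i, i < 4288 → P i := stepQ 4287 Q4287 (allL N4287 (tt N3515 F40189) (tt N5188 (iv F43647)) (tt N3538 F40190) (tt N4287 F40191) (tt N3507 (iv D10174)) (tt N5169 (iv F43546)) (tt N4287 F40192) (tt N3802 F40193) (tt N5191 D11078))
theorem Q4289 : ∀ i, i < 4289 → P i := stepQ 4288 Q4288 (allL N4288 (tt N3516 F40194) (tt N5189 (iv F43652)) (tt N3539 F40195) (tt N3508 F40196) (tt N5191 (iv F43666)) (tt N3917 F40197) (tt N4288 F40198) (tt N3931 F40199) (tt N3507 (iv D10175)))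
theorem Q4290 : ∀ i, i < 4290 → P i := stepQ 4289 Q4289 (allL N4289 (tt N3518 F40200) (tt N4086 F40201) (tt N3918 F40202) (tt N5192 D11079) (tt N3511 F40203) (tt N4802 (iv F42134)) (tt N3510 F40204) (tt N3509 (iv D10176)) (tt N5193 D11080))
theorem Q4291 : ∀ i, i < 4291 → P i := stepQ 4290 Q4290 (allL N4290 (tt N3519 F40205) (tt N4087 F40206) (tt N5194 D11081) (tt N3510 (iv D10177)) (tt N3541 F40207) (tt N4290 F40208) (tt N5192 (iv F43672)) (tt N4290 F40209) (tt N5195 D11082))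
theorem Q4292 : ∀ i, i < 4292 → P i := stepQ 4291 Q4291 (allL N4291 (tt N3520 F40210) (tt N4088 F40211) (tt N5190 (iv F43658)) (tt N5195 (iv F43686)) (tt N3512 F40212) (tt N4291 F40213) (tt N5193 (iv F43678)) (tt N4291 F40214) (tt N3510 (iv D10178)))
theorem Q4293 : ∀ i, i < 4293 → P i := stepQ 4292 Q4292 (allL N4292 (tt N3521 F40215) (tt N4089 F40216) (tt N3919 F40217) (tt N3543 F40218) (tt N5193 (iv F43677)) (tt N4292 F40219) (tt N3512 F40220) (tt N4292 F40221) (tt N3511 (iv D10179)))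
theorem Q4294 : ∀ i, i < 4294 → P i := stepQ 4293 Q4293 (allL N4293 (tt N5190 (iv F43657)) (tt N4293 F40222) (tt N3520 F40223) (tt N5179 (iv F43593)) (tt N3514 F40224) (tt N4293 F40225) (tt N3922 F40226) (tt N4293 F40227) (tt N3513 (iv D10180)))
theorem Q4295 : ∀ i, i < 4295 → P i := stepQ 4294 Q4294 (allL N4294 (tt N5191 (iv F43663)) (tt N4294 F40228) (tt N3552 F40229) (tt N4294 F40230) (tt N3516 F40231) (tt N5181 (iv F43608)) (tt N4294 F40232) (tt N3932 F40233) (tt N3515 (iv D10181)))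
theorem Q4296 : ∀ i, i < 4296 → P i := stepQ 4295 Q4295 (allL N4295 (tt N4802 (iv F42131)) (tt N3522 F40234) (tt N3921 F40235) (tt N5196 D11083) (tt N4295 F40236) (tt N3518 F40237) (tt N4295 F40238) (tt N3517 (iv D10182)) (tt N5197 D11084))
theorem Q4297 : ∀ i, i < 4297 → P i := stepQ 4296 Q4296 (allL N4296 (tt N5192 (iv F43669)) (tt N3523 F40239) (tt N5198 D11085) (tt N3518 (iv D10183)) (tt N3554 F40240) (tt N5196 (iv F43691)) (tt N3519 F40241) (tt N4296 F40242) (tt N5199 D11086))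
theorem Q4298 : ∀ i, i < 4298 → P i := stepQ 4297 Q4297 (allL N4297 (tt N5193 (iv F43674)) (tt N3524 F40243) (tt N3922 F40244) (tt N5199 (iv F43708)) (tt N3521 F40245) (tt N5197 (iv F43698)) (tt N3520 F40246) (tt N4297 F40247) (tt N3518 (iv D10184)))
theorem Q4299 : ∀ i, i < 4299 → P i := stepQ 4298 Q4298 (allL N4298 (tt N5194 (iv F43680)) (tt N5200 D11087) (tt N3519 (iv D10185)) (tt N5106 (iv F43289)) (tt N3556 F40248) (tt N4298 F40249) (tt N5198 (iv F43705)) (tt N4298 F40250) (tt N5201 D11088))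
theorem Q4300 : ∀ i, i < 4300 → P i := stepQ 4299 Q4299 (allL N4299 (tt N5195 (iv F43684)) (tt N3526 F40251) (tt N5201 (iv F43717)) (tt N3520 F40252) (tt N3557 F40253) (tt N4299 F40254) (tt N5199 (iv F43710)) (tt N5202 D11089) (tt N3519 (iv D10186)))
theorem Q4301 : ∀ i, i < 4301 → P i := stepQ 4300 Q4300 (allL N4300 (tt N4102 F40255) (tt N5196 (iv F43689)) (tt N4957 (iv F42712)) (tt N3522 (iv D10187)) (tt N4956 F42709) (tt N3523 F40256) (tt N4300 F40257) (tt N4300 F40258) (tt N5203 D11090))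
theorem Q4302 : ∀ i, i < 4302 → P i := stepQ 4301 Q4301 (allL N4301 (tt N4103 F40259) (tt N5197 (iv F43695)) (tt N4301 F40260) (tt N5203 (iv F43726)) (tt N4301 F40261) (tt N3524 F40262) (tt N4301 F40263) (tt N4301 F40264) (tt N3522 (iv D10188)))
theorem Q4303 : ∀ i, i < 4303 → P i := stepQ 4302 Q4302 (allL N4302 (tt N4105 F40265) (tt N5199 (iv F43707)) (tt N5041 (iv F43041)) (tt N3524 F40266) (tt N3558 F40267) (tt N5203 (iv F43727)) (tt N3526 F40268) (tt N5204 D11091) (tt N3523 (iv D10189)))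
theorem Q4304 : ∀ i, i < 4304 → P i := stepQ 4303 Q4303 (allL N4303 (tt N5205 D11092) (tt N3525 (iv D10190)) (tt N5200 (iv F43711)) (tt N4303 F40269) (tt N3559 F40270) (tt N4303 F40271) (tt N5033 (iv F43013)) (tt N4303 F40272) (tt N5206 D11093))
theorem Q4305 : ∀ i, i < 4305 → P i := stepQ 4304 Q4304 (allL N4304 (tt N4107 F40273) (tt N5206 (iv F43739)) (tt N3526 F40274) (tt N4304 F40275) (tt N3560 F40276) (tt N4304 F40277) (tt N5041 (iv F43044)) (tt N5207 D11094) (tt N3525 (iv D10191)))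
theorem Q4306 : ∀ i, i < 4306 → P i := stepQ 4305 Q4305 (allL N4305 (tt N4108 F40278) (tt N5202 (iv F43720)) (tt N5207 (iv F43744)) (tt N4305 F40279) (tt N3561 F40280) (tt N4305 F40281) (tt N5204 (iv F43732)) (tt N3526 (iv D10192)) (tt N4305 F40282))
theorem Q4307 : ∀ i, i < 4307 → P i := stepQ 4306 Q4306 (allL N4306 (tt N3617 F40283) (tt N3532 F40284) (tt N5208 D11095) (tt N3527 (iv D10193)) (tt N3803 F40285) (tt N3987 F40286) (tt N3848 (iv F40288)) (tt N5209 D11096) (tt N3562 F40287))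
theorem Q4308 : ∀ i, i < 4308 → P i := stepQ 4307 Q4307 (allL N4307 (tt N3618 F40289) (tt N3533 F40290) (tt N4110 F40291) (tt N3848 F40292) (tt N3528 F40293) (tt N5178 (iv F43589)) (tt N3527 (iv D10194)) (tt N5210 D11097) (tt N3563 F40294))
theorem Q4309 : ∀ i, i < 4309 → P i := stepQ 4308 Q4308 (allL N4308 (tt N3619 F40295) (tt N3534 F40296) (tt N4111 F40297) (tt N5211 D11098) (tt N3529 F40298) (tt N3988 F40299) (tt N5210 (iv F43764)) (tt N3527 (iv D10195)) (tt N5212 D11099))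
theorem Q4310 : ∀ i, i < 4310 → P i := stepQ 4309 Q4309 (allL N4309 (tt N3620 F40300) (tt N3535 F40301) (tt N4112 F40302) (tt N3846 F40303) (tt N5210 (iv F43763)) (tt N4309 F40304) (tt N3529 F40305) (tt N3528 (iv D10196)) (tt N5213 D11100))
theorem Q4311 : ∀ i, i < 4311 → P i := stepQ 4310 Q4310 (allL N4310 (tt N3621 F40306) (tt N3536 F40307) (tt N5214 D11101) (tt N3529 (iv D10197)) (tt N5215 D11102) (tt N3530 F40308) (tt N3846 F40309) (tt N3804 F40310) (tt N5216 D11103))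
theorem Q4312 : ∀ i, i < 4312 → P i := stepQ 4311 Q4311 (allL N4311 (tt N3622 F40311) (tt N3537 F40312) (tt N4114 F40313) (tt N5216 (iv F43793)) (tt N5212 (iv F43771)) (tt N3531 F40314) (tt N5213 (iv F43779)) (tt N3567 F40315) (tt N3529 (iv D10198)))
theorem Q4313 : ∀ i, i < 4313 → P i := stepQ 4312 Q4312 (allL N4312 (tt N3623 F40316) (tt N5187 (iv F43641)) (tt N3530 (iv D10199)) (tt N4115 F40317) (tt N5217 D11104) (tt N5214 (iv F43784)) (tt N4312 F40318) (tt N3805 F40319) (tt N5218 D11105))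
theorem Q4314 : ∀ i, i < 4314 → P i := stepQ 4313 Q4313 (allL N4313 (tt N3624 F40320) (tt N3538 F40321) (tt N5217 (iv F43798)) (tt N3992 F40322) (tt N3530 (iv D10200)) (tt N5219 D11106) (tt N4313 F40323) (tt N3806 F40324) (tt N5220 D11107))
theorem Q4315 : ∀ i, i < 4315 → P i := stepQ 4314 Q4314 (allL N4314 (tt N3625 F40325) (tt N3539 F40326) (tt N5218 (iv F43802)) (tt N3531 F40327) (tt N5220 (iv F43812)) (tt N5216 (iv F43794)) (tt N4314 F40328) (tt N5221 D11108) (tt N3530 (iv D10201)))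
theorem Q4316 : ∀ i, i < 4316 → P i := stepQ 4315 Q4315 (allL N4315 (tt N3544 F40329) (tt N5209 (iv F43756)) (tt N4315 F40330) (tt N5222 D11109) (tt N3631 F40331) (tt N3994 F40332) (tt N3633 F40333) (tt N3532 (iv D10202)) (tt N5223 D11110))
theorem Q4317 : ∀ i, i < 4317 → P i := stepQ 4316 Q4316 (allL N4316 (tt N3545 F40334) (tt N5210 (iv F43761)) (tt N3540 F40335) (tt N5224 D11111) (tt N3535 F40336) (tt N5144 (iv F43426)) (tt N3534 F40337) (tt N3533 (iv D10203)) (tt N5225 D11112))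
theorem Q4318 : ∀ i, i < 4318 → P i := stepQ 4317 Q4317 (allL N4317 (tt N3546 F40338) (tt N5211 (iv F43766)) (tt N5226 D11113) (tt N3534 (iv D10204)) (tt N5227 D11114) (tt N3995 F40339) (tt N5224 (iv F43833)) (tt N5222 (iv F43824)) (tt N5228 D11115))
theorem Q4319 : ∀ i, i < 4319 → P i := stepQ 4318 Q4318 (allL N4318 (tt N3547 F40340) (tt N5212 (iv F43769)) (tt N3542 F40341) (tt N5228 (iv F43848)) (tt N3537 F40342) (tt N3996 F40343) (tt N5225 (iv F43838)) (tt N3576 F40344) (tt N3534 (iv D10205)))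
theorem Q4320 : ∀ i, i < 4320 → P i := stepQ 4319 Q4319 (allL N4319 (tt N3548 F40345) (tt N5213 (iv F43775)) (tt N3543 F40346) (tt N3854 F40347) (tt N5225 (iv F43837)) (tt N4319 F40348) (tt N3537 F40349) (tt N3578 F40350) (tt N3535 (iv D10206)))
theorem Q4321 : ∀ i, i < 4321 → P i := stepQ 4320 Q4320 (allL N4320 (tt N3549 F40351) (tt N5215 (iv F43788)) (tt N3726 F40352) (tt N5227 (iv F43844)) (tt N3536 (iv D10207)) (tt N5168 (iv F43539)) (tt N3627 F40353) (tt N3626 F40354) (tt N5229 D11116))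
theorem Q4322 : ∀ i, i < 4322 → P i := stepQ 4321 Q4321 (allL N4321 (tt N3550 F40355) (tt N5216 (iv F43792)) (tt N3917 F40356) (tt N3537 F40357) (tt N5229 (iv F43852)) (tt N3539 F40358) (tt N3854 F40359) (tt N3883 F40360) (tt N3536 (iv D10208)))
theorem Q4323 : ∀ i, i < 4323 → P i := stepQ 4322 Q4322 (allL N4322 (tt N3551 F40361) (tt N5219 (iv F43806)) (tt N5169 (iv F43544)) (tt N3999 F40362) (tt N5168 F43542) (tt N3538 (iv D10209)) (tt N5172 (iv F43559)) (tt N3808 F40363) (tt N5230 D11117))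
theorem Q4324 : ∀ i, i < 4324 → P i := stepQ 4323 Q4323 (allL N4323 (tt N3552 F40364) (tt N5220 (iv F43810)) (tt N5191 (iv F43664)) (tt N4000 F40365) (tt N3539 F40366) (tt N5230 (iv F43857)) (tt N4323 F40367) (tt N5231 D11118) (tt N3538 (iv D10210)))
theorem Q4325 : ∀ i, i < 4325 → P i := stepQ 4324 Q4324 (allL N4324 (tt N3553 F40368) (tt N5221 (iv F43815)) (tt N3931 F40369) (tt N3583 F40370) (tt N5231 (iv F43860)) (tt N3883 F40371) (tt N4324 F40372) (tt N3539 (iv D10211)) (tt N3810 F40373))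
theorem Q4326 : ∀ i, i < 4326 → P i := stepQ 4325 Q4325 (allL N4325 (tt N3554 F40374) (tt N4132 F40375) (tt N5232 D11119) (tt N3540 (iv D10212)) (tt N5192 (iv F43671)) (tt N5043 (iv F43052)) (tt N3541 F40376) (tt N4325 F40377) (tt N5233 D11120))
theorem Q4327 : ∀ i, i < 4327 → P i := stepQ 4326 Q4326 (allL N4326 (tt N3555 F40378) (tt N4133 F40379) (tt N5225 (iv F43836)) (tt N5233 (iv F43868)) (tt N3543 F40380) (tt N5147 (iv F43442)) (tt N3542 F40381) (tt N3586 F40382) (tt N3540 (iv D10213)))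
theorem Q4328 : ∀ i, i < 4328 → P i := stepQ 4327 Q4327 (allL N4327 (tt N3556 F40383) (tt N5234 D11121) (tt N3541 (iv D10214)) (tt N5226 (iv F43841)) (tt N5194 (iv F43681)) (tt N4002 F40384) (tt N5232 (iv F43864)) (tt N4327 F40385) (tt N5235 D11122))
theorem Q4329 : ∀ i, i < 4329 → P i := stepQ 4328 Q4328 (allL N4328 (tt N3557 F40386) (tt N4135 F40387) (tt N5235 (iv F43874)) (tt N3542 F40388) (tt N5195 (iv F43687)) (tt N4003 F40389) (tt N5233 (iv F43869)) (tt N5236 D11123) (tt N3541 (iv D10215)))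
theorem Q4330 : ∀ i, i < 4330 → P i := stepQ 4329 Q4329 (allL N4329 (tt N5222 (iv F43820)) (tt N3641 F40390) (tt N5118 (iv F43333)) (tt N3544 (iv D10216)) (tt N3643 F40391) (tt N4004 F40392) (tt N3646 F40393) (tt N3546 F40394) (tt N5237 D11124))
theorem Q4331 : ∀ i, i < 4331 → P i := stepQ 4330 Q4330 (allL N4330 (tt N5223 (iv F43825)) (tt N3642 F40395) (tt N4330 F40396) (tt N5237 (iv F43882)) (tt N3648 F40397) (tt N4005 F40398) (tt N3650 F40399) (tt N3592 F40400) (tt N3544 (iv D10217)))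
theorem Q4332 : ∀ i, i < 4332 → P i := stepQ 4331 Q4331 (allL N4331 (tt N5224 (iv F43831)) (tt N3643 F40401) (tt N5238 D11125) (tt N3545 (iv D10218)) (tt N3641 F40402) (tt N5120 (iv F43343)) (tt N3546 F40403) (tt N3646 F40404) (tt N5239 D11126))
theorem Q4333 : ∀ i, i < 4333 → P i := stepQ 4332 Q4332 (allL N4332 (tt N5225 (iv F43835)) (tt N3644 F40405) (tt N3555 F40406) (tt N5239 (iv F43891)) (tt N3548 F40407) (tt N5145 (iv F43432)) (tt N3547 F40408) (tt N3595 F40409) (tt N3545 (iv D10219)))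
theorem Q4334 : ∀ i, i < 4334 → P i := stepQ 4333 Q4333 (allL N4333 (tt N5226 (iv F43840)) (tt N5240 D11127) (tt N3546 (iv D10220)) (tt N3556 F40410) (tt N5107 (iv F43291)) (tt N4006 F40411) (tt N5238 (iv F43888)) (tt N5118 (iv F43336)) (tt N5241 D11128))
theorem Q4335 : ∀ i, i < 4335 → P i := stepQ 4334 Q4334 (allL N4334 (tt N5227 (iv F43843)) (tt N3646 F40412) (tt N5107 (iv F43290)) (tt N3549 F40413) (tt N3546 (iv D10221)) (tt N5109 (iv F43300)) (tt N3641 F40414) (tt N3643 F40415) (tt N5242 D11129))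
theorem Q4336 : ∀ i, i < 4336 → P i := stepQ 4335 Q4335 (allL N4335 (tt N5228 (iv F43847)) (tt N3647 F40416) (tt N5241 (iv F43897)) (tt N3547 F40417) (tt N5242 (iv F43902)) (tt N4008 F40418) (tt N5239 (iv F43893)) (tt N5243 D11130) (tt N3546 (iv D10222)))
theorem Q4337 : ∀ i, i < 4337 → P i := stepQ 4336 Q4336 (allL N4336 (tt N5229 (iv F43850)) (tt N3650 F40419) (tt N3730 F40420) (tt N5242 (iv F43901)) (tt N3550 F40421) (tt N5180 (iv F43601)) (tt N3642 F40422) (tt N3695 F40423) (tt N3549 (iv D10223)))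
theorem Q4338 : ∀ i, i < 4338 → P i := stepQ 4337 Q4337 (allL N4337 (tt N5230 (iv F43855)) (tt N3653 F40424) (tt N5181 (iv F43605)) (tt N4013 F40425) (tt N5180 (iv F43600)) (tt N3552 F40426) (tt N5184 (iv F43626)) (tt N5244 D11131) (tt N3551 (iv D10224)))
theorem Q4339 : ∀ i, i < 4339 → P i := stepQ 4338 Q4338 (allL N4338 (tt N5231 (iv F43858)) (tt N3654 F40427) (tt N3932 F40428) (tt N5245 D11132) (tt N3553 F40429) (tt N5244 (iv F43910)) (tt N4338 F40430) (tt N3552 (iv D10225)) (tt N3811 F40431))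
theorem Q4340 : ∀ i, i < 4340 → P i := stepQ 4339 Q4339 (allL N4339 (tt N5232 (iv F43863)) (tt N5032 (iv F43004)) (tt N3554 (iv D10226)) (tt N5238 (iv F43886)) (tt N5198 (iv F43703)) (tt N5035 (iv F43021)) (tt N3556 F40432) (tt N4339 F40433) (tt N5246 D11133))
theorem Q4341 : ∀ i, i < 4341 → P i := stepQ 4340 Q4340 (allL N4340 (tt N5233 (iv F43866)) (tt N3558 F40434) (tt N5246 (iv F43917)) (tt N3555 F40435) (tt N5199 (iv F43709)) (tt N5044 (iv F43057)) (tt N3557 F40436) (tt N5247 D11134) (tt N3554 (iv D10227)))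
theorem Q4342 : ∀ i, i < 4342 → P i := stepQ 4341 Q4341 (allL N4341 (tt N5248 D11135) (tt N3556 (iv D10228)) (tt N3559 F40437) (tt N5240 (iv F43895)) (tt N5200 (iv F43713)) (tt N3608 F40438) (tt N5032 (iv F43006)) (tt N4341 F40439) (tt N5249 D11136))
theorem Q4343 : ∀ i, i < 4343 → P i := stepQ 4342 Q4342 (allL N4342 (tt N5235 (iv F43873)) (tt N5249 (iv F43926)) (tt N3557 F40440) (tt N5241 (iv F43898)) (tt N5201 (iv F43718)) (tt N4015 F40441) (tt N5246 (iv F43918)) (tt N5250 D11137) (tt N3556 (iv D10229)))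
theorem Q4344 : ∀ i, i < 4344 → P i := stepQ 4343 Q4343 (allL N4343 (tt N5236 (iv F43876)) (tt N3561 F40442) (tt N5250 (iv F43929)) (tt N3612 F40443) (tt N5202 (iv F43722)) (tt N4016 F40444) (tt N5247 (iv F43921)) (tt N3557 (iv D10230)) (tt N4343 F40445))
theorem Q4345 : ∀ i, i < 4345 → P i := stepQ 4344 Q4344 (allL N4344 (tt N4165 F40446) (tt N5247 (iv F43919)) (tt N5042 (iv F43045)) (tt N3613 F40447) (tt N5204 (iv F43731)) (tt N5045 (iv F43062)) (tt N3561 F40448) (tt N3558 (iv D10231)) (tt N4344 F40449))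
theorem Q4346 : ∀ i, i < 4346 → P i := stepQ 4345 Q4345 (allL N4345 (tt N3559 (iv D10232)) (tt N4166 F40450) (tt N5248 (iv F43923)) (tt N3584 F40451) (tt N5205 (iv F43736)) (tt N3585 F40452) (tt N5000 (iv F42888)) (tt N4345 F40453) (tt N5251 D11138))
theorem Q4347 : ∀ i, i < 4347 → P i := stepQ 4346 Q4346 (allL N4346 (tt N5251 (iv F43932)) (tt N3560 F40454) (tt N5249 (iv F43927)) (tt N3607 F40455) (tt N5206 (iv F43741)) (tt N3609 F40456) (tt N5034 (iv F43018)) (tt N5252 D11139) (tt N3559 (iv D10233)))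
theorem Q4348 : ∀ i, i < 4348 → P i := stepQ 4347 Q4347 (allL N4347 (tt N4168 F40457) (tt N5252 (iv F43936)) (tt N3561 F40458) (tt N5045 (iv F43061)) (tt N5207 (iv F43745)) (tt N3613 F40459) (tt N5042 (iv F43048)) (tt N3560 (iv D10234)) (tt N4347 F40460))
theorem Q4349 : ∀ i, i < 4349 → P i := stepQ 4348 Q4348 (allL N4348 (tt N3656 F40461) (tt N4348 F40462) (tt N3562 (iv D10235)) (tt N4813 (iv F42189)) (tt N3812 F40463) (tt N4965 (iv F42750)) (tt N5253 D11140) (tt N5254 D11141) (tt N5208 (iv F43754)))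
theorem Q4350 : ∀ i, i < 4350 → P i := stepQ 4349 Q4349 (allL N4349 (tt N3657 F40464) (tt N3571 F40465) (tt N5253 (iv F43941)) (tt N3563 F40466) (tt N3813 F40467) (tt N5255 D11142) (tt N3562 (iv D10236)) (tt N5256 D11143) (tt N3848 F40468))
theorem Q4351 : ∀ i, i < 4351 → P i := stepQ 4350 Q4350 (allL N4350 (tt N3658 F40469) (tt N3572 F40470) (tt N5254 (iv F43946)) (tt N5257 D11144) (tt N3814 F40471) (tt N4967 (iv F42760)) (tt N5256 (iv F43956)) (tt N3562 (iv D10237)) (tt N5258 D11145))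
theorem Q4352 : ∀ i, i < 4352 → P i := stepQ 4351 Q4351 (allL N4351 (tt N3659 F40472) (tt N3573 F40473) (tt N4269 F40474) (tt N5255 (iv F43950)) (tt N4351 F40475) (tt N3563 (iv D10238)) (tt N4968 (iv F42764)) (tt N5259 D11146) (tt N5178 (iv F43591)))
theorem Q4353 : ∀ i, i < 4353 → P i := stepQ 4352 Q4352 (allL N4352 (tt N3660 F40476) (tt N3574 F40477) (tt N4515 (iv F41037)) (tt N5260 D11147) (tt N3565 F40478) (tt N5259 (iv F43967)) (tt N3564 F40479) (tt N3563 (iv D10239)) (tt N5261 D11148))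
theorem Q4354 : ∀ i, i < 4354 → P i := stepQ 4353 Q4353 (allL N4353 (tt N3661 F40480) (tt N3575 F40481) (tt N5262 D11149) (tt N3564 (iv D10240)) (tt N5263 D11150) (tt N4970 (iv F42772)) (tt N5260 (iv F43970)) (tt N5257 (iv F43959)) (tt N5264 D11151))
theorem Q4355 : ∀ i, i < 4355 → P i := stepQ 4354 Q4354 (allL N4354 (tt N3662 F40482) (tt N3576 F40483) (tt N4816 (iv F42198)) (tt N5264 (iv F43981)) (tt N3567 F40484) (tt N4971 (iv F42776)) (tt N5261 (iv F43974)) (tt N5212 (iv F43773)) (tt N3564 (iv D10241)))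
theorem Q4356 : ∀ i, i < 4356 → P i := stepQ 4355 Q4355 (allL N4355 (tt N3663 F40485) (tt N3577 F40486) (tt N5265 D11152) (tt N3565 (iv D10242)) (tt N5266 D11153) (tt N4355 F40487) (tt N3566 F40488) (tt N3816 F40489) (tt N5267 D11154))
theorem Q4357 : ∀ i, i < 4357 → P i := stepQ 4356 Q4356 (allL N4356 (tt N3664 F40490) (tt N3578 F40491) (tt N4619 (iv F41425)) (tt N5267 (iv F43993)) (tt N5261 (iv F43973)) (tt N4356 F40492) (tt N3567 F40493) (tt N5213 (iv F43780)) (tt N3565 (iv D10243)))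
theorem Q4358 : ∀ i, i < 4358 → P i := stepQ 4357 Q4357 (allL N4357 (tt N3665 F40494) (tt N4357 F40495) (tt N3566 (iv D10244)) (tt N4817 (iv F42202)) (tt N5268 D11155) (tt N3568 F40496) (tt N5265 (iv F43985)) (tt N3817 F40497) (tt N5269 D11156))
theorem Q4359 : ∀ i, i < 4359 → P i := stepQ 4358 Q4358 (allL N4358 (tt N3666 F40498) (tt N3579 F40499) (tt N5268 (iv F43999)) (tt N5263 (iv F43978)) (tt N3566 (iv D10245)) (tt N5270 D11157) (tt N5266 (iv F43989)) (tt N3818 F40500) (tt N5271 D11158))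
theorem Q4360 : ∀ i, i < 4360 → P i := stepQ 4359 Q4359 (allL N4359 (tt N3667 F40501) (tt N3580 F40502) (tt N5269 (iv F44003)) (tt N3567 F40503) (tt N5271 (iv F44011)) (tt N3570 F40504) (tt N5267 (iv F43995)) (tt N5272 D11159) (tt N3566 (iv D10246)))
theorem Q4361 : ∀ i, i < 4361 → P i := stepQ 4360 Q4360 (allL N4360 (tt N3668 F40505) (tt N4360 F40506) (tt N3569 F40507) (tt N5273 D11160) (tt N3568 (iv D10247)) (tt N5274 D11161) (tt N4360 F40508) (tt N3820 F40509) (tt N5275 D11162))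
theorem Q4362 : ∀ i, i < 4362 → P i := stepQ 4361 Q4361 (allL N4361 (tt N3669 F40510) (tt N4361 F40511) (tt N3570 F40512) (tt N4821 (iv F42220)) (tt N5275 (iv F44028)) (tt N5269 (iv F44004)) (tt N4361 F40513) (tt N5276 D11163) (tt N3568 (iv D10248)))
theorem Q4363 : ∀ i, i < 4363 → P i := stepQ 4362 Q4362 (allL N4362 (tt N3670 F40514) (tt N3581 F40515) (tt N5274 (iv F44023)) (tt N4979 (iv F42807)) (tt N5270 (iv F44007)) (tt N3569 (iv D10249)) (tt N5277 D11164) (tt N3822 F40516) (tt N5278 D11165))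
theorem Q4364 : ∀ i, i < 4364 → P i := stepQ 4363 Q4363 (allL N4363 (tt N3671 F40517) (tt N3582 F40518) (tt N5275 (iv F44027)) (tt N4980 (iv F42811)) (tt N3570 F40519) (tt N5278 (iv F44041)) (tt N4363 F40520) (tt N5279 D11166) (tt N3569 (iv D10250)))
theorem Q4365 : ∀ i, i < 4365 → P i := stepQ 4364 Q4364 (allL N4364 (tt N3672 F40521) (tt N3583 F40522) (tt N5276 (iv F44032)) (tt N5221 (iv F43816)) (tt N5279 (iv F44044)) (tt N5272 (iv F44015)) (tt N4364 F40523) (tt N3570 (iv D10251)) (tt N3824 F40524))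
theorem Q4366 : ∀ i, i < 4366 → P i := stepQ 4365 Q4365 (allL N4365 (tt N3589 F40525) (tt N5255 (iv F43949)) (tt N4365 F40526) (tt N3573 F40527) (tt N3857 F40528) (tt N3571 (iv D10252)) (tt N4982 (iv F42822)) (tt N5280 D11167) (tt N3855 F40529))
theorem Q4367 : ∀ i, i < 4367 → P i := stepQ 4366 Q4366 (allL N4366 (tt N3590 F40530) (tt N5256 (iv F43954)) (tt N4366 F40531) (tt N5281 D11168) (tt N3825 F40532) (tt N5280 (iv F44050)) (tt N3572 F40533) (tt N3571 (iv D10253)) (tt N5282 D11169))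
theorem Q4368 : ∀ i, i < 4368 → P i := stepQ 4367 Q4367 (allL N4367 (tt N3591 F40534) (tt N5257 (iv F43958)) (tt N5283 D11170) (tt N3572 (iv D10254)) (tt N5284 D11171) (tt N4984 (iv F42830)) (tt N5281 (iv F44053)) (tt N3575 F40535) (tt N5285 D11172))
theorem Q4369 : ∀ i, i < 4369 → P i := stepQ 4368 Q4368 (allL N4368 (tt N3592 F40536) (tt N5258 (iv F43961)) (tt N4368 F40537) (tt N5285 (iv F44068)) (tt N3827 F40538) (tt N4985 (iv F42835)) (tt N5282 (iv F44058)) (tt N5223 (iv F43830)) (tt N3572 (iv D10255)))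
theorem Q4370 : ∀ i, i < 4370 → P i := stepQ 4369 Q4369 (allL N4369 (tt N3593 F40539) (tt N5259 (iv F43964)) (tt N3584 F40540) (tt N5286 D11173) (tt N4369 F40541) (tt N3574 F40542) (tt N4986 (iv F42841)) (tt N3573 (iv D10256)) (tt N5287 D11174))
theorem Q4371 : ∀ i, i < 4371 → P i := stepQ 4370 Q4370 (allL N4370 (tt N3594 F40543) (tt N5260 (iv F43969)) (tt N5288 D11175) (tt N3574 (iv D10257)) (tt N5289 D11176) (tt N5286 (iv F44070)) (tt N3575 F40544) (tt N5281 (iv F44054)) (tt N5290 D11177))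
theorem Q4372 : ∀ i, i < 4372 → P i := stepQ 4371 Q4371 (allL N4371 (tt N3595 F40545) (tt N5261 (iv F43972)) (tt N3586 F40546) (tt N5290 (iv F44083)) (tt N3578 F40547) (tt N5287 (iv F44074)) (tt N3576 F40548) (tt N5225 (iv F43839)) (tt N3574 (iv D10258)))
theorem Q4373 : ∀ i, i < 4373 → P i := stepQ 4372 Q4372 (allL N4372 (tt N3596 F40549) (tt N5291 D11178) (tt N3575 (iv D10259)) (tt N3587 F40550) (tt N5292 D11179) (tt N4989 (iv F42851)) (tt N5288 (iv F44077)) (tt N5283 (iv F44062)) (tt N5293 D11180))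
theorem Q4374 : ∀ i, i < 4374 → P i := stepQ 4373 Q4373 (allL N4373 (tt N3597 F40551) (tt N5263 (iv F43977)) (tt N5292 (iv F44087)) (tt N3579 F40552) (tt N3575 (iv D10260)) (tt N5294 D11181) (tt N5289 (iv F44080)) (tt N5284 (iv F44066)) (tt N5295 D11182))
theorem Q4375 : ∀ i, i < 4375 → P i := stepQ 4374 Q4374 (allL N4374 (tt N3598 F40553) (tt N5264 (iv F43980)) (tt N5293 (iv F44090)) (tt N3576 F40554) (tt N5295 (iv F44096)) (tt N4991 (iv F42856)) (tt N5290 (iv F44084)) (tt N5296 D11183) (tt N3575 (iv D10261)))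
theorem Q4376 : ∀ i, i < 4376 → P i := stepQ 4375 Q4375 (allL N4375 (tt N3599 F40555) (tt N5266 (iv F43988)) (tt N4375 F40556) (tt N5289 (iv F44079)) (tt N3577 (iv D10262)) (tt N5297 D11184) (tt N3579 F40557) (tt N3829 F40558) (tt N5298 D11185))
theorem Q4377 : ∀ i, i < 4377 → P i := stepQ 4376 Q4376 (allL N4376 (tt N3600 F40559) (tt N5267 (iv F43992)) (tt N4376 F40560) (tt N3578 F40561) (tt N5298 (iv F44104)) (tt N4376 F40562) (tt N3580 F40563) (tt N3885 F40564) (tt N3577 (iv D10263)))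
theorem Q4378 : ∀ i, i < 4378 → P i := stepQ 4377 Q4377 (allL N4377 (tt N3601 F40565) (tt N5270 (iv F44006)) (tt N4377 F40566) (tt N5294 (iv F44093)) (tt N3581 F40567) (tt N3579 (iv D10264)) (tt N5299 D11186) (tt N3830 F40568) (tt N5300 D11187))
theorem Q4379 : ∀ i, i < 4379 → P i := stepQ 4378 Q4378 (allL N4378 (tt N3602 F40569) (tt N5271 (iv F44010)) (tt N4378 F40570) (tt N5295 (iv F44095)) (tt N3580 F40571) (tt N5300 (iv F44114)) (tt N5298 (iv F44105)) (tt N5301 D11188) (tt N3579 (iv D10265)))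
theorem Q4380 : ∀ i, i < 4380 → P i := stepQ 4379 Q4379 (allL N4379 (tt N3603 F40572) (tt N5272 (iv F44013)) (tt N4379 F40573) (tt N3883 F40574) (tt N5301 (iv F44117)) (tt N3583 F40575) (tt N3885 F40576) (tt N3580 (iv D10266)) (tt N3832 F40577))
theorem Q4381 : ∀ i, i < 4381 → P i := stepQ 4380 Q4380 (allL N4380 (tt N3604 F40578) (tt N5277 (iv F44036)) (tt N4380 F40579) (tt N4997 (iv F42876)) (tt N5299 (iv F44109)) (tt N4380 F40580) (tt N3581 (iv D10267)) (tt N3833 F40581) (tt N5302 D11189))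
theorem Q4382 : ∀ i, i < 4382 → P i := stepQ 4381 Q4381 (allL N4381 (tt N3605 F40582) (tt N5278 (iv F44040)) (tt N4381 F40583) (tt N4998 (iv F42880)) (tt N5300 (iv F44113)) (tt N3582 F40584) (tt N5302 (iv F44123)) (tt N5303 D11190) (tt N3581 (iv D10268)))
theorem Q4383 : ∀ i, i < 4383 → P i := stepQ 4382 Q4382 (allL N4382 (tt N3606 F40585) (tt N5279 (iv F44043)) (tt N4382 F40586) (tt N5304 D11191) (tt N3583 F40587) (tt N5303 (iv F44126)) (tt N4382 F40588) (tt N3582 (iv D10269)) (tt N3835 F40589))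
theorem Q4384 : ∀ i, i < 4384 → P i := stepQ 4383 Q4383 (allL N4383 (tt N3607 F40590) (tt N4242 F40591) (tt N5287 (iv F44072)) (tt N5251 (iv F43934)) (tt N4383 F40592) (tt N3586 F40593) (tt N5001 (iv F42893)) (tt N5147 (iv F43444)) (tt N3584 (iv D10270)))
theorem Q4385 : ∀ i, i < 4385 → P i := stepQ 4384 Q4384 (allL N4384 (tt N3608 F40594) (tt N5305 D11192) (tt N3585 (iv D10271)) (tt N5288 (iv F44076)) (tt N4384 F40595) (tt N5248 (iv F43924)) (tt N3587 F40596) (tt N4384 F40597) (tt N5306 D11193))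
theorem Q4386 : ∀ i, i < 4386 → P i := stepQ 4385 Q4385 (allL N4385 (tt N3609 F40598) (tt N4419 (iv F40713)) (tt N5306 (iv F44136)) (tt N3586 F40599) (tt N4385 F40600) (tt N5251 (iv F43935)) (tt N3588 F40601) (tt N5307 D11194) (tt N3585 (iv D10272)))
theorem Q4387 : ∀ i, i < 4387 → P i := stepQ 4386 Q4386 (allL N4386 (tt N5308 D11195) (tt N3587 (iv D10273)) (tt N4836 (iv F42267)) (tt N5291 (iv F44085)) (tt N4386 F40602) (tt N5004 (iv F42902)) (tt N5305 (iv F44133)) (tt N4386 F40603) (tt N5309 D11196))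
theorem Q4388 : ∀ i, i < 4388 → P i := stepQ 4387 Q4387 (allL N4387 (tt N3611 F40604) (tt N5309 (iv F44148)) (tt N3588 F40605) (tt N5293 (iv F44091)) (tt N4387 F40606) (tt N5005 (iv F42906)) (tt N5306 (iv F44138)) (tt N5310 D11197) (tt N3587 (iv D10274)))
theorem Q4389 : ∀ i, i < 4389 → P i := stepQ 4388 Q4388 (allL N4388 (tt N3612 F40607) (tt N4838 (iv F42274)) (tt N5310 (iv F44151)) (tt N5236 (iv F43878)) (tt N4388 F40608) (tt N5006 (iv F42909)) (tt N5307 (iv F44141)) (tt N3588 (iv D10275)) (tt N4388 F40609))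
theorem Q4390 : ∀ i, i < 4390 → P i := stepQ 4389 Q4389 (allL N4389 (tt N5280 (iv F44047)) (tt N3693 F40610) (tt N4389 F40611) (tt N5311 D11198) (tt N3860 F40612) (tt N3590 F40613) (tt N5007 (iv F42915)) (tt N3589 (iv D10276)) (tt N5312 D11199))
theorem Q4391 : ∀ i, i < 4391 → P i := stepQ 4390 Q4390 (allL N4390 (tt N5281 (iv F44051)) (tt N3694 F40614) (tt N5313 D11200) (tt N3590 (iv D10277)) (tt N3900 F40615) (tt N5311 (iv F44155)) (tt N3591 F40616) (tt N3594 F40617) (tt N5314 D11201))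
theorem Q4392 : ∀ i, i < 4392 → P i := stepQ 4391 Q4391 (allL N4391 (tt N5282 (iv F44055)) (tt N3695 F40618) (tt N4391 F40619) (tt N5314 (iv F44168)) (tt N3651 F40620) (tt N5312 (iv F44160)) (tt N3592 F40621) (tt N3650 F40622) (tt N3590 (iv D10278)))
theorem Q4393 : ∀ i, i < 4393 → P i := stepQ 4392 Q4392 (allL N4392 (tt N5283 (iv F44060)) (tt N5315 D11202) (tt N3591 (iv D10279)) (tt N4392 F40623) (tt N5316 D11203) (tt N5010 (iv F42925)) (tt N5313 (iv F44165)) (tt N3596 F40624) (tt N5317 D11204))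
theorem Q4394 : ∀ i, i < 4394 → P i := stepQ 4393 Q4393 (allL N4393 (tt N5284 (iv F44063)) (tt N3697 F40625) (tt N5316 (iv F44175)) (tt N3836 F40626) (tt N3591 (iv D10280)) (tt N5318 D11205) (tt N3900 F40627) (tt N3597 F40628) (tt N5319 D11206))
theorem Q4395 : ∀ i, i < 4395 → P i := stepQ 4394 Q4394 (allL N4394 (tt N5285 (iv F44067)) (tt N3698 F40629) (tt N5317 (iv F44179)) (tt N3592 F40630) (tt N5319 (iv F44186)) (tt N5012 (iv F42932)) (tt N5314 (iv F44170)) (tt N5320 D11207) (tt N3591 (iv D10281)))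
theorem Q4396 : ∀ i, i < 4396 → P i := stepQ 4395 Q4395 (allL N4395 (tt N5286 (iv F44069)) (tt N3645 F40631) (tt N5240 (iv F43894)) (tt N3593 (iv D10282)) (tt N5321 D11208) (tt N3594 F40632) (tt N5013 (iv F42935)) (tt N5311 (iv F44156)) (tt N5322 D11209))
theorem Q4397 : ∀ i, i < 4397 → P i := stepQ 4396 Q4396 (allL N4396 (tt N5287 (iv F44071)) (tt N3655 F40633) (tt N3607 F40634) (tt N5322 (iv F44193)) (tt N4396 F40635) (tt N3595 F40636) (tt N5014 (iv F42940)) (tt N5145 (iv F43434)) (tt N3593 (iv D10283)))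
theorem Q4398 : ∀ i, i < 4398 → P i := stepQ 4397 Q4397 (allL N4397 (tt N5288 (iv F44075)) (tt N4006 F40637) (tt N3594 (iv D10284)) (tt N3608 F40638) (tt N5323 D11210) (tt N5240 (iv F43896)) (tt N3596 F40639) (tt N5313 (iv F44166)) (tt N5324 D11211))
theorem Q4399 : ∀ i, i < 4399 → P i := stepQ 4398 Q4398 (allL N4398 (tt N5289 (iv F44078)) (tt N3699 F40640) (tt N5323 (iv F44196)) (tt N3599 F40641) (tt N3594 (iv D10285)) (tt N5325 D11212) (tt N3597 F40642) (tt N3900 F40643) (tt N5326 D11213))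
theorem Q4400 : ∀ i, i < 4400 → P i := stepQ 4399 Q4399 (allL N4399 (tt N5290 (iv F44082)) (tt N3700 F40644) (tt N5324 (iv F44201)) (tt N3595 F40645) (tt N5326 (iv F44209)) (tt N5322 (iv F44194)) (tt N3598 F40646) (tt N5327 D11214) (tt N3594 (iv D10286)))
theorem Q4401 : ∀ i, i < 4401 → P i := stepQ 4400 Q4400 (allL N4400 (tt N5328 D11215) (tt N3596 (iv D10287)) (tt N3701 F40647) (tt N3610 F40648) (tt N5329 D11216) (tt N5018 (iv F42955)) (tt N4006 F40649) (tt N5315 (iv F44174)) (tt N5330 D11217))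
theorem Q4402 : ∀ i, i < 4402 → P i := stepQ 4401 Q4401 (allL N4401 (tt N5292 (iv F44086)) (tt N5329 (iv F44216)) (tt N3597 F40650) (tt N4401 F40651) (tt N3596 (iv D10288)) (tt N5331 D11218) (tt N5323 (iv F44198)) (tt N5316 (iv F44177)) (tt N5332 D11219))
theorem Q4403 : ∀ i, i < 4403 → P i := stepQ 4402 Q4402 (allL N4402 (tt N5293 (iv F44089)) (tt N5330 (iv F44220)) (tt N3598 F40652) (tt N3611 F40653) (tt N5332 (iv F44228)) (tt N5020 (iv F42961)) (tt N5324 (iv F44203)) (tt N5333 D11220) (tt N3596 (iv D10289)))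
theorem Q4404 : ∀ i, i < 4404 → P i := stepQ 4403 Q4403 (allL N4403 (tt N5294 (iv F44092)) (tt N3704 F40654) (tt N5331 (iv F44224)) (tt N3601 F40655) (tt N5021 (iv F42964)) (tt N3597 (iv D10290)) (tt N5334 D11221) (tt N5318 (iv F44183)) (tt N5335 D11222))
theorem Q4405 : ∀ i, i < 4405 → P i := stepQ 4404 Q4404 (allL N4404 (tt N5295 (iv F44094)) (tt N3705 F40656) (tt N5332 (iv F44226)) (tt N3602 F40657) (tt N3598 F40658) (tt N5335 (iv F44234)) (tt N5326 (iv F44210)) (tt N5336 D11223) (tt N3597 (iv D10291)))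
theorem Q4406 : ∀ i, i < 4406 → P i := stepQ 4405 Q4405 (allL N4405 (tt N5296 (iv F44097)) (tt N3706 F40659) (tt N5333 (iv F44229)) (tt N5243 (iv F43905)) (tt N5336 (iv F44236)) (tt N5023 (iv F42970)) (tt N5327 (iv F44212)) (tt N3598 (iv D10292)) (tt N5320 (iv F44189)))
theorem Q4407 : ∀ i, i < 4407 → P i := stepQ 4406 Q4406 (allL N4406 (tt N5297 (iv F44098)) (tt N3707 F40660) (tt N4406 F40661) (tt N5325 (iv F44205)) (tt N4406 F40662) (tt N3599 (iv D10293)) (tt N5337 D11224) (tt N3838 F40663) (tt N5338 D11225))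
theorem Q4408 : ∀ i, i < 4408 → P i := stepQ 4407 Q4407 (allL N4407 (tt N5298 (iv F44102)) (tt N3708 F40664) (tt N4407 F40665) (tt N5326 (iv F44208)) (tt N3600 F40666) (tt N5338 (iv F44245)) (tt N3602 F40667) (tt N3895 F40668) (tt N3599 (iv D10294)))
theorem Q4409 : ∀ i, i < 4409 → P i := stepQ 4408 Q4408 (allL N4408 (tt N5299 (iv F44107)) (tt N3710 F40669) (tt N4408 F40670) (tt N5334 (iv F44231)) (tt N3604 F40671) (tt N5337 (iv F44240)) (tt N3601 (iv D10295)) (tt N3839 F40672) (tt N5339 D11226))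
theorem Q4410 : ∀ i, i < 4410 → P i := stepQ 4409 Q4409 (allL N4409 (tt N5300 (iv F44111)) (tt N3711 F40673) (tt N4409 F40674) (tt N5335 (iv F44233)) (tt N3605 F40675) (tt N3602 F40676) (tt N5339 (iv F44250)) (tt N5340 D11227) (tt N3601 (iv D10296)))
theorem Q4411 : ∀ i, i < 4411 → P i := stepQ 4410 Q4410 (allL N4410 (tt N5301 (iv F44115)) (tt N3712 F40677) (tt N4410 F40678) (tt N5341 D11228) (tt N3603 F40679) (tt N5340 (iv F44254)) (tt N3895 F40680) (tt N3602 (iv D10297)) (tt N3841 F40681))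
theorem Q4412 : ∀ i, i < 4412 → P i := stepQ 4411 Q4411 (allL N4411 (tt N5302 (iv F44120)) (tt N3713 F40682) (tt N4411 F40683) (tt N5029 (iv F42993)) (tt N5339 (iv F44249)) (tt N4411 F40684) (tt N3605 F40685) (tt N5342 D11229) (tt N3604 (iv D10298)))
theorem Q4413 : ∀ i, i < 4413 → P i := stepQ 4412 Q4412 (allL N4412 (tt N5303 (iv F44124)) (tt N3714 F40686) (tt N4412 F40687) (tt N5343 D11230) (tt N5340 (iv F44253)) (tt N3606 F40688) (tt N5342 (iv F44264)) (tt N3605 (iv D10299)) (tt N3843 F40689))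
theorem Q4414 : ∀ i, i < 4414 → P i := stepQ 4413 Q4413 (allL N4413 (tt N5304 (iv F44128)) (tt N3715 F40690) (tt N5344 D11231) (tt N3606 (iv D10300)) (tt N5245 (iv F43913)) (tt N5343 (iv F44267)) (tt N4413 F40691) (tt N5031 (iv F43002)) (tt N3844 F40692))
theorem Q4415 : ∀ i, i < 4415 → P i := stepQ 4414 Q4414 (allL N4414 (tt N5306 (iv F44135)) (tt N4015 F40693) (tt N3609 F40694) (tt N5324 (iv F44202)) (tt N4414 F40695) (tt N5249 (iv F43928)) (tt N3611 F40696) (tt N5345 D11232) (tt N3608 (iv D10301)))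
theorem Q4416 : ∀ i, i < 4416 → P i := stepQ 4415 Q4415 (allL N4415 (tt N5307 (iv F44139)) (tt N3613 F40697) (tt N5345 (iv F44273)) (tt N5247 (iv F43920)) (tt N4415 F40698) (tt N5252 (iv F43937)) (tt N3612 F40699) (tt N3609 (iv D10302)) (tt N4415 F40700))
theorem Q4417 : ∀ i, i < 4417 → P i := stepQ 4416 Q4416 (allL N4416 (tt N3610 (iv D10303)) (tt N5308 (iv F44143)) (tt N3614 F40701) (tt N5328 (iv F44214)) (tt N4416 F40702) (tt N5038 (iv F43032)) (tt N4002 F40703) (tt N4416 F40704) (tt N5346 D11233))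
theorem Q4418 : ∀ i, i < 4418 → P i := stepQ 4417 Q4417 (allL N4417 (tt N5346 (iv F44277)) (tt N3611 F40705) (tt N3615 F40706) (tt N5330 (iv F44222)) (tt N4417 F40707) (tt N5039 (iv F43036)) (tt N4015 F40708) (tt N5347 D11234) (tt N3610 (iv D10304)))
theorem Q4419 : ∀ i, i < 4419 → P i := stepQ 4418 Q4418 (allL N4418 (tt N5310 (iv F44150)) (tt N5347 (iv F44281)) (tt N3612 F40709) (tt N5348 D11235) (tt N4418 F40710) (tt N5040 (iv F43038)) (tt N5345 (iv F44275)) (tt N3611 (iv D10305)) (tt N4418 F40711))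
theorem Q4420 : ∀ i, i < 4420 → P i := stepQ 4419 Q4419 (allL N4419 (tt N3615 F40712) (tt N4385 F40713) (tt N5346 (iv F44278)) (tt N3718 F40714) (tt N4419 F40715) (tt N5046 (iv F43067)) (tt N4003 F40716) (tt N5349 D11236) (tt N3614 (iv D10306)))
theorem Q4421 : ∀ i, i < 4421 → P i := stepQ 4420 Q4420 (allL N4420 (tt N5349 (iv F44287)) (tt N3616 F40717) (tt N5347 (iv F44282)) (tt N5037 (iv F43028)) (tt N4420 F40718) (tt N5047 (iv F43069)) (tt N4016 F40719) (tt N3615 (iv D10307)) (tt N4420 F40720))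
theorem Q4422 : ∀ i, i < 4422 → P i := stepQ 4421 Q4421 (allL N4421 (tt N5208 (iv F43748)) (tt N3719 F40721) (tt N3617 (iv D10308)) (tt N4169 F40722) (tt N3845 F40723) (tt N4017 F40724) (tt N5350 D11237) (tt N5351 D11238) (tt N3656 F40725))
theorem Q4423 : ∀ i, i < 4423 → P i := stepQ 4422 Q4422 (allL N4422 (tt N3848 F40726) (tt N3626 F40727) (tt N5350 (iv F44294)) (tt N3618 F40728) (tt N3804 F40729) (tt N5175 (iv F43572)) (tt N3617 (iv D10309)) (tt N5215 (iv F43790)) (tt N3657 F40730))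
theorem Q4424 : ∀ i, i < 4424 → P i := stepQ 4423 Q4423 (allL N4423 (tt N5209 (iv F43755)) (tt N3627 F40731) (tt N5351 (iv F44299)) (tt N5352 D11239) (tt N3846 F40732) (tt N4018 F40733) (tt N5215 (iv F43789)) (tt N3617 (iv D10310)) (tt N5353 D11240))
theorem Q4425 : ∀ i, i < 4425 → P i := stepQ 4424 Q4424 (allL N4424 (tt N5210 (iv F43760)) (tt N3628 F40734) (tt N4173 F40735) (tt N5354 D11241) (tt N3620 F40736) (tt N5102 (iv F43268)) (tt N3619 F40737) (tt N3618 (iv D10311)) (tt N5355 D11242))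
theorem Q4426 : ∀ i, i < 4426 → P i := stepQ 4425 Q4425 (allL N4425 (tt N5211 (iv F43765)) (tt N3629 F40738) (tt N5356 D11243) (tt N3619 (iv D10312)) (tt N5357 D11244) (tt N4019 F40739) (tt N5354 (iv F44310)) (tt N5352 (iv F44304)) (tt N5358 D11245))
theorem Q4427 : ∀ i, i < 4427 → P i := stepQ 4426 Q4426 (allL N4426 (tt N5212 (iv F43768)) (tt N3630 F40740) (tt N4175 F40741) (tt N5358 (iv F44321)) (tt N3622 F40742) (tt N4020 F40743) (tt N5355 (iv F44314)) (tt N3662 F40744) (tt N3619 (iv D10313)))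
theorem Q4428 : ∀ i, i < 4428 → P i := stepQ 4427 Q4427 (allL N4427 (tt N3846 F40745) (tt N3631 F40746) (tt N5359 D11246) (tt N3620 (iv D10314)) (tt N5209 (iv F43757)) (tt N4427 F40747) (tt N3621 F40748) (tt N3803 F40749) (tt N5360 D11247))
theorem Q4429 : ∀ i, i < 4429 → P i := stepQ 4428 Q4428 (allL N4428 (tt N5213 (iv F43774)) (tt N3632 F40750) (tt N4177 F40751) (tt N5360 (iv F44331)) (tt N5355 (iv F44313)) (tt N4428 F40752) (tt N3622 F40753) (tt N3664 F40754) (tt N3620 (iv D10315)))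
theorem Q4430 : ∀ i, i < 4430 → P i := stepQ 4429 Q4429 (allL N4429 (tt N5214 (iv F43781)) (tt N4429 F40755) (tt N3621 (iv D10316)) (tt N4178 F40756) (tt N5361 D11248) (tt N3623 F40757) (tt N5359 (iv F44327)) (tt N3847 F40758) (tt N5362 D11249))
theorem Q4431 : ∀ i, i < 4431 → P i := stepQ 4430 Q4430 (allL N4430 (tt N5215 (iv F43787)) (tt N3633 F40759) (tt N5361 (iv F44336)) (tt N5357 (iv F44319)) (tt N3621 (iv D10317)) (tt N5363 D11250) (tt N5209 (iv F43759)) (tt N3848 F40760) (tt N5364 D11251))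
theorem Q4432 : ∀ i, i < 4432 → P i := stepQ 4431 Q4431 (allL N4431 (tt N5216 (iv F43791)) (tt N3634 F40761) (tt N5362 (iv F44339)) (tt N3622 F40762) (tt N5364 (iv F44346)) (tt N3625 F40763) (tt N5360 (iv F44333)) (tt N5365 D11252) (tt N3621 (iv D10318)))
theorem Q4433 : ∀ i, i < 4433 → P i := stepQ 4432 Q4432 (allL N4432 (tt N5217 (iv F43797)) (tt N4432 F40764) (tt N3624 F40765) (tt N5366 D11253) (tt N3623 (iv D10319)) (tt N5367 D11254) (tt N4432 F40766) (tt N3849 F40767) (tt N5368 D11255))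
theorem Q4434 : ∀ i, i < 4434 → P i := stepQ 4433 Q4433 (allL N4433 (tt N5218 (iv F43801)) (tt N4433 F40768) (tt N3625 F40769) (tt N4182 F40770) (tt N5368 (iv F44362)) (tt N5362 (iv F44341)) (tt N4433 F40771) (tt N5369 D11256) (tt N3623 (iv D10320)))
theorem Q4435 : ∀ i, i < 4435 → P i := stepQ 4434 Q4434 (allL N4434 (tt N5219 (iv F43805)) (tt N3635 F40772) (tt N5367 (iv F44358)) (tt N4026 F40773) (tt N5363 (iv F44343)) (tt N3624 (iv D10321)) (tt N5370 D11257) (tt N3851 F40774) (tt N5371 D11258))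
theorem Q4436 : ∀ i, i < 4436 → P i := stepQ 4435 Q4435 (allL N4435 (tt N5220 (iv F43809)) (tt N3636 F40775) (tt N5368 (iv F44361)) (tt N4027 F40776) (tt N3625 F40777) (tt N5371 (iv F44374)) (tt N4435 F40778) (tt N5372 D11259) (tt N3624 (iv D10322)))
theorem Q4437 : ∀ i, i < 4437 → P i := stepQ 4436 Q4436 (allL N4436 (tt N5221 (iv F43814)) (tt N3637 F40779) (tt N5369 (iv F44365)) (tt N3672 F40780) (tt N5372 (iv F44376)) (tt N5365 (iv F44350)) (tt N4436 F40781) (tt N3625 (iv D10323)) (tt N3853 F40782))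
theorem Q4438 : ∀ i, i < 4438 → P i := stepQ 4437 Q4437 (allL N4437 (tt N3641 F40783) (tt N5352 (iv F44302)) (tt N5373 D11260) (tt N3627 (iv D10324)) (tt N5224 (iv F43832)) (tt N4029 F40784) (tt N5227 (iv F43845)) (tt N3629 F40785) (tt N5374 D11261))
theorem Q4439 : ∀ i, i < 4439 → P i := stepQ 4438 Q4438 (allL N4438 (tt N3642 F40786) (tt N5353 (iv F44305)) (tt N3728 F40787) (tt N5374 (iv F44384)) (tt N3854 F40788) (tt N4030 F40789) (tt N5229 (iv F43853)) (tt N3676 F40790) (tt N3627 (iv D10325)))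
theorem Q4440 : ∀ i, i < 4440 → P i := stepQ 4439 Q4439 (allL N4439 (tt N3643 F40791) (tt N5354 (iv F44309)) (tt N5082 (iv F43189)) (tt N3628 (iv D10326)) (tt N5222 (iv F43821)) (tt N5084 (iv F43200)) (tt N3629 F40792) (tt N5227 (iv F43846)) (tt N5375 D11262))
theorem Q4441 : ∀ i, i < 4441 → P i := stepQ 4440 Q4440 (allL N4440 (tt N3644 F40793) (tt N5355 (iv F44311)) (tt N3638 F40794) (tt N5375 (iv F44387)) (tt N3632 F40795) (tt N5103 (iv F43274)) (tt N3630 F40796) (tt N3678 F40797) (tt N3628 (iv D10327)))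
theorem Q4442 : ∀ i, i < 4442 → P i := stepQ 4441 Q4441 (allL N4441 (tt N3645 F40798) (tt N5376 D11263) (tt N3629 (iv D10328)) (tt N3639 F40799) (tt N5377 D11264) (tt N3677 F40800) (tt N5082 (iv F43191)) (tt N5373 (iv F44382)) (tt N5378 D11265))
theorem Q4443 : ∀ i, i < 4443 → P i := stepQ 4442 Q4442 (allL N4442 (tt N3646 F40801) (tt N5357 (iv F44318)) (tt N5377 (iv F44392)) (tt N3633 F40802) (tt N3629 (iv D10329)) (tt N5379 D11266) (tt N5222 (iv F43823)) (tt N5224 (iv F43834)) (tt N5380 D11267))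
theorem Q4444 : ∀ i, i < 4444 → P i := stepQ 4443 Q4443 (allL N4443 (tt N3647 F40803) (tt N5358 (iv F44320)) (tt N5378 (iv F44395)) (tt N3630 F40804) (tt N5380 (iv F44403)) (tt N4032 F40805) (tt N5375 (iv F44388)) (tt N5381 D11268) (tt N3629 (iv D10330)))
theorem Q4445 : ∀ i, i < 4445 → P i := stepQ 4444 Q4444 (allL N4444 (tt N3648 F40806) (tt N5360 (iv F44330)) (tt N4444 F40807) (tt N3632 F40808) (tt N5223 (iv F43827)) (tt N4444 F40809) (tt N3634 F40810) (tt N3827 F40811) (tt N3631 (iv D10331)))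
theorem Q4446 : ∀ i, i < 4446 → P i := stepQ 4445 Q4445 (allL N4445 (tt N3649 F40812) (tt N5363 (iv F44342)) (tt N4445 F40813) (tt N5379 (iv F44399)) (tt N3635 F40814) (tt N3633 (iv D10332)) (tt N5182 (iv F43614)) (tt N3855 F40815) (tt N5382 D11269))
theorem Q4447 : ∀ i, i < 4447 → P i := stepQ 4446 Q4446 (allL N4446 (tt N3650 F40816) (tt N5364 (iv F44345)) (tt N4446 F40817) (tt N5380 (iv F44402)) (tt N3634 F40818) (tt N5382 (iv F44410)) (tt N5223 (iv F43829)) (tt N5282 (iv F44059)) (tt N3633 (iv D10333)))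
theorem Q4448 : ∀ i, i < 4448 → P i := stepQ 4447 Q4447 (allL N4447 (tt N3651 F40819) (tt N5365 (iv F44348)) (tt N4447 F40820) (tt N3686 F40821) (tt N5282 (iv F44057)) (tt N3637 F40822) (tt N3827 F40823) (tt N3634 (iv D10334)) (tt N3825 F40824))
theorem Q4449 : ∀ i, i < 4449 → P i := stepQ 4448 Q4448 (allL N4448 (tt N3652 F40825) (tt N5370 (iv F44368)) (tt N4448 F40826) (tt N4036 F40827) (tt N5182 (iv F43612)) (tt N4448 F40828) (tt N3635 (iv D10335)) (tt N3856 F40829) (tt N5383 D11270))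
theorem Q4450 : ∀ i, i < 4450 → P i := stepQ 4449 Q4449 (allL N4449 (tt N3653 F40830) (tt N5371 (iv F44372)) (tt N4449 F40831) (tt N4037 F40832) (tt N5382 (iv F44409)) (tt N3636 F40833) (tt N5383 (iv F44415)) (tt N5384 D11271) (tt N3635 (iv D10336)))
theorem Q4451 : ∀ i, i < 4451 → P i := stepQ 4450 Q4450 (allL N4450 (tt N3654 F40834) (tt N5372 (iv F44375)) (tt N4450 F40835) (tt N5385 D11272) (tt N3637 F40836) (tt N5384 (iv F44418)) (tt N4450 F40837) (tt N3636 (iv D10337)) (tt N3858 F40838))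
theorem Q4452 : ∀ i, i < 4452 → P i := stepQ 4451 Q4451 (allL N4451 (tt N5259 (iv F43963)) (tt N3639 (iv D10338)) (tt N4207 F40839) (tt N5376 (iv F44389)) (tt N4451 F40840) (tt N3660 F40841) (tt N5054 (iv F43096)) (tt N3659 F40842) (tt N5386 D11273))
theorem Q4453 : ∀ i, i < 4453 → P i := stepQ 4452 Q4452 (allL N4452 (tt N3655 F40843) (tt N5386 (iv F44425)) (tt N3640 F40844) (tt N5378 (iv F44396)) (tt N4452 F40845) (tt N3678 F40846) (tt N5083 (iv F43196)) (tt N5103 (iv F43276)) (tt N3639 (iv D10339)))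
theorem Q4454 : ∀ i, i < 4454 → P i := stepQ 4453 Q4453 (allL N4453 (tt N5373 (iv F44379)) (tt N5311 (iv F44154)) (tt N3641 (iv D10340)) (tt N3693 F40847) (tt N5238 (iv F43887)) (tt N3694 F40848) (tt N5107 (iv F43293)) (tt N3645 F40849) (tt N5387 D11274))
theorem Q4455 : ∀ i, i < 4455 → P i := stepQ 4454 Q4454 (allL N4454 (tt N5374 (iv F44383)) (tt N5237 (iv F43881)) (tt N5387 (iv F44429)) (tt N3642 F40850) (tt N5239 (iv F43892)) (tt N4040 F40851) (tt N5242 (iv F43903)) (tt N5388 D11275) (tt N3641 (iv D10341)))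
theorem Q4456 : ∀ i, i < 4456 → P i := stepQ 4455 Q4455 (allL N4455 (tt N5375 (iv F44386)) (tt N5239 (iv F43890)) (tt N5119 (iv F43338)) (tt N3644 F40852) (tt N5237 (iv F43883)) (tt N5122 (iv F43355)) (tt N3647 F40853) (tt N5389 D11276) (tt N3643 (iv D10342)))
theorem Q4457 : ∀ i, i < 4457 → P i := stepQ 4456 Q4456 (allL N4456 (tt N5377 (iv F44391)) (tt N5321 (iv F44190)) (tt N3646 F40854) (tt N4456 F40855) (tt N3645 (iv D10343)) (tt N5390 D11277) (tt N5118 (iv F43335)) (tt N5238 (iv F43889)) (tt N5391 D11278))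
theorem Q4458 : ∀ i, i < 4458 → P i := stepQ 4457 Q4457 (allL N4457 (tt N5378 (iv F44394)) (tt N5322 (iv F44192)) (tt N3647 F40856) (tt N3655 F40857) (tt N5391 (iv F44442)) (tt N3700 F40858) (tt N5119 (iv F43341)) (tt N5392 D11279) (tt N3645 (iv D10344)))
theorem Q4459 : ∀ i, i < 4459 → P i := stepQ 4458 Q4458 (allL N4458 (tt N5379 (iv F44398)) (tt N5109 F43303) (tt N5390 (iv F44437)) (tt N3649 F40859) (tt N4041 F40860) (tt N3646 (iv D10345)) (tt N5112 (iv F43314)) (tt N5120 (iv F43345)) (tt N5393 D11280))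
theorem Q4460 : ∀ i, i < 4460 → P i := stepQ 4459 Q4459 (allL N4459 (tt N5380 (iv F44401)) (tt N5242 (iv F43900)) (tt N5391 (iv F44440)) (tt N3650 F40861) (tt N3647 F40862) (tt N5393 (iv F44447)) (tt N5237 (iv F43885)) (tt N5394 D11281) (tt N3646 (iv D10346)))
theorem Q4461 : ∀ i, i < 4461 → P i := stepQ 4460 Q4460 (allL N4460 (tt N5381 (iv F44404)) (tt N5243 (iv F43904)) (tt N5392 (iv F44443)) (tt N3706 F40863) (tt N5394 (iv F44448)) (tt N4043 F40864) (tt N5389 (iv F44436)) (tt N3647 (iv D10347)) (tt N5388 (iv F44434)))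
theorem Q4462 : ∀ i, i < 4462 → P i := stepQ 4461 Q4461 (allL N4461 (tt N5382 (iv F44407)) (tt N5180 (iv F43598)) (tt N4461 F40865) (tt N5393 (iv F44445)) (tt N3653 F40866) (tt N3650 F40867) (tt N5183 (iv F43620)) (tt N5312 (iv F44161)) (tt N3649 (iv D10348)))
theorem Q4463 : ∀ i, i < 4463 → P i := stepQ 4462 Q4462 (allL N4462 (tt N5383 (iv F44411)) (tt N5184 (iv F43621)) (tt N4462 F40868) (tt N4047 F40869) (tt N5183 (iv F43618)) (tt N4462 F40870) (tt N3653 F40871) (tt N5395 D11282) (tt N3652 (iv D10349)))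
theorem Q4464 : ∀ i, i < 4464 → P i := stepQ 4463 Q4463 (allL N4463 (tt N5384 (iv F44416)) (tt N5244 (iv F43907)) (tt N4463 F40872) (tt N5396 D11283) (tt N5312 (iv F44159)) (tt N3654 F40873) (tt N5395 (iv F44451)) (tt N3653 (iv D10350)) (tt N3860 F40874))
theorem Q4465 : ∀ i, i < 4465 → P i := stepQ 4464 Q4464 (allL N4464 (tt N5385 (iv F44420)) (tt N5245 (iv F43912)) (tt N5397 D11284) (tt N3654 (iv D10351)) (tt N3715 F40875) (tt N5396 (iv F44453)) (tt N4464 F40876) (tt N4049 F40877) (tt N3861 F40878))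
theorem Q4466 : ∀ i, i < 4466 → P i := stepQ 4465 Q4465 (allL N4465 (tt N5253 (iv F43939)) (tt N3733 F40879) (tt N3657 F40880) (tt N4567 (iv F41207)) (tt N3862 F40881) (tt N5398 D11285) (tt N3656 (iv D10352)) (tt N5399 D11286) (tt N5350 (iv F44297)))
theorem Q4467 : ∀ i, i < 4467 → P i := stepQ 4466 Q4466 (allL N4466 (tt N5254 (iv F43944)) (tt N3734 F40882) (tt N3658 F40883) (tt N5400 D11287) (tt N3863 F40884) (tt N5049 (iv F43078)) (tt N5399 (iv F44467)) (tt N3656 (iv D10353)) (tt N5401 D11288))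
theorem Q4468 : ∀ i, i < 4468 → P i := stepQ 4467 Q4467 (allL N4467 (tt N5255 (iv F43948)) (tt N3673 F40885) (tt N5398 (iv F44462)) (tt N3659 F40886) (tt N5402 D11289) (tt N3657 (iv D10354)) (tt N5050 (iv F43081)) (tt N5403 D11290) (tt N5175 (iv F43574)))
theorem Q4469 : ∀ i, i < 4469 → P i := stepQ 4468 Q4468 (allL N4468 (tt N5256 (iv F43953)) (tt N3674 F40887) (tt N5399 (iv F44465)) (tt N5404 D11291) (tt N3864 F40888) (tt N5403 (iv F44478)) (tt N3658 F40889) (tt N3657 (iv D10355)) (tt N5405 D11292))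
theorem Q4470 : ∀ i, i < 4470 → P i := stepQ 4469 Q4469 (allL N4469 (tt N5257 (iv F43957)) (tt N3675 F40890) (tt N5406 D11293) (tt N3658 (iv D10356)) (tt N5407 D11294) (tt N5052 (iv F43087)) (tt N5404 (iv F44480)) (tt N3661 F40891) (tt N5408 D11295))
theorem Q4471 : ∀ i, i < 4471 → P i := stepQ 4470 Q4470 (allL N4470 (tt N5258 (iv F43960)) (tt N3676 F40892) (tt N5401 (iv F44470)) (tt N5408 (iv F44490)) (tt N3866 F40893) (tt N5053 (iv F43091)) (tt N5405 (iv F44484)) (tt N5353 (iv F44308)) (tt N3658 (iv D10357)))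
theorem Q4472 : ∀ i, i < 4472 → P i := stepQ 4471 Q4471 (allL N4471 (tt N5260 (iv F43968)) (tt N3677 F40894) (tt N5409 D11296) (tt N3660 (iv D10358)) (tt N5410 D11297) (tt N5376 (iv F44390)) (tt N3661 F40895) (tt N5404 (iv F44481)) (tt N5411 D11298))
theorem Q4473 : ∀ i, i < 4473 → P i := stepQ 4472 Q4472 (allL N4472 (tt N5261 (iv F43971)) (tt N3678 F40896) (tt N4516 (iv F41042)) (tt N5411 (iv F44497)) (tt N3664 F40897) (tt N5386 (iv F44428)) (tt N3662 F40898) (tt N5355 (iv F44315)) (tt N3660 (iv D10359)))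
theorem Q4474 : ∀ i, i < 4474 → P i := stepQ 4473 Q4473 (allL N4473 (tt N5262 (iv F43975)) (tt N5412 D11299) (tt N3661 (iv D10360)) (tt N4857 (iv F42327)) (tt N5413 D11300) (tt N5057 (iv F43103)) (tt N5409 (iv F44492)) (tt N5406 (iv F44485)) (tt N5414 D11301))
theorem Q4475 : ∀ i, i < 4475 → P i := stepQ 4474 Q4474 (allL N4474 (tt N5263 (iv F43976)) (tt N3680 F40899) (tt N5413 (iv F44502)) (tt N3666 F40900) (tt N3661 (iv D10361)) (tt N5415 D11302) (tt N5410 (iv F44495)) (tt N5407 (iv F44488)) (tt N5416 D11303))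
theorem Q4476 : ∀ i, i < 4476 → P i := stepQ 4475 Q4475 (allL N4475 (tt N5264 (iv F43979)) (tt N3681 F40901) (tt N5414 (iv F44503)) (tt N3662 F40902) (tt N5416 (iv F44508)) (tt N5059 (iv F43108)) (tt N5411 (iv F44498)) (tt N5417 D11304) (tt N3661 (iv D10362)))
theorem Q4477 : ∀ i, i < 4477 → P i := stepQ 4476 Q4476 (allL N4476 (tt N5265 (iv F43982)) (tt N3750 F40903) (tt N3663 (iv D10363)) (tt N4573 (iv F41230)) (tt N5418 D11305) (tt N4476 F40904) (tt N3665 F40905) (tt N3869 F40906) (tt N5419 D11306))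
theorem Q4478 : ∀ i, i < 4478 → P i := stepQ 4477 Q4477 (allL N4477 (tt N5266 (iv F43987)) (tt N3682 F40907) (tt N5418 (iv F44511)) (tt N5410 (iv F44494)) (tt N3663 (iv D10364)) (tt N5420 D11307) (tt N3666 F40908) (tt N3870 F40909) (tt N5421 D11308))
theorem Q4479 : ∀ i, i < 4479 → P i := stepQ 4478 Q4478 (allL N4478 (tt N5267 (iv F43991)) (tt N3683 F40910) (tt N5419 (iv F44515)) (tt N3664 F40911) (tt N5421 (iv F44522)) (tt N4478 F40912) (tt N3667 F40913) (tt N5422 D11309) (tt N3663 (iv D10365)))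
theorem Q4480 : ∀ i, i < 4480 → P i := stepQ 4479 Q4479 (allL N4479 (tt N5268 (iv F43997)) (tt N3753 F40914) (tt N3666 F40915) (tt N5423 D11310) (tt N3665 (iv D10366)) (tt N5424 D11311) (tt N5418 (iv F44512)) (tt N3871 F40916) (tt N5425 D11312))
theorem Q4481 : ∀ i, i < 4481 → P i := stepQ 4480 Q4480 (allL N4480 (tt N5269 (iv F44001)) (tt N3754 F40917) (tt N3667 F40918) (tt N4861 (iv F42337)) (tt N5425 (iv F44537)) (tt N3669 F40919) (tt N5419 (iv F44517)) (tt N5426 D11313) (tt N3665 (iv D10367)))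
theorem Q4482 : ∀ i, i < 4482 → P i := stepQ 4481 Q4481 (allL N4481 (tt N5270 (iv F44005)) (tt N3684 F40920) (tt N5424 (iv F44532)) (tt N5415 (iv F44505)) (tt N3670 F40921) (tt N3666 (iv D10368)) (tt N5427 D11314) (tt N3873 F40922) (tt N5428 D11315))
theorem Q4483 : ∀ i, i < 4483 → P i := stepQ 4482 Q4482 (allL N4482 (tt N5271 (iv F44009)) (tt N3685 F40923) (tt N5425 (iv F44536)) (tt N5416 (iv F44507)) (tt N3667 F40924) (tt N5428 (iv F44547)) (tt N5421 (iv F44523)) (tt N5429 D11316) (tt N3666 (iv D10369)))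
theorem Q4484 : ∀ i, i < 4484 → P i := stepQ 4483 Q4483 (allL N4483 (tt N5272 (iv F44012)) (tt N3686 F40925) (tt N5426 (iv F44539)) (tt N5365 (iv F44349)) (tt N5429 (iv F44549)) (tt N3672 F40926) (tt N5422 (iv F44528)) (tt N3667 (iv D10370)) (tt N3875 F40927))
theorem Q4485 : ∀ i, i < 4485 → P i := stepQ 4484 Q4484 (allL N4484 (tt N5273 (iv F44018)) (tt N3758 F40928) (tt N5068 (iv F43136)) (tt N3668 (iv D10371)) (tt N4865 (iv F42348)) (tt N5430 D11317) (tt N4484 F40929) (tt N5431 D11318) (tt N5432 D11319))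
theorem Q4486 : ∀ i, i < 4486 → P i := stepQ 4485 Q4485 (allL N4485 (tt N5274 (iv F44021)) (tt N3759 F40930) (tt N3670 F40931) (tt N5430 (iv F44552)) (tt N5424 (iv F44533)) (tt N3668 (iv D10372)) (tt N5433 D11320) (tt N3877 F40932) (tt N5434 D11321))
theorem Q4487 : ∀ i, i < 4487 → P i := stepQ 4486 Q4486 (allL N4486 (tt N5275 (iv F44025)) (tt N3760 F40933) (tt N3671 F40934) (tt N5432 (iv F44557)) (tt N3669 F40935) (tt N5434 (iv F44565)) (tt N4486 F40936) (tt N5435 D11322) (tt N3668 (iv D10373)))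
theorem Q4488 : ∀ i, i < 4488 → P i := stepQ 4487 Q4487 (allL N4487 (tt N5276 (iv F44030)) (tt N3761 F40937) (tt N3672 F40938) (tt N5436 D11323) (tt N5435 (iv F44568)) (tt N5426 (iv F44540)) (tt N4487 F40939) (tt N3669 (iv D10374)) (tt N3879 F40940))
theorem Q4489 : ∀ i, i < 4489 → P i := stepQ 4488 Q4488 (allL N4488 (tt N5277 (iv F44035)) (tt N3687 F40941) (tt N5433 (iv F44560)) (tt N5072 (iv F43150)) (tt N5427 (iv F44543)) (tt N4488 F40942) (tt N3670 (iv D10375)) (tt N3880 F40943) (tt N5437 D11324))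
theorem Q4490 : ∀ i, i < 4490 → P i := stepQ 4489 Q4489 (allL N4489 (tt N5278 (iv F44039)) (tt N3688 F40944) (tt N5434 (iv F44564)) (tt N5073 (iv F43154)) (tt N5428 (iv F44546)) (tt N3671 F40945) (tt N5437 (iv F44576)) (tt N5438 D11325) (tt N3670 (iv D10376)))
theorem Q4491 : ∀ i, i < 4491 → P i := stepQ 4490 Q4490 (allL N4490 (tt N5279 (iv F44042)) (tt N3689 F40946) (tt N5435 (iv F44567)) (tt N5439 D11326) (tt N3672 F40947) (tt N5438 (iv F44578)) (tt N4490 F40948) (tt N3671 (iv D10377)) (tt N3882 F40949))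
theorem Q4492 : ∀ i, i < 4492 → P i := stepQ 4491 Q4491 (allL N4491 (tt N3692 F40950) (tt N5402 (iv F44473)) (tt N3729 F40951) (tt N4491 F40952) (tt N3673 (iv D10378)) (tt N3809 F40953) (tt N5075 (iv F43164)) (tt N5440 D11327) (tt N3808 F40954))
theorem Q4493 : ∀ i, i < 4493 → P i := stepQ 4492 Q4492 (allL N4492 (tt N3693 F40955) (tt N5403 (iv F44477)) (tt N3727 F40956) (tt N5373 (iv F44380)) (tt N5440 (iv F44585)) (tt N3674 F40957) (tt N5076 (iv F43169)) (tt N3673 (iv D10379)) (tt N5441 D11328))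
theorem Q4494 : ∀ i, i < 4494 → P i := stepQ 4493 Q4493 (allL N4493 (tt N3694 F40958) (tt N5404 (iv F44479)) (tt N4029 F40959) (tt N3674 (iv D10380)) (tt N5442 D11329) (tt N5373 (iv F44381)) (tt N3675 F40960) (tt N3677 F40961) (tt N5443 D11330))
theorem Q4495 : ∀ i, i < 4495 → P i := stepQ 4494 Q4494 (allL N4494 (tt N3695 F40962) (tt N5405 (iv F44482)) (tt N3739 F40963) (tt N5443 (iv F44597)) (tt N3883 F40964) (tt N5441 (iv F44589)) (tt N3676 F40965) (tt N5229 (iv F43854)) (tt N3674 (iv D10381)))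
theorem Q4496 : ∀ i, i < 4496 → P i := stepQ 4495 Q4495 (allL N4495 (tt N3696 F40966) (tt N5444 D11331) (tt N3675 (iv D10382)) (tt N3740 F40967) (tt N5445 D11332) (tt N5079 (iv F43180)) (tt N4029 F40968) (tt N3679 F40969) (tt N5446 D11333))
theorem Q4497 : ∀ i, i < 4497 → P i := stepQ 4496 Q4496 (allL N4496 (tt N3697 F40970) (tt N5407 (iv F44486)) (tt N5445 (iv F44603)) (tt N3884 F40971) (tt N3675 (iv D10383)) (tt N5447 D11334) (tt N5442 (iv F44593)) (tt N3680 F40972) (tt N5448 D11335))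
theorem Q4498 : ∀ i, i < 4498 → P i := stepQ 4497 Q4497 (allL N4497 (tt N3698 F40973) (tt N5408 (iv F44489)) (tt N5446 (iv F44608)) (tt N3676 F40974) (tt N5448 (iv F44616)) (tt N5081 (iv F43187)) (tt N5443 (iv F44598)) (tt N5449 D11336) (tt N3675 (iv D10384)))
theorem Q4499 : ∀ i, i < 4499 → P i := stepQ 4498 Q4498 (allL N4498 (tt N3699 F40975) (tt N5410 (iv F44493)) (tt N4031 F40976) (tt N3682 F40977) (tt N3677 (iv D10385)) (tt N5450 D11337) (tt N3680 F40978) (tt N5442 (iv F44594)) (tt N5451 D11338))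
theorem Q4500 : ∀ i, i < 4500 → P i := stepQ 4499 Q4499 (allL N4499 (tt N3700 F40979) (tt N5411 (iv F44496)) (tt N4032 F40980) (tt N3678 F40981) (tt N5451 (iv F44625)) (tt N5378 (iv F44397)) (tt N3681 F40982) (tt N5452 D11339) (tt N3677 (iv D10386)))
theorem Q4501 : ∀ i, i < 4501 → P i := stepQ 4500 Q4500 (allL N4500 (tt N5453 D11340) (tt N3679 (iv D10387)) (tt N5412 (iv F44499)) (tt N3690 F40983) (tt N5454 D11341) (tt N5087 (iv F43209)) (tt N4019 F40984) (tt N5444 (iv F44601)) (tt N5455 D11342))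
theorem Q4502 : ∀ i, i < 4502 → P i := stepQ 4501 Q4501 (allL N4501 (tt N3702 F40985) (tt N5454 (iv F44633)) (tt N3680 F40986) (tt N3766 F40987) (tt N3679 (iv D10388)) (tt N5456 D11343) (tt N4031 F40988) (tt N5445 (iv F44606)) (tt N5457 D11344))
theorem Q4503 : ∀ i, i < 4503 → P i := stepQ 4502 Q4502 (allL N4502 (tt N3703 F40989) (tt N5455 (iv F44636)) (tt N3681 F40990) (tt N3691 F40991) (tt N5457 (iv F44645)) (tt N5089 (iv F43216)) (tt N4032 F40992) (tt N5458 D11345) (tt N3679 (iv D10389)))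
theorem Q4504 : ∀ i, i < 4504 → P i := stepQ 4503 Q4503 (allL N4503 (tt N3704 F40993) (tt N5415 (iv F44504)) (tt N5456 (iv F44640)) (tt N3684 F40994) (tt N5090 (iv F43219)) (tt N3680 (iv D10390)) (tt N5459 D11346) (tt N5447 (iv F44613)) (tt N5460 D11347))
theorem Q4505 : ∀ i, i < 4505 → P i := stepQ 4504 Q4504 (allL N4504 (tt N3705 F40995) (tt N5416 (iv F44506)) (tt N5457 (iv F44643)) (tt N3685 F40996) (tt N3681 F40997) (tt N5460 (iv F44654)) (tt N5451 (iv F44626)) (tt N5461 D11348) (tt N3680 (iv D10391)))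
theorem Q4506 : ∀ i, i < 4506 → P i := stepQ 4505 Q4505 (allL N4505 (tt N3706 F40998) (tt N5417 (iv F44509)) (tt N5458 (iv F44648)) (tt N5381 (iv F44405)) (tt N5461 (iv F44656)) (tt N5092 (iv F43225)) (tt N5452 (iv F44629)) (tt N3681 (iv D10392)) (tt N5449 (iv F44618)))
theorem Q4507 : ∀ i, i < 4507 → P i := stepQ 4506 Q4506 (allL N4506 (tt N3707 F40999) (tt N5420 (iv F44518)) (tt N3771 F41000) (tt N5450 (iv F44621)) (tt N4506 F41001) (tt N3682 (iv D10393)) (tt N5462 D11349) (tt N3887 F41002) (tt N5463 D11350))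
theorem Q4508 : ∀ i, i < 4508 → P i := stepQ 4507 Q4507 (allL N4507 (tt N3708 F41003) (tt N5421 (iv F44521)) (tt N3772 F41004) (tt N5451 (iv F44624)) (tt N3683 F41005) (tt N5463 (iv F44665)) (tt N3685 F41006) (tt N5464 D11351) (tt N3682 (iv D10394)))
theorem Q4509 : ∀ i, i < 4509 → P i := stepQ 4508 Q4508 (allL N4508 (tt N3709 F41007) (tt N5422 (iv F44525)) (tt N3773 F41008) (tt N3827 F41009) (tt N5464 (iv F44668)) (tt N4508 F41010) (tt N3686 F41011) (tt N3683 (iv D10395)) (tt N3826 F41012))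
theorem Q4510 : ∀ i, i < 4510 → P i := stepQ 4509 Q4509 (allL N4509 (tt N3710 F41013) (tt N5427 (iv F44542)) (tt N3774 F41014) (tt N5459 (iv F44651)) (tt N3687 F41015) (tt N5462 (iv F44660)) (tt N3684 (iv D10396)) (tt N3888 F41016) (tt N5465 D11352))
theorem Q4511 : ∀ i, i < 4511 → P i := stepQ 4510 Q4510 (allL N4510 (tt N3711 F41017) (tt N5428 (iv F44545)) (tt N3775 F41018) (tt N5460 (iv F44653)) (tt N3688 F41019) (tt N3685 F41020) (tt N5465 (iv F44674)) (tt N5466 D11353) (tt N3684 (iv D10397)))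
theorem Q4512 : ∀ i, i < 4512 → P i := stepQ 4511 Q4511 (allL N4511 (tt N3712 F41021) (tt N5429 (iv F44548)) (tt N3776 F41022) (tt N5467 D11354) (tt N3686 F41023) (tt N5466 (iv F44678)) (tt N5464 (iv F44669)) (tt N3685 (iv D10398)) (tt N3890 F41024))
theorem Q4513 : ∀ i, i < 4513 → P i := stepQ 4512 Q4512 (allL N4512 (tt N3713 F41025) (tt N5437 (iv F44574)) (tt N3777 F41026) (tt N5099 (iv F43254)) (tt N5465 (iv F44673)) (tt N4512 F41027) (tt N3688 F41028) (tt N5468 D11355) (tt N3687 (iv D10399)))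
theorem Q4514 : ∀ i, i < 4514 → P i := stepQ 4513 Q4513 (allL N4513 (tt N3714 F41029) (tt N5438 (iv F44577)) (tt N3778 F41030) (tt N5469 D11356) (tt N5466 (iv F44677)) (tt N3689 F41031) (tt N5468 (iv F44685)) (tt N3688 (iv D10400)) (tt N3892 F41032))
theorem Q4515 : ∀ i, i < 4515 → P i := stepQ 4514 Q4514 (allL N4514 (tt N3715 F41033) (tt N5439 (iv F44580)) (tt N5470 D11357) (tt N3689 (iv D10401)) (tt N5385 (iv F44421)) (tt N5469 (iv F44688)) (tt N4514 F41034) (tt N5101 (iv F43264)) (tt N3893 F41035))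
theorem Q4516 : ∀ i, i < 4516 → P i := stepQ 4515 Q4515 (allL N4515 (tt N3690 (iv D10402)) (tt N3716 F41036) (tt N4352 F41037) (tt N5453 (iv F44631)) (tt N3780 F41038) (tt N5104 (iv F43279)) (tt N3988 F41039) (tt N3743 F41040) (tt N5471 D11358))
theorem Q4517 : ∀ i, i < 4517 → P i := stepQ 4516 Q4516 (allL N4516 (tt N5471 (iv F44694)) (tt N3691 F41041) (tt N4472 F41042) (tt N5455 (iv F44637)) (tt N3781 F41043) (tt N5105 (iv F43283)) (tt N4020 F41044) (tt N5056 (iv F43102)) (tt N3690 (iv D10403)))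
theorem Q4518 : ∀ i, i < 4518 → P i := stepQ 4517 Q4517 (allL N4517 (tt N5440 (iv F44583)) (tt N3860 F41045) (tt N3731 F41046) (tt N5198 (iv F43702)) (tt N3693 F41047) (tt N3811 F41048) (tt N5106 (iv F43288)) (tt N3692 (iv D10404)) (tt N5244 (iv F43911)))
theorem Q4519 : ∀ i, i < 4519 → P i := stepQ 4518 Q4518 (allL N4518 (tt N5441 (iv F44587)) (tt N5312 (iv F44157)) (tt N3732 F41049) (tt N5387 (iv F44430)) (tt N5244 (iv F43909)) (tt N3695 F41050) (tt N5108 (iv F43297)) (tt N5180 (iv F43603)) (tt N3693 (iv D10405)))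
theorem Q4520 : ∀ i, i < 4520 → P i := stepQ 4519 Q4519 (allL N4519 (tt N5442 (iv F44590)) (tt N3900 F41051) (tt N4039 F41052) (tt N3841 F41053) (tt N3694 (iv D10406)) (tt N5472 D11359) (tt N3697 F41054) (tt N3699 F41055) (tt N5341 (iv F44259)))
theorem Q4521 : ∀ i, i < 4521 → P i := stepQ 4520 Q4520 (allL N4520 (tt N5443 (iv F44595)) (tt N5314 (iv F44167)) (tt N4040 F41056) (tt N3695 F41057) (tt N5341 (iv F44257)) (tt N5387 (iv F44431)) (tt N3698 F41058) (tt N5473 D11360) (tt N3694 (iv D10407)))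
theorem Q4522 : ∀ i, i < 4522 → P i := stepQ 4521 Q4521 (allL N4521 (tt N5474 D11361) (tt N3696 (iv D10408)) (tt N5315 (iv F44171)) (tt N3744 F41059) (tt N5475 D11362) (tt N5112 (iv F43313)) (tt N4004 F41060) (tt N3701 F41061) (tt N5476 D11363))
theorem Q4523 : ∀ i, i < 4523 → P i := stepQ 4522 Q4522 (allL N4522 (tt N5445 (iv F44602)) (tt N5475 (iv F44709)) (tt N3697 F41062) (tt N4522 F41063) (tt N3696 (iv D10409)) (tt N5477 D11364) (tt N4039 F41064) (tt N3702 F41065) (tt N5478 D11365))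
theorem Q4524 : ∀ i, i < 4524 → P i := stepQ 4523 Q4523 (allL N4523 (tt N5446 (iv F44607)) (tt N5476 (iv F44713)) (tt N3698 F41066) (tt N3745 F41067) (tt N5478 (iv F44721)) (tt N5114 (iv F43324)) (tt N4040 F41068) (tt N5479 D11366) (tt N3696 (iv D10410)))
theorem Q4525 : ∀ i, i < 4525 → P i := stepQ 4524 Q4524 (allL N4524 (tt N5447 (iv F44611)) (tt N5318 (iv F44181)) (tt N5477 (iv F44716)) (tt N3894 F41069) (tt N5115 (iv F43326)) (tt N3697 (iv D10411)) (tt N5480 D11367) (tt N3704 F41070) (tt N5481 D11368))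
theorem Q4526 : ∀ i, i < 4526 → P i := stepQ 4525 Q4525 (allL N4525 (tt N5448 (iv F44614)) (tt N5319 (iv F44184)) (tt N5478 (iv F44719)) (tt N3895 F41071) (tt N3698 F41072) (tt N5481 (iv F44729)) (tt N5341 (iv F44258)) (tt N5482 D11369) (tt N3697 (iv D10412)))
theorem Q4527 : ∀ i, i < 4527 → P i := stepQ 4526 Q4526 (allL N4526 (tt N5449 (iv F44617)) (tt N5320 (iv F44188)) (tt N5479 (iv F44723)) (tt N5388 (iv F44432)) (tt N5482 (iv F44730)) (tt N5117 (iv F43331)) (tt N5473 (iv F44704)) (tt N3698 (iv D10413)) (tt N3706 F41073))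
theorem Q4528 : ∀ i, i < 4528 → P i := stepQ 4527 Q4527 (allL N4527 (tt N5450 (iv F44619)) (tt N5325 (iv F44204)) (tt N4041 F41074) (tt N3707 F41075) (tt N5390 (iv F44439)) (tt N3699 (iv D10414)) (tt N5483 D11370) (tt N5472 (iv F44702)) (tt N5484 D11371))
theorem Q4529 : ∀ i, i < 4529 → P i := stepQ 4528 Q4528 (allL N4528 (tt N5451 (iv F44622)) (tt N5326 (iv F44207)) (tt N4042 F41076) (tt N3708 F41077) (tt N3700 F41078) (tt N5484 (iv F44737)) (tt N3705 F41079) (tt N5485 D11372) (tt N3699 (iv D10415)))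
theorem Q4530 : ∀ i, i < 4530 → P i := stepQ 4529 Q4529 (allL N4529 (tt N5452 (iv F44627)) (tt N5327 (iv F44211)) (tt N4043 F41080) (tt N5389 (iv F44435)) (tt N5485 (iv F44739)) (tt N5392 (iv F44444)) (tt N3706 F41081) (tt N3700 (iv D10416)) (tt N5473 (iv F44705)))
theorem Q4531 : ∀ i, i < 4531 → P i := stepQ 4530 Q4530 (allL N4530 (tt N3701 (iv D10417)) (tt N5453 (iv F44630)) (tt N5328 (iv F44213)) (tt N3716 F41082) (tt N5486 D11373) (tt N5126 (iv F43368)) (tt N3995 F41083) (tt N5474 (iv F44708)) (tt N5487 D11374))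
theorem Q4532 : ∀ i, i < 4532 → P i := stepQ 4531 Q4531 (allL N4531 (tt N5486 (iv F44741)) (tt N3702 F41084) (tt N5329 (iv F44217)) (tt N3783 F41085) (tt N3701 (iv D10418)) (tt N5488 D11375) (tt N4007 F41086) (tt N5475 (iv F44712)) (tt N5489 D11376))
theorem Q4533 : ∀ i, i < 4533 → P i := stepQ 4532 Q4532 (allL N4532 (tt N5487 (iv F44744)) (tt N3703 F41087) (tt N5330 (iv F44221)) (tt N3717 F41088) (tt N5489 (iv F44751)) (tt N5128 (iv F43375)) (tt N4008 F41089) (tt N5490 D11377) (tt N3701 (iv D10419)))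
theorem Q4534 : ∀ i, i < 4534 → P i := stepQ 4533 Q4533 (allL N4533 (tt N5456 (iv F44639)) (tt N5488 (iv F44747)) (tt N3704 F41090) (tt N3785 F41091) (tt N5129 (iv F43378)) (tt N3702 (iv D10420)) (tt N5491 D11378) (tt N5477 (iv F44718)) (tt N5492 D11379))
theorem Q4535 : ∀ i, i < 4535 → P i := stepQ 4534 Q4534 (allL N4534 (tt N5457 (iv F44642)) (tt N5489 (iv F44749)) (tt N3705 F41092) (tt N3786 F41093) (tt N3703 F41094) (tt N5492 (iv F44760)) (tt N4042 F41095) (tt N5493 D11380) (tt N3702 (iv D10421)))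
theorem Q4536 : ∀ i, i < 4536 → P i := stepQ 4535 Q4535 (allL N4535 (tt N5458 (iv F44647)) (tt N5490 (iv F44753)) (tt N3706 F41096) (tt N5125 (iv F43365)) (tt N5493 (iv F44762)) (tt N5131 (iv F43383)) (tt N4043 F41097) (tt N3703 (iv D10422)) (tt N5479 (iv F44725)))
theorem Q4537 : ∀ i, i < 4537 → P i := stepQ 4536 Q4536 (allL N4536 (tt N5459 (iv F44650)) (tt N5334 (iv F44230)) (tt N5491 (iv F44755)) (tt N3710 F41098) (tt N5132 (iv F43385)) (tt N5483 (iv F44734)) (tt N3704 (iv D10423)) (tt N5480 (iv F44727)) (tt N5494 D11381))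
theorem Q4538 : ∀ i, i < 4538 → P i := stepQ 4537 Q4537 (allL N4537 (tt N5460 (iv F44652)) (tt N5335 (iv F44232)) (tt N5492 (iv F44758)) (tt N3711 F41099) (tt N5133 (iv F43387)) (tt N3705 F41100) (tt N5494 (iv F44765)) (tt N5495 D11382) (tt N3704 (iv D10424)))
theorem Q4539 : ∀ i, i < 4539 → P i := stepQ 4538 Q4538 (allL N4538 (tt N5461 (iv F44655)) (tt N5336 (iv F44235)) (tt N5493 (iv F44761)) (tt N5496 D11383) (tt N3706 F41101) (tt N5495 (iv F44766)) (tt N5485 (iv F44740)) (tt N3705 (iv D10425)) (tt N5482 (iv F44731)))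
theorem Q4540 : ∀ i, i < 4540 → P i := stepQ 4539 Q4539 (allL N4539 (tt N5462 (iv F44657)) (tt N5337 (iv F44237)) (tt N3791 F41102) (tt N5483 (iv F44733)) (tt N4539 F41103) (tt N3710 F41104) (tt N3707 (iv D10426)) (tt N3897 F41105) (tt N5497 D11384))
theorem Q4541 : ∀ i, i < 4541 → P i := stepQ 4540 Q4540 (allL N4540 (tt N5463 (iv F44662)) (tt N5338 (iv F44242)) (tt N3792 F41106) (tt N5484 (iv F44736)) (tt N4540 F41107) (tt N3708 F41108) (tt N5497 (iv F44771)) (tt N5498 D11385) (tt N3707 (iv D10427)))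
theorem Q4542 : ∀ i, i < 4542 → P i := stepQ 4541 Q4541 (allL N4541 (tt N5464 (iv F44666)) (tt N3895 F41109) (tt N3793 F41110) (tt N5319 (iv F44185)) (tt N3709 F41111) (tt N5498 (iv F44775)) (tt N3712 F41112) (tt N3708 (iv D10428)) (tt N3836 F41113))
theorem Q4543 : ∀ i, i < 4543 → P i := stepQ 4542 Q4542 (allL N4542 (tt N5465 (iv F44671)) (tt N5339 (iv F44247)) (tt N3794 F41114) (tt N5494 (iv F44764)) (tt N3713 F41115) (tt N5497 (iv F44770)) (tt N3711 F41116) (tt N5499 D11386) (tt N3710 (iv D10429)))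
theorem Q4544 : ∀ i, i < 4544 → P i := stepQ 4543 Q4543 (allL N4543 (tt N5466 (iv F44675)) (tt N5340 (iv F44251)) (tt N3795 F41117) (tt N5500 D11387) (tt N3714 F41118) (tt N3712 F41119) (tt N5499 (iv F44779)) (tt N3711 (iv D10430)) (tt N3899 F41120))
theorem Q4545 : ∀ i, i < 4545 → P i := stepQ 4544 Q4544 (allL N4544 (tt N5467 (iv F44680)) (tt N5341 (iv F44256)) (tt N5501 D11388) (tt N3712 (iv D10431)) (tt N5314 (iv F44169)) (tt N5500 (iv F44781)) (tt N5319 (iv F44187)) (tt N5496 (iv F44767)) (tt N3900 F41121))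
theorem Q4546 : ∀ i, i < 4546 → P i := stepQ 4545 Q4545 (allL N4545 (tt N5468 (iv F44682)) (tt N5342 (iv F44261)) (tt N3797 F41122) (tt N4954 (iv F42695)) (tt N5499 (iv F44778)) (tt N4545 F41123) (tt N3714 F41124) (tt N3713 (iv D10432)) (tt N3901 F41125))
theorem Q4547 : ∀ i, i < 4547 → P i := stepQ 4546 Q4546 (allL N4546 (tt N5469 (iv F44687)) (tt N5343 (iv F44266)) (tt N4952 (iv F42683)) (tt N3714 (iv D10433)) (tt N5036 (iv F43025)) (tt N3715 F41126) (tt N4954 (iv F42698)) (tt N5142 (iv F43417)) (tt N3902 F41127))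
theorem Q4548 : ∀ i, i < 4548 → P i := stepQ 4547 Q4547 (allL N4547 (tt N5470 (iv F44690)) (tt N4958 (iv F42717)) (tt N3715 (iv D10434)) (tt N3799 F41128) (tt N5397 (iv F44457)) (tt N4952 (iv F42686)) (tt N4547 F41129) (tt N5143 (iv F43422)) (tt N3903 F41130))
theorem Q4549 : ∀ i, i < 4549 → P i := stepQ 4548 Q4548 (allL N4548 (tt N3717 F41131) (tt N5471 (iv F44695)) (tt N3718 F41132) (tt N5487 (iv F44745)) (tt N3800 F41133) (tt N5146 (iv F43438)) (tt N3996 F41134) (tt N4988 (iv F42848)) (tt N3716 (iv D10435)))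
theorem Q4550 : ∀ i, i < 4550 → P i := stepQ 4549 Q4549 (allL N4549 (tt N4549 F41135) (tt N5350 (iv F44293)) (tt N3720 F41136) (tt N4243 F41137) (tt N3904 F41138) (tt N5159 (iv F43495)) (tt N3719 (iv D10436)) (tt N5502 D11389) (tt N3733 F41139))
theorem Q4551 : ∀ i, i < 4551 → P i := stepQ 4550 Q4550 (allL N4550 (tt N4550 F41140) (tt N5351 (iv F44298)) (tt N3721 F41141) (tt N5503 D11390) (tt N3905 F41142) (tt N4050 F41143) (tt N5502 (iv F44788)) (tt N3719 (iv D10437)) (tt N5504 D11391))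
theorem Q4552 : ∀ i, i < 4552 → P i := stepQ 4551 Q4551 (allL N4551 (tt N4551 F41144) (tt N3726 F41145) (tt N5502 (iv F44786)) (tt N5153 (iv F43468)) (tt N3906 F41146) (tt N5154 (iv F43473)) (tt N3721 F41147) (tt N3720 (iv D10438)) (tt N5505 D11392))
theorem Q4553 : ∀ i, i < 4553 → P i := stepQ 4552 Q4552 (allL N4552 (tt N4552 F41148) (tt N3727 F41149) (tt N5506 D11393) (tt N3721 (iv D10439)) (tt N5507 D11394) (tt N3735 F41150) (tt N5153 (iv F43470)) (tt N3722 F41151) (tt N5508 D11395))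
theorem Q4554 : ∀ i, i < 4554 → P i := stepQ 4553 Q4553 (allL N4553 (tt N4553 F41152) (tt N3728 F41153) (tt N5504 (iv F44793)) (tt N5508 (iv F44812)) (tt N3908 F41154) (tt N4051 F41155) (tt N5505 (iv F44800)) (tt N3737 F41156) (tt N3721 (iv D10440)))
theorem Q4555 : ∀ i, i < 4555 → P i := stepQ 4554 Q4554 (allL N4554 (tt N4554 F41157) (tt N5398 (iv F44461)) (tt N3722 (iv D10441)) (tt N4250 F41158) (tt N5509 D11396) (tt N3733 F41159) (tt N5148 (iv F43447)) (tt N5506 (iv F44804)) (tt N5159 (iv F43497)))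
theorem Q4556 : ∀ i, i < 4556 → P i := stepQ 4555 Q4555 (allL N4555 (tt N4555 F41160) (tt N3729 F41161) (tt N5509 (iv F44815)) (tt N3724 F41162) (tt N3722 (iv D10442)) (tt N3927 F41163) (tt N5152 (iv F43464)) (tt N5507 (iv F44809)) (tt N5160 (iv F43503)))
theorem Q4557 : ∀ i, i < 4557 → P i := stepQ 4556 Q4556 (allL N4556 (tt N4556 F41164) (tt N4556 F41165) (tt N3724 F41166) (tt N4809 (iv F42165)) (tt N3723 (iv D10443)) (tt N3986 F41167) (tt N5165 (iv F43526)) (tt N3913 F41168) (tt N5163 (iv F43515)))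
theorem Q4558 : ∀ i, i < 4558 → P i := stepQ 4557 Q4557 (allL N4557 (tt N3730 F41169) (tt N5505 (iv F44798)) (tt N5229 (iv F43851)) (tt N5167 (iv F43534)) (tt N3917 F41170) (tt N5170 (iv F43551)) (tt N3728 F41171) (tt N3739 F41172) (tt N3726 (iv D10444)))
theorem Q4559 : ∀ i, i < 4559 → P i := stepQ 4558 Q4558 (allL N4558 (tt N3731 F41173) (tt N5507 (iv F44806)) (tt N5440 (iv F44584)) (tt N3918 F41174) (tt N3727 (iv D10445)) (tt N3930 F41175) (tt N5166 (iv F43532)) (tt N3729 F41176) (tt N5510 D11397))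
theorem Q4560 : ∀ i, i < 4560 → P i := stepQ 4559 Q4559 (allL N4559 (tt N3732 F41177) (tt N5508 (iv F44811)) (tt N5441 (iv F44588)) (tt N3728 F41178) (tt N5510 (iv F44819)) (tt N3739 F41179) (tt N5167 (iv F43536)) (tt N5170 (iv F43553)) (tt N3727 (iv D10446)))
theorem Q4561 : ∀ i, i < 4561 → P i := stepQ 4560 Q4560 (allL N4560 (tt N5510 (iv F44817)) (tt N4560 F41180) (tt N5244 (iv F43908)) (tt N3922 F41181) (tt N3732 F41182) (tt N3932 F41183) (tt N5179 (iv F43596)) (tt N5181 (iv F43610)) (tt N3731 (iv D10447)))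
theorem Q4562 : ∀ i, i < 4562 → P i := stepQ 4561 Q4561 (allL N4561 (tt N4561 F41184) (tt N5399 (iv F44464)) (tt N3735 F41185) (tt N5511 D11398) (tt N3924 F41186) (tt N5506 (iv F44803)) (tt N3734 F41187) (tt N3733 (iv D10448)) (tt N5512 D11399))
theorem Q4563 : ∀ i, i < 4563 → P i := stepQ 4562 Q4562 (allL N4562 (tt N4562 F41188) (tt N5400 (iv F44468)) (tt N5513 D11400) (tt N3734 (iv D10449)) (tt N5514 D11401) (tt N5150 (iv F43454)) (tt N5511 (iv F44823)) (tt N4895 (iv F42431)) (tt N5515 D11402))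
theorem Q4564 : ∀ i, i < 4564 → P i := stepQ 4563 Q4563 (allL N4563 (tt N4563 F41189) (tt N5401 (iv F44469)) (tt N3737 F41190) (tt N5515 (iv F44835)) (tt N3926 F41191) (tt N5151 (iv F43458)) (tt N5512 (iv F44827)) (tt N5504 (iv F44796)) (tt N3734 (iv D10450)))
theorem Q4565 : ∀ i, i < 4565 → P i := stepQ 4564 Q4564 (allL N4564 (tt N4564 F41192) (tt N3739 F41193) (tt N5512 (iv F44825)) (tt N4051 F41194) (tt N3929 F41195) (tt N5508 (iv F44813)) (tt N3737 F41196) (tt N5505 (iv F44801)) (tt N3735 (iv D10451)))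
theorem Q4566 : ∀ i, i < 4566 → P i := stepQ 4565 Q4565 (allL N4565 (tt N4565 F41197) (tt N5516 D11403) (tt N3736 (iv D10452)) (tt N5513 (iv F44829)) (tt N4565 F41198) (tt N5156 (iv F43482)) (tt N4050 F41199) (tt N3738 F41200) (tt N5517 D11404))
theorem Q4567 : ∀ i, i < 4567 → P i := stepQ 4566 Q4566 (allL N4566 (tt N4566 F41201) (tt N3741 F41202) (tt N5517 (iv F44841)) (tt N3737 F41203) (tt N4566 F41204) (tt N5158 (iv F43492)) (tt N4051 F41205) (tt N5155 (iv F43480)) (tt N3736 (iv D10453)))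
theorem Q4568 : ∀ i, i < 4568 → P i := stepQ 4567 Q4567 (allL N4567 (tt N5518 D11405) (tt N3738 (iv D10454)) (tt N3742 F41206) (tt N4465 F41207) (tt N4567 F41208) (tt N5161 (iv F43505)) (tt N4017 F41209) (tt N5516 (iv F44839)) (tt N5048 (iv F43074)))
theorem Q4569 : ∀ i, i < 4569 → P i := stepQ 4568 Q4568 (allL N4568 (tt N5519 D11406) (tt N3740 (iv D10455)) (tt N5516 (iv F44836)) (tt N5444 (iv F44599)) (tt N4568 F41210) (tt N5171 (iv F43554)) (tt N4018 F41211) (tt N3742 F41212) (tt N5520 D11407))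
theorem Q4570 : ∀ i, i < 4570 → P i := stepQ 4569 Q4569 (allL N4569 (tt N3745 F41213) (tt N5520 (iv F44853)) (tt N3741 F41214) (tt N5446 (iv F44609)) (tt N4569 F41215) (tt N5173 (iv F43564)) (tt N4030 F41216) (tt N5078 (iv F43177)) (tt N3740 (iv D10456)))
theorem Q4571 : ∀ i, i < 4571 → P i := stepQ 4570 Q4570 (allL N4570 (tt N3742 (iv D10457)) (tt N3746 F41217) (tt N5518 (iv F44845)) (tt N3743 F41218) (tt N4570 F41219) (tt N5176 (iv F43577)) (tt N3987 F41220) (tt N5519 (iv F44852)) (tt N4966 (iv F42756)))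
theorem Q4572 : ∀ i, i < 4572 → P i := stepQ 4571 Q4571 (allL N4571 (tt N3744 (iv D10458)) (tt N5519 (iv F44849)) (tt N4571 F41221) (tt N5474 (iv F44706)) (tt N4571 F41222) (tt N5182 (iv F43613)) (tt N3994 F41223) (tt N3746 F41224) (tt N5521 D11408))
theorem Q4573 : ∀ i, i < 4573 → P i := stepQ 4572 Q4572 (allL N4572 (tt N5521 (iv F44856)) (tt N3745 F41225) (tt N4572 F41226) (tt N5476 (iv F44714)) (tt N4572 F41227) (tt N5183 (iv F43619)) (tt N4005 F41228) (tt N5009 (iv F42923)) (tt N3744 (iv D10459)))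
theorem Q4574 : ∀ i, i < 4574 → P i := stepQ 4573 Q4573 (allL N4573 (tt N5522 D11409) (tt N3747 (iv D10460)) (tt N3765 F41229) (tt N4476 F41230) (tt N5523 D11410) (tt N4573 F41231) (tt N4021 F41232) (tt N4573 F41233) (tt N5524 D11411))
theorem Q4575 : ∀ i, i < 4575 → P i := stepQ 4574 Q4574 (allL N4574 (tt N4574 F41234) (tt N5523 (iv F44866)) (tt N3748 F41235) (tt N5525 D11412) (tt N3747 (iv D10461)) (tt N5526 D11413) (tt N4052 F41236) (tt N4574 F41237) (tt N5527 D11414))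
theorem Q4576 : ∀ i, i < 4576 → P i := stepQ 4575 Q4575 (allL N4575 (tt N4575 F41238) (tt N5524 (iv F44870)) (tt N3749 F41239) (tt N4580 (iv F41264)) (tt N5527 (iv F44884)) (tt N4575 F41240) (tt N4053 F41241) (tt N5528 D11415) (tt N3747 (iv D10462)))
theorem Q4577 : ∀ i, i < 4577 → P i := stepQ 4576 Q4576 (allL N4576 (tt N4576 F41242) (tt N3768 F41243) (tt N5526 (iv F44879)) (tt N3755 F41244) (tt N4576 F41245) (tt N3748 (iv D10463)) (tt N5529 D11416) (tt N4576 F41246) (tt N5530 D11417))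
theorem Q4578 : ∀ i, i < 4578 → P i := stepQ 4577 Q4577 (allL N4577 (tt N4577 F41247) (tt N3769 F41248) (tt N5527 (iv F44883)) (tt N3756 F41249) (tt N3749 F41250) (tt N5530 (iv F44901)) (tt N4055 F41251) (tt N5531 D11418) (tt N3748 (iv D10464)))
theorem Q4579 : ∀ i, i < 4579 → P i := stepQ 4578 Q4578 (allL N4578 (tt N4578 F41252) (tt N3770 F41253) (tt N5528 (iv F44887)) (tt N4578 F41254) (tt N5531 (iv F44904)) (tt N4578 F41255) (tt N4056 F41256) (tt N3749 (iv D10465)) (tt N4578 F41257))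
theorem Q4580 : ∀ i, i < 4580 → P i := stepQ 4579 Q4579 (allL N4579 (tt N4579 F41258) (tt N5418 (iv F44510)) (tt N3751 F41259) (tt N5532 D11419) (tt N3750 (iv D10466)) (tt N5533 D11420) (tt N3753 F41260) (tt N3933 F41261) (tt N5534 D11421))
theorem Q4581 : ∀ i, i < 4581 → P i := stepQ 4580 Q4580 (allL N4580 (tt N4580 F41262) (tt N5419 (iv F44514)) (tt N3752 F41263) (tt N4575 F41264) (tt N5534 (iv F44917)) (tt N4580 F41265) (tt N3754 F41266) (tt N5535 D11422) (tt N3750 (iv D10467)))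
theorem Q4582 : ∀ i, i < 4582 → P i := stepQ 4581 Q4581 (allL N4581 (tt N4581 F41267) (tt N3771 F41268) (tt N5533 (iv F44912)) (tt N4054 F41269) (tt N4581 F41270) (tt N3751 (iv D10468)) (tt N5536 D11423) (tt N3935 F41271) (tt N5537 D11424))
theorem Q4583 : ∀ i, i < 4583 → P i := stepQ 4582 Q4582 (allL N4582 (tt N4582 F41272) (tt N3772 F41273) (tt N5534 (iv F44916)) (tt N4055 F41274) (tt N3752 F41275) (tt N5537 (iv F44934)) (tt N3756 F41276) (tt N5538 D11425) (tt N3751 (iv D10469)))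
theorem Q4584 : ∀ i, i < 4584 → P i := stepQ 4583 Q4583 (allL N4583 (tt N4583 F41277) (tt N3773 F41278) (tt N5535 (iv F44920)) (tt N4583 F41279) (tt N5538 (iv F44937)) (tt N4583 F41280) (tt N3757 F41281) (tt N3752 (iv D10470)) (tt N3937 F41282))
theorem Q4585 : ∀ i, i < 4585 → P i := stepQ 4584 Q4584 (allL N4584 (tt N4584 F41283) (tt N5423 (iv F44530)) (tt N5525 (iv F44876)) (tt N3753 (iv D10471)) (tt N4897 (iv F42436)) (tt N5539 D11426) (tt N5532 (iv F44910)) (tt N5540 D11427) (tt N5541 D11428))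
theorem Q4586 : ∀ i, i < 4586 → P i := stepQ 4585 Q4585 (allL N4585 (tt N4585 F41284) (tt N5424 (iv F44531)) (tt N3755 F41285) (tt N5539 (iv F44941)) (tt N3759 F41286) (tt N3753 (iv D10472)) (tt N5542 D11429) (tt N3939 F41287) (tt N5543 D11430))
theorem Q4587 : ∀ i, i < 4587 → P i := stepQ 4586 Q4586 (allL N4586 (tt N4586 F41288) (tt N5425 (iv F44535)) (tt N3756 F41289) (tt N5541 (iv F44945)) (tt N3754 F41290) (tt N5543 (iv F44953)) (tt N5534 (iv F44918)) (tt N5544 D11431) (tt N3753 (iv D10473)))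
theorem Q4588 : ∀ i, i < 4588 → P i := stepQ 4587 Q4587 (allL N4587 (tt N4587 F41291) (tt N5426 (iv F44538)) (tt N3757 F41292) (tt N5545 D11432) (tt N5544 (iv F44956)) (tt N3761 F41293) (tt N5535 (iv F44922)) (tt N3754 (iv D10474)) (tt N3941 F41294))
theorem Q4589 : ∀ i, i < 4589 → P i := stepQ 4588 Q4588 (allL N4588 (tt N4588 F41295) (tt N3774 F41296) (tt N5542 (iv F44947)) (tt N5529 (iv F44893)) (tt N3762 F41297) (tt N5536 (iv F44928)) (tt N3755 (iv D10475)) (tt N3942 F41298) (tt N5546 D11433))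
theorem Q4590 : ∀ i, i < 4590 → P i := stepQ 4589 Q4589 (allL N4589 (tt N4589 F41299) (tt N3775 F41300) (tt N5543 (iv F44951)) (tt N5530 (iv F44899)) (tt N3763 F41301) (tt N3756 F41302) (tt N5546 (iv F44965)) (tt N5547 D11434) (tt N3755 (iv D10476)))
theorem Q4591 : ∀ i, i < 4591 → P i := stepQ 4590 Q4590 (allL N4590 (tt N4590 F41303) (tt N3776 F41304) (tt N5544 (iv F44955)) (tt N5548 D11435) (tt N3757 F41305) (tt N5547 (iv F44969)) (tt N5538 (iv F44938)) (tt N3756 (iv D10477)) (tt N3944 F41306))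
theorem Q4592 : ∀ i, i < 4592 → P i := stepQ 4591 Q4591 (allL N4591 (tt N4591 F41307) (tt N5430 (iv F44551)) (tt N4591 F41308) (tt N3759 F41309) (tt N5549 D11436) (tt N3758 (iv D10478)) (tt N5550 D11437) (tt N5551 D11438) (tt N5552 D11439))
theorem Q4593 : ∀ i, i < 4593 → P i := stepQ 4592 Q4592 (allL N4592 (tt N4592 F41310) (tt N5431 (iv F44553)) (tt N4592 F41311) (tt N3946 F41312) (tt N4905 (iv F42466)) (tt N5551 (iv F44984)) (tt N4592 F41313) (tt N3758 (iv D10479)) (tt N5553 D11440))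
theorem Q4594 : ∀ i, i < 4594 → P i := stepQ 4593 Q4593 (allL N4593 (tt N4593 F41314) (tt N5432 (iv F44556)) (tt N4593 F41315) (tt N3760 F41316) (tt N4906 (iv F42471)) (tt N5552 (iv F44988)) (tt N4593 F41317) (tt N5554 D11441) (tt N3758 (iv D10480)))
theorem Q4595 : ∀ i, i < 4595 → P i := stepQ 4594 Q4594 (allL N4594 (tt N4594 F41318) (tt N5433 (iv F44559)) (tt N3762 F41319) (tt N5550 (iv F44979)) (tt N5542 (iv F44948)) (tt N4594 F41320) (tt N3759 (iv D10481)) (tt N3948 F41321) (tt N5555 D11442))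
theorem Q4596 : ∀ i, i < 4596 → P i := stepQ 4595 Q4595 (allL N4595 (tt N4595 F41322) (tt N5434 (iv F44563)) (tt N3763 F41323) (tt N5552 (iv F44987)) (tt N5543 (iv F44952)) (tt N3760 F41324) (tt N5555 (iv F44999)) (tt N5556 D11443) (tt N3759 (iv D10482)))
theorem Q4597 : ∀ i, i < 4597 → P i := stepQ 4596 Q4596 (allL N4596 (tt N4596 F41325) (tt N5435 (iv F44566)) (tt N3764 F41326) (tt N5557 D11444) (tt N3761 F41327) (tt N5556 (iv F45002)) (tt N4596 F41328) (tt N3760 (iv D10483)) (tt N3950 F41329))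
theorem Q4598 : ∀ i, i < 4598 → P i := stepQ 4597 Q4597 (allL N4597 (tt N4597 F41330) (tt N5436 (iv F44571)) (tt N4597 F41331) (tt N3761 (iv D10484)) (tt N5558 D11445) (tt N5545 (iv F44960)) (tt N4597 F41332) (tt N4910 (iv F42488)) (tt N3951 F41333))
theorem Q4599 : ∀ i, i < 4599 → P i := stepQ 4598 Q4598 (allL N4598 (tt N4598 F41334) (tt N3777 F41335) (tt N5555 (iv F44997)) (tt N4598 F41336) (tt N5546 (iv F44964)) (tt N4598 F41337) (tt N3763 F41338) (tt N5559 D11446) (tt N3762 (iv D10485)))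
theorem Q4600 : ∀ i, i < 4600 → P i := stepQ 4599 Q4599 (allL N4599 (tt N4599 F41339) (tt N3778 F41340) (tt N5556 (iv F45001)) (tt N5560 D11447) (tt N5547 (iv F44968)) (tt N3764 F41341) (tt N5559 (iv F45014)) (tt N3763 (iv D10486)) (tt N3953 F41342))
theorem Q4601 : ∀ i, i < 4601 → P i := stepQ 4600 Q4600 (allL N4600 (tt N4600 F41343) (tt N3779 F41344) (tt N5561 D11448) (tt N3764 (iv D10487)) (tt N4600 F41345) (tt N5560 (iv F45018)) (tt N4600 F41346) (tt N4600 F41347) (tt N3954 F41348))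
theorem Q4602 : ∀ i, i < 4602 → P i := stepQ 4601 Q4601 (allL N4601 (tt N3765 (iv D10488)) (tt N3782 F41349) (tt N5522 (iv F44861)) (tt N3780 F41350) (tt N5562 D11449) (tt N4601 F41351) (tt N3989 F41352) (tt N4601 F41353) (tt N5563 D11450))
theorem Q4603 : ∀ i, i < 4603 → P i := stepQ 4602 Q4602 (allL N4602 (tt N5562 (iv F45026)) (tt N3766 F41354) (tt N5523 (iv F44867)) (tt N5454 (iv F44634)) (tt N3765 (iv D10489)) (tt N5564 D11451) (tt N4022 F41355) (tt N4602 F41356) (tt N5565 D11452))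
theorem Q4604 : ∀ i, i < 4604 → P i := stepQ 4603 Q4603 (allL N4603 (tt N5563 (iv F45030)) (tt N3767 F41357) (tt N5524 (iv F44871)) (tt N3781 F41358) (tt N5565 (iv F45039)) (tt N4603 F41359) (tt N4023 F41360) (tt N5566 D11453) (tt N3765 (iv D10490)))
theorem Q4605 : ∀ i, i < 4605 → P i := stepQ 4604 Q4604 (allL N4604 (tt N3785 F41361) (tt N5564 (iv F45035)) (tt N3768 F41362) (tt N5456 (iv F44641)) (tt N4604 F41363) (tt N3766 (iv D10491)) (tt N5567 D11454) (tt N4604 F41364) (tt N5568 D11455))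
theorem Q4606 : ∀ i, i < 4606 → P i := stepQ 4605 Q4605 (allL N4605 (tt N3786 F41365) (tt N5565 (iv F45038)) (tt N3769 F41366) (tt N5457 (iv F44644)) (tt N3767 F41367) (tt N5568 (iv F45053)) (tt N4034 F41368) (tt N5569 D11456) (tt N3766 (iv D10492)))
theorem Q4607 : ∀ i, i < 4607 → P i := stepQ 4606 Q4606 (allL N4606 (tt N3787 F41369) (tt N5566 (iv F45041)) (tt N3770 F41370) (tt N5095 (iv F43236)) (tt N5569 (iv F45056)) (tt N4606 F41371) (tt N4035 F41372) (tt N3767 (iv D10493)) (tt N4606 F41373))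
theorem Q4608 : ∀ i, i < 4608 → P i := stepQ 4607 Q4607 (allL N4607 (tt N3788 F41374) (tt N5529 (iv F44892)) (tt N5567 (iv F45046)) (tt N3774 F41375) (tt N4607 F41376) (tt N4064 F41377) (tt N3768 (iv D10494)) (tt N4607 F41378) (tt N5570 D11457))
theorem Q4609 : ∀ i, i < 4609 → P i := stepQ 4608 Q4608 (allL N4608 (tt N3789 F41379) (tt N5530 (iv F44898)) (tt N5568 (iv F45051)) (tt N3775 F41380) (tt N4608 F41381) (tt N3769 F41382) (tt N5570 (iv F45063)) (tt N5571 D11458) (tt N3768 (iv D10495)))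
theorem Q4610 : ∀ i, i < 4610 → P i := stepQ 4609 Q4609 (allL N4609 (tt N3790 F41383) (tt N5531 (iv F44903)) (tt N5569 (iv F45055)) (tt N5572 D11459) (tt N3770 F41384) (tt N5571 (iv F45066)) (tt N4066 F41385) (tt N3769 (iv D10496)) (tt N4609 F41386))
theorem Q4611 : ∀ i, i < 4611 → P i := stepQ 4610 Q4610 (allL N4610 (tt N3791 F41387) (tt N5536 (iv F44925)) (tt N5462 (iv F44658)) (tt N4064 F41388) (tt N4610 F41389) (tt N3774 F41390) (tt N3771 (iv D10497)) (tt N3955 F41391) (tt N5573 D11460))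
theorem Q4612 : ∀ i, i < 4612 → P i := stepQ 4611 Q4611 (allL N4611 (tt N3792 F41392) (tt N5537 (iv F44931)) (tt N5463 (iv F44663)) (tt N4065 F41393) (tt N4611 F41394) (tt N3772 F41395) (tt N5573 (iv F45077)) (tt N5574 D11461) (tt N3771 (iv D10498)))
theorem Q4613 : ∀ i, i < 4613 → P i := stepQ 4612 Q4612 (allL N4612 (tt N3793 F41396) (tt N5538 (iv F44936)) (tt N5464 (iv F44667)) (tt N5575 D11462) (tt N3773 F41397) (tt N5574 (iv F45080)) (tt N3776 F41398) (tt N3772 (iv D10499)) (tt N3957 F41399))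
theorem Q4614 : ∀ i, i < 4614 → P i := stepQ 4613 Q4613 (allL N4613 (tt N3794 F41400) (tt N5546 (iv F44963)) (tt N5465 (iv F44672)) (tt N5570 (iv F45060)) (tt N3777 F41401) (tt N5573 (iv F45076)) (tt N3775 F41402) (tt N5576 D11463) (tt N3774 (iv D10500)))
theorem Q4615 : ∀ i, i < 4615 → P i := stepQ 4614 Q4614 (allL N4614 (tt N3795 F41403) (tt N5547 (iv F44967)) (tt N5466 (iv F44676)) (tt N5577 D11464) (tt N3778 F41404) (tt N3776 F41405) (tt N5576 (iv F45089)) (tt N3775 (iv D10501)) (tt N3959 F41406))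
theorem Q4616 : ∀ i, i < 4616 → P i := stepQ 4615 Q4615 (allL N4615 (tt N3796 F41407) (tt N5548 (iv F44972)) (tt N5578 D11465) (tt N3776 (iv D10502)) (tt N4615 F41408) (tt N5577 (iv F45092)) (tt N5575 (iv F45084)) (tt N5572 (iv F45071)) (tt N3960 F41409))
theorem Q4617 : ∀ i, i < 4617 → P i := stepQ 4616 Q4616 (allL N4616 (tt N3797 F41410) (tt N5559 (iv F45012)) (tt N5468 (iv F44683)) (tt N4933 (iv F42583)) (tt N5576 (iv F45088)) (tt N4616 F41411) (tt N3778 F41412) (tt N3777 (iv D10503)) (tt N3961 F41413))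
theorem Q4618 : ∀ i, i < 4618 → P i := stepQ 4617 Q4617 (allL N4617 (tt N3798 F41414) (tt N5560 (iv F45017)) (tt N4942 (iv F42630)) (tt N3778 (iv D10504)) (tt N4935 (iv F42596)) (tt N3779 F41415) (tt N4933 (iv F42586)) (tt N4617 F41416) (tt N3962 F41417))
theorem Q4619 : ∀ i, i < 4619 → P i := stepQ 4618 Q4618 (allL N4618 (tt N3799 F41418) (tt N5579 D11466) (tt N3779 (iv D10505)) (tt N5470 (iv F44691)) (tt N4618 F41419) (tt N4942 (iv F42632)) (tt N4618 F41420) (tt N4618 F41421) (tt N3963 F41422))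
theorem Q4620 : ∀ i, i < 4620 → P i := stepQ 4619 Q4619 (allL N4619 (tt N3781 F41423) (tt N3800 F41424) (tt N4356 F41425) (tt N5563 (iv F45032)) (tt N5471 (iv F44697)) (tt N4619 F41426) (tt N3990 F41427) (tt N4973 (iv F42787)) (tt N3780 (iv D10506)))
theorem Q4621 : ∀ i, i < 4621 → P i := stepQ 4620 Q4620 (allL N4620 (tt N3783 F41428) (tt N5562 (iv F45027)) (tt N4620 F41429) (tt N5486 (iv F44742)) (tt N3782 (iv D10507)) (tt N5580 D11467) (tt N3997 F41430) (tt N4620 F41431) (tt N5581 D11468))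
theorem Q4622 : ∀ i, i < 4622 → P i := stepQ 4621 Q4621 (allL N4621 (tt N3784 F41432) (tt N5563 (iv F45031)) (tt N4621 F41433) (tt N3800 F41434) (tt N5581 (iv F45109)) (tt N4621 F41435) (tt N3998 F41436) (tt N5582 D11469) (tt N3782 (iv D10508)))
theorem Q4623 : ∀ i, i < 4623 → P i := stepQ 4622 Q4622 (allL N4622 (tt N5580 (iv F45103)) (tt N3785 F41437) (tt N4622 F41438) (tt N5488 (iv F44748)) (tt N4622 F41439) (tt N3783 (iv D10509)) (tt N5583 D11470) (tt N4622 F41440) (tt N5584 D11471))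
theorem Q4624 : ∀ i, i < 4624 → P i := stepQ 4623 Q4623 (allL N4623 (tt N5581 (iv F45107)) (tt N3786 F41441) (tt N4623 F41442) (tt N5489 (iv F44750)) (tt N3784 F41443) (tt N5584 (iv F45124)) (tt N4010 F41444) (tt N5585 D11472) (tt N3783 (iv D10510)))
theorem Q4625 : ∀ i, i < 4625 → P i := stepQ 4624 Q4624 (allL N4624 (tt N5582 (iv F45111)) (tt N3787 F41445) (tt N4624 F41446) (tt N5025 (iv F42977)) (tt N5585 (iv F45127)) (tt N4624 F41447) (tt N4011 F41448) (tt N3784 (iv D10511)) (tt N4624 F41449))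
theorem Q4626 : ∀ i, i < 4626 → P i := stepQ 4625 Q4625 (allL N4625 (tt N5567 (iv F45045)) (tt N5583 (iv F45116)) (tt N3788 F41450) (tt N5491 (iv F44756)) (tt N4625 F41451) (tt N4044 F41452) (tt N3785 (iv D10512)) (tt N4625 F41453) (tt N5586 D11473))
theorem Q4627 : ∀ i, i < 4627 → P i := stepQ 4626 Q4626 (allL N4626 (tt N5568 (iv F45050)) (tt N5584 (iv F45121)) (tt N3789 F41454) (tt N5492 (iv F44759)) (tt N4626 F41455) (tt N3786 F41456) (tt N5586 (iv F45133)) (tt N5587 D11474) (tt N3785 (iv D10513)))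
theorem Q4628 : ∀ i, i < 4628 → P i := stepQ 4627 Q4627 (allL N4627 (tt N5569 (iv F45054)) (tt N5585 (iv F45125)) (tt N3790 F41457) (tt N5588 D11475) (tt N3787 F41458) (tt N5587 (iv F45136)) (tt N4046 F41459) (tt N3786 (iv D10514)) (tt N4627 F41460))
theorem Q4629 : ∀ i, i < 4629 → P i := stepQ 4628 Q4628 (allL N4628 (tt N5570 (iv F45059)) (tt N4628 F41461) (tt N5586 (iv F45130)) (tt N3794 F41462) (tt N4628 F41463) (tt N4070 F41464) (tt N3789 F41465) (tt N5589 D11476) (tt N3788 (iv D10515)))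
theorem Q4630 : ∀ i, i < 4630 → P i := stepQ 4629 Q4629 (allL N4629 (tt N5571 (iv F45064)) (tt N4629 F41466) (tt N5587 (iv F45134)) (tt N5590 D11477) (tt N4629 F41467) (tt N3790 F41468) (tt N5589 (iv F45143)) (tt N3789 (iv D10516)) (tt N4629 F41469))
theorem Q4631 : ∀ i, i < 4631 → P i := stepQ 4630 Q4630 (allL N4630 (tt N5572 (iv F45068)) (tt N4630 F41470) (tt N5591 D11478) (tt N3790 (iv D10517)) (tt N4630 F41471) (tt N5590 (iv F45146)) (tt N4072 F41472) (tt N3796 F41473) (tt N4630 F41474))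
theorem Q4632 : ∀ i, i < 4632 → P i := stepQ 4631 Q4631 (allL N4631 (tt N5573 (iv F45073)) (tt N4631 F41475) (tt N5497 (iv F44768)) (tt N4070 F41476) (tt N4631 F41477) (tt N3794 F41478) (tt N3792 F41479) (tt N5592 D11479) (tt N3791 (iv D10518)))
theorem Q4633 : ∀ i, i < 4633 → P i := stepQ 4632 Q4632 (allL N4632 (tt N5574 (iv F45078)) (tt N4632 F41480) (tt N5498 (iv F44773)) (tt N5593 D11480) (tt N4632 F41481) (tt N3793 F41482) (tt N5592 (iv F45156)) (tt N3792 (iv D10519)) (tt N3965 F41483))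
theorem Q4634 : ∀ i, i < 4634 → P i := stepQ 4633 Q4633 (allL N4633 (tt N5575 (iv F45082)) (tt N4633 F41484) (tt N5594 D11481) (tt N3793 (iv D10520)) (tt N4633 F41485) (tt N5593 (iv F45159)) (tt N3796 F41486) (tt N4072 F41487) (tt N3966 F41488))
theorem Q4635 : ∀ i, i < 4635 → P i := stepQ 4634 Q4634 (allL N4634 (tt N5576 (iv F45087)) (tt N4634 F41489) (tt N5499 (iv F44777)) (tt N4947 (iv F42659)) (tt N3797 F41490) (tt N5592 (iv F45155)) (tt N3795 F41491) (tt N3794 (iv D10521)) (tt N3967 F41492))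
theorem Q4636 : ∀ i, i < 4636 → P i := stepQ 4635 Q4635 (allL N4635 (tt N5577 (iv F45091)) (tt N4635 F41493) (tt N5024 (iv F42972)) (tt N3795 (iv D10522)) (tt N4945 (iv F42648)) (tt N3796 F41494) (tt N4947 (iv F42661)) (tt N5590 (iv F45147)) (tt N3968 F41495))
theorem Q4637 : ∀ i, i < 4637 → P i := stepQ 4636 Q4636 (allL N4636 (tt N5578 (iv F45094)) (tt N5136 (iv F43395)) (tt N3796 (iv D10523)) (tt N5501 (iv F44783)) (tt N4636 F41496) (tt N5024 (iv F42974)) (tt N5594 (iv F45163)) (tt N5591 (iv F45151)) (tt N3969 F41497))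
theorem Q4638 : ∀ i, i < 4638 → P i := stepQ 4637 Q4637 (allL N4637 (tt N4637 F41498) (tt N3805 F41499) (tt N3801 (iv D10524)) (tt N4637 F41500) (tt N5595 D11482) (tt N3904 F41501) (tt N4637 F41502) (tt N5187 (iv F43645)) (tt N3923 F41503))
theorem Q4639 : ∀ i, i < 4639 → P i := stepQ 4638 Q4638 (allL N4638 (tt N4638 F41504) (tt N3802 F41505) (tt N5595 (iv F45168)) (tt N3985 F41506) (tt N3801 (iv D10525)) (tt N5160 (iv F43501)) (tt N4638 F41507) (tt N5188 (iv F43650)) (tt N3927 F41508))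
theorem Q4640 : ∀ i, i < 4640 → P i := stepQ 4639 Q4639 (allL N4639 (tt N3845 F41509) (tt N4639 F41510) (tt N3803 (iv D10526)) (tt N4639 F41511) (tt N5208 (iv F43751)) (tt N4639 F41512) (tt N3847 F41513) (tt N5359 (iv F44328)) (tt N3812 F41514))
theorem Q4641 : ∀ i, i < 4641 → P i := stepQ 4640 Q4640 (allL N4640 (tt N3847 F41515) (tt N3904 F41516) (tt N3804 (iv D10527)) (tt N4640 F41517) (tt N5350 (iv F44296)) (tt N3805 F41518) (tt N3845 F41519) (tt N5214 (iv F43786)) (tt N3862 F41520))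
theorem Q4642 : ∀ i, i < 4642 → P i := stepQ 4641 Q4641 (allL N4641 (tt N3849 F41521) (tt N5595 (iv F45167)) (tt N3806 F41522) (tt N5596 D11483) (tt N3805 (iv D10528)) (tt N5597 D11484) (tt N4641 F41523) (tt N5217 (iv F43800)) (tt N5598 D11485))
theorem Q4643 : ∀ i, i < 4643 → P i := stepQ 4642 Q4642 (allL N4642 (tt N3850 F41524) (tt N3923 F41525) (tt N3807 F41526) (tt N4642 F41527) (tt N5598 (iv F45180)) (tt N3862 F41528) (tt N4642 F41529) (tt N5599 D11486) (tt N3805 (iv D10529)))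
theorem Q4644 : ∀ i, i < 4644 → P i := stepQ 4643 Q4643 (allL N4643 (tt N3851 F41530) (tt N3808 F41531) (tt N5597 (iv F45176)) (tt N4643 F41532) (tt N5175 (iv F43571)) (tt N3806 (iv D10530)) (tt N5177 (iv F43584)) (tt N5219 (iv F43808)) (tt N5402 (iv F44476)))
theorem Q4645 : ∀ i, i < 4645 → P i := stepQ 4644 Q4644 (allL N4644 (tt N3852 F41533) (tt N3809 F41534) (tt N5598 (iv F45179)) (tt N4644 F41535) (tt N3807 F41536) (tt N5402 (iv F44475)) (tt N4644 F41537) (tt N5600 D11487) (tt N3806 (iv D10531)))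
theorem Q4646 : ∀ i, i < 4646 → P i := stepQ 4645 Q4645 (allL N4645 (tt N3853 F41538) (tt N3810 F41539) (tt N5599 (iv F45184)) (tt N3824 F41540) (tt N5600 (iv F45189)) (tt N3864 F41541) (tt N4645 F41542) (tt N3807 (iv D10532)) (tt N5221 (iv F43819)))
theorem Q4647 : ∀ i, i < 4647 → P i := stepQ 4646 Q4646 (allL N4646 (tt N3811 F41543) (tt N5600 (iv F45188)) (tt N3930 F41544) (tt N5601 D11488) (tt N3810 F41545) (tt N5440 (iv F44586)) (tt N4646 F41546) (tt N3809 (iv D10533)) (tt N5231 (iv F43862)))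
theorem Q4648 : ∀ i, i < 4648 → P i := stepQ 4647 Q4647 (allL N4647 (tt N5601 (iv F45191)) (tt N3861 F41547) (tt N5196 (iv F43690)) (tt N3811 (iv D10534)) (tt N3844 F41548) (tt N5198 (iv F43704)) (tt N4647 F41549) (tt N4647 F41550) (tt N5245 (iv F43916)))
theorem Q4649 : ∀ i, i < 4649 → P i := stepQ 4648 Q4648 (allL N4648 (tt N3862 F41551) (tt N4648 F41552) (tt N3813 F41553) (tt N4648 F41554) (tt N5253 (iv F43942)) (tt N3850 (iv F41556)) (tt N3812 (iv D10535)) (tt N5602 D11489) (tt N3847 F41555))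
theorem Q4650 : ∀ i, i < 4650 → P i := stepQ 4649 Q4649 (allL N4649 (tt N3863 F41557) (tt N4649 F41558) (tt N3814 F41559) (tt N5603 D11490) (tt N5254 (iv F43947)) (tt N4649 F41560) (tt N5602 (iv F45199)) (tt N3812 (iv D10536)) (tt N5604 D11491))
theorem Q4651 : ∀ i, i < 4651 → P i := stepQ 4650 Q4650 (allL N4650 (tt N3864 F41561) (tt N3825 F41562) (tt N5602 (iv F45197)) (tt N3875 F41563) (tt N5256 (iv F43955)) (tt N3853 F41564) (tt N3814 F41565) (tt N3813 (iv D10537)) (tt N5365 (iv F44352)))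
theorem Q4652 : ∀ i, i < 4652 → P i := stepQ 4651 Q4651 (allL N4651 (tt N3865 F41566) (tt N3826 F41567) (tt N5605 D11492) (tt N3814 (iv D10538)) (tt N5606 D11493) (tt N4651 F41568) (tt N3875 F41569) (tt N3815 F41570) (tt N5422 (iv F44529)))
theorem Q4653 : ∀ i, i < 4653 → P i := stepQ 4652 Q4652 (allL N4652 (tt N3866 F41571) (tt N3827 F41572) (tt N5604 (iv F45206)) (tt N5422 (iv F44526)) (tt N5258 (iv F43962)) (tt N4652 F41573) (tt N5365 (iv F44351)) (tt N5360 (iv F44334)) (tt N3814 (iv D10539)))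
theorem Q4654 : ∀ i, i < 4654 → P i := stepQ 4653 Q4653 (allL N4653 (tt N3867 F41574) (tt N3934 F41575) (tt N3815 (iv D10540)) (tt N4653 F41576) (tt N5607 D11494) (tt N4653 F41577) (tt N3872 F41578) (tt N5605 (iv F45212)) (tt N3869 F41579))
theorem Q4655 : ∀ i, i < 4655 → P i := stepQ 4654 Q4654 (allL N4654 (tt N3868 F41580) (tt N3828 F41581) (tt N5607 (iv F45219)) (tt N3818 F41582) (tt N3815 (iv D10541)) (tt N5608 D11495) (tt N3874 F41583) (tt N5606 (iv F45216)) (tt N3870 F41584))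
theorem Q4656 : ∀ i, i < 4656 → P i := stepQ 4655 Q4655 (allL N4655 (tt N3869 F41585) (tt N4655 F41586) (tt N3816 (iv D10542)) (tt N4655 F41587) (tt N5609 D11496) (tt N4655 F41588) (tt N3817 F41589) (tt N5265 (iv F43986)) (tt N3867 F41590))
theorem Q4657 : ∀ i, i < 4657 → P i := stepQ 4656 Q4656 (allL N4656 (tt N3870 F41591) (tt N3829 F41592) (tt N5609 (iv F45229)) (tt N3874 F41593) (tt N3816 (iv D10543)) (tt N5610 D11497) (tt N3818 F41594) (tt N5266 (iv F43990)) (tt N3868 F41595))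
theorem Q4658 : ∀ i, i < 4658 → P i := stepQ 4657 Q4657 (allL N4657 (tt N3871 F41596) (tt N4657 F41597) (tt N3818 F41598) (tt N5611 D11498) (tt N3817 (iv D10544)) (tt N5612 D11499) (tt N5609 (iv F45230)) (tt N5268 (iv F44000)) (tt N5613 D11500))
theorem Q4659 : ∀ i, i < 4659 → P i := stepQ 4658 Q4658 (allL N4658 (tt N3872 F41599) (tt N4658 F41600) (tt N3819 F41601) (tt N4658 F41602) (tt N5613 (iv F45247)) (tt N3821 F41603) (tt N3867 F41604) (tt N5614 D11501) (tt N3817 (iv D10545)))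
theorem Q4660 : ∀ i, i < 4660 → P i := stepQ 4659 Q4659 (allL N4659 (tt N3873 F41605) (tt N3830 F41606) (tt N5612 (iv F45242)) (tt N5608 (iv F45224)) (tt N3822 F41607) (tt N3818 (iv D10546)) (tt N5615 D11502) (tt N5270 (iv F44008)) (tt N5616 D11503))
theorem Q4661 : ∀ i, i < 4661 → P i := stepQ 4660 Q4660 (allL N4660 (tt N3874 F41608) (tt N3831 F41609) (tt N5613 (iv F45246)) (tt N3870 F41610) (tt N3819 F41611) (tt N5616 (iv F45261)) (tt N3868 F41612) (tt N5617 D11504) (tt N3818 (iv D10547)))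
theorem Q4662 : ∀ i, i < 4662 → P i := stepQ 4661 Q4661 (allL N4661 (tt N3875 F41613) (tt N3832 F41614) (tt N5614 (iv F45251)) (tt N3864 F41615) (tt N5617 (iv F45264)) (tt N3824 F41616) (tt N3865 F41617) (tt N3819 (iv D10548)) (tt N5272 (iv F44017)))
theorem Q4663 : ∀ i, i < 4663 → P i := stepQ 4662 Q4662 (allL N4662 (tt N3876 F41618) (tt N4662 F41619) (tt N4662 F41620) (tt N3820 (iv D10549)) (tt N4662 F41621) (tt N5618 D11505) (tt N4662 F41622) (tt N5619 D11506) (tt N5620 D11507))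
theorem Q4664 : ∀ i, i < 4664 → P i := stepQ 4663 Q4663 (allL N4663 (tt N3877 F41623) (tt N4663 F41624) (tt N3822 F41625) (tt N5618 (iv F45269)) (tt N5612 (iv F45243)) (tt N3820 (iv D10550)) (tt N5621 D11508) (tt N5274 (iv F44024)) (tt N5622 D11509))
theorem Q4665 : ∀ i, i < 4665 → P i := stepQ 4664 Q4664 (allL N4664 (tt N3878 F41626) (tt N4664 F41627) (tt N3823 F41628) (tt N5620 (iv F45278)) (tt N3821 F41629) (tt N5622 (iv F45288)) (tt N4664 F41630) (tt N5623 D11510) (tt N3820 (iv D10551)))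
theorem Q4666 : ∀ i, i < 4666 → P i := stepQ 4665 Q4665 (allL N4665 (tt N3879 F41631) (tt N4665 F41632) (tt N3824 F41633) (tt N5624 D11511) (tt N5623 (iv F45292)) (tt N5614 (iv F45252)) (tt N4665 F41634) (tt N3821 (iv D10552)) (tt N5276 (iv F44034)))
theorem Q4667 : ∀ i, i < 4667 → P i := stepQ 4666 Q4666 (allL N4666 (tt N3880 F41635) (tt N3833 F41636) (tt N5621 (iv F45283)) (tt N4666 F41637) (tt N5615 (iv F45256)) (tt N4666 F41638) (tt N3822 (iv D10553)) (tt N5277 (iv F44038)) (tt N5625 D11512))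
theorem Q4668 : ∀ i, i < 4668 → P i := stepQ 4667 Q4667 (allL N4667 (tt N3881 F41639) (tt N3834 F41640) (tt N5622 (iv F45287)) (tt N4667 F41641) (tt N5616 (iv F45260)) (tt N3823 F41642) (tt N5625 (iv F45302)) (tt N5626 D11513) (tt N3822 (iv D10554)))
theorem Q4669 : ∀ i, i < 4669 → P i := stepQ 4668 Q4668 (allL N4668 (tt N3882 F41643) (tt N3835 F41644) (tt N5623 (iv F45291)) (tt N5627 D11514) (tt N3824 F41645) (tt N5626 (iv F45305)) (tt N4668 F41646) (tt N3823 (iv D10555)) (tt N5279 (iv F44046)))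
theorem Q4670 : ∀ i, i < 4670 → P i := stepQ 4669 Q4669 (allL N4669 (tt N3836 F41647) (tt N5606 (iv F45214)) (tt N3957 F41648) (tt N5284 (iv F44064)) (tt N3826 (iv D10556)) (tt N5628 D11515) (tt N3890 F41649) (tt N3828 F41650) (tt N5464 (iv F44670)))
theorem Q4671 : ∀ i, i < 4671 → P i := stepQ 4670 Q4670 (allL N4670 (tt N3837 F41651) (tt N5608 (iv F45223)) (tt N3956 F41652) (tt N3830 F41653) (tt N4670 F41654) (tt N3828 (iv D10557)) (tt N5629 D11516) (tt N5628 (iv F45313)) (tt N3887 F41655))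
theorem Q4672 : ∀ i, i < 4672 → P i := stepQ 4671 Q4671 (allL N4671 (tt N3838 F41656) (tt N5610 (iv F45233)) (tt N4671 F41657) (tt N3889 F41658) (tt N4671 F41659) (tt N3829 (iv D10558)) (tt N5630 D11517) (tt N5297 (iv F44101)) (tt N3886 F41660))
theorem Q4673 : ∀ i, i < 4673 → P i := stepQ 4672 Q4672 (allL N4672 (tt N3839 F41661) (tt N5615 (iv F45255)) (tt N4672 F41662) (tt N5629 (iv F45316)) (tt N3833 F41663) (tt N5630 (iv F45324)) (tt N3830 (iv D10559)) (tt N5299 (iv F44110)) (tt N5631 D11518))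
theorem Q4674 : ∀ i, i < 4674 → P i := stepQ 4673 Q4673 (allL N4673 (tt N3840 F41664) (tt N5616 (iv F45258)) (tt N4673 F41665) (tt N3887 F41666) (tt N3834 F41667) (tt N3831 F41668) (tt N5631 (iv F45331)) (tt N5632 D11519) (tt N3830 (iv D10560)))
theorem Q4675 : ∀ i, i < 4675 → P i := stepQ 4674 Q4674 (allL N4674 (tt N3841 F41669) (tt N5617 (iv F45263)) (tt N4674 F41670) (tt N5442 (iv F44592)) (tt N3832 F41671) (tt N5632 (iv F45335)) (tt N3884 F41672) (tt N3831 (iv D10561)) (tt N5301 (iv F44119)))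
theorem Q4676 : ∀ i, i < 4676 → P i := stepQ 4675 Q4675 (allL N4675 (tt N3842 F41673) (tt N5625 (iv F45299)) (tt N4675 F41674) (tt N4675 F41675) (tt N5631 (iv F45329)) (tt N4675 F41676) (tt N3834 F41677) (tt N5633 D11520) (tt N3833 (iv D10562)))
theorem Q4677 : ∀ i, i < 4677 → P i := stepQ 4676 Q4676 (allL N4676 (tt N3843 F41678) (tt N5626 (iv F45304)) (tt N4676 F41679) (tt N5634 D11521) (tt N5632 (iv F45334)) (tt N3835 F41680) (tt N5633 (iv F45339)) (tt N3834 (iv D10563)) (tt N5303 (iv F44127)))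
theorem Q4678 : ∀ i, i < 4678 → P i := stepQ 4677 Q4677 (allL N4677 (tt N3844 F41681) (tt N5627 (iv F45307)) (tt N5635 D11522) (tt N3835 (iv D10564)) (tt N5601 (iv F45192)) (tt N5634 (iv F45341)) (tt N4677 F41682) (tt N4677 F41683) (tt N5304 (iv F44130)))
theorem Q4679 : ∀ i, i < 4679 → P i := stepQ 4678 Q4678 (allL N4678 (tt N5628 (iv F45310)) (tt N3894 F41684) (tt N3965 F41685) (tt N5318 (iv F44182)) (tt N4678 F41686) (tt N3836 (iv D10565)) (tt N5636 D11523) (tt N3837 F41687) (tt N5498 (iv F44776)))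
theorem Q4680 : ∀ i, i < 4680 → P i := stepQ 4679 Q4679 (allL N4679 (tt N5629 (iv F45314)) (tt N3896 F41688) (tt N3964 F41689) (tt N3839 F41690) (tt N4679 F41691) (tt N3898 F41692) (tt N3837 (iv D10566)) (tt N5636 (iv F45351)) (tt N3897 F41693))
theorem Q4681 : ∀ i, i < 4681 → P i := stepQ 4680 Q4680 (allL N4680 (tt N5630 (iv F45320)) (tt N3897 F41694) (tt N4680 F41695) (tt N3898 F41696) (tt N4680 F41697) (tt N3839 F41698) (tt N3838 (iv D10567)) (tt N5337 (iv F44241)) (tt N3896 F41699))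
theorem Q4682 : ∀ i, i < 4682 → P i := stepQ 4681 Q4681 (allL N4681 (tt N5631 (iv F45326)) (tt N3898 F41700) (tt N4681 F41701) (tt N3897 F41702) (tt N3842 F41703) (tt N3896 F41704) (tt N3840 F41705) (tt N5637 D11524) (tt N3839 (iv D10568)))
theorem Q4683 : ∀ i, i < 4683 → P i := stepQ 4682 Q4682 (allL N4682 (tt N5632 (iv F45332)) (tt N3899 F41706) (tt N4682 F41707) (tt N5472 (iv F44701)) (tt N3843 F41708) (tt N3841 F41709) (tt N5637 (iv F45356)) (tt N3840 (iv D10569)) (tt N5340 (iv F44255)))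
theorem Q4684 : ∀ i, i < 4684 → P i := stepQ 4683 Q4683 (allL N4683 (tt N5633 (iv F45336)) (tt N3901 F41710) (tt N4683 F41711) (tt N4953 (iv F42689)) (tt N5637 (iv F45354)) (tt N4683 F41712) (tt N3843 F41713) (tt N3842 (iv D10570)) (tt N5342 (iv F44265)))
theorem Q4685 : ∀ i, i < 4685 → P i := stepQ 4684 Q4684 (allL N4684 (tt N5634 (iv F45340)) (tt N3902 F41714) (tt N4959 (iv F42721)) (tt N3843 (iv D10571)) (tt N5035 (iv F43020)) (tt N3844 F41715) (tt N4953 (iv F42692)) (tt N4684 F41716) (tt N5343 (iv F44268)))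
theorem Q4686 : ∀ i, i < 4686 → P i := stepQ 4685 Q4685 (allL N4685 (tt N5635 (iv F45343)) (tt N4956 (iv F42704)) (tt N3844 (iv D10572)) (tt N4685 F41717) (tt N5196 F43694) (tt N4959 (iv F42724)) (tt N4685 F41718) (tt N4685 F41719) (tt N5344 (iv F44271)))
theorem Q4687 : ∀ i, i < 4687 → P i := stepQ 4686 Q4686 (allL N4686 (tt N5359 (iv F44323)) (tt N3905 F41720) (tt N3846 F41721) (tt N5638 D11525) (tt N5351 (iv F44300)) (tt N4686 F41722) (tt N5214 (iv F43785)) (tt N3845 (iv D10573)) (tt N5639 D11526))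
theorem Q4688 : ∀ i, i < 4688 → P i := stepQ 4687 Q4687 (allL N4687 (tt N5360 (iv F44329)) (tt N3854 F41723) (tt N5639 (iv F45364)) (tt N5213 (iv F43777)) (tt N5353 (iv F44306)) (tt N4687 F41724) (tt N5216 (iv F43795)) (tt N3866 F41725) (tt N3846 (iv D10574)))
theorem Q4689 : ∀ i, i < 4689 → P i := stepQ 4688 Q4688 (allL N4688 (tt N5350 (iv F44292)) (tt N4688 F41726) (tt N3848 F41727) (tt N5640 D11527) (tt N3847 (iv D10575)) (tt N5641 D11528) (tt N5208 (iv F43753)) (tt N5361 (iv F44337)) (tt N5253 (iv F43943)))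
theorem Q4690 : ∀ i, i < 4690 → P i := stepQ 4689 Q4689 (allL N4689 (tt N5175 (iv F43569)) (tt N3855 F41728) (tt N5641 (iv F45374)) (tt N5178 (iv F43587)) (tt N3851 F41729) (tt N3848 (iv D10576)) (tt N5176 (iv F43578)) (tt N5363 (iv F44344)) (tt N5255 (iv F43952)))
theorem Q4691 : ∀ i, i < 4691 → P i := stepQ 4690 Q4690 (allL N4690 (tt N5596 (iv F45171)) (tt N4690 F41730) (tt N4690 F41731) (tt N3849 (iv D10577)) (tt N4690 F41732) (tt N5642 D11529) (tt N4690 F41733) (tt N5643 D11530) (tt N5644 D11531))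
theorem Q4692 : ∀ i, i < 4692 → P i := stepQ 4691 Q4691 (allL N4691 (tt N5597 (iv F45175)) (tt N4691 F41734) (tt N3851 F41735) (tt N5642 (iv F45378)) (tt N5641 (iv F45375)) (tt N3849 (iv D10578)) (tt N5645 D11532) (tt N5367 (iv F44359)) (tt N5646 D11533))
theorem Q4693 : ∀ i, i < 4693 → P i := stepQ 4692 Q4692 (allL N4692 (tt N5598 (iv F45177)) (tt N4692 F41736) (tt N3852 F41737) (tt N5644 (iv F45385)) (tt N3850 F41738) (tt N5646 (iv F45393)) (tt N4692 F41739) (tt N5647 D11534) (tt N3849 (iv D10579)))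
theorem Q4694 : ∀ i, i < 4694 → P i := stepQ 4693 Q4693 (allL N4693 (tt N5599 (iv F45182)) (tt N4693 F41740) (tt N3853 F41741) (tt N5648 D11535) (tt N5647 (iv F45396)) (tt N5602 (iv F45198)) (tt N4693 F41742) (tt N3850 (iv D10580)) (tt N5369 (iv F44367)))
theorem Q4695 : ∀ i, i < 4695 → P i := stepQ 4694 Q4694 (allL N4694 (tt N5177 (iv F43580)) (tt N3856 F41743) (tt N5645 (iv F45389)) (tt N4694 F41744) (tt N5176 F43579) (tt N4694 F41745) (tt N3851 (iv D10581)) (tt N5370 (iv F44371)) (tt N5649 D11536))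
theorem Q4696 : ∀ i, i < 4696 → P i := stepQ 4695 Q4695 (allL N4695 (tt N5402 (iv F44472)) (tt N3857 F41746) (tt N5646 (iv F45392)) (tt N4695 F41747) (tt N5255 (iv F43951)) (tt N3852 F41748) (tt N5649 (iv F45409)) (tt N5650 D11537) (tt N3851 (iv D10582)))
theorem Q4697 : ∀ i, i < 4697 → P i := stepQ 4696 Q4696 (allL N4696 (tt N5600 (iv F45187)) (tt N3858 F41749) (tt N5647 (iv F45395)) (tt N5651 D11538) (tt N3853 F41750) (tt N5650 (iv F45411)) (tt N4696 F41751) (tt N3852 (iv D10583)) (tt N5372 (iv F44378)))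
theorem Q4698 : ∀ i, i < 4698 → P i := stepQ 4697 Q4697 (allL N4697 (tt N3859 F41752) (tt N5649 (iv F45406)) (tt N4697 F41753) (tt N4697 F41754) (tt N4982 F42824) (tt N4697 F41755) (tt N3857 F41756) (tt N5652 D11539) (tt N3856 (iv D10584)))
theorem Q4699 : ∀ i, i < 4699 → P i := stepQ 4698 Q4698 (allL N4698 (tt N3860 F41757) (tt N5650 (iv F45410)) (tt N4698 F41758) (tt N5653 D11540) (tt N5280 (iv F44049)) (tt N3858 F41759) (tt N5652 (iv F45420)) (tt N3857 (iv D10585)) (tt N5384 (iv F44419)))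
theorem Q4700 : ∀ i, i < 4700 → P i := stepQ 4699 Q4699 (allL N4699 (tt N3861 F41760) (tt N5651 (iv F45412)) (tt N5654 D11541) (tt N3858 (iv D10586)) (tt N3893 F41761) (tt N5653 (iv F45422)) (tt N4699 F41762) (tt N4699 F41763) (tt N5385 (iv F44424)))
theorem Q4701 : ∀ i, i < 4701 → P i := stepQ 4700 Q4700 (allL N4700 (tt N5652 (iv F45417)) (tt N5106 (iv F43284)) (tt N4700 F41764) (tt N5200 (iv F43712)) (tt N5007 (iv F42913)) (tt N4700 F41765) (tt N3860 F41766) (tt N3859 (iv D10587)) (tt N5395 (iv F44452)))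
theorem Q4702 : ∀ i, i < 4702 → P i := stepQ 4701 Q4701 (allL N4701 (tt N5653 (iv F45421)) (tt N5198 (iv F43701)) (tt N5033 (iv F43010)) (tt N3860 (iv D10588)) (tt N5032 F43008) (tt N3861 F41767) (tt N5200 (iv F43715)) (tt N4701 F41768) (tt N5396 (iv F44455)))
theorem Q4703 : ∀ i, i < 4703 → P i := stepQ 4702 Q4702 (allL N4702 (tt N5654 (iv F45424)) (tt N4957 (iv F42711)) (tt N3861 (iv D10589)) (tt N4702 F41769) (tt N3903 F41770) (tt N5033 (iv F43012)) (tt N4702 F41771) (tt N4702 F41772) (tt N5397 (iv F44460)))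
theorem Q4704 : ∀ i, i < 4704 → P i := stepQ 4703 Q4703 (allL N4703 (tt N5602 (iv F45195)) (tt N3924 F41773) (tt N3864 F41774) (tt N5655 D11542) (tt N5399 (iv F44466)) (tt N5599 (iv F45185)) (tt N3863 F41775) (tt N3862 (iv D10590)) (tt N5656 D11543))
theorem Q4705 : ∀ i, i < 4705 → P i := stepQ 4704 Q4704 (allL N4704 (tt N5603 (iv F45200)) (tt N3925 F41776) (tt N5657 D11544) (tt N3863 (iv D10591)) (tt N5658 D11545) (tt N4704 F41777) (tt N5655 (iv F45431)) (tt N4704 F41778) (tt N5659 D11546))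
theorem Q4706 : ∀ i, i < 4706 → P i := stepQ 4705 Q4705 (allL N4705 (tt N5604 (iv F45204)) (tt N3926 F41779) (tt N3866 F41780) (tt N5659 (iv F45443)) (tt N5401 (iv F44471)) (tt N4705 F41781) (tt N5656 (iv F45435)) (tt N5639 (iv F45366)) (tt N3863 (iv D10592)))
theorem Q4707 : ∀ i, i < 4707 → P i := stepQ 4706 Q4706 (allL N4706 (tt N5365 (iv F44347)) (tt N3883 F41782) (tt N5656 (iv F45434)) (tt N5272 (iv F44014)) (tt N5405 (iv F44483)) (tt N5221 (iv F43817)) (tt N3866 F41783) (tt N5216 (iv F43796)) (tt N3864 (iv D10593)))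
theorem Q4708 : ∀ i, i < 4708 → P i := stepQ 4707 Q4707 (allL N4707 (tt N5605 (iv F45208)) (tt N4707 F41784) (tt N3865 (iv D10594)) (tt N5657 (iv F45437)) (tt N5660 D11547) (tt N4707 F41785) (tt N5614 (iv F45253)) (tt N3867 F41786) (tt N5661 D11548))
theorem Q4709 : ∀ i, i < 4709 → P i := stepQ 4708 Q4708 (allL N4708 (tt N5606 (iv F45213)) (tt N3884 F41787) (tt N5660 (iv F45446)) (tt N5407 (iv F44487)) (tt N3865 (iv D10595)) (tt N5662 D11549) (tt N5617 (iv F45265)) (tt N3868 F41788) (tt N5663 D11550))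
theorem Q4710 : ∀ i, i < 4710 → P i := stepQ 4709 Q4709 (allL N4709 (tt N5422 (iv F44524)) (tt N3885 F41789) (tt N5661 (iv F45449)) (tt N3866 F41790) (tt N5663 (iv F45455)) (tt N4709 F41791) (tt N5272 (iv F44016)) (tt N5267 (iv F43996)) (tt N3865 (iv D10596)))
theorem Q4711 : ∀ i, i < 4711 → P i := stepQ 4710 Q4710 (allL N4710 (tt N5607 (iv F45217)) (tt N4710 F41792) (tt N3868 F41793) (tt N5664 D11551) (tt N3867 (iv D10597)) (tt N5665 D11552) (tt N5613 (iv F45248)) (tt N5660 (iv F45447)) (tt N5609 (iv F45231)))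
theorem Q4712 : ∀ i, i < 4712 → P i := stepQ 4711 Q4711 (allL N4711 (tt N5608 (iv F45222)) (tt N3886 F41794) (tt N5665 (iv F45460)) (tt N3873 F41795) (tt N4711 F41796) (tt N3868 (iv D10598)) (tt N5666 D11553) (tt N5662 (iv F45453)) (tt N5610 (iv F45236)))
theorem Q4713 : ∀ i, i < 4713 → P i := stepQ 4712 Q4712 (allL N4712 (tt N5609 (iv F45227)) (tt N3933 F41797) (tt N3870 F41798) (tt N5667 D11554) (tt N3869 (iv D10599)) (tt N5668 D11555) (tt N3871 F41799) (tt N5418 (iv F44513)) (tt N5607 (iv F45221)))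
theorem Q4714 : ∀ i, i < 4714 → P i := stepQ 4713 Q4713 (allL N4713 (tt N5610 (iv F45232)) (tt N3887 F41800) (tt N5668 (iv F45469)) (tt N5616 (iv F45259)) (tt N4713 F41801) (tt N3870 (iv D10600)) (tt N5669 D11556) (tt N5420 (iv F44520)) (tt N5608 (iv F45226)))
theorem Q4715 : ∀ i, i < 4715 → P i := stepQ 4714 Q4714 (allL N4714 (tt N5611 (iv F45237)) (tt N3938 F41802) (tt N5664 (iv F45457)) (tt N3871 (iv D10601)) (tt N4714 F41803) (tt N5670 D11557) (tt N5667 (iv F45467)) (tt N5671 D11558) (tt N5672 D11559))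
theorem Q4716 : ∀ i, i < 4716 → P i := stepQ 4715 Q4715 (allL N4715 (tt N5612 (iv F45240)) (tt N3939 F41804) (tt N3873 F41805) (tt N5670 (iv F45475)) (tt N3877 F41806) (tt N3871 (iv D10602)) (tt N5673 D11560) (tt N5424 (iv F44534)) (tt N5674 D11561))
theorem Q4717 : ∀ i, i < 4717 → P i := stepQ 4716 Q4716 (allL N4716 (tt N5613 (iv F45244)) (tt N3940 F41807) (tt N3874 F41808) (tt N5672 (iv F45479)) (tt N3872 F41809) (tt N5674 (iv F45487)) (tt N5607 (iv F45220)) (tt N5675 D11562) (tt N3871 (iv D10603)))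
theorem Q4718 : ∀ i, i < 4718 → P i := stepQ 4717 Q4717 (allL N4717 (tt N5614 (iv F45249)) (tt N3941 F41810) (tt N3875 F41811) (tt N5676 D11563) (tt N5675 (iv F45490)) (tt N3879 F41812) (tt N5605 (iv F45211)) (tt N3872 (iv D10604)) (tt N5426 (iv F44541)))
theorem Q4719 : ∀ i, i < 4719 → P i := stepQ 4718 Q4718 (allL N4718 (tt N5615 (iv F45254)) (tt N3888 F41813) (tt N5673 (iv F45482)) (tt N5666 (iv F45463)) (tt N3880 F41814) (tt N5669 (iv F45473)) (tt N3873 (iv D10605)) (tt N5427 (iv F44544)) (tt N5677 D11564))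
theorem Q4720 : ∀ i, i < 4720 → P i := stepQ 4719 Q4719 (allL N4719 (tt N5616 (iv F45257)) (tt N3889 F41815) (tt N5674 (iv F45485)) (tt N5610 (iv F45234)) (tt N3881 F41816) (tt N3874 F41817) (tt N5677 (iv F45496)) (tt N5678 D11565) (tt N3873 (iv D10606)))
theorem Q4721 : ∀ i, i < 4721 → P i := stepQ 4720 Q4720 (allL N4720 (tt N5617 (iv F45262)) (tt N3890 F41818) (tt N5675 (iv F45489)) (tt N5679 D11566) (tt N3875 F41819) (tt N5678 (iv F45499)) (tt N5606 (iv F45215)) (tt N3874 (iv D10607)) (tt N5429 (iv F44550)))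
theorem Q4722 : ∀ i, i < 4722 → P i := stepQ 4721 Q4721 (allL N4721 (tt N5618 (iv F45266)) (tt N3945 F41820) (tt N4721 F41821) (tt N3877 F41822) (tt N5680 D11567) (tt N3876 (iv D10608)) (tt N5681 D11568) (tt N5682 D11569) (tt N5683 D11570))
theorem Q4723 : ∀ i, i < 4723 → P i := stepQ 4722 Q4722 (allL N4722 (tt N5619 (iv F45270)) (tt N3946 F41823) (tt N4722 F41824) (tt N5431 (iv F44554)) (tt N4722 F41825) (tt N5682 (iv F45512)) (tt N4722 F41826) (tt N3876 (iv D10609)) (tt N5684 D11571))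
theorem Q4724 : ∀ i, i < 4724 → P i := stepQ 4723 Q4723 (allL N4723 (tt N5620 (iv F45275)) (tt N3947 F41827) (tt N4723 F41828) (tt N3878 F41829) (tt N4723 F41830) (tt N5683 (iv F45517)) (tt N4723 F41831) (tt N5685 D11572) (tt N3876 (iv D10610)))
theorem Q4725 : ∀ i, i < 4725 → P i := stepQ 4724 Q4724 (allL N4724 (tt N5621 (iv F45281)) (tt N3948 F41832) (tt N3880 F41833) (tt N5681 (iv F45506)) (tt N5673 (iv F45483)) (tt N4724 F41834) (tt N3877 (iv D10611)) (tt N5433 (iv F44562)) (tt N5686 D11573))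
theorem Q4726 : ∀ i, i < 4726 → P i := stepQ 4725 Q4725 (allL N4725 (tt N5622 (iv F45285)) (tt N3949 F41835) (tt N3881 F41836) (tt N5683 (iv F45516)) (tt N5674 (iv F45486)) (tt N3878 F41837) (tt N5686 (iv F45534)) (tt N5687 D11574) (tt N3877 (iv D10612)))
theorem Q4727 : ∀ i, i < 4727 → P i := stepQ 4726 Q4726 (allL N4726 (tt N5623 (iv F45289)) (tt N3950 F41838) (tt N3882 F41839) (tt N5688 D11575) (tt N3879 F41840) (tt N5687 (iv F45537)) (tt N4726 F41841) (tt N3878 (iv D10613)) (tt N5435 (iv F44570)))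
theorem Q4728 : ∀ i, i < 4728 → P i := stepQ 4727 Q4727 (allL N4727 (tt N5624 (iv F45294)) (tt N3951 F41842) (tt N5648 (iv F45402)) (tt N3879 (iv D10614)) (tt N5689 D11576) (tt N5676 (iv F45492)) (tt N4727 F41843) (tt N4727 F41844) (tt N5436 (iv F44573)))
theorem Q4729 : ∀ i, i < 4729 → P i := stepQ 4728 Q4728 (allL N4728 (tt N5625 (iv F45298)) (tt N3891 F41845) (tt N5686 (iv F45532)) (tt N4728 F41846) (tt N5677 (iv F45495)) (tt N4728 F41847) (tt N3881 F41848) (tt N5690 D11577) (tt N3880 (iv D10615)))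
theorem Q4730 : ∀ i, i < 4730 → P i := stepQ 4729 Q4729 (allL N4729 (tt N5626 (iv F45303)) (tt N3892 F41849) (tt N5687 (iv F45536)) (tt N5691 D11578) (tt N5678 (iv F45498)) (tt N3882 F41850) (tt N5690 (iv F45553)) (tt N3881 (iv D10616)) (tt N5438 (iv F44579)))
theorem Q4731 : ∀ i, i < 4731 → P i := stepQ 4730 Q4730 (allL N4730 (tt N5627 (iv F45306)) (tt N3893 F41851) (tt N5692 D11579) (tt N3882 (iv D10617)) (tt N5651 (iv F45414)) (tt N5691 (iv F45555)) (tt N4730 F41852) (tt N4730 F41853) (tt N5439 (iv F44582)))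
theorem Q4732 : ∀ i, i < 4732 → P i := stepQ 4731 Q4731 (allL N4731 (tt N3894 F41854) (tt N5662 (iv F45451)) (tt N4731 F41855) (tt N5447 (iv F44612)) (tt N4731 F41856) (tt N3884 (iv D10618)) (tt N5693 D11580) (tt N3886 F41857) (tt N5694 D11581))
theorem Q4733 : ∀ i, i < 4733 → P i := stepQ 4732 Q4732 (allL N4732 (tt N3895 F41858) (tt N5663 (iv F45454)) (tt N4732 F41859) (tt N5448 (iv F44615)) (tt N3885 F41860) (tt N5694 (iv F45570)) (tt N5301 (iv F44118)) (tt N5298 (iv F44106)) (tt N3884 (iv D10619)))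
theorem Q4734 : ∀ i, i < 4734 → P i := stepQ 4733 Q4733 (allL N4733 (tt N3896 F41861) (tt N5666 (iv F45462)) (tt N4733 F41862) (tt N3888 F41863) (tt N4733 F41864) (tt N5631 (iv F45330)) (tt N3886 (iv D10620)) (tt N5693 (iv F45566)) (tt N5630 (iv F45325)))
theorem Q4735 : ∀ i, i < 4735 → P i := stepQ 4734 Q4734 (allL N4734 (tt N3897 F41865) (tt N5669 (iv F45471)) (tt N3955 F41866) (tt N5631 (iv F45328)) (tt N4734 F41867) (tt N3888 F41868) (tt N3887 (iv D10621)) (tt N5462 (iv F44661)) (tt N5629 (iv F45319)))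
theorem Q4736 : ∀ i, i < 4736 → P i := stepQ 4735 Q4735 (allL N4735 (tt N3898 F41869) (tt N5677 (iv F45494)) (tt N3958 F41870) (tt N5630 (iv F45322)) (tt N3891 F41871) (tt N5629 (iv F45318)) (tt N3889 F41872) (tt N5695 D11582) (tt N3888 (iv D10622)))
theorem Q4737 : ∀ i, i < 4737 → P i := stepQ 4736 Q4736 (allL N4736 (tt N3899 F41873) (tt N5678 (iv F45497)) (tt N3959 F41874) (tt N5696 D11583) (tt N3892 F41875) (tt N3890 F41876) (tt N5695 (iv F45574)) (tt N3889 (iv D10623)) (tt N5466 (iv F44679)))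
theorem Q4738 : ∀ i, i < 4738 → P i := stepQ 4737 Q4737 (allL N4737 (tt N3900 F41877) (tt N5679 (iv F45500)) (tt N5697 D11584) (tt N3890 (iv D10624)) (tt N5281 (iv F44052)) (tt N5696 (iv F45576)) (tt N5284 (iv F44065)) (tt N5289 (iv F44081)) (tt N5467 (iv F44681)))
theorem Q4739 : ∀ i, i < 4739 → P i := stepQ 4738 Q4738 (allL N4738 (tt N3901 F41878) (tt N5690 (iv F45551)) (tt N3961 F41879) (tt N4943 (iv F42636)) (tt N5695 (iv F45573)) (tt N4738 F41880) (tt N3892 F41881) (tt N3891 (iv D10625)) (tt N5468 (iv F44686)))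
theorem Q4740 : ∀ i, i < 4740 → P i := stepQ 4739 Q4739 (allL N4739 (tt N3902 F41882) (tt N5691 (iv F45554)) (tt N4941 (iv F42624)) (tt N3892 (iv D10626)) (tt N5002 (iv F42896)) (tt N3893 F41883) (tt N4943 (iv F42639)) (tt N4739 F41884) (tt N5469 (iv F44689)))
theorem Q4741 : ∀ i, i < 4741 → P i := stepQ 4740 Q4740 (allL N4740 (tt N3903 F41885) (tt N5698 D11585) (tt N3893 (iv D10627)) (tt N3963 F41886) (tt N5654 (iv F45427)) (tt N4941 (iv F42626)) (tt N4740 F41887) (tt N4740 F41888) (tt N5470 (iv F44693)))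
theorem Q4742 : ∀ i, i < 4742 → P i := stepQ 4741 Q4741 (allL N4741 (tt N5693 (iv F45563)) (tt N5636 (iv F45347)) (tt N4741 F41889) (tt N5480 (iv F44726)) (tt N4741 F41890) (tt N5637 (iv F45355)) (tt N3894 (iv D10628)) (tt N3896 F41891) (tt N5699 D11586))
theorem Q4743 : ∀ i, i < 4743 → P i := stepQ 4742 Q4742 (allL N4742 (tt N5694 (iv F45567)) (tt N5498 (iv F44772)) (tt N4742 F41892) (tt N5481 (iv F44728)) (tt N4742 F41893) (tt N3895 F41894) (tt N5699 (iv F45588)) (tt N5338 (iv F44246)) (tt N3894 (iv D10629)))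
theorem Q4744 : ∀ i, i < 4744 → P i := stepQ 4743 Q4743 (allL N4743 (tt N5695 (iv F45571)) (tt N5637 (iv F45352)) (tt N3967 F41895) (tt N5019 (iv F42957)) (tt N3901 F41896) (tt N5636 (iv F45350)) (tt N3899 F41897) (tt N3898 (iv D10630)) (tt N5499 (iv F44780)))
theorem Q4745 : ∀ i, i < 4745 → P i := stepQ 4744 Q4744 (allL N4744 (tt N5696 (iv F45575)) (tt N5472 (iv F44699)) (tt N5016 (iv F42946)) (tt N3899 (iv D10631)) (tt N5015 F42944) (tt N3900 F41898) (tt N5019 (iv F42958)) (tt N5325 (iv F44206)) (tt N5500 (iv F44782)))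
theorem Q4746 : ∀ i, i < 4746 → P i := stepQ 4745 Q4745 (allL N4745 (tt N5697 (iv F45577)) (tt N5123 (iv F43357)) (tt N3900 (iv D10632)) (tt N3969 F41899) (tt N5313 (iv F44164)) (tt N5016 F42949) (tt N5316 (iv F44176)) (tt N5323 (iv F44199)) (tt N5501 (iv F44784)))
theorem Q4747 : ∀ i, i < 4747 → P i := stepQ 4746 Q4746 (allL N4746 (tt N4746 F41900) (tt N5214 (iv F43782)) (tt N3906 F41901) (tt N5700 D11587) (tt N5502 (iv F44787)) (tt N5187 (iv F43643)) (tt N3905 F41902) (tt N3904 (iv D10633)) (tt N5701 D11588))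
theorem Q4748 : ∀ i, i < 4748 → P i := stepQ 4747 Q4747 (allL N4747 (tt N4747 F41903) (tt N5638 (iv F45358)) (tt N5702 D11589) (tt N3905 (iv D10634)) (tt N5703 D11590) (tt N4747 F41904) (tt N5700 (iv F45593)) (tt N4747 F41905) (tt N5704 D11591))
theorem Q4749 : ∀ i, i < 4749 → P i := stepQ 4748 Q4748 (allL N4748 (tt N4748 F41906) (tt N5639 (iv F45363)) (tt N3908 F41907) (tt N5704 (iv F45608)) (tt N5504 (iv F44794)) (tt N4748 F41908) (tt N5701 (iv F45597)) (tt N3926 F41909) (tt N3905 (iv D10635)))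
theorem Q4750 : ∀ i, i < 4750 → P i := stepQ 4749 Q4749 (allL N4749 (tt N4749 F41910) (tt N3917 F41911) (tt N5701 (iv F45596)) (tt N5186 (iv F43636)) (tt N5505 (iv F44799)) (tt N5189 (iv F43654)) (tt N3908 F41912) (tt N3929 F41913) (tt N3906 (iv D10636)))
theorem Q4751 : ∀ i, i < 4751 → P i := stepQ 4750 Q4750 (allL N4750 (tt N4750 F41914) (tt N4081 F41915) (tt N3907 (iv D10637)) (tt N5702 (iv F45601)) (tt N4794 F42102) (tt N4750 F41916) (tt N4077 F41917) (tt N3909 F41918) (tt N5705 D11592))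
theorem Q4752 : ∀ i, i < 4752 → P i := stepQ 4751 Q4751 (allL N4751 (tt N4751 F41919) (tt N3918 F41920) (tt N4794 (iv F42101)) (tt N5507 (iv F44807)) (tt N3907 (iv D10638)) (tt N4795 (iv F42106)) (tt N5185 (iv F43632)) (tt N3910 F41921) (tt N5706 D11593))
theorem Q4753 : ∀ i, i < 4753 → P i := stepQ 4752 Q4752 (allL N4752 (tt N4752 F41922) (tt N3919 F41923) (tt N5705 (iv F45612)) (tt N3908 F41924) (tt N5706 (iv F45620)) (tt N4752 F41925) (tt N5186 (iv F43638)) (tt N4752 F41926) (tt N3907 (iv D10639)))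
theorem Q4754 : ∀ i, i < 4754 → P i := stepQ 4753 Q4753 (allL N4753 (tt N4753 F41927) (tt N4753 F41928) (tt N3912 F41929) (tt N4811 F42179) (tt N3911 (iv D10640)) (tt N4753 F41930) (tt N3913 F41931) (tt N5165 F43527) (tt N4753 F41932))
theorem Q4755 : ∀ i, i < 4755 → P i := stepQ 4754 Q4754 (allL N4754 (tt N3921 F41933) (tt N4795 (iv F42109)) (tt N4802 (iv F42132)) (tt N3930 F41934) (tt N4754 F41935) (tt N3918 (iv D10641)) (tt N4754 F41936) (tt N3920 F41937) (tt N5707 D11594))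
theorem Q4756 : ∀ i, i < 4756 → P i := stepQ 4755 Q4755 (allL N4755 (tt N3922 F41938) (tt N5706 (iv F45618)) (tt N5193 (iv F43676)) (tt N5510 (iv F44818)) (tt N3919 F41939) (tt N5707 (iv F45628)) (tt N5190 (iv F43661)) (tt N4755 F41940) (tt N3918 (iv D10642)))
theorem Q4757 : ∀ i, i < 4757 → P i := stepQ 4756 Q4756 (allL N4756 (tt N5707 (iv F45623)) (tt N4756 F41941) (tt N5197 (iv F43696)) (tt N3932 F41942) (tt N4756 F41943) (tt N3922 F41944) (tt N4756 F41945) (tt N4756 F41946) (tt N3921 (iv D10643)))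
theorem Q4758 : ∀ i, i < 4758 → P i := stepQ 4757 Q4757 (allL N4757 (tt N4757 F41947) (tt N5598 (iv F45178)) (tt N3927 F41948) (tt N4788 F42074) (tt N3923 (iv D10644)) (tt N5509 (iv F44816)) (tt N4757 F41949) (tt N4791 (iv F42084)) (tt N5595 (iv F45170)))
theorem Q4759 : ∀ i, i < 4759 → P i := stepQ 4758 Q4758 (allL N4758 (tt N4758 F41950) (tt N5599 (iv F45183)) (tt N3928 F41951) (tt N4792 (iv F42089)) (tt N4791 F42086) (tt N3924 F41952) (tt N4758 F41953) (tt N3923 (iv D10645)) (tt N5708 D11595))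
theorem Q4760 : ∀ i, i < 4760 → P i := stepQ 4759 Q4759 (allL N4759 (tt N4759 F41954) (tt N5655 (iv F45430)) (tt N4759 F41955) (tt N3924 (iv D10646)) (tt N5709 D11596) (tt N4792 F42092) (tt N3925 F41956) (tt N4759 F41957) (tt N5710 D11597))
theorem Q4761 : ∀ i, i < 4761 → P i := stepQ 4760 Q4760 (allL N4760 (tt N4760 F41958) (tt N5656 (iv F45433)) (tt N3929 F41959) (tt N5710 (iv F45643)) (tt N5512 (iv F44826)) (tt N5708 (iv F45635)) (tt N3926 F41960) (tt N5701 (iv F45598)) (tt N3924 (iv D10647)))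
theorem Q4762 : ∀ i, i < 4762 → P i := stepQ 4761 Q4761 (allL N4761 (tt N4761 F41961) (tt N5658 (iv F45440)) (tt N4761 F41962) (tt N5514 (iv F44833)) (tt N3925 (iv D10648)) (tt N5711 D11598) (tt N5709 (iv F45639)) (tt N4761 F41963) (tt N5712 D11599))
theorem Q4763 : ∀ i, i < 4763 → P i := stepQ 4762 Q4762 (allL N4762 (tt N4762 F41964) (tt N5659 (iv F45442)) (tt N4762 F41965) (tt N3926 F41966) (tt N5712 (iv F45652)) (tt N4762 F41967) (tt N5710 (iv F45645)) (tt N5713 D11600) (tt N3925 (iv D10649)))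
theorem Q4764 : ∀ i, i < 4764 → P i := stepQ 4763 Q4763 (allL N4763 (tt N4763 F41968) (tt N3930 F41969) (tt N4791 (iv F42085)) (tt N4795 (iv F42104)) (tt N3928 F41970) (tt N5507 (iv F44808)) (tt N4763 F41971) (tt N3927 (iv D10650)) (tt N5714 D11601))
theorem Q4765 : ∀ i, i < 4765 → P i := stepQ 4764 Q4764 (allL N4764 (tt N4764 F41972) (tt N3931 F41973) (tt N5708 (iv F45632)) (tt N4764 F41974) (tt N5714 (iv F45661)) (tt N3929 F41975) (tt N4764 F41976) (tt N5189 (iv F43656)) (tt N3928 (iv D10651)))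
theorem Q4766 : ∀ i, i < 4766 → P i := stepQ 4765 Q4765 (allL N4765 (tt N3932 F41977) (tt N5714 (iv F45658)) (tt N5231 (iv F43859)) (tt N5707 (iv F45626)) (tt N3931 F41978) (tt N5510 (iv F44820)) (tt N4765 F41979) (tt N5191 (iv F43668)) (tt N3930 (iv D10652)))
theorem Q4767 : ∀ i, i < 4767 → P i := stepQ 4766 Q4766 (allL N4766 (tt N4766 F41980) (tt N5667 (iv F45465)) (tt N4766 F41981) (tt N3933 (iv D10653)) (tt N4766 F41982) (tt N5715 D11602) (tt N3938 F41983) (tt N5716 D11603) (tt N5717 D11604))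
theorem Q4768 : ∀ i, i < 4768 → P i := stepQ 4767 Q4767 (allL N4767 (tt N4767 F41984) (tt N5668 (iv F45468)) (tt N3935 F41985) (tt N5715 (iv F45665)) (tt N4767 F41986) (tt N3933 (iv D10654)) (tt N5718 D11605) (tt N5533 (iv F44914)) (tt N5719 D11606))
theorem Q4769 : ∀ i, i < 4769 → P i := stepQ 4768 Q4768 (allL N4768 (tt N4768 F41987) (tt N5607 (iv F45218)) (tt N3936 F41988) (tt N5717 (iv F45672)) (tt N3934 F41989) (tt N5719 (iv F45682)) (tt N3940 F41990) (tt N5720 D11607) (tt N3933 (iv D10655)))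
theorem Q4770 : ∀ i, i < 4770 → P i := stepQ 4769 Q4769 (allL N4769 (tt N4769 F41991) (tt N5605 (iv F45209)) (tt N3937 F41992) (tt N5721 D11608) (tt N5720 (iv F45685)) (tt N4769 F41993) (tt N3941 F41994) (tt N3934 (iv D10656)) (tt N5535 (iv F44923)))
theorem Q4771 : ∀ i, i < 4771 → P i := stepQ 4770 Q4770 (allL N4770 (tt N4770 F41995) (tt N3955 F41996) (tt N5718 (iv F45676)) (tt N4770 F41997) (tt N4770 F41998) (tt N3942 F41999) (tt N3935 (iv D10657)) (tt N5536 (iv F44929)) (tt N5722 D11609))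
theorem Q4772 : ∀ i, i < 4772 → P i := stepQ 4771 Q4771 (allL N4771 (tt N4771 F42000) (tt N3956 F42001) (tt N5719 (iv F45680)) (tt N4771 F42002) (tt N4771 F42003) (tt N3936 F42004) (tt N5722 (iv F45697)) (tt N5723 D11610) (tt N3935 (iv D10658)))
theorem Q4773 : ∀ i, i < 4773 → P i := stepQ 4772 Q4772 (allL N4772 (tt N4772 F42005) (tt N3957 F42006) (tt N5720 (iv F45684)) (tt N5724 D11611) (tt N3937 F42007) (tt N5723 (iv F45701)) (tt N3944 F42008) (tt N3936 (iv D10659)) (tt N5538 (iv F44939)))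
theorem Q4774 : ∀ i, i < 4774 → P i := stepQ 4773 Q4773 (allL N4773 (tt N4773 F42009) (tt N5670 (iv F45474)) (tt N4773 F42010) (tt N3939 F42011) (tt N5725 D11612) (tt N3938 (iv D10660)) (tt N5726 D11613) (tt N5727 D11614) (tt N5728 D11615))
theorem Q4775 : ∀ i, i < 4775 → P i := stepQ 4774 Q4774 (allL N4774 (tt N4774 F42012) (tt N5671 (iv F45476)) (tt N4774 F42013) (tt N5540 (iv F44943)) (tt N4774 F42014) (tt N5727 (iv F45721)) (tt N5716 (iv F45669)) (tt N3938 (iv D10661)) (tt N5729 D11616))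
theorem Q4776 : ∀ i, i < 4776 → P i := stepQ 4775 Q4775 (allL N4775 (tt N4775 F42015) (tt N5672 (iv F45478)) (tt N4775 F42016) (tt N3940 F42017) (tt N4775 F42018) (tt N5728 (iv F45726)) (tt N5717 (iv F45674)) (tt N5730 D11617) (tt N3938 (iv D10662)))
theorem Q4777 : ∀ i, i < 4777 → P i := stepQ 4776 Q4776 (allL N4776 (tt N4776 F42019) (tt N5673 (iv F45481)) (tt N3942 F42020) (tt N5726 (iv F45715)) (tt N3948 F42021) (tt N5718 (iv F45678)) (tt N3939 (iv D10663)) (tt N5542 (iv F44949)) (tt N5731 D11618))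
theorem Q4778 : ∀ i, i < 4778 → P i := stepQ 4777 Q4777 (allL N4777 (tt N4777 F42022) (tt N5674 (iv F45484)) (tt N3943 F42023) (tt N5728 (iv F45725)) (tt N3949 F42024) (tt N3940 F42025) (tt N5731 (iv F45736)) (tt N5732 D11619) (tt N3939 (iv D10664)))
theorem Q4779 : ∀ i, i < 4779 → P i := stepQ 4778 Q4778 (allL N4778 (tt N4778 F42026) (tt N5675 (iv F45488)) (tt N3944 F42027) (tt N5733 D11620) (tt N3941 F42028) (tt N5732 (iv F45740)) (tt N5720 (iv F45686)) (tt N3940 (iv D10665)) (tt N5544 (iv F44957)))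
theorem Q4780 : ∀ i, i < 4780 → P i := stepQ 4779 Q4779 (allL N4779 (tt N4779 F42029) (tt N5676 (iv F45491)) (tt N4779 F42030) (tt N3941 (iv D10666)) (tt N5734 D11621) (tt N3951 F42031) (tt N5721 (iv F45690)) (tt N4779 F42032) (tt N5545 (iv F44961)))
theorem Q4781 : ∀ i, i < 4781 → P i := stepQ 4780 Q4780 (allL N4780 (tt N4780 F42033) (tt N3958 F42034) (tt N5731 (iv F45734)) (tt N4780 F42035) (tt N3952 F42036) (tt N5722 (iv F45696)) (tt N3943 F42037) (tt N5735 D11622) (tt N3942 (iv D10667)))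
theorem Q4782 : ∀ i, i < 4782 → P i := stepQ 4781 Q4781 (allL N4781 (tt N4781 F42038) (tt N3959 F42039) (tt N5732 (iv F45738)) (tt N5736 D11623) (tt N3953 F42040) (tt N3944 F42041) (tt N5735 (iv F45749)) (tt N3943 (iv D10668)) (tt N5547 (iv F44970)))
theorem Q4783 : ∀ i, i < 4783 → P i := stepQ 4782 Q4782 (allL N4782 (tt N4782 F42042) (tt N3960 F42043) (tt N5737 D11624) (tt N3944 (iv D10669)) (tt N4782 F42044) (tt N5736 (iv F45753)) (tt N5724 (iv F45705)) (tt N4782 F42045) (tt N5548 (iv F44974)))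
theorem Q4784 : ∀ i, i < 4784 → P i := stepQ 4783 Q4783 (allL N4783 (tt N4783 F42046) (tt N5680 (iv F45501)) (tt N3970 F42047) (tt N5725 (iv F45709)) (tt N3945 (iv D10670)) (tt N4783 F42048) (tt N4785 F42058) (tt N4784 (iv F42059)) (tt N5738 D11625))
theorem Q4785 : ∀ i, i < 4785 → P i := stepQ 4784 Q4784 (allL N4784 (tt N4784 F42049) (tt N5681 (iv F45504)) (tt N3971 F42050) (tt N3948 F42051) (tt N4785 (iv F42056)) (tt N4784 F42052) (tt N3945 (iv D10671)) (tt N4783 F42059) (tt N5739 D11626))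
theorem Q4786 : ∀ i, i < 4786 → P i := stepQ 4785 Q4785 (allL N4785 (tt N4785 F42053) (tt N5682 (iv F45509)) (tt N3972 F42054) (tt N5551 (iv F44983)) (tt N4784 F42056) (tt N3946 F42055) (tt N4783 (iv F42058)) (tt N3945 (iv D10672)) (tt N5740 D11627))
theorem Q4787 : ∀ i, i < 4787 → P i := stepQ 4786 Q4786 (allL N4786 (tt N4786 F42062) (tt N5683 (iv F45514)) (tt N3973 F42063) (tt N3949 F42064) (tt N5738 (iv F45762)) (tt N3947 F42065) (tt N5739 (iv F45768)) (tt N5741 D11628) (tt N3945 (iv D10673)))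
theorem Q4788 : ∀ i, i < 4788 → P i := stepQ 4787 Q4787 (allL N4787 (tt N4787 F42066) (tt N5684 (iv F45519)) (tt N3974 F42067) (tt N5553 (iv F44991)) (tt N4787 F42068) (tt N5740 (iv F45772)) (tt N4787 F42069) (tt N5742 D11629) (tt N3946 (iv D10674)))
theorem Q4789 : ∀ i, i < 4789 → P i := stepQ 4788 Q4788 (allL N4788 (tt N4788 F42070) (tt N5685 (iv F45525)) (tt N3975 F42071) (tt N4757 (iv F42074)) (tt N4788 F42072) (tt N5741 (iv F45776)) (tt N4788 F42073) (tt N3947 (iv D10675)) (tt N5742 (iv F45783)))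
theorem Q4790 : ∀ i, i < 4790 → P i := stepQ 4789 Q4789 (allL N4789 (tt N4789 F42075) (tt N5686 (iv F45531)) (tt N3952 F42076) (tt N5739 (iv F45766)) (tt N5731 (iv F45735)) (tt N4789 F42077) (tt N3949 F42078) (tt N5743 D11630) (tt N3948 (iv D10676)))
theorem Q4791 : ∀ i, i < 4791 → P i := stepQ 4790 Q4790 (allL N4790 (tt N4790 F42079) (tt N5687 (iv F45535)) (tt N3953 F42080) (tt N5744 D11631) (tt N5732 (iv F45739)) (tt N3950 F42081) (tt N5743 (iv F45788)) (tt N3949 (iv D10677)) (tt N5556 (iv F45003)))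
theorem Q4792 : ∀ i, i < 4792 → P i := stepQ 4791 Q4791 (allL N4791 (tt N4791 F42082) (tt N5688 (iv F45539)) (tt N4763 F42085) (tt N3950 (iv D10678)) (tt N4758 (iv F42086)) (tt N5744 (iv F45791)) (tt N4791 F42083) (tt N4757 F42084) (tt N5557 (iv F45006)))
theorem Q4793 : ∀ i, i < 4793 → P i := stepQ 4792 Q4792 (allL N4792 (tt N4792 F42087) (tt N5689 (iv F45545)) (tt N4792 F42088) (tt N4758 F42089) (tt N3951 (iv D10679)) (tt N4759 (iv F42092)) (tt N4792 F42090) (tt N4792 F42091) (tt N5558 (iv F45010)))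
theorem Q4794 : ∀ i, i < 4794 → P i := stepQ 4793 Q4793 (allL N4793 (tt N4793 F42093) (tt N3961 F42094) (tt N5743 (iv F45786)) (tt N4927 (iv F42556)) (tt N5735 (iv F45748)) (tt N4793 F42095) (tt N3953 F42096) (tt N3952 (iv D10680)) (tt N5559 (iv F45015)))
theorem Q4795 : ∀ i, i < 4795 → P i := stepQ 4794 Q4794 (allL N4794 (tt N4794 F42097) (tt N3962 F42098) (tt N4751 F42101) (tt N3953 (iv D10681)) (tt N4750 (iv F42102)) (tt N3954 F42099) (tt N4927 (iv F42559)) (tt N3981 F42100) (tt N5560 (iv F45020)))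
theorem Q4796 : ∀ i, i < 4796 → P i := stepQ 4795 Q4795 (allL N4795 (tt N4795 F42103) (tt N4754 F42109) (tt N3954 (iv D10682)) (tt N4763 F42104) (tt N4795 F42105) (tt N4751 F42106) (tt N4795 F42107) (tt N3982 F42108) (tt N5561 (iv F45025)))
theorem Q4797 : ∀ i, i < 4797 → P i := stepQ 4796 Q4796 (allL N4796 (tt N3964 F42110) (tt N5722 (iv F45693)) (tt N5629 (iv F45315)) (tt N4796 F42111) (tt N4796 F42112) (tt N3958 F42113) (tt N3956 F42114) (tt N5745 D11632) (tt N3955 (iv D10683)))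
theorem Q4798 : ∀ i, i < 4798 → P i := stepQ 4797 Q4797 (allL N4797 (tt N3965 F42115) (tt N5723 (iv F45699)) (tt N5628 (iv F45311)) (tt N5746 D11633) (tt N4797 F42116) (tt N3957 F42117) (tt N5745 (iv F45797)) (tt N3956 (iv D10684)) (tt N5574 (iv F45081)))
theorem Q4799 : ∀ i, i < 4799 → P i := stepQ 4798 Q4798 (allL N4798 (tt N3966 F42118) (tt N5724 (iv F45703)) (tt N5747 D11634) (tt N3957 (iv D10685)) (tt N4798 F42119) (tt N5746 (iv F45799)) (tt N3960 F42120) (tt N4798 F42121) (tt N5575 (iv F45086)))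
theorem Q4800 : ∀ i, i < 4800 → P i := stepQ 4799 Q4799 (allL N4799 (tt N3967 F42122) (tt N5735 (iv F45747)) (tt N5695 (iv F45572)) (tt N4936 (iv F42602)) (tt N3961 F42123) (tt N5745 (iv F45796)) (tt N3959 F42124) (tt N3958 (iv D10686)) (tt N5576 (iv F45090)))
theorem Q4801 : ∀ i, i < 4801 → P i := stepQ 4800 Q4800 (allL N4800 (tt N3968 F42125) (tt N5736 (iv F45751)) (tt N4992 (iv F42858)) (tt N3959 (iv D10687)) (tt N4934 (iv F42590)) (tt N3960 F42126) (tt N4936 (iv F42603)) (tt N4800 F42127) (tt N5577 (iv F45093)))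
theorem Q4802 : ∀ i, i < 4802 → P i := stepQ 4801 Q4801 (allL N4801 (tt N3969 F42128) (tt N5748 D11635) (tt N3960 (iv D10688)) (tt N5697 (iv F45578)) (tt N4801 F42129) (tt N4992 F42861) (tt N5747 (iv F45803)) (tt N4801 F42130) (tt N5578 (iv F45096)))
theorem Q4803 : ∀ i, i < 4803 → P i := stepQ 4802 Q4802 (allL N4802 (tt N4295 F42131) (tt N3963 (iv D10689)) (tt N4754 F42132) (tt N5698 (iv F45581)) (tt N4802 F42133) (tt N4289 F42134) (tt N4802 F42135) (tt N3983 F42136) (tt N5579 (iv F45102)))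
theorem Q4804 : ∀ i, i < 4804 → P i := stepQ 4803 Q4803 (allL N4803 (tt N5745 (iv F45794)) (tt N4803 F42137) (tt N5636 (iv F45348)) (tt N4946 (iv F42653)) (tt N4803 F42138) (tt N3967 F42139) (tt N3965 F42140) (tt N3964 (iv D10690)) (tt N5592 (iv F45157)))
theorem Q4805 : ∀ i, i < 4805 → P i := stepQ 4804 Q4804 (allL N4804 (tt N5746 (iv F45798)) (tt N4804 F42141) (tt N5026 (iv F42982)) (tt N3965 (iv D10691)) (tt N4949 (iv F42670)) (tt N3966 F42142) (tt N4946 (iv F42655)) (tt N4804 F42143) (tt N5593 (iv F45161)))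
theorem Q4806 : ∀ i, i < 4806 → P i := stepQ 4805 Q4805 (allL N4805 (tt N5747 (iv F45801)) (tt N5135 (iv F43390)) (tt N3966 (iv D10692)) (tt N5316 F44178) (tt N4805 F42144) (tt N5026 (iv F42984)) (tt N3969 F42145) (tt N4805 F42146) (tt N5594 (iv F45165)))
theorem Q4807 : ∀ i, i < 4807 → P i := stepQ 4806 Q4806 (allL N4806 (tt N4806 F42147) (tt N4806 F42148) (tt N5738 (iv F45761)) (tt N4806 F42149) (tt N3973 F42150) (tt N4806 F42151) (tt N4808 (iv F42162)) (tt N5164 F43520) (tt N3970 (iv D10693)))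
theorem Q4808 : ∀ i, i < 4808 → P i := stepQ 4807 Q4807 (allL N4807 (tt N4807 F42152) (tt N4807 F42153) (tt N5739 (iv F45765)) (tt N3976 F42154) (tt N4808 (iv F42160)) (tt N4807 F42155) (tt N3973 F42156) (tt N5749 D11636) (tt N3971 (iv D10694)))
theorem Q4809 : ∀ i, i < 4809 → P i := stepQ 4808 Q4808 (allL N4808 (tt N4808 F42157) (tt N4808 F42158) (tt N5740 (iv F45770)) (tt N4808 F42159) (tt N4807 F42160) (tt N3974 F42161) (tt N4806 F42162) (tt N5750 D11637) (tt N3972 (iv D10695)))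
theorem Q4810 : ∀ i, i < 4810 → P i := stepQ 4809 Q4809 (allL N4809 (tt N4809 F42163) (tt N4809 F42164) (tt N5741 (iv F45775)) (tt N4556 F42165) (tt N5164 (iv F43518)) (tt N3975 F42166) (tt N5749 (iv F45811)) (tt N3973 (iv D10696)) (tt N5750 (iv F45818)))
theorem Q4811 : ∀ i, i < 4811 → P i := stepQ 4810 Q4810 (allL N4810 (tt N4810 F42167) (tt N4810 F42168) (tt N5742 (iv F45780)) (tt N4812 F42186) (tt N4810 F42169) (tt N5750 (iv F45816)) (tt N4810 F42170) (tt N3974 (iv D10697)) (tt N3975 F42171))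
theorem Q4812 : ∀ i, i < 4812 → P i := stepQ 4811 Q4811 (allL N4811 (tt N4811 F42172) (tt N4811 F42173) (tt N3980 F42174) (tt N4753 (iv F42179)) (tt N4811 F42175) (tt N4811 F42176) (tt N3977 F42177) (tt N3976 (iv D10698)) (tt N4811 F42178))
theorem Q4813 : ∀ i, i < 4813 → P i := stepQ 4812 Q4812 (allL N4812 (tt N4812 F42180) (tt N4812 F42181) (tt N3985 F42182) (tt N4810 (iv F42186)) (tt N3984 (iv D10699)) (tt N5163 (iv F43512)) (tt N4812 F42183) (tt N4812 F42184) (tt N3986 F42185))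
theorem Q4814 : ∀ i, i < 4814 → P i := stepQ 4813 Q4813 (allL N4813 (tt N4017 F42187) (tt N4813 F42188) (tt N3987 (iv D10700)) (tt N4348 F42189) (tt N4813 F42190) (tt N5208 (iv F43752)) (tt N5518 (iv F44848)) (tt N5751 D11638) (tt N4965 (iv F42751)))
theorem Q4815 : ∀ i, i < 4815 → P i := stepQ 4814 Q4814 (allL N4814 (tt N4018 F42191) (tt N3994 F42192) (tt N5751 (iv F45822)) (tt N5752 D11639) (tt N4814 F42193) (tt N5209 (iv F43758)) (tt N5519 (iv F44851)) (tt N3987 (iv D10701)) (tt N5753 D11640))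
theorem Q4816 : ∀ i, i < 4816 → P i := stepQ 4815 Q4815 (allL N4815 (tt N4019 F42194) (tt N3995 F42195) (tt N5754 D11641) (tt N3988 (iv D10702)) (tt N5755 D11642) (tt N5211 (iv F43767)) (tt N5453 (iv F44632)) (tt N5752 (iv F45826)) (tt N5756 D11643))
theorem Q4817 : ∀ i, i < 4817 → P i := stepQ 4816 Q4816 (allL N4816 (tt N4020 F42196) (tt N3996 F42197) (tt N4354 F42198) (tt N5756 (iv F45837)) (tt N3990 F42199) (tt N5212 (iv F43772)) (tt N5471 (iv F44698)) (tt N4971 (iv F42777)) (tt N3988 (iv D10703)))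
theorem Q4818 : ∀ i, i < 4818 → P i := stepQ 4817 Q4817 (allL N4817 (tt N4021 F42200) (tt N4817 F42201) (tt N3989 (iv D10704)) (tt N4357 F42202) (tt N5757 D11644) (tt N3991 F42203) (tt N5522 (iv F44864)) (tt N4817 F42204) (tt N5758 D11645))
theorem Q4819 : ∀ i, i < 4819 → P i := stepQ 4818 Q4818 (allL N4818 (tt N4022 F42205) (tt N3997 F42206) (tt N5757 (iv F45840)) (tt N5755 (iv F45834)) (tt N3989 (iv D10705)) (tt N5759 D11646) (tt N5562 (iv F45028)) (tt N4818 F42207) (tt N5760 D11647))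
theorem Q4820 : ∀ i, i < 4820 → P i := stepQ 4819 Q4819 (allL N4819 (tt N4023 F42208) (tt N3998 F42209) (tt N5758 (iv F45844)) (tt N3990 F42210) (tt N5760 (iv F45853)) (tt N3993 F42211) (tt N5563 (iv F45034)) (tt N5761 D11648) (tt N3989 (iv D10706)))
theorem Q4821 : ∀ i, i < 4821 → P i := stepQ 4820 Q4820 (allL N4820 (tt N4024 F42212) (tt N4820 F42213) (tt N3992 F42214) (tt N5762 D11649) (tt N3991 (iv D10707)) (tt N5763 D11650) (tt N4820 F42215) (tt N4820 F42216) (tt N5764 D11651))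
theorem Q4822 : ∀ i, i < 4822 → P i := stepQ 4821 Q4821 (allL N4821 (tt N4025 F42217) (tt N4821 F42218) (tt N3993 F42219) (tt N4361 F42220) (tt N5764 (iv F45869)) (tt N5758 (iv F45846)) (tt N4821 F42221) (tt N5765 D11652) (tt N3991 (iv D10708)))
theorem Q4823 : ∀ i, i < 4823 → P i := stepQ 4822 Q4822 (allL N4822 (tt N4026 F42222) (tt N3999 F42223) (tt N5763 (iv F45864)) (tt N5219 (iv F43807)) (tt N5759 (iv F45849)) (tt N3992 (iv D10709)) (tt N5766 D11653) (tt N4822 F42224) (tt N5767 D11654))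
theorem Q4824 : ∀ i, i < 4824 → P i := stepQ 4823 Q4823 (allL N4823 (tt N4027 F42225) (tt N4000 F42226) (tt N5764 (iv F45868)) (tt N5220 (iv F43811)) (tt N3993 F42227) (tt N5767 (iv F45882)) (tt N4823 F42228) (tt N5768 D11655) (tt N3992 (iv D10710)))
theorem Q4825 : ∀ i, i < 4825 → P i := stepQ 4824 Q4824 (allL N4824 (tt N4028 F42229) (tt N4001 F42230) (tt N5765 (iv F45873)) (tt N4981 (iv F42816)) (tt N5768 (iv F45885)) (tt N5761 (iv F45856)) (tt N4824 F42231) (tt N3993 (iv D10711)) (tt N4824 F42232))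
theorem Q4826 : ∀ i, i < 4826 → P i := stepQ 4825 Q4825 (allL N4825 (tt N4004 F42233) (tt N5752 (iv F45825)) (tt N5769 D11656) (tt N3994 (iv D10712)) (tt N5770 D11657) (tt N5222 (iv F43822)) (tt N5474 (iv F44707)) (tt N3995 F42234) (tt N5771 D11658))
theorem Q4827 : ∀ i, i < 4827 → P i := stepQ 4826 Q4826 (allL N4826 (tt N4005 F42235) (tt N5753 (iv F45828)) (tt N4826 F42236) (tt N5771 (iv F45895)) (tt N4826 F42237) (tt N5223 (iv F43828)) (tt N5521 (iv F44859)) (tt N4985 (iv F42836)) (tt N3994 (iv D10713)))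
theorem Q4828 : ∀ i, i < 4828 → P i := stepQ 4827 Q4827 (allL N4827 (tt N4006 F42238) (tt N5772 D11659) (tt N3995 (iv D10714)) (tt N4002 F42239) (tt N5773 D11660) (tt N5226 (iv F43842)) (tt N5328 (iv F44215)) (tt N5769 (iv F45890)) (tt N5774 D11661))
theorem Q4829 : ∀ i, i < 4829 → P i := stepQ 4828 Q4828 (allL N4828 (tt N4007 F42240) (tt N5755 (iv F45833)) (tt N5773 (iv F45898)) (tt N3997 F42241) (tt N3995 (iv D10715)) (tt N5775 D11662) (tt N5486 (iv F44743)) (tt N5770 (iv F45893)) (tt N5776 D11663))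
theorem Q4830 : ∀ i, i < 4830 → P i := stepQ 4829 Q4829 (allL N4829 (tt N4008 F42242) (tt N5756 (iv F45836)) (tt N5774 (iv F45901)) (tt N3996 F42243) (tt N5776 (iv F45907)) (tt N5228 (iv F43849)) (tt N5487 (iv F44746)) (tt N5777 D11664) (tt N3995 (iv D10716)))
theorem Q4831 : ∀ i, i < 4831 → P i := stepQ 4830 Q4830 (allL N4830 (tt N4009 F42244) (tt N5759 (iv F45848)) (tt N4830 F42245) (tt N5775 (iv F45904)) (tt N3999 F42246) (tt N3997 (iv D10717)) (tt N5778 D11665) (tt N4830 F42247) (tt N5779 D11666))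
theorem Q4832 : ∀ i, i < 4832 → P i := stepQ 4831 Q4831 (allL N4831 (tt N4010 F42248) (tt N5760 (iv F45852)) (tt N4831 F42249) (tt N5776 (iv F45906)) (tt N3998 F42250) (tt N5779 (iv F45916)) (tt N5581 (iv F45110)) (tt N5780 D11667) (tt N3997 (iv D10718)))
theorem Q4833 : ∀ i, i < 4833 → P i := stepQ 4832 Q4832 (allL N4832 (tt N4011 F42251) (tt N5761 (iv F45855)) (tt N4832 F42252) (tt N4996 (iv F42872)) (tt N5780 (iv F45919)) (tt N4001 F42253) (tt N5582 (iv F45114)) (tt N3998 (iv D10719)) (tt N4832 F42254))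
theorem Q4834 : ∀ i, i < 4834 → P i := stepQ 4833 Q4833 (allL N4833 (tt N4012 F42255) (tt N5766 (iv F45877)) (tt N4833 F42256) (tt N5172 F43561) (tt N5778 (iv F45911)) (tt N4833 F42257) (tt N3999 (iv D10720)) (tt N4833 F42258) (tt N5781 D11668))
theorem Q4835 : ∀ i, i < 4835 → P i := stepQ 4834 Q4834 (allL N4834 (tt N4013 F42259) (tt N5767 (iv F45881)) (tt N4834 F42260) (tt N5230 (iv F43856)) (tt N5779 (iv F45915)) (tt N4000 F42261) (tt N5781 (iv F45924)) (tt N5782 D11669) (tt N3999 (iv D10721)))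
theorem Q4836 : ∀ i, i < 4836 → P i := stepQ 4835 Q4835 (allL N4835 (tt N4014 F42262) (tt N5768 (iv F45884)) (tt N4835 F42263) (tt N5783 D11670) (tt N4001 F42264) (tt N5782 (iv F45927)) (tt N4835 F42265) (tt N4000 (iv D10722)) (tt N4835 F42266))
theorem Q4837 : ∀ i, i < 4837 → P i := stepQ 4836 Q4836 (allL N4836 (tt N5305 (iv F44131)) (tt N4002 (iv D10723)) (tt N4386 F42267) (tt N5772 (iv F45896)) (tt N4836 F42268) (tt N5234 (iv F43871)) (tt N5308 (iv F44146)) (tt N4836 F42269) (tt N5784 D11671))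
theorem Q4838 : ∀ i, i < 4838 → P i := stepQ 4837 Q4837 (allL N4837 (tt N4015 F42270) (tt N5784 (iv F45932)) (tt N4003 F42271) (tt N5774 (iv F45902)) (tt N4837 F42272) (tt N5235 (iv F43875)) (tt N5346 (iv F44280)) (tt N5785 D11672) (tt N4002 (iv D10724)))
theorem Q4839 : ∀ i, i < 4839 → P i := stepQ 4838 Q4838 (allL N4838 (tt N4016 F42273) (tt N4388 F42274) (tt N5785 (iv F45936)) (tt N5006 (iv F42908)) (tt N4838 F42275) (tt N5236 (iv F43879)) (tt N5349 (iv F44290)) (tt N4003 (iv D10725)) (tt N4838 F42276))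
theorem Q4840 : ∀ i, i < 4840 → P i := stepQ 4839 Q4839 (allL N4839 (tt N5769 (iv F45888)) (tt N5313 (iv F44162)) (tt N4004 (iv D10726)) (tt N4839 F42277) (tt N5123 (iv F43360)) (tt N5118 F43337) (tt N5315 (iv F44173)) (tt N4006 F42278) (tt N5786 D11673))
theorem Q4841 : ∀ i, i < 4841 → P i := stepQ 4840 Q4840 (allL N4840 (tt N5770 (iv F45891)) (tt N4039 F42279) (tt N5123 (iv F43358)) (tt N4840 F42280) (tt N4004 (iv D10727)) (tt N5121 (iv F43350)) (tt N5475 (iv F44711)) (tt N4007 F42281) (tt N5787 D11674))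
theorem Q4842 : ∀ i, i < 4842 → P i := stepQ 4841 Q4841 (allL N4841 (tt N5771 (iv F45894)) (tt N4040 F42282) (tt N5786 (iv F45939)) (tt N4005 F42283) (tt N5787 (iv F45943)) (tt N5237 (iv F43884)) (tt N5476 (iv F44715)) (tt N5788 D11675) (tt N4004 (iv D10728)))
theorem Q4843 : ∀ i, i < 4843 → P i := stepQ 4842 Q4842 (allL N4842 (tt N5773 (iv F45897)) (tt N5323 (iv F44195)) (tt N4007 F42284) (tt N4842 F42285) (tt N4006 (iv D10729)) (tt N5110 (iv F43307)) (tt N5329 (iv F44219)) (tt N5123 (iv F43361)) (tt N5789 D11676))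
theorem Q4844 : ∀ i, i < 4844 → P i := stepQ 4843 Q4843 (allL N4843 (tt N5774 (iv F45900)) (tt N5324 (iv F44200)) (tt N4008 F42286) (tt N4015 F42287) (tt N5789 (iv F45948)) (tt N5241 (iv F43899)) (tt N5330 (iv F44223)) (tt N5790 D11677) (tt N4006 (iv D10730)))
theorem Q4845 : ∀ i, i < 4845 → P i := stepQ 4844 Q4844 (allL N4844 (tt N5775 (iv F45903)) (tt N4041 F42288) (tt N5110 (iv F43305)) (tt N4009 F42289) (tt N5109 F43304) (tt N4007 (iv D10731)) (tt N5113 (iv F43320)) (tt N5121 (iv F43352)) (tt N5791 D11678))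
theorem Q4846 : ∀ i, i < 4846 → P i := stepQ 4845 Q4845 (allL N4845 (tt N5776 (iv F45905)) (tt N4042 F42290) (tt N5789 (iv F45946)) (tt N4010 F42291) (tt N4008 F42292) (tt N5791 (iv F45952)) (tt N5489 (iv F44752)) (tt N5792 D11679) (tt N4007 (iv D10732)))
theorem Q4847 : ∀ i, i < 4847 → P i := stepQ 4846 Q4846 (allL N4846 (tt N5777 (iv F45908)) (tt N4043 F42293) (tt N5790 (iv F45949)) (tt N5023 (iv F42969)) (tt N5792 (iv F45954)) (tt N5243 (iv F43906)) (tt N5490 (iv F44754)) (tt N4008 (iv D10733)) (tt N5788 (iv F45945)))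
theorem Q4848 : ∀ i, i < 4848 → P i := stepQ 4847 Q4847 (allL N4847 (tt N5778 (iv F45909)) (tt N4044 F42294) (tt N4847 F42295) (tt N5113 (iv F43319)) (tt N4012 F42296) (tt N5583 (iv F45119)) (tt N4009 (iv D10734)) (tt N4847 F42297) (tt N5793 D11680))
theorem Q4849 : ∀ i, i < 4849 → P i := stepQ 4848 Q4848 (allL N4848 (tt N5779 (iv F45913)) (tt N4045 F42298) (tt N4848 F42299) (tt N5791 (iv F45951)) (tt N4013 F42300) (tt N4010 F42301) (tt N5793 (iv F45958)) (tt N5794 D11681) (tt N4009 (iv D10735)))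
theorem Q4850 : ∀ i, i < 4850 → P i := stepQ 4849 Q4849 (allL N4849 (tt N5780 (iv F45917)) (tt N4046 F42302) (tt N4849 F42303) (tt N5795 D11682) (tt N4011 F42304) (tt N5794 (iv F45962)) (tt N5585 (iv F45128)) (tt N4010 (iv D10736)) (tt N4849 F42305))
theorem Q4851 : ∀ i, i < 4851 → P i := stepQ 4850 Q4850 (allL N4850 (tt N5781 (iv F45921)) (tt N4047 F42306) (tt N4850 F42307) (tt N5184 (iv F43623)) (tt N5793 (iv F45957)) (tt N4850 F42308) (tt N4013 F42309) (tt N5796 D11683) (tt N4012 (iv D10737)))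
theorem Q4852 : ∀ i, i < 4852 → P i := stepQ 4851 Q4851 (allL N4851 (tt N5782 (iv F45925)) (tt N4048 F42310) (tt N4851 F42311) (tt N5797 D11684) (tt N5794 (iv F45961)) (tt N4014 F42312) (tt N5796 (iv F45969)) (tt N4013 (iv D10738)) (tt N4851 F42313))
theorem Q4853 : ∀ i, i < 4853 → P i := stepQ 4852 Q4852 (allL N4852 (tt N5783 (iv F45929)) (tt N4049 F42314) (tt N5798 D11685) (tt N4014 (iv D10739)) (tt N5031 (iv F43000)) (tt N5797 (iv F45972)) (tt N4852 F42315) (tt N5245 (iv F43915)) (tt N4852 F42316))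
theorem Q4854 : ∀ i, i < 4854 → P i := stepQ 4853 Q4853 (allL N4853 (tt N5785 (iv F45935)) (tt N5345 (iv F44272)) (tt N4016 F42317) (tt N5799 D11686) (tt N4853 F42318) (tt N5250 (iv F43930)) (tt N5347 (iv F44284)) (tt N4015 (iv D10740)) (tt N4853 F42319))
theorem Q4855 : ∀ i, i < 4855 → P i := stepQ 4854 Q4854 (allL N4854 (tt N5751 (iv F45820)) (tt N4050 F42320) (tt N4018 F42321) (tt N5800 D11687) (tt N4854 F42322) (tt N5351 (iv F44301)) (tt N5516 (iv F44838)) (tt N4017 (iv D10741)) (tt N5801 D11688))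
theorem Q4856 : ∀ i, i < 4856 → P i := stepQ 4855 Q4855 (allL N4855 (tt N5752 (iv F45824)) (tt N4029 F42323) (tt N5802 D11689) (tt N4018 (iv D10742)) (tt N5803 D11690) (tt N5352 (iv F44303)) (tt N5444 (iv F44600)) (tt N4019 F42324) (tt N5804 D11691))
theorem Q4857 : ∀ i, i < 4857 → P i := stepQ 4856 Q4856 (allL N4856 (tt N5753 (iv F45827)) (tt N4030 F42325) (tt N5801 (iv F45981)) (tt N5804 (iv F45988)) (tt N4856 F42326) (tt N5353 (iv F44307)) (tt N5520 (iv F44855)) (tt N5053 (iv F43092)) (tt N4018 (iv D10743)))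
theorem Q4858 : ∀ i, i < 4858 → P i := stepQ 4857 Q4857 (allL N4857 (tt N5754 (iv F45830)) (tt N5409 (iv F44491)) (tt N4019 (iv D10744)) (tt N4473 F42327) (tt N5805 D11692) (tt N5356 (iv F44317)) (tt N5412 (iv F44501)) (tt N5802 (iv F45983)) (tt N5806 D11693))
theorem Q4859 : ∀ i, i < 4859 → P i := stepQ 4858 Q4858 (allL N4858 (tt N5755 (iv F45832)) (tt N4031 F42328) (tt N5805 (iv F45989)) (tt N4022 F42329) (tt N4019 (iv D10745)) (tt N5807 D11694) (tt N5454 (iv F44635)) (tt N5803 (iv F45986)) (tt N5808 D11695))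
theorem Q4860 : ∀ i, i < 4860 → P i := stepQ 4859 Q4859 (allL N4859 (tt N5756 (iv F45835)) (tt N4032 F42330) (tt N5806 (iv F45990)) (tt N4020 F42331) (tt N5808 (iv F45996)) (tt N5358 (iv F44322)) (tt N5455 (iv F44638)) (tt N5809 D11696) (tt N4019 (iv D10746)))
theorem Q4861 : ∀ i, i < 4861 → P i := stepQ 4860 Q4860 (allL N4860 (tt N5757 (iv F45838)) (tt N4052 F42332) (tt N4022 F42333) (tt N5810 D11697) (tt N4021 (iv D10747)) (tt N5811 D11698) (tt N5523 (iv F44868)) (tt N4860 F42334) (tt N5812 D11699))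
theorem Q4862 : ∀ i, i < 4862 → P i := stepQ 4861 Q4861 (allL N4861 (tt N5758 (iv F45842)) (tt N4053 F42335) (tt N4023 F42336) (tt N4480 F42337) (tt N5812 (iv F46006)) (tt N4025 F42338) (tt N5524 (iv F44874)) (tt N5813 D11700) (tt N4021 (iv D10748)))
theorem Q4863 : ∀ i, i < 4863 → P i := stepQ 4862 Q4862 (allL N4862 (tt N5759 (iv F45847)) (tt N4033 F42339) (tt N5811 (iv F46001)) (tt N5807 (iv F45993)) (tt N4026 F42340) (tt N4022 (iv D10749)) (tt N5814 D11701) (tt N4862 F42341) (tt N5815 D11702))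
theorem Q4864 : ∀ i, i < 4864 → P i := stepQ 4863 Q4863 (allL N4863 (tt N5760 (iv F45851)) (tt N4034 F42342) (tt N5812 (iv F46005)) (tt N5808 (iv F45995)) (tt N4023 F42343) (tt N5815 (iv F46016)) (tt N5565 (iv F45040)) (tt N5816 D11703) (tt N4022 (iv D10750)))
theorem Q4865 : ∀ i, i < 4865 → P i := stepQ 4864 Q4864 (allL N4864 (tt N5761 (iv F45854)) (tt N4035 F42344) (tt N5813 (iv F46008)) (tt N5067 (iv F43132)) (tt N5816 (iv F46018)) (tt N4028 F42345) (tt N5566 (iv F45043)) (tt N4023 (iv D10751)) (tt N4864 F42346))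
theorem Q4866 : ∀ i, i < 4866 → P i := stepQ 4865 Q4865 (allL N4865 (tt N5762 (iv F45858)) (tt N4057 F42347) (tt N5366 (iv F44354)) (tt N4024 (iv D10752)) (tt N4484 F42348) (tt N5817 D11704) (tt N4865 F42349) (tt N5818 D11705) (tt N5819 D11706))
theorem Q4867 : ∀ i, i < 4867 → P i := stepQ 4866 Q4866 (allL N4866 (tt N5763 (iv F45862)) (tt N4058 F42350) (tt N4026 F42351) (tt N5817 (iv F46021)) (tt N5811 (iv F46002)) (tt N4024 (iv D10753)) (tt N5820 D11707) (tt N4866 F42352) (tt N5821 D11708))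
theorem Q4868 : ∀ i, i < 4868 → P i := stepQ 4867 Q4867 (allL N4867 (tt N5764 (iv F45866)) (tt N4059 F42353) (tt N4027 F42354) (tt N5819 (iv F46027)) (tt N4025 F42355) (tt N5821 (iv F46036)) (tt N4867 F42356) (tt N5822 D11709) (tt N4024 (iv D10754)))
theorem Q4869 : ∀ i, i < 4869 → P i := stepQ 4868 Q4868 (allL N4868 (tt N5765 (iv F45871)) (tt N4060 F42357) (tt N4028 F42358) (tt N5823 D11710) (tt N5822 (iv F46039)) (tt N5813 (iv F46009)) (tt N4868 F42359) (tt N4025 (iv D10755)) (tt N4868 F42360))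
theorem Q4870 : ∀ i, i < 4870 → P i := stepQ 4869 Q4869 (allL N4869 (tt N5766 (iv F45876)) (tt N4036 F42361) (tt N5820 (iv F46031)) (tt N5370 (iv F44369)) (tt N5814 (iv F46012)) (tt N4869 F42362) (tt N4026 (iv D10756)) (tt N4869 F42363) (tt N5824 D11711))
theorem Q4871 : ∀ i, i < 4871 → P i := stepQ 4870 Q4870 (allL N4870 (tt N5767 (iv F45880)) (tt N4037 F42364) (tt N5821 (iv F46035)) (tt N5371 (iv F44373)) (tt N5815 (iv F46015)) (tt N4027 F42365) (tt N5824 (iv F46048)) (tt N5825 D11712) (tt N4026 (iv D10757)))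
theorem Q4872 : ∀ i, i < 4872 → P i := stepQ 4871 Q4871 (allL N4871 (tt N5768 (iv F45883)) (tt N4038 F42366) (tt N5822 (iv F46038)) (tt N5826 D11713) (tt N4028 F42367) (tt N5825 (iv F46050)) (tt N4871 F42368) (tt N4027 (iv D10758)) (tt N4871 F42369))
theorem Q4873 : ∀ i, i < 4873 → P i := stepQ 4872 Q4872 (allL N4872 (tt N4039 F42370) (tt N5803 (iv F45984)) (tt N5442 (iv F44591)) (tt N4872 F42371) (tt N4029 (iv D10759)) (tt N5827 D11714) (tt N5445 (iv F44605)) (tt N4031 F42372) (tt N5828 D11715))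
theorem Q4874 : ∀ i, i < 4874 → P i := stepQ 4873 Q4873 (allL N4873 (tt N4040 F42373) (tt N5804 (iv F45987)) (tt N5443 (iv F44596)) (tt N4030 F42374) (tt N5828 (iv F46060)) (tt N5374 (iv F44385)) (tt N5446 (iv F44610)) (tt N5829 D11716) (tt N4029 (iv D10760)))
theorem Q4875 : ∀ i, i < 4875 → P i := stepQ 4874 Q4874 (allL N4874 (tt N4041 F42375) (tt N5807 (iv F45992)) (tt N5450 (iv F44620)) (tt N4033 F42376) (tt N5379 (iv F44400)) (tt N4031 (iv D10761)) (tt N5830 D11717) (tt N5827 (iv F46057)) (tt N5831 D11718))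
theorem Q4876 : ∀ i, i < 4876 → P i := stepQ 4875 Q4875 (allL N4875 (tt N4042 F42377) (tt N5808 (iv F45994)) (tt N5451 (iv F44623)) (tt N4034 F42378) (tt N4032 F42379) (tt N5831 (iv F46067)) (tt N5457 (iv F44646)) (tt N5832 D11719) (tt N4031 (iv D10762)))
theorem Q4877 : ∀ i, i < 4877 → P i := stepQ 4876 Q4876 (allL N4876 (tt N4043 F42380) (tt N5809 (iv F45997)) (tt N5452 (iv F44628)) (tt N5092 (iv F43224)) (tt N5832 (iv F46069)) (tt N5381 (iv F44406)) (tt N5458 (iv F44649)) (tt N4032 (iv D10763)) (tt N5829 (iv F46062)))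
theorem Q4878 : ∀ i, i < 4878 → P i := stepQ 4877 Q4877 (allL N4877 (tt N4044 F42381) (tt N5814 (iv F46011)) (tt N4064 F42382) (tt N5830 (iv F46064)) (tt N4036 F42383) (tt N5567 (iv F45048)) (tt N4033 (iv D10764)) (tt N4877 F42384) (tt N5833 D11720))
theorem Q4879 : ∀ i, i < 4879 → P i := stepQ 4878 Q4878 (allL N4878 (tt N4045 F42385) (tt N5815 (iv F46014)) (tt N4065 F42386) (tt N5831 (iv F46066)) (tt N4037 F42387) (tt N4034 F42388) (tt N5833 (iv F46073)) (tt N5834 D11721) (tt N4033 (iv D10765)))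
theorem Q4880 : ∀ i, i < 4880 → P i := stepQ 4879 Q4879 (allL N4879 (tt N4046 F42389) (tt N5816 (iv F46017)) (tt N4066 F42390) (tt N5835 D11722) (tt N4035 F42391) (tt N5834 (iv F46077)) (tt N5569 (iv F45057)) (tt N4034 (iv D10766)) (tt N4879 F42392))
theorem Q4881 : ∀ i, i < 4881 → P i := stepQ 4880 Q4880 (allL N4880 (tt N4047 F42393) (tt N5824 (iv F46046)) (tt N4067 F42394) (tt N5383 (iv F44413)) (tt N5833 (iv F46072)) (tt N4880 F42395) (tt N4037 F42396) (tt N5836 D11723) (tt N4036 (iv D10767)))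
theorem Q4882 : ∀ i, i < 4882 → P i := stepQ 4881 Q4881 (allL N4881 (tt N4048 F42397) (tt N5825 (iv F46049)) (tt N4068 F42398) (tt N5837 D11724) (tt N5834 (iv F46076)) (tt N4038 F42399) (tt N5836 (iv F46084)) (tt N4037 (iv D10768)) (tt N4881 F42400))
theorem Q4883 : ∀ i, i < 4883 → P i := stepQ 4882 Q4882 (allL N4882 (tt N4049 F42401) (tt N5826 (iv F46052)) (tt N5838 D11725) (tt N4038 (iv D10769)) (tt N5101 (iv F43262)) (tt N5837 (iv F46087)) (tt N4882 F42402) (tt N5385 (iv F44423)) (tt N4882 F42403))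
theorem Q4884 : ∀ i, i < 4884 → P i := stepQ 4883 Q4883 (allL N4883 (tt N5827 (iv F46055)) (tt N5121 (iv F43347)) (tt N5472 (iv F44700)) (tt N4883 F42404) (tt N5120 F43346) (tt N4039 (iv D10770)) (tt N5127 (iv F43371)) (tt N4041 F42405) (tt N5839 D11726))
theorem Q4885 : ∀ i, i < 4885 → P i := stepQ 4884 Q4884 (allL N4884 (tt N5828 (iv F46058)) (tt N5787 (iv F45941)) (tt N5341 F44260) (tt N4884 F42406) (tt N4040 F42407) (tt N5839 (iv F46094)) (tt N5478 (iv F44722)) (tt N5840 D11727) (tt N4039 (iv D10771)))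
theorem Q4886 : ∀ i, i < 4886 → P i := stepQ 4885 Q4885 (allL N4885 (tt N5829 (iv F46061)) (tt N5788 (iv F45944)) (tt N5473 (iv F44703)) (tt N5117 (iv F43330)) (tt N5840 (iv F46095)) (tt N5388 (iv F44433)) (tt N5479 (iv F44724)) (tt N4040 (iv D10772)) (tt N4043 F42408))
theorem Q4887 : ∀ i, i < 4887 → P i := stepQ 4886 Q4886 (allL N4886 (tt N5830 (iv F46063)) (tt N5113 (iv F43317)) (tt N5483 (iv F44732)) (tt N4044 F42409) (tt N5112 F43316) (tt N5491 (iv F44757)) (tt N4041 (iv D10773)) (tt N5127 (iv F43372)) (tt N5841 D11728))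
theorem Q4888 : ∀ i, i < 4888 → P i := stepQ 4887 Q4887 (allL N4887 (tt N5831 (iv F46065)) (tt N5791 (iv F45950)) (tt N5484 (iv F44735)) (tt N4045 F42410) (tt N5393 (iv F44446)) (tt N4042 F42411) (tt N5841 (iv F46098)) (tt N5842 D11729) (tt N4041 (iv D10774)))
theorem Q4889 : ∀ i, i < 4889 → P i := stepQ 4888 Q4888 (allL N4888 (tt N5832 (iv F46068)) (tt N5792 (iv F45953)) (tt N5485 (iv F44738)) (tt N5843 D11730) (tt N4043 F42412) (tt N5842 (iv F46099)) (tt N5493 (iv F44763)) (tt N4042 (iv D10775)) (tt N5840 (iv F46096)))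
theorem Q4890 : ∀ i, i < 4890 → P i := stepQ 4889 Q4889 (allL N4889 (tt N5833 (iv F46070)) (tt N5793 (iv F45955)) (tt N4070 F42413) (tt N5841 (iv F46097)) (tt N4047 F42414) (tt N5586 (iv F45132)) (tt N4045 F42415) (tt N5844 D11731) (tt N4044 (iv D10776)))
theorem Q4891 : ∀ i, i < 4891 → P i := stepQ 4890 Q4890 (allL N4890 (tt N5834 (iv F46074)) (tt N5794 (iv F45959)) (tt N4071 F42416) (tt N5845 D11732) (tt N4048 F42417) (tt N4046 F42418) (tt N5844 (iv F46103)) (tt N4045 (iv D10777)) (tt N4890 F42419))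
theorem Q4892 : ∀ i, i < 4892 → P i := stepQ 4891 Q4891 (allL N4891 (tt N5835 (iv F46079)) (tt N5795 (iv F45964)) (tt N5846 D11733) (tt N4046 (iv D10778)) (tt N5140 (iv F43410)) (tt N5845 (iv F46105)) (tt N5588 (iv F45138)) (tt N5843 (iv F46100)) (tt N4891 F42420))
theorem Q4893 : ∀ i, i < 4893 → P i := stepQ 4892 Q4892 (allL N4892 (tt N5836 (iv F46081)) (tt N5796 (iv F45966)) (tt N4073 F42421) (tt N5847 D11734) (tt N5844 (iv F46102)) (tt N4892 F42422) (tt N4048 F42423) (tt N4047 (iv D10779)) (tt N4892 F42424))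
theorem Q4894 : ∀ i, i < 4894 → P i := stepQ 4893 Q4893 (allL N4893 (tt N5837 (iv F46086)) (tt N5797 (iv F45971)) (tt N5848 D11735) (tt N4048 (iv D10780)) (tt N5849 D11736) (tt N4049 F42425) (tt N5847 (iv F46110)) (tt N5396 (iv F44454)) (tt N4893 F42426))
theorem Q4895 : ∀ i, i < 4895 → P i := stepQ 4894 Q4894 (allL N4894 (tt N5838 (iv F46089)) (tt N5850 D11737) (tt N4049 (iv D10781)) (tt N4075 F42427) (tt N5143 (iv F43420)) (tt N5848 (iv F46113)) (tt N4894 F42428) (tt N5397 (iv F44459)) (tt N4894 F42429))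
theorem Q4896 : ∀ i, i < 4896 → P i := stepQ 4895 Q4895 (allL N4895 (tt N4895 F42430) (tt N5800 (iv F45978)) (tt N5511 (iv F44822)) (tt N4050 (iv D10782)) (tt N5851 D11738) (tt N5503 (iv F44790)) (tt N5513 (iv F44830)) (tt N4562 F42431) (tt N5852 D11739))
theorem Q4897 : ∀ i, i < 4897 → P i := stepQ 4896 Q4896 (allL N4896 (tt N4896 F42432) (tt N5801 (iv F45980)) (tt N4051 F42433) (tt N5852 (iv F46123)) (tt N4896 F42434) (tt N5504 (iv F44795)) (tt N5517 (iv F44843)) (tt N5151 (iv F43459)) (tt N4050 (iv D10783)))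
theorem Q4898 : ∀ i, i < 4898 → P i := stepQ 4897 Q4897 (allL N4897 (tt N4897 F42435) (tt N5810 (iv F45998)) (tt N5532 (iv F44908)) (tt N4052 (iv D10784)) (tt N4584 F42436) (tt N5853 D11740) (tt N5525 (iv F44877)) (tt N5854 D11741) (tt N5855 D11742))
theorem Q4899 : ∀ i, i < 4899 → P i := stepQ 4898 Q4898 (allL N4898 (tt N4898 F42437) (tt N5811 (iv F46000)) (tt N4054 F42438) (tt N5853 (iv F46125)) (tt N4058 F42439) (tt N4052 (iv D10785)) (tt N5856 D11743) (tt N4898 F42440) (tt N5857 D11744))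
theorem Q4900 : ∀ i, i < 4900 → P i := stepQ 4899 Q4899 (allL N4899 (tt N4899 F42441) (tt N5812 (iv F46004)) (tt N4055 F42442) (tt N5855 (iv F46130)) (tt N4053 F42443) (tt N5857 (iv F46139)) (tt N5527 (iv F44885)) (tt N5858 D11745) (tt N4052 (iv D10786)))
theorem Q4901 : ∀ i, i < 4901 → P i := stepQ 4900 Q4900 (allL N4900 (tt N4900 F42444) (tt N5813 (iv F46007)) (tt N4056 F42445) (tt N5859 D11746) (tt N5858 (iv F46142)) (tt N4060 F42446) (tt N5528 (iv F44889)) (tt N4053 (iv D10787)) (tt N4900 F42447))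
theorem Q4902 : ∀ i, i < 4902 → P i := stepQ 4901 Q4901 (allL N4901 (tt N4901 F42448) (tt N4064 F42449) (tt N5856 (iv F46133)) (tt N5536 (iv F44926)) (tt N4061 F42450) (tt N5529 (iv F44895)) (tt N4054 (iv D10788)) (tt N4901 F42451) (tt N5860 D11747))
theorem Q4903 : ∀ i, i < 4903 → P i := stepQ 4902 Q4902 (allL N4902 (tt N4902 F42452) (tt N4065 F42453) (tt N5857 (iv F46137)) (tt N5537 (iv F44932)) (tt N4062 F42454) (tt N4055 F42455) (tt N5860 (iv F46152)) (tt N5861 D11748) (tt N4054 (iv D10789)))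
theorem Q4904 : ∀ i, i < 4904 → P i := stepQ 4903 Q4903 (allL N4903 (tt N4903 F42456) (tt N4066 F42457) (tt N5858 (iv F46141)) (tt N5862 D11749) (tt N4056 F42458) (tt N5861 (iv F46156)) (tt N5531 (iv F44905)) (tt N4055 (iv D10790)) (tt N4903 F42459))
theorem Q4905 : ∀ i, i < 4905 → P i := stepQ 4904 Q4904 (allL N4904 (tt N4904 F42460) (tt N5817 (iv F46020)) (tt N4904 F42461) (tt N4058 F42462) (tt N5863 D11750) (tt N4057 (iv D10791)) (tt N5864 D11751) (tt N5865 D11752) (tt N5866 D11753))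
theorem Q4906 : ∀ i, i < 4906 → P i := stepQ 4905 Q4905 (allL N4905 (tt N4905 F42463) (tt N5818 (iv F46022)) (tt N4905 F42464) (tt N4905 F42465) (tt N4592 F42466) (tt N5865 (iv F46172)) (tt N4905 F42467) (tt N4057 (iv D10792)) (tt N5867 D11754))
theorem Q4907 : ∀ i, i < 4907 → P i := stepQ 4906 Q4906 (allL N4906 (tt N4906 F42468) (tt N5819 (iv F46026)) (tt N4906 F42469) (tt N4059 F42470) (tt N4593 F42471) (tt N5866 (iv F46176)) (tt N4906 F42472) (tt N5868 D11755) (tt N4057 (iv D10793)))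
theorem Q4908 : ∀ i, i < 4908 → P i := stepQ 4907 Q4907 (allL N4907 (tt N4907 F42473) (tt N5820 (iv F46030)) (tt N4061 F42474) (tt N5864 (iv F46167)) (tt N5856 (iv F46134)) (tt N4907 F42475) (tt N4058 (iv D10794)) (tt N4907 F42476) (tt N5869 D11756))
theorem Q4909 : ∀ i, i < 4909 → P i := stepQ 4908 Q4908 (allL N4908 (tt N4908 F42477) (tt N5821 (iv F46034)) (tt N4062 F42478) (tt N5866 (iv F46175)) (tt N5857 (iv F46138)) (tt N4059 F42479) (tt N5869 (iv F46189)) (tt N5870 D11757) (tt N4058 (iv D10795)))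
theorem Q4910 : ∀ i, i < 4910 → P i := stepQ 4909 Q4909 (allL N4909 (tt N4909 F42480) (tt N5822 (iv F46037)) (tt N4063 F42481) (tt N5871 D11758) (tt N4060 F42482) (tt N5870 (iv F46192)) (tt N4909 F42483) (tt N4059 (iv D10796)) (tt N4909 F42484))
theorem Q4911 : ∀ i, i < 4911 → P i := stepQ 4910 Q4910 (allL N4910 (tt N4910 F42485) (tt N5823 (iv F46042)) (tt N4910 F42486) (tt N4060 (iv D10797)) (tt N5872 D11759) (tt N5859 (iv F46146)) (tt N4910 F42487) (tt N4597 F42488) (tt N4910 F42489))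
theorem Q4912 : ∀ i, i < 4912 → P i := stepQ 4911 Q4911 (allL N4911 (tt N4911 F42490) (tt N4067 F42491) (tt N5869 (iv F46187)) (tt N4911 F42492) (tt N5860 (iv F46151)) (tt N4911 F42493) (tt N4062 F42494) (tt N5873 D11760) (tt N4061 (iv D10798)))
theorem Q4913 : ∀ i, i < 4913 → P i := stepQ 4912 Q4912 (allL N4912 (tt N4912 F42495) (tt N4068 F42496) (tt N5870 (iv F46191)) (tt N5874 D11761) (tt N5861 (iv F46155)) (tt N4063 F42497) (tt N5873 (iv F46205)) (tt N4062 (iv D10799)) (tt N4912 F42498))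
theorem Q4914 : ∀ i, i < 4914 → P i := stepQ 4913 Q4913 (allL N4913 (tt N4913 F42499) (tt N4069 F42500) (tt N5875 D11762) (tt N4063 (iv D10800)) (tt N4913 F42501) (tt N5874 (iv F46209)) (tt N4913 F42502) (tt N4913 F42503) (tt N4913 F42504))
theorem Q4915 : ∀ i, i < 4915 → P i := stepQ 4914 Q4914 (allL N4914 (tt N4070 F42505) (tt N5860 (iv F46150)) (tt N5833 (iv F46071)) (tt N5573 (iv F45074)) (tt N4067 F42506) (tt N5570 (iv F45062)) (tt N4065 F42507) (tt N5876 D11763) (tt N4064 (iv D10801)))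
theorem Q4916 : ∀ i, i < 4916 → P i := stepQ 4915 Q4915 (allL N4915 (tt N4071 F42508) (tt N5861 (iv F46154)) (tt N5834 (iv F46075)) (tt N5877 D11764) (tt N4068 F42509) (tt N4066 F42510) (tt N5876 (iv F46219)) (tt N4065 (iv D10802)) (tt N4915 F42511))
theorem Q4917 : ∀ i, i < 4917 → P i := stepQ 4916 Q4916 (allL N4916 (tt N4072 F42512) (tt N5862 (iv F46159)) (tt N5878 D11765) (tt N4066 (iv D10803)) (tt N4916 F42513) (tt N5877 (iv F46222)) (tt N5572 (iv F45070)) (tt N5575 (iv F45085)) (tt N4916 F42514))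
theorem Q4918 : ∀ i, i < 4918 → P i := stepQ 4917 Q4917 (allL N4917 (tt N4073 F42515) (tt N5873 (iv F46203)) (tt N5836 (iv F46082)) (tt N5879 D11766) (tt N5876 (iv F46218)) (tt N4917 F42516) (tt N4068 F42517) (tt N4067 (iv D10804)) (tt N4917 F42518))
theorem Q4919 : ∀ i, i < 4919 → P i := stepQ 4918 Q4918 (allL N4918 (tt N4074 F42519) (tt N5874 (iv F46208)) (tt N5880 D11767) (tt N4068 (iv D10805)) (tt N5881 D11768) (tt N4069 F42520) (tt N5879 (iv F46229)) (tt N4918 F42521) (tt N4918 F42522))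
theorem Q4920 : ∀ i, i < 4920 → P i := stepQ 4919 Q4919 (allL N4919 (tt N4075 F42523) (tt N5882 D11769) (tt N4069 (iv D10806)) (tt N5838 (iv F46090)) (tt N4919 F42524) (tt N5880 (iv F46233)) (tt N4919 F42525) (tt N4919 F42526) (tt N4919 F42527))
theorem Q4921 : ∀ i, i < 4921 → P i := stepQ 4920 Q4920 (allL N4920 (tt N5876 (iv F46217)) (tt N4920 F42528) (tt N5844 (iv F46101)) (tt N5883 D11770) (tt N4073 F42529) (tt N5589 (iv F45142)) (tt N4071 F42530) (tt N4070 (iv D10807)) (tt N4920 F42531))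
theorem Q4922 : ∀ i, i < 4922 → P i := stepQ 4921 Q4921 (allL N4921 (tt N5877 (iv F46221)) (tt N4921 F42532) (tt N5884 D11771) (tt N4071 (iv D10808)) (tt N5885 D11772) (tt N4072 F42533) (tt N5883 (iv F46245)) (tt N5593 (iv F45160)) (tt N4921 F42534))
theorem Q4923 : ∀ i, i < 4923 → P i := stepQ 4922 Q4922 (allL N4922 (tt N5878 (iv F46224)) (tt N5886 D11773) (tt N4072 (iv D10809)) (tt N5846 (iv F46107)) (tt N4922 F42535) (tt N5884 (iv F46247)) (tt N5591 (iv F45150)) (tt N5594 (iv F45164)) (tt N4922 F42536))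
theorem Q4924 : ∀ i, i < 4924 → P i := stepQ 4923 Q4923 (allL N4923 (tt N5879 (iv F46227)) (tt N4923 F42537) (tt N5887 D11774) (tt N4073 (iv D10810)) (tt N5888 D11775) (tt N4923 F42538) (tt N4074 F42539) (tt N4923 F42540) (tt N4923 F42541))
theorem Q4925 : ∀ i, i < 4925 → P i := stepQ 4924 Q4924 (allL N4924 (tt N5880 (iv F46232)) (tt N5889 D11776) (tt N4074 (iv D10811)) (tt N5848 (iv F46112)) (tt N5890 D11777) (tt N4075 F42542) (tt N5887 (iv F46257)) (tt N4924 F42543) (tt N4924 F42544))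
theorem Q4926 : ∀ i, i < 4926 → P i := stepQ 4925 Q4925 (allL N4925 (tt N5881 (iv F46236)) (tt N4925 F42545) (tt N5890 (iv F46268)) (tt N5885 (iv F46250)) (tt N4074 (iv D10812)) (tt N4925 F42546) (tt N5888 (iv F46261)) (tt N4925 F42547) (tt N4925 F42548))
theorem Q4927 : ∀ i, i < 4927 → P i := stepQ 4926 Q4926 (allL N4926 (tt N5891 D11778) (tt N4075 (iv D10813)) (tt N4926 F42549) (tt N5850 (iv F46116)) (tt N4926 F42550) (tt N5889 (iv F46265)) (tt N4926 F42551) (tt N4926 F42552) (tt N4926 F42553))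
theorem Q4928 : ∀ i, i < 4928 → P i := stepQ 4927 Q4927 (allL N4927 (tt N4927 F42554) (tt N4080 F42555) (tt N5185 (iv F43629)) (tt N4793 F42556) (tt N4077 F42557) (tt N4927 F42558) (tt N4794 F42559) (tt N4076 (iv D10814)) (tt N5892 D11779))
theorem Q4929 : ∀ i, i < 4929 → P i := stepQ 4928 Q4928 (allL N4928 (tt N4928 F42560) (tt N4082 F42561) (tt N5700 (iv F45591)) (tt N4077 (iv D10815)) (tt N5893 D11780) (tt N4078 F42562) (tt N5702 (iv F45603)) (tt N4928 F42563) (tt N5894 D11781))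
theorem Q4930 : ∀ i, i < 4930 → P i := stepQ 4929 Q4929 (allL N4929 (tt N4929 F42564) (tt N4083 F42565) (tt N5186 (iv F43635)) (tt N5894 (iv F46291)) (tt N5892 (iv F46280)) (tt N4079 F42566) (tt N5705 (iv F45615)) (tt N4929 F42567) (tt N4077 (iv D10816)))
theorem Q4931 : ∀ i, i < 4931 → P i := stepQ 4930 Q4930 (allL N4930 (tt N4930 F42568) (tt N4115 F42569) (tt N4078 (iv D10817)) (tt N5187 (iv F43642)) (tt N5895 D11782) (tt N5700 (iv F45592)) (tt N4930 F42570) (tt N4930 F42571) (tt N5896 D11783))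
theorem Q4932 : ∀ i, i < 4932 → P i := stepQ 4931 Q4931 (allL N4931 (tt N4931 F42572) (tt N4084 F42573) (tt N5895 (iv F46295)) (tt N4931 F42574) (tt N4078 (iv D10818)) (tt N5897 D11784) (tt N4931 F42575) (tt N4931 F42576) (tt N5898 D11785))
theorem Q4933 : ∀ i, i < 4933 → P i := stepQ 4932 Q4932 (allL N4932 (tt N4932 F42577) (tt N4085 F42578) (tt N5896 (iv F46300)) (tt N4079 F42579) (tt N5898 (iv F46309)) (tt N5894 (iv F46292)) (tt N4932 F42580) (tt N5899 D11786) (tt N4078 (iv D10819)))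
theorem Q4934 : ∀ i, i < 4934 → P i := stepQ 4933 Q4933 (allL N4933 (tt N4090 F42581) (tt N5892 (iv F46278)) (tt N4088 F42582) (tt N4616 F42583) (tt N4083 F42584) (tt N4933 F42585) (tt N4617 F42586) (tt N4933 F42587) (tt N4080 (iv D10820)))
theorem Q4935 : ∀ i, i < 4935 → P i := stepQ 4934 Q4934 (allL N4934 (tt N4091 F42588) (tt N5702 (iv F45600)) (tt N4124 F42589) (tt N4081 (iv D10821)) (tt N4800 F42590) (tt N4934 F42591) (tt N4082 F42592) (tt N4934 F42593) (tt N5900 D11787))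
theorem Q4936 : ∀ i, i < 4936 → P i := stepQ 4935 Q4935 (allL N4935 (tt N4092 F42594) (tt N5705 (iv F45611)) (tt N4089 F42595) (tt N5900 (iv F46318)) (tt N4617 F42596) (tt N4935 F42597) (tt N4083 F42598) (tt N4935 F42599) (tt N4081 (iv D10822)))
theorem Q4937 : ∀ i, i < 4937 → P i := stepQ 4936 Q4936 (allL N4936 (tt N4093 F42600) (tt N5893 (iv F46285)) (tt N4126 F42601) (tt N4799 F42602) (tt N4082 (iv D10823)) (tt N5901 D11788) (tt N4800 F42603) (tt N4936 F42604) (tt N5902 D11789))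
theorem Q4938 : ∀ i, i < 4938 → P i := stepQ 4937 Q4937 (allL N4937 (tt N4094 F42605) (tt N5894 (iv F46290)) (tt N4127 F42606) (tt N4083 F42607) (tt N5902 (iv F46331)) (tt N4085 F42608) (tt N5900 (iv F46321)) (tt N5903 D11790) (tt N4082 (iv D10824)))
theorem Q4939 : ∀ i, i < 4939 → P i := stepQ 4938 Q4938 (allL N4938 (tt N4095 F42609) (tt N5897 (iv F46303)) (tt N4128 F42610) (tt N4938 F42611) (tt N5901 (iv F46325)) (tt N4084 (iv D10825)) (tt N5904 D11791) (tt N4938 F42612) (tt N5905 D11792))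
theorem Q4940 : ∀ i, i < 4940 → P i := stepQ 4939 Q4939 (allL N4939 (tt N4096 F42613) (tt N5898 (iv F46307)) (tt N4129 F42614) (tt N4939 F42615) (tt N4085 F42616) (tt N5905 (iv F46347)) (tt N4939 F42617) (tt N5906 D11793) (tt N4084 (iv D10826)))
theorem Q4941 : ∀ i, i < 4941 → P i := stepQ 4940 Q4940 (allL N4940 (tt N4097 F42618) (tt N5899 (iv F46312)) (tt N4130 F42619) (tt N4940 F42620) (tt N5906 (iv F46350)) (tt N5903 (iv F46336)) (tt N4940 F42621) (tt N4085 (iv D10827)) (tt N4940 F42622))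
theorem Q4942 : ∀ i, i < 4942 → P i := stepQ 4941 Q4941 (allL N4941 (tt N4098 F42623) (tt N5192 (iv F43670)) (tt N4739 F42624) (tt N4086 (iv D10828)) (tt N4132 F42625) (tt N4740 F42626) (tt N4087 F42627) (tt N4941 F42628) (tt N5907 D11794))
theorem Q4943 : ∀ i, i < 4943 → P i := stepQ 4942 Q4942 (allL N4942 (tt N4099 F42629) (tt N5193 (iv F43675)) (tt N4617 F42630) (tt N5907 (iv F46355)) (tt N4089 F42631) (tt N4618 F42632) (tt N4088 F42633) (tt N4942 F42634) (tt N4086 (iv D10829)))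
theorem Q4944 : ∀ i, i < 4944 → P i := stepQ 4943 Q4943 (allL N4943 (tt N4100 F42635) (tt N5908 D11795) (tt N4087 (iv D10830)) (tt N4738 F42636) (tt N4134 F42637) (tt N4943 F42638) (tt N4739 F42639) (tt N4943 F42640) (tt N5909 D11796))
theorem Q4945 : ∀ i, i < 4945 → P i := stepQ 4944 Q4944 (allL N4944 (tt N4101 F42641) (tt N5195 (iv F43685)) (tt N5909 (iv F46365)) (tt N4088 F42642) (tt N4135 F42643) (tt N4944 F42644) (tt N5907 (iv F46358)) (tt N5910 D11797) (tt N4087 (iv D10831)))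
theorem Q4946 : ∀ i, i < 4946 → P i := stepQ 4945 Q4945 (allL N4945 (tt N5900 (iv F46316)) (tt N4945 F42645) (tt N4147 F42646) (tt N4092 F42647) (tt N4635 F42648) (tt N4945 F42649) (tt N4094 F42650) (tt N5911 D11798) (tt N4091 (iv D10832)))
theorem Q4947 : ∀ i, i < 4947 → P i := stepQ 4946 Q4946 (allL N4946 (tt N5901 (iv F46322)) (tt N4946 F42651) (tt N4148 F42652) (tt N4803 F42653) (tt N4095 F42654) (tt N4093 (iv D10833)) (tt N4804 F42655) (tt N4946 F42656) (tt N5912 D11799))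
theorem Q4948 : ∀ i, i < 4948 → P i := stepQ 4947 Q4947 (allL N4947 (tt N5902 (iv F46328)) (tt N4947 F42657) (tt N4149 F42658) (tt N4634 F42659) (tt N4094 F42660) (tt N5912 (iv F46386)) (tt N4635 F42661) (tt N5913 D11800) (tt N4093 (iv D10834)))
theorem Q4949 : ∀ i, i < 4949 → P i := stepQ 4948 Q4948 (allL N4948 (tt N5903 (iv F46333)) (tt N4948 F42662) (tt N4150 F42663) (tt N4948 F42664) (tt N5913 (iv F46392)) (tt N4097 F42665) (tt N5911 (iv F46380)) (tt N4094 (iv D10835)) (tt N4948 F42666))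
theorem Q4950 : ∀ i, i < 4950 → P i := stepQ 4949 Q4949 (allL N4949 (tt N5904 (iv F46338)) (tt N4949 F42667) (tt N4151 F42668) (tt N4949 F42669) (tt N4804 F42670) (tt N4949 F42671) (tt N4095 (iv D10836)) (tt N4949 F42672) (tt N5914 D11801))
theorem Q4951 : ∀ i, i < 4951 → P i := stepQ 4950 Q4950 (allL N4950 (tt N5905 (iv F46344)) (tt N4950 F42673) (tt N4152 F42674) (tt N4950 F42675) (tt N5912 (iv F46385)) (tt N4096 F42676) (tt N5914 (iv F46401)) (tt N5915 D11802) (tt N4095 (iv D10837)))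
theorem Q4952 : ∀ i, i < 4952 → P i := stepQ 4951 Q4951 (allL N4951 (tt N5906 (iv F46348)) (tt N4951 F42677) (tt N4153 F42678) (tt N5916 D11803) (tt N4097 F42679) (tt N5915 (iv F46406)) (tt N4951 F42680) (tt N4096 (iv D10838)) (tt N4951 F42681))
theorem Q4953 : ∀ i, i < 4953 → P i := stepQ 4952 Q4952 (allL N4952 (tt N5907 (iv F46353)) (tt N4105 F42682) (tt N4546 F42683) (tt N4099 F42684) (tt N4157 F42685) (tt N4547 F42686) (tt N4101 F42687) (tt N5917 D11804) (tt N4098 (iv D10839)))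
theorem Q4954 : ∀ i, i < 4954 → P i := stepQ 4953 Q4953 (allL N4953 (tt N5918 D11805) (tt N4100 (iv D10840)) (tt N4106 F42688) (tt N4683 F42689) (tt N4158 F42690) (tt N4953 F42691) (tt N4684 F42692) (tt N4953 F42693) (tt N5919 D11806))
theorem Q4955 : ∀ i, i < 4955 → P i := stepQ 4954 Q4954 (allL N4954 (tt N5909 (iv F46364)) (tt N5919 (iv F46429)) (tt N4101 F42694) (tt N4545 F42695) (tt N4159 F42696) (tt N4954 F42697) (tt N4546 F42698) (tt N5920 D11807) (tt N4100 (iv D10841)))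
theorem Q4956 : ∀ i, i < 4956 → P i := stepQ 4955 Q4955 (allL N4955 (tt N5910 (iv F46370)) (tt N4108 F42699) (tt N5920 (iv F46435)) (tt N4955 F42700) (tt N4160 F42701) (tt N4955 F42702) (tt N5917 (iv F46421)) (tt N4101 (iv D10842)) (tt N4955 F42703))
theorem Q4957 : ∀ i, i < 4957 → P i := stepQ 4956 Q4956 (allL N4956 (tt N4957 (iv F42710)) (tt N4685 F42704) (tt N4102 (iv D10843)) (tt N4956 F42705) (tt N4300 (iv F42709)) (tt N4104 F42706) (tt N4956 F42707) (tt N4956 F42708) (tt N5921 D11808))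
theorem Q4958 : ∀ i, i < 4958 → P i := stepQ 4957 Q4957 (allL N4957 (tt N4956 F42710) (tt N4702 F42711) (tt N4300 F42712) (tt N4957 F42713) (tt N4102 (iv D10844)) (tt N4161 F42714) (tt N4957 F42715) (tt N4957 F42716) (tt N5922 D11809))
theorem Q4959 : ∀ i, i < 4959 → P i := stepQ 4958 Q4958 (allL N4958 (tt N5203 (iv F43725)) (tt N4547 F42717) (tt N5921 (iv F46442)) (tt N4103 F42718) (tt N5922 (iv F46451)) (tt N4105 F42719) (tt N4958 F42720) (tt N5923 D11810) (tt N4102 (iv D10845)))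
theorem Q4960 : ∀ i, i < 4960 → P i := stepQ 4959 Q4959 (allL N4959 (tt N5924 D11811) (tt N4104 (iv D10846)) (tt N4684 F42721) (tt N4959 F42722) (tt N4163 F42723) (tt N4685 F42724) (tt N4106 F42725) (tt N4959 F42726) (tt N5925 D11812))
theorem Q4961 : ∀ i, i < 4961 → P i := stepQ 4960 Q4960 (allL N4960 (tt N5041 (iv F43040)) (tt N5925 (iv F46467)) (tt N4105 F42727) (tt N4960 F42728) (tt N4164 F42729) (tt N5921 (iv F46445)) (tt N4107 F42730) (tt N5926 D11813) (tt N4104 (iv D10847)))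
theorem Q4962 : ∀ i, i < 4962 → P i := stepQ 4961 Q4961 (allL N4961 (tt N5204 (iv F43729)) (tt N5917 (iv F46416)) (tt N5926 (iv F46473)) (tt N4961 F42731) (tt N4165 F42732) (tt N5923 (iv F46458)) (tt N4108 F42733) (tt N4105 (iv D10848)) (tt N4961 F42734))
theorem Q4963 : ∀ i, i < 4963 → P i := stepQ 4962 Q4962 (allL N4962 (tt N4106 (iv D10849)) (tt N5205 (iv F43734)) (tt N5918 (iv F46423)) (tt N4962 F42735) (tt N4166 F42736) (tt N4962 F42737) (tt N5924 (iv F46465)) (tt N4962 F42738) (tt N5927 D11814))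
theorem Q4964 : ∀ i, i < 4964 → P i := stepQ 4963 Q4963 (allL N4963 (tt N5927 (iv F46477)) (tt N4107 F42739) (tt N5919 (iv F46430)) (tt N4963 F42740) (tt N4167 F42741) (tt N4963 F42742) (tt N5925 (iv F46472)) (tt N5928 D11815) (tt N4106 (iv D10850)))
theorem Q4965 : ∀ i, i < 4965 → P i := stepQ 4964 Q4964 (allL N4964 (tt N5207 (iv F43743)) (tt N5928 (iv F46481)) (tt N4108 F42743) (tt N5929 D11816) (tt N4168 F42744) (tt N4964 F42745) (tt N5926 (iv F46475)) (tt N4107 (iv D10851)) (tt N4964 F42746))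
theorem Q4966 : ∀ i, i < 4966 → P i := stepQ 4965 Q4965 (allL N4965 (tt N4169 F42747) (tt N4965 F42748) (tt N4109 (iv D10852)) (tt N5208 (iv F43750)) (tt N4965 F42749) (tt N4348 F42750) (tt N5640 (iv F45371)) (tt N5930 D11817) (tt N4813 F42751))
theorem Q4967 : ∀ i, i < 4967 → P i := stepQ 4966 Q4966 (allL N4966 (tt N4170 F42752) (tt N4118 F42753) (tt N5640 (iv F45369)) (tt N4110 F42754) (tt N4966 F42755) (tt N5931 D11818) (tt N4109 (iv D10853)) (tt N5932 D11819) (tt N4570 F42756))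
theorem Q4968 : ∀ i, i < 4968 → P i := stepQ 4967 Q4967 (allL N4967 (tt N4171 F42757) (tt N4119 F42758) (tt N5930 (iv F46491)) (tt N5933 D11820) (tt N4967 F42759) (tt N4350 F42760) (tt N5932 (iv F46503)) (tt N4109 (iv D10854)) (tt N5934 D11821))
theorem Q4969 : ∀ i, i < 4969 → P i := stepQ 4968 Q4968 (allL N4968 (tt N4172 F42761) (tt N4120 F42762) (tt N5178 (iv F43586)) (tt N5931 (iv F46496)) (tt N4968 F42763) (tt N4110 (iv D10855)) (tt N4351 F42764) (tt N5935 D11822) (tt N4269 F42765))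
theorem Q4970 : ∀ i, i < 4970 → P i := stepQ 4969 Q4969 (allL N4969 (tt N4173 F42766) (tt N4121 F42767) (tt N5210 (iv F43762)) (tt N5936 D11823) (tt N4112 F42768) (tt N5935 (iv F46516)) (tt N4111 F42769) (tt N4110 (iv D10856)) (tt N5937 D11824))
theorem Q4971 : ∀ i, i < 4971 → P i := stepQ 4970 Q4970 (allL N4970 (tt N4174 F42770) (tt N4122 F42771) (tt N5938 D11825) (tt N4111 (iv D10857)) (tt N5939 D11826) (tt N4353 F42772) (tt N5936 (iv F46520)) (tt N5933 (iv F46507)) (tt N5940 D11827))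
theorem Q4972 : ∀ i, i < 4972 → P i := stepQ 4971 Q4971 (allL N4971 (tt N4175 F42773) (tt N4123 F42774) (tt N5212 (iv F43770)) (tt N5940 (iv F46533)) (tt N4114 F42775) (tt N4354 F42776) (tt N5937 (iv F46524)) (tt N4816 F42777) (tt N4111 (iv D10858)))
theorem Q4973 : ∀ i, i < 4973 → P i := stepQ 4972 Q4972 (allL N4972 (tt N4176 F42778) (tt N4124 F42779) (tt N5638 (iv F45359)) (tt N4112 (iv D10859)) (tt N5941 D11828) (tt N4972 F42780) (tt N4113 F42781) (tt N4972 F42782) (tt N5942 D11829))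
theorem Q4974 : ∀ i, i < 4974 → P i := stepQ 4973 Q4973 (allL N4973 (tt N4177 F42783) (tt N4125 F42784) (tt N5213 (iv F43776)) (tt N5942 (iv F46542)) (tt N5937 (iv F46523)) (tt N4973 F42785) (tt N4114 F42786) (tt N4619 F42787) (tt N4112 (iv D10860)))
theorem Q4975 : ∀ i, i < 4975 → P i := stepQ 4974 Q4974 (allL N4974 (tt N4178 F42788) (tt N5700 (iv F45590)) (tt N4113 (iv D10861)) (tt N5214 (iv F43783)) (tt N5943 D11830) (tt N4115 F42789) (tt N5638 (iv F45361)) (tt N4974 F42790) (tt N5944 D11831))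
theorem Q4976 : ∀ i, i < 4976 → P i := stepQ 4975 Q4975 (allL N4975 (tt N4179 F42791) (tt N4126 F42792) (tt N5943 (iv F46546)) (tt N5939 (iv F46530)) (tt N4113 (iv D10862)) (tt N5945 D11832) (tt N5941 (iv F46537)) (tt N4975 F42793) (tt N5946 D11833))
theorem Q4977 : ∀ i, i < 4977 → P i := stepQ 4976 Q4976 (allL N4976 (tt N4180 F42794) (tt N4127 F42795) (tt N5944 (iv F46549)) (tt N4114 F42796) (tt N5946 (iv F46557)) (tt N4117 F42797) (tt N5942 (iv F46544)) (tt N5947 D11834) (tt N4113 (iv D10863)))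
theorem Q4978 : ∀ i, i < 4978 → P i := stepQ 4977 Q4977 (allL N4977 (tt N4181 F42798) (tt N5895 (iv F46294)) (tt N4116 F42799) (tt N5948 D11835) (tt N4115 (iv D10864)) (tt N5949 D11836) (tt N4977 F42800) (tt N4977 F42801) (tt N5950 D11837))
theorem Q4979 : ∀ i, i < 4979 → P i := stepQ 4978 Q4978 (allL N4978 (tt N4182 F42802) (tt N5896 (iv F46299)) (tt N4117 F42803) (tt N5218 (iv F43803)) (tt N5950 (iv F46571)) (tt N5944 (iv F46550)) (tt N4978 F42804) (tt N5951 D11838) (tt N4115 (iv D10865)))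
theorem Q4980 : ∀ i, i < 4980 → P i := stepQ 4979 Q4979 (allL N4979 (tt N4183 F42805) (tt N4128 F42806) (tt N5949 (iv F46567)) (tt N4362 F42807) (tt N5945 (iv F46553)) (tt N4116 (iv D10866)) (tt N5952 D11839) (tt N4979 F42808) (tt N5953 D11840))
theorem Q4981 : ∀ i, i < 4981 → P i := stepQ 4980 Q4980 (allL N4980 (tt N4184 F42809) (tt N4129 F42810) (tt N5950 (iv F46570)) (tt N4363 F42811) (tt N4117 F42812) (tt N5953 (iv F46585)) (tt N4980 F42813) (tt N5954 D11841) (tt N4116 (iv D10867)))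
theorem Q4982 : ∀ i, i < 4982 → P i := stepQ 4981 Q4981 (allL N4981 (tt N4185 F42814) (tt N4130 F42815) (tt N5951 (iv F46574)) (tt N4824 F42816) (tt N5954 (iv F46588)) (tt N5947 (iv F46561)) (tt N4981 F42817) (tt N4117 (iv D10868)) (tt N4981 F42818))
theorem Q4983 : ∀ i, i < 4983 → P i := stepQ 4982 Q4982 (allL N4982 (tt N4136 F42819) (tt N5931 (iv F46495)) (tt N4982 F42820) (tt N4120 F42821) (tt N4697 (iv F42824)) (tt N4118 (iv D10869)) (tt N4365 F42822) (tt N5955 D11842) (tt N4279 F42823))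
theorem Q4984 : ∀ i, i < 4984 → P i := stepQ 4983 Q4983 (allL N4983 (tt N4137 F42825) (tt N5932 (iv F46501)) (tt N4983 F42826) (tt N5956 D11843) (tt N4983 F42827) (tt N5955 (iv F46594)) (tt N4119 F42828) (tt N4118 (iv D10870)) (tt N5957 D11844))
theorem Q4985 : ∀ i, i < 4985 → P i := stepQ 4984 Q4984 (allL N4984 (tt N4138 F42829) (tt N5933 (iv F46505)) (tt N5958 D11845) (tt N4119 (iv D10871)) (tt N5959 D11846) (tt N4367 F42830) (tt N5956 (iv F46597)) (tt N4122 F42831) (tt N5960 D11847))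
theorem Q4986 : ∀ i, i < 4986 → P i := stepQ 4985 Q4985 (allL N4985 (tt N4139 F42832) (tt N5934 (iv F46509)) (tt N4985 F42833) (tt N5960 (iv F46612)) (tt N4985 F42834) (tt N4368 F42835) (tt N5957 (iv F46602)) (tt N4826 F42836) (tt N4119 (iv D10872)))
theorem Q4987 : ∀ i, i < 4987 → P i := stepQ 4986 Q4986 (allL N4986 (tt N4140 F42837) (tt N5935 (iv F46514)) (tt N4131 F42838) (tt N5961 D11848) (tt N4986 F42839) (tt N4121 F42840) (tt N4369 F42841) (tt N4120 (iv D10873)) (tt N5962 D11849))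
theorem Q4988 : ∀ i, i < 4988 → P i := stepQ 4987 Q4987 (allL N4987 (tt N4141 F42842) (tt N5936 (iv F46519)) (tt N5963 D11850) (tt N4121 (iv D10874)) (tt N5964 D11851) (tt N5961 (iv F46615)) (tt N4122 F42843) (tt N5956 (iv F46598)) (tt N5965 D11852))
theorem Q4989 : ∀ i, i < 4989 → P i := stepQ 4988 Q4988 (allL N4988 (tt N4142 F42844) (tt N5937 (iv F46522)) (tt N4133 F42845) (tt N5965 (iv F46633)) (tt N4125 F42846) (tt N5962 (iv F46620)) (tt N4123 F42847) (tt N4548 F42848) (tt N4121 (iv D10875)))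
theorem Q4990 : ∀ i, i < 4990 → P i := stepQ 4989 Q4989 (allL N4989 (tt N4143 F42849) (tt N5966 D11853) (tt N4122 (iv D10876)) (tt N4134 F42850) (tt N5967 D11854) (tt N4372 F42851) (tt N5963 (iv F46625)) (tt N5958 (iv F46607)) (tt N5968 D11855))
theorem Q4991 : ∀ i, i < 4991 → P i := stepQ 4990 Q4990 (allL N4990 (tt N4144 F42852) (tt N5939 (iv F46529)) (tt N5967 (iv F46638)) (tt N4126 F42853) (tt N4122 (iv D10877)) (tt N5969 D11856) (tt N5964 (iv F46630)) (tt N5959 (iv F46610)) (tt N5970 D11857))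
theorem Q4992 : ∀ i, i < 4992 → P i := stepQ 4991 Q4991 (allL N4991 (tt N4145 F42854) (tt N5940 (iv F46532)) (tt N5968 (iv F46642)) (tt N4123 F42855) (tt N5970 (iv F46650)) (tt N4374 F42856) (tt N5965 (iv F46634)) (tt N5971 D11858) (tt N4122 (iv D10878)))
theorem Q4993 : ∀ i, i < 4993 → P i := stepQ 4992 Q4992 (allL N4992 (tt N4146 F42857) (tt N5941 (iv F46536)) (tt N4800 F42858) (tt N5964 (iv F46629)) (tt N4124 (iv D10879)) (tt N4801 (iv F42861)) (tt N4126 F42859) (tt N4992 F42860) (tt N5972 D11859))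
theorem Q4994 : ∀ i, i < 4994 → P i := stepQ 4993 Q4993 (allL N4993 (tt N4147 F42862) (tt N5942 (iv F46541)) (tt N5900 (iv F46317)) (tt N4125 F42863) (tt N5972 (iv F46656)) (tt N4993 F42864) (tt N4127 F42865) (tt N5973 D11860) (tt N4124 (iv D10880)))
theorem Q4995 : ∀ i, i < 4995 → P i := stepQ 4994 Q4994 (allL N4994 (tt N4148 F42866) (tt N5945 (iv F46552)) (tt N5901 (iv F46323)) (tt N5969 (iv F46646)) (tt N4128 F42867) (tt N4126 (iv D10881)) (tt N5974 D11861) (tt N4994 F42868) (tt N5975 D11862))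
theorem Q4996 : ∀ i, i < 4996 → P i := stepQ 4995 Q4995 (allL N4995 (tt N4149 F42869) (tt N5946 (iv F46556)) (tt N5902 (iv F46329)) (tt N5970 (iv F46649)) (tt N4127 F42870) (tt N5975 (iv F46671)) (tt N5972 (iv F46658)) (tt N5976 D11863) (tt N4126 (iv D10882)))
theorem Q4997 : ∀ i, i < 4997 → P i := stepQ 4996 Q4996 (allL N4996 (tt N4150 F42871) (tt N5947 (iv F46559)) (tt N5903 (iv F46334)) (tt N4832 F42872) (tt N5976 (iv F46673)) (tt N4130 F42873) (tt N5973 (iv F46662)) (tt N4127 (iv D10883)) (tt N4996 F42874))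
theorem Q4998 : ∀ i, i < 4998 → P i := stepQ 4997 Q4997 (allL N4997 (tt N4151 F42875) (tt N5952 (iv F46578)) (tt N5904 (iv F46339)) (tt N4380 F42876) (tt N5974 (iv F46666)) (tt N4997 F42877) (tt N4128 (iv D10884)) (tt N4997 F42878) (tt N5977 D11864))
theorem Q4999 : ∀ i, i < 4999 → P i := stepQ 4998 Q4998 (allL N4998 (tt N4152 F42879) (tt N5953 (iv F46583)) (tt N5905 (iv F46345)) (tt N4381 F42880) (tt N5975 (iv F46670)) (tt N4129 F42881) (tt N5977 (iv F46678)) (tt N5978 D11865) (tt N4128 (iv D10885)))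
theorem Q5000 : ∀ i, i < 5000 → P i := stepQ 4999 Q4999 (allL N4999 (tt N4153 F42882) (tt N5954 (iv F46587)) (tt N5906 (iv F46349)) (tt N5979 D11866) (tt N4130 F42883) (tt N5978 (iv F46680)) (tt N4999 F42884) (tt N4129 (iv D10886)) (tt N4999 F42885))
theorem Q5001 : ∀ i, i < 5001 → P i := stepQ 5000 Q5000 (allL N5000 (tt N4154 F42886) (tt N5043 (iv F43050)) (tt N5980 D11867) (tt N4131 (iv D10887)) (tt N5981 D11868) (tt N4132 F42887) (tt N4345 F42888) (tt N5000 F42889) (tt N5982 D11869))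
theorem Q5002 : ∀ i, i < 5002 → P i := stepQ 5001 Q5001 (allL N5001 (tt N4155 F42890) (tt N5147 (iv F43440)) (tt N5962 (iv F46618)) (tt N5982 (iv F46700)) (tt N5001 F42891) (tt N4133 F42892) (tt N4383 F42893) (tt N4242 F42894) (tt N4131 (iv D10888)))
theorem Q5003 : ∀ i, i < 5003 → P i := stepQ 5002 Q5002 (allL N5002 (tt N4156 F42895) (tt N5983 D11870) (tt N4132 (iv D10889)) (tt N5963 (iv F46624)) (tt N4739 F42896) (tt N5980 (iv F46688)) (tt N4134 F42897) (tt N5002 F42898) (tt N5984 D11871))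
theorem Q5004 : ∀ i, i < 5004 → P i := stepQ 5003 Q5003 (allL N5003 (tt N4157 F42899) (tt N5233 (iv F43867)) (tt N5984 (iv F46707)) (tt N4133 F42900) (tt N5907 (iv F46356)) (tt N5982 (iv F46701)) (tt N4135 F42901) (tt N5985 D11872) (tt N4132 (iv D10890)))
theorem Q5005 : ∀ i, i < 5005 → P i := stepQ 5004 Q5004 (allL N5004 (tt N5986 D11873) (tt N4134 (iv D10891)) (tt N5234 (iv F43870)) (tt N5966 (iv F46635)) (tt N5908 (iv F46360)) (tt N4386 F42902) (tt N5983 (iv F46704)) (tt N5004 F42903) (tt N5987 D11874))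
theorem Q5006 : ∀ i, i < 5006 → P i := stepQ 5005 Q5005 (allL N5005 (tt N4159 F42904) (tt N5987 (iv F46717)) (tt N4135 F42905) (tt N5968 (iv F46643)) (tt N5909 (iv F46367)) (tt N4387 F42906) (tt N5984 (iv F46709)) (tt N5988 D11875) (tt N4134 (iv D10892)))
theorem Q5007 : ∀ i, i < 5007 → P i := stepQ 5006 Q5006 (allL N5006 (tt N4160 F42907) (tt N5236 (iv F43877)) (tt N5988 (iv F46720)) (tt N4838 F42908) (tt N5910 (iv F46372)) (tt N4388 F42909) (tt N5985 (iv F46712)) (tt N4135 (iv D10893)) (tt N5006 F42910))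
theorem Q5008 : ∀ i, i < 5008 → P i := stepQ 5007 Q5007 (allL N5007 (tt N5955 (iv F46591)) (tt N4210 F42911) (tt N5007 F42912) (tt N5989 D11876) (tt N4700 F42913) (tt N4137 F42914) (tt N4389 F42915) (tt N4136 (iv D10894)) (tt N5990 D11877))
theorem Q5009 : ∀ i, i < 5009 → P i := stepQ 5008 Q5008 (allL N5008 (tt N5956 (iv F46596)) (tt N4211 F42916) (tt N5991 D11878) (tt N4137 (iv D10895)) (tt N5992 D11879) (tt N5989 (iv F46725)) (tt N4138 F42917) (tt N4141 F42918) (tt N5993 D11880))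
theorem Q5010 : ∀ i, i < 5010 → P i := stepQ 5009 Q5009 (allL N5009 (tt N5957 (iv F46599)) (tt N4212 F42919) (tt N5009 F42920) (tt N5993 (iv F46748)) (tt N5009 F42921) (tt N5990 (iv F46732)) (tt N4139 F42922) (tt N4572 F42923) (tt N4137 (iv D10896)))
theorem Q5011 : ∀ i, i < 5011 → P i := stepQ 5010 Q5010 (allL N5010 (tt N5958 (iv F46604)) (tt N5994 D11881) (tt N4138 (iv D10897)) (tt N5010 F42924) (tt N5995 D11882) (tt N4392 F42925) (tt N5991 (iv F46738)) (tt N4143 F42926) (tt N5996 D11883))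
theorem Q5012 : ∀ i, i < 5012 → P i := stepQ 5011 Q5011 (allL N5011 (tt N5959 (iv F46608)) (tt N4214 F42927) (tt N5995 (iv F46757)) (tt N5011 F42928) (tt N4138 (iv D10898)) (tt N5997 D11884) (tt N5992 (iv F46745)) (tt N4144 F42929) (tt N5998 D11885))
theorem Q5013 : ∀ i, i < 5013 → P i := stepQ 5012 Q5012 (allL N5012 (tt N5960 (iv F46611)) (tt N4215 F42930) (tt N5996 (iv F46762)) (tt N4139 F42931) (tt N5998 (iv F46773)) (tt N4394 F42932) (tt N5993 (iv F46749)) (tt N5999 D11886) (tt N4138 (iv D10899)))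
theorem Q5014 : ∀ i, i < 5014 → P i := stepQ 5013 Q5013 (allL N5013 (tt N5961 (iv F46614)) (tt N4216 F42933) (tt N6000 D11887) (tt N4140 (iv D10900)) (tt N6001 D11888) (tt N4141 F42934) (tt N4395 F42935) (tt N5989 (iv F46727)) (tt N6002 D11889))
theorem Q5015 : ∀ i, i < 5015 → P i := stepQ 5014 Q5014 (allL N5014 (tt N5962 (iv F46617)) (tt N4217 F42936) (tt N4155 F42937) (tt N6002 (iv F46791)) (tt N5014 F42938) (tt N4142 F42939) (tt N4396 F42940) (tt N4239 F42941) (tt N4140 (iv D10901)))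
theorem Q5016 : ∀ i, i < 5016 → P i := stepQ 5015 Q5015 (allL N5015 (tt N5963 (iv F46623)) (tt N6003 D11890) (tt N4141 (iv D10902)) (tt N4156 F42942) (tt N4744 (iv F42944)) (tt N6000 (iv F46780)) (tt N4143 F42943) (tt N5991 (iv F46739)) (tt N6004 D11891))
theorem Q5017 : ∀ i, i < 5017 → P i := stepQ 5016 Q5016 (allL N5016 (tt N5964 (iv F46627)) (tt N4219 F42945) (tt N4744 F42946) (tt N4146 F42947) (tt N4141 (iv D10903)) (tt N4745 (iv F42949)) (tt N4144 F42948) (tt N5992 (iv F46746)) (tt N6005 D11892))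
theorem Q5018 : ∀ i, i < 5018 → P i := stepQ 5017 Q5017 (allL N5017 (tt N5965 (iv F46632)) (tt N4220 F42950) (tt N6004 (iv F46800)) (tt N4142 F42951) (tt N6005 (iv F46807)) (tt N6002 (iv F46792)) (tt N4145 F42952) (tt N6006 D11893) (tt N4141 (iv D10904)))
theorem Q5019 : ∀ i, i < 5019 → P i := stepQ 5018 Q5018 (allL N5018 (tt N6007 D11894) (tt N4143 (iv D10905)) (tt N4221 F42953) (tt N4158 F42954) (tt N6008 D11895) (tt N4400 F42955) (tt N6003 (iv F46798)) (tt N5994 (iv F46754)) (tt N6009 D11896))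
theorem Q5020 : ∀ i, i < 5020 → P i := stepQ 5019 Q5019 (allL N5019 (tt N5967 (iv F46637)) (tt N6008 (iv F46816)) (tt N4144 F42956) (tt N4743 F42957) (tt N4143 (iv D10906)) (tt N6010 D11897) (tt N4744 F42958) (tt N5995 (iv F46759)) (tt N6011 D11898))
theorem Q5021 : ∀ i, i < 5021 → P i := stepQ 5020 Q5020 (allL N5020 (tt N5968 (iv F46641)) (tt N6009 (iv F46822)) (tt N4145 F42959) (tt N4159 F42960) (tt N6011 (iv F46834)) (tt N4402 F42961) (tt N6004 (iv F46803)) (tt N6012 D11899) (tt N4143 (iv D10907)))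
theorem Q5022 : ∀ i, i < 5022 → P i := stepQ 5021 Q5021 (allL N5021 (tt N5969 (iv F46645)) (tt N4224 F42962) (tt N6010 (iv F46827)) (tt N4148 F42963) (tt N4403 F42964) (tt N4144 (iv D10908)) (tt N6013 D11900) (tt N5997 (iv F46770)) (tt N6014 D11901))
theorem Q5023 : ∀ i, i < 5023 → P i := stepQ 5022 Q5022 (allL N5022 (tt N5970 (iv F46648)) (tt N4225 F42965) (tt N6011 (iv F46832)) (tt N4149 F42966) (tt N4145 F42967) (tt N6014 (iv F46847)) (tt N6005 (iv F46809)) (tt N6015 D11902) (tt N4144 (iv D10909)))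
theorem Q5024 : ∀ i, i < 5024 → P i := stepQ 5023 Q5023 (allL N5023 (tt N5971 (iv F46651)) (tt N4226 F42968) (tt N6012 (iv F46836)) (tt N4846 F42969) (tt N6015 (iv F46849)) (tt N4405 F42970) (tt N6006 (iv F46812)) (tt N4145 (iv D10910)) (tt N5999 (iv F46777)))
theorem Q5025 : ∀ i, i < 5025 → P i := stepQ 5024 Q5024 (allL N5024 (tt N5972 (iv F46654)) (tt N4228 F42971) (tt N4635 F42972) (tt N6005 (iv F46806)) (tt N4147 F42973) (tt N4636 F42974) (tt N4149 F42975) (tt N6016 D11903) (tt N4146 (iv D10911)))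
theorem Q5026 : ∀ i, i < 5026 → P i := stepQ 5025 Q5025 (allL N5025 (tt N5973 (iv F46659)) (tt N4229 F42976) (tt N5911 (iv F46376)) (tt N4624 F42977) (tt N6016 (iv F46852)) (tt N5025 F42978) (tt N4150 F42979) (tt N4147 (iv D10912)) (tt N5025 F42980))
theorem Q5027 : ∀ i, i < 5027 → P i := stepQ 5026 Q5026 (allL N5026 (tt N5974 (iv F46664)) (tt N4230 F42981) (tt N4804 F42982) (tt N6013 (iv F46840)) (tt N4151 F42983) (tt N4805 F42984) (tt N4148 (iv D10913)) (tt N5026 F42985) (tt N6017 D11904))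
theorem Q5028 : ∀ i, i < 5028 → P i := stepQ 5027 Q5027 (allL N5027 (tt N5975 (iv F46669)) (tt N4231 F42986) (tt N5912 (iv F46383)) (tt N6014 (iv F46845)) (tt N4152 F42987) (tt N4149 F42988) (tt N6017 (iv F46860)) (tt N6018 D11905) (tt N4148 (iv D10914)))
theorem Q5029 : ∀ i, i < 5029 → P i := stepQ 5028 Q5028 (allL N5028 (tt N5976 (iv F46672)) (tt N4232 F42989) (tt N5913 (iv F46390)) (tt N6019 D11906) (tt N4150 F42990) (tt N6018 (iv F46865)) (tt N6016 (iv F46854)) (tt N4149 (iv D10915)) (tt N5028 F42991))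
theorem Q5030 : ∀ i, i < 5030 → P i := stepQ 5029 Q5029 (allL N5029 (tt N5977 (iv F46675)) (tt N4233 F42992) (tt N5914 (iv F46397)) (tt N4411 F42993) (tt N6017 (iv F46858)) (tt N5029 F42994) (tt N4152 F42995) (tt N6020 D11907) (tt N4151 (iv D10916)))
theorem Q5031 : ∀ i, i < 5031 → P i := stepQ 5030 Q5030 (allL N5030 (tt N5978 (iv F46679)) (tt N4234 F42996) (tt N5915 (iv F46404)) (tt N6021 D11908) (tt N6018 (iv F46864)) (tt N4153 F42997) (tt N6020 (iv F46875)) (tt N4152 (iv D10917)) (tt N5030 F42998))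
theorem Q5032 : ∀ i, i < 5032 → P i := stepQ 5031 Q5031 (allL N5031 (tt N5979 (iv F46682)) (tt N4235 F42999) (tt N6022 D11909) (tt N4153 (iv D10918)) (tt N4852 F43000) (tt N6021 (iv F46878)) (tt N5031 F43001) (tt N4413 F43002) (tt N5031 F43003))
theorem Q5033 : ∀ i, i < 5033 → P i := stepQ 5032 Q5032 (allL N5032 (tt N5980 (iv F46687)) (tt N4339 F43004) (tt N4154 (iv D10919)) (tt N6000 (iv F46779)) (tt N4701 (iv F43008)) (tt N4156 F43005) (tt N4341 F43006) (tt N5032 F43007) (tt N6023 D11910))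
theorem Q5034 : ∀ i, i < 5034 → P i := stepQ 5033 Q5033 (allL N5033 (tt N5981 (iv F46692)) (tt N4161 F43009) (tt N4701 F43010) (tt N5033 F43011) (tt N4154 (iv D10920)) (tt N4702 F43012) (tt N4303 F43013) (tt N5033 F43014) (tt N6024 D11911))
theorem Q5035 : ∀ i, i < 5035 → P i := stepQ 5034 Q5034 (allL N5034 (tt N5982 (iv F46699)) (tt N4162 F43015) (tt N6023 (iv F46886)) (tt N4155 F43016) (tt N6024 (iv F46894)) (tt N4157 F43017) (tt N4346 F43018) (tt N6025 D11912) (tt N4154 (iv D10921)))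
theorem Q5036 : ∀ i, i < 5036 → P i := stepQ 5035 Q5035 (allL N5035 (tt N6026 D11913) (tt N4156 (iv D10922)) (tt N4163 F43019) (tt N6003 (iv F46795)) (tt N4684 F43020) (tt N4339 F43021) (tt N4158 F43022) (tt N5035 F43023) (tt N6027 D11914))
theorem Q5037 : ∀ i, i < 5037 → P i := stepQ 5036 Q5036 (allL N5036 (tt N5984 (iv F46706)) (tt N6027 (iv F46913)) (tt N4157 F43024) (tt N6004 (iv F46801)) (tt N4546 F43025) (tt N6023 (iv F46888)) (tt N4159 F43026) (tt N6028 D11915) (tt N4156 (iv D10923)))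
theorem Q5038 : ∀ i, i < 5038 → P i := stepQ 5037 Q5037 (allL N5037 (tt N5985 (iv F46710)) (tt N4165 F43027) (tt N6028 (iv F46918)) (tt N4420 F43028) (tt N5917 (iv F46419)) (tt N6025 (iv F46902)) (tt N4160 F43029) (tt N4157 (iv D10924)) (tt N5037 F43030))
theorem Q5039 : ∀ i, i < 5039 → P i := stepQ 5038 Q5038 (allL N5038 (tt N4158 (iv D10925)) (tt N5986 (iv F46714)) (tt N4166 F43031) (tt N6007 (iv F46814)) (tt N5918 (iv F46425)) (tt N4416 F43032) (tt N6026 (iv F46911)) (tt N5038 F43033) (tt N6029 D11916))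
theorem Q5040 : ∀ i, i < 5040 → P i := stepQ 5039 Q5039 (allL N5039 (tt N6029 (iv F46923)) (tt N4159 F43034) (tt N4167 F43035) (tt N6009 (iv F46824)) (tt N5919 (iv F46432)) (tt N4417 F43036) (tt N6027 (iv F46917)) (tt N6030 D11917) (tt N4158 (iv D10926)))
theorem Q5041 : ∀ i, i < 5041 → P i := stepQ 5040 Q5040 (allL N5040 (tt N5988 (iv F46719)) (tt N6030 (iv F46926)) (tt N4160 F43037) (tt N6031 D11918) (tt N5920 (iv F46437)) (tt N4418 F43038) (tt N6028 (iv F46921)) (tt N4159 (iv D10927)) (tt N5040 F43039))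
theorem Q5042 : ∀ i, i < 5042 → P i := stepQ 5041 Q5041 (allL N5041 (tt N4960 F43040) (tt N6024 (iv F46891)) (tt N4302 F43041) (tt N5041 F43042) (tt N4162 F43043) (tt N5922 (iv F46452)) (tt N4304 F43044) (tt N6032 D11919) (tt N4161 (iv D10928)))
theorem Q5043 : ∀ i, i < 5043 → P i := stepQ 5042 Q5042 (allL N5042 (tt N5045 (iv F43059)) (tt N6025 (iv F46898)) (tt N4344 F43045) (tt N4168 F43046) (tt N6032 (iv F46936)) (tt N4165 F43047) (tt N4347 F43048) (tt N4162 (iv D10929)) (tt N5042 F43049))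
theorem Q5044 : ∀ i, i < 5044 → P i := stepQ 5043 Q5043 (allL N5043 (tt N4163 (iv D10930)) (tt N5000 F43050) (tt N6026 (iv F46908)) (tt N4240 F43051) (tt N5924 (iv F46463)) (tt N4325 F43052) (tt N4166 F43053) (tt N5043 F43054) (tt N6033 D11920))
theorem Q5045 : ∀ i, i < 5045 → P i := stepQ 5044 Q5044 (allL N5044 (tt N6033 (iv F46941)) (tt N4164 F43055) (tt N6027 (iv F46914)) (tt N4241 F43056) (tt N5925 (iv F46470)) (tt N4340 F43057) (tt N4167 F43058) (tt N6034 D11921) (tt N4163 (iv D10931)))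
theorem Q5046 : ∀ i, i < 5046 → P i := stepQ 5045 Q5045 (allL N5045 (tt N5042 F43059) (tt N6034 (iv F46946)) (tt N4165 F43060) (tt N4347 F43061) (tt N5926 (iv F46474)) (tt N4344 F43062) (tt N4168 F43063) (tt N4164 (iv D10932)) (tt N5045 F43064))
theorem Q5047 : ∀ i, i < 5047 → P i := stepQ 5046 Q5046 (allL N5046 (tt N4167 F43065) (tt N5251 (iv F43933)) (tt N6029 (iv F46924)) (tt N4242 F43066) (tt N5927 (iv F46479)) (tt N4419 F43067) (tt N6033 (iv F46945)) (tt N6035 D11922) (tt N4166 (iv D10933)))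
theorem Q5048 : ∀ i, i < 5048 → P i := stepQ 5047 Q5047 (allL N5047 (tt N6035 (iv F46951)) (tt N4168 F43068) (tt N6030 (iv F46927)) (tt N6025 (iv F46900)) (tt N5928 (iv F46482)) (tt N4420 F43069) (tt N6034 (iv F46949)) (tt N4167 (iv D10934)) (tt N5047 F43070))
theorem Q5049 : ∀ i, i < 5049 → P i := stepQ 5048 Q5048 (allL N5048 (tt N5640 (iv F45367)) (tt N4243 F43071) (tt N4170 F43072) (tt N5350 (iv F44295)) (tt N5048 F43073) (tt N6036 D11923) (tt N4169 (iv D10935)) (tt N6037 D11924) (tt N4567 F43074))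
theorem Q5050 : ∀ i, i < 5050 → P i := stepQ 5049 Q5049 (allL N5049 (tt N5930 (iv F46489)) (tt N4244 F43075) (tt N4171 F43076) (tt N6038 D11925) (tt N5049 F43077) (tt N4466 F43078) (tt N6037 (iv F46961)) (tt N4169 (iv D10936)) (tt N6039 D11926))
theorem Q5051 : ∀ i, i < 5051 → P i := stepQ 5050 Q5050 (allL N5050 (tt N5931 (iv F46494)) (tt N4186 F43079) (tt N6036 (iv F46955)) (tt N4172 F43080) (tt N6040 D11927) (tt N4170 (iv D10937)) (tt N4467 F43081) (tt N6041 D11928) (tt N4266 F43082))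
theorem Q5052 : ∀ i, i < 5052 → P i := stepQ 5051 Q5051 (allL N5051 (tt N5932 (iv F46500)) (tt N4187 F43083) (tt N6037 (iv F46959)) (tt N6042 D11929) (tt N5051 F43084) (tt N6041 (iv F46976)) (tt N4171 F43085) (tt N4170 (iv D10938)) (tt N6043 D11930))
theorem Q5053 : ∀ i, i < 5053 → P i := stepQ 5052 Q5052 (allL N5052 (tt N5933 (iv F46504)) (tt N4188 F43086) (tt N6044 D11931) (tt N4171 (iv D10939)) (tt N6045 D11932) (tt N4469 F43087) (tt N6042 (iv F46979)) (tt N4174 F43088) (tt N6046 D11933))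
theorem Q5054 : ∀ i, i < 5054 → P i := stepQ 5053 Q5053 (allL N5053 (tt N5934 (iv F46508)) (tt N4189 F43089) (tt N6039 (iv F46965)) (tt N6046 (iv F46991)) (tt N5053 F43090) (tt N4470 F43091) (tt N6043 (iv F46983)) (tt N4856 F43092) (tt N4171 (iv D10940)))
theorem Q5055 : ∀ i, i < 5055 → P i := stepQ 5054 Q5054 (allL N5054 (tt N5935 (iv F46513)) (tt N4190 F43093) (tt N5102 (iv F43266)) (tt N6047 D11934) (tt N5054 F43094) (tt N4173 F43095) (tt N4451 F43096) (tt N4172 (iv D10941)) (tt N6048 D11935))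
theorem Q5056 : ∀ i, i < 5056 → P i := stepQ 5055 Q5055 (allL N5055 (tt N5936 (iv F46518)) (tt N4191 F43097) (tt N6049 D11936) (tt N4173 (iv D10942)) (tt N6050 D11937) (tt N6047 (iv F46994)) (tt N4174 F43098) (tt N6042 (iv F46980)) (tt N6051 D11938))
theorem Q5057 : ∀ i, i < 5057 → P i := stepQ 5056 Q5056 (allL N5056 (tt N5937 (iv F46521)) (tt N4192 F43099) (tt N5355 (iv F44312)) (tt N6051 (iv F47006)) (tt N4177 F43100) (tt N6048 (iv F46998)) (tt N4175 F43101) (tt N4516 F43102) (tt N4173 (iv D10943)))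
theorem Q5058 : ∀ i, i < 5058 → P i := stepQ 5057 Q5057 (allL N5057 (tt N5938 (iv F46526)) (tt N6052 D11939) (tt N4174 (iv D10944)) (tt N5356 (iv F44316)) (tt N6053 D11940) (tt N4473 F43103) (tt N6049 (iv F47001)) (tt N6044 (iv F46986)) (tt N6054 D11941))
theorem Q5059 : ∀ i, i < 5059 → P i := stepQ 5058 Q5058 (allL N5058 (tt N5939 (iv F46528)) (tt N4194 F43104) (tt N6053 (iv F47010)) (tt N4179 F43105) (tt N4174 (iv D10945)) (tt N6055 D11942) (tt N6050 (iv F47004)) (tt N6045 (iv F46989)) (tt N6056 D11943))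
theorem Q5060 : ∀ i, i < 5060 → P i := stepQ 5059 Q5059 (allL N5059 (tt N5940 (iv F46531)) (tt N4195 F43106) (tt N6054 (iv F47011)) (tt N4175 F43107) (tt N6056 (iv F47018)) (tt N4475 F43108) (tt N6051 (iv F47007)) (tt N6057 D11944) (tt N4174 (iv D10946)))
theorem Q5061 : ∀ i, i < 5061 → P i := stepQ 5060 Q5060 (allL N5060 (tt N5638 (iv F45357)) (tt N5060 F43109) (tt N4176 (iv D10947)) (tt N5359 (iv F44325)) (tt N6058 D11945) (tt N5060 F43110) (tt N4178 F43111) (tt N5060 F43112) (tt N6059 D11946))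
theorem Q5062 : ∀ i, i < 5062 → P i := stepQ 5061 Q5061 (allL N5061 (tt N5941 (iv F46535)) (tt N4196 F43113) (tt N6058 (iv F47023)) (tt N6050 (iv F47003)) (tt N4176 (iv D10948)) (tt N6060 D11947) (tt N4179 F43114) (tt N5061 F43115) (tt N6061 D11948))
theorem Q5063 : ∀ i, i < 5063 → P i := stepQ 5062 Q5062 (allL N5062 (tt N5942 (iv F46540)) (tt N4197 F43116) (tt N6059 (iv F47027)) (tt N4177 F43117) (tt N6061 (iv F47035)) (tt N5062 F43118) (tt N4180 F43119) (tt N6062 D11949) (tt N4176 (iv D10949)))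
theorem Q5064 : ∀ i, i < 5064 → P i := stepQ 5063 Q5063 (allL N5063 (tt N5943 (iv F46545)) (tt N5063 F43120) (tt N4179 F43121) (tt N6063 D11950) (tt N4178 (iv D10950)) (tt N6064 D11951) (tt N6058 (iv F47024)) (tt N5063 F43122) (tt N6065 D11952))
theorem Q5065 : ∀ i, i < 5065 → P i := stepQ 5064 Q5064 (allL N5064 (tt N5944 (iv F46548)) (tt N5064 F43123) (tt N4180 F43124) (tt N5362 (iv F44340)) (tt N6065 (iv F47049)) (tt N4182 F43125) (tt N6059 (iv F47029)) (tt N6066 D11953) (tt N4178 (iv D10951)))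
theorem Q5066 : ∀ i, i < 5066 → P i := stepQ 5065 Q5065 (allL N5065 (tt N5945 (iv F46551)) (tt N4198 F43126) (tt N6064 (iv F47044)) (tt N6055 (iv F47014)) (tt N4183 F43127) (tt N4179 (iv D10952)) (tt N6067 D11954) (tt N5065 F43128) (tt N6068 D11955))
theorem Q5067 : ∀ i, i < 5067 → P i := stepQ 5066 Q5066 (allL N5066 (tt N5946 (iv F46555)) (tt N4199 F43129) (tt N6065 (iv F47048)) (tt N6056 (iv F47017)) (tt N4180 F43130) (tt N6068 (iv F47059)) (tt N6061 (iv F47036)) (tt N6069 D11956) (tt N4179 (iv D10953)))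
theorem Q5068 : ∀ i, i < 5068 → P i := stepQ 5067 Q5067 (allL N5067 (tt N5947 (iv F46558)) (tt N4200 F43131) (tt N6066 (iv F47051)) (tt N4864 F43132) (tt N6069 (iv F47061)) (tt N4185 F43133) (tt N6062 (iv F47040)) (tt N4180 (iv D10954)) (tt N5067 F43134))
theorem Q5069 : ∀ i, i < 5069 → P i := stepQ 5068 Q5068 (allL N5068 (tt N5948 (iv F46563)) (tt N5068 F43135) (tt N4484 F43136) (tt N4181 (iv D10955)) (tt N5366 (iv F44355)) (tt N6070 D11957) (tt N5068 F43137) (tt N6071 D11958) (tt N6072 D11959))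
theorem Q5070 : ∀ i, i < 5070 → P i := stepQ 5069 Q5069 (allL N5069 (tt N5949 (iv F46566)) (tt N5069 F43138) (tt N4183 F43139) (tt N6070 (iv F47065)) (tt N6064 (iv F47045)) (tt N4181 (iv D10956)) (tt N6073 D11960) (tt N5069 F43140) (tt N6074 D11961))
theorem Q5071 : ∀ i, i < 5071 → P i := stepQ 5070 Q5070 (allL N5070 (tt N5950 (iv F46569)) (tt N5070 F43141) (tt N4184 F43142) (tt N6072 (iv F47072)) (tt N4182 F43143) (tt N6074 (iv F47080)) (tt N5070 F43144) (tt N6075 D11962) (tt N4181 (iv D10957)))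
theorem Q5072 : ∀ i, i < 5072 → P i := stepQ 5071 Q5071 (allL N5071 (tt N5951 (iv F46573)) (tt N5071 F43145) (tt N4185 F43146) (tt N6076 D11963) (tt N6075 (iv F47083)) (tt N6066 (iv F47052)) (tt N5071 F43147) (tt N4182 (iv D10958)) (tt N5071 F43148))
theorem Q5073 : ∀ i, i < 5073 → P i := stepQ 5072 Q5072 (allL N5072 (tt N5952 (iv F46577)) (tt N4201 F43149) (tt N6073 (iv F47075)) (tt N4488 F43150) (tt N6067 (iv F47055)) (tt N5072 F43151) (tt N4183 (iv D10959)) (tt N5072 F43152) (tt N6077 D11964))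
theorem Q5074 : ∀ i, i < 5074 → P i := stepQ 5073 Q5073 (allL N5073 (tt N5953 (iv F46582)) (tt N4202 F43153) (tt N6074 (iv F47079)) (tt N4489 F43154) (tt N6068 (iv F47058)) (tt N4184 F43155) (tt N6077 (iv F47093)) (tt N6078 D11965) (tt N4183 (iv D10960)))
theorem Q5075 : ∀ i, i < 5075 → P i := stepQ 5074 Q5074 (allL N5074 (tt N5954 (iv F46586)) (tt N4203 F43156) (tt N6075 (iv F47082)) (tt N6079 D11966) (tt N4185 F43157) (tt N6078 (iv F47095)) (tt N5074 F43158) (tt N4184 (iv D10961)) (tt N5074 F43159))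
theorem Q5076 : ∀ i, i < 5076 → P i := stepQ 5075 Q5075 (allL N5075 (tt N4209 F43160) (tt N6040 (iv F46970)) (tt N4257 F43161) (tt N5075 F43162) (tt N4186 (iv D10962)) (tt N5075 F43163) (tt N4491 F43164) (tt N6080 D11967) (tt N4267 F43165))
theorem Q5077 : ∀ i, i < 5077 → P i := stepQ 5076 Q5076 (allL N5076 (tt N4210 F43166) (tt N6041 (iv F46975)) (tt N4258 F43167) (tt N6081 D11968) (tt N6080 (iv F47104)) (tt N4187 F43168) (tt N4492 F43169) (tt N4186 (iv D10963)) (tt N6082 D11969))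
theorem Q5078 : ∀ i, i < 5078 → P i := stepQ 5077 Q5077 (allL N5077 (tt N4211 F43170) (tt N6042 (iv F46978)) (tt N6083 D11970) (tt N4187 (iv D10964)) (tt N6084 D11971) (tt N6081 (iv F47111)) (tt N4188 F43171) (tt N4191 F43172) (tt N6085 D11972))
theorem Q5079 : ∀ i, i < 5079 → P i := stepQ 5078 Q5078 (allL N5078 (tt N4212 F43173) (tt N6043 (iv F46981)) (tt N4260 F43174) (tt N6085 (iv F47132)) (tt N5078 F43175) (tt N6082 (iv F47116)) (tt N4189 F43176) (tt N4569 F43177) (tt N4187 (iv D10965)))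
theorem Q5080 : ∀ i, i < 5080 → P i := stepQ 5079 Q5079 (allL N5079 (tt N4213 F43178) (tt N6086 D11973) (tt N4188 (iv D10966)) (tt N4261 F43179) (tt N6087 D11974) (tt N4495 F43180) (tt N6083 (iv F47122)) (tt N4193 F43181) (tt N6088 D11975))
theorem Q5081 : ∀ i, i < 5081 → P i := stepQ 5080 Q5080 (allL N5080 (tt N4214 F43182) (tt N6045 (iv F46987)) (tt N6087 (iv F47138)) (tt N5080 F43183) (tt N4188 (iv D10967)) (tt N6089 D11976) (tt N6084 (iv F47129)) (tt N4194 F43184) (tt N6090 D11977))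
theorem Q5082 : ∀ i, i < 5082 → P i := stepQ 5081 Q5081 (allL N5081 (tt N4215 F43185) (tt N6046 (iv F46990)) (tt N6088 (iv F47143)) (tt N4189 F43186) (tt N6090 (iv F47152)) (tt N4497 F43187) (tt N6085 (iv F47133)) (tt N6091 D11978) (tt N4188 (iv D10968)))
theorem Q5083 : ∀ i, i < 5083 → P i := stepQ 5082 Q5082 (allL N5082 (tt N4216 F43188) (tt N6047 (iv F46993)) (tt N4439 F43189) (tt N4190 (iv D10969)) (tt N6092 D11979) (tt N4191 F43190) (tt N4441 F43191) (tt N6081 (iv F47113)) (tt N6093 D11980))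
theorem Q5084 : ∀ i, i < 5084 → P i := stepQ 5083 Q5083 (allL N5083 (tt N4217 F43192) (tt N6048 (iv F46996)) (tt N4204 F43193) (tt N6093 (iv F47165)) (tt N5083 F43194) (tt N4192 F43195) (tt N4452 F43196) (tt N4208 F43197) (tt N4190 (iv D10970)))
theorem Q5085 : ∀ i, i < 5085 → P i := stepQ 5084 Q5084 (allL N5084 (tt N4218 F43198) (tt N6094 D11981) (tt N4191 (iv D10971)) (tt N4205 F43199) (tt N6095 D11982) (tt N4439 F43200) (tt N4193 F43201) (tt N6083 (iv F47123)) (tt N6096 D11983))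
theorem Q5086 : ∀ i, i < 5086 → P i := stepQ 5085 Q5085 (allL N5085 (tt N4219 F43202) (tt N6050 (iv F47002)) (tt N6095 (iv F47172)) (tt N4196 F43203) (tt N4191 (iv D10972)) (tt N6097 D11984) (tt N4194 F43204) (tt N6084 (iv F47130)) (tt N6098 D11985))
theorem Q5087 : ∀ i, i < 5087 → P i := stepQ 5086 Q5086 (allL N5086 (tt N4220 F43205) (tt N6051 (iv F47005)) (tt N6096 (iv F47178)) (tt N4192 F43206) (tt N6098 (iv F47189)) (tt N6093 (iv F47166)) (tt N4195 F43207) (tt N6099 D11986) (tt N4191 (iv D10973)))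
theorem Q5088 : ∀ i, i < 5088 → P i := stepQ 5087 Q5087 (allL N5087 (tt N6100 D11987) (tt N4193 (iv D10974)) (tt N6052 (iv F47008)) (tt N4207 F43208) (tt N6101 D11988) (tt N4500 F43209) (tt N6094 (iv F47170)) (tt N6086 (iv F47136)) (tt N6102 D11989))
theorem Q5089 : ∀ i, i < 5089 → P i := stepQ 5088 Q5088 (allL N5088 (tt N4222 F43210) (tt N6101 (iv F47197)) (tt N4194 F43211) (tt N5088 F43212) (tt N4193 (iv D10975)) (tt N6103 D11990) (tt N6095 (iv F47175)) (tt N6087 (iv F47141)) (tt N6104 D11991))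
theorem Q5090 : ∀ i, i < 5090 → P i := stepQ 5089 Q5089 (allL N5089 (tt N4223 F43213) (tt N6102 (iv F47199)) (tt N4195 F43214) (tt N4208 F43215) (tt N6104 (iv F47209)) (tt N4502 F43216) (tt N6096 (iv F47181)) (tt N6105 D11992) (tt N4193 (iv D10976)))
theorem Q5091 : ∀ i, i < 5091 → P i := stepQ 5090 Q5090 (allL N5090 (tt N4224 F43217) (tt N6055 (iv F47013)) (tt N6103 (iv F47203)) (tt N4198 F43218) (tt N4503 F43219) (tt N4194 (iv D10977)) (tt N6106 D11993) (tt N6089 (iv F47149)) (tt N6107 D11994))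
theorem Q5092 : ∀ i, i < 5092 → P i := stepQ 5091 Q5091 (allL N5091 (tt N4225 F43220) (tt N6056 (iv F47016)) (tt N6104 (iv F47207)) (tt N4199 F43221) (tt N4195 F43222) (tt N6107 (iv F47219)) (tt N6098 (iv F47190)) (tt N6108 D11995) (tt N4194 (iv D10978)))
theorem Q5093 : ∀ i, i < 5093 → P i := stepQ 5092 Q5092 (allL N5092 (tt N4226 F43223) (tt N6057 (iv F47019)) (tt N6105 (iv F47211)) (tt N4876 F43224) (tt N6108 (iv F47221)) (tt N4505 F43225) (tt N6099 (iv F47193)) (tt N4195 (iv D10979)) (tt N6091 (iv F47156)))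
theorem Q5094 : ∀ i, i < 5094 → P i := stepQ 5093 Q5093 (allL N5093 (tt N4227 F43226) (tt N6060 (iv F47031)) (tt N5093 F43227) (tt N6097 (iv F47184)) (tt N5093 F43228) (tt N4196 (iv D10980)) (tt N6109 D11996) (tt N5093 F43229) (tt N6110 D11997))
theorem Q5095 : ∀ i, i < 5095 → P i := stepQ 5094 Q5094 (allL N5094 (tt N4228 F43230) (tt N6061 (iv F47034)) (tt N5094 F43231) (tt N6098 (iv F47188)) (tt N4197 F43232) (tt N6110 (iv F47230)) (tt N4199 F43233) (tt N6111 D11998) (tt N4196 (iv D10981)))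
theorem Q5096 : ∀ i, i < 5096 → P i := stepQ 5095 Q5095 (allL N5095 (tt N4229 F43234) (tt N6062 (iv F47037)) (tt N5095 F43235) (tt N4606 F43236) (tt N6111 (iv F47233)) (tt N5095 F43237) (tt N4200 F43238) (tt N4197 (iv D10982)) (tt N5095 F43239))
theorem Q5097 : ∀ i, i < 5097 → P i := stepQ 5096 Q5096 (allL N5096 (tt N4230 F43240) (tt N6067 (iv F47054)) (tt N5096 F43241) (tt N6106 (iv F47214)) (tt N4201 F43242) (tt N6109 (iv F47225)) (tt N4198 (iv D10983)) (tt N5096 F43243) (tt N6112 D11999))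
theorem Q5098 : ∀ i, i < 5098 → P i := stepQ 5097 Q5097 (allL N5097 (tt N4231 F43244) (tt N6068 (iv F47057)) (tt N5097 F43245) (tt N6107 (iv F47217)) (tt N4202 F43246) (tt N4199 F43247) (tt N6112 (iv F47239)) (tt N6113 D12000) (tt N4198 (iv D10984)))
theorem Q5099 : ∀ i, i < 5099 → P i := stepQ 5098 Q5098 (allL N5098 (tt N4232 F43248) (tt N6069 (iv F47060)) (tt N5098 F43249) (tt N6114 D12001) (tt N4200 F43250) (tt N6113 (iv F47243)) (tt N6111 (iv F47234)) (tt N4199 (iv D10985)) (tt N5098 F43251))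
theorem Q5100 : ∀ i, i < 5100 → P i := stepQ 5099 Q5099 (allL N5099 (tt N4233 F43252) (tt N6077 (iv F47090)) (tt N5099 F43253) (tt N4512 F43254) (tt N6112 (iv F47238)) (tt N5099 F43255) (tt N4202 F43256) (tt N6115 D12002) (tt N4201 (iv D10986)))
theorem Q5101 : ∀ i, i < 5101 → P i := stepQ 5100 Q5100 (allL N5100 (tt N4234 F43257) (tt N6078 (iv F47094)) (tt N5100 F43258) (tt N6116 D12003) (tt N6113 (iv F47242)) (tt N4203 F43259) (tt N6115 (iv F47251)) (tt N4202 (iv D10987)) (tt N5100 F43260))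
theorem Q5102 : ∀ i, i < 5102 → P i := stepQ 5101 Q5101 (allL N5101 (tt N4235 F43261) (tt N6079 (iv F47097)) (tt N6117 D12004) (tt N4203 (iv D10988)) (tt N4882 F43262) (tt N6116 (iv F47254)) (tt N5101 F43263) (tt N4514 F43264) (tt N5101 F43265))
theorem Q5103 : ∀ i, i < 5103 → P i := stepQ 5102 Q5102 (allL N5102 (tt N6118 D12005) (tt N4205 (iv D10989)) (tt N5054 F43266) (tt N6094 (iv F47168)) (tt N5102 F43267) (tt N4424 F43268) (tt N4207 F43269) (tt N4268 F43270) (tt N6119 D12006))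
theorem Q5104 : ∀ i, i < 5104 → P i := stepQ 5103 Q5103 (allL N5103 (tt N4237 F43271) (tt N6119 (iv F47269)) (tt N4206 F43272) (tt N6096 (iv F47179)) (tt N5103 F43273) (tt N4440 F43274) (tt N4208 F43275) (tt N4452 F43276) (tt N4205 (iv D10990)))
theorem Q5105 : ∀ i, i < 5105 → P i := stepQ 5104 Q5104 (allL N5104 (tt N4207 (iv D10991)) (tt N4238 F43277) (tt N5259 (iv F43965)) (tt N6100 (iv F47195)) (tt N5104 F43278) (tt N4515 F43279) (tt N6118 (iv F47267)) (tt N4269 F43280) (tt N6120 D12007))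
theorem Q5106 : ∀ i, i < 5106 → P i := stepQ 5105 Q5105 (allL N5105 (tt N6120 (iv F47275)) (tt N4208 F43281) (tt N5386 (iv F44426)) (tt N6102 (iv F47200)) (tt N5105 F43282) (tt N4516 F43283) (tt N6119 (iv F47273)) (tt N6048 (iv F47000)) (tt N4207 (iv D10992)))
theorem Q5107 : ∀ i, i < 5107 → P i := stepQ 5106 Q5106 (allL N5106 (tt N6080 (iv F47102)) (tt N4700 F43284) (tt N4270 F43285) (tt N4298 F43289) (tt N4210 F43286) (tt N5106 F43287) (tt N4517 F43288) (tt N4209 (iv D10993)) (tt N6121 D12008))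
theorem Q5108 : ∀ i, i < 5108 → P i := stepQ 5107 Q5107 (allL N5107 (tt N6081 (iv F47108)) (tt N5989 (iv F46723)) (tt N4334 F43290) (tt N4210 (iv D10994)) (tt N4333 F43291) (tt N4211 F43292) (tt N4453 F43293) (tt N4216 F43294) (tt N6122 D12009))
theorem Q5109 : ∀ i, i < 5109 → P i := stepQ 5108 Q5108 (allL N5108 (tt N6082 (iv F47114)) (tt N5990 (iv F46729)) (tt N4271 F43295) (tt N6122 (iv F47287)) (tt N6121 (iv F47282)) (tt N4212 F43296) (tt N4518 F43297) (tt N4277 F43298) (tt N4210 (iv D10995)))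
theorem Q5110 : ∀ i, i < 5110 → P i := stepQ 5109 Q5109 (allL N5109 (tt N6083 (iv F47119)) (tt N4458 (iv F43303)) (tt N4211 (iv D10996)) (tt N4272 F43299) (tt N4844 (iv F43304)) (tt N4334 F43300) (tt N4213 F43301) (tt N4218 F43302) (tt N6123 D12010))
theorem Q5111 : ∀ i, i < 5111 → P i := stepQ 5110 Q5110 (allL N5110 (tt N6084 (iv F47125)) (tt N5992 (iv F46741)) (tt N4844 F43305) (tt N5110 F43306) (tt N4211 (iv D10997)) (tt N4842 F43307) (tt N4214 F43308) (tt N4219 F43309) (tt N6124 D12011))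
theorem Q5112 : ∀ i, i < 5112 → P i := stepQ 5111 Q5111 (allL N5111 (tt N6085 (iv F47131)) (tt N5993 (iv F46747)) (tt N6123 (iv F47292)) (tt N4212 F43310) (tt N6124 (iv F47299)) (tt N6122 (iv F47289)) (tt N4215 F43311) (tt N6125 D12012) (tt N4211 (iv D10998)))
theorem Q5113 : ∀ i, i < 5113 → P i := stepQ 5112 Q5112 (allL N5112 (tt N6126 D12013) (tt N4213 (iv D10999)) (tt N5994 (iv F46750)) (tt N4275 F43312) (tt N4886 (iv F43316)) (tt N4521 F43313) (tt N4458 F43314) (tt N4221 F43315) (tt N6127 D12014))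
theorem Q5114 : ∀ i, i < 5114 → P i := stepQ 5113 Q5113 (allL N5113 (tt N6087 (iv F47137)) (tt N4886 F43317) (tt N4214 F43318) (tt N4847 F43319) (tt N4213 (iv D11000)) (tt N6128 D12015) (tt N4844 F43320) (tt N4222 F43321) (tt N6129 D12016))
theorem Q5115 : ∀ i, i < 5115 → P i := stepQ 5114 Q5114 (allL N5114 (tt N6088 (iv F47142)) (tt N6127 (iv F47310)) (tt N4215 F43322) (tt N4277 F43323) (tt N6129 (iv F47324)) (tt N4523 F43324) (tt N6123 (iv F47296)) (tt N6130 D12017) (tt N4213 (iv D11001)))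
theorem Q5116 : ∀ i, i < 5116 → P i := stepQ 5115 Q5115 (allL N5115 (tt N6089 (iv F47146)) (tt N5997 (iv F46765)) (tt N6128 (iv F47316)) (tt N5115 F43325) (tt N4524 F43326) (tt N4214 (iv D11002)) (tt N6131 D12018) (tt N4224 F43327) (tt N6132 D12019))
theorem Q5117 : ∀ i, i < 5117 → P i := stepQ 5116 Q5116 (allL N5116 (tt N6090 (iv F47150)) (tt N5998 (iv F46771)) (tt N6129 (iv F47322)) (tt N5116 F43328) (tt N4215 F43329) (tt N6132 (iv F47337)) (tt N6124 (iv F47301)) (tt N6133 D12020) (tt N4214 (iv D11003)))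
theorem Q5118 : ∀ i, i < 5118 → P i := stepQ 5117 Q5117 (allL N5117 (tt N6091 (iv F47153)) (tt N5999 (iv F46774)) (tt N6130 (iv F47326)) (tt N4885 F43330) (tt N6133 (iv F47338)) (tt N4526 F43331) (tt N6125 (iv F47303)) (tt N4215 (iv D11004)) (tt N4226 F43332))
theorem Q5119 : ∀ i, i < 5119 → P i := stepQ 5118 Q5118 (allL N5118 (tt N6092 (iv F47157)) (tt N6001 (iv F46784)) (tt N4329 F43333) (tt N5118 F43334) (tt N4216 (iv D11005)) (tt N4839 (iv F43337)) (tt N4456 F43335) (tt N4333 F43336) (tt N6134 D12021))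
theorem Q5120 : ∀ i, i < 5120 → P i := stepQ 5119 Q5119 (allL N5119 (tt N6093 (iv F47163)) (tt N6002 (iv F46790)) (tt N4455 F43338) (tt N4217 F43339) (tt N6134 (iv F47342)) (tt N4220 F43340) (tt N4457 F43341) (tt N6135 D12022) (tt N4216 (iv D11006)))
theorem Q5121 : ∀ i, i < 5121 → P i := stepQ 5120 Q5120 (allL N5120 (tt N6136 D12023) (tt N4218 (iv D11007)) (tt N6003 (iv F46794)) (tt N4236 F43342) (tt N4883 (iv F43346)) (tt N4331 F43343) (tt N4221 F43344) (tt N4458 F43345) (tt N6137 D12024))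
theorem Q5122 : ∀ i, i < 5122 → P i := stepQ 5121 Q5121 (allL N5121 (tt N6095 (iv F47171)) (tt N4883 F43347) (tt N4219 F43348) (tt N5121 F43349) (tt N4218 (iv D11008)) (tt N4840 F43350) (tt N4222 F43351) (tt N4844 F43352) (tt N6138 D12025))
theorem Q5123 : ∀ i, i < 5123 → P i := stepQ 5122 Q5122 (allL N5122 (tt N6096 (iv F47177)) (tt N6137 (iv F47354)) (tt N4220 F43353) (tt N4237 F43354) (tt N6138 (iv F47362)) (tt N4455 F43355) (tt N4223 F43356) (tt N6139 D12026) (tt N4218 (iv D11009)))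
theorem Q5124 : ∀ i, i < 5124 → P i := stepQ 5123 Q5123 (allL N5123 (tt N6097 (iv F47182)) (tt N4745 F43357) (tt N4840 F43358) (tt N4227 F43359) (tt N4839 F43360) (tt N4219 (iv D11010)) (tt N6140 D12027) (tt N4842 F43361) (tt N6141 D12028))
theorem Q5125 : ∀ i, i < 5125 → P i := stepQ 5124 Q5124 (allL N5124 (tt N6098 (iv F47187)) (tt N6005 (iv F46804)) (tt N6138 (iv F47360)) (tt N4228 F43362) (tt N4220 F43363) (tt N6141 (iv F47379)) (tt N4225 F43364) (tt N6142 D12029) (tt N4219 (iv D11011)))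
theorem Q5126 : ∀ i, i < 5126 → P i := stepQ 5125 Q5125 (allL N5125 (tt N6099 (iv F47191)) (tt N6006 (iv F46810)) (tt N6139 (iv F47365)) (tt N4535 F43365) (tt N6142 (iv F47380)) (tt N6135 (iv F47347)) (tt N4226 F43366) (tt N4220 (iv D11012)) (tt N6125 (iv F47304)))
theorem Q5127 : ∀ i, i < 5127 → P i := stepQ 5126 Q5126 (allL N5126 (tt N4221 (iv D11013)) (tt N6100 (iv F47194)) (tt N6007 (iv F46813)) (tt N4238 F43367) (tt N6143 D12030) (tt N4530 F43368) (tt N6136 (iv F47352)) (tt N6126 (iv F47309)) (tt N6144 D12031))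
theorem Q5128 : ∀ i, i < 5128 → P i := stepQ 5127 Q5127 (allL N5127 (tt N6143 (iv F47382)) (tt N4222 F43369) (tt N6008 (iv F46817)) (tt N5127 F43370) (tt N4221 (iv D11014)) (tt N6145 D12032) (tt N4883 F43371) (tt N4886 F43372) (tt N6146 D12033))
theorem Q5129 : ∀ i, i < 5129 → P i := stepQ 5128 Q5128 (allL N5128 (tt N6144 (iv F47386)) (tt N4223 F43373) (tt N6009 (iv F46823)) (tt N4239 F43374) (tt N6146 (iv F47397)) (tt N4532 F43375) (tt N6137 (iv F47358)) (tt N6147 D12034) (tt N4221 (iv D11015)))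
theorem Q5130 : ∀ i, i < 5130 → P i := stepQ 5129 Q5129 (allL N5129 (tt N6103 (iv F47202)) (tt N6145 (iv F47389)) (tt N4224 F43376) (tt N5129 F43377) (tt N4533 F43378) (tt N4222 (iv D11016)) (tt N6148 D12035) (tt N6128 (iv F47320)) (tt N6149 D12036))
theorem Q5131 : ∀ i, i < 5131 → P i := stepQ 5130 Q5130 (allL N5130 (tt N6104 (iv F47206)) (tt N6146 (iv F47395)) (tt N4225 F43379) (tt N5130 F43380) (tt N4223 F43381) (tt N6149 (iv F47410)) (tt N6138 (iv F47364)) (tt N6150 D12037) (tt N4222 (iv D11017)))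
theorem Q5132 : ∀ i, i < 5132 → P i := stepQ 5131 Q5131 (allL N5131 (tt N6105 (iv F47210)) (tt N6147 (iv F47399)) (tt N4226 F43382) (tt N6135 (iv F47346)) (tt N6150 (iv F47412)) (tt N4535 F43383) (tt N6139 (iv F47368)) (tt N4223 (iv D11018)) (tt N6130 (iv F47328)))
theorem Q5133 : ∀ i, i < 5133 → P i := stepQ 5132 Q5132 (allL N5132 (tt N6106 (iv F47213)) (tt N6013 (iv F46838)) (tt N6148 (iv F47402)) (tt N4230 F43384) (tt N4536 F43385) (tt N6140 (iv F47373)) (tt N4224 (iv D11019)) (tt N6131 (iv F47334)) (tt N6151 D12038))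
theorem Q5134 : ∀ i, i < 5134 → P i := stepQ 5133 Q5133 (allL N5133 (tt N6107 (iv F47216)) (tt N6014 (iv F46844)) (tt N6149 (iv F47407)) (tt N4231 F43386) (tt N4537 F43387) (tt N4225 F43388) (tt N6151 (iv F47415)) (tt N6152 D12039) (tt N4224 (iv D11020)))
theorem Q5135 : ∀ i, i < 5135 → P i := stepQ 5134 Q5134 (allL N5134 (tt N6108 (iv F47220)) (tt N6015 (iv F46848)) (tt N6150 (iv F47411)) (tt N6153 D12040) (tt N4226 F43389) (tt N6152 (iv F47417)) (tt N6142 (iv F47381)) (tt N4225 (iv D11021)) (tt N6133 (iv F47339)))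
theorem Q5136 : ∀ i, i < 5136 → P i := stepQ 5135 Q5135 (allL N5135 (tt N6109 (iv F47222)) (tt N4805 F43390) (tt N5135 F43391) (tt N6140 (iv F47371)) (tt N5135 F43392) (tt N4230 F43393) (tt N4227 (iv D11022)) (tt N5135 F43394) (tt N6154 D12041))
theorem Q5137 : ∀ i, i < 5137 → P i := stepQ 5136 Q5136 (allL N5136 (tt N6110 (iv F47227)) (tt N4636 F43395) (tt N5136 F43396) (tt N6141 (iv F47377)) (tt N5136 F43397) (tt N4228 F43398) (tt N6154 (iv F47424)) (tt N6155 D12042) (tt N4227 (iv D11023)))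
theorem Q5138 : ∀ i, i < 5138 → P i := stepQ 5137 Q5137 (allL N5137 (tt N6111 (iv F47231)) (tt N6016 (iv F46850)) (tt N5137 F43399) (tt N6156 D12043) (tt N4229 F43400) (tt N6155 (iv F47429)) (tt N4232 F43401) (tt N4228 (iv D11024)) (tt N5137 F43402))
theorem Q5139 : ∀ i, i < 5139 → P i := stepQ 5138 Q5138 (allL N5138 (tt N6112 (iv F47236)) (tt N6017 (iv F46856)) (tt N5138 F43403) (tt N6151 (iv F47413)) (tt N4233 F43404) (tt N6154 (iv F47423)) (tt N4231 F43405) (tt N6157 D12044) (tt N4230 (iv D11025)))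
theorem Q5140 : ∀ i, i < 5140 → P i := stepQ 5139 Q5139 (allL N5139 (tt N6113 (iv F47240)) (tt N6018 (iv F46862)) (tt N5139 F43406) (tt N6158 D12045) (tt N4234 F43407) (tt N4232 F43408) (tt N6157 (iv F47439)) (tt N4231 (iv D11026)) (tt N5139 F43409))
theorem Q5141 : ∀ i, i < 5141 → P i := stepQ 5140 Q5140 (allL N5140 (tt N6114 (iv F47245)) (tt N6019 (iv F46868)) (tt N6159 D12046) (tt N4232 (iv D11027)) (tt N4891 F43410) (tt N6158 (iv F47441)) (tt N6156 (iv F47433)) (tt N6153 (iv F47419)) (tt N5140 F43411))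
theorem Q5142 : ∀ i, i < 5142 → P i := stepQ 5141 Q5141 (allL N5141 (tt N6115 (iv F47248)) (tt N6020 (iv F46871)) (tt N5141 F43412) (tt N5920 (iv F46436)) (tt N6157 (iv F47437)) (tt N5141 F43413) (tt N4234 F43414) (tt N4233 (iv D11028)) (tt N5141 F43415))
theorem Q5143 : ∀ i, i < 5143 → P i := stepQ 5142 Q5142 (allL N5142 (tt N6116 (iv F47253)) (tt N6021 (iv F46877)) (tt N5917 (iv F46417)) (tt N4234 (iv D11029)) (tt N6028 (iv F46919)) (tt N4235 F43416) (tt N5920 (iv F46439)) (tt N4546 F43417) (tt N5142 F43418))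
theorem Q5144 : ∀ i, i < 5144 → P i := stepQ 5143 Q5143 (allL N5143 (tt N6117 (iv F47257)) (tt N5923 (iv F46455)) (tt N4235 (iv D11030)) (tt N5143 F43419) (tt N4894 F43420) (tt N5917 (iv F46420)) (tt N5143 F43421) (tt N4547 F43422) (tt N5143 F43423))
theorem Q5145 : ∀ i, i < 5145 → P i := stepQ 5144 Q5144 (allL N5144 (tt N4236 (iv D11031)) (tt N6118 (iv F47263)) (tt N4240 F43424) (tt N6136 (iv F47349)) (tt N5144 F43425) (tt N4316 F43426) (tt N4238 F43427) (tt N4280 F43428) (tt N6160 D12047))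
theorem Q5146 : ∀ i, i < 5146 → P i := stepQ 5145 Q5145 (allL N5145 (tt N6160 (iv F47446)) (tt N4237 F43429) (tt N4241 F43430) (tt N6137 (iv F47355)) (tt N5145 F43431) (tt N4332 F43432) (tt N4239 F43433) (tt N4396 F43434) (tt N4236 (iv D11032)))
theorem Q5147 : ∀ i, i < 5147 → P i := stepQ 5146 Q5146 (allL N5146 (tt N4239 F43435) (tt N6120 (iv F47276)) (tt N4242 F43436) (tt N6144 (iv F47387)) (tt N5146 F43437) (tt N4548 F43438) (tt N6160 (iv F47450)) (tt N5962 (iv F46622)) (tt N4238 (iv D11033)))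
theorem Q5148 : ∀ i, i < 5148 → P i := stepQ 5147 Q5147 (allL N5147 (tt N4241 F43439) (tt N5001 F43440) (tt N6160 (iv F47447)) (tt N6033 (iv F46943)) (tt N5147 F43441) (tt N4326 F43442) (tt N4242 F43443) (tt N4383 F43444) (tt N4240 (iv D11034)))
theorem Q5149 : ∀ i, i < 5149 → P i := stepQ 5148 Q5148 (allL N5148 (tt N5148 F43445) (tt N6036 (iv F46954)) (tt N4245 F43446) (tt N5159 (iv F43494)) (tt N6161 D12048) (tt N4243 (iv D11035)) (tt N4554 F43447) (tt N6162 D12049) (tt N4250 F43448))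
theorem Q5150 : ∀ i, i < 5150 → P i := stepQ 5149 Q5149 (allL N5149 (tt N5149 F43449) (tt N6037 (iv F46958)) (tt N4246 F43450) (tt N6163 D12050) (tt N5149 F43451) (tt N6162 (iv F47459)) (tt N4244 F43452) (tt N4243 (iv D11036)) (tt N6164 D12051))
theorem Q5151 : ∀ i, i < 5151 → P i := stepQ 5150 Q5150 (allL N5150 (tt N5150 F43453) (tt N6038 (iv F46962)) (tt N6165 D12052) (tt N4244 (iv D11037)) (tt N6166 D12053) (tt N4562 F43454) (tt N6163 (iv F47462)) (tt N5503 (iv F44791)) (tt N6167 D12054))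
theorem Q5152 : ∀ i, i < 5152 → P i := stepQ 5151 Q5151 (allL N5151 (tt N5151 F43455) (tt N6039 (iv F46964)) (tt N4248 F43456) (tt N6167 (iv F47474)) (tt N5151 F43457) (tt N4563 F43458) (tt N6164 (iv F47466)) (tt N4896 F43459) (tt N4244 (iv D11038)))
theorem Q5153 : ∀ i, i < 5153 → P i := stepQ 5152 Q5152 (allL N5152 (tt N5152 F43460) (tt N4257 F43461) (tt N6161 (iv F47453)) (tt N4256 F43462) (tt N4245 (iv D11039)) (tt N5152 F43463) (tt N4555 F43464) (tt N6168 D12055) (tt N4251 F43465))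
theorem Q5154 : ∀ i, i < 5154 → P i := stepQ 5153 Q5153 (allL N5153 (tt N5153 F43466) (tt N4258 F43467) (tt N6162 (iv F47458)) (tt N4551 F43468) (tt N6168 (iv F47479)) (tt N4246 F43469) (tt N4552 F43470) (tt N4245 (iv D11040)) (tt N6169 D12056))
theorem Q5155 : ∀ i, i < 5155 → P i := stepQ 5154 Q5154 (allL N5154 (tt N5154 F43471) (tt N4259 F43472) (tt N6170 D12057) (tt N4246 (iv D11041)) (tt N6171 D12058) (tt N4551 F43473) (tt N4247 F43474) (tt N4249 F43475) (tt N6172 D12059))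
theorem Q5156 : ∀ i, i < 5156 → P i := stepQ 5155 Q5155 (allL N5155 (tt N5155 F43476) (tt N4260 F43477) (tt N6164 (iv F47464)) (tt N6172 (iv F47500)) (tt N5155 F43478) (tt N6169 (iv F47485)) (tt N4248 F43479) (tt N4566 F43480) (tt N4246 (iv D11042)))
theorem Q5157 : ∀ i, i < 5157 → P i := stepQ 5156 Q5156 (allL N5156 (tt N5156 F43481) (tt N6173 D12060) (tt N4247 (iv D11043)) (tt N6165 (iv F47469)) (tt N6174 D12061) (tt N4565 F43482) (tt N6170 (iv F47490)) (tt N4250 F43483) (tt N6175 D12062))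
theorem Q5158 : ∀ i, i < 5158 → P i := stepQ 5157 Q5157 (allL N5157 (tt N5157 F43484) (tt N4262 F43485) (tt N6174 (iv F47508)) (tt N5157 F43486) (tt N4247 (iv D11044)) (tt N5157 F43487) (tt N6171 (iv F47496)) (tt N4251 F43488) (tt N6176 D12063))
theorem Q5159 : ∀ i, i < 5159 → P i := stepQ 5158 Q5158 (allL N5158 (tt N5158 F43489) (tt N4263 F43490) (tt N6175 (iv F47512)) (tt N4248 F43491) (tt N6176 (iv F47517)) (tt N4566 F43492) (tt N6172 (iv F47502)) (tt N6169 (iv F47487)) (tt N4247 (iv D11045)))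
theorem Q5160 : ∀ i, i < 5160 → P i := stepQ 5159 Q5159 (allL N5159 (tt N5159 F43493) (tt N6177 D12064) (tt N4249 (iv D11046)) (tt N5148 F43494) (tt N6178 D12065) (tt N4549 F43495) (tt N4250 F43496) (tt N6170 (iv F47491)) (tt N4554 F43497))
theorem Q5161 : ∀ i, i < 5161 → P i := stepQ 5160 Q5160 (allL N5160 (tt N5160 F43498) (tt N4265 F43499) (tt N6178 (iv F47528)) (tt N4253 F43500) (tt N4249 (iv D11047)) (tt N4638 F43501) (tt N4251 F43502) (tt N6171 (iv F47497)) (tt N4555 F43503))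
theorem Q5162 : ∀ i, i < 5162 → P i := stepQ 5161 Q5161 (allL N5161 (tt N6179 D12066) (tt N4250 (iv D11048)) (tt N4266 F43504) (tt N5398 (iv F44463)) (tt N6180 D12067) (tt N4567 F43505) (tt N6177 (iv F47522)) (tt N6173 (iv F47506)) (tt N6036 (iv F46957)))
theorem Q5163 : ∀ i, i < 5163 → P i := stepQ 5162 Q5162 (allL N5162 (tt N5162 F43506) (tt N6180 (iv F47538)) (tt N4251 F43507) (tt N6181 D12068) (tt N4250 (iv D11049)) (tt N5162 F43508) (tt N6178 (iv F47530)) (tt N6174 (iv F47510)) (tt N6161 (iv F47456)))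
theorem Q5164 : ∀ i, i < 5164 → P i := stepQ 5163 Q5163 (allL N5163 (tt N5163 F43509) (tt N5163 F43510) (tt N4253 F43511) (tt N5750 F45819) (tt N4252 (iv D11050)) (tt N4812 F43512) (tt N4254 F43513) (tt N5163 F43514) (tt N4556 F43515))
theorem Q5165 : ∀ i, i < 5165 → P i := stepQ 5164 Q5164 (allL N5164 (tt N5164 F43516) (tt N5164 F43517) (tt N6181 (iv F47543)) (tt N4254 (iv D11051)) (tt N4809 F43518) (tt N5164 F43519) (tt N5750 (iv F45817)) (tt N4806 (iv F43520)) (tt N5749 (iv F45812)))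
theorem Q5166 : ∀ i, i < 5166 → P i := stepQ 5165 Q5165 (allL N5165 (tt N5165 F43521) (tt N5165 F43522) (tt N4256 F43523) (tt N5749 (iv F45809)) (tt N4255 F43524) (tt N5165 F43525) (tt N4556 F43526) (tt N4753 (iv F43527)) (tt N4254 (iv D11052)))
theorem Q5167 : ∀ i, i < 5167 → P i := stepQ 5166 Q5166 (allL N5166 (tt N4270 F43528) (tt N6168 (iv F47477)) (tt N6080 (iv F47103)) (tt N4285 F43529) (tt N4258 F43530) (tt N5166 F43531) (tt N4558 F43532) (tt N4257 (iv D11053)) (tt N6182 D12069))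
theorem Q5168 : ∀ i, i < 5168 → P i := stepQ 5167 Q5167 (allL N5167 (tt N4271 F43533) (tt N6169 (iv F47483)) (tt N6082 (iv F47115)) (tt N4557 F43534) (tt N6182 (iv F47549)) (tt N4260 F43535) (tt N4559 F43536) (tt N4263 F43537) (tt N4258 (iv D11054)))
theorem Q5169 : ∀ i, i < 5169 → P i := stepQ 5168 Q5168 (allL N5168 (tt N4272 F43538) (tt N6183 D12070) (tt N4259 (iv D11055)) (tt N6083 (iv F47120)) (tt N4322 (iv F43542)) (tt N4320 F43539) (tt N4261 F43540) (tt N4264 F43541) (tt N6184 D12071))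
theorem Q5170 : ∀ i, i < 5170 → P i := stepQ 5169 Q5169 (allL N5169 (tt N4273 F43543) (tt N6171 (iv F47493)) (tt N4322 F43544) (tt N5169 F43545) (tt N4259 (iv D11056)) (tt N4287 F43546) (tt N4262 F43547) (tt N4265 F43548) (tt N6185 D12072))
theorem Q5171 : ∀ i, i < 5171 → P i := stepQ 5170 Q5170 (allL N5170 (tt N4274 F43549) (tt N6172 (iv F47499)) (tt N6184 (iv F47559)) (tt N4260 F43550) (tt N6185 (iv F47567)) (tt N4557 F43551) (tt N4263 F43552) (tt N4559 F43553) (tt N4259 (iv D11057)))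
theorem Q5172 : ∀ i, i < 5172 → P i := stepQ 5171 Q5171 (allL N5171 (tt N6186 D12073) (tt N4261 (iv D11058)) (tt N6173 (iv F47504)) (tt N6086 (iv F47134)) (tt N6187 D12074) (tt N4568 F43554) (tt N6183 (iv F47556)) (tt N4266 F43555) (tt N6188 D12075))
theorem Q5173 : ∀ i, i < 5173 → P i := stepQ 5172 Q5172 (allL N5172 (tt N4276 F43556) (tt N6187 (iv F47577)) (tt N4262 F43557) (tt N4833 (iv F43561)) (tt N4261 (iv D11059)) (tt N5172 F43558) (tt N4322 F43559) (tt N4267 F43560) (tt N6189 D12076))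
theorem Q5174 : ∀ i, i < 5174 → P i := stepQ 5173 Q5173 (allL N5173 (tt N4277 F43562) (tt N6188 (iv F47582)) (tt N4263 F43563) (tt N6088 (iv F47144)) (tt N6189 (iv F47587)) (tt N4569 F43564) (tt N6184 (iv F47562)) (tt N6082 (iv F47118)) (tt N4261 (iv D11060)))
theorem Q5175 : ∀ i, i < 5175 → P i := stepQ 5174 Q5174 (allL N5174 (tt N4278 F43565) (tt N6176 (iv F47515)) (tt N6189 (iv F47585)) (tt N5174 F43566) (tt N4263 F43567) (tt N5174 F43568) (tt N6185 (iv F47569)) (tt N6182 (iv F47552)) (tt N4262 (iv D11061)))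
theorem Q5176 : ∀ i, i < 5176 → P i := stepQ 5175 Q5175 (allL N5175 (tt N4689 F43569) (tt N4264 (iv D11062)) (tt N6177 (iv F47519)) (tt N4268 F43570) (tt N4643 F43571) (tt N4422 F43572) (tt N4266 F43573) (tt N6183 (iv F47557)) (tt N4467 F43574))
theorem Q5177 : ∀ i, i < 5177 → P i := stepQ 5176 Q5176 (allL N5176 (tt N4266 (iv D11063)) (tt N4279 F43575) (tt N6179 (iv F47533)) (tt N4269 F43576) (tt N4694 (iv F43579)) (tt N4570 F43577) (tt N4689 F43578) (tt N6186 (iv F47574)) (tt N5931 (iv F46498)))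
theorem Q5178 : ∀ i, i < 5178 → P i := stepQ 5177 Q5177 (allL N5177 (tt N4694 F43580) (tt N4267 F43581) (tt N6180 (iv F47539)) (tt N5177 F43582) (tt N4266 (iv D11064)) (tt N5177 F43583) (tt N4643 F43584) (tt N6187 (iv F47580)) (tt N6040 (iv F46974)))
theorem Q5179 : ∀ i, i < 5179 → P i := stepQ 5178 Q5178 (allL N5178 (tt N4268 (iv D11065)) (tt N4280 F43585) (tt N4968 F43586) (tt N4689 F43587) (tt N5178 F43588) (tt N4307 F43589) (tt N4269 F43590) (tt N6118 (iv F47268)) (tt N4351 F43591))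
theorem Q5180 : ∀ i, i < 5180 → P i := stepQ 5179 Q5179 (allL N5179 (tt N6182 (iv F47547)) (tt N5179 F43592) (tt N6121 (iv F47280)) (tt N4293 F43593) (tt N4271 F43594) (tt N5179 F43595) (tt N4560 F43596) (tt N4278 F43597) (tt N4270 (iv D11066)))
theorem Q5181 : ∀ i, i < 5181 → P i := stepQ 5180 Q5180 (allL N5180 (tt N6184 (iv F47558)) (tt N4461 F43598) (tt N4274 F43599) (tt N6123 (iv F47293)) (tt N4337 F43600) (tt N4336 F43601) (tt N4277 F43602) (tt N4518 F43603) (tt N4272 (iv D11067)))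
theorem Q5182 : ∀ i, i < 5182 → P i := stepQ 5181 Q5181 (allL N5181 (tt N6185 (iv F47564)) (tt N5181 F43604) (tt N4337 F43605) (tt N5181 F43606) (tt N4274 F43607) (tt N4294 F43608) (tt N4278 F43609) (tt N4560 F43610) (tt N4273 (iv D11068)))
theorem Q5183 : ∀ i, i < 5183 → P i := stepQ 5182 Q5182 (allL N5182 (tt N4275 (iv D11069)) (tt N6186 (iv F47571)) (tt N5182 F43611) (tt N6126 (iv F47305)) (tt N4448 F43612) (tt N4571 F43613) (tt N4445 F43614) (tt N4279 F43615) (tt N6190 D12077))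
theorem Q5184 : ∀ i, i < 5184 → P i := stepQ 5183 Q5183 (allL N5183 (tt N6190 (iv F47590)) (tt N4277 F43616) (tt N5183 F43617) (tt N6127 (iv F47311)) (tt N4462 F43618) (tt N4572 F43619) (tt N4461 F43620) (tt N5990 (iv F46734)) (tt N4275 (iv D11070)))
theorem Q5185 : ∀ i, i < 5185 → P i := stepQ 5184 Q5184 (allL N5184 (tt N6189 (iv F47584)) (tt N4462 F43621) (tt N4278 F43622) (tt N4850 F43623) (tt N4277 F43624) (tt N5184 F43625) (tt N4337 F43626) (tt N6121 (iv F47285)) (tt N4276 (iv D11071)))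
theorem Q5186 : ∀ i, i < 5186 → P i := stepQ 5185 Q5185 (allL N5185 (tt N5185 F43627) (tt N4285 F43628) (tt N4927 F43629) (tt N6168 (iv F47478)) (tt N4282 F43630) (tt N5185 F43631) (tt N4751 F43632) (tt N4281 (iv D11072)) (tt N6191 D12078))
theorem Q5187 : ∀ i, i < 5187 → P i := stepQ 5186 Q5186 (allL N5186 (tt N5186 F43633) (tt N4286 F43634) (tt N4929 F43635) (tt N4749 F43636) (tt N6191 (iv F47598)) (tt N4284 F43637) (tt N4752 F43638) (tt N5186 F43639) (tt N4282 (iv D11073)))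
theorem Q5188 : ∀ i, i < 5188 → P i := stepQ 5187 Q5187 (allL N5187 (tt N5187 F43640) (tt N4312 F43641) (tt N4283 (iv D11074)) (tt N4930 F43642) (tt N6192 D12079) (tt N4746 F43643) (tt N5187 F43644) (tt N4637 F43645) (tt N6193 D12080))
theorem Q5189 : ∀ i, i < 5189 → P i := stepQ 5188 Q5188 (allL N5188 (tt N5188 F43646) (tt N4287 F43647) (tt N6192 (iv F47604)) (tt N5188 F43648) (tt N4283 (iv D11075)) (tt N6171 (iv F47495)) (tt N5188 F43649) (tt N4638 F43650) (tt N6194 D12081))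
theorem Q5190 : ∀ i, i < 5190 → P i := stepQ 5189 Q5189 (allL N5189 (tt N5189 F43651) (tt N4288 F43652) (tt N6193 (iv F47609)) (tt N4284 F43653) (tt N6194 (iv F47617)) (tt N4749 F43654) (tt N5189 F43655) (tt N4764 F43656) (tt N4283 (iv D11076)))
theorem Q5191 : ∀ i, i < 5191 → P i := stepQ 5190 Q5190 (allL N5190 (tt N4293 F43657) (tt N6191 (iv F47596)) (tt N4291 F43658) (tt N6182 (iv F47548)) (tt N4286 F43659) (tt N5190 F43660) (tt N4755 F43661) (tt N5190 F43662) (tt N4285 (iv D11077)))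
theorem Q5192 : ∀ i, i < 5192 → P i := stepQ 5191 Q5191 (allL N5191 (tt N4294 F43663) (tt N6194 (iv F47615)) (tt N4323 F43664) (tt N5191 F43665) (tt N4288 F43666) (tt N6185 (iv F47568)) (tt N5191 F43667) (tt N4765 F43668) (tt N4287 (iv D11078)))
theorem Q5193 : ∀ i, i < 5193 → P i := stepQ 5192 Q5192 (allL N5192 (tt N4296 F43669) (tt N4941 F43670) (tt N6195 D12082) (tt N4289 (iv D11079)) (tt N4325 F43671) (tt N5698 (iv F45583)) (tt N4290 F43672) (tt N5192 F43673) (tt N6196 D12083))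
theorem Q5194 : ∀ i, i < 5194 → P i := stepQ 5193 Q5193 (allL N5193 (tt N4297 F43674) (tt N4942 F43675) (tt N4755 F43676) (tt N6196 (iv F47628)) (tt N4292 F43677) (tt N5579 (iv F45099)) (tt N4291 F43678) (tt N5193 F43679) (tt N4289 (iv D11080)))
theorem Q5195 : ∀ i, i < 5195 → P i := stepQ 5194 Q5194 (allL N5194 (tt N4298 F43680) (tt N6197 D12084) (tt N4290 (iv D11081)) (tt N6080 (iv F47107)) (tt N4327 F43681) (tt N5194 F43682) (tt N6195 (iv F47624)) (tt N5194 F43683) (tt N6198 D12085))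
theorem Q5196 : ∀ i, i < 5196 → P i := stepQ 5195 Q5195 (allL N5195 (tt N4299 F43684) (tt N4944 F43685) (tt N6198 (iv F47636)) (tt N4291 F43686) (tt N4328 F43687) (tt N5195 F43688) (tt N6196 (iv F47630)) (tt N6199 D12086) (tt N4290 (iv D11082)))
theorem Q5197 : ∀ i, i < 5197 → P i := stepQ 5196 Q5196 (allL N5196 (tt N5698 (iv F45579)) (tt N4300 F43689) (tt N4647 F43690) (tt N4295 (iv D11083)) (tt N4685 (iv F43694)) (tt N4296 F43691) (tt N5196 F43692) (tt N5196 F43693) (tt N6200 D12087))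
theorem Q5198 : ∀ i, i < 5198 → P i := stepQ 5197 Q5197 (allL N5197 (tt N5579 (iv F45097)) (tt N4301 F43695) (tt N4756 F43696) (tt N6200 (iv F47647)) (tt N5197 F43697) (tt N4297 F43698) (tt N5197 F43699) (tt N5197 F43700) (tt N4295 (iv D11084)))
theorem Q5199 : ∀ i, i < 5199 → P i := stepQ 5198 Q5198 (allL N5198 (tt N6195 (iv F47620)) (tt N4701 F43701) (tt N4296 (iv D11085)) (tt N4517 F43702) (tt N4339 F43703) (tt N4647 F43704) (tt N4298 F43705) (tt N5198 F43706) (tt N6201 D12088))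
theorem Q5200 : ∀ i, i < 5200 → P i := stepQ 5199 Q5199 (allL N5199 (tt N6196 (iv F47626)) (tt N4302 F43707) (tt N6201 (iv F47653)) (tt N4297 F43708) (tt N4340 F43709) (tt N6200 (iv F47649)) (tt N4299 F43710) (tt N6202 D12089) (tt N4296 (iv D11086)))
theorem Q5201 : ∀ i, i < 5201 → P i := stepQ 5200 Q5200 (allL N5200 (tt N6203 D12090) (tt N4298 (iv D11087)) (tt N4303 F43711) (tt N4700 F43712) (tt N4341 F43713) (tt N5200 F43714) (tt N4701 F43715) (tt N5200 F43716) (tt N6204 D12091))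
theorem Q5202 : ∀ i, i < 5202 → P i := stepQ 5201 Q5201 (allL N5201 (tt N6198 (iv F47635)) (tt N6204 (iv F47672)) (tt N4299 F43717) (tt N6121 (iv F47281)) (tt N4342 F43718) (tt N5201 F43719) (tt N6201 (iv F47657)) (tt N6205 D12092) (tt N4298 (iv D11088)))
theorem Q5203 : ∀ i, i < 5203 → P i := stepQ 5202 Q5202 (allL N5202 (tt N6199 (iv F47639)) (tt N4305 F43720) (tt N6205 (iv F47680)) (tt N5202 F43721) (tt N4343 F43722) (tt N5202 F43723) (tt N6202 (iv F47664)) (tt N4299 (iv D11089)) (tt N5202 F43724))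
theorem Q5204 : ∀ i, i < 5204 → P i := stepQ 5203 Q5203 (allL N5203 (tt N4958 F43725) (tt N6200 (iv F47645)) (tt N5922 (iv F46449)) (tt N4301 F43726) (tt N5921 (iv F46444)) (tt N4302 F43727) (tt N5203 F43728) (tt N6206 D12093) (tt N4300 (iv D11090)))
theorem Q5205 : ∀ i, i < 5205 → P i := stepQ 5204 Q5204 (allL N5204 (tt N4961 F43729) (tt N6202 (iv F47659)) (tt N6032 (iv F46935)) (tt N5204 F43730) (tt N4344 F43731) (tt N6206 (iv F47690)) (tt N4305 F43732) (tt N4302 (iv D11091)) (tt N5204 F43733))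
theorem Q5206 : ∀ i, i < 5206 → P i := stepQ 5205 Q5205 (allL N5205 (tt N4303 (iv D11092)) (tt N4962 F43734) (tt N6203 (iv F47666)) (tt N5205 F43735) (tt N4345 F43736) (tt N5205 F43737) (tt N5981 (iv F46697)) (tt N5205 F43738) (tt N6207 D12094))
theorem Q5207 : ∀ i, i < 5207 → P i := stepQ 5206 Q5206 (allL N5206 (tt N6207 (iv F47693)) (tt N4304 F43739) (tt N6204 (iv F47673)) (tt N5206 F43740) (tt N4346 F43741) (tt N5206 F43742) (tt N6024 (iv F46896)) (tt N6208 D12095) (tt N4303 (iv D11093)))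
theorem Q5208 : ∀ i, i < 5208 → P i := stepQ 5207 Q5207 (allL N5207 (tt N4964 F43743) (tt N6208 (iv F47698)) (tt N4305 F43744) (tt N6209 D12096) (tt N4347 F43745) (tt N5207 F43746) (tt N6032 (iv F46938)) (tt N4304 (iv D11094)) (tt N5207 F43747))
theorem Q5209 : ∀ i, i < 5209 → P i := stepQ 5208 Q5208 (allL N5208 (tt N4421 F43748) (tt N5208 F43749) (tt N4306 (iv D11095)) (tt N4965 F43750) (tt N4639 F43751) (tt N4813 F43752) (tt N4688 F43753) (tt N6210 D12097) (tt N4348 F43754))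
theorem Q5210 : ∀ i, i < 5210 → P i := stepQ 5209 Q5209 (allL N5209 (tt N4423 F43755) (tt N4315 F43756) (tt N6210 (iv F47714)) (tt N6211 D12098) (tt N4427 F43757) (tt N4814 F43758) (tt N4430 F43759) (tt N4306 (iv D11096)) (tt N6212 D12099))
theorem Q5211 : ∀ i, i < 5211 → P i := stepQ 5210 Q5210 (allL N5210 (tt N4424 F43760) (tt N4316 F43761) (tt N4969 F43762) (tt N6213 D12100) (tt N4309 F43763) (tt N6118 (iv F47266)) (tt N4308 F43764) (tt N4307 (iv D11097)) (tt N6214 D12101))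
theorem Q5212 : ∀ i, i < 5212 → P i := stepQ 5211 Q5211 (allL N5211 (tt N4425 F43765) (tt N4317 F43766) (tt N6215 D12102) (tt N4308 (iv D11098)) (tt N6216 D12103) (tt N4815 F43767) (tt N6213 (iv F47733)) (tt N6211 (iv F47723)) (tt N6217 D12104))
theorem Q5213 : ∀ i, i < 5213 → P i := stepQ 5212 Q5212 (allL N5212 (tt N4426 F43768) (tt N4318 F43769) (tt N4971 F43770) (tt N6217 (iv F47751)) (tt N4311 F43771) (tt N4816 F43772) (tt N6214 (iv F47739)) (tt N4354 F43773) (tt N4308 (iv D11099)))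
theorem Q5214 : ∀ i, i < 5214 → P i := stepQ 5213 Q5213 (allL N5213 (tt N4428 F43774) (tt N4319 F43775) (tt N4973 F43776) (tt N4687 F43777) (tt N6214 (iv F47738)) (tt N5213 F43778) (tt N4311 F43779) (tt N4356 F43780) (tt N4309 (iv D11100)))
theorem Q5215 : ∀ i, i < 5215 → P i := stepQ 5214 Q5214 (allL N5214 (tt N4429 F43781) (tt N4746 F43782) (tt N4310 (iv D11101)) (tt N4974 F43783) (tt N6218 D12105) (tt N4312 F43784) (tt N4686 F43785) (tt N4640 F43786) (tt N6219 D12106))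
theorem Q5216 : ∀ i, i < 5216 → P i := stepQ 5215 Q5215 (allL N5215 (tt N4430 F43787) (tt N4320 F43788) (tt N6218 (iv F47755)) (tt N6216 (iv F47746)) (tt N4310 (iv D11102)) (tt N6183 (iv F47555)) (tt N4423 F43789) (tt N4422 F43790) (tt N6220 D12107))
theorem Q5217 : ∀ i, i < 5217 → P i := stepQ 5216 Q5216 (allL N5216 (tt N4431 F43791) (tt N4321 F43792) (tt N6219 (iv F47760)) (tt N4311 F43793) (tt N6220 (iv F47767)) (tt N4314 F43794) (tt N4687 F43795) (tt N4706 F43796) (tt N4310 (iv D11103)))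
theorem Q5218 : ∀ i, i < 5218 → P i := stepQ 5217 Q5217 (allL N5217 (tt N4432 F43797) (tt N6192 (iv F47603)) (tt N4313 F43798) (tt N6221 D12108) (tt N4312 (iv D11104)) (tt N6222 D12109) (tt N5217 F43799) (tt N4641 F43800) (tt N6223 D12110))
theorem Q5219 : ∀ i, i < 5219 → P i := stepQ 5218 Q5218 (allL N5218 (tt N4433 F43801) (tt N6193 (iv F47608)) (tt N4314 F43802) (tt N4978 F43803) (tt N6223 (iv F47779)) (tt N6219 (iv F47762)) (tt N5218 F43804) (tt N6224 D12111) (tt N4312 (iv D11105)))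
theorem Q5220 : ∀ i, i < 5220 → P i := stepQ 5219 Q5219 (allL N5219 (tt N4434 F43805) (tt N4322 F43806) (tt N6222 (iv F47775)) (tt N4822 F43807) (tt N6183 (iv F47554)) (tt N4313 (iv D11106)) (tt N6187 (iv F47579)) (tt N4643 F43808) (tt N6225 D12112))
theorem Q5221 : ∀ i, i < 5221 → P i := stepQ 5220 Q5220 (allL N5220 (tt N4435 F43809) (tt N4323 F43810) (tt N6223 (iv F47778)) (tt N4823 F43811) (tt N4314 F43812) (tt N6225 (iv F47790)) (tt N5220 F43813) (tt N6226 D12113) (tt N4313 (iv D11107)))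
theorem Q5222 : ∀ i, i < 5222 → P i := stepQ 5221 Q5221 (allL N5221 (tt N4436 F43814) (tt N4324 F43815) (tt N6224 (iv F47783)) (tt N4364 F43816) (tt N6226 (iv F47793)) (tt N4706 F43817) (tt N5221 F43818) (tt N4314 (iv D11108)) (tt N4645 F43819))
theorem Q5223 : ∀ i, i < 5223 → P i := stepQ 5222 Q5222 (allL N5222 (tt N4329 F43820) (tt N6211 (iv F47719)) (tt N6092 (iv F47158)) (tt N4315 (iv D11109)) (tt N4439 F43821) (tt N4825 F43822) (tt N4442 F43823) (tt N4317 F43824) (tt N6227 D12114))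
theorem Q5224 : ∀ i, i < 5224 → P i := stepQ 5223 Q5223 (allL N5223 (tt N4330 F43825) (tt N6212 (iv F47725)) (tt N5223 F43826) (tt N6227 (iv F47797)) (tt N4444 F43827) (tt N4826 F43828) (tt N4446 F43829) (tt N4368 F43830) (tt N4315 (iv D11110)))
theorem Q5225 : ∀ i, i < 5225 → P i := stepQ 5224 Q5224 (allL N5224 (tt N4331 F43831) (tt N6213 (iv F47731)) (tt N6228 D12115) (tt N4316 (iv D11111)) (tt N4437 F43832) (tt N6136 (iv F47351)) (tt N4317 F43833) (tt N4442 F43834) (tt N6229 D12116))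
theorem Q5226 : ∀ i, i < 5226 → P i := stepQ 5225 Q5225 (allL N5225 (tt N4332 F43835) (tt N6214 (iv F47736)) (tt N4326 F43836) (tt N6229 (iv F47807)) (tt N4319 F43837) (tt N6160 (iv F47449)) (tt N4318 F43838) (tt N4371 F43839) (tt N4316 (iv D11112)))
theorem Q5227 : ∀ i, i < 5227 → P i := stepQ 5226 Q5226 (allL N5226 (tt N4333 F43840) (tt N6230 D12117) (tt N4317 (iv D11113)) (tt N4327 F43841) (tt N6081 (iv F47110)) (tt N4827 F43842) (tt N6228 (iv F47804)) (tt N6092 (iv F47161)) (tt N6231 D12118))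
theorem Q5228 : ∀ i, i < 5228 → P i := stepQ 5227 Q5227 (allL N5227 (tt N4334 F43843) (tt N6216 (iv F47745)) (tt N6081 (iv F47109)) (tt N4320 F43844) (tt N4317 (iv D11114)) (tt N6083 (iv F47121)) (tt N4437 F43845) (tt N4439 F43846) (tt N6232 D12119))
theorem Q5229 : ∀ i, i < 5229 → P i := stepQ 5228 Q5228 (allL N5228 (tt N4335 F43847) (tt N6217 (iv F47750)) (tt N6231 (iv F47813)) (tt N4318 F43848) (tt N6232 (iv F47818)) (tt N4829 F43849) (tt N6229 (iv F47809)) (tt N6233 D12120) (tt N4317 (iv D11115)))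
theorem Q5230 : ∀ i, i < 5230 → P i := stepQ 5229 Q5229 (allL N5229 (tt N4336 F43850) (tt N6220 (iv F47766)) (tt N4557 F43851) (tt N6232 (iv F47817)) (tt N4321 F43852) (tt N6184 (iv F47561)) (tt N4438 F43853) (tt N4494 F43854) (tt N4320 (iv D11116)))
theorem Q5231 : ∀ i, i < 5231 → P i := stepQ 5230 Q5230 (allL N5230 (tt N4337 F43855) (tt N6225 (iv F47788)) (tt N6185 (iv F47565)) (tt N4834 F43856) (tt N6184 (iv F47560)) (tt N4323 F43857) (tt N6189 (iv F47589)) (tt N6234 D12121) (tt N4322 (iv D11117)))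
theorem Q5232 : ∀ i, i < 5232 → P i := stepQ 5231 Q5231 (allL N5231 (tt N4338 F43858) (tt N6226 (iv F47792)) (tt N4765 F43859) (tt N6235 D12122) (tt N4324 F43860) (tt N6234 (iv F47826)) (tt N5231 F43861) (tt N4323 (iv D11118)) (tt N4646 F43862))
theorem Q5233 : ∀ i, i < 5233 → P i := stepQ 5232 Q5232 (allL N5232 (tt N4339 F43863) (tt N6236 D12123) (tt N4325 (iv D11119)) (tt N6228 (iv F47802)) (tt N6195 (iv F47622)) (tt N6026 (iv F46910)) (tt N4327 F43864) (tt N5232 F43865) (tt N6237 D12124))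
theorem Q5234 : ∀ i, i < 5234 → P i := stepQ 5233 Q5233 (allL N5233 (tt N4340 F43866) (tt N5003 F43867) (tt N6237 (iv F47837)) (tt N4326 F43868) (tt N6196 (iv F47629)) (tt N6033 (iv F46944)) (tt N4328 F43869) (tt N6238 D12125) (tt N4325 (iv D11120)))
theorem Q5235 : ∀ i, i < 5235 → P i := stepQ 5234 Q5234 (allL N5234 (tt N6239 D12126) (tt N4327 (iv D11121)) (tt N5004 F43870) (tt N6230 (iv F47810)) (tt N6197 (iv F47632)) (tt N4836 F43871) (tt N6236 (iv F47834)) (tt N5234 F43872) (tt N6240 D12127))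
theorem Q5236 : ∀ i, i < 5236 → P i := stepQ 5235 Q5235 (allL N5235 (tt N4342 F43873) (tt N6240 (iv F47848)) (tt N4328 F43874) (tt N6231 (iv F47814)) (tt N6198 (iv F47637)) (tt N4837 F43875) (tt N6237 (iv F47838)) (tt N6241 D12128) (tt N4327 (iv D11122)))
theorem Q5237 : ∀ i, i < 5237 → P i := stepQ 5236 Q5236 (allL N5236 (tt N4343 F43876) (tt N5006 F43877) (tt N6241 (iv F47852)) (tt N4388 F43878) (tt N6199 (iv F47642)) (tt N4838 F43879) (tt N6238 (iv F47842)) (tt N4328 (iv D11123)) (tt N5236 F43880))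
theorem Q5238 : ∀ i, i < 5238 → P i := stepQ 5237 Q5237 (allL N5237 (tt N6227 (iv F47796)) (tt N4454 F43881) (tt N6134 (iv F47340)) (tt N4330 F43882) (tt N4455 F43883) (tt N4841 F43884) (tt N4459 F43885) (tt N6242 D12129) (tt N4329 (iv D11124)))
theorem Q5239 : ∀ i, i < 5239 → P i := stepQ 5238 Q5238 (allL N5238 (tt N6228 (iv F47801)) (tt N6000 (iv F46778)) (tt N4331 (iv D11125)) (tt N4339 F43886) (tt N4453 F43887) (tt N6003 (iv F46797)) (tt N4333 F43888) (tt N4456 F43889) (tt N6243 D12130))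
theorem Q5240 : ∀ i, i < 5240 → P i := stepQ 5239 Q5239 (allL N5239 (tt N6229 (iv F47806)) (tt N4455 F43890) (tt N6243 (iv F47861)) (tt N4332 F43891) (tt N4454 F43892) (tt N6137 (iv F47357)) (tt N4335 F43893) (tt N6244 D12131) (tt N4331 (iv D11126)))
theorem Q5241 : ∀ i, i < 5241 → P i := stepQ 5240 Q5240 (allL N5240 (tt N6245 D12132) (tt N4333 (iv D11127)) (tt N4395 F43894) (tt N4341 F43895) (tt N5989 (iv F46724)) (tt N4397 F43896) (tt N6000 (iv F46781)) (tt N6001 (iv F46789)) (tt N6246 D12133))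
theorem Q5242 : ∀ i, i < 5242 → P i := stepQ 5241 Q5241 (allL N5241 (tt N6231 (iv F47812)) (tt N6246 (iv F47873)) (tt N4335 F43897) (tt N4342 F43898) (tt N6122 (iv F47288)) (tt N4843 F43899) (tt N6243 (iv F47864)) (tt N6247 D12134) (tt N4333 (iv D11128)))
theorem Q5243 : ∀ i, i < 5243 → P i := stepQ 5242 Q5242 (allL N5242 (tt N6232 (iv F47816)) (tt N4459 F43900) (tt N6122 (iv F47286)) (tt N4336 F43901) (tt N4335 F43902) (tt N6123 (iv F47295)) (tt N4454 F43903) (tt N6248 D12135) (tt N4334 (iv D11129)))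
theorem Q5244 : ∀ i, i < 5244 → P i := stepQ 5243 Q5243 (allL N5243 (tt N6233 (iv F47820)) (tt N4460 F43904) (tt N6247 (iv F47877)) (tt N4405 F43905) (tt N6248 (iv F47881)) (tt N4846 F43906) (tt N6244 (iv F47868)) (tt N4335 (iv D11130)) (tt N6242 (iv F47860)))
theorem Q5245 : ∀ i, i < 5245 → P i := stepQ 5244 Q5244 (allL N5244 (tt N6234 (iv F47823)) (tt N4463 F43907) (tt N4560 F43908) (tt N6201 (iv F47654)) (tt N4518 F43909) (tt N4338 F43910) (tt N6121 (iv F47284)) (tt N4337 (iv D11131)) (tt N4517 F43911))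
theorem Q5246 : ∀ i, i < 5246 → P i := stepQ 5245 Q5245 (allL N5245 (tt N6235 (iv F47828)) (tt N4464 F43912) (tt N6200 (iv F47646)) (tt N4338 (iv D11132)) (tt N4413 F43913) (tt N6201 (iv F47656)) (tt N5245 F43914) (tt N4852 F43915) (tt N4647 F43916))
theorem Q5247 : ∀ i, i < 5247 → P i := stepQ 5246 Q5246 (allL N5246 (tt N6237 (iv F47836)) (tt N6023 (iv F46885)) (tt N4340 F43917) (tt N6243 (iv F47862)) (tt N6201 (iv F47655)) (tt N6027 (iv F46916)) (tt N4342 F43918) (tt N6249 D12136) (tt N4339 (iv D11133)))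
theorem Q5248 : ∀ i, i < 5248 → P i := stepQ 5247 Q5247 (allL N5247 (tt N6238 (iv F47839)) (tt N4344 F43919) (tt N6249 (iv F47885)) (tt N4415 F43920) (tt N6202 (iv F47662)) (tt N6034 (iv F46948)) (tt N4343 F43921) (tt N4340 (iv D11134)) (tt N5247 F43922))
theorem Q5249 : ∀ i, i < 5249 → P i := stepQ 5248 Q5248 (allL N5248 (tt N4341 (iv D11135)) (tt N6239 (iv F47844)) (tt N4345 F43923) (tt N6245 (iv F47871)) (tt N6203 (iv F47668)) (tt N4384 F43924) (tt N5980 (iv F46689)) (tt N5248 F43925) (tt N6250 D12137))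
theorem Q5250 : ∀ i, i < 5250 → P i := stepQ 5249 Q5249 (allL N5249 (tt N6250 (iv F47889)) (tt N4342 F43926) (tt N4346 F43927) (tt N6246 (iv F47875)) (tt N6204 (iv F47675)) (tt N4414 F43928) (tt N6023 (iv F46889)) (tt N6251 D12138) (tt N4341 (iv D11136)))
theorem Q5251 : ∀ i, i < 5251 → P i := stepQ 5250 Q5250 (allL N5250 (tt N6241 (iv F47851)) (tt N6251 (iv F47892)) (tt N4343 F43929) (tt N6252 D12139) (tt N6205 (iv F47682)) (tt N4853 F43930) (tt N6249 (iv F47887)) (tt N4342 (iv D11137)) (tt N5250 F43931))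
theorem Q5252 : ∀ i, i < 5252 → P i := stepQ 5251 Q5251 (allL N5251 (tt N4346 F43932) (tt N5046 F43933) (tt N6250 (iv F47890)) (tt N4383 F43934) (tt N6207 (iv F47696)) (tt N4385 F43935) (tt N5982 (iv F46702)) (tt N6253 D12140) (tt N4345 (iv D11138)))
theorem Q5253 : ∀ i, i < 5253 → P i := stepQ 5252 Q5252 (allL N5252 (tt N6253 (iv F47901)) (tt N4347 F43936) (tt N6251 (iv F47893)) (tt N6034 (iv F46947)) (tt N6208 (iv F47700)) (tt N4415 F43937) (tt N6025 (iv F46903)) (tt N4346 (iv D11139)) (tt N5252 F43938))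
theorem Q5254 : ∀ i, i < 5254 → P i := stepQ 5253 Q5253 (allL N5253 (tt N4465 F43939) (tt N5253 F43940) (tt N4349 F43941) (tt N5518 (iv F44846)) (tt N4648 F43942) (tt N6254 D12141) (tt N4348 (iv D11140)) (tt N6255 D12142) (tt N4688 F43943))
theorem Q5255 : ∀ i, i < 5255 → P i := stepQ 5254 Q5254 (allL N5254 (tt N4466 F43944) (tt N5254 F43945) (tt N4350 F43946) (tt N6256 D12143) (tt N4649 F43947) (tt N5930 (iv F46493)) (tt N6255 (iv F47915)) (tt N4348 (iv D11141)) (tt N6257 D12144))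
theorem Q5256 : ∀ i, i < 5256 → P i := stepQ 5255 Q5255 (allL N5255 (tt N4467 F43948) (tt N4365 F43949) (tt N6254 (iv F47907)) (tt N4351 F43950) (tt N4695 F43951) (tt N4349 (iv D11142)) (tt N5931 (iv F46497)) (tt N6258 D12145) (tt N4689 F43952))
theorem Q5257 : ∀ i, i < 5257 → P i := stepQ 5256 Q5256 (allL N5256 (tt N4468 F43953) (tt N4366 F43954) (tt N6255 (iv F47913)) (tt N6259 D12146) (tt N4650 F43955) (tt N6258 (iv F47925)) (tt N4350 F43956) (tt N4349 (iv D11143)) (tt N6260 D12147))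
theorem Q5258 : ∀ i, i < 5258 → P i := stepQ 5257 Q5257 (allL N5257 (tt N4469 F43957) (tt N4367 F43958) (tt N6261 D12148) (tt N4350 (iv D11144)) (tt N6262 D12149) (tt N5933 (iv F46506)) (tt N6259 (iv F47929)) (tt N4353 F43959) (tt N6263 D12150))
theorem Q5259 : ∀ i, i < 5259 → P i := stepQ 5258 Q5258 (allL N5258 (tt N4470 F43960) (tt N4368 F43961) (tt N6257 (iv F47920)) (tt N6263 (iv F47945)) (tt N4652 F43962) (tt N5934 (iv F46511)) (tt N6260 (iv F47934)) (tt N6212 (iv F47729)) (tt N4350 (iv D11145)))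
theorem Q5260 : ∀ i, i < 5260 → P i := stepQ 5259 Q5259 (allL N5259 (tt N4451 F43963) (tt N4369 F43964) (tt N5104 F43965) (tt N6264 D12151) (tt N5259 F43966) (tt N4352 F43967) (tt N5935 (iv F46517)) (tt N4351 (iv D11146)) (tt N6265 D12152))
theorem Q5261 : ∀ i, i < 5261 → P i := stepQ 5260 Q5260 (allL N5260 (tt N4471 F43968) (tt N4370 F43969) (tt N6266 D12153) (tt N4352 (iv D11147)) (tt N6267 D12154) (tt N6264 (iv F47948)) (tt N4353 F43970) (tt N6259 (iv F47930)) (tt N6268 D12155))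
theorem Q5262 : ∀ i, i < 5262 → P i := stepQ 5261 Q5261 (allL N5261 (tt N4472 F43971) (tt N4371 F43972) (tt N5471 (iv F44696)) (tt N6268 (iv F47963)) (tt N4356 F43973) (tt N6265 (iv F47953)) (tt N4354 F43974) (tt N6214 (iv F47740)) (tt N4352 (iv D11148)))
theorem Q5263 : ∀ i, i < 5263 → P i := stepQ 5262 Q5262 (allL N5262 (tt N4473 F43975) (tt N6269 D12156) (tt N4353 (iv D11149)) (tt N5754 (iv F45831)) (tt N6270 D12157) (tt N5938 (iv F46527)) (tt N6266 (iv F47955)) (tt N6261 (iv F47937)) (tt N6271 D12158))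
theorem Q5264 : ∀ i, i < 5264 → P i := stepQ 5263 Q5263 (allL N5263 (tt N4474 F43976) (tt N4373 F43977) (tt N6270 (iv F47967)) (tt N4358 F43978) (tt N4353 (iv D11150)) (tt N6272 D12159) (tt N6267 (iv F47959)) (tt N6262 (iv F47942)) (tt N6273 D12160))
theorem Q5265 : ∀ i, i < 5265 → P i := stepQ 5264 Q5264 (allL N5264 (tt N4475 F43979) (tt N4374 F43980) (tt N6271 (iv F47969)) (tt N4354 F43981) (tt N6273 (iv F47976)) (tt N5940 (iv F46534)) (tt N6268 (iv F47964)) (tt N6274 D12161) (tt N4353 (iv D11151)))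
theorem Q5266 : ∀ i, i < 5266 → P i := stepQ 5265 Q5265 (allL N5265 (tt N4476 F43982) (tt N5265 F43983) (tt N4355 (iv D11152)) (tt N5522 (iv F44862)) (tt N6275 D12162) (tt N5265 F43984) (tt N4357 F43985) (tt N4655 F43986) (tt N6276 D12163))
theorem Q5267 : ∀ i, i < 5267 → P i := stepQ 5266 Q5266 (allL N5266 (tt N4477 F43987) (tt N4375 F43988) (tt N6275 (iv F47981)) (tt N6267 (iv F47958)) (tt N4355 (iv D11153)) (tt N6277 D12164) (tt N4358 F43989) (tt N4656 F43990) (tt N6278 D12165))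
theorem Q5268 : ∀ i, i < 5268 → P i := stepQ 5267 Q5267 (allL N5267 (tt N4478 F43991) (tt N4376 F43992) (tt N6276 (iv F47986)) (tt N4356 F43993) (tt N6278 (iv F47996)) (tt N5267 F43994) (tt N4359 F43995) (tt N4709 F43996) (tt N4355 (iv D11154)))
theorem Q5269 : ∀ i, i < 5269 → P i := stepQ 5268 Q5268 (allL N5268 (tt N4479 F43997) (tt N5268 F43998) (tt N4358 F43999) (tt N6279 D12166) (tt N4357 (iv D11155)) (tt N6280 D12167) (tt N6275 (iv F47982)) (tt N4657 F44000) (tt N6281 D12168))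
theorem Q5270 : ∀ i, i < 5270 → P i := stepQ 5269 Q5269 (allL N5269 (tt N4480 F44001) (tt N5269 F44002) (tt N4359 F44003) (tt N5758 (iv F45845)) (tt N6281 (iv F48009)) (tt N4361 F44004) (tt N6276 (iv F47988)) (tt N6282 D12169) (tt N4357 (iv D11156)))
theorem Q5271 : ∀ i, i < 5271 → P i := stepQ 5270 Q5270 (allL N5270 (tt N4481 F44005) (tt N4377 F44006) (tt N6280 (iv F48003)) (tt N6272 (iv F47972)) (tt N4362 F44007) (tt N4358 (iv D11157)) (tt N6283 D12170) (tt N4659 F44008) (tt N6284 D12171))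
theorem Q5272 : ∀ i, i < 5272 → P i := stepQ 5271 Q5271 (allL N5271 (tt N4482 F44009) (tt N4378 F44010) (tt N6281 (iv F48008)) (tt N6273 (iv F47975)) (tt N4359 F44011) (tt N6284 (iv F48023)) (tt N6278 (iv F47997)) (tt N6285 D12172) (tt N4358 (iv D11158)))
theorem Q5273 : ∀ i, i < 5273 → P i := stepQ 5272 Q5272 (allL N5272 (tt N4483 F44012) (tt N4379 F44013) (tt N6282 (iv F48012)) (tt N4706 F44014) (tt N6285 (iv F48026)) (tt N4364 F44015) (tt N4709 F44016) (tt N4359 (iv D11159)) (tt N4661 F44017))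
theorem Q5274 : ∀ i, i < 5274 → P i := stepQ 5273 Q5273 (allL N5273 (tt N4484 F44018) (tt N5273 F44019) (tt N5948 (iv F46564)) (tt N4360 (iv D11160)) (tt N5762 (iv F45860)) (tt N6286 D12173) (tt N5273 F44020) (tt N6287 D12174) (tt N6288 D12175))
theorem Q5275 : ∀ i, i < 5275 → P i := stepQ 5274 Q5274 (allL N5274 (tt N4485 F44021) (tt N5274 F44022) (tt N4362 F44023) (tt N6286 (iv F48031)) (tt N6280 (iv F48004)) (tt N4360 (iv D11161)) (tt N6289 D12176) (tt N4663 F44024) (tt N6290 D12177))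
theorem Q5276 : ∀ i, i < 5276 → P i := stepQ 5275 Q5275 (allL N5275 (tt N4486 F44025) (tt N5275 F44026) (tt N4363 F44027) (tt N6288 (iv F48038)) (tt N4361 F44028) (tt N6290 (iv F48048)) (tt N5275 F44029) (tt N6291 D12178) (tt N4360 (iv D11162)))
theorem Q5277 : ∀ i, i < 5277 → P i := stepQ 5276 Q5276 (allL N5276 (tt N4487 F44030) (tt N5276 F44031) (tt N4364 F44032) (tt N6292 D12179) (tt N6291 (iv F48052)) (tt N6282 (iv F48013)) (tt N5276 F44033) (tt N4361 (iv D11163)) (tt N4665 F44034))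
theorem Q5278 : ∀ i, i < 5278 → P i := stepQ 5277 Q5277 (allL N5277 (tt N4488 F44035) (tt N4380 F44036) (tt N6289 (iv F48042)) (tt N5952 (iv F46579)) (tt N6283 (iv F48018)) (tt N5277 F44037) (tt N4362 (iv D11164)) (tt N4666 F44038) (tt N6293 D12180))
theorem Q5279 : ∀ i, i < 5279 → P i := stepQ 5278 Q5278 (allL N5278 (tt N4489 F44039) (tt N4381 F44040) (tt N6290 (iv F48047)) (tt N5953 (iv F46584)) (tt N6284 (iv F48022)) (tt N4363 F44041) (tt N6293 (iv F48062)) (tt N6294 D12181) (tt N4362 (iv D11165)))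
theorem Q5280 : ∀ i, i < 5280 → P i := stepQ 5279 Q5279 (allL N5279 (tt N4490 F44042) (tt N4382 F44043) (tt N6291 (iv F48051)) (tt N6295 D12182) (tt N4364 F44044) (tt N6294 (iv F48065)) (tt N5279 F44045) (tt N4363 (iv D11166)) (tt N4668 F44046))
theorem Q5281 : ∀ i, i < 5281 → P i := stepQ 5280 Q5280 (allL N5280 (tt N4389 F44047) (tt N6258 (iv F47923)) (tt N5280 F44048) (tt N6296 D12183) (tt N4698 F44049) (tt N4366 F44050) (tt N5955 (iv F46595)) (tt N4365 (iv D11167)) (tt N6297 D12184))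
theorem Q5282 : ∀ i, i < 5282 → P i := stepQ 5281 Q5281 (allL N5281 (tt N4390 F44051) (tt N6259 (iv F47927)) (tt N6298 D12185) (tt N4366 (iv D11168)) (tt N4737 F44052) (tt N6296 (iv F48072)) (tt N4367 F44053) (tt N4370 F44054) (tt N6299 D12186))
theorem Q5283 : ∀ i, i < 5283 → P i := stepQ 5282 Q5282 (allL N5282 (tt N4391 F44055) (tt N6260 (iv F47932)) (tt N5282 F44056) (tt N6299 (iv F48085)) (tt N4447 F44057) (tt N6297 (iv F48077)) (tt N4368 F44058) (tt N4446 F44059) (tt N4366 (iv D11169)))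
theorem Q5284 : ∀ i, i < 5284 → P i := stepQ 5283 Q5283 (allL N5283 (tt N4392 F44060) (tt N6300 D12187) (tt N4367 (iv D11170)) (tt N5283 F44061) (tt N6301 D12188) (tt N5958 (iv F46606)) (tt N6298 (iv F48082)) (tt N4372 F44062) (tt N6302 D12189))
theorem Q5285 : ∀ i, i < 5285 → P i := stepQ 5284 Q5284 (allL N5284 (tt N4393 F44063) (tt N6262 (iv F47939)) (tt N6301 (iv F48091)) (tt N4669 F44064) (tt N4367 (iv D11171)) (tt N6303 D12190) (tt N4737 F44065) (tt N4373 F44066) (tt N6304 D12191))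
theorem Q5286 : ∀ i, i < 5286 → P i := stepQ 5285 Q5285 (allL N5285 (tt N4394 F44067) (tt N6263 (iv F47944)) (tt N6302 (iv F48096)) (tt N4368 F44068) (tt N6304 (iv F48103)) (tt N5960 (iv F46613)) (tt N6299 (iv F48087)) (tt N6305 D12192) (tt N4367 (iv D11172)))
theorem Q5287 : ∀ i, i < 5287 → P i := stepQ 5286 Q5286 (allL N5286 (tt N4395 F44069) (tt N6264 (iv F47947)) (tt N6245 (iv F47870)) (tt N4369 (iv D11173)) (tt N6306 D12193) (tt N4370 F44070) (tt N5961 (iv F46616)) (tt N6296 (iv F48073)) (tt N6307 D12194))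
theorem Q5288 : ∀ i, i < 5288 → P i := stepQ 5287 Q5287 (allL N5287 (tt N4396 F44071) (tt N6265 (iv F47950)) (tt N4383 F44072) (tt N6307 (iv F48110)) (tt N5287 F44073) (tt N4371 F44074) (tt N5962 (iv F46621)) (tt N6160 (iv F47451)) (tt N4369 (iv D11174)))
theorem Q5289 : ∀ i, i < 5289 → P i := stepQ 5288 Q5288 (allL N5288 (tt N4397 F44075) (tt N6308 D12195) (tt N4370 (iv D11175)) (tt N4384 F44076) (tt N6309 D12196) (tt N6245 (iv F47872)) (tt N4372 F44077) (tt N6298 (iv F48083)) (tt N6310 D12197))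
theorem Q5290 : ∀ i, i < 5290 → P i := stepQ 5289 Q5289 (allL N5289 (tt N4398 F44078) (tt N6267 (iv F47957)) (tt N6309 (iv F48116)) (tt N4375 F44079) (tt N4370 (iv D11176)) (tt N6311 D12198) (tt N4373 F44080) (tt N4737 F44081) (tt N6312 D12199))
theorem Q5291 : ∀ i, i < 5291 → P i := stepQ 5290 Q5290 (allL N5290 (tt N4399 F44082) (tt N6268 (iv F47962)) (tt N6310 (iv F48121)) (tt N4371 F44083) (tt N6312 (iv F48129)) (tt N6307 (iv F48111)) (tt N4374 F44084) (tt N6313 D12200) (tt N4370 (iv D11177)))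
theorem Q5292 : ∀ i, i < 5292 → P i := stepQ 5291 Q5291 (allL N5291 (tt N6314 D12201) (tt N4372 (iv D11178)) (tt N6269 (iv F47965)) (tt N4386 F44085) (tt N6315 D12202) (tt N5966 (iv F46636)) (tt N6308 (iv F48114)) (tt N6300 (iv F48089)) (tt N6316 D12203))
theorem Q5293 : ∀ i, i < 5293 → P i := stepQ 5292 Q5292 (allL N5292 (tt N4401 F44086) (tt N6315 (iv F48136)) (tt N4373 F44087) (tt N5292 F44088) (tt N4372 (iv D11179)) (tt N6317 D12204) (tt N6309 (iv F48118)) (tt N6301 (iv F48093)) (tt N6318 D12205))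
theorem Q5294 : ∀ i, i < 5294 → P i := stepQ 5293 Q5293 (allL N5293 (tt N4402 F44089) (tt N6316 (iv F48138)) (tt N4374 F44090) (tt N4387 F44091) (tt N6318 (iv F48146)) (tt N5968 (iv F46644)) (tt N6310 (iv F48123)) (tt N6319 D12206) (tt N4372 (iv D11180)))
theorem Q5295 : ∀ i, i < 5295 → P i := stepQ 5294 Q5294 (allL N5294 (tt N4403 F44092) (tt N6272 (iv F47971)) (tt N6317 (iv F48141)) (tt N4377 F44093) (tt N5969 (iv F46647)) (tt N4373 (iv D11181)) (tt N6320 D12207) (tt N6303 (iv F48100)) (tt N6321 D12208))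
theorem Q5296 : ∀ i, i < 5296 → P i := stepQ 5295 Q5295 (allL N5295 (tt N4404 F44094) (tt N6273 (iv F47974)) (tt N6318 (iv F48144)) (tt N4378 F44095) (tt N4374 F44096) (tt N6321 (iv F48153)) (tt N6312 (iv F48130)) (tt N6322 D12209) (tt N4373 (iv D11182)))
theorem Q5297 : ∀ i, i < 5297 → P i := stepQ 5296 Q5296 (allL N5296 (tt N4405 F44097) (tt N6274 (iv F47978)) (tt N6319 (iv F48148)) (tt N6233 (iv F47821)) (tt N6322 (iv F48155)) (tt N5971 (iv F46653)) (tt N6313 (iv F48132)) (tt N4374 (iv D11183)) (tt N6305 (iv F48106)))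
theorem Q5298 : ∀ i, i < 5298 → P i := stepQ 5297 Q5297 (allL N5297 (tt N4406 F44098) (tt N6277 (iv F47991)) (tt N5297 F44099) (tt N6311 (iv F48125)) (tt N5297 F44100) (tt N4375 (iv D11184)) (tt N6323 D12210) (tt N4671 F44101) (tt N6324 D12211))
theorem Q5299 : ∀ i, i < 5299 → P i := stepQ 5298 Q5298 (allL N5298 (tt N4407 F44102) (tt N6278 (iv F47995)) (tt N5298 F44103) (tt N6312 (iv F48128)) (tt N4376 F44104) (tt N6324 (iv F48164)) (tt N4378 F44105) (tt N4732 F44106) (tt N4375 (iv D11185)))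
theorem Q5300 : ∀ i, i < 5300 → P i := stepQ 5299 Q5299 (allL N5299 (tt N4408 F44107) (tt N6283 (iv F48017)) (tt N5299 F44108) (tt N6320 (iv F48150)) (tt N4380 F44109) (tt N6323 (iv F48159)) (tt N4377 (iv D11186)) (tt N4672 F44110) (tt N6325 D12212))
theorem Q5301 : ∀ i, i < 5301 → P i := stepQ 5300 Q5300 (allL N5300 (tt N4409 F44111) (tt N6284 (iv F48021)) (tt N5300 F44112) (tt N6321 (iv F48152)) (tt N4381 F44113) (tt N4378 F44114) (tt N6325 (iv F48169)) (tt N6326 D12213) (tt N4377 (iv D11187)))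
theorem Q5302 : ∀ i, i < 5302 → P i := stepQ 5301 Q5301 (allL N5301 (tt N4410 F44115) (tt N6285 (iv F48025)) (tt N5301 F44116) (tt N6327 D12214) (tt N4379 F44117) (tt N6326 (iv F48173)) (tt N4732 F44118) (tt N4378 (iv D11188)) (tt N4674 F44119))
theorem Q5303 : ∀ i, i < 5303 → P i := stepQ 5302 Q5302 (allL N5302 (tt N4411 F44120) (tt N6293 (iv F48060)) (tt N5302 F44121) (tt N5977 (iv F46676)) (tt N6325 (iv F48168)) (tt N5302 F44122) (tt N4381 F44123) (tt N6328 D12215) (tt N4380 (iv D11189)))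
theorem Q5304 : ∀ i, i < 5304 → P i := stepQ 5303 Q5303 (allL N5303 (tt N4412 F44124) (tt N6294 (iv F48064)) (tt N5303 F44125) (tt N6329 D12216) (tt N6326 (iv F48172)) (tt N4382 F44126) (tt N6328 (iv F48183)) (tt N4381 (iv D11190)) (tt N4676 F44127))
theorem Q5305 : ∀ i, i < 5305 → P i := stepQ 5304 Q5304 (allL N5304 (tt N4413 F44128) (tt N6295 (iv F48068)) (tt N6330 D12217) (tt N4382 (iv D11191)) (tt N6235 (iv F47829)) (tt N6329 (iv F48186)) (tt N5304 F44129) (tt N5979 (iv F46685)) (tt N4677 F44130))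
theorem Q5306 : ∀ i, i < 5306 → P i := stepQ 5305 Q5305 (allL N5305 (tt N4836 F44131) (tt N4384 (iv D11192)) (tt N5308 (iv F44144)) (tt N6308 (iv F48113)) (tt N5305 F44132) (tt N6239 (iv F47846)) (tt N4386 F44133) (tt N5305 F44134) (tt N6331 D12218))
theorem Q5307 : ∀ i, i < 5307 → P i := stepQ 5306 Q5306 (allL N5306 (tt N4414 F44135) (tt N6331 (iv F48193)) (tt N4385 F44136) (tt N6310 (iv F48122)) (tt N5306 F44137) (tt N6250 (iv F47891)) (tt N4387 F44138) (tt N6332 D12219) (tt N4384 (iv D11193)))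
theorem Q5308 : ∀ i, i < 5308 → P i := stepQ 5307 Q5307 (allL N5307 (tt N4415 F44139) (tt N5349 (iv F44288)) (tt N6332 (iv F48197)) (tt N6238 (iv F47841)) (tt N5307 F44140) (tt N6253 (iv F47903)) (tt N4388 F44141) (tt N4385 (iv D11194)) (tt N5307 F44142))
theorem Q5309 : ∀ i, i < 5309 → P i := stepQ 5308 Q5308 (allL N5308 (tt N4386 (iv D11195)) (tt N4416 F44143) (tt N5305 F44144) (tt N6314 (iv F48134)) (tt N5308 F44145) (tt N5986 (iv F46715)) (tt N4836 F44146) (tt N5308 F44147) (tt N6333 D12220))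
theorem Q5310 : ∀ i, i < 5310 → P i := stepQ 5309 Q5309 (allL N5309 (tt N6333 (iv F48201)) (tt N4387 F44148) (tt N5784 (iv F45933)) (tt N6316 (iv F48139)) (tt N5309 F44149) (tt N5987 (iv F46718)) (tt N6331 (iv F48195)) (tt N6334 D12221) (tt N4386 (iv D11196)))
theorem Q5311 : ∀ i, i < 5311 → P i := stepQ 5310 Q5310 (allL N5310 (tt N4418 F44150) (tt N6334 (iv F48206)) (tt N4388 F44151) (tt N6335 D12222) (tt N5310 F44152) (tt N5988 (iv F46721)) (tt N6332 (iv F48199)) (tt N4387 (iv D11197)) (tt N5310 F44153))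
theorem Q5312 : ∀ i, i < 5312 → P i := stepQ 5311 Q5311 (allL N5311 (tt N6296 (iv F48071)) (tt N4453 F44154) (tt N6001 (iv F46785)) (tt N4389 (iv D11198)) (tt N6000 F46783) (tt N4390 F44155) (tt N5989 (iv F46726)) (tt N4395 F44156) (tt N6336 D12223))
theorem Q5313 : ∀ i, i < 5313 → P i := stepQ 5312 Q5312 (allL N5312 (tt N6297 (iv F48074)) (tt N4518 F44157) (tt N5312 F44158) (tt N6336 (iv F48212)) (tt N4463 F44159) (tt N4391 F44160) (tt N5990 (iv F46733)) (tt N4461 F44161) (tt N4389 (iv D11199)))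
theorem Q5314 : ∀ i, i < 5314 → P i := stepQ 5313 Q5313 (allL N5313 (tt N6298 (iv F48079)) (tt N4839 F44162) (tt N4390 (iv D11200)) (tt N5313 F44163) (tt N4745 F44164) (tt N6001 (iv F46787)) (tt N4392 F44165) (tt N4397 F44166) (tt N6337 D12224))
theorem Q5315 : ∀ i, i < 5315 → P i := stepQ 5314 Q5314 (allL N5314 (tt N6299 (iv F48084)) (tt N4520 F44167) (tt N6337 (iv F48215)) (tt N4391 F44168) (tt N4544 F44169) (tt N6336 (iv F48213)) (tt N4394 F44170) (tt N6338 D12225) (tt N4390 (iv D11201)))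
theorem Q5316 : ∀ i, i < 5316 → P i := stepQ 5315 Q5315 (allL N5315 (tt N6339 D12226) (tt N4392 (iv D11202)) (tt N4521 F44171) (tt N5315 F44172) (tt N6140 (iv F47372)) (tt N5994 (iv F46752)) (tt N4839 F44173) (tt N4400 F44174) (tt N6340 D12227))
theorem Q5317 : ∀ i, i < 5317 → P i := stepQ 5316 Q5316 (allL N5316 (tt N6301 (iv F48090)) (tt N6140 (iv F47369)) (tt N4393 F44175) (tt N4805 (iv F44178)) (tt N4392 (iv D11203)) (tt N6013 (iv F46842)) (tt N4745 F44176) (tt N4401 F44177) (tt N6341 D12228))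
theorem Q5318 : ∀ i, i < 5318 → P i := stepQ 5317 Q5317 (allL N5317 (tt N6302 (iv F48095)) (tt N6340 (iv F48228)) (tt N4394 F44179) (tt N5317 F44180) (tt N6341 (iv F48234)) (tt N5996 (iv F46764)) (tt N6337 (iv F48218)) (tt N6342 D12229) (tt N4392 (iv D11204)))
theorem Q5319 : ∀ i, i < 5319 → P i := stepQ 5318 Q5318 (allL N5318 (tt N6303 (iv F48098)) (tt N4524 F44181) (tt N6013 (iv F46839)) (tt N4678 F44182) (tt N5997 (iv F46768)) (tt N4393 (iv D11205)) (tt N6010 (iv F46830)) (tt N4403 F44183) (tt N6343 D12230))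
theorem Q5320 : ∀ i, i < 5320 → P i := stepQ 5319 Q5319 (allL N5319 (tt N6304 (iv F48101)) (tt N4525 F44184) (tt N6341 (iv F48232)) (tt N4541 F44185) (tt N4394 F44186) (tt N6343 (iv F48240)) (tt N4544 F44187) (tt N6344 D12231) (tt N4393 (iv D11206)))
theorem Q5321 : ∀ i, i < 5321 → P i := stepQ 5320 Q5320 (allL N5320 (tt N6305 (iv F48105)) (tt N4526 F44188) (tt N6342 (iv F48236)) (tt N6242 (iv F47856)) (tt N6344 (iv F48243)) (tt N5999 (iv F46776)) (tt N6338 (iv F48222)) (tt N4394 (iv D11207)) (tt N4405 F44189))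
theorem Q5322 : ∀ i, i < 5322 → P i := stepQ 5321 Q5321 (allL N5321 (tt N6306 (iv F48107)) (tt N4456 F44190) (tt N5989 F46728) (tt N5321 F44191) (tt N4395 (iv D11208)) (tt N5991 (iv F46737)) (tt N6001 (iv F46788)) (tt N6000 (iv F46782)) (tt N6345 D12232))
theorem Q5323 : ∀ i, i < 5323 → P i := stepQ 5322 Q5322 (allL N5322 (tt N6307 (iv F48109)) (tt N4457 F44192) (tt N6246 (iv F47874)) (tt N4396 F44193) (tt N6345 (iv F48248)) (tt N4399 F44194) (tt N6002 (iv F46793)) (tt N6346 D12233) (tt N4395 (iv D11209)))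
theorem Q5324 : ∀ i, i < 5324 → P i := stepQ 5323 Q5323 (allL N5323 (tt N6309 (iv F48115)) (tt N4842 F44195) (tt N4398 F44196) (tt N5323 F44197) (tt N4397 (iv D11210)) (tt N5992 (iv F46744)) (tt N4401 F44198) (tt N4745 F44199) (tt N6347 D12234))
theorem Q5325 : ∀ i, i < 5325 → P i := stepQ 5324 Q5324 (allL N5324 (tt N6310 (iv F48120)) (tt N4843 F44200) (tt N4399 F44201) (tt N4414 F44202) (tt N6347 (iv F48254)) (tt N6246 (iv F47876)) (tt N4402 F44203) (tt N6348 D12235) (tt N4397 (iv D11211)))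
theorem Q5326 : ∀ i, i < 5326 → P i := stepQ 5325 Q5325 (allL N5325 (tt N6311 (iv F48124)) (tt N4527 F44204) (tt N5992 (iv F46742)) (tt N4406 F44205) (tt N5991 F46740) (tt N4398 (iv D11212)) (tt N5995 (iv F46758)) (tt N4744 F44206) (tt N6349 D12236))
theorem Q5327 : ∀ i, i < 5327 → P i := stepQ 5326 Q5326 (allL N5326 (tt N6312 (iv F48127)) (tt N4528 F44207) (tt N6347 (iv F48252)) (tt N4407 F44208) (tt N4399 F44209) (tt N6349 (iv F48261)) (tt N4404 F44210) (tt N6350 D12237) (tt N4398 (iv D11213)))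
theorem Q5328 : ∀ i, i < 5328 → P i := stepQ 5327 Q5327 (allL N5327 (tt N6313 (iv F48131)) (tt N4529 F44211) (tt N6348 (iv F48257)) (tt N6244 (iv F47866)) (tt N6350 (iv F48264)) (tt N6346 (iv F48250)) (tt N4405 F44212) (tt N4399 (iv D11214)) (tt N6338 (iv F48223)))
theorem Q5329 : ∀ i, i < 5329 → P i := stepQ 5328 Q5328 (allL N5328 (tt N4400 (iv D11215)) (tt N6314 (iv F48133)) (tt N4530 F44213) (tt N4416 F44214) (tt N6351 D12238) (tt N6007 (iv F46815)) (tt N4827 F44215) (tt N6339 (iv F48227)) (tt N6352 D12239))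
theorem Q5330 : ∀ i, i < 5330 → P i := stepQ 5329 Q5329 (allL N5329 (tt N6351 (iv F48267)) (tt N4401 F44216) (tt N4531 F44217) (tt N5329 F44218) (tt N4400 (iv D11216)) (tt N6131 (iv F47333)) (tt N4842 F44219) (tt N6140 (iv F47374)) (tt N6353 D12240))
theorem Q5331 : ∀ i, i < 5331 → P i := stepQ 5330 Q5330 (allL N5330 (tt N6352 (iv F48271)) (tt N4402 F44220) (tt N4532 F44221) (tt N4417 F44222) (tt N6353 (iv F48278)) (tt N6009 (iv F46825)) (tt N4843 F44223) (tt N6354 D12241) (tt N4400 (iv D11217)))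
theorem Q5332 : ∀ i, i < 5332 → P i := stepQ 5331 Q5331 (allL N5331 (tt N6317 (iv F48140)) (tt N6131 (iv F47329)) (tt N4403 F44224) (tt N5331 F44225) (tt N6010 (iv F46829)) (tt N4401 (iv D11218)) (tt N5997 (iv F46769)) (tt N6013 (iv F46843)) (tt N6355 D12242))
theorem Q5333 : ∀ i, i < 5333 → P i := stepQ 5332 Q5332 (allL N5332 (tt N6318 (iv F48143)) (tt N6353 (iv F48275)) (tt N4404 F44226) (tt N5332 F44227) (tt N4402 F44228) (tt N6355 (iv F48285)) (tt N6347 (iv F48255)) (tt N6356 D12243) (tt N4401 (iv D11219)))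
theorem Q5334 : ∀ i, i < 5334 → P i := stepQ 5333 Q5333 (allL N5333 (tt N6319 (iv F48147)) (tt N6354 (iv F48280)) (tt N4405 F44229) (tt N6357 D12244) (tt N6356 (iv F48287)) (tt N6012 (iv F46837)) (tt N6348 (iv F48258)) (tt N4402 (iv D11220)) (tt N6342 (iv F48237)))
theorem Q5335 : ∀ i, i < 5335 → P i := stepQ 5334 Q5334 (allL N5334 (tt N6320 (iv F48149)) (tt N4536 F44230) (tt N5997 (iv F46766)) (tt N4408 F44231) (tt N6013 (iv F46841)) (tt N5995 F46761) (tt N4403 (iv D11221)) (tt N6010 (iv F46831)) (tt N6358 D12245))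
theorem Q5336 : ∀ i, i < 5336 → P i := stepQ 5335 Q5335 (allL N5335 (tt N6321 (iv F48151)) (tt N4537 F44232) (tt N6355 (iv F48283)) (tt N4409 F44233) (tt N6014 (iv F46846)) (tt N4404 F44234) (tt N6358 (iv F48291)) (tt N6359 D12246) (tt N4403 (iv D11222)))
theorem Q5337 : ∀ i, i < 5337 → P i := stepQ 5336 Q5336 (allL N5336 (tt N6322 (iv F48154)) (tt N4538 F44235) (tt N6356 (iv F48286)) (tt N6360 D12247) (tt N4405 F44236) (tt N6359 (iv F48293)) (tt N6350 (iv F48265)) (tt N4404 (iv D11223)) (tt N6344 (iv F48245)))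
theorem Q5338 : ∀ i, i < 5338 → P i := stepQ 5337 Q5337 (allL N5337 (tt N6323 (iv F48156)) (tt N4539 F44237) (tt N5337 F44238) (tt N5995 (iv F46760)) (tt N5337 F44239) (tt N4408 F44240) (tt N4406 (iv D11224)) (tt N4680 F44241) (tt N6361 D12248))
theorem Q5339 : ∀ i, i < 5339 → P i := stepQ 5338 Q5338 (allL N5338 (tt N6324 (iv F48161)) (tt N4540 F44242) (tt N5338 F44243) (tt N6349 (iv F48260)) (tt N5338 F44244) (tt N4407 F44245) (tt N6361 (iv F48304)) (tt N4742 F44246) (tt N4406 (iv D11225)))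
theorem Q5340 : ∀ i, i < 5340 → P i := stepQ 5339 Q5339 (allL N5339 (tt N6325 (iv F48166)) (tt N4542 F44247) (tt N5339 F44248) (tt N6358 (iv F48290)) (tt N4411 F44249) (tt N6361 (iv F48303)) (tt N4409 F44250) (tt N6362 D12249) (tt N4408 (iv D11226)))
theorem Q5341 : ∀ i, i < 5341 → P i := stepQ 5340 Q5340 (allL N5340 (tt N6326 (iv F48170)) (tt N4543 F44251) (tt N5340 F44252) (tt N6363 D12250) (tt N4412 F44253) (tt N4410 F44254) (tt N6362 (iv F48310)) (tt N4409 (iv D11227)) (tt N4682 F44255))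
theorem Q5342 : ∀ i, i < 5342 → P i := stepQ 5341 Q5341 (allL N5341 (tt N6327 (iv F48175)) (tt N4544 F44256) (tt N4884 (iv F44260)) (tt N4410 (iv D11228)) (tt N4520 F44257) (tt N6363 (iv F48313)) (tt N4525 F44258) (tt N6360 (iv F48297)) (tt N4519 F44259))
theorem Q5343 : ∀ i, i < 5343 → P i := stepQ 5342 Q5342 (allL N5342 (tt N6328 (iv F48180)) (tt N4545 F44261) (tt N5342 F44262) (tt N5919 (iv F46431)) (tt N6362 (iv F48308)) (tt N5342 F44263) (tt N4412 F44264) (tt N4411 (iv D11229)) (tt N4683 F44265))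
theorem Q5344 : ∀ i, i < 5344 → P i := stepQ 5343 Q5343 (allL N5343 (tt N6329 (iv F48185)) (tt N4546 F44266) (tt N5925 (iv F46468)) (tt N4412 (iv D11230)) (tt N6027 (iv F46915)) (tt N4413 F44267) (tt N5919 (iv F46434)) (tt N6021 (iv F46879)) (tt N4684 F44268))
theorem Q5345 : ∀ i, i < 5345 → P i := stepQ 5344 Q5344 (allL N5344 (tt N6330 (iv F48188)) (tt N5921 (iv F46441)) (tt N4413 (iv D11231)) (tt N5344 F44269) (tt N6200 (iv F47648)) (tt N5925 (iv F46471)) (tt N5344 F44270) (tt N6022 (iv F46883)) (tt N4685 F44271))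
theorem Q5346 : ∀ i, i < 5346 → P i := stepQ 5345 Q5345 (allL N5345 (tt N6332 (iv F48196)) (tt N4853 F44272) (tt N4415 F44273) (tt N6364 D12251) (tt N5345 F44274) (tt N6251 (iv F47895)) (tt N4418 F44275) (tt N4414 (iv D11232)) (tt N5345 F44276))
theorem Q5347 : ∀ i, i < 5347 → P i := stepQ 5346 Q5346 (allL N5346 (tt N4417 F44277) (tt N6333 (iv F48202)) (tt N4419 F44278) (tt N6352 (iv F48273)) (tt N5346 F44279) (tt N6029 (iv F46925)) (tt N4837 F44280) (tt N6365 D12252) (tt N4416 (iv D11233)))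
theorem Q5348 : ∀ i, i < 5348 → P i := stepQ 5347 Q5347 (allL N5347 (tt N6365 (iv F48319)) (tt N4418 F44281) (tt N4420 F44282) (tt N6366 D12253) (tt N5347 F44283) (tt N6030 (iv F46928)) (tt N4853 F44284) (tt N4417 (iv D11234)) (tt N5347 F44285))
theorem Q5349 : ∀ i, i < 5349 → P i := stepQ 5348 Q5348 (allL N5348 (tt N6335 (iv F48209)) (tt N6366 (iv F48324)) (tt N6252 (iv F47898)) (tt N4418 (iv D11235)) (tt N6367 D12254) (tt N6031 (iv F46931)) (tt N6364 (iv F48317)) (tt N6357 (iv F48288)) (tt N5348 F44286))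
theorem Q5350 : ∀ i, i < 5350 → P i := stepQ 5349 Q5349 (allL N5349 (tt N4420 F44287) (tt N5307 F44288) (tt N6365 (iv F48320)) (tt N5985 (iv F46711)) (tt N5349 F44289) (tt N6035 (iv F46952)) (tt N4838 F44290) (tt N4419 (iv D11236)) (tt N5349 F44291))
theorem Q5351 : ∀ i, i < 5351 → P i := stepQ 5350 Q5350 (allL N5350 (tt N4688 F44292) (tt N4549 F44293) (tt N4422 F44294) (tt N5048 F44295) (tt N4640 F44296) (tt N6177 (iv F47521)) (tt N4421 (iv D11237)) (tt N6218 (iv F47757)) (tt N4465 F44297))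
theorem Q5352 : ∀ i, i < 5352 → P i := stepQ 5351 Q5351 (allL N5351 (tt N6210 (iv F47712)) (tt N4550 F44298) (tt N4423 F44299) (tt N6368 D12255) (tt N4686 F44300) (tt N4854 F44301) (tt N6218 (iv F47756)) (tt N4421 (iv D11238)) (tt N6369 D12256))
theorem Q5353 : ∀ i, i < 5353 → P i := stepQ 5352 Q5352 (allL N5352 (tt N6211 (iv F47718)) (tt N4437 F44302) (tt N6370 D12257) (tt N4423 (iv D11239)) (tt N6213 (iv F47732)) (tt N4855 F44303) (tt N6216 (iv F47747)) (tt N4425 F44304) (tt N6371 D12258))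
theorem Q5354 : ∀ i, i < 5354 → P i := stepQ 5353 Q5353 (allL N5353 (tt N6212 (iv F47724)) (tt N4438 F44305) (tt N6369 (iv F48333)) (tt N6371 (iv F48340)) (tt N4687 F44306) (tt N4856 F44307) (tt N6220 (iv F47768)) (tt N4470 F44308) (tt N4423 (iv D11240)))
theorem Q5355 : ∀ i, i < 5355 → P i := stepQ 5354 Q5354 (allL N5354 (tt N6213 (iv F47730)) (tt N4439 F44309) (tt N6372 D12259) (tt N4424 (iv D11241)) (tt N6211 (iv F47720)) (tt N6094 (iv F47169)) (tt N4425 F44310) (tt N6216 (iv F47748)) (tt N6373 D12260))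
theorem Q5356 : ∀ i, i < 5356 → P i := stepQ 5355 Q5355 (allL N5355 (tt N6214 (iv F47735)) (tt N4440 F44311) (tt N5056 F44312) (tt N6373 (iv F48345)) (tt N4428 F44313) (tt N6119 (iv F47272)) (tt N4426 F44314) (tt N4472 F44315) (tt N4424 (iv D11242)))
theorem Q5357 : ∀ i, i < 5357 → P i := stepQ 5356 Q5356 (allL N5356 (tt N6215 (iv F47741)) (tt N6374 D12261) (tt N4425 (iv D11243)) (tt N5057 F44316) (tt N6375 D12262) (tt N4857 F44317) (tt N6372 (iv F48343)) (tt N6370 (iv F48338)) (tt N6376 D12263))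
theorem Q5358 : ∀ i, i < 5358 → P i := stepQ 5357 Q5357 (allL N5357 (tt N6216 (iv F47744)) (tt N4442 F44318) (tt N6375 (iv F48350)) (tt N4430 F44319) (tt N4425 (iv D11244)) (tt N6377 D12264) (tt N6211 (iv F47722)) (tt N6213 (iv F47734)) (tt N6378 D12265))
theorem Q5359 : ∀ i, i < 5359 → P i := stepQ 5358 Q5358 (allL N5358 (tt N6217 (iv F47749)) (tt N4443 F44320) (tt N6376 (iv F48351)) (tt N4426 F44321) (tt N6378 (iv F48359)) (tt N4859 F44322) (tt N6373 (iv F48346)) (tt N6379 D12266) (tt N4425 (iv D11245)))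
theorem Q5360 : ∀ i, i < 5360 → P i := stepQ 5359 Q5359 (allL N5359 (tt N4686 F44323) (tt N5359 F44324) (tt N4427 (iv D11246)) (tt N5060 F44325) (tt N6210 (iv F47715)) (tt N5359 F44326) (tt N4429 F44327) (tt N4639 F44328) (tt N6380 D12267))
theorem Q5361 : ∀ i, i < 5361 → P i := stepQ 5360 Q5360 (allL N5360 (tt N4687 F44329) (tt N4444 F44330) (tt N6380 (iv F48365)) (tt N4428 F44331) (tt N6212 (iv F47726)) (tt N5360 F44332) (tt N4431 F44333) (tt N4652 F44334) (tt N4427 (iv D11247)))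
theorem Q5362 : ∀ i, i < 5362 → P i := stepQ 5361 Q5361 (allL N5361 (tt N6218 (iv F47753)) (tt N5361 F44335) (tt N4430 F44336) (tt N6381 D12268) (tt N4429 (iv D11248)) (tt N6382 D12269) (tt N6210 (iv F47717)) (tt N4688 F44337) (tt N6383 D12270))
theorem Q5363 : ∀ i, i < 5363 → P i := stepQ 5362 Q5362 (allL N5362 (tt N6219 (iv F47758)) (tt N5362 F44338) (tt N4431 F44339) (tt N5064 F44340) (tt N6383 (iv F48378)) (tt N4433 F44341) (tt N6380 (iv F48368)) (tt N6384 D12271) (tt N4429 (iv D11249)))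
theorem Q5364 : ∀ i, i < 5364 → P i := stepQ 5363 Q5363 (allL N5363 (tt N6183 (iv F47553)) (tt N4445 F44342) (tt N6382 (iv F48373)) (tt N6377 (iv F48355)) (tt N4434 F44343) (tt N4430 (iv D11250)) (tt N6186 (iv F47573)) (tt N4689 F44344) (tt N6385 D12272))
theorem Q5365 : ∀ i, i < 5365 → P i := stepQ 5364 Q5364 (allL N5364 (tt N6220 (iv F47765)) (tt N4446 F44345) (tt N6383 (iv F48377)) (tt N6378 (iv F48358)) (tt N4431 F44346) (tt N6385 (iv F48387)) (tt N6212 (iv F47728)) (tt N6260 (iv F47935)) (tt N4430 (iv D11251)))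
theorem Q5366 : ∀ i, i < 5366 → P i := stepQ 5365 Q5365 (allL N5365 (tt N4706 F44347) (tt N4447 F44348) (tt N6384 (iv F48381)) (tt N4483 F44349) (tt N6260 (iv F47933)) (tt N4436 F44350) (tt N4652 F44351) (tt N4431 (iv D11252)) (tt N4650 F44352))
theorem Q5367 : ∀ i, i < 5367 → P i := stepQ 5366 Q5366 (allL N5366 (tt N6221 (iv F47770)) (tt N5366 F44353) (tt N4865 F44354) (tt N4432 (iv D11253)) (tt N5068 F44355) (tt N6386 D12273) (tt N5366 F44356) (tt N6387 D12274) (tt N6388 D12275))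
theorem Q5368 : ∀ i, i < 5368 → P i := stepQ 5367 Q5367 (allL N5367 (tt N6222 (iv F47774)) (tt N5367 F44357) (tt N4434 F44358) (tt N6386 (iv F48390)) (tt N6382 (iv F48374)) (tt N4432 (iv D11254)) (tt N6389 D12276) (tt N4691 F44359) (tt N6390 D12277))
theorem Q5369 : ∀ i, i < 5369 → P i := stepQ 5368 Q5368 (allL N5368 (tt N6223 (iv F47777)) (tt N5368 F44360) (tt N4435 F44361) (tt N6388 (iv F48399)) (tt N4433 F44362) (tt N6390 (iv F48409)) (tt N5368 F44363) (tt N6391 D12278) (tt N4432 (iv D11255)))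
theorem Q5370 : ∀ i, i < 5370 → P i := stepQ 5369 Q5369 (allL N5369 (tt N6224 (iv F47781)) (tt N5369 F44364) (tt N4436 F44365) (tt N6392 D12279) (tt N6391 (iv F48413)) (tt N6384 (iv F48382)) (tt N5369 F44366) (tt N4433 (iv D11256)) (tt N4693 F44367))
theorem Q5371 : ∀ i, i < 5371 → P i := stepQ 5370 Q5370 (allL N5370 (tt N6187 (iv F47576)) (tt N4448 F44368) (tt N6389 (iv F48404)) (tt N4869 F44369) (tt N6186 F47575) (tt N5370 F44370) (tt N4434 (iv D11257)) (tt N4694 F44371) (tt N6393 D12280))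
theorem Q5372 : ∀ i, i < 5372 → P i := stepQ 5371 Q5371 (allL N5371 (tt N6225 (iv F47787)) (tt N4449 F44372) (tt N6390 (iv F48408)) (tt N4870 F44373) (tt N6385 (iv F48386)) (tt N4435 F44374) (tt N6393 (iv F48425)) (tt N6394 D12281) (tt N4434 (iv D11258)))
theorem Q5373 : ∀ i, i < 5373 → P i := stepQ 5372 Q5372 (allL N5372 (tt N6226 (iv F47791)) (tt N4450 F44375) (tt N6391 (iv F48411)) (tt N6395 D12282) (tt N4436 F44376) (tt N6394 (iv F48427)) (tt N5372 F44377) (tt N4435 (iv D11259)) (tt N4696 F44378))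
theorem Q5374 : ∀ i, i < 5374 → P i := stepQ 5373 Q5373 (allL N5373 (tt N4453 F44379) (tt N6396 D12283) (tt N4437 (iv D11260)) (tt N4492 F44380) (tt N6228 (iv F47803)) (tt N4493 F44381) (tt N6081 (iv F47112)) (tt N4441 F44382) (tt N6397 D12284))
theorem Q5375 : ∀ i, i < 5375 → P i := stepQ 5374 Q5374 (allL N5374 (tt N4454 F44383) (tt N6371 (iv F48339)) (tt N6397 (iv F48439)) (tt N4438 F44384) (tt N6229 (iv F47808)) (tt N4873 F44385) (tt N6232 (iv F47819)) (tt N6398 D12285) (tt N4437 (iv D11261)))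
theorem Q5376 : ∀ i, i < 5376 → P i := stepQ 5375 Q5375 (allL N5375 (tt N4455 F44386) (tt N6373 (iv F48344)) (tt N6093 (iv F47164)) (tt N4440 F44387) (tt N6227 (iv F47798)) (tt N6096 (iv F47180)) (tt N4443 F44388) (tt N6399 D12286) (tt N4439 (iv D11262)))
theorem Q5377 : ∀ i, i < 5377 → P i := stepQ 5376 Q5376 (allL N5376 (tt N6264 (iv F47946)) (tt N4441 (iv D11263)) (tt N6374 (iv F48347)) (tt N4451 F44389) (tt N6400 D12287) (tt N4471 F44390) (tt N6047 (iv F46995)) (tt N6396 (iv F48437)) (tt N6401 D12288))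
theorem Q5378 : ∀ i, i < 5378 → P i := stepQ 5377 Q5377 (allL N5377 (tt N4456 F44391) (tt N6400 (iv F48449)) (tt N4442 F44392) (tt N5377 F44393) (tt N4441 (iv D11264)) (tt N6402 D12289) (tt N6092 (iv F47160)) (tt N6228 (iv F47805)) (tt N6403 D12290))
theorem Q5379 : ∀ i, i < 5379 → P i := stepQ 5378 Q5378 (allL N5378 (tt N4457 F44394) (tt N6401 (iv F48451)) (tt N4443 F44395) (tt N4452 F44396) (tt N6403 (iv F48461)) (tt N4499 F44397) (tt N6093 (iv F47167)) (tt N6404 D12291) (tt N4441 (iv D11265)))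
theorem Q5380 : ∀ i, i < 5380 → P i := stepQ 5379 Q5379 (allL N5379 (tt N4458 F44398) (tt N6377 (iv F48354)) (tt N6402 (iv F48455)) (tt N4445 F44399) (tt N4874 F44400) (tt N4442 (iv D11266)) (tt N6126 (iv F47308)) (tt N6136 (iv F47353)) (tt N6405 D12292))
theorem Q5381 : ∀ i, i < 5381 → P i := stepQ 5380 Q5380 (allL N5380 (tt N4459 F44401) (tt N6378 (iv F48357)) (tt N6403 (iv F48459)) (tt N4446 F44402) (tt N4443 F44403) (tt N6405 (iv F48468)) (tt N6227 (iv F47800)) (tt N6406 D12293) (tt N4442 (iv D11267)))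
theorem Q5382 : ∀ i, i < 5382 → P i := stepQ 5381 Q5381 (allL N5381 (tt N4460 F44404) (tt N6379 (iv F48360)) (tt N6404 (iv F48463)) (tt N4505 F44405) (tt N6406 (iv F48470)) (tt N4876 F44406) (tt N6399 (iv F48448)) (tt N4443 (iv D11268)) (tt N6398 (iv F48445)))
theorem Q5383 : ∀ i, i < 5383 → P i := stepQ 5382 Q5382 (allL N5382 (tt N4461 F44407) (tt N6385 (iv F48385)) (tt N5382 F44408) (tt N6405 (iv F48466)) (tt N4449 F44409) (tt N4446 F44410) (tt N6190 (iv F47594)) (tt N6297 (iv F48078)) (tt N4445 (iv D11269)))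
theorem Q5384 : ∀ i, i < 5384 → P i := stepQ 5383 Q5383 (allL N5383 (tt N4462 F44411) (tt N6393 (iv F48422)) (tt N5383 F44412) (tt N4880 F44413) (tt N6190 (iv F47592)) (tt N5383 F44414) (tt N4449 F44415) (tt N6407 D12294) (tt N4448 (iv D11270)))
theorem Q5385 : ∀ i, i < 5385 → P i := stepQ 5384 Q5384 (allL N5384 (tt N4463 F44416) (tt N6394 (iv F48426)) (tt N5384 F44417) (tt N6408 D12295) (tt N6297 (iv F48076)) (tt N4450 F44418) (tt N6407 (iv F48474)) (tt N4449 (iv D11271)) (tt N4698 F44419))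
theorem Q5386 : ∀ i, i < 5386 → P i := stepQ 5385 Q5385 (allL N5385 (tt N4464 F44420) (tt N6395 (iv F48429)) (tt N6409 D12296) (tt N4450 (iv D11272)) (tt N4514 F44421) (tt N6408 (iv F48477)) (tt N5385 F44422) (tt N4882 F44423) (tt N4699 F44424))
theorem Q5387 : ∀ i, i < 5387 → P i := stepQ 5386 Q5386 (allL N5386 (tt N6265 (iv F47949)) (tt N4452 F44425) (tt N5105 F44426) (tt N6401 (iv F48452)) (tt N5386 F44427) (tt N4472 F44428) (tt N6048 (iv F46999)) (tt N6119 (iv F47274)) (tt N4451 (iv D11273)))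
theorem Q5388 : ∀ i, i < 5388 → P i := stepQ 5387 Q5387 (allL N5387 (tt N6397 (iv F48438)) (tt N6336 (iv F48211)) (tt N4454 F44429) (tt N4518 F44430) (tt N6243 (iv F47863)) (tt N4520 F44431) (tt N6122 (iv F47290)) (tt N6410 D12297) (tt N4453 (iv D11274)))
theorem Q5389 : ∀ i, i < 5389 → P i := stepQ 5388 Q5388 (allL N5388 (tt N6398 (iv F48442)) (tt N6242 (iv F47855)) (tt N6410 (iv F48487)) (tt N4526 F44432) (tt N6244 (iv F47867)) (tt N4885 F44433) (tt N6248 (iv F47882)) (tt N4454 (iv D11275)) (tt N4460 F44434))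
theorem Q5390 : ∀ i, i < 5390 → P i := stepQ 5389 Q5389 (allL N5389 (tt N6399 (iv F48446)) (tt N6244 (iv F47865)) (tt N6135 (iv F47345)) (tt N4529 F44435) (tt N6242 (iv F47857)) (tt N6139 (iv F47367)) (tt N4460 F44436) (tt N4455 (iv D11276)) (tt N6248 (iv F47883)))
theorem Q5391 : ∀ i, i < 5391 → P i := stepQ 5390 Q5390 (allL N5390 (tt N6402 (iv F48454)) (tt N5991 (iv F46735)) (tt N4458 F44437) (tt N5390 F44438) (tt N4527 F44439) (tt N4456 (iv D11277)) (tt N5994 (iv F46753)) (tt N6003 (iv F46799)) (tt N6411 D12298))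
theorem Q5392 : ∀ i, i < 5392 → P i := stepQ 5391 Q5391 (allL N5391 (tt N6403 (iv F48458)) (tt N6345 (iv F48246)) (tt N4459 F44440) (tt N5391 F44441) (tt N4457 F44442) (tt N6411 (iv F48493)) (tt N6134 (iv F47344)) (tt N6412 D12299) (tt N4456 (iv D11278)))
theorem Q5393 : ∀ i, i < 5393 → P i := stepQ 5392 Q5392 (allL N5392 (tt N6404 (iv F48462)) (tt N6346 (iv F48249)) (tt N4460 F44443) (tt N6139 (iv F47366)) (tt N6412 (iv F48495)) (tt N4529 F44444) (tt N6135 (iv F47348)) (tt N4457 (iv D11279)) (tt N6410 (iv F48489)))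
theorem Q5394 : ∀ i, i < 5394 → P i := stepQ 5393 Q5393 (allL N5393 (tt N6405 (iv F48465)) (tt N6123 (iv F47291)) (tt N6411 (iv F48490)) (tt N4461 F44445) (tt N4887 F44446) (tt N4459 F44447) (tt N6127 (iv F47314)) (tt N6413 D12300) (tt N4458 (iv D11280)))
theorem Q5395 : ∀ i, i < 5395 → P i := stepQ 5394 Q5394 (allL N5394 (tt N6406 (iv F48469)) (tt N6248 (iv F47879)) (tt N6412 (iv F48494)) (tt N6338 (iv F48220)) (tt N4460 F44448) (tt N6413 (iv F48497)) (tt N6242 (iv F47859)) (tt N4459 (iv D11281)) (tt N6244 (iv F47869)))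
theorem Q5396 : ∀ i, i < 5396 → P i := stepQ 5395 Q5395 (allL N5395 (tt N6407 (iv F48471)) (tt N6121 (iv F47279)) (tt N5395 F44449) (tt N6204 (iv F47674)) (tt N5990 (iv F46731)) (tt N5395 F44450) (tt N4463 F44451) (tt N4462 (iv D11282)) (tt N4700 F44452))
theorem Q5397 : ∀ i, i < 5397 → P i := stepQ 5396 Q5396 (allL N5396 (tt N6408 (iv F48476)) (tt N6201 (iv F47652)) (tt N6024 (iv F46892)) (tt N4463 (iv D11283)) (tt N6023 (iv F46887)) (tt N4464 F44453) (tt N6204 (iv F47677)) (tt N4893 F44454) (tt N4701 F44455))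
theorem Q5398 : ∀ i, i < 5398 → P i := stepQ 5397 Q5397 (allL N5397 (tt N6409 (iv F48480)) (tt N5922 (iv F46448)) (tt N4464 (iv D11284)) (tt N5397 F44456) (tt N4547 F44457) (tt N6024 (iv F46895)) (tt N5397 F44458) (tt N4894 F44459) (tt N4702 F44460))
theorem Q5399 : ∀ i, i < 5399 → P i := stepQ 5398 Q5398 (allL N5398 (tt N6254 (iv F47905)) (tt N4554 F44461) (tt N4467 F44462) (tt N5161 F44463) (tt N6414 D12301) (tt N4465 (iv D11285)) (tt N6036 (iv F46956)) (tt N6415 D12302) (tt N6177 (iv F47523)))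
theorem Q5400 : ∀ i, i < 5400 → P i := stepQ 5399 Q5399 (allL N5399 (tt N6255 (iv F47911)) (tt N4561 F44464) (tt N4468 F44465) (tt N6416 D12303) (tt N4703 F44466) (tt N6415 (iv F48505)) (tt N4466 F44467) (tt N4465 (iv D11286)) (tt N6417 D12304))
theorem Q5401 : ∀ i, i < 5401 → P i := stepQ 5400 Q5400 (allL N5400 (tt N6256 (iv F47916)) (tt N4562 F44468) (tt N6418 D12305) (tt N4466 (iv D11287)) (tt N6419 D12306) (tt N6038 (iv F46963)) (tt N6416 (iv F48507)) (tt N5800 (iv F45979)) (tt N6420 D12307))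
theorem Q5402 : ∀ i, i < 5402 → P i := stepQ 5401 Q5401 (allL N5401 (tt N6257 (iv F47918)) (tt N4563 F44469) (tt N4470 F44470) (tt N6420 (iv F48516)) (tt N4705 F44471) (tt N6039 (iv F46967)) (tt N6417 (iv F48511)) (tt N6369 (iv F48336)) (tt N4466 (iv D11288)))
theorem Q5403 : ∀ i, i < 5403 → P i := stepQ 5402 Q5402 (allL N5402 (tt N4695 F44472) (tt N4491 F44473) (tt N6414 (iv F48500)) (tt N5402 F44474) (tt N4467 (iv D11289)) (tt N4644 F44475) (tt N6040 (iv F46973)) (tt N6421 D12308) (tt N4643 F44476))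
theorem Q5404 : ∀ i, i < 5404 → P i := stepQ 5403 Q5403 (allL N5403 (tt N6258 (iv F47922)) (tt N4492 F44477) (tt N6415 (iv F48504)) (tt N6396 (iv F48435)) (tt N6421 (iv F48519)) (tt N4468 F44478) (tt N6041 (iv F46977)) (tt N4467 (iv D11290)) (tt N6422 D12309))
theorem Q5405 : ∀ i, i < 5405 → P i := stepQ 5404 Q5404 (allL N5404 (tt N6259 (iv F47926)) (tt N4493 F44479) (tt N6423 D12310) (tt N4468 (iv D11291)) (tt N6424 D12311) (tt N6396 (iv F48436)) (tt N4469 F44480) (tt N4471 F44481) (tt N6425 D12312))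
theorem Q5406 : ∀ i, i < 5406 → P i := stepQ 5405 Q5405 (allL N5405 (tt N6260 (iv F47931)) (tt N4494 F44482) (tt N6417 (iv F48509)) (tt N6425 (iv F48532)) (tt N4706 F44483) (tt N6422 (iv F48522)) (tt N4470 F44484) (tt N6220 (iv F47769)) (tt N4468 (iv D11292)))
theorem Q5407 : ∀ i, i < 5407 → P i := stepQ 5406 Q5406 (allL N5406 (tt N6261 (iv F47936)) (tt N6426 D12313) (tt N4469 (iv D11293)) (tt N6418 (iv F48512)) (tt N6427 D12314) (tt N6044 (iv F46985)) (tt N6423 (iv F48524)) (tt N4473 F44485) (tt N6428 D12315))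
theorem Q5408 : ∀ i, i < 5408 → P i := stepQ 5407 Q5407 (allL N5407 (tt N6262 (iv F47938)) (tt N4496 F44486) (tt N6427 (iv F48537)) (tt N4708 F44487) (tt N4469 (iv D11294)) (tt N6429 D12316) (tt N6424 (iv F48529)) (tt N4474 F44488) (tt N6430 D12317))
theorem Q5409 : ∀ i, i < 5409 → P i := stepQ 5408 Q5408 (allL N5408 (tt N6263 (iv F47943)) (tt N4497 F44489) (tt N6428 (iv F48539)) (tt N4470 F44490) (tt N6430 (iv F48545)) (tt N6046 (iv F46992)) (tt N6425 (iv F48533)) (tt N6431 D12318) (tt N4469 (iv D11295)))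
theorem Q5410 : ∀ i, i < 5410 → P i := stepQ 5409 Q5409 (allL N5409 (tt N6266 (iv F47954)) (tt N4857 F44491) (tt N4471 (iv D11296)) (tt N5412 (iv F44500)) (tt N6432 D12319) (tt N6374 (iv F48349)) (tt N4473 F44492) (tt N6423 (iv F48525)) (tt N6433 D12320))
theorem Q5411 : ∀ i, i < 5411 → P i := stepQ 5410 Q5410 (allL N5410 (tt N6267 (iv F47956)) (tt N4498 F44493) (tt N6432 (iv F48549)) (tt N4477 F44494) (tt N4471 (iv D11297)) (tt N6434 D12321) (tt N4474 F44495) (tt N6424 (iv F48530)) (tt N6435 D12322))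
theorem Q5412 : ∀ i, i < 5412 → P i := stepQ 5411 Q5411 (allL N5411 (tt N6268 (iv F47961)) (tt N4499 F44496) (tt N6433 (iv F48552)) (tt N4472 F44497) (tt N6435 (iv F48558)) (tt N6401 (iv F48453)) (tt N4475 F44498) (tt N6436 D12323) (tt N4471 (iv D11298)))
theorem Q5413 : ∀ i, i < 5413 → P i := stepQ 5412 Q5412 (allL N5412 (tt N6437 D12324) (tt N4473 (iv D11299)) (tt N4500 F44499) (tt N5409 F44500) (tt N6438 D12325) (tt N6052 (iv F47009)) (tt N4857 F44501) (tt N6426 (iv F48536)) (tt N6439 D12326))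
theorem Q5414 : ∀ i, i < 5414 → P i := stepQ 5413 Q5413 (allL N5413 (tt N6270 (iv F47966)) (tt N6438 (iv F48565)) (tt N4474 F44502) (tt N6440 D12327) (tt N4473 (iv D11300)) (tt N6441 D12328) (tt N6432 (iv F48550)) (tt N6427 (iv F48538)) (tt N6442 D12329))
theorem Q5415 : ∀ i, i < 5415 → P i := stepQ 5414 Q5414 (allL N5414 (tt N6271 (iv F47968)) (tt N6439 (iv F48568)) (tt N4475 F44503) (tt N5806 (iv F45991)) (tt N6442 (iv F48575)) (tt N6054 (iv F47012)) (tt N6433 (iv F48553)) (tt N6443 D12330) (tt N4473 (iv D11301)))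
theorem Q5416 : ∀ i, i < 5416 → P i := stepQ 5415 Q5415 (allL N5415 (tt N6272 (iv F47970)) (tt N4503 F44504) (tt N6441 (iv F48573)) (tt N4481 F44505) (tt N6055 (iv F47015)) (tt N4474 (iv D11302)) (tt N6444 D12331) (tt N6429 (iv F48542)) (tt N6445 D12332))
theorem Q5417 : ∀ i, i < 5417 → P i := stepQ 5416 Q5416 (allL N5416 (tt N6273 (iv F47973)) (tt N4504 F44506) (tt N6442 (iv F48574)) (tt N4482 F44507) (tt N4475 F44508) (tt N6445 (iv F48581)) (tt N6435 (iv F48559)) (tt N6446 D12333) (tt N4474 (iv D11303)))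
theorem Q5418 : ∀ i, i < 5418 → P i := stepQ 5417 Q5417 (allL N5417 (tt N6274 (iv F47977)) (tt N4505 F44509) (tt N6443 (iv F48576)) (tt N6379 (iv F48361)) (tt N6446 (iv F48583)) (tt N6057 (iv F47021)) (tt N6436 (iv F48561)) (tt N4475 (iv D11304)) (tt N6431 (iv F48547)))
theorem Q5419 : ∀ i, i < 5419 → P i := stepQ 5418 Q5418 (allL N5418 (tt N6275 (iv F47979)) (tt N4579 F44510) (tt N4477 F44511) (tt N6447 D12334) (tt N4476 (iv D11305)) (tt N6448 D12335) (tt N4479 F44512) (tt N4712 F44513) (tt N6449 D12336))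
theorem Q5420 : ∀ i, i < 5420 → P i := stepQ 5419 Q5419 (allL N5419 (tt N6276 (iv F47984)) (tt N4580 F44514) (tt N4478 F44515) (tt N5524 (iv F44872)) (tt N6449 (iv F48592)) (tt N5419 F44516) (tt N4480 F44517) (tt N6450 D12337) (tt N4476 (iv D11306)))
theorem Q5421 : ∀ i, i < 5421 → P i := stepQ 5420 Q5420 (allL N5420 (tt N6277 (iv F47990)) (tt N4506 F44518) (tt N6448 (iv F48587)) (tt N6434 (iv F48555)) (tt N5420 F44519) (tt N4477 (iv D11307)) (tt N6451 D12338) (tt N4713 F44520) (tt N6452 D12339))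
theorem Q5422 : ∀ i, i < 5422 → P i := stepQ 5421 Q5421 (allL N5421 (tt N6278 (iv F47994)) (tt N4507 F44521) (tt N6449 (iv F48591)) (tt N6435 (iv F48557)) (tt N4478 F44522) (tt N6452 (iv F48606)) (tt N4482 F44523) (tt N6453 D12340) (tt N4477 (iv D11308)))
theorem Q5423 : ∀ i, i < 5423 → P i := stepQ 5422 Q5422 (allL N5422 (tt N4709 F44524) (tt N4508 F44525) (tt N6450 (iv F48596)) (tt N4652 F44526) (tt N6453 (iv F48609)) (tt N5422 F44527) (tt N4483 F44528) (tt N4478 (iv D11309)) (tt N4651 F44529))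
theorem Q5424 : ∀ i, i < 5424 → P i := stepQ 5423 Q5423 (allL N5423 (tt N6279 (iv F47999)) (tt N4584 F44530) (tt N6440 (iv F48572)) (tt N4479 (iv D11310)) (tt N5810 (iv F45999)) (tt N6454 D12341) (tt N6447 (iv F48585)) (tt N6455 D12342) (tt N6456 D12343))
theorem Q5425 : ∀ i, i < 5425 → P i := stepQ 5424 Q5424 (allL N5424 (tt N6280 (iv F48001)) (tt N4585 F44531) (tt N4481 F44532) (tt N6454 (iv F48613)) (tt N4485 F44533) (tt N4479 (iv D11311)) (tt N6457 D12344) (tt N4715 F44534) (tt N6458 D12345))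
theorem Q5426 : ∀ i, i < 5426 → P i := stepQ 5425 Q5425 (allL N5425 (tt N6281 (iv F48006)) (tt N4586 F44535) (tt N4482 F44536) (tt N6456 (iv F48617)) (tt N4480 F44537) (tt N6458 (iv F48625)) (tt N6449 (iv F48593)) (tt N6459 D12346) (tt N4479 (iv D11312)))
theorem Q5427 : ∀ i, i < 5427 → P i := stepQ 5426 Q5426 (allL N5426 (tt N6282 (iv F48010)) (tt N4587 F44538) (tt N4483 F44539) (tt N6460 D12347) (tt N6459 (iv F48628)) (tt N4487 F44540) (tt N6450 (iv F48598)) (tt N4480 (iv D11313)) (tt N4717 F44541))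
theorem Q5428 : ∀ i, i < 5428 → P i := stepQ 5427 Q5427 (allL N5427 (tt N6283 (iv F48016)) (tt N4509 F44542) (tt N6457 (iv F48619)) (tt N6444 (iv F48578)) (tt N4488 F44543) (tt N6451 (iv F48602)) (tt N4481 (iv D11314)) (tt N4718 F44544) (tt N6461 D12348))
theorem Q5429 : ∀ i, i < 5429 → P i := stepQ 5428 Q5428 (allL N5428 (tt N6284 (iv F48020)) (tt N4510 F44545) (tt N6458 (iv F48623)) (tt N6445 (iv F48580)) (tt N4489 F44546) (tt N4482 F44547) (tt N6461 (iv F48635)) (tt N6462 D12349) (tt N4481 (iv D11315)))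
theorem Q5430 : ∀ i, i < 5430 → P i := stepQ 5429 Q5429 (allL N5429 (tt N6285 (iv F48024)) (tt N4511 F44548) (tt N6459 (iv F48627)) (tt N6463 D12350) (tt N4483 F44549) (tt N6462 (iv F48638)) (tt N6453 (iv F48610)) (tt N4482 (iv D11316)) (tt N4720 F44550))
theorem Q5431 : ∀ i, i < 5431 → P i := stepQ 5430 Q5430 (allL N5430 (tt N6286 (iv F48029)) (tt N4591 F44551) (tt N6070 (iv F47064)) (tt N4485 F44552) (tt N6464 D12351) (tt N4484 (iv D11317)) (tt N6465 D12352) (tt N6466 D12353) (tt N6467 D12354))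
theorem Q5432 : ∀ i, i < 5432 → P i := stepQ 5431 Q5431 (allL N5431 (tt N6287 (iv F48032)) (tt N4592 F44553) (tt N6071 (iv F47067)) (tt N4722 F44554) (tt N5818 (iv F46024)) (tt N6466 (iv F48648)) (tt N5431 F44555) (tt N4484 (iv D11318)) (tt N6468 D12355))
theorem Q5433 : ∀ i, i < 5433 → P i := stepQ 5432 Q5432 (allL N5432 (tt N6288 (iv F48036)) (tt N4593 F44556) (tt N6072 (iv F47071)) (tt N4486 F44557) (tt N5819 (iv F46028)) (tt N6467 (iv F48651)) (tt N5432 F44558) (tt N6469 D12356) (tt N4484 (iv D11319)))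
theorem Q5434 : ∀ i, i < 5434 → P i := stepQ 5433 Q5433 (allL N5433 (tt N6289 (iv F48040)) (tt N4594 F44559) (tt N4488 F44560) (tt N6465 (iv F48644)) (tt N6457 (iv F48620)) (tt N5433 F44561) (tt N4485 (iv D11320)) (tt N4724 F44562) (tt N6470 D12357))
theorem Q5435 : ∀ i, i < 5435 → P i := stepQ 5434 Q5434 (allL N5434 (tt N6290 (iv F48045)) (tt N4595 F44563) (tt N4489 F44564) (tt N6467 (iv F48650)) (tt N6458 (iv F48624)) (tt N4486 F44565) (tt N6470 (iv F48665)) (tt N6471 D12358) (tt N4485 (iv D11321)))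
theorem Q5436 : ∀ i, i < 5436 → P i := stepQ 5435 Q5435 (allL N5435 (tt N6291 (iv F48049)) (tt N4596 F44566) (tt N4490 F44567) (tt N6472 D12359) (tt N4487 F44568) (tt N6471 (iv F48668)) (tt N5435 F44569) (tt N4486 (iv D11322)) (tt N4726 F44570))
theorem Q5437 : ∀ i, i < 5437 → P i := stepQ 5436 Q5436 (allL N5436 (tt N6292 (iv F48055)) (tt N4597 F44571) (tt N6392 (iv F48417)) (tt N4487 (iv D11323)) (tt N6473 D12360) (tt N6460 (iv F48631)) (tt N5436 F44572) (tt N5823 (iv F46044)) (tt N4727 F44573))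
theorem Q5438 : ∀ i, i < 5438 → P i := stepQ 5437 Q5437 (allL N5437 (tt N6293 (iv F48059)) (tt N4512 F44574) (tt N6470 (iv F48663)) (tt N6077 (iv F47091)) (tt N6461 (iv F48634)) (tt N5437 F44575) (tt N4489 F44576) (tt N6474 D12361) (tt N4488 (iv D11324)))
theorem Q5439 : ∀ i, i < 5439 → P i := stepQ 5438 Q5438 (allL N5438 (tt N6294 (iv F48063)) (tt N4513 F44577) (tt N6471 (iv F48667)) (tt N6475 D12362) (tt N6462 (iv F48637)) (tt N4490 F44578) (tt N6474 (iv F48685)) (tt N4489 (iv D11325)) (tt N4729 F44579))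
theorem Q5440 : ∀ i, i < 5440 → P i := stepQ 5439 Q5439 (allL N5439 (tt N6295 (iv F48067)) (tt N4514 F44580) (tt N6476 D12363) (tt N4490 (iv D11326)) (tt N6395 (iv F48431)) (tt N6475 (iv F48688)) (tt N5439 F44581) (tt N6079 (iv F47100)) (tt N4730 F44582))
theorem Q5441 : ∀ i, i < 5441 → P i := stepQ 5440 Q5440 (allL N5440 (tt N4517 F44583) (tt N6421 (iv F48518)) (tt N4558 F44584) (tt N6195 (iv F47621)) (tt N4492 F44585) (tt N4646 F44586) (tt N6080 (iv F47106)) (tt N4491 (iv D11327)) (tt N6234 (iv F47827)))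
theorem Q5442 : ∀ i, i < 5442 → P i := stepQ 5441 Q5441 (allL N5441 (tt N4518 F44587) (tt N6422 (iv F48521)) (tt N4559 F44588) (tt N6397 (iv F48440)) (tt N6234 (iv F47825)) (tt N4494 F44589) (tt N6082 (iv F47117)) (tt N6184 (iv F47563)) (tt N4492 (iv D11328)))
theorem Q5443 : ∀ i, i < 5443 → P i := stepQ 5442 Q5442 (allL N5442 (tt N4519 F44590) (tt N6424 (iv F48527)) (tt N4872 F44591) (tt N4674 F44592) (tt N4493 (iv D11329)) (tt N6477 D12364) (tt N4496 F44593) (tt N4498 F44594) (tt N6327 (iv F48178)))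
theorem Q5444 : ∀ i, i < 5444 → P i := stepQ 5443 Q5443 (allL N5443 (tt N4520 F44595) (tt N6425 (iv F48531)) (tt N4873 F44596) (tt N4494 F44597) (tt N6327 (iv F48176)) (tt N6397 (iv F48441)) (tt N4497 F44598) (tt N6478 D12365) (tt N4493 (iv D11330)))
theorem Q5445 : ∀ i, i < 5445 → P i := stepQ 5444 Q5444 (allL N5444 (tt N6479 D12366) (tt N4495 (iv D11331)) (tt N6426 (iv F48534)) (tt N4568 F44599) (tt N6480 D12367) (tt N6086 (iv F47135)) (tt N4855 F44600) (tt N4500 F44601) (tt N6481 D12368))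
theorem Q5446 : ∀ i, i < 5446 → P i := stepQ 5445 Q5445 (allL N5445 (tt N4522 F44602) (tt N6480 (iv F48708)) (tt N4496 F44603) (tt N5445 F44604) (tt N4495 (iv D11332)) (tt N6482 D12369) (tt N4872 F44605) (tt N4501 F44606) (tt N6483 D12370))
theorem Q5447 : ∀ i, i < 5447 → P i := stepQ 5446 Q5446 (allL N5446 (tt N4523 F44607) (tt N6481 (iv F48712)) (tt N4497 F44608) (tt N4569 F44609) (tt N6483 (iv F48722)) (tt N6088 (iv F47145)) (tt N4873 F44610) (tt N6484 D12371) (tt N4495 (iv D11333)))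
theorem Q5448 : ∀ i, i < 5448 → P i := stepQ 5447 Q5447 (allL N5447 (tt N4524 F44611) (tt N6429 (iv F48540)) (tt N6482 (iv F48716)) (tt N4731 F44612) (tt N6089 (iv F47148)) (tt N4496 (iv D11334)) (tt N6485 D12372) (tt N4503 F44613) (tt N6486 D12373))
theorem Q5449 : ∀ i, i < 5449 → P i := stepQ 5448 Q5448 (allL N5448 (tt N4525 F44614) (tt N6430 (iv F48543)) (tt N6483 (iv F48720)) (tt N4732 F44615) (tt N4497 F44616) (tt N6486 (iv F48733)) (tt N6327 (iv F48177)) (tt N6487 D12374) (tt N4496 (iv D11335)))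
theorem Q5450 : ∀ i, i < 5450 → P i := stepQ 5449 Q5449 (allL N5449 (tt N4526 F44617) (tt N6431 (iv F48546)) (tt N6484 (iv F48725)) (tt N6398 (iv F48443)) (tt N6487 (iv F48735)) (tt N6091 (iv F47155)) (tt N6478 (iv F48702)) (tt N4497 (iv D11336)) (tt N4505 F44618))
theorem Q5451 : ∀ i, i < 5451 → P i := stepQ 5450 Q5450 (allL N5450 (tt N4527 F44619) (tt N6434 (iv F48554)) (tt N4874 F44620) (tt N4506 F44621) (tt N6402 (iv F48457)) (tt N4498 (iv D11337)) (tt N6488 D12375) (tt N6477 (iv F48699)) (tt N6489 D12376))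
theorem Q5452 : ∀ i, i < 5452 → P i := stepQ 5451 Q5451 (allL N5451 (tt N4528 F44622) (tt N6435 (iv F48556)) (tt N4875 F44623) (tt N4507 F44624) (tt N4499 F44625) (tt N6489 (iv F48744)) (tt N4504 F44626) (tt N6490 D12377) (tt N4498 (iv D11338)))
theorem Q5453 : ∀ i, i < 5453 → P i := stepQ 5452 Q5452 (allL N5452 (tt N4529 F44627) (tt N6436 (iv F48560)) (tt N4876 F44628) (tt N6399 (iv F48447)) (tt N6490 (iv F48747)) (tt N6404 (iv F48464)) (tt N4505 F44629) (tt N4499 (iv D11339)) (tt N6478 (iv F48703)))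
theorem Q5454 : ∀ i, i < 5454 → P i := stepQ 5453 Q5453 (allL N5453 (tt N4500 (iv D11340)) (tt N4530 F44630) (tt N6437 (iv F48562)) (tt N4515 F44631) (tt N6491 D12378) (tt N6100 (iv F47196)) (tt N4815 F44632) (tt N6479 (iv F48707)) (tt N6492 D12379))
theorem Q5455 : ∀ i, i < 5455 → P i := stepQ 5454 Q5454 (allL N5454 (tt N6491 (iv F48749)) (tt N4501 F44633) (tt N6438 (iv F48566)) (tt N4602 F44634) (tt N4500 (iv D11341)) (tt N6493 D12380) (tt N4858 F44635) (tt N6480 (iv F48711)) (tt N6494 D12381))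
theorem Q5456 : ∀ i, i < 5456 → P i := stepQ 5455 Q5455 (allL N5455 (tt N6492 (iv F48753)) (tt N4502 F44636) (tt N6439 (iv F48569)) (tt N4516 F44637) (tt N6494 (iv F48761)) (tt N6102 (iv F47201)) (tt N4859 F44638) (tt N6495 D12382) (tt N4500 (iv D11342)))
theorem Q5457 : ∀ i, i < 5457 → P i := stepQ 5456 Q5456 (allL N5456 (tt N4533 F44639) (tt N6493 (iv F48757)) (tt N4503 F44640) (tt N4604 F44641) (tt N6103 (iv F47205)) (tt N4501 (iv D11343)) (tt N6496 D12383) (tt N6482 (iv F48718)) (tt N6497 D12384))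
theorem Q5458 : ∀ i, i < 5458 → P i := stepQ 5457 Q5457 (allL N5457 (tt N4534 F44642) (tt N6494 (iv F48759)) (tt N4504 F44643) (tt N4605 F44644) (tt N4502 F44645) (tt N6497 (iv F48772)) (tt N4875 F44646) (tt N6498 D12385) (tt N4501 (iv D11344)))
theorem Q5459 : ∀ i, i < 5459 → P i := stepQ 5458 Q5458 (allL N5458 (tt N4535 F44647) (tt N6495 (iv F48763)) (tt N4505 F44648) (tt N6099 (iv F47192)) (tt N6498 (iv F48775)) (tt N6105 (iv F47212)) (tt N4876 F44649) (tt N4502 (iv D11345)) (tt N6484 (iv F48727)))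
theorem Q5460 : ∀ i, i < 5460 → P i := stepQ 5459 Q5459 (allL N5459 (tt N4536 F44650) (tt N6444 (iv F48577)) (tt N6496 (iv F48766)) (tt N4509 F44651) (tt N6106 (iv F47215)) (tt N6488 (iv F48740)) (tt N4503 (iv D11346)) (tt N6485 (iv F48730)) (tt N6499 D12386))
theorem Q5461 : ∀ i, i < 5461 → P i := stepQ 5460 Q5460 (allL N5460 (tt N4537 F44652) (tt N6445 (iv F48579)) (tt N6497 (iv F48770)) (tt N4510 F44653) (tt N6107 (iv F47218)) (tt N4504 F44654) (tt N6499 (iv F48779)) (tt N6500 D12387) (tt N4503 (iv D11347)))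
theorem Q5462 : ∀ i, i < 5462 → P i := stepQ 5461 Q5461 (allL N5461 (tt N4538 F44655) (tt N6446 (iv F48582)) (tt N6498 (iv F48774)) (tt N6501 D12388) (tt N4505 F44656) (tt N6500 (iv F48781)) (tt N6490 (iv F48748)) (tt N4504 (iv D11348)) (tt N6487 (iv F48736)))
theorem Q5463 : ∀ i, i < 5463 → P i := stepQ 5462 Q5462 (allL N5462 (tt N4539 F44657) (tt N6451 (iv F48600)) (tt N4610 F44658) (tt N6488 (iv F48739)) (tt N5462 F44659) (tt N4509 F44660) (tt N4506 (iv D11349)) (tt N4734 F44661) (tt N6502 D12389))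
theorem Q5464 : ∀ i, i < 5464 → P i := stepQ 5463 Q5463 (allL N5463 (tt N4540 F44662) (tt N6452 (iv F48604)) (tt N4611 F44663) (tt N6489 (iv F48743)) (tt N5463 F44664) (tt N4507 F44665) (tt N6502 (iv F48788)) (tt N6503 D12390) (tt N4506 (iv D11350)))
theorem Q5465 : ∀ i, i < 5465 → P i := stepQ 5464 Q5464 (allL N5464 (tt N4541 F44666) (tt N6453 (iv F48608)) (tt N4612 F44667) (tt N6304 (iv F48102)) (tt N4508 F44668) (tt N6503 (iv F48792)) (tt N4511 F44669) (tt N4507 (iv D11351)) (tt N4669 F44670))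
theorem Q5466 : ∀ i, i < 5466 → P i := stepQ 5465 Q5465 (allL N5465 (tt N4542 F44671) (tt N6461 (iv F48633)) (tt N4613 F44672) (tt N6499 (iv F48778)) (tt N4512 F44673) (tt N6502 (iv F48787)) (tt N4510 F44674) (tt N6504 D12391) (tt N4509 (iv D11352)))
theorem Q5467 : ∀ i, i < 5467 → P i := stepQ 5466 Q5466 (allL N5466 (tt N4543 F44675) (tt N6462 (iv F48636)) (tt N4614 F44676) (tt N6505 D12392) (tt N4513 F44677) (tt N4511 F44678) (tt N6504 (iv F48797)) (tt N4510 (iv D11353)) (tt N4736 F44679))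
theorem Q5468 : ∀ i, i < 5468 → P i := stepQ 5467 Q5467 (allL N5467 (tt N4544 F44680) (tt N6463 (iv F48640)) (tt N6506 D12393) (tt N4511 (iv D11354)) (tt N6299 (iv F48086)) (tt N6505 (iv F48800)) (tt N6304 (iv F48104)) (tt N6501 (iv F48783)) (tt N4737 F44681))
theorem Q5469 : ∀ i, i < 5469 → P i := stepQ 5468 Q5468 (allL N5468 (tt N4545 F44682) (tt N6474 (iv F48683)) (tt N4616 F44683) (tt N5909 (iv F46366)) (tt N6504 (iv F48796)) (tt N5468 F44684) (tt N4513 F44685) (tt N4512 (iv D11355)) (tt N4738 F44686))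
theorem Q5470 : ∀ i, i < 5470 → P i := stepQ 5469 Q5469 (allL N5469 (tt N4546 F44687) (tt N6475 (iv F48687)) (tt N5907 (iv F46354)) (tt N4513 (iv D11356)) (tt N5984 (iv F46708)) (tt N4514 F44688) (tt N5909 (iv F46369)) (tt N6116 (iv F47255)) (tt N4739 F44689))
theorem Q5471 : ∀ i, i < 5471 → P i := stepQ 5470 Q5470 (allL N5470 (tt N4547 F44690) (tt N6507 D12394) (tt N4514 (iv D11357)) (tt N4618 F44691) (tt N6409 (iv F48483)) (tt N5907 (iv F46357)) (tt N5470 F44692) (tt N6117 (iv F47261)) (tt N4740 F44693))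
theorem Q5472 : ∀ i, i < 5472 → P i := stepQ 5471 Q5471 (allL N5471 (tt N4516 F44694) (tt N4548 F44695) (tt N5261 F44696) (tt N6492 (iv F48755)) (tt N4619 F44697) (tt N6120 (iv F47278)) (tt N4816 F44698) (tt N5937 (iv F46525)) (tt N4515 (iv D11358)))
theorem Q5473 : ∀ i, i < 5473 → P i := stepQ 5472 Q5472 (allL N5472 (tt N6477 (iv F48696)) (tt N4744 F44699) (tt N4883 F44700) (tt N4682 F44701) (tt N6003 (iv F46796)) (tt N4519 (iv D11359)) (tt N6008 (iv F46819)) (tt N4527 F44702) (tt N6363 (iv F48314)))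
theorem Q5474 : ∀ i, i < 5474 → P i := stepQ 5473 Q5473 (allL N5473 (tt N6478 (iv F48700)) (tt N6338 (iv F48219)) (tt N4885 F44703) (tt N6248 (iv F47880)) (tt N6360 (iv F48295)) (tt N6410 (iv F48488)) (tt N4526 F44704) (tt N4520 (iv D11360)) (tt N4529 F44705))
theorem Q5475 : ∀ i, i < 5475 → P i := stepQ 5474 Q5474 (allL N5474 (tt N4521 (iv D11361)) (tt N6479 (iv F48704)) (tt N6339 (iv F48224)) (tt N4571 F44706) (tt N6508 D12395) (tt N6126 (iv F47307)) (tt N4825 F44707) (tt N4530 F44708) (tt N6509 D12396))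
theorem Q5476 : ∀ i, i < 5476 → P i := stepQ 5475 Q5475 (allL N5475 (tt N6508 (iv F48812)) (tt N4522 F44709) (tt N6140 (iv F47370)) (tt N5475 F44710) (tt N4521 (iv D11362)) (tt N6148 (iv F47405)) (tt N4840 F44711) (tt N4531 F44712) (tt N6510 D12397))
theorem Q5477 : ∀ i, i < 5477 → P i := stepQ 5476 Q5476 (allL N5476 (tt N6509 (iv F48816)) (tt N4523 F44713) (tt N6340 (iv F48229)) (tt N4572 F44714) (tt N6510 (iv F48821)) (tt N6127 (iv F47313)) (tt N4841 F44715) (tt N6511 D12398) (tt N4521 (iv D11363)))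
theorem Q5478 : ∀ i, i < 5478 → P i := stepQ 5477 Q5477 (allL N5477 (tt N6482 (iv F48715)) (tt N6148 (iv F47401)) (tt N4524 F44716) (tt N5477 F44717) (tt N6128 (iv F47318)) (tt N4522 (iv D11364)) (tt N6145 (iv F47393)) (tt N4533 F44718) (tt N6512 D12399))
theorem Q5479 : ∀ i, i < 5479 → P i := stepQ 5478 Q5478 (allL N5478 (tt N6483 (iv F48719)) (tt N6510 (iv F48819)) (tt N4525 F44719) (tt N5478 F44720) (tt N4523 F44721) (tt N6512 (iv F48828)) (tt N4884 F44722) (tt N6513 D12400) (tt N4522 (iv D11365)))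
theorem Q5480 : ∀ i, i < 5480 → P i := stepQ 5479 Q5479 (allL N5479 (tt N6484 (iv F48724)) (tt N6511 (iv F48823)) (tt N4526 F44723) (tt N6125 (iv F47302)) (tt N6513 (iv F48830)) (tt N6130 (iv F47327)) (tt N4885 F44724) (tt N4523 (iv D11366)) (tt N4535 F44725))
theorem Q5481 : ∀ i, i < 5481 → P i := stepQ 5480 Q5480 (allL N5480 (tt N6485 (iv F48728)) (tt N6010 (iv F46826)) (tt N6145 (iv F47390)) (tt N4741 F44726) (tt N6131 (iv F47332)) (tt N6008 F46821) (tt N4524 (iv D11367)) (tt N4536 F44727) (tt N6514 D12401))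
theorem Q5482 : ∀ i, i < 5482 → P i := stepQ 5481 Q5481 (allL N5481 (tt N6486 (iv F48731)) (tt N6343 (iv F48238)) (tt N6512 (iv F48826)) (tt N4742 F44728) (tt N6132 (iv F47336)) (tt N4525 F44729) (tt N6514 (iv F48834)) (tt N6515 D12402) (tt N4524 (iv D11368)))
theorem Q5483 : ∀ i, i < 5483 → P i := stepQ 5482 Q5482 (allL N5482 (tt N6487 (iv F48734)) (tt N6344 (iv F48241)) (tt N6513 (iv F48829)) (tt N6350 (iv F48263)) (tt N4526 F44730) (tt N6515 (iv F48835)) (tt N6360 (iv F48296)) (tt N4525 (iv D11369)) (tt N4538 F44731))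
theorem Q5484 : ∀ i, i < 5484 → P i := stepQ 5483 Q5483 (allL N5483 (tt N6488 (iv F48737)) (tt N5995 (iv F46756)) (tt N4886 F44732) (tt N4539 F44733) (tt N5994 F46755) (tt N4536 F44734) (tt N4527 (iv D11370)) (tt N6008 (iv F46820)) (tt N6516 D12403))
theorem Q5485 : ∀ i, i < 5485 → P i := stepQ 5484 Q5484 (allL N5484 (tt N6489 (iv F48741)) (tt N6349 (iv F48259)) (tt N4887 F44735) (tt N4540 F44736) (tt N6411 (iv F48492)) (tt N4528 F44737) (tt N6516 (iv F48840)) (tt N6517 D12404) (tt N4527 (iv D11371)))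
theorem Q5486 : ∀ i, i < 5486 → P i := stepQ 5485 Q5485 (allL N5485 (tt N6490 (iv F48745)) (tt N6350 (iv F48262)) (tt N4888 F44738) (tt N6344 (iv F48242)) (tt N4529 F44739) (tt N6517 (iv F48842)) (tt N4538 F44740) (tt N4528 (iv D11372)) (tt N6360 (iv F48298)))
theorem Q5487 : ∀ i, i < 5487 → P i := stepQ 5486 Q5486 (allL N5486 (tt N4531 F44741) (tt N6491 (iv F48750)) (tt N6351 (iv F48268)) (tt N4620 F44742) (tt N4530 (iv D11373)) (tt N6518 D12405) (tt N4828 F44743) (tt N6508 (iv F48815)) (tt N6519 D12406))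
theorem Q5488 : ∀ i, i < 5488 → P i := stepQ 5487 Q5487 (allL N5487 (tt N4532 F44744) (tt N6492 (iv F48754)) (tt N6352 (iv F48272)) (tt N4548 F44745) (tt N6519 (iv F48847)) (tt N6144 (iv F47388)) (tt N4829 F44746) (tt N6520 D12407) (tt N4530 (iv D11374)))
theorem Q5489 : ∀ i, i < 5489 → P i := stepQ 5488 Q5488 (allL N5488 (tt N6518 (iv F48843)) (tt N4533 F44747) (tt N6131 (iv F47330)) (tt N4622 F44748) (tt N6145 (iv F47392)) (tt N4531 (iv D11375)) (tt N6128 (iv F47319)) (tt N6148 (iv F47406)) (tt N6521 D12408))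
theorem Q5490 : ∀ i, i < 5490 → P i := stepQ 5489 Q5489 (allL N5489 (tt N6519 (iv F48845)) (tt N4534 F44749) (tt N6353 (iv F48276)) (tt N4623 F44750) (tt N4532 F44751) (tt N6521 (iv F48853)) (tt N4845 F44752) (tt N6522 D12409) (tt N4531 (iv D11376)))
theorem Q5491 : ∀ i, i < 5491 → P i := stepQ 5490 Q5490 (allL N5490 (tt N6520 (iv F48849)) (tt N4535 F44753) (tt N6354 (iv F48281)) (tt N6006 (iv F46811)) (tt N6522 (iv F48855)) (tt N6147 (iv F47400)) (tt N4846 F44754) (tt N4532 (iv D11377)) (tt N6511 (iv F48825)))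
theorem Q5492 : ∀ i, i < 5492 → P i := stepQ 5491 Q5491 (allL N5491 (tt N6496 (iv F48765)) (tt N6128 (iv F47315)) (tt N4536 F44755) (tt N4625 F44756) (tt N6148 (iv F47404)) (tt N4886 F44757) (tt N4533 (iv D11378)) (tt N6145 (iv F47394)) (tt N6523 D12410))
theorem Q5493 : ∀ i, i < 5493 → P i := stepQ 5492 Q5492 (allL N5492 (tt N6497 (iv F48769)) (tt N6521 (iv F48851)) (tt N4537 F44758) (tt N4626 F44759) (tt N6149 (iv F47409)) (tt N4534 F44760) (tt N6523 (iv F48860)) (tt N6524 D12411) (tt N4533 (iv D11379)))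
theorem Q5494 : ∀ i, i < 5494 → P i := stepQ 5493 Q5493 (allL N5493 (tt N6498 (iv F48773)) (tt N6522 (iv F48854)) (tt N4538 F44761) (tt N6525 D12412) (tt N4535 F44762) (tt N6524 (iv F48862)) (tt N4888 F44763) (tt N4534 (iv D11380)) (tt N6513 (iv F48832)))
theorem Q5495 : ∀ i, i < 5495 → P i := stepQ 5494 Q5494 (allL N5494 (tt N6499 (iv F48777)) (tt N6358 (iv F48289)) (tt N6523 (iv F48857)) (tt N4542 F44764) (tt N6151 (iv F47414)) (tt N6516 (iv F48839)) (tt N4537 F44765) (tt N6526 D12413) (tt N4536 (iv D11381)))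
theorem Q5496 : ∀ i, i < 5496 → P i := stepQ 5495 Q5495 (allL N5495 (tt N6500 (iv F48780)) (tt N6359 (iv F48292)) (tt N6524 (iv F48861)) (tt N6527 D12414) (tt N6152 (iv F47416)) (tt N4538 F44766) (tt N6526 (iv F48865)) (tt N4537 (iv D11382)) (tt N6515 (iv F48836)))
theorem Q5497 : ∀ i, i < 5497 → P i := stepQ 5496 Q5496 (allL N5496 (tt N6501 (iv F48782)) (tt N6360 (iv F48294)) (tt N6528 D12415) (tt N4538 (iv D11383)) (tt N6338 (iv F48221)) (tt N6527 (iv F48866)) (tt N6344 (iv F48244)) (tt N4544 F44767) (tt N6350 (iv F48266)))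
theorem Q5498 : ∀ i, i < 5498 → P i := stepQ 5497 Q5497 (allL N5497 (tt N6502 (iv F48784)) (tt N6361 (iv F48300)) (tt N4631 F44768) (tt N6516 (iv F48838)) (tt N5497 F44769) (tt N4542 F44770) (tt N4540 F44771) (tt N6529 D12416) (tt N4539 (iv D11384)))
theorem Q5499 : ∀ i, i < 5499 → P i := stepQ 5498 Q5498 (allL N5498 (tt N6503 (iv F48789)) (tt N4742 F44772) (tt N4632 F44773) (tt N6343 (iv F48239)) (tt N5498 F44774) (tt N4541 F44775) (tt N6529 (iv F48873)) (tt N4540 (iv D11385)) (tt N4678 F44776))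
theorem Q5500 : ∀ i, i < 5500 → P i := stepQ 5499 Q5499 (allL N5499 (tt N6504 (iv F48794)) (tt N6362 (iv F48306)) (tt N4634 F44777) (tt N6011 (iv F46833)) (tt N4545 F44778) (tt N6529 (iv F48872)) (tt N4543 F44779) (tt N4542 (iv D11386)) (tt N4743 F44780))
theorem Q5501 : ∀ i, i < 5501 → P i := stepQ 5500 Q5500 (allL N5500 (tt N6505 (iv F48799)) (tt N6363 (iv F48312)) (tt N6005 (iv F46805)) (tt N4543 (iv D11387)) (tt N6004 (iv F46802)) (tt N4544 F44781) (tt N6011 (iv F46835)) (tt N6527 (iv F48867)) (tt N4744 F44782))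
theorem Q5502 : ∀ i, i < 5502 → P i := stepQ 5501 Q5501 (allL N5501 (tt N6506 (iv F48802)) (tt N6141 (iv F47375)) (tt N4544 (iv D11388)) (tt N4636 F44783) (tt N6337 (iv F48217)) (tt N6005 (iv F46808)) (tt N6341 (iv F48235)) (tt N6528 (iv F48868)) (tt N4745 F44784))
theorem Q5503 : ∀ i, i < 5503 → P i := stepQ 5502 Q5502 (allL N5502 (tt N5502 F44785) (tt N6218 (iv F47754)) (tt N4551 F44786) (tt N6530 D12417) (tt N4746 F44787) (tt N6170 (iv F47489)) (tt N4550 F44788) (tt N4549 (iv D11389)) (tt N6531 D12418))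
theorem Q5504 : ∀ i, i < 5504 → P i := stepQ 5503 Q5503 (allL N5503 (tt N5503 F44789) (tt N6368 (iv F48329)) (tt N6532 D12419) (tt N4550 (iv D11390)) (tt N6533 D12420) (tt N4895 F44790) (tt N6530 (iv F48876)) (tt N5150 F44791) (tt N6534 D12421))
theorem Q5505 : ∀ i, i < 5505 → P i := stepQ 5504 Q5504 (allL N5504 (tt N5504 F44792) (tt N6369 (iv F48332)) (tt N4553 F44793) (tt N6534 (iv F48891)) (tt N4748 F44794) (tt N4896 F44795) (tt N6531 (iv F48881)) (tt N4563 F44796) (tt N4550 (iv D11391)))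
theorem Q5506 : ∀ i, i < 5506 → P i := stepQ 5505 Q5505 (allL N5505 (tt N5505 F44797) (tt N4557 F44798) (tt N6531 (iv F48879)) (tt N6169 (iv F47484)) (tt N4749 F44799) (tt N6172 (iv F47501)) (tt N4553 F44800) (tt N4564 F44801) (tt N4551 (iv D11392)))
theorem Q5507 : ∀ i, i < 5507 → P i := stepQ 5506 Q5506 (allL N5506 (tt N5506 F44802) (tt N6415 (iv F48503)) (tt N4552 (iv D11393)) (tt N6532 (iv F48884)) (tt N5744 F45793) (tt N4561 F44803) (tt N6162 (iv F47460)) (tt N4554 F44804) (tt N6535 D12422))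
theorem Q5508 : ∀ i, i < 5508 → P i := stepQ 5507 Q5507 (allL N5507 (tt N5507 F44805) (tt N4558 F44806) (tt N5744 (iv F45790)) (tt N4751 F44807) (tt N4552 (iv D11394)) (tt N4763 F44808) (tt N6168 (iv F47481)) (tt N4555 F44809) (tt N6536 D12423))
theorem Q5509 : ∀ i, i < 5509 → P i := stepQ 5508 Q5508 (allL N5508 (tt N5508 F44810) (tt N4559 F44811) (tt N6535 (iv F48894)) (tt N4553 F44812) (tt N6536 (iv F48899)) (tt N4564 F44813) (tt N6169 (iv F47486)) (tt N6172 (iv F47503)) (tt N4552 (iv D11395)))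
theorem Q5510 : ∀ i, i < 5510 → P i := stepQ 5509 Q5509 (allL N5509 (tt N5509 F44814) (tt N6414 (iv F48499)) (tt N4555 F44815) (tt N5741 F45777) (tt N4554 (iv D11396)) (tt N4757 F44816) (tt N6161 (iv F47455)) (tt N5744 (iv F45792)) (tt N6178 (iv F47531)))
theorem Q5511 : ∀ i, i < 5511 → P i := stepQ 5510 Q5510 (allL N5510 (tt N4560 F44817) (tt N6536 (iv F48897)) (tt N6234 (iv F47824)) (tt N4755 F44818) (tt N4559 F44819) (tt N4765 F44820) (tt N6182 (iv F47551)) (tt N6185 (iv F47570)) (tt N4558 (iv D11397)))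
theorem Q5512 : ∀ i, i < 5512 → P i := stepQ 5511 Q5511 (allL N5511 (tt N5511 F44821) (tt N6416 (iv F48506)) (tt N4895 F44822) (tt N4561 (iv D11398)) (tt N6537 D12424) (tt N6532 (iv F48885)) (tt N4562 F44823) (tt N5513 (iv F44831)) (tt N6538 D12425))
theorem Q5513 : ∀ i, i < 5513 → P i := stepQ 5512 Q5512 (allL N5512 (tt N5512 F44824) (tt N6417 (iv F48508)) (tt N4564 F44825) (tt N6538 (iv F48907)) (tt N4760 F44826) (tt N6535 (iv F48895)) (tt N4563 F44827) (tt N6531 (iv F48882)) (tt N4561 (iv D11399)))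
theorem Q5514 : ∀ i, i < 5514 → P i := stepQ 5513 Q5513 (allL N5513 (tt N5513 F44828) (tt N6539 D12426) (tt N4562 (iv D11400)) (tt N4565 F44829) (tt N6540 D12427) (tt N6165 (iv F47470)) (tt N4895 F44830) (tt N5511 F44831) (tt N6541 D12428))
theorem Q5515 : ∀ i, i < 5515 → P i := stepQ 5514 Q5514 (allL N5514 (tt N5514 F44832) (tt N6419 (iv F48513)) (tt N6540 (iv F48913)) (tt N4761 F44833) (tt N4562 (iv D11401)) (tt N6542 D12429) (tt N6537 (iv F48904)) (tt N5851 (iv F46121)) (tt N6543 D12430))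
theorem Q5516 : ∀ i, i < 5516 → P i := stepQ 5515 Q5515 (allL N5515 (tt N5515 F44834) (tt N6420 (iv F48515)) (tt N6541 (iv F48918)) (tt N4563 F44835) (tt N6543 (iv F48925)) (tt N6167 (iv F47475)) (tt N6538 (iv F48908)) (tt N6544 D12431) (tt N4562 (iv D11402)))
theorem Q5517 : ∀ i, i < 5517 → P i := stepQ 5516 Q5516 (allL N5516 (tt N6545 D12432) (tt N4565 (iv D11403)) (tt N4568 F44836) (tt N6539 (iv F48909)) (tt N5516 F44837) (tt N6173 (iv F47505)) (tt N4854 F44838) (tt N4567 F44839) (tt N6546 D12433))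
theorem Q5518 : ∀ i, i < 5518 → P i := stepQ 5517 Q5517 (allL N5517 (tt N5517 F44840) (tt N6546 (iv F48932)) (tt N4566 F44841) (tt N6541 (iv F48919)) (tt N5517 F44842) (tt N6175 (iv F47513)) (tt N4896 F44843) (tt N6164 (iv F47467)) (tt N4565 (iv D11404)))
theorem Q5519 : ∀ i, i < 5519 → P i := stepQ 5518 Q5518 (allL N5518 (tt N4567 (iv D11405)) (tt N5518 F44844) (tt N4570 F44845) (tt N5253 F44846) (tt N5518 F44847) (tt N6179 (iv F47534)) (tt N4813 F44848) (tt N6545 (iv F48931)) (tt N5640 (iv F45372)))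
theorem Q5520 : ∀ i, i < 5520 → P i := stepQ 5519 Q5519 (allL N5519 (tt N4568 (iv D11406)) (tt N4571 F44849) (tt N6545 (iv F48928)) (tt N6479 (iv F48705)) (tt N5519 F44850) (tt N6186 (iv F47572)) (tt N4814 F44851) (tt N4570 F44852) (tt N6547 D12434))
theorem Q5521 : ∀ i, i < 5521 → P i := stepQ 5520 Q5520 (allL N5520 (tt N6547 (iv F48936)) (tt N4569 F44853) (tt N6546 (iv F48933)) (tt N6481 (iv F48713)) (tt N5520 F44854) (tt N6188 (iv F47583)) (tt N4856 F44855) (tt N6043 (iv F46984)) (tt N4568 (iv D11407)))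
theorem Q5522 : ∀ i, i < 5522 → P i := stepQ 5521 Q5521 (allL N5521 (tt N4572 F44856) (tt N6547 (iv F48937)) (tt N5521 F44857) (tt N6509 (iv F48817)) (tt N5521 F44858) (tt N6190 (iv F47593)) (tt N4826 F44859) (tt N5957 (iv F46603)) (tt N4571 (iv D11408)))
theorem Q5523 : ∀ i, i < 5523 → P i := stepQ 5522 Q5522 (allL N5522 (tt N4573 (iv D11409)) (tt N5522 F44860) (tt N4601 F44861) (tt N5265 F44862) (tt N6548 D12435) (tt N5522 F44863) (tt N4817 F44864) (tt N5522 F44865) (tt N6549 D12436))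
theorem Q5524 : ∀ i, i < 5524 → P i := stepQ 5523 Q5523 (allL N5523 (tt N6548 (iv F48940)) (tt N4574 F44866) (tt N4602 F44867) (tt N6550 D12437) (tt N4573 (iv D11410)) (tt N6551 D12438) (tt N4860 F44868) (tt N5523 F44869) (tt N6552 D12439))
theorem Q5525 : ∀ i, i < 5525 → P i := stepQ 5524 Q5524 (allL N5524 (tt N6549 (iv F48945)) (tt N4575 F44870) (tt N4603 F44871) (tt N5419 F44872) (tt N6552 (iv F48960)) (tt N5524 F44873) (tt N4861 F44874) (tt N6553 D12440) (tt N4573 (iv D11411)))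
theorem Q5526 : ∀ i, i < 5526 → P i := stepQ 5525 Q5525 (allL N5525 (tt N5525 F44875) (tt N6550 (iv F48951)) (tt N4584 F44876) (tt N4574 (iv D11412)) (tt N5532 (iv F44909)) (tt N6554 D12441) (tt N4897 F44877) (tt N6555 D12442) (tt N6556 D12443))
theorem Q5527 : ∀ i, i < 5527 → P i := stepQ 5526 Q5526 (allL N5526 (tt N5526 F44878) (tt N6551 (iv F48954)) (tt N4576 F44879) (tt N6554 (iv F48969)) (tt N5526 F44880) (tt N4574 (iv D11413)) (tt N6557 D12444) (tt N5526 F44881) (tt N6558 D12445))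
theorem Q5528 : ∀ i, i < 5528 → P i := stepQ 5527 Q5527 (allL N5527 (tt N5527 F44882) (tt N6552 (iv F48958)) (tt N4577 F44883) (tt N6556 (iv F48976)) (tt N4575 F44884) (tt N6558 (iv F48986)) (tt N4899 F44885) (tt N6559 D12446) (tt N4574 (iv D11414)))
theorem Q5529 : ∀ i, i < 5529 → P i := stepQ 5528 Q5528 (allL N5528 (tt N5528 F44886) (tt N6553 (iv F48962)) (tt N4578 F44887) (tt N6560 D12447) (tt N6559 (iv F48989)) (tt N5528 F44888) (tt N4900 F44889) (tt N4575 (iv D11415)) (tt N5528 F44890))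
theorem Q5530 : ∀ i, i < 5530 → P i := stepQ 5529 Q5529 (allL N5529 (tt N5529 F44891) (tt N4607 F44892) (tt N6557 (iv F48979)) (tt N4588 F44893) (tt N5529 F44894) (tt N4901 F44895) (tt N4576 (iv D11416)) (tt N5529 F44896) (tt N6561 D12448))
theorem Q5531 : ∀ i, i < 5531 → P i := stepQ 5530 Q5530 (allL N5530 (tt N5530 F44897) (tt N4608 F44898) (tt N6558 (iv F48984)) (tt N4589 F44899) (tt N5530 F44900) (tt N4577 F44901) (tt N6561 (iv F49002)) (tt N6562 D12449) (tt N4576 (iv D11417)))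
theorem Q5532 : ∀ i, i < 5532 → P i := stepQ 5531 Q5531 (allL N5531 (tt N5531 F44902) (tt N4609 F44903) (tt N6559 (iv F48988)) (tt N6563 D12450) (tt N4578 F44904) (tt N6562 (iv F49006)) (tt N4903 F44905) (tt N4577 (iv D11418)) (tt N5531 F44906))
theorem Q5533 : ∀ i, i < 5533 → P i := stepQ 5532 Q5532 (allL N5532 (tt N5532 F44907) (tt N6447 (iv F48584)) (tt N4897 F44908) (tt N4579 (iv D11419)) (tt N5525 F44909) (tt N6564 D12451) (tt N4584 F44910) (tt N6565 D12452) (tt N6566 D12453))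
theorem Q5534 : ∀ i, i < 5534 → P i := stepQ 5533 Q5533 (allL N5533 (tt N5533 F44911) (tt N6448 (iv F48586)) (tt N4581 F44912) (tt N6564 (iv F49016)) (tt N5533 F44913) (tt N4579 (iv D11420)) (tt N6567 D12454) (tt N4767 F44914) (tt N6568 D12455))
theorem Q5535 : ∀ i, i < 5535 → P i := stepQ 5534 Q5534 (allL N5534 (tt N5534 F44915) (tt N6449 (iv F48590)) (tt N4582 F44916) (tt N6566 (iv F49024)) (tt N4580 F44917) (tt N6568 (iv F49035)) (tt N4586 F44918) (tt N6569 D12456) (tt N4579 (iv D11421)))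
theorem Q5536 : ∀ i, i < 5536 → P i := stepQ 5535 Q5535 (allL N5535 (tt N5535 F44919) (tt N6450 (iv F48595)) (tt N4583 F44920) (tt N6570 D12457) (tt N6569 (iv F49038)) (tt N5535 F44921) (tt N4587 F44922) (tt N4580 (iv D11422)) (tt N4769 F44923))
theorem Q5537 : ∀ i, i < 5537 → P i := stepQ 5536 Q5536 (allL N5536 (tt N5536 F44924) (tt N4610 F44925) (tt N6567 (iv F49028)) (tt N4901 F44926) (tt N5536 F44927) (tt N4588 F44928) (tt N4581 (iv D11423)) (tt N4770 F44929) (tt N6571 D12458))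
theorem Q5538 : ∀ i, i < 5538 → P i := stepQ 5537 Q5537 (allL N5537 (tt N5537 F44930) (tt N4611 F44931) (tt N6568 (iv F49033)) (tt N4902 F44932) (tt N5537 F44933) (tt N4582 F44934) (tt N6571 (iv F49052)) (tt N6572 D12459) (tt N4581 (iv D11424)))
theorem Q5539 : ∀ i, i < 5539 → P i := stepQ 5538 Q5538 (allL N5538 (tt N5538 F44935) (tt N4612 F44936) (tt N6569 (iv F49037)) (tt N6573 D12460) (tt N4583 F44937) (tt N6572 (iv F49056)) (tt N4590 F44938) (tt N4582 (iv D11425)) (tt N4772 F44939))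
theorem Q5540 : ∀ i, i < 5540 → P i := stepQ 5539 Q5539 (allL N5539 (tt N5539 F44940) (tt N6454 (iv F48612)) (tt N6554 (iv F48968)) (tt N4585 F44941) (tt N6574 D12461) (tt N4584 (iv D11426)) (tt N6575 D12462) (tt N6576 D12463) (tt N6577 D12464))
theorem Q5541 : ∀ i, i < 5541 → P i := stepQ 5540 Q5540 (allL N5540 (tt N5540 F44942) (tt N6455 (iv F48614)) (tt N6555 (iv F48971)) (tt N4774 F44943) (tt N5854 (iv F46128)) (tt N6576 (iv F49072)) (tt N6565 (iv F49021)) (tt N4584 (iv D11427)) (tt N6578 D12465))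
theorem Q5542 : ∀ i, i < 5542 → P i := stepQ 5541 Q5541 (allL N5541 (tt N5541 F44944) (tt N6456 (iv F48616)) (tt N6556 (iv F48975)) (tt N4586 F44945) (tt N5855 (iv F46131)) (tt N6577 (iv F49076)) (tt N6566 (iv F49026)) (tt N6579 D12466) (tt N4584 (iv D11428)))
theorem Q5543 : ∀ i, i < 5543 → P i := stepQ 5542 Q5542 (allL N5542 (tt N5542 F44946) (tt N6457 (iv F48618)) (tt N4588 F44947) (tt N6575 (iv F49067)) (tt N4594 F44948) (tt N6567 (iv F49030)) (tt N4585 (iv D11429)) (tt N4776 F44949) (tt N6580 D12467))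
theorem Q5544 : ∀ i, i < 5544 → P i := stepQ 5543 Q5543 (allL N5543 (tt N5543 F44950) (tt N6458 (iv F48622)) (tt N4589 F44951) (tt N6577 (iv F49075)) (tt N4595 F44952) (tt N4586 F44953) (tt N6580 (iv F49083)) (tt N6581 D12468) (tt N4585 (iv D11430)))
theorem Q5545 : ∀ i, i < 5545 → P i := stepQ 5544 Q5544 (allL N5544 (tt N5544 F44954) (tt N6459 (iv F48626)) (tt N4590 F44955) (tt N6582 D12469) (tt N4587 F44956) (tt N6581 (iv F49087)) (tt N6569 (iv F49039)) (tt N4586 (iv D11431)) (tt N4778 F44957))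
theorem Q5546 : ∀ i, i < 5546 → P i := stepQ 5545 Q5545 (allL N5545 (tt N5545 F44958) (tt N6460 (iv F48630)) (tt N5545 F44959) (tt N4587 (iv D11432)) (tt N6583 D12470) (tt N4597 F44960) (tt N6570 (iv F49044)) (tt N5859 (iv F46147)) (tt N4779 F44961))
theorem Q5547 : ∀ i, i < 5547 → P i := stepQ 5546 Q5546 (allL N5546 (tt N5546 F44962) (tt N4613 F44963) (tt N6580 (iv F49081)) (tt N6561 (iv F48999)) (tt N4598 F44964) (tt N6571 (iv F49051)) (tt N4589 F44965) (tt N6584 D12471) (tt N4588 (iv D11433)))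
theorem Q5548 : ∀ i, i < 5548 → P i := stepQ 5547 Q5547 (allL N5547 (tt N5547 F44966) (tt N4614 F44967) (tt N6581 (iv F49085)) (tt N6585 D12472) (tt N4599 F44968) (tt N4590 F44969) (tt N6584 (iv F49097)) (tt N4589 (iv D11434)) (tt N4781 F44970))
theorem Q5549 : ∀ i, i < 5549 → P i := stepQ 5548 Q5548 (allL N5548 (tt N5548 F44971) (tt N4615 F44972) (tt N6586 D12473) (tt N4590 (iv D11435)) (tt N5548 F44973) (tt N6585 (iv F49101)) (tt N6573 (iv F49061)) (tt N6563 (iv F49012)) (tt N4782 F44974))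
theorem Q5550 : ∀ i, i < 5550 → P i := stepQ 5549 Q5549 (allL N5549 (tt N5549 F44975) (tt N6464 (iv F48642)) (tt N5549 F44976) (tt N6574 (iv F49065)) (tt N4591 (iv D11436)) (tt N5863 (iv F46164)) (tt N5727 (iv F45722)) (tt N5726 F45717) (tt N6587 D12474))
theorem Q5551 : ∀ i, i < 5551 → P i := stepQ 5550 Q5550 (allL N5550 (tt N5550 F44977) (tt N6465 (iv F48643)) (tt N5550 F44978) (tt N4594 F44979) (tt N5727 (iv F45720)) (tt N5550 F44980) (tt N4591 (iv D11437)) (tt N5725 F45712) (tt N6588 D12475))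
theorem Q5552 : ∀ i, i < 5552 → P i := stepQ 5551 Q5551 (allL N5551 (tt N5551 F44981) (tt N6466 (iv F48646)) (tt N5551 F44982) (tt N4785 F44983) (tt N5726 (iv F45716)) (tt N4592 F44984) (tt N5725 F45711) (tt N4591 (iv D11438)) (tt N6589 D12476))
theorem Q5553 : ∀ i, i < 5553 → P i := stepQ 5552 Q5552 (allL N5552 (tt N5552 F44985) (tt N6467 (iv F48649)) (tt N5552 F44986) (tt N4595 F44987) (tt N6587 (iv F49108)) (tt N4593 F44988) (tt N6588 (iv F49113)) (tt N6590 D12477) (tt N4591 (iv D11439)))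
theorem Q5554 : ∀ i, i < 5554 → P i := stepQ 5553 Q5553 (allL N5553 (tt N5553 F44989) (tt N6468 (iv F48653)) (tt N5553 F44990) (tt N4787 F44991) (tt N5867 (iv F46180)) (tt N6589 (iv F49117)) (tt N5553 F44992) (tt N6591 D12478) (tt N4592 (iv D11440)))
theorem Q5555 : ∀ i, i < 5555 → P i := stepQ 5554 Q5554 (allL N5554 (tt N5554 F44993) (tt N6469 (iv F48658)) (tt N5554 F44994) (tt N6592 D12479) (tt N5868 (iv F46184)) (tt N6590 (iv F49120)) (tt N5554 F44995) (tt N4593 (iv D11441)) (tt N6591 (iv F49126)))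
theorem Q5556 : ∀ i, i < 5556 → P i := stepQ 5555 Q5555 (allL N5555 (tt N5555 F44996) (tt N6470 (iv F48662)) (tt N4598 F44997) (tt N6588 (iv F49111)) (tt N6580 (iv F49082)) (tt N5555 F44998) (tt N4595 F44999) (tt N6593 D12480) (tt N4594 (iv D11442)))
theorem Q5557 : ∀ i, i < 5557 → P i := stepQ 5556 Q5556 (allL N5556 (tt N5556 F45000) (tt N6471 (iv F48666)) (tt N4599 F45001) (tt N6594 D12481) (tt N6581 (iv F49086)) (tt N4596 F45002) (tt N6593 (iv F49137)) (tt N4595 (iv D11443)) (tt N4790 F45003))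
theorem Q5558 : ∀ i, i < 5558 → P i := stepQ 5557 Q5557 (allL N5557 (tt N5557 F45004) (tt N6472 (iv F48671)) (tt N5714 (iv F45659)) (tt N4596 (iv D11444)) (tt N5708 (iv F45634)) (tt N6594 (iv F49141)) (tt N5557 F45005) (tt N6592 (iv F49130)) (tt N4791 F45006))
theorem Q5559 : ∀ i, i < 5559 → P i := stepQ 5558 Q5558 (allL N5558 (tt N5558 F45007) (tt N6473 (iv F48678)) (tt N5558 F45008) (tt N5708 (iv F45633)) (tt N4597 (iv D11445)) (tt N5710 (iv F45644)) (tt N5558 F45009) (tt N5872 (iv F46200)) (tt N4792 F45010))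
theorem Q5560 : ∀ i, i < 5560 → P i := stepQ 5559 Q5559 (allL N5559 (tt N5559 F45011) (tt N4616 F45012) (tt N6593 (iv F49135)) (tt N5892 (iv F46279)) (tt N6584 (iv F49096)) (tt N5559 F45013) (tt N4599 F45014) (tt N4598 (iv D11446)) (tt N4793 F45015))
theorem Q5561 : ∀ i, i < 5561 → P i := stepQ 5560 Q5560 (allL N5560 (tt N5560 F45016) (tt N4617 F45017) (tt N5706 (iv F45619)) (tt N4599 (iv D11447)) (tt N5705 (iv F45613)) (tt N4600 F45018) (tt N5892 (iv F46282)) (tt N5560 F45019) (tt N4794 F45020))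
theorem Q5562 : ∀ i, i < 5562 → P i := stepQ 5561 Q5561 (allL N5561 (tt N5561 F45021) (tt N5707 (iv F45624)) (tt N4600 (iv D11448)) (tt N5714 (iv F45660)) (tt N5561 F45022) (tt N5706 (iv F45621)) (tt N5561 F45023) (tt N5561 F45024) (tt N4795 F45025))
theorem Q5563 : ∀ i, i < 5563 → P i := stepQ 5562 Q5562 (allL N5562 (tt N4602 F45026) (tt N4620 F45027) (tt N6548 (iv F48942)) (tt N6491 (iv F48751)) (tt N4601 (iv D11449)) (tt N6595 D12482) (tt N4818 F45028) (tt N5562 F45029) (tt N6596 D12483))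
theorem Q5564 : ∀ i, i < 5564 → P i := stepQ 5563 Q5563 (allL N5563 (tt N4603 F45030) (tt N4621 F45031) (tt N6549 (iv F48947)) (tt N4619 F45032) (tt N6596 (iv F49150)) (tt N5563 F45033) (tt N4819 F45034) (tt N6597 D12484) (tt N4601 (iv D11450)))
theorem Q5565 : ∀ i, i < 5565 → P i := stepQ 5564 Q5564 (allL N5564 (tt N6595 (iv F49144)) (tt N4604 F45035) (tt N6551 (iv F48955)) (tt N6493 (iv F48758)) (tt N5564 F45036) (tt N4602 (iv D11451)) (tt N6598 D12485) (tt N5564 F45037) (tt N6599 D12486))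
theorem Q5566 : ∀ i, i < 5566 → P i := stepQ 5565 Q5565 (allL N5565 (tt N6596 (iv F49148)) (tt N4605 F45038) (tt N6552 (iv F48959)) (tt N6494 (iv F48760)) (tt N4603 F45039) (tt N6599 (iv F49163)) (tt N4863 F45040) (tt N6600 D12487) (tt N4602 (iv D11452)))
theorem Q5567 : ∀ i, i < 5567 → P i := stepQ 5566 Q5566 (allL N5566 (tt N6597 (iv F49152)) (tt N4606 F45041) (tt N6553 (iv F48963)) (tt N6062 (iv F47038)) (tt N6600 (iv F49165)) (tt N5566 F45042) (tt N4864 F45043) (tt N4603 (iv D11453)) (tt N5566 F45044))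
theorem Q5568 : ∀ i, i < 5568 → P i := stepQ 5567 Q5567 (allL N5567 (tt N4625 F45045) (tt N6598 (iv F49157)) (tt N4607 F45046) (tt N6496 (iv F48767)) (tt N5567 F45047) (tt N4877 F45048) (tt N4604 (iv D11454)) (tt N5567 F45049) (tt N6601 D12488))
theorem Q5569 : ∀ i, i < 5569 → P i := stepQ 5568 Q5568 (allL N5568 (tt N4626 F45050) (tt N6599 (iv F49161)) (tt N4608 F45051) (tt N6497 (iv F48771)) (tt N5568 F45052) (tt N4605 F45053) (tt N6601 (iv F49172)) (tt N6602 D12489) (tt N4604 (iv D11455)))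
theorem Q5570 : ∀ i, i < 5570 → P i := stepQ 5569 Q5569 (allL N5569 (tt N4627 F45054) (tt N6600 (iv F49164)) (tt N4609 F45055) (tt N6603 D12490) (tt N4606 F45056) (tt N6602 (iv F49176)) (tt N4879 F45057) (tt N4605 (iv D11456)) (tt N5569 F45058))
theorem Q5571 : ∀ i, i < 5571 → P i := stepQ 5570 Q5570 (allL N5570 (tt N4628 F45059) (tt N6561 (iv F48998)) (tt N6601 (iv F49169)) (tt N4613 F45060) (tt N5570 F45061) (tt N4914 F45062) (tt N4608 F45063) (tt N6604 D12491) (tt N4607 (iv D11457)))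
theorem Q5572 : ∀ i, i < 5572 → P i := stepQ 5571 Q5571 (allL N5571 (tt N4629 F45064) (tt N6562 (iv F49004)) (tt N6602 (iv F49174)) (tt N6605 D12492) (tt N5571 F45065) (tt N4609 F45066) (tt N6604 (iv F49184)) (tt N4608 (iv D11458)) (tt N5571 F45067))
theorem Q5573 : ∀ i, i < 5573 → P i := stepQ 5572 Q5572 (allL N5572 (tt N4630 F45068) (tt N6563 (iv F49009)) (tt N6606 D12493) (tt N4609 (iv D11459)) (tt N5572 F45069) (tt N6605 (iv F49187)) (tt N4916 F45070) (tt N4615 F45071) (tt N5572 F45072))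
theorem Q5574 : ∀ i, i < 5574 → P i := stepQ 5573 Q5573 (allL N5573 (tt N4631 F45073) (tt N6571 (iv F49048)) (tt N6502 (iv F48785)) (tt N4914 F45074) (tt N5573 F45075) (tt N4613 F45076) (tt N4611 F45077) (tt N6607 D12494) (tt N4610 (iv D11460)))
theorem Q5575 : ∀ i, i < 5575 → P i := stepQ 5574 Q5574 (allL N5574 (tt N4632 F45078) (tt N6572 (iv F49054)) (tt N6503 (iv F48790)) (tt N6608 D12495) (tt N5574 F45079) (tt N4612 F45080) (tt N6607 (iv F49198)) (tt N4611 (iv D11461)) (tt N4797 F45081))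
theorem Q5576 : ∀ i, i < 5576 → P i := stepQ 5575 Q5575 (allL N5575 (tt N4633 F45082) (tt N6573 (iv F49059)) (tt N6609 D12496) (tt N4612 (iv D11462)) (tt N5575 F45083) (tt N6608 (iv F49201)) (tt N4615 F45084) (tt N4916 F45085) (tt N4798 F45086))
theorem Q5577 : ∀ i, i < 5577 → P i := stepQ 5576 Q5576 (allL N5576 (tt N4634 F45087) (tt N6584 (iv F49095)) (tt N6504 (iv F48795)) (tt N5902 (iv F46330)) (tt N4616 F45088) (tt N6607 (iv F49197)) (tt N4614 F45089) (tt N4613 (iv D11463)) (tt N4799 F45090))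
theorem Q5578 : ∀ i, i < 5578 → P i := stepQ 5577 Q5577 (allL N5577 (tt N4635 F45091) (tt N6585 (iv F49100)) (tt N5972 (iv F46655)) (tt N4614 (iv D11464)) (tt N5900 (iv F46319)) (tt N4615 F45092) (tt N5902 (iv F46332)) (tt N6605 (iv F49188)) (tt N4800 F45093))
theorem Q5579 : ∀ i, i < 5579 → P i := stepQ 5578 Q5578 (allL N5578 (tt N4636 F45094) (tt N6610 D12497) (tt N4615 (iv D11465)) (tt N6506 (iv F48803)) (tt N5578 F45095) (tt N5972 (iv F46657)) (tt N6609 (iv F49206)) (tt N6606 (iv F49193)) (tt N4801 F45096))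
theorem Q5580 : ∀ i, i < 5580 → P i := stepQ 5579 Q5579 (allL N5579 (tt N5197 F45097) (tt N4618 (iv D11466)) (tt N5707 (iv F45625)) (tt N6507 (iv F48807)) (tt N5579 F45098) (tt N5193 F45099) (tt N5579 F45100) (tt N5579 F45101) (tt N4802 F45102))
theorem Q5581 : ∀ i, i < 5581 → P i := stepQ 5580 Q5580 (allL N5580 (tt N4622 F45103) (tt N6595 (iv F49145)) (tt N5580 F45104) (tt N6518 (iv F48844)) (tt N5580 F45105) (tt N4620 (iv D11467)) (tt N6611 D12498) (tt N5580 F45106) (tt N6612 D12499))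
theorem Q5582 : ∀ i, i < 5582 → P i := stepQ 5581 Q5581 (allL N5581 (tt N4623 F45107) (tt N6596 (iv F49149)) (tt N5581 F45108) (tt N6519 (iv F48846)) (tt N4621 F45109) (tt N6612 (iv F49219)) (tt N4831 F45110) (tt N6613 D12500) (tt N4620 (iv D11468)))
theorem Q5583 : ∀ i, i < 5583 → P i := stepQ 5582 Q5582 (allL N5582 (tt N4624 F45111) (tt N6597 (iv F49153)) (tt N5582 F45112) (tt N5973 (iv F46660)) (tt N6613 (iv F49222)) (tt N5582 F45113) (tt N4832 F45114) (tt N4621 (iv D11469)) (tt N5582 F45115))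
theorem Q5584 : ∀ i, i < 5584 → P i := stepQ 5583 Q5583 (allL N5583 (tt N6611 (iv F49211)) (tt N4625 F45116) (tt N5583 F45117) (tt N6128 (iv F47317)) (tt N5583 F45118) (tt N4847 F45119) (tt N4622 (iv D11470)) (tt N5583 F45120) (tt N6614 D12501))
theorem Q5585 : ∀ i, i < 5585 → P i := stepQ 5584 Q5584 (allL N5584 (tt N6612 (iv F49216)) (tt N4626 F45121) (tt N5584 F45122) (tt N6521 (iv F48852)) (tt N5584 F45123) (tt N4623 F45124) (tt N6614 (iv F49229)) (tt N6615 D12502) (tt N4622 (iv D11471)))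
theorem Q5586 : ∀ i, i < 5586 → P i := stepQ 5585 Q5585 (allL N5585 (tt N6613 (iv F49220)) (tt N4627 F45125) (tt N5585 F45126) (tt N6616 D12503) (tt N4624 F45127) (tt N6615 (iv F49233)) (tt N4849 F45128) (tt N4623 (iv D11472)) (tt N5585 F45129))
theorem Q5587 : ∀ i, i < 5587 → P i := stepQ 5586 Q5586 (allL N5586 (tt N6601 (iv F49168)) (tt N6614 (iv F49225)) (tt N4628 F45130) (tt N6523 (iv F48858)) (tt N5586 F45131) (tt N4889 F45132) (tt N4626 F45133) (tt N6617 D12504) (tt N4625 (iv D11473)))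
theorem Q5588 : ∀ i, i < 5588 → P i := stepQ 5587 Q5587 (allL N5587 (tt N6602 (iv F49173)) (tt N6615 (iv F49230)) (tt N4629 F45134) (tt N6618 D12505) (tt N5587 F45135) (tt N4627 F45136) (tt N6617 (iv F49241)) (tt N4626 (iv D11474)) (tt N5587 F45137))
theorem Q5589 : ∀ i, i < 5589 → P i := stepQ 5588 Q5588 (allL N5588 (tt N6603 (iv F49178)) (tt N6616 (iv F49235)) (tt N6619 D12506) (tt N4627 (iv D11475)) (tt N6156 (iv F47432)) (tt N6618 (iv F49243)) (tt N4891 F45138) (tt N6525 (iv F48864)) (tt N5588 F45139))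
theorem Q5590 : ∀ i, i < 5590 → P i := stepQ 5589 Q5589 (allL N5589 (tt N6604 (iv F49181)) (tt N5589 F45140) (tt N6617 (iv F49238)) (tt N5913 (iv F46391)) (tt N5589 F45141) (tt N4920 F45142) (tt N4629 F45143) (tt N4628 (iv D11476)) (tt N5589 F45144))
theorem Q5591 : ∀ i, i < 5591 → P i := stepQ 5590 Q5590 (allL N5590 (tt N6605 (iv F49186)) (tt N5590 F45145) (tt N6016 (iv F46851)) (tt N4629 (iv D11477)) (tt N5911 (iv F46378)) (tt N4630 F45146) (tt N5913 (iv F46394)) (tt N4635 F45147) (tt N5590 F45148))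
theorem Q5592 : ∀ i, i < 5592 → P i := stepQ 5591 Q5591 (allL N5591 (tt N6606 (iv F49190)) (tt N6155 (iv F47426)) (tt N4630 (iv D11478)) (tt N6619 (iv F49245)) (tt N5591 F45149) (tt N6016 (iv F46853)) (tt N4922 F45150) (tt N4636 F45151) (tt N5591 F45152))
theorem Q5593 : ∀ i, i < 5593 → P i := stepQ 5592 Q5592 (allL N5592 (tt N6607 (iv F49195)) (tt N5592 F45153) (tt N6529 (iv F48870)) (tt N5912 (iv F46384)) (tt N5592 F45154) (tt N4634 F45155) (tt N4632 F45156) (tt N4631 (iv D11479)) (tt N4803 F45157))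
theorem Q5594 : ∀ i, i < 5594 → P i := stepQ 5593 Q5593 (allL N5593 (tt N6608 (iv F49200)) (tt N5593 F45158) (tt N6017 (iv F46857)) (tt N4632 (iv D11480)) (tt N5914 (iv F46399)) (tt N4633 F45159) (tt N5912 (iv F46387)) (tt N4921 F45160) (tt N4804 F45161))
theorem Q5595 : ∀ i, i < 5595 → P i := stepQ 5594 Q5594 (allL N5594 (tt N6609 (iv F49204)) (tt N6154 (iv F47420)) (tt N4633 (iv D11481)) (tt N6341 (iv F48233)) (tt N5594 F45162) (tt N6017 (iv F46859)) (tt N4636 F45163) (tt N4922 F45164) (tt N4805 F45165))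
theorem Q5596 : ∀ i, i < 5596 → P i := stepQ 5595 Q5595 (allL N5595 (tt N5595 F45166) (tt N4641 F45167) (tt N4638 F45168) (tt N5742 F45784) (tt N4637 (iv D11482)) (tt N6178 (iv F47529)) (tt N5595 F45169) (tt N6192 (iv F47606)) (tt N4757 F45170))
theorem Q5597 : ∀ i, i < 5597 → P i := stepQ 5596 Q5596 (allL N5596 (tt N4690 F45171) (tt N5742 (iv F45779)) (tt N5596 F45172) (tt N4641 (iv D11483)) (tt N5596 F45173) (tt N6620 D12507) (tt N5596 F45174) (tt N5684 F45523) (tt N5685 (iv F45529)))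
theorem Q5598 : ∀ i, i < 5598 → P i := stepQ 5597 Q5597 (allL N5597 (tt N4691 F45175) (tt N6178 (iv F47527)) (tt N4643 F45176) (tt N6620 (iv F49250)) (tt N6177 F47525) (tt N4641 (iv D11484)) (tt N6180 (iv F47541)) (tt N6222 (iv F47776)) (tt N6414 (iv F48502)))
theorem Q5599 : ∀ i, i < 5599 → P i := stepQ 5598 Q5598 (allL N5598 (tt N4692 F45177) (tt N4757 F45178) (tt N4644 F45179) (tt N5685 F45530) (tt N4642 F45180) (tt N6414 (iv F48501)) (tt N5598 F45181) (tt N5688 (iv F45541)) (tt N4641 (iv D11485)))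
theorem Q5600 : ∀ i, i < 5600 → P i := stepQ 5599 Q5599 (allL N5599 (tt N4693 F45182) (tt N4758 F45183) (tt N4645 F45184) (tt N5689 (iv F45547)) (tt N5688 F45543) (tt N4703 F45185) (tt N5599 F45186) (tt N4642 (iv D11486)) (tt N6224 (iv F47786)))
theorem Q5601 : ∀ i, i < 5601 → P i := stepQ 5600 Q5600 (allL N5600 (tt N4696 F45187) (tt N4646 F45188) (tt N5688 (iv F45542)) (tt N5692 (iv F45558)) (tt N4645 F45189) (tt N6421 (iv F48520)) (tt N5600 F45190) (tt N4644 (iv D11487)) (tt N6226 (iv F47795)))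
theorem Q5602 : ∀ i, i < 5602 → P i := stepQ 5601 Q5601 (allL N5601 (tt N4647 F45191) (tt N5692 F45562) (tt N5698 (iv F45580)) (tt N4646 (iv D11488)) (tt N4677 F45192) (tt N6195 (iv F47623)) (tt N5601 F45193) (tt N5601 F45194) (tt N6235 (iv F47832)))
theorem Q5603 : ∀ i, i < 5603 → P i := stepQ 5602 Q5602 (allL N5602 (tt N4703 F45195) (tt N5602 F45196) (tt N4650 F45197) (tt N6621 D12508) (tt N6255 (iv F47914)) (tt N4693 F45198) (tt N4649 F45199) (tt N4648 (iv D11489)) (tt N6384 (iv F48384)))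
theorem Q5604 : ∀ i, i < 5604 → P i := stepQ 5603 Q5603 (allL N5603 (tt N4704 F45200) (tt N5603 F45201) (tt N6622 D12509) (tt N4649 (iv D11490)) (tt N6623 D12510) (tt N5603 F45202) (tt N6621 (iv F49255)) (tt N5603 F45203) (tt N6624 D12511))
theorem Q5605 : ∀ i, i < 5605 → P i := stepQ 5604 Q5604 (allL N5604 (tt N4705 F45204) (tt N5604 F45205) (tt N4652 F45206) (tt N6624 (iv F49268)) (tt N6257 (iv F47921)) (tt N5604 F45207) (tt N6384 (iv F48383)) (tt N6380 (iv F48369)) (tt N4649 (iv D11491)))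
theorem Q5606 : ∀ i, i < 5606 → P i := stepQ 5605 Q5605 (allL N5605 (tt N4707 F45208) (tt N4769 F45209) (tt N4651 (iv D11492)) (tt N6622 (iv F49258)) (tt N6625 D12512) (tt N5605 F45210) (tt N4717 F45211) (tt N4653 F45212) (tt N6450 (iv F48599)))
theorem Q5607 : ∀ i, i < 5607 → P i := stepQ 5606 Q5606 (allL N5606 (tt N4708 F45213) (tt N4669 F45214) (tt N6625 (iv F49272)) (tt N6262 (iv F47940)) (tt N4651 (iv D11493)) (tt N6626 D12513) (tt N4720 F45215) (tt N4654 F45216) (tt N6453 (iv F48611)))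
theorem Q5608 : ∀ i, i < 5608 → P i := stepQ 5607 Q5607 (allL N5607 (tt N4710 F45217) (tt N4768 F45218) (tt N4654 F45219) (tt N6627 D12514) (tt N4653 (iv D11494)) (tt N6628 D12515) (tt N4716 F45220) (tt N6625 (iv F49274)) (tt N4712 F45221))
theorem Q5609 : ∀ i, i < 5609 → P i := stepQ 5608 Q5608 (allL N5608 (tt N4711 F45222) (tt N4670 F45223) (tt N6628 (iv F49287)) (tt N4659 F45224) (tt N5608 F45225) (tt N4654 (iv D11495)) (tt N6629 D12516) (tt N6626 (iv F49278)) (tt N4713 F45226))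
theorem Q5610 : ∀ i, i < 5610 → P i := stepQ 5609 Q5609 (allL N5609 (tt N4712 F45227) (tt N5609 F45228) (tt N4656 F45229) (tt N6630 D12517) (tt N4655 (iv D11496)) (tt N6631 D12518) (tt N4657 F45230) (tt N6275 (iv F47983)) (tt N4710 F45231))
theorem Q5611 : ∀ i, i < 5611 → P i := stepQ 5610 Q5610 (allL N5610 (tt N4713 F45232) (tt N4671 F45233) (tt N6631 (iv F49304)) (tt N4719 F45234) (tt N5610 F45235) (tt N4656 (iv D11497)) (tt N6632 D12519) (tt N6277 (iv F47993)) (tt N4711 F45236))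
theorem Q5612 : ∀ i, i < 5612 → P i := stepQ 5611 Q5611 (allL N5611 (tt N4714 F45237) (tt N5611 F45238) (tt N6627 (iv F49281)) (tt N4657 (iv D11498)) (tt N5611 F45239) (tt N6633 D12520) (tt N6630 (iv F49300)) (tt N6634 D12521) (tt N6635 D12522))
theorem Q5613 : ∀ i, i < 5613 → P i := stepQ 5612 Q5612 (allL N5612 (tt N4715 F45240) (tt N5612 F45241) (tt N4659 F45242) (tt N6633 (iv F49315)) (tt N4663 F45243) (tt N4657 (iv D11499)) (tt N6636 D12523) (tt N6280 (iv F48005)) (tt N6637 D12524))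
theorem Q5614 : ∀ i, i < 5614 → P i := stepQ 5613 Q5613 (allL N5613 (tt N4716 F45244) (tt N5613 F45245) (tt N4660 F45246) (tt N6635 (iv F49322)) (tt N4658 F45247) (tt N6637 (iv F49333)) (tt N4710 F45248) (tt N6638 D12525) (tt N4657 (iv D11500)))
theorem Q5615 : ∀ i, i < 5615 → P i := stepQ 5614 Q5614 (allL N5614 (tt N4717 F45249) (tt N5614 F45250) (tt N4661 F45251) (tt N6639 D12526) (tt N6638 (iv F49337)) (tt N4665 F45252) (tt N4707 F45253) (tt N4658 (iv D11501)) (tt N6282 (iv F48015)))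
theorem Q5616 : ∀ i, i < 5616 → P i := stepQ 5615 Q5615 (allL N5615 (tt N4718 F45254) (tt N4672 F45255) (tt N6636 (iv F49327)) (tt N6629 (iv F49292)) (tt N4666 F45256) (tt N6632 (iv F49311)) (tt N4659 (iv D11502)) (tt N6283 (iv F48019)) (tt N6640 D12527))
theorem Q5617 : ∀ i, i < 5617 → P i := stepQ 5616 Q5616 (allL N5616 (tt N4719 F45257) (tt N4673 F45258) (tt N6637 (iv F49331)) (tt N4713 F45259) (tt N4667 F45260) (tt N4660 F45261) (tt N6640 (iv F49350)) (tt N6641 D12528) (tt N4659 (iv D11503)))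
theorem Q5618 : ∀ i, i < 5618 → P i := stepQ 5617 Q5617 (allL N5617 (tt N4720 F45262) (tt N4674 F45263) (tt N6638 (iv F49336)) (tt N6424 (iv F48528)) (tt N4661 F45264) (tt N6641 (iv F49354)) (tt N4708 F45265) (tt N4660 (iv D11504)) (tt N6285 (iv F48028)))
theorem Q5619 : ∀ i, i < 5619 → P i := stepQ 5618 Q5618 (allL N5618 (tt N4721 F45266) (tt N5618 F45267) (tt N5618 F45268) (tt N4663 F45269) (tt N6642 D12529) (tt N4662 (iv D11505)) (tt N6643 D12530) (tt N6644 D12531) (tt N6645 D12532))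
theorem Q5620 : ∀ i, i < 5620 → P i := stepQ 5619 Q5619 (allL N5619 (tt N4722 F45270) (tt N5619 F45271) (tt N5619 F45272) (tt N6287 (iv F48034)) (tt N5619 F45273) (tt N6644 (iv F49369)) (tt N5619 F45274) (tt N4662 (iv D11506)) (tt N5643 (iv F45400)))
theorem Q5621 : ∀ i, i < 5621 → P i := stepQ 5620 Q5620 (allL N5620 (tt N4723 F45275) (tt N5620 F45276) (tt N5620 F45277) (tt N4664 F45278) (tt N5620 F45279) (tt N6645 (iv F49375)) (tt N5620 F45280) (tt N5644 F45399) (tt N4662 (iv D11507)))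
theorem Q5622 : ∀ i, i < 5622 → P i := stepQ 5621 Q5621 (allL N5621 (tt N4724 F45281) (tt N5621 F45282) (tt N4666 F45283) (tt N6643 (iv F49362)) (tt N6636 (iv F49328)) (tt N5621 F45284) (tt N4663 (iv D11508)) (tt N6289 (iv F48044)) (tt N6646 D12533))
theorem Q5623 : ∀ i, i < 5623 → P i := stepQ 5622 Q5622 (allL N5622 (tt N4725 F45285) (tt N5622 F45286) (tt N4667 F45287) (tt N6645 (iv F49374)) (tt N6637 (iv F49332)) (tt N4664 F45288) (tt N6646 (iv F49380)) (tt N6647 D12534) (tt N4663 (iv D11509)))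
theorem Q5624 : ∀ i, i < 5624 → P i := stepQ 5623 Q5623 (allL N5623 (tt N4726 F45289) (tt N5623 F45290) (tt N4668 F45291) (tt N5647 (iv F45398)) (tt N4665 F45292) (tt N6647 (iv F49384)) (tt N5623 F45293) (tt N4664 (iv D11510)) (tt N6291 (iv F48054)))
theorem Q5625 : ∀ i, i < 5625 → P i := stepQ 5624 Q5624 (allL N5624 (tt N4727 F45294) (tt N5624 F45295) (tt N5689 (iv F45546)) (tt N4665 (iv D11511)) (tt N5648 (iv F45403)) (tt N6639 (iv F49342)) (tt N5624 F45296) (tt N5624 F45297) (tt N6292 (iv F48058)))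
theorem Q5626 : ∀ i, i < 5626 → P i := stepQ 5625 Q5625 (allL N5625 (tt N4728 F45298) (tt N4675 F45299) (tt N6646 (iv F49378)) (tt N5625 F45300) (tt N6640 (iv F49348)) (tt N5625 F45301) (tt N4667 F45302) (tt N6648 D12535) (tt N4666 (iv D11512)))
theorem Q5627 : ∀ i, i < 5627 → P i := stepQ 5626 Q5626 (allL N5626 (tt N4729 F45303) (tt N4676 F45304) (tt N6647 (iv F49383)) (tt N6649 D12536) (tt N6641 (iv F49353)) (tt N4668 F45305) (tt N6648 (iv F49388)) (tt N4667 (iv D11513)) (tt N6294 (iv F48066)))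
theorem Q5628 : ∀ i, i < 5628 → P i := stepQ 5627 Q5627 (allL N5627 (tt N4730 F45306) (tt N4677 F45307) (tt N5651 (iv F45413)) (tt N4668 (iv D11514)) (tt N5692 (iv F45559)) (tt N6649 (iv F49391)) (tt N5627 F45308) (tt N5627 F45309) (tt N6295 (iv F48070)))
theorem Q5629 : ∀ i, i < 5629 → P i := stepQ 5628 Q5628 (allL N5628 (tt N4678 F45310) (tt N6626 (iv F49276)) (tt N4797 F45311) (tt N6303 (iv F48099)) (tt N5628 F45312) (tt N4669 (iv D11515)) (tt N6650 D12537) (tt N4670 F45313) (tt N6503 (iv F48793)))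
theorem Q5630 : ∀ i, i < 5630 → P i := stepQ 5629 Q5629 (allL N5629 (tt N4679 F45314) (tt N6629 (iv F49291)) (tt N4796 F45315) (tt N4672 F45316) (tt N5629 F45317) (tt N4735 F45318) (tt N4670 (iv D11516)) (tt N6650 (iv F49397)) (tt N4734 F45319))
theorem Q5631 : ∀ i, i < 5631 → P i := stepQ 5630 Q5630 (allL N5630 (tt N4680 F45320) (tt N6632 (iv F49308)) (tt N5630 F45321) (tt N4735 F45322) (tt N5630 F45323) (tt N4672 F45324) (tt N4671 (iv D11517)) (tt N6323 (iv F48160)) (tt N4733 F45325))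
theorem Q5632 : ∀ i, i < 5632 → P i := stepQ 5631 Q5631 (allL N5631 (tt N4681 F45326) (tt N6640 (iv F49346)) (tt N5631 F45327) (tt N4734 F45328) (tt N4675 F45329) (tt N4733 F45330) (tt N4673 F45331) (tt N6651 D12538) (tt N4672 (iv D11518)))
theorem Q5633 : ∀ i, i < 5633 → P i := stepQ 5632 Q5632 (allL N5632 (tt N4682 F45332) (tt N6641 (iv F49352)) (tt N5632 F45333) (tt N6477 (iv F48698)) (tt N4676 F45334) (tt N4674 F45335) (tt N6651 (iv F49402)) (tt N4673 (iv D11519)) (tt N6326 (iv F48174)))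
theorem Q5634 : ∀ i, i < 5634 → P i := stepQ 5633 Q5633 (allL N5633 (tt N4683 F45336) (tt N6648 (iv F49386)) (tt N5633 F45337) (tt N5918 (iv F46424)) (tt N6651 (iv F49400)) (tt N5633 F45338) (tt N4676 F45339) (tt N4675 (iv D11520)) (tt N6328 (iv F48184)))
theorem Q5635 : ∀ i, i < 5635 → P i := stepQ 5634 Q5634 (allL N5634 (tt N4684 F45340) (tt N6649 (iv F49390)) (tt N5924 (iv F46461)) (tt N4676 (iv D11521)) (tt N6026 (iv F46909)) (tt N4677 F45341) (tt N5918 (iv F46427)) (tt N5634 F45342) (tt N6329 (iv F48187)))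
theorem Q5636 : ∀ i, i < 5636 → P i := stepQ 5635 Q5635 (allL N5635 (tt N4685 F45343) (tt N5654 (iv F45425)) (tt N4677 (iv D11522)) (tt N5635 F45344) (tt N5698 (iv F45582)) (tt N5924 (iv F46464)) (tt N5635 F45345) (tt N5635 F45346) (tt N6330 (iv F48191)))
theorem Q5637 : ∀ i, i < 5637 → P i := stepQ 5636 Q5636 (allL N5636 (tt N6650 (iv F49393)) (tt N4741 F45347) (tt N4803 F45348) (tt N6010 (iv F46828)) (tt N5636 F45349) (tt N4743 F45350) (tt N4678 (iv D11523)) (tt N4679 F45351) (tt N6529 (iv F48874)))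
theorem Q5638 : ∀ i, i < 5638 → P i := stepQ 5637 Q5637 (allL N5637 (tt N6651 (iv F49398)) (tt N4743 F45352) (tt N5637 F45353) (tt N6008 (iv F46818)) (tt N4683 F45354) (tt N4741 F45355) (tt N4682 F45356) (tt N4681 (iv D11524)) (tt N6362 (iv F48311)))
theorem Q5639 : ∀ i, i < 5639 → P i := stepQ 5638 Q5638 (allL N5638 (tt N5060 F45357) (tt N4747 F45358) (tt N4972 F45359) (tt N4686 (iv D11525)) (tt N6652 D12539) (tt N5638 F45360) (tt N4974 F45361) (tt N5638 F45362) (tt N6653 D12540))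
theorem Q5640 : ∀ i, i < 5640 → P i := stepQ 5639 Q5639 (allL N5639 (tt N6380 (iv F48363)) (tt N4748 F45363) (tt N4687 F45364) (tt N6653 (iv F49411)) (tt N6369 (iv F48334)) (tt N5639 F45365) (tt N6219 (iv F47763)) (tt N4705 F45366) (tt N4686 (iv D11526)))
theorem Q5641 : ∀ i, i < 5641 → P i := stepQ 5640 Q5640 (allL N5640 (tt N5048 F45367) (tt N5640 F45368) (tt N4966 F45369) (tt N4688 (iv D11527)) (tt N5640 F45370) (tt N6654 D12541) (tt N4965 F45371) (tt N6655 D12542) (tt N5518 F45372))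
theorem Q5642 : ∀ i, i < 5642 → P i := stepQ 5641 Q5641 (allL N5641 (tt N6177 F47524) (tt N5641 F45373) (tt N4689 F45374) (tt N6654 (iv F49417)) (tt N4691 F45375) (tt N4688 (iv D11528)) (tt N6179 (iv F47535)) (tt N6382 (iv F48375)) (tt N6254 (iv F47910)))
theorem Q5643 : ∀ i, i < 5643 → P i := stepQ 5642 Q5642 (allL N5642 (tt N6620 (iv F49248)) (tt N5642 F45376) (tt N5642 F45377) (tt N4691 F45378) (tt N6656 D12543) (tt N4690 (iv D11529)) (tt N6657 D12544) (tt N6658 D12545) (tt N6659 D12546))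
theorem Q5644 : ∀ i, i < 5644 → P i := stepQ 5643 Q5643 (allL N5643 (tt N5684 (iv F45518)) (tt N5643 F45379) (tt N5643 F45380) (tt N6387 (iv F48393)) (tt N5643 F45381) (tt N6658 (iv F49434)) (tt N5643 F45382) (tt N4690 (iv D11530)) (tt N5619 F45400))
theorem Q5645 : ∀ i, i < 5645 → P i := stepQ 5644 Q5644 (allL N5644 (tt N5685 (iv F45524)) (tt N5644 F45383) (tt N5644 F45384) (tt N4692 F45385) (tt N5644 F45386) (tt N6659 (iv F49439)) (tt N5644 F45387) (tt N5620 (iv F45399)) (tt N4690 (iv D11531)))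
theorem Q5646 : ∀ i, i < 5646 → P i := stepQ 5645 Q5645 (allL N5645 (tt N6180 (iv F47537)) (tt N5645 F45388) (tt N4694 F45389) (tt N6657 (iv F49430)) (tt N6179 F47536) (tt N5645 F45390) (tt N4691 (iv D11532)) (tt N6389 (iv F48406)) (tt N6660 D12547))
theorem Q5647 : ∀ i, i < 5647 → P i := stepQ 5646 Q5646 (allL N5646 (tt N6414 (iv F48498)) (tt N5646 F45391) (tt N4695 F45392) (tt N6659 (iv F49438)) (tt N6254 (iv F47909)) (tt N4692 F45393) (tt N6660 (iv F49449)) (tt N6661 D12548) (tt N4691 (iv D11533)))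
theorem Q5648 : ∀ i, i < 5648 → P i := stepQ 5647 Q5647 (allL N5647 (tt N5688 (iv F45538)) (tt N5647 F45394) (tt N4696 F45395) (tt N5623 F45398) (tt N4693 F45396) (tt N6661 (iv F49453)) (tt N5647 F45397) (tt N4692 (iv D11534)) (tt N6391 (iv F48415)))
theorem Q5649 : ∀ i, i < 5649 → P i := stepQ 5648 Q5648 (allL N5648 (tt N5689 (iv F45544)) (tt N5648 F45401) (tt N4727 F45402) (tt N4693 (iv D11535)) (tt N5624 F45403) (tt N6621 (iv F49254)) (tt N5648 F45404) (tt N5648 F45405) (tt N6392 (iv F48421)))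
theorem Q5650 : ∀ i, i < 5650 → P i := stepQ 5649 Q5649 (allL N5649 (tt N6040 (iv F46969)) (tt N4697 F45406) (tt N6660 (iv F49445)) (tt N5649 F45407) (tt N5931 F46499) (tt N5649 F45408) (tt N4695 F45409) (tt N6662 D12549) (tt N4694 (iv D11536)))
theorem Q5651 : ∀ i, i < 5651 → P i := stepQ 5650 Q5650 (allL N5650 (tt N6421 (iv F48517)) (tt N4698 F45410) (tt N6661 (iv F49451)) (tt N6663 D12550) (tt N6258 (iv F47924)) (tt N4696 F45411) (tt N6662 (iv F49456)) (tt N4695 (iv D11537)) (tt N6394 (iv F48428)))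
theorem Q5652 : ∀ i, i < 5652 → P i := stepQ 5651 Q5651 (allL N5651 (tt N5692 (iv F45557)) (tt N4699 F45412) (tt N5627 F45413) (tt N4696 (iv D11538)) (tt N4730 F45414) (tt N6663 (iv F49459)) (tt N5651 F45415) (tt N5651 F45416) (tt N6395 (iv F48434)))
theorem Q5653 : ∀ i, i < 5653 → P i := stepQ 5652 Q5652 (allL N5652 (tt N4700 F45417) (tt N6662 (iv F49454)) (tt N5652 F45418) (tt N6203 (iv F47667)) (tt N5955 (iv F46593)) (tt N5652 F45419) (tt N4698 F45420) (tt N4697 (iv D11539)) (tt N6407 (iv F48475)))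
theorem Q5654 : ∀ i, i < 5654 → P i := stepQ 5653 Q5653 (allL N5653 (tt N4701 F45421) (tt N6663 (iv F49457)) (tt N5981 (iv F46694)) (tt N4698 (iv D11540)) (tt N5980 F46691) (tt N4699 F45422) (tt N6203 (iv F47670)) (tt N5653 F45423) (tt N6408 (iv F48479)))
theorem Q5655 : ∀ i, i < 5655 → P i := stepQ 5654 Q5654 (allL N5654 (tt N4702 F45424) (tt N5635 F45425) (tt N4699 (iv D11541)) (tt N5654 F45426) (tt N4740 F45427) (tt N5981 (iv F46696)) (tt N5654 F45428) (tt N5654 F45429) (tt N6409 (iv F48486)))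
theorem Q5656 : ∀ i, i < 5656 → P i := stepQ 5655 Q5655 (allL N5655 (tt N6621 (iv F49251)) (tt N4759 F45430) (tt N6639 (iv F49341)) (tt N4703 (iv D11542)) (tt N6664 D12551) (tt N5689 F45550) (tt N4704 F45431) (tt N5655 F45432) (tt N6665 D12552))
theorem Q5657 : ∀ i, i < 5657 → P i := stepQ 5656 Q5656 (allL N5656 (tt N6384 (iv F48379)) (tt N4760 F45433) (tt N4706 F45434) (tt N6665 (iv F49465)) (tt N6417 (iv F48510)) (tt N6224 (iv F47784)) (tt N4705 F45435) (tt N6219 (iv F47764)) (tt N4703 (iv D11543)))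
theorem Q5658 : ∀ i, i < 5658 → P i := stepQ 5657 Q5657 (allL N5657 (tt N6622 (iv F49257)) (tt N5657 F45436) (tt N4704 (iv D11544)) (tt N4707 F45437) (tt N6666 D12553) (tt N5657 F45438) (tt N6639 (iv F49343)) (tt N5657 F45439) (tt N6667 D12554))
theorem Q5659 : ∀ i, i < 5659 → P i := stepQ 5658 Q5658 (allL N5658 (tt N6623 (iv F49263)) (tt N4761 F45440) (tt N6666 (iv F49469)) (tt N6419 (iv F48514)) (tt N4704 (iv D11545)) (tt N6668 D12555) (tt N6664 (iv F49462)) (tt N5658 F45441) (tt N6669 D12556))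
theorem Q5660 : ∀ i, i < 5660 → P i := stepQ 5659 Q5659 (allL N5659 (tt N6624 (iv F49266)) (tt N4762 F45442) (tt N6667 (iv F49472)) (tt N4705 F45443) (tt N6669 (iv F49479)) (tt N5659 F45444) (tt N6665 (iv F49467)) (tt N6670 D12557) (tt N4704 (iv D11546)))
theorem Q5661 : ∀ i, i < 5661 → P i := stepQ 5660 Q5660 (allL N5660 (tt N6625 (iv F49270)) (tt N5660 F45445) (tt N4708 F45446) (tt N6671 D12558) (tt N4707 (iv D11547)) (tt N6672 D12559) (tt N6638 (iv F49338)) (tt N4710 F45447) (tt N6673 D12560))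
theorem Q5662 : ∀ i, i < 5662 → P i := stepQ 5661 Q5661 (allL N5661 (tt N6450 (iv F48594)) (tt N5661 F45448) (tt N4709 F45449) (tt N6667 (iv F49473)) (tt N6673 (iv F49490)) (tt N5661 F45450) (tt N6282 (iv F48014)) (tt N6276 (iv F47989)) (tt N4707 (iv D11548)))
theorem Q5663 : ∀ i, i < 5663 → P i := stepQ 5662 Q5662 (allL N5662 (tt N6626 (iv F49275)) (tt N4731 F45451) (tt N6672 (iv F49485)) (tt N6429 (iv F48541)) (tt N5662 F45452) (tt N4708 (iv D11549)) (tt N6674 D12561) (tt N4711 F45453) (tt N6675 D12562))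
theorem Q5664 : ∀ i, i < 5664 → P i := stepQ 5663 Q5663 (allL N5663 (tt N6453 (iv F48607)) (tt N4732 F45454) (tt N6673 (iv F49489)) (tt N6430 (iv F48544)) (tt N4709 F45455) (tt N6675 (iv F49496)) (tt N6285 (iv F48027)) (tt N6278 (iv F47998)) (tt N4708 (iv D11550)))
theorem Q5665 : ∀ i, i < 5665 → P i := stepQ 5664 Q5664 (allL N5664 (tt N6627 (iv F49279)) (tt N5664 F45456) (tt N4714 F45457) (tt N4710 (iv D11551)) (tt N5664 F45458) (tt N6676 D12563) (tt N6635 (iv F49324)) (tt N6677 D12564) (tt N6630 (iv F49301)))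
theorem Q5666 : ∀ i, i < 5666 → P i := stepQ 5665 Q5665 (allL N5665 (tt N6628 (iv F49285)) (tt N5665 F45459) (tt N4711 F45460) (tt N6676 (iv F49499)) (tt N5665 F45461) (tt N4710 (iv D11552)) (tt N6678 D12565) (tt N6672 (iv F49487)) (tt N6631 (iv F49306)))
theorem Q5667 : ∀ i, i < 5667 → P i := stepQ 5666 Q5666 (allL N5666 (tt N6629 (iv F49290)) (tt N4733 F45462) (tt N6678 (iv F49504)) (tt N4718 F45463) (tt N5666 F45464) (tt N6640 (iv F49349)) (tt N4711 (iv D11553)) (tt N6674 (iv F49493)) (tt N6632 (iv F49312)))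
theorem Q5668 : ∀ i, i < 5668 → P i := stepQ 5667 Q5667 (allL N5667 (tt N6630 (iv F49296)) (tt N4766 F45465) (tt N6635 (iv F49321)) (tt N4712 (iv D11554)) (tt N5667 F45466) (tt N6679 D12566) (tt N4714 F45467) (tt N6680 D12567) (tt N6627 (iv F49284)))
theorem Q5669 : ∀ i, i < 5669 → P i := stepQ 5668 Q5668 (allL N5668 (tt N6631 (iv F49302)) (tt N4767 F45468) (tt N4713 F45469) (tt N6679 (iv F49507)) (tt N5668 F45470) (tt N4712 (iv D11555)) (tt N6681 D12568) (tt N6448 (iv F48589)) (tt N6628 (iv F49289)))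
theorem Q5670 : ∀ i, i < 5670 → P i := stepQ 5669 Q5669 (allL N5669 (tt N6632 (iv F49307)) (tt N4734 F45471) (tt N6681 (iv F49512)) (tt N6640 (iv F49347)) (tt N5669 F45472) (tt N4718 F45473) (tt N4713 (iv D11556)) (tt N6451 (iv F48603)) (tt N6629 (iv F49295)))
theorem Q5671 : ∀ i, i < 5671 → P i := stepQ 5670 Q5670 (allL N5670 (tt N6633 (iv F49313)) (tt N4773 F45474) (tt N6676 (iv F49498)) (tt N4715 F45475) (tt N6682 D12569) (tt N4714 (iv D11557)) (tt N6683 D12570) (tt N6684 D12571) (tt N6685 D12572))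
theorem Q5672 : ∀ i, i < 5672 → P i := stepQ 5671 Q5671 (allL N5671 (tt N6634 (iv F49316)) (tt N4774 F45476) (tt N6677 (iv F49501)) (tt N6455 (iv F48615)) (tt N5671 F45477) (tt N6684 (iv F49526)) (tt N6680 (iv F49510)) (tt N4714 (iv D11558)) (tt N6686 D12573))
theorem Q5673 : ∀ i, i < 5673 → P i := stepQ 5672 Q5672 (allL N5672 (tt N6635 (iv F49319)) (tt N4775 F45478) (tt N6630 (iv F49298)) (tt N4716 F45479) (tt N5672 F45480) (tt N6685 (iv F49530)) (tt N6627 (iv F49283)) (tt N6687 D12574) (tt N4714 (iv D11559)))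
theorem Q5674 : ∀ i, i < 5674 → P i := stepQ 5673 Q5673 (allL N5673 (tt N6636 (iv F49325)) (tt N4776 F45481) (tt N4718 F45482) (tt N6683 (iv F49521)) (tt N4724 F45483) (tt N6681 (iv F49514)) (tt N4715 (iv D11560)) (tt N6457 (iv F48621)) (tt N6688 D12575))
theorem Q5675 : ∀ i, i < 5675 → P i := stepQ 5674 Q5674 (allL N5674 (tt N6637 (iv F49329)) (tt N4777 F45484) (tt N4719 F45485) (tt N6685 (iv F49529)) (tt N4725 F45486) (tt N4716 F45487) (tt N6688 (iv F49538)) (tt N6689 D12576) (tt N4715 (iv D11561)))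
theorem Q5676 : ∀ i, i < 5676 → P i := stepQ 5675 Q5675 (allL N5675 (tt N6638 (iv F49334)) (tt N4778 F45488) (tt N4720 F45489) (tt N6690 D12577) (tt N4717 F45490) (tt N6689 (iv F49542)) (tt N6625 (iv F49273)) (tt N4716 (iv D11562)) (tt N6459 (iv F48629)))
theorem Q5677 : ∀ i, i < 5677 → P i := stepQ 5676 Q5676 (allL N5676 (tt N6639 (iv F49339)) (tt N4779 F45491) (tt N6621 (iv F49253)) (tt N4717 (iv D11563)) (tt N6691 D12578) (tt N4727 F45492) (tt N6622 (iv F49260)) (tt N5676 F45493) (tt N6460 (iv F48632)))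
theorem Q5678 : ∀ i, i < 5678 → P i := stepQ 5677 Q5677 (allL N5677 (tt N6640 (iv F49345)) (tt N4735 F45494) (tt N6688 (iv F49536)) (tt N6632 (iv F49309)) (tt N4728 F45495) (tt N6629 (iv F49294)) (tt N4719 F45496) (tt N6692 D12579) (tt N4718 (iv D11564)))
theorem Q5679 : ∀ i, i < 5679 → P i := stepQ 5678 Q5678 (allL N5678 (tt N6641 (iv F49351)) (tt N4736 F45497) (tt N6689 (iv F49540)) (tt N6693 D12580) (tt N4729 F45498) (tt N4720 F45499) (tt N6692 (iv F49549)) (tt N4719 (iv D11565)) (tt N6462 (iv F48639)))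
theorem Q5680 : ∀ i, i < 5680 → P i := stepQ 5679 Q5679 (allL N5679 (tt N6424 (iv F48526)) (tt N4737 F45500) (tt N6694 D12581) (tt N4720 (iv D11566)) (tt N6259 (iv F47928)) (tt N6693 (iv F49551)) (tt N6262 (iv F47941)) (tt N6267 (iv F47960)) (tt N6463 (iv F48641)))
theorem Q5681 : ∀ i, i < 5681 → P i := stepQ 5680 Q5680 (allL N5680 (tt N6642 (iv F49355)) (tt N4783 F45501) (tt N5680 F45502) (tt N6682 (iv F49516)) (tt N4721 (iv D11567)) (tt N5680 F45503) (tt N5682 (iv F45513)) (tt N5681 F45508) (tt N6695 D12582))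
theorem Q5682 : ∀ i, i < 5682 → P i := stepQ 5681 Q5681 (allL N5681 (tt N6643 (iv F49359)) (tt N4784 F45504) (tt N5681 F45505) (tt N4724 F45506) (tt N5682 (iv F45511)) (tt N5681 F45507) (tt N4721 (iv D11568)) (tt N5680 (iv F45508)) (tt N6696 D12583))
theorem Q5683 : ∀ i, i < 5683 → P i := stepQ 5682 Q5682 (allL N5682 (tt N6644 (iv F49365)) (tt N4785 F45509) (tt N5682 F45510) (tt N6466 (iv F48647)) (tt N5681 F45511) (tt N4722 F45512) (tt N5680 F45513) (tt N4721 (iv D11569)) (tt N6697 D12584))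
theorem Q5684 : ∀ i, i < 5684 → P i := stepQ 5683 Q5683 (allL N5683 (tt N6645 (iv F49371)) (tt N4786 F45514) (tt N5683 F45515) (tt N4725 F45516) (tt N6695 (iv F49554)) (tt N4723 F45517) (tt N6696 (iv F49560)) (tt N6698 D12585) (tt N4721 (iv D11570)))
theorem Q5685 : ∀ i, i < 5685 → P i := stepQ 5684 Q5684 (allL N5684 (tt N5643 F45518) (tt N4787 F45519) (tt N5684 F45520) (tt N6468 (iv F48654)) (tt N5684 F45521) (tt N6697 (iv F49565)) (tt N5684 F45522) (tt N5596 (iv F45523)) (tt N4722 (iv D11571)))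
theorem Q5686 : ∀ i, i < 5686 → P i := stepQ 5685 Q5685 (allL N5685 (tt N5644 F45524) (tt N4788 F45525) (tt N5685 F45526) (tt N5598 (iv F45530)) (tt N5685 F45527) (tt N6698 (iv F49571)) (tt N5685 F45528) (tt N4723 (iv D11572)) (tt N5596 F45529))
theorem Q5687 : ∀ i, i < 5687 → P i := stepQ 5686 Q5686 (allL N5686 (tt N6646 (iv F49376)) (tt N4789 F45531) (tt N4728 F45532) (tt N6696 (iv F49558)) (tt N6688 (iv F49537)) (tt N5686 F45533) (tt N4725 F45534) (tt N6699 D12586) (tt N4724 (iv D11573)))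
theorem Q5688 : ∀ i, i < 5688 → P i := stepQ 5687 Q5687 (allL N5687 (tt N6647 (iv F49381)) (tt N4790 F45535) (tt N4729 F45536) (tt N6700 D12587) (tt N6689 (iv F49541)) (tt N4726 F45537) (tt N6699 (iv F49577)) (tt N4725 (iv D11574)) (tt N6471 (iv F48669)))
theorem Q5689 : ∀ i, i < 5689 → P i := stepQ 5688 Q5688 (allL N5688 (tt N5647 F45538) (tt N4791 F45539) (tt N5600 F45542) (tt N4726 (iv D11575)) (tt N5599 (iv F45543)) (tt N6700 (iv F49580)) (tt N5688 F45540) (tt N5598 F45541) (tt N6472 (iv F48674)))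
theorem Q5690 : ∀ i, i < 5690 → P i := stepQ 5689 Q5689 (allL N5689 (tt N5648 F45544) (tt N4792 F45545) (tt N5624 F45546) (tt N5599 F45547) (tt N4727 (iv D11576)) (tt N5655 (iv F45550)) (tt N5689 F45548) (tt N5689 F45549) (tt N6473 (iv F48682)))
theorem Q5691 : ∀ i, i < 5691 → P i := stepQ 5690 Q5690 (allL N5690 (tt N6648 (iv F49385)) (tt N4738 F45551) (tt N6699 (iv F49575)) (tt N5908 (iv F46359)) (tt N6692 (iv F49548)) (tt N5690 F45552) (tt N4729 F45553) (tt N4728 (iv D11577)) (tt N6474 (iv F48686)))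
theorem Q5692 : ∀ i, i < 5692 → P i := stepQ 5691 Q5691 (allL N5691 (tt N6649 (iv F49389)) (tt N4739 F45554) (tt N6701 D12588) (tt N4729 (iv D11578)) (tt N5983 (iv F46703)) (tt N4730 F45555) (tt N5908 (iv F46362)) (tt N5691 F45556) (tt N6475 (iv F48689)))
theorem Q5693 : ∀ i, i < 5693 → P i := stepQ 5692 Q5692 (allL N5692 (tt N5651 F45557) (tt N5601 (iv F45562)) (tt N4730 (iv D11579)) (tt N5600 F45558) (tt N5627 F45559) (tt N6701 (iv F49588)) (tt N5692 F45560) (tt N5692 F45561) (tt N6476 (iv F48694)))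
theorem Q5694 : ∀ i, i < 5694 → P i := stepQ 5693 Q5693 (allL N5693 (tt N4741 F45563) (tt N6674 (iv F49491)) (tt N5693 F45564) (tt N6485 (iv F48729)) (tt N5693 F45565) (tt N6651 (iv F49401)) (tt N4731 (iv D11580)) (tt N4733 F45566) (tt N6702 D12589))
theorem Q5695 : ∀ i, i < 5695 → P i := stepQ 5694 Q5694 (allL N5694 (tt N4742 F45567) (tt N6675 (iv F49494)) (tt N5694 F45568) (tt N6486 (iv F48732)) (tt N5694 F45569) (tt N4732 F45570) (tt N6702 (iv F49594)) (tt N6324 (iv F48165)) (tt N4731 (iv D11581)))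
theorem Q5696 : ∀ i, i < 5696 → P i := stepQ 5695 Q5695 (allL N5695 (tt N4743 F45571) (tt N6692 (iv F49547)) (tt N4799 F45572) (tt N5967 (iv F46639)) (tt N4738 F45573) (tt N6650 (iv F49396)) (tt N4736 F45574) (tt N4735 (iv D11582)) (tt N6504 (iv F48798)))
theorem Q5697 : ∀ i, i < 5697 → P i := stepQ 5696 Q5696 (allL N5696 (tt N4744 F45575) (tt N6693 (iv F49550)) (tt N5964 (iv F46628)) (tt N4736 (iv D11583)) (tt N5963 F46626) (tt N4737 F45576) (tt N5967 (iv F46640)) (tt N6311 (iv F48126)) (tt N6505 (iv F48801)))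
theorem Q5698 : ∀ i, i < 5698 → P i := stepQ 5697 Q5697 (allL N5697 (tt N4745 F45577) (tt N6703 D12590) (tt N4737 (iv D11584)) (tt N4801 F45578) (tt N6298 (iv F48081)) (tt N5964 F46631) (tt N6301 (iv F48092)) (tt N6309 (iv F48119)) (tt N6506 (iv F48804)))
theorem Q5699 : ∀ i, i < 5699 → P i := stepQ 5698 Q5698 (allL N5698 (tt N5196 F45579) (tt N4740 (iv D11585)) (tt N5601 F45580) (tt N4802 F45581) (tt N5635 F45582) (tt N5192 F45583) (tt N5698 F45584) (tt N5698 F45585) (tt N6507 (iv F48811)))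
theorem Q5700 : ∀ i, i < 5700 → P i := stepQ 5699 Q5699 (allL N5699 (tt N6702 (iv F49591)) (tt N6529 (iv F48869)) (tt N5699 F45586) (tt N6514 (iv F48833)) (tt N5699 F45587) (tt N6362 (iv F48309)) (tt N4742 F45588) (tt N6361 (iv F48305)) (tt N4741 (iv D11586)))
theorem Q5701 : ∀ i, i < 5701 → P i := stepQ 5700 Q5700 (allL N5700 (tt N5700 F45589) (tt N4974 F45590) (tt N4928 F45591) (tt N4746 (iv D11587)) (tt N6704 D12591) (tt N4930 F45592) (tt N4747 F45593) (tt N5700 F45594) (tt N6705 D12592))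
theorem Q5702 : ∀ i, i < 5702 → P i := stepQ 5701 Q5701 (allL N5701 (tt N5701 F45595) (tt N6219 (iv F47759)) (tt N4749 F45596) (tt N6705 (iv F49604)) (tt N6531 (iv F48880)) (tt N6193 (iv F47611)) (tt N4748 F45597) (tt N4760 F45598) (tt N4746 (iv D11588)))
theorem Q5703 : ∀ i, i < 5703 → P i := stepQ 5702 Q5702 (allL N5702 (tt N5702 F45599) (tt N4934 F45600) (tt N4747 (iv D11589)) (tt N4750 F45601) (tt N5736 (iv F45752)) (tt N5702 F45602) (tt N4928 F45603) (tt N5702 F45604) (tt N6706 D12593))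
theorem Q5704 : ∀ i, i < 5704 → P i := stepQ 5703 Q5703 (allL N5703 (tt N5703 F45605) (tt N6652 (iv F49404)) (tt N5736 F45755) (tt N6533 (iv F48888)) (tt N4747 (iv D11590)) (tt N5737 (iv F45758)) (tt N6704 (iv F49599)) (tt N5703 F45606) (tt N6707 D12594))
theorem Q5705 : ∀ i, i < 5705 → P i := stepQ 5704 Q5704 (allL N5704 (tt N5704 F45607) (tt N6653 (iv F49409)) (tt N6706 (iv F49609)) (tt N4748 F45608) (tt N6707 (iv F49616)) (tt N5704 F45609) (tt N6705 (iv F49606)) (tt N6708 D12595) (tt N4747 (iv D11591)))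
theorem Q5706 : ∀ i, i < 5706 → P i := stepQ 5705 Q5705 (allL N5705 (tt N5705 F45610) (tt N4935 F45611) (tt N4752 F45612) (tt N6706 (iv F49610)) (tt N5560 F45613) (tt N5705 F45614) (tt N4929 F45615) (tt N5705 F45616) (tt N4750 (iv D11592)))
theorem Q5707 : ∀ i, i < 5707 → P i := stepQ 5706 Q5706 (allL N5706 (tt N5706 F45617) (tt N4755 F45618) (tt N5560 F45619) (tt N6536 (iv F48898)) (tt N4752 F45620) (tt N5561 F45621) (tt N6191 (iv F47600)) (tt N5706 F45622) (tt N4751 (iv D11593)))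
theorem Q5708 : ∀ i, i < 5708 → P i := stepQ 5707 Q5707 (allL N5707 (tt N4756 F45623) (tt N5561 F45624) (tt N5579 F45625) (tt N4765 F45626) (tt N5707 F45627) (tt N4755 F45628) (tt N5707 F45629) (tt N5707 F45630) (tt N4754 (iv D11594)))
theorem Q5709 : ∀ i, i < 5709 → P i := stepQ 5708 Q5708 (allL N5708 (tt N5708 F45631) (tt N6224 (iv F47782)) (tt N4764 F45632) (tt N5558 F45633) (tt N5557 F45634) (tt N4760 F45635) (tt N5708 F45636) (tt N6193 (iv F47613)) (tt N4758 (iv D11595)))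
theorem Q5710 : ∀ i, i < 5710 → P i := stepQ 5709 Q5709 (allL N5709 (tt N5709 F45637) (tt N6664 (iv F49461)) (tt N5709 F45638) (tt N6537 (iv F48903)) (tt N4759 (iv D11596)) (tt N5734 (iv F45744)) (tt N4761 F45639) (tt N5709 F45640) (tt N6709 D12596))
theorem Q5711 : ∀ i, i < 5711 → P i := stepQ 5710 Q5710 (allL N5710 (tt N5710 F45641) (tt N6665 (iv F49464)) (tt N5710 F45642) (tt N4760 F45643) (tt N6709 (iv F49624)) (tt N5558 F45644) (tt N4762 F45645) (tt N6710 D12597) (tt N4759 (iv D11597)))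
theorem Q5712 : ∀ i, i < 5712 → P i := stepQ 5711 Q5711 (allL N5711 (tt N5711 F45646) (tt N6668 (iv F49475)) (tt N5711 F45647) (tt N6542 (iv F48922)) (tt N5711 F45648) (tt N4761 (iv D11598)) (tt N6711 D12598) (tt N5711 F45649) (tt N6712 D12599))
theorem Q5713 : ∀ i, i < 5713 → P i := stepQ 5712 Q5712 (allL N5712 (tt N5712 F45650) (tt N6669 (iv F49478)) (tt N5712 F45651) (tt N6543 (iv F48924)) (tt N4762 F45652) (tt N6712 (iv F49639)) (tt N6709 (iv F49626)) (tt N6713 D12600) (tt N4761 (iv D11599)))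
theorem Q5714 : ∀ i, i < 5714 → P i := stepQ 5713 Q5713 (allL N5713 (tt N5713 F45653) (tt N6670 (iv F49480)) (tt N5713 F45654) (tt N6708 (iv F49619)) (tt N6713 (iv F49642)) (tt N5713 F45655) (tt N6710 (iv F49630)) (tt N4762 (iv D11600)) (tt N5713 F45656))
theorem Q5715 : ∀ i, i < 5715 → P i := stepQ 5714 Q5714 (allL N5714 (tt N5714 F45657) (tt N4765 F45658) (tt N5557 F45659) (tt N5561 F45660) (tt N4764 F45661) (tt N6536 (iv F48900)) (tt N5714 F45662) (tt N6194 (iv F47619)) (tt N4763 (iv D11601)))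
theorem Q5716 : ∀ i, i < 5716 → P i := stepQ 5715 Q5715 (allL N5715 (tt N5715 F45663) (tt N6679 (iv F49506)) (tt N5715 F45664) (tt N4767 F45665) (tt N6714 D12601) (tt N4766 (iv D11602)) (tt N6715 D12602) (tt N6716 D12603) (tt N6717 D12604))
theorem Q5717 : ∀ i, i < 5717 → P i := stepQ 5716 Q5716 (allL N5716 (tt N5716 F45666) (tt N6680 (iv F49508)) (tt N5716 F45667) (tt N6565 (iv F49019)) (tt N5716 F45668) (tt N6716 (iv F49659)) (tt N4774 F45669) (tt N4766 (iv D11603)) (tt N6718 D12605))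
theorem Q5718 : ∀ i, i < 5718 → P i := stepQ 5717 Q5717 (allL N5717 (tt N5717 F45670) (tt N6627 (iv F49280)) (tt N5717 F45671) (tt N4768 F45672) (tt N5717 F45673) (tt N6717 (iv F49664)) (tt N4775 F45674) (tt N6719 D12606) (tt N4766 (iv D11604)))
theorem Q5719 : ∀ i, i < 5719 → P i := stepQ 5718 Q5718 (allL N5718 (tt N5718 F45675) (tt N6681 (iv F49511)) (tt N4770 F45676) (tt N6715 (iv F49652)) (tt N5718 F45677) (tt N4776 F45678) (tt N4767 (iv D11605)) (tt N6567 (iv F49031)) (tt N6720 D12607))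
theorem Q5720 : ∀ i, i < 5720 → P i := stepQ 5719 Q5719 (allL N5719 (tt N5719 F45679) (tt N6628 (iv F49286)) (tt N4771 F45680) (tt N6717 (iv F49663)) (tt N5719 F45681) (tt N4768 F45682) (tt N6720 (iv F49677)) (tt N6721 D12608) (tt N4767 (iv D11606)))
theorem Q5721 : ∀ i, i < 5721 → P i := stepQ 5720 Q5720 (allL N5720 (tt N5720 F45683) (tt N6625 (iv F49271)) (tt N4772 F45684) (tt N6722 D12609) (tt N4769 F45685) (tt N6721 (iv F49681)) (tt N4778 F45686) (tt N4768 (iv D11607)) (tt N6569 (iv F49040)))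
theorem Q5722 : ∀ i, i < 5722 → P i := stepQ 5721 Q5721 (allL N5721 (tt N5721 F45687) (tt N6622 F49262) (tt N5721 F45688) (tt N4769 (iv D11608)) (tt N6723 D12610) (tt N5721 F45689) (tt N4779 F45690) (tt N5721 F45691) (tt N6570 (iv F49046)))
theorem Q5723 : ∀ i, i < 5723 → P i := stepQ 5722 Q5722 (allL N5722 (tt N5722 F45692) (tt N4796 F45693) (tt N6720 (iv F49674)) (tt N5722 F45694) (tt N5722 F45695) (tt N4780 F45696) (tt N4771 F45697) (tt N6724 D12611) (tt N4770 (iv D11609)))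
theorem Q5724 : ∀ i, i < 5724 → P i := stepQ 5723 Q5723 (allL N5723 (tt N5723 F45698) (tt N4797 F45699) (tt N6721 (iv F49679)) (tt N6725 D12612) (tt N5723 F45700) (tt N4772 F45701) (tt N6724 (iv F49693)) (tt N4771 (iv D11610)) (tt N6572 (iv F49057)))
theorem Q5725 : ∀ i, i < 5725 → P i := stepQ 5724 Q5724 (allL N5724 (tt N5724 F45702) (tt N4798 F45703) (tt N6726 D12613) (tt N4772 (iv D11611)) (tt N5724 F45704) (tt N6725 (iv F49696)) (tt N4782 F45705) (tt N5724 F45706) (tt N6573 (iv F49063)))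
theorem Q5726 : ∀ i, i < 5726 → P i := stepQ 5725 Q5725 (allL N5725 (tt N5725 F45707) (tt N6682 (iv F49515)) (tt N5725 F45708) (tt N4783 F45709) (tt N4773 (iv D11612)) (tt N5725 F45710) (tt N5551 (iv F45711)) (tt N5550 (iv F45712)) (tt N6727 D12614))
theorem Q5727 : ∀ i, i < 5727 → P i := stepQ 5726 Q5726 (allL N5726 (tt N5726 F45713) (tt N6683 (iv F49520)) (tt N5726 F45714) (tt N4776 F45715) (tt N5551 F45716) (tt N6715 (iv F49654)) (tt N4773 (iv D11613)) (tt N5549 (iv F45717)) (tt N6728 D12615))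
theorem Q5728 : ∀ i, i < 5728 → P i := stepQ 5727 Q5727 (allL N5727 (tt N5727 F45718) (tt N6684 (iv F49524)) (tt N5727 F45719) (tt N6576 (iv F49070)) (tt N5550 F45720) (tt N4774 F45721) (tt N5549 F45722) (tt N4773 (iv D11614)) (tt N6729 D12616))
theorem Q5729 : ∀ i, i < 5729 → P i := stepQ 5728 Q5728 (allL N5728 (tt N5728 F45723) (tt N6685 (iv F49528)) (tt N5728 F45724) (tt N4777 F45725) (tt N6727 (iv F49705)) (tt N4775 F45726) (tt N6728 (iv F49712)) (tt N6730 D12617) (tt N4773 (iv D11615)))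
theorem Q5730 : ∀ i, i < 5730 → P i := stepQ 5729 Q5729 (allL N5729 (tt N5729 F45727) (tt N6686 (iv F49531)) (tt N5729 F45728) (tt N6578 (iv F49078)) (tt N5729 F45729) (tt N6729 (iv F49716)) (tt N6718 (iv F49668)) (tt N6731 D12618) (tt N4774 (iv D11616)))
theorem Q5731 : ∀ i, i < 5731 → P i := stepQ 5730 Q5730 (allL N5730 (tt N5730 F45730) (tt N6687 (iv F49533)) (tt N5730 F45731) (tt N6732 D12619) (tt N5730 F45732) (tt N6730 (iv F49720)) (tt N6719 (iv F49672)) (tt N4775 (iv D11617)) (tt N6731 (iv F49724)))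
theorem Q5732 : ∀ i, i < 5732 → P i := stepQ 5731 Q5731 (allL N5731 (tt N5731 F45733) (tt N6688 (iv F49535)) (tt N4780 F45734) (tt N6728 (iv F49710)) (tt N4789 F45735) (tt N6720 (iv F49676)) (tt N4777 F45736) (tt N6733 D12620) (tt N4776 (iv D11618)))
theorem Q5733 : ∀ i, i < 5733 → P i := stepQ 5732 Q5732 (allL N5732 (tt N5732 F45737) (tt N6689 (iv F49539)) (tt N4781 F45738) (tt N6734 D12621) (tt N4790 F45739) (tt N4778 F45740) (tt N6733 (iv F49730)) (tt N4777 (iv D11619)) (tt N6581 (iv F49088)))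
theorem Q5734 : ∀ i, i < 5734 → P i := stepQ 5733 Q5733 (allL N5733 (tt N5733 F45741) (tt N6690 (iv F49543)) (tt N6735 D12622) (tt N4778 (iv D11620)) (tt N6736 D12623) (tt N6734 (iv F49734)) (tt N6722 (iv F49683)) (tt N6732 (iv F49726)) (tt N6582 (iv F49090)))
theorem Q5735 : ∀ i, i < 5735 → P i := stepQ 5734 Q5734 (allL N5734 (tt N5734 F45742) (tt N6691 (iv F49544)) (tt N5734 F45743) (tt N6736 (iv F49739)) (tt N4779 (iv D11621)) (tt N5709 F45744) (tt N6723 (iv F49686)) (tt N5734 F45745) (tt N6583 (iv F49093)))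
theorem Q5736 : ∀ i, i < 5736 → P i := stepQ 5735 Q5735 (allL N5735 (tt N5735 F45746) (tt N4799 F45747) (tt N6733 (iv F49728)) (tt N5893 (iv F46286)) (tt N4793 F45748) (tt N6724 (iv F49692)) (tt N4781 F45749) (tt N4780 (iv D11622)) (tt N6584 (iv F49098)))
theorem Q5737 : ∀ i, i < 5737 → P i := stepQ 5736 Q5736 (allL N5736 (tt N5736 F45750) (tt N4800 F45751) (tt N5703 (iv F45755)) (tt N4781 (iv D11623)) (tt N5702 F45752) (tt N4782 F45753) (tt N5893 (iv F46287)) (tt N5736 F45754) (tt N6585 (iv F49102)))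
theorem Q5738 : ∀ i, i < 5738 → P i := stepQ 5737 Q5737 (allL N5737 (tt N5737 F45756) (tt N6737 D12624) (tt N4782 (iv D11624)) (tt N6735 (iv F49736)) (tt N5737 F45757) (tt N5703 F45758) (tt N6726 (iv F49700)) (tt N5737 F45759) (tt N6586 (iv F49105)))
theorem Q5739 : ∀ i, i < 5739 → P i := stepQ 5738 Q5738 (allL N5738 (tt N5738 F45760) (tt N6695 (iv F49552)) (tt N4806 F45761) (tt N6727 (iv F49704)) (tt N4786 F45762) (tt N5738 F45763) (tt N5740 (iv F45773)) (tt N6181 F47546) (tt N4783 (iv D11625)))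
theorem Q5740 : ∀ i, i < 5740 → P i := stepQ 5739 Q5739 (allL N5739 (tt N5739 F45764) (tt N6696 (iv F49556)) (tt N4807 F45765) (tt N4789 F45766) (tt N5740 (iv F45771)) (tt N5739 F45767) (tt N4786 F45768) (tt N6738 D12625) (tt N4784 (iv D11626)))
theorem Q5741 : ∀ i, i < 5741 → P i := stepQ 5740 Q5740 (allL N5740 (tt N5740 F45769) (tt N6697 (iv F49562)) (tt N4808 F45770) (tt N6589 (iv F49116)) (tt N5739 F45771) (tt N4787 F45772) (tt N5738 F45773) (tt N6739 D12626) (tt N4785 (iv D11627)))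
theorem Q5742 : ∀ i, i < 5742 → P i := stepQ 5741 Q5741 (allL N5741 (tt N5741 F45774) (tt N6698 (iv F49569)) (tt N4809 F45775) (tt N5509 (iv F45777)) (tt N6181 (iv F47544)) (tt N4788 F45776) (tt N6738 (iv F49748)) (tt N4786 (iv D11628)) (tt N6739 (iv F49757)))
theorem Q5743 : ∀ i, i < 5743 → P i := stepQ 5742 Q5742 (allL N5742 (tt N5742 F45778) (tt N5596 F45779) (tt N4810 F45780) (tt N5595 (iv F45784)) (tt N5742 F45781) (tt N6739 (iv F49755)) (tt N5742 F45782) (tt N4787 (iv D11629)) (tt N4788 F45783))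
theorem Q5744 : ∀ i, i < 5744 → P i := stepQ 5743 Q5743 (allL N5743 (tt N5743 F45785) (tt N6699 (iv F49574)) (tt N4793 F45786) (tt N6740 D12627) (tt N6733 (iv F49729)) (tt N5743 F45787) (tt N4790 F45788) (tt N4789 (iv D11630)) (tt N6593 (iv F49138)))
theorem Q5745 : ∀ i, i < 5745 → P i := stepQ 5744 Q5744 (allL N5744 (tt N5744 F45789) (tt N6700 (iv F49579)) (tt N5507 F45790) (tt N4790 (iv D11631)) (tt N5506 (iv F45793)) (tt N4791 F45791) (tt N6740 (iv F49762)) (tt N5509 F45792) (tt N6594 (iv F49142)))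
theorem Q5746 : ∀ i, i < 5746 → P i := stepQ 5745 Q5745 (allL N5745 (tt N4803 F45794) (tt N6724 (iv F49690)) (tt N6650 (iv F49394)) (tt N5901 (iv F46324)) (tt N5745 F45795) (tt N4799 F45796) (tt N4797 F45797) (tt N4796 (iv D11632)) (tt N6607 (iv F49199)))
theorem Q5747 : ∀ i, i < 5747 → P i := stepQ 5746 Q5746 (allL N5746 (tt N4804 F45798) (tt N6725 (iv F49695)) (tt N5974 (iv F46665)) (tt N4797 (iv D11633)) (tt N5904 (iv F46341)) (tt N4798 F45799) (tt N5901 (iv F46326)) (tt N5746 F45800) (tt N6608 (iv F49203)))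
theorem Q5748 : ∀ i, i < 5748 → P i := stepQ 5747 Q5747 (allL N5747 (tt N4805 F45801) (tt N6741 D12628) (tt N4798 (iv D11634)) (tt N6301 F48094) (tt N5747 F45802) (tt N5974 (iv F46667)) (tt N4801 F45803) (tt N5747 F45804) (tt N6609 (iv F49208)))
theorem Q5749 : ∀ i, i < 5749 → P i := stepQ 5748 Q5748 (allL N5748 (tt N6060 (iv F47030)) (tt N4801 (iv D11635)) (tt N6737 (iv F49741)) (tt N6703 (iv F49595)) (tt N5748 F45805) (tt N5941 F46539) (tt N6741 (iv F49766)) (tt N5748 F45806) (tt N6610 (iv F49210)))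
theorem Q5750 : ∀ i, i < 5750 → P i := stepQ 5749 Q5749 (allL N5749 (tt N5749 F45807) (tt N5749 F45808) (tt N6738 (iv F49746)) (tt N5165 F45809) (tt N5750 (iv F45815)) (tt N5749 F45810) (tt N4809 F45811) (tt N4807 (iv D11636)) (tt N5164 F45812))
theorem Q5751 : ∀ i, i < 5751 → P i := stepQ 5750 Q5750 (allL N5750 (tt N5750 F45813) (tt N5750 F45814) (tt N6739 (iv F49753)) (tt N5163 (iv F45819)) (tt N5749 F45815) (tt N4810 F45816) (tt N5164 F45817) (tt N4808 (iv D11637)) (tt N4809 F45818))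
theorem Q5752 : ∀ i, i < 5752 → P i := stepQ 5751 Q5751 (allL N5751 (tt N4854 F45820) (tt N5751 F45821) (tt N4814 F45822) (tt N6742 D12629) (tt N5751 F45823) (tt N6210 (iv F47716)) (tt N6545 (iv F48930)) (tt N4813 (iv D11638)) (tt N6743 D12630))
theorem Q5753 : ∀ i, i < 5753 → P i := stepQ 5752 Q5752 (allL N5752 (tt N4855 F45824) (tt N4825 F45825) (tt N6744 D12631) (tt N4814 (iv D11639)) (tt N6745 D12632) (tt N6211 (iv F47721)) (tt N6479 (iv F48706)) (tt N4815 F45826) (tt N6746 D12633))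
theorem Q5754 : ∀ i, i < 5754 → P i := stepQ 5753 Q5753 (allL N5753 (tt N4856 F45827) (tt N4826 F45828) (tt N6743 (iv F49773)) (tt N6746 (iv F49783)) (tt N5753 F45829) (tt N6212 (iv F47727)) (tt N6547 (iv F48939)) (tt N5934 (iv F46512)) (tt N4814 (iv D11640)))
theorem Q5755 : ∀ i, i < 5755 → P i := stepQ 5754 Q5754 (allL N5754 (tt N4857 F45830) (tt N6747 D12634) (tt N4815 (iv D11641)) (tt N5262 F45831) (tt N6748 D12635) (tt N6215 (iv F47743)) (tt N6437 (iv F48564)) (tt N6744 (iv F49776)) (tt N6749 D12636))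
theorem Q5756 : ∀ i, i < 5756 → P i := stepQ 5755 Q5755 (allL N5755 (tt N4858 F45832) (tt N4828 F45833) (tt N6748 (iv F49787)) (tt N4818 F45834) (tt N4815 (iv D11642)) (tt N6750 D12637) (tt N6491 (iv F48752)) (tt N6745 (iv F49780)) (tt N6751 D12638))
theorem Q5757 : ∀ i, i < 5757 → P i := stepQ 5756 Q5756 (allL N5756 (tt N4859 F45835) (tt N4829 F45836) (tt N6749 (iv F49789)) (tt N4816 F45837) (tt N6751 (iv F49797)) (tt N6217 (iv F47752)) (tt N6492 (iv F48756)) (tt N6752 D12639) (tt N4815 (iv D11643)))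
theorem Q5758 : ∀ i, i < 5758 → P i := stepQ 5757 Q5757 (allL N5757 (tt N4860 F45838) (tt N5757 F45839) (tt N4818 F45840) (tt N6753 D12640) (tt N4817 (iv D11644)) (tt N6754 D12641) (tt N6548 (iv F48943)) (tt N5757 F45841) (tt N6755 D12642))
theorem Q5759 : ∀ i, i < 5759 → P i := stepQ 5758 Q5758 (allL N5758 (tt N4861 F45842) (tt N5758 F45843) (tt N4819 F45844) (tt N5269 F45845) (tt N6755 (iv F49811)) (tt N4821 F45846) (tt N6549 (iv F48950)) (tt N6756 D12643) (tt N4817 (iv D11645)))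
theorem Q5760 : ∀ i, i < 5760 → P i := stepQ 5759 Q5759 (allL N5759 (tt N4862 F45847) (tt N4830 F45848) (tt N6754 (iv F49805)) (tt N6750 (iv F49793)) (tt N4822 F45849) (tt N4818 (iv D11646)) (tt N6757 D12644) (tt N5759 F45850) (tt N6758 D12645))
theorem Q5761 : ∀ i, i < 5761 → P i := stepQ 5760 Q5760 (allL N5760 (tt N4863 F45851) (tt N4831 F45852) (tt N6755 (iv F49810)) (tt N6751 (iv F49796)) (tt N4819 F45853) (tt N6758 (iv F49824)) (tt N6596 (iv F49151)) (tt N6759 D12646) (tt N4818 (iv D11647)))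
theorem Q5762 : ∀ i, i < 5762 → P i := stepQ 5761 Q5761 (allL N5761 (tt N4864 F45854) (tt N4832 F45855) (tt N6756 (iv F49814)) (tt N5947 (iv F46560)) (tt N6759 (iv F49827)) (tt N4824 F45856) (tt N6597 (iv F49155)) (tt N4819 (iv D11648)) (tt N5761 F45857))
theorem Q5763 : ∀ i, i < 5763 → P i := stepQ 5762 Q5762 (allL N5762 (tt N4865 F45858) (tt N5762 F45859) (tt N6221 (iv F47771)) (tt N4820 (iv D11649)) (tt N5273 F45860) (tt N6760 D12647) (tt N5762 F45861) (tt N6761 D12648) (tt N6762 D12649))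
theorem Q5764 : ∀ i, i < 5764 → P i := stepQ 5763 Q5763 (allL N5763 (tt N4866 F45862) (tt N5763 F45863) (tt N4822 F45864) (tt N6760 (iv F49831)) (tt N6754 (iv F49806)) (tt N4820 (iv D11650)) (tt N6763 D12650) (tt N5763 F45865) (tt N6764 D12651))
theorem Q5765 : ∀ i, i < 5765 → P i := stepQ 5764 Q5764 (allL N5764 (tt N4867 F45866) (tt N5764 F45867) (tt N4823 F45868) (tt N6762 (iv F49842)) (tt N4821 F45869) (tt N6764 (iv F49854)) (tt N5764 F45870) (tt N6765 D12652) (tt N4820 (iv D11651)))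
theorem Q5766 : ∀ i, i < 5766 → P i := stepQ 5765 Q5765 (allL N5765 (tt N4868 F45871) (tt N5765 F45872) (tt N4824 F45873) (tt N6766 D12653) (tt N6765 (iv F49859)) (tt N6756 (iv F49815)) (tt N5765 F45874) (tt N4821 (iv D11652)) (tt N5765 F45875))
theorem Q5767 : ∀ i, i < 5767 → P i := stepQ 5766 Q5766 (allL N5766 (tt N4869 F45876) (tt N4833 F45877) (tt N6763 (iv F49848)) (tt N6187 F47581) (tt N6757 (iv F49819)) (tt N5766 F45878) (tt N4822 (iv D11653)) (tt N5766 F45879) (tt N6767 D12654))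
theorem Q5768 : ∀ i, i < 5768 → P i := stepQ 5767 Q5767 (allL N5767 (tt N4870 F45880) (tt N4834 F45881) (tt N6764 (iv F49853)) (tt N6225 (iv F47789)) (tt N6758 (iv F49823)) (tt N4823 F45882) (tt N6767 (iv F49871)) (tt N6768 D12655) (tt N4822 (iv D11654)))
theorem Q5769 : ∀ i, i < 5769 → P i := stepQ 5768 Q5768 (allL N5768 (tt N4871 F45883) (tt N4835 F45884) (tt N6765 (iv F49857)) (tt N6769 D12656) (tt N4824 F45885) (tt N6768 (iv F49874)) (tt N5768 F45886) (tt N4823 (iv D11655)) (tt N5768 F45887))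
theorem Q5770 : ∀ i, i < 5770 → P i := stepQ 5769 Q5769 (allL N5769 (tt N4839 F45888) (tt N6770 D12657) (tt N4825 (iv D11656)) (tt N5769 F45889) (tt N6097 (iv F47185)) (tt N6092 F47162) (tt N6339 (iv F48226)) (tt N4827 F45890) (tt N6771 D12658))
theorem Q5771 : ∀ i, i < 5771 → P i := stepQ 5770 Q5770 (allL N5770 (tt N4840 F45891) (tt N6745 (iv F49778)) (tt N6097 (iv F47183)) (tt N5770 F45892) (tt N4825 (iv D11657)) (tt N6095 (iv F47174)) (tt N6508 (iv F48814)) (tt N4828 F45893) (tt N6772 D12659))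
theorem Q5772 : ∀ i, i < 5772 → P i := stepQ 5771 Q5771 (allL N5771 (tt N4841 F45894) (tt N6746 (iv F49782)) (tt N6771 (iv F49885)) (tt N4826 F45895) (tt N6772 (iv F49889)) (tt N6227 (iv F47799)) (tt N6509 (iv F48818)) (tt N6773 D12660) (tt N4825 (iv D11658)))
theorem Q5773 : ∀ i, i < 5773 → P i := stepQ 5772 Q5772 (allL N5772 (tt N6308 (iv F48112)) (tt N4827 (iv D11659)) (tt N6747 (iv F49784)) (tt N4836 F45896) (tt N6774 D12661) (tt N6230 (iv F47811)) (tt N6314 (iv F48135)) (tt N6770 (iv F49883)) (tt N6775 D12662))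
theorem Q5774 : ∀ i, i < 5774 → P i := stepQ 5773 Q5773 (allL N5773 (tt N4842 F45897) (tt N6774 (iv F49892)) (tt N4828 F45898) (tt N5773 F45899) (tt N4827 (iv D11660)) (tt N6084 (iv F47128)) (tt N6351 (iv F48270)) (tt N6097 (iv F47186)) (tt N6776 D12663))
theorem Q5775 : ∀ i, i < 5775 → P i := stepQ 5774 Q5774 (allL N5774 (tt N4843 F45900) (tt N6775 (iv F49894)) (tt N4829 F45901) (tt N4837 F45902) (tt N6776 (iv F49899)) (tt N6231 (iv F47815)) (tt N6352 (iv F48274)) (tt N6777 D12664) (tt N4827 (iv D11661)))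
theorem Q5776 : ∀ i, i < 5776 → P i := stepQ 5775 Q5775 (allL N5775 (tt N4844 F45903) (tt N6750 (iv F49792)) (tt N6084 (iv F47126)) (tt N4830 F45904) (tt N6083 F47124) (tt N4828 (iv D11662)) (tt N6087 (iv F47140)) (tt N6095 (iv F47176)) (tt N6778 D12665))
theorem Q5777 : ∀ i, i < 5777 → P i := stepQ 5776 Q5776 (allL N5776 (tt N4845 F45905) (tt N6751 (iv F49795)) (tt N6776 (iv F49897)) (tt N4831 F45906) (tt N4829 F45907) (tt N6778 (iv F49904)) (tt N6519 (iv F48848)) (tt N6779 D12666) (tt N4828 (iv D11663)))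
theorem Q5778 : ∀ i, i < 5778 → P i := stepQ 5777 Q5777 (allL N5777 (tt N4846 F45908) (tt N6752 (iv F49799)) (tt N6777 (iv F49901)) (tt N5971 (iv F46652)) (tt N6779 (iv F49906)) (tt N6233 (iv F47822)) (tt N6520 (iv F48850)) (tt N4829 (iv D11664)) (tt N6773 (iv F49891)))
theorem Q5779 : ∀ i, i < 5779 → P i := stepQ 5778 Q5778 (allL N5778 (tt N4847 F45909) (tt N6757 (iv F49818)) (tt N5778 F45910) (tt N6087 (iv F47139)) (tt N4833 F45911) (tt N6611 (iv F49214)) (tt N4830 (iv D11665)) (tt N5778 F45912) (tt N6780 D12667))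
theorem Q5780 : ∀ i, i < 5780 → P i := stepQ 5779 Q5779 (allL N5779 (tt N4848 F45913) (tt N6758 (iv F49822)) (tt N5779 F45914) (tt N6778 (iv F49903)) (tt N4834 F45915) (tt N4831 F45916) (tt N6780 (iv F49910)) (tt N6781 D12668) (tt N4830 (iv D11666)))
theorem Q5781 : ∀ i, i < 5781 → P i := stepQ 5780 Q5780 (allL N5780 (tt N4849 F45917) (tt N6759 (iv F49826)) (tt N5780 F45918) (tt N6782 D12669) (tt N4832 F45919) (tt N6781 (iv F49914)) (tt N6613 (iv F49223)) (tt N4831 (iv D11667)) (tt N5780 F45920))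
theorem Q5782 : ∀ i, i < 5782 → P i := stepQ 5781 Q5781 (allL N5781 (tt N4850 F45921) (tt N6767 (iv F49869)) (tt N5781 F45922) (tt N6189 (iv F47586)) (tt N6780 (iv F49909)) (tt N5781 F45923) (tt N4834 F45924) (tt N6783 D12670) (tt N4833 (iv D11668)))
theorem Q5783 : ∀ i, i < 5783 → P i := stepQ 5782 Q5782 (allL N5782 (tt N4851 F45925) (tt N6768 (iv F49873)) (tt N5782 F45926) (tt N6784 D12671) (tt N6781 (iv F49913)) (tt N4835 F45927) (tt N6783 (iv F49921)) (tt N4834 (iv D11669)) (tt N5782 F45928))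
theorem Q5784 : ∀ i, i < 5784 → P i := stepQ 5783 Q5783 (allL N5783 (tt N4852 F45929) (tt N6769 (iv F49877)) (tt N6785 D12672) (tt N4835 (iv D11670)) (tt N5979 (iv F46683)) (tt N6784 (iv F49924)) (tt N5783 F45930) (tt N6235 (iv F47831)) (tt N5783 F45931))
theorem Q5785 : ∀ i, i < 5785 → P i := stepQ 5784 Q5784 (allL N5784 (tt N6331 (iv F48192)) (tt N4837 F45932) (tt N5309 F45933) (tt N6775 (iv F49895)) (tt N5784 F45934) (tt N6240 (iv F47850)) (tt N6333 (iv F48205)) (tt N6786 D12673) (tt N4836 (iv D11671)))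
theorem Q5786 : ∀ i, i < 5786 → P i := stepQ 5785 Q5785 (allL N5785 (tt N4853 F45935) (tt N6786 (iv F49932)) (tt N4838 F45936) (tt N6787 D12674) (tt N5785 F45937) (tt N6241 (iv F47853)) (tt N6365 (iv F48322)) (tt N4837 (iv D11672)) (tt N5785 F45938))
theorem Q5787 : ∀ i, i < 5787 → P i := stepQ 5786 Q5786 (allL N5786 (tt N6771 (iv F49884)) (tt N6337 (iv F48214)) (tt N4841 F45939) (tt N5786 F45940) (tt N6141 (iv F47378)) (tt N6134 (iv F47343)) (tt N6340 (iv F48231)) (tt N6788 D12675) (tt N4839 (iv D11673)))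
theorem Q5788 : ∀ i, i < 5788 → P i := stepQ 5787 Q5787 (allL N5787 (tt N6772 (iv F49887)) (tt N4884 F45941) (tt N6141 (iv F47376)) (tt N5787 F45942) (tt N4841 F45943) (tt N6138 (iv F47363)) (tt N6510 (iv F48822)) (tt N6789 D12676) (tt N4840 (iv D11674)))
theorem Q5789 : ∀ i, i < 5789 → P i := stepQ 5788 Q5788 (allL N5788 (tt N6773 (iv F49890)) (tt N4885 F45944) (tt N6788 (iv F49938)) (tt N5999 (iv F46775)) (tt N6789 (iv F49941)) (tt N6242 (iv F47858)) (tt N6511 (iv F48824)) (tt N4841 (iv D11675)) (tt N4846 F45945))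
theorem Q5790 : ∀ i, i < 5790 → P i := stepQ 5789 Q5789 (allL N5789 (tt N6776 (iv F49896)) (tt N6347 (iv F48251)) (tt N4845 F45946) (tt N5789 F45947) (tt N4843 F45948) (tt N6124 (iv F47300)) (tt N6353 (iv F48279)) (tt N6790 D12677) (tt N4842 (iv D11676)))
theorem Q5791 : ∀ i, i < 5791 → P i := stepQ 5790 Q5790 (allL N5790 (tt N6777 (iv F49900)) (tt N6348 (iv F48256)) (tt N4846 F45949) (tt N6791 D12678) (tt N6790 (iv F49944)) (tt N6247 (iv F47878)) (tt N6354 (iv F48282)) (tt N4843 (iv D11677)) (tt N6788 (iv F49939)))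
theorem Q5792 : ∀ i, i < 5792 → P i := stepQ 5791 Q5791 (allL N5791 (tt N6778 (iv F49902)) (tt N4887 F45950) (tt N6124 (iv F47297)) (tt N4848 F45951) (tt N6123 (iv F47294)) (tt N4845 F45952) (tt N6129 (iv F47325)) (tt N6792 D12679) (tt N4844 (iv D11678)))
theorem Q5793 : ∀ i, i < 5793 → P i := stepQ 5792 Q5792 (allL N5792 (tt N6779 (iv F49905)) (tt N4888 F45953) (tt N6790 (iv F49943)) (tt N6793 D12680) (tt N4846 F45954) (tt N6792 (iv F49947)) (tt N6522 (iv F48856)) (tt N4845 (iv D11679)) (tt N6789 (iv F49942)))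
theorem Q5794 : ∀ i, i < 5794 → P i := stepQ 5793 Q5793 (allL N5793 (tt N6780 (iv F49907)) (tt N4889 F45955) (tt N5793 F45956) (tt N6129 (iv F47323)) (tt N4850 F45957) (tt N6614 (iv F49228)) (tt N4848 F45958) (tt N6794 D12681) (tt N4847 (iv D11680)))
theorem Q5795 : ∀ i, i < 5795 → P i := stepQ 5794 Q5794 (allL N5794 (tt N6781 (iv F49911)) (tt N4890 F45959) (tt N5794 F45960) (tt N6795 D12682) (tt N4851 F45961) (tt N4849 F45962) (tt N6794 (iv F49953)) (tt N4848 (iv D11681)) (tt N5794 F45963))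
theorem Q5796 : ∀ i, i < 5796 → P i := stepQ 5795 Q5795 (allL N5795 (tt N6782 (iv F49916)) (tt N4891 F45964) (tt N6796 D12683) (tt N4849 (iv D11682)) (tt N6019 (iv F46869)) (tt N6795 (iv F49956)) (tt N6616 (iv F49236)) (tt N6793 (iv F49949)) (tt N5795 F45965))
theorem Q5797 : ∀ i, i < 5797 → P i := stepQ 5796 Q5796 (allL N5796 (tt N6783 (iv F49918)) (tt N4892 F45966) (tt N5796 F45967) (tt N6205 (iv F47681)) (tt N6794 (iv F49952)) (tt N5796 F45968) (tt N4851 F45969) (tt N4850 (iv D11683)) (tt N5796 F45970))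
theorem Q5798 : ∀ i, i < 5798 → P i := stepQ 5797 Q5797 (allL N5797 (tt N6784 (iv F49923)) (tt N4893 F45971) (tt N6202 (iv F47660)) (tt N4851 (iv D11684)) (tt N6249 (iv F47886)) (tt N4852 F45972) (tt N6205 (iv F47684)) (tt N6201 F47658) (tt N5797 F45973))
theorem Q5799 : ∀ i, i < 5799 → P i := stepQ 5798 Q5798 (allL N5798 (tt N6785 (iv F49926)) (tt N6206 (iv F47687)) (tt N4852 (iv D11685)) (tt N5798 F45974) (tt N6022 (iv F46881)) (tt N6202 (iv F47663)) (tt N5798 F45975) (tt N6200 F47651) (tt N5798 F45976))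
theorem Q5800 : ∀ i, i < 5800 → P i := stepQ 5799 Q5799 (allL N5799 (tt N6787 (iv F49936)) (tt N6364 (iv F48316)) (tt N6031 (iv F46930)) (tt N4853 (iv D11686)) (tt N6797 D12684) (tt N6252 (iv F47899)) (tt N6366 (iv F48325)) (tt N6791 (iv F49945)) (tt N5799 F45977))
theorem Q5801 : ∀ i, i < 5801 → P i := stepQ 5800 Q5800 (allL N5800 (tt N6742 (iv F49768)) (tt N4895 F45978) (tt N6798 D12685) (tt N4854 (iv D11687)) (tt N6799 D12686) (tt N6368 (iv F48330)) (tt N6539 (iv F48910)) (tt N5400 F45979) (tt N6800 D12687))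
theorem Q5802 : ∀ i, i < 5802 → P i := stepQ 5801 Q5801 (allL N5801 (tt N6743 (iv F49771)) (tt N4896 F45980) (tt N4856 F45981) (tt N6800 (iv F49968)) (tt N5801 F45982) (tt N6369 (iv F48335)) (tt N6546 (iv F48935)) (tt N6039 (iv F46968)) (tt N4854 (iv D11688)))
theorem Q5803 : ∀ i, i < 5803 → P i := stepQ 5802 Q5802 (allL N5802 (tt N6744 (iv F49775)) (tt N6423 (iv F48523)) (tt N4855 (iv D11689)) (tt N6798 (iv F49962)) (tt N6801 D12688) (tt N6370 (iv F48337)) (tt N6426 (iv F48535)) (tt N4857 F45983) (tt N6802 D12689))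
theorem Q5804 : ∀ i, i < 5804 → P i := stepQ 5803 Q5803 (allL N5803 (tt N6745 (iv F49777)) (tt N4872 F45984) (tt N6801 (iv F49969)) (tt N5803 F45985) (tt N4855 (iv D11690)) (tt N6803 D12690) (tt N6480 (iv F48710)) (tt N4858 F45986) (tt N6804 D12691))
theorem Q5805 : ∀ i, i < 5805 → P i := stepQ 5804 Q5804 (allL N5804 (tt N6746 (iv F49781)) (tt N4873 F45987) (tt N6802 (iv F49971)) (tt N4856 F45988) (tt N6804 (iv F49977)) (tt N6371 (iv F48341)) (tt N6481 (iv F48714)) (tt N6805 D12692) (tt N4855 (iv D11691)))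
theorem Q5806 : ∀ i, i < 5806 → P i := stepQ 5805 Q5805 (allL N5805 (tt N6748 (iv F49786)) (tt N6432 (iv F48548)) (tt N4858 F45989) (tt N6806 D12693) (tt N4857 (iv D11692)) (tt N6807 D12694) (tt N6438 (iv F48567)) (tt N6801 (iv F49970)) (tt N6808 D12695))
theorem Q5807 : ∀ i, i < 5807 → P i := stepQ 5806 Q5806 (allL N5806 (tt N6749 (iv F49788)) (tt N6433 (iv F48551)) (tt N4859 F45990) (tt N5414 F45991) (tt N6808 (iv F49984)) (tt N6376 (iv F48353)) (tt N6439 (iv F48571)) (tt N6809 D12696) (tt N4857 (iv D11693)))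
theorem Q5808 : ∀ i, i < 5808 → P i := stepQ 5807 Q5807 (allL N5807 (tt N6750 (iv F49791)) (tt N4874 F45992) (tt N6807 (iv F49982)) (tt N4862 F45993) (tt N6377 (iv F48356)) (tt N4858 (iv D11694)) (tt N6810 D12697) (tt N6803 (iv F49974)) (tt N6811 D12698))
theorem Q5809 : ∀ i, i < 5809 → P i := stepQ 5808 Q5808 (allL N5808 (tt N6751 (iv F49794)) (tt N4875 F45994) (tt N6808 (iv F49983)) (tt N4863 F45995) (tt N4859 F45996) (tt N6811 (iv F49990)) (tt N6494 (iv F48762)) (tt N6812 D12699) (tt N4858 (iv D11695)))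
theorem Q5810 : ∀ i, i < 5810 → P i := stepQ 5809 Q5809 (allL N5809 (tt N6752 (iv F49798)) (tt N4876 F45997) (tt N6809 (iv F49985)) (tt N6057 (iv F47020)) (tt N6812 (iv F49992)) (tt N6379 (iv F48362)) (tt N6495 (iv F48764)) (tt N4859 (iv D11696)) (tt N6805 (iv F49979)))
theorem Q5811 : ∀ i, i < 5811 → P i := stepQ 5810 Q5810 (allL N5810 (tt N6753 (iv F49800)) (tt N4897 F45998) (tt N6806 (iv F49980)) (tt N4860 (iv D11697)) (tt N5423 F45999) (tt N6813 D12700) (tt N6550 (iv F48953)) (tt N6814 D12701) (tt N6815 D12702))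
theorem Q5812 : ∀ i, i < 5812 → P i := stepQ 5811 Q5811 (allL N5811 (tt N6754 (iv F49803)) (tt N4898 F46000) (tt N4862 F46001) (tt N6813 (iv F49994)) (tt N4866 F46002) (tt N4860 (iv D11698)) (tt N6816 D12703) (tt N5811 F46003) (tt N6817 D12704))
theorem Q5813 : ∀ i, i < 5813 → P i := stepQ 5812 Q5812 (allL N5812 (tt N6755 (iv F49808)) (tt N4899 F46004) (tt N4863 F46005) (tt N6815 (iv F49999)) (tt N4861 F46006) (tt N6817 (iv F50008)) (tt N6552 (iv F48961)) (tt N6818 D12705) (tt N4860 (iv D11699)))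
theorem Q5814 : ∀ i, i < 5814 → P i := stepQ 5813 Q5813 (allL N5813 (tt N6756 (iv F49812)) (tt N4900 F46007) (tt N4864 F46008) (tt N6819 D12706) (tt N6818 (iv F50011)) (tt N4868 F46009) (tt N6553 (iv F48965)) (tt N4861 (iv D11700)) (tt N5813 F46010))
theorem Q5815 : ∀ i, i < 5815 → P i := stepQ 5814 Q5814 (allL N5814 (tt N6757 (iv F49817)) (tt N4877 F46011) (tt N6816 (iv F50002)) (tt N6810 (iv F49987)) (tt N4869 F46012) (tt N6598 (iv F49159)) (tt N4862 (iv D11701)) (tt N5814 F46013) (tt N6820 D12707))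
theorem Q5816 : ∀ i, i < 5816 → P i := stepQ 5815 Q5815 (allL N5815 (tt N6758 (iv F49821)) (tt N4878 F46014) (tt N6817 (iv F50006)) (tt N6811 (iv F49989)) (tt N4870 F46015) (tt N4863 F46016) (tt N6820 (iv F50019)) (tt N6821 D12708) (tt N4862 (iv D11702)))
theorem Q5817 : ∀ i, i < 5817 → P i := stepQ 5816 Q5816 (allL N5816 (tt N6759 (iv F49825)) (tt N4879 F46017) (tt N6818 (iv F50010)) (tt N6822 D12709) (tt N4864 F46018) (tt N6821 (iv F50022)) (tt N6600 (iv F49166)) (tt N4863 (iv D11703)) (tt N5816 F46019))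
theorem Q5818 : ∀ i, i < 5818 → P i := stepQ 5817 Q5817 (allL N5817 (tt N6760 (iv F49829)) (tt N4904 F46020) (tt N6386 (iv F48389)) (tt N4866 F46021) (tt N6823 D12710) (tt N4865 (iv D11704)) (tt N6824 D12711) (tt N6825 D12712) (tt N6826 D12713))
theorem Q5819 : ∀ i, i < 5819 → P i := stepQ 5818 Q5818 (allL N5818 (tt N6761 (iv F49832)) (tt N4905 F46022) (tt N6387 (iv F48392)) (tt N5818 F46023) (tt N5431 F46024) (tt N6825 (iv F50033)) (tt N5818 F46025) (tt N4865 (iv D11705)) (tt N6827 D12714))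
theorem Q5820 : ∀ i, i < 5820 → P i := stepQ 5819 Q5819 (allL N5819 (tt N6762 (iv F49839)) (tt N4906 F46026) (tt N6388 (iv F48398)) (tt N4867 F46027) (tt N5432 F46028) (tt N6826 (iv F50036)) (tt N5819 F46029) (tt N6828 D12715) (tt N4865 (iv D11706)))
theorem Q5821 : ∀ i, i < 5821 → P i := stepQ 5820 Q5820 (allL N5820 (tt N6763 (iv F49846)) (tt N4907 F46030) (tt N4869 F46031) (tt N6824 (iv F50029)) (tt N6816 (iv F50003)) (tt N5820 F46032) (tt N4866 (iv D11707)) (tt N5820 F46033) (tt N6829 D12716))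
theorem Q5822 : ∀ i, i < 5822 → P i := stepQ 5821 Q5821 (allL N5821 (tt N6764 (iv F49851)) (tt N4908 F46034) (tt N4870 F46035) (tt N6826 (iv F50035)) (tt N6817 (iv F50007)) (tt N4867 F46036) (tt N6829 (iv F50054)) (tt N6830 D12717) (tt N4866 (iv D11708)))
theorem Q5823 : ∀ i, i < 5823 → P i := stepQ 5822 Q5822 (allL N5822 (tt N6765 (iv F49855)) (tt N4909 F46037) (tt N4871 F46038) (tt N6831 D12718) (tt N4868 F46039) (tt N6830 (iv F50057)) (tt N5822 F46040) (tt N4867 (iv D11709)) (tt N5822 F46041))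
theorem Q5824 : ∀ i, i < 5824 → P i := stepQ 5823 Q5823 (allL N5823 (tt N6766 (iv F49862)) (tt N4910 F46042) (tt N6076 (iv F47087)) (tt N4868 (iv D11710)) (tt N6832 D12719) (tt N6819 (iv F50014)) (tt N5823 F46043) (tt N5436 F46044) (tt N5823 F46045))
theorem Q5825 : ∀ i, i < 5825 → P i := stepQ 5824 Q5824 (allL N5824 (tt N6767 (iv F49868)) (tt N4880 F46046) (tt N6829 (iv F50052)) (tt N6393 (iv F48423)) (tt N6820 (iv F50018)) (tt N5824 F46047) (tt N4870 F46048) (tt N6833 D12720) (tt N4869 (iv D11711)))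
theorem Q5826 : ∀ i, i < 5826 → P i := stepQ 5825 Q5825 (allL N5825 (tt N6768 (iv F49872)) (tt N4881 F46049) (tt N6830 (iv F50056)) (tt N6834 D12721) (tt N6821 (iv F50021)) (tt N4871 F46050) (tt N6833 (iv F50075)) (tt N4870 (iv D11712)) (tt N5825 F46051))
theorem Q5827 : ∀ i, i < 5827 → P i := stepQ 5826 Q5826 (allL N5826 (tt N6769 (iv F49876)) (tt N4882 F46052) (tt N6835 D12722) (tt N4871 (iv D11713)) (tt N6079 (iv F47098)) (tt N6834 (iv F50078)) (tt N5826 F46053) (tt N6395 (iv F48433)) (tt N5826 F46054))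
theorem Q5828 : ∀ i, i < 5828 → P i := stepQ 5827 Q5827 (allL N5827 (tt N4883 F46055) (tt N6803 (iv F49972)) (tt N6477 (iv F48697)) (tt N5827 F46056) (tt N6136 (iv F47350)) (tt N4872 (iv D11714)) (tt N6143 (iv F47384)) (tt N4874 F46057) (tt N6836 D12723))
theorem Q5829 : ∀ i, i < 5829 → P i := stepQ 5828 Q5828 (allL N5828 (tt N4884 F46058) (tt N6804 (iv F49975)) (tt N6327 F48179) (tt N5828 F46059) (tt N4873 F46060) (tt N6836 (iv F50089)) (tt N6483 (iv F48723)) (tt N6837 D12724) (tt N4872 (iv D11715)))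
theorem Q5830 : ∀ i, i < 5830 → P i := stepQ 5829 Q5829 (allL N5829 (tt N4885 F46061) (tt N6805 (iv F49978)) (tt N6478 (iv F48701)) (tt N6091 (iv F47154)) (tt N6837 (iv F50091)) (tt N6398 (iv F48444)) (tt N6484 (iv F48726)) (tt N4873 (iv D11716)) (tt N4876 F46062))
theorem Q5831 : ∀ i, i < 5831 → P i := stepQ 5830 Q5830 (allL N5830 (tt N4886 F46063) (tt N6810 (iv F49986)) (tt N6488 (iv F48738)) (tt N4877 F46064) (tt N6126 (iv F47306)) (tt N6496 (iv F48768)) (tt N4874 (iv D11717)) (tt N6143 (iv F47385)) (tt N6838 D12725))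
theorem Q5832 : ∀ i, i < 5832 → P i := stepQ 5831 Q5831 (allL N5831 (tt N4887 F46065) (tt N6811 (iv F49988)) (tt N6489 (iv F48742)) (tt N4878 F46066) (tt N6405 (iv F48467)) (tt N4875 F46067) (tt N6838 (iv F50095)) (tt N6839 D12726) (tt N4874 (iv D11718)))
theorem Q5833 : ∀ i, i < 5833 → P i := stepQ 5832 Q5832 (allL N5832 (tt N4888 F46068) (tt N6812 (iv F49991)) (tt N6490 (iv F48746)) (tt N6840 D12727) (tt N4876 F46069) (tt N6839 (iv F50097)) (tt N6498 (iv F48776)) (tt N4875 (iv D11719)) (tt N6837 (iv F50092)))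
theorem Q5834 : ∀ i, i < 5834 → P i := stepQ 5833 Q5833 (allL N5833 (tt N4889 F46070) (tt N6820 (iv F50017)) (tt N4914 F46071) (tt N6838 (iv F50094)) (tt N4880 F46072) (tt N6601 (iv F49171)) (tt N4878 F46073) (tt N6841 D12728) (tt N4877 (iv D11720)))
theorem Q5835 : ∀ i, i < 5835 → P i := stepQ 5834 Q5834 (allL N5834 (tt N4890 F46074) (tt N6821 (iv F50020)) (tt N4915 F46075) (tt N6842 D12729) (tt N4881 F46076) (tt N4879 F46077) (tt N6841 (iv F50103)) (tt N4878 (iv D11721)) (tt N5834 F46078))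
theorem Q5836 : ∀ i, i < 5836 → P i := stepQ 5835 Q5835 (allL N5835 (tt N4891 F46079) (tt N6822 (iv F50024)) (tt N6843 D12730) (tt N4879 (iv D11722)) (tt N6114 (iv F47246)) (tt N6842 (iv F50106)) (tt N6603 (iv F49179)) (tt N6840 (iv F50099)) (tt N5835 F46080))
theorem Q5837 : ∀ i, i < 5837 → P i := stepQ 5836 Q5836 (allL N5836 (tt N4892 F46081) (tt N6833 (iv F50073)) (tt N4917 F46082) (tt N6844 D12731) (tt N6841 (iv F50102)) (tt N5836 F46083) (tt N4881 F46084) (tt N4880 (iv D11723)) (tt N5836 F46085))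
theorem Q5838 : ∀ i, i < 5838 → P i := stepQ 5837 Q5837 (allL N5837 (tt N4893 F46086) (tt N6834 (iv F50077)) (tt N6845 D12732) (tt N4881 (iv D11724)) (tt N6846 D12733) (tt N4882 F46087) (tt N6844 (iv F50113)) (tt N6408 (iv F48478)) (tt N5837 F46088))
theorem Q5839 : ∀ i, i < 5839 → P i := stepQ 5838 Q5838 (allL N5838 (tt N4894 F46089) (tt N6847 D12734) (tt N4882 (iv D11725)) (tt N4919 F46090) (tt N6117 (iv F47259)) (tt N6845 (iv F50117)) (tt N5838 F46091) (tt N6409 (iv F48485)) (tt N5838 F46092))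
theorem Q5840 : ∀ i, i < 5840 → P i := stepQ 5839 Q5839 (allL N5839 (tt N6836 (iv F50087)) (tt N6138 (iv F47359)) (tt N6363 F48315) (tt N5839 F46093) (tt N6137 (iv F47356)) (tt N4884 F46094) (tt N6146 (iv F47398)) (tt N6848 D12735) (tt N4883 (iv D11726)))
theorem Q5841 : ∀ i, i < 5841 → P i := stepQ 5840 Q5840 (allL N5840 (tt N6837 (iv F50090)) (tt N6789 (iv F49940)) (tt N6360 F48299) (tt N6849 D12736) (tt N4885 F46095) (tt N6848 (iv F50128)) (tt N6513 (iv F48831)) (tt N4884 (iv D11727)) (tt N4888 F46096))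
theorem Q5842 : ∀ i, i < 5842 → P i := stepQ 5841 Q5841 (allL N5841 (tt N6838 (iv F50093)) (tt N6129 (iv F47321)) (tt N6516 (iv F48837)) (tt N4889 F46097) (tt N6127 (iv F47312)) (tt N6523 (iv F48859)) (tt N4887 F46098) (tt N6850 D12737) (tt N4886 (iv D11728)))
theorem Q5843 : ∀ i, i < 5843 → P i := stepQ 5842 Q5842 (allL N5842 (tt N6839 (iv F50096)) (tt N6792 (iv F49946)) (tt N6517 (iv F48841)) (tt N6851 D12738) (tt N6413 (iv F48496)) (tt N4888 F46099) (tt N6850 (iv F50132)) (tt N4887 (iv D11729)) (tt N6848 (iv F50129)))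
theorem Q5844 : ∀ i, i < 5844 → P i := stepQ 5843 Q5843 (allL N5843 (tt N6840 (iv F50098)) (tt N6793 (iv F49948)) (tt N6852 D12739) (tt N4888 (iv D11730)) (tt N6153 (iv F47418)) (tt N6851 (iv F50133)) (tt N6525 (iv F48863)) (tt N4891 F46100) (tt N6849 (iv F50131)))
theorem Q5845 : ∀ i, i < 5845 → P i := stepQ 5844 Q5844 (allL N5844 (tt N6841 (iv F50100)) (tt N6794 (iv F49950)) (tt N4920 F46101) (tt N6853 D12740) (tt N4892 F46102) (tt N6617 (iv F49240)) (tt N4890 F46103) (tt N4889 (iv D11731)) (tt N5844 F46104))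
theorem Q5846 : ∀ i, i < 5846 → P i := stepQ 5845 Q5845 (allL N5845 (tt N6842 (iv F50105)) (tt N6795 (iv F49955)) (tt N6854 D12741) (tt N4890 (iv D11732)) (tt N6855 D12742) (tt N4891 F46105) (tt N6853 (iv F50136)) (tt N6851 (iv F50134)) (tt N5845 F46106))
theorem Q5847 : ∀ i, i < 5847 → P i := stepQ 5846 Q5846 (allL N5846 (tt N6843 (iv F50108)) (tt N6856 D12743) (tt N4891 (iv D11733)) (tt N4922 F46107) (tt N6159 (iv F47444)) (tt N6854 (iv F50139)) (tt N6619 (iv F49246)) (tt N6852 (iv F50135)) (tt N5846 F46108))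
theorem Q5848 : ∀ i, i < 5848 → P i := stepQ 5847 Q5847 (allL N5847 (tt N6844 (iv F50111)) (tt N6205 (iv F47679)) (tt N6208 (iv F47699)) (tt N4892 (iv D11734)) (tt N6251 (iv F47894)) (tt N5847 F46109) (tt N4893 F46110) (tt N6204 F47678) (tt N5847 F46111))
theorem Q5849 : ∀ i, i < 5849 → P i := stepQ 5848 Q5848 (allL N5848 (tt N6845 (iv F50115)) (tt N6032 (iv F46934)) (tt N4893 (iv D11735)) (tt N4924 F46112) (tt N6025 (iv F46901)) (tt N4894 F46113) (tt N6208 (iv F47702)) (tt N6024 F46897) (tt N5848 F46114))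
theorem Q5850 : ∀ i, i < 5850 → P i := stepQ 5849 Q5849 (allL N5849 (tt N6846 (iv F50119)) (tt N6249 (iv F47884)) (tt N6025 (iv F46899)) (tt N6855 (iv F50141)) (tt N4893 (iv D11736)) (tt N6028 (iv F46920)) (tt N6251 (iv F47896)) (tt N6023 F46890) (tt N5849 F46115))
theorem Q5851 : ∀ i, i < 5851 → P i := stepQ 5850 Q5850 (allL N5850 (tt N6857 D12744) (tt N4894 (iv D11737)) (tt N6206 (iv F47688)) (tt N4926 F46116) (tt N5923 (iv F46457)) (tt N6032 (iv F46937)) (tt N5850 F46117) (tt N5922 F46454) (tt N5850 F46118))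
theorem Q5852 : ∀ i, i < 5852 → P i := stepQ 5851 Q5851 (allL N5851 (tt N5851 F46119) (tt N6799 (iv F49964)) (tt N6537 (iv F48902)) (tt N5851 F46120) (tt N4895 (iv D11738)) (tt N6858 D12745) (tt N6540 (iv F48915)) (tt N5514 F46121) (tt N6859 D12746))
theorem Q5853 : ∀ i, i < 5853 → P i := stepQ 5852 Q5852 (allL N5852 (tt N5852 F46122) (tt N6800 (iv F49967)) (tt N6538 (iv F48906)) (tt N4896 F46123) (tt N6859 (iv F50160)) (tt N6534 (iv F48892)) (tt N6541 (iv F48920)) (tt N6860 D12747) (tt N4895 (iv D11739)))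
theorem Q5854 : ∀ i, i < 5854 → P i := stepQ 5853 Q5853 (allL N5853 (tt N5853 F46124) (tt N6813 (iv F49993)) (tt N6564 (iv F49015)) (tt N4898 F46125) (tt N6861 D12748) (tt N4897 (iv D11740)) (tt N6862 D12749) (tt N6863 D12750) (tt N6864 D12751))
theorem Q5855 : ∀ i, i < 5855 → P i := stepQ 5854 Q5854 (allL N5854 (tt N5854 F46126) (tt N6814 (iv F49995)) (tt N6565 (iv F49018)) (tt N5854 F46127) (tt N5540 F46128) (tt N6863 (iv F50170)) (tt N6555 (iv F48973)) (tt N4897 (iv D11741)) (tt N6865 D12752))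
theorem Q5856 : ∀ i, i < 5856 → P i := stepQ 5855 Q5855 (allL N5855 (tt N5855 F46129) (tt N6815 (iv F49998)) (tt N6566 (iv F49023)) (tt N4899 F46130) (tt N5541 F46131) (tt N6864 (iv F50173)) (tt N6556 (iv F48977)) (tt N6866 D12753) (tt N4897 (iv D11742)))
theorem Q5857 : ∀ i, i < 5857 → P i := stepQ 5856 Q5856 (allL N5856 (tt N5856 F46132) (tt N6816 (iv F50001)) (tt N4901 F46133) (tt N6862 (iv F50167)) (tt N4907 F46134) (tt N6557 (iv F48981)) (tt N4898 (iv D11743)) (tt N5856 F46135) (tt N6867 D12754))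
theorem Q5858 : ∀ i, i < 5858 → P i := stepQ 5857 Q5857 (allL N5857 (tt N5857 F46136) (tt N6817 (iv F50005)) (tt N4902 F46137) (tt N6864 (iv F50172)) (tt N4908 F46138) (tt N4899 F46139) (tt N6867 (iv F50182)) (tt N6868 D12755) (tt N4898 (iv D11744)))
theorem Q5859 : ∀ i, i < 5859 → P i := stepQ 5858 Q5858 (allL N5858 (tt N5858 F46140) (tt N6818 (iv F50009)) (tt N4903 F46141) (tt N6869 D12756) (tt N4900 F46142) (tt N6868 (iv F50186)) (tt N6559 (iv F48990)) (tt N4899 (iv D11745)) (tt N5858 F46143))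
theorem Q5860 : ∀ i, i < 5860 → P i := stepQ 5859 Q5859 (allL N5859 (tt N5859 F46144) (tt N6819 (iv F50013)) (tt N5859 F46145) (tt N4900 (iv D11746)) (tt N6870 D12757) (tt N4910 F46146) (tt N6560 (iv F48995)) (tt N5545 F46147) (tt N5859 F46148))
theorem Q5861 : ∀ i, i < 5861 → P i := stepQ 5860 Q5860 (allL N5860 (tt N5860 F46149) (tt N4914 F46150) (tt N6867 (iv F50180)) (tt N6571 (iv F49049)) (tt N4911 F46151) (tt N6561 (iv F49001)) (tt N4902 F46152) (tt N6871 D12758) (tt N4901 (iv D11747)))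
theorem Q5862 : ∀ i, i < 5862 → P i := stepQ 5861 Q5861 (allL N5861 (tt N5861 F46153) (tt N4915 F46154) (tt N6868 (iv F50184)) (tt N6872 D12759) (tt N4912 F46155) (tt N4903 F46156) (tt N6871 (iv F50197)) (tt N4902 (iv D11748)) (tt N5861 F46157))
theorem Q5863 : ∀ i, i < 5863 → P i := stepQ 5862 Q5862 (allL N5862 (tt N5862 F46158) (tt N4916 F46159) (tt N6873 D12760) (tt N4903 (iv D11749)) (tt N5862 F46160) (tt N6872 (iv F50201)) (tt N6563 (iv F49011)) (tt N6573 (iv F49062)) (tt N5862 F46161))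
theorem Q5864 : ∀ i, i < 5864 → P i := stepQ 5863 Q5863 (allL N5863 (tt N5863 F46162) (tt N6823 (iv F50026)) (tt N5863 F46163) (tt N6861 (iv F50164)) (tt N4904 (iv D11750)) (tt N5549 F46164) (tt N6716 (iv F49660)) (tt N6715 F49655) (tt N6874 D12761))
theorem Q5865 : ∀ i, i < 5865 → P i := stepQ 5864 Q5864 (allL N5864 (tt N5864 F46165) (tt N6824 (iv F50028)) (tt N5864 F46166) (tt N4907 F46167) (tt N6716 (iv F49658)) (tt N5864 F46168) (tt N4904 (iv D11751)) (tt N6714 (iv F49649)) (tt N6875 D12762))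
theorem Q5866 : ∀ i, i < 5866 → P i := stepQ 5865 Q5865 (allL N5865 (tt N5865 F46169) (tt N6825 (iv F50031)) (tt N5865 F46170) (tt N5865 F46171) (tt N6715 (iv F49653)) (tt N4905 F46172) (tt N6714 F49648) (tt N4904 (iv D11752)) (tt N6876 D12763))
theorem Q5867 : ∀ i, i < 5867 → P i := stepQ 5866 Q5866 (allL N5866 (tt N5866 F46173) (tt N6826 (iv F50034)) (tt N5866 F46174) (tt N4908 F46175) (tt N6874 (iv F50208)) (tt N4906 F46176) (tt N6875 (iv F50214)) (tt N6877 D12764) (tt N4904 (iv D11753)))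
theorem Q5868 : ∀ i, i < 5868 → P i := stepQ 5867 Q5867 (allL N5867 (tt N5867 F46177) (tt N6827 (iv F50038)) (tt N5867 F46178) (tt N5867 F46179) (tt N5553 F46180) (tt N6876 (iv F50218)) (tt N5867 F46181) (tt N6878 D12765) (tt N4905 (iv D11754)))
theorem Q5869 : ∀ i, i < 5869 → P i := stepQ 5868 Q5868 (allL N5868 (tt N5868 F46182) (tt N6828 (iv F50045)) (tt N5868 F46183) (tt N6879 D12766) (tt N5554 F46184) (tt N6877 (iv F50221)) (tt N5868 F46185) (tt N4906 (iv D11755)) (tt N6878 (iv F50227)))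
theorem Q5870 : ∀ i, i < 5870 → P i := stepQ 5869 Q5869 (allL N5869 (tt N5869 F46186) (tt N6829 (iv F50051)) (tt N4911 F46187) (tt N6875 (iv F50212)) (tt N6867 (iv F50181)) (tt N5869 F46188) (tt N4908 F46189) (tt N6880 D12767) (tt N4907 (iv D11756)))
theorem Q5871 : ∀ i, i < 5871 → P i := stepQ 5870 Q5870 (allL N5870 (tt N5870 F46190) (tt N6830 (iv F50055)) (tt N4912 F46191) (tt N6881 D12768) (tt N6868 (iv F50185)) (tt N4909 F46192) (tt N6880 (iv F50239)) (tt N4908 (iv D11757)) (tt N5870 F46193))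
theorem Q5872 : ∀ i, i < 5872 → P i := stepQ 5871 Q5871 (allL N5871 (tt N5871 F46194) (tt N6831 (iv F50060)) (tt N6882 D12769) (tt N4909 (iv D11758)) (tt N6883 D12770) (tt N6881 (iv F50242)) (tt N5871 F46195) (tt N6879 (iv F50233)) (tt N5871 F46196))
theorem Q5873 : ∀ i, i < 5873 → P i := stepQ 5872 Q5872 (allL N5872 (tt N5872 F46197) (tt N6832 (iv F50067)) (tt N5872 F46198) (tt N6883 (iv F50254)) (tt N4910 (iv D11759)) (tt N6710 (iv F49629)) (tt N5872 F46199) (tt N5558 F46200) (tt N5872 F46201))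
theorem Q5874 : ∀ i, i < 5874 → P i := stepQ 5873 Q5873 (allL N5873 (tt N5873 F46202) (tt N4917 F46203) (tt N6880 (iv F50237)) (tt N6884 D12771) (tt N6871 (iv F50196)) (tt N5873 F46204) (tt N4912 F46205) (tt N4911 (iv D11760)) (tt N5873 F46206))
theorem Q5875 : ∀ i, i < 5875 → P i := stepQ 5874 Q5874 (allL N5874 (tt N5874 F46207) (tt N4918 F46208) (tt N6885 D12772) (tt N4912 (iv D11761)) (tt N6886 D12773) (tt N4913 F46209) (tt N6884 (iv F50261)) (tt N5874 F46210) (tt N5874 F46211))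
theorem Q5876 : ∀ i, i < 5876 → P i := stepQ 5875 Q5875 (allL N5875 (tt N5875 F46212) (tt N6887 D12774) (tt N4913 (iv D11762)) (tt N6882 (iv F50246)) (tt N5875 F46213) (tt N6885 (iv F50265)) (tt N5875 F46214) (tt N5875 F46215) (tt N5875 F46216))
theorem Q5877 : ∀ i, i < 5877 → P i := stepQ 5876 Q5876 (allL N5876 (tt N4920 F46217) (tt N6871 (iv F50195)) (tt N6841 (iv F50101)) (tt N6888 D12775) (tt N4917 F46218) (tt N6604 (iv F49183)) (tt N4915 F46219) (tt N4914 (iv D11763)) (tt N5876 F46220))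
theorem Q5878 : ∀ i, i < 5878 → P i := stepQ 5877 Q5877 (allL N5877 (tt N4921 F46221) (tt N6872 (iv F50200)) (tt N6889 D12776) (tt N4915 (iv D11764)) (tt N6890 D12777) (tt N4916 F46222) (tt N6888 (iv F50281)) (tt N6608 (iv F49202)) (tt N5877 F46223))
theorem Q5879 : ∀ i, i < 5879 → P i := stepQ 5878 Q5878 (allL N5878 (tt N4922 F46224) (tt N6891 D12778) (tt N4916 (iv D11765)) (tt N6843 (iv F50109)) (tt N5878 F46225) (tt N6889 (iv F50284)) (tt N6606 (iv F49192)) (tt N6609 (iv F49207)) (tt N5878 F46226))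
theorem Q5880 : ∀ i, i < 5880 → P i := stepQ 5879 Q5879 (allL N5879 (tt N4923 F46227) (tt N6884 (iv F50259)) (tt N6892 D12779) (tt N4917 (iv D11766)) (tt N6893 D12780) (tt N5879 F46228) (tt N4918 F46229) (tt N5879 F46230) (tt N5879 F46231))
theorem Q5881 : ∀ i, i < 5881 → P i := stepQ 5880 Q5880 (allL N5880 (tt N4924 F46232) (tt N6894 D12781) (tt N4918 (iv D11767)) (tt N6845 (iv F50116)) (tt N6895 D12782) (tt N4919 F46233) (tt N6892 (iv F50294)) (tt N5880 F46234) (tt N5880 F46235))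
theorem Q5882 : ∀ i, i < 5882 → P i := stepQ 5881 Q5881 (allL N5881 (tt N4925 F46236) (tt N6886 (iv F50269)) (tt N6895 (iv F50313)) (tt N6890 (iv F50287)) (tt N4918 (iv D11768)) (tt N5881 F46237) (tt N6893 (iv F50298)) (tt N5881 F46238) (tt N5881 F46239))
theorem Q5883 : ∀ i, i < 5883 → P i := stepQ 5882 Q5882 (allL N5882 (tt N6896 D12783) (tt N4919 (iv D11769)) (tt N6887 (iv F50273)) (tt N6847 (iv F50122)) (tt N5882 F46240) (tt N6894 (iv F50307)) (tt N5882 F46241) (tt N5882 F46242) (tt N5882 F46243))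
theorem Q5884 : ∀ i, i < 5884 → P i := stepQ 5883 Q5883 (allL N5883 (tt N6888 (iv F50280)) (tt N5883 F46244) (tt N6018 (iv F46863)) (tt N4920 (iv D11770)) (tt N5915 (iv F46405)) (tt N5913 (iv F46393)) (tt N4921 F46245) (tt N5912 F46388) (tt N5883 F46246))
theorem Q5885 : ∀ i, i < 5885 → P i := stepQ 5884 Q5884 (allL N5884 (tt N6889 (iv F50283)) (tt N6157 (iv F47435)) (tt N4921 (iv D11771)) (tt N6854 (iv F50138)) (tt N6020 (iv F46873)) (tt N4922 F46247) (tt N6018 (iv F46866)) (tt N6017 F46861) (tt N5884 F46248))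
theorem Q5886 : ∀ i, i < 5886 → P i := stepQ 5885 Q5885 (allL N5885 (tt N6890 (iv F50286)) (tt N5885 F46249) (tt N6020 (iv F46872)) (tt N4925 F46250) (tt N4921 (iv D11772)) (tt N5885 F46251) (tt N5915 (iv F46407)) (tt N5914 F46402) (tt N5885 F46252))
theorem Q5887 : ∀ i, i < 5887 → P i := stepQ 5886 Q5886 (allL N5886 (tt N6897 D12784) (tt N4922 (iv D11773)) (tt N5886 F46253) (tt N6856 (iv F50143)) (tt N5886 F46254) (tt N6157 (iv F47438)) (tt N6155 (iv F47430)) (tt N6154 F47425) (tt N5886 F46255))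
theorem Q5888 : ∀ i, i < 5888 → P i := stepQ 5887 Q5887 (allL N5887 (tt N6892 (iv F50292)) (tt N6209 (iv F47706)) (tt N4923 (iv D11774)) (tt N6208 F47704) (tt N6898 D12785) (tt N5887 F46256) (tt N4924 F46257) (tt N5887 F46258) (tt N5887 F46259))
theorem Q5889 : ∀ i, i < 5889 → P i := stepQ 5888 Q5888 (allL N5888 (tt N6893 (iv F50297)) (tt N5888 F46260) (tt N6898 (iv F50329)) (tt N5915 F46409) (tt N4923 (iv D11775)) (tt N5916 (iv F46412)) (tt N4925 F46261) (tt N5888 F46262) (tt N5888 F46263))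
theorem Q5890 : ∀ i, i < 5890 → P i := stepQ 5889 Q5889 (allL N5889 (tt N6899 D12786) (tt N4924 (iv D11776)) (tt N5889 F46264) (tt N6032 F46940) (tt N5929 F46907) (tt N4926 F46265) (tt N6209 (iv F47709)) (tt N5889 F46266) (tt N5889 F46267))
theorem Q5891 : ∀ i, i < 5891 → P i := stepQ 5890 Q5890 (allL N5890 (tt N6895 (iv F50311)) (tt N5929 (iv F46906)) (tt N4925 F46268) (tt N5928 F46905) (tt N4924 (iv D11777)) (tt N5890 F46269) (tt N6898 (iv F50330)) (tt N5890 F46270) (tt N5890 F46271))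
theorem Q5892 : ∀ i, i < 5892 → P i := stepQ 5891 Q5891 (allL N5891 (tt N4926 (iv D11778)) (tt N6896 (iv F50318)) (tt N5891 F46272) (tt N6857 (iv F50147)) (tt N5891 F46273) (tt N6899 (iv F50338)) (tt N5891 F46274) (tt N5891 F46275) (tt N5891 F46276))
theorem Q5893 : ∀ i, i < 5893 → P i := stepQ 5892 Q5892 (allL N5892 (tt N5892 F46277) (tt N4933 F46278) (tt N6191 (iv F47597)) (tt N5559 F46279) (tt N4929 F46280) (tt N5892 F46281) (tt N5560 F46282) (tt N5892 F46283) (tt N4927 (iv D11779)))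
theorem Q5894 : ∀ i, i < 5894 → P i := stepQ 5893 Q5893 (allL N5893 (tt N5893 F46284) (tt N4936 F46285) (tt N6704 (iv F49598)) (tt N5735 F46286) (tt N4928 (iv D11780)) (tt N6900 D12787) (tt N5736 F46287) (tt N5893 F46288) (tt N6901 D12788))
theorem Q5895 : ∀ i, i < 5895 → P i := stepQ 5894 Q5894 (allL N5894 (tt N5894 F46289) (tt N4937 F46290) (tt N6705 (iv F49603)) (tt N4929 F46291) (tt N6901 (iv F50351)) (tt N4932 F46292) (tt N6706 (iv F49613)) (tt N6902 D12789) (tt N4928 (iv D11781)))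
theorem Q5896 : ∀ i, i < 5896 → P i := stepQ 5895 Q5895 (allL N5895 (tt N5895 F46293) (tt N4977 F46294) (tt N4931 F46295) (tt N6878 F50228) (tt N4930 (iv D11782)) (tt N6903 D12790) (tt N5895 F46296) (tt N5895 F46297) (tt N6879 (iv F50234)))
theorem Q5897 : ∀ i, i < 5897 → P i := stepQ 5896 Q5896 (allL N5896 (tt N5896 F46298) (tt N4978 F46299) (tt N4932 F46300) (tt N6193 (iv F47610)) (tt N6879 (iv F50231)) (tt N6705 (iv F49605)) (tt N5896 F46301) (tt N6883 (iv F50256)) (tt N4930 (iv D11783)))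
theorem Q5898 : ∀ i, i < 5898 → P i := stepQ 5897 Q5897 (allL N5897 (tt N5897 F46302) (tt N4938 F46303) (tt N6903 (iv F50360)) (tt N5897 F46304) (tt N6900 (iv F50345)) (tt N4931 (iv D11784)) (tt N6904 D12791) (tt N5897 F46305) (tt N6905 D12792))
theorem Q5899 : ∀ i, i < 5899 → P i := stepQ 5898 Q5898 (allL N5898 (tt N5898 F46306) (tt N4939 F46307) (tt N6879 F50235) (tt N5898 F46308) (tt N4932 F46309) (tt N6905 (iv F50371)) (tt N5898 F46310) (tt N6882 (iv F50248)) (tt N4931 (iv D11785)))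
theorem Q5900 : ∀ i, i < 5900 → P i := stepQ 5899 Q5899 (allL N5899 (tt N5899 F46311) (tt N4940 F46312) (tt N6883 (iv F50253)) (tt N5899 F46313) (tt N6882 F50250) (tt N6902 (iv F50356)) (tt N5899 F46314) (tt N4932 (iv D11786)) (tt N5899 F46315))
theorem Q5901 : ∀ i, i < 5901 → P i := stepQ 5900 Q5900 (allL N5900 (tt N4945 F46316) (tt N6706 (iv F49608)) (tt N4993 F46317) (tt N4935 F46318) (tt N5577 F46319) (tt N5900 F46320) (tt N4937 F46321) (tt N6906 D12793) (tt N4934 (iv D11787)))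
theorem Q5902 : ∀ i, i < 5902 → P i := stepQ 5901 Q5901 (allL N5901 (tt N4946 F46322) (tt N6900 (iv F50343)) (tt N4994 F46323) (tt N5745 F46324) (tt N4938 F46325) (tt N4936 (iv D11788)) (tt N5746 F46326) (tt N5901 F46327) (tt N6907 D12794))
theorem Q5903 : ∀ i, i < 5903 → P i := stepQ 5902 Q5902 (allL N5902 (tt N4947 F46328) (tt N6901 (iv F50349)) (tt N4995 F46329) (tt N5576 F46330) (tt N4937 F46331) (tt N6907 (iv F50383)) (tt N5577 F46332) (tt N6908 D12795) (tt N4936 (iv D11789)))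
theorem Q5904 : ∀ i, i < 5904 → P i := stepQ 5903 Q5903 (allL N5903 (tt N4948 F46333) (tt N6902 (iv F50354)) (tt N4996 F46334) (tt N5903 F46335) (tt N6908 (iv F50389)) (tt N4940 F46336) (tt N6906 (iv F50377)) (tt N4937 (iv D11790)) (tt N5903 F46337))
theorem Q5905 : ∀ i, i < 5905 → P i := stepQ 5904 Q5904 (allL N5904 (tt N4949 F46338) (tt N6904 (iv F50363)) (tt N4997 F46339) (tt N5904 F46340) (tt N5746 F46341) (tt N5904 F46342) (tt N4938 (iv D11791)) (tt N5904 F46343) (tt N6909 D12796))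
theorem Q5906 : ∀ i, i < 5906 → P i := stepQ 5905 Q5905 (allL N5905 (tt N4950 F46344) (tt N6905 (iv F50369)) (tt N4998 F46345) (tt N5905 F46346) (tt N6907 (iv F50382)) (tt N4939 F46347) (tt N6909 (iv F50398)) (tt N6910 D12797) (tt N4938 (iv D11792)))
theorem Q5907 : ∀ i, i < 5907 → P i := stepQ 5906 Q5906 (allL N5906 (tt N4951 F46348) (tt N6882 (iv F50245)) (tt N4999 F46349) (tt N6887 (iv F50274)) (tt N4940 F46350) (tt N6910 (iv F50403)) (tt N5906 F46351) (tt N4939 (iv D11793)) (tt N5906 F46352))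
theorem Q5908 : ∀ i, i < 5908 → P i := stepQ 5907 Q5907 (allL N5907 (tt N4952 F46353) (tt N6196 (iv F47627)) (tt N5469 F46354) (tt N4942 F46355) (tt N5003 F46356) (tt N5470 F46357) (tt N4944 F46358) (tt N6911 D12798) (tt N4941 (iv D11794)))
theorem Q5909 : ∀ i, i < 5909 → P i := stepQ 5908 Q5908 (allL N5908 (tt N6912 D12799) (tt N4943 (iv D11795)) (tt N6197 (iv F47631)) (tt N5690 F46359) (tt N5004 F46360) (tt N5908 F46361) (tt N5691 F46362) (tt N5908 F46363) (tt N6913 D12800))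
theorem Q5910 : ∀ i, i < 5910 → P i := stepQ 5909 Q5909 (allL N5909 (tt N4954 F46364) (tt N6913 (iv F50420)) (tt N4944 F46365) (tt N5468 F46366) (tt N5005 F46367) (tt N5909 F46368) (tt N5469 F46369) (tt N6914 D12801) (tt N4943 (iv D11796)))
theorem Q5911 : ∀ i, i < 5911 → P i := stepQ 5910 Q5910 (allL N5910 (tt N4955 F46370) (tt N6199 (iv F47640)) (tt N6914 (iv F50426)) (tt N5910 F46371) (tt N5006 F46372) (tt N5910 F46373) (tt N6911 (iv F50412)) (tt N4944 (iv D11797)) (tt N5910 F46374))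
theorem Q5912 : ∀ i, i < 5912 → P i := stepQ 5911 Q5911 (allL N5911 (tt N6906 (iv F50372)) (tt N5911 F46375) (tt N5025 F46376) (tt N5911 F46377) (tt N5590 F46378) (tt N5911 F46379) (tt N4948 F46380) (tt N4945 (iv D11798)) (tt N5911 F46381))
theorem Q5913 : ∀ i, i < 5913 → P i := stepQ 5912 Q5912 (allL N5912 (tt N6907 (iv F50379)) (tt N5912 F46382) (tt N5027 F46383) (tt N5592 F46384) (tt N4950 F46385) (tt N4947 F46386) (tt N5593 F46387) (tt N5883 (iv F46388)) (tt N4946 (iv D11799)))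
theorem Q5914 : ∀ i, i < 5914 → P i := stepQ 5913 Q5913 (allL N5913 (tt N6908 (iv F50386)) (tt N5913 F46389) (tt N5028 F46390) (tt N5589 F46391) (tt N4948 F46392) (tt N5883 F46393) (tt N5590 F46394) (tt N4947 (iv D11800)) (tt N5913 F46395))
theorem Q5915 : ∀ i, i < 5915 → P i := stepQ 5914 Q5914 (allL N5914 (tt N6909 (iv F50393)) (tt N5914 F46396) (tt N5029 F46397) (tt N5914 F46398) (tt N5593 F46399) (tt N5914 F46400) (tt N4950 F46401) (tt N5885 (iv F46402)) (tt N4949 (iv D11801)))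
theorem Q5916 : ∀ i, i < 5916 → P i := stepQ 5915 Q5915 (allL N5915 (tt N6910 (iv F50400)) (tt N5915 F46403) (tt N5030 F46404) (tt N5888 (iv F46409)) (tt N5883 F46405) (tt N4951 F46406) (tt N5885 F46407) (tt N4950 (iv D11802)) (tt N5915 F46408))
theorem Q5917 : ∀ i, i < 5917 → P i := stepQ 5916 Q5916 (allL N5916 (tt N6887 F50279) (tt N5916 F46410) (tt N6896 (iv F50319)) (tt N4951 (iv D11803)) (tt N5916 F46411) (tt N5888 F46412) (tt N5916 F46413) (tt N5916 F46414) (tt N5916 F46415))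
theorem Q5918 : ∀ i, i < 5918 → P i := stepQ 5917 Q5917 (allL N5917 (tt N6911 (iv F50407)) (tt N4961 F46416) (tt N5142 F46417) (tt N5917 F46418) (tt N5037 F46419) (tt N5143 F46420) (tt N4955 F46421) (tt N4952 (iv D11804)) (tt N5917 F46422))
theorem Q5919 : ∀ i, i < 5919 → P i := stepQ 5918 Q5918 (allL N5918 (tt N4953 (iv D11805)) (tt N6912 (iv F50414)) (tt N4962 F46423) (tt N5633 F46424) (tt N5038 F46425) (tt N5918 F46426) (tt N5634 F46427) (tt N5918 F46428) (tt N6915 D12802))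
theorem Q5920 : ∀ i, i < 5920 → P i := stepQ 5919 Q5919 (allL N5919 (tt N6915 (iv F50432)) (tt N4954 F46429) (tt N4963 F46430) (tt N5342 F46431) (tt N5039 F46432) (tt N5919 F46433) (tt N5343 F46434) (tt N6916 D12803) (tt N4953 (iv D11806)))
theorem Q5921 : ∀ i, i < 5921 → P i := stepQ 5920 Q5920 (allL N5920 (tt N6914 (iv F50425)) (tt N6916 (iv F50438)) (tt N4955 F46435) (tt N5141 F46436) (tt N5040 F46437) (tt N5920 F46438) (tt N5142 F46439) (tt N4954 (iv D11807)) (tt N5920 F46440))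

end Cfsg.Agent.Helper17.Fi22bTC
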