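import Cfsg.Agent.Helper17.Fi22bTC.Fin2

set_option autoImplicit false
set_option linter.all false
set_option maxRecDepth 100000

noncomputable section

namespace Cfsg.Agent.Helper17.Fi22bTC

theorem Q5922 : ∀ i, i < 5922 → P i := stepQ 5921 Q5921 (allL N5921 (tt N5922 (iv F46447)) (tt N5344 F46441) (tt N4958 F46442) (tt N5921 F46443) (tt N5203 F46444) (tt N4960 F46445) (tt N5921 F46446) (tt N6857 (iv F50151)) (tt N4956 (iv D11808)))
theorem Q5923 : ∀ i, i < 5923 → P i := stepQ 5922 Q5922 (allL N5922 (tt N5921 F46447) (tt N5397 F46448) (tt N5203 F46449) (tt N5922 F46450) (tt N4958 F46451) (tt N5041 F46452) (tt N5922 F46453) (tt N5850 (iv F46454)) (tt N4957 (iv D11809)))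
theorem Q5924 : ∀ i, i < 5924 → P i := stepQ 5923 Q5923 (allL N5923 (tt N6206 (iv F47686)) (tt N5143 F46455) (tt N6857 (iv F50146)) (tt N5923 F46456) (tt N5850 F46457) (tt N4961 F46458) (tt N5923 F46459) (tt N4958 (iv D11810)) (tt N5923 F46460))
theorem Q5925 : ∀ i, i < 5925 → P i := stepQ 5924 Q5924 (allL N5924 (tt N4959 (iv D11811)) (tt N5981 (iv F46693)) (tt N5634 F46461) (tt N5924 F46462) (tt N5043 F46463) (tt N5635 F46464) (tt N4962 F46465) (tt N5924 F46466) (tt N6917 D12804))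
theorem Q5926 : ∀ i, i < 5926 → P i := stepQ 5925 Q5925 (allL N5925 (tt N6917 (iv F50445)) (tt N4960 F46467) (tt N5343 F46468) (tt N5925 F46469) (tt N5044 F46470) (tt N5344 F46471) (tt N4963 F46472) (tt N6918 D12805) (tt N4959 (iv D11812)))
theorem Q5927 : ∀ i, i < 5927 → P i := stepQ 5926 Q5926 (allL N5926 (tt N6032 (iv F46933)) (tt N6918 (iv F50451)) (tt N4961 F46473) (tt N6899 (iv F50336)) (tt N5045 F46474) (tt N6857 (iv F50149)) (tt N4964 F46475) (tt N4960 (iv D11813)) (tt N5926 F46476))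
theorem Q5928 : ∀ i, i < 5928 → P i := stepQ 5927 Q5927 (allL N5927 (tt N4963 F46477) (tt N6207 (iv F47694)) (tt N6915 (iv F50433)) (tt N5927 F46478) (tt N5046 F46479) (tt N5927 F46480) (tt N6917 (iv F50450)) (tt N6919 D12806) (tt N4962 (iv D11814)))
theorem Q5929 : ∀ i, i < 5929 → P i := stepQ 5928 Q5928 (allL N5928 (tt N6919 (iv F50458)) (tt N4964 F46481) (tt N6916 (iv F50439)) (tt N5890 (iv F46905)) (tt N5047 F46482) (tt N5928 F46483) (tt N6918 (iv F50455)) (tt N4963 (iv D11815)) (tt N5928 F46484))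
theorem Q5930 : ∀ i, i < 5930 → P i := stepQ 5929 Q5929 (allL N5929 (tt N6209 (iv F47705)) (tt N5890 F46906) (tt N5929 F46485) (tt N4964 (iv D11816)) (tt N5889 (iv F46907)) (tt N5929 F46486) (tt N6899 (iv F50339)) (tt N5929 F46487) (tt N5929 F46488))
theorem Q5931 : ∀ i, i < 5931 → P i := stepQ 5930 Q5930 (allL N5930 (tt N5049 F46489) (tt N5930 F46490) (tt N4967 F46491) (tt N6920 D12807) (tt N5930 F46492) (tt N5254 F46493) (tt N6655 (iv F49424)) (tt N4965 (iv D11817)) (tt N6921 D12808))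
theorem Q5932 : ∀ i, i < 5932 → P i := stepQ 5931 Q5931 (allL N5931 (tt N5050 F46494) (tt N4982 F46495) (tt N6654 (iv F49416)) (tt N4968 F46496) (tt N5649 (iv F46499)) (tt N4966 (iv D11818)) (tt N5255 F46497) (tt N6922 D12809) (tt N5176 F46498))
theorem Q5933 : ∀ i, i < 5933 → P i := stepQ 5932 Q5932 (allL N5932 (tt N5051 F46500) (tt N4983 F46501) (tt N6655 (iv F49422)) (tt N6923 D12810) (tt N5932 F46502) (tt N6922 (iv F50475)) (tt N4967 F46503) (tt N4966 (iv D11819)) (tt N6924 D12811))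
theorem Q5934 : ∀ i, i < 5934 → P i := stepQ 5933 Q5933 (allL N5933 (tt N5052 F46504) (tt N4984 F46505) (tt N6925 D12812) (tt N4967 (iv D11820)) (tt N6926 D12813) (tt N5257 F46506) (tt N6923 (iv F50479)) (tt N4970 F46507) (tt N6927 D12814))
theorem Q5935 : ∀ i, i < 5935 → P i := stepQ 5934 Q5934 (allL N5934 (tt N5053 F46508) (tt N4985 F46509) (tt N6921 (iv F50468)) (tt N6927 (iv F50495)) (tt N5934 F46510) (tt N5258 F46511) (tt N6924 (iv F50484)) (tt N5753 F46512) (tt N4967 (iv D11821)))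
theorem Q5936 : ∀ i, i < 5936 → P i := stepQ 5935 Q5935 (allL N5935 (tt N5054 F46513) (tt N4986 F46514) (tt N6118 (iv F47264)) (tt N6928 D12815) (tt N5935 F46515) (tt N4969 F46516) (tt N5259 F46517) (tt N4968 (iv D11822)) (tt N6929 D12816))
theorem Q5937 : ∀ i, i < 5937 → P i := stepQ 5936 Q5936 (allL N5936 (tt N5055 F46518) (tt N4987 F46519) (tt N6930 D12817) (tt N4969 (iv D11823)) (tt N6931 D12818) (tt N6928 (iv F50499)) (tt N4970 F46520) (tt N6923 (iv F50480)) (tt N6932 D12819))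
theorem Q5938 : ∀ i, i < 5938 → P i := stepQ 5937 Q5937 (allL N5937 (tt N5056 F46521) (tt N4988 F46522) (tt N6214 (iv F47737)) (tt N6932 (iv F50516)) (tt N4973 F46523) (tt N6929 (iv F50504)) (tt N4971 F46524) (tt N5471 F46525) (tt N4969 (iv D11824)))
theorem Q5939 : ∀ i, i < 5939 → P i := stepQ 5938 Q5938 (allL N5938 (tt N5057 F46526) (tt N6933 D12820) (tt N4970 (iv D11825)) (tt N6215 (iv F47742)) (tt N6934 D12821) (tt N5262 F46527) (tt N6930 (iv F50508)) (tt N6925 (iv F50488)) (tt N6935 D12822))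
theorem Q5940 : ∀ i, i < 5940 → P i := stepQ 5939 Q5939 (allL N5939 (tt N5058 F46528) (tt N4990 F46529) (tt N6934 (iv F50521)) (tt N4975 F46530) (tt N4970 (iv D11826)) (tt N6936 D12823) (tt N6931 (iv F50512)) (tt N6926 (iv F50492)) (tt N6937 D12824))
theorem Q5941 : ∀ i, i < 5941 → P i := stepQ 5940 Q5940 (allL N5940 (tt N5059 F46531) (tt N4991 F46532) (tt N6935 (iv F50523)) (tt N4971 F46533) (tt N6937 (iv F50532)) (tt N5264 F46534) (tt N6932 (iv F50517)) (tt N6938 D12825) (tt N4970 (iv D11827)))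
theorem Q5942 : ∀ i, i < 5942 → P i := stepQ 5941 Q5941 (allL N5941 (tt N5061 F46535) (tt N4992 F46536) (tt N6652 (iv F49405)) (tt N6931 (iv F50511)) (tt N4972 (iv D11828)) (tt N5748 (iv F46539)) (tt N4975 F46537) (tt N5941 F46538) (tt N6939 D12826))
theorem Q5943 : ∀ i, i < 5943 → P i := stepQ 5942 Q5942 (allL N5942 (tt N5062 F46540) (tt N4993 F46541) (tt N6653 (iv F49410)) (tt N4973 F46542) (tt N6939 (iv F50539)) (tt N5942 F46543) (tt N4976 F46544) (tt N6940 D12827) (tt N4972 (iv D11829)))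
theorem Q5944 : ∀ i, i < 5944 → P i := stepQ 5943 Q5943 (allL N5943 (tt N5063 F46545) (tt N6704 (iv F49597)) (tt N4975 F46546) (tt N6941 D12828) (tt N4974 (iv D11830)) (tt N6942 D12829) (tt N6652 (iv F49406)) (tt N5943 F46547) (tt N6943 D12830))
theorem Q5945 : ∀ i, i < 5945 → P i := stepQ 5944 Q5944 (allL N5944 (tt N5064 F46548) (tt N6705 (iv F49602)) (tt N4976 F46549) (tt N6219 (iv F47761)) (tt N6943 (iv F50555)) (tt N4978 F46550) (tt N6653 (iv F49413)) (tt N6944 D12831) (tt N4974 (iv D11831)))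
theorem Q5946 : ∀ i, i < 5946 → P i := stepQ 5945 Q5945 (allL N5945 (tt N5065 F46551) (tt N4994 F46552) (tt N6942 (iv F50550)) (tt N6936 (iv F50527)) (tt N4979 F46553) (tt N4975 (iv D11832)) (tt N6945 D12832) (tt N5945 F46554) (tt N6946 D12833))
theorem Q5947 : ∀ i, i < 5947 → P i := stepQ 5946 Q5946 (allL N5946 (tt N5066 F46555) (tt N4995 F46556) (tt N6943 (iv F50554)) (tt N6937 (iv F50531)) (tt N4976 F46557) (tt N6946 (iv F50568)) (tt N6939 (iv F50541)) (tt N6947 D12834) (tt N4975 (iv D11833)))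
theorem Q5948 : ∀ i, i < 5948 → P i := stepQ 5947 Q5947 (allL N5947 (tt N5067 F46558) (tt N4996 F46559) (tt N6944 (iv F50557)) (tt N5761 F46560) (tt N6947 (iv F50571)) (tt N4981 F46561) (tt N6940 (iv F50546)) (tt N4976 (iv D11834)) (tt N5947 F46562))
theorem Q5949 : ∀ i, i < 5949 → P i := stepQ 5948 Q5948 (allL N5948 (tt N5068 F46563) (tt N6878 (iv F50223)) (tt N5273 F46564) (tt N4977 (iv D11835)) (tt N6221 (iv F47772)) (tt N6948 D12835) (tt N5948 F46565) (tt N6827 F50043) (tt N6828 (iv F50049)))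
theorem Q5950 : ∀ i, i < 5950 → P i := stepQ 5949 Q5949 (allL N5949 (tt N5069 F46566) (tt N6903 (iv F50359)) (tt N4979 F46567) (tt N6948 (iv F50575)) (tt N6942 (iv F50551)) (tt N4977 (iv D11836)) (tt N6949 D12836) (tt N5949 F46568) (tt N6950 D12837))
theorem Q5951 : ∀ i, i < 5951 → P i := stepQ 5950 Q5950 (allL N5950 (tt N5070 F46569) (tt N6879 (iv F50230)) (tt N4980 F46570) (tt N6828 F50050) (tt N4978 F46571) (tt N6950 (iv F50582)) (tt N5950 F46572) (tt N6831 (iv F50062)) (tt N4977 (iv D11837)))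
theorem Q5952 : ∀ i, i < 5952 → P i := stepQ 5951 Q5951 (allL N5951 (tt N5071 F46573) (tt N6883 (iv F50252)) (tt N4981 F46574) (tt N6832 (iv F50069)) (tt N6831 F50065) (tt N6944 (iv F50558)) (tt N5951 F46575) (tt N4978 (iv D11838)) (tt N5951 F46576))
theorem Q5953 : ∀ i, i < 5953 → P i := stepQ 5952 Q5952 (allL N5952 (tt N5072 F46577) (tt N4997 F46578) (tt N6949 (iv F50577)) (tt N5277 F46579) (tt N6945 (iv F50562)) (tt N5952 F46580) (tt N4979 (iv D11839)) (tt N5952 F46581) (tt N6951 D12838))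
theorem Q5954 : ∀ i, i < 5954 → P i := stepQ 5953 Q5953 (allL N5953 (tt N5073 F46582) (tt N4998 F46583) (tt N6950 (iv F50581)) (tt N5278 F46584) (tt N6946 (iv F50567)) (tt N4980 F46585) (tt N6951 (iv F50587)) (tt N6952 D12839) (tt N4979 (iv D11840)))
theorem Q5955 : ∀ i, i < 5955 → P i := stepQ 5954 Q5954 (allL N5954 (tt N5074 F46586) (tt N4999 F46587) (tt N6831 F50064) (tt N6835 (iv F50081)) (tt N4981 F46588) (tt N6952 (iv F50590)) (tt N5954 F46589) (tt N4980 (iv D11841)) (tt N5954 F46590))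
theorem Q5956 : ∀ i, i < 5956 → P i := stepQ 5955 Q5955 (allL N5955 (tt N5007 F46591) (tt N6922 (iv F50473)) (tt N5955 F46592) (tt N6953 D12840) (tt N5652 F46593) (tt N4983 F46594) (tt N5280 F46595) (tt N4982 (iv D11842)) (tt N6954 D12841))
theorem Q5957 : ∀ i, i < 5957 → P i := stepQ 5956 Q5956 (allL N5956 (tt N5008 F46596) (tt N6923 (iv F50478)) (tt N6955 D12842) (tt N4983 (iv D11843)) (tt N6956 D12843) (tt N6953 (iv F50594)) (tt N4984 F46597) (tt N4987 F46598) (tt N6957 D12844))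
theorem Q5958 : ∀ i, i < 5958 → P i := stepQ 5957 Q5957 (allL N5957 (tt N5009 F46599) (tt N6924 (iv F50482)) (tt N5957 F46600) (tt N6957 (iv F50617)) (tt N5957 F46601) (tt N6954 (iv F50601)) (tt N4985 F46602) (tt N5521 F46603) (tt N4983 (iv D11844)))
theorem Q5959 : ∀ i, i < 5959 → P i := stepQ 5958 Q5958 (allL N5958 (tt N5010 F46604) (tt N6958 D12845) (tt N4984 (iv D11845)) (tt N5958 F46605) (tt N6959 D12846) (tt N5283 F46606) (tt N6955 (iv F50607)) (tt N4989 F46607) (tt N6960 D12847))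
theorem Q5960 : ∀ i, i < 5960 → P i := stepQ 5959 Q5959 (allL N5959 (tt N5011 F46608) (tt N6926 (iv F50490)) (tt N6959 (iv F50623)) (tt N5959 F46609) (tt N4984 (iv D11846)) (tt N6961 D12848) (tt N6956 (iv F50614)) (tt N4990 F46610) (tt N6962 D12849))
theorem Q5961 : ∀ i, i < 5961 → P i := stepQ 5960 Q5960 (allL N5960 (tt N5012 F46611) (tt N6927 (iv F50494)) (tt N6960 (iv F50629)) (tt N4985 F46612) (tt N6962 (iv F50640)) (tt N5285 F46613) (tt N6957 (iv F50618)) (tt N6963 D12850) (tt N4984 (iv D11847)))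
theorem Q5962 : ∀ i, i < 5962 → P i := stepQ 5961 Q5961 (allL N5961 (tt N5013 F46614) (tt N6928 (iv F50498)) (tt N6964 D12851) (tt N4986 (iv D11848)) (tt N6965 D12852) (tt N4987 F46615) (tt N5286 F46616) (tt N6953 (iv F50596)) (tt N6966 D12853))
theorem Q5963 : ∀ i, i < 5963 → P i := stepQ 5962 Q5962 (allL N5962 (tt N5014 F46617) (tt N6929 (iv F50502)) (tt N5001 F46618) (tt N6966 (iv F50658)) (tt N5962 F46619) (tt N4988 F46620) (tt N5287 F46621) (tt N5146 F46622) (tt N4986 (iv D11849)))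
theorem Q5964 : ∀ i, i < 5964 → P i := stepQ 5963 Q5963 (allL N5963 (tt N5015 F46623) (tt N6967 D12854) (tt N4987 (iv D11850)) (tt N5002 F46624) (tt N5696 (iv F46626)) (tt N6964 (iv F50647)) (tt N4989 F46625) (tt N6955 (iv F50608)) (tt N6968 D12855))
theorem Q5965 : ∀ i, i < 5965 → P i := stepQ 5964 Q5964 (allL N5964 (tt N5016 F46627) (tt N6931 (iv F50510)) (tt N5696 F46628) (tt N4992 F46629) (tt N4987 (iv D11851)) (tt N5697 (iv F46631)) (tt N4990 F46630) (tt N6956 (iv F50615)) (tt N6969 D12856))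
theorem Q5966 : ∀ i, i < 5966 → P i := stepQ 5965 Q5965 (allL N5965 (tt N5017 F46632) (tt N6932 (iv F50515)) (tt N6968 (iv F50665)) (tt N4988 F46633) (tt N6969 (iv F50672)) (tt N6966 (iv F50659)) (tt N4991 F46634) (tt N6970 D12857) (tt N4987 (iv D11852)))
theorem Q5967 : ∀ i, i < 5967 → P i := stepQ 5966 Q5966 (allL N5966 (tt N6971 D12858) (tt N4989 (iv D11853)) (tt N6933 (iv F50518)) (tt N5004 F46635) (tt N6972 D12859) (tt N5291 F46636) (tt N6967 (iv F50663)) (tt N6958 (iv F50621)) (tt N6973 D12860))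
theorem Q5968 : ∀ i, i < 5968 → P i := stepQ 5967 Q5967 (allL N5967 (tt N5019 F46637) (tt N6972 (iv F50681)) (tt N4990 F46638) (tt N5695 F46639) (tt N4989 (iv D11854)) (tt N6974 D12861) (tt N5696 F46640) (tt N6959 (iv F50625)) (tt N6975 D12862))
theorem Q5969 : ∀ i, i < 5969 → P i := stepQ 5968 Q5968 (allL N5968 (tt N5020 F46641) (tt N6973 (iv F50684)) (tt N4991 F46642) (tt N5005 F46643) (tt N6975 (iv F50696)) (tt N5293 F46644) (tt N6968 (iv F50668)) (tt N6976 D12863) (tt N4989 (iv D11855)))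
theorem Q5970 : ∀ i, i < 5970 → P i := stepQ 5969 Q5969 (allL N5969 (tt N5021 F46645) (tt N6936 (iv F50526)) (tt N6974 (iv F50688)) (tt N4994 F46646) (tt N5294 F46647) (tt N4990 (iv D11856)) (tt N6977 D12864) (tt N6961 (iv F50637)) (tt N6978 D12865))
theorem Q5971 : ∀ i, i < 5971 → P i := stepQ 5970 Q5970 (allL N5970 (tt N5022 F46648) (tt N6937 (iv F50530)) (tt N6975 (iv F50694)) (tt N4995 F46649) (tt N4991 F46650) (tt N6978 (iv F50710)) (tt N6969 (iv F50674)) (tt N6979 D12866) (tt N4990 (iv D11857)))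
theorem Q5972 : ∀ i, i < 5972 → P i := stepQ 5971 Q5971 (allL N5971 (tt N5023 F46651) (tt N6938 (iv F50534)) (tt N6976 (iv F50699)) (tt N5777 F46652) (tt N6979 (iv F50712)) (tt N5296 F46653) (tt N6970 (iv F50677)) (tt N4991 (iv D11858)) (tt N6963 (iv F50644)))
theorem Q5973 : ∀ i, i < 5973 → P i := stepQ 5972 Q5972 (allL N5972 (tt N5024 F46654) (tt N6939 (iv F50538)) (tt N5577 F46655) (tt N6969 (iv F50671)) (tt N4993 F46656) (tt N5578 F46657) (tt N4995 F46658) (tt N6980 D12867) (tt N4992 (iv D11859)))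
theorem Q5974 : ∀ i, i < 5974 → P i := stepQ 5973 Q5973 (allL N5973 (tt N5025 F46659) (tt N6940 (iv F50543)) (tt N6906 (iv F50373)) (tt N5582 F46660) (tt N6980 (iv F50715)) (tt N5973 F46661) (tt N4996 F46662) (tt N4993 (iv D11860)) (tt N5973 F46663))
theorem Q5975 : ∀ i, i < 5975 → P i := stepQ 5974 Q5974 (allL N5974 (tt N5026 F46664) (tt N6945 (iv F50561)) (tt N5746 F46665) (tt N6977 (iv F50703)) (tt N4997 F46666) (tt N5747 F46667) (tt N4994 (iv D11861)) (tt N5974 F46668) (tt N6981 D12868))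
theorem Q5976 : ∀ i, i < 5976 → P i := stepQ 5975 Q5975 (allL N5975 (tt N5027 F46669) (tt N6946 (iv F50566)) (tt N6907 (iv F50380)) (tt N6978 (iv F50708)) (tt N4998 F46670) (tt N4995 F46671) (tt N6981 (iv F50723)) (tt N6982 D12869) (tt N4994 (iv D11862)))
theorem Q5977 : ∀ i, i < 5977 → P i := stepQ 5976 Q5976 (allL N5976 (tt N5028 F46672) (tt N6947 (iv F50570)) (tt N6908 (iv F50387)) (tt N6983 D12870) (tt N4996 F46673) (tt N6982 (iv F50728)) (tt N6980 (iv F50717)) (tt N4995 (iv D11863)) (tt N5976 F46674))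
theorem Q5978 : ∀ i, i < 5978 → P i := stepQ 5977 Q5977 (allL N5977 (tt N5029 F46675) (tt N6951 (iv F50584)) (tt N6909 (iv F50394)) (tt N5302 F46676) (tt N6981 (iv F50721)) (tt N5977 F46677) (tt N4998 F46678) (tt N6984 D12871) (tt N4997 (iv D11864)))
theorem Q5979 : ∀ i, i < 5979 → P i := stepQ 5978 Q5978 (allL N5978 (tt N5030 F46679) (tt N6952 (iv F50589)) (tt N6910 (iv F50401)) (tt N6985 D12872) (tt N6982 (iv F50727)) (tt N4999 F46680) (tt N6984 (iv F50738)) (tt N4998 (iv D11865)) (tt N5978 F46681))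
theorem Q5980 : ∀ i, i < 5980 → P i := stepQ 5979 Q5979 (allL N5979 (tt N5031 F46682) (tt N6835 F50086) (tt N6847 (iv F50121)) (tt N4999 (iv D11866)) (tt N5783 F46683) (tt N6985 (iv F50741)) (tt N5979 F46684) (tt N5304 F46685) (tt N5979 F46686))
theorem Q5981 : ∀ i, i < 5981 → P i := stepQ 5980 Q5980 (allL N5980 (tt N5032 F46687) (tt N6986 D12873) (tt N5000 (iv D11867)) (tt N6964 (iv F50646)) (tt N5653 (iv F46691)) (tt N5002 F46688) (tt N5248 F46689) (tt N5980 F46690) (tt N6987 D12874))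
theorem Q5982 : ∀ i, i < 5982 → P i := stepQ 5981 Q5981 (allL N5981 (tt N5033 F46692) (tt N5924 F46693) (tt N5653 F46694) (tt N5981 F46695) (tt N5000 (iv D11868)) (tt N5654 F46696) (tt N5205 F46697) (tt N5981 F46698) (tt N6988 D12875))
theorem Q5983 : ∀ i, i < 5983 → P i := stepQ 5982 Q5982 (allL N5982 (tt N5034 F46699) (tt N6033 (iv F46942)) (tt N6987 (iv F50750)) (tt N5001 F46700) (tt N6988 (iv F50759)) (tt N5003 F46701) (tt N5251 F46702) (tt N6989 D12876) (tt N5000 (iv D11869)))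
theorem Q5984 : ∀ i, i < 5984 → P i := stepQ 5983 Q5983 (allL N5983 (tt N6990 D12877) (tt N5002 (iv D11870)) (tt N6236 (iv F47833)) (tt N6967 (iv F50661)) (tt N5691 F46703) (tt N6986 (iv F50746)) (tt N5004 F46704) (tt N5983 F46705) (tt N6991 D12878))
theorem Q5985 : ∀ i, i < 5985 → P i := stepQ 5984 Q5984 (allL N5984 (tt N5036 F46706) (tt N6991 (iv F50776)) (tt N5003 F46707) (tt N6968 (iv F50666)) (tt N5469 F46708) (tt N6987 (iv F50752)) (tt N5005 F46709) (tt N6992 D12879) (tt N5002 (iv D11871)))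
theorem Q5986 : ∀ i, i < 5986 → P i := stepQ 5985 Q5985 (allL N5985 (tt N5037 F46710) (tt N6238 (iv F47840)) (tt N6992 (iv F50780)) (tt N5349 F46711) (tt N6911 (iv F50410)) (tt N6989 (iv F50767)) (tt N5006 F46712) (tt N5003 (iv D11872)) (tt N5985 F46713))
theorem Q5987 : ∀ i, i < 5987 → P i := stepQ 5986 Q5986 (allL N5986 (tt N5004 (iv D11873)) (tt N5038 F46714) (tt N6239 (iv F47845)) (tt N6971 (iv F50679)) (tt N6912 (iv F50416)) (tt N5308 F46715) (tt N6990 (iv F50774)) (tt N5986 F46716) (tt N6993 D12880))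
theorem Q5988 : ∀ i, i < 5988 → P i := stepQ 5987 Q5987 (allL N5987 (tt N6993 (iv F50785)) (tt N5005 F46717) (tt N6240 (iv F47849)) (tt N6973 (iv F50685)) (tt N6913 (iv F50422)) (tt N5309 F46718) (tt N6991 (iv F50778)) (tt N6994 D12881) (tt N5004 (iv D11874)))
theorem Q5989 : ∀ i, i < 5989 → P i := stepQ 5988 Q5988 (allL N5988 (tt N5040 F46719) (tt N6994 (iv F50788)) (tt N5006 F46720) (tt N6995 D12882) (tt N6914 (iv F50428)) (tt N5310 F46721) (tt N6992 (iv F50783)) (tt N5005 (iv D11875)) (tt N5988 F46722))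
theorem Q5990 : ∀ i, i < 5990 → P i := stepQ 5989 Q5989 (allL N5989 (tt N6953 (iv F50592)) (tt N5107 F46723) (tt N5321 (iv F46728)) (tt N5007 (iv D11876)) (tt N5240 F46724) (tt N5008 F46725) (tt N5311 F46726) (tt N5013 F46727) (tt N6996 D12883))
theorem Q5991 : ∀ i, i < 5991 → P i := stepQ 5990 Q5990 (allL N5990 (tt N6954 (iv F50598)) (tt N5108 F46729) (tt N5990 F46730) (tt N6996 (iv F50797)) (tt N5395 F46731) (tt N5009 F46732) (tt N5312 F46733) (tt N5183 F46734) (tt N5007 (iv D11877)))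
theorem Q5992 : ∀ i, i < 5992 → P i := stepQ 5991 Q5991 (allL N5991 (tt N6955 (iv F50604)) (tt N5390 F46735) (tt N5008 (iv D11878)) (tt N5991 F46736) (tt N5325 (iv F46740)) (tt N5321 F46737) (tt N5010 F46738) (tt N5015 F46739) (tt N6997 D12884))
theorem Q5993 : ∀ i, i < 5993 → P i := stepQ 5992 Q5992 (allL N5992 (tt N6956 (iv F50610)) (tt N5110 F46741) (tt N5325 F46742) (tt N5992 F46743) (tt N5008 (iv D11879)) (tt N5323 F46744) (tt N5011 F46745) (tt N5016 F46746) (tt N6998 D12885))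
theorem Q5994 : ∀ i, i < 5994 → P i := stepQ 5993 Q5993 (allL N5993 (tt N6957 (iv F50616)) (tt N5111 F46747) (tt N6997 (iv F50802)) (tt N5009 F46748) (tt N6998 (iv F50810)) (tt N6996 (iv F50799)) (tt N5012 F46749) (tt N6999 D12886) (tt N5008 (iv D11880)))
theorem Q5995 : ∀ i, i < 5995 → P i := stepQ 5994 Q5994 (allL N5994 (tt N7000 D12887) (tt N5010 (iv D11881)) (tt N5112 F46750) (tt N5994 F46751) (tt N5483 (iv F46755)) (tt N5315 F46752) (tt N5390 F46753) (tt N5018 F46754) (tt N7001 D12888))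
theorem Q5996 : ∀ i, i < 5996 → P i := stepQ 5995 Q5995 (allL N5995 (tt N6959 (iv F50622)) (tt N5483 F46756) (tt N5011 F46757) (tt N5337 F46760) (tt N5010 (iv D11882)) (tt N5334 (iv F46761)) (tt N5325 F46758) (tt N5019 F46759) (tt N7002 D12889))
theorem Q5997 : ∀ i, i < 5997 → P i := stepQ 5996 Q5996 (allL N5996 (tt N6960 (iv F50628)) (tt N7001 (iv F50823)) (tt N5012 F46762) (tt N5996 F46763) (tt N7002 (iv F50832)) (tt N5317 F46764) (tt N6997 (iv F50806)) (tt N7003 D12890) (tt N5010 (iv D11883)))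
theorem Q5998 : ∀ i, i < 5998 → P i := stepQ 5997 Q5997 (allL N5997 (tt N6961 (iv F50632)) (tt N5115 F46765) (tt N5334 F46766) (tt N5997 F46767) (tt N5318 F46768) (tt N5011 (iv D11884)) (tt N5331 F46769) (tt N5021 F46770) (tt N7004 D12891))
theorem Q5999 : ∀ i, i < 5999 → P i := stepQ 5998 Q5998 (allL N5998 (tt N6962 (iv F50638)) (tt N5116 F46771) (tt N7002 (iv F50830)) (tt N5998 F46772) (tt N5012 F46773) (tt N7004 (iv F50842)) (tt N6998 (iv F50812)) (tt N7005 D12892) (tt N5011 (iv D11885)))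
theorem Q6000 : ∀ i, i < 6000 → P i := stepQ 5999 Q5999 (allL N5999 (tt N6963 (iv F50641)) (tt N5117 F46774) (tt N7003 (iv F50835)) (tt N5788 F46775) (tt N7005 (iv F50845)) (tt N5320 F46776) (tt N6999 (iv F50815)) (tt N5012 (iv D11886)) (tt N5023 F46777))
theorem Q6001 : ∀ i, i < 6001 → P i := stepQ 6000 Q6000 (allL N6000 (tt N6964 (iv F50645)) (tt N5238 F46778) (tt N5013 (iv D11887)) (tt N5032 F46779) (tt N5311 (iv F46783)) (tt N5015 F46780) (tt N5240 F46781) (tt N5321 F46782) (tt N7006 D12893))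
theorem Q6002 : ∀ i, i < 6002 → P i := stepQ 6001 Q6001 (allL N6001 (tt N6965 (iv F50651)) (tt N5118 F46784) (tt N5311 F46785) (tt N6001 F46786) (tt N5013 (iv D11888)) (tt N5313 F46787) (tt N5321 F46788) (tt N5240 F46789) (tt N7007 D12894))
theorem Q6003 : ∀ i, i < 6003 → P i := stepQ 6002 Q6002 (allL N6002 (tt N6966 (iv F50657)) (tt N5119 F46790) (tt N7006 (iv F50848)) (tt N5014 F46791) (tt N7007 (iv F50856)) (tt N5017 F46792) (tt N5322 F46793) (tt N7008 D12895) (tt N5013 (iv D11889)))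
theorem Q6004 : ∀ i, i < 6004 → P i := stepQ 6003 Q6003 (allL N6003 (tt N7009 D12896) (tt N5015 (iv D11890)) (tt N5120 F46794) (tt N5035 F46795) (tt N5472 F46796) (tt N5238 F46797) (tt N5018 F46798) (tt N5390 F46799) (tt N7010 D12897))
theorem Q6005 : ∀ i, i < 6005 → P i := stepQ 6004 Q6004 (allL N6004 (tt N6968 (iv F50664)) (tt N7010 (iv F50869)) (tt N5017 F46800) (tt N5036 F46801) (tt N5500 F46802) (tt N7006 (iv F50851)) (tt N5020 F46803) (tt N7011 D12898) (tt N5015 (iv D11891)))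
theorem Q6006 : ∀ i, i < 6006 → P i := stepQ 6005 Q6005 (allL N6005 (tt N6969 (iv F50669)) (tt N5124 F46804) (tt N5500 F46805) (tt N5024 F46806) (tt N5017 F46807) (tt N5501 F46808) (tt N5022 F46809) (tt N7012 D12899) (tt N5016 (iv D11892)))
theorem Q6007 : ∀ i, i < 6007 → P i := stepQ 6006 Q6006 (allL N6006 (tt N6970 (iv F50675)) (tt N5125 F46810) (tt N7011 (iv F50875)) (tt N5490 F46811) (tt N7012 (iv F50880)) (tt N7008 (iv F50861)) (tt N5023 F46812) (tt N5017 (iv D11893)) (tt N6999 (iv F50816)))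
theorem Q6008 : ∀ i, i < 6008 → P i := stepQ 6007 Q6007 (allL N6007 (tt N5018 (iv D11894)) (tt N6971 (iv F50678)) (tt N5126 F46813) (tt N5038 F46814) (tt N7013 D12900) (tt N5328 F46815) (tt N7009 (iv F50867)) (tt N7000 (iv F50822)) (tt N7014 D12901))
theorem Q6009 : ∀ i, i < 6009 → P i := stepQ 6008 Q6008 (allL N6008 (tt N7013 (iv F50883)) (tt N5019 F46816) (tt N5127 F46817) (tt N5637 F46818) (tt N5018 (iv D11895)) (tt N5480 (iv F46821)) (tt N5472 F46819) (tt N5483 F46820) (tt N7015 D12902))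
theorem Q6010 : ∀ i, i < 6010 → P i := stepQ 6009 Q6009 (allL N6009 (tt N7014 (iv F50889)) (tt N5020 F46822) (tt N5128 F46823) (tt N5039 F46824) (tt N7015 (iv F50896)) (tt N5330 F46825) (tt N7010 (iv F50874)) (tt N7016 D12903) (tt N5018 (iv D11896)))
theorem Q6011 : ∀ i, i < 6011 → P i := stepQ 6010 Q6010 (allL N6010 (tt N6974 (iv F50687)) (tt N5480 F46826) (tt N5021 F46827) (tt N5636 F46828) (tt N5331 F46829) (tt N5019 (iv D11897)) (tt N5318 F46830) (tt N5334 F46831) (tt N7017 D12904))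
theorem Q6012 : ∀ i, i < 6012 → P i := stepQ 6011 Q6011 (allL N6011 (tt N6975 (iv F50693)) (tt N7015 (iv F50893)) (tt N5022 F46832) (tt N5499 F46833) (tt N5020 F46834) (tt N7017 (iv F50906)) (tt N5500 F46835) (tt N7018 D12905) (tt N5019 (iv D11898)))
theorem Q6013 : ∀ i, i < 6013 → P i := stepQ 6012 Q6012 (allL N6012 (tt N6976 (iv F50698)) (tt N7016 (iv F50899)) (tt N5023 F46836) (tt N7019 D12906) (tt N7018 (iv F50910)) (tt N5333 F46837) (tt N7011 (iv F50877)) (tt N5020 (iv D11899)) (tt N7003 (iv F50837)))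
theorem Q6014 : ∀ i, i < 6014 → P i := stepQ 6013 Q6013 (allL N6013 (tt N6977 (iv F50701)) (tt N5132 F46838) (tt N5318 F46839) (tt N5026 F46840) (tt N5334 F46841) (tt N5316 F46842) (tt N5021 (iv D11900)) (tt N5331 F46843) (tt N7020 D12907))
theorem Q6015 : ∀ i, i < 6015 → P i := stepQ 6014 Q6014 (allL N6014 (tt N6978 (iv F50707)) (tt N5133 F46844) (tt N7017 (iv F50903)) (tt N5027 F46845) (tt N5335 F46846) (tt N5022 F46847) (tt N7020 (iv F50920)) (tt N7021 D12908) (tt N5021 (iv D11901)))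
theorem Q6016 : ∀ i, i < 6016 → P i := stepQ 6015 Q6015 (allL N6015 (tt N6979 (iv F50711)) (tt N5134 F46848) (tt N7018 (iv F50908)) (tt N7022 D12909) (tt N5023 F46849) (tt N7021 (iv F50923)) (tt N7012 (iv F50882)) (tt N5022 (iv D11902)) (tt N7005 (iv F50846)))
theorem Q6017 : ∀ i, i < 6017 → P i := stepQ 6016 Q6016 (allL N6016 (tt N6980 (iv F50713)) (tt N5137 F46850) (tt N5590 F46851) (tt N7023 D12910) (tt N5025 F46852) (tt N5591 F46853) (tt N5028 F46854) (tt N5024 (iv D11903)) (tt N6016 F46855))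
theorem Q6018 : ∀ i, i < 6018 → P i := stepQ 6017 Q6017 (allL N6017 (tt N6981 (iv F50719)) (tt N5138 F46856) (tt N5593 F46857) (tt N7020 (iv F50917)) (tt N5029 F46858) (tt N5594 F46859) (tt N5027 F46860) (tt N5884 (iv F46861)) (tt N5026 (iv D11904)))
theorem Q6019 : ∀ i, i < 6019 → P i := stepQ 6018 Q6018 (allL N6018 (tt N6982 (iv F50725)) (tt N5139 F46862) (tt N5883 F46863) (tt N7024 D12911) (tt N5030 F46864) (tt N5028 F46865) (tt N5884 F46866) (tt N5027 (iv D11905)) (tt N6018 F46867))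
theorem Q6020 : ∀ i, i < 6020 → P i := stepQ 6019 Q6019 (allL N6019 (tt N6983 (iv F50731)) (tt N5140 F46868) (tt N7025 D12912) (tt N5028 (iv D11906)) (tt N5795 F46869) (tt N7024 (iv F50935)) (tt N7023 (iv F50931)) (tt N7022 (iv F50926)) (tt N6019 F46870))
theorem Q6021 : ∀ i, i < 6021 → P i := stepQ 6020 Q6020 (allL N6020 (tt N6984 (iv F50734)) (tt N5141 F46871) (tt N5885 F46872) (tt N6916 (iv F50440)) (tt N5884 F46873) (tt N6020 F46874) (tt N5030 F46875) (tt N5029 (iv D11907)) (tt N6020 F46876))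
theorem Q6022 : ∀ i, i < 6022 → P i := stepQ 6021 Q6021 (allL N6021 (tt N6985 (iv F50740)) (tt N5142 F46877) (tt N6918 (iv F50452)) (tt N5030 (iv D11908)) (tt N7026 D12913) (tt N5031 F46878) (tt N6916 (iv F50443)) (tt N5343 F46879) (tt N6021 F46880))
theorem Q6023 : ∀ i, i < 6023 → P i := stepQ 6022 Q6022 (allL N6022 (tt N6847 F50127) (tt N6857 (iv F50145)) (tt N5031 (iv D11909)) (tt N6896 (iv F50320)) (tt N5798 F46881) (tt N6918 (iv F50454)) (tt N6022 F46882) (tt N5344 F46883) (tt N6022 F46884))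
theorem Q6024 : ∀ i, i < 6024 → P i := stepQ 6023 Q6023 (allL N6023 (tt N6987 (iv F50749)) (tt N5246 F46885) (tt N5034 F46886) (tt N7006 (iv F50849)) (tt N5396 F46887) (tt N5036 F46888) (tt N5249 F46889) (tt N5849 (iv F46890)) (tt N5032 (iv D11910)))
theorem Q6025 : ∀ i, i < 6025 → P i := stepQ 6024 Q6024 (allL N6024 (tt N6988 (iv F50755)) (tt N5041 F46891) (tt N5396 F46892) (tt N6024 F46893) (tt N5034 F46894) (tt N5397 F46895) (tt N5206 F46896) (tt N5848 (iv F46897)) (tt N5033 (iv D11911)))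
theorem Q6026 : ∀ i, i < 6026 → P i := stepQ 6025 Q6025 (allL N6025 (tt N6989 (iv F50763)) (tt N5042 F46898) (tt N5849 F46899) (tt N5047 F46900) (tt N5848 F46901) (tt N5037 F46902) (tt N5252 F46903) (tt N5034 (iv D11912)) (tt N6025 F46904))
theorem Q6027 : ∀ i, i < 6027 → P i := stepQ 6026 Q6026 (allL N6026 (tt N5035 (iv D11913)) (tt N6990 (iv F50770)) (tt N5043 F46908) (tt N7009 (iv F50864)) (tt N5634 F46909) (tt N5232 F46910) (tt N5038 F46911) (tt N6026 F46912) (tt N7027 D12914))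
theorem Q6028 : ∀ i, i < 6028 → P i := stepQ 6027 Q6027 (allL N6027 (tt N7027 (iv F50949)) (tt N5036 F46913) (tt N5044 F46914) (tt N7010 (iv F50871)) (tt N5343 F46915) (tt N5246 F46916) (tt N5039 F46917) (tt N7026 (iv F50947)) (tt N5035 (iv D11914)))
theorem Q6029 : ∀ i, i < 6029 → P i := stepQ 6028 Q6028 (allL N6028 (tt N6992 (iv F50779)) (tt N7026 (iv F50943)) (tt N5037 F46918) (tt N7028 D12915) (tt N5142 F46919) (tt N5849 F46920) (tt N5040 F46921) (tt N5036 (iv D11915)) (tt N6028 F46922))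
theorem Q6030 : ∀ i, i < 6030 → P i := stepQ 6029 Q6029 (allL N6029 (tt N5039 F46923) (tt N6993 (iv F50786)) (tt N5046 F46924) (tt N7014 (iv F50891)) (tt N6915 (iv F50435)) (tt N5346 F46925) (tt N7027 (iv F50953)) (tt N7029 D12916) (tt N5038 (iv D11916)))
theorem Q6031 : ∀ i, i < 6031 → P i := stepQ 6030 Q6030 (allL N6030 (tt N7029 (iv F50959)) (tt N5040 F46926) (tt N5047 F46927) (tt N7030 D12917) (tt N6916 (iv F50441)) (tt N5347 F46928) (tt N7026 (iv F50946)) (tt N5039 (iv D11917)) (tt N6030 F46929))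
theorem Q6032 : ∀ i, i < 6032 → P i := stepQ 6031 Q6031 (allL N6031 (tt N6995 (iv F50791)) (tt N7030 (iv F50963)) (tt N5799 F46930) (tt N5040 (iv D11918)) (tt N7031 D12918) (tt N5348 F46931) (tt N7028 (iv F50957)) (tt N7019 (iv F50914)) (tt N6031 F46932))
theorem Q6033 : ∀ i, i < 6033 → P i := stepQ 6032 Q6032 (allL N6032 (tt N5926 F46933) (tt N5848 F46934) (tt N5204 F46935) (tt N5889 (iv F46940)) (tt N5042 F46936) (tt N5850 F46937) (tt N5207 F46938) (tt N5041 (iv D11919)) (tt N6032 F46939))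
theorem Q6034 : ∀ i, i < 6034 → P i := stepQ 6033 Q6033 (allL N6033 (tt N5044 F46941) (tt N5982 F46942) (tt N7027 (iv F50950)) (tt N5147 F46943) (tt N6917 (iv F50448)) (tt N5233 F46944) (tt N5046 F46945) (tt N7032 D12919) (tt N5043 (iv D11920)))
theorem Q6035 : ∀ i, i < 6035 → P i := stepQ 6034 Q6034 (allL N6034 (tt N7032 (iv F50974)) (tt N5045 F46946) (tt N7026 (iv F50944)) (tt N5252 F46947) (tt N6918 (iv F50453)) (tt N5247 F46948) (tt N5047 F46949) (tt N5044 (iv D11921)) (tt N6034 F46950))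
theorem Q6036 : ∀ i, i < 6036 → P i := stepQ 6035 Q6035 (allL N6035 (tt N5047 F46951) (tt N6253 (iv F47902)) (tt N7029 (iv F50960)) (tt N6989 (iv F50765)) (tt N6919 (iv F50459)) (tt N5349 F46952) (tt N7032 (iv F50978)) (tt N5046 (iv D11922)) (tt N6035 F46953))
theorem Q6037 : ∀ i, i < 6037 → P i := stepQ 6036 Q6036 (allL N6036 (tt N6654 (iv F49414)) (tt N5148 F46954) (tt N5050 F46955) (tt N6177 (iv F47520)) (tt N7033 D12920) (tt N5048 (iv D11923)) (tt N5398 F46956) (tt N7034 D12921) (tt N5161 F46957))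
theorem Q6038 : ∀ i, i < 6038 → P i := stepQ 6037 Q6037 (allL N6037 (tt N6655 (iv F49420)) (tt N5149 F46958) (tt N5051 F46959) (tt N7035 D12922) (tt N6037 F46960) (tt N7034 (iv F50988)) (tt N5049 F46961) (tt N5048 (iv D11924)) (tt N7036 D12923))
theorem Q6039 : ∀ i, i < 6039 → P i := stepQ 6038 Q6038 (allL N6038 (tt N6920 (iv F50463)) (tt N5150 F46962) (tt N7037 D12924) (tt N5049 (iv D11925)) (tt N7038 D12925) (tt N5400 F46963) (tt N7035 (iv F50991)) (tt N6368 (iv F48331)) (tt N7039 D12926))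
theorem Q6040 : ∀ i, i < 6040 → P i := stepQ 6039 Q6039 (allL N6039 (tt N6921 (iv F50466)) (tt N5151 F46964) (tt N5053 F46965) (tt N7039 (iv F51002)) (tt N6039 F46966) (tt N5401 F46967) (tt N7036 (iv F50995)) (tt N5801 F46968) (tt N5049 (iv D11926)))
theorem Q6041 : ∀ i, i < 6041 → P i := stepQ 6040 Q6040 (allL N6040 (tt N5649 F46969) (tt N5075 F46970) (tt N7033 (iv F50982)) (tt N6040 F46971) (tt N5050 (iv D11927)) (tt N6040 F46972) (tt N5402 F46973) (tt N7040 D12927) (tt N5177 F46974))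
theorem Q6042 : ∀ i, i < 6042 → P i := stepQ 6041 Q6041 (allL N6041 (tt N6922 (iv F50472)) (tt N5076 F46975) (tt N7034 (iv F50987)) (tt N7041 D12928) (tt N7040 (iv F51006)) (tt N5051 F46976) (tt N5403 F46977) (tt N5050 (iv D11928)) (tt N7042 D12929))
theorem Q6043 : ∀ i, i < 6043 → P i := stepQ 6042 Q6042 (allL N6042 (tt N6923 (iv F50477)) (tt N5077 F46978) (tt N7043 D12930) (tt N5051 (iv D11929)) (tt N7044 D12931) (tt N7041 (iv F51012)) (tt N5052 F46979) (tt N5055 F46980) (tt N7045 D12932))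
theorem Q6044 : ∀ i, i < 6044 → P i := stepQ 6043 Q6043 (allL N6043 (tt N6924 (iv F50481)) (tt N5078 F46981) (tt N7036 (iv F50993)) (tt N7045 (iv F51027)) (tt N6043 F46982) (tt N7042 (iv F51016)) (tt N5053 F46983) (tt N5520 F46984) (tt N5051 (iv D11930)))
theorem Q6045 : ∀ i, i < 6045 → P i := stepQ 6044 Q6044 (allL N6044 (tt N6925 (iv F50486)) (tt N7046 D12933) (tt N5052 (iv D11931)) (tt N7037 (iv F50997)) (tt N7047 D12934) (tt N5406 F46985) (tt N7043 (iv F51019)) (tt N5057 F46986) (tt N7048 D12935))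
theorem Q6046 : ∀ i, i < 6046 → P i := stepQ 6045 Q6045 (allL N6045 (tt N6926 (iv F50489)) (tt N5080 F46987) (tt N7047 (iv F51032)) (tt N6045 F46988) (tt N5052 (iv D11932)) (tt N7049 D12936) (tt N7044 (iv F51024)) (tt N5058 F46989) (tt N7050 D12937))
theorem Q6047 : ∀ i, i < 6047 → P i := stepQ 6046 Q6046 (allL N6046 (tt N6927 (iv F50493)) (tt N5081 F46990) (tt N7048 (iv F51034)) (tt N5053 F46991) (tt N7050 (iv F51042)) (tt N5408 F46992) (tt N7045 (iv F51028)) (tt N7051 D12938) (tt N5052 (iv D11933)))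
theorem Q6048 : ∀ i, i < 6048 → P i := stepQ 6047 Q6047 (allL N6047 (tt N6928 (iv F50497)) (tt N5082 F46993) (tt N7052 D12939) (tt N5054 (iv D11934)) (tt N7053 D12940) (tt N5055 F46994) (tt N5376 F46995) (tt N7041 (iv F51014)) (tt N7054 D12941))
theorem Q6049 : ∀ i, i < 6049 → P i := stepQ 6048 Q6048 (allL N6048 (tt N6929 (iv F50501)) (tt N5083 F46996) (tt N6119 (iv F47270)) (tt N7054 (iv F51056)) (tt N6048 F46997) (tt N5056 F46998) (tt N5386 F46999) (tt N5105 F47000) (tt N5054 (iv D11935)))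
theorem Q6050 : ∀ i, i < 6050 → P i := stepQ 6049 Q6049 (allL N6049 (tt N6930 (iv F50507)) (tt N7055 D12942) (tt N5055 (iv D11936)) (tt N6372 (iv F48342)) (tt N7056 D12943) (tt N7052 (iv F51048)) (tt N5057 F47001) (tt N7043 (iv F51020)) (tt N7057 D12944))
theorem Q6051 : ∀ i, i < 6051 → P i := stepQ 6050 Q6050 (allL N6050 (tt N6931 (iv F50509)) (tt N5085 F47002) (tt N7056 (iv F51063)) (tt N5061 F47003) (tt N5055 (iv D11937)) (tt N7058 D12945) (tt N5058 F47004) (tt N7044 (iv F51025)) (tt N7059 D12946))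
theorem Q6052 : ∀ i, i < 6052 → P i := stepQ 6051 Q6051 (allL N6051 (tt N6932 (iv F50514)) (tt N5086 F47005) (tt N7057 (iv F51065)) (tt N5056 F47006) (tt N7059 (iv F51074)) (tt N7054 (iv F51057)) (tt N5059 F47007) (tt N7060 D12947) (tt N5055 (iv D11938)))
theorem Q6053 : ∀ i, i < 6053 → P i := stepQ 6052 Q6052 (allL N6052 (tt N7061 D12948) (tt N5057 (iv D11939)) (tt N5087 F47008) (tt N6374 (iv F48348)) (tt N7062 D12949) (tt N5412 F47009) (tt N7055 (iv F51062)) (tt N7046 (iv F51031)) (tt N7063 D12950))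
theorem Q6054 : ∀ i, i < 6054 → P i := stepQ 6053 Q6053 (allL N6053 (tt N6934 (iv F50520)) (tt N7062 (iv F51081)) (tt N5058 F47010) (tt N7064 D12951) (tt N5057 (iv D11940)) (tt N7065 D12952) (tt N7056 (iv F51064)) (tt N7047 (iv F51033)) (tt N7066 D12953))
theorem Q6055 : ∀ i, i < 6055 → P i := stepQ 6054 Q6054 (allL N6054 (tt N6935 (iv F50522)) (tt N7063 (iv F51083)) (tt N5059 F47011) (tt N6376 (iv F48352)) (tt N7066 (iv F51090)) (tt N5414 F47012) (tt N7057 (iv F51066)) (tt N7067 D12954) (tt N5057 (iv D11941)))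
theorem Q6056 : ∀ i, i < 6056 → P i := stepQ 6055 Q6055 (allL N6055 (tt N6936 (iv F50525)) (tt N5090 F47013) (tt N7065 (iv F51087)) (tt N5065 F47014) (tt N5415 F47015) (tt N5058 (iv D11942)) (tt N7068 D12955) (tt N7049 (iv F51039)) (tt N7069 D12956))
theorem Q6057 : ∀ i, i < 6057 → P i := stepQ 6056 Q6056 (allL N6056 (tt N6937 (iv F50529)) (tt N5091 F47016) (tt N7066 (iv F51089)) (tt N5066 F47017) (tt N5059 F47018) (tt N7069 (iv F51099)) (tt N7059 (iv F51075)) (tt N7070 D12957) (tt N5058 (iv D11943)))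
theorem Q6058 : ∀ i, i < 6058 → P i := stepQ 6057 Q6057 (allL N6057 (tt N6938 (iv F50533)) (tt N5092 F47019) (tt N7067 (iv F51091)) (tt N5809 F47020) (tt N7070 (iv F51101)) (tt N5417 F47021) (tt N7060 (iv F51078)) (tt N5059 (iv D11944)) (tt N7051 (iv F51046)))
theorem Q6059 : ∀ i, i < 6059 → P i := stepQ 6058 Q6058 (allL N6058 (tt N6652 (iv F49403)) (tt N6058 F47022) (tt N5061 F47023) (tt N7071 D12958) (tt N5060 (iv D11945)) (tt N7072 D12959) (tt N5063 F47024) (tt N6058 F47025) (tt N7073 D12960))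
theorem Q6060 : ∀ i, i < 6060 → P i := stepQ 6059 Q6059 (allL N6059 (tt N6653 (iv F49408)) (tt N6059 F47026) (tt N5062 F47027) (tt N6380 (iv F48366)) (tt N7073 (iv F51111)) (tt N6059 F47028) (tt N5064 F47029) (tt N7074 D12961) (tt N5060 (iv D11946)))
theorem Q6061 : ∀ i, i < 6061 → P i := stepQ 6060 Q6060 (allL N6060 (tt N5748 F47030) (tt N5093 F47031) (tt N7072 (iv F51106)) (tt N7058 (iv F51069)) (tt N6060 F47032) (tt N5061 (iv D11947)) (tt N7075 D12962) (tt N6060 F47033) (tt N7076 D12963))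
theorem Q6062 : ∀ i, i < 6062 → P i := stepQ 6061 Q6061 (allL N6061 (tt N6939 (iv F50537)) (tt N5094 F47034) (tt N7073 (iv F51110)) (tt N7059 (iv F51073)) (tt N5062 F47035) (tt N7076 (iv F51126)) (tt N5066 F47036) (tt N7077 D12964) (tt N5061 (iv D11948)))
theorem Q6063 : ∀ i, i < 6063 → P i := stepQ 6062 Q6062 (allL N6062 (tt N6940 (iv F50542)) (tt N5095 F47037) (tt N7074 (iv F51114)) (tt N5566 F47038) (tt N7077 (iv F51128)) (tt N6062 F47039) (tt N5067 F47040) (tt N5062 (iv D11949)) (tt N6062 F47041))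
theorem Q6064 : ∀ i, i < 6064 → P i := stepQ 6063 Q6063 (allL N6063 (tt N6941 (iv F50548)) (tt N6063 F47042) (tt N7064 (iv F51086)) (tt N5063 (iv D11950)) (tt N6381 (iv F48371)) (tt N7078 D12965) (tt N7071 (iv F51103)) (tt N7079 D12966) (tt N7080 D12967))
theorem Q6065 : ∀ i, i < 6065 → P i := stepQ 6064 Q6064 (allL N6064 (tt N6942 (iv F50549)) (tt N6064 F47043) (tt N5065 F47044) (tt N7078 (iv F51132)) (tt N5069 F47045) (tt N5063 (iv D11951)) (tt N7081 D12968) (tt N6064 F47046) (tt N7082 D12969))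
theorem Q6066 : ∀ i, i < 6066 → P i := stepQ 6065 Q6065 (allL N6065 (tt N6943 (iv F50553)) (tt N6065 F47047) (tt N5066 F47048) (tt N7080 (iv F51136)) (tt N5064 F47049) (tt N7082 (iv F51144)) (tt N7073 (iv F51112)) (tt N7083 D12970) (tt N5063 (iv D11952)))
theorem Q6067 : ∀ i, i < 6067 → P i := stepQ 6066 Q6066 (allL N6066 (tt N6944 (iv F50556)) (tt N6066 F47050) (tt N5067 F47051) (tt N7084 D12971) (tt N7083 (iv F51147)) (tt N5071 F47052) (tt N7074 (iv F51116)) (tt N5064 (iv D11953)) (tt N6066 F47053))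
theorem Q6068 : ∀ i, i < 6068 → P i := stepQ 6067 Q6067 (allL N6067 (tt N6945 (iv F50560)) (tt N5096 F47054) (tt N7081 (iv F51138)) (tt N7068 (iv F51094)) (tt N5072 F47055) (tt N7075 (iv F51121)) (tt N5065 (iv D11954)) (tt N6067 F47056) (tt N7085 D12972))
theorem Q6069 : ∀ i, i < 6069 → P i := stepQ 6068 Q6068 (allL N6068 (tt N6946 (iv F50565)) (tt N5097 F47057) (tt N7082 (iv F51142)) (tt N7069 (iv F51097)) (tt N5073 F47058) (tt N5066 F47059) (tt N7085 (iv F51155)) (tt N7086 D12973) (tt N5065 (iv D11955)))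
theorem Q6070 : ∀ i, i < 6070 → P i := stepQ 6069 Q6069 (allL N6069 (tt N6947 (iv F50569)) (tt N5098 F47060) (tt N7083 (iv F51146)) (tt N7087 D12974) (tt N5067 F47061) (tt N7086 (iv F51158)) (tt N7077 (iv F51129)) (tt N5066 (iv D11956)) (tt N6069 F47062))
theorem Q6071 : ∀ i, i < 6071 → P i := stepQ 6070 Q6070 (allL N6070 (tt N6948 (iv F50573)) (tt N6070 F47063) (tt N5430 F47064) (tt N5069 F47065) (tt N7088 D12975) (tt N5068 (iv D11957)) (tt N7089 D12976) (tt N7090 D12977) (tt N7091 D12978))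
theorem Q6072 : ∀ i, i < 6072 → P i := stepQ 6071 Q6071 (allL N6071 (tt N6827 (iv F50037)) (tt N6071 F47066) (tt N5431 F47067) (tt N6071 F47068) (tt N6387 (iv F48394)) (tt N7090 (iv F51172)) (tt N6071 F47069) (tt N5068 (iv D11958)) (tt N6761 F49838))
theorem Q6073 : ∀ i, i < 6073 → P i := stepQ 6072 Q6072 (allL N6072 (tt N6828 (iv F50044)) (tt N6072 F47070) (tt N5432 F47071) (tt N5070 F47072) (tt N6388 (iv F48400)) (tt N7091 (iv F51176)) (tt N6072 F47073) (tt N6762 (iv F49845)) (tt N5068 (iv D11959)))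
theorem Q6074 : ∀ i, i < 6074 → P i := stepQ 6073 Q6073 (allL N6073 (tt N6949 (iv F50576)) (tt N6073 F47074) (tt N5072 F47075) (tt N7089 (iv F51167)) (tt N7081 (iv F51139)) (tt N6073 F47076) (tt N5069 (iv D11960)) (tt N6073 F47077) (tt N7092 D12979))
theorem Q6075 : ∀ i, i < 6075 → P i := stepQ 6074 Q6074 (allL N6074 (tt N6950 (iv F50580)) (tt N6074 F47078) (tt N5073 F47079) (tt N7091 (iv F51175)) (tt N7082 (iv F51143)) (tt N5070 F47080) (tt N7092 (iv F51180)) (tt N7093 D12980) (tt N5069 (iv D11961)))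
theorem Q6076 : ∀ i, i < 6076 → P i := stepQ 6075 Q6075 (allL N6075 (tt N6831 (iv F50059)) (tt N6075 F47081) (tt N5074 F47082) (tt N6765 (iv F49858)) (tt N5071 F47083) (tt N7093 (iv F51183)) (tt N6075 F47084) (tt N5070 (iv D11962)) (tt N6075 F47085))
theorem Q6077 : ∀ i, i < 6077 → P i := stepQ 6076 Q6076 (allL N6076 (tt N6832 (iv F50066)) (tt N6076 F47086) (tt N5823 F47087) (tt N5071 (iv D11963)) (tt N6766 (iv F49864)) (tt N7084 (iv F51151)) (tt N6076 F47088) (tt N6392 (iv F48420)) (tt N6076 F47089))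
theorem Q6078 : ∀ i, i < 6078 → P i := stepQ 6077 Q6077 (allL N6077 (tt N6951 (iv F50583)) (tt N5099 F47090) (tt N7092 (iv F51178)) (tt N5437 F47091) (tt N7085 (iv F51154)) (tt N6077 F47092) (tt N5073 F47093) (tt N7094 D12981) (tt N5072 (iv D11964)))
theorem Q6079 : ∀ i, i < 6079 → P i := stepQ 6078 Q6078 (allL N6078 (tt N6952 (iv F50588)) (tt N5100 F47094) (tt N7093 (iv F51182)) (tt N7095 D12982) (tt N7086 (iv F51157)) (tt N5074 F47095) (tt N7094 (iv F51187)) (tt N5073 (iv D11965)) (tt N6078 F47096))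
theorem Q6080 : ∀ i, i < 6080 → P i := stepQ 6079 Q6079 (allL N6079 (tt N6835 (iv F50080)) (tt N5101 F47097) (tt N6769 (iv F49878)) (tt N5074 (iv D11966)) (tt N5826 F47098) (tt N7095 (iv F51190)) (tt N6079 F47099) (tt N5439 F47100) (tt N6079 F47101))
theorem Q6081 : ∀ i, i < 6081 → P i := stepQ 6080 Q6080 (allL N6080 (tt N5106 F47102) (tt N7040 (iv F51005)) (tt N5166 F47103) (tt N5194 F47107) (tt N5076 F47104) (tt N6080 F47105) (tt N5440 F47106) (tt N5075 (iv D11967)) (tt N7096 D12983))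
theorem Q6082 : ∀ i, i < 6082 → P i := stepQ 6081 Q6081 (allL N6081 (tt N5107 F47108) (tt N7041 (iv F51010)) (tt N5227 F47109) (tt N5076 (iv D11968)) (tt N5226 F47110) (tt N5077 F47111) (tt N5373 F47112) (tt N5082 F47113) (tt N7097 D12984))
theorem Q6083 : ∀ i, i < 6083 → P i := stepQ 6082 Q6082 (allL N6082 (tt N5108 F47114) (tt N7042 (iv F51015)) (tt N5167 F47115) (tt N7097 (iv F51202)) (tt N7096 (iv F51196)) (tt N5078 F47116) (tt N5441 F47117) (tt N5173 F47118) (tt N5076 (iv D11969)))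
theorem Q6084 : ∀ i, i < 6084 → P i := stepQ 6083 Q6083 (allL N6083 (tt N5109 F47119) (tt N7098 D12985) (tt N5077 (iv D11970)) (tt N5168 F47120) (tt N5775 (iv F47124)) (tt N5227 F47121) (tt N5079 F47122) (tt N5084 F47123) (tt N7099 D12986))
theorem Q6085 : ∀ i, i < 6085 → P i := stepQ 6084 Q6084 (allL N6084 (tt N5110 F47125) (tt N7044 (iv F51021)) (tt N5775 F47126) (tt N6084 F47127) (tt N5077 (iv D11971)) (tt N5773 F47128) (tt N5080 F47129) (tt N5085 F47130) (tt N7100 D12987))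
theorem Q6086 : ∀ i, i < 6086 → P i := stepQ 6085 Q6085 (allL N6085 (tt N5111 F47131) (tt N7045 (iv F51026)) (tt N7099 (iv F51213)) (tt N5078 F47132) (tt N7100 (iv F51221)) (tt N7097 (iv F51204)) (tt N5081 F47133) (tt N7101 D12988) (tt N5077 (iv D11972)))
theorem Q6087 : ∀ i, i < 6087 → P i := stepQ 6086 Q6086 (allL N6086 (tt N7102 D12989) (tt N5079 (iv D11973)) (tt N7046 (iv F51029)) (tt N5171 F47134) (tt N7103 D12990) (tt N5444 F47135) (tt N7098 (iv F51210)) (tt N5087 F47136) (tt N7104 D12991))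
theorem Q6088 : ∀ i, i < 6088 → P i := stepQ 6087 Q6087 (allL N6087 (tt N5113 F47137) (tt N7103 (iv F51235)) (tt N5080 F47138) (tt N5778 F47139) (tt N5079 (iv D11974)) (tt N7105 D12992) (tt N5775 F47140) (tt N5088 F47141) (tt N7106 D12993))
theorem Q6089 : ∀ i, i < 6089 → P i := stepQ 6088 Q6088 (allL N6088 (tt N5114 F47142) (tt N7104 (iv F51239)) (tt N5081 F47143) (tt N5173 F47144) (tt N7106 (iv F51251)) (tt N5446 F47145) (tt N7099 (iv F51217)) (tt N7107 D12994) (tt N5079 (iv D11975)))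
theorem Q6090 : ∀ i, i < 6090 → P i := stepQ 6089 Q6089 (allL N6089 (tt N5115 F47146) (tt N7049 (iv F51036)) (tt N7105 (iv F51243)) (tt N6089 F47147) (tt N5447 F47148) (tt N5080 (iv D11976)) (tt N7108 D12995) (tt N5090 F47149) (tt N7109 D12996))
theorem Q6091 : ∀ i, i < 6091 → P i := stepQ 6090 Q6090 (allL N6090 (tt N5116 F47150) (tt N7050 (iv F51040)) (tt N7106 (iv F51249)) (tt N6090 F47151) (tt N5081 F47152) (tt N7109 (iv F51266)) (tt N7100 (iv F51223)) (tt N7110 D12997) (tt N5080 (iv D11977)))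
theorem Q6092 : ∀ i, i < 6092 → P i := stepQ 6091 Q6091 (allL N6091 (tt N5117 F47153) (tt N7051 (iv F51043)) (tt N7107 (iv F51254)) (tt N5829 F47154) (tt N7110 (iv F51268)) (tt N5449 F47155) (tt N7101 (iv F51226)) (tt N5081 (iv D11978)) (tt N5092 F47156))
theorem Q6093 : ∀ i, i < 6093 → P i := stepQ 6092 Q6092 (allL N6092 (tt N5118 F47157) (tt N7053 (iv F51050)) (tt N5222 F47158) (tt N6092 F47159) (tt N5082 (iv D11979)) (tt N5769 (iv F47162)) (tt N5377 F47160) (tt N5226 F47161) (tt N7111 D12998))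
theorem Q6094 : ∀ i, i < 6094 → P i := stepQ 6093 Q6093 (allL N6093 (tt N5119 F47163) (tt N7054 (iv F51055)) (tt N5375 F47164) (tt N5083 F47165) (tt N7111 (iv F51273)) (tt N5086 F47166) (tt N5378 F47167) (tt N7112 D12999) (tt N5082 (iv D11980)))
theorem Q6095 : ∀ i, i < 6095 → P i := stepQ 6094 Q6094 (allL N6094 (tt N7113 D13000) (tt N5084 (iv D11981)) (tt N7055 (iv F51059)) (tt N5102 F47168) (tt N7114 D13001) (tt N5354 F47169) (tt N5087 F47170) (tt N7098 (iv F51211)) (tt N7115 D13002))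
theorem Q6096 : ∀ i, i < 6096 → P i := stepQ 6095 Q6095 (allL N6095 (tt N5121 F47171) (tt N7114 (iv F51288)) (tt N5085 F47172) (tt N6095 F47173) (tt N5084 (iv D11982)) (tt N5770 F47174) (tt N5088 F47175) (tt N5775 F47176) (tt N7116 D13003))
theorem Q6097 : ∀ i, i < 6097 → P i := stepQ 6096 Q6096 (allL N6096 (tt N5122 F47177) (tt N7115 (iv F51293)) (tt N5086 F47178) (tt N5103 F47179) (tt N7116 (iv F51300)) (tt N5375 F47180) (tt N5089 F47181) (tt N7117 D13004) (tt N5084 (iv D11983)))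
theorem Q6098 : ∀ i, i < 6098 → P i := stepQ 6097 Q6097 (allL N6097 (tt N5123 F47182) (tt N7058 (iv F51068)) (tt N5770 F47183) (tt N5093 F47184) (tt N5769 F47185) (tt N5085 (iv D11984)) (tt N7118 D13005) (tt N5773 F47186) (tt N7119 D13006))
theorem Q6099 : ∀ i, i < 6099 → P i := stepQ 6098 Q6098 (allL N6098 (tt N5124 F47187) (tt N7059 (iv F51072)) (tt N7116 (iv F51298)) (tt N5094 F47188) (tt N5086 F47189) (tt N7119 (iv F51318)) (tt N5091 F47190) (tt N7120 D13007) (tt N5085 (iv D11985)))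
theorem Q6100 : ∀ i, i < 6100 → P i := stepQ 6099 Q6099 (allL N6099 (tt N5125 F47191) (tt N7060 (iv F51076)) (tt N7117 (iv F51304)) (tt N5458 F47192) (tt N7120 (iv F51320)) (tt N7112 (iv F51279)) (tt N5092 F47193) (tt N5086 (iv D11986)) (tt N7101 (iv F51227)))
theorem Q6101 : ∀ i, i < 6101 → P i := stepQ 6100 Q6100 (allL N6100 (tt N5087 (iv D11987)) (tt N5126 F47194) (tt N7061 (iv F51079)) (tt N5104 F47195) (tt N7121 D13008) (tt N5453 F47196) (tt N7113 (iv F51284)) (tt N7102 (iv F51232)) (tt N7122 D13009))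
theorem Q6102 : ∀ i, i < 6102 → P i := stepQ 6101 Q6101 (allL N6101 (tt N7121 (iv F51322)) (tt N5088 F47197) (tt N7062 (iv F51082)) (tt N6101 F47198) (tt N5087 (iv D11988)) (tt N7123 D13010) (tt N7114 (iv F51291)) (tt N7103 (iv F51238)) (tt N7124 D13011))
theorem Q6103 : ∀ i, i < 6103 → P i := stepQ 6102 Q6102 (allL N6102 (tt N7122 (iv F51327)) (tt N5089 F47199) (tt N7063 (iv F51084)) (tt N5105 F47200) (tt N7124 (iv F51336)) (tt N5455 F47201) (tt N7115 (iv F51296)) (tt N7125 D13012) (tt N5087 (iv D11989)))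
theorem Q6104 : ∀ i, i < 6104 → P i := stepQ 6103 Q6103 (allL N6103 (tt N5129 F47202) (tt N7123 (iv F51331)) (tt N5090 F47203) (tt N6103 F47204) (tt N5456 F47205) (tt N5088 (iv D11990)) (tt N7126 D13013) (tt N7105 (iv F51247)) (tt N7127 D13014))
theorem Q6105 : ∀ i, i < 6105 → P i := stepQ 6104 Q6104 (allL N6104 (tt N5130 F47206) (tt N7124 (iv F51334)) (tt N5091 F47207) (tt N6104 F47208) (tt N5089 F47209) (tt N7127 (iv F51349)) (tt N7116 (iv F51302)) (tt N7128 D13015) (tt N5088 (iv D11991)))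
theorem Q6106 : ∀ i, i < 6106 → P i := stepQ 6105 Q6105 (allL N6105 (tt N5131 F47210) (tt N7125 (iv F51337)) (tt N5092 F47211) (tt N7112 (iv F51278)) (tt N7128 (iv F51352)) (tt N5458 F47212) (tt N7117 (iv F51307)) (tt N5089 (iv D11992)) (tt N7107 (iv F51256)))
theorem Q6107 : ∀ i, i < 6107 → P i := stepQ 6106 Q6106 (allL N6106 (tt N5132 F47213) (tt N7068 (iv F51093)) (tt N7126 (iv F51340)) (tt N5096 F47214) (tt N5459 F47215) (tt N7118 (iv F51312)) (tt N5090 (iv D11993)) (tt N7108 (iv F51262)) (tt N7129 D13016))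
theorem Q6108 : ∀ i, i < 6108 → P i := stepQ 6107 Q6107 (allL N6107 (tt N5133 F47216) (tt N7069 (iv F51096)) (tt N7127 (iv F51346)) (tt N5097 F47217) (tt N5460 F47218) (tt N5091 F47219) (tt N7129 (iv F51356)) (tt N7130 D13017) (tt N5090 (iv D11994)))
theorem Q6109 : ∀ i, i < 6109 → P i := stepQ 6108 Q6108 (allL N6108 (tt N5134 F47220) (tt N7070 (iv F51100)) (tt N7128 (iv F51351)) (tt N7131 D13018) (tt N5092 F47221) (tt N7130 (iv F51359)) (tt N7120 (iv F51321)) (tt N5091 (iv D11995)) (tt N7110 (iv F51269)))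
theorem Q6110 : ∀ i, i < 6110 → P i := stepQ 6109 Q6109 (allL N6109 (tt N5135 F47222) (tt N7075 (iv F51119)) (tt N6109 F47223) (tt N7118 (iv F51310)) (tt N6109 F47224) (tt N5096 F47225) (tt N5093 (iv D11996)) (tt N6109 F47226) (tt N7132 D13019))
theorem Q6111 : ∀ i, i < 6111 → P i := stepQ 6110 Q6110 (allL N6110 (tt N5136 F47227) (tt N7076 (iv F51124)) (tt N6110 F47228) (tt N7119 (iv F51316)) (tt N6110 F47229) (tt N5094 F47230) (tt N7132 (iv F51367)) (tt N7133 D13020) (tt N5093 (iv D11997)))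
theorem Q6112 : ∀ i, i < 6112 → P i := stepQ 6111 Q6111 (allL N6111 (tt N5137 F47231) (tt N7077 (iv F51127)) (tt N6111 F47232) (tt N7134 D13021) (tt N5095 F47233) (tt N7133 (iv F51372)) (tt N5098 F47234) (tt N5094 (iv D11998)) (tt N6111 F47235))
theorem Q6113 : ∀ i, i < 6113 → P i := stepQ 6112 Q6112 (allL N6112 (tt N5138 F47236) (tt N7085 (iv F51153)) (tt N6112 F47237) (tt N7129 (iv F51354)) (tt N5099 F47238) (tt N7132 (iv F51366)) (tt N5097 F47239) (tt N7135 D13022) (tt N5096 (iv D11999)))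
theorem Q6114 : ∀ i, i < 6114 → P i := stepQ 6113 Q6113 (allL N6113 (tt N5139 F47240) (tt N7086 (iv F51156)) (tt N6113 F47241) (tt N7136 D13023) (tt N5100 F47242) (tt N5098 F47243) (tt N7135 (iv F51383)) (tt N5097 (iv D12000)) (tt N6113 F47244))
theorem Q6115 : ∀ i, i < 6115 → P i := stepQ 6114 Q6114 (allL N6114 (tt N5140 F47245) (tt N7087 (iv F51160)) (tt N7137 D13024) (tt N5098 (iv D12001)) (tt N5835 F47246) (tt N7136 (iv F51386)) (tt N7134 (iv F51377)) (tt N7131 (iv F51362)) (tt N6114 F47247))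
theorem Q6116 : ∀ i, i < 6116 → P i := stepQ 6115 Q6115 (allL N6115 (tt N5141 F47248) (tt N7094 (iv F51185)) (tt N6115 F47249) (tt N6914 (iv F50427)) (tt N7135 (iv F51381)) (tt N6115 F47250) (tt N5100 F47251) (tt N5099 (iv D12002)) (tt N6115 F47252))
theorem Q6117 : ∀ i, i < 6117 → P i := stepQ 6116 Q6116 (allL N6116 (tt N5142 F47253) (tt N7095 (iv F51189)) (tt N6911 (iv F50408)) (tt N5100 (iv D12003)) (tt N6992 (iv F50781)) (tt N5101 F47254) (tt N6914 (iv F50430)) (tt N5469 F47255) (tt N6116 F47256))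
theorem Q6118 : ∀ i, i < 6118 → P i := stepQ 6117 Q6117 (allL N6117 (tt N5143 F47257) (tt N6785 (iv F49927)) (tt N5101 (iv D12004)) (tt N6117 F47258) (tt N5838 F47259) (tt N6911 (iv F50411)) (tt N6117 F47260) (tt N5470 F47261) (tt N6117 F47262))
theorem Q6119 : ∀ i, i < 6119 → P i := stepQ 6118 Q6118 (allL N6118 (tt N5102 (iv D12005)) (tt N5144 F47263) (tt N5935 F47264) (tt N7113 (iv F51282)) (tt N6118 F47265) (tt N5210 F47266) (tt N5104 F47267) (tt N5178 F47268) (tt N7138 D13025))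
theorem Q6120 : ∀ i, i < 6120 → P i := stepQ 6119 Q6119 (allL N6119 (tt N7138 (iv F51392)) (tt N5103 F47269) (tt N6048 F47270) (tt N7115 (iv F51294)) (tt N6119 F47271) (tt N5355 F47272) (tt N5105 F47273) (tt N5386 F47274) (tt N5102 (iv D12006)))
theorem Q6121 : ∀ i, i < 6121 → P i := stepQ 6120 Q6120 (allL N6120 (tt N5105 F47275) (tt N5146 F47276) (tt N6265 (iv F47951)) (tt N7122 (iv F51329)) (tt N6120 F47277) (tt N5471 F47278) (tt N7138 (iv F51397)) (tt N6929 (iv F50506)) (tt N5104 (iv D12007)))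
theorem Q6122 : ∀ i, i < 6122 → P i := stepQ 6121 Q6121 (allL N6121 (tt N7096 (iv F51193)) (tt N5395 F47279) (tt N5179 F47280) (tt N5201 F47281) (tt N5108 F47282) (tt N6121 F47283) (tt N5244 F47284) (tt N5184 F47285) (tt N5106 (iv D12008)))
theorem Q6123 : ∀ i, i < 6123 → P i := stepQ 6122 Q6122 (allL N6122 (tt N7097 (iv F51200)) (tt N6996 (iv F50795)) (tt N5242 F47286) (tt N5108 F47287) (tt N5241 F47288) (tt N5111 F47289) (tt N5387 F47290) (tt N7139 D13026) (tt N5107 (iv D12009)))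
theorem Q6124 : ∀ i, i < 6124 → P i := stepQ 6123 Q6123 (allL N6123 (tt N7099 (iv F51212)) (tt N5393 F47291) (tt N5111 F47292) (tt N5180 F47293) (tt N5791 F47294) (tt N5242 F47295) (tt N5114 F47296) (tt N7140 D13027) (tt N5109 (iv D12010)))
theorem Q6125 : ∀ i, i < 6125 → P i := stepQ 6124 Q6124 (allL N6124 (tt N7100 (iv F51218)) (tt N6998 (iv F50807)) (tt N5791 F47297) (tt N6124 F47298) (tt N5111 F47299) (tt N5789 F47300) (tt N5116 F47301) (tt N7141 D13028) (tt N5110 (iv D12011)))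
theorem Q6126 : ∀ i, i < 6126 → P i := stepQ 6125 Q6125 (allL N6125 (tt N7101 (iv F51224)) (tt N6999 (iv F50813)) (tt N7140 (iv F51406)) (tt N5479 F47302) (tt N7141 (iv F51413)) (tt N7139 (iv F51402)) (tt N5117 F47303) (tt N5111 (iv D12012)) (tt N5125 F47304))
theorem Q6127 : ∀ i, i < 6127 → P i := stepQ 6126 Q6126 (allL N6126 (tt N5112 (iv D12013)) (tt N7102 (iv F51228)) (tt N7000 (iv F50817)) (tt N5182 F47305) (tt N5830 F47306) (tt N5474 F47307) (tt N5379 F47308) (tt N5126 F47309) (tt N7142 D13029))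
theorem Q6128 : ∀ i, i < 6128 → P i := stepQ 6127 Q6127 (allL N6127 (tt N7142 (iv F51417)) (tt N5114 F47310) (tt N7001 (iv F50824)) (tt N5183 F47311) (tt N5841 F47312) (tt N5476 F47313) (tt N5393 F47314) (tt N7143 D13030) (tt N5112 (iv D12014)))
theorem Q6129 : ∀ i, i < 6129 → P i := stepQ 6128 Q6128 (allL N6128 (tt N7105 (iv F51242)) (tt N5491 F47315) (tt N5115 F47316) (tt N5583 F47317) (tt N5477 F47318) (tt N5113 (iv D12015)) (tt N5488 F47319) (tt N5129 F47320) (tt N7144 D13031))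
theorem Q6130 : ∀ i, i < 6130 → P i := stepQ 6129 Q6129 (allL N6129 (tt N7106 (iv F51248)) (tt N5841 F47321) (tt N5116 F47322) (tt N5793 F47323) (tt N5114 F47324) (tt N7144 (iv F51431)) (tt N5791 F47325) (tt N7145 D13032) (tt N5113 (iv D12016)))
theorem Q6131 : ∀ i, i < 6131 → P i := stepQ 6130 Q6130 (allL N6130 (tt N7107 (iv F51253)) (tt N7143 (iv F51422)) (tt N5117 F47326) (tt N7139 (iv F51400)) (tt N7145 (iv F51435)) (tt N5479 F47327) (tt N7140 (iv F51410)) (tt N5114 (iv D12017)) (tt N5131 F47328))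
theorem Q6132 : ∀ i, i < 6132 → P i := stepQ 6131 Q6131 (allL N6131 (tt N7108 (iv F51257)) (tt N5331 F47329) (tt N5488 F47330) (tt N6131 F47331) (tt N5480 F47332) (tt N5329 F47333) (tt N5115 (iv D12018)) (tt N5132 F47334) (tt N7146 D13033))
theorem Q6133 : ∀ i, i < 6133 → P i := stepQ 6132 Q6132 (allL N6132 (tt N7109 (iv F51263)) (tt N7004 (iv F50838)) (tt N7144 (iv F51428)) (tt N6132 F47335) (tt N5481 F47336) (tt N5116 F47337) (tt N7146 (iv F51443)) (tt N7147 D13034) (tt N5115 (iv D12019)))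
theorem Q6134 : ∀ i, i < 6134 → P i := stepQ 6133 Q6133 (allL N6133 (tt N7110 (iv F51267)) (tt N7005 (iv F50844)) (tt N7145 (iv F51434)) (tt N7148 D13035) (tt N5117 F47338) (tt N7147 (iv F51445)) (tt N7141 (iv F51415)) (tt N5116 (iv D12020)) (tt N5134 F47339))
theorem Q6135 : ∀ i, i < 6135 → P i := stepQ 6134 Q6134 (allL N6134 (tt N7111 (iv F51270)) (tt N7007 (iv F50853)) (tt N5237 F47340) (tt N6134 F47341) (tt N5119 F47342) (tt N5786 F47343) (tt N5391 F47344) (tt N7149 D13036) (tt N5118 (iv D12021)))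
theorem Q6136 : ∀ i, i < 6136 → P i := stepQ 6135 Q6135 (allL N6135 (tt N7112 (iv F51276)) (tt N7008 (iv F50859)) (tt N5389 F47345) (tt N5131 F47346) (tt N7149 (iv F51451)) (tt N5125 F47347) (tt N5392 F47348) (tt N5119 (iv D12022)) (tt N7139 (iv F51404)))
theorem Q6137 : ∀ i, i < 6137 → P i := stepQ 6136 Q6136 (allL N6136 (tt N5120 (iv D12023)) (tt N7113 (iv F51281)) (tt N7009 (iv F50863)) (tt N5144 F47349) (tt N5827 F47350) (tt N5224 F47351) (tt N5126 F47352) (tt N5379 F47353) (tt N7150 D13037))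
theorem Q6138 : ∀ i, i < 6138 → P i := stepQ 6137 Q6137 (allL N6137 (tt N7150 (iv F51455)) (tt N5122 F47354) (tt N7010 (iv F50870)) (tt N5145 F47355) (tt N5839 F47356) (tt N5239 F47357) (tt N5128 F47358) (tt N7151 D13038) (tt N5120 (iv D12024)))
theorem Q6139 : ∀ i, i < 6139 → P i := stepQ 6138 Q6138 (allL N6138 (tt N7116 (iv F51297)) (tt N5839 F47359) (tt N5124 F47360) (tt N6138 F47361) (tt N5122 F47362) (tt N5787 F47363) (tt N5130 F47364) (tt N7152 D13039) (tt N5121 (iv D12025)))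
theorem Q6140 : ∀ i, i < 6140 → P i := stepQ 6139 Q6139 (allL N6139 (tt N7117 (iv F51303)) (tt N7151 (iv F51460)) (tt N5125 F47365) (tt N5392 F47366) (tt N7152 (iv F51468)) (tt N5389 F47367) (tt N5131 F47368) (tt N5122 (iv D12026)) (tt N7140 (iv F51411)))
theorem Q6141 : ∀ i, i < 6141 → P i := stepQ 6140 Q6140 (allL N6140 (tt N7118 (iv F51308)) (tt N5316 F47369) (tt N5475 F47370) (tt N5135 F47371) (tt N5315 F47372) (tt N5132 F47373) (tt N5123 (iv D12027)) (tt N5329 F47374) (tt N7153 D13040))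
theorem Q6142 : ∀ i, i < 6142 → P i := stepQ 6141 Q6141 (allL N6141 (tt N7119 (iv F51314)) (tt N5501 F47375) (tt N5787 F47376) (tt N5136 F47377) (tt N5786 F47378) (tt N5124 F47379) (tt N7153 (iv F51477)) (tt N7154 D13041) (tt N5123 (iv D12028)))
theorem Q6143 : ∀ i, i < 6143 → P i := stepQ 6142 Q6142 (allL N6142 (tt N7120 (iv F51319)) (tt N7012 (iv F50878)) (tt N7152 (iv F51467)) (tt N7155 D13042) (tt N5125 F47380) (tt N7154 (iv F51481)) (tt N5134 F47381) (tt N5124 (iv D12029)) (tt N7141 (iv F51416)))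
theorem Q6144 : ∀ i, i < 6144 → P i := stepQ 6143 Q6143 (allL N6143 (tt N5127 F47382) (tt N7121 (iv F51323)) (tt N7013 (iv F50884)) (tt N6143 F47383) (tt N5126 (iv D12030)) (tt N7156 D13043) (tt N5827 F47384) (tt N5830 F47385) (tt N7157 D13044))
theorem Q6145 : ∀ i, i < 6145 → P i := stepQ 6144 Q6144 (allL N6144 (tt N5128 F47386) (tt N7122 (iv F51328)) (tt N7014 (iv F50890)) (tt N5146 F47387) (tt N7157 (iv F51494)) (tt N5487 F47388) (tt N7150 (iv F51459)) (tt N7158 D13045) (tt N5126 (iv D12031)))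
theorem Q6146 : ∀ i, i < 6146 → P i := stepQ 6145 Q6145 (allL N6145 (tt N7156 (iv F51486)) (tt N5129 F47389) (tt N5480 F47390) (tt N6145 F47391) (tt N5488 F47392) (tt N5127 (iv D12032)) (tt N5477 F47393) (tt N5491 F47394) (tt N7159 D13046))
theorem Q6147 : ∀ i, i < 6147 → P i := stepQ 6146 Q6146 (allL N6146 (tt N7157 (iv F51492)) (tt N5130 F47395) (tt N7015 (iv F50894)) (tt N6146 F47396) (tt N5128 F47397) (tt N7159 (iv F51502)) (tt N5839 F47398) (tt N7160 D13047) (tt N5127 (iv D12033)))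
theorem Q6148 : ∀ i, i < 6148 → P i := stepQ 6147 Q6147 (allL N6147 (tt N7158 (iv F51496)) (tt N5131 F47399) (tt N7016 (iv F50900)) (tt N7008 (iv F50860)) (tt N7160 (iv F51505)) (tt N5490 F47400) (tt N7151 (iv F51464)) (tt N5128 (iv D12034)) (tt N7143 (iv F51426)))
theorem Q6149 : ∀ i, i < 6149 → P i := stepQ 6148 Q6148 (allL N6148 (tt N7126 (iv F51339)) (tt N5477 F47401) (tt N5132 F47402) (tt N6148 F47403) (tt N5491 F47404) (tt N5475 F47405) (tt N5129 (iv D12035)) (tt N5488 F47406) (tt N7161 D13048))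
theorem Q6150 : ∀ i, i < 6150 → P i := stepQ 6149 Q6149 (allL N6149 (tt N7127 (iv F51345)) (tt N7159 (iv F51498)) (tt N5133 F47407) (tt N6149 F47408) (tt N5492 F47409) (tt N5130 F47410) (tt N7161 (iv F51513)) (tt N7162 D13049) (tt N5129 (iv D12036)))
theorem Q6151 : ∀ i, i < 6151 → P i := stepQ 6150 Q6150 (allL N6150 (tt N7128 (iv F51350)) (tt N7160 (iv F51504)) (tt N5134 F47411) (tt N7163 D13050) (tt N5131 F47412) (tt N7162 (iv F51516)) (tt N7152 (iv F51470)) (tt N5130 (iv D12037)) (tt N7145 (iv F51437)))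
theorem Q6152 : ∀ i, i < 6152 → P i := stepQ 6151 Q6151 (allL N6151 (tt N7129 (iv F51353)) (tt N7020 (iv F50915)) (tt N7161 (iv F51509)) (tt N5138 F47413) (tt N5494 F47414) (tt N7153 (iv F51476)) (tt N5133 F47415) (tt N7164 D13051) (tt N5132 (iv D12038)))
theorem Q6153 : ∀ i, i < 6153 → P i := stepQ 6152 Q6152 (allL N6152 (tt N7130 (iv F51357)) (tt N7021 (iv F50921)) (tt N7162 (iv F51514)) (tt N7165 D13052) (tt N5495 F47416) (tt N5134 F47417) (tt N7164 (iv F51519)) (tt N5133 (iv D12039)) (tt N7147 (iv F51446)))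
theorem Q6154 : ∀ i, i < 6154 → P i := stepQ 6153 Q6153 (allL N6153 (tt N7131 (iv F51360)) (tt N7022 (iv F50924)) (tt N7166 D13053) (tt N5134 (iv D12040)) (tt N5843 F47418) (tt N7165 (iv F51520)) (tt N7155 (iv F51484)) (tt N5140 F47419) (tt N7148 (iv F51449)))
theorem Q6155 : ∀ i, i < 6155 → P i := stepQ 6154 Q6154 (allL N6154 (tt N7132 (iv F51363)) (tt N5594 F47420) (tt N6154 F47421) (tt N7153 (iv F51474)) (tt N6154 F47422) (tt N5138 F47423) (tt N5136 F47424) (tt N5886 (iv F47425)) (tt N5135 (iv D12041)))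
theorem Q6156 : ∀ i, i < 6156 → P i := stepQ 6155 Q6155 (allL N6155 (tt N7133 (iv F51369)) (tt N5591 F47426) (tt N6155 F47427) (tt N7167 D13054) (tt N6155 F47428) (tt N5137 F47429) (tt N5886 F47430) (tt N5136 (iv D12042)) (tt N6155 F47431))
theorem Q6157 : ∀ i, i < 6157 → P i := stepQ 6156 Q6156 (allL N6156 (tt N7134 (iv F51375)) (tt N7023 (iv F50927)) (tt N7168 D13055) (tt N5137 (iv D12043)) (tt N5588 F47432) (tt N7167 (iv F51525)) (tt N5140 F47433) (tt N7155 (iv F51485)) (tt N6156 F47434))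
theorem Q6158 : ∀ i, i < 6158 → P i := stepQ 6157 Q6157 (allL N6157 (tt N7135 (iv F51379)) (tt N5884 F47435) (tt N6157 F47436) (tt N7031 (iv F50970)) (tt N5141 F47437) (tt N5886 F47438) (tt N5139 F47439) (tt N5138 (iv D12044)) (tt N6157 F47440))
theorem Q6159 : ∀ i, i < 6159 → P i := stepQ 6158 Q6158 (allL N6158 (tt N7136 (iv F51385)) (tt N7024 (iv F50933)) (tt N7169 D13056) (tt N5139 (iv D12045)) (tt N7028 (iv F50955)) (tt N5140 F47441) (tt N7031 (iv F50971)) (tt N7165 (iv F51521)) (tt N6158 F47442))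
theorem Q6160 : ∀ i, i < 6160 → P i := stepQ 6159 Q6159 (allL N6159 (tt N7137 (iv F51388)) (tt N7170 D13057) (tt N5140 (iv D12046)) (tt N6159 F47443) (tt N5846 F47444) (tt N7169 (iv F51534)) (tt N7168 (iv F51530)) (tt N7166 (iv F51523)) (tt N6159 F47445))
theorem Q6161 : ∀ i, i < 6161 → P i := stepQ 6160 Q6160 (allL N6160 (tt N5145 F47446) (tt N7138 (iv F51393)) (tt N5147 F47447) (tt N7150 (iv F51456)) (tt N6160 F47448) (tt N5225 F47449) (tt N5146 F47450) (tt N5287 F47451) (tt N5144 (iv D12047)))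
theorem Q6162 : ∀ i, i < 6162 → P i := stepQ 6161 Q6161 (allL N6161 (tt N6161 F47452) (tt N7033 (iv F50981)) (tt N5152 F47453) (tt N6738 F49750) (tt N5148 (iv D12048)) (tt N6161 F47454) (tt N5509 F47455) (tt N6740 (iv F49763)) (tt N5162 F47456))
theorem Q6163 : ∀ i, i < 6163 → P i := stepQ 6162 Q6162 (allL N6162 (tt N6162 F47457) (tt N7034 (iv F50986)) (tt N5153 F47458) (tt N7171 D13058) (tt N6740 F49764) (tt N5149 F47459) (tt N5506 F47460) (tt N5148 (iv D12049)) (tt N7172 D13059))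
theorem Q6164 : ∀ i, i < 6164 → P i := stepQ 6163 Q6163 (allL N6163 (tt N6163 F47461) (tt N7035 (iv F50990)) (tt N7173 D13060) (tt N5149 (iv D12050)) (tt N7174 D13061) (tt N7171 (iv F51544)) (tt N5150 F47462) (tt N6530 (iv F48877)) (tt N7175 D13062))
theorem Q6165 : ∀ i, i < 6165 → P i := stepQ 6164 Q6164 (allL N6164 (tt N6164 F47463) (tt N7036 (iv F50992)) (tt N5155 F47464) (tt N7175 (iv F51560)) (tt N6164 F47465) (tt N7172 (iv F51548)) (tt N5151 F47466) (tt N5517 F47467) (tt N5149 (iv D12051)))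
theorem Q6166 : ∀ i, i < 6166 → P i := stepQ 6165 Q6165 (allL N6165 (tt N6165 F47468) (tt N7176 D13063) (tt N5150 (iv D12052)) (tt N5156 F47469) (tt N7177 D13064) (tt N5513 F47470) (tt N7173 (iv F51554)) (tt N6532 (iv F48886)) (tt N7178 D13065))
theorem Q6167 : ∀ i, i < 6167 → P i := stepQ 6166 Q6166 (allL N6166 (tt N6166 F47471) (tt N7038 (iv F50999)) (tt N7177 (iv F51565)) (tt N6166 F47472) (tt N5150 (iv D12053)) (tt N7179 D13066) (tt N7174 (iv F51558)) (tt N6533 (iv F48889)) (tt N7180 D13067))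
theorem Q6168 : ∀ i, i < 6168 → P i := stepQ 6167 Q6167 (allL N6167 (tt N6167 F47473) (tt N7039 (iv F51001)) (tt N7178 (iv F51570)) (tt N5151 F47474) (tt N7180 (iv F51580)) (tt N5515 F47475) (tt N7175 (iv F51561)) (tt N7181 D13068) (tt N5150 (iv D12054)))
theorem Q6169 : ∀ i, i < 6169 → P i := stepQ 6168 Q6168 (allL N6168 (tt N6168 F47476) (tt N5166 F47477) (tt N6740 (iv F49760)) (tt N5185 F47478) (tt N5153 F47479) (tt N6168 F47480) (tt N5507 F47481) (tt N5152 (iv D12055)) (tt N7182 D13069))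
theorem Q6170 : ∀ i, i < 6170 → P i := stepQ 6169 Q6169 (allL N6169 (tt N6169 F47482) (tt N5167 F47483) (tt N7172 (iv F51547)) (tt N5505 F47484) (tt N7182 (iv F51587)) (tt N5155 F47485) (tt N5508 F47486) (tt N5158 F47487) (tt N5153 (iv D12056)))
theorem Q6171 : ∀ i, i < 6171 → P i := stepQ 6170 Q6170 (allL N6170 (tt N6170 F47488) (tt N7183 D13070) (tt N5154 (iv D12057)) (tt N7173 (iv F51552)) (tt N7184 D13071) (tt N5502 F47489) (tt N5156 F47490) (tt N5159 F47491) (tt N7185 D13072))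
theorem Q6172 : ∀ i, i < 6172 → P i := stepQ 6171 Q6171 (allL N6171 (tt N6171 F47492) (tt N5169 F47493) (tt N7184 (iv F51599)) (tt N6171 F47494) (tt N5154 (iv D12058)) (tt N5188 F47495) (tt N5157 F47496) (tt N5160 F47497) (tt N7186 D13073))
theorem Q6173 : ∀ i, i < 6173 → P i := stepQ 6172 Q6172 (allL N6172 (tt N6172 F47498) (tt N5170 F47499) (tt N7185 (iv F51604)) (tt N5155 F47500) (tt N7186 (iv F51611)) (tt N5505 F47501) (tt N5158 F47502) (tt N5508 F47503) (tt N5154 (iv D12059)))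
theorem Q6174 : ∀ i, i < 6174 → P i := stepQ 6173 Q6173 (allL N6173 (tt N7187 D13074) (tt N5156 (iv D12060)) (tt N5171 F47504) (tt N7176 (iv F51562)) (tt N7188 D13075) (tt N5516 F47505) (tt N7183 (iv F51593)) (tt N5161 F47506) (tt N7189 D13076))
theorem Q6175 : ∀ i, i < 6175 → P i := stepQ 6174 Q6174 (allL N6174 (tt N6174 F47507) (tt N7188 (iv F51622)) (tt N5157 F47508) (tt N7190 D13077) (tt N5156 (iv D12061)) (tt N6174 F47509) (tt N7184 (iv F51601)) (tt N5162 F47510) (tt N7191 D13078))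
theorem Q6176 : ∀ i, i < 6176 → P i := stepQ 6175 Q6175 (allL N6175 (tt N6175 F47511) (tt N7189 (iv F51627)) (tt N5158 F47512) (tt N7178 (iv F51571)) (tt N7191 (iv F51637)) (tt N5517 F47513) (tt N7185 (iv F51606)) (tt N7172 (iv F51550)) (tt N5156 (iv D12062)))
theorem Q6177 : ∀ i, i < 6177 → P i := stepQ 6176 Q6176 (allL N6176 (tt N6176 F47514) (tt N5174 F47515) (tt N7191 (iv F51636)) (tt N6176 F47516) (tt N5158 F47517) (tt N6176 F47518) (tt N7186 (iv F51613)) (tt N7182 (iv F51590)) (tt N5157 (iv D12063)))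
theorem Q6178 : ∀ i, i < 6178 → P i := stepQ 6177 Q6177 (allL N6177 (tt N5641 (iv F47524)) (tt N5159 (iv D12064)) (tt N5175 F47519) (tt N6036 F47520) (tt N5597 (iv F47525)) (tt N5350 F47521) (tt N5161 F47522) (tt N7183 (iv F51594)) (tt N5398 F47523))
theorem Q6179 : ∀ i, i < 6179 → P i := stepQ 6178 Q6178 (allL N6178 (tt N6178 F47526) (tt N5597 F47527) (tt N5160 F47528) (tt N6739 F49758) (tt N5159 (iv D12065)) (tt N5595 F47529) (tt N5162 F47530) (tt N7184 (iv F51602)) (tt N5509 F47531))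
theorem Q6180 : ∀ i, i < 6180 → P i := stepQ 6179 Q6179 (allL N6179 (tt N5161 (iv D12066)) (tt N6179 F47532) (tt N5176 F47533) (tt N6254 (iv F47908)) (tt N5645 (iv F47536)) (tt N5518 F47534) (tt N5641 F47535) (tt N7187 (iv F51619)) (tt N6654 (iv F49419)))
theorem Q6181 : ∀ i, i < 6181 → P i := stepQ 6180 Q6180 (allL N6180 (tt N5645 F47537) (tt N5162 F47538) (tt N5177 F47539) (tt N7192 D13079) (tt N5161 (iv D12067)) (tt N6180 F47540) (tt N5597 F47541) (tt N7188 (iv F51626)) (tt N7033 (iv F50985)))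
theorem Q6182 : ∀ i, i < 6182 → P i := stepQ 6181 Q6181 (allL N6181 (tt N6181 F47542) (tt N7192 (iv F51640)) (tt N5164 F47543) (tt N5162 (iv D12068)) (tt N5741 F47544) (tt N6181 F47545) (tt N6739 (iv F49756)) (tt N5738 (iv F47546)) (tt N6738 (iv F49749)))
theorem Q6183 : ∀ i, i < 6183 → P i := stepQ 6182 Q6182 (allL N6182 (tt N5179 F47547) (tt N7182 (iv F51585)) (tt N7096 (iv F51194)) (tt N5190 F47548) (tt N5167 F47549) (tt N6182 F47550) (tt N5510 F47551) (tt N5174 F47552) (tt N5166 (iv D12069)))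
theorem Q6184 : ∀ i, i < 6184 → P i := stepQ 6183 Q6183 (allL N6183 (tt N5363 F47553) (tt N5168 (iv D12070)) (tt N7183 (iv F51591)) (tt N7098 (iv F51207)) (tt N5219 F47554) (tt N5215 F47555) (tt N5171 F47556) (tt N5175 F47557) (tt N7193 D13080))
theorem Q6185 : ∀ i, i < 6185 → P i := stepQ 6184 Q6184 (allL N6184 (tt N5180 F47558) (tt N7193 (iv F51647)) (tt N5170 F47559) (tt N7099 (iv F51214)) (tt N5230 F47560) (tt N5229 F47561) (tt N5173 F47562) (tt N5441 F47563) (tt N5168 (iv D12071)))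
theorem Q6186 : ∀ i, i < 6186 → P i := stepQ 6185 Q6185 (allL N6185 (tt N5181 F47564) (tt N7186 (iv F51609)) (tt N5230 F47565) (tt N6185 F47566) (tt N5170 F47567) (tt N5191 F47568) (tt N5174 F47569) (tt N5510 F47570) (tt N5169 (iv D12072)))
theorem Q6187 : ∀ i, i < 6187 → P i := stepQ 6186 Q6186 (allL N6186 (tt N5171 (iv D12073)) (tt N5182 F47571) (tt N7187 (iv F51616)) (tt N7102 (iv F51229)) (tt N5370 (iv F47575)) (tt N5519 F47572) (tt N5363 F47573) (tt N5176 F47574) (tt N7194 D13081))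
theorem Q6188 : ∀ i, i < 6188 → P i := stepQ 6187 Q6187 (allL N6187 (tt N5370 F47576) (tt N5172 F47577) (tt N7188 (iv F51623)) (tt N5766 (iv F47581)) (tt N5171 (iv D12074)) (tt N6187 F47578) (tt N5219 F47579) (tt N5177 F47580) (tt N7195 D13082))
theorem Q6189 : ∀ i, i < 6189 → P i := stepQ 6188 Q6188 (allL N6188 (tt N7194 (iv F51652)) (tt N5173 F47582) (tt N7189 (iv F51628)) (tt N7104 (iv F51240)) (tt N7195 (iv F51660)) (tt N5520 F47583) (tt N7193 (iv F51650)) (tt N7042 (iv F51018)) (tt N5171 (iv D12075)))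
theorem Q6190 : ∀ i, i < 6190 → P i := stepQ 6189 Q6189 (allL N6189 (tt N5184 F47584) (tt N7195 (iv F51658)) (tt N5174 F47585) (tt N5781 F47586) (tt N5173 F47587) (tt N6189 F47588) (tt N5230 F47589) (tt N7096 (iv F51199)) (tt N5172 (iv D12076)))
theorem Q6191 : ∀ i, i < 6191 → P i := stepQ 6190 Q6190 (allL N6190 (tt N5183 F47590) (tt N7194 (iv F51653)) (tt N6190 F47591) (tt N7142 (iv F51418)) (tt N5383 F47592) (tt N5521 F47593) (tt N5382 F47594) (tt N6954 (iv F50603)) (tt N5182 (iv D12077)))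
theorem Q6192 : ∀ i, i < 6192 → P i := stepQ 6191 Q6191 (allL N6191 (tt N6191 F47595) (tt N5190 F47596) (tt N5892 F47597) (tt N7182 (iv F51586)) (tt N5186 F47598) (tt N6191 F47599) (tt N5706 F47600) (tt N6191 F47601) (tt N5185 (iv D12078)))
theorem Q6193 : ∀ i, i < 6193 → P i := stepQ 6192 Q6192 (allL N6192 (tt N6192 F47602) (tt N5217 F47603) (tt N5188 F47604) (tt N6591 (iv F49124)) (tt N5187 (iv D12079)) (tt N7184 (iv F51600)) (tt N6192 F47605) (tt N5595 F47606) (tt N6592 (iv F49131)))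
theorem Q6194 : ∀ i, i < 6194 → P i := stepQ 6193 Q6193 (allL N6193 (tt N6193 F47607) (tt N5218 F47608) (tt N5189 F47609) (tt N5896 F47610) (tt N6592 F49133) (tt N5701 F47611) (tt N6193 F47612) (tt N5708 F47613) (tt N5187 (iv D12080)))
theorem Q6195 : ∀ i, i < 6195 → P i := stepQ 6194 Q6194 (allL N6194 (tt N6194 F47614) (tt N5191 F47615) (tt N6592 F49132) (tt N6194 F47616) (tt N5189 F47617) (tt N7186 (iv F51612)) (tt N6194 F47618) (tt N5714 F47619) (tt N5188 (iv D12081)))
theorem Q6196 : ∀ i, i < 6196 → P i := stepQ 6195 Q6195 (allL N6195 (tt N5198 F47620) (tt N6701 (iv F49585)) (tt N5192 (iv D12082)) (tt N5440 F47621) (tt N5232 F47622) (tt N5601 F47623) (tt N5194 F47624) (tt N6195 F47625) (tt N7196 D13083))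
theorem Q6197 : ∀ i, i < 6197 → P i := stepQ 6196 Q6196 (allL N6196 (tt N5199 F47626) (tt N5907 F47627) (tt N7196 (iv F51664)) (tt N5193 F47628) (tt N5233 F47629) (tt N6507 (iv F48809)) (tt N5195 F47630) (tt N7197 D13084) (tt N5192 (iv D12083)))
theorem Q6198 : ∀ i, i < 6198 → P i := stepQ 6197 Q6197 (allL N6197 (tt N7198 D13085) (tt N5194 (iv D12084)) (tt N5908 F47631) (tt N7040 F51009) (tt N5234 F47632) (tt N6197 F47633) (tt N6701 (iv F49589)) (tt N6197 F47634) (tt N7199 D13086))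
theorem Q6199 : ∀ i, i < 6199 → P i := stepQ 6198 Q6198 (allL N6198 (tt N5201 F47635) (tt N7199 (iv F51685)) (tt N5195 F47636) (tt N7096 (iv F51195)) (tt N5235 F47637) (tt N6198 F47638) (tt N7196 (iv F51668)) (tt N7200 D13087) (tt N5194 (iv D12085)))
theorem Q6200 : ∀ i, i < 6200 → P i := stepQ 6199 Q6199 (allL N6199 (tt N5202 F47639) (tt N5910 F47640) (tt N7200 (iv F51690)) (tt N6199 F47641) (tt N5236 F47642) (tt N6199 F47643) (tt N7197 (iv F51676)) (tt N5195 (iv D12086)) (tt N6199 F47644))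
theorem Q6201 : ∀ i, i < 6201 → P i := stepQ 6200 Q6200 (allL N6200 (tt N6507 (iv F48805)) (tt N5203 F47645) (tt N5245 F47646) (tt N5197 F47647) (tt N5344 F47648) (tt N5199 F47649) (tt N6200 F47650) (tt N5798 (iv F47651)) (tt N5196 (iv D12087)))
theorem Q6202 : ∀ i, i < 6202 → P i := stepQ 6201 Q6201 (allL N6201 (tt N7196 (iv F51663)) (tt N5396 F47652) (tt N5199 F47653) (tt N5244 F47654) (tt N5246 F47655) (tt N5245 F47656) (tt N5201 F47657) (tt N5797 (iv F47658)) (tt N5198 (iv D12088)))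
theorem Q6203 : ∀ i, i < 6203 → P i := stepQ 6202 Q6202 (allL N6202 (tt N7197 (iv F51670)) (tt N5204 F47659) (tt N5797 F47660) (tt N6202 F47661) (tt N5247 F47662) (tt N5798 F47663) (tt N5202 F47664) (tt N5199 (iv D12089)) (tt N6202 F47665))
theorem Q6204 : ∀ i, i < 6204 → P i := stepQ 6203 Q6203 (allL N6203 (tt N5200 (iv D12090)) (tt N7198 (iv F51678)) (tt N5205 F47666) (tt N5652 F47667) (tt N5248 F47668) (tt N6203 F47669) (tt N5653 F47670) (tt N6203 F47671) (tt N7201 D13088))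
theorem Q6205 : ∀ i, i < 6205 → P i := stepQ 6204 Q6204 (allL N6204 (tt N7201 (iv F51696)) (tt N5201 F47672) (tt N5206 F47673) (tt N5395 F47674) (tt N5249 F47675) (tt N6204 F47676) (tt N5396 F47677) (tt N5847 (iv F47678)) (tt N5200 (iv D12091)))
theorem Q6206 : ∀ i, i < 6206 → P i := stepQ 6205 Q6205 (allL N6205 (tt N7200 (iv F51689)) (tt N5847 F47679) (tt N5202 F47680) (tt N5796 F47681) (tt N5250 F47682) (tt N6205 F47683) (tt N5797 F47684) (tt N5201 (iv D12092)) (tt N6205 F47685))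
theorem Q6207 : ∀ i, i < 6207 → P i := stepQ 6206 Q6206 (allL N6206 (tt N5923 F47686) (tt N5798 F47687) (tt N5850 F47688) (tt N6206 F47689) (tt N6857 (iv F50148)) (tt N5204 F47690) (tt N6206 F47691) (tt N5203 (iv D12093)) (tt N6206 F47692))
theorem Q6208 : ∀ i, i < 6208 → P i := stepQ 6207 Q6207 (allL N6207 (tt N5206 F47693) (tt N5927 F47694) (tt N7201 (iv F51697)) (tt N6207 F47695) (tt N5251 F47696) (tt N6207 F47697) (tt N6988 (iv F50761)) (tt N7202 D13089) (tt N5205 (iv D12094)))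
theorem Q6209 : ∀ i, i < 6209 → P i := stepQ 6208 Q6208 (allL N6208 (tt N7202 (iv F51703)) (tt N5207 F47698) (tt N5847 F47699) (tt N5887 (iv F47704)) (tt N5252 F47700) (tt N6208 F47701) (tt N5848 F47702) (tt N5206 (iv D12095)) (tt N6208 F47703))
theorem Q6210 : ∀ i, i < 6210 → P i := stepQ 6209 Q6209 (allL N6209 (tt N5929 F47705) (tt N5887 F47706) (tt N6209 F47707) (tt N5207 (iv D12096)) (tt N6899 (iv F50337)) (tt N6209 F47708) (tt N5889 F47709) (tt N6209 F47710) (tt N6209 F47711))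
theorem Q6211 : ∀ i, i < 6211 → P i := stepQ 6210 Q6210 (allL N6210 (tt N5351 F47712) (tt N6210 F47713) (tt N5209 F47714) (tt N7203 D13090) (tt N5359 F47715) (tt N5751 F47716) (tt N5361 F47717) (tt N5208 (iv D12097)) (tt N7204 D13091))
theorem Q6212 : ∀ i, i < 6212 → P i := stepQ 6211 Q6211 (allL N6211 (tt N5352 F47718) (tt N5222 F47719) (tt N7205 D13092) (tt N5209 (iv D12098)) (tt N5354 F47720) (tt N5752 F47721) (tt N5357 F47722) (tt N5211 F47723) (tt N7206 D13093))
theorem Q6213 : ∀ i, i < 6213 → P i := stepQ 6212 Q6212 (allL N6212 (tt N5353 F47724) (tt N5223 F47725) (tt N7204 (iv F51719)) (tt N7206 (iv F51731)) (tt N5360 F47726) (tt N5753 F47727) (tt N5364 F47728) (tt N5258 F47729) (tt N5209 (iv D12099)))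
theorem Q6214 : ∀ i, i < 6214 → P i := stepQ 6213 Q6213 (allL N6213 (tt N5354 F47730) (tt N5224 F47731) (tt N7207 D13094) (tt N5210 (iv D12100)) (tt N5352 F47732) (tt N7113 (iv F51283)) (tt N5211 F47733) (tt N5357 F47734) (tt N7208 D13095))
theorem Q6215 : ∀ i, i < 6215 → P i := stepQ 6214 Q6214 (allL N6214 (tt N5355 F47735) (tt N5225 F47736) (tt N5937 F47737) (tt N7208 (iv F51742)) (tt N5213 F47738) (tt N7138 (iv F51396)) (tt N5212 F47739) (tt N5261 F47740) (tt N5210 (iv D12101)))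
theorem Q6216 : ∀ i, i < 6216 → P i := stepQ 6215 Q6215 (allL N6215 (tt N5356 F47741) (tt N7209 D13096) (tt N5211 (iv D12102)) (tt N5938 F47742) (tt N7210 D13097) (tt N5754 F47743) (tt N7207 (iv F51738)) (tt N7205 (iv F51728)) (tt N7211 D13098))
theorem Q6217 : ∀ i, i < 6217 → P i := stepQ 6216 Q6216 (allL N6216 (tt N5357 F47744) (tt N5227 F47745) (tt N7210 (iv F51749)) (tt N5215 F47746) (tt N5211 (iv D12103)) (tt N7098 (iv F51209)) (tt N5352 F47747) (tt N5354 F47748) (tt N7212 D13099))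
theorem Q6218 : ∀ i, i < 6218 → P i := stepQ 6217 Q6217 (allL N6217 (tt N5358 F47749) (tt N5228 F47750) (tt N7211 (iv F51753)) (tt N5212 F47751) (tt N7212 (iv F51759)) (tt N5756 F47752) (tt N7208 (iv F51744)) (tt N7213 D13100) (tt N5211 (iv D12104)))
theorem Q6219 : ∀ i, i < 6219 → P i := stepQ 6218 Q6218 (allL N6218 (tt N5361 F47753) (tt N5502 F47754) (tt N5215 F47755) (tt N7214 D13101) (tt N5214 (iv D12105)) (tt N7183 (iv F51592)) (tt N5351 F47756) (tt N5350 F47757) (tt N7215 D13102))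
theorem Q6220 : ∀ i, i < 6220 → P i := stepQ 6219 Q6219 (allL N6219 (tt N5362 F47758) (tt N5701 F47759) (tt N5216 F47760) (tt N5944 F47761) (tt N7215 (iv F51773)) (tt N5218 F47762) (tt N5639 F47763) (tt N5656 F47764) (tt N5214 (iv D12106)))
theorem Q6221 : ∀ i, i < 6221 → P i := stepQ 6220 Q6220 (allL N6220 (tt N5364 F47765) (tt N5229 F47766) (tt N7215 (iv F51772)) (tt N7212 (iv F51758)) (tt N5216 F47767) (tt N7193 (iv F51649)) (tt N5353 F47768) (tt N5405 F47769) (tt N5215 (iv D12107)))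
theorem Q6222 : ∀ i, i < 6222 → P i := stepQ 6221 Q6221 (allL N6221 (tt N5366 F47770) (tt N6591 (iv F49122)) (tt N5762 F47771) (tt N5217 (iv D12108)) (tt N5948 F47772) (tt N7216 D13103) (tt N6221 F47773) (tt N6468 F48656) (tt N6469 (iv F48660)))
theorem Q6223 : ∀ i, i < 6223 → P i := stepQ 6222 Q6222 (allL N6222 (tt N5367 F47774) (tt N7184 (iv F51598)) (tt N5219 F47775) (tt N7216 (iv F51778)) (tt N7183 F51596) (tt N5217 (iv D12109)) (tt N7188 (iv F51625)) (tt N5597 F47776) (tt N7217 D13104))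
theorem Q6224 : ∀ i, i < 6224 → P i := stepQ 6223 Q6223 (allL N6223 (tt N5368 F47777) (tt N6592 (iv F49128)) (tt N5220 F47778) (tt N6469 F48661) (tt N5218 F47779) (tt N7217 (iv F51781)) (tt N6223 F47780) (tt N6472 (iv F48673)) (tt N5217 (iv D12110)))
theorem Q6225 : ∀ i, i < 6225 → P i := stepQ 6224 Q6224 (allL N6224 (tt N5369 F47781) (tt N5708 F47782) (tt N5221 F47783) (tt N6473 (iv F48680)) (tt N6472 F48676) (tt N5656 F47784) (tt N6224 F47785) (tt N5218 (iv D12111)) (tt N5599 F47786))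
theorem Q6226 : ∀ i, i < 6226 → P i := stepQ 6225 Q6225 (allL N6225 (tt N5371 F47787) (tt N5230 F47788) (tt N7217 (iv F51780)) (tt N5767 F47789) (tt N7193 (iv F51648)) (tt N5220 F47790) (tt N7195 (iv F51662)) (tt N7218 D13105) (tt N5219 (iv D12112)))
theorem Q6227 : ∀ i, i < 6227 → P i := stepQ 6226 Q6226 (allL N6226 (tt N5372 F47791) (tt N5231 F47792) (tt N6472 F48675) (tt N6476 (iv F48691)) (tt N5221 F47793) (tt N7218 (iv F51785)) (tt N6226 F47794) (tt N5220 (iv D12113)) (tt N5600 F47795))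
theorem Q6228 : ∀ i, i < 6228 → P i := stepQ 6227 Q6227 (allL N6227 (tt N5237 F47796) (tt N7206 (iv F51730)) (tt N7111 (iv F51271)) (tt N5223 F47797) (tt N5375 F47798) (tt N5771 F47799) (tt N5380 F47800) (tt N7219 D13106) (tt N5222 (iv D12114)))
theorem Q6229 : ∀ i, i < 6229 → P i := stepQ 6228 Q6228 (allL N6228 (tt N5238 F47801) (tt N7220 D13107) (tt N5224 (iv D12115)) (tt N5232 F47802) (tt N5373 F47803) (tt N7009 (iv F50866)) (tt N5226 F47804) (tt N5377 F47805) (tt N7221 D13108))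
theorem Q6230 : ∀ i, i < 6230 → P i := stepQ 6229 Q6229 (allL N6229 (tt N5239 F47806) (tt N7208 (iv F51741)) (tt N7221 (iv F51798)) (tt N5225 F47807) (tt N5374 F47808) (tt N7150 (iv F51458)) (tt N5228 F47809) (tt N7222 D13109) (tt N5224 (iv D12116)))
theorem Q6231 : ∀ i, i < 6231 → P i := stepQ 6230 Q6230 (allL N6230 (tt N7223 D13110) (tt N5226 (iv D12117)) (tt N7209 (iv F51745)) (tt N5234 F47810) (tt N7041 (iv F51011)) (tt N5772 F47811) (tt N7220 (iv F51795)) (tt N7053 (iv F51053)) (tt N7224 D13111))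
theorem Q6232 : ∀ i, i < 6232 → P i := stepQ 6231 Q6231 (allL N6231 (tt N5241 F47812) (tt N7224 (iv F51810)) (tt N5228 F47813) (tt N5235 F47814) (tt N7097 (iv F51203)) (tt N5774 F47815) (tt N7221 (iv F51801)) (tt N7225 D13112) (tt N5226 (iv D12118)))
theorem Q6233 : ∀ i, i < 6233 → P i := stepQ 6232 Q6232 (allL N6232 (tt N5242 F47816) (tt N7212 (iv F51757)) (tt N7097 (iv F51201)) (tt N5229 F47817) (tt N5228 F47818) (tt N7099 (iv F51216)) (tt N5374 F47819) (tt N7226 D13113) (tt N5227 (iv D12119)))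
theorem Q6234 : ∀ i, i < 6234 → P i := stepQ 6233 Q6233 (allL N6233 (tt N5243 F47820) (tt N7213 (iv F51762)) (tt N7225 (iv F51814)) (tt N5296 F47821) (tt N7226 (iv F51818)) (tt N5777 F47822) (tt N7222 (iv F51805)) (tt N5228 (iv D12120)) (tt N7219 (iv F51792)))
theorem Q6235 : ∀ i, i < 6235 → P i := stepQ 6234 Q6234 (allL N6234 (tt N5244 F47823) (tt N7218 (iv F51783)) (tt N5510 F47824) (tt N7196 (iv F51665)) (tt N5441 F47825) (tt N5231 F47826) (tt N7096 (iv F51198)) (tt N5230 (iv D12121)) (tt N5440 F47827))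
theorem Q6236 : ∀ i, i < 6236 → P i := stepQ 6235 Q6235 (allL N6235 (tt N5245 F47828) (tt N6476 F48695) (tt N6507 (iv F48806)) (tt N5231 (iv D12122)) (tt N5304 F47829) (tt N7196 (iv F51667)) (tt N6235 F47830) (tt N5783 F47831) (tt N5601 F47832))
theorem Q6237 : ∀ i, i < 6237 → P i := stepQ 6236 Q6236 (allL N6236 (tt N6986 (iv F50744)) (tt N5232 (iv D12123)) (tt N5983 F47833) (tt N7220 (iv F51793)) (tt N6701 (iv F49587)) (tt N6990 (iv F50773)) (tt N5234 F47834) (tt N6236 F47835) (tt N7227 D13114))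
theorem Q6238 : ∀ i, i < 6238 → P i := stepQ 6237 Q6237 (allL N6237 (tt N5246 F47836) (tt N7227 (iv F51821)) (tt N5233 F47837) (tt N7221 (iv F51799)) (tt N7196 (iv F51666)) (tt N7027 (iv F50952)) (tt N5235 F47838) (tt N7228 D13115) (tt N5232 (iv D12124)))
theorem Q6239 : ∀ i, i < 6239 → P i := stepQ 6238 Q6238 (allL N6238 (tt N5247 F47839) (tt N5985 F47840) (tt N7228 (iv F51825)) (tt N5307 F47841) (tt N7197 (iv F51674)) (tt N7032 (iv F50977)) (tt N5236 F47842) (tt N5233 (iv D12125)) (tt N6238 F47843))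
theorem Q6240 : ∀ i, i < 6240 → P i := stepQ 6239 Q6239 (allL N6239 (tt N5234 (iv D12126)) (tt N5248 F47844) (tt N5986 F47845) (tt N7223 (iv F51808)) (tt N7198 (iv F51681)) (tt N5305 F47846) (tt N6986 (iv F50747)) (tt N6239 F47847) (tt N7229 D13116))
theorem Q6241 : ∀ i, i < 6241 → P i := stepQ 6240 Q6240 (allL N6240 (tt N7229 (iv F51829)) (tt N5235 F47848) (tt N5987 F47849) (tt N7224 (iv F51811)) (tt N7199 (iv F51687)) (tt N5784 F47850) (tt N7227 (iv F51823)) (tt N7230 D13117) (tt N5234 (iv D12127)))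
theorem Q6242 : ∀ i, i < 6242 → P i := stepQ 6241 Q6241 (allL N6241 (tt N5250 F47851) (tt N7230 (iv F51833)) (tt N5236 F47852) (tt N7231 D13118) (tt N7200 (iv F51692)) (tt N5785 F47853) (tt N7228 (iv F51827)) (tt N5235 (iv D12128)) (tt N6241 F47854))
theorem Q6243 : ∀ i, i < 6243 → P i := stepQ 6242 Q6242 (allL N6242 (tt N7219 (iv F51787)) (tt N5388 F47855) (tt N7149 (iv F51450)) (tt N5320 F47856) (tt N5389 F47857) (tt N5788 F47858) (tt N5394 F47859) (tt N5237 (iv D12129)) (tt N5243 F47860))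
theorem Q6244 : ∀ i, i < 6244 → P i := stepQ 6243 Q6243 (allL N6243 (tt N7221 (iv F51797)) (tt N7006 (iv F50847)) (tt N5239 F47861) (tt N5246 F47862) (tt N5387 F47863) (tt N7010 (iv F50873)) (tt N5241 F47864) (tt N7232 D13119) (tt N5238 (iv D12130)))
theorem Q6245 : ∀ i, i < 6245 → P i := stepQ 6244 Q6244 (allL N6244 (tt N7222 (iv F51802)) (tt N5389 F47865) (tt N7232 (iv F51841)) (tt N5327 F47866) (tt N5388 F47867) (tt N7151 (iv F51463)) (tt N5243 F47868) (tt N5239 (iv D12131)) (tt N5394 F47869))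
theorem Q6246 : ∀ i, i < 6246 → P i := stepQ 6245 Q6245 (allL N6245 (tt N5240 (iv D12132)) (tt N7223 (iv F51807)) (tt N5286 F47870) (tt N5248 F47871) (tt N6953 (iv F50593)) (tt N5288 F47872) (tt N6964 (iv F50648)) (tt N6965 (iv F50656)) (tt N7233 D13120))
theorem Q6247 : ∀ i, i < 6247 → P i := stepQ 6246 Q6246 (allL N6246 (tt N7233 (iv F51845)) (tt N5241 F47873) (tt N5322 F47874) (tt N5249 F47875) (tt N6996 (iv F50798)) (tt N5324 F47876) (tt N7006 (iv F50852)) (tt N7234 D13121) (tt N5240 (iv D12133)))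
theorem Q6248 : ∀ i, i < 6248 → P i := stepQ 6247 Q6247 (allL N6247 (tt N7225 (iv F51813)) (tt N7234 (iv F51849)) (tt N5243 F47877) (tt N7235 D13122) (tt N7139 (iv F51401)) (tt N5790 F47878) (tt N7232 (iv F51843)) (tt N5241 (iv D12134)) (tt N7149 (iv F51454)))
theorem Q6249 : ∀ i, i < 6249 → P i := stepQ 6248 Q6248 (allL N6248 (tt N7226 (iv F51816)) (tt N5394 F47879) (tt N7139 (iv F51399)) (tt N5473 F47880) (tt N5243 F47881) (tt N7140 (iv F51409)) (tt N5388 F47882) (tt N5242 (iv D12135)) (tt N5389 F47883))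
theorem Q6250 : ∀ i, i < 6250 → P i := stepQ 6249 Q6249 (allL N6249 (tt N7228 (iv F51824)) (tt N5849 F47884) (tt N5247 F47885) (tt N7236 D13123) (tt N5797 F47886) (tt N7026 (iv F50945)) (tt N5250 F47887) (tt N5246 (iv D12136)) (tt N6249 F47888))
theorem Q6251 : ∀ i, i < 6251 → P i := stepQ 6250 Q6250 (allL N6250 (tt N5249 F47889) (tt N7229 (iv F51830)) (tt N5251 F47890) (tt N7233 (iv F51847)) (tt N7201 (iv F51699)) (tt N5306 F47891) (tt N6987 (iv F50753)) (tt N7237 D13124) (tt N5248 (iv D12137)))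
theorem Q6252 : ∀ i, i < 6252 → P i := stepQ 6251 Q6251 (allL N6251 (tt N7237 (iv F51860)) (tt N5250 F47892) (tt N5252 F47893) (tt N7238 D13125) (tt N5847 F47894) (tt N5345 F47895) (tt N5849 F47896) (tt N5249 (iv D12138)) (tt N6251 F47897))
theorem Q6253 : ∀ i, i < 6253 → P i := stepQ 6252 Q6252 (allL N6252 (tt N7231 (iv F51837)) (tt N7238 (iv F51866)) (tt N5348 F47898) (tt N5250 (iv D12139)) (tt N7239 D13126) (tt N5799 F47899) (tt N7236 (iv F51858)) (tt N7235 (iv F51854)) (tt N6252 F47900))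
theorem Q6254 : ∀ i, i < 6254 → P i := stepQ 6253 Q6253 (allL N6253 (tt N5252 F47901) (tt N6035 F47902) (tt N7237 (iv F51861)) (tt N7032 (iv F50976)) (tt N7202 (iv F51706)) (tt N5307 F47903) (tt N6989 (iv F50768)) (tt N5251 (iv D12140)) (tt N6253 F47904))
theorem Q6255 : ∀ i, i < 6255 → P i := stepQ 6254 Q6254 (allL N6254 (tt N5398 F47905) (tt N6254 F47906) (tt N5255 F47907) (tt N6179 F47908) (tt N5646 F47909) (tt N5253 (iv D12141)) (tt N6654 (iv F49418)) (tt N7240 D13127) (tt N5641 F47910))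
theorem Q6256 : ∀ i, i < 6256 → P i := stepQ 6255 Q6255 (allL N6255 (tt N5399 F47911) (tt N6255 F47912) (tt N5256 F47913) (tt N7241 D13128) (tt N5602 F47914) (tt N7240 (iv F51880)) (tt N5254 F47915) (tt N5253 (iv D12142)) (tt N7242 D13129))
theorem Q6257 : ∀ i, i < 6257 → P i := stepQ 6256 Q6256 (allL N6256 (tt N5400 F47916) (tt N6256 F47917) (tt N7243 D13130) (tt N5254 (iv D12143)) (tt N7244 D13131) (tt N6920 (iv F50465)) (tt N7241 (iv F51883)) (tt N6742 (iv F49770)) (tt N7245 D13132))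
theorem Q6258 : ∀ i, i < 6258 → P i := stepQ 6257 Q6257 (allL N6257 (tt N5401 F47918) (tt N6257 F47919) (tt N5258 F47920) (tt N7245 (iv F51897)) (tt N5604 F47921) (tt N6921 (iv F50470)) (tt N7242 (iv F51888)) (tt N7204 (iv F51723)) (tt N5254 (iv D12144)))
theorem Q6259 : ∀ i, i < 6259 → P i := stepQ 6258 Q6258 (allL N6258 (tt N5403 F47922) (tt N5280 F47923) (tt N7240 (iv F51878)) (tt N7246 D13133) (tt N5650 F47924) (tt N5256 F47925) (tt N6922 (iv F50476)) (tt N5255 (iv D12145)) (tt N7247 D13134))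
theorem Q6260 : ∀ i, i < 6260 → P i := stepQ 6259 Q6259 (allL N6259 (tt N5404 F47926) (tt N5281 F47927) (tt N7248 D13135) (tt N5256 (iv D12146)) (tt N5679 F47928) (tt N7246 (iv F51900)) (tt N5257 F47929) (tt N5260 F47930) (tt N7249 D13136))
theorem Q6261 : ∀ i, i < 6261 → P i := stepQ 6260 Q6260 (allL N6260 (tt N5405 F47931) (tt N5282 F47932) (tt N7242 (iv F51886)) (tt N7249 (iv F51913)) (tt N5365 F47933) (tt N7247 (iv F51905)) (tt N5258 F47934) (tt N5364 F47935) (tt N5256 (iv D12147)))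
theorem Q6262 : ∀ i, i < 6262 → P i := stepQ 6261 Q6261 (allL N6261 (tt N5406 F47936) (tt N7250 D13137) (tt N5257 (iv D12148)) (tt N7243 (iv F51891)) (tt N7251 D13138) (tt N6925 (iv F50487)) (tt N7248 (iv F51909)) (tt N5262 F47937) (tt N7252 D13139))
theorem Q6263 : ∀ i, i < 6263 → P i := stepQ 6262 Q6262 (allL N6262 (tt N5407 F47938) (tt N5284 F47939) (tt N7251 (iv F51919)) (tt N5606 F47940) (tt N5257 (iv D12149)) (tt N7253 D13140) (tt N5679 F47941) (tt N5263 F47942) (tt N7254 D13141))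
theorem Q6264 : ∀ i, i < 6264 → P i := stepQ 6263 Q6263 (allL N6263 (tt N5408 F47943) (tt N5285 F47944) (tt N7252 (iv F51923)) (tt N5258 F47945) (tt N7254 (iv F51931)) (tt N6927 (iv F50496)) (tt N7249 (iv F51915)) (tt N7255 D13142) (tt N5257 (iv D12150)))
theorem Q6265 : ∀ i, i < 6265 → P i := stepQ 6264 Q6264 (allL N6264 (tt N5376 F47946) (tt N5286 F47947) (tt N7256 D13143) (tt N5259 (iv D12151)) (tt N7257 D13144) (tt N5260 F47948) (tt N6928 (iv F50500)) (tt N7246 (iv F51901)) (tt N7258 D13145))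
theorem Q6266 : ∀ i, i < 6266 → P i := stepQ 6265 Q6265 (allL N6265 (tt N5386 F47949) (tt N5287 F47950) (tt N6120 F47951) (tt N7258 (iv F51944)) (tt N6265 F47952) (tt N5261 F47953) (tt N6929 (iv F50505)) (tt N7138 (iv F51398)) (tt N5259 (iv D12152)))
theorem Q6267 : ∀ i, i < 6267 → P i := stepQ 6266 Q6266 (allL N6266 (tt N5409 F47954) (tt N7259 D13146) (tt N5260 (iv D12153)) (tt N6437 (iv F48563)) (tt N7260 D13147) (tt N7256 (iv F51938)) (tt N5262 F47955) (tt N7248 (iv F51910)) (tt N7261 D13148))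
theorem Q6268 : ∀ i, i < 6268 → P i := stepQ 6267 Q6267 (allL N6267 (tt N5410 F47956) (tt N5289 F47957) (tt N7260 (iv F51950)) (tt N5266 F47958) (tt N5260 (iv D12154)) (tt N7262 D13149) (tt N5263 F47959) (tt N5679 F47960) (tt N7263 D13150))
theorem Q6269 : ∀ i, i < 6269 → P i := stepQ 6268 Q6268 (allL N6268 (tt N5411 F47961) (tt N5290 F47962) (tt N7261 (iv F51954)) (tt N5261 F47963) (tt N7263 (iv F51963)) (tt N7258 (iv F51945)) (tt N5264 F47964) (tt N7264 D13151) (tt N5260 (iv D12155)))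
theorem Q6270 : ∀ i, i < 6270 → P i := stepQ 6269 Q6269 (allL N6269 (tt N7265 D13152) (tt N5262 (iv D12156)) (tt N5291 F47965) (tt N6747 (iv F49785)) (tt N7266 D13153) (tt N6933 (iv F50519)) (tt N7259 (iv F51948)) (tt N7250 (iv F51917)) (tt N7267 D13154))
theorem Q6271 : ∀ i, i < 6271 → P i := stepQ 6270 Q6270 (allL N6270 (tt N5413 F47966) (tt N7266 (iv F51972)) (tt N5263 F47967) (tt N7268 D13155) (tt N5262 (iv D12157)) (tt N7269 D13156) (tt N7260 (iv F51951)) (tt N7251 (iv F51921)) (tt N7270 D13157))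
theorem Q6272 : ∀ i, i < 6272 → P i := stepQ 6271 Q6271 (allL N6271 (tt N5414 F47968) (tt N7267 (iv F51974)) (tt N5264 F47969) (tt N6749 (iv F49790)) (tt N7270 (iv F51982)) (tt N6935 (iv F50524)) (tt N7261 (iv F51955)) (tt N7271 D13158) (tt N5262 (iv D12158)))
theorem Q6273 : ∀ i, i < 6273 → P i := stepQ 6272 Q6272 (allL N6272 (tt N5415 F47970) (tt N5294 F47971) (tt N7269 (iv F51979)) (tt N5270 F47972) (tt N6936 (iv F50528)) (tt N5263 (iv D12159)) (tt N7272 D13159) (tt N7253 (iv F51927)) (tt N7273 D13160))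
theorem Q6274 : ∀ i, i < 6274 → P i := stepQ 6273 Q6273 (allL N6273 (tt N5416 F47973) (tt N5295 F47974) (tt N7270 (iv F51981)) (tt N5271 F47975) (tt N5264 F47976) (tt N7273 (iv F51991)) (tt N7263 (iv F51964)) (tt N7274 D13161) (tt N5263 (iv D12160)))
theorem Q6275 : ∀ i, i < 6275 → P i := stepQ 6274 Q6274 (allL N6274 (tt N5417 F47977) (tt N5296 F47978) (tt N7271 (iv F51984)) (tt N7213 (iv F51763)) (tt N7274 (iv F51994)) (tt N6938 (iv F50536)) (tt N7264 (iv F51967)) (tt N5264 (iv D12161)) (tt N7255 (iv F51935)))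
theorem Q6276 : ∀ i, i < 6276 → P i := stepQ 6275 Q6275 (allL N6275 (tt N5418 F47979) (tt N6275 F47980) (tt N5266 F47981) (tt N7275 D13162) (tt N5265 (iv D12162)) (tt N7276 D13163) (tt N5268 F47982) (tt N5609 F47983) (tt N7277 D13164))
theorem Q6277 : ∀ i, i < 6277 → P i := stepQ 6276 Q6276 (allL N6276 (tt N5419 F47984) (tt N6276 F47985) (tt N5267 F47986) (tt N6549 (iv F48948)) (tt N7277 (iv F52006)) (tt N6276 F47987) (tt N5269 F47988) (tt N5661 F47989) (tt N5265 (iv D12163)))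
theorem Q6278 : ∀ i, i < 6278 → P i := stepQ 6277 Q6277 (allL N6277 (tt N5420 F47990) (tt N5297 F47991) (tt N7276 (iv F52000)) (tt N7262 (iv F51958)) (tt N6277 F47992) (tt N5266 (iv D12164)) (tt N7278 D13165) (tt N5610 F47993) (tt N7279 D13166))
theorem Q6279 : ∀ i, i < 6279 → P i := stepQ 6278 Q6278 (allL N6278 (tt N5421 F47994) (tt N5298 F47995) (tt N7277 (iv F52005)) (tt N7263 (iv F51962)) (tt N5267 F47996) (tt N7279 (iv F52017)) (tt N5271 F47997) (tt N5663 F47998) (tt N5266 (iv D12165)))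
theorem Q6280 : ∀ i, i < 6280 → P i := stepQ 6279 Q6279 (allL N6279 (tt N5423 F47999) (tt N6279 F48000) (tt N7268 (iv F51977)) (tt N5268 (iv D12166)) (tt N6753 (iv F49802)) (tt N7280 D13167) (tt N7275 (iv F51997)) (tt N7281 D13168) (tt N7282 D13169))
theorem Q6281 : ∀ i, i < 6281 → P i := stepQ 6280 Q6280 (allL N6280 (tt N5424 F48001) (tt N6280 F48002) (tt N5270 F48003) (tt N7280 (iv F52021)) (tt N5274 F48004) (tt N5268 (iv D12167)) (tt N7283 D13170) (tt N5612 F48005) (tt N7284 D13171))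
theorem Q6282 : ∀ i, i < 6282 → P i := stepQ 6281 Q6281 (allL N6281 (tt N5425 F48006) (tt N6281 F48007) (tt N5271 F48008) (tt N7282 (iv F52027)) (tt N5269 F48009) (tt N7284 (iv F52037)) (tt N7277 (iv F52007)) (tt N7285 D13172) (tt N5268 (iv D12168)))
theorem Q6283 : ∀ i, i < 6283 → P i := stepQ 6282 Q6282 (allL N6282 (tt N5426 F48010) (tt N6282 F48011) (tt N5272 F48012) (tt N7286 D13173) (tt N7285 (iv F52041)) (tt N5276 F48013) (tt N5661 F48014) (tt N5269 (iv D12169)) (tt N5614 F48015))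
theorem Q6284 : ∀ i, i < 6284 → P i := stepQ 6283 Q6283 (allL N6283 (tt N5427 F48016) (tt N5299 F48017) (tt N7283 (iv F52030)) (tt N7272 (iv F51987)) (tt N5277 F48018) (tt N7278 (iv F52012)) (tt N5270 (iv D12170)) (tt N5615 F48019) (tt N7287 D13174))
theorem Q6285 : ∀ i, i < 6285 → P i := stepQ 6284 Q6284 (allL N6284 (tt N5428 F48020) (tt N5300 F48021) (tt N7284 (iv F52035)) (tt N7273 (iv F51990)) (tt N5278 F48022) (tt N5271 F48023) (tt N7287 (iv F52053)) (tt N7288 D13175) (tt N5270 (iv D12171)))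
theorem Q6286 : ∀ i, i < 6286 → P i := stepQ 6285 Q6285 (allL N6285 (tt N5429 F48024) (tt N5301 F48025) (tt N7285 (iv F52040)) (tt N7289 D13176) (tt N5272 F48026) (tt N7288 (iv F52057)) (tt N5663 F48027) (tt N5271 (iv D12172)) (tt N5617 F48028))
theorem Q6287 : ∀ i, i < 6287 → P i := stepQ 6286 Q6286 (allL N6286 (tt N5430 F48029) (tt N6286 F48030) (tt N6948 (iv F50574)) (tt N5274 F48031) (tt N7290 D13177) (tt N5273 (iv D12173)) (tt N7291 D13178) (tt N7292 D13179) (tt N7293 D13180))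
theorem Q6288 : ∀ i, i < 6288 → P i := stepQ 6287 Q6287 (allL N6287 (tt N5431 F48032) (tt N6287 F48033) (tt N6827 (iv F50039)) (tt N5619 F48034) (tt N6761 (iv F49836)) (tt N7292 (iv F52073)) (tt N6287 F48035) (tt N5273 (iv D12174)) (tt N6387 F48396))
theorem Q6289 : ∀ i, i < 6289 → P i := stepQ 6288 Q6288 (allL N6288 (tt N5432 F48036) (tt N6288 F48037) (tt N6828 (iv F50046)) (tt N5275 F48038) (tt N6762 (iv F49843)) (tt N7293 (iv F52077)) (tt N6288 F48039) (tt N6388 (iv F48402)) (tt N5273 (iv D12175)))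
theorem Q6290 : ∀ i, i < 6290 → P i := stepQ 6289 Q6289 (allL N6289 (tt N5433 F48040) (tt N6289 F48041) (tt N5277 F48042) (tt N7291 (iv F52068)) (tt N7283 (iv F52031)) (tt N6289 F48043) (tt N5274 (iv D12176)) (tt N5621 F48044) (tt N7294 D13181))
theorem Q6291 : ∀ i, i < 6291 → P i := stepQ 6290 Q6290 (allL N6290 (tt N5434 F48045) (tt N6290 F48046) (tt N5278 F48047) (tt N7293 (iv F52076)) (tt N7284 (iv F52036)) (tt N5275 F48048) (tt N7294 (iv F52082)) (tt N7295 D13182) (tt N5274 (iv D12177)))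
theorem Q6292 : ∀ i, i < 6292 → P i := stepQ 6291 Q6291 (allL N6291 (tt N5435 F48049) (tt N6291 F48050) (tt N5279 F48051) (tt N6391 (iv F48412)) (tt N5276 F48052) (tt N7295 (iv F52086)) (tt N6291 F48053) (tt N5275 (iv D12178)) (tt N5623 F48054))
theorem Q6293 : ∀ i, i < 6293 → P i := stepQ 6292 Q6292 (allL N6292 (tt N5436 F48055) (tt N6292 F48056) (tt N6473 (iv F48679)) (tt N5276 (iv D12179)) (tt N6392 (iv F48418)) (tt N7286 (iv F52047)) (tt N6292 F48057) (tt N6766 (iv F49866)) (tt N5624 F48058))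
theorem Q6294 : ∀ i, i < 6294 → P i := stepQ 6293 Q6293 (allL N6293 (tt N5437 F48059) (tt N5302 F48060) (tt N7294 (iv F52080)) (tt N6951 (iv F50585)) (tt N7287 (iv F52052)) (tt N6293 F48061) (tt N5278 F48062) (tt N7296 D13183) (tt N5277 (iv D12180)))
theorem Q6295 : ∀ i, i < 6295 → P i := stepQ 6294 Q6294 (allL N6294 (tt N5438 F48063) (tt N5303 F48064) (tt N7295 (iv F52085)) (tt N7297 D13184) (tt N7288 (iv F52056)) (tt N5279 F48065) (tt N7296 (iv F52091)) (tt N5278 (iv D12181)) (tt N5626 F48066))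
theorem Q6296 : ∀ i, i < 6296 → P i := stepQ 6295 Q6295 (allL N6295 (tt N5439 F48067) (tt N5304 F48068) (tt N6395 (iv F48430)) (tt N5279 (iv D12182)) (tt N6476 (iv F48692)) (tt N7297 (iv F52095)) (tt N6295 F48069) (tt N6835 (iv F50084)) (tt N5627 F48070))
theorem Q6297 : ∀ i, i < 6297 → P i := stepQ 6296 Q6296 (allL N6296 (tt N5311 F48071) (tt N7246 (iv F51899)) (tt N6965 (iv F50652)) (tt N5280 (iv D12183)) (tt N6964 F50650) (tt N5281 F48072) (tt N6953 (iv F50595)) (tt N5286 F48073) (tt N7298 D13185))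
theorem Q6298 : ∀ i, i < 6298 → P i := stepQ 6297 Q6297 (allL N6297 (tt N5312 F48074) (tt N7247 (iv F51903)) (tt N6297 F48075) (tt N7298 (iv F52098)) (tt N5384 F48076) (tt N5282 F48077) (tt N6954 (iv F50602)) (tt N5382 F48078) (tt N5280 (iv D12184)))
theorem Q6299 : ∀ i, i < 6299 → P i := stepQ 6298 Q6298 (allL N6298 (tt N5313 F48079) (tt N7299 D13186) (tt N5281 (iv D12185)) (tt N6298 F48080) (tt N5697 F48081) (tt N6965 (iv F50654)) (tt N5283 F48082) (tt N5288 F48083) (tt N7300 D13187))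
theorem Q6300 : ∀ i, i < 6300 → P i := stepQ 6299 Q6299 (allL N6299 (tt N5314 F48084) (tt N7249 (iv F51912)) (tt N7300 (iv F52106)) (tt N5282 F48085) (tt N5467 F48086) (tt N7298 (iv F52099)) (tt N5285 F48087) (tt N7301 D13188) (tt N5281 (iv D12186)))
theorem Q6301 : ∀ i, i < 6301 → P i := stepQ 6300 Q6300 (allL N6300 (tt N7302 D13189) (tt N5283 (iv D12187)) (tt N7250 (iv F51916)) (tt N6300 F48088) (tt N7303 D13190) (tt N6958 (iv F50620)) (tt N7299 (iv F52103)) (tt N5291 F48089) (tt N7304 D13191))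
theorem Q6302 : ∀ i, i < 6302 → P i := stepQ 6301 Q6301 (allL N6301 (tt N5316 F48090) (tt N7303 (iv F52119)) (tt N5284 F48091) (tt N5747 (iv F48094)) (tt N5283 (iv D12188)) (tt N6977 (iv F50705)) (tt N5697 F48092) (tt N5292 F48093) (tt N7305 D13192))
theorem Q6303 : ∀ i, i < 6303 → P i := stepQ 6302 Q6302 (allL N6302 (tt N5317 F48095) (tt N7304 (iv F52123)) (tt N5285 F48096) (tt N6302 F48097) (tt N7305 (iv F52128)) (tt N6960 (iv F50631)) (tt N7300 (iv F52109)) (tt N7306 D13193) (tt N5283 (iv D12189)))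
theorem Q6304 : ∀ i, i < 6304 → P i := stepQ 6303 Q6303 (allL N6303 (tt N5318 F48098) (tt N7253 (iv F51925)) (tt N6977 (iv F50702)) (tt N5628 F48099) (tt N6961 (iv F50635)) (tt N5284 (iv D12190)) (tt N6974 (iv F50691)) (tt N5294 F48100) (tt N7307 D13194))
theorem Q6305 : ∀ i, i < 6305 → P i := stepQ 6304 Q6304 (allL N6304 (tt N5319 F48101) (tt N7254 (iv F51929)) (tt N7305 (iv F52126)) (tt N5464 F48102) (tt N5285 F48103) (tt N7307 (iv F52135)) (tt N5467 F48104) (tt N7308 D13195) (tt N5284 (iv D12191)))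
theorem Q6306 : ∀ i, i < 6306 → P i := stepQ 6305 Q6305 (allL N6305 (tt N5320 F48105) (tt N7255 (iv F51934)) (tt N7306 (iv F52131)) (tt N7219 (iv F51788)) (tt N7308 (iv F52138)) (tt N6963 (iv F50643)) (tt N7301 (iv F52113)) (tt N5285 (iv D12192)) (tt N5296 F48106))
theorem Q6307 : ∀ i, i < 6307 → P i := stepQ 6306 Q6306 (allL N6306 (tt N5321 F48107) (tt N7257 (iv F51940)) (tt N6953 F50597) (tt N6306 F48108) (tt N5286 (iv D12193)) (tt N6955 (iv F50606)) (tt N6965 (iv F50655)) (tt N6964 (iv F50649)) (tt N7309 D13196))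
theorem Q6308 : ∀ i, i < 6308 → P i := stepQ 6307 Q6307 (allL N6307 (tt N5322 F48109) (tt N7258 (iv F51943)) (tt N7233 (iv F51846)) (tt N5287 F48110) (tt N7309 (iv F52143)) (tt N5290 F48111) (tt N6966 (iv F50660)) (tt N7310 D13197) (tt N5286 (iv D12194)))
theorem Q6309 : ∀ i, i < 6309 → P i := stepQ 6308 Q6308 (allL N6308 (tt N5772 F48112) (tt N5288 (iv D12195)) (tt N7259 (iv F51947)) (tt N5305 F48113) (tt N7311 D13198) (tt N7223 (iv F51809)) (tt N5291 F48114) (tt N7299 (iv F52104)) (tt N7312 D13199))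
theorem Q6310 : ∀ i, i < 6310 → P i := stepQ 6309 Q6309 (allL N6309 (tt N5323 F48115) (tt N7311 (iv F52147)) (tt N5289 F48116) (tt N6309 F48117) (tt N5288 (iv D12196)) (tt N6956 (iv F50613)) (tt N5292 F48118) (tt N5697 F48119) (tt N7313 D13200))
theorem Q6311 : ∀ i, i < 6311 → P i := stepQ 6310 Q6310 (allL N6310 (tt N5324 F48120) (tt N7312 (iv F52152)) (tt N5290 F48121) (tt N5306 F48122) (tt N7313 (iv F52158)) (tt N7233 (iv F51848)) (tt N5293 F48123) (tt N7314 D13201) (tt N5288 (iv D12197)))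
theorem Q6312 : ∀ i, i < 6312 → P i := stepQ 6311 Q6311 (allL N6311 (tt N5325 F48124) (tt N7262 (iv F51957)) (tt N6956 (iv F50611)) (tt N5297 F48125) (tt N6955 F50609) (tt N5289 (iv D12198)) (tt N6959 (iv F50624)) (tt N5696 F48126) (tt N7315 D13202))
theorem Q6313 : ∀ i, i < 6313 → P i := stepQ 6312 Q6312 (allL N6312 (tt N5326 F48127) (tt N7263 (iv F51961)) (tt N7313 (iv F52156)) (tt N5298 F48128) (tt N5290 F48129) (tt N7315 (iv F52165)) (tt N5295 F48130) (tt N7316 D13203) (tt N5289 (iv D12199)))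
theorem Q6314 : ∀ i, i < 6314 → P i := stepQ 6313 Q6313 (allL N6313 (tt N5327 F48131) (tt N7264 (iv F51966)) (tt N7314 (iv F52161)) (tt N7222 (iv F51803)) (tt N7316 (iv F52168)) (tt N7310 (iv F52145)) (tt N5296 F48132) (tt N5290 (iv D12200)) (tt N7301 (iv F52114)))
theorem Q6315 : ∀ i, i < 6315 → P i := stepQ 6314 Q6314 (allL N6314 (tt N5291 (iv D12201)) (tt N5328 F48133) (tt N7265 (iv F51969)) (tt N5308 F48134) (tt N7317 D13204) (tt N6971 (iv F50680)) (tt N5772 F48135) (tt N7302 (iv F52118)) (tt N7318 D13205))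
theorem Q6316 : ∀ i, i < 6316 → P i := stepQ 6315 Q6315 (allL N6315 (tt N7317 (iv F52171)) (tt N5292 F48136) (tt N7266 (iv F51973)) (tt N6315 F48137) (tt N5291 (iv D12202)) (tt N7319 D13206) (tt N7311 (iv F52149)) (tt N7303 (iv F52121)) (tt N7320 D13207))
theorem Q6317 : ∀ i, i < 6317 → P i := stepQ 6316 Q6316 (allL N6316 (tt N7318 (iv F52175)) (tt N5293 F48138) (tt N7267 (iv F51975)) (tt N5309 F48139) (tt N7320 (iv F52183)) (tt N6973 (iv F50686)) (tt N7312 (iv F52154)) (tt N7321 D13208) (tt N5291 (iv D12203)))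
theorem Q6318 : ∀ i, i < 6318 → P i := stepQ 6317 Q6317 (allL N6317 (tt N5331 F48140) (tt N7319 (iv F52179)) (tt N5294 F48141) (tt N6317 F48142) (tt N6974 (iv F50690)) (tt N5292 (iv D12204)) (tt N6961 (iv F50636)) (tt N6977 (iv F50706)) (tt N7322 D13209))
theorem Q6319 : ∀ i, i < 6319 → P i := stepQ 6318 Q6318 (allL N6318 (tt N5332 F48143) (tt N7320 (iv F52181)) (tt N5295 F48144) (tt N6318 F48145) (tt N5293 F48146) (tt N7322 (iv F52188)) (tt N7313 (iv F52159)) (tt N7323 D13210) (tt N5292 (iv D12205)))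
theorem Q6320 : ∀ i, i < 6320 → P i := stepQ 6319 Q6319 (allL N6319 (tt N5333 F48147) (tt N7321 (iv F52184)) (tt N5296 F48148) (tt N7324 D13211) (tt N7323 (iv F52191)) (tt N6976 (iv F50700)) (tt N7314 (iv F52162)) (tt N5293 (iv D12206)) (tt N7306 (iv F52132)))
theorem Q6321 : ∀ i, i < 6321 → P i := stepQ 6320 Q6320 (allL N6320 (tt N5334 F48149) (tt N7272 (iv F51986)) (tt N6961 (iv F50633)) (tt N5299 F48150) (tt N6977 (iv F50704)) (tt N6959 (iv F50627)) (tt N5294 (iv D12207)) (tt N6974 (iv F50692)) (tt N7325 D13212))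
theorem Q6322 : ∀ i, i < 6322 → P i := stepQ 6321 Q6321 (allL N6321 (tt N5335 F48151) (tt N7273 (iv F51989)) (tt N7322 (iv F52186)) (tt N5300 F48152) (tt N6978 (iv F50709)) (tt N5295 F48153) (tt N7325 (iv F52196)) (tt N7326 D13213) (tt N5294 (iv D12208)))
theorem Q6323 : ∀ i, i < 6323 → P i := stepQ 6322 Q6322 (allL N6322 (tt N5336 F48154) (tt N7274 (iv F51993)) (tt N7323 (iv F52190)) (tt N7327 D13214) (tt N5296 F48155) (tt N7326 (iv F52198)) (tt N7316 (iv F52169)) (tt N5295 (iv D12209)) (tt N7308 (iv F52140)))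
theorem Q6324 : ∀ i, i < 6324 → P i := stepQ 6323 Q6323 (allL N6323 (tt N5337 F48156) (tt N7278 (iv F52010)) (tt N6323 F48157) (tt N6959 F50626) (tt N6323 F48158) (tt N5299 F48159) (tt N5297 (iv D12210)) (tt N5630 F48160) (tt N7328 D13215))
theorem Q6325 : ∀ i, i < 6325 → P i := stepQ 6324 Q6324 (allL N6324 (tt N5338 F48161) (tt N7279 (iv F52015)) (tt N6324 F48162) (tt N7315 (iv F52164)) (tt N6324 F48163) (tt N5298 F48164) (tt N7328 (iv F52209)) (tt N5694 F48165) (tt N5297 (iv D12211)))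
theorem Q6326 : ∀ i, i < 6326 → P i := stepQ 6325 Q6325 (allL N6325 (tt N5339 F48166) (tt N7287 (iv F52051)) (tt N6325 F48167) (tt N7325 (iv F52195)) (tt N5302 F48168) (tt N7328 (iv F52208)) (tt N5300 F48169) (tt N7329 D13216) (tt N5299 (iv D12212)))
theorem Q6327 : ∀ i, i < 6327 → P i := stepQ 6326 Q6326 (allL N6326 (tt N5340 F48170) (tt N7288 (iv F52055)) (tt N6326 F48171) (tt N7330 D13217) (tt N5303 F48172) (tt N5301 F48173) (tt N7329 (iv F52215)) (tt N5300 (iv D12213)) (tt N5632 F48174))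
theorem Q6328 : ∀ i, i < 6328 → P i := stepQ 6327 Q6327 (allL N6327 (tt N5341 F48175) (tt N7289 (iv F52060)) (tt N5828 (iv F48179)) (tt N5301 (iv D12214)) (tt N5443 F48176) (tt N7330 (iv F52218)) (tt N5448 F48177) (tt N7327 (iv F52202)) (tt N5442 F48178))
theorem Q6329 : ∀ i, i < 6329 → P i := stepQ 6328 Q6328 (allL N6328 (tt N5342 F48180) (tt N7296 (iv F52089)) (tt N6328 F48181) (tt N6915 (iv F50434)) (tt N7329 (iv F52213)) (tt N6328 F48182) (tt N5303 F48183) (tt N5302 (iv D12215)) (tt N5633 F48184))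
theorem Q6330 : ∀ i, i < 6330 → P i := stepQ 6329 Q6329 (allL N6329 (tt N5343 F48185) (tt N7297 (iv F52094)) (tt N6917 (iv F50446)) (tt N5303 (iv D12216)) (tt N7027 (iv F50951)) (tt N5304 F48186) (tt N6915 (iv F50437)) (tt N6985 (iv F50742)) (tt N5634 F48187))
theorem Q6331 : ∀ i, i < 6331 → P i := stepQ 6330 Q6330 (allL N6330 (tt N5344 F48188) (tt N6409 (iv F48481)) (tt N5304 (iv D12217)) (tt N6330 F48189) (tt N6507 (iv F48808)) (tt N6917 (iv F50449)) (tt N6330 F48190) (tt N6847 (iv F50125)) (tt N5635 F48191))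
theorem Q6332 : ∀ i, i < 6332 → P i := stepQ 6331 Q6331 (allL N6331 (tt N5784 F48192) (tt N5306 F48193) (tt N6333 (iv F48203)) (tt N7312 (iv F52153)) (tt N6331 F48194) (tt N7229 (iv F51832)) (tt N5309 F48195) (tt N7331 D13218) (tt N5305 (iv D12218)))
theorem Q6333 : ∀ i, i < 6333 → P i := stepQ 6332 Q6332 (allL N6332 (tt N5345 F48196) (tt N7331 (iv F52222)) (tt N5307 F48197) (tt N7332 D13219) (tt N6332 F48198) (tt N7237 (iv F51863)) (tt N5310 F48199) (tt N5306 (iv D12219)) (tt N6332 F48200))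
theorem Q6334 : ∀ i, i < 6334 → P i := stepQ 6333 Q6333 (allL N6333 (tt N5309 F48201) (tt N5346 F48202) (tt N6331 F48203) (tt N7318 (iv F52177)) (tt N6333 F48204) (tt N6993 (iv F50787)) (tt N5784 F48205) (tt N7333 D13220) (tt N5308 (iv D12220)))
theorem Q6335 : ∀ i, i < 6335 → P i := stepQ 6334 Q6334 (allL N6334 (tt N7333 (iv F52229)) (tt N5310 F48206) (tt N6786 (iv F49933)) (tt N7334 D13221) (tt N6334 F48207) (tt N6994 (iv F50789)) (tt N7331 (iv F52224)) (tt N5309 (iv D12221)) (tt N6334 F48208))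
theorem Q6336 : ∀ i, i < 6336 → P i := stepQ 6335 Q6335 (allL N6335 (tt N5348 F48209) (tt N7334 (iv F52235)) (tt N7231 (iv F51838)) (tt N5310 (iv D12222)) (tt N7335 D13222) (tt N6995 (iv F50793)) (tt N7332 (iv F52227)) (tt N7324 (iv F52193)) (tt N6335 F48210))
theorem Q6337 : ∀ i, i < 6337 → P i := stepQ 6336 Q6336 (allL N6336 (tt N7298 (iv F52097)) (tt N5387 F48211) (tt N7007 (iv F50854)) (tt N5312 F48212) (tt N7006 (iv F50850)) (tt N5314 F48213) (tt N6996 (iv F50800)) (tt N7336 D13223) (tt N5311 (iv D12223)))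
theorem Q6338 : ∀ i, i < 6338 → P i := stepQ 6337 Q6337 (allL N6337 (tt N7300 (iv F52105)) (tt N5786 F48214) (tt N5314 F48215) (tt N6337 F48216) (tt N5501 F48217) (tt N7007 (iv F50857)) (tt N5317 F48218) (tt N7337 D13224) (tt N5313 (iv D12224)))
theorem Q6339 : ∀ i, i < 6339 → P i := stepQ 6338 Q6338 (allL N6338 (tt N7301 (iv F52110)) (tt N5473 F48219) (tt N7337 (iv F52245)) (tt N5394 F48220) (tt N5496 F48221) (tt N7336 (iv F52242)) (tt N5320 F48222) (tt N5314 (iv D12225)) (tt N5327 F48223))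
theorem Q6340 : ∀ i, i < 6340 → P i := stepQ 6339 Q6339 (allL N6339 (tt N5315 (iv D12226)) (tt N7302 (iv F52115)) (tt N5474 F48224) (tt N6339 F48225) (tt N7118 (iv F51311)) (tt N7000 (iv F50820)) (tt N5769 F48226) (tt N5328 F48227) (tt N7338 D13225))
theorem Q6341 : ∀ i, i < 6341 → P i := stepQ 6340 Q6340 (allL N6340 (tt N7338 (iv F52249)) (tt N5317 F48228) (tt N5476 F48229) (tt N6340 F48230) (tt N7153 (iv F51475)) (tt N7001 (iv F50827)) (tt N5786 F48231) (tt N7339 D13226) (tt N5315 (iv D12227)))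
theorem Q6342 : ∀ i, i < 6342 → P i := stepQ 6341 Q6341 (allL N6341 (tt N7305 (iv F52125)) (tt N7153 (iv F51472)) (tt N5319 F48232) (tt N5594 F48233) (tt N5317 F48234) (tt N7020 (iv F50919)) (tt N5501 F48235) (tt N7340 D13227) (tt N5316 (iv D12228)))
theorem Q6343 : ∀ i, i < 6343 → P i := stepQ 6342 Q6342 (allL N6342 (tt N7306 (iv F52130)) (tt N7339 (iv F52253)) (tt N5320 F48236) (tt N7341 D13228) (tt N7340 (iv F52259)) (tt N7003 (iv F50836)) (tt N7337 (iv F52247)) (tt N5317 (iv D12229)) (tt N5333 F48237))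
theorem Q6344 : ∀ i, i < 6344 → P i := stepQ 6343 Q6343 (allL N6343 (tt N7307 (iv F52133)) (tt N5481 F48238) (tt N7020 (iv F50916)) (tt N5498 F48239) (tt N7004 (iv F50841)) (tt N5319 F48240) (tt N7017 (iv F50907)) (tt N7342 D13229) (tt N5318 (iv D12230)))
theorem Q6345 : ∀ i, i < 6345 → P i := stepQ 6344 Q6344 (allL N6344 (tt N7308 (iv F52136)) (tt N5482 F48241) (tt N7340 (iv F52257)) (tt N5485 F48242) (tt N5320 F48243) (tt N7342 (iv F52266)) (tt N5496 F48244) (tt N5319 (iv D12231)) (tt N5336 F48245))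
theorem Q6346 : ∀ i, i < 6346 → P i := stepQ 6345 Q6345 (allL N6345 (tt N7309 (iv F52141)) (tt N5391 F48246) (tt N6996 (iv F50796)) (tt N6345 F48247) (tt N5322 F48248) (tt N6997 (iv F50805)) (tt N7007 (iv F50858)) (tt N7343 D13230) (tt N5321 (iv D12232)))
theorem Q6347 : ∀ i, i < 6347 → P i := stepQ 6346 Q6346 (allL N6346 (tt N7310 (iv F52144)) (tt N5392 F48249) (tt N7234 (iv F51850)) (tt N7151 (iv F51461)) (tt N7343 (iv F52269)) (tt N5327 F48250) (tt N7008 (iv F50862)) (tt N5322 (iv D12233)) (tt N7336 (iv F52243)))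
theorem Q6348 : ∀ i, i < 6348 → P i := stepQ 6347 Q6347 (allL N6347 (tt N7313 (iv F52155)) (tt N5789 F48251) (tt N5326 F48252) (tt N6347 F48253) (tt N5324 F48254) (tt N6998 (iv F50811)) (tt N5332 F48255) (tt N7344 D13231) (tt N5323 (iv D12234)))
theorem Q6349 : ∀ i, i < 6349 → P i := stepQ 6348 Q6348 (allL N6348 (tt N7314 (iv F52160)) (tt N5790 F48256) (tt N5327 F48257) (tt N7345 D13232) (tt N7344 (iv F52272)) (tt N7234 (iv F51851)) (tt N5333 F48258) (tt N5324 (iv D12235)) (tt N7337 (iv F52248)))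
theorem Q6350 : ∀ i, i < 6350 → P i := stepQ 6349 Q6349 (allL N6349 (tt N7315 (iv F52163)) (tt N5484 F48259) (tt N6998 (iv F50808)) (tt N5338 F48260) (tt N6997 (iv F50804)) (tt N5326 F48261) (tt N7002 (iv F50834)) (tt N7346 D13233) (tt N5325 (iv D12236)))
theorem Q6351 : ∀ i, i < 6351 → P i := stepQ 6350 Q6350 (allL N6350 (tt N7316 (iv F52166)) (tt N5485 F48262) (tt N7344 (iv F52271)) (tt N5482 F48263) (tt N5327 F48264) (tt N7346 (iv F52280)) (tt N5336 F48265) (tt N5326 (iv D12237)) (tt N5496 F48266))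
theorem Q6352 : ∀ i, i < 6352 → P i := stepQ 6351 Q6351 (allL N6351 (tt N5329 F48267) (tt N7317 (iv F52172)) (tt N5486 F48268) (tt N6351 F48269) (tt N5328 (iv D12238)) (tt N7108 (iv F51261)) (tt N5773 F48270) (tt N7118 (iv F51313)) (tt N7347 D13234))
theorem Q6353 : ∀ i, i < 6353 → P i := stepQ 6352 Q6352 (allL N6352 (tt N5330 F48271) (tt N7318 (iv F52176)) (tt N5487 F48272) (tt N5346 F48273) (tt N7347 (iv F52285)) (tt N7014 (iv F50892)) (tt N5774 F48274) (tt N7348 D13235) (tt N5328 (iv D12239)))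
theorem Q6354 : ∀ i, i < 6354 → P i := stepQ 6353 Q6353 (allL N6353 (tt N7347 (iv F52282)) (tt N5332 F48275) (tt N5489 F48276) (tt N6353 F48277) (tt N5330 F48278) (tt N7146 (iv F51442)) (tt N5789 F48279) (tt N7349 D13236) (tt N5329 (iv D12240)))
theorem Q6355 : ∀ i, i < 6355 → P i := stepQ 6354 Q6354 (allL N6354 (tt N7348 (iv F52287)) (tt N5333 F48280) (tt N5490 F48281) (tt N7350 D13237) (tt N7349 (iv F52292)) (tt N7016 (iv F50901)) (tt N5790 F48282) (tt N5330 (iv D12241)) (tt N7339 (iv F52256)))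
theorem Q6356 : ∀ i, i < 6356 → P i := stepQ 6355 Q6355 (allL N6355 (tt N7322 (iv F52185)) (tt N7146 (iv F51438)) (tt N5335 F48283) (tt N6355 F48284) (tt N7017 (iv F50905)) (tt N5332 F48285) (tt N7004 (iv F50843)) (tt N7351 D13238) (tt N5331 (iv D12242)))
theorem Q6357 : ∀ i, i < 6357 → P i := stepQ 6356 Q6356 (allL N6356 (tt N7323 (iv F52189)) (tt N7349 (iv F52290)) (tt N5336 F48286) (tt N7352 D13239) (tt N5333 F48287) (tt N7351 (iv F52298)) (tt N7344 (iv F52273)) (tt N5332 (iv D12243)) (tt N7340 (iv F52261)))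
theorem Q6358 : ∀ i, i < 6358 → P i := stepQ 6357 Q6357 (allL N6357 (tt N7324 (iv F52192)) (tt N7350 (iv F52294)) (tt N7235 (iv F51852)) (tt N5333 (iv D12244)) (tt N7353 D13240) (tt N7019 (iv F50913)) (tt N7345 (iv F52276)) (tt N5348 F48288) (tt N7341 (iv F52263)))
theorem Q6359 : ∀ i, i < 6359 → P i := stepQ 6358 Q6358 (allL N6358 (tt N7325 (iv F52194)) (tt N5494 F48289) (tt N7004 (iv F50839)) (tt N5339 F48290) (tt N7020 (iv F50918)) (tt N7002 (iv F50833)) (tt N5335 F48291) (tt N7354 D13241) (tt N5334 (iv D12245)))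
theorem Q6360 : ∀ i, i < 6360 → P i := stepQ 6359 Q6359 (allL N6359 (tt N7326 (iv F52197)) (tt N5495 F48292) (tt N7351 (iv F52297)) (tt N7355 D13242) (tt N7021 (iv F50922)) (tt N5336 F48293) (tt N7354 (iv F52304)) (tt N5335 (iv D12246)) (tt N7342 (iv F52267)))
theorem Q6361 : ∀ i, i < 6361 → P i := stepQ 6360 Q6360 (allL N6360 (tt N7327 (iv F52199)) (tt N5496 F48294) (tt N5840 (iv F48299)) (tt N5336 (iv D12247)) (tt N5473 F48295) (tt N7355 (iv F52306)) (tt N5482 F48296) (tt N5341 F48297) (tt N5485 F48298))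
theorem Q6362 : ∀ i, i < 6362 → P i := stepQ 6361 Q6361 (allL N6361 (tt N7328 (iv F52205)) (tt N5497 F48300) (tt N6361 F48301) (tt N7002 (iv F50831)) (tt N6361 F48302) (tt N5339 F48303) (tt N5338 F48304) (tt N5699 F48305) (tt N5337 (iv D12248)))
theorem Q6363 : ∀ i, i < 6363 → P i := stepQ 6362 Q6362 (allL N6362 (tt N7329 (iv F52211)) (tt N5499 F48306) (tt N6362 F48307) (tt N7015 (iv F50895)) (tt N5342 F48308) (tt N5699 F48309) (tt N5340 F48310) (tt N5339 (iv D12249)) (tt N5637 F48311))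
theorem Q6364 : ∀ i, i < 6364 → P i := stepQ 6363 Q6363 (allL N6363 (tt N7330 (iv F52217)) (tt N5500 F48312) (tt N5839 (iv F48315)) (tt N5340 (iv D12250)) (tt N7010 (iv F50872)) (tt N5341 F48313) (tt N7015 (iv F50898)) (tt N7355 (iv F52307)) (tt N5472 F48314))
theorem Q6365 : ∀ i, i < 6365 → P i := stepQ 6364 Q6364 (allL N6364 (tt N7332 (iv F52226)) (tt N5799 F48316) (tt N7236 (iv F51856)) (tt N5345 (iv D12251)) (tt N7356 D13243) (tt N7238 (iv F51868)) (tt N5348 F48317) (tt N7345 (iv F52277)) (tt N6364 F48318))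
theorem Q6366 : ∀ i, i < 6366 → P i := stepQ 6365 Q6365 (allL N6365 (tt N5347 F48319) (tt N7333 (iv F52230)) (tt N5349 F48320) (tt N7357 D13244) (tt N6365 F48321) (tt N7029 (iv F50961)) (tt N5785 F48322) (tt N5346 (iv D12252)) (tt N6365 F48323))
theorem Q6367 : ∀ i, i < 6367 → P i := stepQ 6366 Q6366 (allL N6366 (tt N7357 (iv F52316)) (tt N5348 F48324) (tt N7028 (iv F50954)) (tt N5347 (iv D12253)) (tt N7169 (iv F51533)) (tt N7030 (iv F50966)) (tt N5799 F48325) (tt N7350 (iv F52296)) (tt N6366 F48326))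
theorem Q6368 : ∀ i, i < 6368 → P i := stepQ 6367 Q6367 (allL N6367 (tt N7335 (iv F52237)) (tt N7169 F51537) (tt N7239 (iv F51872)) (tt N6367 F48327) (tt N5348 (iv D12254)) (tt N7170 (iv F51540)) (tt N7356 (iv F52314)) (tt N7353 (iv F52302)) (tt N6367 F48328))
theorem Q6369 : ∀ i, i < 6369 → P i := stepQ 6368 Q6368 (allL N6368 (tt N7203 (iv F51711)) (tt N5503 F48329) (tt N7358 D13245) (tt N5351 (iv D12255)) (tt N7359 D13246) (tt N5800 F48330) (tt N7214 (iv F51768)) (tt N6038 F48331) (tt N7360 D13247))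
theorem Q6370 : ∀ i, i < 6370 → P i := stepQ 6369 Q6369 (allL N6369 (tt N7204 (iv F51717)) (tt N5504 F48332) (tt N5353 F48333) (tt N7360 (iv F52328)) (tt N5639 F48334) (tt N5801 F48335) (tt N7215 (iv F51774)) (tt N5401 F48336) (tt N5351 (iv D12256)))
theorem Q6371 : ∀ i, i < 6371 → P i := stepQ 6370 Q6370 (allL N6370 (tt N7205 (iv F51724)) (tt N7361 D13248) (tt N5352 (iv D12257)) (tt N7358 (iv F52319)) (tt N7207 (iv F51737)) (tt N5802 F48337) (tt N7210 (iv F51750)) (tt N5356 F48338) (tt N7362 D13249))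
theorem Q6372 : ∀ i, i < 6372 → P i := stepQ 6371 Q6371 (allL N6371 (tt N7206 (iv F51729)) (tt N5374 F48339) (tt N7362 (iv F52333)) (tt N5353 F48340) (tt N7208 (iv F51743)) (tt N5804 F48341) (tt N7212 (iv F51760)) (tt N7363 D13250) (tt N5352 (iv D12258)))
theorem Q6373 : ∀ i, i < 6373 → P i := stepQ 6372 Q6372 (allL N6372 (tt N7207 (iv F51735)) (tt N7052 (iv F51047)) (tt N5354 (iv D12259)) (tt N6049 F48342) (tt N7205 (iv F51725)) (tt N7055 (iv F51061)) (tt N5356 F48343) (tt N7210 (iv F51751)) (tt N7364 D13251))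
theorem Q6374 : ∀ i, i < 6374 → P i := stepQ 6373 Q6373 (allL N6373 (tt N7208 (iv F51740)) (tt N5375 F48344) (tt N7364 (iv F52339)) (tt N5355 F48345) (tt N7206 (iv F51732)) (tt N7115 (iv F51295)) (tt N5358 F48346) (tt N7365 D13252) (tt N5354 (iv D12260)))
theorem Q6375 : ∀ i, i < 6375 → P i := stepQ 6374 Q6374 (allL N6374 (tt N7256 (iv F51936)) (tt N5356 (iv D12261)) (tt N5376 F48347) (tt N6052 F48348) (tt N7366 D13253) (tt N5409 F48349) (tt N7052 (iv F51049)) (tt N7361 (iv F52332)) (tt N7367 D13254))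
theorem Q6376 : ∀ i, i < 6376 → P i := stepQ 6375 Q6375 (allL N6375 (tt N7210 (iv F51748)) (tt N7366 (iv F52345)) (tt N5357 F48350) (tt N7368 D13255) (tt N5356 (iv D12262)) (tt N7369 D13256) (tt N7205 (iv F51727)) (tt N7207 (iv F51739)) (tt N7370 D13257))
theorem Q6377 : ∀ i, i < 6377 → P i := stepQ 6376 Q6376 (allL N6376 (tt N7211 (iv F51752)) (tt N7367 (iv F52347)) (tt N5358 F48351) (tt N6054 F48352) (tt N7370 (iv F52356)) (tt N5806 F48353) (tt N7364 (iv F52341)) (tt N7371 D13258) (tt N5356 (iv D12263)))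
theorem Q6378 : ∀ i, i < 6378 → P i := stepQ 6377 Q6377 (allL N6377 (tt N7098 (iv F51206)) (tt N5379 F48354) (tt N7369 (iv F52353)) (tt N5363 F48355) (tt N5807 F48356) (tt N5357 (iv D12264)) (tt N7102 (iv F51231)) (tt N7113 (iv F51285)) (tt N7372 D13259))
theorem Q6379 : ∀ i, i < 6379 → P i := stepQ 6378 Q6378 (allL N6378 (tt N7212 (iv F51756)) (tt N5380 F48357) (tt N7370 (iv F52355)) (tt N5364 F48358) (tt N5358 F48359) (tt N7372 (iv F52362)) (tt N7206 (iv F51734)) (tt N7373 D13260) (tt N5357 (iv D12265)))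
theorem Q6380 : ∀ i, i < 6380 → P i := stepQ 6379 Q6379 (allL N6379 (tt N7213 (iv F51761)) (tt N5381 F48360) (tt N7371 (iv F52357)) (tt N5417 F48361) (tt N7373 (iv F52364)) (tt N5809 F48362) (tt N7365 (iv F52344)) (tt N5358 (iv D12266)) (tt N7363 (iv F52338)))
theorem Q6381 : ∀ i, i < 6381 → P i := stepQ 6380 Q6380 (allL N6380 (tt N5639 F48363) (tt N6380 F48364) (tt N5360 F48365) (tt N6059 F48366) (tt N7204 (iv F51720)) (tt N6380 F48367) (tt N5362 F48368) (tt N5604 F48369) (tt N5359 (iv D12267)))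
theorem Q6382 : ∀ i, i < 6382 → P i := stepQ 6381 Q6381 (allL N6381 (tt N7214 (iv F51765)) (tt N6381 F48370) (tt N7368 (iv F52351)) (tt N5361 (iv D12268)) (tt N6063 F48371) (tt N7374 D13261) (tt N7203 (iv F51715)) (tt N7375 D13262) (tt N7376 D13263))
theorem Q6383 : ∀ i, i < 6383 → P i := stepQ 6382 Q6382 (allL N6382 (tt N7183 (iv F51595)) (tt N6382 F48372) (tt N5363 F48373) (tt N7374 (iv F52366)) (tt N5367 F48374) (tt N5361 (iv D12269)) (tt N7187 (iv F51618)) (tt N5641 F48375) (tt N7377 D13264))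
theorem Q6384 : ∀ i, i < 6384 → P i := stepQ 6383 Q6383 (allL N6383 (tt N7215 (iv F51770)) (tt N6383 F48376) (tt N5364 F48377) (tt N7376 (iv F52373)) (tt N5362 F48378) (tt N7377 (iv F52378)) (tt N7204 (iv F51722)) (tt N7242 (iv F51889)) (tt N5361 (iv D12270)))
theorem Q6385 : ∀ i, i < 6385 → P i := stepQ 6384 Q6384 (allL N6384 (tt N5656 F48379) (tt N6384 F48380) (tt N5365 F48381) (tt N7378 D13265) (tt N7242 (iv F51887)) (tt N5369 F48382) (tt N5604 F48383) (tt N5362 (iv D12271)) (tt N5602 F48384))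
theorem Q6386 : ∀ i, i < 6386 → P i := stepQ 6385 Q6385 (allL N6385 (tt N7193 (iv F51646)) (tt N5382 F48385) (tt N7377 (iv F52376)) (tt N7372 (iv F52360)) (tt N5371 F48386) (tt N5364 F48387) (tt N7194 (iv F51656)) (tt N7247 (iv F51906)) (tt N5363 (iv D12272)))
theorem Q6387 : ∀ i, i < 6387 → P i := stepQ 6386 Q6386 (allL N6386 (tt N7216 (iv F51776)) (tt N6386 F48388) (tt N5817 F48389) (tt N5367 F48390) (tt N7379 D13266) (tt N5366 (iv D12273)) (tt N7380 D13267) (tt N7381 D13268) (tt N7382 D13269))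
theorem Q6388 : ∀ i, i < 6388 → P i := stepQ 6387 Q6387 (allL N6387 (tt N6468 (iv F48652)) (tt N6387 F48391) (tt N5818 F48392) (tt N5643 F48393) (tt N6071 F48394) (tt N7381 (iv F52396)) (tt N6387 F48395) (tt N5366 (iv D12274)) (tt N6287 (iv F48396)))
theorem Q6389 : ∀ i, i < 6389 → P i := stepQ 6388 Q6388 (allL N6388 (tt N6469 (iv F48657)) (tt N6388 F48397) (tt N5819 F48398) (tt N5368 F48399) (tt N6072 F48400) (tt N7382 (iv F52401)) (tt N6388 F48401) (tt N6288 F48402) (tt N5366 (iv D12275)))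
theorem Q6390 : ∀ i, i < 6390 → P i := stepQ 6389 Q6389 (allL N6389 (tt N7188 (iv F51621)) (tt N6389 F48403) (tt N5370 F48404) (tt N7380 (iv F52391)) (tt N7187 F51620) (tt N6389 F48405) (tt N5367 (iv D12276)) (tt N5645 F48406) (tt N7383 D13270))
theorem Q6391 : ∀ i, i < 6391 → P i := stepQ 6390 Q6390 (allL N6390 (tt N7217 (iv F51779)) (tt N6390 F48407) (tt N5371 F48408) (tt N7382 (iv F52400)) (tt N7377 (iv F52377)) (tt N5368 F48409) (tt N7383 (iv F52406)) (tt N7384 D13271) (tt N5367 (iv D12277)))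
theorem Q6392 : ∀ i, i < 6392 → P i := stepQ 6391 Q6391 (allL N6391 (tt N6472 (iv F48670)) (tt N6391 F48410) (tt N5372 F48411) (tt N6291 F48412) (tt N5369 F48413) (tt N7384 (iv F52410)) (tt N6391 F48414) (tt N5368 (iv D12278)) (tt N5647 F48415))
theorem Q6393 : ∀ i, i < 6393 → P i := stepQ 6392 Q6392 (allL N6392 (tt N6473 (iv F48677)) (tt N6392 F48416) (tt N5436 F48417) (tt N5369 (iv D12279)) (tt N6292 F48418) (tt N7378 (iv F52382)) (tt N6392 F48419) (tt N6076 F48420) (tt N5648 F48421))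
theorem Q6394 : ∀ i, i < 6394 → P i := stepQ 6393 Q6393 (allL N6393 (tt N7195 (iv F51657)) (tt N5383 F48422) (tt N7383 (iv F52404)) (tt N5824 F48423) (tt N7194 (iv F51654)) (tt N6393 F48424) (tt N5371 F48425) (tt N7385 D13272) (tt N5370 (iv D12280)))
theorem Q6395 : ∀ i, i < 6395 → P i := stepQ 6394 Q6394 (allL N6394 (tt N7218 (iv F51782)) (tt N5384 F48426) (tt N7384 (iv F52408)) (tt N7386 D13273) (tt N7247 (iv F51904)) (tt N5372 F48427) (tt N7385 (iv F52414)) (tt N5371 (iv D12281)) (tt N5650 F48428))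
theorem Q6396 : ∀ i, i < 6396 → P i := stepQ 6395 Q6395 (allL N6395 (tt N6476 (iv F48690)) (tt N5385 F48429) (tt N6295 F48430) (tt N5372 (iv D12282)) (tt N5439 F48431) (tt N7386 (iv F52418)) (tt N6395 F48432) (tt N5826 F48433) (tt N5651 F48434))
theorem Q6397 : ∀ i, i < 6397 → P i := stepQ 6396 Q6396 (allL N6396 (tt N7246 (iv F51898)) (tt N5373 (iv D12283)) (tt N7361 (iv F52330)) (tt N5403 F48435) (tt N7220 (iv F51794)) (tt N5404 F48436) (tt N7041 (iv F51013)) (tt N5376 F48437) (tt N7387 D13274))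
theorem Q6398 : ∀ i, i < 6398 → P i := stepQ 6397 Q6397 (allL N6397 (tt N5387 F48438) (tt N7387 (iv F52421)) (tt N5374 F48439) (tt N5441 F48440) (tt N7221 (iv F51800)) (tt N5443 F48441) (tt N7097 (iv F51205)) (tt N7388 D13275) (tt N5373 (iv D12284)))
theorem Q6399 : ∀ i, i < 6399 → P i := stepQ 6398 Q6398 (allL N6398 (tt N5388 F48442) (tt N7363 (iv F52335)) (tt N7388 (iv F52425)) (tt N5449 F48443) (tt N7222 (iv F51804)) (tt N5829 F48444) (tt N7226 (iv F51819)) (tt N5374 (iv D12285)) (tt N5381 F48445))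
theorem Q6400 : ∀ i, i < 6400 → P i := stepQ 6399 Q6399 (allL N6399 (tt N5389 F48446) (tt N7365 (iv F52342)) (tt N7112 (iv F51277)) (tt N5452 F48447) (tt N7219 (iv F51789)) (tt N7117 (iv F51306)) (tt N5381 F48448) (tt N5375 (iv D12286)) (tt N7226 (iv F51820)))
theorem Q6401 : ∀ i, i < 6401 → P i := stepQ 6400 Q6400 (allL N6400 (tt N7257 (iv F51939)) (tt N5377 F48449) (tt N7366 (iv F52346)) (tt N6400 F48450) (tt N5376 (iv D12287)) (tt N7389 D13276) (tt N7053 (iv F51052)) (tt N7220 (iv F51796)) (tt N7390 D13277))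
theorem Q6402 : ∀ i, i < 6402 → P i := stepQ 6401 Q6401 (allL N6401 (tt N7258 (iv F51942)) (tt N5378 F48451) (tt N7367 (iv F52348)) (tt N5386 F48452) (tt N7390 (iv F52433)) (tt N5411 F48453) (tt N7054 (iv F51058)) (tt N7391 D13278) (tt N5376 (iv D12288)))
theorem Q6403 : ∀ i, i < 6403 → P i := stepQ 6402 Q6402 (allL N6402 (tt N5390 F48454) (tt N7389 (iv F52428)) (tt N5379 F48455) (tt N6402 F48456) (tt N5450 F48457) (tt N5377 (iv D12289)) (tt N7000 (iv F50821)) (tt N7009 (iv F50868)) (tt N7392 D13279))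
theorem Q6404 : ∀ i, i < 6404 → P i := stepQ 6403 Q6403 (allL N6403 (tt N5391 F48458) (tt N7390 (iv F52431)) (tt N5380 F48459) (tt N6403 F48460) (tt N5378 F48461) (tt N7392 (iv F52440)) (tt N7111 (iv F51275)) (tt N7393 D13280) (tt N5377 (iv D12290)))
theorem Q6405 : ∀ i, i < 6405 → P i := stepQ 6404 Q6404 (allL N6404 (tt N5392 F48462) (tt N7391 (iv F52434)) (tt N5381 F48463) (tt N7117 (iv F51305)) (tt N7393 (iv F52443)) (tt N5452 F48464) (tt N7112 (iv F51280)) (tt N5378 (iv D12291)) (tt N7388 (iv F52427)))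
theorem Q6406 : ∀ i, i < 6406 → P i := stepQ 6405 Q6405 (allL N6405 (tt N5393 F48465) (tt N7372 (iv F52359)) (tt N7392 (iv F52437)) (tt N5382 F48466) (tt N5831 F48467) (tt N5380 F48468) (tt N7142 (iv F51421)) (tt N7394 D13281) (tt N5379 (iv D12292)))
theorem Q6407 : ∀ i, i < 6407 → P i := stepQ 6406 Q6406 (allL N6406 (tt N5394 F48469) (tt N7373 (iv F52363)) (tt N7393 (iv F52442)) (tt N7301 (iv F52111)) (tt N5381 F48470) (tt N7394 (iv F52446)) (tt N7219 (iv F51791)) (tt N5380 (iv D12293)) (tt N7222 (iv F51806)))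
theorem Q6408 : ∀ i, i < 6408 → P i := stepQ 6407 Q6407 (allL N6407 (tt N5395 F48471) (tt N7385 (iv F52412)) (tt N6407 F48472) (tt N7201 (iv F51698)) (tt N6954 (iv F50600)) (tt N6407 F48473) (tt N5384 F48474) (tt N5383 (iv D12294)) (tt N5652 F48475))
theorem Q6409 : ∀ i, i < 6409 → P i := stepQ 6408 Q6408 (allL N6408 (tt N5396 F48476) (tt N7386 (iv F52416)) (tt N6988 (iv F50757)) (tt N5384 (iv D12295)) (tt N6987 (iv F50751)) (tt N5385 F48477) (tt N7201 (iv F51701)) (tt N5837 F48478) (tt N5653 F48479))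
theorem Q6410 : ∀ i, i < 6410 → P i := stepQ 6409 Q6409 (allL N6409 (tt N5397 F48480) (tt N6330 F48481) (tt N5385 (iv D12296)) (tt N6409 F48482) (tt N5470 F48483) (tt N6988 (iv F50760)) (tt N6409 F48484) (tt N5838 F48485) (tt N5654 F48486))
theorem Q6411 : ∀ i, i < 6411 → P i := stepQ 6410 Q6410 (allL N6410 (tt N7388 (iv F52424)) (tt N7336 (iv F52240)) (tt N5388 F48487) (tt N7140 (iv F51407)) (tt N7232 (iv F51842)) (tt N5473 F48488) (tt N7139 (iv F51403)) (tt N5387 (iv D12297)) (tt N5392 F48489))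
theorem Q6412 : ∀ i, i < 6412 → P i := stepQ 6411 Q6411 (allL N6411 (tt N7392 (iv F52436)) (tt N6997 (iv F50801)) (tt N5393 F48490) (tt N6411 F48491) (tt N5484 F48492) (tt N5391 F48493) (tt N7001 (iv F50828)) (tt N7395 D13282) (tt N5390 (iv D12298)))
theorem Q6413 : ∀ i, i < 6413 → P i := stepQ 6412 Q6412 (allL N6412 (tt N7393 (iv F52441)) (tt N7343 (iv F52268)) (tt N5394 F48494) (tt N7396 D13283) (tt N5392 F48495) (tt N7395 (iv F52449)) (tt N7149 (iv F51453)) (tt N5391 (iv D12299)) (tt N7232 (iv F51844)))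
theorem Q6414 : ∀ i, i < 6414 → P i := stepQ 6413 Q6413 (allL N6413 (tt N7394 (iv F52444)) (tt N7140 (iv F51405)) (tt N7395 (iv F52447)) (tt N7336 (iv F52241)) (tt N5842 F48496) (tt N5394 F48497) (tt N7143 (iv F51425)) (tt N5393 (iv D12300)) (tt N7151 (iv F51465)))
theorem Q6415 : ∀ i, i < 6415 → P i := stepQ 6414 Q6414 (allL N6414 (tt N5646 F48498) (tt N5509 F48499) (tt N5402 F48500) (tt N6698 F49573) (tt N5398 (iv D12301)) (tt N5598 F48501) (tt N7033 (iv F50984)) (tt N6700 (iv F49581)) (tt N5597 F48502))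
theorem Q6416 : ∀ i, i < 6416 → P i := stepQ 6415 Q6415 (allL N6415 (tt N7240 (iv F51876)) (tt N5506 F48503) (tt N5403 F48504) (tt N7397 D13284) (tt N6700 F49583) (tt N5399 F48505) (tt N7034 (iv F50989)) (tt N5398 (iv D12302)) (tt N7398 D13285))
theorem Q6417 : ∀ i, i < 6417 → P i := stepQ 6416 Q6416 (allL N6416 (tt N7241 (iv F51881)) (tt N5511 F48506) (tt N7399 D13286) (tt N5399 (iv D12303)) (tt N7400 D13287) (tt N7397 (iv F52452)) (tt N5400 F48507) (tt N6539 (iv F48911)) (tt N7401 D13288))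
theorem Q6418 : ∀ i, i < 6418 → P i := stepQ 6417 Q6417 (allL N6417 (tt N7242 (iv F51884)) (tt N5512 F48508) (tt N5405 F48509) (tt N7401 (iv F52464)) (tt N5656 F48510) (tt N7398 (iv F52456)) (tt N5401 F48511) (tt N7215 (iv F51775)) (tt N5399 (iv D12304)))
theorem Q6419 : ∀ i, i < 6419 → P i := stepQ 6418 Q6418 (allL N6418 (tt N7243 (iv F51890)) (tt N7402 D13289) (tt N5400 (iv D12305)) (tt N5406 F48512) (tt N7403 D13290) (tt N7037 (iv F50998)) (tt N7399 (iv F52459)) (tt N6798 (iv F49963)) (tt N7404 D13291))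
theorem Q6420 : ∀ i, i < 6420 → P i := stepQ 6419 Q6419 (allL N6419 (tt N7244 (iv F51892)) (tt N5514 F48513) (tt N7403 (iv F52470)) (tt N5658 F48514) (tt N5400 (iv D12306)) (tt N7405 D13292) (tt N7400 (iv F52462)) (tt N6799 (iv F49966)) (tt N7406 D13293))
theorem Q6421 : ∀ i, i < 6421 → P i := stepQ 6420 Q6420 (allL N6420 (tt N7245 (iv F51895)) (tt N5515 F48515) (tt N7404 (iv F52471)) (tt N5401 F48516) (tt N7406 (iv F52477)) (tt N7039 (iv F51003)) (tt N7401 (iv F52465)) (tt N7407 D13294) (tt N5400 (iv D12307)))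
theorem Q6422 : ∀ i, i < 6422 → P i := stepQ 6421 Q6421 (allL N6421 (tt N5650 F48517) (tt N5440 F48518) (tt N6700 (iv F49582)) (tt N6701 (iv F49586)) (tt N5403 F48519) (tt N5600 F48520) (tt N7040 (iv F51008)) (tt N5402 (iv D12308)) (tt N7218 (iv F51786)))
theorem Q6423 : ∀ i, i < 6423 → P i := stepQ 6422 Q6422 (allL N6422 (tt N7247 (iv F51902)) (tt N5441 F48521) (tt N7398 (iv F52455)) (tt N7387 (iv F52422)) (tt N7218 (iv F51784)) (tt N5405 F48522) (tt N7042 (iv F51017)) (tt N7193 (iv F51651)) (tt N5403 (iv D12309)))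
theorem Q6424 : ∀ i, i < 6424 → P i := stepQ 6423 Q6423 (allL N6423 (tt N7248 (iv F51907)) (tt N5802 F48523) (tt N5404 (iv D12310)) (tt N7399 (iv F52458)) (tt N7408 D13295) (tt N7361 (iv F52331)) (tt N5406 F48524) (tt N5409 F48525) (tt N7409 D13296))
theorem Q6425 : ∀ i, i < 6425 → P i := stepQ 6424 Q6424 (allL N6424 (tt N5679 F48526) (tt N5442 F48527) (tt N7408 (iv F52481)) (tt N5617 F48528) (tt N5404 (iv D12311)) (tt N7410 D13297) (tt N5407 F48529) (tt N5410 F48530) (tt N7289 (iv F52063)))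
theorem Q6426 : ∀ i, i < 6426 → P i := stepQ 6425 Q6425 (allL N6425 (tt N7249 (iv F51911)) (tt N5443 F48531) (tt N7409 (iv F52485)) (tt N5405 F48532) (tt N7289 (iv F52061)) (tt N7387 (iv F52423)) (tt N5408 F48533) (tt N7411 D13298) (tt N5404 (iv D12312)))
theorem Q6427 : ∀ i, i < 6427 → P i := stepQ 6426 Q6426 (allL N6426 (tt N7412 D13299) (tt N5406 (iv D12313)) (tt N5444 F48534) (tt N7402 (iv F52467)) (tt N7413 D13300) (tt N7046 (iv F51030)) (tt N5802 F48535) (tt N5412 F48536) (tt N7414 D13301))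
theorem Q6428 : ∀ i, i < 6428 → P i := stepQ 6427 Q6427 (allL N6427 (tt N7251 (iv F51918)) (tt N7413 (iv F52497)) (tt N5407 F48537) (tt N7415 D13302) (tt N5406 (iv D12314)) (tt N7416 D13303) (tt N7408 (iv F52482)) (tt N5413 F48538) (tt N7417 D13304))
theorem Q6429 : ∀ i, i < 6429 → P i := stepQ 6428 Q6428 (allL N6428 (tt N7252 (iv F51922)) (tt N7414 (iv F52501)) (tt N5408 F48539) (tt N7404 (iv F52472)) (tt N7417 (iv F52508)) (tt N7048 (iv F51035)) (tt N7409 (iv F52486)) (tt N7418 D13305) (tt N5406 (iv D12315)))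
theorem Q6430 : ∀ i, i < 6430 → P i := stepQ 6429 Q6429 (allL N6429 (tt N7253 (iv F51924)) (tt N5447 F48540) (tt N7416 (iv F52505)) (tt N5662 F48541) (tt N7049 (iv F51038)) (tt N5407 (iv D12316)) (tt N7419 D13306) (tt N5415 F48542) (tt N7420 D13307))
theorem Q6431 : ∀ i, i < 6431 → P i := stepQ 6430 Q6430 (allL N6430 (tt N7254 (iv F51928)) (tt N5448 F48543) (tt N7417 (iv F52507)) (tt N5663 F48544) (tt N5408 F48545) (tt N7420 (iv F52516)) (tt N7289 (iv F52062)) (tt N7421 D13308) (tt N5407 (iv D12317)))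
theorem Q6432 : ∀ i, i < 6432 → P i := stepQ 6431 Q6431 (allL N6431 (tt N7255 (iv F51933)) (tt N5449 F48546) (tt N7418 (iv F52509)) (tt N7363 (iv F52336)) (tt N7421 (iv F52518)) (tt N7051 (iv F51045)) (tt N7411 (iv F52492)) (tt N5408 (iv D12318)) (tt N5417 F48547))
theorem Q6433 : ∀ i, i < 6433 → P i := stepQ 6432 Q6432 (allL N6432 (tt N7260 (iv F51949)) (tt N5805 F48548) (tt N5410 F48549) (tt N7422 D13309) (tt N5409 (iv D12319)) (tt N7423 D13310) (tt N5413 F48550) (tt N7408 (iv F52483)) (tt N7424 D13311))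
theorem Q6434 : ∀ i, i < 6434 → P i := stepQ 6433 Q6433 (allL N6433 (tt N7261 (iv F51953)) (tt N5806 F48551) (tt N5411 F48552) (tt N6439 (iv F48570)) (tt N7424 (iv F52527)) (tt N7367 (iv F52350)) (tt N5414 F48553) (tt N7425 D13312) (tt N5409 (iv D12320)))
theorem Q6435 : ∀ i, i < 6435 → P i := stepQ 6434 Q6434 (allL N6434 (tt N7262 (iv F51956)) (tt N5450 F48554) (tt N7423 (iv F52524)) (tt N5420 F48555) (tt N7389 (iv F52430)) (tt N5410 (iv D12321)) (tt N7426 D13313) (tt N7410 (iv F52490)) (tt N7427 D13314))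
theorem Q6436 : ∀ i, i < 6436 → P i := stepQ 6435 Q6435 (allL N6435 (tt N7263 (iv F51960)) (tt N5451 F48556) (tt N7424 (iv F52526)) (tt N5421 F48557) (tt N5411 F48558) (tt N7427 (iv F52537)) (tt N5416 F48559) (tt N7428 D13315) (tt N5410 (iv D12322)))
theorem Q6437 : ∀ i, i < 6437 → P i := stepQ 6436 Q6436 (allL N6436 (tt N7264 (iv F51965)) (tt N5452 F48560) (tt N7425 (iv F52530)) (tt N7365 (iv F52343)) (tt N7428 (iv F52539)) (tt N7391 (iv F52435)) (tt N5417 F48561) (tt N5411 (iv D12323)) (tt N7411 (iv F52493)))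
theorem Q6438 : ∀ i, i < 6438 → P i := stepQ 6437 Q6437 (allL N6437 (tt N5412 (iv D12324)) (tt N7265 (iv F51968)) (tt N5453 F48562) (tt N6266 F48563) (tt N7429 D13316) (tt N7061 (iv F51080)) (tt N5754 F48564) (tt N7412 (iv F52496)) (tt N7430 D13317))
theorem Q6439 : ∀ i, i < 6439 → P i := stepQ 6438 Q6438 (allL N6438 (tt N7429 (iv F52541)) (tt N5413 F48565) (tt N5454 F48566) (tt N7431 D13318) (tt N5412 (iv D12325)) (tt N7432 D13319) (tt N5805 F48567) (tt N7413 (iv F52500)) (tt N7433 D13320))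
theorem Q6440 : ∀ i, i < 6440 → P i := stepQ 6439 Q6439 (allL N6439 (tt N7430 (iv F52544)) (tt N5414 F48568) (tt N5455 F48569) (tt N6433 F48570) (tt N7433 (iv F52556)) (tt N7063 (iv F51085)) (tt N5806 F48571) (tt N7434 D13321) (tt N5412 (iv D12326)))
theorem Q6441 : ∀ i, i < 6441 → P i := stepQ 6440 Q6440 (allL N6440 (tt N7268 (iv F51976)) (tt N7431 (iv F52548)) (tt N5423 F48572) (tt N5413 (iv D12327)) (tt N6806 (iv F49981)) (tt N7435 D13322) (tt N7422 (iv F52522)) (tt N7436 D13323) (tt N7437 D13324))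
theorem Q6442 : ∀ i, i < 6442 → P i := stepQ 6441 Q6441 (allL N6441 (tt N7269 (iv F51978)) (tt N7432 (iv F52552)) (tt N5415 F48573) (tt N7435 (iv F52562)) (tt N7065 (iv F51088)) (tt N5413 (iv D12328)) (tt N7438 D13325) (tt N7416 (iv F52506)) (tt N7439 D13326))
theorem Q6443 : ∀ i, i < 6443 → P i := stepQ 6442 Q6442 (allL N6442 (tt N7270 (iv F51980)) (tt N7433 (iv F52554)) (tt N5416 F48574) (tt N7437 (iv F52565)) (tt N5414 F48575) (tt N7439 (iv F52568)) (tt N7424 (iv F52528)) (tt N7440 D13327) (tt N5413 (iv D12329)))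
theorem Q6444 : ∀ i, i < 6444 → P i := stepQ 6443 Q6443 (allL N6443 (tt N7271 (iv F51983)) (tt N7434 (iv F52558)) (tt N5417 F48576) (tt N7441 D13328) (tt N7440 (iv F52570)) (tt N7067 (iv F51092)) (tt N7425 (iv F52531)) (tt N5414 (iv D12330)) (tt N7418 (iv F52510)))
theorem Q6445 : ∀ i, i < 6445 → P i := stepQ 6444 Q6444 (allL N6444 (tt N7272 (iv F51985)) (tt N5459 F48577) (tt N7438 (iv F52566)) (tt N5427 F48578) (tt N7068 (iv F51095)) (tt N7426 (iv F52534)) (tt N5415 (iv D12331)) (tt N7419 (iv F52513)) (tt N7442 D13329))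
theorem Q6446 : ∀ i, i < 6446 → P i := stepQ 6445 Q6445 (allL N6445 (tt N7273 (iv F51988)) (tt N5460 F48579) (tt N7439 (iv F52567)) (tt N5428 F48580) (tt N7069 (iv F51098)) (tt N5416 F48581) (tt N7442 (iv F52573)) (tt N7443 D13330) (tt N5415 (iv D12332)))
theorem Q6447 : ∀ i, i < 6447 → P i := stepQ 6446 Q6446 (allL N6446 (tt N7274 (iv F51992)) (tt N5461 F48582) (tt N7440 (iv F52569)) (tt N7444 D13331) (tt N5417 F48583) (tt N7443 (iv F52575)) (tt N7428 (iv F52540)) (tt N5416 (iv D12333)) (tt N7421 (iv F52519)))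
theorem Q6448 : ∀ i, i < 6448 → P i := stepQ 6447 Q6447 (allL N6447 (tt N7275 (iv F51995)) (tt N5532 F48584) (tt N7422 (iv F52521)) (tt N5418 (iv D12334)) (tt N6550 (iv F48952)) (tt N7445 D13332) (tt N5423 F48585) (tt N7446 D13333) (tt N7447 D13334))
theorem Q6449 : ∀ i, i < 6449 → P i := stepQ 6448 Q6448 (allL N6448 (tt N7276 (iv F51998)) (tt N5533 F48586) (tt N5420 F48587) (tt N7445 (iv F52579)) (tt N6448 F48588) (tt N5418 (iv D12335)) (tt N7448 D13335) (tt N5668 F48589) (tt N7449 D13336))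
theorem Q6450 : ∀ i, i < 6450 → P i := stepQ 6449 Q6449 (allL N6449 (tt N7277 (iv F52003)) (tt N5534 F48590) (tt N5421 F48591) (tt N7447 (iv F52584)) (tt N5419 F48592) (tt N7449 (iv F52594)) (tt N5425 F48593) (tt N7450 D13337) (tt N5418 (iv D12336)))
theorem Q6451 : ∀ i, i < 6451 → P i := stepQ 6450 Q6450 (allL N6450 (tt N5661 F48594) (tt N5535 F48595) (tt N5422 F48596) (tt N7451 D13338) (tt N7450 (iv F52598)) (tt N6450 F48597) (tt N5426 F48598) (tt N5419 (iv D12337)) (tt N5605 F48599))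
theorem Q6452 : ∀ i, i < 6452 → P i := stepQ 6451 Q6451 (allL N6451 (tt N7278 (iv F52009)) (tt N5462 F48600) (tt N7448 (iv F52587)) (tt N7426 (iv F52533)) (tt N6451 F48601) (tt N5427 F48602) (tt N5420 (iv D12338)) (tt N5669 F48603) (tt N7452 D13339))
theorem Q6453 : ∀ i, i < 6453 → P i := stepQ 6452 Q6452 (allL N6452 (tt N7279 (iv F52014)) (tt N5463 F48604) (tt N7449 (iv F52592)) (tt N7427 (iv F52536)) (tt N6452 F48605) (tt N5421 F48606) (tt N7452 (iv F52610)) (tt N7453 D13340) (tt N5420 (iv D12339)))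
theorem Q6454 : ∀ i, i < 6454 → P i := stepQ 6453 Q6453 (allL N6453 (tt N5663 F48607) (tt N5464 F48608) (tt N7450 (iv F52597)) (tt N7254 (iv F51930)) (tt N5422 F48609) (tt N7453 (iv F52614)) (tt N5429 F48610) (tt N5421 (iv D12340)) (tt N5606 F48611))
theorem Q6455 : ∀ i, i < 6455 → P i := stepQ 6454 Q6454 (allL N6454 (tt N7280 (iv F52019)) (tt N5539 F48612) (tt N7435 (iv F52561)) (tt N5424 F48613) (tt N7454 D13341) (tt N5423 (iv D12341)) (tt N7455 D13342) (tt N7456 D13343) (tt N7457 D13344))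
theorem Q6456 : ∀ i, i < 6456 → P i := stepQ 6455 Q6455 (allL N6455 (tt N7281 (iv F52022)) (tt N5540 F48614) (tt N7436 (iv F52563)) (tt N5671 F48615) (tt N6814 (iv F49997)) (tt N7456 (iv F52624)) (tt N7446 (iv F52582)) (tt N5423 (iv D12342)) (tt N7458 D13345))
theorem Q6457 : ∀ i, i < 6457 → P i := stepQ 6456 Q6456 (allL N6456 (tt N7282 (iv F52025)) (tt N5541 F48616) (tt N7437 (iv F52564)) (tt N5425 F48617) (tt N6815 (iv F50000)) (tt N7457 (iv F52628)) (tt N7447 (iv F52585)) (tt N7459 D13346) (tt N5423 (iv D12343)))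
theorem Q6458 : ∀ i, i < 6458 → P i := stepQ 6457 Q6457 (allL N6457 (tt N7283 (iv F52028)) (tt N5542 F48618) (tt N5427 F48619) (tt N7455 (iv F52619)) (tt N5433 F48620) (tt N7448 (iv F52589)) (tt N5424 (iv D12344)) (tt N5673 F48621) (tt N7460 D13347))
theorem Q6459 : ∀ i, i < 6459 → P i := stepQ 6458 Q6458 (allL N6458 (tt N7284 (iv F52033)) (tt N5543 F48622) (tt N5428 F48623) (tt N7457 (iv F52627)) (tt N5434 F48624) (tt N5425 F48625) (tt N7460 (iv F52635)) (tt N7461 D13348) (tt N5424 (iv D12345)))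
theorem Q6460 : ∀ i, i < 6460 → P i := stepQ 6459 Q6459 (allL N6459 (tt N7285 (iv F52038)) (tt N5544 F48626) (tt N5429 F48627) (tt N7462 D13349) (tt N5426 F48628) (tt N7461 (iv F52639)) (tt N7450 (iv F52599)) (tt N5425 (iv D12346)) (tt N5675 F48629))
theorem Q6461 : ∀ i, i < 6461 → P i := stepQ 6460 Q6460 (allL N6460 (tt N7286 (iv F52044)) (tt N5545 F48630) (tt N7378 (iv F52381)) (tt N5426 (iv D12347)) (tt N7463 D13350) (tt N5436 F48631) (tt N7451 (iv F52605)) (tt N6819 (iv F50015)) (tt N5676 F48632))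
theorem Q6462 : ∀ i, i < 6462 → P i := stepQ 6461 Q6461 (allL N6461 (tt N7287 (iv F52050)) (tt N5465 F48633) (tt N7460 (iv F52633)) (tt N7442 (iv F52572)) (tt N5437 F48634) (tt N7452 (iv F52609)) (tt N5428 F48635) (tt N7464 D13351) (tt N5427 (iv D12348)))
theorem Q6463 : ∀ i, i < 6463 → P i := stepQ 6462 Q6462 (allL N6462 (tt N7288 (iv F52054)) (tt N5466 F48636) (tt N7461 (iv F52637)) (tt N7465 D13352) (tt N5438 F48637) (tt N5429 F48638) (tt N7464 (iv F52647)) (tt N5428 (iv D12349)) (tt N5678 F48639))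
theorem Q6464 : ∀ i, i < 6464 → P i := stepQ 6463 Q6463 (allL N6463 (tt N7289 (iv F52059)) (tt N5467 F48640) (tt N7466 D13353) (tt N5429 (iv D12350)) (tt N7249 (iv F51914)) (tt N7465 (iv F52650)) (tt N7254 (iv F51932)) (tt N7444 (iv F52577)) (tt N5679 F48641))
theorem Q6465 : ∀ i, i < 6465 → P i := stepQ 6464 Q6464 (allL N6464 (tt N7290 (iv F52064)) (tt N5549 F48642) (tt N7088 (iv F51164)) (tt N7454 (iv F52617)) (tt N5430 (iv D12351)) (tt N6823 (iv F50027)) (tt N6684 (iv F49527)) (tt N6683 F49523) (tt N7467 D13354))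
theorem Q6466 : ∀ i, i < 6466 → P i := stepQ 6465 Q6465 (allL N6465 (tt N7291 (iv F52066)) (tt N5550 F48643) (tt N7089 (iv F51166)) (tt N5433 F48644) (tt N6684 (iv F49525)) (tt N6465 F48645) (tt N5430 (iv D12352)) (tt N6682 F49519) (tt N7468 D13355))
theorem Q6467 : ∀ i, i < 6467 → P i := stepQ 6466 Q6466 (allL N6466 (tt N7292 (iv F52070)) (tt N5551 F48646) (tt N7090 (iv F51170)) (tt N5682 F48647) (tt N6683 (iv F49522)) (tt N5431 F48648) (tt N6682 F49518) (tt N5430 (iv D12353)) (tt N7469 D13356))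
theorem Q6468 : ∀ i, i < 6468 → P i := stepQ 6467 Q6467 (allL N6467 (tt N7293 (iv F52074)) (tt N5552 F48649) (tt N7091 (iv F51174)) (tt N5434 F48650) (tt N7467 (iv F52654)) (tt N5432 F48651) (tt N7468 (iv F52658)) (tt N7470 D13357) (tt N5430 (iv D12354)))
theorem Q6469 : ∀ i, i < 6469 → P i := stepQ 6468 Q6468 (allL N6468 (tt N6387 F48652) (tt N5553 F48653) (tt N6761 (iv F49834)) (tt N5684 F48654) (tt N6827 (iv F50041)) (tt N7469 (iv F52662)) (tt N6468 F48655) (tt N6221 (iv F48656)) (tt N5431 (iv D12355)))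
theorem Q6470 : ∀ i, i < 6470 → P i := stepQ 6469 Q6469 (allL N6469 (tt N6388 F48657) (tt N5554 F48658) (tt N6762 (iv F49841)) (tt N6223 (iv F48661)) (tt N6828 (iv F50047)) (tt N7470 (iv F52666)) (tt N6469 F48659) (tt N5432 (iv D12356)) (tt N6221 F48660))
theorem Q6471 : ∀ i, i < 6471 → P i := stepQ 6470 Q6470 (allL N6470 (tt N7294 (iv F52078)) (tt N5555 F48662) (tt N5437 F48663) (tt N7468 (iv F52656)) (tt N7460 (iv F52634)) (tt N6470 F48664) (tt N5434 F48665) (tt N7471 D13358) (tt N5433 (iv D12357)))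
theorem Q6472 : ∀ i, i < 6472 → P i := stepQ 6471 Q6471 (allL N6471 (tt N7295 (iv F52083)) (tt N5556 F48666) (tt N5438 F48667) (tt N7472 D13359) (tt N7461 (iv F52638)) (tt N5435 F48668) (tt N7471 (iv F52672)) (tt N5434 (iv D12358)) (tt N5687 F48669))
theorem Q6473 : ∀ i, i < 6473 → P i := stepQ 6472 Q6472 (allL N6472 (tt N6391 F48670) (tt N5557 F48671) (tt N6226 (iv F48675)) (tt N5435 (iv D12359)) (tt N6224 (iv F48676)) (tt N7472 (iv F52676)) (tt N6472 F48672) (tt N6223 F48673) (tt N5688 F48674))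
theorem Q6474 : ∀ i, i < 6474 → P i := stepQ 6473 Q6473 (allL N6473 (tt N6392 F48677) (tt N5558 F48678) (tt N6292 F48679) (tt N6224 F48680) (tt N5436 (iv D12360)) (tt N6665 (iv F49466)) (tt N6473 F48681) (tt N6832 (iv F50071)) (tt N5689 F48682))
theorem Q6475 : ∀ i, i < 6475 → P i := stepQ 6474 Q6474 (allL N6474 (tt N7296 (iv F52088)) (tt N5468 F48683) (tt N7471 (iv F52670)) (tt N6913 (iv F50421)) (tt N7464 (iv F52646)) (tt N6474 F48684) (tt N5438 F48685) (tt N5437 (iv D12361)) (tt N5690 F48686))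
theorem Q6476 : ∀ i, i < 6476 → P i := stepQ 6475 Q6475 (allL N6475 (tt N7297 (iv F52093)) (tt N5469 F48687) (tt N7473 D13360) (tt N5438 (iv D12362)) (tt N6991 (iv F50777)) (tt N5439 F48688) (tt N6913 (iv F50424)) (tt N7095 (iv F51191)) (tt N5691 F48689))
theorem Q6477 : ∀ i, i < 6477 → P i := stepQ 6476 Q6476 (allL N6476 (tt N6395 F48690) (tt N6235 (iv F48695)) (tt N5439 (iv D12363)) (tt N6226 F48691) (tt N6295 F48692) (tt N7473 (iv F52685)) (tt N6476 F48693) (tt N6769 (iv F49880)) (tt N5692 F48694))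
theorem Q6478 : ∀ i, i < 6478 → P i := stepQ 6477 Q6477 (allL N6477 (tt N5472 F48696) (tt N7410 (iv F52488)) (tt N5827 F48697) (tt N5632 F48698) (tt N7009 (iv F50865)) (tt N5442 (iv D12364)) (tt N7013 (iv F50886)) (tt N5450 F48699) (tt N7330 (iv F52219)))
theorem Q6479 : ∀ i, i < 6479 → P i := stepQ 6478 Q6478 (allL N6478 (tt N5473 F48700) (tt N7411 (iv F52491)) (tt N5829 F48701) (tt N7226 (iv F51817)) (tt N7327 (iv F52200)) (tt N7388 (iv F52426)) (tt N5449 F48702) (tt N5443 (iv D12365)) (tt N5452 F48703))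
theorem Q6480 : ∀ i, i < 6480 → P i := stepQ 6479 Q6479 (allL N6479 (tt N5444 (iv D12366)) (tt N5474 F48704) (tt N7412 (iv F52494)) (tt N5519 F48705) (tt N7474 D13361) (tt N7102 (iv F51230)) (tt N5752 F48706) (tt N5453 F48707) (tt N7475 D13362))
theorem Q6481 : ∀ i, i < 6481 → P i := stepQ 6480 Q6480 (allL N6480 (tt N7474 (iv F52688)) (tt N5445 F48708) (tt N7413 (iv F52498)) (tt N6480 F48709) (tt N5444 (iv D12367)) (tt N7476 D13363) (tt N5803 F48710) (tt N5454 F48711) (tt N7477 D13364))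
theorem Q6482 : ∀ i, i < 6482 → P i := stepQ 6481 Q6481 (allL N6481 (tt N7475 (iv F52693)) (tt N5446 F48712) (tt N7414 (iv F52502)) (tt N5520 F48713) (tt N7477 (iv F52702)) (tt N7104 (iv F51241)) (tt N5804 F48714) (tt N7478 D13365) (tt N5444 (iv D12368)))
theorem Q6483 : ∀ i, i < 6483 → P i := stepQ 6482 Q6482 (allL N6482 (tt N5477 F48715) (tt N7476 (iv F52697)) (tt N5447 F48716) (tt N6482 F48717) (tt N7105 (iv F51245)) (tt N5445 (iv D12369)) (tt N7156 (iv F51490)) (tt N5456 F48718) (tt N7479 D13366))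
theorem Q6484 : ∀ i, i < 6484 → P i := stepQ 6483 Q6483 (allL N6483 (tt N5478 F48719) (tt N7477 (iv F52700)) (tt N5448 F48720) (tt N6483 F48721) (tt N5446 F48722) (tt N7479 (iv F52710)) (tt N5828 F48723) (tt N7480 D13367) (tt N5445 (iv D12370)))
theorem Q6485 : ∀ i, i < 6485 → P i := stepQ 6484 Q6484 (allL N6484 (tt N5479 F48724) (tt N7478 (iv F52704)) (tt N5449 F48725) (tt N7101 (iv F51225)) (tt N7480 (iv F52713)) (tt N7107 (iv F51255)) (tt N5829 F48726) (tt N5446 (iv D12371)) (tt N5458 F48727))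
theorem Q6486 : ∀ i, i < 6486 → P i := stepQ 6485 Q6485 (allL N6485 (tt N5480 F48728) (tt N7419 (iv F52511)) (tt N7156 (iv F51487)) (tt N5693 F48729) (tt N7108 (iv F51260)) (tt N7013 F50888) (tt N5447 (iv D12372)) (tt N5459 F48730) (tt N7481 D13368))
theorem Q6487 : ∀ i, i < 6487 → P i := stepQ 6486 Q6486 (allL N6486 (tt N5481 F48731) (tt N7420 (iv F52514)) (tt N7479 (iv F52708)) (tt N5694 F48732) (tt N7109 (iv F51265)) (tt N5448 F48733) (tt N7481 (iv F52718)) (tt N7482 D13369) (tt N5447 (iv D12373)))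
theorem Q6488 : ∀ i, i < 6488 → P i := stepQ 6487 Q6487 (allL N6487 (tt N5482 F48734) (tt N7421 (iv F52517)) (tt N7480 (iv F52712)) (tt N7316 (iv F52167)) (tt N5449 F48735) (tt N7482 (iv F52720)) (tt N7327 (iv F52201)) (tt N5448 (iv D12374)) (tt N5461 F48736))
theorem Q6489 : ∀ i, i < 6489 → P i := stepQ 6488 Q6488 (allL N6488 (tt N5483 F48737) (tt N7426 (iv F52532)) (tt N5830 F48738) (tt N5462 F48739) (tt N7000 (iv F50819)) (tt N5459 F48740) (tt N5450 (iv D12375)) (tt N7013 (iv F50887)) (tt N7483 D13370))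
theorem Q6490 : ∀ i, i < 6490 → P i := stepQ 6489 Q6489 (allL N6489 (tt N5484 F48741) (tt N7427 (iv F52535)) (tt N5831 F48742) (tt N5463 F48743) (tt N7392 (iv F52439)) (tt N5451 F48744) (tt N7483 (iv F52726)) (tt N7484 D13371) (tt N5450 (iv D12376)))
theorem Q6491 : ∀ i, i < 6491 → P i := stepQ 6490 Q6490 (allL N6490 (tt N5485 F48745) (tt N7428 (iv F52538)) (tt N5832 F48746) (tt N7308 (iv F52137)) (tt N5452 F48747) (tt N7484 (iv F52729)) (tt N5461 F48748) (tt N5451 (iv D12377)) (tt N7327 (iv F52203)))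
theorem Q6492 : ∀ i, i < 6492 → P i := stepQ 6491 Q6491 (allL N6491 (tt N5454 F48749) (tt N5486 F48750) (tt N7429 (iv F52542)) (tt N5562 F48751) (tt N5453 (iv D12378)) (tt N7485 D13372) (tt N5755 F48752) (tt N7474 (iv F52692)) (tt N7486 D13373))
theorem Q6493 : ∀ i, i < 6493 → P i := stepQ 6492 Q6492 (allL N6492 (tt N5455 F48753) (tt N5487 F48754) (tt N7430 (iv F52545)) (tt N5471 F48755) (tt N7486 (iv F52736)) (tt N7122 (iv F51330)) (tt N5756 F48756) (tt N7487 D13374) (tt N5453 (iv D12379)))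
theorem Q6494 : ∀ i, i < 6494 → P i := stepQ 6493 Q6493 (allL N6493 (tt N7485 (iv F52730)) (tt N5456 F48757) (tt N7432 (iv F52553)) (tt N5564 F48758) (tt N7123 (iv F51333)) (tt N5454 (iv D12380)) (tt N7488 D13375) (tt N7476 (iv F52699)) (tt N7489 D13376))
theorem Q6495 : ∀ i, i < 6495 → P i := stepQ 6494 Q6494 (allL N6494 (tt N7486 (iv F52733)) (tt N5457 F48759) (tt N7433 (iv F52555)) (tt N5565 F48760) (tt N5455 F48761) (tt N7489 (iv F52746)) (tt N5808 F48762) (tt N7490 D13377) (tt N5454 (iv D12381)))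
theorem Q6496 : ∀ i, i < 6496 → P i := stepQ 6495 Q6495 (allL N6495 (tt N7487 (iv F52738)) (tt N5458 F48763) (tt N7434 (iv F52559)) (tt N7060 (iv F51077)) (tt N7490 (iv F52748)) (tt N7125 (iv F51338)) (tt N5809 F48764) (tt N5455 (iv D12382)) (tt N7478 (iv F52706)))
theorem Q6497 : ∀ i, i < 6497 → P i := stepQ 6496 Q6496 (allL N6496 (tt N5491 F48765) (tt N7488 (iv F52741)) (tt N5459 F48766) (tt N5567 F48767) (tt N7126 (iv F51342)) (tt N5830 F48768) (tt N5456 (iv D12383)) (tt N7156 (iv F51491)) (tt N7491 D13378))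
theorem Q6498 : ∀ i, i < 6498 → P i := stepQ 6497 Q6497 (allL N6497 (tt N5492 F48769) (tt N7489 (iv F52744)) (tt N5460 F48770) (tt N5568 F48771) (tt N7127 (iv F51348)) (tt N5457 F48772) (tt N7491 (iv F52754)) (tt N7492 D13379) (tt N5456 (iv D12384)))
theorem Q6499 : ∀ i, i < 6499 → P i := stepQ 6498 Q6498 (allL N6498 (tt N5493 F48773) (tt N7490 (iv F52747)) (tt N5461 F48774) (tt N7493 D13380) (tt N5458 F48775) (tt N7492 (iv F52757)) (tt N5832 F48776) (tt N5457 (iv D12385)) (tt N7480 (iv F52715)))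
theorem Q6500 : ∀ i, i < 6500 → P i := stepQ 6499 Q6499 (allL N6499 (tt N5494 F48777) (tt N7442 (iv F52571)) (tt N7491 (iv F52751)) (tt N5465 F48778) (tt N7129 (iv F51355)) (tt N7483 (iv F52725)) (tt N5460 F48779) (tt N7494 D13381) (tt N5459 (iv D12386)))
theorem Q6501 : ∀ i, i < 6501 → P i := stepQ 6500 Q6500 (allL N6500 (tt N5495 F48780) (tt N7443 (iv F52574)) (tt N7492 (iv F52756)) (tt N7495 D13382) (tt N7130 (iv F51358)) (tt N5461 F48781) (tt N7494 (iv F52762)) (tt N5460 (iv D12387)) (tt N7482 (iv F52721)))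
theorem Q6502 : ∀ i, i < 6502 → P i := stepQ 6501 Q6501 (allL N6501 (tt N5496 F48782) (tt N7444 (iv F52576)) (tt N7496 D13383) (tt N5461 (iv D12388)) (tt N7301 (iv F52112)) (tt N7495 (iv F52764)) (tt N7308 (iv F52139)) (tt N5467 F48783) (tt N7316 (iv F52170)))
theorem Q6503 : ∀ i, i < 6503 → P i := stepQ 6502 Q6502 (allL N6502 (tt N5497 F48784) (tt N7452 (iv F52607)) (tt N5573 F48785) (tt N7483 (iv F52724)) (tt N6502 F48786) (tt N5465 F48787) (tt N5463 F48788) (tt N7497 D13384) (tt N5462 (iv D12389)))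
theorem Q6504 : ∀ i, i < 6504 → P i := stepQ 6503 Q6503 (allL N6503 (tt N5498 F48789) (tt N7453 (iv F52612)) (tt N5574 F48790) (tt N7307 (iv F52134)) (tt N6503 F48791) (tt N5464 F48792) (tt N7497 (iv F52772)) (tt N5463 (iv D12390)) (tt N5628 F48793))
theorem Q6505 : ∀ i, i < 6505 → P i := stepQ 6504 Q6504 (allL N6504 (tt N5499 F48794) (tt N7464 (iv F52645)) (tt N5576 F48795) (tt N6975 (iv F50695)) (tt N5468 F48796) (tt N7497 (iv F52771)) (tt N5466 F48797) (tt N5465 (iv D12391)) (tt N5695 F48798))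
theorem Q6506 : ∀ i, i < 6506 → P i := stepQ 6505 Q6505 (allL N6505 (tt N5500 F48799) (tt N7465 (iv F52649)) (tt N6969 (iv F50670)) (tt N5466 (iv D12392)) (tt N6968 (iv F50667)) (tt N5467 F48800) (tt N6975 (iv F50697)) (tt N7495 (iv F52765)) (tt N5696 F48801))
theorem Q6507 : ∀ i, i < 6507 → P i := stepQ 6506 Q6506 (allL N6506 (tt N5501 F48802) (tt N7498 D13385) (tt N5467 (iv D12393)) (tt N5578 F48803) (tt N7300 (iv F52108)) (tt N6969 (iv F50673)) (tt N7305 (iv F52129)) (tt N7496 (iv F52767)) (tt N5697 F48804))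
theorem Q6508 : ∀ i, i < 6508 → P i := stepQ 6507 Q6507 (allL N6507 (tt N6200 F48805) (tt N5470 (iv D12394)) (tt N6235 F48806) (tt N5579 F48807) (tt N6330 F48808) (tt N6196 F48809) (tt N6507 F48810) (tt N6785 (iv F49930)) (tt N5698 F48811))
theorem Q6509 : ∀ i, i < 6509 → P i := stepQ 6508 Q6508 (allL N6508 (tt N5475 F48812) (tt N7474 (iv F52689)) (tt N7118 (iv F51309)) (tt N6508 F48813) (tt N5474 (iv D12395)) (tt N7126 (iv F51343)) (tt N5770 F48814) (tt N5486 F48815) (tt N7499 D13386))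
theorem Q6510 : ∀ i, i < 6510 → P i := stepQ 6509 Q6509 (allL N6509 (tt N5476 F48816) (tt N7475 (iv F52694)) (tt N7338 (iv F52250)) (tt N5521 F48817) (tt N7499 (iv F52778)) (tt N7142 (iv F51420)) (tt N5771 F48818) (tt N7500 D13387) (tt N5474 (iv D12396)))
theorem Q6511 : ∀ i, i < 6511 → P i := stepQ 6510 Q6510 (allL N6510 (tt N7499 (iv F52776)) (tt N5478 F48819) (tt N7153 (iv F51473)) (tt N6510 F48820) (tt N5476 F48821) (tt N7161 (iv F51512)) (tt N5787 F48822) (tt N7501 D13388) (tt N5475 (iv D12397)))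
theorem Q6512 : ∀ i, i < 6512 → P i := stepQ 6511 Q6511 (allL N6511 (tt N7500 (iv F52780)) (tt N5479 F48823) (tt N7339 (iv F52254)) (tt N6999 (iv F50814)) (tt N7501 (iv F52784)) (tt N7143 (iv F51424)) (tt N5788 F48824) (tt N5476 (iv D12398)) (tt N5490 F48825))
theorem Q6513 : ∀ i, i < 6513 → P i := stepQ 6512 Q6512 (allL N6512 (tt N7479 (iv F52707)) (tt N7161 (iv F51508)) (tt N5481 F48826) (tt N6512 F48827) (tt N7144 (iv F51430)) (tt N5478 F48828) (tt N7159 (iv F51503)) (tt N7502 D13389) (tt N5477 (iv D12399)))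
theorem Q6514 : ∀ i, i < 6514 → P i := stepQ 6513 Q6513 (allL N6513 (tt N7480 (iv F52711)) (tt N7501 (iv F52783)) (tt N5482 F48829) (tt N7503 D13390) (tt N5479 F48830) (tt N7502 (iv F52788)) (tt N5840 F48831) (tt N5478 (iv D12400)) (tt N5493 F48832))
theorem Q6515 : ∀ i, i < 6515 → P i := stepQ 6514 Q6514 (allL N6514 (tt N7481 (iv F52716)) (tt N7017 (iv F50902)) (tt N7159 (iv F51499)) (tt N5699 F48833) (tt N7146 (iv F51441)) (tt N7015 (iv F50897)) (tt N5481 F48834) (tt N7504 D13391) (tt N5480 (iv D12401)))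
theorem Q6516 : ∀ i, i < 6516 → P i := stepQ 6515 Q6515 (allL N6515 (tt N7482 (iv F52719)) (tt N7342 (iv F52264)) (tt N7502 (iv F52787)) (tt N7346 (iv F52279)) (tt N7147 (iv F51444)) (tt N5482 F48835) (tt N7504 (iv F52793)) (tt N5481 (iv D12402)) (tt N5495 F48836))
theorem Q6517 : ∀ i, i < 6517 → P i := stepQ 6516 Q6516 (allL N6516 (tt N7483 (iv F52722)) (tt N7002 (iv F50829)) (tt N5841 F48837) (tt N5497 F48838) (tt N7001 (iv F50826)) (tt N5494 F48839) (tt N5484 F48840) (tt N7505 D13392) (tt N5483 (iv D12403)))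
theorem Q6518 : ∀ i, i < 6518 → P i := stepQ 6517 Q6517 (allL N6517 (tt N7484 (iv F52727)) (tt N7346 (iv F52278)) (tt N5842 F48841) (tt N7342 (iv F52265)) (tt N7395 (iv F52448)) (tt N5485 F48842) (tt N7505 (iv F52797)) (tt N5484 (iv D12404)) (tt N7355 (iv F52308)))
theorem Q6519 : ∀ i, i < 6519 → P i := stepQ 6518 Q6518 (allL N6518 (tt N5488 F48843) (tt N7485 (iv F52731)) (tt N7108 (iv F51258)) (tt N5580 F48844) (tt N7156 (iv F51489)) (tt N5486 (iv D12405)) (tt N7105 (iv F51246)) (tt N7126 (iv F51344)) (tt N7506 D13393))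
theorem Q6520 : ∀ i, i < 6520 → P i := stepQ 6519 Q6519 (allL N6519 (tt N5489 F48845) (tt N7486 (iv F52734)) (tt N7347 (iv F52283)) (tt N5581 F48846) (tt N5487 F48847) (tt N7506 (iv F52800)) (tt N5776 F48848) (tt N7507 D13394) (tt N5486 (iv D12406)))
theorem Q6521 : ∀ i, i < 6521 → P i := stepQ 6520 Q6520 (allL N6520 (tt N5490 F48849) (tt N7487 (iv F52739)) (tt N7348 (iv F52288)) (tt N6970 (iv F50676)) (tt N7507 (iv F52802)) (tt N7158 (iv F51497)) (tt N5777 F48850) (tt N5487 (iv D12407)) (tt N7500 (iv F52782)))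
theorem Q6522 : ∀ i, i < 6522 → P i := stepQ 6521 Q6521 (allL N6521 (tt N7506 (iv F52798)) (tt N5492 F48851) (tt N7146 (iv F51439)) (tt N5584 F48852) (tt N7159 (iv F51501)) (tt N5489 F48853) (tt N7144 (iv F51432)) (tt N7508 D13395) (tt N5488 (iv D12408)))
theorem Q6523 : ∀ i, i < 6523 → P i := stepQ 6522 Q6522 (allL N6522 (tt N7507 (iv F52801)) (tt N5493 F48854) (tt N7349 (iv F52291)) (tt N7509 D13396) (tt N5490 F48855) (tt N7508 (iv F52805)) (tt N5792 F48856) (tt N5489 (iv D12409)) (tt N7501 (iv F52786)))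
theorem Q6524 : ∀ i, i < 6524 → P i := stepQ 6523 Q6523 (allL N6523 (tt N7491 (iv F52750)) (tt N7144 (iv F51427)) (tt N5494 F48857) (tt N5586 F48858) (tt N7161 (iv F51511)) (tt N5841 F48859) (tt N5492 F48860) (tt N7510 D13397) (tt N5491 (iv D12410)))
theorem Q6525 : ∀ i, i < 6525 → P i := stepQ 6524 Q6524 (allL N6524 (tt N7492 (iv F52755)) (tt N7508 (iv F52804)) (tt N5495 F48861) (tt N7511 D13398) (tt N7162 (iv F51515)) (tt N5493 F48862) (tt N7510 (iv F52811)) (tt N5492 (iv D12411)) (tt N7502 (iv F52789)))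
theorem Q6526 : ∀ i, i < 6526 → P i := stepQ 6525 Q6525 (allL N6525 (tt N7493 (iv F52758)) (tt N7509 (iv F52806)) (tt N7512 D13399) (tt N5493 (iv D12412)) (tt N7155 (iv F51483)) (tt N7511 (iv F52812)) (tt N5843 F48863) (tt N5588 F48864) (tt N7503 (iv F52792)))
theorem Q6527 : ∀ i, i < 6527 → P i := stepQ 6526 Q6526 (allL N6526 (tt N7494 (iv F52761)) (tt N7354 (iv F52303)) (tt N7510 (iv F52809)) (tt N7018 (iv F50909)) (tt N7164 (iv F51518)) (tt N7505 (iv F52796)) (tt N5495 F48865) (tt N5494 (iv D12413)) (tt N7504 (iv F52794)))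
theorem Q6528 : ∀ i, i < 6528 → P i := stepQ 6527 Q6527 (allL N6527 (tt N7495 (iv F52763)) (tt N7355 (iv F52305)) (tt N7012 (iv F50879)) (tt N5495 (iv D12414)) (tt N7011 (iv F50876)) (tt N5496 F48866) (tt N7018 (iv F50911)) (tt N5500 F48867) (tt N7346 (iv F52281)))
theorem Q6529 : ∀ i, i < 6529 → P i := stepQ 6528 Q6528 (allL N6528 (tt N7496 (iv F52766)) (tt N7154 (iv F51478)) (tt N5496 (iv D12415)) (tt N7512 (iv F52814)) (tt N7337 (iv F52246)) (tt N7012 (iv F50881)) (tt N7340 (iv F52260)) (tt N5501 F48868) (tt N7344 (iv F52274)))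
theorem Q6530 : ∀ i, i < 6530 → P i := stepQ 6529 Q6529 (allL N6529 (tt N7497 (iv F52768)) (tt N5699 F48869) (tt N5592 F48870) (tt N7017 (iv F50904)) (tt N6529 F48871) (tt N5499 F48872) (tt N5498 F48873) (tt N5497 (iv D12416)) (tt N5636 F48874))
theorem Q6531 : ∀ i, i < 6531 → P i := stepQ 6530 Q6530 (allL N6530 (tt N6530 F48875) (tt N7214 (iv F51766)) (tt N7171 (iv F51543)) (tt N5502 (iv D12417)) (tt N7513 D13400) (tt N7173 (iv F51553)) (tt N5503 F48876) (tt N6163 F48877) (tt N7514 D13401))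
theorem Q6532 : ∀ i, i < 6532 → P i := stepQ 6531 Q6531 (allL N6531 (tt N6531 F48878) (tt N7215 (iv F51771)) (tt N5505 F48879) (tt N7514 (iv F52823)) (tt N5701 F48880) (tt N7185 (iv F51605)) (tt N5504 F48881) (tt N5512 F48882) (tt N5502 (iv D12418)))
theorem Q6533 : ∀ i, i < 6533 → P i := stepQ 6532 Q6532 (allL N6532 (tt N6532 F48883) (tt N7397 (iv F52451)) (tt N5503 (iv D12419)) (tt N5506 F48884) (tt N6734 (iv F49733)) (tt N5511 F48885) (tt N7171 (iv F51545)) (tt N6165 F48886) (tt N7515 D13402))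
theorem Q6534 : ∀ i, i < 6534 → P i := stepQ 6533 Q6533 (allL N6533 (tt N6533 F48887) (tt N7359 (iv F52323)) (tt N6734 (iv F49732)) (tt N5703 F48888) (tt N5503 (iv D12420)) (tt N6735 (iv F49737)) (tt N7513 (iv F52820)) (tt N6166 F48889) (tt N7516 D13403))
theorem Q6535 : ∀ i, i < 6535 → P i := stepQ 6534 Q6534 (allL N6534 (tt N6534 F48890) (tt N7360 (iv F52327)) (tt N7515 (iv F52826)) (tt N5504 F48891) (tt N7516 (iv F52831)) (tt N5852 F48892) (tt N7514 (iv F52824)) (tt N7517 D13404) (tt N5503 (iv D12421)))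
theorem Q6536 : ∀ i, i < 6536 → P i := stepQ 6535 Q6535 (allL N6535 (tt N6535 F48893) (tt N7398 (iv F52454)) (tt N5508 F48894) (tt N7515 (iv F52827)) (tt N6594 F49143) (tt N5512 F48895) (tt N7172 (iv F51549)) (tt N7185 (iv F51607)) (tt N5506 (iv D12422)))
theorem Q6537 : ∀ i, i < 6537 → P i := stepQ 6536 Q6536 (allL N6536 (tt N6536 F48896) (tt N5510 F48897) (tt N6594 (iv F49140)) (tt N5706 F48898) (tt N5508 F48899) (tt N5714 F48900) (tt N7182 (iv F51589)) (tt N7186 (iv F51614)) (tt N5507 (iv D12423)))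
theorem Q6538 : ∀ i, i < 6538 → P i := stepQ 6537 Q6537 (allL N6537 (tt N6537 F48901) (tt N7400 (iv F52460)) (tt N5851 F48902) (tt N5709 F48903) (tt N5511 (iv D12424)) (tt N6736 (iv F49740)) (tt N5514 F48904) (tt N6540 (iv F48916)) (tt N7518 D13405))
theorem Q6539 : ∀ i, i < 6539 → P i := stepQ 6538 Q6538 (allL N6538 (tt N6538 F48905) (tt N7401 (iv F52463)) (tt N5852 F48906) (tt N5512 F48907) (tt N7518 (iv F52839)) (tt N7515 (iv F52828)) (tt N5515 F48908) (tt N7519 D13406) (tt N5511 (iv D12425)))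
theorem Q6540 : ∀ i, i < 6540 → P i := stepQ 6539 Q6539 (allL N6539 (tt N7520 D13407) (tt N5513 (iv D12426)) (tt N7402 (iv F52466)) (tt N5516 F48909) (tt N7521 D13408) (tt N7176 (iv F51563)) (tt N5800 F48910) (tt N6416 F48911) (tt N7522 D13409))
theorem Q6541 : ∀ i, i < 6541 → P i := stepQ 6540 Q6540 (allL N6540 (tt N6540 F48912) (tt N7521 (iv F52848)) (tt N5514 F48913) (tt N6540 F48914) (tt N5513 (iv D12427)) (tt N7523 D13410) (tt N5851 F48915) (tt N6537 F48916) (tt N7524 D13411))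
theorem Q6542 : ∀ i, i < 6542 → P i := stepQ 6541 Q6541 (allL N6541 (tt N6541 F48917) (tt N7522 (iv F52852)) (tt N5515 F48918) (tt N5517 F48919) (tt N7524 (iv F52863)) (tt N7178 (iv F51572)) (tt N5852 F48920) (tt N7525 D13412) (tt N5513 (iv D12428)))
theorem Q6543 : ∀ i, i < 6543 → P i := stepQ 6542 Q6542 (allL N6542 (tt N6542 F48921) (tt N7405 (iv F52473)) (tt N7523 (iv F52856)) (tt N5711 F48922) (tt N7179 (iv F51576)) (tt N5514 (iv D12429)) (tt N7526 D13413) (tt N6858 (iv F50157)) (tt N7527 D13414))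
theorem Q6544 : ∀ i, i < 6544 → P i := stepQ 6543 Q6543 (allL N6543 (tt N6543 F48923) (tt N7406 (iv F52475)) (tt N7524 (iv F52861)) (tt N5712 F48924) (tt N5515 F48925) (tt N7527 (iv F52873)) (tt N7518 (iv F52840)) (tt N7528 D13415) (tt N5514 (iv D12430)))
theorem Q6545 : ∀ i, i < 6545 → P i := stepQ 6544 Q6544 (allL N6544 (tt N6544 F48926) (tt N7407 (iv F52478)) (tt N7525 (iv F52866)) (tt N7517 (iv F52833)) (tt N7528 (iv F52875)) (tt N7181 (iv F51583)) (tt N7519 (iv F52843)) (tt N5515 (iv D12431)) (tt N6860 (iv F50162)))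
theorem Q6546 : ∀ i, i < 6546 → P i := stepQ 6545 Q6545 (allL N6545 (tt N5516 (iv D12432)) (tt N6545 F48927) (tt N5519 F48928) (tt N7520 (iv F52845)) (tt N6545 F48929) (tt N7187 (iv F51617)) (tt N5751 F48930) (tt N5518 F48931) (tt N7529 D13416))
theorem Q6547 : ∀ i, i < 6547 → P i := stepQ 6546 Q6546 (allL N6546 (tt N7529 (iv F52876)) (tt N5517 F48932) (tt N5520 F48933) (tt N7522 (iv F52853)) (tt N6546 F48934) (tt N7189 (iv F51629)) (tt N5801 F48935) (tt N7036 (iv F50996)) (tt N5516 (iv D12433)))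
theorem Q6548 : ∀ i, i < 6548 → P i := stepQ 6547 Q6547 (allL N6547 (tt N5520 F48936) (tt N5521 F48937) (tt N7529 (iv F52878)) (tt N7475 (iv F52695)) (tt N6547 F48938) (tt N7194 (iv F51655)) (tt N5753 F48939) (tt N6924 (iv F50485)) (tt N5519 (iv D12434)))
theorem Q6549 : ∀ i, i < 6549 → P i := stepQ 6548 Q6548 (allL N6548 (tt N5523 F48940) (tt N6548 F48941) (tt N5562 F48942) (tt N7530 D13417) (tt N5522 (iv D12435)) (tt N7531 D13418) (tt N5757 F48943) (tt N6548 F48944) (tt N7532 D13419))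
theorem Q6550 : ∀ i, i < 6550 → P i := stepQ 6549 Q6549 (allL N6549 (tt N5524 F48945) (tt N6549 F48946) (tt N5563 F48947) (tt N6276 F48948) (tt N7532 (iv F52893)) (tt N6549 F48949) (tt N5758 F48950) (tt N7533 D13420) (tt N5522 (iv D12436)))
theorem Q6551 : ∀ i, i < 6551 → P i := stepQ 6550 Q6550 (allL N6550 (tt N7530 (iv F52881)) (tt N5525 F48951) (tt N7431 (iv F52549)) (tt N5523 (iv D12437)) (tt N6447 F48952) (tt N7534 D13421) (tt N5810 F48953) (tt N7535 D13422) (tt N7536 D13423))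
theorem Q6552 : ∀ i, i < 6552 → P i := stepQ 6551 Q6551 (allL N6551 (tt N7531 (iv F52885)) (tt N5526 F48954) (tt N5564 F48955) (tt N7534 (iv F52902)) (tt N6551 F48956) (tt N5523 (iv D12438)) (tt N7537 D13424) (tt N6551 F48957) (tt N7538 D13425))
theorem Q6553 : ∀ i, i < 6553 → P i := stepQ 6552 Q6552 (allL N6552 (tt N7532 (iv F52890)) (tt N5527 F48958) (tt N5565 F48959) (tt N7536 (iv F52908)) (tt N5524 F48960) (tt N7538 (iv F52919)) (tt N5812 F48961) (tt N7539 D13426) (tt N5523 (iv D12439)))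
theorem Q6554 : ∀ i, i < 6554 → P i := stepQ 6553 Q6553 (allL N6553 (tt N7533 (iv F52895)) (tt N5528 F48962) (tt N5566 F48963) (tt N7540 D13427) (tt N7539 (iv F52922)) (tt N6553 F48964) (tt N5813 F48965) (tt N5524 (iv D12440)) (tt N6553 F48966))
theorem Q6555 : ∀ i, i < 6555 → P i := stepQ 6554 Q6554 (allL N6554 (tt N6554 F48967) (tt N7534 (iv F52901)) (tt N5539 F48968) (tt N5526 F48969) (tt N7541 D13428) (tt N5525 (iv D12441)) (tt N7542 D13429) (tt N7543 D13430) (tt N7544 D13431))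
theorem Q6556 : ∀ i, i < 6556 → P i := stepQ 6555 Q6555 (allL N6555 (tt N6555 F48970) (tt N7535 (iv F52903)) (tt N5540 F48971) (tt N6555 F48972) (tt N6565 (iv F49020)) (tt N7543 (iv F52942)) (tt N5854 F48973) (tt N5525 (iv D12442)) (tt N7545 D13432))
theorem Q6557 : ∀ i, i < 6557 → P i := stepQ 6556 Q6556 (allL N6556 (tt N6556 F48974) (tt N7536 (iv F52907)) (tt N5541 F48975) (tt N5527 F48976) (tt N6566 (iv F49025)) (tt N7544 (iv F52947)) (tt N5855 F48977) (tt N7546 D13433) (tt N5525 (iv D12443)))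
theorem Q6558 : ∀ i, i < 6558 → P i := stepQ 6557 Q6557 (allL N6557 (tt N6557 F48978) (tt N7537 (iv F52911)) (tt N5529 F48979) (tt N7542 (iv F52935)) (tt N6557 F48980) (tt N5856 F48981) (tt N5526 (iv D12444)) (tt N6557 F48982) (tt N7547 D13434))
theorem Q6559 : ∀ i, i < 6559 → P i := stepQ 6558 Q6558 (allL N6558 (tt N6558 F48983) (tt N7538 (iv F52916)) (tt N5530 F48984) (tt N7544 (iv F52946)) (tt N6558 F48985) (tt N5527 F48986) (tt N7547 (iv F52959)) (tt N7548 D13435) (tt N5526 (iv D12445)))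
theorem Q6560 : ∀ i, i < 6560 → P i := stepQ 6559 Q6559 (allL N6559 (tt N6559 F48987) (tt N7539 (iv F52920)) (tt N5531 F48988) (tt N7549 D13436) (tt N5528 F48989) (tt N7548 (iv F52963)) (tt N5858 F48990) (tt N5527 (iv D12446)) (tt N6559 F48991))
theorem Q6561 : ∀ i, i < 6561 → P i := stepQ 6560 Q6560 (allL N6560 (tt N6560 F48992) (tt N7540 (iv F52925)) (tt N6560 F48993) (tt N5528 (iv D12447)) (tt N7550 D13437) (tt N6560 F48994) (tt N5859 F48995) (tt N6570 (iv F49045)) (tt N6560 F48996))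
theorem Q6562 : ∀ i, i < 6562 → P i := stepQ 6561 Q6561 (allL N6561 (tt N6561 F48997) (tt N5570 F48998) (tt N7547 (iv F52956)) (tt N5546 F48999) (tt N6561 F49000) (tt N5860 F49001) (tt N5530 F49002) (tt N7551 D13438) (tt N5529 (iv D12448)))
theorem Q6563 : ∀ i, i < 6563 → P i := stepQ 6562 Q6562 (allL N6562 (tt N6562 F49003) (tt N5571 F49004) (tt N7548 (iv F52961)) (tt N7552 D13439) (tt N6562 F49005) (tt N5531 F49006) (tt N7551 (iv F52976)) (tt N5530 (iv D12449)) (tt N6562 F49007))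
theorem Q6564 : ∀ i, i < 6564 → P i := stepQ 6563 Q6563 (allL N6563 (tt N6563 F49008) (tt N5572 F49009) (tt N7553 D13440) (tt N5531 (iv D12450)) (tt N6563 F49010) (tt N7552 (iv F52980)) (tt N5862 F49011) (tt N5548 F49012) (tt N6563 F49013))
theorem Q6565 : ∀ i, i < 6565 → P i := stepQ 6564 Q6564 (allL N6564 (tt N6564 F49014) (tt N7445 (iv F52578)) (tt N5853 F49015) (tt N5533 F49016) (tt N7554 D13441) (tt N5532 (iv D12451)) (tt N7555 D13442) (tt N7556 D13443) (tt N7557 D13444))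
theorem Q6566 : ∀ i, i < 6566 → P i := stepQ 6565 Q6565 (allL N6565 (tt N6565 F49017) (tt N7446 (iv F52580)) (tt N5854 F49018) (tt N5716 F49019) (tt N6555 F49020) (tt N7556 (iv F53004)) (tt N5540 F49021) (tt N5532 (iv D12452)) (tt N7558 D13445))
theorem Q6567 : ∀ i, i < 6567 → P i := stepQ 6566 Q6566 (allL N6566 (tt N6566 F49022) (tt N7447 (iv F52583)) (tt N5855 F49023) (tt N5534 F49024) (tt N6556 F49025) (tt N7557 (iv F53009)) (tt N5541 F49026) (tt N7559 D13446) (tt N5532 (iv D12453)))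
theorem Q6568 : ∀ i, i < 6568 → P i := stepQ 6567 Q6567 (allL N6567 (tt N6567 F49027) (tt N7448 (iv F52586)) (tt N5536 F49028) (tt N7555 (iv F52996)) (tt N6567 F49029) (tt N5542 F49030) (tt N5533 (iv D12454)) (tt N5718 F49031) (tt N7560 D13447))
theorem Q6569 : ∀ i, i < 6569 → P i := stepQ 6568 Q6568 (allL N6568 (tt N6568 F49032) (tt N7449 (iv F52591)) (tt N5537 F49033) (tt N7557 (iv F53008)) (tt N6568 F49034) (tt N5534 F49035) (tt N7560 (iv F53023)) (tt N7561 D13448) (tt N5533 (iv D12455)))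
theorem Q6570 : ∀ i, i < 6570 → P i := stepQ 6569 Q6569 (allL N6569 (tt N6569 F49036) (tt N7450 (iv F52596)) (tt N5538 F49037) (tt N7562 D13449) (tt N5535 F49038) (tt N7561 (iv F53027)) (tt N5544 F49039) (tt N5534 (iv D12456)) (tt N5720 F49040))
theorem Q6571 : ∀ i, i < 6571 → P i := stepQ 6570 Q6570 (allL N6570 (tt N6570 F49041) (tt N7451 (iv F52602)) (tt N6570 F49042) (tt N5535 (iv D12457)) (tt N7563 D13450) (tt N6570 F49043) (tt N5545 F49044) (tt N6560 F49045) (tt N5721 F49046))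
theorem Q6572 : ∀ i, i < 6572 → P i := stepQ 6571 Q6571 (allL N6571 (tt N6571 F49047) (tt N5573 F49048) (tt N7560 (iv F53020)) (tt N5860 F49049) (tt N6571 F49050) (tt N5546 F49051) (tt N5537 F49052) (tt N7564 D13451) (tt N5536 (iv D12458)))
theorem Q6573 : ∀ i, i < 6573 → P i := stepQ 6572 Q6572 (allL N6572 (tt N6572 F49053) (tt N5574 F49054) (tt N7561 (iv F53025)) (tt N7565 D13452) (tt N6572 F49055) (tt N5538 F49056) (tt N7564 (iv F53041)) (tt N5537 (iv D12459)) (tt N5723 F49057))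
theorem Q6574 : ∀ i, i < 6574 → P i := stepQ 6573 Q6573 (allL N6573 (tt N6573 F49058) (tt N5575 F49059) (tt N7566 D13453) (tt N5538 (iv D12460)) (tt N6573 F49060) (tt N7565 (iv F53045)) (tt N5548 F49061) (tt N5862 F49062) (tt N5724 F49063))
theorem Q6575 : ∀ i, i < 6575 → P i := stepQ 6574 Q6574 (allL N6574 (tt N6574 F49064) (tt N7454 (iv F52616)) (tt N7541 (iv F52931)) (tt N5549 F49065) (tt N5539 (iv D12461)) (tt N6861 (iv F50165)) (tt N6576 (iv F49073)) (tt N6575 F49068) (tt N7567 D13454))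
theorem Q6576 : ∀ i, i < 6576 → P i := stepQ 6575 Q6575 (allL N6575 (tt N6575 F49066) (tt N7455 (iv F52618)) (tt N7542 (iv F52934)) (tt N5542 F49067) (tt N6576 (iv F49071)) (tt N7555 (iv F52998)) (tt N5539 (iv D12462)) (tt N6574 (iv F49068)) (tt N7568 D13455))
theorem Q6577 : ∀ i, i < 6577 → P i := stepQ 6576 Q6576 (allL N6576 (tt N6576 F49069) (tt N7456 (iv F52621)) (tt N7543 (iv F52939)) (tt N5727 F49070) (tt N6575 F49071) (tt N5540 F49072) (tt N6574 F49073) (tt N5539 (iv D12463)) (tt N7569 D13456))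
theorem Q6578 : ∀ i, i < 6578 → P i := stepQ 6577 Q6577 (allL N6577 (tt N6577 F49074) (tt N7457 (iv F52626)) (tt N7544 (iv F52945)) (tt N5543 F49075) (tt N7567 (iv F53055)) (tt N5541 F49076) (tt N7568 (iv F53058)) (tt N7570 D13457) (tt N5539 (iv D12464)))
theorem Q6579 : ∀ i, i < 6579 → P i := stepQ 6578 Q6578 (allL N6578 (tt N6578 F49077) (tt N7458 (iv F52629)) (tt N7545 (iv F52949)) (tt N5729 F49078) (tt N6865 (iv F50176)) (tt N7569 (iv F53062)) (tt N7558 (iv F53014)) (tt N7571 D13458) (tt N5540 (iv D12465)))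
theorem Q6580 : ∀ i, i < 6580 → P i := stepQ 6579 Q6579 (allL N6579 (tt N6579 F49079) (tt N7459 (iv F52631)) (tt N7546 (iv F52953)) (tt N7572 D13459) (tt N6866 (iv F50178)) (tt N7570 (iv F53065)) (tt N7559 (iv F53018)) (tt N5541 (iv D12466)) (tt N7571 (iv F53067)))
theorem Q6581 : ∀ i, i < 6581 → P i := stepQ 6580 Q6580 (allL N6580 (tt N6580 F49080) (tt N7460 (iv F52632)) (tt N5546 F49081) (tt N7568 (iv F53057)) (tt N5555 F49082) (tt N7560 (iv F53022)) (tt N5543 F49083) (tt N7573 D13460) (tt N5542 (iv D12467)))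
theorem Q6582 : ∀ i, i < 6582 → P i := stepQ 6581 Q6581 (allL N6581 (tt N6581 F49084) (tt N7461 (iv F52636)) (tt N5547 F49085) (tt N7574 D13461) (tt N5556 F49086) (tt N5544 F49087) (tt N7573 (iv F53073)) (tt N5543 (iv D12468)) (tt N5732 F49088))
theorem Q6583 : ∀ i, i < 6583 → P i := stepQ 6582 Q6582 (allL N6582 (tt N6582 F49089) (tt N7462 (iv F52641)) (tt N7575 D13462) (tt N5544 (iv D12469)) (tt N7576 D13463) (tt N7574 (iv F53078)) (tt N7562 (iv F53030)) (tt N7572 (iv F53069)) (tt N5733 F49090))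
theorem Q6584 : ∀ i, i < 6584 → P i := stepQ 6583 Q6583 (allL N6583 (tt N6583 F49091) (tt N7463 (iv F52643)) (tt N6583 F49092) (tt N7576 (iv F53085)) (tt N5545 (iv D12470)) (tt N6709 (iv F49625)) (tt N7563 (iv F53034)) (tt N6870 (iv F50192)) (tt N5734 F49093))
theorem Q6585 : ∀ i, i < 6585 → P i := stepQ 6584 Q6584 (allL N6584 (tt N6584 F49094) (tt N5576 F49095) (tt N7573 (iv F53071)) (tt N6901 (iv F50350)) (tt N5559 F49096) (tt N7564 (iv F53040)) (tt N5547 F49097) (tt N5546 (iv D12471)) (tt N5735 F49098))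
theorem Q6586 : ∀ i, i < 6586 → P i := stepQ 6585 Q6585 (allL N6585 (tt N6585 F49099) (tt N5577 F49100) (tt N6707 (iv F49615)) (tt N5547 (iv D12472)) (tt N6706 (iv F49611)) (tt N5548 F49101) (tt N6901 (iv F50352)) (tt N7552 (iv F52981)) (tt N5736 F49102))
theorem Q6587 : ∀ i, i < 6587 → P i := stepQ 6586 Q6586 (allL N6586 (tt N6586 F49103) (tt N7577 D13464) (tt N5548 (iv D12473)) (tt N7575 (iv F53081)) (tt N6586 F49104) (tt N6707 (iv F49617)) (tt N7566 (iv F53050)) (tt N7553 (iv F52986)) (tt N5737 F49105))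
theorem Q6588 : ∀ i, i < 6588 → P i := stepQ 6587 Q6587 (allL N6587 (tt N6587 F49106) (tt N7467 (iv F52653)) (tt N6587 F49107) (tt N7567 (iv F53054)) (tt N5552 F49108) (tt N6874 (iv F50209)) (tt N6729 (iv F49717)) (tt N7578 D13465) (tt N5549 (iv D12474)))
theorem Q6589 : ∀ i, i < 6589 → P i := stepQ 6588 Q6588 (allL N6588 (tt N6588 F49109) (tt N7468 (iv F52655)) (tt N6588 F49110) (tt N5555 F49111) (tt N6729 (iv F49715)) (tt N6588 F49112) (tt N5552 F49113) (tt N7579 D13466) (tt N5550 (iv D12475)))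
theorem Q6590 : ∀ i, i < 6590 → P i := stepQ 6589 Q6589 (allL N6589 (tt N6589 F49114) (tt N7469 (iv F52660)) (tt N6589 F49115) (tt N5740 F49116) (tt N6728 (iv F49711)) (tt N5553 F49117) (tt N6727 (iv F49707)) (tt N7580 D13467) (tt N5551 (iv D12476)))
theorem Q6591 : ∀ i, i < 6591 → P i := stepQ 6590 Q6590 (allL N6590 (tt N6590 F49118) (tt N7470 (iv F52665)) (tt N6590 F49119) (tt N7581 D13468) (tt N7578 (iv F53093)) (tt N5554 F49120) (tt N7579 (iv F53097)) (tt N5552 (iv D12477)) (tt N7580 (iv F53106)))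
theorem Q6592 : ∀ i, i < 6592 → P i := stepQ 6591 Q6591 (allL N6591 (tt N6591 F49121) (tt N6221 F49122) (tt N6591 F49123) (tt N6192 F49124) (tt N6878 (iv F50225)) (tt N7580 (iv F53104)) (tt N6591 F49125) (tt N5553 (iv D12478)) (tt N5554 F49126))
theorem Q6593 : ∀ i, i < 6593 → P i := stepQ 6592 Q6592 (allL N6592 (tt N6592 F49127) (tt N6223 F49128) (tt N6194 (iv F49132)) (tt N5554 (iv D12479)) (tt N6193 (iv F49133)) (tt N7581 (iv F53109)) (tt N6592 F49129) (tt N5557 F49130) (tt N6192 F49131))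
theorem Q6594 : ∀ i, i < 6594 → P i := stepQ 6593 Q6593 (allL N6593 (tt N6593 F49134) (tt N7471 (iv F52669)) (tt N5559 F49135) (tt N7582 D13469) (tt N7573 (iv F53072)) (tt N6593 F49136) (tt N5556 F49137) (tt N5555 (iv D12480)) (tt N5743 F49138))
theorem Q6595 : ∀ i, i < 6595 → P i := stepQ 6594 Q6594 (allL N6594 (tt N6594 F49139) (tt N7472 (iv F52675)) (tt N6536 F49140) (tt N5556 (iv D12481)) (tt N6535 (iv F49143)) (tt N5557 F49141) (tt N7582 (iv F53118)) (tt N7581 (iv F53111)) (tt N5744 F49142))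
theorem Q6596 : ∀ i, i < 6596 → P i := stepQ 6595 Q6595 (allL N6595 (tt N5564 F49144) (tt N5580 F49145) (tt N7531 (iv F52887)) (tt N7485 (iv F52732)) (tt N6595 F49146) (tt N5562 (iv D12482)) (tt N7583 D13470) (tt N6595 F49147) (tt N7584 D13471))
theorem Q6597 : ∀ i, i < 6597 → P i := stepQ 6596 Q6596 (allL N6596 (tt N5565 F49148) (tt N5581 F49149) (tt N7532 (iv F52892)) (tt N7486 (iv F52735)) (tt N5563 F49150) (tt N7584 (iv F53130)) (tt N5760 F49151) (tt N7585 D13472) (tt N5562 (iv D12483)))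
theorem Q6598 : ∀ i, i < 6598 → P i := stepQ 6597 Q6597 (allL N6597 (tt N5566 F49152) (tt N5582 F49153) (tt N7533 (iv F52897)) (tt N6940 (iv F50544)) (tt N7585 (iv F53133)) (tt N6597 F49154) (tt N5761 F49155) (tt N5563 (iv D12484)) (tt N6597 F49156))
theorem Q6599 : ∀ i, i < 6599 → P i := stepQ 6598 Q6598 (allL N6598 (tt N7583 (iv F53122)) (tt N5567 F49157) (tt N7537 (iv F52912)) (tt N7488 (iv F52742)) (tt N6598 F49158) (tt N5814 F49159) (tt N5564 (iv D12485)) (tt N6598 F49160) (tt N7586 D13473))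
theorem Q6600 : ∀ i, i < 6600 → P i := stepQ 6599 Q6599 (allL N6599 (tt N7584 (iv F53127)) (tt N5568 F49161) (tt N7538 (iv F52917)) (tt N7489 (iv F52745)) (tt N6599 F49162) (tt N5565 F49163) (tt N7586 (iv F53139)) (tt N7587 D13474) (tt N5564 (iv D12486)))
theorem Q6601 : ∀ i, i < 6601 → P i := stepQ 6600 Q6600 (allL N6600 (tt N7585 (iv F53131)) (tt N5569 F49164) (tt N7539 (iv F52921)) (tt N7588 D13475) (tt N5566 F49165) (tt N7587 (iv F53142)) (tt N5816 F49166) (tt N5565 (iv D12487)) (tt N6600 F49167))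
theorem Q6602 : ∀ i, i < 6602 → P i := stepQ 6601 Q6601 (allL N6601 (tt N5586 F49168) (tt N7586 (iv F53136)) (tt N5570 F49169) (tt N7491 (iv F52752)) (tt N6601 F49170) (tt N5833 F49171) (tt N5568 F49172) (tt N7589 D13476) (tt N5567 (iv D12488)))
theorem Q6603 : ∀ i, i < 6603 → P i := stepQ 6602 Q6602 (allL N6602 (tt N5587 F49173) (tt N7587 (iv F53140)) (tt N5571 F49174) (tt N7590 D13477) (tt N6602 F49175) (tt N5569 F49176) (tt N7589 (iv F53151)) (tt N5568 (iv D12489)) (tt N6602 F49177))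
theorem Q6604 : ∀ i, i < 6604 → P i := stepQ 6603 Q6603 (allL N6603 (tt N5588 F49178) (tt N7588 (iv F53144)) (tt N7591 D13478) (tt N5569 (iv D12490)) (tt N7134 (iv F51376)) (tt N7590 (iv F53154)) (tt N5835 F49179) (tt N7493 (iv F52760)) (tt N6603 F49180))
theorem Q6605 : ∀ i, i < 6605 → P i := stepQ 6604 Q6604 (allL N6604 (tt N5589 F49181) (tt N7551 (iv F52973)) (tt N7589 (iv F53148)) (tt N6908 (iv F50388)) (tt N6604 F49182) (tt N5876 F49183) (tt N5571 F49184) (tt N5570 (iv D12491)) (tt N6604 F49185))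
theorem Q6606 : ∀ i, i < 6606 → P i := stepQ 6605 Q6605 (allL N6605 (tt N5590 F49186) (tt N7552 (iv F52979)) (tt N6980 (iv F50714)) (tt N5571 (iv D12492)) (tt N6906 (iv F50375)) (tt N5572 F49187) (tt N6908 (iv F50391)) (tt N5577 F49188) (tt N6605 F49189))
theorem Q6607 : ∀ i, i < 6607 → P i := stepQ 6606 Q6606 (allL N6606 (tt N5591 F49190) (tt N7592 D13479) (tt N5572 (iv D12493)) (tt N7591 (iv F53157)) (tt N6606 F49191) (tt N6980 (iv F50716)) (tt N5878 F49192) (tt N5578 F49193) (tt N6606 F49194))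
theorem Q6608 : ∀ i, i < 6608 → P i := stepQ 6607 Q6607 (allL N6607 (tt N5592 F49195) (tt N7564 (iv F53038)) (tt N7497 (iv F52769)) (tt N6907 (iv F50381)) (tt N6607 F49196) (tt N5576 F49197) (tt N5574 F49198) (tt N5573 (iv D12494)) (tt N5745 F49199))
theorem Q6609 : ∀ i, i < 6609 → P i := stepQ 6608 Q6608 (allL N6608 (tt N5593 F49200) (tt N7565 (iv F53044)) (tt N6981 (iv F50720)) (tt N5574 (iv D12495)) (tt N6909 (iv F50396)) (tt N5575 F49201) (tt N6907 (iv F50384)) (tt N5877 F49202) (tt N5746 F49203))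
theorem Q6610 : ∀ i, i < 6610 → P i := stepQ 6609 Q6609 (allL N6609 (tt N5594 F49204) (tt N7593 D13480) (tt N5575 (iv D12496)) (tt N7305 (iv F52127)) (tt N6609 F49205) (tt N6981 (iv F50722)) (tt N5578 F49206) (tt N5878 F49207) (tt N5747 F49208))
theorem Q6611 : ∀ i, i < 6611 → P i := stepQ 6610 Q6610 (allL N6610 (tt N7076 (iv F51123)) (tt N5578 (iv D12497)) (tt N7577 (iv F53088)) (tt N7498 (iv F52774)) (tt N6610 F49209) (tt N6939 (iv F50540)) (tt N7593 (iv F53165)) (tt N7592 (iv F53162)) (tt N5748 F49210))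
theorem Q6612 : ∀ i, i < 6612 → P i := stepQ 6611 Q6611 (allL N6611 (tt N5583 F49211) (tt N7583 (iv F53123)) (tt N6611 F49212) (tt N7105 (iv F51244)) (tt N6611 F49213) (tt N5778 F49214) (tt N5580 (iv D12498)) (tt N6611 F49215) (tt N7594 D13481))
theorem Q6613 : ∀ i, i < 6613 → P i := stepQ 6612 Q6612 (allL N6612 (tt N5584 F49216) (tt N7584 (iv F53128)) (tt N6612 F49217) (tt N7506 (iv F52799)) (tt N6612 F49218) (tt N5581 F49219) (tt N7594 (iv F53172)) (tt N7595 D13482) (tt N5580 (iv D12499)))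
theorem Q6614 : ∀ i, i < 6614 → P i := stepQ 6613 Q6613 (allL N6613 (tt N5585 F49220) (tt N7585 (iv F53132)) (tt N6613 F49221) (tt N7596 D13483) (tt N5582 F49222) (tt N7595 (iv F53176)) (tt N5780 F49223) (tt N5581 (iv D12500)) (tt N6613 F49224))
theorem Q6615 : ∀ i, i < 6615 → P i := stepQ 6614 Q6614 (allL N6614 (tt N7594 (iv F53168)) (tt N5586 F49225) (tt N6614 F49226) (tt N7144 (iv F51429)) (tt N6614 F49227) (tt N5793 F49228) (tt N5584 F49229) (tt N7597 D13484) (tt N5583 (iv D12501)))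
theorem Q6616 : ∀ i, i < 6616 → P i := stepQ 6615 Q6615 (allL N6615 (tt N7595 (iv F53173)) (tt N5587 F49230) (tt N6615 F49231) (tt N7598 D13485) (tt N6615 F49232) (tt N5585 F49233) (tt N7597 (iv F53185)) (tt N5584 (iv D12502)) (tt N6615 F49234))
theorem Q6617 : ∀ i, i < 6617 → P i := stepQ 6616 Q6616 (allL N6616 (tt N7596 (iv F53178)) (tt N5588 F49235) (tt N7599 D13486) (tt N5585 (iv D12503)) (tt N7023 (iv F50929)) (tt N7598 (iv F53188)) (tt N5795 F49236) (tt N7509 (iv F52808)) (tt N6616 F49237))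
theorem Q6618 : ∀ i, i < 6618 → P i := stepQ 6617 Q6617 (allL N6617 (tt N7589 (iv F53147)) (tt N7597 (iv F53181)) (tt N5589 F49238) (tt N7025 (iv F50938)) (tt N6617 F49239) (tt N5844 F49240) (tt N5587 F49241) (tt N5586 (iv D12504)) (tt N6617 F49242))
theorem Q6619 : ∀ i, i < 6619 → P i := stepQ 6618 Q6618 (allL N6618 (tt N7590 (iv F53153)) (tt N7598 (iv F53187)) (tt N7023 (iv F50928)) (tt N5587 (iv D12505)) (tt N7599 (iv F53191)) (tt N5588 F49243) (tt N7025 (iv F50941)) (tt N7511 (iv F52813)) (tt N6618 F49244))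
theorem Q6620 : ∀ i, i < 6620 → P i := stepQ 6619 Q6619 (allL N6619 (tt N7591 (iv F53156)) (tt N7167 (iv F51524)) (tt N5588 (iv D12506)) (tt N5591 F49245) (tt N7168 (iv F51529)) (tt N7023 (iv F50930)) (tt N5846 F49246) (tt N7512 (iv F52816)) (tt N6619 F49247))
theorem Q6621 : ∀ i, i < 6621 → P i := stepQ 6620 Q6620 (allL N6620 (tt N5642 F49248) (tt N6739 (iv F49752)) (tt N6620 F49249) (tt N5597 F49250) (tt N7600 D13487) (tt N5596 (iv D12507)) (tt N7192 (iv F51644)) (tt N6697 F49567) (tt N6698 (iv F49572)))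
theorem Q6622 : ∀ i, i < 6622 → P i := stepQ 6621 Q6621 (allL N6621 (tt N5655 F49251) (tt N6621 F49252) (tt N5676 F49253) (tt N5602 (iv D12508)) (tt N7601 D13488) (tt N5648 F49254) (tt N5603 F49255) (tt N6621 F49256) (tt N7378 (iv F52385)))
theorem Q6623 : ∀ i, i < 6623 → P i := stepQ 6622 Q6622 (allL N6622 (tt N5657 F49257) (tt N5721 (iv F49262)) (tt N5603 (iv D12509)) (tt N5605 F49258) (tt N7602 D13489) (tt N6622 F49259) (tt N5676 F49260) (tt N6622 F49261) (tt N7451 (iv F52606)))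
theorem Q6624 : ∀ i, i < 6624 → P i := stepQ 6623 Q6623 (allL N6623 (tt N5658 F49263) (tt N6623 F49264) (tt N7602 (iv F53209)) (tt N7244 (iv F51894)) (tt N5603 (iv D12510)) (tt N7603 D13490) (tt N7601 (iv F53205)) (tt N6623 F49265) (tt N7604 D13491))
theorem Q6625 : ∀ i, i < 6625 → P i := stepQ 6624 Q6624 (allL N6624 (tt N5659 F49266) (tt N6624 F49267) (tt N7451 (iv F52603)) (tt N5604 F49268) (tt N7604 (iv F53218)) (tt N6624 F49269) (tt N7378 (iv F52383)) (tt N7605 D13492) (tt N5603 (iv D12511)))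
theorem Q6626 : ∀ i, i < 6626 → P i := stepQ 6625 Q6625 (allL N6625 (tt N5660 F49270) (tt N5720 F49271) (tt N5606 F49272) (tt N7606 D13493) (tt N5605 (iv D12512)) (tt N7607 D13494) (tt N5675 F49273) (tt N5607 F49274) (tt N7450 (iv F52600)))
theorem Q6627 : ∀ i, i < 6627 → P i := stepQ 6626 Q6626 (allL N6626 (tt N5662 F49275) (tt N5628 F49276) (tt N7607 (iv F53231)) (tt N7253 (iv F51926)) (tt N6626 F49277) (tt N5606 (iv D12513)) (tt N7608 D13495) (tt N5608 F49278) (tt N7453 (iv F52615)))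
theorem Q6628 : ∀ i, i < 6628 → P i := stepQ 6627 Q6627 (allL N6627 (tt N5664 F49279) (tt N5717 F49280) (tt N5611 F49281) (tt N5607 (iv D12514)) (tt N6627 F49282) (tt N7609 D13496) (tt N5672 F49283) (tt N7610 D13497) (tt N5667 F49284))
theorem Q6629 : ∀ i, i < 6629 → P i := stepQ 6628 Q6628 (allL N6628 (tt N5665 F49285) (tt N5719 F49286) (tt N5608 F49287) (tt N7609 (iv F53242)) (tt N6628 F49288) (tt N5607 (iv D12515)) (tt N7611 D13498) (tt N7607 (iv F53233)) (tt N5668 F49289))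
theorem Q6630 : ∀ i, i < 6630 → P i := stepQ 6629 Q6629 (allL N6629 (tt N5666 F49290) (tt N5629 F49291) (tt N7611 (iv F53251)) (tt N5615 F49292) (tt N6629 F49293) (tt N5677 F49294) (tt N5608 (iv D12516)) (tt N7608 (iv F53238)) (tt N5669 F49295))
theorem Q6631 : ∀ i, i < 6631 → P i := stepQ 6630 Q6630 (allL N6630 (tt N5667 F49296) (tt N6630 F49297) (tt N5672 F49298) (tt N5609 (iv D12517)) (tt N6630 F49299) (tt N7612 D13499) (tt N5611 F49300) (tt N7613 D13500) (tt N5664 F49301))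
theorem Q6632 : ∀ i, i < 6632 → P i := stepQ 6631 Q6631 (allL N6631 (tt N5668 F49302) (tt N6631 F49303) (tt N5610 F49304) (tt N7612 (iv F53258)) (tt N6631 F49305) (tt N5609 (iv D12518)) (tt N7614 D13501) (tt N7276 (iv F52002)) (tt N5665 F49306))
theorem Q6633 : ∀ i, i < 6633 → P i := stepQ 6632 Q6632 (allL N6632 (tt N5669 F49307) (tt N5630 F49308) (tt N7614 (iv F53267)) (tt N5677 F49309) (tt N6632 F49310) (tt N5615 F49311) (tt N5610 (iv D12519)) (tt N7278 (iv F52013)) (tt N5666 F49312))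
theorem Q6634 : ∀ i, i < 6634 → P i := stepQ 6633 Q6633 (allL N6633 (tt N5670 F49313) (tt N6633 F49314) (tt N7609 (iv F53241)) (tt N5612 F49315) (tt N7615 D13502) (tt N5611 (iv D12520)) (tt N7616 D13503) (tt N7617 D13504) (tt N7618 D13505))
theorem Q6635 : ∀ i, i < 6635 → P i := stepQ 6634 Q6634 (allL N6634 (tt N5671 F49316) (tt N6634 F49317) (tt N7610 (iv F53246)) (tt N7281 (iv F52024)) (tt N6634 F49318) (tt N7617 (iv F53285)) (tt N7613 (iv F53264)) (tt N5611 (iv D12521)) (tt N7619 D13506))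
theorem Q6636 : ∀ i, i < 6636 → P i := stepQ 6635 Q6635 (allL N6635 (tt N5672 F49319) (tt N6635 F49320) (tt N5667 F49321) (tt N5613 F49322) (tt N6635 F49323) (tt N7618 (iv F53291)) (tt N5664 F49324) (tt N7620 D13507) (tt N5611 (iv D12522)))
theorem Q6637 : ∀ i, i < 6637 → P i := stepQ 6636 Q6636 (allL N6636 (tt N5673 F49325) (tt N6636 F49326) (tt N5615 F49327) (tt N7616 (iv F53279)) (tt N5621 F49328) (tt N7614 (iv F53269)) (tt N5612 (iv D12523)) (tt N7283 (iv F52032)) (tt N7621 D13508))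
theorem Q6638 : ∀ i, i < 6638 → P i := stepQ 6637 Q6637 (allL N6637 (tt N5674 F49329) (tt N6637 F49330) (tt N5616 F49331) (tt N7618 (iv F53290)) (tt N5622 F49332) (tt N5613 F49333) (tt N7621 (iv F53305)) (tt N7622 D13509) (tt N5612 (iv D12524)))
theorem Q6639 : ∀ i, i < 6639 → P i := stepQ 6638 Q6638 (allL N6638 (tt N5675 F49334) (tt N6638 F49335) (tt N5617 F49336) (tt N7623 D13510) (tt N5614 F49337) (tt N7622 (iv F53310)) (tt N5660 F49338) (tt N5613 (iv D12525)) (tt N7285 (iv F52043)))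
theorem Q6640 : ∀ i, i < 6640 → P i := stepQ 6639 Q6639 (allL N6639 (tt N5676 F49339) (tt N6639 F49340) (tt N5655 F49341) (tt N5614 (iv D12526)) (tt N7624 D13511) (tt N5624 F49342) (tt N5657 F49343) (tt N6639 F49344) (tt N7286 (iv F52049)))
theorem Q6641 : ∀ i, i < 6641 → P i := stepQ 6640 Q6640 (allL N6640 (tt N5677 F49345) (tt N5631 F49346) (tt N7621 (iv F53302)) (tt N5669 F49347) (tt N5625 F49348) (tt N5666 F49349) (tt N5616 F49350) (tt N7625 D13512) (tt N5615 (iv D12527)))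
theorem Q6642 : ∀ i, i < 6642 → P i := stepQ 6641 Q6641 (allL N6641 (tt N5678 F49351) (tt N5632 F49352) (tt N7622 (iv F53308)) (tt N7410 (iv F52489)) (tt N5626 F49353) (tt N5617 F49354) (tt N7625 (iv F53324)) (tt N5616 (iv D12528)) (tt N7288 (iv F52058)))
theorem Q6643 : ∀ i, i < 6643 → P i := stepQ 6642 Q6642 (allL N6642 (tt N5680 F49355) (tt N6642 F49356) (tt N6642 F49357) (tt N7615 (iv F53273)) (tt N5618 (iv D12529)) (tt N6642 F49358) (tt N6644 (iv F49370)) (tt N6643 F49364) (tt N7626 D13513))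
theorem Q6644 : ∀ i, i < 6644 → P i := stepQ 6643 Q6643 (allL N6643 (tt N5681 F49359) (tt N6643 F49360) (tt N6643 F49361) (tt N5621 F49362) (tt N6644 (iv F49368)) (tt N6643 F49363) (tt N5618 (iv D12530)) (tt N6642 (iv F49364)) (tt N7627 D13514))
theorem Q6645 : ∀ i, i < 6645 → P i := stepQ 6644 Q6644 (allL N6644 (tt N5682 F49365) (tt N6644 F49366) (tt N6644 F49367) (tt N7292 (iv F52072)) (tt N6643 F49368) (tt N5619 F49369) (tt N6642 F49370) (tt N5618 (iv D12531)) (tt N6658 F49435))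
theorem Q6646 : ∀ i, i < 6646 → P i := stepQ 6645 Q6645 (allL N6645 (tt N5683 F49371) (tt N6645 F49372) (tt N6645 F49373) (tt N5622 F49374) (tt N7626 (iv F53328)) (tt N5620 F49375) (tt N7627 (iv F53338)) (tt N6659 (iv F49440)) (tt N5618 (iv D12532)))
theorem Q6647 : ∀ i, i < 6647 → P i := stepQ 6646 Q6646 (allL N6646 (tt N5686 F49376) (tt N6646 F49377) (tt N5625 F49378) (tt N7627 (iv F53335)) (tt N7621 (iv F53303)) (tt N6646 F49379) (tt N5622 F49380) (tt N7628 D13515) (tt N5621 (iv D12533)))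
theorem Q6648 : ∀ i, i < 6648 → P i := stepQ 6647 Q6647 (allL N6647 (tt N5687 F49381) (tt N6647 F49382) (tt N5626 F49383) (tt N6661 (iv F49452)) (tt N7622 (iv F53309)) (tt N5623 F49384) (tt N7628 (iv F53344)) (tt N5622 (iv D12534)) (tt N7295 (iv F52087)))
theorem Q6649 : ∀ i, i < 6649 → P i := stepQ 6648 Q6648 (allL N6648 (tt N5690 F49385) (tt N5633 F49386) (tt N7628 (iv F53342)) (tt N6912 (iv F50415)) (tt N7625 (iv F53322)) (tt N6648 F49387) (tt N5626 F49388) (tt N5625 (iv D12535)) (tt N7296 (iv F52092)))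
theorem Q6650 : ∀ i, i < 6650 → P i := stepQ 6649 Q6649 (allL N6649 (tt N5691 F49389) (tt N5634 F49390) (tt N6663 (iv F49458)) (tt N5626 (iv D12536)) (tt N6990 (iv F50772)) (tt N5627 F49391) (tt N6912 (iv F50418)) (tt N6649 F49392) (tt N7297 (iv F52096)))
theorem Q6651 : ∀ i, i < 6651 → P i := stepQ 6650 Q6650 (allL N6650 (tt N5636 F49393) (tt N7608 (iv F53235)) (tt N5745 F49394) (tt N6974 (iv F50689)) (tt N6650 F49395) (tt N5695 F49396) (tt N5628 (iv D12537)) (tt N5629 F49397) (tt N7497 (iv F52773)))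
theorem Q6652 : ∀ i, i < 6652 → P i := stepQ 6651 Q6651 (allL N6651 (tt N5637 F49398) (tt N7625 (iv F53321)) (tt N6651 F49399) (tt N7013 (iv F50885)) (tt N5633 F49400) (tt N5693 F49401) (tt N5632 F49402) (tt N5631 (iv D12538)) (tt N7329 (iv F52216)))
theorem Q6653 : ∀ i, i < 6653 → P i := stepQ 6652 Q6652 (allL N6652 (tt N6058 F49403) (tt N5703 F49404) (tt N5941 F49405) (tt N7359 (iv F52324)) (tt N5638 (iv D12539)) (tt N6737 (iv F49743)) (tt N5943 F49406) (tt N6652 F49407) (tt N7629 D13516))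
theorem Q6654 : ∀ i, i < 6654 → P i := stepQ 6653 Q6653 (allL N6653 (tt N6059 F49408) (tt N5704 F49409) (tt N5942 F49410) (tt N5639 F49411) (tt N7629 (iv F53348)) (tt N6653 F49412) (tt N5944 F49413) (tt N7630 D13517) (tt N5638 (iv D12540)))
theorem Q6655 : ∀ i, i < 6655 → P i := stepQ 6654 Q6654 (allL N6654 (tt N6036 F49414) (tt N6654 F49415) (tt N5931 F49416) (tt N5641 F49417) (tt N6660 (iv F49447)) (tt N5640 (iv D12541)) (tt N6254 F49418) (tt N7631 D13518) (tt N6179 F49419))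
theorem Q6656 : ∀ i, i < 6656 → P i := stepQ 6655 Q6655 (allL N6655 (tt N6037 F49420) (tt N6655 F49421) (tt N5932 F49422) (tt N7375 (iv F52369)) (tt N6655 F49423) (tt N7631 (iv F53361)) (tt N5930 F49424) (tt N5640 (iv D12542)) (tt N7632 D13519))
theorem Q6657 : ∀ i, i < 6657 → P i := stepQ 6656 Q6656 (allL N6656 (tt N7600 (iv F53194)) (tt N6656 F49425) (tt N6656 F49426) (tt N6660 (iv F49446)) (tt N5642 (iv D12543)) (tt N6656 F49427) (tt N6659 F49442) (tt N7627 (iv F53339)) (tt N6657 (iv F49443)))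
theorem Q6658 : ∀ i, i < 6658 → P i := stepQ 6657 Q6657 (allL N6657 (tt N7192 (iv F51639)) (tt N6657 F49428) (tt N6657 F49429) (tt N5645 F49430) (tt N6659 (iv F49441)) (tt N6657 F49431) (tt N5642 (iv D12544)) (tt N7626 F53331) (tt N6656 F49443))
theorem Q6659 : ∀ i, i < 6659 → P i := stepQ 6658 Q6658 (allL N6658 (tt N6697 (iv F49561)) (tt N6658 F49432) (tt N6658 F49433) (tt N7381 (iv F52395)) (tt N7627 (iv F53336)) (tt N5643 F49434) (tt N7626 (iv F53330)) (tt N5642 (iv D12545)) (tt N6644 (iv F49435)))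
theorem Q6660 : ∀ i, i < 6660 → P i := stepQ 6659 Q6659 (allL N6659 (tt N6698 (iv F49568)) (tt N6659 F49436) (tt N6659 F49437) (tt N5646 F49438) (tt N6657 F49441) (tt N5644 F49439) (tt N6656 (iv F49442)) (tt N6645 F49440) (tt N5642 (iv D12546)))
theorem Q6661 : ∀ i, i < 6661 → P i := stepQ 6660 Q6660 (allL N6660 (tt N7033 (iv F50980)) (tt N6660 F49444) (tt N5649 F49445) (tt N6656 F49446) (tt N6654 F49447) (tt N6660 F49448) (tt N5646 F49449) (tt N7633 D13520) (tt N5645 (iv D12547)))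
theorem Q6662 : ∀ i, i < 6662 → P i := stepQ 6661 Q6661 (allL N6661 (tt N6700 (iv F49578)) (tt N6661 F49450) (tt N5650 F49451) (tt N6647 F49452) (tt N7240 (iv F51879)) (tt N5647 F49453) (tt N7633 (iv F53374)) (tt N5646 (iv D12548)) (tt N7384 (iv F52411)))
theorem Q6663 : ∀ i, i < 6663 → P i := stepQ 6662 Q6662 (allL N6662 (tt N7040 (iv F51004)) (tt N5652 F49454) (tt N7633 (iv F53370)) (tt N7198 (iv F51680)) (tt N6922 (iv F50474)) (tt N6662 F49455) (tt N5650 F49456) (tt N5649 (iv D12549)) (tt N7385 (iv F52415)))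
theorem Q6664 : ∀ i, i < 6664 → P i := stepQ 6663 Q6663 (allL N6663 (tt N6701 (iv F49584)) (tt N5653 F49457) (tt N6649 F49458) (tt N5650 (iv D12550)) (tt N6986 (iv F50745)) (tt N5651 F49459) (tt N7198 (iv F51683)) (tt N6663 F49460) (tt N7386 (iv F52420)))
theorem Q6665 : ∀ i, i < 6665 → P i := stepQ 6664 Q6664 (allL N6664 (tt N7601 (iv F53202)) (tt N5709 F49461) (tt N7624 (iv F53316)) (tt N7400 (iv F52461)) (tt N5655 (iv D12551)) (tt N6691 (iv F49545)) (tt N5658 F49462) (tt N6664 F49463) (tt N7634 D13521))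
theorem Q6666 : ∀ i, i < 6666 → P i := stepQ 6665 Q6665 (allL N6665 (tt N7378 (iv F52379)) (tt N5710 F49464) (tt N7286 (iv F52046)) (tt N5656 F49465) (tt N7634 (iv F53376)) (tt N6473 F49466) (tt N5659 F49467) (tt N7635 D13522) (tt N5655 (iv D12552)))
theorem Q6667 : ∀ i, i < 6667 → P i := stepQ 6666 Q6666 (allL N6666 (tt N7602 (iv F53207)) (tt N6666 F49468) (tt N5658 F49469) (tt N7636 D13523) (tt N5657 (iv D12553)) (tt N7637 D13524) (tt N7624 (iv F53318)) (tt N6666 F49470) (tt N7638 D13525))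
theorem Q6668 : ∀ i, i < 6668 → P i := stepQ 6667 Q6667 (allL N6667 (tt N7451 (iv F52601)) (tt N6667 F49471) (tt N5659 F49472) (tt N5661 F49473) (tt N7638 (iv F53394)) (tt N6667 F49474) (tt N7286 (iv F52048)) (tt N7639 D13526) (tt N5657 (iv D12554)))
theorem Q6669 : ∀ i, i < 6669 → P i := stepQ 6668 Q6668 (allL N6668 (tt N7603 (iv F53212)) (tt N5711 F49475) (tt N7637 (iv F53388)) (tt N7405 (iv F52474)) (tt N6668 F49476) (tt N5658 (iv D12555)) (tt N7640 D13527) (tt N6668 F49477) (tt N7641 D13528))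
theorem Q6670 : ∀ i, i < 6670 → P i := stepQ 6669 Q6669 (allL N6669 (tt N7604 (iv F53216)) (tt N5712 F49478) (tt N7638 (iv F53393)) (tt N7406 (iv F52476)) (tt N5659 F49479) (tt N7641 (iv F53409)) (tt N7634 (iv F53378)) (tt N7642 D13529) (tt N5658 (iv D12556)))
theorem Q6671 : ∀ i, i < 6671 → P i := stepQ 6670 Q6670 (allL N6670 (tt N7605 (iv F53219)) (tt N5713 F49480) (tt N7639 (iv F53397)) (tt N7630 (iv F53354)) (tt N7642 (iv F53411)) (tt N6670 F49481) (tt N7635 (iv F53383)) (tt N5659 (iv D12557)) (tt N6670 F49482))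
theorem Q6672 : ∀ i, i < 6672 → P i := stepQ 6671 Q6671 (allL N6671 (tt N7606 (iv F53226)) (tt N6671 F49483) (tt N7415 (iv F52504)) (tt N5660 (iv D12558)) (tt N7636 (iv F53386)) (tt N7643 D13530) (tt N7623 (iv F53313)) (tt N7644 D13531) (tt N7645 D13532))
theorem Q6673 : ∀ i, i < 6673 → P i := stepQ 6672 Q6672 (allL N6672 (tt N7607 (iv F53229)) (tt N6672 F49484) (tt N5662 F49485) (tt N7643 (iv F53414)) (tt N6672 F49486) (tt N5660 (iv D12559)) (tt N7646 D13533) (tt N5665 F49487) (tt N7647 D13534))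
theorem Q6674 : ∀ i, i < 6674 → P i := stepQ 6673 Q6673 (allL N6673 (tt N7450 (iv F52595)) (tt N6673 F49488) (tt N5663 F49489) (tt N7645 (iv F53418)) (tt N5661 F49490) (tt N7647 (iv F53426)) (tt N7285 (iv F52042)) (tt N7277 (iv F52008)) (tt N5660 (iv D12560)))
theorem Q6675 : ∀ i, i < 6675 → P i := stepQ 6674 Q6674 (allL N6674 (tt N7608 (iv F53234)) (tt N5693 F49491) (tt N7646 (iv F53420)) (tt N7419 (iv F52512)) (tt N6674 F49492) (tt N7625 (iv F53323)) (tt N5662 (iv D12561)) (tt N5666 F49493) (tt N7648 D13535))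
theorem Q6676 : ∀ i, i < 6676 → P i := stepQ 6675 Q6675 (allL N6675 (tt N7453 (iv F52611)) (tt N5694 F49494) (tt N7647 (iv F53424)) (tt N7420 (iv F52515)) (tt N6675 F49495) (tt N5663 F49496) (tt N7648 (iv F53429)) (tt N7279 (iv F52018)) (tt N5662 (iv D12562)))
theorem Q6677 : ∀ i, i < 6677 → P i := stepQ 6676 Q6676 (allL N6676 (tt N7609 (iv F53239)) (tt N6676 F49497) (tt N5670 F49498) (tt N5665 F49499) (tt N7649 D13536) (tt N5664 (iv D12563)) (tt N7650 D13537) (tt N7651 D13538) (tt N7612 (iv F53259)))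
theorem Q6678 : ∀ i, i < 6678 → P i := stepQ 6677 Q6677 (allL N6677 (tt N7610 (iv F53244)) (tt N6677 F49500) (tt N5671 F49501) (tt N7644 (iv F53416)) (tt N6677 F49502) (tt N7651 (iv F53444)) (tt N7620 (iv F53299)) (tt N5664 (iv D12564)) (tt N7652 D13539))
theorem Q6679 : ∀ i, i < 6679 → P i := stepQ 6678 Q6678 (allL N6678 (tt N7611 (iv F53249)) (tt N6678 F49503) (tt N5666 F49504) (tt N7650 (iv F53438)) (tt N6678 F49505) (tt N7621 (iv F53304)) (tt N5665 (iv D12565)) (tt N7646 (iv F53422)) (tt N7614 (iv F53270)))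
theorem Q6680 : ∀ i, i < 6680 → P i := stepQ 6679 Q6679 (allL N6679 (tt N7612 (iv F53255)) (tt N5715 F49506) (tt N7618 (iv F53289)) (tt N5668 F49507) (tt N7653 D13540) (tt N5667 (iv D12566)) (tt N7654 D13541) (tt N7655 D13542) (tt N7609 (iv F53243)))
theorem Q6681 : ∀ i, i < 6681 → P i := stepQ 6680 Q6680 (allL N6680 (tt N7613 (iv F53260)) (tt N5716 F49508) (tt N7620 (iv F53297)) (tt N7446 (iv F52581)) (tt N6680 F49509) (tt N7655 (iv F53461)) (tt N5671 F49510) (tt N5667 (iv D12567)) (tt N7656 D13543))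
theorem Q6682 : ∀ i, i < 6682 → P i := stepQ 6681 Q6681 (allL N6681 (tt N7614 (iv F53265)) (tt N5718 F49511) (tt N5669 F49512) (tt N7654 (iv F53455)) (tt N6681 F49513) (tt N5673 F49514) (tt N5668 (iv D12568)) (tt N7448 (iv F52590)) (tt N7611 (iv F53254)))
theorem Q6683 : ∀ i, i < 6683 → P i := stepQ 6682 Q6682 (allL N6682 (tt N7615 (iv F53271)) (tt N5725 F49515) (tt N7649 (iv F53431)) (tt N5680 F49516) (tt N5670 (iv D12569)) (tt N6682 F49517) (tt N6466 (iv F49518)) (tt N6465 (iv F49519)) (tt N7657 D13544))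
theorem Q6684 : ∀ i, i < 6684 → P i := stepQ 6683 Q6683 (allL N6683 (tt N7616 (iv F53277)) (tt N5726 F49520) (tt N7650 (iv F53437)) (tt N5673 F49521) (tt N6466 F49522) (tt N7654 (iv F53457)) (tt N5670 (iv D12570)) (tt N6464 (iv F49523)) (tt N7658 D13545))
theorem Q6685 : ∀ i, i < 6685 → P i := stepQ 6684 Q6684 (allL N6684 (tt N7617 (iv F53282)) (tt N5727 F49524) (tt N7651 (iv F53442)) (tt N7456 (iv F52622)) (tt N6465 F49525) (tt N5671 F49526) (tt N6464 F49527) (tt N5670 (iv D12571)) (tt N7659 D13546))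
theorem Q6686 : ∀ i, i < 6686 → P i := stepQ 6685 Q6685 (allL N6685 (tt N7618 (iv F53287)) (tt N5728 F49528) (tt N7612 (iv F53257)) (tt N5674 F49529) (tt N7657 (iv F53468)) (tt N5672 F49530) (tt N7658 (iv F53474)) (tt N7660 D13547) (tt N5670 (iv D12572)))
theorem Q6687 : ∀ i, i < 6687 → P i := stepQ 6686 Q6686 (allL N6686 (tt N7619 (iv F53292)) (tt N5729 F49531) (tt N7652 (iv F53447)) (tt N7458 (iv F52630)) (tt N6686 F49532) (tt N7659 (iv F53477)) (tt N7656 (iv F53465)) (tt N7661 D13548) (tt N5671 (iv D12573)))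
theorem Q6688 : ∀ i, i < 6688 → P i := stepQ 6687 Q6687 (allL N6687 (tt N7620 (iv F53295)) (tt N5730 F49533) (tt N7613 (iv F53262)) (tt N7662 D13549) (tt N6687 F49534) (tt N7660 (iv F53480)) (tt N7610 (iv F53248)) (tt N5672 (iv D12574)) (tt N7661 (iv F53483)))
theorem Q6689 : ∀ i, i < 6689 → P i := stepQ 6688 Q6688 (allL N6688 (tt N7621 (iv F53300)) (tt N5731 F49535) (tt N5677 F49536) (tt N7658 (iv F53472)) (tt N5686 F49537) (tt N7611 (iv F53253)) (tt N5674 F49538) (tt N7663 D13550) (tt N5673 (iv D12575)))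
theorem Q6690 : ∀ i, i < 6690 → P i := stepQ 6689 Q6689 (allL N6689 (tt N7622 (iv F53306)) (tt N5732 F49539) (tt N5678 F49540) (tt N7664 D13551) (tt N5687 F49541) (tt N5675 F49542) (tt N7663 (iv F53489)) (tt N5674 (iv D12576)) (tt N7461 (iv F52640)))
theorem Q6691 : ∀ i, i < 6691 → P i := stepQ 6690 Q6690 (allL N6690 (tt N7623 (iv F53311)) (tt N5733 F49543) (tt N7665 D13552) (tt N5675 (iv D12577)) (tt N7666 D13553) (tt N7664 (iv F53492)) (tt N7606 (iv F53228)) (tt N7662 (iv F53485)) (tt N7462 (iv F52642)))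
theorem Q6692 : ∀ i, i < 6692 → P i := stepQ 6691 Q6691 (allL N6691 (tt N7624 (iv F53314)) (tt N5734 F49544) (tt N7601 (iv F53204)) (tt N7666 (iv F53495)) (tt N5676 (iv D12578)) (tt N6664 F49545) (tt N7602 (iv F53210)) (tt N6691 F49546) (tt N7463 (iv F52644)))
theorem Q6693 : ∀ i, i < 6693 → P i := stepQ 6692 Q6692 (allL N6692 (tt N7625 (iv F53320)) (tt N5695 F49547) (tt N7663 (iv F53487)) (tt N6972 (iv F50682)) (tt N5690 F49548) (tt N7608 (iv F53237)) (tt N5678 F49549) (tt N5677 (iv D12579)) (tt N7464 (iv F52648)))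
theorem Q6694 : ∀ i, i < 6694 → P i := stepQ 6693 Q6693 (allL N6693 (tt N7410 (iv F52487)) (tt N5696 F49550) (tt N7667 D13554) (tt N5678 (iv D12580)) (tt N6967 (iv F50662)) (tt N5679 F49551) (tt N6972 (iv F50683)) (tt N7262 (iv F51959)) (tt N7465 (iv F52651)))
theorem Q6695 : ∀ i, i < 6695 → P i := stepQ 6694 Q6694 (allL N6694 (tt N7408 (iv F52479)) (tt N7668 D13555) (tt N5679 (iv D12581)) (tt N7665 (iv F53493)) (tt N7248 (iv F51908)) (tt N7667 (iv F53497)) (tt N7251 (iv F51920)) (tt N7260 (iv F51952)) (tt N7466 (iv F52652)))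
theorem Q6696 : ∀ i, i < 6696 → P i := stepQ 6695 Q6695 (allL N6695 (tt N7626 (iv F53325)) (tt N5738 F49552) (tt N6695 F49553) (tt N7657 (iv F53467)) (tt N5683 F49554) (tt N6695 F49555) (tt N6697 (iv F49566)) (tt N7192 F51645) (tt N5680 (iv D12582)))
theorem Q6697 : ∀ i, i < 6697 → P i := stepQ 6696 Q6696 (allL N6696 (tt N7627 (iv F53332)) (tt N5739 F49556) (tt N6696 F49557) (tt N5686 F49558) (tt N6697 (iv F49564)) (tt N6696 F49559) (tt N5683 F49560) (tt N7600 (iv F53200)) (tt N5681 (iv D12583)))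
theorem Q6698 : ∀ i, i < 6698 → P i := stepQ 6697 Q6697 (allL N6697 (tt N6658 F49561) (tt N5740 F49562) (tt N6697 F49563) (tt N7469 (iv F52661)) (tt N6696 F49564) (tt N5684 F49565) (tt N6695 F49566) (tt N6620 (iv F49567)) (tt N5682 (iv D12584)))
theorem Q6699 : ∀ i, i < 6699 → P i := stepQ 6698 Q6698 (allL N6698 (tt N6659 F49568) (tt N5741 F49569) (tt N6698 F49570) (tt N6414 (iv F49573)) (tt N7192 (iv F51642)) (tt N5685 F49571) (tt N7600 (iv F53199)) (tt N5683 (iv D12585)) (tt N6620 F49572))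
theorem Q6700 : ∀ i, i < 6700 → P i := stepQ 6699 Q6699 (allL N6699 (tt N7628 (iv F53340)) (tt N5743 F49574) (tt N5690 F49575) (tt N7669 D13556) (tt N7663 (iv F53488)) (tt N6699 F49576) (tt N5687 F49577) (tt N5686 (iv D12586)) (tt N7471 (iv F52673)))
theorem Q6701 : ∀ i, i < 6701 → P i := stepQ 6700 Q6700 (allL N6700 (tt N6661 F49578) (tt N5744 F49579) (tt N6421 F49582) (tt N5687 (iv D12587)) (tt N6415 (iv F49583)) (tt N5688 F49580) (tt N7669 (iv F53503)) (tt N6414 F49581) (tt N7472 (iv F52678)))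
theorem Q6702 : ∀ i, i < 6702 → P i := stepQ 6701 Q6701 (allL N6701 (tt N6663 F49584) (tt N6195 F49585) (tt N5691 (iv D12588)) (tt N6421 F49586) (tt N6236 F49587) (tt N5692 F49588) (tt N6197 F49589) (tt N6701 F49590) (tt N7473 (iv F52687)))
theorem Q6703 : ∀ i, i < 6703 → P i := stepQ 6702 Q6702 (allL N6702 (tt N5699 F49591) (tt N7648 (iv F53427)) (tt N6702 F49592) (tt N7481 (iv F52717)) (tt N6702 F49593) (tt N7329 (iv F52214)) (tt N5694 F49594) (tt N7328 (iv F52210)) (tt N5693 (iv D12589)))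
theorem Q6704 : ∀ i, i < 6704 → P i := stepQ 6703 Q6703 (allL N6703 (tt N7058 (iv F51067)) (tt N5697 (iv D12590)) (tt N7668 (iv F53498)) (tt N5748 F49595) (tt N7299 (iv F52102)) (tt N6931 F50513) (tt N7303 (iv F52120)) (tt N7311 (iv F52150)) (tt N7498 (iv F52775)))
theorem Q6705 : ∀ i, i < 6705 → P i := stepQ 6704 Q6704 (allL N6704 (tt N6704 F49596) (tt N5943 F49597) (tt N5893 F49598) (tt N7513 (iv F52819)) (tt N5700 (iv D12591)) (tt N7670 D13557) (tt N5703 F49599) (tt N6704 F49600) (tt N7671 D13558))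
theorem Q6706 : ∀ i, i < 6706 → P i := stepQ 6705 Q6705 (allL N6705 (tt N6705 F49601) (tt N5944 F49602) (tt N5894 F49603) (tt N5701 F49604) (tt N7671 (iv F53514)) (tt N5896 F49605) (tt N5704 F49606) (tt N7672 D13559) (tt N5700 (iv D12592)))
theorem Q6707 : ∀ i, i < 6707 → P i := stepQ 6706 Q6706 (allL N6706 (tt N6706 F49607) (tt N5900 F49608) (tt N5704 F49609) (tt N5705 F49610) (tt N6585 F49611) (tt N6706 F49612) (tt N5894 F49613) (tt N7673 D13560) (tt N5702 (iv D12593)))
theorem Q6708 : ∀ i, i < 6708 → P i := stepQ 6707 Q6707 (allL N6707 (tt N6707 F49614) (tt N7629 (iv F53346)) (tt N6585 F49615) (tt N7516 (iv F52830)) (tt N5704 F49616) (tt N6586 F49617) (tt N7671 (iv F53515)) (tt N7674 D13561) (tt N5703 (iv D12594)))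
theorem Q6709 : ∀ i, i < 6709 → P i := stepQ 6708 Q6708 (allL N6708 (tt N6708 F49618) (tt N7630 (iv F53352)) (tt N7673 (iv F53525)) (tt N5713 F49619) (tt N7674 (iv F53533)) (tt N6708 F49620) (tt N7672 (iv F53521)) (tt N5704 (iv D12595)) (tt N6708 F49621))
theorem Q6710 : ∀ i, i < 6710 → P i := stepQ 6709 Q6709 (allL N6709 (tt N6709 F49622) (tt N7634 (iv F53375)) (tt N6709 F49623) (tt N7518 (iv F52838)) (tt N5710 F49624) (tt N6583 F49625) (tt N5712 F49626) (tt N7675 D13562) (tt N5709 (iv D12596)))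
theorem Q6711 : ∀ i, i < 6711 → P i := stepQ 6710 Q6710 (allL N6710 (tt N6710 F49627) (tt N7635 (iv F53380)) (tt N6710 F49628) (tt N7672 (iv F53519)) (tt N7675 (iv F53538)) (tt N5872 F49629) (tt N5713 F49630) (tt N5710 (iv D12597)) (tt N6710 F49631))
theorem Q6712 : ∀ i, i < 6712 → P i := stepQ 6711 Q6711 (allL N6711 (tt N6711 F49632) (tt N7640 (iv F53402)) (tt N6711 F49633) (tt N7526 (iv F52870)) (tt N6711 F49634) (tt N6723 F49688) (tt N5711 (iv D12598)) (tt N6711 F49635) (tt N7676 D13563))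
theorem Q6713 : ∀ i, i < 6713 → P i := stepQ 6712 Q6712 (allL N6712 (tt N6712 F49636) (tt N7641 (iv F53407)) (tt N6712 F49637) (tt N7527 (iv F52872)) (tt N6712 F49638) (tt N5712 F49639) (tt N7676 (iv F53546)) (tt N7677 D13564) (tt N5711 (iv D12599)))
theorem Q6714 : ∀ i, i < 6714 → P i := stepQ 6713 Q6713 (allL N6713 (tt N6713 F49640) (tt N7642 (iv F53410)) (tt N6713 F49641) (tt N7678 D13565) (tt N5713 F49642) (tt N7677 (iv F53550)) (tt N7675 (iv F53540)) (tt N5712 (iv D12600)) (tt N6713 F49643))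
theorem Q6715 : ∀ i, i < 6715 → P i := stepQ 6714 Q6714 (allL N6714 (tt N6714 F49644) (tt N7653 (iv F53449)) (tt N6714 F49645) (tt N6714 F49646) (tt N5715 (iv D12601)) (tt N6714 F49647) (tt N5865 (iv F49648)) (tt N5864 F49649) (tt N7679 D13566))
theorem Q6716 : ∀ i, i < 6716 → P i := stepQ 6715 Q6715 (allL N6715 (tt N6715 F49650) (tt N7654 (iv F53454)) (tt N6715 F49651) (tt N5718 F49652) (tt N5865 F49653) (tt N5726 F49654) (tt N5715 (iv D12602)) (tt N5863 (iv F49655)) (tt N7680 D13567))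
theorem Q6717 : ∀ i, i < 6717 → P i := stepQ 6716 Q6716 (allL N6716 (tt N6716 F49656) (tt N7655 (iv F53459)) (tt N6716 F49657) (tt N7556 (iv F53002)) (tt N5864 F49658) (tt N5716 F49659) (tt N5863 F49660) (tt N5715 (iv D12603)) (tt N7681 D13568))
theorem Q6718 : ∀ i, i < 6718 → P i := stepQ 6717 Q6717 (allL N6717 (tt N6717 F49661) (tt N7609 (iv F53240)) (tt N6717 F49662) (tt N5719 F49663) (tt N7679 (iv F53557)) (tt N5717 F49664) (tt N7680 (iv F53565)) (tt N7682 D13569) (tt N5715 (iv D12604)))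
theorem Q6719 : ∀ i, i < 6719 → P i := stepQ 6718 Q6718 (allL N6718 (tt N6718 F49665) (tt N7656 (iv F53463)) (tt N6718 F49666) (tt N7558 (iv F53012)) (tt N6718 F49667) (tt N7681 (iv F53569)) (tt N5729 F49668) (tt N7683 D13570) (tt N5716 (iv D12605)))
theorem Q6720 : ∀ i, i < 6720 → P i := stepQ 6719 Q6719 (allL N6719 (tt N6719 F49669) (tt N7610 (iv F53245)) (tt N6719 F49670) (tt N7684 D13571) (tt N6719 F49671) (tt N7682 (iv F53573)) (tt N5730 F49672) (tt N5717 (iv D12606)) (tt N7683 (iv F53578)))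
theorem Q6721 : ∀ i, i < 6721 → P i := stepQ 6720 Q6720 (allL N6720 (tt N6720 F49673) (tt N7611 (iv F53250)) (tt N5722 F49674) (tt N7680 (iv F53562)) (tt N6720 F49675) (tt N5731 F49676) (tt N5719 F49677) (tt N7685 D13572) (tt N5718 (iv D12607)))
theorem Q6722 : ∀ i, i < 6722 → P i := stepQ 6721 Q6721 (allL N6721 (tt N6721 F49678) (tt N7607 (iv F53230)) (tt N5723 F49679) (tt N7686 D13573) (tt N6721 F49680) (tt N5720 F49681) (tt N7685 (iv F53586)) (tt N5719 (iv D12608)) (tt N7561 (iv F53028)))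
theorem Q6723 : ∀ i, i < 6723 → P i := stepQ 6722 Q6722 (allL N6722 (tt N6722 F49682) (tt N7606 (iv F53227)) (tt N7687 D13574) (tt N5720 (iv D12609)) (tt N7688 D13575) (tt N7686 (iv F53588)) (tt N5733 F49683) (tt N7684 (iv F53581)) (tt N7562 (iv F53031)))
theorem Q6724 : ∀ i, i < 6724 → P i := stepQ 6723 Q6723 (allL N6723 (tt N6723 F49684) (tt N7602 (iv F53208)) (tt N6723 F49685) (tt N7688 (iv F53593)) (tt N5721 (iv D12610)) (tt N6711 (iv F49688)) (tt N5734 F49686) (tt N6723 F49687) (tt N7563 (iv F53036)))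
theorem Q6725 : ∀ i, i < 6725 → P i := stepQ 6724 Q6724 (allL N6724 (tt N6724 F49689) (tt N5745 F49690) (tt N7685 (iv F53583)) (tt N6900 (iv F50344)) (tt N6724 F49691) (tt N5735 F49692) (tt N5723 F49693) (tt N5722 (iv D12611)) (tt N7564 (iv F53042)))
theorem Q6726 : ∀ i, i < 6726 → P i := stepQ 6725 Q6725 (allL N6725 (tt N6725 F49694) (tt N5746 F49695) (tt N7689 D13576) (tt N5723 (iv D12612)) (tt N6904 (iv F50365)) (tt N5724 F49696) (tt N6900 (iv F50346)) (tt N6725 F49697) (tt N7565 (iv F53047)))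
theorem Q6727 : ∀ i, i < 6727 → P i := stepQ 6726 Q6726 (allL N6726 (tt N6726 F49698) (tt N7690 D13577) (tt N5724 (iv D12613)) (tt N7687 (iv F53590)) (tt N6726 F49699) (tt N7689 (iv F53597)) (tt N5737 F49700) (tt N6726 F49701) (tt N7566 (iv F53052)))
theorem Q6728 : ∀ i, i < 6728 → P i := stepQ 6727 Q6727 (allL N6727 (tt N6727 F49702) (tt N7657 (iv F53466)) (tt N6727 F49703) (tt N5738 F49704) (tt N5728 F49705) (tt N6727 F49706) (tt N6589 F49707) (tt N7190 (iv F51634)) (tt N5725 (iv D12614)))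
theorem Q6729 : ∀ i, i < 6729 → P i := stepQ 6728 Q6728 (allL N6728 (tt N6728 F49708) (tt N7658 (iv F53471)) (tt N6728 F49709) (tt N5731 F49710) (tt N6589 F49711) (tt N7680 (iv F53564)) (tt N5728 F49712) (tt N7691 D13578) (tt N5726 (iv D12615)))
theorem Q6730 : ∀ i, i < 6730 → P i := stepQ 6729 Q6729 (allL N6729 (tt N6729 F49713) (tt N7659 (iv F53475)) (tt N6729 F49714) (tt N7569 (iv F53060)) (tt N6588 F49715) (tt N5729 F49716) (tt N6587 F49717) (tt N7692 D13579) (tt N5727 (iv D12616)))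
theorem Q6731 : ∀ i, i < 6731 → P i := stepQ 6730 Q6730 (allL N6730 (tt N6730 F49718) (tt N7660 (iv F53479)) (tt N6730 F49719) (tt N7177 F51567) (tt N7190 (iv F51632)) (tt N5730 F49720) (tt N7691 (iv F53607)) (tt N5728 (iv D12617)) (tt N7692 (iv F53614)))
theorem Q6732 : ∀ i, i < 6732 → P i := stepQ 6731 Q6731 (allL N6731 (tt N6731 F49721) (tt N7661 (iv F53481)) (tt N6731 F49722) (tt N7693 D13580) (tt N6731 F49723) (tt N7692 (iv F53612)) (tt N7683 (iv F53577)) (tt N5729 (iv D12618)) (tt N5730 F49724))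
theorem Q6733 : ∀ i, i < 6733 → P i := stepQ 6732 Q6732 (allL N6732 (tt N6732 F49725) (tt N7662 (iv F53484)) (tt N7179 (iv F51574)) (tt N5730 (iv D12619)) (tt N7523 (iv F52858)) (tt N7177 F51568) (tt N7684 (iv F53580)) (tt N5733 F49726) (tt N7693 (iv F53616)))
theorem Q6734 : ∀ i, i < 6734 → P i := stepQ 6733 Q6733 (allL N6733 (tt N6733 F49727) (tt N7663 (iv F53486)) (tt N5735 F49728) (tt N7694 D13581) (tt N5743 F49729) (tt N7685 (iv F53585)) (tt N5732 F49730) (tt N5731 (iv D12620)) (tt N7573 (iv F53074)))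
theorem Q6735 : ∀ i, i < 6735 → P i := stepQ 6734 Q6734 (allL N6734 (tt N6734 F49731) (tt N7664 (iv F53490)) (tt N6533 F49732) (tt N5732 (iv D12621)) (tt N6532 F49733) (tt N5733 F49734) (tt N7694 (iv F53620)) (tt N7177 (iv F51566)) (tt N7574 (iv F53079)))
theorem Q6736 : ∀ i, i < 6736 → P i := stepQ 6735 Q6735 (allL N6735 (tt N6735 F49735) (tt N7695 D13582) (tt N5733 (iv D12622)) (tt N5737 F49736) (tt N6858 (iv F50156)) (tt N6533 F49737) (tt N7687 (iv F53591)) (tt N7179 (iv F51577)) (tt N7575 (iv F53083)))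
theorem Q6737 : ∀ i, i < 6737 → P i := stepQ 6736 Q6736 (allL N6736 (tt N6736 F49738) (tt N7666 (iv F53494)) (tt N6858 (iv F50154)) (tt N5734 F49739) (tt N5733 (iv D12623)) (tt N6537 F49740) (tt N7688 (iv F53594)) (tt N7523 (iv F52859)) (tt N7576 (iv F53087)))
theorem Q6738 : ∀ i, i < 6738 → P i := stepQ 6737 Q6737 (allL N6737 (tt N7072 (iv F51104)) (tt N5737 (iv D12624)) (tt N5748 F49741) (tt N7695 (iv F53621)) (tt N6737 F49742) (tt N6652 F49743) (tt N7690 (iv F53602)) (tt N6737 F49744) (tt N7577 (iv F53090)))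
theorem Q6739 : ∀ i, i < 6739 → P i := stepQ 6738 Q6738 (allL N6738 (tt N6738 F49745) (tt N7600 (iv F53195)) (tt N5749 F49746) (tt N6161 (iv F49750)) (tt N6739 (iv F49754)) (tt N6738 F49747) (tt N5741 F49748) (tt N5739 (iv D12625)) (tt N6181 F49749))
theorem Q6740 : ∀ i, i < 6740 → P i := stepQ 6739 Q6739 (allL N6739 (tt N6739 F49751) (tt N6620 F49752) (tt N5750 F49753) (tt N6178 (iv F49758)) (tt N6738 F49754) (tt N5742 F49755) (tt N6181 F49756) (tt N5740 (iv D12626)) (tt N5741 F49757))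
theorem Q6741 : ∀ i, i < 6741 → P i := stepQ 6740 Q6740 (allL N6740 (tt N6740 F49759) (tt N7669 (iv F53500)) (tt N6168 F49760) (tt N5743 (iv D12627)) (tt N6162 (iv F49764)) (tt N6740 F49761) (tt N5744 F49762) (tt N6161 F49763) (tt N7582 (iv F53120)))
theorem Q6742 : ∀ i, i < 6742 → P i := stepQ 6741 Q6741 (allL N6741 (tt N7075 (iv F51118)) (tt N5747 (iv D12628)) (tt N7690 (iv F53600)) (tt N7303 F52122) (tt N6741 F49765) (tt N6945 (iv F50563)) (tt N5748 F49766) (tt N6741 F49767) (tt N7593 (iv F53167)))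
theorem Q6743 : ∀ i, i < 6743 → P i := stepQ 6742 Q6742 (allL N6742 (tt N5800 F49768) (tt N6742 F49769) (tt N7696 D13583) (tt N5751 (iv D12629)) (tt N7697 D13584) (tt N7203 (iv F51714)) (tt N7520 (iv F52846)) (tt N6256 F49770) (tt N7698 D13585))
theorem Q6744 : ∀ i, i < 6744 → P i := stepQ 6743 Q6743 (allL N6743 (tt N5801 F49771) (tt N6743 F49772) (tt N5753 F49773) (tt N7698 (iv F53632)) (tt N6743 F49774) (tt N7204 (iv F51721)) (tt N7529 (iv F52880)) (tt N6921 (iv F50471)) (tt N5751 (iv D12630)))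
theorem Q6745 : ∀ i, i < 6745 → P i := stepQ 6744 Q6744 (allL N6744 (tt N5802 F49775) (tt N7699 D13586) (tt N5752 (iv D12631)) (tt N7696 (iv F53624)) (tt N7700 D13587) (tt N7205 (iv F51726)) (tt N7412 (iv F52495)) (tt N5754 F49776) (tt N7701 D13588))
theorem Q6746 : ∀ i, i < 6746 → P i := stepQ 6745 Q6745 (allL N6745 (tt N5803 F49777) (tt N5770 F49778) (tt N7700 (iv F53636)) (tt N6745 F49779) (tt N5752 (iv D12632)) (tt N7114 (iv F51290)) (tt N7474 (iv F52691)) (tt N5755 F49780) (tt N7702 D13589))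
theorem Q6747 : ∀ i, i < 6747 → P i := stepQ 6746 Q6746 (allL N6746 (tt N5804 F49781) (tt N5771 F49782) (tt N7701 (iv F53639)) (tt N5753 F49783) (tt N7702 (iv F53643)) (tt N7206 (iv F51733)) (tt N7475 (iv F52696)) (tt N7703 D13590) (tt N5752 (iv D12633)))
theorem Q6748 : ∀ i, i < 6748 → P i := stepQ 6747 Q6747 (allL N6747 (tt N7259 (iv F51946)) (tt N5754 (iv D12634)) (tt N5772 F49784) (tt N6269 F49785) (tt N7704 D13591) (tt N7209 (iv F51747)) (tt N7265 (iv F51971)) (tt N7699 (iv F53634)) (tt N7705 D13592))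
theorem Q6749 : ∀ i, i < 6749 → P i := stepQ 6748 Q6748 (allL N6748 (tt N5805 F49786) (tt N7704 (iv F53647)) (tt N5755 F49787) (tt N7706 D13593) (tt N5754 (iv D12635)) (tt N7707 D13594) (tt N7429 (iv F52543)) (tt N7700 (iv F53637)) (tt N7708 D13595))
theorem Q6750 : ∀ i, i < 6750 → P i := stepQ 6749 Q6749 (allL N6749 (tt N5806 F49788) (tt N7705 (iv F53649)) (tt N5756 F49789) (tt N6271 F49790) (tt N7708 (iv F53659)) (tt N7211 (iv F51755)) (tt N7430 (iv F52547)) (tt N7709 D13596) (tt N5754 (iv D12636)))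
theorem Q6751 : ∀ i, i < 6751 → P i := stepQ 6750 Q6750 (allL N6750 (tt N5807 F49791) (tt N5775 F49792) (tt N7707 (iv F53656)) (tt N5759 F49793) (tt N7098 (iv F51208)) (tt N5755 (iv D12637)) (tt N7103 (iv F51237)) (tt N7114 (iv F51292)) (tt N7710 D13597))
theorem Q6752 : ∀ i, i < 6752 → P i := stepQ 6751 Q6751 (allL N6751 (tt N5808 F49794) (tt N5776 F49795) (tt N7708 (iv F53658)) (tt N5760 F49796) (tt N5756 F49797) (tt N7710 (iv F53665)) (tt N7486 (iv F52737)) (tt N7711 D13598) (tt N5755 (iv D12638)))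
theorem Q6753 : ∀ i, i < 6753 → P i := stepQ 6752 Q6752 (allL N6752 (tt N5809 F49798) (tt N5777 F49799) (tt N7709 (iv F53661)) (tt N6938 (iv F50535)) (tt N7711 (iv F53668)) (tt N7213 (iv F51764)) (tt N7487 (iv F52740)) (tt N5756 (iv D12639)) (tt N7703 (iv F53646)))
theorem Q6754 : ∀ i, i < 6754 → P i := stepQ 6753 Q6753 (allL N6753 (tt N5810 F49800) (tt N6753 F49801) (tt N7706 (iv F53653)) (tt N5757 (iv D12640)) (tt N6279 F49802) (tt N7712 D13599) (tt N7530 (iv F52884)) (tt N7713 D13600) (tt N7714 D13601))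
theorem Q6755 : ∀ i, i < 6755 → P i := stepQ 6754 Q6754 (allL N6754 (tt N5811 F49803) (tt N6754 F49804) (tt N5759 F49805) (tt N7712 (iv F53671)) (tt N5763 F49806) (tt N5757 (iv D12641)) (tt N7715 D13602) (tt N6754 F49807) (tt N7716 D13603))
theorem Q6756 : ∀ i, i < 6756 → P i := stepQ 6755 Q6755 (allL N6755 (tt N5812 F49808) (tt N6755 F49809) (tt N5760 F49810) (tt N7714 (iv F53678)) (tt N5758 F49811) (tt N7716 (iv F53689)) (tt N7532 (iv F52894)) (tt N7717 D13604) (tt N5757 (iv D12642)))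
theorem Q6757 : ∀ i, i < 6757 → P i := stepQ 6756 Q6756 (allL N6756 (tt N5813 F49812) (tt N6756 F49813) (tt N5761 F49814) (tt N7718 D13605) (tt N7717 (iv F53693)) (tt N5765 F49815) (tt N7533 (iv F52899)) (tt N5758 (iv D12643)) (tt N6756 F49816))
theorem Q6758 : ∀ i, i < 6758 → P i := stepQ 6757 Q6757 (allL N6757 (tt N5814 F49817) (tt N5778 F49818) (tt N7715 (iv F53682)) (tt N7103 (iv F51236)) (tt N5766 F49819) (tt N7583 (iv F53125)) (tt N5759 (iv D12644)) (tt N6757 F49820) (tt N7719 D13606))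
theorem Q6759 : ∀ i, i < 6759 → P i := stepQ 6758 Q6758 (allL N6758 (tt N5815 F49821) (tt N5779 F49822) (tt N7716 (iv F53687)) (tt N7710 (iv F53664)) (tt N5767 F49823) (tt N5760 F49824) (tt N7719 (iv F53705)) (tt N7720 D13607) (tt N5759 (iv D12645)))
theorem Q6760 : ∀ i, i < 6760 → P i := stepQ 6759 Q6759 (allL N6759 (tt N5816 F49825) (tt N5780 F49826) (tt N7717 (iv F53692)) (tt N7721 D13608) (tt N5761 F49827) (tt N7720 (iv F53709)) (tt N7585 (iv F53134)) (tt N5760 (iv D12646)) (tt N6759 F49828))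
theorem Q6761 : ∀ i, i < 6761 → P i := stepQ 6760 Q6760 (allL N6760 (tt N5817 F49829) (tt N6760 F49830) (tt N7216 (iv F51777)) (tt N5763 F49831) (tt N7722 D13609) (tt N5762 (iv D12647)) (tt N7723 D13610) (tt N7724 D13611) (tt N7725 D13612))
theorem Q6762 : ∀ i, i < 6762 → P i := stepQ 6761 Q6761 (allL N6761 (tt N5818 F49832) (tt N6761 F49833) (tt N6468 F49834) (tt N6761 F49835) (tt N6287 F49836) (tt N7724 (iv F53725)) (tt N6761 F49837) (tt N5762 (iv D12648)) (tt N6071 (iv F49838)))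
theorem Q6763 : ∀ i, i < 6763 → P i := stepQ 6762 Q6762 (allL N6762 (tt N5819 F49839) (tt N6762 F49840) (tt N6469 F49841) (tt N5764 F49842) (tt N6288 F49843) (tt N7725 (iv F53731)) (tt N6762 F49844) (tt N6072 F49845) (tt N5762 (iv D12649)))
theorem Q6764 : ∀ i, i < 6764 → P i := stepQ 6763 Q6763 (allL N6763 (tt N5820 F49846) (tt N6763 F49847) (tt N5766 F49848) (tt N7723 (iv F53719)) (tt N7715 (iv F53683)) (tt N6763 F49849) (tt N5763 (iv D12650)) (tt N6763 F49850) (tt N7726 D13613))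
theorem Q6765 : ∀ i, i < 6765 → P i := stepQ 6764 Q6764 (allL N6764 (tt N5821 F49851) (tt N6764 F49852) (tt N5767 F49853) (tt N7725 (iv F53730)) (tt N7716 (iv F53688)) (tt N5764 F49854) (tt N7726 (iv F53737)) (tt N7727 D13614) (tt N5763 (iv D12651)))
theorem Q6766 : ∀ i, i < 6766 → P i := stepQ 6765 Q6765 (allL N6765 (tt N5822 F49855) (tt N6765 F49856) (tt N5768 F49857) (tt N6075 F49858) (tt N5765 F49859) (tt N7727 (iv F53742)) (tt N6765 F49860) (tt N5764 (iv D12652)) (tt N6765 F49861))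
theorem Q6767 : ∀ i, i < 6767 → P i := stepQ 6766 Q6766 (allL N6766 (tt N5823 F49862) (tt N6766 F49863) (tt N6832 (iv F50068)) (tt N5765 (iv D12653)) (tt N6076 F49864) (tt N7718 (iv F53698)) (tt N6766 F49865) (tt N6292 F49866) (tt N6766 F49867))
theorem Q6768 : ∀ i, i < 6768 → P i := stepQ 6767 Q6767 (allL N6767 (tt N5824 F49868) (tt N5781 F49869) (tt N7726 (iv F53735)) (tt N7195 (iv F51659)) (tt N7719 (iv F53704)) (tt N6767 F49870) (tt N5767 F49871) (tt N7728 D13615) (tt N5766 (iv D12654)))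
theorem Q6769 : ∀ i, i < 6769 → P i := stepQ 6768 Q6768 (allL N6768 (tt N5825 F49872) (tt N5782 F49873) (tt N7727 (iv F53740)) (tt N7729 D13616) (tt N7720 (iv F53708)) (tt N5768 F49874) (tt N7728 (iv F53747)) (tt N5767 (iv D12655)) (tt N6768 F49875))
theorem Q6770 : ∀ i, i < 6770 → P i := stepQ 6769 Q6769 (allL N6769 (tt N5826 F49876) (tt N5783 F49877) (tt N6079 F49878) (tt N5768 (iv D12656)) (tt N6835 (iv F50082)) (tt N7729 (iv F53752)) (tt N6769 F49879) (tt N6476 F49880) (tt N6769 F49881))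
theorem Q6771 : ∀ i, i < 6771 → P i := stepQ 6770 Q6770 (allL N6770 (tt N7299 (iv F52100)) (tt N5769 (iv D12657)) (tt N7699 (iv F53633)) (tt N6770 F49882) (tt N7058 (iv F51070)) (tt N7053 F51054) (tt N7302 (iv F52117)) (tt N5772 F49883) (tt N7730 D13617))
theorem Q6772 : ∀ i, i < 6772 → P i := stepQ 6771 Q6771 (allL N6771 (tt N5786 F49884) (tt N7730 (iv F53755)) (tt N5771 F49885) (tt N6771 F49886) (tt N7119 (iv F51317)) (tt N7111 (iv F51274)) (tt N7338 (iv F52252)) (tt N7731 D13618) (tt N5769 (iv D12658)))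
theorem Q6773 : ∀ i, i < 6773 → P i := stepQ 6772 Q6772 (allL N6772 (tt N5787 F49887) (tt N7702 (iv F53641)) (tt N7119 (iv F51315)) (tt N6772 F49888) (tt N5771 F49889) (tt N7116 (iv F51301)) (tt N7499 (iv F52779)) (tt N7732 D13619) (tt N5770 (iv D12659)))
theorem Q6774 : ∀ i, i < 6774 → P i := stepQ 6773 Q6773 (allL N6773 (tt N5788 F49890) (tt N7703 (iv F53645)) (tt N7731 (iv F53758)) (tt N6963 (iv F50642)) (tt N7732 (iv F53761)) (tt N7219 (iv F51790)) (tt N7500 (iv F52781)) (tt N5771 (iv D12660)) (tt N5777 F49891))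
theorem Q6775 : ∀ i, i < 6775 → P i := stepQ 6774 Q6774 (allL N6774 (tt N7311 (iv F52146)) (tt N5773 F49892) (tt N7704 (iv F53648)) (tt N6774 F49893) (tt N5772 (iv D12661)) (tt N7044 (iv F51023)) (tt N7317 (iv F52174)) (tt N7058 (iv F51071)) (tt N7733 D13620))
theorem Q6776 : ∀ i, i < 6776 → P i := stepQ 6775 Q6775 (allL N6775 (tt N7312 (iv F52151)) (tt N5774 F49894) (tt N7705 (iv F53650)) (tt N5784 F49895) (tt N7733 (iv F53765)) (tt N7224 (iv F51812)) (tt N7318 (iv F52178)) (tt N7734 D13621) (tt N5772 (iv D12662)))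
theorem Q6777 : ∀ i, i < 6777 → P i := stepQ 6776 Q6776 (allL N6776 (tt N5789 F49896) (tt N7733 (iv F53763)) (tt N5776 F49897) (tt N6776 F49898) (tt N5774 F49899) (tt N7100 (iv F51222)) (tt N7347 (iv F52286)) (tt N7735 D13622) (tt N5773 (iv D12663)))
theorem Q6778 : ∀ i, i < 6778 → P i := stepQ 6777 Q6777 (allL N6777 (tt N5790 F49900) (tt N7734 (iv F53766)) (tt N5777 F49901) (tt N7736 D13623) (tt N7735 (iv F53769)) (tt N7225 (iv F51815)) (tt N7348 (iv F52289)) (tt N5774 (iv D12664)) (tt N7731 (iv F53759)))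
theorem Q6779 : ∀ i, i < 6779 → P i := stepQ 6778 Q6778 (allL N6778 (tt N5791 F49902) (tt N7710 (iv F53663)) (tt N7100 (iv F51219)) (tt N5779 F49903) (tt N7099 (iv F51215)) (tt N5776 F49904) (tt N7106 (iv F51252)) (tt N7737 D13624) (tt N5775 (iv D12665)))
theorem Q6780 : ∀ i, i < 6780 → P i := stepQ 6779 Q6779 (allL N6779 (tt N5792 F49905) (tt N7711 (iv F53667)) (tt N7735 (iv F53768)) (tt N7738 D13625) (tt N5777 F49906) (tt N7737 (iv F53773)) (tt N7507 (iv F52803)) (tt N5776 (iv D12666)) (tt N7732 (iv F53762)))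
theorem Q6781 : ∀ i, i < 6781 → P i := stepQ 6780 Q6780 (allL N6780 (tt N5793 F49907) (tt N7719 (iv F53703)) (tt N6780 F49908) (tt N7106 (iv F51250)) (tt N5781 F49909) (tt N7594 (iv F53171)) (tt N5779 F49910) (tt N7739 D13626) (tt N5778 (iv D12667)))
theorem Q6782 : ∀ i, i < 6782 → P i := stepQ 6781 Q6781 (allL N6781 (tt N5794 F49911) (tt N7720 (iv F53707)) (tt N6781 F49912) (tt N7740 D13627) (tt N5782 F49913) (tt N5780 F49914) (tt N7739 (iv F53779)) (tt N5779 (iv D12668)) (tt N6781 F49915))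
theorem Q6783 : ∀ i, i < 6783 → P i := stepQ 6782 Q6782 (allL N6782 (tt N5795 F49916) (tt N7721 (iv F53712)) (tt N7741 D13628) (tt N5780 (iv D12669)) (tt N6983 (iv F50732)) (tt N7740 (iv F53782)) (tt N7596 (iv F53179)) (tt N7738 (iv F53775)) (tt N6782 F49917))
theorem Q6784 : ∀ i, i < 6784 → P i := stepQ 6783 Q6783 (allL N6783 (tt N5796 F49918) (tt N7728 (iv F53745)) (tt N6783 F49919) (tt N7200 (iv F51691)) (tt N7739 (iv F53778)) (tt N6783 F49920) (tt N5782 F49921) (tt N5781 (iv D12670)) (tt N6783 F49922))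
theorem Q6785 : ∀ i, i < 6785 → P i := stepQ 6784 Q6784 (allL N6784 (tt N5797 F49923) (tt N7729 (iv F53750)) (tt N7197 (iv F51672)) (tt N5782 (iv D12671)) (tt N7228 (iv F51826)) (tt N5783 F49924) (tt N7200 (iv F51694)) (tt N7196 F51669) (tt N6784 F49925))
theorem Q6786 : ∀ i, i < 6786 → P i := stepQ 6785 Q6785 (allL N6785 (tt N5798 F49926) (tt N6117 F49927) (tt N5783 (iv D12672)) (tt N6785 F49928) (tt N6847 (iv F50123)) (tt N7197 (iv F51675)) (tt N6785 F49929) (tt N6507 F49930) (tt N6785 F49931))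
theorem Q6787 : ∀ i, i < 6787 → P i := stepQ 6786 Q6786 (allL N6786 (tt N7331 (iv F52221)) (tt N5785 F49932) (tt N6334 F49933) (tt N7742 D13629) (tt N6786 F49934) (tt N7230 (iv F51835)) (tt N7333 (iv F52233)) (tt N5784 (iv D12673)) (tt N6786 F49935))
theorem Q6788 : ∀ i, i < 6788 → P i := stepQ 6787 Q6787 (allL N6787 (tt N5799 F49936) (tt N7742 (iv F53787)) (tt N6995 (iv F50792)) (tt N5785 (iv D12674)) (tt N7743 D13630) (tt N7231 (iv F51839)) (tt N7357 (iv F52317)) (tt N7736 (iv F53771)) (tt N6787 F49937))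
theorem Q6789 : ∀ i, i < 6789 → P i := stepQ 6788 Q6788 (allL N6788 (tt N7731 (iv F53757)) (tt N7337 (iv F52244)) (tt N5788 F49938) (tt N7744 D13631) (tt N7154 (iv F51480)) (tt N7149 (iv F51452)) (tt N7339 (iv F52255)) (tt N5786 (iv D12675)) (tt N5790 F49939))
theorem Q6790 : ∀ i, i < 6790 → P i := stepQ 6789 Q6789 (allL N6789 (tt N7732 (iv F53760)) (tt N5840 F49940) (tt N7154 (iv F51479)) (tt N7745 D13632) (tt N5788 F49941) (tt N7152 (iv F51469)) (tt N7501 (iv F52785)) (tt N5787 (iv D12676)) (tt N5792 F49942))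
theorem Q6791 : ∀ i, i < 6791 → P i := stepQ 6790 Q6790 (allL N6790 (tt N7735 (iv F53767)) (tt N7344 (iv F52270)) (tt N5792 F49943) (tt N7746 D13633) (tt N5790 F49944) (tt N7141 (iv F51414)) (tt N7349 (iv F52293)) (tt N5789 (iv D12677)) (tt N7154 (iv F51482)))
theorem Q6792 : ∀ i, i < 6792 → P i := stepQ 6791 Q6791 (allL N6791 (tt N7736 (iv F53770)) (tt N7345 (iv F52275)) (tt N7019 (iv F50912)) (tt N5790 (iv D12678)) (tt N7747 D13634) (tt N7235 (iv F51853)) (tt N7350 (iv F52295)) (tt N5799 F49945) (tt N7744 (iv F53793)))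
theorem Q6793 : ∀ i, i < 6793 → P i := stepQ 6792 Q6792 (allL N6792 (tt N7737 (iv F53772)) (tt N5842 F49946) (tt N7141 (iv F51412)) (tt N7748 D13635) (tt N7140 (iv F51408)) (tt N5792 F49947) (tt N7145 (iv F51436)) (tt N5791 (iv D12679)) (tt N7152 (iv F51471)))
theorem Q6794 : ∀ i, i < 6794 → P i := stepQ 6793 Q6793 (allL N6793 (tt N7738 (iv F53774)) (tt N5843 F49948) (tt N7749 D13636) (tt N5792 (iv D12680)) (tt N7022 (iv F50925)) (tt N7748 (iv F53800)) (tt N7509 (iv F52807)) (tt N5795 F49949) (tt N7745 (iv F53796)))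
theorem Q6795 : ∀ i, i < 6795 → P i := stepQ 6794 Q6794 (allL N6794 (tt N7739 (iv F53776)) (tt N5844 F49950) (tt N6794 F49951) (tt N7239 (iv F51873)) (tt N5796 F49952) (tt N7597 (iv F53184)) (tt N5794 F49953) (tt N5793 (iv D12681)) (tt N6794 F49954))
theorem Q6796 : ∀ i, i < 6796 → P i := stepQ 6795 Q6795 (allL N6795 (tt N7740 (iv F53781)) (tt N5845 F49955) (tt N7356 (iv F52311)) (tt N5794 (iv D12682)) (tt N7236 (iv F51857)) (tt N5795 F49956) (tt N7239 (iv F51874)) (tt N7748 (iv F53801)) (tt N6795 F49957))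
theorem Q6797 : ∀ i, i < 6797 → P i := stepQ 6796 Q6796 (allL N6796 (tt N7741 (iv F53784)) (tt N7750 D13637) (tt N5795 (iv D12683)) (tt N6796 F49958) (tt N7025 (iv F50939)) (tt N7356 (iv F52313)) (tt N7599 (iv F53192)) (tt N7749 (iv F53802)) (tt N6796 F49959))
theorem Q6798 : ∀ i, i < 6798 → P i := stepQ 6797 Q6797 (allL N6797 (tt N7743 (iv F53789)) (tt N7356 (iv F52310)) (tt N7031 (iv F50969)) (tt N6797 F49960) (tt N5799 (iv D12684)) (tt N7750 (iv F53805)) (tt N7169 (iv F51535)) (tt N7747 (iv F53798)) (tt N6797 F49961))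
theorem Q6799 : ∀ i, i < 6799 → P i := stepQ 6798 Q6798 (allL N6798 (tt N7696 (iv F53623)) (tt N7399 (iv F52457)) (tt N5800 (iv D12685)) (tt N5802 F49962) (tt N7751 D13638) (tt N7358 (iv F52320)) (tt N7402 (iv F52468)) (tt N6418 F49963) (tt N7752 D13639))
theorem Q6800 : ∀ i, i < 6800 → P i := stepQ 6799 Q6799 (allL N6799 (tt N7697 (iv F53626)) (tt N5851 F49964) (tt N7751 (iv F53807)) (tt N6799 F49965) (tt N5800 (iv D12686)) (tt N7753 D13640) (tt N7521 (iv F52850)) (tt N6419 F49966) (tt N7754 D13641))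
theorem Q6801 : ∀ i, i < 6801 → P i := stepQ 6800 Q6800 (allL N6800 (tt N7698 (iv F53630)) (tt N5852 F49967) (tt N7752 (iv F53809)) (tt N5801 F49968) (tt N7754 (iv F53817)) (tt N7360 (iv F52329)) (tt N7522 (iv F52854)) (tt N7755 D13642) (tt N5800 (iv D12687)))
theorem Q6802 : ∀ i, i < 6802 → P i := stepQ 6801 Q6801 (allL N6801 (tt N7700 (iv F53635)) (tt N7408 (iv F52480)) (tt N5803 F49969) (tt N7756 D13643) (tt N5802 (iv D12688)) (tt N7757 D13644) (tt N7413 (iv F52499)) (tt N5805 F49970) (tt N7758 D13645))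
theorem Q6803 : ∀ i, i < 6803 → P i := stepQ 6802 Q6802 (allL N6802 (tt N7701 (iv F53638)) (tt N7409 (iv F52484)) (tt N5804 F49971) (tt N7752 (iv F53810)) (tt N7758 (iv F53824)) (tt N7362 (iv F52334)) (tt N7414 (iv F52503)) (tt N7759 D13646) (tt N5802 (iv D12689)))
theorem Q6804 : ∀ i, i < 6804 → P i := stepQ 6803 Q6803 (allL N6803 (tt N7114 (iv F51287)) (tt N5827 F49972) (tt N7757 (iv F53821)) (tt N6803 F49973) (tt N7113 F51286) (tt N5803 (iv D12690)) (tt N7121 (iv F51325)) (tt N5807 F49974) (tt N7760 D13647))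
theorem Q6805 : ∀ i, i < 6805 → P i := stepQ 6804 Q6804 (allL N6804 (tt N7702 (iv F53640)) (tt N5828 F49975) (tt N7758 (iv F53823)) (tt N6804 F49976) (tt N5804 F49977) (tt N7760 (iv F53829)) (tt N7477 (iv F52703)) (tt N7761 D13648) (tt N5803 (iv D12691)))
theorem Q6806 : ∀ i, i < 6806 → P i := stepQ 6805 Q6805 (allL N6805 (tt N7703 (iv F53644)) (tt N5829 F49978) (tt N7759 (iv F53825)) (tt N7051 (iv F51044)) (tt N7761 (iv F53831)) (tt N7363 (iv F52337)) (tt N7478 (iv F52705)) (tt N5804 (iv D12692)) (tt N5809 F49979))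
theorem Q6807 : ∀ i, i < 6807 → P i := stepQ 6806 Q6806 (allL N6806 (tt N7706 (iv F53652)) (tt N7422 (iv F52520)) (tt N5810 F49980) (tt N5805 (iv D12693)) (tt N6440 F49981) (tt N7762 D13649) (tt N7431 (iv F52551)) (tt N7763 D13650) (tt N7764 D13651))
theorem Q6808 : ∀ i, i < 6808 → P i := stepQ 6807 Q6807 (allL N6807 (tt N7707 (iv F53655)) (tt N7423 (iv F52523)) (tt N5807 F49982) (tt N7762 (iv F53834)) (tt N7369 (iv F52354)) (tt N5805 (iv D12694)) (tt N7765 D13652) (tt N7757 (iv F53822)) (tt N7766 D13653))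
theorem Q6809 : ∀ i, i < 6809 → P i := stepQ 6808 Q6808 (allL N6808 (tt N7708 (iv F53657)) (tt N7424 (iv F52525)) (tt N5808 F49983) (tt N7764 (iv F53838)) (tt N5806 F49984) (tt N7766 (iv F53842)) (tt N7433 (iv F52557)) (tt N7767 D13654) (tt N5805 (iv D12695)))
theorem Q6810 : ∀ i, i < 6810 → P i := stepQ 6809 Q6809 (allL N6809 (tt N7709 (iv F53660)) (tt N7425 (iv F52529)) (tt N5809 F49985) (tt N7768 D13655) (tt N7767 (iv F53844)) (tt N7371 (iv F52358)) (tt N7434 (iv F52560)) (tt N5806 (iv D12696)) (tt N7759 (iv F53826)))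
theorem Q6811 : ∀ i, i < 6811 → P i := stepQ 6810 Q6810 (allL N6810 (tt N7103 (iv F51234)) (tt N5830 F49986) (tt N7765 (iv F53840)) (tt N5814 F49987) (tt N7102 F51233) (tt N7488 (iv F52743)) (tt N5807 (iv D12697)) (tt N7121 (iv F51326)) (tt N7769 D13656))
theorem Q6812 : ∀ i, i < 6812 → P i := stepQ 6811 Q6811 (allL N6811 (tt N7710 (iv F53662)) (tt N5831 F49988) (tt N7766 (iv F53841)) (tt N5815 F49989) (tt N7372 (iv F52361)) (tt N5808 F49990) (tt N7769 (iv F53848)) (tt N7770 D13657) (tt N5807 (iv D12698)))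
theorem Q6813 : ∀ i, i < 6813 → P i := stepQ 6812 Q6812 (allL N6812 (tt N7711 (iv F53666)) (tt N5832 F49991) (tt N7767 (iv F53843)) (tt N7771 D13658) (tt N5809 F49992) (tt N7770 (iv F53850)) (tt N7490 (iv F52749)) (tt N5808 (iv D12699)) (tt N7761 (iv F53832)))
theorem Q6814 : ∀ i, i < 6814 → P i := stepQ 6813 Q6813 (allL N6813 (tt N7712 (iv F53669)) (tt N5853 F49993) (tt N7762 (iv F53833)) (tt N5811 F49994) (tt N7772 D13659) (tt N5810 (iv D12700)) (tt N7773 D13660) (tt N7774 D13661) (tt N7775 D13662))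
theorem Q6815 : ∀ i, i < 6815 → P i := stepQ 6814 Q6814 (allL N6814 (tt N7713 (iv F53672)) (tt N5854 F49995) (tt N7763 (iv F53835)) (tt N6814 F49996) (tt N6455 F49997) (tt N7774 (iv F53860)) (tt N7535 (iv F52906)) (tt N5810 (iv D12701)) (tt N7776 D13663))
theorem Q6816 : ∀ i, i < 6816 → P i := stepQ 6815 Q6815 (allL N6815 (tt N7714 (iv F53676)) (tt N5855 F49998) (tt N7764 (iv F53837)) (tt N5812 F49999) (tt N6456 F50000) (tt N7775 (iv F53863)) (tt N7536 (iv F52910)) (tt N7777 D13664) (tt N5810 (iv D12702)))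
theorem Q6817 : ∀ i, i < 6817 → P i := stepQ 6816 Q6816 (allL N6816 (tt N7715 (iv F53680)) (tt N5856 F50001) (tt N5814 F50002) (tt N7773 (iv F53857)) (tt N5820 F50003) (tt N7537 (iv F52914)) (tt N5811 (iv D12703)) (tt N6816 F50004) (tt N7778 D13665))
theorem Q6818 : ∀ i, i < 6818 → P i := stepQ 6817 Q6817 (allL N6817 (tt N7716 (iv F53685)) (tt N5857 F50005) (tt N5815 F50006) (tt N7775 (iv F53862)) (tt N5821 F50007) (tt N5812 F50008) (tt N7778 (iv F53872)) (tt N7779 D13666) (tt N5811 (iv D12704)))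
theorem Q6819 : ∀ i, i < 6819 → P i := stepQ 6818 Q6818 (allL N6818 (tt N7717 (iv F53690)) (tt N5858 F50009) (tt N5816 F50010) (tt N7780 D13667) (tt N5813 F50011) (tt N7779 (iv F53876)) (tt N7539 (iv F52923)) (tt N5812 (iv D12705)) (tt N6818 F50012))
theorem Q6820 : ∀ i, i < 6820 → P i := stepQ 6819 Q6819 (allL N6819 (tt N7718 (iv F53695)) (tt N5859 F50013) (tt N7084 (iv F51150)) (tt N5813 (iv D12706)) (tt N7781 D13668) (tt N5823 F50014) (tt N7540 (iv F52927)) (tt N6460 F50015) (tt N6819 F50016))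
theorem Q6821 : ∀ i, i < 6821 → P i := stepQ 6820 Q6820 (allL N6820 (tt N7719 (iv F53702)) (tt N5833 F50017) (tt N7778 (iv F53870)) (tt N7769 (iv F53847)) (tt N5824 F50018) (tt N7586 (iv F53138)) (tt N5815 F50019) (tt N7782 D13669) (tt N5814 (iv D12707)))
theorem Q6822 : ∀ i, i < 6822 → P i := stepQ 6821 Q6821 (allL N6821 (tt N7720 (iv F53706)) (tt N5834 F50020) (tt N7779 (iv F53874)) (tt N7783 D13670) (tt N5825 F50021) (tt N5816 F50022) (tt N7782 (iv F53885)) (tt N5815 (iv D12708)) (tt N6821 F50023))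
theorem Q6823 : ∀ i, i < 6823 → P i := stepQ 6822 Q6822 (allL N6822 (tt N7721 (iv F53711)) (tt N5835 F50024) (tt N7784 D13671) (tt N5816 (iv D12709)) (tt N7087 (iv F51161)) (tt N7783 (iv F53888)) (tt N7588 (iv F53145)) (tt N7771 (iv F53852)) (tt N6822 F50025))
theorem Q6824 : ∀ i, i < 6824 → P i := stepQ 6823 Q6823 (allL N6823 (tt N7722 (iv F53714)) (tt N5863 F50026) (tt N7379 (iv F52387)) (tt N7772 (iv F53854)) (tt N5817 (iv D12710)) (tt N6464 F50027) (tt N7655 (iv F53462)) (tt N7654 F53458) (tt N7785 D13672))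
theorem Q6825 : ∀ i, i < 6825 → P i := stepQ 6824 Q6824 (allL N6824 (tt N7723 (iv F53717)) (tt N5864 F50028) (tt N7380 (iv F52390)) (tt N5820 F50029) (tt N7655 (iv F53460)) (tt N6824 F50030) (tt N5817 (iv D12711)) (tt N7653 (iv F53453)) (tt N7786 D13673))
theorem Q6826 : ∀ i, i < 6826 → P i := stepQ 6825 Q6825 (allL N6825 (tt N7724 (iv F53721)) (tt N5865 F50031) (tt N7381 (iv F52394)) (tt N6825 F50032) (tt N7654 (iv F53456)) (tt N5818 F50033) (tt N7653 F53452) (tt N5817 (iv D12712)) (tt N7787 D13674))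
theorem Q6827 : ∀ i, i < 6827 → P i := stepQ 6826 Q6826 (allL N6826 (tt N7725 (iv F53727)) (tt N5866 F50034) (tt N7382 (iv F52399)) (tt N5821 F50035) (tt N7785 (iv F53892)) (tt N5819 F50036) (tt N7786 (iv F53897)) (tt N7788 D13675) (tt N5817 (iv D12713)))
theorem Q6828 : ∀ i, i < 6828 → P i := stepQ 6827 Q6827 (allL N6827 (tt N6071 F50037) (tt N5867 F50038) (tt N6287 F50039) (tt N6827 F50040) (tt N6468 F50041) (tt N7787 (iv F53902)) (tt N6827 F50042) (tt N5948 (iv F50043)) (tt N5818 (iv D12714)))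
theorem Q6829 : ∀ i, i < 6829 → P i := stepQ 6828 Q6828 (allL N6828 (tt N6072 F50044) (tt N5868 F50045) (tt N6288 F50046) (tt N5950 (iv F50050)) (tt N6469 F50047) (tt N7788 (iv F53907)) (tt N6828 F50048) (tt N5819 (iv D12715)) (tt N5948 F50049))
theorem Q6830 : ∀ i, i < 6830 → P i := stepQ 6829 Q6829 (allL N6829 (tt N7726 (iv F53733)) (tt N5869 F50051) (tt N5824 F50052) (tt N7786 (iv F53895)) (tt N7778 (iv F53871)) (tt N6829 F50053) (tt N5821 F50054) (tt N7789 D13676) (tt N5820 (iv D12716)))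
theorem Q6831 : ∀ i, i < 6831 → P i := stepQ 6830 Q6830 (allL N6830 (tt N7727 (iv F53738)) (tt N5870 F50055) (tt N5825 F50056) (tt N7790 D13677) (tt N7779 (iv F53875)) (tt N5822 F50057) (tt N7789 (iv F53913)) (tt N5821 (iv D12717)) (tt N6830 F50058))
theorem Q6832 : ∀ i, i < 6832 → P i := stepQ 6831 Q6831 (allL N6831 (tt N6075 F50059) (tt N5871 F50060) (tt N5954 (iv F50064)) (tt N5822 (iv D12718)) (tt N5951 (iv F50065)) (tt N7790 (iv F53917)) (tt N6831 F50061) (tt N5950 F50062) (tt N6831 F50063))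
theorem Q6833 : ∀ i, i < 6833 → P i := stepQ 6832 Q6832 (allL N6832 (tt N6076 F50066) (tt N5872 F50067) (tt N6766 F50068) (tt N5951 F50069) (tt N5823 (iv D12719)) (tt N7635 (iv F53382)) (tt N6832 F50070) (tt N6473 F50071) (tt N6832 F50072))
theorem Q6834 : ∀ i, i < 6834 → P i := stepQ 6833 Q6833 (allL N6833 (tt N7728 (iv F53744)) (tt N5836 F50073) (tt N7789 (iv F53911)) (tt N7791 D13678) (tt N7782 (iv F53884)) (tt N6833 F50074) (tt N5825 F50075) (tt N5824 (iv D12720)) (tt N6833 F50076))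
theorem Q6835 : ∀ i, i < 6835 → P i := stepQ 6834 Q6834 (allL N6834 (tt N7729 (iv F53749)) (tt N5837 F50077) (tt N7792 D13679) (tt N5825 (iv D12721)) (tt N7793 D13680) (tt N5826 F50078) (tt N7791 (iv F53923)) (tt N7386 (iv F52419)) (tt N6834 F50079))
theorem Q6836 : ∀ i, i < 6836 → P i := stepQ 6835 Q6835 (allL N6835 (tt N6079 F50080) (tt N5979 (iv F50086)) (tt N5826 (iv D12722)) (tt N5954 F50081) (tt N6769 F50082) (tt N7792 (iv F53927)) (tt N6835 F50083) (tt N6295 F50084) (tt N6835 F50085))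
theorem Q6837 : ∀ i, i < 6837 → P i := stepQ 6836 Q6836 (allL N6836 (tt N5839 F50087) (tt N7760 (iv F53827)) (tt N7330 F52220) (tt N6836 F50088) (tt N7150 (iv F51457)) (tt N5828 F50089) (tt N7157 (iv F51495)) (tt N7794 D13681) (tt N5827 (iv D12723)))
theorem Q6838 : ∀ i, i < 6838 → P i := stepQ 6837 Q6837 (allL N6837 (tt N5840 F50090) (tt N7761 (iv F53830)) (tt N7327 F52204) (tt N7795 D13682) (tt N5829 F50091) (tt N7794 (iv F53934)) (tt N7480 (iv F52714)) (tt N5828 (iv D12724)) (tt N5832 F50092))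
theorem Q6839 : ∀ i, i < 6839 → P i := stepQ 6838 Q6838 (allL N6838 (tt N5841 F50093) (tt N7769 (iv F53846)) (tt N7483 (iv F52723)) (tt N5833 F50094) (tt N7142 (iv F51419)) (tt N7491 (iv F52753)) (tt N5831 F50095) (tt N7796 D13683) (tt N5830 (iv D12725)))
theorem Q6840 : ∀ i, i < 6840 → P i := stepQ 6839 Q6839 (allL N6839 (tt N5842 F50096) (tt N7770 (iv F53849)) (tt N7484 (iv F52728)) (tt N7797 D13684) (tt N7394 (iv F52445)) (tt N5832 F50097) (tt N7796 (iv F53940)) (tt N5831 (iv D12726)) (tt N7794 (iv F53935)))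
theorem Q6841 : ∀ i, i < 6841 → P i := stepQ 6840 Q6840 (allL N6840 (tt N5843 F50098) (tt N7771 (iv F53851)) (tt N7798 D13685) (tt N5832 (iv D12727)) (tt N7131 (iv F51361)) (tt N7797 (iv F53942)) (tt N7493 (iv F52759)) (tt N5835 F50099) (tt N7795 (iv F53938)))
theorem Q6842 : ∀ i, i < 6842 → P i := stepQ 6841 Q6841 (allL N6841 (tt N5844 F50100) (tt N7782 (iv F53883)) (tt N5876 F50101) (tt N7799 D13686) (tt N5836 F50102) (tt N7589 (iv F53150)) (tt N5834 F50103) (tt N5833 (iv D12728)) (tt N6841 F50104))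
theorem Q6843 : ∀ i, i < 6843 → P i := stepQ 6842 Q6842 (allL N6842 (tt N5845 F50105) (tt N7783 (iv F53887)) (tt N7800 D13687) (tt N5834 (iv D12729)) (tt N7801 D13688) (tt N5835 F50106) (tt N7799 (iv F53947)) (tt N7797 (iv F53943)) (tt N6842 F50107))
theorem Q6844 : ∀ i, i < 6844 → P i := stepQ 6843 Q6843 (allL N6843 (tt N5846 F50108) (tt N7802 D13689) (tt N5835 (iv D12730)) (tt N5878 F50109) (tt N7137 (iv F51390)) (tt N7800 (iv F53951)) (tt N7591 (iv F53158)) (tt N7798 (iv F53945)) (tt N6843 F50110))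
theorem Q6845 : ∀ i, i < 6845 → P i := stepQ 6844 Q6844 (allL N6844 (tt N5847 F50111) (tt N7791 (iv F53921)) (tt N7202 (iv F51705)) (tt N5836 (iv D12731)) (tt N7237 (iv F51862)) (tt N6844 F50112) (tt N5837 F50113) (tt N7201 F51702) (tt N6844 F50114))
theorem Q6846 : ∀ i, i < 6846 → P i := stepQ 6845 Q6845 (allL N6845 (tt N5848 F50115) (tt N7803 D13690) (tt N5837 (iv D12732)) (tt N5880 F50116) (tt N6989 (iv F50766)) (tt N5838 F50117) (tt N7202 (iv F51708)) (tt N6988 F50762) (tt N6845 F50118))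
theorem Q6847 : ∀ i, i < 6847 → P i := stepQ 6846 Q6846 (allL N6846 (tt N5849 F50119) (tt N7793 (iv F53931)) (tt N6989 (iv F50764)) (tt N7801 (iv F53954)) (tt N5837 (iv D12733)) (tt N6992 (iv F50782)) (tt N7237 (iv F51864)) (tt N6987 F50754) (tt N6846 F50120))
theorem Q6848 : ∀ i, i < 6848 → P i := stepQ 6847 Q6847 (allL N6847 (tt N6022 (iv F50127)) (tt N5838 (iv D12734)) (tt N5979 F50121) (tt N5882 F50122) (tt N6785 F50123) (tt N7803 (iv F53962)) (tt N6847 F50124) (tt N6330 F50125) (tt N6847 F50126))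
theorem Q6849 : ∀ i, i < 6849 → P i := stepQ 6848 Q6848 (allL N6848 (tt N7794 (iv F53933)) (tt N7152 (iv F51466)) (tt N7355 F52309) (tt N7804 D13691) (tt N7151 (iv F51462)) (tt N5840 F50128) (tt N7160 (iv F51506)) (tt N5839 (iv D12735)) (tt N5842 F50129))
theorem Q6850 : ∀ i, i < 6850 → P i := stepQ 6849 Q6849 (allL N6849 (tt N7795 (iv F53936)) (tt N7745 (iv F53794)) (tt N7352 (iv F52299)) (tt N5840 (iv D12736)) (tt N7148 (iv F51447)) (tt N7804 (iv F53966)) (tt N7503 (iv F52790)) (tt N6849 F50130) (tt N5843 F50131))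
theorem Q6851 : ∀ i, i < 6851 → P i := stepQ 6850 Q6850 (allL N6850 (tt N7796 (iv F53939)) (tt N7145 (iv F51433)) (tt N7505 (iv F52795)) (tt N7805 D13692) (tt N7143 (iv F51423)) (tt N7510 (iv F52810)) (tt N5842 F50132) (tt N5841 (iv D12737)) (tt N7160 (iv F51507)))
theorem Q6852 : ∀ i, i < 6852 → P i := stepQ 6851 Q6851 (allL N6851 (tt N7797 (iv F53941)) (tt N7748 (iv F53799)) (tt N7806 D13693) (tt N5842 (iv D12738)) (tt N7807 D13694) (tt N5843 F50133) (tt N7805 (iv F53969)) (tt N5845 F50134) (tt N7804 (iv F53968)))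
theorem Q6853 : ∀ i, i < 6853 → P i := stepQ 6852 Q6852 (allL N6852 (tt N7798 (iv F53944)) (tt N7808 D13695) (tt N5843 (iv D12739)) (tt N7340 (iv F52258)) (tt N7166 (iv F51522)) (tt N7806 (iv F53971)) (tt N7512 (iv F52815)) (tt N5846 F50135) (tt N7352 (iv F52301)))
theorem Q6854 : ∀ i, i < 6854 → P i := stepQ 6853 Q6853 (allL N6853 (tt N7799 (iv F53946)) (tt N7239 (iv F51871)) (tt N7024 (iv F50934)) (tt N5844 (iv D12740)) (tt N7238 (iv F51867)) (tt N7025 (iv F50940)) (tt N5845 F50136) (tt N7805 (iv F53970)) (tt N6853 F50137))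
theorem Q6855 : ∀ i, i < 6855 → P i := stepQ 6854 Q6854 (allL N6854 (tt N7800 (iv F53949)) (tt N7031 (iv F50968)) (tt N5845 (iv D12741)) (tt N5884 F50138) (tt N7030 (iv F50965)) (tt N5846 F50139) (tt N7024 (iv F50936)) (tt N7806 (iv F53972)) (tt N6854 F50140))
theorem Q6856 : ∀ i, i < 6856 → P i := stepQ 6855 Q6855 (allL N6855 (tt N7801 (iv F53953)) (tt N7236 (iv F51855)) (tt N7030 (iv F50964)) (tt N5849 F50141) (tt N5845 (iv D12742)) (tt N7028 (iv F50956)) (tt N7238 (iv F51869)) (tt N7807 (iv F53973)) (tt N6855 F50142))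
theorem Q6857 : ∀ i, i < 6857 → P i := stepQ 6856 Q6856 (allL N6856 (tt N7809 D13696) (tt N5846 (iv D12743)) (tt N7750 (iv F53803)) (tt N5886 F50143) (tt N7170 (iv F51539)) (tt N7031 F50973) (tt N7167 (iv F51526)) (tt N7808 (iv F53974)) (tt N6856 F50144))
theorem Q6858 : ∀ i, i < 6858 → P i := stepQ 6857 Q6857 (allL N6857 (tt N5850 (iv D12744)) (tt N6022 F50145) (tt N5923 F50146) (tt N5891 F50147) (tt N6206 F50148) (tt N5926 F50149) (tt N6857 F50150) (tt N5921 F50151) (tt N6857 F50152))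
theorem Q6859 : ∀ i, i < 6859 → P i := stepQ 6858 Q6858 (allL N6858 (tt N6858 F50153) (tt N7753 (iv F53811)) (tt N6736 F50154) (tt N6858 F50155) (tt N6735 F50156) (tt N5851 (iv D12745)) (tt N7810 D13697) (tt N6542 F50157) (tt N7811 D13698))
theorem Q6860 : ∀ i, i < 6860 → P i := stepQ 6859 Q6859 (allL N6859 (tt N6859 F50158) (tt N7754 (iv F53815)) (tt N7518 (iv F52837)) (tt N6859 F50159) (tt N5852 F50160) (tt N7811 (iv F53986)) (tt N7524 (iv F52864)) (tt N7812 D13699) (tt N5851 (iv D12746)))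
theorem Q6861 : ∀ i, i < 6861 → P i := stepQ 6860 Q6860 (allL N6860 (tt N6860 F50161) (tt N7755 (iv F53818)) (tt N7519 (iv F52842)) (tt N7181 (iv F51582)) (tt N7812 (iv F53988)) (tt N7517 (iv F52834)) (tt N7525 (iv F52867)) (tt N5852 (iv D12747)) (tt N6544 F50162))
theorem Q6862 : ∀ i, i < 6862 → P i := stepQ 6861 Q6861 (allL N6861 (tt N6861 F50163) (tt N7772 (iv F53853)) (tt N7554 (iv F52989)) (tt N5863 F50164) (tt N5853 (iv D12748)) (tt N6574 F50165) (tt N7556 (iv F53005)) (tt N7555 F52999) (tt N7813 D13700))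
theorem Q6863 : ∀ i, i < 6863 → P i := stepQ 6862 Q6862 (allL N6862 (tt N6862 F50166) (tt N7773 (iv F53856)) (tt N7555 (iv F52995)) (tt N5856 F50167) (tt N7556 (iv F53003)) (tt N7542 (iv F52936)) (tt N5853 (iv D12749)) (tt N7554 F52993) (tt N7814 D13701))
theorem Q6864 : ∀ i, i < 6864 → P i := stepQ 6863 Q6863 (allL N6863 (tt N6863 F50168) (tt N7774 (iv F53858)) (tt N7556 (iv F53001)) (tt N6863 F50169) (tt N7555 (iv F52997)) (tt N5854 F50170) (tt N7554 F52992) (tt N5853 (iv D12750)) (tt N7815 D13702))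
theorem Q6865 : ∀ i, i < 6865 → P i := stepQ 6864 Q6864 (allL N6864 (tt N6864 F50171) (tt N7775 (iv F53861)) (tt N7557 (iv F53007)) (tt N5857 F50172) (tt N7813 (iv F53992)) (tt N5855 F50173) (tt N7814 (iv F53996)) (tt N7816 D13703) (tt N5853 (iv D12751)))
theorem Q6866 : ∀ i, i < 6866 → P i := stepQ 6865 Q6865 (allL N6865 (tt N6865 F50174) (tt N7776 (iv F53864)) (tt N7558 (iv F53011)) (tt N6865 F50175) (tt N6578 F50176) (tt N7815 (iv F53999)) (tt N7545 (iv F52951)) (tt N7817 D13704) (tt N5854 (iv D12752)))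
theorem Q6867 : ∀ i, i < 6867 → P i := stepQ 6866 Q6866 (allL N6866 (tt N6866 F50177) (tt N7777 (iv F53867)) (tt N7559 (iv F53016)) (tt N7818 D13705) (tt N6579 F50178) (tt N7816 (iv F54001)) (tt N7546 (iv F52954)) (tt N5855 (iv D12753)) (tt N7817 (iv F54004)))
theorem Q6868 : ∀ i, i < 6868 → P i := stepQ 6867 Q6867 (allL N6867 (tt N6867 F50179) (tt N7778 (iv F53869)) (tt N5860 F50180) (tt N7814 (iv F53995)) (tt N5869 F50181) (tt N7547 (iv F52958)) (tt N5857 F50182) (tt N7819 D13706) (tt N5856 (iv D12754)))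
theorem Q6869 : ∀ i, i < 6869 → P i := stepQ 6868 Q6868 (allL N6868 (tt N6868 F50183) (tt N7779 (iv F53873)) (tt N5861 F50184) (tt N7820 D13707) (tt N5870 F50185) (tt N5858 F50186) (tt N7819 (iv F54010)) (tt N5857 (iv D12755)) (tt N6868 F50187))
theorem Q6870 : ∀ i, i < 6870 → P i := stepQ 6869 Q6869 (allL N6869 (tt N6869 F50188) (tt N7780 (iv F53878)) (tt N7821 D13708) (tt N5858 (iv D12756)) (tt N7822 D13709) (tt N7820 (iv F54013)) (tt N7549 (iv F52966)) (tt N7818 (iv F54006)) (tt N6869 F50189))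
theorem Q6871 : ∀ i, i < 6871 → P i := stepQ 6870 Q6870 (allL N6870 (tt N6870 F50190) (tt N7781 (iv F53880)) (tt N6870 F50191) (tt N7822 (iv F54019)) (tt N5859 (iv D12757)) (tt N7675 (iv F53539)) (tt N7550 (iv F52970)) (tt N6583 F50192) (tt N6870 F50193))
theorem Q6872 : ∀ i, i < 6872 → P i := stepQ 6871 Q6871 (allL N6871 (tt N6871 F50194) (tt N5876 F50195) (tt N7819 (iv F54008)) (tt N7823 D13710) (tt N5873 F50196) (tt N7551 (iv F52975)) (tt N5861 F50197) (tt N5860 (iv D12758)) (tt N6871 F50198))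
theorem Q6873 : ∀ i, i < 6873 → P i := stepQ 6872 Q6872 (allL N6872 (tt N6872 F50199) (tt N5877 F50200) (tt N7824 D13711) (tt N5861 (iv D12759)) (tt N7825 D13712) (tt N5862 F50201) (tt N7823 (iv F54023)) (tt N7565 (iv F53046)) (tt N6872 F50202))
theorem Q6874 : ∀ i, i < 6874 → P i := stepQ 6873 Q6873 (allL N6873 (tt N6873 F50203) (tt N7826 D13713) (tt N5862 (iv D12760)) (tt N7821 (iv F54016)) (tt N6873 F50204) (tt N7824 (iv F54026)) (tt N7553 (iv F52985)) (tt N7566 (iv F53051)) (tt N6873 F50205))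
theorem Q6875 : ∀ i, i < 6875 → P i := stepQ 6874 Q6874 (allL N6874 (tt N6874 F50206) (tt N7785 (iv F53891)) (tt N6874 F50207) (tt N7813 (iv F53991)) (tt N5866 F50208) (tt N6587 F50209) (tt N7681 (iv F53570)) (tt N7827 D13714) (tt N5863 (iv D12761)))
theorem Q6876 : ∀ i, i < 6876 → P i := stepQ 6875 Q6875 (allL N6875 (tt N6875 F50210) (tt N7786 (iv F53894)) (tt N6875 F50211) (tt N5869 F50212) (tt N7681 (iv F53568)) (tt N6875 F50213) (tt N5866 F50214) (tt N7828 D13715) (tt N5864 (iv D12762)))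
theorem Q6877 : ∀ i, i < 6877 → P i := stepQ 6876 Q6876 (allL N6876 (tt N6876 F50215) (tt N7787 (iv F53899)) (tt N6876 F50216) (tt N6876 F50217) (tt N7680 (iv F53563)) (tt N5867 F50218) (tt N7679 (iv F53559)) (tt N7829 D13716) (tt N5865 (iv D12763)))
theorem Q6878 : ∀ i, i < 6878 → P i := stepQ 6877 Q6877 (allL N6877 (tt N6877 F50219) (tt N7788 (iv F53905)) (tt N6877 F50220) (tt N7830 D13717) (tt N7827 (iv F54038)) (tt N5868 F50221) (tt N7828 (iv F54043)) (tt N5866 (iv D12764)) (tt N7829 (iv F54048)))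
theorem Q6879 : ∀ i, i < 6879 → P i := stepQ 6878 Q6878 (allL N6878 (tt N6878 F50222) (tt N5948 F50223) (tt N6878 F50224) (tt N5895 (iv F50228)) (tt N6591 F50225) (tt N7829 (iv F54047)) (tt N6878 F50226) (tt N5867 (iv D12765)) (tt N5868 F50227))
theorem Q6880 : ∀ i, i < 6880 → P i := stepQ 6879 Q6879 (allL N6879 (tt N6879 F50229) (tt N5950 F50230) (tt N5898 (iv F50235)) (tt N5868 (iv D12766)) (tt N5896 F50231) (tt N7830 (iv F54052)) (tt N6879 F50232) (tt N5871 F50233) (tt N5895 F50234))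
theorem Q6881 : ∀ i, i < 6881 → P i := stepQ 6880 Q6880 (allL N6880 (tt N6880 F50236) (tt N7789 (iv F53910)) (tt N5873 F50237) (tt N7831 D13718) (tt N7819 (iv F54009)) (tt N6880 F50238) (tt N5870 F50239) (tt N5869 (iv D12767)) (tt N6880 F50240))
theorem Q6882 : ∀ i, i < 6882 → P i := stepQ 6881 Q6881 (allL N6881 (tt N6881 F50241) (tt N7790 (iv F53916)) (tt N7832 D13719) (tt N5870 (iv D12768)) (tt N7833 D13720) (tt N5871 F50242) (tt N7831 (iv F54059)) (tt N7830 (iv F54053)) (tt N6881 F50243))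
theorem Q6883 : ∀ i, i < 6883 → P i := stepQ 6882 Q6882 (allL N6882 (tt N6882 F50244) (tt N5906 F50245) (tt N5871 (iv D12769)) (tt N5875 F50246) (tt N5899 (iv F50250)) (tt N7832 (iv F54065)) (tt N6882 F50247) (tt N5898 F50248) (tt N6882 F50249))
theorem Q6884 : ∀ i, i < 6884 → P i := stepQ 6883 Q6883 (allL N6883 (tt N6883 F50251) (tt N5951 F50252) (tt N5899 F50253) (tt N5872 F50254) (tt N5871 (iv D12770)) (tt N7672 (iv F53520)) (tt N6883 F50255) (tt N5896 F50256) (tt N6883 F50257))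
theorem Q6885 : ∀ i, i < 6885 → P i := stepQ 6884 Q6884 (allL N6884 (tt N6884 F50258) (tt N5879 F50259) (tt N6886 (iv F50305)) (tt N5873 (iv D12771)) (tt N6885 (iv F50303)) (tt N6884 F50260) (tt N5874 F50261) (tt N6884 F50262) (tt N6884 F50263))
theorem Q6886 : ∀ i, i < 6886 → P i := stepQ 6885 Q6885 (allL N6885 (tt N6885 F50264) (tt N6893 (iv F50302)) (tt N5874 (iv D12772)) (tt N7832 (iv F54064)) (tt N6884 F50303) (tt N5875 F50265) (tt N6886 F50304) (tt N6885 F50266) (tt N6885 F50267))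
theorem Q6887 : ∀ i, i < 6887 → P i := stepQ 6886 Q6886 (allL N6886 (tt N6886 F50268) (tt N5881 F50269) (tt N6884 F50305) (tt N7825 (iv F54030)) (tt N5874 (iv D12773)) (tt N6886 F50270) (tt N6885 (iv F50304)) (tt N6886 F50271) (tt N6886 F50272))
theorem Q6888 : ∀ i, i < 6888 → P i := stepQ 6887 Q6887 (allL N6887 (tt N5916 (iv F50279)) (tt N5875 (iv D12774)) (tt N5882 F50273) (tt N5906 F50274) (tt N6887 F50275) (tt N6893 F50301) (tt N6887 F50276) (tt N6887 F50277) (tt N6887 F50278))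
theorem Q6889 : ∀ i, i < 6889 → P i := stepQ 6888 Q6888 (allL N6888 (tt N5883 F50280) (tt N7823 (iv F54022)) (tt N6982 (iv F50726)) (tt N5876 (iv D12775)) (tt N6910 (iv F50402)) (tt N6908 (iv F50390)) (tt N5877 F50281) (tt N6907 F50385) (tt N6888 F50282))
theorem Q6890 : ∀ i, i < 6890 → P i := stepQ 6889 Q6889 (allL N6889 (tt N5884 F50283) (tt N7834 D13721) (tt N5877 (iv D12776)) (tt N7800 (iv F53950)) (tt N6984 (iv F50736)) (tt N5878 F50284) (tt N6982 (iv F50729)) (tt N6981 F50724) (tt N6889 F50285))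
theorem Q6891 : ∀ i, i < 6891 → P i := stepQ 6890 Q6890 (allL N6890 (tt N5885 F50286) (tt N7825 (iv F54029)) (tt N6984 (iv F50735)) (tt N5881 F50287) (tt N5877 (iv D12777)) (tt N6890 F50288) (tt N6910 (iv F50404)) (tt N6909 F50399) (tt N6890 F50289))
theorem Q6892 : ∀ i, i < 6892 → P i := stepQ 6891 Q6891 (allL N6891 (tt N7835 D13722) (tt N5878 (iv D12778)) (tt N7826 (iv F54033)) (tt N7802 (iv F53956)) (tt N6891 F50290) (tt N7834 (iv F54074)) (tt N7592 (iv F53161)) (tt N7593 (iv F53166)) (tt N6891 F50291))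
theorem Q6893 : ∀ i, i < 6893 → P i := stepQ 6892 Q6892 (allL N6892 (tt N5887 F50292) (tt N6895 (iv F50312)) (tt N5879 (iv D12779)) (tt N7202 F51710) (tt N6894 F50310) (tt N6892 F50293) (tt N5880 F50294) (tt N6892 F50295) (tt N6892 F50296))
theorem Q6894 : ∀ i, i < 6894 → P i := stepQ 6893 Q6893 (allL N6893 (tt N5888 F50297) (tt N6885 F50302) (tt N6894 (iv F50306)) (tt N6910 F50406) (tt N5879 (iv D12780)) (tt N6887 (iv F50301)) (tt N5881 F50298) (tt N6893 F50299) (tt N6893 F50300))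
theorem Q6895 : ∀ i, i < 6895 → P i := stepQ 6894 Q6894 (allL N6894 (tt N6898 (iv F50328)) (tt N5880 (iv D12781)) (tt N6893 F50306) (tt N7803 (iv F53960)) (tt N6892 (iv F50310)) (tt N5882 F50307) (tt N6895 (iv F50315)) (tt N6894 F50308) (tt N6894 F50309))
theorem Q6896 : ∀ i, i < 6896 → P i := stepQ 6895 Q6895 (allL N6895 (tt N5890 F50311) (tt N6892 F50312) (tt N5881 F50313) (tt N6919 F50462) (tt N5880 (iv D12782)) (tt N6895 F50314) (tt N6894 F50315) (tt N6895 F50316) (tt N6895 F50317))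
theorem Q6897 : ∀ i, i < 6897 → P i := stepQ 6896 Q6896 (allL N6896 (tt N5882 (iv D12783)) (tt N5891 F50318) (tt N5916 F50319) (tt N6022 F50320) (tt N6896 F50321) (tt N6898 F50333) (tt N6896 F50322) (tt N6896 F50323) (tt N6896 F50324))
theorem Q6898 : ∀ i, i < 6898 → P i := stepQ 6897 Q6897 (allL N6897 (tt N5886 (iv D12784)) (tt N7835 (iv F54076)) (tt N6897 F50325) (tt N7809 (iv F53975)) (tt N6897 F50326) (tt N7135 (iv F51382)) (tt N7133 (iv F51373)) (tt N7132 F51368) (tt N6897 F50327))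
theorem Q6899 : ∀ i, i < 6899 → P i := stepQ 6898 Q6898 (allL N6898 (tt N6894 F50328) (tt N6899 (iv F50334)) (tt N5888 F50329) (tt N6918 F50457) (tt N5887 (iv D12785)) (tt N6896 (iv F50333)) (tt N5890 F50330) (tt N6898 F50331) (tt N6898 F50332))
theorem Q6900 : ∀ i, i < 6900 → P i := stepQ 6899 Q6899 (allL N6899 (tt N5889 (iv D12786)) (tt N6898 F50334) (tt N6899 F50335) (tt N5926 F50336) (tt N6209 F50337) (tt N5891 F50338) (tt N5929 F50339) (tt N6899 F50340) (tt N6899 F50341))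
theorem Q6901 : ∀ i, i < 6901 → P i := stepQ 6900 Q6900 (allL N6900 (tt N6900 F50342) (tt N5901 F50343) (tt N7670 (iv F53508)) (tt N6724 F50344) (tt N5897 F50345) (tt N5893 (iv D12787)) (tt N6725 F50346) (tt N6900 F50347) (tt N7836 D13723))
theorem Q6902 : ∀ i, i < 6902 → P i := stepQ 6901 Q6901 (allL N6901 (tt N6901 F50348) (tt N5902 F50349) (tt N7671 (iv F53513)) (tt N6584 F50350) (tt N5894 F50351) (tt N7836 (iv F54083)) (tt N6585 F50352) (tt N7837 D13724) (tt N5893 (iv D12788)))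
theorem Q6903 : ∀ i, i < 6903 → P i := stepQ 6902 Q6902 (allL N6902 (tt N6902 F50353) (tt N5903 F50354) (tt N7672 (iv F53518)) (tt N6902 F50355) (tt N7837 (iv F54089)) (tt N5899 F50356) (tt N7673 (iv F53529)) (tt N5894 (iv D12789)) (tt N6902 F50357))
theorem Q6904 : ∀ i, i < 6904 → P i := stepQ 6903 Q6903 (allL N6903 (tt N6903 F50358) (tt N5949 F50359) (tt N5897 F50360) (tt N7829 F54049) (tt N7670 (iv F53509)) (tt N5895 (iv D12790)) (tt N7838 D13725) (tt N6903 F50361) (tt N7830 (iv F54054)))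
theorem Q6905 : ∀ i, i < 6905 → P i := stepQ 6904 Q6904 (allL N6904 (tt N6904 F50362) (tt N5904 F50363) (tt N7838 (iv F54095)) (tt N6904 F50364) (tt N6725 F50365) (tt N6904 F50366) (tt N5897 (iv D12791)) (tt N6904 F50367) (tt N7839 D13726))
theorem Q6906 : ∀ i, i < 6906 → P i := stepQ 6905 Q6905 (allL N6905 (tt N6905 F50368) (tt N5905 F50369) (tt N7830 F54055) (tt N6905 F50370) (tt N7836 (iv F54082)) (tt N5898 F50371) (tt N7839 (iv F54104)) (tt N7832 (iv F54067)) (tt N5897 (iv D12792)))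
theorem Q6907 : ∀ i, i < 6907 → P i := stepQ 6906 Q6906 (allL N6906 (tt N5911 F50372) (tt N7673 (iv F53524)) (tt N5973 F50373) (tt N6906 F50374) (tt N6605 F50375) (tt N6906 F50376) (tt N5903 F50377) (tt N5900 (iv D12793)) (tt N6906 F50378))
theorem Q6908 : ∀ i, i < 6908 → P i := stepQ 6907 Q6907 (allL N6907 (tt N5912 F50379) (tt N7836 (iv F54080)) (tt N5975 F50380) (tt N6607 F50381) (tt N5905 F50382) (tt N5902 F50383) (tt N6608 F50384) (tt N6888 (iv F50385)) (tt N5901 (iv D12794)))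
theorem Q6909 : ∀ i, i < 6909 → P i := stepQ 6908 Q6908 (allL N6908 (tt N5913 F50386) (tt N7837 (iv F54087)) (tt N5976 F50387) (tt N6604 F50388) (tt N5903 F50389) (tt N6888 F50390) (tt N6605 F50391) (tt N5902 (iv D12795)) (tt N6908 F50392))
theorem Q6910 : ∀ i, i < 6910 → P i := stepQ 6909 Q6909 (allL N6909 (tt N5914 F50393) (tt N7839 (iv F54100)) (tt N5977 F50394) (tt N6909 F50395) (tt N6608 F50396) (tt N6909 F50397) (tt N5905 F50398) (tt N6890 (iv F50399)) (tt N5904 (iv D12796)))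
theorem Q6911 : ∀ i, i < 6911 → P i := stepQ 6910 Q6910 (allL N6910 (tt N5915 F50400) (tt N7832 (iv F54063)) (tt N5978 F50401) (tt N6893 (iv F50406)) (tt N6888 F50402) (tt N5906 F50403) (tt N6890 F50404) (tt N5905 (iv D12797)) (tt N6910 F50405))
theorem Q6912 : ∀ i, i < 6912 → P i := stepQ 6911 Q6911 (allL N6911 (tt N5917 F50407) (tt N7197 (iv F51671)) (tt N6116 F50408) (tt N6911 F50409) (tt N5985 F50410) (tt N6117 F50411) (tt N5910 F50412) (tt N5907 (iv D12798)) (tt N6911 F50413))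
theorem Q6913 : ∀ i, i < 6913 → P i := stepQ 6912 Q6912 (allL N6912 (tt N5908 (iv D12799)) (tt N5918 F50414) (tt N7198 (iv F51679)) (tt N6648 F50415) (tt N5986 F50416) (tt N6912 F50417) (tt N6649 F50418) (tt N6912 F50419) (tt N7840 D13727))
theorem Q6914 : ∀ i, i < 6914 → P i := stepQ 6913 Q6913 (allL N6913 (tt N7840 (iv F54106)) (tt N5909 F50420) (tt N7199 (iv F51686)) (tt N6474 F50421) (tt N5987 F50422) (tt N6913 F50423) (tt N6475 F50424) (tt N7841 D13728) (tt N5908 (iv D12800)))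
theorem Q6915 : ∀ i, i < 6915 → P i := stepQ 6914 Q6914 (allL N6914 (tt N5920 F50425) (tt N7841 (iv F54112)) (tt N5910 F50426) (tt N6115 F50427) (tt N5988 F50428) (tt N6914 F50429) (tt N6116 F50430) (tt N5909 (iv D12801)) (tt N6914 F50431))
theorem Q6916 : ∀ i, i < 6916 → P i := stepQ 6915 Q6915 (allL N6915 (tt N5919 F50432) (tt N7840 (iv F54107)) (tt N5927 F50433) (tt N6328 F50434) (tt N6029 F50435) (tt N6915 F50436) (tt N6329 F50437) (tt N7842 D13729) (tt N5918 (iv D12802)))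
theorem Q6917 : ∀ i, i < 6917 → P i := stepQ 6916 Q6916 (allL N6916 (tt N7842 (iv F54118)) (tt N5920 F50438) (tt N5928 F50439) (tt N6020 F50440) (tt N6030 F50441) (tt N6916 F50442) (tt N6021 F50443) (tt N5919 (iv D12803)) (tt N6916 F50444))
theorem Q6918 : ∀ i, i < 6918 → P i := stepQ 6917 Q6917 (allL N6917 (tt N5925 F50445) (tt N6988 (iv F50756)) (tt N6329 F50446) (tt N6917 F50447) (tt N6033 F50448) (tt N6330 F50449) (tt N5927 F50450) (tt N7803 (iv F53964)) (tt N5924 (iv D12804)))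
theorem Q6919 : ∀ i, i < 6919 → P i := stepQ 6918 Q6918 (allL N6918 (tt N7803 (iv F53958)) (tt N5926 F50451) (tt N6021 F50452) (tt N6898 (iv F50457)) (tt N6034 F50453) (tt N6022 F50454) (tt N5928 F50455) (tt N5925 (iv D12805)) (tt N6918 F50456))
theorem Q6920 : ∀ i, i < 6920 → P i := stepQ 6919 Q6919 (allL N6919 (tt N5928 F50458) (tt N7202 (iv F51704)) (tt N7842 (iv F54119)) (tt N6895 (iv F50462)) (tt N6035 F50459) (tt N6919 F50460) (tt N7803 (iv F53963)) (tt N5927 (iv D12806)) (tt N6919 F50461))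
theorem Q6921 : ∀ i, i < 6921 → P i := stepQ 6920 Q6920 (allL N6920 (tt N6038 F50463) (tt N6920 F50464) (tt N7843 D13730) (tt N5930 (iv D12807)) (tt N7844 D13731) (tt N6256 F50465) (tt N7375 (iv F52371)) (tt N7203 (iv F51716)) (tt N7845 D13732))
theorem Q6922 : ∀ i, i < 6922 → P i := stepQ 6921 Q6921 (allL N6921 (tt N6039 F50466) (tt N6921 F50467) (tt N5934 F50468) (tt N7845 (iv F54135)) (tt N6921 F50469) (tt N6257 F50470) (tt N7632 (iv F53367)) (tt N6743 F50471) (tt N5930 (iv D12808)))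
theorem Q6923 : ∀ i, i < 6923 → P i := stepQ 6922 Q6922 (allL N6922 (tt N6041 F50472) (tt N5955 F50473) (tt N7631 (iv F53360)) (tt N7846 D13733) (tt N6662 F50474) (tt N5932 F50475) (tt N6258 F50476) (tt N5931 (iv D12809)) (tt N7847 D13734))
theorem Q6924 : ∀ i, i < 6924 → P i := stepQ 6923 Q6923 (allL N6923 (tt N6042 F50477) (tt N5956 F50478) (tt N7848 D13735) (tt N5932 (iv D12810)) (tt N7849 D13736) (tt N7846 (iv F54140)) (tt N5933 F50479) (tt N5936 F50480) (tt N7850 D13737))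
theorem Q6925 : ∀ i, i < 6925 → P i := stepQ 6924 Q6924 (allL N6924 (tt N6043 F50481) (tt N5957 F50482) (tt N7632 (iv F53365)) (tt N7850 (iv F54160)) (tt N6924 F50483) (tt N7847 (iv F54146)) (tt N5934 F50484) (tt N6547 F50485) (tt N5932 (iv D12811)))
theorem Q6926 : ∀ i, i < 6926 → P i := stepQ 6925 Q6925 (allL N6925 (tt N6044 F50486) (tt N7851 D13738) (tt N5933 (iv D12812)) (tt N7843 (iv F54126)) (tt N7852 D13739) (tt N6261 F50487) (tt N7848 (iv F54150)) (tt N5938 F50488) (tt N7853 D13740))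
theorem Q6927 : ∀ i, i < 6927 → P i := stepQ 6926 Q6926 (allL N6926 (tt N6045 F50489) (tt N5959 F50490) (tt N7852 (iv F54166)) (tt N6926 F50491) (tt N5933 (iv D12813)) (tt N7854 D13741) (tt N7849 (iv F54156)) (tt N5939 F50492) (tt N7855 D13742))
theorem Q6928 : ∀ i, i < 6928 → P i := stepQ 6927 Q6927 (allL N6927 (tt N6046 F50493) (tt N5960 F50494) (tt N7853 (iv F54169)) (tt N5934 F50495) (tt N7855 (iv F54180)) (tt N6263 F50496) (tt N7850 (iv F54161)) (tt N7856 D13743) (tt N5933 (iv D12814)))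
theorem Q6929 : ∀ i, i < 6929 → P i := stepQ 6928 Q6928 (allL N6928 (tt N6047 F50497) (tt N5961 F50498) (tt N7857 D13744) (tt N5935 (iv D12815)) (tt N7858 D13745) (tt N5936 F50499) (tt N6264 F50500) (tt N7846 (iv F54142)) (tt N7859 D13746))
theorem Q6930 : ∀ i, i < 6930 → P i := stepQ 6929 Q6929 (allL N6929 (tt N6048 F50501) (tt N5962 F50502) (tt N7138 (iv F51394)) (tt N7859 (iv F54197)) (tt N6929 F50503) (tt N5937 F50504) (tt N6265 F50505) (tt N6120 F50506) (tt N5935 (iv D12816)))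
theorem Q6931 : ∀ i, i < 6931 → P i := stepQ 6930 Q6930 (allL N6930 (tt N6049 F50507) (tt N7860 D13747) (tt N5936 (iv D12817)) (tt N7207 (iv F51736)) (tt N7861 D13748) (tt N7857 (iv F54187)) (tt N5938 F50508) (tt N7848 (iv F54151)) (tt N7862 D13749))
theorem Q6932 : ∀ i, i < 6932 → P i := stepQ 6931 Q6931 (allL N6931 (tt N6050 F50509) (tt N5964 F50510) (tt N7861 (iv F54205)) (tt N5941 F50511) (tt N5936 (iv D12818)) (tt N6703 (iv F50513)) (tt N5939 F50512) (tt N7849 (iv F54157)) (tt N7863 D13750))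
theorem Q6933 : ∀ i, i < 6933 → P i := stepQ 6932 Q6932 (allL N6932 (tt N6051 F50514) (tt N5965 F50515) (tt N7862 (iv F54209)) (tt N5937 F50516) (tt N7863 (iv F54214)) (tt N7859 (iv F54198)) (tt N5940 F50517) (tt N7864 D13751) (tt N5936 (iv D12819)))
theorem Q6934 : ∀ i, i < 6934 → P i := stepQ 6933 Q6933 (allL N6933 (tt N7865 D13752) (tt N5938 (iv D12820)) (tt N5966 F50518) (tt N7209 (iv F51746)) (tt N7866 D13753) (tt N6269 F50519) (tt N7860 (iv F54201)) (tt N7851 (iv F54164)) (tt N7867 D13754))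
theorem Q6935 : ∀ i, i < 6935 → P i := stepQ 6934 Q6934 (allL N6934 (tt N6053 F50520) (tt N7866 (iv F54224)) (tt N5939 F50521) (tt N7868 D13755) (tt N5938 (iv D12821)) (tt N7869 D13756) (tt N7861 (iv F54206)) (tt N7852 (iv F54167)) (tt N7870 D13757))
theorem Q6936 : ∀ i, i < 6936 → P i := stepQ 6935 Q6935 (allL N6935 (tt N6054 F50522) (tt N7867 (iv F54227)) (tt N5940 F50523) (tt N7211 (iv F51754)) (tt N7870 (iv F54237)) (tt N6271 F50524) (tt N7862 (iv F54210)) (tt N7871 D13758) (tt N5938 (iv D12822)))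
theorem Q6937 : ∀ i, i < 6937 → P i := stepQ 6936 Q6936 (allL N6936 (tt N6055 F50525) (tt N5969 F50526) (tt N7869 (iv F54233)) (tt N5945 F50527) (tt N6272 F50528) (tt N5939 (iv D12823)) (tt N7872 D13759) (tt N7854 (iv F54176)) (tt N7873 D13760))
theorem Q6938 : ∀ i, i < 6938 → P i := stepQ 6937 Q6937 (allL N6937 (tt N6056 F50529) (tt N5970 F50530) (tt N7870 (iv F54236)) (tt N5946 F50531) (tt N5940 F50532) (tt N7873 (iv F54251)) (tt N7863 (iv F54216)) (tt N7874 D13761) (tt N5939 (iv D12824)))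
theorem Q6939 : ∀ i, i < 6939 → P i := stepQ 6938 Q6938 (allL N6938 (tt N6057 F50533) (tt N5971 F50534) (tt N7871 (iv F54239)) (tt N6752 F50535) (tt N7874 (iv F54254)) (tt N6274 F50536) (tt N7864 (iv F54220)) (tt N5940 (iv D12825)) (tt N7856 (iv F54185)))
theorem Q6940 : ∀ i, i < 6940 → P i := stepQ 6939 Q6939 (allL N6939 (tt N6061 F50537) (tt N5972 F50538) (tt N7629 (iv F53347)) (tt N7863 (iv F54213)) (tt N5942 F50539) (tt N6610 F50540) (tt N5946 F50541) (tt N7875 D13762) (tt N5941 (iv D12826)))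
theorem Q6941 : ∀ i, i < 6941 → P i := stepQ 6940 Q6940 (allL N6940 (tt N6062 F50542) (tt N5973 F50543) (tt N7630 (iv F53353)) (tt N6597 F50544) (tt N7875 (iv F54257)) (tt N6940 F50545) (tt N5947 F50546) (tt N5942 (iv D12827)) (tt N6940 F50547))
theorem Q6942 : ∀ i, i < 6942 → P i := stepQ 6941 Q6941 (allL N6941 (tt N6063 F50548) (tt N7513 (iv F52818)) (tt N7868 (iv F54231)) (tt N5943 (iv D12828)) (tt N7214 (iv F51767)) (tt N7876 D13763) (tt N7359 (iv F52325)) (tt N7877 D13764) (tt N7878 D13765))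
theorem Q6943 : ∀ i, i < 6943 → P i := stepQ 6942 Q6942 (allL N6942 (tt N6064 F50549) (tt N7670 (iv F53507)) (tt N5945 F50550) (tt N7876 (iv F54262)) (tt N5949 F50551) (tt N5943 (iv D12829)) (tt N7879 D13766) (tt N6942 F50552) (tt N7880 D13767))
theorem Q6944 : ∀ i, i < 6944 → P i := stepQ 6943 Q6943 (allL N6943 (tt N6065 F50553) (tt N7671 (iv F53512)) (tt N5946 F50554) (tt N7878 (iv F54269)) (tt N5944 F50555) (tt N7880 (iv F54279)) (tt N7629 (iv F53350)) (tt N7881 D13768) (tt N5943 (iv D12830)))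
theorem Q6945 : ∀ i, i < 6945 → P i := stepQ 6944 Q6944 (allL N6944 (tt N6066 F50556) (tt N7672 (iv F53517)) (tt N5947 F50557) (tt N7635 (iv F53381)) (tt N7881 (iv F54282)) (tt N5951 F50558) (tt N7630 (iv F53356)) (tt N5944 (iv D12831)) (tt N6944 F50559))
theorem Q6946 : ∀ i, i < 6946 → P i := stepQ 6945 Q6945 (allL N6945 (tt N6067 F50560) (tt N5974 F50561) (tt N7879 (iv F54272)) (tt N7872 (iv F54243)) (tt N5952 F50562) (tt N6741 F50563) (tt N5945 (iv D12832)) (tt N6945 F50564) (tt N7882 D13769))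
theorem Q6947 : ∀ i, i < 6947 → P i := stepQ 6946 Q6946 (allL N6946 (tt N6068 F50565) (tt N5975 F50566) (tt N7880 (iv F54277)) (tt N7873 (iv F54249)) (tt N5953 F50567) (tt N5946 F50568) (tt N7882 (iv F54288)) (tt N7883 D13770) (tt N5945 (iv D12833)))
theorem Q6948 : ∀ i, i < 6948 → P i := stepQ 6947 Q6947 (allL N6947 (tt N6069 F50569) (tt N5976 F50570) (tt N7881 (iv F54281)) (tt N7884 D13771) (tt N5947 F50571) (tt N7883 (iv F54293)) (tt N7875 (iv F54259)) (tt N5946 (iv D12834)) (tt N6947 F50572))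
theorem Q6949 : ∀ i, i < 6949 → P i := stepQ 6948 Q6948 (allL N6948 (tt N6070 F50573) (tt N7829 (iv F54045)) (tt N6286 F50574) (tt N5949 F50575) (tt N7885 D13772) (tt N5948 (iv D12835)) (tt N7886 D13773) (tt N7787 F53903) (tt N7788 (iv F53908)))
theorem Q6950 : ∀ i, i < 6950 → P i := stepQ 6949 Q6949 (allL N6949 (tt N6073 F50576) (tt N7838 (iv F54094)) (tt N5952 F50577) (tt N7886 (iv F54304)) (tt N7879 (iv F54273)) (tt N6949 F50578) (tt N5949 (iv D12836)) (tt N6949 F50579) (tt N7887 D13774))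
theorem Q6951 : ∀ i, i < 6951 → P i := stepQ 6950 Q6950 (allL N6950 (tt N6074 F50580) (tt N7830 (iv F54051)) (tt N5953 F50581) (tt N7788 F53909) (tt N7880 (iv F54278)) (tt N5950 F50582) (tt N7887 (iv F54309)) (tt N7790 (iv F53918)) (tt N5949 (iv D12837)))
theorem Q6952 : ∀ i, i < 6952 → P i := stepQ 6951 Q6951 (allL N6951 (tt N6077 F50583) (tt N5977 F50584) (tt N7887 (iv F54307)) (tt N6293 F50585) (tt N7882 (iv F54286)) (tt N6951 F50586) (tt N5953 F50587) (tt N7888 D13775) (tt N5952 (iv D12838)))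
theorem Q6953 : ∀ i, i < 6953 → P i := stepQ 6952 Q6952 (allL N6952 (tt N6078 F50588) (tt N5978 F50589) (tt N7790 F53920) (tt N7792 (iv F53926)) (tt N7883 (iv F54292)) (tt N5954 F50590) (tt N7888 (iv F54314)) (tt N5953 (iv D12839)) (tt N6952 F50591))
theorem Q6954 : ∀ i, i < 6954 → P i := stepQ 6953 Q6953 (allL N6953 (tt N5989 F50592) (tt N7846 (iv F54138)) (tt N6306 (iv F50597)) (tt N5955 (iv D12840)) (tt N6245 F50593) (tt N5956 F50594) (tt N6296 F50595) (tt N5961 F50596) (tt N7889 D13776))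
theorem Q6955 : ∀ i, i < 6955 → P i := stepQ 6954 Q6954 (allL N6954 (tt N5990 F50598) (tt N7847 (iv F54144)) (tt N6954 F50599) (tt N7889 (iv F54318)) (tt N6407 F50600) (tt N5957 F50601) (tt N6297 F50602) (tt N6190 F50603) (tt N5955 (iv D12841)))
theorem Q6956 : ∀ i, i < 6956 → P i := stepQ 6955 Q6955 (allL N6955 (tt N5991 F50604) (tt N7890 D13777) (tt N5956 (iv D12842)) (tt N6955 F50605) (tt N6311 (iv F50609)) (tt N6306 F50606) (tt N5958 F50607) (tt N5963 F50608) (tt N7891 D13778))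
theorem Q6957 : ∀ i, i < 6957 → P i := stepQ 6956 Q6956 (allL N6956 (tt N5992 F50610) (tt N7849 (iv F54153)) (tt N6311 F50611) (tt N6956 F50612) (tt N5956 (iv D12843)) (tt N6309 F50613) (tt N5959 F50614) (tt N5964 F50615) (tt N7892 D13779))
theorem Q6958 : ∀ i, i < 6958 → P i := stepQ 6957 Q6957 (allL N6957 (tt N5993 F50616) (tt N7850 (iv F54159)) (tt N7891 (iv F54329)) (tt N5957 F50617) (tt N7892 (iv F54337)) (tt N7889 (iv F54320)) (tt N5960 F50618) (tt N7893 D13780) (tt N5956 (iv D12844)))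
theorem Q6959 : ∀ i, i < 6959 → P i := stepQ 6958 Q6958 (allL N6958 (tt N7894 D13781) (tt N5958 (iv D12845)) (tt N7851 (iv F54162)) (tt N6958 F50619) (tt N7895 D13782) (tt N6300 F50620) (tt N7890 (iv F54326)) (tt N5966 F50621) (tt N7896 D13783))
theorem Q6960 : ∀ i, i < 6960 → P i := stepQ 6959 Q6959 (allL N6959 (tt N5995 F50622) (tt N7895 (iv F54351)) (tt N5959 F50623) (tt N6323 (iv F50626)) (tt N5958 (iv D12846)) (tt N6320 F50627) (tt N6311 F50624) (tt N5967 F50625) (tt N7897 D13784))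
theorem Q6961 : ∀ i, i < 6961 → P i := stepQ 6960 Q6960 (allL N6960 (tt N5996 F50628) (tt N7896 (iv F54356)) (tt N5960 F50629) (tt N6960 F50630) (tt N7897 (iv F54362)) (tt N6302 F50631) (tt N7891 (iv F54333)) (tt N7898 D13785) (tt N5958 (iv D12847)))
theorem Q6962 : ∀ i, i < 6962 → P i := stepQ 6961 Q6961 (allL N6961 (tt N5997 F50632) (tt N7854 (iv F54172)) (tt N6320 F50633) (tt N6961 F50634) (tt N6303 F50635) (tt N5959 (iv D12848)) (tt N6317 F50636) (tt N5969 F50637) (tt N7899 D13786))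
theorem Q6963 : ∀ i, i < 6963 → P i := stepQ 6962 Q6962 (allL N6962 (tt N5998 F50638) (tt N7855 (iv F54178)) (tt N7897 (iv F54360)) (tt N6962 F50639) (tt N5960 F50640) (tt N7899 (iv F54373)) (tt N7892 (iv F54339)) (tt N7900 D13787) (tt N5959 (iv D12849)))
theorem Q6964 : ∀ i, i < 6964 → P i := stepQ 6963 Q6963 (allL N6963 (tt N5999 F50641) (tt N7856 (iv F54182)) (tt N7898 (iv F54366)) (tt N6773 F50642) (tt N7900 (iv F54376)) (tt N6305 F50643) (tt N7893 (iv F54342)) (tt N5960 (iv D12850)) (tt N5971 F50644))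
theorem Q6965 : ∀ i, i < 6965 → P i := stepQ 6964 Q6964 (allL N6964 (tt N6000 F50645) (tt N7901 D13788) (tt N5961 (iv D12851)) (tt N5980 F50646) (tt N6296 (iv F50650)) (tt N5963 F50647) (tt N6245 F50648) (tt N6306 F50649) (tt N7902 D13789))
theorem Q6966 : ∀ i, i < 6966 → P i := stepQ 6965 Q6965 (allL N6965 (tt N6001 F50651) (tt N7858 (iv F54190)) (tt N6296 F50652) (tt N6965 F50653) (tt N5961 (iv D12852)) (tt N6298 F50654) (tt N6306 F50655) (tt N6245 F50656) (tt N7903 D13790))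
theorem Q6967 : ∀ i, i < 6967 → P i := stepQ 6966 Q6966 (allL N6966 (tt N6002 F50657) (tt N7859 (iv F54196)) (tt N7902 (iv F54385)) (tt N5962 F50658) (tt N7903 (iv F54393)) (tt N5965 F50659) (tt N6307 F50660) (tt N7904 D13791) (tt N5961 (iv D12853)))
theorem Q6968 : ∀ i, i < 6968 → P i := stepQ 6967 Q6967 (allL N6967 (tt N7905 D13792) (tt N5963 (iv D12854)) (tt N7860 (iv F54200)) (tt N5983 F50661) (tt N6693 F50662) (tt N7901 (iv F54381)) (tt N5966 F50663) (tt N7890 (iv F54327)) (tt N7906 D13793))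
theorem Q6969 : ∀ i, i < 6969 → P i := stepQ 6968 Q6968 (allL N6968 (tt N6004 F50664) (tt N7906 (iv F54406)) (tt N5965 F50665) (tt N5984 F50666) (tt N6505 F50667) (tt N7902 (iv F54388)) (tt N5968 F50668) (tt N7907 D13794) (tt N5963 (iv D12855)))
theorem Q6970 : ∀ i, i < 6970 → P i := stepQ 6969 Q6969 (allL N6969 (tt N6005 F50669) (tt N7863 (iv F54212)) (tt N6505 F50670) (tt N5972 F50671) (tt N5965 F50672) (tt N6506 F50673) (tt N5970 F50674) (tt N7908 D13795) (tt N5964 (iv D12856)))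
theorem Q6971 : ∀ i, i < 6971 → P i := stepQ 6970 Q6970 (allL N6970 (tt N6006 F50675) (tt N7864 (iv F54218)) (tt N7907 (iv F54411)) (tt N6520 F50676) (tt N7908 (iv F54416)) (tt N7904 (iv F54398)) (tt N5971 F50677) (tt N5965 (iv D12857)) (tt N7893 (iv F54343)))
theorem Q6972 : ∀ i, i < 6972 → P i := stepQ 6971 Q6971 (allL N6971 (tt N5966 (iv D12858)) (tt N6007 F50678) (tt N7865 (iv F54222)) (tt N5986 F50679) (tt N7909 D13796) (tt N6314 F50680) (tt N7905 (iv F54404)) (tt N7894 (iv F54348)) (tt N7910 D13797))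
theorem Q6973 : ∀ i, i < 6973 → P i := stepQ 6972 Q6972 (allL N6972 (tt N7909 (iv F54419)) (tt N5967 F50681) (tt N7866 (iv F54225)) (tt N6692 F50682) (tt N5966 (iv D12859)) (tt N7911 D13798) (tt N6693 F50683) (tt N7895 (iv F54354)) (tt N7912 D13799))
theorem Q6974 : ∀ i, i < 6974 → P i := stepQ 6973 Q6973 (allL N6973 (tt N7910 (iv F54425)) (tt N5968 F50684) (tt N7867 (iv F54228)) (tt N5987 F50685) (tt N7912 (iv F54437)) (tt N6316 F50686) (tt N7906 (iv F54409)) (tt N7913 D13800) (tt N5966 (iv D12860)))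
theorem Q6975 : ∀ i, i < 6975 → P i := stepQ 6974 Q6974 (allL N6974 (tt N6010 F50687) (tt N7911 (iv F54430)) (tt N5969 F50688) (tt N6650 F50689) (tt N6317 F50690) (tt N5967 (iv D12861)) (tt N6303 F50691) (tt N6320 F50692) (tt N7914 D13801))
theorem Q6976 : ∀ i, i < 6976 → P i := stepQ 6975 Q6975 (allL N6975 (tt N6011 F50693) (tt N7912 (iv F54435)) (tt N5970 F50694) (tt N6504 F50695) (tt N5968 F50696) (tt N7914 (iv F54445)) (tt N6505 F50697) (tt N7915 D13802) (tt N5967 (iv D12862)))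
theorem Q6977 : ∀ i, i < 6977 → P i := stepQ 6976 Q6976 (allL N6976 (tt N6012 F50698) (tt N7913 (iv F54439)) (tt N5971 F50699) (tt N7916 D13803) (tt N7915 (iv F54450)) (tt N6319 F50700) (tt N7907 (iv F54413)) (tt N5968 (iv D12863)) (tt N7898 (iv F54368)))
theorem Q6978 : ∀ i, i < 6978 → P i := stepQ 6977 Q6977 (allL N6977 (tt N6013 F50701) (tt N7872 (iv F54242)) (tt N6303 F50702) (tt N5974 F50703) (tt N6320 F50704) (tt N6301 F50705) (tt N5969 (iv D12864)) (tt N6317 F50706) (tt N7917 D13804))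
theorem Q6979 : ∀ i, i < 6979 → P i := stepQ 6978 Q6978 (allL N6978 (tt N6014 F50707) (tt N7873 (iv F54248)) (tt N7914 (iv F54442)) (tt N5975 F50708) (tt N6321 F50709) (tt N5970 F50710) (tt N7917 (iv F54461)) (tt N7918 D13805) (tt N5969 (iv D12865)))
theorem Q6980 : ∀ i, i < 6980 → P i := stepQ 6979 Q6979 (allL N6979 (tt N6015 F50711) (tt N7874 (iv F54253)) (tt N7915 (iv F54448)) (tt N7919 D13806) (tt N5971 F50712) (tt N7918 (iv F54464)) (tt N7908 (iv F54418)) (tt N5970 (iv D12866)) (tt N7900 (iv F54377)))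
theorem Q6981 : ∀ i, i < 6981 → P i := stepQ 6980 Q6980 (allL N6980 (tt N6016 F50713) (tt N7875 (iv F54256)) (tt N6605 F50714) (tt N7920 D13807) (tt N5973 F50715) (tt N6606 F50716) (tt N5976 F50717) (tt N5972 (iv D12867)) (tt N6980 F50718))
theorem Q6982 : ∀ i, i < 6982 → P i := stepQ 6981 Q6981 (allL N6981 (tt N6017 F50719) (tt N7882 (iv F54285)) (tt N6608 F50720) (tt N7917 (iv F54458)) (tt N5977 F50721) (tt N6609 F50722) (tt N5975 F50723) (tt N6889 (iv F50724)) (tt N5974 (iv D12868)))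
theorem Q6983 : ∀ i, i < 6983 → P i := stepQ 6982 Q6982 (allL N6982 (tt N6018 F50725) (tt N7883 (iv F54291)) (tt N6888 F50726) (tt N7921 D13808) (tt N5978 F50727) (tt N5976 F50728) (tt N6889 F50729) (tt N5975 (iv D12869)) (tt N6982 F50730))
theorem Q6984 : ∀ i, i < 6984 → P i := stepQ 6983 Q6983 (allL N6983 (tt N6019 F50731) (tt N7884 (iv F54297)) (tt N7922 D13809) (tt N5976 (iv D12870)) (tt N6782 F50732) (tt N7921 (iv F54476)) (tt N7920 (iv F54472)) (tt N7919 (iv F54467)) (tt N6983 F50733))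
theorem Q6985 : ∀ i, i < 6985 → P i := stepQ 6984 Q6984 (allL N6984 (tt N6020 F50734) (tt N7888 (iv F54311)) (tt N6890 F50735) (tt N7842 (iv F54120)) (tt N6889 F50736) (tt N6984 F50737) (tt N5978 F50738) (tt N5977 (iv D12871)) (tt N6984 F50739))
theorem Q6986 : ∀ i, i < 6986 → P i := stepQ 6985 Q6985 (allL N6985 (tt N6021 F50740) (tt N7792 F53930) (tt N7803 (iv F53959)) (tt N5978 (iv D12872)) (tt N7923 D13810) (tt N5979 F50741) (tt N7842 (iv F54123)) (tt N6329 F50742) (tt N6985 F50743))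
theorem Q6987 : ∀ i, i < 6987 → P i := stepQ 6986 Q6986 (allL N6986 (tt N6236 F50744) (tt N5980 (iv D12873)) (tt N6990 (iv F50771)) (tt N7901 (iv F54379)) (tt N6663 F50745) (tt N5983 F50746) (tt N6239 F50747) (tt N6986 F50748) (tt N7924 D13811))
theorem Q6988 : ∀ i, i < 6988 → P i := stepQ 6987 Q6987 (allL N6987 (tt N6023 F50749) (tt N7924 (iv F54492)) (tt N5982 F50750) (tt N7902 (iv F54386)) (tt N6408 F50751) (tt N5984 F50752) (tt N6250 F50753) (tt N6846 (iv F50754)) (tt N5980 (iv D12874)))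
theorem Q6989 : ∀ i, i < 6989 → P i := stepQ 6988 Q6988 (allL N6988 (tt N6024 F50755) (tt N6917 F50756) (tt N6408 F50757) (tt N6988 F50758) (tt N5982 F50759) (tt N6409 F50760) (tt N6207 F50761) (tt N6845 (iv F50762)) (tt N5981 (iv D12875)))
theorem Q6990 : ∀ i, i < 6990 → P i := stepQ 6989 Q6989 (allL N6989 (tt N6025 F50763) (tt N7032 (iv F50975)) (tt N6846 F50764) (tt N6035 F50765) (tt N6845 F50766) (tt N5985 F50767) (tt N6253 F50768) (tt N5982 (iv D12876)) (tt N6989 F50769))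
theorem Q6991 : ∀ i, i < 6991 → P i := stepQ 6990 Q6990 (allL N6990 (tt N5983 (iv D12877)) (tt N6026 F50770) (tt N6986 F50771) (tt N7905 (iv F54401)) (tt N6649 F50772) (tt N6236 F50773) (tt N5986 F50774) (tt N6990 F50775) (tt N7925 D13812))
theorem Q6992 : ∀ i, i < 6992 → P i := stepQ 6991 Q6991 (allL N6991 (tt N7925 (iv F54497)) (tt N5984 F50776) (tt N7227 (iv F51822)) (tt N7906 (iv F54407)) (tt N6475 F50777) (tt N7924 (iv F54494)) (tt N5987 F50778) (tt N7926 D13813) (tt N5983 (iv D12878)))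
theorem Q6993 : ∀ i, i < 6993 → P i := stepQ 6992 Q6992 (allL N6992 (tt N6028 F50779) (tt N7926 (iv F54503)) (tt N5985 F50780) (tt N7927 D13814) (tt N6116 F50781) (tt N6846 F50782) (tt N5988 F50783) (tt N5984 (iv D12879)) (tt N6992 F50784))
theorem Q6994 : ∀ i, i < 6994 → P i := stepQ 6993 Q6993 (allL N6993 (tt N5987 F50785) (tt N6029 F50786) (tt N7229 (iv F51831)) (tt N7910 (iv F54427)) (tt N7840 (iv F54109)) (tt N6333 F50787) (tt N7925 (iv F54502)) (tt N7928 D13815) (tt N5986 (iv D12880)))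
theorem Q6995 : ∀ i, i < 6995 → P i := stepQ 6994 Q6994 (allL N6994 (tt N7928 (iv F54514)) (tt N5988 F50788) (tt N7230 (iv F51834)) (tt N7929 D13816) (tt N7841 (iv F54114)) (tt N6334 F50789) (tt N7926 (iv F54506)) (tt N5987 (iv D12881)) (tt N6994 F50790))
theorem Q6996 : ∀ i, i < 6996 → P i := stepQ 6995 Q6995 (allL N6995 (tt N6031 F50791) (tt N7929 (iv F54518)) (tt N6787 F50792) (tt N5988 (iv D12882)) (tt N7930 D13817) (tt N6335 F50793) (tt N7927 (iv F54512)) (tt N7916 (iv F54455)) (tt N6995 F50794))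
theorem Q6997 : ∀ i, i < 6997 → P i := stepQ 6996 Q6996 (allL N6996 (tt N7889 (iv F54316)) (tt N6122 F50795) (tt N6345 F50796) (tt N5990 F50797) (tt N6246 F50798) (tt N5993 F50799) (tt N6336 F50800) (tt N7931 D13818) (tt N5989 (iv D12883)))
theorem Q6998 : ∀ i, i < 6998 → P i := stepQ 6997 Q6997 (allL N6997 (tt N7891 (iv F54328)) (tt N6411 F50801) (tt N5993 F50802) (tt N6997 F50803) (tt N6349 F50804) (tt N6345 F50805) (tt N5996 F50806) (tt N7932 D13819) (tt N5991 (iv D12884)))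
theorem Q6999 : ∀ i, i < 6999 → P i := stepQ 6998 Q6998 (allL N6998 (tt N7892 (iv F54334)) (tt N6124 F50807) (tt N6349 F50808) (tt N6998 F50809) (tt N5993 F50810) (tt N6347 F50811) (tt N5998 F50812) (tt N7933 D13820) (tt N5992 (iv D12885)))
theorem Q7000 : ∀ i, i < 7000 → P i := stepQ 6999 Q6999 (allL N6999 (tt N7893 (iv F54340)) (tt N6125 F50813) (tt N7932 (iv F54535)) (tt N6511 F50814) (tt N7933 (iv F54542)) (tt N7931 (iv F54531)) (tt N5999 F50815) (tt N5993 (iv D12886)) (tt N6006 F50816))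
theorem Q7001 : ∀ i, i < 7001 → P i := stepQ 7000 Q7000 (allL N7000 (tt N5994 (iv D12887)) (tt N7894 (iv F54344)) (tt N6126 F50817) (tt N7000 F50818) (tt N6488 F50819) (tt N6339 F50820) (tt N6402 F50821) (tt N6007 F50822) (tt N7934 D13821))
theorem Q7002 : ∀ i, i < 7002 → P i := stepQ 7001 Q7001 (allL N7001 (tt N7934 (iv F54546)) (tt N5996 F50823) (tt N6127 F50824) (tt N7001 F50825) (tt N6516 F50826) (tt N6340 F50827) (tt N6411 F50828) (tt N7935 D13822) (tt N5994 (iv D12888)))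
theorem Q7003 : ∀ i, i < 7003 → P i := stepQ 7002 Q7002 (allL N7002 (tt N7897 (iv F54359)) (tt N6516 F50829) (tt N5998 F50830) (tt N6361 F50831) (tt N5996 F50832) (tt N6358 F50833) (tt N6349 F50834) (tt N7936 D13823) (tt N5995 (iv D12889)))
theorem Q7004 : ∀ i, i < 7004 → P i := stepQ 7003 Q7003 (allL N7003 (tt N7898 (iv F54365)) (tt N7935 (iv F54552)) (tt N5999 F50835) (tt N7937 D13824) (tt N7936 (iv F54561)) (tt N6342 F50836) (tt N7932 (iv F54538)) (tt N5996 (iv D12890)) (tt N6012 F50837))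
theorem Q7005 : ∀ i, i < 7005 → P i := stepQ 7004 Q7004 (allL N7004 (tt N7899 (iv F54369)) (tt N6132 F50838) (tt N6358 F50839) (tt N7004 F50840) (tt N6343 F50841) (tt N5998 F50842) (tt N6355 F50843) (tt N7938 D13825) (tt N5997 (iv D12891)))
theorem Q7006 : ∀ i, i < 7006 → P i := stepQ 7005 Q7005 (allL N7005 (tt N7900 (iv F54375)) (tt N6133 F50844) (tt N7936 (iv F54559)) (tt N7939 D13826) (tt N5999 F50845) (tt N7938 (iv F54572)) (tt N7933 (iv F54544)) (tt N5998 (iv D12892)) (tt N6015 F50846))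
theorem Q7007 : ∀ i, i < 7007 → P i := stepQ 7006 Q7006 (allL N7006 (tt N7902 (iv F54384)) (tt N6243 F50847) (tt N6002 F50848) (tt N6023 F50849) (tt N6336 F50850) (tt N6004 F50851) (tt N6246 F50852) (tt N7940 D13827) (tt N6000 (iv D12893)))
theorem Q7008 : ∀ i, i < 7008 → P i := stepQ 7007 Q7007 (allL N7007 (tt N7903 (iv F54390)) (tt N6134 F50853) (tt N6336 F50854) (tt N7007 F50855) (tt N6002 F50856) (tt N6337 F50857) (tt N6345 F50858) (tt N7941 D13828) (tt N6001 (iv D12894)))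
theorem Q7009 : ∀ i, i < 7009 → P i := stepQ 7008 Q7008 (allL N7008 (tt N7904 (iv F54396)) (tt N6135 F50859) (tt N7940 (iv F54580)) (tt N6147 F50860) (tt N7941 (iv F54588)) (tt N6006 F50861) (tt N6346 F50862) (tt N6002 (iv D12895)) (tt N7931 (iv F54533)))
theorem Q7010 : ∀ i, i < 7010 → P i := stepQ 7009 Q7009 (allL N7009 (tt N6003 (iv D12896)) (tt N7905 (iv F54400)) (tt N6136 F50863) (tt N6026 F50864) (tt N6477 F50865) (tt N6228 F50866) (tt N6007 F50867) (tt N6402 F50868) (tt N7942 D13829))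
theorem Q7011 : ∀ i, i < 7011 → P i := stepQ 7010 Q7010 (allL N7010 (tt N7942 (iv F54592)) (tt N6004 F50869) (tt N6137 F50870) (tt N6027 F50871) (tt N6363 F50872) (tt N6243 F50873) (tt N6009 F50874) (tt N7943 D13830) (tt N6003 (iv D12897)))
theorem Q7012 : ∀ i, i < 7012 → P i := stepQ 7011 Q7011 (allL N7011 (tt N7907 (iv F54410)) (tt N7943 (iv F54598)) (tt N6006 F50875) (tt N7944 D13831) (tt N6527 F50876) (tt N7940 (iv F54583)) (tt N6012 F50877) (tt N6004 (iv D12898)) (tt N7932 (iv F54539)))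
theorem Q7013 : ∀ i, i < 7013 → P i := stepQ 7012 Q7012 (allL N7012 (tt N7908 (iv F54414)) (tt N6142 F50878) (tt N6527 F50879) (tt N7945 D13832) (tt N6006 F50880) (tt N6528 F50881) (tt N6015 F50882) (tt N6005 (iv D12899)) (tt N7933 (iv F54545)))
theorem Q7014 : ∀ i, i < 7014 → P i := stepQ 7013 Q7013 (allL N7013 (tt N6008 F50883) (tt N7909 (iv F54420)) (tt N6143 F50884) (tt N6651 F50885) (tt N6007 (iv D12900)) (tt N6485 (iv F50888)) (tt N6477 F50886) (tt N6488 F50887) (tt N7946 D13833))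
theorem Q7015 : ∀ i, i < 7015 → P i := stepQ 7014 Q7014 (allL N7014 (tt N6009 F50889) (tt N7910 (iv F54426)) (tt N6144 F50890) (tt N6029 F50891) (tt N7946 (iv F54618)) (tt N6352 F50892) (tt N7942 (iv F54597)) (tt N7947 D13834) (tt N6007 (iv D12901)))
theorem Q7016 : ∀ i, i < 7016 → P i := stepQ 7015 Q7015 (allL N7015 (tt N7946 (iv F54615)) (tt N6011 F50893) (tt N6146 F50894) (tt N6362 F50895) (tt N6009 F50896) (tt N6514 F50897) (tt N6363 F50898) (tt N7948 D13835) (tt N6008 (iv D12902)))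
theorem Q7017 : ∀ i, i < 7017 → P i := stepQ 7016 Q7016 (allL N7016 (tt N7947 (iv F54621)) (tt N6012 F50899) (tt N6147 F50900) (tt N7949 D13836) (tt N7948 (iv F54627)) (tt N6354 F50901) (tt N7943 (iv F54602)) (tt N6009 (iv D12903)) (tt N7935 (iv F54557)))
theorem Q7018 : ∀ i, i < 7018 → P i := stepQ 7017 Q7017 (allL N7017 (tt N7914 (iv F54441)) (tt N6514 F50902) (tt N6014 F50903) (tt N6529 F50904) (tt N6355 F50905) (tt N6011 F50906) (tt N6343 F50907) (tt N7950 D13837) (tt N6010 (iv D12904)))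
theorem Q7019 : ∀ i, i < 7019 → P i := stepQ 7018 Q7018 (allL N7018 (tt N7915 (iv F54447)) (tt N7948 (iv F54624)) (tt N6015 F50908) (tt N6526 F50909) (tt N6012 F50910) (tt N7950 (iv F54640)) (tt N6527 F50911) (tt N6011 (iv D12905)) (tt N7936 (iv F54564)))
theorem Q7020 : ∀ i, i < 7020 → P i := stepQ 7019 Q7019 (allL N7019 (tt N7916 (iv F54452)) (tt N7949 (iv F54631)) (tt N6791 F50912) (tt N6012 (iv D12906)) (tt N7951 D13838) (tt N6357 F50913) (tt N7944 (iv F54607)) (tt N6031 F50914) (tt N7937 (iv F54568)))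
theorem Q7021 : ∀ i, i < 7021 → P i := stepQ 7020 Q7020 (allL N7020 (tt N7917 (iv F54456)) (tt N6151 F50915) (tt N6343 F50916) (tt N6017 F50917) (tt N6358 F50918) (tt N6341 F50919) (tt N6014 F50920) (tt N7952 D13839) (tt N6013 (iv D12907)))
theorem Q7022 : ∀ i, i < 7022 → P i := stepQ 7021 Q7021 (allL N7021 (tt N7918 (iv F54462)) (tt N6152 F50921) (tt N7950 (iv F54637)) (tt N7953 D13840) (tt N6359 F50922) (tt N6015 F50923) (tt N7952 (iv F54654)) (tt N6014 (iv D12908)) (tt N7938 (iv F54574)))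
theorem Q7023 : ∀ i, i < 7023 → P i := stepQ 7022 Q7022 (allL N7022 (tt N7919 (iv F54465)) (tt N6153 F50924) (tt N7954 D13841) (tt N6015 (iv D12909)) (tt N6793 F50925) (tt N7953 (iv F54658)) (tt N7945 (iv F54613)) (tt N6019 F50926) (tt N7939 (iv F54578)))
theorem Q7024 : ∀ i, i < 7024 → P i := stepQ 7023 Q7023 (allL N7023 (tt N7920 (iv F54468)) (tt N6156 F50927) (tt N6618 F50928) (tt N6016 (iv D12910)) (tt N6616 F50929) (tt N6619 F50930) (tt N6019 F50931) (tt N7945 (iv F54614)) (tt N7023 F50932))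
theorem Q7025 : ∀ i, i < 7025 → P i := stepQ 7024 Q7024 (allL N7024 (tt N7921 (iv F54474)) (tt N6158 F50933) (tt N6853 F50934) (tt N6018 (iv D12911)) (tt N7955 D13842) (tt N6019 F50935) (tt N6854 F50936) (tt N7953 (iv F54660)) (tt N7024 F50937))
theorem Q7026 : ∀ i, i < 7026 → P i := stepQ 7025 Q7025 (allL N7025 (tt N7922 (iv F54479)) (tt N7956 D13843) (tt N6019 (iv D12912)) (tt N6617 F50938) (tt N6796 F50939) (tt N6853 F50940) (tt N6618 F50941) (tt N7954 (iv F54665)) (tt N7025 F50942))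
theorem Q7027 : ∀ i, i < 7027 → P i := stepQ 7026 Q7026 (allL N7026 (tt N7923 (iv F54485)) (tt N6028 F50943) (tt N6034 F50944) (tt N7955 (iv F54668)) (tt N6021 (iv D12913)) (tt N6249 F50945) (tt N6030 F50946) (tt N6027 F50947) (tt N7026 F50948))
theorem Q7028 : ∀ i, i < 7028 → P i := stepQ 7027 Q7027 (allL N7027 (tt N6027 F50949) (tt N7925 (iv F54498)) (tt N6033 F50950) (tt N7942 (iv F54594)) (tt N6329 F50951) (tt N6237 F50952) (tt N6029 F50953) (tt N7923 (iv F54489)) (tt N6026 (iv D12914)))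
theorem Q7029 : ∀ i, i < 7029 → P i := stepQ 7028 Q7028 (allL N7028 (tt N7927 (iv F54508)) (tt N7955 (iv F54666)) (tt N6366 F50954) (tt N6028 (iv D12915)) (tt N6158 F50955) (tt N6855 F50956) (tt N6031 F50957) (tt N7944 (iv F54608)) (tt N7028 F50958))
theorem Q7030 : ∀ i, i < 7030 → P i := stepQ 7029 Q7029 (allL N7029 (tt N6030 F50959) (tt N7928 (iv F54515)) (tt N6035 F50960) (tt N7957 D13844) (tt N7842 (iv F54121)) (tt N6365 F50961) (tt N7923 (iv F54488)) (tt N6029 (iv D12916)) (tt N7029 F50962))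
theorem Q7031 : ∀ i, i < 7031 → P i := stepQ 7030 Q7030 (allL N7030 (tt N7957 (iv F54678)) (tt N6031 F50963) (tt N6855 F50964) (tt N6030 (iv D12917)) (tt N6854 F50965) (tt N6366 F50966) (tt N7955 (iv F54670)) (tt N7949 (iv F54634)) (tt N7030 F50967))
theorem Q7032 : ∀ i, i < 7032 → P i := stepQ 7031 Q7031 (allL N7031 (tt N7930 (iv F54521)) (tt N6854 F50968) (tt N6797 F50969) (tt N6157 F50970) (tt N6031 (iv D12918)) (tt N6856 (iv F50973)) (tt N6158 F50971) (tt N7951 (iv F54647)) (tt N7031 F50972))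
theorem Q7033 : ∀ i, i < 7033 → P i := stepQ 7032 Q7032 (allL N7032 (tt N6034 F50974) (tt N6989 F50975) (tt N7923 (iv F54486)) (tt N6253 F50976) (tt N7803 (iv F53961)) (tt N6238 F50977) (tt N6035 F50978) (tt N6033 (iv D12919)) (tt N7032 F50979))
theorem Q7034 : ∀ i, i < 7034 → P i := stepQ 7033 Q7033 (allL N7033 (tt N6660 F50980) (tt N6161 F50981) (tt N6040 F50982) (tt N7600 (iv F53197)) (tt N6036 (iv D12920)) (tt N7033 F50983) (tt N6414 F50984) (tt N7669 (iv F53504)) (tt N6180 F50985))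
theorem Q7035 : ∀ i, i < 7035 → P i := stepQ 7034 Q7034 (allL N7034 (tt N7631 (iv F53358)) (tt N6162 F50986) (tt N6041 F50987) (tt N7958 D13845) (tt N7669 F53505) (tt N6037 F50988) (tt N6415 F50989) (tt N6036 (iv D12921)) (tt N7959 D13846))
theorem Q7036 : ∀ i, i < 7036 → P i := stepQ 7035 Q7035 (allL N7035 (tt N7375 (iv F52367)) (tt N6163 F50990) (tt N7960 D13847) (tt N6037 (iv D12922)) (tt N7877 (iv F54266)) (tt N7958 (iv F54684)) (tt N6038 F50991) (tt N7214 (iv F51769)) (tt N7961 D13848))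
theorem Q7037 : ∀ i, i < 7037 → P i := stepQ 7036 Q7036 (allL N7036 (tt N7632 (iv F53363)) (tt N6164 F50992) (tt N6043 F50993) (tt N7961 (iv F54694)) (tt N7036 F50994) (tt N7959 (iv F54688)) (tt N6039 F50995) (tt N6546 F50996) (tt N6037 (iv D12923)))
theorem Q7038 : ∀ i, i < 7038 → P i := stepQ 7037 Q7037 (allL N7037 (tt N7843 (iv F54125)) (tt N7962 D13849) (tt N6038 (iv D12924)) (tt N6044 F50997) (tt N7963 D13850) (tt N6418 F50998) (tt N7960 (iv F54692)) (tt N7358 (iv F52321)) (tt N7964 D13851))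
theorem Q7039 : ∀ i, i < 7039 → P i := stepQ 7038 Q7038 (allL N7038 (tt N7844 (iv F54128)) (tt N6166 F50999) (tt N7963 (iv F54699)) (tt N7038 F51000) (tt N6038 (iv D12925)) (tt N7965 D13852) (tt N7877 (iv F54267)) (tt N7359 (iv F52326)) (tt N7966 D13853))
theorem Q7040 : ∀ i, i < 7040 → P i := stepQ 7039 Q7039 (allL N7039 (tt N7845 (iv F54133)) (tt N6167 F51001) (tt N7964 (iv F54700)) (tt N6039 F51002) (tt N7966 (iv F54709)) (tt N6420 F51003) (tt N7961 (iv F54695)) (tt N7967 D13854) (tt N6038 (iv D12926)))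
theorem Q7041 : ∀ i, i < 7041 → P i := stepQ 7040 Q7040 (allL N7040 (tt N6662 F51004) (tt N6080 F51005) (tt N7669 (iv F53501)) (tt N6197 (iv F51009)) (tt N6041 F51006) (tt N7040 F51007) (tt N6421 F51008) (tt N6040 (iv D12927)) (tt N7968 D13855))
theorem Q7042 : ∀ i, i < 7042 → P i := stepQ 7041 Q7041 (allL N7041 (tt N7846 (iv F54137)) (tt N6081 F51010) (tt N7969 D13856) (tt N6041 (iv D12928)) (tt N6230 F51011) (tt N6042 F51012) (tt N6396 F51013) (tt N6047 F51014) (tt N7970 D13857))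
theorem Q7043 : ∀ i, i < 7043 → P i := stepQ 7042 Q7042 (allL N7042 (tt N7847 (iv F54143)) (tt N6082 F51015) (tt N7959 (iv F54687)) (tt N7970 (iv F54726)) (tt N7968 (iv F54716)) (tt N6043 F51016) (tt N6422 F51017) (tt N6188 F51018) (tt N6041 (iv D12929)))
theorem Q7044 : ∀ i, i < 7044 → P i := stepQ 7043 Q7043 (allL N7043 (tt N7848 (iv F54149)) (tt N7971 D13858) (tt N6042 (iv D12930)) (tt N7960 (iv F54691)) (tt N7972 D13859) (tt N7969 (iv F54722)) (tt N6044 F51019) (tt N6049 F51020) (tt N7973 D13860))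
theorem Q7045 : ∀ i, i < 7045 → P i := stepQ 7044 Q7044 (allL N7044 (tt N7849 (iv F54152)) (tt N6084 F51021) (tt N7972 (iv F54737)) (tt N7044 F51022) (tt N6042 (iv D12931)) (tt N6774 F51023) (tt N6045 F51024) (tt N6050 F51025) (tt N7974 D13861))
theorem Q7046 : ∀ i, i < 7046 → P i := stepQ 7045 Q7045 (allL N7045 (tt N7850 (iv F54158)) (tt N6085 F51026) (tt N7973 (iv F54741)) (tt N6043 F51027) (tt N7974 (iv F54745)) (tt N7970 (iv F54728)) (tt N6046 F51028) (tt N7975 D13862) (tt N6042 (iv D12932)))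
theorem Q7047 : ∀ i, i < 7047 → P i := stepQ 7046 Q7046 (allL N7046 (tt N7976 D13863) (tt N6044 (iv D12933)) (tt N6086 F51029) (tt N7962 (iv F54697)) (tt N7977 D13864) (tt N6426 F51030) (tt N7971 (iv F54732)) (tt N6052 F51031) (tt N7978 D13865))
theorem Q7048 : ∀ i, i < 7048 → P i := stepQ 7047 Q7047 (allL N7047 (tt N7852 (iv F54165)) (tt N7977 (iv F54758)) (tt N6045 F51032) (tt N7979 D13866) (tt N6044 (iv D12934)) (tt N7980 D13867) (tt N7972 (iv F54739)) (tt N6053 F51033) (tt N7981 D13868))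
theorem Q7049 : ∀ i, i < 7049 → P i := stepQ 7048 Q7048 (allL N7048 (tt N7853 (iv F54168)) (tt N7978 (iv F54762)) (tt N6046 F51034) (tt N7964 (iv F54701)) (tt N7981 (iv F54770)) (tt N6428 F51035) (tt N7973 (iv F54742)) (tt N7982 D13869) (tt N6044 (iv D12935)))
theorem Q7050 : ∀ i, i < 7050 → P i := stepQ 7049 Q7049 (allL N7049 (tt N7854 (iv F54171)) (tt N6089 F51036) (tt N7980 (iv F54766)) (tt N7049 F51037) (tt N6429 F51038) (tt N6045 (iv D12936)) (tt N7983 D13870) (tt N6055 F51039) (tt N7984 D13871))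
theorem Q7051 : ∀ i, i < 7051 → P i := stepQ 7050 Q7050 (allL N7050 (tt N7855 (iv F54177)) (tt N6090 F51040) (tt N7981 (iv F54769)) (tt N7050 F51041) (tt N6046 F51042) (tt N7984 (iv F54783)) (tt N7974 (iv F54747)) (tt N7985 D13872) (tt N6045 (iv D12937)))
theorem Q7052 : ∀ i, i < 7052 → P i := stepQ 7051 Q7051 (allL N7051 (tt N7856 (iv F54181)) (tt N6091 F51043) (tt N7982 (iv F54771)) (tt N6805 F51044) (tt N7985 (iv F54785)) (tt N6431 F51045) (tt N7975 (iv F54750)) (tt N6046 (iv D12938)) (tt N6057 F51046))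
theorem Q7053 : ∀ i, i < 7053 → P i := stepQ 7052 Q7052 (allL N7052 (tt N7857 (iv F54186)) (tt N6372 F51047) (tt N6047 (iv D12939)) (tt N7055 (iv F51060)) (tt N7986 D13873) (tt N6049 F51048) (tt N6374 F51049) (tt N7969 (iv F54724)) (tt N7987 D13874))
theorem Q7054 : ∀ i, i < 7054 → P i := stepQ 7053 Q7053 (allL N7053 (tt N7858 (iv F54189)) (tt N6092 F51050) (tt N7986 (iv F54788)) (tt N7053 F51051) (tt N6047 (iv D12940)) (tt N6770 (iv F51054)) (tt N6400 F51052) (tt N6230 F51053) (tt N7988 D13875))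
theorem Q7055 : ∀ i, i < 7055 → P i := stepQ 7054 Q7054 (allL N7054 (tt N7859 (iv F54195)) (tt N6093 F51055) (tt N7987 (iv F54793)) (tt N6048 F51056) (tt N7988 (iv F54798)) (tt N6051 F51057) (tt N6401 F51058) (tt N7989 D13876) (tt N6047 (iv D12941)))
theorem Q7056 : ∀ i, i < 7056 → P i := stepQ 7055 Q7055 (allL N7055 (tt N7990 D13877) (tt N6049 (iv D12942)) (tt N6094 F51059) (tt N7052 F51060) (tt N7991 D13878) (tt N6372 F51061) (tt N6052 F51062) (tt N7971 (iv F54733)) (tt N7992 D13879))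
theorem Q7057 : ∀ i, i < 7057 → P i := stepQ 7056 Q7056 (allL N7056 (tt N7861 (iv F54203)) (tt N7991 (iv F54812)) (tt N6050 F51063) (tt N7993 D13880) (tt N6049 (iv D12943)) (tt N7994 D13881) (tt N6053 F51064) (tt N7972 (iv F54740)) (tt N7995 D13882))
theorem Q7058 : ∀ i, i < 7058 → P i := stepQ 7057 Q7057 (allL N7057 (tt N7862 (iv F54208)) (tt N7992 (iv F54817)) (tt N6051 F51065) (tt N7364 (iv F52340)) (tt N7995 (iv F54830)) (tt N7987 (iv F54794)) (tt N6054 F51066) (tt N7996 D13883) (tt N6049 (iv D12944)))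
theorem Q7059 : ∀ i, i < 7059 → P i := stepQ 7058 Q7058 (allL N7058 (tt N6703 F51067) (tt N6097 F51068) (tt N7994 (iv F54826)) (tt N6060 F51069) (tt N6770 F51070) (tt N6050 (iv D12945)) (tt N7997 D13884) (tt N6774 F51071) (tt N7998 D13885))
theorem Q7060 : ∀ i, i < 7060 → P i := stepQ 7059 Q7059 (allL N7059 (tt N7863 (iv F54211)) (tt N6098 F51072) (tt N7995 (iv F54829)) (tt N6061 F51073) (tt N6051 F51074) (tt N7998 (iv F54844)) (tt N6056 F51075) (tt N7999 D13886) (tt N6050 (iv D12946)))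
theorem Q7061 : ∀ i, i < 7061 → P i := stepQ 7060 Q7060 (allL N7060 (tt N7864 (iv F54217)) (tt N6099 F51076) (tt N7996 (iv F54832)) (tt N6495 F51077) (tt N7999 (iv F54846)) (tt N7989 (iv F54803)) (tt N6057 F51078) (tt N6051 (iv D12947)) (tt N7975 (iv F54751)))
theorem Q7062 : ∀ i, i < 7062 → P i := stepQ 7061 Q7061 (allL N7061 (tt N6052 (iv D12948)) (tt N7865 (iv F54221)) (tt N6100 F51079) (tt N7256 (iv F51937)) (tt N8000 D13887) (tt N6437 F51080) (tt N7990 (iv F54808)) (tt N7976 (iv F54755)) (tt N8001 D13888))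
theorem Q7063 : ∀ i, i < 7063 → P i := stepQ 7062 Q7062 (allL N7062 (tt N8000 (iv F54848)) (tt N6053 F51081) (tt N6101 F51082) (tt N8002 D13889) (tt N6052 (iv D12949)) (tt N8003 D13890) (tt N7991 (iv F54815)) (tt N7977 (iv F54761)) (tt N8004 D13891))
theorem Q7064 : ∀ i, i < 7064 → P i := stepQ 7063 Q7063 (allL N7063 (tt N8001 (iv F54852)) (tt N6054 F51083) (tt N6102 F51084) (tt N7367 (iv F52349)) (tt N8004 (iv F54862)) (tt N6439 F51085) (tt N7992 (iv F54821)) (tt N8005 D13892) (tt N6052 (iv D12950)))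
theorem Q7065 : ∀ i, i < 7065 → P i := stepQ 7064 Q7064 (allL N7064 (tt N7868 (iv F54230)) (tt N8002 (iv F54855)) (tt N6063 F51086) (tt N6053 (iv D12951)) (tt N7368 (iv F52352)) (tt N8006 D13893) (tt N7993 (iv F54823)) (tt N8007 D13894) (tt N8008 D13895))
theorem Q7066 : ∀ i, i < 7066 → P i := stepQ 7065 Q7065 (allL N7065 (tt N7869 (iv F54232)) (tt N8003 (iv F54857)) (tt N6055 F51087) (tt N8006 (iv F54867)) (tt N6441 F51088) (tt N6053 (iv D12952)) (tt N8009 D13896) (tt N7980 (iv F54768)) (tt N8010 D13897))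
theorem Q7067 : ∀ i, i < 7067 → P i := stepQ 7066 Q7066 (allL N7066 (tt N7870 (iv F54235)) (tt N8004 (iv F54860)) (tt N6056 F51089) (tt N8008 (iv F54870)) (tt N6054 F51090) (tt N8010 (iv F54875)) (tt N7995 (iv F54831)) (tt N8011 D13898) (tt N6053 (iv D12953)))
theorem Q7068 : ∀ i, i < 7068 → P i := stepQ 7067 Q7067 (allL N7067 (tt N7871 (iv F54238)) (tt N8005 (iv F54863)) (tt N6057 F51091) (tt N8012 D13899) (tt N8011 (iv F54877)) (tt N6443 F51092) (tt N7996 (iv F54833)) (tt N6054 (iv D12954)) (tt N7982 (iv F54773)))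
theorem Q7069 : ∀ i, i < 7069 → P i := stepQ 7068 Q7068 (allL N7068 (tt N7872 (iv F54241)) (tt N6106 F51093) (tt N8009 (iv F54871)) (tt N6067 F51094) (tt N6444 F51095) (tt N7997 (iv F54838)) (tt N6055 (iv D12955)) (tt N7983 (iv F54779)) (tt N8013 D13900))
theorem Q7070 : ∀ i, i < 7070 → P i := stepQ 7069 Q7069 (allL N7069 (tt N7873 (iv F54247)) (tt N6107 F51096) (tt N8010 (iv F54873)) (tt N6068 F51097) (tt N6445 F51098) (tt N6056 F51099) (tt N8013 (iv F54883)) (tt N8014 D13901) (tt N6055 (iv D12956)))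
theorem Q7071 : ∀ i, i < 7071 → P i := stepQ 7070 Q7070 (allL N7070 (tt N7874 (iv F54252)) (tt N6108 F51100) (tt N8011 (iv F54876)) (tt N8015 D13902) (tt N6057 F51101) (tt N8014 (iv F54886)) (tt N7999 (iv F54847)) (tt N6056 (iv D12957)) (tt N7985 (iv F54786)))
theorem Q7072 : ∀ i, i < 7072 → P i := stepQ 7071 Q7071 (allL N7071 (tt N7359 (iv F52322)) (tt N7071 F51102) (tt N7993 (iv F54822)) (tt N6058 (iv D12958)) (tt N7203 (iv F51713)) (tt N8016 D13903) (tt N6063 F51103) (tt N7844 (iv F54132)) (tt N8017 D13904))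
theorem Q7073 : ∀ i, i < 7073 → P i := stepQ 7072 Q7072 (allL N7072 (tt N6737 F51104) (tt N7072 F51105) (tt N6060 F51106) (tt N8016 (iv F54892)) (tt N7072 F51107) (tt N6058 (iv D12959)) (tt N8018 D13905) (tt N7072 F51108) (tt N8019 D13906))
theorem Q7074 : ∀ i, i < 7074 → P i := stepQ 7073 Q7073 (allL N7073 (tt N7629 (iv F53345)) (tt N7073 F51109) (tt N6061 F51110) (tt N8017 (iv F54894)) (tt N6059 F51111) (tt N8019 (iv F54906)) (tt N6065 F51112) (tt N8020 D13907) (tt N6058 (iv D12960)))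
theorem Q7075 : ∀ i, i < 7075 → P i := stepQ 7074 Q7074 (allL N7074 (tt N7630 (iv F53351)) (tt N7074 F51113) (tt N6062 F51114) (tt N7605 (iv F53222)) (tt N8020 (iv F54909)) (tt N7074 F51115) (tt N6066 F51116) (tt N6059 (iv D12961)) (tt N7074 F51117))
theorem Q7076 : ∀ i, i < 7076 → P i := stepQ 7075 Q7075 (allL N7075 (tt N6741 F51118) (tt N6109 F51119) (tt N8018 (iv F54898)) (tt N7997 (iv F54836)) (tt N7075 F51120) (tt N6067 F51121) (tt N6060 (iv D12962)) (tt N7075 F51122) (tt N8021 D13908))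
theorem Q7077 : ∀ i, i < 7077 → P i := stepQ 7076 Q7076 (allL N7076 (tt N6610 F51123) (tt N6110 F51124) (tt N8019 (iv F54904)) (tt N7998 (iv F54842)) (tt N7076 F51125) (tt N6061 F51126) (tt N8021 (iv F54916)) (tt N8022 D13909) (tt N6060 (iv D12963)))
theorem Q7078 : ∀ i, i < 7078 → P i := stepQ 7077 Q7077 (allL N7077 (tt N7875 (iv F54255)) (tt N6111 F51127) (tt N8020 (iv F54908)) (tt N8023 D13910) (tt N6062 F51128) (tt N8022 (iv F54921)) (tt N6069 F51129) (tt N6061 (iv D12964)) (tt N7077 F51130))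
theorem Q7079 : ∀ i, i < 7079 → P i := stepQ 7078 Q7078 (allL N7078 (tt N7876 (iv F54261)) (tt N7078 F51131) (tt N8006 (iv F54866)) (tt N6064 F51132) (tt N8024 D13911) (tt N6063 (iv D12965)) (tt N8025 D13912) (tt N8026 D13913) (tt N8027 D13914))
theorem Q7080 : ∀ i, i < 7080 → P i := stepQ 7079 Q7079 (allL N7079 (tt N7877 (iv F54263)) (tt N7079 F51133) (tt N8007 (iv F54868)) (tt N7079 F51134) (tt N7375 (iv F52370)) (tt N8026 (iv F54934)) (tt N7844 (iv F54131)) (tt N6063 (iv D12966)) (tt N8028 D13915))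
theorem Q7081 : ∀ i, i < 7081 → P i := stepQ 7080 Q7080 (allL N7080 (tt N7878 (iv F54268)) (tt N7080 F51135) (tt N8008 (iv F54869)) (tt N6065 F51136) (tt N7376 (iv F52374)) (tt N8027 (iv F54937)) (tt N8017 (iv F54895)) (tt N8029 D13916) (tt N6063 (iv D12967)))
theorem Q7082 : ∀ i, i < 7082 → P i := stepQ 7081 Q7081 (allL N7081 (tt N7879 (iv F54270)) (tt N7081 F51137) (tt N6067 F51138) (tt N8025 (iv F54931)) (tt N6073 F51139) (tt N8018 (iv F54900)) (tt N6064 (iv D12968)) (tt N7081 F51140) (tt N8030 D13917))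
theorem Q7083 : ∀ i, i < 7083 → P i := stepQ 7082 Q7082 (allL N7082 (tt N7880 (iv F54276)) (tt N7082 F51141) (tt N6068 F51142) (tt N8027 (iv F54936)) (tt N6074 F51143) (tt N6065 F51144) (tt N8030 (iv F54944)) (tt N8031 D13918) (tt N6064 (iv D12969)))
theorem Q7084 : ∀ i, i < 7084 → P i := stepQ 7083 Q7083 (allL N7083 (tt N7881 (iv F54280)) (tt N7083 F51145) (tt N6069 F51146) (tt N8032 D13919) (tt N6066 F51147) (tt N8031 (iv F54948)) (tt N8020 (iv F54910)) (tt N6065 (iv D12970)) (tt N7083 F51148))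
theorem Q7085 : ∀ i, i < 7085 → P i := stepQ 7084 Q7084 (allL N7084 (tt N7635 (iv F53379)) (tt N7084 F51149) (tt N6819 F51150) (tt N6066 (iv D12971)) (tt N8033 D13920) (tt N6076 F51151) (tt N7605 (iv F53224)) (tt N7378 (iv F52384)) (tt N7084 F51152))
theorem Q7086 : ∀ i, i < 7086 → P i := stepQ 7085 Q7085 (allL N7085 (tt N7882 (iv F54284)) (tt N6112 F51153) (tt N8030 (iv F54942)) (tt N8013 (iv F54881)) (tt N6077 F51154) (tt N8021 (iv F54915)) (tt N6068 F51155) (tt N8034 D13921) (tt N6067 (iv D12972)))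
theorem Q7087 : ∀ i, i < 7087 → P i := stepQ 7086 Q7086 (allL N7086 (tt N7883 (iv F54290)) (tt N6113 F51156) (tt N8031 (iv F54946)) (tt N8035 D13922) (tt N6078 F51157) (tt N6069 F51158) (tt N8034 (iv F54959)) (tt N6068 (iv D12973)) (tt N7086 F51159))
theorem Q7088 : ∀ i, i < 7088 → P i := stepQ 7087 Q7087 (allL N7087 (tt N7884 (iv F54296)) (tt N6114 F51160) (tt N8036 D13923) (tt N6069 (iv D12974)) (tt N6822 F51161) (tt N8035 (iv F54962)) (tt N8023 (iv F54926)) (tt N8015 (iv F54889)) (tt N7087 F51162))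
theorem Q7089 : ∀ i, i < 7089 → P i := stepQ 7088 Q7088 (allL N7088 (tt N7885 (iv F54300)) (tt N7088 F51163) (tt N6464 F51164) (tt N8024 (iv F54929)) (tt N6070 (iv D12975)) (tt N7379 (iv F52388)) (tt N7651 (iv F53445)) (tt N7650 F53440) (tt N8037 D13924))
theorem Q7090 : ∀ i, i < 7090 → P i := stepQ 7089 Q7089 (allL N7089 (tt N7886 (iv F54302)) (tt N7089 F51165) (tt N6465 F51166) (tt N6073 F51167) (tt N7651 (iv F53443)) (tt N7089 F51168) (tt N6070 (iv D12976)) (tt N7649 (iv F53435)) (tt N8038 D13925))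
theorem Q7091 : ∀ i, i < 7091 → P i := stepQ 7090 Q7090 (allL N7090 (tt N7787 (iv F53898)) (tt N7090 F51169) (tt N6466 F51170) (tt N7090 F51171) (tt N7650 (iv F53439)) (tt N6071 F51172) (tt N7649 F53434) (tt N6070 (iv D12977)) (tt N7724 F53726))
theorem Q7092 : ∀ i, i < 7092 → P i := stepQ 7091 Q7091 (allL N7091 (tt N7788 (iv F53904)) (tt N7091 F51173) (tt N6467 F51174) (tt N6074 F51175) (tt N8037 (iv F54968)) (tt N6072 F51176) (tt N8038 (iv F54973)) (tt N7725 (iv F53732)) (tt N6070 (iv D12978)))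
theorem Q7093 : ∀ i, i < 7093 → P i := stepQ 7092 Q7092 (allL N7092 (tt N7887 (iv F54306)) (tt N7092 F51177) (tt N6077 F51178) (tt N8038 (iv F54971)) (tt N8030 (iv F54943)) (tt N7092 F51179) (tt N6074 F51180) (tt N8039 D13926) (tt N6073 (iv D12979)))
theorem Q7094 : ∀ i, i < 7094 → P i := stepQ 7093 Q7093 (allL N7093 (tt N7790 (iv F53915)) (tt N7093 F51181) (tt N6078 F51182) (tt N7727 (iv F53741)) (tt N8031 (iv F54947)) (tt N6075 F51183) (tt N8039 (iv F54977)) (tt N6074 (iv D12980)) (tt N7093 F51184))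
theorem Q7095 : ∀ i, i < 7095 → P i := stepQ 7094 Q7094 (allL N7094 (tt N7888 (iv F54310)) (tt N6115 F51185) (tt N8039 (iv F54975)) (tt N7841 (iv F54113)) (tt N8034 (iv F54957)) (tt N7094 F51186) (tt N6078 F51187) (tt N6077 (iv D12981)) (tt N7094 F51188))
theorem Q7096 : ∀ i, i < 7096 → P i := stepQ 7095 Q7095 (allL N7095 (tt N7792 (iv F53925)) (tt N6116 F51189) (tt N7729 (iv F53751)) (tt N6078 (iv D12982)) (tt N7926 (iv F54504)) (tt N6079 F51190) (tt N7841 (iv F54116)) (tt N6475 F51191) (tt N7095 F51192))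
theorem Q7097 : ∀ i, i < 7097 → P i := stepQ 7096 Q7096 (allL N7096 (tt N6121 F51193) (tt N7968 (iv F54714)) (tt N6182 F51194) (tt N6198 F51195) (tt N6082 F51196) (tt N7096 F51197) (tt N6234 F51198) (tt N6189 F51199) (tt N6080 (iv D12983)))
theorem Q7098 : ∀ i, i < 7098 → P i := stepQ 7097 Q7097 (allL N7097 (tt N6122 F51200) (tt N7970 (iv F54725)) (tt N6232 F51201) (tt N6082 F51202) (tt N6231 F51203) (tt N6085 F51204) (tt N6397 F51205) (tt N8040 D13927) (tt N6081 (iv D12984)))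
theorem Q7099 : ∀ i, i < 7099 → P i := stepQ 7098 Q7098 (allL N7098 (tt N6377 F51206) (tt N6083 (iv D12985)) (tt N7971 (iv F54730)) (tt N6183 F51207) (tt N6750 F51208) (tt N6216 F51209) (tt N6086 F51210) (tt N6094 F51211) (tt N8041 D13928))
theorem Q7100 : ∀ i, i < 7100 → P i := stepQ 7099 Q7099 (allL N7099 (tt N6123 F51212) (tt N8041 (iv F54987)) (tt N6085 F51213) (tt N6184 F51214) (tt N6778 F51215) (tt N6232 F51216) (tt N6088 F51217) (tt N8042 D13929) (tt N6083 (iv D12986)))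
theorem Q7101 : ∀ i, i < 7101 → P i := stepQ 7100 Q7100 (allL N7100 (tt N6124 F51218) (tt N7974 (iv F54743)) (tt N6778 F51219) (tt N7100 F51220) (tt N6085 F51221) (tt N6776 F51222) (tt N6090 F51223) (tt N8043 D13930) (tt N6084 (iv D12987)))
theorem Q7102 : ∀ i, i < 7102 → P i := stepQ 7101 Q7101 (allL N7101 (tt N6125 F51224) (tt N7975 (iv F54748)) (tt N8042 (iv F54993)) (tt N6484 F51225) (tt N8043 (iv F55001)) (tt N8040 (iv F54983)) (tt N6091 F51226) (tt N6085 (iv D12988)) (tt N6099 F51227))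
theorem Q7103 : ∀ i, i < 7103 → P i := stepQ 7102 Q7102 (allL N7102 (tt N6086 (iv D12989)) (tt N6126 F51228) (tt N7976 (iv F54752)) (tt N6186 F51229) (tt N6810 (iv F51233)) (tt N6479 F51230) (tt N6377 F51231) (tt N6100 F51232) (tt N8044 D13931))
theorem Q7104 : ∀ i, i < 7104 → P i := stepQ 7103 Q7103 (allL N7103 (tt N6810 F51234) (tt N6087 F51235) (tt N7977 (iv F54759)) (tt N6757 F51236) (tt N6086 (iv D12990)) (tt N8045 D13932) (tt N6750 F51237) (tt N6101 F51238) (tt N8046 D13933))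
theorem Q7105 : ∀ i, i < 7105 → P i := stepQ 7104 Q7104 (allL N7104 (tt N8044 (iv F55005)) (tt N6088 F51239) (tt N7978 (iv F54763)) (tt N6188 F51240) (tt N8046 (iv F55020)) (tt N6481 F51241) (tt N8041 (iv F54991)) (tt N8047 D13934) (tt N6086 (iv D12991)))
theorem Q7106 : ∀ i, i < 7106 → P i := stepQ 7105 Q7105 (allL N7105 (tt N6128 F51242) (tt N8045 (iv F55012)) (tt N6089 F51243) (tt N6611 F51244) (tt N6482 F51245) (tt N6087 (iv D12992)) (tt N6518 F51246) (tt N6103 F51247) (tt N8048 D13935))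
theorem Q7107 : ∀ i, i < 7107 → P i := stepQ 7106 Q7106 (allL N7106 (tt N6129 F51248) (tt N8046 (iv F55018)) (tt N6090 F51249) (tt N6780 F51250) (tt N6088 F51251) (tt N8048 (iv F55029)) (tt N6778 F51252) (tt N8049 D13936) (tt N6087 (iv D12993)))
theorem Q7108 : ∀ i, i < 7108 → P i := stepQ 7107 Q7107 (allL N7107 (tt N6130 F51253) (tt N8047 (iv F55022)) (tt N6091 F51254) (tt N8040 (iv F54981)) (tt N8049 (iv F55033)) (tt N6484 F51255) (tt N8042 (iv F54997)) (tt N6088 (iv D12994)) (tt N6105 F51256))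
theorem Q7109 : ∀ i, i < 7109 → P i := stepQ 7108 Q7108 (allL N7108 (tt N6131 F51257) (tt N7983 (iv F54775)) (tt N6518 F51258) (tt N7108 F51259) (tt N6485 F51260) (tt N6351 F51261) (tt N6089 (iv D12995)) (tt N6106 F51262) (tt N8050 D13937))
theorem Q7110 : ∀ i, i < 7110 → P i := stepQ 7109 Q7109 (allL N7109 (tt N6132 F51263) (tt N7984 (iv F54780)) (tt N8048 (iv F55026)) (tt N7109 F51264) (tt N6486 F51265) (tt N6090 F51266) (tt N8050 (iv F55041)) (tt N8051 D13938) (tt N6089 (iv D12996)))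
theorem Q7111 : ∀ i, i < 7111 → P i := stepQ 7110 Q7110 (allL N7110 (tt N6133 F51267) (tt N7985 (iv F54784)) (tt N8049 (iv F55032)) (tt N8052 D13939) (tt N6091 F51268) (tt N8051 (iv F55044)) (tt N8043 (iv F55003)) (tt N6090 (iv D12997)) (tt N6108 F51269))
theorem Q7112 : ∀ i, i < 7112 → P i := stepQ 7111 Q7111 (allL N7111 (tt N6134 F51270) (tt N7988 (iv F54796)) (tt N6227 F51271) (tt N7111 F51272) (tt N6093 F51273) (tt N6771 F51274) (tt N6403 F51275) (tt N8053 D13940) (tt N6092 (iv D12998)))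
theorem Q7113 : ∀ i, i < 7113 → P i := stepQ 7112 Q7112 (allL N7112 (tt N6135 F51276) (tt N7989 (iv F54801)) (tt N6399 F51277) (tt N6105 F51278) (tt N8053 (iv F55052)) (tt N6099 F51279) (tt N6404 F51280) (tt N6093 (iv D12999)) (tt N8040 (iv F54985)))
theorem Q7114 : ∀ i, i < 7114 → P i := stepQ 7113 Q7113 (allL N7113 (tt N6094 (iv D13000)) (tt N6136 F51281) (tt N7990 (iv F54805)) (tt N6118 F51282) (tt N6803 (iv F51286)) (tt N6213 F51283) (tt N6100 F51284) (tt N6377 F51285) (tt N8054 D13941))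
theorem Q7115 : ∀ i, i < 7115 → P i := stepQ 7114 Q7114 (allL N7114 (tt N6803 F51287) (tt N6095 F51288) (tt N7991 (iv F54813)) (tt N7114 F51289) (tt N6094 (iv D13001)) (tt N6745 F51290) (tt N6101 F51291) (tt N6750 F51292) (tt N8055 D13942))
theorem Q7116 : ∀ i, i < 7116 → P i := stepQ 7115 Q7115 (allL N7115 (tt N8054 (iv F55056)) (tt N6096 F51293) (tt N7992 (iv F54818)) (tt N6119 F51294) (tt N8055 (iv F55065)) (tt N6373 F51295) (tt N6102 F51296) (tt N8056 D13943) (tt N6094 (iv D13002)))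
theorem Q7117 : ∀ i, i < 7117 → P i := stepQ 7116 Q7116 (allL N7116 (tt N6138 F51297) (tt N8055 (iv F55063)) (tt N6098 F51298) (tt N7116 F51299) (tt N6096 F51300) (tt N6772 F51301) (tt N6104 F51302) (tt N8057 D13944) (tt N6095 (iv D13003)))
theorem Q7118 : ∀ i, i < 7118 → P i := stepQ 7117 Q7117 (allL N7117 (tt N6139 F51303) (tt N8056 (iv F55068)) (tt N6099 F51304) (tt N6404 F51305) (tt N8057 (iv F55074)) (tt N6399 F51306) (tt N6105 F51307) (tt N6096 (iv D13004)) (tt N8042 (iv F54998)))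
theorem Q7119 : ∀ i, i < 7119 → P i := stepQ 7118 Q7118 (allL N7118 (tt N6140 F51308) (tt N7997 (iv F54835)) (tt N6508 F51309) (tt N6109 F51310) (tt N6339 F51311) (tt N6106 F51312) (tt N6097 (iv D13005)) (tt N6351 F51313) (tt N8058 D13945))
theorem Q7120 : ∀ i, i < 7120 → P i := stepQ 7119 Q7119 (allL N7119 (tt N6141 F51314) (tt N7998 (iv F54841)) (tt N6772 F51315) (tt N6110 F51316) (tt N6771 F51317) (tt N6098 F51318) (tt N8058 (iv F55083)) (tt N8059 D13946) (tt N6097 (iv D13006)))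
theorem Q7121 : ∀ i, i < 7121 → P i := stepQ 7120 Q7120 (allL N7120 (tt N6142 F51319) (tt N7999 (iv F54845)) (tt N8057 (iv F55073)) (tt N8060 D13947) (tt N6099 F51320) (tt N8059 (iv F55087)) (tt N6108 F51321) (tt N6098 (iv D13007)) (tt N8043 (iv F55004)))
theorem Q7122 : ∀ i, i < 7122 → P i := stepQ 7121 Q7121 (allL N7121 (tt N6101 F51322) (tt N6143 F51323) (tt N8000 (iv F54849)) (tt N7121 F51324) (tt N6100 (iv D13008)) (tt N8061 D13948) (tt N6803 F51325) (tt N6810 F51326) (tt N8062 D13949))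
theorem Q7123 : ∀ i, i < 7123 → P i := stepQ 7122 Q7122 (allL N7122 (tt N6102 F51327) (tt N6144 F51328) (tt N8001 (iv F54853)) (tt N6120 F51329) (tt N8062 (iv F55102)) (tt N6492 F51330) (tt N8054 (iv F55061)) (tt N8063 D13950) (tt N6100 (iv D13009)))
theorem Q7124 : ∀ i, i < 7124 → P i := stepQ 7123 Q7123 (allL N7123 (tt N8061 (iv F55093)) (tt N6103 F51331) (tt N8003 (iv F54858)) (tt N7123 F51332) (tt N6493 F51333) (tt N6101 (iv D13010)) (tt N8064 D13951) (tt N8045 (iv F55016)) (tt N8065 D13952))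
theorem Q7125 : ∀ i, i < 7125 → P i := stepQ 7124 Q7124 (allL N7124 (tt N8062 (iv F55099)) (tt N6104 F51334) (tt N8004 (iv F54861)) (tt N7124 F51335) (tt N6102 F51336) (tt N8065 (iv F55116)) (tt N8055 (iv F55067)) (tt N8066 D13953) (tt N6101 (iv D13011)))
theorem Q7126 : ∀ i, i < 7126 → P i := stepQ 7125 Q7125 (allL N7125 (tt N8063 (iv F55104)) (tt N6105 F51337) (tt N8005 (iv F54864)) (tt N7989 (iv F54802)) (tt N8066 (iv F55118)) (tt N6495 F51338) (tt N8056 (iv F55071)) (tt N6102 (iv D13012)) (tt N8047 (iv F55024)))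
theorem Q7127 : ∀ i, i < 7127 → P i := stepQ 7126 Q7126 (allL N7126 (tt N6148 F51339) (tt N8064 (iv F55108)) (tt N6106 F51340) (tt N7126 F51341) (tt N6496 F51342) (tt N6508 F51343) (tt N6103 (iv D13013)) (tt N6518 F51344) (tt N8067 D13954))
theorem Q7128 : ∀ i, i < 7128 → P i := stepQ 7127 Q7127 (allL N7127 (tt N6149 F51345) (tt N8065 (iv F55113)) (tt N6107 F51346) (tt N7127 F51347) (tt N6497 F51348) (tt N6104 F51349) (tt N8067 (iv F55124)) (tt N8068 D13955) (tt N6103 (iv D13014)))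
theorem Q7129 : ∀ i, i < 7129 → P i := stepQ 7128 Q7128 (allL N7128 (tt N6150 F51350) (tt N8066 (iv F55117)) (tt N6108 F51351) (tt N8069 D13956) (tt N6105 F51352) (tt N8068 (iv F55128)) (tt N8057 (iv F55076)) (tt N6104 (iv D13015)) (tt N8049 (iv F55035)))
theorem Q7130 : ∀ i, i < 7130 → P i := stepQ 7129 Q7129 (allL N7129 (tt N6151 F51353) (tt N8013 (iv F54880)) (tt N8067 (iv F55120)) (tt N6112 F51354) (tt N6499 F51355) (tt N8058 (iv F55082)) (tt N6107 F51356) (tt N8070 D13957) (tt N6106 (iv D13016)))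
theorem Q7131 : ∀ i, i < 7131 → P i := stepQ 7130 Q7130 (allL N7130 (tt N6152 F51357) (tt N8014 (iv F54884)) (tt N8068 (iv F55126)) (tt N8071 D13958) (tt N6500 F51358) (tt N6108 F51359) (tt N8070 (iv F55133)) (tt N6107 (iv D13017)) (tt N8051 (iv F55045)))
theorem Q7132 : ∀ i, i < 7132 → P i := stepQ 7131 Q7131 (allL N7131 (tt N6153 F51360) (tt N8015 (iv F54887)) (tt N8072 D13959) (tt N6108 (iv D13018)) (tt N6840 F51361) (tt N8071 (iv F55135)) (tt N8060 (iv F55091)) (tt N6114 F51362) (tt N8052 (iv F55049)))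
theorem Q7133 : ∀ i, i < 7133 → P i := stepQ 7132 Q7132 (allL N7132 (tt N6154 F51363) (tt N8021 (iv F54913)) (tt N7132 F51364) (tt N8058 (iv F55080)) (tt N7132 F51365) (tt N6112 F51366) (tt N6110 F51367) (tt N6897 (iv F51368)) (tt N6109 (iv D13019)))
theorem Q7134 : ∀ i, i < 7134 → P i := stepQ 7133 Q7133 (allL N7133 (tt N6155 F51369) (tt N8022 (iv F54919)) (tt N7133 F51370) (tt N8073 D13960) (tt N7133 F51371) (tt N6111 F51372) (tt N6897 F51373) (tt N6110 (iv D13020)) (tt N7133 F51374))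
theorem Q7135 : ∀ i, i < 7135 → P i := stepQ 7134 Q7134 (allL N7134 (tt N6156 F51375) (tt N8023 (iv F54924)) (tt N8074 D13961) (tt N6111 (iv D13021)) (tt N6603 F51376) (tt N8073 (iv F55141)) (tt N6114 F51377) (tt N8060 (iv F55092)) (tt N7134 F51378))
theorem Q7136 : ∀ i, i < 7136 → P i := stepQ 7135 Q7135 (allL N7135 (tt N6157 F51379) (tt N8034 (iv F54956)) (tt N7135 F51380) (tt N7930 (iv F54523)) (tt N6115 F51381) (tt N6897 F51382) (tt N6113 F51383) (tt N6112 (iv D13022)) (tt N7135 F51384))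
theorem Q7137 : ∀ i, i < 7137 → P i := stepQ 7136 Q7136 (allL N7136 (tt N6158 F51385) (tt N8035 (iv F54961)) (tt N8075 D13962) (tt N6113 (iv D13023)) (tt N7927 (iv F54510)) (tt N6114 F51386) (tt N7930 (iv F54524)) (tt N8071 (iv F55136)) (tt N7136 F51387))
theorem Q7138 : ∀ i, i < 7138 → P i := stepQ 7137 Q7137 (allL N7137 (tt N6159 F51388) (tt N8076 D13963) (tt N6114 (iv D13024)) (tt N7137 F51389) (tt N6843 F51390) (tt N8075 (iv F55152)) (tt N8074 (iv F55147)) (tt N8072 (iv F55139)) (tt N7137 F51391))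
theorem Q7139 : ∀ i, i < 7139 → P i := stepQ 7138 Q7138 (allL N7138 (tt N6119 F51392) (tt N6160 F51393) (tt N6929 F51394) (tt N8054 (iv F55058)) (tt N7138 F51395) (tt N6214 F51396) (tt N6120 F51397) (tt N6265 F51398) (tt N6118 (iv D13025)))
theorem Q7140 : ∀ i, i < 7140 → P i := stepQ 7139 Q7139 (allL N7139 (tt N8040 (iv F54979)) (tt N7931 (iv F54527)) (tt N6248 F51399) (tt N6130 F51400) (tt N6247 F51401) (tt N6125 F51402) (tt N6410 F51403) (tt N6122 (iv D13026)) (tt N6135 F51404))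
theorem Q7141 : ∀ i, i < 7141 → P i := stepQ 7140 Q7140 (allL N7140 (tt N8042 (iv F54992)) (tt N6413 F51405) (tt N6125 F51406) (tt N6410 F51407) (tt N6792 F51408) (tt N6248 F51409) (tt N6130 F51410) (tt N6123 (iv D13027)) (tt N6139 F51411))
theorem Q7142 : ∀ i, i < 7142 → P i := stepQ 7141 Q7141 (allL N7141 (tt N8043 (iv F54999)) (tt N7933 (iv F54540)) (tt N6792 F51412) (tt N8077 D13964) (tt N6125 F51413) (tt N6790 F51414) (tt N6133 F51415) (tt N6124 (iv D13028)) (tt N6142 F51416))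
theorem Q7143 : ∀ i, i < 7143 → P i := stepQ 7142 Q7142 (allL N7142 (tt N6127 F51417) (tt N8044 (iv F55006)) (tt N7934 (iv F54547)) (tt N6190 F51418) (tt N6838 F51419) (tt N6509 F51420) (tt N6405 F51421) (tt N8078 D13965) (tt N6126 (iv D13029)))
theorem Q7144 : ∀ i, i < 7144 → P i := stepQ 7143 Q7143 (allL N7143 (tt N8078 (iv F55163)) (tt N6130 F51422) (tt N7935 (iv F54553)) (tt N7931 (iv F54529)) (tt N6850 F51423) (tt N6511 F51424) (tt N6413 F51425) (tt N6127 (iv D13030)) (tt N6147 F51426))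
theorem Q7145 : ∀ i, i < 7145 → P i := stepQ 7144 Q7144 (allL N7144 (tt N8048 (iv F55025)) (tt N6523 F51427) (tt N6132 F51428) (tt N6614 F51429) (tt N6512 F51430) (tt N6129 F51431) (tt N6521 F51432) (tt N8079 D13966) (tt N6128 (iv D13031)))
theorem Q7146 : ∀ i, i < 7146 → P i := stepQ 7145 Q7145 (allL N7145 (tt N8049 (iv F55031)) (tt N6850 F51433) (tt N6133 F51434) (tt N8080 D13967) (tt N6130 F51435) (tt N8079 (iv F55171)) (tt N6792 F51436) (tt N6129 (iv D13032)) (tt N6150 F51437))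
theorem Q7147 : ∀ i, i < 7147 → P i := stepQ 7146 Q7146 (allL N7146 (tt N8050 (iv F55036)) (tt N6355 F51438) (tt N6521 F51439) (tt N7146 F51440) (tt N6514 F51441) (tt N6353 F51442) (tt N6132 F51443) (tt N8081 D13968) (tt N6131 (iv D13033)))
theorem Q7148 : ∀ i, i < 7148 → P i := stepQ 7147 Q7147 (allL N7147 (tt N8051 (iv F55042)) (tt N7938 (iv F54569)) (tt N8079 (iv F55169)) (tt N8082 D13969) (tt N6515 F51444) (tt N6133 F51445) (tt N8081 (iv F55184)) (tt N6132 (iv D13034)) (tt N6152 F51446))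
theorem Q7149 : ∀ i, i < 7149 → P i := stepQ 7148 Q7148 (allL N7148 (tt N8052 (iv F55046)) (tt N7939 (iv F54575)) (tt N8083 D13970) (tt N6133 (iv D13035)) (tt N6849 F51447) (tt N8082 (iv F55186)) (tt N8077 (iv F55160)) (tt N7148 F51448) (tt N6153 F51449))
theorem Q7150 : ∀ i, i < 7150 → P i := stepQ 7149 Q7149 (allL N7149 (tt N8053 (iv F55050)) (tt N7941 (iv F54586)) (tt N6242 F51450) (tt N8084 D13971) (tt N6135 F51451) (tt N6788 F51452) (tt N6412 F51453) (tt N6134 (iv D13036)) (tt N6247 F51454))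
theorem Q7151 : ∀ i, i < 7151 → P i := stepQ 7150 Q7150 (allL N7150 (tt N6137 F51455) (tt N8054 (iv F55057)) (tt N7942 (iv F54593)) (tt N6160 F51456) (tt N6836 F51457) (tt N6229 F51458) (tt N6144 F51459) (tt N8085 D13972) (tt N6136 (iv D13037)))
theorem Q7152 : ∀ i, i < 7152 → P i := stepQ 7151 Q7151 (allL N7151 (tt N8085 (iv F55199)) (tt N6139 F51460) (tt N7943 (iv F54599)) (tt N6346 F51461) (tt N6848 F51462) (tt N6244 F51463) (tt N6147 F51464) (tt N6137 (iv D13038)) (tt N6413 F51465))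
theorem Q7153 : ∀ i, i < 7153 → P i := stepQ 7152 Q7152 (allL N7152 (tt N8057 (iv F55072)) (tt N6848 F51466) (tt N6142 F51467) (tt N8086 D13973) (tt N6139 F51468) (tt N6789 F51469) (tt N6150 F51470) (tt N6138 (iv D13039)) (tt N6792 F51471))
theorem Q7154 : ∀ i, i < 7154 → P i := stepQ 7153 Q7153 (allL N7153 (tt N8058 (iv F55078)) (tt N6341 F51472) (tt N6510 F51473) (tt N6154 F51474) (tt N6340 F51475) (tt N6151 F51476) (tt N6141 F51477) (tt N8087 D13974) (tt N6140 (iv D13040)))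
theorem Q7155 : ∀ i, i < 7155 → P i := stepQ 7154 Q7154 (allL N7154 (tt N8059 (iv F55084)) (tt N6528 F51478) (tt N6789 F51479) (tt N8088 D13975) (tt N6788 F51480) (tt N6142 F51481) (tt N8087 (iv F55216)) (tt N6141 (iv D13041)) (tt N6790 F51482))
theorem Q7156 : ∀ i, i < 7156 → P i := stepQ 7155 Q7155 (allL N7155 (tt N8060 (iv F55089)) (tt N7945 (iv F54609)) (tt N8089 D13976) (tt N6142 (iv D13042)) (tt N6525 F51483) (tt N8088 (iv F55219)) (tt N6153 F51484) (tt N6156 F51485) (tt N8077 (iv F55162)))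
theorem Q7157 : ∀ i, i < 7157 → P i := stepQ 7156 Q7156 (allL N7156 (tt N6145 F51486) (tt N8061 (iv F55094)) (tt N6485 F51487) (tt N7156 F51488) (tt N6518 F51489) (tt N6143 (iv D13043)) (tt N6482 F51490) (tt N6496 F51491) (tt N8090 D13977))
theorem Q7158 : ∀ i, i < 7158 → P i := stepQ 7157 Q7157 (allL N7157 (tt N6146 F51492) (tt N8062 (iv F55100)) (tt N7946 (iv F54616)) (tt N7157 F51493) (tt N6144 F51494) (tt N8090 (iv F55230)) (tt N6836 F51495) (tt N8091 D13978) (tt N6143 (iv D13044)))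
theorem Q7159 : ∀ i, i < 7159 → P i := stepQ 7158 Q7158 (allL N7158 (tt N6147 F51496) (tt N8063 (iv F55105)) (tt N7947 (iv F54622)) (tt N7904 (iv F54397)) (tt N8091 (iv F55233)) (tt N6520 F51497) (tt N8085 (iv F55203)) (tt N6144 (iv D13045)) (tt N8078 (iv F55167)))
theorem Q7160 : ∀ i, i < 7160 → P i := stepQ 7159 Q7159 (allL N7159 (tt N8090 (iv F55226)) (tt N6149 F51498) (tt N6514 F51499) (tt N7159 F51500) (tt N6521 F51501) (tt N6146 F51502) (tt N6512 F51503) (tt N8092 D13979) (tt N6145 (iv D13046)))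
theorem Q7161 : ∀ i, i < 7161 → P i := stepQ 7160 Q7160 (allL N7160 (tt N8091 (iv F55232)) (tt N6150 F51504) (tt N7948 (iv F54625)) (tt N8093 D13980) (tt N6147 F51505) (tt N8092 (iv F55239)) (tt N6848 F51506) (tt N6146 (iv D13047)) (tt N6850 F51507))
theorem Q7162 : ∀ i, i < 7162 → P i := stepQ 7161 Q7161 (allL N7161 (tt N8067 (iv F55119)) (tt N6512 F51508) (tt N6151 F51509) (tt N7161 F51510) (tt N6523 F51511) (tt N6510 F51512) (tt N6149 F51513) (tt N8094 D13981) (tt N6148 (iv D13048)))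
theorem Q7163 : ∀ i, i < 7163 → P i := stepQ 7162 Q7162 (allL N7162 (tt N8068 (iv F55125)) (tt N8092 (iv F55236)) (tt N6152 F51514) (tt N8095 D13982) (tt N6524 F51515) (tt N6150 F51516) (tt N8094 (iv F55250)) (tt N6149 (iv D13049)) (tt N8079 (iv F55173)))
theorem Q7164 : ∀ i, i < 7164 → P i := stepQ 7163 Q7163 (allL N7163 (tt N8069 (iv F55129)) (tt N8093 (iv F55242)) (tt N8096 D13983) (tt N6150 (iv D13050)) (tt N8084 (iv F55194)) (tt N8095 (iv F55252)) (tt N8086 (iv F55208)) (tt N7163 F51517) (tt N8080 (iv F55178)))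
theorem Q7165 : ∀ i, i < 7165 → P i := stepQ 7164 Q7164 (allL N7164 (tt N8070 (iv F55131)) (tt N7952 (iv F54649)) (tt N8094 (iv F55247)) (tt N7951 (iv F54645)) (tt N6526 F51518) (tt N8087 (iv F55215)) (tt N6152 F51519) (tt N6151 (iv D13051)) (tt N8081 (iv F55185)))
theorem Q7166 : ∀ i, i < 7166 → P i := stepQ 7165 Q7165 (allL N7165 (tt N8071 (iv F55134)) (tt N7953 (iv F54656)) (tt N8097 D13984) (tt N6152 (iv D13052)) (tt N7944 (iv F54605)) (tt N6153 F51520) (tt N7951 (iv F54646)) (tt N6158 F51521) (tt N8082 (iv F55188)))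
theorem Q7167 : ∀ i, i < 7167 → P i := stepQ 7166 Q7166 (allL N7166 (tt N8072 (iv F55137)) (tt N8098 D13985) (tt N6153 (iv D13053)) (tt N8096 (iv F55254)) (tt N6852 F51522) (tt N8097 (iv F55260)) (tt N8089 (iv F55224)) (tt N6159 F51523) (tt N8083 (iv F55192)))
theorem Q7168 : ∀ i, i < 7168 → P i := stepQ 7167 Q7167 (allL N7167 (tt N8073 (iv F55140)) (tt N6619 F51524) (tt N8099 D13986) (tt N6155 (iv D13054)) (tt N8100 D13987) (tt N6156 F51525) (tt N6856 F51526) (tt N8088 (iv F55221)) (tt N7167 F51527))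
theorem Q7169 : ∀ i, i < 7169 → P i := stepQ 7168 Q7168 (allL N7168 (tt N8074 (iv F55144)) (tt N8100 (iv F55272)) (tt N6156 (iv D13055)) (tt N7168 F51528) (tt N6619 F51529) (tt N8099 (iv F55268)) (tt N6159 F51530) (tt N8089 (iv F55225)) (tt N7168 F51531))
theorem Q7170 : ∀ i, i < 7170 → P i := stepQ 7169 Q7169 (allL N7169 (tt N8075 (iv F55149)) (tt N6367 (iv F51537)) (tt N6158 (iv D13056)) (tt N7169 F51532) (tt N6366 F51533) (tt N6159 F51534) (tt N6797 F51535) (tt N8097 (iv F55262)) (tt N7169 F51536))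
theorem Q7171 : ∀ i, i < 7171 → P i := stepQ 7170 Q7170 (allL N7170 (tt N8101 D13988) (tt N6159 (iv D13057)) (tt N7956 (iv F54672)) (tt N7170 F51538) (tt N6856 F51539) (tt N6367 F51540) (tt N8100 (iv F55276)) (tt N8098 (iv F55265)) (tt N7170 F51541))
theorem Q7172 : ∀ i, i < 7172 → P i := stepQ 7171 Q7171 (allL N7171 (tt N7171 F51542) (tt N7958 (iv F54683)) (tt N6530 F51543) (tt N6162 (iv D13058)) (tt N7694 (iv F53619)) (tt N6163 F51544) (tt N6532 F51545) (tt N7173 (iv F51555)) (tt N8102 D13989))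
theorem Q7173 : ∀ i, i < 7173 → P i := stepQ 7172 Q7172 (allL N7172 (tt N7172 F51546) (tt N7959 (iv F54686)) (tt N6169 F51547) (tt N8102 (iv F55284)) (tt N7582 F53121) (tt N6164 F51548) (tt N6535 F51549) (tt N6175 F51550) (tt N6162 (iv D13059)))
theorem Q7174 : ∀ i, i < 7174 → P i := stepQ 7173 Q7173 (allL N7173 (tt N7173 F51551) (tt N8103 D13990) (tt N6163 (iv D13060)) (tt N6170 F51552) (tt N8104 D13991) (tt N6530 F51553) (tt N6165 F51554) (tt N7171 F51555) (tt N8105 D13992))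
theorem Q7175 : ∀ i, i < 7175 → P i := stepQ 7174 Q7174 (allL N7174 (tt N7174 F51556) (tt N7877 (iv F54264)) (tt N8104 (iv F55293)) (tt N7174 F51557) (tt N6163 (iv D13061)) (tt N8106 D13993) (tt N6166 F51558) (tt N7513 (iv F52821)) (tt N8107 D13994))
theorem Q7176 : ∀ i, i < 7176 → P i := stepQ 7175 Q7175 (allL N7175 (tt N7175 F51559) (tt N7961 (iv F54693)) (tt N8105 (iv F55298)) (tt N6164 F51560) (tt N8107 (iv F55306)) (tt N8102 (iv F55285)) (tt N6167 F51561) (tt N8108 D13995) (tt N6163 (iv D13062)))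
theorem Q7177 : ∀ i, i < 7177 → P i := stepQ 7176 Q7176 (allL N7176 (tt N8109 D13996) (tt N6165 (iv D13063)) (tt N7962 (iv F54696)) (tt N6173 F51562) (tt N8110 D13997) (tt N6539 F51563) (tt N8103 (iv F55289)) (tt N7397 (iv F52453)) (tt N8111 D13998))
theorem Q7178 : ∀ i, i < 7178 → P i := stepQ 7177 Q7177 (allL N7177 (tt N7177 F51564) (tt N8110 (iv F55315)) (tt N6166 F51565) (tt N6730 (iv F51567)) (tt N6165 (iv D13064)) (tt N6732 (iv F51568)) (tt N8104 (iv F55295)) (tt N6734 F51566) (tt N8112 D13999))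
theorem Q7179 : ∀ i, i < 7179 → P i := stepQ 7178 Q7178 (allL N7178 (tt N7178 F51569) (tt N8111 (iv F55319)) (tt N6167 F51570) (tt N6175 F51571) (tt N8112 (iv F55325)) (tt N6541 F51572) (tt N8105 (iv F55301)) (tt N8113 D14000) (tt N6165 (iv D13065)))
theorem Q7180 : ∀ i, i < 7180 → P i := stepQ 7179 Q7179 (allL N7179 (tt N7179 F51573) (tt N7965 (iv F54703)) (tt N6732 F51574) (tt N7179 F51575) (tt N6542 F51576) (tt N6166 (iv D13066)) (tt N8114 D14001) (tt N6735 F51577) (tt N8115 D14002))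
theorem Q7181 : ∀ i, i < 7181 → P i := stepQ 7180 Q7180 (allL N7180 (tt N7180 F51578) (tt N7966 (iv F54707)) (tt N8112 (iv F55323)) (tt N7180 F51579) (tt N6167 F51580) (tt N8115 (iv F55339)) (tt N8107 (iv F55307)) (tt N8116 D14003) (tt N6166 (iv D13067)))
theorem Q7182 : ∀ i, i < 7182 → P i := stepQ 7181 Q7181 (allL N7181 (tt N7181 F51581) (tt N7967 (iv F54710)) (tt N8113 (iv F55328)) (tt N6860 F51582) (tt N8116 (iv F55341)) (tt N6544 F51583) (tt N8108 (iv F55310)) (tt N6167 (iv D13068)) (tt N7517 (iv F52835)))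
theorem Q7183 : ∀ i, i < 7183 → P i := stepQ 7182 Q7182 (allL N7182 (tt N7182 F51584) (tt N6182 F51585) (tt N7582 (iv F53116)) (tt N6191 F51586) (tt N6169 F51587) (tt N7182 F51588) (tt N6536 F51589) (tt N6176 F51590) (tt N6168 (iv D13069)))
theorem Q7184 : ∀ i, i < 7184 → P i := stepQ 7183 Q7183 (allL N7183 (tt N6382 F51595) (tt N6170 (iv D13070)) (tt N6183 F51591) (tt N8103 (iv F55287)) (tt N6222 (iv F51596)) (tt N6218 F51592) (tt N6173 F51593) (tt N6177 F51594) (tt N8117 D14004))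
theorem Q7185 : ∀ i, i < 7185 → P i := stepQ 7184 Q7184 (allL N7184 (tt N7184 F51597) (tt N6222 F51598) (tt N6171 F51599) (tt N7580 (iv F53103)) (tt N6170 (iv D13071)) (tt N6192 F51600) (tt N6174 F51601) (tt N6178 F51602) (tt N7581 (iv F53112)))
theorem Q7186 : ∀ i, i < 7186 → P i := stepQ 7185 Q7185 (allL N7185 (tt N7185 F51603) (tt N8117 (iv F55343)) (tt N6172 F51604) (tt N8105 (iv F55299)) (tt N7581 F53114) (tt N6531 F51605) (tt N6175 F51606) (tt N6535 F51607) (tt N6170 (iv D13072)))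
theorem Q7187 : ∀ i, i < 7187 → P i := stepQ 7186 Q7186 (allL N7186 (tt N7186 F51608) (tt N6185 F51609) (tt N7581 F53113) (tt N7186 F51610) (tt N6172 F51611) (tt N6194 F51612) (tt N6176 F51613) (tt N6536 F51614) (tt N6171 (iv D13073)))
theorem Q7188 : ∀ i, i < 7188 → P i := stepQ 7187 Q7187 (allL N7187 (tt N6173 (iv D13074)) (tt N7187 F51615) (tt N6186 F51616) (tt N8109 (iv F55312)) (tt N6389 (iv F51620)) (tt N6545 F51617) (tt N6382 F51618) (tt N6179 F51619) (tt N8118 D14005))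
theorem Q7189 : ∀ i, i < 7189 → P i := stepQ 7188 Q7188 (allL N7188 (tt N6389 F51621) (tt N6174 F51622) (tt N6187 F51623) (tt N8119 D14006) (tt N6173 (iv D13075)) (tt N7188 F51624) (tt N6222 F51625) (tt N6180 F51626) (tt N8120 D14007))
theorem Q7190 : ∀ i, i < 7190 → P i := stepQ 7189 Q7189 (allL N7189 (tt N8118 (iv F55349)) (tt N6175 F51627) (tt N6188 F51628) (tt N8111 (iv F55320)) (tt N8120 (iv F55365)) (tt N6546 F51629) (tt N8117 (iv F55347)) (tt N7959 (iv F54690)) (tt N6173 (iv D13076)))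
theorem Q7191 : ∀ i, i < 7191 → P i := stepQ 7190 Q7190 (allL N7190 (tt N7190 F51630) (tt N8119 (iv F55356)) (tt N7190 F51631) (tt N6174 (iv D13077)) (tt N6730 F51632) (tt N7190 F51633) (tt N7580 (iv F53105)) (tt N6727 F51634) (tt N7579 (iv F53098)))
theorem Q7192 : ∀ i, i < 7192 → P i := stepQ 7191 Q7191 (allL N7191 (tt N7191 F51635) (tt N8120 (iv F55363)) (tt N6176 F51636) (tt N7579 F53099) (tt N6175 F51637) (tt N7191 F51638) (tt N7581 (iv F53110)) (tt N7582 (iv F53119)) (tt N6174 (iv D13078)))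
theorem Q7193 : ∀ i, i < 7193 → P i := stepQ 7192 Q7192 (allL N7192 (tt N6657 F51639) (tt N6181 F51640) (tt N7192 F51641) (tt N6180 (iv D13079)) (tt N6698 F51642) (tt N7192 F51643) (tt N6620 F51644) (tt N6695 (iv F51645)) (tt N7600 (iv F53201)))
theorem Q7194 : ∀ i, i < 7194 → P i := stepQ 7193 Q7193 (allL N7193 (tt N6385 F51646) (tt N6184 F51647) (tt N8117 (iv F55344)) (tt N8041 (iv F54988)) (tt N6225 F51648) (tt N6220 F51649) (tt N6188 F51650) (tt N6422 F51651) (tt N6183 (iv D13080)))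
theorem Q7195 : ∀ i, i < 7195 → P i := stepQ 7194 Q7194 (allL N7194 (tt N6188 F51652) (tt N6190 F51653) (tt N8118 (iv F55351)) (tt N8044 (iv F55007)) (tt N6393 F51654) (tt N6547 F51655) (tt N6385 F51656) (tt N7847 (iv F54148)) (tt N6186 (iv D13081)))
theorem Q7196 : ∀ i, i < 7196 → P i := stepQ 7195 Q7195 (allL N7195 (tt N6393 F51657) (tt N6189 F51658) (tt N8120 (iv F55364)) (tt N6767 F51659) (tt N6188 F51660) (tt N7195 F51661) (tt N6225 F51662) (tt N7968 (iv F54719)) (tt N6187 (iv D13082)))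
theorem Q7197 : ∀ i, i < 7197 → P i := stepQ 7196 Q7196 (allL N7196 (tt N6201 F51663) (tt N7473 (iv F52682)) (tt N6196 F51664) (tt N6234 F51665) (tt N6237 F51666) (tt N6235 F51667) (tt N6198 F51668) (tt N6784 (iv F51669)) (tt N6195 (iv D13083)))
theorem Q7198 : ∀ i, i < 7198 → P i := stepQ 7197 Q7197 (allL N7197 (tt N6202 F51670) (tt N6911 F51671) (tt N6784 F51672) (tt N7197 F51673) (tt N6238 F51674) (tt N6785 F51675) (tt N6199 F51676) (tt N6196 (iv D13084)) (tt N7197 F51677))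
theorem Q7199 : ∀ i, i < 7199 → P i := stepQ 7198 Q7198 (allL N7198 (tt N6197 (iv D13085)) (tt N6203 F51678) (tt N6912 F51679) (tt N6662 F51680) (tt N6239 F51681) (tt N7198 F51682) (tt N6663 F51683) (tt N7198 F51684) (tt N8121 D14008))
theorem Q7200 : ∀ i, i < 7200 → P i := stepQ 7199 Q7199 (allL N7199 (tt N8121 (iv F55368)) (tt N6198 F51685) (tt N6913 F51686) (tt N7968 (iv F54715)) (tt N6240 F51687) (tt N7199 F51688) (tt N7473 (iv F52686)) (tt N8122 D14009) (tt N6197 (iv D13086)))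
theorem Q7201 : ∀ i, i < 7201 → P i := stepQ 7200 Q7200 (allL N7200 (tt N6205 F51689) (tt N8122 (iv F55377)) (tt N6199 F51690) (tt N6783 F51691) (tt N6241 F51692) (tt N7200 F51693) (tt N6784 F51694) (tt N6198 (iv D13087)) (tt N7200 F51695))
theorem Q7202 : ∀ i, i < 7202 → P i := stepQ 7201 Q7201 (allL N7201 (tt N6204 F51696) (tt N8121 (iv F55369)) (tt N6207 F51697) (tt N6407 F51698) (tt N6250 F51699) (tt N7201 F51700) (tt N6408 F51701) (tt N6844 (iv F51702)) (tt N6203 (iv D13088)))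
theorem Q7203 : ∀ i, i < 7203 → P i := stepQ 7202 Q7202 (allL N7202 (tt N6208 F51703) (tt N6919 F51704) (tt N6844 F51705) (tt N6892 (iv F51710)) (tt N6253 F51706) (tt N7202 F51707) (tt N6845 F51708) (tt N6207 (iv D13089)) (tt N7202 F51709))
theorem Q7204 : ∀ i, i < 7204 → P i := stepQ 7203 Q7203 (allL N7203 (tt N6368 F51711) (tt N7203 F51712) (tt N8123 D14010) (tt N6210 (iv D13090)) (tt N7071 F51713) (tt N6742 F51714) (tt N6381 F51715) (tt N6920 F51716) (tt N8124 D14011))
theorem Q7205 : ∀ i, i < 7205 → P i := stepQ 7204 Q7204 (allL N7204 (tt N6369 F51717) (tt N7204 F51718) (tt N6212 F51719) (tt N8124 (iv F55392)) (tt N6380 F51720) (tt N6743 F51721) (tt N6383 F51722) (tt N6257 F51723) (tt N6210 (iv D13091)))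
theorem Q7206 : ∀ i, i < 7206 → P i := stepQ 7205 Q7205 (allL N7205 (tt N6370 F51724) (tt N7986 (iv F54787)) (tt N6211 (iv D13092)) (tt N8123 (iv F55385)) (tt N6372 F51725) (tt N6744 F51726) (tt N6375 F51727) (tt N6215 F51728) (tt N8125 D14012))
theorem Q7207 : ∀ i, i < 7207 → P i := stepQ 7206 Q7206 (allL N7206 (tt N6371 F51729) (tt N6227 F51730) (tt N8125 (iv F55397)) (tt N6212 F51731) (tt N6373 F51732) (tt N6746 F51733) (tt N6378 F51734) (tt N8126 D14013) (tt N6211 (iv D13093)))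
theorem Q7208 : ∀ i, i < 7208 → P i := stepQ 7207 Q7207 (allL N7207 (tt N6372 F51735) (tt N8127 D14014) (tt N6213 (iv D13094)) (tt N6930 F51736) (tt N6370 F51737) (tt N7990 (iv F54807)) (tt N6215 F51738) (tt N6375 F51739) (tt N8128 D14015))
theorem Q7209 : ∀ i, i < 7209 → P i := stepQ 7208 Q7208 (allL N7208 (tt N6373 F51740) (tt N6229 F51741) (tt N8128 (iv F55414)) (tt N6214 F51742) (tt N6371 F51743) (tt N8054 (iv F55060)) (tt N6217 F51744) (tt N8129 D14016) (tt N6213 (iv D13095)))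
theorem Q7210 : ∀ i, i < 7210 → P i := stepQ 7209 Q7209 (allL N7209 (tt N8130 D14017) (tt N6215 (iv D13096)) (tt N6230 F51745) (tt N6933 F51746) (tt N7969 (iv F54721)) (tt N6747 F51747) (tt N8127 (iv F55411)) (tt N7986 (iv F54790)) (tt N8131 D14018))
theorem Q7211 : ∀ i, i < 7211 → P i := stepQ 7210 Q7210 (allL N7210 (tt N6375 F51748) (tt N7969 (iv F54720)) (tt N6216 F51749) (tt N8132 D14019) (tt N6215 (iv D13097)) (tt N7971 (iv F54731)) (tt N6370 F51750) (tt N6372 F51751) (tt N8133 D14020))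
theorem Q7212 : ∀ i, i < 7212 → P i := stepQ 7211 Q7211 (allL N7211 (tt N6376 F51752) (tt N8131 (iv F55428)) (tt N6217 F51753) (tt N6935 F51754) (tt N8133 (iv F55439)) (tt N6749 F51755) (tt N8128 (iv F55417)) (tt N8134 D14021) (tt N6215 (iv D13098)))
theorem Q7213 : ∀ i, i < 7213 → P i := stepQ 7212 Q7212 (allL N7212 (tt N6378 F51756) (tt N6232 F51757) (tt N8133 (iv F55438)) (tt N6220 F51758) (tt N6217 F51759) (tt N8041 (iv F54990)) (tt N6371 F51760) (tt N8135 D14022) (tt N6216 (iv D13099)))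
theorem Q7214 : ∀ i, i < 7214 → P i := stepQ 7213 Q7213 (allL N7213 (tt N6379 F51761) (tt N6233 F51762) (tt N8134 (iv F55442)) (tt N6274 F51763) (tt N8135 (iv F55447)) (tt N6752 F51764) (tt N8129 (iv F55422)) (tt N6217 (iv D13100)) (tt N8126 (iv F55407)))
theorem Q7215 : ∀ i, i < 7215 → P i := stepQ 7214 Q7214 (allL N7214 (tt N6381 F51765) (tt N6530 F51766) (tt N8132 (iv F55433)) (tt N6218 (iv D13101)) (tt N6941 F51767) (tt N8103 (iv F55288)) (tt N6368 F51768) (tt N7035 F51769) (tt N8136 D14023))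
theorem Q7216 : ∀ i, i < 7216 → P i := stepQ 7215 Q7215 (allL N7215 (tt N6383 F51770) (tt N6531 F51771) (tt N6220 F51772) (tt N8136 (iv F55452)) (tt N6219 F51773) (tt N8117 (iv F55346)) (tt N6369 F51774) (tt N6417 F51775) (tt N6218 (iv D13102)))
theorem Q7217 : ∀ i, i < 7217 → P i := stepQ 7216 Q7216 (allL N7216 (tt N6386 F51776) (tt N7580 (iv F53101)) (tt N6760 F51777) (tt N6222 F51778) (tt N8137 D14024) (tt N6221 (iv D13103)) (tt N8119 (iv F55360)) (tt N7469 F52663) (tt N7470 (iv F52667)))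
theorem Q7218 : ∀ i, i < 7218 → P i := stepQ 7217 Q7217 (allL N7217 (tt N6390 F51779) (tt N7581 (iv F53108)) (tt N6225 F51780) (tt N7470 F52668) (tt N8117 (iv F55345)) (tt N6223 F51781) (tt N8120 (iv F55367)) (tt N7472 (iv F52677)) (tt N6222 (iv D13104)))
theorem Q7219 : ∀ i, i < 7219 → P i := stepQ 7218 Q7218 (allL N7218 (tt N6394 F51782) (tt N6234 F51783) (tt N7472 F52679) (tt N7473 (iv F52683)) (tt N6422 F51784) (tt N6226 F51785) (tt N7968 (iv F54718)) (tt N6225 (iv D13105)) (tt N6421 F51786))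
theorem Q7220 : ∀ i, i < 7220 → P i := stepQ 7219 Q7219 (allL N7219 (tt N6242 F51787) (tt N8126 (iv F55402)) (tt N8053 (iv F55051)) (tt N6305 F51788) (tt N6399 F51789) (tt N6773 F51790) (tt N6406 F51791) (tt N6227 (iv D13106)) (tt N6233 F51792))
theorem Q7221 : ∀ i, i < 7221 → P i := stepQ 7220 Q7220 (allL N7220 (tt N7901 (iv F54378)) (tt N6228 (iv D13107)) (tt N8127 (iv F55408)) (tt N6236 F51793) (tt N6396 F51794) (tt N7905 (iv F54403)) (tt N6230 F51795) (tt N6400 F51796) (tt N8138 D14025))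
theorem Q7222 : ∀ i, i < 7222 → P i := stepQ 7221 Q7221 (allL N7221 (tt N6243 F51797) (tt N8138 (iv F55461)) (tt N6229 F51798) (tt N6237 F51799) (tt N6397 F51800) (tt N7942 (iv F54596)) (tt N6231 F51801) (tt N8139 D14026) (tt N6228 (iv D13108)))
theorem Q7223 : ∀ i, i < 7223 → P i := stepQ 7222 Q7222 (allL N7222 (tt N6244 F51802) (tt N8129 (iv F55419)) (tt N8139 (iv F55466)) (tt N6313 F51803) (tt N6398 F51804) (tt N8085 (iv F55202)) (tt N6233 F51805) (tt N6229 (iv D13109)) (tt N6406 F51806))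
theorem Q7224 : ∀ i, i < 7224 → P i := stepQ 7223 Q7223 (allL N7223 (tt N6230 (iv D13110)) (tt N6245 F51807) (tt N8130 (iv F55425)) (tt N6239 F51808) (tt N7846 (iv F54139)) (tt N6308 F51809) (tt N7901 (iv F54382)) (tt N7858 (iv F54194)) (tt N8140 D14027))
theorem Q7225 : ∀ i, i < 7225 → P i := stepQ 7224 Q7224 (allL N7224 (tt N8140 (iv F55470)) (tt N6231 F51810) (tt N8131 (iv F55429)) (tt N6240 F51811) (tt N7970 (iv F54727)) (tt N6775 F51812) (tt N8138 (iv F55464)) (tt N8141 D14028) (tt N6230 (iv D13111)))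
theorem Q7226 : ∀ i, i < 7226 → P i := stepQ 7225 Q7225 (allL N7225 (tt N6247 F51813) (tt N8141 (iv F55474)) (tt N6233 F51814) (tt N8142 D14029) (tt N8040 (iv F54982)) (tt N6777 F51815) (tt N8139 (iv F55468)) (tt N6231 (iv D13112)) (tt N8053 (iv F55055)))
theorem Q7227 : ∀ i, i < 7227 → P i := stepQ 7226 Q7226 (allL N7226 (tt N6248 F51816) (tt N8135 (iv F55445)) (tt N8040 (iv F54980)) (tt N6478 F51817) (tt N6233 F51818) (tt N8042 (iv F54996)) (tt N6398 F51819) (tt N6232 (iv D13113)) (tt N6399 F51820))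
theorem Q7228 : ∀ i, i < 7228 → P i := stepQ 7227 Q7227 (allL N7227 (tt N7924 (iv F54491)) (tt N6237 F51821) (tt N6991 F51822) (tt N8138 (iv F55462)) (tt N7473 (iv F52684)) (tt N7925 (iv F54501)) (tt N6240 F51823) (tt N8143 D14030) (tt N6236 (iv D13114)))
theorem Q7229 : ∀ i, i < 7229 → P i := stepQ 7228 Q7228 (allL N7228 (tt N6249 F51824) (tt N8143 (iv F55481)) (tt N6238 F51825) (tt N8144 D14031) (tt N6784 F51826) (tt N7923 (iv F54487)) (tt N6241 F51827) (tt N6237 (iv D13115)) (tt N7228 F51828))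
theorem Q7230 : ∀ i, i < 7230 → P i := stepQ 7229 Q7229 (allL N7229 (tt N6240 F51829) (tt N6250 F51830) (tt N6993 F51831) (tt N8140 (iv F55472)) (tt N8121 (iv F55372)) (tt N6331 F51832) (tt N7924 (iv F54495)) (tt N8145 D14032) (tt N6239 (iv D13116)))
theorem Q7231 : ∀ i, i < 7231 → P i := stepQ 7230 Q7230 (allL N7230 (tt N8145 (iv F55491)) (tt N6241 F51833) (tt N6994 F51834) (tt N8146 D14033) (tt N8122 (iv F55380)) (tt N6786 F51835) (tt N8143 (iv F55484)) (tt N6240 (iv D13117)) (tt N7230 F51836))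
theorem Q7232 : ∀ i, i < 7232 → P i := stepQ 7231 Q7231 (allL N7231 (tt N6252 F51837) (tt N8146 (iv F55498)) (tt N6335 F51838) (tt N6241 (iv D13118)) (tt N8147 D14034) (tt N6787 F51839) (tt N8144 (iv F55489)) (tt N8142 (iv F55479)) (tt N7231 F51840))
theorem Q7233 : ∀ i, i < 7233 → P i := stepQ 7232 Q7232 (allL N7232 (tt N8139 (iv F55465)) (tt N7940 (iv F54579)) (tt N6244 F51841) (tt N8148 D14035) (tt N6410 F51842) (tt N7943 (iv F54601)) (tt N6247 F51843) (tt N6243 (iv D13119)) (tt N6412 F51844))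
theorem Q7234 : ∀ i, i < 7234 → P i := stepQ 7233 Q7233 (allL N7233 (tt N6246 F51845) (tt N8140 (iv F55471)) (tt N6307 F51846) (tt N6250 F51847) (tt N7889 (iv F54319)) (tt N6310 F51848) (tt N7902 (iv F54389)) (tt N8149 D14036) (tt N6245 (iv D13120)))
theorem Q7235 : ∀ i, i < 7235 → P i := stepQ 7234 Q7234 (allL N7234 (tt N8149 (iv F55512)) (tt N6247 F51849) (tt N6346 F51850) (tt N8150 D14037) (tt N7931 (iv F54530)) (tt N6348 F51851) (tt N7940 (iv F54584)) (tt N6246 (iv D13121)) (tt N7941 (iv F54591)))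
theorem Q7236 : ∀ i, i < 7236 → P i := stepQ 7235 Q7235 (allL N7235 (tt N8142 (iv F55476)) (tt N8150 (iv F55515)) (tt N6357 F51852) (tt N6247 (iv D13122)) (tt N8080 (iv F55175)) (tt N6791 F51853) (tt N8148 (iv F55509)) (tt N6252 F51854) (tt N8084 (iv F55198)))
theorem Q7237 : ∀ i, i < 7237 → P i := stepQ 7236 Q7236 (allL N7236 (tt N8144 (iv F55486)) (tt N6855 F51855) (tt N6364 F51856) (tt N6249 (iv D13123)) (tt N6795 F51857) (tt N7955 (iv F54669)) (tt N6252 F51858) (tt N8148 (iv F55510)) (tt N7236 F51859))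
theorem Q7238 : ∀ i, i < 7238 → P i := stepQ 7237 Q7237 (allL N7237 (tt N6251 F51860) (tt N8145 (iv F55492)) (tt N6253 F51861) (tt N8151 D14038) (tt N6844 F51862) (tt N6332 F51863) (tt N6846 F51864) (tt N6250 (iv D13124)) (tt N7237 F51865))
theorem Q7239 : ∀ i, i < 7239 → P i := stepQ 7238 Q7238 (allL N7238 (tt N8151 (iv F55520)) (tt N6252 F51866) (tt N7955 (iv F54667)) (tt N6251 (iv D13125)) (tt N6853 F51867) (tt N6364 F51868) (tt N6855 F51869) (tt N8150 (iv F55519)) (tt N7238 F51870))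
theorem Q7240 : ∀ i, i < 7240 → P i := stepQ 7239 Q7239 (allL N7239 (tt N8147 (iv F55501)) (tt N6853 F51871) (tt N6367 F51872) (tt N6794 F51873) (tt N6252 (iv D13126)) (tt N7956 (iv F54675)) (tt N6795 F51874) (tt N8080 (iv F55177)) (tt N7239 F51875))
theorem Q7241 : ∀ i, i < 7241 → P i := stepQ 7240 Q7240 (allL N7240 (tt N6415 F51876) (tt N7240 F51877) (tt N6258 F51878) (tt N8152 D14039) (tt N6661 F51879) (tt N6255 F51880) (tt N7631 (iv F53362)) (tt N6254 (iv D13127)) (tt N8153 D14040))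
theorem Q7242 : ∀ i, i < 7242 → P i := stepQ 7241 Q7241 (allL N7241 (tt N6416 F51881) (tt N7241 F51882) (tt N8154 D14041) (tt N6255 (iv D13128)) (tt N8155 D14042) (tt N8152 (iv F55527)) (tt N6256 F51883) (tt N7520 (iv F52847)) (tt N8156 D14043))
theorem Q7243 : ∀ i, i < 7243 → P i := stepQ 7242 Q7242 (allL N7242 (tt N6417 F51884) (tt N7242 F51885) (tt N6260 F51886) (tt N8156 (iv F55544)) (tt N6384 F51887) (tt N8153 (iv F55533)) (tt N6257 F51888) (tt N6383 F51889) (tt N6255 (iv D13129)))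
theorem Q7244 : ∀ i, i < 7244 → P i := stepQ 7243 Q7243 (allL N7243 (tt N6418 F51890) (tt N8157 D14044) (tt N6256 (iv D13130)) (tt N6261 F51891) (tt N8158 D14045) (tt N7843 (iv F54127)) (tt N8154 (iv F55537)) (tt N7696 (iv F53625)) (tt N8159 D14046))
theorem Q7245 : ∀ i, i < 7245 → P i := stepQ 7244 Q7244 (allL N7244 (tt N6419 F51892) (tt N7244 F51893) (tt N8158 (iv F55549)) (tt N6623 F51894) (tt N6256 (iv D13131)) (tt N8160 D14047) (tt N8155 (iv F55541)) (tt N7697 (iv F53629)) (tt N8161 D14048))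
theorem Q7246 : ∀ i, i < 7246 → P i := stepQ 7245 Q7245 (allL N7245 (tt N6420 F51895) (tt N7245 F51896) (tt N8159 (iv F55551)) (tt N6257 F51897) (tt N8161 (iv F55559)) (tt N7845 (iv F54136)) (tt N8156 (iv F55545)) (tt N8162 D14049) (tt N6256 (iv D13132)))
theorem Q7247 : ∀ i, i < 7247 → P i := stepQ 7246 Q7246 (allL N7246 (tt N6396 F51898) (tt N6296 F51899) (tt N8163 D14050) (tt N6258 (iv D13133)) (tt N7901 (iv F54380)) (tt N6259 F51900) (tt N7846 (iv F54141)) (tt N6264 F51901) (tt N8164 D14051))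
theorem Q7248 : ∀ i, i < 7248 → P i := stepQ 7247 Q7247 (allL N7247 (tt N6422 F51902) (tt N6297 F51903) (tt N8153 (iv F55531)) (tt N8164 (iv F55567)) (tt N6394 F51904) (tt N6260 F51905) (tt N7847 (iv F54147)) (tt N6385 F51906) (tt N6258 (iv D13134)))
theorem Q7249 : ∀ i, i < 7249 → P i := stepQ 7248 Q7248 (allL N7248 (tt N6423 F51907) (tt N8165 D14052) (tt N6259 (iv D13135)) (tt N8154 (iv F55536)) (tt N6694 F51908) (tt N8163 (iv F55563)) (tt N6261 F51909) (tt N6266 F51910) (tt N8166 D14053))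
theorem Q7250 : ∀ i, i < 7250 → P i := stepQ 7249 Q7249 (allL N7249 (tt N6425 F51911) (tt N6299 F51912) (tt N8166 (iv F55575)) (tt N6260 F51913) (tt N6463 F51914) (tt N8164 (iv F55568)) (tt N6263 F51915) (tt N8167 D14054) (tt N6259 (iv D13136)))
theorem Q7251 : ∀ i, i < 7251 → P i := stepQ 7250 Q7250 (allL N7250 (tt N8168 D14055) (tt N6261 (iv D13137)) (tt N6300 F51916) (tt N8157 (iv F55547)) (tt N8169 D14056) (tt N7851 (iv F54163)) (tt N8165 (iv F55572)) (tt N6269 F51917) (tt N8170 D14057))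
theorem Q7252 : ∀ i, i < 7252 → P i := stepQ 7251 Q7251 (allL N7251 (tt N6427 F51918) (tt N8169 (iv F55588)) (tt N6262 F51919) (tt N8171 D14058) (tt N6261 (iv D13138)) (tt N8172 D14059) (tt N6694 F51920) (tt N6270 F51921) (tt N8173 D14060))
theorem Q7253 : ∀ i, i < 7253 → P i := stepQ 7252 Q7252 (allL N7252 (tt N6428 F51922) (tt N8170 (iv F55592)) (tt N6263 F51923) (tt N8159 (iv F55552)) (tt N8173 (iv F55602)) (tt N7853 (iv F54170)) (tt N8166 (iv F55577)) (tt N8174 D14061) (tt N6261 (iv D13139)))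
theorem Q7254 : ∀ i, i < 7254 → P i := stepQ 7253 Q7253 (allL N7253 (tt N6429 F51924) (tt N6303 F51925) (tt N8172 (iv F55598)) (tt N6626 F51926) (tt N7854 (iv F54174)) (tt N6262 (iv D13140)) (tt N7911 (iv F54433)) (tt N6272 F51927) (tt N8175 D14062))
theorem Q7255 : ∀ i, i < 7255 → P i := stepQ 7254 Q7254 (allL N7254 (tt N6430 F51928) (tt N6304 F51929) (tt N8173 (iv F55601)) (tt N6453 F51930) (tt N6263 F51931) (tt N8175 (iv F55610)) (tt N6463 F51932) (tt N8176 D14063) (tt N6262 (iv D13141)))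
theorem Q7256 : ∀ i, i < 7256 → P i := stepQ 7255 Q7255 (allL N7255 (tt N6431 F51933) (tt N6305 F51934) (tt N8174 (iv F55605)) (tt N8126 (iv F55403)) (tt N8176 (iv F55614)) (tt N7856 (iv F54184)) (tt N8167 (iv F55582)) (tt N6263 (iv D13142)) (tt N6274 F51935))
theorem Q7257 : ∀ i, i < 7257 → P i := stepQ 7256 Q7256 (allL N7256 (tt N6374 F51936) (tt N8130 (iv F55424)) (tt N6264 (iv D13143)) (tt N7061 F51937) (tt N8177 D14064) (tt N6266 F51938) (tt N7857 (iv F54188)) (tt N8163 (iv F55564)) (tt N8178 D14065))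
theorem Q7258 : ∀ i, i < 7258 → P i := stepQ 7257 Q7257 (allL N7257 (tt N6400 F51939) (tt N6306 F51940) (tt N8177 (iv F55618)) (tt N7257 F51941) (tt N6264 (iv D13144)) (tt N7890 (iv F54325)) (tt N7858 (iv F54193)) (tt N7901 (iv F54383)) (tt N8179 D14066))
theorem Q7259 : ∀ i, i < 7259 → P i := stepQ 7258 Q7258 (allL N7258 (tt N6401 F51942) (tt N6307 F51943) (tt N8178 (iv F55620)) (tt N6265 F51944) (tt N8179 (iv F55626)) (tt N6268 F51945) (tt N7859 (iv F54199)) (tt N8180 D14067) (tt N6264 (iv D13145)))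
theorem Q7260 : ∀ i, i < 7260 → P i := stepQ 7259 Q7259 (allL N7259 (tt N6747 F51946) (tt N6266 (iv D13146)) (tt N6308 F51947) (tt N7265 (iv F51970)) (tt N8181 D14068) (tt N8130 (iv F55427)) (tt N6269 F51948) (tt N8165 (iv F55573)) (tt N8182 D14069))
theorem Q7261 : ∀ i, i < 7261 → P i := stepQ 7260 Q7260 (allL N7260 (tt N6432 F51949) (tt N8181 (iv F55631)) (tt N6267 F51950) (tt N8183 D14070) (tt N6266 (iv D13147)) (tt N8184 D14071) (tt N6270 F51951) (tt N6694 F51952) (tt N8185 D14072))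
theorem Q7262 : ∀ i, i < 7262 → P i := stepQ 7261 Q7261 (allL N7261 (tt N6433 F51953) (tt N8182 (iv F55636)) (tt N6268 F51954) (tt N7430 (iv F52546)) (tt N8185 (iv F55647)) (tt N8178 (iv F55622)) (tt N6271 F51955) (tt N8186 D14073) (tt N6266 (iv D13148)))
theorem Q7263 : ∀ i, i < 7263 → P i := stepQ 7262 Q7262 (allL N7262 (tt N6434 F51956) (tt N6311 F51957) (tt N8184 (iv F55643)) (tt N6277 F51958) (tt N7890 (iv F54324)) (tt N6267 (iv D13149)) (tt N7895 (iv F54353)) (tt N6693 F51959) (tt N8187 D14074))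
theorem Q7264 : ∀ i, i < 7264 → P i := stepQ 7263 Q7263 (allL N7263 (tt N6435 F51960) (tt N6312 F51961) (tt N8185 (iv F55646)) (tt N6278 F51962) (tt N6268 F51963) (tt N8187 (iv F55655)) (tt N6273 F51964) (tt N8188 D14075) (tt N6267 (iv D13150)))
theorem Q7265 : ∀ i, i < 7265 → P i := stepQ 7264 Q7264 (allL N7264 (tt N6436 F51965) (tt N6313 F51966) (tt N8186 (iv F55650)) (tt N8129 (iv F55420)) (tt N8188 (iv F55659)) (tt N8180 (iv F55629)) (tt N6274 F51967) (tt N6268 (iv D13151)) (tt N8167 (iv F55583)))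
theorem Q7266 : ∀ i, i < 7266 → P i := stepQ 7265 Q7265 (allL N7265 (tt N6269 (iv D13152)) (tt N6437 F51968) (tt N6314 F51969) (tt N7259 F51970) (tt N8189 D14076) (tt N7865 (iv F54223)) (tt N6747 F51971) (tt N8168 (iv F55587)) (tt N8190 D14077))
theorem Q7267 : ∀ i, i < 7267 → P i := stepQ 7266 Q7266 (allL N7266 (tt N8189 (iv F55662)) (tt N6270 F51972) (tt N6315 F51973) (tt N8191 D14078) (tt N6269 (iv D13153)) (tt N8192 D14079) (tt N8181 (iv F55633)) (tt N8169 (iv F55591)) (tt N8193 D14080))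
theorem Q7268 : ∀ i, i < 7268 → P i := stepQ 7267 Q7267 (allL N7267 (tt N8190 (iv F55666)) (tt N6271 F51974) (tt N6316 F51975) (tt N7705 (iv F53651)) (tt N8193 (iv F55677)) (tt N7867 (iv F54229)) (tt N8182 (iv F55638)) (tt N8194 D14081) (tt N6269 (iv D13154)))
theorem Q7269 : ∀ i, i < 7269 → P i := stepQ 7268 Q7268 (allL N7268 (tt N6440 F51976) (tt N8191 (iv F55671)) (tt N6279 F51977) (tt N6270 (iv D13155)) (tt N7706 (iv F53654)) (tt N8195 D14082) (tt N8183 (iv F55641)) (tt N8196 D14083) (tt N8197 D14084))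
theorem Q7270 : ∀ i, i < 7270 → P i := stepQ 7269 Q7269 (allL N7269 (tt N6441 F51978) (tt N8192 (iv F55673)) (tt N6272 F51979) (tt N8195 (iv F55682)) (tt N7869 (iv F54234)) (tt N6270 (iv D13156)) (tt N8198 D14085) (tt N8172 (iv F55599)) (tt N8199 D14086))
theorem Q7271 : ∀ i, i < 7271 → P i := stepQ 7270 Q7270 (allL N7270 (tt N6442 F51980) (tt N8193 (iv F55675)) (tt N6273 F51981) (tt N8197 (iv F55687)) (tt N6271 F51982) (tt N8199 (iv F55692)) (tt N8185 (iv F55648)) (tt N8200 D14087) (tt N6270 (iv D13157)))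
theorem Q7272 : ∀ i, i < 7272 → P i := stepQ 7271 Q7271 (allL N7271 (tt N6443 F51983) (tt N8194 (iv F55678)) (tt N6274 F51984) (tt N8201 D14088) (tt N8200 (iv F55695)) (tt N7871 (iv F54240)) (tt N8186 (iv F55651)) (tt N6271 (iv D13158)) (tt N8174 (iv F55606)))
theorem Q7273 : ∀ i, i < 7273 → P i := stepQ 7272 Q7272 (allL N7272 (tt N6444 F51985) (tt N6320 F51986) (tt N8198 (iv F55689)) (tt N6283 F51987) (tt N7872 (iv F54244)) (tt N7895 (iv F54352)) (tt N6272 (iv D13159)) (tt N7911 (iv F54434)) (tt N8202 D14089))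
theorem Q7274 : ∀ i, i < 7274 → P i := stepQ 7273 Q7273 (allL N7273 (tt N6445 F51988) (tt N6321 F51989) (tt N8199 (iv F55691)) (tt N6284 F51990) (tt N7873 (iv F54250)) (tt N6273 F51991) (tt N8202 (iv F55700)) (tt N8203 D14090) (tt N6272 (iv D13160)))
theorem Q7275 : ∀ i, i < 7275 → P i := stepQ 7274 Q7274 (allL N7274 (tt N6446 F51992) (tt N6322 F51993) (tt N8200 (iv F55694)) (tt N8204 D14091) (tt N6274 F51994) (tt N8203 (iv F55703)) (tt N8188 (iv F55660)) (tt N6273 (iv D13161)) (tt N8176 (iv F55616)))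
theorem Q7276 : ∀ i, i < 7276 → P i := stepQ 7275 Q7275 (allL N7275 (tt N6447 F51995) (tt N7275 F51996) (tt N8183 (iv F55640)) (tt N6275 (iv D13162)) (tt N7530 (iv F52883)) (tt N8205 D14092) (tt N6279 F51997) (tt N8206 D14093) (tt N8207 D14094))
theorem Q7277 : ∀ i, i < 7277 → P i := stepQ 7276 Q7276 (allL N7276 (tt N6448 F51998) (tt N7276 F51999) (tt N6277 F52000) (tt N8205 (iv F55712)) (tt N7276 F52001) (tt N6275 (iv D13163)) (tt N8208 D14095) (tt N6631 F52002) (tt N8209 D14096))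
theorem Q7278 : ∀ i, i < 7278 → P i := stepQ 7277 Q7277 (allL N7277 (tt N6449 F52003) (tt N7277 F52004) (tt N6278 F52005) (tt N8207 (iv F55719)) (tt N6276 F52006) (tt N8209 (iv F55731)) (tt N6281 F52007) (tt N6673 F52008) (tt N6275 (iv D13164)))
theorem Q7279 : ∀ i, i < 7279 → P i := stepQ 7278 Q7278 (allL N7278 (tt N6451 F52009) (tt N6323 F52010) (tt N8208 (iv F55723)) (tt N7895 F54355) (tt N7278 F52011) (tt N6283 F52012) (tt N6277 (iv D13165)) (tt N6632 F52013) (tt N8210 D14097))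
theorem Q7280 : ∀ i, i < 7280 → P i := stepQ 7279 Q7279 (allL N7279 (tt N6452 F52014) (tt N6324 F52015) (tt N8209 (iv F55729)) (tt N8187 (iv F55654)) (tt N7279 F52016) (tt N6278 F52017) (tt N8210 (iv F55737)) (tt N6675 F52018) (tt N6277 (iv D13166)))
theorem Q7281 : ∀ i, i < 7281 → P i := stepQ 7280 Q7280 (allL N7280 (tt N6454 F52019) (tt N7280 F52020) (tt N8195 (iv F55681)) (tt N6280 F52021) (tt N8211 D14098) (tt N6279 (iv D13167)) (tt N8212 D14099) (tt N8213 D14100) (tt N8214 D14101))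
theorem Q7282 : ∀ i, i < 7282 → P i := stepQ 7281 Q7281 (allL N7281 (tt N6455 F52022) (tt N7281 F52023) (tt N8196 (iv F55684)) (tt N6634 F52024) (tt N7713 (iv F53675)) (tt N8213 (iv F55750)) (tt N8206 (iv F55716)) (tt N6279 (iv D13168)) (tt N8215 D14102))
theorem Q7283 : ∀ i, i < 7283 → P i := stepQ 7282 Q7282 (allL N7282 (tt N6456 F52025) (tt N7282 F52026) (tt N8197 (iv F55686)) (tt N6281 F52027) (tt N7714 (iv F53679)) (tt N8214 (iv F55755)) (tt N8207 (iv F55720)) (tt N8216 D14103) (tt N6279 (iv D13169)))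
theorem Q7284 : ∀ i, i < 7284 → P i := stepQ 7283 Q7283 (allL N7283 (tt N6457 F52028) (tt N7283 F52029) (tt N6283 F52030) (tt N8212 (iv F55744)) (tt N6289 F52031) (tt N8208 (iv F55725)) (tt N6280 (iv D13170)) (tt N6636 F52032) (tt N8217 D14104))
theorem Q7285 : ∀ i, i < 7285 → P i := stepQ 7284 Q7284 (allL N7284 (tt N6458 F52033) (tt N7284 F52034) (tt N6284 F52035) (tt N8214 (iv F55754)) (tt N6290 F52036) (tt N6281 F52037) (tt N8217 (iv F55765)) (tt N8218 D14105) (tt N6280 (iv D13171)))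
theorem Q7286 : ∀ i, i < 7286 → P i := stepQ 7285 Q7285 (allL N7285 (tt N6459 F52038) (tt N7285 F52039) (tt N6285 F52040) (tt N8219 D14106) (tt N6282 F52041) (tt N8218 (iv F55770)) (tt N6673 F52042) (tt N6281 (iv D13172)) (tt N6638 F52043))
theorem Q7287 : ∀ i, i < 7287 → P i := stepQ 7286 Q7286 (allL N7286 (tt N6460 F52044) (tt N7286 F52045) (tt N6665 F52046) (tt N6282 (iv D13173)) (tt N8220 D14107) (tt N6292 F52047) (tt N6667 F52048) (tt N7718 (iv F53700)) (tt N6639 F52049))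
theorem Q7288 : ∀ i, i < 7288 → P i := stepQ 7287 Q7287 (allL N7287 (tt N6461 F52050) (tt N6325 F52051) (tt N8217 (iv F55763)) (tt N8202 (iv F55699)) (tt N6293 F52052) (tt N8210 (iv F55736)) (tt N6284 F52053) (tt N8221 D14108) (tt N6283 (iv D13174)))
theorem Q7289 : ∀ i, i < 7289 → P i := stepQ 7288 Q7288 (allL N7288 (tt N6462 F52054) (tt N6326 F52055) (tt N8218 (iv F55768)) (tt N8222 D14109) (tt N6294 F52056) (tt N6285 F52057) (tt N8221 (iv F55785)) (tt N6284 (iv D13175)) (tt N6641 F52058))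
theorem Q7290 : ∀ i, i < 7290 → P i := stepQ 7289 Q7289 (allL N7289 (tt N6463 F52059) (tt N6327 F52060) (tt N8223 D14110) (tt N6285 (iv D13176)) (tt N6425 F52061) (tt N8222 (iv F55789)) (tt N6430 F52062) (tt N8204 (iv F55708)) (tt N6424 F52063))
theorem Q7291 : ∀ i, i < 7291 → P i := stepQ 7290 Q7290 (allL N7290 (tt N6464 F52064) (tt N7290 F52065) (tt N7885 (iv F54301)) (tt N8211 (iv F55741)) (tt N6286 (iv D13177)) (tt N7722 (iv F53716)) (tt N7617 (iv F53286)) (tt N7616 F53281) (tt N8224 D14111))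
theorem Q7292 : ∀ i, i < 7292 → P i := stepQ 7291 Q7291 (allL N7291 (tt N6465 F52066) (tt N7291 F52067) (tt N7886 (iv F54303)) (tt N6289 F52068) (tt N7617 (iv F53284)) (tt N7291 F52069) (tt N6286 (iv D13178)) (tt N7615 F53275) (tt N8225 D14112))
theorem Q7293 : ∀ i, i < 7293 → P i := stepQ 7292 Q7292 (allL N7292 (tt N6466 F52070) (tt N7292 F52071) (tt N7787 (iv F53900)) (tt N6644 F52072) (tt N7616 (iv F53280)) (tt N6287 F52073) (tt N7615 (iv F53276)) (tt N6286 (iv D13179)) (tt N7381 F52397))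
theorem Q7294 : ∀ i, i < 7294 → P i := stepQ 7293 Q7293 (allL N7293 (tt N6467 F52074) (tt N7293 F52075) (tt N7788 (iv F53906)) (tt N6290 F52076) (tt N8224 (iv F55798)) (tt N6288 F52077) (tt N8225 (iv F55803)) (tt N7382 (iv F52402)) (tt N6286 (iv D13180)))
theorem Q7295 : ∀ i, i < 7295 → P i := stepQ 7294 Q7294 (allL N7294 (tt N6470 F52078) (tt N7294 F52079) (tt N6293 F52080) (tt N8225 (iv F55801)) (tt N8217 (iv F55764)) (tt N7294 F52081) (tt N6290 F52082) (tt N8226 D14113) (tt N6289 (iv D13181)))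
theorem Q7296 : ∀ i, i < 7296 → P i := stepQ 7295 Q7295 (allL N7295 (tt N6471 F52083) (tt N7295 F52084) (tt N6294 F52085) (tt N7384 (iv F52409)) (tt N8218 (iv F55769)) (tt N6291 F52086) (tt N8226 (iv F55808)) (tt N6290 (iv D13182)) (tt N6647 F52087))
theorem Q7297 : ∀ i, i < 7297 → P i := stepQ 7296 Q7296 (allL N7296 (tt N6474 F52088) (tt N6328 F52089) (tt N8226 (iv F55806)) (tt N7840 (iv F54108)) (tt N8221 (iv F55783)) (tt N7296 F52090) (tt N6294 F52091) (tt N6293 (iv D13183)) (tt N6648 F52092))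
theorem Q7298 : ∀ i, i < 7298 → P i := stepQ 7297 Q7297 (allL N7297 (tt N6475 F52093) (tt N6329 F52094) (tt N7386 (iv F52417)) (tt N6294 (iv D13184)) (tt N7925 (iv F54500)) (tt N6295 F52095) (tt N7840 (iv F54111)) (tt N7792 (iv F53928)) (tt N6649 F52096))
theorem Q7299 : ∀ i, i < 7299 → P i := stepQ 7298 Q7298 (allL N7298 (tt N6336 F52097) (tt N8164 (iv F55566)) (tt N7903 (iv F54391)) (tt N6297 F52098) (tt N7902 (iv F54387)) (tt N6299 F52099) (tt N7889 (iv F54321)) (tt N8227 D14114) (tt N6296 (iv D13185)))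
theorem Q7300 : ∀ i, i < 7300 → P i := stepQ 7299 Q7299 (allL N7299 (tt N6770 F52100) (tt N6298 (iv D13186)) (tt N8165 (iv F55570)) (tt N7299 F52101) (tt N6703 F52102) (tt N7858 (iv F54192)) (tt N6300 F52103) (tt N6308 F52104) (tt N8228 D14115))
theorem Q7301 : ∀ i, i < 7301 → P i := stepQ 7300 Q7300 (allL N7300 (tt N6337 F52105) (tt N8228 (iv F55815)) (tt N6299 F52106) (tt N7300 F52107) (tt N6506 F52108) (tt N7903 (iv F54394)) (tt N6302 F52109) (tt N8229 D14116) (tt N6298 (iv D13187)))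
theorem Q7302 : ∀ i, i < 7302 → P i := stepQ 7301 Q7301 (allL N7301 (tt N6338 F52110) (tt N8167 (iv F55579)) (tt N8229 (iv F55820)) (tt N6406 F52111) (tt N6501 F52112) (tt N8227 (iv F55812)) (tt N6305 F52113) (tt N6299 (iv D13188)) (tt N6313 F52114))
theorem Q7303 : ∀ i, i < 7303 → P i := stepQ 7302 Q7302 (allL N7302 (tt N6300 (iv D13189)) (tt N6339 F52115) (tt N8168 (iv F55585)) (tt N7302 F52116) (tt N7997 (iv F54837)) (tt N7894 (iv F54346)) (tt N6770 F52117) (tt N6314 F52118) (tt N8230 D14117))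
theorem Q7304 : ∀ i, i < 7304 → P i := stepQ 7303 Q7303 (allL N7303 (tt N7997 (iv F54834)) (tt N6301 F52119) (tt N8169 (iv F55589)) (tt N6741 (iv F52122)) (tt N6300 (iv D13190)) (tt N7872 (iv F54245)) (tt N6703 F52120) (tt N6315 F52121) (tt N8231 D14118))
theorem Q7305 : ∀ i, i < 7305 → P i := stepQ 7304 Q7304 (allL N7304 (tt N8230 (iv F55824)) (tt N6302 F52123) (tt N8170 (iv F55593)) (tt N7304 F52124) (tt N8231 (iv F55830)) (tt N7896 (iv F54358)) (tt N8228 (iv F55818)) (tt N8232 D14119) (tt N6300 (iv D13191)))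
theorem Q7306 : ∀ i, i < 7306 → P i := stepQ 7305 Q7305 (allL N7305 (tt N6341 F52125) (tt N8231 (iv F55828)) (tt N6304 F52126) (tt N6609 F52127) (tt N6302 F52128) (tt N7917 (iv F54460)) (tt N6506 F52129) (tt N8233 D14120) (tt N6301 (iv D13192)))
theorem Q7307 : ∀ i, i < 7307 → P i := stepQ 7306 Q7306 (allL N7306 (tt N6342 F52130) (tt N8232 (iv F55832)) (tt N6305 F52131) (tt N8234 D14121) (tt N8233 (iv F55837)) (tt N7898 (iv F54367)) (tt N8229 (iv F55822)) (tt N6302 (iv D13193)) (tt N6319 F52132))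
theorem Q7308 : ∀ i, i < 7308 → P i := stepQ 7307 Q7307 (allL N7307 (tt N6343 F52133) (tt N8175 (iv F55608)) (tt N7917 (iv F54457)) (tt N6503 F52134) (tt N7899 (iv F54372)) (tt N6304 F52135) (tt N7914 (iv F54446)) (tt N8235 D14122) (tt N6303 (iv D13194)))
theorem Q7309 : ∀ i, i < 7309 → P i := stepQ 7308 Q7308 (allL N7308 (tt N6344 F52136) (tt N8176 (iv F55612)) (tt N8233 (iv F55835)) (tt N6490 F52137) (tt N6305 F52138) (tt N8235 (iv F55845)) (tt N6501 F52139) (tt N6304 (iv D13195)) (tt N6322 F52140))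
theorem Q7310 : ∀ i, i < 7310 → P i := stepQ 7309 Q7309 (allL N7309 (tt N6345 F52141) (tt N8179 (iv F55624)) (tt N7889 (iv F54317)) (tt N7309 F52142) (tt N6307 F52143) (tt N7891 (iv F54332)) (tt N7903 (iv F54395)) (tt N8236 D14123) (tt N6306 (iv D13196)))
theorem Q7311 : ∀ i, i < 7311 → P i := stepQ 7310 Q7310 (allL N7310 (tt N6346 F52144) (tt N8180 (iv F55628)) (tt N8149 (iv F55513)) (tt N8085 (iv F55200)) (tt N8236 (iv F55848)) (tt N6313 F52145) (tt N7904 (iv F54399)) (tt N6307 (iv D13197)) (tt N8227 (iv F55813)))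
theorem Q7312 : ∀ i, i < 7312 → P i := stepQ 7311 Q7311 (allL N7311 (tt N6774 F52146) (tt N6309 F52147) (tt N8181 (iv F55632)) (tt N7311 F52148) (tt N6308 (iv D13198)) (tt N7849 (iv F54155)) (tt N6315 F52149) (tt N6703 F52150) (tt N8237 D14124))
theorem Q7313 : ∀ i, i < 7313 → P i := stepQ 7312 Q7312 (allL N7312 (tt N6775 F52151) (tt N6310 F52152) (tt N8182 (iv F55637)) (tt N6331 F52153) (tt N8237 (iv F55852)) (tt N8140 (iv F55473)) (tt N6316 F52154) (tt N8238 D14125) (tt N6308 (iv D13199)))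
theorem Q7314 : ∀ i, i < 7314 → P i := stepQ 7313 Q7313 (allL N7313 (tt N6347 F52155) (tt N8237 (iv F55850)) (tt N6312 F52156) (tt N7313 F52157) (tt N6310 F52158) (tt N7892 (iv F54338)) (tt N6318 F52159) (tt N8239 D14126) (tt N6309 (iv D13200)))
theorem Q7315 : ∀ i, i < 7315 → P i := stepQ 7314 Q7314 (allL N7314 (tt N6348 F52160) (tt N8238 (iv F55855)) (tt N6313 F52161) (tt N8240 D14127) (tt N8239 (iv F55859)) (tt N8149 (iv F55514)) (tt N6319 F52162) (tt N6310 (iv D13201)) (tt N8229 (iv F55823)))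
theorem Q7316 : ∀ i, i < 7316 → P i := stepQ 7315 Q7315 (allL N7315 (tt N6349 F52163) (tt N8187 (iv F55653)) (tt N7892 (iv F54335)) (tt N6324 F52164) (tt N7891 (iv F54331)) (tt N6312 F52165) (tt N7897 (iv F54364)) (tt N8241 D14128) (tt N6311 (iv D13202)))
theorem Q7317 : ∀ i, i < 7317 → P i := stepQ 7316 Q7316 (allL N7316 (tt N6350 F52166) (tt N8188 (iv F55657)) (tt N8239 (iv F55858)) (tt N6487 F52167) (tt N6313 F52168) (tt N8241 (iv F55867)) (tt N6322 F52169) (tt N6312 (iv D13203)) (tt N6501 F52170))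
theorem Q7318 : ∀ i, i < 7318 → P i := stepQ 7317 Q7317 (allL N7317 (tt N6315 F52171) (tt N6351 F52172) (tt N8189 (iv F55664)) (tt N7317 F52173) (tt N6314 (iv D13204)) (tt N7983 (iv F54778)) (tt N6774 F52174) (tt N7997 (iv F54839)) (tt N8242 D14129))
theorem Q7319 : ∀ i, i < 7319 → P i := stepQ 7318 Q7318 (allL N7318 (tt N6316 F52175) (tt N6352 F52176) (tt N8190 (iv F55668)) (tt N6333 F52177) (tt N8242 (iv F55872)) (tt N7910 (iv F54428)) (tt N6775 F52178) (tt N8243 D14130) (tt N6314 (iv D13205)))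
theorem Q7320 : ∀ i, i < 7320 → P i := stepQ 7319 Q7319 (allL N7319 (tt N7983 (iv F54774)) (tt N6317 F52179) (tt N8192 (iv F55674)) (tt N7319 F52180) (tt N7911 (iv F54432)) (tt N6315 (iv D13206)) (tt N7854 (iv F54175)) (tt N7872 (iv F54246)) (tt N8244 D14131))
theorem Q7321 : ∀ i, i < 7321 → P i := stepQ 7320 Q7320 (allL N7320 (tt N8242 (iv F55869)) (tt N6318 F52181) (tt N8193 (iv F55676)) (tt N7320 F52182) (tt N6316 F52183) (tt N8244 (iv F55879)) (tt N8237 (iv F55853)) (tt N8245 D14132) (tt N6315 (iv D13207)))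
theorem Q7322 : ∀ i, i < 7322 → P i := stepQ 7321 Q7321 (allL N7321 (tt N8243 (iv F55874)) (tt N6319 F52184) (tt N8194 (iv F55679)) (tt N8246 D14133) (tt N8245 (iv F55881)) (tt N7913 (iv F54440)) (tt N8238 (iv F55856)) (tt N6316 (iv D13208)) (tt N8232 (iv F55833)))
theorem Q7323 : ∀ i, i < 7323 → P i := stepQ 7322 Q7322 (allL N7322 (tt N6355 F52185) (tt N8244 (iv F55877)) (tt N6321 F52186) (tt N7322 F52187) (tt N7914 (iv F54444)) (tt N6318 F52188) (tt N7899 (iv F54374)) (tt N8247 D14134) (tt N6317 (iv D13209)))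
theorem Q7324 : ∀ i, i < 7324 → P i := stepQ 7323 Q7323 (allL N7323 (tt N6356 F52189) (tt N8245 (iv F55880)) (tt N6322 F52190) (tt N8248 D14135) (tt N6319 F52191) (tt N8247 (iv F55886)) (tt N8239 (iv F55860)) (tt N6318 (iv D13210)) (tt N8233 (iv F55839)))
theorem Q7325 : ∀ i, i < 7325 → P i := stepQ 7324 Q7324 (allL N7324 (tt N6357 F52192) (tt N8246 (iv F55882)) (tt N8142 (iv F55477)) (tt N6319 (iv D13211)) (tt N8249 D14136) (tt N7916 (iv F54454)) (tt N8240 (iv F55863)) (tt N6335 F52193) (tt N8234 (iv F55842)))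
theorem Q7326 : ∀ i, i < 7326 → P i := stepQ 7325 Q7325 (allL N7325 (tt N6358 F52194) (tt N8202 (iv F55698)) (tt N7899 (iv F54370)) (tt N6325 F52195) (tt N7917 (iv F54459)) (tt N7897 (iv F54363)) (tt N6321 F52196) (tt N8250 D14137) (tt N6320 (iv D13212)))
theorem Q7327 : ∀ i, i < 7327 → P i := stepQ 7326 Q7326 (allL N7326 (tt N6359 F52197) (tt N8203 (iv F55702)) (tt N8247 (iv F55885)) (tt N8251 D14138) (tt N7918 (iv F54463)) (tt N6322 F52198) (tt N8250 (iv F55894)) (tt N6321 (iv D13213)) (tt N8235 (iv F55846)))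
theorem Q7328 : ∀ i, i < 7328 → P i := stepQ 7327 Q7327 (allL N7327 (tt N6360 F52199) (tt N8204 (iv F55705)) (tt N6837 (iv F52204)) (tt N6322 (iv D13214)) (tt N6478 F52200) (tt N8251 (iv F55896)) (tt N6487 F52201) (tt N6327 F52202) (tt N6490 F52203))
theorem Q7329 : ∀ i, i < 7329 → P i := stepQ 7328 Q7328 (allL N7328 (tt N6361 F52205) (tt N8210 (iv F55734)) (tt N7328 F52206) (tt N7897 (iv F54361)) (tt N7328 F52207) (tt N6325 F52208) (tt N6324 F52209) (tt N6702 F52210) (tt N6323 (iv D13215)))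
theorem Q7330 : ∀ i, i < 7330 → P i := stepQ 7329 Q7329 (allL N7329 (tt N6362 F52211) (tt N8221 (iv F55782)) (tt N7329 F52212) (tt N7946 (iv F54617)) (tt N6328 F52213) (tt N6702 F52214) (tt N6326 F52215) (tt N6325 (iv D13216)) (tt N6651 F52216))
theorem Q7331 : ∀ i, i < 7331 → P i := stepQ 7330 Q7330 (allL N7330 (tt N6363 F52217) (tt N8222 (iv F55788)) (tt N6836 (iv F52220)) (tt N6326 (iv D13217)) (tt N7942 (iv F54595)) (tt N6327 F52218) (tt N7946 (iv F54620)) (tt N8251 (iv F55897)) (tt N6477 F52219))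
theorem Q7332 : ∀ i, i < 7332 → P i := stepQ 7331 Q7331 (allL N7331 (tt N6786 F52221) (tt N6332 F52222) (tt N7333 (iv F52231)) (tt N8252 D14139) (tt N7331 F52223) (tt N8145 (iv F55495)) (tt N6334 F52224) (tt N6331 (iv D13218)) (tt N7331 F52225))
theorem Q7333 : ∀ i, i < 7333 → P i := stepQ 7332 Q7332 (allL N7332 (tt N6364 F52226) (tt N8252 (iv F55901)) (tt N8144 (iv F55487)) (tt N6332 (iv D13219)) (tt N8253 D14140) (tt N8151 (iv F55522)) (tt N6335 F52227) (tt N8240 (iv F55864)) (tt N7332 F52228))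
theorem Q7334 : ∀ i, i < 7334 → P i := stepQ 7333 Q7333 (allL N7333 (tt N6334 F52229) (tt N6365 F52230) (tt N7331 F52231) (tt N8254 D14141) (tt N7333 F52232) (tt N7928 (iv F54516)) (tt N6786 F52233) (tt N6333 (iv D13220)) (tt N7333 F52234))
theorem Q7335 : ∀ i, i < 7335 → P i := stepQ 7334 Q7334 (allL N7334 (tt N8254 (iv F55910)) (tt N6335 F52235) (tt N8255 D14142) (tt N6334 (iv D13221)) (tt N8256 D14143) (tt N7929 (iv F54519)) (tt N8252 (iv F55902)) (tt N8246 (iv F55883)) (tt N7334 F52236))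
theorem Q7336 : ∀ i, i < 7336 → P i := stepQ 7335 Q7335 (allL N7335 (tt N6367 F52237) (tt N8256 (iv F55915)) (tt N8147 (iv F55502)) (tt N7335 F52238) (tt N6335 (iv D13222)) (tt N8101 (iv F55280)) (tt N8253 (iv F55908)) (tt N8249 (iv F55892)) (tt N7335 F52239))
theorem Q7337 : ∀ i, i < 7337 → P i := stepQ 7336 Q7336 (allL N7336 (tt N8227 (iv F55810)) (tt N6410 F52240) (tt N7941 (iv F54587)) (tt N6413 F52241) (tt N7940 (iv F54582)) (tt N6338 F52242) (tt N7931 (iv F54532)) (tt N6336 (iv D13223)) (tt N6346 F52243))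
theorem Q7338 : ∀ i, i < 7338 → P i := stepQ 7337 Q7337 (allL N7337 (tt N8229 (iv F55819)) (tt N6788 F52244) (tt N6338 F52245) (tt N8257 D14144) (tt N6528 F52246) (tt N7941 (iv F54589)) (tt N6342 F52247) (tt N6337 (iv D13224)) (tt N6348 F52248))
theorem Q7339 : ∀ i, i < 7339 → P i := stepQ 7338 Q7338 (allL N7338 (tt N6340 F52249) (tt N8230 (iv F55825)) (tt N6509 F52250) (tt N7338 F52251) (tt N8058 (iv F55081)) (tt N7934 (iv F54550)) (tt N6771 F52252) (tt N8258 D14145) (tt N6339 (iv D13225)))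
theorem Q7340 : ∀ i, i < 7340 → P i := stepQ 7339 Q7339 (allL N7339 (tt N8258 (iv F55923)) (tt N6342 F52253) (tt N6511 F52254) (tt N8259 D14146) (tt N8087 (iv F55214)) (tt N7935 (iv F54555)) (tt N6788 F52255) (tt N6340 (iv D13226)) (tt N6354 F52256))
theorem Q7341 : ∀ i, i < 7341 → P i := stepQ 7340 Q7340 (allL N7340 (tt N8233 (iv F55834)) (tt N8087 (iv F55211)) (tt N6344 F52257) (tt N6852 F52258) (tt N6342 F52259) (tt N7952 (iv F54653)) (tt N6528 F52260) (tt N6341 (iv D13227)) (tt N6356 F52261))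
theorem Q7342 : ∀ i, i < 7342 → P i := stepQ 7341 Q7341 (allL N7341 (tt N8234 (iv F55840)) (tt N8259 (iv F55927)) (tt N8084 (iv F55193)) (tt N6342 (iv D13228)) (tt N8096 (iv F55255)) (tt N7937 (iv F54566)) (tt N8257 (iv F55920)) (tt N7341 F52262) (tt N6357 F52263))
theorem Q7343 : ∀ i, i < 7343 → P i := stepQ 7342 Q7342 (allL N7342 (tt N8235 (iv F55843)) (tt N6515 F52264) (tt N7952 (iv F54650)) (tt N6517 F52265) (tt N7938 (iv F54571)) (tt N6344 F52266) (tt N7950 (iv F54641)) (tt N6343 (iv D13229)) (tt N6359 F52267))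
theorem Q7344 : ∀ i, i < 7344 → P i := stepQ 7343 Q7343 (allL N7343 (tt N8236 (iv F55847)) (tt N6412 F52268) (tt N7931 (iv F54528)) (tt N8260 D14147) (tt N6346 F52269) (tt N7932 (iv F54537)) (tt N7941 (iv F54590)) (tt N6345 (iv D13230)) (tt N7940 (iv F54585)))
theorem Q7345 : ∀ i, i < 7345 → P i := stepQ 7344 Q7344 (allL N7344 (tt N8239 (iv F55857)) (tt N6790 F52270) (tt N6350 F52271) (tt N8261 D14148) (tt N6348 F52272) (tt N7933 (iv F54543)) (tt N6356 F52273) (tt N6347 (iv D13231)) (tt N6528 F52274))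
theorem Q7346 : ∀ i, i < 7346 → P i := stepQ 7345 Q7345 (allL N7345 (tt N8240 (iv F55862)) (tt N6791 F52275) (tt N8148 (iv F55507)) (tt N6348 (iv D13232)) (tt N8262 D14149) (tt N8150 (iv F55517)) (tt N6357 F52276) (tt N6364 F52277) (tt N8257 (iv F55922)))
theorem Q7347 : ∀ i, i < 7347 → P i := stepQ 7346 Q7346 (allL N7346 (tt N8241 (iv F55865)) (tt N6517 F52278) (tt N7933 (iv F54541)) (tt N6515 F52279) (tt N7932 (iv F54536)) (tt N6350 F52280) (tt N7936 (iv F54563)) (tt N6349 (iv D13233)) (tt N6527 F52281))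
theorem Q7348 : ∀ i, i < 7348 → P i := stepQ 7347 Q7347 (allL N7347 (tt N6353 F52282) (tt N8242 (iv F55870)) (tt N6519 F52283) (tt N7347 F52284) (tt N6352 F52285) (tt N8050 (iv F55040)) (tt N6776 F52286) (tt N8263 D14150) (tt N6351 (iv D13234)))
theorem Q7349 : ∀ i, i < 7349 → P i := stepQ 7348 Q7348 (allL N7348 (tt N6354 F52287) (tt N8243 (iv F55875)) (tt N6520 F52288) (tt N8264 D14151) (tt N8263 (iv F55947)) (tt N7947 (iv F54623)) (tt N6777 F52289) (tt N6352 (iv D13235)) (tt N8258 (iv F55926)))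
theorem Q7350 : ∀ i, i < 7350 → P i := stepQ 7349 Q7349 (allL N7349 (tt N8263 (iv F55945)) (tt N6356 F52290) (tt N6522 F52291) (tt N8265 D14152) (tt N6354 F52292) (tt N8081 (iv F55183)) (tt N6790 F52293) (tt N6353 (iv D13236)) (tt N8087 (iv F55217)))
theorem Q7351 : ∀ i, i < 7351 → P i := stepQ 7350 Q7350 (allL N7350 (tt N8264 (iv F55949)) (tt N6357 F52294) (tt N7944 (iv F54604)) (tt N6354 (iv D13237)) (tt N8097 (iv F55259)) (tt N7949 (iv F54633)) (tt N6791 F52295) (tt N6366 F52296) (tt N8259 (iv F55930)))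
theorem Q7352 : ∀ i, i < 7352 → P i := stepQ 7351 Q7351 (allL N7351 (tt N8247 (iv F55884)) (tt N8081 (iv F55180)) (tt N6359 F52297) (tt N8266 D14153) (tt N7950 (iv F54639)) (tt N6356 F52298) (tt N7938 (iv F54573)) (tt N6355 (iv D13238)) (tt N7952 (iv F54655)))
theorem Q7353 : ∀ i, i < 7353 → P i := stepQ 7352 Q7352 (allL N7352 (tt N8248 (iv F55887)) (tt N8265 (iv F55952)) (tt N6849 F52299) (tt N6356 (iv D13239)) (tt N8083 (iv F55190)) (tt N8266 (iv F55957)) (tt N8261 (iv F55937)) (tt N7352 F52300) (tt N6852 F52301))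
theorem Q7354 : ∀ i, i < 7354 → P i := stepQ 7353 Q7353 (allL N7353 (tt N8249 (iv F55891)) (tt N8097 (iv F55258)) (tt N8080 F55179) (tt N8083 (iv F55189)) (tt N6357 (iv D13240)) (tt N8098 (iv F55264)) (tt N8262 (iv F55943)) (tt N6367 F52302) (tt N8096 (iv F55257)))
theorem Q7355 : ∀ i, i < 7355 → P i := stepQ 7354 Q7354 (allL N7354 (tt N8250 (iv F55893)) (tt N6526 F52303) (tt N7938 (iv F54570)) (tt N7948 (iv F54626)) (tt N7952 (iv F54652)) (tt N7936 (iv F54562)) (tt N6359 F52304) (tt N6358 (iv D13241)) (tt N7950 (iv F54642)))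
theorem Q7356 : ∀ i, i < 7356 → P i := stepQ 7355 Q7355 (allL N7355 (tt N8251 (iv F55895)) (tt N6527 F52305) (tt N6848 (iv F52309)) (tt N6359 (iv D13242)) (tt N7943 (iv F54600)) (tt N6360 F52306) (tt N7948 (iv F54629)) (tt N6363 F52307) (tt N6517 F52308))
theorem Q7357 : ∀ i, i < 7357 → P i := stepQ 7356 Q7356 (allL N7356 (tt N8253 (iv F55904)) (tt N6797 F52310) (tt N6795 F52311) (tt N7356 F52312) (tt N6364 (iv D13243)) (tt N6796 F52313) (tt N6367 F52314) (tt N8262 (iv F55944)) (tt N7356 F52315))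
theorem Q7358 : ∀ i, i < 7358 → P i := stepQ 7357 Q7357 (allL N7357 (tt N6366 F52316) (tt N8254 (iv F55911)) (tt N7927 (iv F54509)) (tt N6365 (iv D13244)) (tt N8075 (iv F55151)) (tt N7957 (iv F54681)) (tt N6787 F52317) (tt N8264 (iv F55951)) (tt N7357 F52318))
theorem Q7359 : ∀ i, i < 7359 → P i := stepQ 7358 Q7358 (allL N7358 (tt N8123 (iv F55384)) (tt N8267 D14154) (tt N6368 (iv D13245)) (tt N6370 F52319) (tt N8268 D14155) (tt N6798 F52320) (tt N8132 (iv F55435)) (tt N7037 F52321) (tt N8269 D14156))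
theorem Q7360 : ∀ i, i < 7360 → P i := stepQ 7359 Q7359 (allL N7359 (tt N7071 F52322) (tt N6533 F52323) (tt N8268 (iv F55965)) (tt N6652 F52324) (tt N6368 (iv D13246)) (tt N7695 (iv F53622)) (tt N6941 F52325) (tt N7038 F52326) (tt N8270 D14157))
theorem Q7361 : ∀ i, i < 7361 → P i := stepQ 7360 Q7360 (allL N7360 (tt N8124 (iv F55390)) (tt N6534 F52327) (tt N8269 (iv F55969)) (tt N6369 F52328) (tt N8270 (iv F55975)) (tt N6800 F52329) (tt N8136 (iv F55454)) (tt N8271 D14158) (tt N6368 (iv D13247)))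
theorem Q7362 : ∀ i, i < 7362 → P i := stepQ 7361 Q7361 (allL N7361 (tt N8163 (iv F55562)) (tt N6370 (iv D13248)) (tt N6396 F52330) (tt N8267 (iv F55961)) (tt N8127 (iv F55410)) (tt N6423 F52331) (tt N7969 (iv F54723)) (tt N6374 F52332) (tt N8272 D14159))
theorem Q7363 : ∀ i, i < 7363 → P i := stepQ 7362 Q7362 (allL N7362 (tt N8125 (iv F55396)) (tt N8272 (iv F55981)) (tt N6371 F52333) (tt N8269 (iv F55970)) (tt N8128 (iv F55416)) (tt N6802 F52334) (tt N8133 (iv F55440)) (tt N8273 D14160) (tt N6370 (iv D13249)))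
theorem Q7364 : ∀ i, i < 7364 → P i := stepQ 7363 Q7363 (allL N7363 (tt N8126 (iv F55401)) (tt N6398 F52335) (tt N8273 (iv F55984)) (tt N6431 F52336) (tt N8129 (iv F55421)) (tt N6805 F52337) (tt N8135 (iv F55448)) (tt N6371 (iv D13250)) (tt N6379 F52338))
theorem Q7365 : ∀ i, i < 7365 → P i := stepQ 7364 Q7364 (allL N7364 (tt N8128 (iv F55413)) (tt N7987 (iv F54792)) (tt N6373 F52339) (tt N7057 F52340) (tt N8125 (iv F55398)) (tt N7992 (iv F54820)) (tt N6376 F52341) (tt N8274 D14161) (tt N6372 (iv D13251)))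
theorem Q7366 : ∀ i, i < 7366 → P i := stepQ 7365 Q7365 (allL N7365 (tt N8129 (iv F55418)) (tt N6399 F52342) (tt N8274 (iv F55987)) (tt N6436 F52343) (tt N8126 (iv F55404)) (tt N8056 (iv F55070)) (tt N6379 F52344) (tt N6373 (iv D13252)) (tt N8135 (iv F55449)))
theorem Q7367 : ∀ i, i < 7367 → P i := stepQ 7366 Q7366 (allL N7366 (tt N8177 (iv F55617)) (tt N6375 F52345) (tt N6400 F52346) (tt N8275 D14162) (tt N6374 (iv D13253)) (tt N8276 D14163) (tt N7986 (iv F54789)) (tt N8127 (iv F55412)) (tt N8277 D14164))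
theorem Q7368 : ∀ i, i < 7368 → P i := stepQ 7367 Q7367 (allL N7367 (tt N8178 (iv F55619)) (tt N6376 F52347) (tt N6401 F52348) (tt N7063 F52349) (tt N8277 (iv F55997)) (tt N6433 F52350) (tt N7987 (iv F54795)) (tt N8278 D14165) (tt N6374 (iv D13254)))
theorem Q7369 : ∀ i, i < 7369 → P i := stepQ 7368 Q7368 (allL N7368 (tt N8132 (iv F55432)) (tt N8275 (iv F55989)) (tt N6381 F52351) (tt N6375 (iv D13255)) (tt N7064 F52352) (tt N8279 D14166) (tt N8123 (iv F55388)) (tt N8280 D14167) (tt N8281 D14168))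
theorem Q7370 : ∀ i, i < 7370 → P i := stepQ 7369 Q7369 (allL N7369 (tt N7971 F54734) (tt N8276 (iv F55992)) (tt N6377 F52353) (tt N8279 (iv F56002)) (tt N6807 F52354) (tt N6375 (iv D13256)) (tt N7976 (iv F54754)) (tt N7990 (iv F54809)) (tt N8282 D14169))
theorem Q7371 : ∀ i, i < 7371 → P i := stepQ 7370 Q7370 (allL N7370 (tt N8133 (iv F55437)) (tt N8277 (iv F55995)) (tt N6378 F52355) (tt N8281 (iv F56009)) (tt N6376 F52356) (tt N8282 (iv F56013)) (tt N8125 (iv F55400)) (tt N8283 D14170) (tt N6375 (iv D13257)))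
theorem Q7372 : ∀ i, i < 7372 → P i := stepQ 7371 Q7371 (allL N7371 (tt N8134 (iv F55441)) (tt N8278 (iv F55998)) (tt N6379 F52357) (tt N8284 D14171) (tt N8283 (iv F56015)) (tt N6809 F52358) (tt N8274 (iv F55988)) (tt N6376 (iv D13258)) (tt N8273 (iv F55986)))
theorem Q7373 : ∀ i, i < 7373 → P i := stepQ 7372 Q7372 (allL N7372 (tt N8041 (iv F54986)) (tt N6405 F52359) (tt N8282 (iv F56011)) (tt N6385 F52360) (tt N6811 F52361) (tt N6378 F52362) (tt N8044 (iv F55010)) (tt N8285 D14172) (tt N6377 (iv D13259)))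
theorem Q7374 : ∀ i, i < 7374 → P i := stepQ 7373 Q7373 (allL N7373 (tt N8135 (iv F55444)) (tt N6406 F52363) (tt N8283 (iv F56014)) (tt N8167 (iv F55580)) (tt N6379 F52364) (tt N8285 (iv F56021)) (tt N8126 (iv F55406)) (tt N6378 (iv D13260)) (tt N8129 (iv F55423)))
theorem Q7375 : ∀ i, i < 7375 → P i := stepQ 7374 Q7374 (allL N7374 (tt N8103 F55291) (tt N7374 F52365) (tt N8279 (iv F56001)) (tt N6382 F52366) (tt N8286 D14173) (tt N6381 (iv D13261)) (tt N8109 (iv F55314)) (tt N8287 D14174) (tt N8288 D14175))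
theorem Q7376 : ∀ i, i < 7376 → P i := stepQ 7375 Q7375 (allL N7375 (tt N7035 F52367) (tt N7375 F52368) (tt N8280 (iv F56004)) (tt N6655 F52369) (tt N7079 F52370) (tt N8287 (iv F56028)) (tt N6920 F52371) (tt N6381 (iv D13262)) (tt N8289 D14176))
theorem Q7377 : ∀ i, i < 7377 → P i := stepQ 7376 Q7376 (allL N7376 (tt N8136 (iv F55450)) (tt N7376 F52372) (tt N8281 (iv F56008)) (tt N6383 F52373) (tt N7080 F52374) (tt N8288 (iv F56032)) (tt N8124 (iv F55395)) (tt N8290 D14177) (tt N6381 (iv D13263)))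
theorem Q7378 : ∀ i, i < 7378 → P i := stepQ 7377 Q7377 (allL N7377 (tt N8117 (iv F55342)) (tt N7377 F52375) (tt N6385 F52376) (tt N8288 (iv F56031)) (tt N6390 F52377) (tt N6383 F52378) (tt N8118 (iv F55354)) (tt N8153 (iv F55534)) (tt N6382 (iv D13264)))
theorem Q7379 : ∀ i, i < 7379 → P i := stepQ 7378 Q7378 (allL N7378 (tt N6665 F52379) (tt N7378 F52380) (tt N6460 F52381) (tt N6384 (iv D13265)) (tt N8291 D14178) (tt N6392 F52382) (tt N6624 F52383) (tt N7084 F52384) (tt N6621 F52385))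
theorem Q7380 : ∀ i, i < 7380 → P i := stepQ 7379 Q7379 (allL N7379 (tt N8137 (iv F55455)) (tt N7379 F52386) (tt N6823 F52387) (tt N8286 (iv F56023)) (tt N6386 (iv D13266)) (tt N7088 F52388) (tt N8292 D14179) (tt N8293 D14180) (tt N8294 D14181))
theorem Q7381 : ∀ i, i < 7381 → P i := stepQ 7380 Q7380 (allL N7380 (tt N8119 (iv F55355)) (tt N7380 F52389) (tt N6824 F52390) (tt N6389 F52391) (tt N8292 (iv F56050)) (tt N7380 F52392) (tt N6386 (iv D13267)) (tt N8295 D14182) (tt N8296 D14183))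
theorem Q7382 : ∀ i, i < 7382 → P i := stepQ 7381 Q7381 (allL N7381 (tt N7469 (iv F52659)) (tt N7381 F52393) (tt N6825 F52394) (tt N6658 F52395) (tt N8293 (iv F56056)) (tt N6387 F52396) (tt N8295 (iv F56072)) (tt N6386 (iv D13268)) (tt N7292 (iv F52397)))
theorem Q7383 : ∀ i, i < 7383 → P i := stepQ 7382 Q7382 (allL N7382 (tt N7470 (iv F52664)) (tt N7382 F52398) (tt N6826 F52399) (tt N6390 F52400) (tt N8294 (iv F56063)) (tt N6388 F52401) (tt N8296 (iv F56078)) (tt N7293 F52402) (tt N6386 (iv D13269)))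
theorem Q7384 : ∀ i, i < 7384 → P i := stepQ 7383 Q7383 (allL N7383 (tt N8120 (iv F55362)) (tt N7383 F52403) (tt N6393 F52404) (tt N8296 (iv F56076)) (tt N8118 (iv F55352)) (tt N7383 F52405) (tt N6390 F52406) (tt N8297 D14184) (tt N6389 (iv D13270)))
theorem Q7385 : ∀ i, i < 7385 → P i := stepQ 7384 Q7384 (allL N7384 (tt N7472 (iv F52674)) (tt N7384 F52407) (tt N6394 F52408) (tt N7295 F52409) (tt N8153 (iv F55532)) (tt N6391 F52410) (tt N8297 (iv F56084)) (tt N6390 (iv D13271)) (tt N6661 F52411))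
theorem Q7386 : ∀ i, i < 7386 → P i := stepQ 7385 Q7385 (allL N7385 (tt N7968 (iv F54713)) (tt N6407 F52412) (tt N8297 (iv F56081)) (tt N8121 (iv F55371)) (tt N7847 (iv F54145)) (tt N7385 F52413) (tt N6394 F52414) (tt N6393 (iv D13272)) (tt N6662 F52415))
theorem Q7387 : ∀ i, i < 7387 → P i := stepQ 7386 Q7386 (allL N7386 (tt N7473 (iv F52681)) (tt N6408 F52416) (tt N7297 F52417) (tt N6394 (iv D13273)) (tt N7924 (iv F54493)) (tt N6395 F52418) (tt N8121 (iv F55374)) (tt N6834 F52419) (tt N6663 F52420))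
theorem Q7388 : ∀ i, i < 7388 → P i := stepQ 7387 Q7387 (allL N7387 (tt N8164 (iv F55565)) (tt N6397 F52421) (tt N8272 (iv F55982)) (tt N6422 F52422) (tt N8138 (iv F55463)) (tt N6425 F52423) (tt N7970 (iv F54729)) (tt N8298 D14185) (tt N6396 (iv D13274)))
theorem Q7389 : ∀ i, i < 7389 → P i := stepQ 7388 Q7388 (allL N7388 (tt N6410 F52424) (tt N8298 (iv F56086)) (tt N6398 F52425) (tt N8042 (iv F54994)) (tt N8139 (iv F55467)) (tt N6478 F52426) (tt N8040 (iv F54984)) (tt N6397 (iv D13275)) (tt N6404 F52427))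
theorem Q7390 : ∀ i, i < 7390 → P i := stepQ 7389 Q7389 (allL N7389 (tt N7890 (iv F54322)) (tt N6402 F52428) (tt N8276 (iv F55993)) (tt N7389 F52429) (tt N6434 F52430) (tt N6400 (iv D13276)) (tt N7894 (iv F54347)) (tt N7905 (iv F54405)) (tt N8299 D14186))
theorem Q7391 : ∀ i, i < 7391 → P i := stepQ 7390 Q7390 (allL N7390 (tt N8179 (iv F55623)) (tt N6403 F52431) (tt N8277 (iv F55996)) (tt N7390 F52432) (tt N6401 F52433) (tt N8299 (iv F56092)) (tt N7988 (iv F54800)) (tt N8300 D14187) (tt N6400 (iv D13277)))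
theorem Q7392 : ∀ i, i < 7392 → P i := stepQ 7391 Q7391 (allL N7391 (tt N8180 (iv F55627)) (tt N6404 F52434) (tt N8278 (iv F55999)) (tt N8056 (iv F55069)) (tt N8300 (iv F56094)) (tt N6436 F52435) (tt N7989 (iv F54804)) (tt N6401 (iv D13278)) (tt N8298 (iv F56088)))
theorem Q7393 : ∀ i, i < 7393 → P i := stepQ 7392 Q7392 (allL N7392 (tt N6411 F52436) (tt N8299 (iv F56089)) (tt N6405 F52437) (tt N7392 F52438) (tt N6489 F52439) (tt N6403 F52440) (tt N7934 (iv F54551)) (tt N8301 D14188) (tt N6402 (iv D13279)))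
theorem Q7394 : ∀ i, i < 7394 → P i := stepQ 7393 Q7393 (allL N7393 (tt N6412 F52441) (tt N8300 (iv F56093)) (tt N6406 F52442) (tt N8302 D14189) (tt N6404 F52443) (tt N8301 (iv F56098)) (tt N8053 (iv F55054)) (tt N6403 (iv D13280)) (tt N8139 (iv F55469)))
theorem Q7395 : ∀ i, i < 7395 → P i := stepQ 7394 Q7394 (allL N7394 (tt N6413 F52444) (tt N8285 (iv F56019)) (tt N8301 (iv F56096)) (tt N8227 (iv F55811)) (tt N6839 F52445) (tt N6406 F52446) (tt N8078 (iv F55166)) (tt N6405 (iv D13281)) (tt N8085 (iv F55204)))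
theorem Q7396 : ∀ i, i < 7396 → P i := stepQ 7395 Q7395 (allL N7395 (tt N8301 (iv F56095)) (tt N7932 (iv F54534)) (tt N6413 F52447) (tt N8303 D14190) (tt N6517 F52448) (tt N6412 F52449) (tt N7935 (iv F54556)) (tt N6411 (iv D13282)) (tt N7943 (iv F54603)))
theorem Q7397 : ∀ i, i < 7397 → P i := stepQ 7396 Q7396 (allL N7396 (tt N8302 (iv F56099)) (tt N8260 (iv F55931)) (tt N8257 (iv F55919)) (tt N6412 (iv D13283)) (tt N8086 (iv F55206)) (tt N8303 (iv F56101)) (tt N8084 (iv F55196)) (tt N7396 F52450) (tt N8148 (iv F55511)))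
theorem Q7398 : ∀ i, i < 7398 → P i := stepQ 7397 Q7397 (allL N7397 (tt N8152 (iv F55525)) (tt N6532 F52451) (tt N8267 (iv F55960)) (tt N6415 (iv D13284)) (tt N7664 (iv F53491)) (tt N6416 F52452) (tt N7958 (iv F54685)) (tt N7176 F52453) (tt N8304 D14191))
theorem Q7399 : ∀ i, i < 7399 → P i := stepQ 7398 Q7398 (allL N7398 (tt N8153 (iv F55529)) (tt N6535 F52454) (tt N6422 F52455) (tt N8304 (iv F56104)) (tt N7472 F52680) (tt N6417 F52456) (tt N7959 (iv F54689)) (tt N8117 (iv F55348)) (tt N6415 (iv D13285)))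
theorem Q7400 : ∀ i, i < 7400 → P i := stepQ 7399 Q7399 (allL N7399 (tt N8154 (iv F55535)) (tt N6798 F52457) (tt N6416 (iv D13286)) (tt N6423 F52458) (tt N8305 D14192) (tt N8267 (iv F55962)) (tt N6418 F52459) (tt N7402 (iv F52469)) (tt N8306 D14193))
theorem Q7401 : ∀ i, i < 7401 → P i := stepQ 7400 Q7400 (allL N7400 (tt N8155 (iv F55538)) (tt N6537 F52460) (tt N8305 (iv F56107)) (tt N6664 F52461) (tt N6416 (iv D13287)) (tt N7666 (iv F53496)) (tt N6419 F52462) (tt N7521 (iv F52851)) (tt N8307 D14194))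
theorem Q7402 : ∀ i, i < 7402 → P i := stepQ 7401 Q7401 (allL N7401 (tt N8156 (iv F55542)) (tt N6538 F52463) (tt N8306 (iv F56110)) (tt N6417 F52464) (tt N8307 (iv F56115)) (tt N8304 (iv F56105)) (tt N6420 F52465) (tt N8308 D14195) (tt N6416 (iv D13288)))
theorem Q7403 : ∀ i, i < 7403 → P i := stepQ 7402 Q7402 (allL N7402 (tt N8309 D14196) (tt N6418 (iv D13289)) (tt N6539 F52466) (tt N6426 F52467) (tt N8310 D14197) (tt N7962 (iv F54698)) (tt N6798 F52468) (tt N7399 F52469) (tt N8311 D14198))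
theorem Q7404 : ∀ i, i < 7404 → P i := stepQ 7403 Q7403 (allL N7403 (tt N8158 (iv F55548)) (tt N8310 (iv F56123)) (tt N6419 F52470) (tt N8312 D14199) (tt N6418 (iv D13290)) (tt N8313 D14200) (tt N8305 (iv F56108)) (tt N7751 (iv F53808)) (tt N8314 D14201))
theorem Q7405 : ∀ i, i < 7405 → P i := stepQ 7404 Q7404 (allL N7404 (tt N8159 (iv F55550)) (tt N8311 (iv F56127)) (tt N6420 F52471) (tt N6428 F52472) (tt N8314 (iv F56135)) (tt N7964 (iv F54702)) (tt N8306 (iv F56112)) (tt N8315 D14202) (tt N6418 (iv D13291)))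
theorem Q7406 : ∀ i, i < 7406 → P i := stepQ 7405 Q7405 (allL N7405 (tt N8160 (iv F55553)) (tt N6542 F52473) (tt N8313 (iv F56133)) (tt N6668 F52474) (tt N7965 (iv F54705)) (tt N6419 (iv D13292)) (tt N8316 D14203) (tt N7753 (iv F53814)) (tt N8317 D14204))
theorem Q7407 : ∀ i, i < 7407 → P i := stepQ 7406 Q7406 (allL N7406 (tt N8161 (iv F55556)) (tt N6543 F52475) (tt N8314 (iv F56134)) (tt N6669 F52476) (tt N6420 F52477) (tt N8317 (iv F56141)) (tt N8307 (iv F56116)) (tt N8318 D14205) (tt N6419 (iv D13293)))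
theorem Q7408 : ∀ i, i < 7408 → P i := stepQ 7407 Q7407 (allL N7407 (tt N8162 (iv F55560)) (tt N6544 F52478) (tt N8315 (iv F56136)) (tt N8271 (iv F55978)) (tt N8318 (iv F56143)) (tt N7967 (iv F54712)) (tt N8308 (iv F56118)) (tt N6420 (iv D13294)) (tt N7755 (iv F53819)))
theorem Q7409 : ∀ i, i < 7409 → P i := stepQ 7408 Q7408 (allL N7408 (tt N6694 F52479) (tt N6801 F52480) (tt N6424 F52481) (tt N8319 D14206) (tt N6423 (iv D13295)) (tt N8320 D14207) (tt N6427 F52482) (tt N6432 F52483) (tt N8223 (iv F55795)))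
theorem Q7410 : ∀ i, i < 7410 → P i := stepQ 7409 Q7409 (allL N7409 (tt N8166 (iv F55574)) (tt N6802 F52484) (tt N6425 F52485) (tt N8306 (iv F56111)) (tt N8223 (iv F55793)) (tt N8272 (iv F55983)) (tt N6428 F52486) (tt N8321 D14208) (tt N6423 (iv D13296)))
theorem Q7411 : ∀ i, i < 7411 → P i := stepQ 7410 Q7410 (allL N7410 (tt N6693 F52487) (tt N6477 F52488) (tt N8320 (iv F56150)) (tt N6641 F52489) (tt N7905 (iv F54402)) (tt N6424 (iv D13297)) (tt N7909 (iv F54422)) (tt N6434 F52490) (tt N8222 (iv F55790)))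
theorem Q7412 : ∀ i, i < 7412 → P i := stepQ 7411 Q7411 (allL N7411 (tt N8167 (iv F55578)) (tt N6478 F52491) (tt N8321 (iv F56153)) (tt N8135 (iv F55446)) (tt N8204 (iv F55706)) (tt N8298 (iv F56087)) (tt N6431 F52492) (tt N6425 (iv D13298)) (tt N6436 F52493))
theorem Q7413 : ∀ i, i < 7413 → P i := stepQ 7412 Q7412 (allL N7412 (tt N6426 (iv D13299)) (tt N8168 (iv F55584)) (tt N6479 F52494) (tt N8309 (iv F56120)) (tt N8322 D14209) (tt N7976 (iv F54753)) (tt N6744 F52495) (tt N6437 F52496) (tt N8323 D14210))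
theorem Q7414 : ∀ i, i < 7414 → P i := stepQ 7413 Q7413 (allL N7413 (tt N8322 (iv F56156)) (tt N6427 F52497) (tt N6480 F52498) (tt N8324 D14211) (tt N6426 (iv D13300)) (tt N8325 D14212) (tt N6801 F52499) (tt N6438 F52500) (tt N8326 D14213))
theorem Q7415 : ∀ i, i < 7415 → P i := stepQ 7414 Q7414 (allL N7414 (tt N8323 (iv F56160)) (tt N6428 F52501) (tt N6481 F52502) (tt N8311 (iv F56129)) (tt N8326 (iv F56171)) (tt N7978 (iv F54764)) (tt N6802 F52503) (tt N8327 D14214) (tt N6426 (iv D13301)))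
theorem Q7416 : ∀ i, i < 7416 → P i := stepQ 7415 Q7415 (allL N7415 (tt N8171 (iv F55594)) (tt N8324 (iv F56163)) (tt N6671 F52504) (tt N6427 (iv D13302)) (tt N8312 (iv F56132)) (tt N8328 D14215) (tt N8319 (iv F56147)) (tt N8329 D14216) (tt N8330 D14217))
theorem Q7417 : ∀ i, i < 7417 → P i := stepQ 7416 Q7416 (allL N7416 (tt N8172 (iv F55597)) (tt N8325 (iv F56166)) (tt N6429 F52505) (tt N8328 (iv F56178)) (tt N7980 (iv F54767)) (tt N6427 (iv D13303)) (tt N8331 D14218) (tt N6441 F52506) (tt N8332 D14219))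
theorem Q7418 : ∀ i, i < 7418 → P i := stepQ 7417 Q7417 (allL N7417 (tt N8173 (iv F55600)) (tt N8326 (iv F56169)) (tt N6430 F52507) (tt N8330 (iv F56182)) (tt N6428 F52508) (tt N8332 (iv F56186)) (tt N8223 (iv F55794)) (tt N8333 D14220) (tt N6427 (iv D13304)))
theorem Q7419 : ∀ i, i < 7419 → P i := stepQ 7418 Q7418 (allL N7418 (tt N8174 (iv F55604)) (tt N8327 (iv F56173)) (tt N6431 F52509) (tt N8334 D14221) (tt N8333 (iv F56188)) (tt N7982 (iv F54772)) (tt N8321 (iv F56154)) (tt N6428 (iv D13305)) (tt N6443 F52510))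
theorem Q7420 : ∀ i, i < 7420 → P i := stepQ 7419 Q7419 (allL N7419 (tt N7911 (iv F54429)) (tt N6485 F52511) (tt N8331 (iv F56183)) (tt N6674 F52512) (tt N7983 (iv F54777)) (tt N7909 F54424) (tt N6429 (iv D13306)) (tt N6444 F52513) (tt N8335 D14222))
theorem Q7421 : ∀ i, i < 7421 → P i := stepQ 7420 Q7420 (allL N7420 (tt N8175 (iv F55607)) (tt N6486 F52514) (tt N8332 (iv F56185)) (tt N6675 F52515) (tt N7984 (iv F54782)) (tt N6430 F52516) (tt N8335 (iv F56193)) (tt N8336 D14223) (tt N6429 (iv D13307)))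
theorem Q7422 : ∀ i, i < 7422 → P i := stepQ 7421 Q7421 (allL N7421 (tt N8176 (iv F55611)) (tt N6487 F52517) (tt N8333 (iv F56187)) (tt N8188 (iv F55658)) (tt N6431 F52518) (tt N8336 (iv F56195)) (tt N8204 (iv F55707)) (tt N6430 (iv D13308)) (tt N6446 F52519))
theorem Q7423 : ∀ i, i < 7423 → P i := stepQ 7422 Q7422 (allL N7422 (tt N8183 (iv F55639)) (tt N6806 F52520) (tt N6447 F52521) (tt N6432 (iv D13309)) (tt N7431 (iv F52550)) (tt N8337 D14224) (tt N6440 F52522) (tt N8338 D14225) (tt N8339 D14226))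
theorem Q7424 : ∀ i, i < 7424 → P i := stepQ 7423 Q7423 (allL N7423 (tt N8184 (iv F55642)) (tt N6807 F52523) (tt N6434 F52524) (tt N8337 (iv F56199)) (tt N8276 (iv F55994)) (tt N6432 (iv D13310)) (tt N8340 D14227) (tt N8320 (iv F56151)) (tt N8341 D14228))
theorem Q7425 : ∀ i, i < 7425 → P i := stepQ 7424 Q7424 (allL N7424 (tt N8185 (iv F55645)) (tt N6808 F52525) (tt N6435 F52526) (tt N8339 (iv F56205)) (tt N6433 F52527) (tt N8341 (iv F56212)) (tt N6442 F52528) (tt N8342 D14229) (tt N6432 (iv D13311)))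
theorem Q7426 : ∀ i, i < 7426 → P i := stepQ 7425 Q7425 (allL N7425 (tt N8186 (iv F55649)) (tt N6809 F52529) (tt N6436 F52530) (tt N8343 D14230) (tt N8342 (iv F56215)) (tt N8278 (iv F56000)) (tt N6443 F52531) (tt N6433 (iv D13312)) (tt N8321 (iv F56155)))
theorem Q7427 : ∀ i, i < 7427 → P i := stepQ 7426 Q7426 (allL N7426 (tt N7895 (iv F54350)) (tt N6488 F52532) (tt N8340 (iv F56208)) (tt N6451 F52533) (tt N7894 F54349) (tt N6444 F52534) (tt N6434 (iv D13313)) (tt N7909 (iv F54423)) (tt N8344 D14231))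
theorem Q7428 : ∀ i, i < 7428 → P i := stepQ 7427 Q7427 (allL N7427 (tt N8187 (iv F55652)) (tt N6489 F52535) (tt N8341 (iv F56211)) (tt N6452 F52536) (tt N8299 (iv F56091)) (tt N6435 F52537) (tt N8344 (iv F56222)) (tt N8345 D14232) (tt N6434 (iv D13314)))
theorem Q7429 : ∀ i, i < 7429 → P i := stepQ 7428 Q7428 (allL N7428 (tt N8188 (iv F55656)) (tt N6490 F52538) (tt N8342 (iv F56214)) (tt N8176 (iv F55613)) (tt N6436 F52539) (tt N8345 (iv F56224)) (tt N6446 F52540) (tt N6435 (iv D13315)) (tt N8204 (iv F55709)))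
theorem Q7430 : ∀ i, i < 7430 → P i := stepQ 7429 Q7429 (allL N7429 (tt N6438 F52541) (tt N8189 (iv F55663)) (tt N6491 F52542) (tt N8346 D14233) (tt N6437 (iv D13316)) (tt N8347 D14234) (tt N6748 F52543) (tt N8322 (iv F56159)) (tt N8348 D14235))
theorem Q7431 : ∀ i, i < 7431 → P i := stepQ 7430 Q7430 (allL N7430 (tt N6439 F52544) (tt N8190 (iv F55667)) (tt N6492 F52545) (tt N7261 F52546) (tt N8348 (iv F56233)) (tt N8001 (iv F54854)) (tt N6749 F52547) (tt N8349 D14236) (tt N6437 (iv D13317)))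
theorem Q7432 : ∀ i, i < 7432 → P i := stepQ 7431 Q7431 (allL N7431 (tt N8346 (iv F56225)) (tt N6440 F52548) (tt N6550 F52549) (tt N6438 (iv D13318)) (tt N7422 F52550) (tt N8350 D14237) (tt N6806 F52551) (tt N8351 D14238) (tt N8352 D14239))
theorem Q7433 : ∀ i, i < 7433 → P i := stepQ 7432 Q7432 (allL N7432 (tt N8347 (iv F56229)) (tt N6441 F52552) (tt N6493 F52553) (tt N8350 (iv F56240)) (tt N8003 (iv F54859)) (tt N6438 (iv D13319)) (tt N8353 D14240) (tt N8325 (iv F56168)) (tt N8354 D14241))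
theorem Q7434 : ∀ i, i < 7434 → P i := stepQ 7433 Q7433 (allL N7433 (tt N8348 (iv F56231)) (tt N6442 F52554) (tt N6494 F52555) (tt N8352 (iv F56247)) (tt N6439 F52556) (tt N8354 (iv F56255)) (tt N6808 F52557) (tt N8355 D14242) (tt N6438 (iv D13320)))
theorem Q7435 : ∀ i, i < 7435 → P i := stepQ 7434 Q7434 (allL N7434 (tt N8349 (iv F56235)) (tt N6443 F52558) (tt N6495 F52559) (tt N8356 D14243) (tt N8355 (iv F56258)) (tt N8005 (iv F54865)) (tt N6809 F52560) (tt N6439 (iv D13321)) (tt N8327 (iv F56176)))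
theorem Q7436 : ∀ i, i < 7436 → P i := stepQ 7435 Q7435 (allL N7435 (tt N8195 (iv F55680)) (tt N8350 (iv F56238)) (tt N6454 F52561) (tt N6441 F52562) (tt N8357 D14244) (tt N6440 (iv D13322)) (tt N8358 D14245) (tt N8359 D14246) (tt N8360 D14247))
theorem Q7437 : ∀ i, i < 7437 → P i := stepQ 7436 Q7436 (allL N7436 (tt N8196 (iv F55683)) (tt N8351 (iv F56241)) (tt N6455 F52563) (tt N8329 (iv F56180)) (tt N7763 (iv F53836)) (tt N8359 (iv F56269)) (tt N8338 (iv F56202)) (tt N6440 (iv D13323)) (tt N8361 D14248))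
theorem Q7438 : ∀ i, i < 7438 → P i := stepQ 7437 Q7437 (allL N7437 (tt N8197 (iv F55685)) (tt N8352 (iv F56245)) (tt N6456 F52564) (tt N6442 F52565) (tt N7764 (iv F53839)) (tt N8360 (iv F56273)) (tt N8339 (iv F56206)) (tt N8362 D14249) (tt N6440 (iv D13324)))
theorem Q7439 : ∀ i, i < 7439 → P i := stepQ 7438 Q7438 (allL N7438 (tt N8198 (iv F55688)) (tt N8353 (iv F56250)) (tt N6444 F52566) (tt N8358 (iv F56265)) (tt N8009 (iv F54872)) (tt N8340 (iv F56209)) (tt N6441 (iv D13325)) (tt N8331 (iv F56184)) (tt N8363 D14250))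
theorem Q7440 : ∀ i, i < 7440 → P i := stepQ 7439 Q7439 (allL N7439 (tt N8199 (iv F55690)) (tt N8354 (iv F56253)) (tt N6445 F52567) (tt N8360 (iv F56272)) (tt N8010 (iv F54874)) (tt N6442 F52568) (tt N8363 (iv F56277)) (tt N8364 D14251) (tt N6441 (iv D13326)))
theorem Q7441 : ∀ i, i < 7441 → P i := stepQ 7440 Q7440 (allL N7440 (tt N8200 (iv F55693)) (tt N8355 (iv F56256)) (tt N6446 F52569) (tt N8365 D14252) (tt N6443 F52570) (tt N8364 (iv F56279)) (tt N8342 (iv F56216)) (tt N6442 (iv D13327)) (tt N8333 (iv F56189)))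
theorem Q7442 : ∀ i, i < 7442 → P i := stepQ 7441 Q7441 (allL N7441 (tt N8201 (iv F55696)) (tt N8356 (iv F56260)) (tt N8284 (iv F56016)) (tt N6443 (iv D13328)) (tt N8366 D14253) (tt N8012 (iv F54879)) (tt N8343 (iv F56218)) (tt N7768 (iv F53845)) (tt N8334 (iv F56190)))
theorem Q7443 : ∀ i, i < 7443 → P i := stepQ 7442 Q7442 (allL N7442 (tt N8202 (iv F55697)) (tt N6499 F52571) (tt N8363 (iv F56276)) (tt N6461 F52572) (tt N8013 (iv F54882)) (tt N8344 (iv F56221)) (tt N6445 F52573) (tt N8367 D14254) (tt N6444 (iv D13329)))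
theorem Q7444 : ∀ i, i < 7444 → P i := stepQ 7443 Q7443 (allL N7443 (tt N8203 (iv F55701)) (tt N6500 F52574) (tt N8364 (iv F56278)) (tt N8368 D14255) (tt N8014 (iv F54885)) (tt N6446 F52575) (tt N8367 (iv F56281)) (tt N6445 (iv D13330)) (tt N8336 (iv F56196)))
theorem Q7445 : ∀ i, i < 7445 → P i := stepQ 7444 Q7444 (allL N7444 (tt N8204 (iv F55704)) (tt N6501 F52576) (tt N8369 D14256) (tt N6446 (iv D13331)) (tt N8167 (iv F55581)) (tt N8368 (iv F56283)) (tt N8176 (iv F55615)) (tt N6463 F52577) (tt N8188 (iv F55661)))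
theorem Q7446 : ∀ i, i < 7446 → P i := stepQ 7445 Q7445 (allL N7445 (tt N8205 (iv F55710)) (tt N6564 F52578) (tt N8337 (iv F56198)) (tt N6448 F52579) (tt N8370 D14257) (tt N6447 (iv D13332)) (tt N8371 D14258) (tt N8372 D14259) (tt N8373 D14260))
theorem Q7447 : ∀ i, i < 7447 → P i := stepQ 7446 Q7446 (allL N7446 (tt N8206 (iv F55713)) (tt N6565 F52580) (tt N8338 (iv F56201)) (tt N6680 F52581) (tt N7535 (iv F52905)) (tt N8372 (iv F56298)) (tt N6455 F52582) (tt N6447 (iv D13333)) (tt N8374 D14261))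
theorem Q7448 : ∀ i, i < 7448 → P i := stepQ 7447 Q7447 (allL N7447 (tt N8207 (iv F55717)) (tt N6566 F52583) (tt N8339 (iv F56204)) (tt N6449 F52584) (tt N7536 (iv F52909)) (tt N8373 (iv F56302)) (tt N6456 F52585) (tt N8375 D14262) (tt N6447 (iv D13334)))
theorem Q7449 : ∀ i, i < 7449 → P i := stepQ 7448 Q7448 (allL N7448 (tt N8208 (iv F55721)) (tt N6567 F52586) (tt N6451 F52587) (tt N8371 (iv F56291)) (tt N7448 F52588) (tt N6457 F52589) (tt N6448 (iv D13335)) (tt N6681 F52590) (tt N8376 D14263))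
theorem Q7450 : ∀ i, i < 7450 → P i := stepQ 7449 Q7449 (allL N7449 (tt N8209 (iv F55727)) (tt N6568 F52591) (tt N6452 F52592) (tt N8373 (iv F56301)) (tt N7449 F52593) (tt N6449 F52594) (tt N8376 (iv F56312)) (tt N8377 D14264) (tt N6448 (iv D13336)))
theorem Q7451 : ∀ i, i < 7451 → P i := stepQ 7450 Q7450 (allL N7450 (tt N6673 F52595) (tt N6569 F52596) (tt N6453 F52597) (tt N8378 D14265) (tt N6450 F52598) (tt N8377 (iv F56317)) (tt N6459 F52599) (tt N6449 (iv D13337)) (tt N6625 F52600))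
theorem Q7452 : ∀ i, i < 7452 → P i := stepQ 7451 Q7451 (allL N7451 (tt N6667 F52601) (tt N6570 F52602) (tt N6624 F52603) (tt N6450 (iv D13338)) (tt N8379 D14266) (tt N7451 F52604) (tt N6460 F52605) (tt N7540 (iv F52928)) (tt N6622 F52606))
theorem Q7453 : ∀ i, i < 7453 → P i := stepQ 7452 Q7452 (allL N7452 (tt N8210 (iv F55733)) (tt N6502 F52607) (tt N8376 (iv F56309)) (tt N8344 (iv F56220)) (tt N7452 F52608) (tt N6461 F52609) (tt N6452 F52610) (tt N8380 D14267) (tt N6451 (iv D13339)))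
theorem Q7454 : ∀ i, i < 7454 → P i := stepQ 7453 Q7453 (allL N7453 (tt N6675 F52611) (tt N6503 F52612) (tt N8377 (iv F56315)) (tt N8175 (iv F55609)) (tt N7453 F52613) (tt N6453 F52614) (tt N8380 (iv F56332)) (tt N6452 (iv D13340)) (tt N6626 F52615))
theorem Q7455 : ∀ i, i < 7455 → P i := stepQ 7454 Q7454 (allL N7454 (tt N8211 (iv F55739)) (tt N6574 F52616) (tt N8357 (iv F56263)) (tt N6464 F52617) (tt N6454 (iv D13341)) (tt N7772 (iv F53855)) (tt N7456 (iv F52625)) (tt N7455 F52620) (tt N8381 D14268))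
theorem Q7456 : ∀ i, i < 7456 → P i := stepQ 7455 Q7455 (allL N7455 (tt N8212 (iv F55742)) (tt N6575 F52618) (tt N8358 (iv F56264)) (tt N6457 F52619) (tt N7456 (iv F52623)) (tt N8371 (iv F56293)) (tt N6454 (iv D13342)) (tt N7454 (iv F52620)) (tt N8382 D14269))
theorem Q7457 : ∀ i, i < 7457 → P i := stepQ 7456 Q7456 (allL N7456 (tt N8213 (iv F55746)) (tt N6576 F52621) (tt N8359 (iv F56267)) (tt N6684 F52622) (tt N7455 F52623) (tt N6455 F52624) (tt N7454 F52625) (tt N6454 (iv D13343)) (tt N8383 D14270))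
theorem Q7458 : ∀ i, i < 7458 → P i := stepQ 7457 Q7457 (allL N7457 (tt N8214 (iv F55752)) (tt N6577 F52626) (tt N8360 (iv F56271)) (tt N6458 F52627) (tt N8381 (iv F56336)) (tt N6456 F52628) (tt N8382 (iv F56339)) (tt N8384 D14271) (tt N6454 (iv D13344)))
theorem Q7459 : ∀ i, i < 7459 → P i := stepQ 7458 Q7458 (allL N7458 (tt N8215 (iv F55756)) (tt N6578 F52629) (tt N8361 (iv F56274)) (tt N6686 F52630) (tt N7776 (iv F53866)) (tt N8383 (iv F56343)) (tt N8374 (iv F56305)) (tt N8385 D14272) (tt N6455 (iv D13345)))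
theorem Q7460 : ∀ i, i < 7460 → P i := stepQ 7459 Q7459 (allL N7459 (tt N8216 (iv F55759)) (tt N6579 F52631) (tt N8362 (iv F56275)) (tt N8386 D14273) (tt N7777 (iv F53868)) (tt N8384 (iv F56346)) (tt N8375 (iv F56307)) (tt N6456 (iv D13346)) (tt N8385 (iv F56348)))
theorem Q7461 : ∀ i, i < 7461 → P i := stepQ 7460 Q7460 (allL N7460 (tt N8217 (iv F55761)) (tt N6580 F52632) (tt N6461 F52633) (tt N8382 (iv F56338)) (tt N6470 F52634) (tt N8376 (iv F56311)) (tt N6458 F52635) (tt N8387 D14274) (tt N6457 (iv D13347)))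
theorem Q7462 : ∀ i, i < 7462 → P i := stepQ 7461 Q7461 (allL N7461 (tt N8218 (iv F55766)) (tt N6581 F52636) (tt N6462 F52637) (tt N8388 D14275) (tt N6471 F52638) (tt N6459 F52639) (tt N8387 (iv F56354)) (tt N6458 (iv D13348)) (tt N6689 F52640))
theorem Q7463 : ∀ i, i < 7463 → P i := stepQ 7462 Q7462 (allL N7462 (tt N8219 (iv F55772)) (tt N6582 F52641) (tt N8389 D14276) (tt N6459 (iv D13349)) (tt N8390 D14277) (tt N8388 (iv F56358)) (tt N8378 (iv F56321)) (tt N8386 (iv F56350)) (tt N6690 F52642))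
theorem Q7464 : ∀ i, i < 7464 → P i := stepQ 7463 Q7463 (allL N7463 (tt N8220 (iv F55776)) (tt N6583 F52643) (tt N8291 (iv F56042)) (tt N8390 (iv F56363)) (tt N6460 (iv D13350)) (tt N7634 (iv F53377)) (tt N8379 (iv F56326)) (tt N7781 (iv F53881)) (tt N6691 F52644))
theorem Q7465 : ∀ i, i < 7465 → P i := stepQ 7464 Q7464 (allL N7464 (tt N8221 (iv F55781)) (tt N6504 F52645) (tt N8387 (iv F56352)) (tt N7912 (iv F54436)) (tt N6474 F52646) (tt N8380 (iv F56331)) (tt N6462 F52647) (tt N6461 (iv D13351)) (tt N6692 F52648))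
theorem Q7466 : ∀ i, i < 7466 → P i := stepQ 7465 Q7465 (allL N7465 (tt N8222 (iv F55787)) (tt N6505 F52649) (tt N8391 D14278) (tt N6462 (iv D13352)) (tt N7906 (iv F54408)) (tt N6463 F52650) (tt N7912 (iv F54438)) (tt N8368 (iv F56284)) (tt N6693 F52651))
theorem Q7467 : ∀ i, i < 7467 → P i := stepQ 7466 Q7466 (allL N7466 (tt N8223 (iv F55791)) (tt N8392 D14279) (tt N6463 (iv D13353)) (tt N8389 (iv F56360)) (tt N8166 (iv F55576)) (tt N8391 (iv F56366)) (tt N8173 (iv F55603)) (tt N8369 (iv F56285)) (tt N6694 F52652))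
theorem Q7468 : ∀ i, i < 7468 → P i := stepQ 7467 Q7467 (allL N7467 (tt N8224 (iv F55796)) (tt N6587 F52653) (tt N8037 (iv F54967)) (tt N8381 (iv F56335)) (tt N6467 F52654) (tt N7785 (iv F53893)) (tt N7659 (iv F53478)) (tt N8393 D14280) (tt N6464 (iv D13354)))
theorem Q7469 : ∀ i, i < 7469 → P i := stepQ 7468 Q7468 (allL N7468 (tt N8225 (iv F55799)) (tt N6588 F52655) (tt N8038 (iv F54970)) (tt N6470 F52656) (tt N7659 (iv F53476)) (tt N7468 F52657) (tt N6467 F52658) (tt N8394 D14281) (tt N6465 (iv D13355)))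
theorem Q7470 : ∀ i, i < 7470 → P i := stepQ 7469 Q7469 (allL N7469 (tt N7381 F52659) (tt N6589 F52660) (tt N7724 (iv F53723)) (tt N6697 F52661) (tt N7658 (iv F53473)) (tt N6468 F52662) (tt N7657 (iv F53470)) (tt N7216 (iv F52663)) (tt N6466 (iv D13356)))
theorem Q7471 : ∀ i, i < 7471 → P i := stepQ 7470 Q7470 (allL N7470 (tt N7382 F52664) (tt N6590 F52665) (tt N7725 (iv F53729)) (tt N7217 (iv F52668)) (tt N8393 (iv F56372)) (tt N6469 F52666) (tt N8394 (iv F56377)) (tt N6467 (iv D13357)) (tt N7216 F52667))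
theorem Q7472 : ∀ i, i < 7472 → P i := stepQ 7471 Q7471 (allL N7471 (tt N8226 (iv F55804)) (tt N6593 F52669) (tt N6474 F52670) (tt N8395 D14282) (tt N8387 (iv F56353)) (tt N7471 F52671) (tt N6471 F52672) (tt N6470 (iv D13358)) (tt N6699 F52673))
theorem Q7473 : ∀ i, i < 7473 → P i := stepQ 7472 Q7472 (allL N7472 (tt N7384 F52674) (tt N6594 F52675) (tt N7218 (iv F52679)) (tt N6471 (iv D13359)) (tt N7398 (iv F52680)) (tt N6472 F52676) (tt N8395 (iv F56384)) (tt N7217 F52677) (tt N6700 F52678))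
theorem Q7474 : ∀ i, i < 7474 → P i := stepQ 7473 Q7473 (allL N7473 (tt N7386 F52681) (tt N7196 F52682) (tt N6475 (iv D13360)) (tt N7218 F52683) (tt N7227 F52684) (tt N6476 F52685) (tt N7199 F52686) (tt N7729 (iv F53753)) (tt N6701 F52687))
theorem Q7475 : ∀ i, i < 7475 → P i := stepQ 7474 Q7474 (allL N7474 (tt N6480 F52688) (tt N6508 F52689) (tt N8322 (iv F56157)) (tt N7474 F52690) (tt N6479 (iv D13361)) (tt N8064 (iv F55111)) (tt N6745 F52691) (tt N6491 F52692) (tt N8396 D14283))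
theorem Q7476 : ∀ i, i < 7476 → P i := stepQ 7475 Q7475 (allL N7475 (tt N6481 F52693) (tt N6509 F52694) (tt N8323 (iv F56161)) (tt N6547 F52695) (tt N8396 (iv F56391)) (tt N8044 (iv F55009)) (tt N6746 F52696) (tt N8397 D14284) (tt N6479 (iv D13362)))
theorem Q7477 : ∀ i, i < 7477 → P i := stepQ 7476 Q7476 (allL N7476 (tt N8064 (iv F55107)) (tt N6482 F52697) (tt N8325 (iv F56167)) (tt N7476 F52698) (tt N8045 (iv F55014)) (tt N6480 (iv D13363)) (tt N8061 (iv F55097)) (tt N6493 F52699) (tt N8398 D14285))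
theorem Q7478 : ∀ i, i < 7478 → P i := stepQ 7477 Q7477 (allL N7477 (tt N8396 (iv F56388)) (tt N6483 F52700) (tt N8326 (iv F56170)) (tt N7477 F52701) (tt N6481 F52702) (tt N8398 (iv F56399)) (tt N6804 F52703) (tt N8399 D14286) (tt N6480 (iv D13364)))
theorem Q7479 : ∀ i, i < 7479 → P i := stepQ 7478 Q7478 (allL N7478 (tt N8397 (iv F56393)) (tt N6484 F52704) (tt N8327 (iv F56174)) (tt N7975 (iv F54749)) (tt N8399 (iv F56401)) (tt N8047 (iv F55023)) (tt N6805 F52705) (tt N6481 (iv D13365)) (tt N6495 F52706))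
theorem Q7480 : ∀ i, i < 7480 → P i := stepQ 7479 Q7479 (allL N7479 (tt N6512 F52707) (tt N8398 (iv F56397)) (tt N6486 F52708) (tt N7479 F52709) (tt N8048 (iv F55028)) (tt N6483 F52710) (tt N8090 (iv F55231)) (tt N8400 D14287) (tt N6482 (iv D13366)))
theorem Q7481 : ∀ i, i < 7481 → P i := stepQ 7480 Q7480 (allL N7480 (tt N6513 F52711) (tt N8399 (iv F56400)) (tt N6487 F52712) (tt N8401 D14288) (tt N6484 F52713) (tt N8400 (iv F56406)) (tt N6837 F52714) (tt N6483 (iv D13367)) (tt N6498 F52715))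
theorem Q7482 : ∀ i, i < 7482 → P i := stepQ 7481 Q7481 (allL N7481 (tt N6514 F52716) (tt N8335 (iv F56191)) (tt N8090 (iv F55227)) (tt N6702 F52717) (tt N8050 (iv F55039)) (tt N7946 (iv F54619)) (tt N6486 F52718) (tt N8402 D14289) (tt N6485 (iv D13368)))
theorem Q7483 : ∀ i, i < 7483 → P i := stepQ 7482 Q7482 (allL N7482 (tt N6515 F52719) (tt N8336 (iv F56194)) (tt N8400 (iv F56405)) (tt N8241 (iv F55866)) (tt N8051 (iv F55043)) (tt N6487 F52720) (tt N8402 (iv F56413)) (tt N6486 (iv D13369)) (tt N6500 F52721))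
theorem Q7484 : ∀ i, i < 7484 → P i := stepQ 7483 Q7483 (allL N7483 (tt N6516 F52722) (tt N8344 (iv F56219)) (tt N6838 F52723) (tt N6502 F52724) (tt N7934 (iv F54549)) (tt N6499 F52725) (tt N6489 F52726) (tt N8403 D14290) (tt N6488 (iv D13370)))
theorem Q7485 : ∀ i, i < 7485 → P i := stepQ 7484 Q7484 (allL N7484 (tt N6517 F52727) (tt N8345 (iv F56223)) (tt N6839 F52728) (tt N8235 (iv F55844)) (tt N8301 (iv F56097)) (tt N6490 F52729) (tt N8403 (iv F56418)) (tt N6489 (iv D13371)) (tt N8251 (iv F55898)))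
theorem Q7486 : ∀ i, i < 7486 → P i := stepQ 7485 Q7485 (allL N7485 (tt N6493 F52730) (tt N6518 F52731) (tt N8347 (iv F56230)) (tt N6595 F52732) (tt N8061 (iv F55096)) (tt N6491 (iv D13372)) (tt N8045 (iv F55015)) (tt N8064 (iv F55112)) (tt N8404 D14291))
theorem Q7487 : ∀ i, i < 7487 → P i := stepQ 7486 Q7486 (allL N7486 (tt N6494 F52733) (tt N6519 F52734) (tt N8348 (iv F56232)) (tt N6596 F52735) (tt N6492 F52736) (tt N8404 (iv F56422)) (tt N6751 F52737) (tt N8405 D14292) (tt N6491 (iv D13373)))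
theorem Q7488 : ∀ i, i < 7488 → P i := stepQ 7487 Q7487 (allL N7487 (tt N6495 F52738) (tt N6520 F52739) (tt N8349 (iv F56236)) (tt N7864 (iv F54219)) (tt N8405 (iv F56425)) (tt N8063 (iv F55106)) (tt N6752 F52740) (tt N6492 (iv D13374)) (tt N8397 (iv F56396)))
theorem Q7489 : ∀ i, i < 7489 → P i := stepQ 7488 Q7488 (allL N7488 (tt N8045 (iv F55011)) (tt N6496 F52741) (tt N8353 (iv F56251)) (tt N6598 F52742) (tt N8064 (iv F55110)) (tt N6810 F52743) (tt N6493 (iv D13375)) (tt N8061 (iv F55098)) (tt N8406 D14293))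
theorem Q7490 : ∀ i, i < 7490 → P i := stepQ 7489 Q7489 (allL N7489 (tt N8404 (iv F56419)) (tt N6497 F52744) (tt N8354 (iv F56254)) (tt N6599 F52745) (tt N8065 (iv F55115)) (tt N6494 F52746) (tt N8406 (iv F56430)) (tt N8407 D14294) (tt N6493 (iv D13376)))
theorem Q7491 : ∀ i, i < 7491 → P i := stepQ 7490 Q7490 (allL N7490 (tt N8405 (iv F56423)) (tt N6498 F52747) (tt N8355 (iv F56257)) (tt N8408 D14295) (tt N6495 F52748) (tt N8407 (iv F56432)) (tt N6812 F52749) (tt N6494 (iv D13377)) (tt N8399 (iv F56403)))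
theorem Q7492 : ∀ i, i < 7492 → P i := stepQ 7491 Q7491 (allL N7491 (tt N6523 F52750) (tt N8406 (iv F56427)) (tt N6499 F52751) (tt N6601 F52752) (tt N8067 (iv F55122)) (tt N6838 F52753) (tt N6497 F52754) (tt N8409 D14296) (tt N6496 (iv D13378)))
theorem Q7493 : ∀ i, i < 7493 → P i := stepQ 7492 Q7492 (allL N7492 (tt N6524 F52755) (tt N8407 (iv F56431)) (tt N6500 F52756) (tt N8410 D14297) (tt N8068 (iv F55127)) (tt N6498 F52757) (tt N8409 (iv F56439)) (tt N6497 (iv D13379)) (tt N8400 (iv F56407)))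
theorem Q7494 : ∀ i, i < 7494 → P i := stepQ 7493 Q7493 (allL N7493 (tt N6525 F52758) (tt N8408 (iv F56433)) (tt N8411 D14298) (tt N6498 (iv D13380)) (tt N8060 (iv F55090)) (tt N8410 (iv F56441)) (tt N6840 F52759) (tt N6603 F52760) (tt N8401 (iv F56411)))
theorem Q7495 : ∀ i, i < 7495 → P i := stepQ 7494 Q7494 (allL N7494 (tt N6526 F52761) (tt N8367 (iv F56280)) (tt N8409 (iv F56437)) (tt N7915 (iv F54449)) (tt N8070 (iv F55132)) (tt N8403 (iv F56417)) (tt N6500 F52762) (tt N6499 (iv D13381)) (tt N8402 (iv F56414)))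
theorem Q7496 : ∀ i, i < 7496 → P i := stepQ 7495 Q7495 (allL N7495 (tt N6527 F52763) (tt N8368 (iv F56282)) (tt N7908 (iv F54415)) (tt N6500 (iv D13382)) (tt N7907 (iv F54412)) (tt N6501 F52764) (tt N7915 (iv F54451)) (tt N6505 F52765) (tt N8241 (iv F55868)))
theorem Q7497 : ∀ i, i < 7497 → P i := stepQ 7496 Q7496 (allL N7496 (tt N6528 F52766) (tt N8412 D14299) (tt N6501 (iv D13383)) (tt N8411 (iv F56444)) (tt N8229 (iv F55821)) (tt N7908 (iv F54417)) (tt N8233 (iv F55838)) (tt N6506 F52767) (tt N8239 (iv F55861)))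
theorem Q7498 : ∀ i, i < 7498 → P i := stepQ 7497 Q7497 (allL N7497 (tt N6529 F52768) (tt N8380 (iv F56329)) (tt N6607 F52769) (tt N7914 (iv F54443)) (tt N7497 F52770) (tt N6504 F52771) (tt N6503 F52772) (tt N6502 (iv D13384)) (tt N6650 F52773))
theorem Q7499 : ∀ i, i < 7499 → P i := stepQ 7498 Q7498 (allL N7498 (tt N7998 (iv F54840)) (tt N6506 (iv D13385)) (tt N8392 (iv F56368)) (tt N6610 F52774) (tt N8228 (iv F55817)) (tt N7863 (iv F54215)) (tt N8231 (iv F55831)) (tt N8412 (iv F56447)) (tt N6703 F52775))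
theorem Q7500 : ∀ i, i < 7500 → P i := stepQ 7499 Q7499 (allL N7499 (tt N6510 F52776) (tt N8396 (iv F56389)) (tt N8058 (iv F55079)) (tt N7499 F52777) (tt N6509 F52778) (tt N8067 (iv F55123)) (tt N6772 F52779) (tt N8413 D14300) (tt N6508 (iv D13386)))
theorem Q7501 : ∀ i, i < 7501 → P i := stepQ 7500 Q7500 (allL N7500 (tt N6511 F52780) (tt N8397 (iv F56394)) (tt N8258 (iv F55924)) (tt N7893 (iv F54341)) (tt N8413 (iv F56449)) (tt N8078 (iv F55165)) (tt N6773 F52781) (tt N6509 (iv D13387)) (tt N6520 F52782))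
theorem Q7502 : ∀ i, i < 7502 → P i := stepQ 7501 Q7501 (allL N7501 (tt N8413 (iv F56448)) (tt N6513 F52783) (tt N8087 (iv F55212)) (tt N8414 D14301) (tt N6511 F52784) (tt N8094 (iv F55249)) (tt N6789 F52785) (tt N6510 (iv D13388)) (tt N6522 F52786))
theorem Q7503 : ∀ i, i < 7503 → P i := stepQ 7502 Q7502 (allL N7502 (tt N8400 (iv F56404)) (tt N8094 (iv F55246)) (tt N6515 F52787) (tt N8415 D14302) (tt N8079 (iv F55170)) (tt N6513 F52788) (tt N8092 (iv F55240)) (tt N6512 (iv D13389)) (tt N6524 F52789))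
theorem Q7504 : ∀ i, i < 7504 → P i := stepQ 7503 Q7503 (allL N7503 (tt N8401 (iv F56408)) (tt N8414 (iv F56452)) (tt N8261 (iv F55936)) (tt N6513 (iv D13390)) (tt N8077 (iv F55158)) (tt N8415 (iv F56456)) (tt N6849 F52790) (tt N7503 F52791) (tt N6525 F52792))
theorem Q7505 : ∀ i, i < 7505 → P i := stepQ 7504 Q7504 (allL N7504 (tt N8402 (iv F56412)) (tt N7950 (iv F54636)) (tt N8092 (iv F55237)) (tt N7936 (iv F54560)) (tt N8081 (iv F55182)) (tt N7948 (iv F54628)) (tt N6515 F52793) (tt N6514 (iv D13391)) (tt N6526 F52794))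
theorem Q7506 : ∀ i, i < 7506 → P i := stepQ 7505 Q7505 (allL N7505 (tt N8403 (iv F56415)) (tt N7936 (iv F54558)) (tt N6850 F52795) (tt N7950 (iv F54638)) (tt N7935 (iv F54554)) (tt N6526 F52796) (tt N6517 F52797) (tt N6516 (iv D13392)) (tt N7948 (iv F54630)))
theorem Q7507 : ∀ i, i < 7507 → P i := stepQ 7506 Q7506 (allL N7506 (tt N6521 F52798) (tt N8404 (iv F56420)) (tt N8050 (iv F55037)) (tt N6612 F52799) (tt N8090 (iv F55229)) (tt N6519 F52800) (tt N8048 (iv F55030)) (tt N8416 D14303) (tt N6518 (iv D13393)))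
theorem Q7508 : ∀ i, i < 7508 → P i := stepQ 7507 Q7507 (allL N7507 (tt N6522 F52801) (tt N8405 (iv F56424)) (tt N8263 (iv F55946)) (tt N8417 D14304) (tt N6520 F52802) (tt N8416 (iv F56460)) (tt N6779 F52803) (tt N6519 (iv D13394)) (tt N8413 (iv F56451)))
theorem Q7509 : ∀ i, i < 7509 → P i := stepQ 7508 Q7508 (allL N7508 (tt N8416 (iv F56459)) (tt N6524 F52804) (tt N8081 (iv F55181)) (tt N8418 D14305) (tt N8092 (iv F55238)) (tt N6522 F52805) (tt N8079 (iv F55172)) (tt N6521 (iv D13395)) (tt N8094 (iv F55251)))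
theorem Q7510 : ∀ i, i < 7510 → P i := stepQ 7509 Q7509 (allL N7509 (tt N8417 (iv F56461)) (tt N6525 F52806) (tt N8419 D14306) (tt N6522 (iv D13396)) (tt N7945 (iv F54611)) (tt N8418 (iv F56465)) (tt N6793 F52807) (tt N6616 F52808) (tt N8414 (iv F56455)))
theorem Q7511 : ∀ i, i < 7511 → P i := stepQ 7510 Q7510 (allL N7510 (tt N8409 (iv F56436)) (tt N8079 (iv F55168)) (tt N6526 F52809) (tt N7954 (iv F54661)) (tt N8094 (iv F55248)) (tt N6850 F52810) (tt N6524 F52811) (tt N6523 (iv D13397)) (tt N8092 (iv F55241)))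
theorem Q7512 : ∀ i, i < 7512 → P i := stepQ 7511 Q7511 (allL N7511 (tt N8410 (iv F56440)) (tt N8418 (iv F56464)) (tt N7945 (iv F54610)) (tt N6524 (iv D13398)) (tt N8419 (iv F56467)) (tt N6525 F52812) (tt N7954 (iv F54664)) (tt N6618 F52813) (tt N8415 (iv F56458)))
theorem Q7513 : ∀ i, i < 7513 → P i := stepQ 7512 Q7512 (allL N7512 (tt N8411 (iv F56443)) (tt N8088 (iv F55218)) (tt N6525 (iv D13399)) (tt N6528 F52814) (tt N8089 (iv F55223)) (tt N7945 (iv F54612)) (tt N6852 F52815) (tt N6619 F52816) (tt N8261 (iv F55939)))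
theorem Q7514 : ∀ i, i < 7514 → P i := stepQ 7513 Q7513 (allL N7513 (tt N7513 F52817) (tt N6941 F52818) (tt N7694 (iv F53618)) (tt N6704 F52819) (tt N6530 (iv D13400)) (tt N8420 D14307) (tt N6533 F52820) (tt N7174 F52821) (tt N8421 D14308))
theorem Q7515 : ∀ i, i < 7515 → P i := stepQ 7514 Q7514 (allL N7514 (tt N7514 F52822) (tt N8136 (iv F55451)) (tt N8102 (iv F55283)) (tt N6531 F52823) (tt N8421 (iv F56477)) (tt N8105 (iv F55300)) (tt N6534 F52824) (tt N8422 D14309) (tt N6530 (iv D13401)))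
theorem Q7516 : ∀ i, i < 7516 → P i := stepQ 7515 Q7515 (allL N7515 (tt N7515 F52825) (tt N8304 (iv F56103)) (tt N6534 F52826) (tt N6535 F52827) (tt N7574 (iv F53077)) (tt N6538 F52828) (tt N8102 (iv F55286)) (tt N8423 D14310) (tt N6532 (iv D13402)))
theorem Q7517 : ∀ i, i < 7517 → P i := stepQ 7516 Q7516 (allL N7516 (tt N7516 F52829) (tt N8270 (iv F55973)) (tt N7574 (iv F53076)) (tt N6707 F52830) (tt N6534 F52831) (tt N7575 (iv F53082)) (tt N8421 (iv F56478)) (tt N8424 D14311) (tt N6533 (iv D13403)))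
theorem Q7518 : ∀ i, i < 7518 → P i := stepQ 7517 Q7517 (allL N7517 (tt N7517 F52832) (tt N8271 (iv F55977)) (tt N8423 (iv F56484)) (tt N6544 F52833) (tt N8424 (iv F56488)) (tt N6860 F52834) (tt N8422 (iv F56481)) (tt N6534 (iv D13404)) (tt N7181 F52835))
theorem Q7519 : ∀ i, i < 7519 → P i := stepQ 7518 Q7518 (allL N7518 (tt N7518 F52836) (tt N8307 (iv F56113)) (tt N6859 F52837) (tt N6709 F52838) (tt N6538 F52839) (tt N7576 (iv F53086)) (tt N6543 F52840) (tt N8425 D14312) (tt N6537 (iv D13405)))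
theorem Q7520 : ∀ i, i < 7520 → P i := stepQ 7519 Q7519 (allL N7519 (tt N7519 F52841) (tt N8308 (iv F56117)) (tt N6860 F52842) (tt N8422 (iv F56480)) (tt N8425 (iv F56492)) (tt N8423 (iv F56485)) (tt N6544 F52843) (tt N6538 (iv D13406)) (tt N7525 (iv F52868)))
theorem Q7521 : ∀ i, i < 7521 → P i := stepQ 7520 Q7520 (allL N7520 (tt N6539 (iv D13407)) (tt N7520 F52844) (tt N8309 (iv F56119)) (tt N6545 F52845) (tt N8426 D14313) (tt N8109 (iv F55313)) (tt N6742 F52846) (tt N7241 F52847) (tt N8427 D14314))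
theorem Q7522 : ∀ i, i < 7522 → P i := stepQ 7521 Q7521 (allL N7521 (tt N8426 (iv F56494)) (tt N6540 F52848) (tt N8310 (iv F56124)) (tt N7521 F52849) (tt N6539 (iv D13408)) (tt N8428 D14315) (tt N6799 F52850) (tt N7400 F52851) (tt N8429 D14316))
theorem Q7523 : ∀ i, i < 7523 → P i := stepQ 7522 Q7522 (allL N7522 (tt N8427 (iv F56499)) (tt N6541 F52852) (tt N8311 (iv F56128)) (tt N6546 F52853) (tt N8429 (iv F56509)) (tt N8111 (iv F55321)) (tt N6800 F52854) (tt N8430 D14317) (tt N6539 (iv D13409)))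
theorem Q7524 : ∀ i, i < 7524 → P i := stepQ 7523 Q7523 (allL N7523 (tt N7523 F52855) (tt N8428 (iv F56503)) (tt N6542 F52856) (tt N7523 F52857) (tt N6732 F52858) (tt N6540 (iv D13410)) (tt N8431 D14318) (tt N6736 F52859) (tt N8432 D14319))
theorem Q7525 : ∀ i, i < 7525 → P i := stepQ 7524 Q7524 (allL N7524 (tt N7524 F52860) (tt N8429 (iv F56507)) (tt N6543 F52861) (tt N7524 F52862) (tt N6541 F52863) (tt N8432 (iv F56524)) (tt N6859 F52864) (tt N8433 D14320) (tt N6540 (iv D13411)))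
theorem Q7526 : ∀ i, i < 7526 → P i := stepQ 7525 Q7525 (allL N7525 (tt N7525 F52865) (tt N8430 (iv F56511)) (tt N6544 F52866) (tt N8108 (iv F55309)) (tt N8433 (iv F56527)) (tt N8113 (iv F55329)) (tt N6860 F52867) (tt N6541 (iv D13412)) (tt N7519 F52868))
theorem Q7527 : ∀ i, i < 7527 → P i := stepQ 7526 Q7526 (allL N7526 (tt N7526 F52869) (tt N8316 (iv F56137)) (tt N8431 (iv F56515)) (tt N6711 F52870) (tt N8114 (iv F55333)) (tt N7688 F53595) (tt N6542 (iv D13413)) (tt N7810 (iv F53981)) (tt N8434 D14321))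
theorem Q7528 : ∀ i, i < 7528 → P i := stepQ 7527 Q7527 (allL N7527 (tt N7527 F52871) (tt N8317 (iv F56139)) (tt N8432 (iv F56521)) (tt N6712 F52872) (tt N8115 (iv F55338)) (tt N6543 F52873) (tt N8434 (iv F56532)) (tt N8435 D14322) (tt N6542 (iv D13414)))
theorem Q7529 : ∀ i, i < 7529 → P i := stepQ 7528 Q7528 (allL N7528 (tt N7528 F52874) (tt N8318 (iv F56142)) (tt N8433 (iv F56526)) (tt N8436 D14323) (tt N6544 F52875) (tt N8435 (iv F56534)) (tt N8425 (iv F56493)) (tt N6543 (iv D13415)) (tt N7812 (iv F53989)))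
theorem Q7530 : ∀ i, i < 7530 → P i := stepQ 7529 Q7529 (allL N7529 (tt N6546 F52876) (tt N7529 F52877) (tt N6547 F52878) (tt N8427 (iv F56501)) (tt N7529 F52879) (tt N8118 (iv F55353)) (tt N6743 F52880) (tt N7632 (iv F53368)) (tt N6545 (iv D13416)))
theorem Q7531 : ∀ i, i < 7531 → P i := stepQ 7530 Q7530 (allL N7530 (tt N6550 F52881) (tt N7530 F52882) (tt N8346 (iv F56226)) (tt N6548 (iv D13417)) (tt N7275 F52883) (tt N8437 D14324) (tt N6753 F52884) (tt N8438 D14325) (tt N8439 D14326))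
theorem Q7532 : ∀ i, i < 7532 → P i := stepQ 7531 Q7531 (allL N7531 (tt N6551 F52885) (tt N7531 F52886) (tt N6595 F52887) (tt N8437 (iv F56539)) (tt N7531 F52888) (tt N6548 (iv D13418)) (tt N8440 D14327) (tt N7531 F52889) (tt N8441 D14328))
theorem Q7533 : ∀ i, i < 7533 → P i := stepQ 7532 Q7532 (allL N7532 (tt N6552 F52890) (tt N7532 F52891) (tt N6596 F52892) (tt N8439 (iv F56547)) (tt N6549 F52893) (tt N8441 (iv F56560)) (tt N6755 F52894) (tt N8442 D14329) (tt N6548 (iv D13419)))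
theorem Q7534 : ∀ i, i < 7534 → P i := stepQ 7533 Q7533 (allL N7533 (tt N6553 F52895) (tt N7533 F52896) (tt N6597 F52897) (tt N7639 (iv F53398)) (tt N8442 (iv F56564)) (tt N7533 F52898) (tt N6756 F52899) (tt N6549 (iv D13420)) (tt N7533 F52900))
theorem Q7535 : ∀ i, i < 7535 → P i := stepQ 7534 Q7534 (allL N7534 (tt N8437 (iv F56537)) (tt N6554 F52901) (tt N8350 (iv F56239)) (tt N6551 F52902) (tt N8443 D14330) (tt N6550 (iv D13421)) (tt N8444 D14331) (tt N8445 D14332) (tt N8446 D14333))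
theorem Q7536 : ∀ i, i < 7536 → P i := stepQ 7535 Q7535 (allL N7535 (tt N8438 (iv F56540)) (tt N6555 F52903) (tt N8351 (iv F56242)) (tt N7535 F52904) (tt N7446 F52905) (tt N8445 (iv F56577)) (tt N6814 F52906) (tt N6550 (iv D13422)) (tt N8447 D14334))
theorem Q7537 : ∀ i, i < 7537 → P i := stepQ 7536 Q7536 (allL N7536 (tt N8439 (iv F56545)) (tt N6556 F52907) (tt N8352 (iv F56246)) (tt N6552 F52908) (tt N7447 F52909) (tt N8446 (iv F56581)) (tt N6815 F52910) (tt N8448 D14335) (tt N6550 (iv D13423)))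
theorem Q7538 : ∀ i, i < 7538 → P i := stepQ 7537 Q7537 (allL N7537 (tt N8440 (iv F56550)) (tt N6557 F52911) (tt N6598 F52912) (tt N8444 (iv F56571)) (tt N7537 F52913) (tt N6816 F52914) (tt N6551 (iv D13424)) (tt N7537 F52915) (tt N8449 D14336))
theorem Q7539 : ∀ i, i < 7539 → P i := stepQ 7538 Q7538 (allL N7538 (tt N8441 (iv F56556)) (tt N6558 F52916) (tt N6599 F52917) (tt N8446 (iv F56580)) (tt N7538 F52918) (tt N6552 F52919) (tt N8449 (iv F56593)) (tt N8450 D14337) (tt N6551 (iv D13425)))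
theorem Q7540 : ∀ i, i < 7540 → P i := stepQ 7539 Q7539 (allL N7539 (tt N8442 (iv F56561)) (tt N6559 F52920) (tt N6600 F52921) (tt N8451 D14338) (tt N6553 F52922) (tt N8450 (iv F56597)) (tt N6818 F52923) (tt N6552 (iv D13426)) (tt N7539 F52924))
theorem Q7541 : ∀ i, i < 7541 → P i := stepQ 7540 Q7540 (allL N7540 (tt N7639 (iv F53395)) (tt N6560 F52925) (tt N7605 (iv F53221)) (tt N6553 (iv D13427)) (tt N8452 D14339) (tt N7540 F52926) (tt N6819 F52927) (tt N7451 F52928) (tt N7540 F52929))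
theorem Q7542 : ∀ i, i < 7542 → P i := stepQ 7541 Q7541 (allL N7541 (tt N7541 F52930) (tt N8443 (iv F56567)) (tt N6574 F52931) (tt N7541 F52932) (tt N6554 (iv D13428)) (tt N7554 (iv F52991)) (tt N7543 (iv F52943)) (tt N7542 F52937) (tt N8453 D14340))
theorem Q7543 : ∀ i, i < 7543 → P i := stepQ 7542 Q7542 (allL N7542 (tt N7542 F52933) (tt N8444 (iv F56570)) (tt N6575 F52934) (tt N6557 F52935) (tt N7543 (iv F52941)) (tt N6862 F52936) (tt N6554 (iv D13429)) (tt N7541 (iv F52937)) (tt N8454 D14341))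
theorem Q7544 : ∀ i, i < 7544 → P i := stepQ 7543 Q7543 (allL N7543 (tt N7543 F52938) (tt N8445 (iv F56574)) (tt N6576 F52939) (tt N7543 F52940) (tt N7542 F52941) (tt N6555 F52942) (tt N7541 F52943) (tt N6554 (iv D13430)) (tt N8455 D14342))
theorem Q7545 : ∀ i, i < 7545 → P i := stepQ 7544 Q7544 (allL N7544 (tt N7544 F52944) (tt N8446 (iv F56579)) (tt N6577 F52945) (tt N6558 F52946) (tt N8453 (iv F56609)) (tt N6556 F52947) (tt N8454 (iv F56614)) (tt N8456 D14343) (tt N6554 (iv D13431)))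
theorem Q7546 : ∀ i, i < 7546 → P i := stepQ 7545 Q7545 (allL N7545 (tt N7545 F52948) (tt N8447 (iv F56582)) (tt N6578 F52949) (tt N7545 F52950) (tt N7558 (iv F53013)) (tt N8455 (iv F56619)) (tt N6865 F52951) (tt N8457 D14344) (tt N6555 (iv D13432)))
theorem Q7547 : ∀ i, i < 7547 → P i := stepQ 7546 Q7546 (allL N7546 (tt N7546 F52952) (tt N8448 (iv F56586)) (tt N6579 F52953) (tt N8458 D14345) (tt N7559 (iv F53017)) (tt N8456 (iv F56623)) (tt N6866 F52954) (tt N6556 (iv D13433)) (tt N8457 (iv F56627)))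
theorem Q7548 : ∀ i, i < 7548 → P i := stepQ 7547 Q7547 (allL N7547 (tt N7547 F52955) (tt N8449 (iv F56589)) (tt N6561 F52956) (tt N8454 (iv F56612)) (tt N7547 F52957) (tt N6867 F52958) (tt N6558 F52959) (tt N8459 D14346) (tt N6557 (iv D13434)))
theorem Q7549 : ∀ i, i < 7549 → P i := stepQ 7548 Q7548 (allL N7548 (tt N7548 F52960) (tt N8450 (iv F56594)) (tt N6562 F52961) (tt N8460 D14347) (tt N7548 F52962) (tt N6559 F52963) (tt N8459 (iv F56635)) (tt N6558 (iv D13435)) (tt N7548 F52964))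
theorem Q7550 : ∀ i, i < 7550 → P i := stepQ 7549 Q7549 (allL N7549 (tt N7549 F52965) (tt N8451 (iv F56599)) (tt N8461 D14348) (tt N6559 (iv D13436)) (tt N8462 D14349) (tt N8460 (iv F56638)) (tt N6869 F52966) (tt N8458 (iv F56630)) (tt N7549 F52967))
theorem Q7551 : ∀ i, i < 7551 → P i := stepQ 7550 Q7550 (allL N7550 (tt N7550 F52968) (tt N8452 (iv F56602)) (tt N7550 F52969) (tt N8462 (iv F56645)) (tt N6560 (iv D13437)) (tt N8463 D14350) (tt N6870 F52970) (tt N7563 (iv F53035)) (tt N7550 F52971))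
theorem Q7552 : ∀ i, i < 7552 → P i := stepQ 7551 Q7551 (allL N7551 (tt N7551 F52972) (tt N6604 F52973) (tt N8459 (iv F56632)) (tt N7837 (iv F54088)) (tt N7551 F52974) (tt N6871 F52975) (tt N6562 F52976) (tt N6561 (iv D13438)) (tt N7551 F52977))
theorem Q7553 : ∀ i, i < 7553 → P i := stepQ 7552 Q7552 (allL N7552 (tt N7552 F52978) (tt N6605 F52979) (tt N7674 (iv F53532)) (tt N6562 (iv D13439)) (tt N7673 (iv F53527)) (tt N6563 F52980) (tt N7837 (iv F54091)) (tt N6585 F52981) (tt N7552 F52982))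
theorem Q7554 : ∀ i, i < 7554 → P i := stepQ 7553 Q7553 (allL N7553 (tt N7553 F52983) (tt N8464 D14351) (tt N6563 (iv D13440)) (tt N8461 (iv F56641)) (tt N7553 F52984) (tt N7674 (iv F53534)) (tt N6873 F52985) (tt N6586 F52986) (tt N7553 F52987))
theorem Q7555 : ∀ i, i < 7555 → P i := stepQ 7554 Q7554 (allL N7554 (tt N7554 F52988) (tt N8370 (iv F56286)) (tt N6861 F52989) (tt N7554 F52990) (tt N6564 (iv D13441)) (tt N7541 F52991) (tt N6863 (iv F52992)) (tt N6862 (iv F52993)) (tt N8465 D14352))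
theorem Q7556 : ∀ i, i < 7556 → P i := stepQ 7555 Q7555 (allL N7555 (tt N7555 F52994) (tt N8371 (iv F56290)) (tt N6862 F52995) (tt N6567 F52996) (tt N6863 F52997) (tt N6575 F52998) (tt N6564 (iv D13442)) (tt N6861 (iv F52999)) (tt N8466 D14353))
theorem Q7557 : ∀ i, i < 7557 → P i := stepQ 7556 Q7556 (allL N7556 (tt N7556 F53000) (tt N8372 (iv F56295)) (tt N6863 F53001) (tt N6716 F53002) (tt N6862 F53003) (tt N6565 F53004) (tt N6861 F53005) (tt N6564 (iv D13443)) (tt N8467 D14354))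
theorem Q7558 : ∀ i, i < 7558 → P i := stepQ 7557 Q7557 (allL N7557 (tt N7557 F53006) (tt N8373 (iv F56300)) (tt N6864 F53007) (tt N6568 F53008) (tt N8465 (iv F56662)) (tt N6566 F53009) (tt N8466 (iv F56670)) (tt N8468 D14355) (tt N6564 (iv D13444)))
theorem Q7559 : ∀ i, i < 7559 → P i := stepQ 7558 Q7558 (allL N7558 (tt N7558 F53010) (tt N8374 (iv F56303)) (tt N6865 F53011) (tt N6718 F53012) (tt N7545 F53013) (tt N8467 (iv F56675)) (tt N6578 F53014) (tt N8469 D14356) (tt N6565 (iv D13445)))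
theorem Q7560 : ∀ i, i < 7560 → P i := stepQ 7559 Q7559 (allL N7559 (tt N7559 F53015) (tt N8375 (iv F56306)) (tt N6866 F53016) (tt N8470 D14357) (tt N7546 F53017) (tt N8468 (iv F56679)) (tt N6579 F53018) (tt N6566 (iv D13446)) (tt N8469 (iv F56684)))
theorem Q7561 : ∀ i, i < 7561 → P i := stepQ 7560 Q7560 (allL N7560 (tt N7560 F53019) (tt N8376 (iv F56308)) (tt N6571 F53020) (tt N8466 (iv F56667)) (tt N7560 F53021) (tt N6580 F53022) (tt N6568 F53023) (tt N8471 D14358) (tt N6567 (iv D13447)))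
theorem Q7562 : ∀ i, i < 7562 → P i := stepQ 7561 Q7561 (allL N7561 (tt N7561 F53024) (tt N8377 (iv F56314)) (tt N6572 F53025) (tt N8472 D14359) (tt N7561 F53026) (tt N6569 F53027) (tt N8471 (iv F56692)) (tt N6568 (iv D13448)) (tt N6721 F53028))
theorem Q7563 : ∀ i, i < 7563 → P i := stepQ 7562 Q7562 (allL N7562 (tt N7562 F53029) (tt N8378 (iv F56320)) (tt N8473 D14360) (tt N6569 (iv D13449)) (tt N8474 D14361) (tt N8472 (iv F56695)) (tt N6582 F53030) (tt N8470 (iv F56687)) (tt N6722 F53031))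
theorem Q7564 : ∀ i, i < 7564 → P i := stepQ 7563 Q7563 (allL N7563 (tt N7563 F53032) (tt N8379 (iv F56324)) (tt N7563 F53033) (tt N8474 (iv F56702)) (tt N6570 (iv D13450)) (tt N7676 (iv F53545)) (tt N6583 F53034) (tt N7550 F53035) (tt N6723 F53036))
theorem Q7565 : ∀ i, i < 7565 → P i := stepQ 7564 Q7564 (allL N7564 (tt N7564 F53037) (tt N6607 F53038) (tt N8471 (iv F56689)) (tt N7836 (iv F54081)) (tt N7564 F53039) (tt N6584 F53040) (tt N6572 F53041) (tt N6571 (iv D13451)) (tt N6724 F53042))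
theorem Q7566 : ∀ i, i < 7566 → P i := stepQ 7565 Q7565 (allL N7565 (tt N7565 F53043) (tt N6608 F53044) (tt N8475 D14362) (tt N6572 (iv D13452)) (tt N7839 (iv F54102)) (tt N6573 F53045) (tt N7836 (iv F54084)) (tt N6872 F53046) (tt N6725 F53047))
theorem Q7567 : ∀ i, i < 7567 → P i := stepQ 7566 Q7566 (allL N7566 (tt N7566 F53048) (tt N8476 D14363) (tt N6573 (iv D13453)) (tt N8473 (iv F56698)) (tt N7566 F53049) (tt N8475 (iv F56707)) (tt N6586 F53050) (tt N6873 F53051) (tt N6726 F53052))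
theorem Q7568 : ∀ i, i < 7568 → P i := stepQ 7567 Q7567 (allL N7567 (tt N7567 F53053) (tt N8381 (iv F56334)) (tt N8453 (iv F56607)) (tt N6587 F53054) (tt N6577 F53055) (tt N7813 (iv F53993)) (tt N7569 (iv F53063)) (tt N8477 D14364) (tt N6574 (iv D13454)))
theorem Q7569 : ∀ i, i < 7569 → P i := stepQ 7568 Q7568 (allL N7568 (tt N7568 F53056) (tt N8382 (iv F56337)) (tt N8454 (iv F56611)) (tt N6580 F53057) (tt N7569 (iv F53061)) (tt N8466 (iv F56669)) (tt N6577 F53058) (tt N8478 D14365) (tt N6575 (iv D13455)))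
theorem Q7570 : ∀ i, i < 7570 → P i := stepQ 7569 Q7569 (allL N7569 (tt N7569 F53059) (tt N8383 (iv F56340)) (tt N8455 (iv F56616)) (tt N6729 F53060) (tt N7568 F53061) (tt N6578 F53062) (tt N7567 F53063) (tt N8479 D14366) (tt N6576 (iv D13456)))
theorem Q7571 : ∀ i, i < 7571 → P i := stepQ 7570 Q7570 (allL N7570 (tt N7570 F53064) (tt N8384 (iv F56345)) (tt N8456 (iv F56622)) (tt N8480 D14367) (tt N8477 (iv F56716)) (tt N6579 F53065) (tt N8478 (iv F56718)) (tt N6577 (iv D13457)) (tt N8479 (iv F56724)))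
theorem Q7572 : ∀ i, i < 7572 → P i := stepQ 7571 Q7571 (allL N7571 (tt N7571 F53066) (tt N8385 (iv F56347)) (tt N8457 (iv F56625)) (tt N8481 D14368) (tt N7817 (iv F54003)) (tt N8479 (iv F56722)) (tt N8469 (iv F56683)) (tt N6578 (iv D13458)) (tt N6579 F53067))
theorem Q7573 : ∀ i, i < 7573 → P i := stepQ 7572 Q7572 (allL N7572 (tt N7572 F53068) (tt N8386 (iv F56349)) (tt N8482 D14369) (tt N6579 (iv D13459)) (tt N8483 D14370) (tt N8480 (iv F56726)) (tt N8470 (iv F56686)) (tt N6582 F53069) (tt N8481 (iv F56732)))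
theorem Q7574 : ∀ i, i < 7574 → P i := stepQ 7573 Q7573 (allL N7573 (tt N7573 F53070) (tt N8387 (iv F56351)) (tt N6584 F53071) (tt N8484 D14371) (tt N6593 F53072) (tt N8471 (iv F56691)) (tt N6581 F53073) (tt N6580 (iv D13460)) (tt N6733 F53074))
theorem Q7575 : ∀ i, i < 7575 → P i := stepQ 7574 Q7574 (allL N7574 (tt N7574 F53075) (tt N8388 (iv F56356)) (tt N7516 F53076) (tt N6581 (iv D13461)) (tt N7515 F53077) (tt N6582 F53078) (tt N8484 (iv F56742)) (tt N8480 (iv F56727)) (tt N6734 F53079))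
theorem Q7576 : ∀ i, i < 7576 → P i := stepQ 7575 Q7575 (allL N7575 (tt N7575 F53080) (tt N8485 D14372) (tt N6582 (iv D13462)) (tt N6586 F53081) (tt N7811 (iv F53985)) (tt N7516 F53082) (tt N8473 (iv F56699)) (tt N8482 (iv F56735)) (tt N6735 F53083))
theorem Q7577 : ∀ i, i < 7577 → P i := stepQ 7576 Q7576 (allL N7576 (tt N7576 F53084) (tt N8390 (iv F56362)) (tt N7811 (iv F53983)) (tt N6583 F53085) (tt N6582 (iv D13463)) (tt N7518 F53086) (tt N8474 (iv F56703)) (tt N8483 (iv F56738)) (tt N6736 F53087))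
theorem Q7578 : ∀ i, i < 7578 → P i := stepQ 7577 Q7577 (allL N7577 (tt N8019 (iv F54902)) (tt N6586 (iv D13464)) (tt N6610 F53088) (tt N8485 (iv F56744)) (tt N7577 F53089) (tt N7629 (iv F53349)) (tt N8476 (iv F56712)) (tt N8464 (iv F56657)) (tt N6737 F53090))
theorem Q7579 : ∀ i, i < 7579 → P i := stepQ 7578 Q7578 (allL N7578 (tt N7578 F53091) (tt N8393 (iv F56371)) (tt N7578 F53092) (tt N8486 D14373) (tt N6590 F53093) (tt N7827 (iv F54039)) (tt N7692 (iv F53613)) (tt N6587 (iv D13465)) (tt N7691 (iv F53608)))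
theorem Q7580 : ∀ i, i < 7580 → P i := stepQ 7579 Q7579 (allL N7579 (tt N7579 F53094) (tt N8394 (iv F56375)) (tt N7579 F53095) (tt N7191 (iv F53099)) (tt N7692 (iv F53611)) (tt N7579 F53096) (tt N6590 F53097) (tt N6588 (iv D13466)) (tt N7190 F53098))
theorem Q7581 : ∀ i, i < 7581 → P i := stepQ 7580 Q7580 (allL N7580 (tt N7580 F53100) (tt N7216 F53101) (tt N7580 F53102) (tt N7184 F53103) (tt N7691 (iv F53606)) (tt N6591 F53104) (tt N7190 F53105) (tt N6589 (iv D13467)) (tt N6590 F53106))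
theorem Q7582 : ∀ i, i < 7582 → P i := stepQ 7581 Q7581 (allL N7581 (tt N7581 F53107) (tt N7217 F53108) (tt N7186 (iv F53113)) (tt N6590 (iv D13468)) (tt N7185 (iv F53114)) (tt N6592 F53109) (tt N7191 F53110) (tt N6594 F53111) (tt N7184 F53112))
theorem Q7583 : ∀ i, i < 7583 → P i := stepQ 7582 Q7582 (allL N7582 (tt N7582 F53115) (tt N8395 (iv F56381)) (tt N7182 F53116) (tt N6593 (iv D13469)) (tt N7172 (iv F53121)) (tt N7582 F53117) (tt N6594 F53118) (tt N7191 F53119) (tt N6740 F53120))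
theorem Q7584 : ∀ i, i < 7584 → P i := stepQ 7583 Q7583 (allL N7583 (tt N6598 F53122) (tt N6611 F53123) (tt N8440 (iv F56552)) (tt N8045 (iv F55013)) (tt N7583 F53124) (tt N6757 F53125) (tt N6595 (iv D13470)) (tt N7583 F53126) (tt N8487 D14374))
theorem Q7585 : ∀ i, i < 7585 → P i := stepQ 7584 Q7584 (allL N7584 (tt N6599 F53127) (tt N6612 F53128) (tt N8441 (iv F56558)) (tt N8404 (iv F56421)) (tt N7584 F53129) (tt N6596 F53130) (tt N8487 (iv F56756)) (tt N8488 D14375) (tt N6595 (iv D13471)))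
theorem Q7586 : ∀ i, i < 7586 → P i := stepQ 7585 Q7585 (allL N7585 (tt N6600 F53131) (tt N6613 F53132) (tt N8442 (iv F56563)) (tt N8489 D14376) (tt N6597 F53133) (tt N8488 (iv F56760)) (tt N6759 F53134) (tt N6596 (iv D13472)) (tt N7585 F53135))
theorem Q7587 : ∀ i, i < 7587 → P i := stepQ 7586 Q7586 (allL N7586 (tt N8487 (iv F56752)) (tt N6601 F53136) (tt N8449 (iv F56590)) (tt N8406 (iv F56428)) (tt N7586 F53137) (tt N6820 F53138) (tt N6599 F53139) (tt N8490 D14377) (tt N6598 (iv D13473)))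
theorem Q7588 : ∀ i, i < 7588 → P i := stepQ 7587 Q7587 (allL N7587 (tt N8488 (iv F56757)) (tt N6602 F53140) (tt N8450 (iv F56595)) (tt N8491 D14378) (tt N7587 F53141) (tt N6600 F53142) (tt N8490 (iv F56769)) (tt N6599 (iv D13474)) (tt N7587 F53143))
theorem Q7589 : ∀ i, i < 7589 → P i := stepQ 7588 Q7588 (allL N7588 (tt N8489 (iv F56762)) (tt N6603 F53144) (tt N8492 D14379) (tt N6600 (iv D13475)) (tt N8023 (iv F54925)) (tt N8491 (iv F56772)) (tt N6822 F53145) (tt N8408 (iv F56435)) (tt N7588 F53146))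
theorem Q7590 : ∀ i, i < 7590 → P i := stepQ 7589 Q7589 (allL N7589 (tt N6617 F53147) (tt N8490 (iv F56766)) (tt N6604 F53148) (tt N7922 (iv F54480)) (tt N7589 F53149) (tt N6841 F53150) (tt N6602 F53151) (tt N6601 (iv D13476)) (tt N7589 F53152))
theorem Q7591 : ∀ i, i < 7591 → P i := stepQ 7590 Q7590 (allL N7590 (tt N6618 F53153) (tt N8491 (iv F56771)) (tt N7920 (iv F54469)) (tt N6602 (iv D13477)) (tt N8493 D14380) (tt N6603 F53154) (tt N7922 (iv F54483)) (tt N8410 (iv F56442)) (tt N7590 F53155))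
theorem Q7592 : ∀ i, i < 7592 → P i := stepQ 7591 Q7591 (allL N7591 (tt N6619 F53156) (tt N8494 D14381) (tt N6603 (iv D13478)) (tt N6606 F53157) (tt N8074 (iv F55146)) (tt N7920 (iv F54471)) (tt N6843 F53158) (tt N8411 (iv F56446)) (tt N7591 F53159))
theorem Q7593 : ∀ i, i < 7593 → P i := stepQ 7592 Q7592 (allL N7592 (tt N8022 (iv F54918)) (tt N6606 (iv D13479)) (tt N8464 (iv F56654)) (tt N8494 (iv F56781)) (tt N7592 F53160) (tt N7875 (iv F54258)) (tt N6891 F53161) (tt N6610 F53162) (tt N7592 F53163))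
theorem Q7594 : ∀ i, i < 7594 → P i := stepQ 7593 Q7593 (allL N7593 (tt N8021 (iv F54912)) (tt N6609 (iv D13480)) (tt N8476 (iv F56710)) (tt N8231 (iv F55829)) (tt N7593 F53164) (tt N7882 (iv F54287)) (tt N6610 F53165) (tt N6891 F53166) (tt N6741 F53167))
theorem Q7595 : ∀ i, i < 7595 → P i := stepQ 7594 Q7594 (allL N7594 (tt N6614 F53168) (tt N8487 (iv F56753)) (tt N7594 F53169) (tt N8048 (iv F55027)) (tt N7594 F53170) (tt N6780 F53171) (tt N6612 F53172) (tt N8495 D14382) (tt N6611 (iv D13481)))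
theorem Q7596 : ∀ i, i < 7596 → P i := stepQ 7595 Q7595 (allL N7595 (tt N6615 F53173) (tt N8488 (iv F56758)) (tt N7595 F53174) (tt N8496 D14383) (tt N7595 F53175) (tt N6613 F53176) (tt N8495 (iv F56788)) (tt N6612 (iv D13482)) (tt N7595 F53177))
theorem Q7597 : ∀ i, i < 7597 → P i := stepQ 7596 Q7596 (allL N7596 (tt N6616 F53178) (tt N8489 (iv F56763)) (tt N8493 (iv F56777)) (tt N6613 (iv D13483)) (tt N7920 (iv F54470)) (tt N8496 (iv F56791)) (tt N6782 F53179) (tt N8417 (iv F56463)) (tt N7596 F53180))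
theorem Q7598 : ∀ i, i < 7598 → P i := stepQ 7597 Q7597 (allL N7597 (tt N8495 (iv F56784)) (tt N6617 F53181) (tt N7597 F53182) (tt N7956 (iv F54673)) (tt N7597 F53183) (tt N6794 F53184) (tt N6615 F53185) (tt N6614 (iv D13484)) (tt N7597 F53186))
theorem Q7599 : ∀ i, i < 7599 → P i := stepQ 7598 Q7598 (allL N7598 (tt N8496 (iv F56790)) (tt N6618 F53187) (tt N8100 (iv F55273)) (tt N6615 (iv D13485)) (tt N8099 F55271) (tt N6616 F53188) (tt N7956 (iv F54676)) (tt N8418 (iv F56466)) (tt N7598 F53189))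
theorem Q7600 : ∀ i, i < 7600 → P i := stepQ 7599 Q7599 (allL N7599 (tt N8493 (iv F56776)) (tt N8099 (iv F55266)) (tt N6616 (iv D13486)) (tt N7599 F53190) (tt N6618 F53191) (tt N8100 (iv F55275)) (tt N6796 F53192) (tt N8419 (iv F56469)) (tt N7599 F53193))
theorem Q7601 : ∀ i, i < 7601 → P i := stepQ 7600 Q7600 (allL N7600 (tt N6656 F53194) (tt N6738 F53195) (tt N7600 F53196) (tt N7033 F53197) (tt N6620 (iv D13487)) (tt N7600 F53198) (tt N6698 F53199) (tt N6696 F53200) (tt N7192 F53201))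
theorem Q7602 : ∀ i, i < 7602 → P i := stepQ 7601 Q7601 (allL N7601 (tt N6664 F53202) (tt N7601 F53203) (tt N6691 F53204) (tt N8155 (iv F55540)) (tt N6621 (iv D13488)) (tt N7624 (iv F53317)) (tt N6623 F53205) (tt N7601 F53206) (tt N8291 (iv F56046)))
theorem Q7603 : ∀ i, i < 7603 → P i := stepQ 7602 Q7602 (allL N7602 (tt N6666 F53207) (tt N6723 F53208) (tt N6623 F53209) (tt N8497 D14384) (tt N6622 (iv D13489)) (tt N7640 (iv F53405)) (tt N6691 F53210) (tt N7602 F53211) (tt N8379 (iv F56327)))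
theorem Q7604 : ∀ i, i < 7604 → P i := stepQ 7603 Q7603 (allL N7603 (tt N6668 F53212) (tt N7603 F53213) (tt N7640 (iv F53403)) (tt N8160 (iv F55555)) (tt N7603 F53214) (tt N6623 (iv D13490)) (tt N7637 (iv F53390)) (tt N7603 F53215) (tt N8498 D14385))
theorem Q7605 : ∀ i, i < 7605 → P i := stepQ 7604 Q7604 (allL N7604 (tt N6669 F53216) (tt N7604 F53217) (tt N8379 (iv F56325)) (tt N8161 (iv F55558)) (tt N6624 F53218) (tt N8498 (iv F56801)) (tt N8291 (iv F56044)) (tt N8499 D14386) (tt N6623 (iv D13491)))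
theorem Q7606 : ∀ i, i < 7606 → P i := stepQ 7605 Q7605 (allL N7605 (tt N6670 F53219) (tt N7605 F53220) (tt N7540 F53221) (tt N7074 F53222) (tt N8499 (iv F56805)) (tt N7605 F53223) (tt N7084 F53224) (tt N6624 (iv D13492)) (tt N7605 F53225))
theorem Q7607 : ∀ i, i < 7607 → P i := stepQ 7606 Q7606 (allL N7606 (tt N6671 F53226) (tt N6722 F53227) (tt N8171 (iv F55595)) (tt N6625 (iv D13493)) (tt N8497 (iv F56795)) (tt N8500 D14387) (tt N6690 F53228) (tt N8501 D14388) (tt N8378 (iv F56322)))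
theorem Q7608 : ∀ i, i < 7608 → P i := stepQ 7607 Q7607 (allL N7607 (tt N6672 F53229) (tt N6721 F53230) (tt N6626 F53231) (tt N8500 (iv F56810)) (tt N7607 F53232) (tt N6625 (iv D13494)) (tt N8502 D14389) (tt N6628 F53233) (tt N8377 (iv F56318)))
theorem Q7609 : ∀ i, i < 7609 → P i := stepQ 7608 Q7608 (allL N7608 (tt N6674 F53234) (tt N6650 F53235) (tt N8502 (iv F56817)) (tt N7911 (iv F54431)) (tt N7608 F53236) (tt N6692 F53237) (tt N6626 (iv D13495)) (tt N6629 F53238) (tt N8380 (iv F56333)))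
theorem Q7610 : ∀ i, i < 7610 → P i := stepQ 7609 Q7609 (allL N7609 (tt N6676 F53239) (tt N6717 F53240) (tt N6633 F53241) (tt N6628 F53242) (tt N8503 D14390) (tt N6627 (iv D13496)) (tt N8504 D14391) (tt N8505 D14392) (tt N6679 F53243))
theorem Q7611 : ∀ i, i < 7611 → P i := stepQ 7610 Q7610 (allL N7610 (tt N6677 F53244) (tt N6719 F53245) (tt N6634 F53246) (tt N8501 (iv F56813)) (tt N7610 F53247) (tt N8505 (iv F56841)) (tt N6687 F53248) (tt N6627 (iv D13497)) (tt N8506 D14393))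
theorem Q7612 : ∀ i, i < 7612 → P i := stepQ 7611 Q7611 (allL N7611 (tt N6678 F53249) (tt N6720 F53250) (tt N6629 F53251) (tt N8504 (iv F56832)) (tt N7611 F53252) (tt N6688 F53253) (tt N6628 (iv D13498)) (tt N8502 (iv F56820)) (tt N6681 F53254))
theorem Q7613 : ∀ i, i < 7613 → P i := stepQ 7612 Q7612 (allL N7612 (tt N6679 F53255) (tt N7612 F53256) (tt N6685 F53257) (tt N6631 F53258) (tt N8507 D14394) (tt N6630 (iv D13499)) (tt N8508 D14395) (tt N8509 D14396) (tt N6676 F53259))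
theorem Q7614 : ∀ i, i < 7614 → P i := stepQ 7613 Q7613 (allL N7613 (tt N6680 F53260) (tt N7613 F53261) (tt N6687 F53262) (tt N8206 (iv F55715)) (tt N7613 F53263) (tt N8509 (iv F56869)) (tt N6634 F53264) (tt N6630 (iv D13500)) (tt N8510 D14397))
theorem Q7615 : ∀ i, i < 7615 → P i := stepQ 7614 Q7614 (allL N7614 (tt N6681 F53265) (tt N7614 F53266) (tt N6632 F53267) (tt N8508 (iv F56860)) (tt N7614 F53268) (tt N6636 F53269) (tt N6631 (iv D13501)) (tt N8208 (iv F55726)) (tt N6678 F53270))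
theorem Q7616 : ∀ i, i < 7616 → P i := stepQ 7615 Q7615 (allL N7615 (tt N6682 F53271) (tt N7615 F53272) (tt N8503 (iv F56823)) (tt N6642 F53273) (tt N6633 (iv D13502)) (tt N7615 F53274) (tt N7292 F53276) (tt N7291 (iv F53275)) (tt N8295 F56073))
theorem Q7617 : ∀ i, i < 7617 → P i := stepQ 7616 Q7616 (allL N7616 (tt N6683 F53277) (tt N7616 F53278) (tt N8504 (iv F56831)) (tt N6636 F53279) (tt N7292 F53280) (tt N8508 (iv F56862)) (tt N6633 (iv D13503)) (tt N7290 (iv F53281)) (tt N8293 F56060))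
theorem Q7618 : ∀ i, i < 7618 → P i := stepQ 7617 Q7617 (allL N7617 (tt N6684 F53282) (tt N7617 F53283) (tt N8505 (iv F56839)) (tt N8213 (iv F55748)) (tt N7291 F53284) (tt N6634 F53285) (tt N7290 F53286) (tt N6633 (iv D13504)) (tt N8511 D14398))
theorem Q7619 : ∀ i, i < 7619 → P i := stepQ 7618 Q7618 (allL N7618 (tt N6685 F53287) (tt N7618 F53288) (tt N6679 F53289) (tt N6637 F53290) (tt N8295 (iv F56070)) (tt N6635 F53291) (tt N8293 (iv F56058)) (tt N8292 F56052) (tt N6633 (iv D13505)))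
theorem Q7620 : ∀ i, i < 7620 → P i := stepQ 7619 Q7619 (allL N7619 (tt N6686 F53292) (tt N7619 F53293) (tt N8506 (iv F56845)) (tt N8215 (iv F55758)) (tt N7619 F53294) (tt N8511 (iv F56880)) (tt N8510 (iv F56875)) (tt N8512 D14399) (tt N6634 (iv D13506)))
theorem Q7621 : ∀ i, i < 7621 → P i := stepQ 7620 Q7620 (allL N7620 (tt N6687 F53295) (tt N7620 F53296) (tt N6680 F53297) (tt N8513 D14400) (tt N7620 F53298) (tt N8292 (iv F56051)) (tt N6677 F53299) (tt N6635 (iv D13507)) (tt N8512 (iv F56887)))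
theorem Q7622 : ∀ i, i < 7622 → P i := stepQ 7621 Q7621 (allL N7621 (tt N6688 F53300) (tt N7621 F53301) (tt N6640 F53302) (tt N8293 F56059) (tt N6646 F53303) (tt N6678 F53304) (tt N6637 F53305) (tt N8514 D14401) (tt N6636 (iv D13508)))
theorem Q7623 : ∀ i, i < 7623 → P i := stepQ 7622 Q7622 (allL N7622 (tt N6689 F53306) (tt N7622 F53307) (tt N6641 F53308) (tt N8515 D14402) (tt N6647 F53309) (tt N6638 F53310) (tt N8514 (iv F56897)) (tt N6637 (iv D13509)) (tt N8218 (iv F55771)))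
theorem Q7624 : ∀ i, i < 7624 → P i := stepQ 7623 Q7623 (allL N7623 (tt N6690 F53311) (tt N7623 F53312) (tt N8319 (iv F56146)) (tt N6638 (iv D13510)) (tt N8516 D14403) (tt N8515 (iv F56901)) (tt N6671 F53313) (tt N8513 (iv F56891)) (tt N8219 (iv F55775)))
theorem Q7625 : ∀ i, i < 7625 → P i := stepQ 7624 Q7624 (allL N7624 (tt N6691 F53314) (tt N7624 F53315) (tt N6664 F53316) (tt N8516 (iv F56904)) (tt N6639 (iv D13511)) (tt N7601 F53317) (tt N6666 F53318) (tt N7624 F53319) (tt N8220 (iv F55780)))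
theorem Q7626 : ∀ i, i < 7626 → P i := stepQ 7625 Q7625 (allL N7625 (tt N6692 F53320) (tt N6651 F53321) (tt N8514 (iv F56894)) (tt N7909 (iv F54421)) (tt N6648 F53322) (tt N6674 F53323) (tt N6641 F53324) (tt N6640 (iv D13512)) (tt N8221 (iv F55786)))
theorem Q7627 : ∀ i, i < 7627 → P i := stepQ 7626 Q7626 (allL N7626 (tt N6695 F53325) (tt N7626 F53326) (tt N7626 F53327) (tt N8295 (iv F56069)) (tt N6645 F53328) (tt N7626 F53329) (tt N6658 F53330) (tt N6657 (iv F53331)) (tt N6642 (iv D13513)))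
theorem Q7628 : ∀ i, i < 7628 → P i := stepQ 7627 Q7627 (allL N7627 (tt N6696 F53332) (tt N7627 F53333) (tt N7627 F53334) (tt N6646 F53335) (tt N6658 F53336) (tt N7627 F53337) (tt N6645 F53338) (tt N6656 F53339) (tt N6643 (iv D13514)))
theorem Q7629 : ∀ i, i < 7629 → P i := stepQ 7628 Q7628 (allL N7628 (tt N6699 F53340) (tt N7628 F53341) (tt N6648 F53342) (tt N7633 (iv F53371)) (tt N8514 (iv F56895)) (tt N7628 F53343) (tt N6647 F53344) (tt N6646 (iv D13515)) (tt N8226 (iv F55809)))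
theorem Q7630 : ∀ i, i < 7630 → P i := stepQ 7629 Q7629 (allL N7629 (tt N7073 F53345) (tt N6707 F53346) (tt N6939 F53347) (tt N8270 (iv F55974)) (tt N6653 F53348) (tt N7577 F53349) (tt N6943 F53350) (tt N8517 D14404) (tt N6652 (iv D13516)))
theorem Q7631 : ∀ i, i < 7631 → P i := stepQ 7630 Q7630 (allL N7630 (tt N7074 F53351) (tt N6708 F53352) (tt N6940 F53353) (tt N6670 F53354) (tt N8517 (iv F56910)) (tt N7630 F53355) (tt N6944 F53356) (tt N6653 (iv D13517)) (tt N7630 F53357))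
theorem Q7632 : ∀ i, i < 7632 → P i := stepQ 7631 Q7631 (allL N7631 (tt N7034 F53358) (tt N7631 F53359) (tt N6922 F53360) (tt N8287 (iv F56027)) (tt N7633 (iv F53372)) (tt N6655 F53361) (tt N7240 F53362) (tt N6654 (iv D13518)) (tt N8518 D14405))
theorem Q7633 : ∀ i, i < 7633 → P i := stepQ 7632 Q7632 (allL N7632 (tt N7036 F53363) (tt N7632 F53364) (tt N6924 F53365) (tt N8289 (iv F56035)) (tt N7632 F53366) (tt N8518 (iv F56918)) (tt N6921 F53367) (tt N7529 F53368) (tt N6655 (iv D13519)))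
theorem Q7634 : ∀ i, i < 7634 → P i := stepQ 7633 Q7633 (allL N7633 (tt N7669 (iv F53499)) (tt N7633 F53369) (tt N6662 F53370) (tt N7628 F53371) (tt N7631 F53372) (tt N7633 F53373) (tt N6661 F53374) (tt N6660 (iv D13520)) (tt N8297 (iv F56085)))
theorem Q7635 : ∀ i, i < 7635 → P i := stepQ 7634 Q7634 (allL N7634 (tt N8291 (iv F56040)) (tt N6709 F53375) (tt N8220 (iv F55778)) (tt N8307 (iv F56114)) (tt N6665 F53376) (tt N7463 F53377) (tt N6669 F53378) (tt N8519 D14406) (tt N6664 (iv D13521)))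
theorem Q7636 : ∀ i, i < 7636 → P i := stepQ 7635 Q7635 (allL N7635 (tt N7084 F53379) (tt N6710 F53380) (tt N7718 (iv F53697)) (tt N6944 F53381) (tt N8519 (iv F56923)) (tt N6832 F53382) (tt N6670 F53383) (tt N6665 (iv D13522)) (tt N7635 F53384))
theorem Q7637 : ∀ i, i < 7637 → P i := stepQ 7636 Q7636 (allL N7636 (tt N8497 (iv F56793)) (tt N7636 F53385) (tt N8312 (iv F56131)) (tt N6666 (iv D13523)) (tt N6671 F53386) (tt N8520 D14407) (tt N8516 (iv F56906)) (tt N8521 D14408) (tt N8522 D14409))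
theorem Q7638 : ∀ i, i < 7638 → P i := stepQ 7637 Q7637 (allL N7637 (tt N7640 (iv F53401)) (tt N7637 F53387) (tt N6668 F53388) (tt N8520 (iv F56929)) (tt N7637 F53389) (tt N6666 (iv D13524)) (tt N7603 F53390) (tt N7637 F53391) (tt N8523 D14410))
theorem Q7639 : ∀ i, i < 7639 → P i := stepQ 7638 Q7638 (allL N7638 (tt N8379 (iv F56323)) (tt N7638 F53392) (tt N6669 F53393) (tt N8522 (iv F56935)) (tt N6667 F53394) (tt N8523 (iv F56940)) (tt N8220 (iv F55779)) (tt N8524 D14411) (tt N6666 (iv D13525)))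
theorem Q7640 : ∀ i, i < 7640 → P i := stepQ 7639 Q7639 (allL N7639 (tt N7540 F53395) (tt N7639 F53396) (tt N6670 F53397) (tt N7533 F53398) (tt N8524 (iv F56945)) (tt N7639 F53399) (tt N7718 (iv F53699)) (tt N6667 (iv D13526)) (tt N7639 F53400))
theorem Q7641 : ∀ i, i < 7641 → P i := stepQ 7640 Q7640 (allL N7640 (tt N7637 F53401) (tt N6711 F53402) (tt N7603 F53403) (tt N8316 (iv F56138)) (tt N7640 F53404) (tt N7602 F53405) (tt N6668 (iv D13527)) (tt N7640 F53406) (tt N8525 D14412))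
theorem Q7642 : ∀ i, i < 7642 → P i := stepQ 7641 Q7641 (allL N7641 (tt N8498 (iv F56798)) (tt N6712 F53407) (tt N8523 (iv F56938)) (tt N8317 (iv F56140)) (tt N7641 F53408) (tt N6669 F53409) (tt N8525 (iv F56952)) (tt N8526 D14413) (tt N6668 (iv D13528)))
theorem Q7643 : ∀ i, i < 7643 → P i := stepQ 7642 Q7642 (allL N7642 (tt N8499 (iv F56802)) (tt N6713 F53410) (tt N8524 (iv F56944)) (tt N8527 D14414) (tt N6670 F53411) (tt N8526 (iv F56955)) (tt N8519 (iv F56925)) (tt N6669 (iv D13529)) (tt N7642 F53412))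
theorem Q7644 : ∀ i, i < 7644 → P i := stepQ 7643 Q7643 (allL N7643 (tt N8500 (iv F56808)) (tt N7643 F53413) (tt N8328 (iv F56177)) (tt N6672 F53414) (tt N8528 D14415) (tt N6671 (iv D13530)) (tt N8529 D14416) (tt N8530 D14417) (tt N8531 D14418))
theorem Q7645 : ∀ i, i < 7645 → P i := stepQ 7644 Q7644 (allL N7644 (tt N8501 (iv F56811)) (tt N7644 F53415) (tt N8329 (iv F56179)) (tt N6677 F53416) (tt N8521 (iv F56933)) (tt N8530 (iv F56970)) (tt N8513 (iv F56890)) (tt N6671 (iv D13531)) (tt N8532 D14419))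
theorem Q7646 : ∀ i, i < 7646 → P i := stepQ 7645 Q7645 (allL N7645 (tt N8378 (iv F56319)) (tt N7645 F53417) (tt N8330 (iv F56181)) (tt N6673 F53418) (tt N8522 (iv F56936)) (tt N8531 (iv F56974)) (tt N8219 (iv F55774)) (tt N8533 D14420) (tt N6671 (iv D13532)))
theorem Q7647 : ∀ i, i < 7647 → P i := stepQ 7646 Q7646 (allL N7646 (tt N8502 (iv F56815)) (tt N7646 F53419) (tt N6674 F53420) (tt N8529 (iv F56962)) (tt N7646 F53421) (tt N8514 (iv F56896)) (tt N6672 (iv D13533)) (tt N6678 F53422) (tt N8534 D14421))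
theorem Q7648 : ∀ i, i < 7648 → P i := stepQ 7647 Q7647 (allL N7647 (tt N8377 (iv F56313)) (tt N7647 F53423) (tt N6675 F53424) (tt N8531 (iv F56973)) (tt N7647 F53425) (tt N6673 F53426) (tt N8534 (iv F56981)) (tt N8209 (iv F55732)) (tt N6672 (iv D13534)))
theorem Q7649 : ∀ i, i < 7649 → P i := stepQ 7648 Q7648 (allL N7648 (tt N8380 (iv F56328)) (tt N6702 F53427) (tt N8534 (iv F56979)) (tt N8335 (iv F56192)) (tt N7648 F53428) (tt N8221 (iv F55784)) (tt N6675 F53429) (tt N8210 (iv F55738)) (tt N6674 (iv D13535)))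
theorem Q7650 : ∀ i, i < 7650 → P i := stepQ 7649 Q7649 (allL N7649 (tt N8503 (iv F56821)) (tt N7649 F53430) (tt N6682 F53431) (tt N7649 F53432) (tt N6676 (iv D13536)) (tt N7649 F53433) (tt N7090 (iv F53434)) (tt N7089 F53435) (tt N8507 (iv F56854)))
theorem Q7651 : ∀ i, i < 7651 → P i := stepQ 7650 Q7650 (allL N7650 (tt N8504 (iv F56829)) (tt N7650 F53436) (tt N6683 F53437) (tt N6678 F53438) (tt N7090 F53439) (tt N8293 (iv F56057)) (tt N6676 (iv D13537)) (tt N7088 (iv F53440)) (tt N8508 (iv F56863)))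
theorem Q7652 : ∀ i, i < 7652 → P i := stepQ 7651 Q7651 (allL N7651 (tt N8505 (iv F56837)) (tt N7651 F53441) (tt N6684 F53442) (tt N8530 (iv F56968)) (tt N7089 F53443) (tt N6677 F53444) (tt N7088 F53445) (tt N6676 (iv D13538)) (tt N8535 D14422))
theorem Q7653 : ∀ i, i < 7653 → P i := stepQ 7652 Q7652 (allL N7652 (tt N8506 (iv F56843)) (tt N7652 F53446) (tt N6686 F53447) (tt N8532 (iv F56976)) (tt N7652 F53448) (tt N8535 (iv F56985)) (tt N8512 (iv F56886)) (tt N8510 (iv F56876)) (tt N6677 (iv D13539)))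
theorem Q7654 : ∀ i, i < 7654 → P i := stepQ 7653 Q7653 (allL N7653 (tt N8507 (iv F56849)) (tt N6714 F53449) (tt N8295 (iv F56068)) (tt N7653 F53450) (tt N6679 (iv D13540)) (tt N7653 F53451) (tt N6825 (iv F53452)) (tt N6824 F53453) (tt N8503 (iv F56826)))
theorem Q7655 : ∀ i, i < 7655 → P i := stepQ 7654 Q7654 (allL N7654 (tt N8508 (iv F56857)) (tt N6715 F53454) (tt N8293 (iv F56055)) (tt N6681 F53455) (tt N6825 F53456) (tt N6683 F53457) (tt N6679 (iv D13541)) (tt N6823 (iv F53458)) (tt N8504 (iv F56835)))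
theorem Q7656 : ∀ i, i < 7656 → P i := stepQ 7655 Q7655 (allL N7655 (tt N8509 (iv F56865)) (tt N6716 F53459) (tt N8292 (iv F56049)) (tt N8372 (iv F56296)) (tt N6824 F53460) (tt N6680 F53461) (tt N6823 F53462) (tt N6679 (iv D13542)) (tt N8536 D14423))
theorem Q7657 : ∀ i, i < 7657 → P i := stepQ 7656 Q7656 (allL N7656 (tt N8510 (iv F56871)) (tt N6718 F53463) (tt N8512 (iv F56884)) (tt N8374 (iv F56304)) (tt N7656 F53464) (tt N8536 (iv F56989)) (tt N6686 F53465) (tt N8506 (iv F56848)) (tt N6680 (iv D13543)))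
theorem Q7658 : ∀ i, i < 7658 → P i := stepQ 7657 Q7657 (allL N7657 (tt N8295 (iv F56066)) (tt N6727 F53466) (tt N8507 (iv F56851)) (tt N6695 F53467) (tt N6685 F53468) (tt N7657 F53469) (tt N7469 F53470) (tt N8119 (iv F55361)) (tt N6682 (iv D13544)))
theorem Q7659 : ∀ i, i < 7659 → P i := stepQ 7658 Q7658 (allL N7658 (tt N8293 (iv F56053)) (tt N6728 F53471) (tt N8508 (iv F56859)) (tt N6688 F53472) (tt N7469 F53473) (tt N8504 (iv F56834)) (tt N6685 F53474) (tt N8137 (iv F55460)) (tt N6683 (iv D13545)))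
theorem Q7660 : ∀ i, i < 7660 → P i := stepQ 7659 Q7659 (allL N7659 (tt N8511 (iv F56877)) (tt N6729 F53475) (tt N8535 (iv F56983)) (tt N8383 (iv F56341)) (tt N7468 F53476) (tt N6686 F53477) (tt N7467 F53478) (tt N8537 D14424) (tt N6684 (iv D13546)))
theorem Q7661 : ∀ i, i < 7661 → P i := stepQ 7660 Q7660 (allL N7660 (tt N8292 (iv F56047)) (tt N6730 F53479) (tt N8509 (iv F56867)) (tt N8110 F55317) (tt N8119 (iv F55358)) (tt N6687 F53480) (tt N8137 (iv F55459)) (tt N6685 (iv D13547)) (tt N8537 (iv F56995)))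
theorem Q7662 : ∀ i, i < 7662 → P i := stepQ 7661 Q7661 (allL N7661 (tt N8512 (iv F56882)) (tt N6731 F53481) (tt N8510 (iv F56873)) (tt N8538 D14425) (tt N7661 F53482) (tt N8537 (iv F56993)) (tt N8506 (iv F56847)) (tt N6686 (iv D13548)) (tt N6687 F53483))
theorem Q7663 : ∀ i, i < 7663 → P i := stepQ 7662 Q7662 (allL N7662 (tt N8513 (iv F56888)) (tt N6732 F53484) (tt N8539 D14426) (tt N6687 (iv D13549)) (tt N8428 (iv F56505)) (tt N8110 F55318) (tt N8501 (iv F56814)) (tt N6690 F53485) (tt N8538 (iv F56997)))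
theorem Q7664 : ∀ i, i < 7664 → P i := stepQ 7663 Q7663 (allL N7663 (tt N8514 (iv F56892)) (tt N6733 F53486) (tt N6692 F53487) (tt N8540 D14427) (tt N6699 F53488) (tt N8502 (iv F56819)) (tt N6689 F53489) (tt N6688 (iv D13550)) (tt N8387 (iv F56355)))
theorem Q7665 : ∀ i, i < 7665 → P i := stepQ 7664 Q7664 (allL N7664 (tt N8515 (iv F56898)) (tt N6734 F53490) (tt N8541 D14428) (tt N6689 (iv D13551)) (tt N7397 F53491) (tt N6690 F53492) (tt N8540 (iv F57001)) (tt N8110 (iv F55316)) (tt N8388 (iv F56359)))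
theorem Q7666 : ∀ i, i < 7666 → P i := stepQ 7665 Q7665 (allL N7665 (tt N8319 (iv F56144)) (tt N8542 D14429) (tt N6690 (iv D13552)) (tt N6694 F53493) (tt N8543 D14430) (tt N8541 (iv F57005)) (tt N8171 (iv F55596)) (tt N8539 (iv F56998)) (tt N8389 (iv F56361)))
theorem Q7667 : ∀ i, i < 7667 → P i := stepQ 7666 Q7666 (allL N7666 (tt N8516 (iv F56902)) (tt N6736 F53494) (tt N8543 (iv F57009)) (tt N6691 F53495) (tt N6690 (iv D13553)) (tt N7400 F53496) (tt N8497 (iv F56797)) (tt N8428 (iv F56506)) (tt N8390 (iv F56365)))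
theorem Q7668 : ∀ i, i < 7668 → P i := stepQ 7667 Q7667 (allL N7667 (tt N8320 (iv F56148)) (tt N7861 (iv F54204)) (tt N6693 (iv D13554)) (tt N8541 (iv F57003)) (tt N7860 F54202) (tt N6694 F53497) (tt N7866 (iv F54226)) (tt N8184 (iv F55644)) (tt N8391 (iv F56367)))
theorem Q7669 : ∀ i, i < 7669 → P i := stepQ 7668 Q7668 (allL N7668 (tt N7994 (iv F54824)) (tt N6694 (iv D13555)) (tt N6703 F53498) (tt N8542 (iv F57007)) (tt N8165 (iv F55571)) (tt N7861 F54207) (tt N8169 (iv F55590)) (tt N8181 (iv F55634)) (tt N8392 (iv F56369)))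
theorem Q7670 : ∀ i, i < 7670 → P i := stepQ 7669 Q7669 (allL N7669 (tt N7633 F53499) (tt N6740 F53500) (tt N7040 F53501) (tt N6699 (iv D13556)) (tt N7034 (iv F53505)) (tt N7669 F53502) (tt N6700 F53503) (tt N7033 F53504) (tt N8395 (iv F56386)))
theorem Q7671 : ∀ i, i < 7671 → P i := stepQ 7670 Q7670 (allL N7670 (tt N7670 F53506) (tt N6942 F53507) (tt N6900 F53508) (tt N8420 (iv F56472)) (tt N6903 F53509) (tt N6704 (iv D13557)) (tt N7689 (iv F53598)) (tt N7670 F53510) (tt N8544 D14431))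
theorem Q7672 : ∀ i, i < 7672 → P i := stepQ 7671 Q7671 (allL N7671 (tt N7671 F53511) (tt N6943 F53512) (tt N6901 F53513) (tt N8421 (iv F56476)) (tt N6705 F53514) (tt N8544 (iv F57015)) (tt N6707 F53515) (tt N8545 D14432) (tt N6704 (iv D13558)))
theorem Q7673 : ∀ i, i < 7673 → P i := stepQ 7672 Q7672 (allL N7672 (tt N7672 F53516) (tt N6944 F53517) (tt N6902 F53518) (tt N6710 F53519) (tt N8545 (iv F57021)) (tt N6883 F53520) (tt N6708 F53521) (tt N6705 (iv D13559)) (tt N7672 F53522))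
theorem Q7674 : ∀ i, i < 7674 → P i := stepQ 7673 Q7673 (allL N7673 (tt N7673 F53523) (tt N6906 F53524) (tt N6708 F53525) (tt N7673 F53526) (tt N7552 F53527) (tt N7673 F53528) (tt N6902 F53529) (tt N6706 (iv D13560)) (tt N7673 F53530))
theorem Q7675 : ∀ i, i < 7675 → P i := stepQ 7674 Q7674 (allL N7674 (tt N7674 F53531) (tt N8517 (iv F56908)) (tt N7552 F53532) (tt N8546 D14433) (tt N6708 F53533) (tt N7553 F53534) (tt N8545 (iv F57023)) (tt N6707 (iv D13561)) (tt N7674 F53535))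
theorem Q7676 : ∀ i, i < 7676 → P i := stepQ 7675 Q7675 (allL N7675 (tt N7675 F53536) (tt N8519 (iv F56922)) (tt N7675 F53537) (tt N8547 D14434) (tt N6710 F53538) (tt N6870 F53539) (tt N6713 F53540) (tt N6709 (iv D13562)) (tt N7675 F53541))
theorem Q7677 : ∀ i, i < 7677 → P i := stepQ 7676 Q7676 (allL N7676 (tt N7676 F53542) (tt N8525 (iv F56948)) (tt N7676 F53543) (tt N8434 (iv F56531)) (tt N7676 F53544) (tt N7563 F53545) (tt N6712 F53546) (tt N8463 (iv F56652)) (tt N6711 (iv D13563)))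
theorem Q7678 : ∀ i, i < 7678 → P i := stepQ 7677 Q7677 (allL N7677 (tt N7677 F53547) (tt N8526 (iv F56953)) (tt N7677 F53548) (tt N8548 D14435) (tt N7677 F53549) (tt N6713 F53550) (tt N8463 (iv F56651)) (tt N6712 (iv D13564)) (tt N7677 F53551))
theorem Q7679 : ∀ i, i < 7679 → P i := stepQ 7678 Q7678 (allL N7678 (tt N7678 F53552) (tt N8527 (iv F56957)) (tt N8549 D14436) (tt N6713 (iv D13565)) (tt N8546 (iv F57027)) (tt N8548 (iv F57035)) (tt N8547 (iv F57032)) (tt N8436 (iv F56536)) (tt N7678 F53553))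
theorem Q7680 : ∀ i, i < 7680 → P i := stepQ 7679 Q7679 (allL N7679 (tt N7679 F53554) (tt N8503 (iv F56822)) (tt N7679 F53555) (tt N7679 F53556) (tt N6717 F53557) (tt N7679 F53558) (tt N6876 F53559) (tt N8550 D14437) (tt N6714 (iv D13566)))
theorem Q7681 : ∀ i, i < 7681 → P i := stepQ 7680 Q7680 (allL N7680 (tt N7680 F53560) (tt N8504 (iv F56830)) (tt N7680 F53561) (tt N6720 F53562) (tt N6876 F53563) (tt N6728 F53564) (tt N6717 F53565) (tt N8551 D14438) (tt N6715 (iv D13567)))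
theorem Q7682 : ∀ i, i < 7682 → P i := stepQ 7681 Q7681 (allL N7681 (tt N7681 F53566) (tt N8536 (iv F56987)) (tt N7681 F53567) (tt N8467 (iv F56673)) (tt N6875 F53568) (tt N6718 F53569) (tt N6874 F53570) (tt N8552 D14439) (tt N6716 (iv D13568)))
theorem Q7683 : ∀ i, i < 7683 → P i := stepQ 7682 Q7682 (allL N7682 (tt N7682 F53571) (tt N8505 (iv F56838)) (tt N7682 F53572) (tt N8553 D14440) (tt N8550 (iv F57044)) (tt N6719 F53573) (tt N8551 (iv F57054)) (tt N6717 (iv D13569)) (tt N8552 (iv F57061)))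
theorem Q7684 : ∀ i, i < 7684 → P i := stepQ 7683 Q7683 (allL N7683 (tt N7683 F53574) (tt N8506 (iv F56844)) (tt N7683 F53575) (tt N8554 D14441) (tt N7683 F53576) (tt N8552 (iv F57059)) (tt N6731 F53577) (tt N6718 (iv D13570)) (tt N6719 F53578))
theorem Q7685 : ∀ i, i < 7685 → P i := stepQ 7684 Q7684 (allL N7684 (tt N7684 F53579) (tt N8501 (iv F56812)) (tt N8114 (iv F55331)) (tt N6719 (iv D13571)) (tt N8431 (iv F56517)) (tt N8553 (iv F57063)) (tt N6732 F53580) (tt N6722 F53581) (tt N8554 (iv F57067)))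
theorem Q7686 : ∀ i, i < 7686 → P i := stepQ 7685 Q7685 (allL N7685 (tt N7685 F53582) (tt N8502 (iv F56816)) (tt N6724 F53583) (tt N8555 D14442) (tt N7685 F53584) (tt N6733 F53585) (tt N6721 F53586) (tt N6720 (iv D13572)) (tt N8471 (iv F56693)))
theorem Q7687 : ∀ i, i < 7687 → P i := stepQ 7686 Q7686 (allL N7686 (tt N7686 F53587) (tt N8500 (iv F56809)) (tt N8556 D14443) (tt N6721 (iv D13573)) (tt N8557 D14444) (tt N6722 F53588) (tt N8555 (iv F57071)) (tt N8553 (iv F57064)) (tt N8472 (iv F56696)))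
theorem Q7688 : ∀ i, i < 7688 → P i := stepQ 7687 Q7687 (allL N7687 (tt N7687 F53589) (tt N8558 D14445) (tt N6722 (iv D13574)) (tt N6726 F53590) (tt N7810 (iv F53980)) (tt N8556 (iv F57075)) (tt N6735 F53591) (tt N8114 (iv F55334)) (tt N8473 (iv F56700)))
theorem Q7689 : ∀ i, i < 7689 → P i := stepQ 7688 Q7688 (allL N7688 (tt N7688 F53592) (tt N8497 (iv F56794)) (tt N7810 (iv F53978)) (tt N6723 F53593) (tt N6722 (iv D13575)) (tt N7526 (iv F53595)) (tt N6736 F53594) (tt N8431 (iv F56519)) (tt N8474 (iv F56704)))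
theorem Q7690 : ∀ i, i < 7690 → P i := stepQ 7689 Q7689 (allL N7689 (tt N7689 F53596) (tt N7879 (iv F54271)) (tt N6725 (iv D13576)) (tt N8556 (iv F57074)) (tt N7838 (iv F54096)) (tt N6726 F53597) (tt N7670 F53598) (tt N7689 F53599) (tt N8475 (iv F56709)))
theorem Q7691 : ∀ i, i < 7691 → P i := stepQ 7690 Q7690 (allL N7690 (tt N8018 (iv F54896)) (tt N6726 (iv D13577)) (tt N6741 F53600) (tt N8558 (iv F57084)) (tt N7690 F53601) (tt N7879 (iv F54274)) (tt N6737 F53602) (tt N7690 F53603) (tt N8476 (iv F56714)))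
theorem Q7692 : ∀ i, i < 7692 → P i := stepQ 7691 Q7691 (allL N7691 (tt N7691 F53604) (tt N8137 (iv F55456)) (tt N7691 F53605) (tt N8104 (iv F55294)) (tt N7580 F53606) (tt N8551 (iv F57053)) (tt N6730 F53607) (tt N6728 (iv D13578)) (tt N7578 F53608))
theorem Q7693 : ∀ i, i < 7693 → P i := stepQ 7692 Q7692 (allL N7692 (tt N7692 F53609) (tt N8537 (iv F56991)) (tt N7692 F53610) (tt N8112 (iv F55324)) (tt N7579 F53611) (tt N6731 F53612) (tt N7578 F53613) (tt N6729 (iv D13579)) (tt N6730 F53614))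
theorem Q7694 : ∀ i, i < 7694 → P i := stepQ 7693 Q7693 (allL N7693 (tt N7693 F53615) (tt N8538 (iv F56996)) (tt N8115 (iv F55336)) (tt N6731 (iv D13580)) (tt N8432 (iv F56523)) (tt N8112 (iv F55326)) (tt N8554 (iv F57066)) (tt N8481 (iv F56731)) (tt N6732 F53616))
theorem Q7695 : ∀ i, i < 7695 → P i := stepQ 7694 Q7694 (allL N7694 (tt N7694 F53617) (tt N8540 (iv F56999)) (tt N7513 F53618) (tt N6733 (iv D13581)) (tt N7171 F53619) (tt N8555 (iv F57070)) (tt N6734 F53620) (tt N8104 (iv F55296)) (tt N8484 (iv F56743)))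
theorem Q7696 : ∀ i, i < 7696 → P i := stepQ 7695 Q7695 (allL N7695 (tt N8016 (iv F54890)) (tt N6735 (iv D13582)) (tt N8542 (iv F57006)) (tt N6737 F53621) (tt N7753 (iv F53813)) (tt N7359 F53622) (tt N8558 (iv F57085)) (tt N7965 (iv F54706)) (tt N8485 (iv F56746)))
theorem Q7697 : ∀ i, i < 7697 → P i := stepQ 7696 Q7696 (allL N7696 (tt N6798 F53623) (tt N8559 D14446) (tt N6742 (iv D13583)) (tt N6744 F53624) (tt N8560 D14447) (tt N8123 (iv F55387)) (tt N8309 (iv F56121)) (tt N7243 F53625) (tt N8561 D14448))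
theorem Q7698 : ∀ i, i < 7698 → P i := stepQ 7697 Q7697 (allL N7697 (tt N6799 F53626) (tt N7697 F53627) (tt N8560 (iv F57090)) (tt N7697 F53628) (tt N6742 (iv D13584)) (tt N8562 D14449) (tt N8426 (iv F56497)) (tt N7244 F53629) (tt N8563 D14450))
theorem Q7699 : ∀ i, i < 7699 → P i := stepQ 7698 Q7698 (allL N7698 (tt N6800 F53630) (tt N7698 F53631) (tt N8561 (iv F57093)) (tt N6743 F53632) (tt N8563 (iv F57103)) (tt N8124 (iv F55394)) (tt N8427 (iv F56502)) (tt N8564 D14451) (tt N6742 (iv D13585)))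
theorem Q7700 : ∀ i, i < 7700 → P i := stepQ 7699 Q7699 (allL N7699 (tt N8165 (iv F55569)) (tt N6744 (iv D13586)) (tt N6770 F53633) (tt N8559 (iv F57087)) (tt N7994 (iv F54827)) (tt N7986 F54791) (tt N8168 (iv F55586)) (tt N6747 F53634) (tt N8565 D14452))
theorem Q7701 : ∀ i, i < 7701 → P i := stepQ 7700 Q7700 (allL N7700 (tt N6801 F53635) (tt N7994 (iv F54825)) (tt N6745 F53636) (tt N8566 D14453) (tt N6744 (iv D13587)) (tt N7991 (iv F54814)) (tt N8322 (iv F56158)) (tt N6748 F53637) (tt N8567 D14454))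
theorem Q7702 : ∀ i, i < 7702 → P i := stepQ 7701 Q7701 (allL N7701 (tt N6802 F53638) (tt N8565 (iv F57107)) (tt N6746 F53639) (tt N8561 (iv F57094)) (tt N8567 (iv F57113)) (tt N8125 (iv F55399)) (tt N8323 (iv F56162)) (tt N8568 D14455) (tt N6744 (iv D13588)))
theorem Q7703 : ∀ i, i < 7703 → P i := stepQ 7702 Q7702 (allL N7702 (tt N6804 F53640) (tt N6772 F53641) (tt N8567 (iv F57112)) (tt N7702 F53642) (tt N6746 F53643) (tt N8055 (iv F55066)) (tt N8396 (iv F56392)) (tt N8569 D14456) (tt N6745 (iv D13589)))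
theorem Q7704 : ∀ i, i < 7704 → P i := stepQ 7703 Q7703 (allL N7703 (tt N6805 F53644) (tt N6773 F53645) (tt N8568 (iv F57115)) (tt N7856 (iv F54183)) (tt N8569 (iv F57119)) (tt N8126 (iv F55405)) (tt N8397 (iv F56395)) (tt N6746 (iv D13590)) (tt N6752 F53646))
theorem Q7705 : ∀ i, i < 7705 → P i := stepQ 7704 Q7704 (allL N7704 (tt N8181 (iv F55630)) (tt N6748 F53647) (tt N6774 F53648) (tt N8570 D14457) (tt N6747 (iv D13591)) (tt N7972 (iv F54738)) (tt N8189 (iv F55665)) (tt N7994 (iv F54828)) (tt N8571 D14458))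
theorem Q7706 : ∀ i, i < 7706 → P i := stepQ 7705 Q7705 (allL N7705 (tt N8182 (iv F55635)) (tt N6749 F53649) (tt N6775 F53650) (tt N7267 F53651) (tt N8571 (iv F57126)) (tt N8131 (iv F55431)) (tt N8190 (iv F55670)) (tt N8572 D14459) (tt N6747 (iv D13592)))
theorem Q7707 : ∀ i, i < 7707 → P i := stepQ 7706 Q7706 (allL N7706 (tt N6806 F53652) (tt N8570 (iv F57121)) (tt N6753 F53653) (tt N6748 (iv D13593)) (tt N7268 F53654) (tt N8573 D14460) (tt N8346 (iv F56228)) (tt N8574 D14461) (tt N8575 D14462))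
theorem Q7708 : ∀ i, i < 7708 → P i := stepQ 7707 Q7707 (allL N7707 (tt N6807 F53655) (tt N7972 (iv F54736)) (tt N6750 F53656) (tt N8573 (iv F57131)) (tt N7971 F54735) (tt N6748 (iv D13594)) (tt N7977 (iv F54760)) (tt N7991 (iv F54816)) (tt N8576 D14463))
theorem Q7709 : ∀ i, i < 7709 → P i := stepQ 7708 Q7708 (allL N7708 (tt N6808 F53657) (tt N8571 (iv F57124)) (tt N6751 F53658) (tt N8575 (iv F57137)) (tt N6749 F53659) (tt N8576 (iv F57141)) (tt N8348 (iv F56234)) (tt N8577 D14464) (tt N6748 (iv D13595)))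
theorem Q7710 : ∀ i, i < 7710 → P i := stepQ 7709 Q7709 (allL N7709 (tt N6809 F53660) (tt N8572 (iv F57127)) (tt N6752 F53661) (tt N8578 D14465) (tt N8577 (iv F57144)) (tt N8134 (iv F55443)) (tt N8349 (iv F56237)) (tt N6749 (iv D13596)) (tt N8568 (iv F57116)))
theorem Q7711 : ∀ i, i < 7711 → P i := stepQ 7710 Q7710 (allL N7710 (tt N6811 F53662) (tt N6778 F53663) (tt N8576 (iv F57140)) (tt N6758 F53664) (tt N8041 (iv F54989)) (tt N6751 F53665) (tt N8046 (iv F55021)) (tt N8579 D14466) (tt N6750 (iv D13597)))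
theorem Q7712 : ∀ i, i < 7712 → P i := stepQ 7711 Q7711 (allL N7711 (tt N6812 F53666) (tt N6779 F53667) (tt N8577 (iv F57143)) (tt N8580 D14467) (tt N6752 F53668) (tt N8579 (iv F57149)) (tt N8405 (iv F56426)) (tt N6751 (iv D13598)) (tt N8569 (iv F57120)))
theorem Q7713 : ∀ i, i < 7713 → P i := stepQ 7712 Q7712 (allL N7712 (tt N6813 F53669) (tt N7712 F53670) (tt N8573 (iv F57130)) (tt N6754 F53671) (tt N8581 D14468) (tt N6753 (iv D13599)) (tt N8582 D14469) (tt N8583 D14470) (tt N8584 D14471))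
theorem Q7714 : ∀ i, i < 7714 → P i := stepQ 7713 Q7713 (allL N7713 (tt N6814 F53672) (tt N7713 F53673) (tt N8574 (iv F57133)) (tt N7713 F53674) (tt N7281 F53675) (tt N8583 (iv F57163)) (tt N8438 (iv F56544)) (tt N6753 (iv D13600)) (tt N8585 D14472))
theorem Q7715 : ∀ i, i < 7715 → P i := stepQ 7714 Q7714 (allL N7714 (tt N6815 F53676) (tt N7714 F53677) (tt N8575 (iv F57136)) (tt N6755 F53678) (tt N7282 F53679) (tt N8584 (iv F57167)) (tt N8439 (iv F56549)) (tt N8586 D14473) (tt N6753 (iv D13601)))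
theorem Q7716 : ∀ i, i < 7716 → P i := stepQ 7715 Q7715 (allL N7715 (tt N6816 F53680) (tt N7715 F53681) (tt N6757 F53682) (tt N8582 (iv F57159)) (tt N6763 F53683) (tt N8440 (iv F56554)) (tt N6754 (iv D13602)) (tt N7715 F53684) (tt N8587 D14474))
theorem Q7717 : ∀ i, i < 7717 → P i := stepQ 7716 Q7716 (allL N7716 (tt N6817 F53685) (tt N7716 F53686) (tt N6758 F53687) (tt N8584 (iv F57166)) (tt N6764 F53688) (tt N6755 F53689) (tt N8587 (iv F57179)) (tt N8588 D14475) (tt N6754 (iv D13603)))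
theorem Q7718 : ∀ i, i < 7718 → P i := stepQ 7717 Q7717 (allL N7717 (tt N6818 F53690) (tt N7717 F53691) (tt N6759 F53692) (tt N8589 D14476) (tt N6756 F53693) (tt N8588 (iv F57184)) (tt N8442 (iv F56565)) (tt N6755 (iv D13604)) (tt N7717 F53694))
theorem Q7719 : ∀ i, i < 7719 → P i := stepQ 7718 Q7718 (allL N7718 (tt N6819 F53695) (tt N7718 F53696) (tt N7635 F53697) (tt N6756 (iv D13605)) (tt N8590 D14477) (tt N6766 F53698) (tt N7639 F53699) (tt N7286 F53700) (tt N7718 F53701))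
theorem Q7720 : ∀ i, i < 7720 → P i := stepQ 7719 Q7719 (allL N7719 (tt N6820 F53702) (tt N6780 F53703) (tt N8587 (iv F57177)) (tt N8046 (iv F55019)) (tt N6767 F53704) (tt N8487 (iv F56755)) (tt N6758 F53705) (tt N8591 D14478) (tt N6757 (iv D13606)))
theorem Q7721 : ∀ i, i < 7721 → P i := stepQ 7720 Q7720 (allL N7720 (tt N6821 F53706) (tt N6781 F53707) (tt N8588 (iv F57182)) (tt N8592 D14479) (tt N6768 F53708) (tt N6759 F53709) (tt N8591 (iv F57199)) (tt N6758 (iv D13607)) (tt N7720 F53710))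
theorem Q7722 : ∀ i, i < 7722 → P i := stepQ 7721 Q7721 (allL N7721 (tt N6822 F53711) (tt N6782 F53712) (tt N8593 D14480) (tt N6759 (iv D13608)) (tt N7884 (iv F54298)) (tt N8592 (iv F57203)) (tt N8489 (iv F56764)) (tt N8580 (iv F57152)) (tt N7721 F53713))
theorem Q7723 : ∀ i, i < 7723 → P i := stepQ 7722 Q7722 (allL N7722 (tt N6823 F53714) (tt N7722 F53715) (tt N8137 (iv F55457)) (tt N8581 (iv F57155)) (tt N6760 (iv D13609)) (tt N7290 F53716) (tt N8509 (iv F56870)) (tt N8508 F56864) (tt N8594 D14481))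
theorem Q7724 : ∀ i, i < 7724 → P i := stepQ 7723 Q7723 (allL N7723 (tt N6824 F53717) (tt N7723 F53718) (tt N8119 (iv F55357)) (tt N6763 F53719) (tt N8509 (iv F56868)) (tt N7723 F53720) (tt N6760 (iv D13610)) (tt N8507 F56855) (tt N8595 D14482))
theorem Q7725 : ∀ i, i < 7725 → P i := stepQ 7724 Q7724 (allL N7724 (tt N6825 F53721) (tt N7724 F53722) (tt N7469 F53723) (tt N7724 F53724) (tt N8508 (iv F56861)) (tt N6761 F53725) (tt N8507 F56856) (tt N6760 (iv D13611)) (tt N7090 (iv F53726)))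
theorem Q7726 : ∀ i, i < 7726 → P i := stepQ 7725 Q7725 (allL N7725 (tt N6826 F53727) (tt N7725 F53728) (tt N7470 F53729) (tt N6764 F53730) (tt N8594 (iv F57210)) (tt N6762 F53731) (tt N8595 (iv F57218)) (tt N7091 F53732) (tt N6760 (iv D13612)))
theorem Q7727 : ∀ i, i < 7727 → P i := stepQ 7726 Q7726 (allL N7726 (tt N6829 F53733) (tt N7726 F53734) (tt N6767 F53735) (tt N8595 (iv F57216)) (tt N8587 (iv F57178)) (tt N7726 F53736) (tt N6764 F53737) (tt N8596 D14483) (tt N6763 (iv D13613)))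
theorem Q7728 : ∀ i, i < 7728 → P i := stepQ 7727 Q7727 (allL N7727 (tt N6830 F53738) (tt N7727 F53739) (tt N6768 F53740) (tt N7093 F53741) (tt N8588 (iv F57183)) (tt N6765 F53742) (tt N8596 (iv F57225)) (tt N6764 (iv D13614)) (tt N7727 F53743))
theorem Q7729 : ∀ i, i < 7729 → P i := stepQ 7728 Q7728 (allL N7728 (tt N6833 F53744) (tt N6783 F53745) (tt N8596 (iv F57222)) (tt N8122 (iv F55379)) (tt N8591 (iv F57198)) (tt N7728 F53746) (tt N6768 F53747) (tt N6767 (iv D13615)) (tt N7728 F53748))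
theorem Q7730 : ∀ i, i < 7730 → P i := stepQ 7729 Q7729 (allL N7729 (tt N6834 F53749) (tt N6784 F53750) (tt N7095 F53751) (tt N6768 (iv D13616)) (tt N8143 (iv F55483)) (tt N6769 F53752) (tt N8122 (iv F55382)) (tt N7473 F53753) (tt N7729 F53754))
theorem Q7731 : ∀ i, i < 7731 → P i := stepQ 7730 Q7730 (allL N7730 (tt N8228 (iv F55814)) (tt N6771 F53755) (tt N8565 (iv F57108)) (tt N7730 F53756) (tt N7998 (iv F54843)) (tt N7988 (iv F54799)) (tt N8230 (iv F55827)) (tt N8597 D14484) (tt N6770 (iv D13617)))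
theorem Q7732 : ∀ i, i < 7732 → P i := stepQ 7731 Q7731 (allL N7731 (tt N6788 F53757) (tt N8597 (iv F57227)) (tt N6773 F53758) (tt N8598 D14485) (tt N8059 (iv F55086)) (tt N8053 (iv F55053)) (tt N8258 (iv F55925)) (tt N6771 (iv D13618)) (tt N6777 F53759))
theorem Q7733 : ∀ i, i < 7733 → P i := stepQ 7732 Q7732 (allL N7732 (tt N6789 F53760) (tt N8569 (iv F57118)) (tt N8059 (iv F55085)) (tt N8599 D14486) (tt N6773 F53761) (tt N8057 (iv F55075)) (tt N8413 (iv F56450)) (tt N6772 (iv D13619)) (tt N6779 F53762))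
theorem Q7734 : ∀ i, i < 7734 → P i := stepQ 7733 Q7733 (allL N7733 (tt N8237 (iv F55849)) (tt N6776 F53763) (tt N8571 (iv F57125)) (tt N7733 F53764) (tt N6775 F53765) (tt N7974 (iv F54746)) (tt N8242 (iv F55873)) (tt N8600 D14487) (tt N6774 (iv D13620)))
theorem Q7735 : ∀ i, i < 7735 → P i := stepQ 7734 Q7734 (allL N7734 (tt N8238 (iv F55854)) (tt N6777 F53766) (tt N8572 (iv F57128)) (tt N8601 D14488) (tt N8600 (iv F57236)) (tt N8141 (iv F55475)) (tt N8243 (iv F55876)) (tt N6775 (iv D13621)) (tt N8597 (iv F57228)))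
theorem Q7736 : ∀ i, i < 7736 → P i := stepQ 7735 Q7735 (allL N7735 (tt N6790 F53767) (tt N8600 (iv F57235)) (tt N6779 F53768) (tt N8602 D14489) (tt N6777 F53769) (tt N8043 (iv F55002)) (tt N8263 (iv F55948)) (tt N6776 (iv D13622)) (tt N8059 (iv F55088)))
theorem Q7737 : ∀ i, i < 7737 → P i := stepQ 7736 Q7736 (allL N7736 (tt N6791 F53770) (tt N8601 (iv F57237)) (tt N7916 (iv F54453)) (tt N6777 (iv D13623)) (tt N8603 D14490) (tt N8142 (iv F55478)) (tt N8264 (iv F55950)) (tt N6787 F53771) (tt N8598 (iv F57231)))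
theorem Q7738 : ∀ i, i < 7738 → P i := stepQ 7737 Q7737 (allL N7737 (tt N6792 F53772) (tt N8579 (iv F57148)) (tt N8043 (iv F55000)) (tt N8604 D14491) (tt N8042 (iv F54995)) (tt N6779 F53773) (tt N8049 (iv F55034)) (tt N6778 (iv D13624)) (tt N8057 (iv F55077)))
theorem Q7739 : ∀ i, i < 7739 → P i := stepQ 7738 Q7738 (allL N7738 (tt N6793 F53774) (tt N8580 (iv F57151)) (tt N8605 D14492) (tt N6779 (iv D13625)) (tt N7919 (iv F54466)) (tt N8604 (iv F57244)) (tt N8417 (iv F56462)) (tt N6782 F53775) (tt N8599 (iv F57234)))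
theorem Q7740 : ∀ i, i < 7740 → P i := stepQ 7739 Q7739 (allL N7739 (tt N6794 F53776) (tt N8591 (iv F57197)) (tt N7739 F53777) (tt N8147 (iv F55503)) (tt N6783 F53778) (tt N8495 (iv F56787)) (tt N6781 F53779) (tt N6780 (iv D13626)) (tt N7739 F53780))
theorem Q7741 : ∀ i, i < 7741 → P i := stepQ 7740 Q7740 (allL N7740 (tt N6795 F53781) (tt N8592 (iv F57202)) (tt N8253 (iv F55905)) (tt N6781 (iv D13627)) (tt N8144 (iv F55488)) (tt N6782 F53782) (tt N8147 (iv F55504)) (tt N8604 (iv F57245)) (tt N7740 F53783))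
theorem Q7742 : ∀ i, i < 7742 → P i := stepQ 7741 Q7741 (allL N7741 (tt N6796 F53784) (tt N8606 D14493) (tt N6782 (iv D13628)) (tt N7741 F53785) (tt N7922 (iv F54481)) (tt N8253 (iv F55907)) (tt N8493 (iv F56779)) (tt N8605 (iv F57247)) (tt N7741 F53786))
theorem Q7743 : ∀ i, i < 7743 → P i := stepQ 7742 Q7742 (allL N7742 (tt N8252 (iv F55900)) (tt N6787 F53787) (tt N8607 D14494) (tt N6786 (iv D13629)) (tt N8608 D14495) (tt N8146 (iv F55499)) (tt N8254 (iv F55912)) (tt N8601 (iv F57238)) (tt N7742 F53788))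
theorem Q7744 : ∀ i, i < 7744 → P i := stepQ 7743 Q7743 (allL N7743 (tt N6797 F53789) (tt N8608 (iv F57252)) (tt N7930 (iv F54522)) (tt N7743 F53790) (tt N6787 (iv D13630)) (tt N8609 D14496) (tt N8075 (iv F55153)) (tt N8603 (iv F57242)) (tt N7743 F53791))
theorem Q7745 : ∀ i, i < 7745 → P i := stepQ 7744 Q7744 (allL N7744 (tt N8598 (iv F57229)) (tt N8257 (iv F55918)) (tt N7937 (iv F54565)) (tt N6788 (iv D13631)) (tt N8610 D14497) (tt N8084 (iv F55195)) (tt N8259 (iv F55928)) (tt N7744 F53792) (tt N6791 F53793))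
theorem Q7746 : ∀ i, i < 7746 → P i := stepQ 7745 Q7745 (allL N7745 (tt N8599 (iv F57232)) (tt N6849 F53794) (tt N8611 D14498) (tt N6789 (iv D13632)) (tt N7939 (iv F54576)) (tt N8086 (iv F55207)) (tt N8414 (iv F56453)) (tt N7745 F53795) (tt N6793 F53796))
theorem Q7747 : ∀ i, i < 7747 → P i := stepQ 7746 Q7746 (allL N7746 (tt N8602 (iv F57239)) (tt N8261 (iv F55935)) (tt N8612 D14499) (tt N6790 (iv D13633)) (tt N8613 D14500) (tt N8077 (iv F55159)) (tt N8265 (iv F55953)) (tt N7746 F53797) (tt N8088 (iv F55222)))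
theorem Q7748 : ∀ i, i < 7748 → P i := stepQ 7747 Q7747 (allL N7747 (tt N8603 (iv F57241)) (tt N8262 (iv F55940)) (tt N7951 (iv F54644)) (tt N8613 (iv F57265)) (tt N6791 (iv D13634)) (tt N8614 D14501) (tt N8097 (iv F55261)) (tt N6797 F53798) (tt N8610 (iv F57260)))
theorem Q7749 : ∀ i, i < 7749 → P i := stepQ 7748 Q7748 (allL N7748 (tt N8604 (iv F57243)) (tt N6851 F53799) (tt N8262 (iv F55941)) (tt N6792 (iv D13635)) (tt N8148 (iv F55508)) (tt N6793 F53800) (tt N8080 (iv F55176)) (tt N6795 F53801) (tt N8086 (iv F55210)))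
theorem Q7750 : ∀ i, i < 7750 → P i := stepQ 7749 Q7749 (allL N7749 (tt N8605 (iv F57246)) (tt N8614 (iv F57267)) (tt N6793 (iv D13636)) (tt N8612 (iv F57263)) (tt N7954 (iv F54662)) (tt N8262 (iv F55942)) (tt N8419 (iv F56468)) (tt N6796 F53802) (tt N8611 (iv F57262)))
theorem Q7751 : ∀ i, i < 7751 → P i := stepQ 7750 Q7750 (allL N7750 (tt N8609 (iv F57255)) (tt N6796 (iv D13637)) (tt N6856 F53803) (tt N7750 F53804) (tt N7956 (iv F54674)) (tt N6797 F53805) (tt N8099 (iv F55269)) (tt N8614 (iv F57269)) (tt N7750 F53806))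
theorem Q7752 : ∀ i, i < 7752 → P i := stepQ 7751 Q7751 (allL N7751 (tt N8560 (iv F57089)) (tt N8305 (iv F56106)) (tt N6799 F53807) (tt N8615 D14502) (tt N6798 (iv D13638)) (tt N8616 D14503) (tt N8310 (iv F56125)) (tt N7403 F53808) (tt N8617 D14504))
theorem Q7753 : ∀ i, i < 7753 → P i := stepQ 7752 Q7752 (allL N7752 (tt N8561 (iv F57092)) (tt N8306 (iv F56109)) (tt N6800 F53809) (tt N6802 F53810) (tt N8617 (iv F57277)) (tt N8269 (iv F55971)) (tt N8311 (iv F56130)) (tt N8618 D14505) (tt N6798 (iv D13639)))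
theorem Q7754 : ∀ i, i < 7754 → P i := stepQ 7753 Q7753 (allL N7753 (tt N8562 (iv F57095)) (tt N6858 F53811) (tt N8616 (iv F57273)) (tt N7753 F53812) (tt N7695 F53813) (tt N6799 (iv D13640)) (tt N8619 D14506) (tt N7405 F53814) (tt N8620 D14507))
theorem Q7755 : ∀ i, i < 7755 → P i := stepQ 7754 Q7754 (allL N7754 (tt N8563 (iv F57100)) (tt N6859 F53815) (tt N8617 (iv F57276)) (tt N7754 F53816) (tt N6800 F53817) (tt N8620 (iv F57287)) (tt N8429 (iv F56510)) (tt N8621 D14508) (tt N6799 (iv D13641)))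
theorem Q7756 : ∀ i, i < 7756 → P i := stepQ 7755 Q7755 (allL N7755 (tt N8564 (iv F57104)) (tt N6860 F53818) (tt N8618 (iv F57278)) (tt N7967 (iv F54711)) (tt N8621 (iv F57289)) (tt N8271 (iv F55979)) (tt N8430 (iv F56512)) (tt N6800 (iv D13642)) (tt N7407 F53819))
theorem Q7757 : ∀ i, i < 7757 → P i := stepQ 7756 Q7756 (allL N7756 (tt N8566 (iv F57109)) (tt N8319 (iv F56145)) (tt N7756 F53820) (tt N6801 (iv D13643)) (tt N8615 (iv F57271)) (tt N8622 D14509) (tt N8324 (iv F56165)) (tt N8623 D14510) (tt N8624 D14511))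
theorem Q7758 : ∀ i, i < 7758 → P i := stepQ 7757 Q7757 (allL N7757 (tt N7991 (iv F54811)) (tt N8320 (iv F56149)) (tt N6803 F53821) (tt N8622 (iv F57292)) (tt N7990 F54810) (tt N6801 (iv D13644)) (tt N8000 (iv F54850)) (tt N6807 F53822) (tt N8625 D14512))
theorem Q7759 : ∀ i, i < 7759 → P i := stepQ 7758 Q7758 (allL N7758 (tt N8567 (iv F57111)) (tt N8223 (iv F55792)) (tt N6804 F53823) (tt N8624 (iv F57296)) (tt N6802 F53824) (tt N8625 (iv F57298)) (tt N8326 (iv F56172)) (tt N8626 D14513) (tt N6801 (iv D13645)))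
theorem Q7760 : ∀ i, i < 7760 → P i := stepQ 7759 Q7759 (allL N7759 (tt N8568 (iv F57114)) (tt N8321 (iv F56152)) (tt N6805 F53825) (tt N8627 D14514) (tt N8626 (iv F57300)) (tt N8273 (iv F55985)) (tt N8327 (iv F56175)) (tt N6802 (iv D13646)) (tt N6809 F53826))
theorem Q7761 : ∀ i, i < 7761 → P i := stepQ 7760 Q7760 (allL N7760 (tt N8055 (iv F55062)) (tt N6836 F53827) (tt N8625 (iv F57297)) (tt N7760 F53828) (tt N8054 (iv F55059)) (tt N6804 F53829) (tt N8062 (iv F55103)) (tt N8628 D14515) (tt N6803 (iv D13647)))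
theorem Q7762 : ∀ i, i < 7762 → P i := stepQ 7761 Q7761 (allL N7761 (tt N8569 (iv F57117)) (tt N6837 F53830) (tt N8626 (iv F57299)) (tt N8629 D14516) (tt N6805 F53831) (tt N8628 (iv F57304)) (tt N8399 (iv F56402)) (tt N6804 (iv D13648)) (tt N6812 F53832))
theorem Q7763 : ∀ i, i < 7763 → P i := stepQ 7762 Q7762 (allL N7762 (tt N8573 (iv F57129)) (tt N8337 (iv F56197)) (tt N6813 F53833) (tt N6807 F53834) (tt N8630 D14517) (tt N6806 (iv D13649)) (tt N8631 D14518) (tt N8632 D14519) (tt N8633 D14520))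
theorem Q7764 : ∀ i, i < 7764 → P i := stepQ 7763 Q7763 (allL N7763 (tt N8574 (iv F57132)) (tt N8338 (iv F56200)) (tt N6814 F53835) (tt N8623 (iv F57294)) (tt N7436 F53836) (tt N8632 (iv F57314)) (tt N8351 (iv F56244)) (tt N6806 (iv D13650)) (tt N8634 D14521))
theorem Q7765 : ∀ i, i < 7765 → P i := stepQ 7764 Q7764 (allL N7764 (tt N8575 (iv F57135)) (tt N8339 (iv F56203)) (tt N6815 F53837) (tt N6808 F53838) (tt N7437 F53839) (tt N8633 (iv F57317)) (tt N8352 (iv F56249)) (tt N8635 D14522) (tt N6806 (iv D13651)))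
theorem Q7766 : ∀ i, i < 7766 → P i := stepQ 7765 Q7765 (allL N7765 (tt N7977 (iv F54757)) (tt N8340 (iv F56207)) (tt N6810 F53840) (tt N8631 (iv F57312)) (tt N7976 F54756) (tt N8353 (iv F56252)) (tt N6807 (iv D13652)) (tt N8000 (iv F54851)) (tt N8636 D14523))
theorem Q7767 : ∀ i, i < 7767 → P i := stepQ 7766 Q7766 (allL N7766 (tt N8576 (iv F57139)) (tt N8341 (iv F56210)) (tt N6811 F53841) (tt N8633 (iv F57316)) (tt N8282 (iv F56012)) (tt N6808 F53842) (tt N8636 (iv F57323)) (tt N8637 D14524) (tt N6807 (iv D13653)))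
theorem Q7768 : ∀ i, i < 7768 → P i := stepQ 7767 Q7767 (allL N7767 (tt N8577 (iv F57142)) (tt N8342 (iv F56213)) (tt N6812 F53843) (tt N8638 D14525) (tt N6809 F53844) (tt N8637 (iv F57325)) (tt N8355 (iv F56259)) (tt N6808 (iv D13654)) (tt N8626 (iv F57301)))
theorem Q7769 : ∀ i, i < 7769 → P i := stepQ 7768 Q7768 (allL N7768 (tt N8578 (iv F57145)) (tt N8343 (iv F56217)) (tt N8012 (iv F54878)) (tt N6809 (iv D13655)) (tt N8639 D14526) (tt N8284 (iv F56017)) (tt N8356 (iv F56261)) (tt N7441 F53845) (tt N8627 (iv F57302)))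
theorem Q7770 : ∀ i, i < 7770 → P i := stepQ 7769 Q7769 (allL N7769 (tt N8046 (iv F55017)) (tt N6838 F53846) (tt N8636 (iv F57322)) (tt N6820 F53847) (tt N8044 (iv F55008)) (tt N8406 (iv F56429)) (tt N6811 F53848) (tt N8640 D14527) (tt N6810 (iv D13656)))
theorem Q7771 : ∀ i, i < 7771 → P i := stepQ 7770 Q7770 (allL N7770 (tt N8579 (iv F57147)) (tt N6839 F53849) (tt N8637 (iv F57324)) (tt N8641 D14528) (tt N8285 (iv F56020)) (tt N6812 F53850) (tt N8640 (iv F57328)) (tt N6811 (iv D13657)) (tt N8628 (iv F57305)))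
theorem Q7772 : ∀ i, i < 7772 → P i := stepQ 7771 Q7771 (allL N7771 (tt N8580 (iv F57150)) (tt N6840 F53851) (tt N8642 D14529) (tt N6812 (iv D13658)) (tt N8015 (iv F54888)) (tt N8641 (iv F57330)) (tt N8408 (iv F56434)) (tt N6822 F53852) (tt N8629 (iv F57308)))
theorem Q7773 : ∀ i, i < 7773 → P i := stepQ 7772 Q7772 (allL N7772 (tt N8581 (iv F57153)) (tt N6861 F53853) (tt N8630 (iv F57309)) (tt N6823 F53854) (tt N6813 (iv D13659)) (tt N7454 F53855) (tt N8372 (iv F56299)) (tt N8371 F56294) (tt N8643 D14530))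
theorem Q7774 : ∀ i, i < 7774 → P i := stepQ 7773 Q7773 (allL N7773 (tt N8582 (iv F57157)) (tt N6862 F53856) (tt N8631 (iv F57311)) (tt N6816 F53857) (tt N8372 (iv F56297)) (tt N8444 (iv F56572)) (tt N6813 (iv D13660)) (tt N8370 F56289) (tt N8644 D14531))
theorem Q7775 : ∀ i, i < 7775 → P i := stepQ 7774 Q7774 (allL N7774 (tt N8583 (iv F57160)) (tt N6863 F53858) (tt N8632 (iv F57313)) (tt N7774 F53859) (tt N8371 (iv F56292)) (tt N6814 F53860) (tt N8370 F56288) (tt N6813 (iv D13661)) (tt N8645 D14532))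
theorem Q7776 : ∀ i, i < 7776 → P i := stepQ 7775 Q7775 (allL N7775 (tt N8584 (iv F57164)) (tt N6864 F53861) (tt N8633 (iv F57315)) (tt N6817 F53862) (tt N8643 (iv F57335)) (tt N6815 F53863) (tt N8644 (iv F57339)) (tt N8646 D14533) (tt N6813 (iv D13662)))
theorem Q7777 : ∀ i, i < 7777 → P i := stepQ 7776 Q7776 (allL N7776 (tt N8585 (iv F57168)) (tt N6865 F53864) (tt N8634 (iv F57318)) (tt N7776 F53865) (tt N7458 F53866) (tt N8645 (iv F57342)) (tt N8447 (iv F56585)) (tt N8647 D14534) (tt N6814 (iv D13663)))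
theorem Q7778 : ∀ i, i < 7778 → P i := stepQ 7777 Q7777 (allL N7777 (tt N8586 (iv F57172)) (tt N6866 F53867) (tt N8635 (iv F57320)) (tt N8648 D14535) (tt N7459 F53868) (tt N8646 (iv F57344)) (tt N8448 (iv F56588)) (tt N6815 (iv D13664)) (tt N8647 (iv F57347)))
theorem Q7779 : ∀ i, i < 7779 → P i := stepQ 7778 Q7778 (allL N7778 (tt N8587 (iv F57175)) (tt N6867 F53869) (tt N6820 F53870) (tt N8644 (iv F57338)) (tt N6829 F53871) (tt N8449 (iv F56592)) (tt N6817 F53872) (tt N8649 D14536) (tt N6816 (iv D13665)))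
theorem Q7780 : ∀ i, i < 7780 → P i := stepQ 7779 Q7779 (allL N7779 (tt N8588 (iv F57180)) (tt N6868 F53873) (tt N6821 F53874) (tt N8650 D14537) (tt N6830 F53875) (tt N6818 F53876) (tt N8649 (iv F57353)) (tt N6817 (iv D13666)) (tt N7779 F53877))
theorem Q7781 : ∀ i, i < 7781 → P i := stepQ 7780 Q7780 (allL N7780 (tt N8589 (iv F57186)) (tt N6869 F53878) (tt N8651 D14538) (tt N6818 (iv D13667)) (tt N8652 D14539) (tt N8650 (iv F57356)) (tt N8451 (iv F56600)) (tt N8648 (iv F57349)) (tt N7780 F53879))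
theorem Q7782 : ∀ i, i < 7782 → P i := stepQ 7781 Q7781 (allL N7781 (tt N8590 (iv F57189)) (tt N6870 F53880) (tt N8033 (iv F54953)) (tt N8652 (iv F57361)) (tt N6819 (iv D13668)) (tt N8519 (iv F56924)) (tt N8452 (iv F56603)) (tt N7463 F53881) (tt N7781 F53882))
theorem Q7783 : ∀ i, i < 7783 → P i := stepQ 7782 Q7782 (allL N7782 (tt N8591 (iv F57196)) (tt N6841 F53883) (tt N8649 (iv F57351)) (tt N8653 D14540) (tt N6833 F53884) (tt N8490 (iv F56768)) (tt N6821 F53885) (tt N6820 (iv D13669)) (tt N7782 F53886))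
theorem Q7784 : ∀ i, i < 7784 → P i := stepQ 7783 Q7783 (allL N7783 (tt N8592 (iv F57201)) (tt N6842 F53887) (tt N8654 D14541) (tt N6821 (iv D13670)) (tt N8655 D14542) (tt N6822 F53888) (tt N8653 (iv F57364)) (tt N8641 (iv F57331)) (tt N7783 F53889))
theorem Q7785 : ∀ i, i < 7785 → P i := stepQ 7784 Q7784 (allL N7784 (tt N8593 (iv F57205)) (tt N8656 D14543) (tt N6822 (iv D13671)) (tt N8651 (iv F57358)) (tt N8036 (iv F54964)) (tt N8654 (iv F57366)) (tt N8492 (iv F56774)) (tt N8642 (iv F57332)) (tt N7784 F53890))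
theorem Q7786 : ∀ i, i < 7786 → P i := stepQ 7785 Q7785 (allL N7785 (tt N8594 (iv F57207)) (tt N6874 F53891) (tt N8294 (iv F56062)) (tt N8643 (iv F57334)) (tt N6826 F53892) (tt N7467 F53893) (tt N8536 (iv F56990)) (tt N8657 D14544) (tt N6823 (iv D13672)))
theorem Q7787 : ∀ i, i < 7787 → P i := stepQ 7786 Q7786 (allL N7786 (tt N8595 (iv F57213)) (tt N6875 F53894) (tt N8296 (iv F56075)) (tt N6829 F53895) (tt N8536 (iv F56988)) (tt N7786 F53896) (tt N6826 F53897) (tt N8658 D14545) (tt N6824 (iv D13673)))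
theorem Q7788 : ∀ i, i < 7788 → P i := stepQ 7787 Q7787 (allL N7787 (tt N7090 F53898) (tt N6876 F53899) (tt N7292 F53900) (tt N7787 F53901) (tt N8504 (iv F56833)) (tt N6827 F53902) (tt N8503 (iv F56828)) (tt N6948 (iv F53903)) (tt N6825 (iv D13674)))
theorem Q7789 : ∀ i, i < 7789 → P i := stepQ 7788 Q7788 (allL N7788 (tt N7091 F53904) (tt N6877 F53905) (tt N7293 F53906) (tt N6950 (iv F53909)) (tt N8657 (iv F57376)) (tt N6828 F53907) (tt N8658 (iv F57383)) (tt N6826 (iv D13675)) (tt N6948 F53908))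
theorem Q7790 : ∀ i, i < 7790 → P i := stepQ 7789 Q7789 (allL N7789 (tt N8596 (iv F57220)) (tt N6880 F53910) (tt N6833 F53911) (tt N8659 D14546) (tt N8649 (iv F57352)) (tt N7789 F53912) (tt N6830 F53913) (tt N6829 (iv D13676)) (tt N7789 F53914))
theorem Q7791 : ∀ i, i < 7791 → P i := stepQ 7790 Q7790 (allL N7790 (tt N7093 F53915) (tt N6881 F53916) (tt N6952 (iv F53920)) (tt N6830 (iv D13677)) (tt N8660 D14547) (tt N6831 F53917) (tt N8659 (iv F57389)) (tt N6950 F53918) (tt N7790 F53919))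
theorem Q7792 : ∀ i, i < 7792 → P i := stepQ 7791 Q7791 (allL N7791 (tt N8122 (iv F55376)) (tt N6844 F53921) (tt N8661 D14548) (tt N6833 (iv D13678)) (tt N8145 (iv F55494)) (tt N7791 F53922) (tt N6834 F53923) (tt N8121 F55375) (tt N7791 F53924))
theorem Q7793 : ∀ i, i < 7793 → P i := stepQ 7792 Q7792 (allL N7792 (tt N7095 F53925) (tt N6985 (iv F53930)) (tt N6834 (iv D13679)) (tt N6952 F53926) (tt N8662 D14549) (tt N6835 F53927) (tt N8661 (iv F57404)) (tt N7297 F53928) (tt N7792 F53929))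
theorem Q7794 : ∀ i, i < 7794 → P i := stepQ 7793 Q7793 (allL N7793 (tt N8143 (iv F55480)) (tt N6846 F53931) (tt N8662 (iv F57409)) (tt N8655 (iv F57369)) (tt N6834 (iv D13680)) (tt N7926 (iv F54505)) (tt N8145 (iv F55496)) (tt N7924 F54496) (tt N7793 F53932))
theorem Q7795 : ∀ i, i < 7795 → P i := stepQ 7794 Q7794 (allL N7794 (tt N6848 F53933) (tt N8628 (iv F57303)) (tt N8251 F55899) (tt N8663 D14550) (tt N8085 (iv F55201)) (tt N6837 F53934) (tt N8091 (iv F55234)) (tt N6836 (iv D13681)) (tt N6839 F53935))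
theorem Q7796 : ∀ i, i < 7796 → P i := stepQ 7795 Q7795 (allL N7795 (tt N6849 F53936) (tt N8629 (iv F57306)) (tt N8248 (iv F55888)) (tt N6837 (iv D13682)) (tt N8052 (iv F55047)) (tt N8663 (iv F57415)) (tt N8401 (iv F56409)) (tt N7795 F53937) (tt N6840 F53938))
theorem Q7797 : ∀ i, i < 7797 → P i := stepQ 7796 Q7796 (allL N7796 (tt N6850 F53939) (tt N8640 (iv F57327)) (tt N8403 (iv F56416)) (tt N8664 D14551) (tt N8078 (iv F55164)) (tt N8409 (iv F56438)) (tt N6839 F53940) (tt N6838 (iv D13683)) (tt N8091 (iv F55235)))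
theorem Q7798 : ∀ i, i < 7798 → P i := stepQ 7797 Q7797 (allL N7797 (tt N6851 F53941) (tt N8641 (iv F57329)) (tt N8665 D14552) (tt N6839 (iv D13684)) (tt N8666 D14553) (tt N6840 F53942) (tt N8664 (iv F57419)) (tt N6842 F53943) (tt N8663 (iv F57417)))
theorem Q7799 : ∀ i, i < 7799 → P i := stepQ 7798 Q7798 (allL N7798 (tt N6852 F53944) (tt N8667 D14554) (tt N6840 (iv D13685)) (tt N8233 (iv F55836)) (tt N8072 (iv F55138)) (tt N8665 (iv F57422)) (tt N8411 (iv F56445)) (tt N6843 F53945) (tt N8248 (iv F55890)))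
theorem Q7800 : ∀ i, i < 7800 → P i := stepQ 7799 Q7799 (allL N7799 (tt N6853 F53946) (tt N8653 (iv F57363)) (tt N7921 (iv F54475)) (tt N6841 (iv D13686)) (tt N8151 (iv F55521)) (tt N7922 (iv F54482)) (tt N6842 F53947) (tt N8664 (iv F57420)) (tt N7799 F53948))
theorem Q7801 : ∀ i, i < 7801 → P i := stepQ 7800 Q7800 (allL N7800 (tt N6854 F53949) (tt N8668 D14555) (tt N6842 (iv D13687)) (tt N6889 F53950) (tt N7957 (iv F54680)) (tt N6843 F53951) (tt N7921 (iv F54477)) (tt N8665 (iv F57423)) (tt N7800 F53952))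
theorem Q7802 : ∀ i, i < 7802 → P i := stepQ 7801 Q7801 (allL N7801 (tt N6855 F53953) (tt N8655 (iv F57368)) (tt N7957 (iv F54679)) (tt N6846 F53954) (tt N6842 (iv D13688)) (tt N7927 (iv F54511)) (tt N8151 (iv F55523)) (tt N8666 (iv F57425)) (tt N7801 F53955))
theorem Q7803 : ∀ i, i < 7803 → P i := stepQ 7802 Q7802 (allL N7802 (tt N8669 D14556) (tt N6843 (iv D13689)) (tt N8656 (iv F57371)) (tt N6891 F53956) (tt N8076 (iv F55156)) (tt N8668 (iv F57428)) (tt N8494 (iv F56782)) (tt N8667 (iv F57426)) (tt N7802 F53957))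
theorem Q7804 : ∀ i, i < 7804 → P i := stepQ 7803 Q7803 (allL N7803 (tt N6918 F53958) (tt N6845 (iv D13690)) (tt N6985 F53959) (tt N6894 F53960) (tt N7032 F53961) (tt N6847 F53962) (tt N6919 F53963) (tt N6917 F53964) (tt N7803 F53965))
theorem Q7805 : ∀ i, i < 7805 → P i := stepQ 7804 Q7804 (allL N7804 (tt N8663 (iv F57414)) (tt N8086 (iv F55205)) (tt N8266 (iv F55956)) (tt N6848 (iv D13691)) (tt N8260 (iv F55932)) (tt N6849 F53966) (tt N8093 (iv F55243)) (tt N7804 F53967) (tt N6851 F53968))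
theorem Q7806 : ∀ i, i < 7806 → P i := stepQ 7805 Q7805 (allL N7805 (tt N8664 (iv F57418)) (tt N8080 (iv F55174)) (tt N7953 (iv F54657)) (tt N6850 (iv D13692)) (tt N8150 (iv F55516)) (tt N7954 (iv F54663)) (tt N6851 F53969) (tt N6853 F53970) (tt N8093 (iv F55245)))
theorem Q7807 : ∀ i, i < 7807 → P i := stepQ 7806 Q7806 (allL N7806 (tt N8665 (iv F57421)) (tt N7951 (iv F54643)) (tt N6851 (iv D13693)) (tt N7952 (iv F54651)) (tt N7949 F54635) (tt N6852 F53971) (tt N7953 (iv F54659)) (tt N6854 F53972) (tt N8266 (iv F55959)))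
theorem Q7808 : ∀ i, i < 7808 → P i := stepQ 7807 Q7807 (allL N7807 (tt N8666 (iv F57424)) (tt N8148 (iv F55506)) (tt N7949 (iv F54632)) (tt N7940 (iv F54581)) (tt N6851 (iv D13694)) (tt N7944 (iv F54606)) (tt N8150 (iv F55518)) (tt N6855 F53973) (tt N8260 (iv F55934)))
theorem Q7809 : ∀ i, i < 7809 → P i := stepQ 7808 Q7808 (allL N7808 (tt N8670 D14557) (tt N6852 (iv D13695)) (tt N8614 (iv F57268)) (tt N8087 (iv F55213)) (tt N8098 (iv F55263)) (tt N7951 F54648) (tt N8088 (iv F55220)) (tt N6856 F53974) (tt N8265 (iv F55955)))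
theorem Q7810 : ∀ i, i < 7810 → P i := stepQ 7809 Q7809 (allL N7809 (tt N6856 (iv D13696)) (tt N8669 (iv F57430)) (tt N8609 (iv F57256)) (tt N6897 F53975) (tt N8101 (iv F55279)) (tt N7930 F54526) (tt N8073 (iv F55142)) (tt N8670 (iv F57433)) (tt N7809 F53976))
theorem Q7811 : ∀ i, i < 7811 → P i := stepQ 7810 Q7810 (allL N7810 (tt N7810 F53977) (tt N8619 (iv F57280)) (tt N7688 F53978) (tt N7810 F53979) (tt N7687 F53980) (tt N8431 (iv F56518)) (tt N6858 (iv D13697)) (tt N7526 F53981) (tt N8671 D14558))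
theorem Q7812 : ∀ i, i < 7812 → P i := stepQ 7811 Q7811 (allL N7811 (tt N7811 F53982) (tt N8620 (iv F57284)) (tt N7576 F53983) (tt N7811 F53984) (tt N7575 F53985) (tt N6859 F53986) (tt N8671 (iv F57438)) (tt N8672 D14559) (tt N6858 (iv D13698)))
theorem Q7813 : ∀ i, i < 7813 → P i := stepQ 7812 Q7812 (allL N7812 (tt N7812 F53987) (tt N8621 (iv F57288)) (tt N8425 (iv F56491)) (tt N8673 D14560) (tt N6860 F53988) (tt N8672 (iv F57442)) (tt N8433 (iv F56528)) (tt N6859 (iv D13699)) (tt N7528 F53989))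
theorem Q7814 : ∀ i, i < 7814 → P i := stepQ 7813 Q7813 (allL N7813 (tt N7813 F53990) (tt N8643 (iv F57333)) (tt N8465 (iv F56660)) (tt N6874 F53991) (tt N6864 F53992) (tt N7567 F53993) (tt N8467 (iv F56676)) (tt N8674 D14561) (tt N6861 (iv D13700)))
theorem Q7815 : ∀ i, i < 7815 → P i := stepQ 7814 Q7814 (allL N7814 (tt N7814 F53994) (tt N8644 (iv F57337)) (tt N8466 (iv F56666)) (tt N6867 F53995) (tt N8467 (iv F56674)) (tt N8454 (iv F56613)) (tt N6864 F53996) (tt N8675 D14562) (tt N6862 (iv D13701)))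
theorem Q7816 : ∀ i, i < 7816 → P i := stepQ 7815 Q7815 (allL N7815 (tt N7815 F53997) (tt N8645 (iv F57340)) (tt N8467 (iv F56672)) (tt N7815 F53998) (tt N8466 (iv F56668)) (tt N6865 F53999) (tt N8465 (iv F56664)) (tt N8676 D14563) (tt N6863 (iv D13702)))
theorem Q7817 : ∀ i, i < 7817 → P i := stepQ 7816 Q7816 (allL N7816 (tt N7816 F54000) (tt N8646 (iv F57343)) (tt N8468 (iv F56678)) (tt N8677 D14564) (tt N8674 (iv F57448)) (tt N6866 F54001) (tt N8675 (iv F57451)) (tt N6864 (iv D13703)) (tt N8676 (iv F57454)))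
theorem Q7818 : ∀ i, i < 7818 → P i := stepQ 7817 Q7817 (allL N7817 (tt N7817 F54002) (tt N8647 (iv F57345)) (tt N8469 (iv F56681)) (tt N8678 D14565) (tt N7571 F54003) (tt N8676 (iv F57453)) (tt N8457 (iv F56626)) (tt N6865 (iv D13704)) (tt N6866 F54004))
theorem Q7819 : ∀ i, i < 7819 → P i := stepQ 7818 Q7818 (allL N7818 (tt N7818 F54005) (tt N8648 (iv F57348)) (tt N8679 D14566) (tt N6866 (iv D13705)) (tt N8680 D14567) (tt N8677 (iv F57456)) (tt N8458 (iv F56629)) (tt N6869 F54006) (tt N8678 (iv F57460)))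
theorem Q7820 : ∀ i, i < 7820 → P i := stepQ 7819 Q7819 (allL N7819 (tt N7819 F54007) (tt N8649 (iv F57350)) (tt N6871 F54008) (tt N8681 D14568) (tt N6880 F54009) (tt N8459 (iv F56634)) (tt N6868 F54010) (tt N6867 (iv D13706)) (tt N7819 F54011))
theorem Q7821 : ∀ i, i < 7821 → P i := stepQ 7820 Q7820 (allL N7820 (tt N7820 F54012) (tt N8650 (iv F57355)) (tt N8682 D14569) (tt N6868 (iv D13707)) (tt N8683 D14570) (tt N6869 F54013) (tt N8681 (iv F57467)) (tt N8677 (iv F57457)) (tt N7820 F54014))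
theorem Q7822 : ∀ i, i < 7822 → P i := stepQ 7821 Q7821 (allL N7821 (tt N7821 F54015) (tt N8684 D14571) (tt N6869 (iv D13708)) (tt N6873 F54016) (tt N8685 D14572) (tt N8682 (iv F57471)) (tt N8461 (iv F56642)) (tt N8679 (iv F57462)) (tt N7821 F54017))
theorem Q7823 : ∀ i, i < 7823 → P i := stepQ 7822 Q7822 (allL N7822 (tt N7822 F54018) (tt N8652 (iv F57360)) (tt N8685 (iv F57482)) (tt N6870 F54019) (tt N6869 (iv D13709)) (tt N8547 (iv F57031)) (tt N8462 (iv F56646)) (tt N8680 (iv F57465)) (tt N7822 F54020))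
theorem Q7824 : ∀ i, i < 7824 → P i := stepQ 7823 Q7823 (allL N7823 (tt N7823 F54021) (tt N6888 F54022) (tt N7833 (iv F54071)) (tt N6871 (iv D13710)) (tt N7832 F54069) (tt N7837 (iv F54090)) (tt N6872 F54023) (tt N7836 F54085) (tt N7823 F54024))
theorem Q7825 : ∀ i, i < 7825 → P i := stepQ 7824 Q7824 (allL N7824 (tt N7824 F54025) (tt N8686 D14573) (tt N6872 (iv D13711)) (tt N8682 (iv F57470)) (tt N7831 F54061) (tt N6873 F54026) (tt N7833 (iv F54072)) (tt N8475 (iv F56708)) (tt N7824 F54027))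
theorem Q7826 : ∀ i, i < 7826 → P i := stepQ 7825 Q7825 (allL N7825 (tt N7825 F54028) (tt N6890 F54029) (tt N7831 (iv F54057)) (tt N6886 F54030) (tt N6872 (iv D13712)) (tt N7825 F54031) (tt N7832 (iv F54066)) (tt N7839 F54105) (tt N7825 F54032))
theorem Q7827 : ∀ i, i < 7827 → P i := stepQ 7826 Q7826 (allL N7826 (tt N8687 D14574) (tt N6873 (iv D13713)) (tt N6891 F54033) (tt N8684 (iv F57479)) (tt N7826 F54034) (tt N8686 (iv F57487)) (tt N8464 (iv F56656)) (tt N8476 (iv F56713)) (tt N7826 F54035))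
theorem Q7828 : ∀ i, i < 7828 → P i := stepQ 7827 Q7827 (allL N7827 (tt N7827 F54036) (tt N8657 (iv F57374)) (tt N7827 F54037) (tt N8688 D14575) (tt N6877 F54038) (tt N7578 F54039) (tt N8552 (iv F57060)) (tt N6874 (iv D13714)) (tt N8551 (iv F57055)))
theorem Q7829 : ∀ i, i < 7829 → P i := stepQ 7828 Q7828 (allL N7828 (tt N7828 F54040) (tt N8658 (iv F57380)) (tt N7828 F54041) (tt N8689 D14576) (tt N8552 (iv F57058)) (tt N7828 F54042) (tt N6877 F54043) (tt N6875 (iv D13715)) (tt N8550 (iv F57047)))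
theorem Q7830 : ∀ i, i < 7830 → P i := stepQ 7829 Q7829 (allL N7829 (tt N7829 F54044) (tt N6948 F54045) (tt N7829 F54046) (tt N6903 (iv F54049)) (tt N8551 (iv F57052)) (tt N6878 F54047) (tt N8550 (iv F57046)) (tt N6876 (iv D13716)) (tt N6877 F54048))
theorem Q7831 : ∀ i, i < 7831 → P i := stepQ 7830 Q7830 (allL N7830 (tt N7830 F54050) (tt N6950 F54051) (tt N6905 (iv F54055)) (tt N6877 (iv D13717)) (tt N8544 (iv F57014)) (tt N6879 F54052) (tt N8689 (iv F57499)) (tt N6881 F54053) (tt N6903 F54054))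
theorem Q7832 : ∀ i, i < 7832 → P i := stepQ 7831 Q7831 (allL N7831 (tt N7831 F54056) (tt N8659 (iv F57387)) (tt N7825 F54057) (tt N6880 (iv D13718)) (tt N7824 (iv F54061)) (tt N7831 F54058) (tt N6881 F54059) (tt N8689 (iv F57500)) (tt N7831 F54060))
theorem Q7833 : ∀ i, i < 7833 → P i := stepQ 7832 Q7832 (allL N7832 (tt N7832 F54062) (tt N6910 F54063) (tt N6881 (iv D13719)) (tt N6885 F54064) (tt N7823 (iv F54069)) (tt N6882 F54065) (tt N7825 F54066) (tt N6905 F54067) (tt N7832 F54068))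
theorem Q7834 : ∀ i, i < 7834 → P i := stepQ 7833 Q7833 (allL N7833 (tt N7833 F54070) (tt N8660 (iv F57394)) (tt N7823 F54071) (tt N8683 (iv F57476)) (tt N6881 (iv D13720)) (tt N8545 (iv F57022)) (tt N7824 F54072) (tt N8544 F57017) (tt N7833 F54073))
theorem Q7835 : ∀ i, i < 7835 → P i := stepQ 7834 Q7834 (allL N7834 (tt N8034 (iv F54955)) (tt N6889 (iv D13721)) (tt N8686 (iv F57485)) (tt N8668 (iv F57427)) (tt N7888 (iv F54312)) (tt N6891 F54074) (tt N7883 (iv F54294)) (tt N7882 F54289) (tt N7834 F54075))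
theorem Q7836 : ∀ i, i < 7836 → P i := stepQ 7835 Q7835 (allL N7835 (tt N6891 (iv D13722)) (tt N6897 F54076) (tt N8687 (iv F57491)) (tt N8669 (iv F57431)) (tt N7835 F54077) (tt N8034 (iv F54958)) (tt N8022 (iv F54922)) (tt N8021 F54917) (tt N7835 F54078))
theorem Q7837 : ∀ i, i < 7837 → P i := stepQ 7836 Q7836 (allL N7836 (tt N7836 F54079) (tt N6907 F54080) (tt N8544 (iv F57013)) (tt N7564 F54081) (tt N6905 F54082) (tt N6901 F54083) (tt N7565 F54084) (tt N7823 (iv F54085)) (tt N6900 (iv D13723)))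
theorem Q7838 : ∀ i, i < 7838 → P i := stepQ 7837 Q7837 (allL N7837 (tt N7837 F54086) (tt N6908 F54087) (tt N8545 (iv F57020)) (tt N7551 F54088) (tt N6902 F54089) (tt N7823 F54090) (tt N7552 F54091) (tt N6901 (iv D13724)) (tt N7837 F54092))
theorem Q7839 : ∀ i, i < 7839 → P i := stepQ 7838 Q7838 (allL N7838 (tt N7838 F54093) (tt N6949 F54094) (tt N6904 F54095) (tt N8550 F57048) (tt N7689 F54096) (tt N7838 F54097) (tt N6903 (iv D13725)) (tt N7838 F54098) (tt N8689 (iv F57501)))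
theorem Q7840 : ∀ i, i < 7840 → P i := stepQ 7839 Q7839 (allL N7839 (tt N7839 F54099) (tt N6909 F54100) (tt N8689 F57502) (tt N7839 F54101) (tt N7565 F54102) (tt N7839 F54103) (tt N6905 F54104) (tt N7825 (iv F54105)) (tt N6904 (iv D13726)))
theorem Q7841 : ∀ i, i < 7841 → P i := stepQ 7840 Q7840 (allL N7840 (tt N6913 F54106) (tt N6915 F54107) (tt N8121 (iv F55370)) (tt N7296 F54108) (tt N6993 F54109) (tt N7840 F54110) (tt N7297 F54111) (tt N8661 (iv F57405)) (tt N6912 (iv D13727)))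
theorem Q7842 : ∀ i, i < 7842 → P i := stepQ 7841 Q7841 (allL N7841 (tt N8661 (iv F57399)) (tt N6914 F54112) (tt N8122 (iv F55378)) (tt N7094 F54113) (tt N6994 F54114) (tt N7841 F54115) (tt N7095 F54116) (tt N6913 (iv D13728)) (tt N7841 F54117))
theorem Q7843 : ∀ i, i < 7843 → P i := stepQ 7842 Q7842 (allL N7842 (tt N6916 F54118) (tt N8661 (iv F57400)) (tt N6919 F54119) (tt N6984 F54120) (tt N7029 F54121) (tt N7842 F54122) (tt N6985 F54123) (tt N6915 (iv D13729)) (tt N7842 F54124))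
theorem Q7844 : ∀ i, i < 7844 → P i := stepQ 7843 Q7843 (allL N7843 (tt N7037 F54125) (tt N8690 D14577) (tt N6920 (iv D13730)) (tt N6925 F54126) (tt N8691 D14578) (tt N7243 F54127) (tt N8280 (iv F56007)) (tt N8123 (iv F55389)) (tt N8692 D14579))
theorem Q7845 : ∀ i, i < 7845 → P i := stepQ 7844 Q7844 (allL N7844 (tt N7038 F54128) (tt N7844 F54129) (tt N8691 (iv F57508)) (tt N7844 F54130) (tt N6920 (iv D13731)) (tt N8693 D14580) (tt N7079 F54131) (tt N7071 F54132) (tt N8694 D14581))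
theorem Q7846 : ∀ i, i < 7846 → P i := stepQ 7845 Q7845 (allL N7845 (tt N7039 F54133) (tt N7845 F54134) (tt N8692 (iv F57512)) (tt N6921 F54135) (tt N8694 (iv F57523)) (tt N7245 F54136) (tt N8289 (iv F56037)) (tt N8695 D14582) (tt N6920 (iv D13732)))
theorem Q7847 : ∀ i, i < 7847 → P i := stepQ 7846 Q7846 (allL N7846 (tt N7041 F54137) (tt N6953 F54138) (tt N8696 D14583) (tt N6922 (iv D13733)) (tt N7223 F54139) (tt N6923 F54140) (tt N7246 F54141) (tt N6928 F54142) (tt N8697 D14584))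
theorem Q7848 : ∀ i, i < 7848 → P i := stepQ 7847 Q7847 (allL N7847 (tt N7042 F54143) (tt N6954 F54144) (tt N8518 (iv F56916)) (tt N8697 (iv F57537)) (tt N7385 F54145) (tt N6924 F54146) (tt N7247 F54147) (tt N7194 F54148) (tt N6922 (iv D13734)))
theorem Q7849 : ∀ i, i < 7849 → P i := stepQ 7848 Q7848 (allL N7848 (tt N7043 F54149) (tt N8698 D14585) (tt N6923 (iv D13735)) (tt N8280 (iv F56005)) (tt N8699 D14586) (tt N8696 (iv F57532)) (tt N6925 F54150) (tt N6930 F54151) (tt N8700 D14587))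
theorem Q7850 : ∀ i, i < 7850 → P i := stepQ 7849 Q7849 (allL N7849 (tt N7044 F54152) (tt N6956 F54153) (tt N8699 (iv F57549)) (tt N7849 F54154) (tt N6923 (iv D13736)) (tt N7311 F54155) (tt N6926 F54156) (tt N6931 F54157) (tt N8701 D14588))
theorem Q7851 : ∀ i, i < 7851 → P i := stepQ 7850 Q7850 (allL N7850 (tt N7045 F54158) (tt N6957 F54159) (tt N8700 (iv F57554)) (tt N6924 F54160) (tt N8701 (iv F57559)) (tt N8697 (iv F57539)) (tt N6927 F54161) (tt N8702 D14589) (tt N6923 (iv D13737)))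
theorem Q7852 : ∀ i, i < 7852 → P i := stepQ 7851 Q7851 (allL N7851 (tt N8703 D14590) (tt N6925 (iv D13738)) (tt N6958 F54162) (tt N8690 (iv F57505)) (tt N8704 D14591) (tt N7250 F54163) (tt N8698 (iv F57544)) (tt N6933 F54164) (tt N8705 D14592))
theorem Q7853 : ∀ i, i < 7853 → P i := stepQ 7852 Q7852 (allL N7852 (tt N7047 F54165) (tt N8704 (iv F57574)) (tt N6926 F54166) (tt N8706 D14593) (tt N6925 (iv D13739)) (tt N8707 D14594) (tt N8699 (iv F57551)) (tt N6934 F54167) (tt N8708 D14595))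
theorem Q7854 : ∀ i, i < 7854 → P i := stepQ 7853 Q7853 (allL N7853 (tt N7048 F54168) (tt N8705 (iv F57579)) (tt N6927 F54169) (tt N8692 (iv F57513)) (tt N8708 (iv F57592)) (tt N7252 F54170) (tt N8700 (iv F57555)) (tt N8709 D14596) (tt N6925 (iv D13740)))
theorem Q7855 : ∀ i, i < 7855 → P i := stepQ 7854 Q7854 (allL N7854 (tt N7049 F54171) (tt N6961 F54172) (tt N8707 (iv F57586)) (tt N7854 F54173) (tt N7253 F54174) (tt N6926 (iv D13741)) (tt N7319 F54175) (tt N6936 F54176) (tt N8710 D14597))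
theorem Q7856 : ∀ i, i < 7856 → P i := stepQ 7855 Q7855 (allL N7855 (tt N7050 F54177) (tt N6962 F54178) (tt N8708 (iv F57591)) (tt N7855 F54179) (tt N6927 F54180) (tt N8710 (iv F57601)) (tt N8701 (iv F57561)) (tt N8711 D14598) (tt N6926 (iv D13742)))
theorem Q7857 : ∀ i, i < 7857 → P i := stepQ 7856 Q7856 (allL N7856 (tt N7051 F54181) (tt N6963 F54182) (tt N8709 (iv F57594)) (tt N7703 F54183) (tt N8711 (iv F57605)) (tt N7255 F54184) (tt N8702 (iv F57565)) (tt N6927 (iv D13743)) (tt N6938 F54185))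
theorem Q7858 : ∀ i, i < 7858 → P i := stepQ 7857 Q7857 (allL N7857 (tt N7052 F54186) (tt N8712 D14599) (tt N6928 (iv D13744)) (tt N7990 (iv F54806)) (tt N8713 D14600) (tt N6930 F54187) (tt N7256 F54188) (tt N8696 (iv F57534)) (tt N8714 D14601))
theorem Q7859 : ∀ i, i < 7859 → P i := stepQ 7858 Q7858 (allL N7858 (tt N7053 F54189) (tt N6965 F54190) (tt N8713 (iv F57615)) (tt N7858 F54191) (tt N6928 (iv D13745)) (tt N7299 F54192) (tt N7257 F54193) (tt N7223 F54194) (tt N8715 D14602))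
theorem Q7860 : ∀ i, i < 7860 → P i := stepQ 7859 Q7859 (allL N7859 (tt N7054 F54195) (tt N6966 F54196) (tt N8714 (iv F57620)) (tt N6929 F54197) (tt N8715 (iv F57626)) (tt N6932 F54198) (tt N7258 F54199) (tt N8716 D14603) (tt N6928 (iv D13746)))
theorem Q7861 : ∀ i, i < 7861 → P i := stepQ 7860 Q7860 (allL N7860 (tt N8717 D14604) (tt N6930 (iv D13747)) (tt N6967 F54200) (tt N8127 (iv F55409)) (tt N7667 (iv F54202)) (tt N8712 (iv F57609)) (tt N6933 F54201) (tt N8698 (iv F57545)) (tt N8718 D14605))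
theorem Q7862 : ∀ i, i < 7862 → P i := stepQ 7861 Q7861 (allL N7861 (tt N7056 F54203) (tt N7667 F54204) (tt N6931 F54205) (tt N8268 (iv F55966)) (tt N6930 (iv D13748)) (tt N7668 (iv F54207)) (tt N6934 F54206) (tt N8699 (iv F57552)) (tt N8719 D14606))
theorem Q7863 : ∀ i, i < 7863 → P i := stepQ 7862 Q7862 (allL N7862 (tt N7057 F54208) (tt N8718 (iv F57641)) (tt N6932 F54209) (tt N8128 (iv F55415)) (tt N8719 (iv F57648)) (tt N8714 (iv F57621)) (tt N6935 F54210) (tt N8720 D14607) (tt N6930 (iv D13749)))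
theorem Q7864 : ∀ i, i < 7864 → P i := stepQ 7863 Q7863 (allL N7863 (tt N7059 F54211) (tt N6969 F54212) (tt N8719 (iv F57647)) (tt N6939 F54213) (tt N6932 F54214) (tt N7498 F54215) (tt N6937 F54216) (tt N8721 D14608) (tt N6931 (iv D13750)))
theorem Q7865 : ∀ i, i < 7865 → P i := stepQ 7864 Q7864 (allL N7864 (tt N7060 F54217) (tt N6970 F54218) (tt N8720 (iv F57652)) (tt N7487 F54219) (tt N8721 (iv F57656)) (tt N8716 (iv F57632)) (tt N6938 F54220) (tt N6932 (iv D13751)) (tt N8702 (iv F57566)))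
theorem Q7866 : ∀ i, i < 7866 → P i := stepQ 7865 Q7865 (allL N7865 (tt N6933 (iv D13752)) (tt N7061 F54221) (tt N6971 F54222) (tt N8130 (iv F55426)) (tt N8722 D14609) (tt N7265 F54223) (tt N8717 (iv F57639)) (tt N8703 (iv F57571)) (tt N8723 D14610))
theorem Q7867 : ∀ i, i < 7867 → P i := stepQ 7866 Q7866 (allL N7866 (tt N8722 (iv F57659)) (tt N6934 F54224) (tt N6972 F54225) (tt N8724 D14611) (tt N6933 (iv D13753)) (tt N8725 D14612) (tt N7667 F54226) (tt N8704 (iv F57577)) (tt N8726 D14613))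
theorem Q7868 : ∀ i, i < 7868 → P i := stepQ 7867 Q7867 (allL N7867 (tt N8723 (iv F57665)) (tt N6935 F54227) (tt N6973 F54228) (tt N8131 (iv F55430)) (tt N8726 (iv F57680)) (tt N7267 F54229) (tt N8718 (iv F57644)) (tt N8727 D14614) (tt N6933 (iv D13754)))
theorem Q7869 : ∀ i, i < 7869 → P i := stepQ 7868 Q7868 (allL N7868 (tt N7064 F54230) (tt N8724 (iv F57669)) (tt N6941 F54231) (tt N6934 (iv D13755)) (tt N8132 (iv F55434)) (tt N8728 D14615) (tt N8268 (iv F55967)) (tt N8729 D14616) (tt N8730 D14617))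
theorem Q7870 : ∀ i, i < 7870 → P i := stepQ 7869 Q7869 (allL N7869 (tt N7065 F54232) (tt N8725 (iv F57673)) (tt N6936 F54233) (tt N8728 (iv F57687)) (tt N7269 F54234) (tt N6934 (iv D13756)) (tt N8731 D14618) (tt N8707 (iv F57589)) (tt N8732 D14619))
theorem Q7871 : ∀ i, i < 7871 → P i := stepQ 7870 Q7870 (allL N7870 (tt N7066 F54235) (tt N8726 (iv F57678)) (tt N6937 F54236) (tt N8730 (iv F57694)) (tt N6935 F54237) (tt N8732 (iv F57704)) (tt N8719 (iv F57650)) (tt N8733 D14620) (tt N6934 (iv D13757)))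
theorem Q7872 : ∀ i, i < 7872 → P i := stepQ 7871 Q7871 (allL N7871 (tt N7067 F54238) (tt N8727 (iv F57682)) (tt N6938 F54239) (tt N8734 D14621) (tt N8733 (iv F57707)) (tt N7271 F54240) (tt N8720 (iv F57653)) (tt N6935 (iv D13758)) (tt N8709 (iv F57596)))
theorem Q7873 : ∀ i, i < 7873 → P i := stepQ 7872 Q7872 (allL N7872 (tt N7068 F54241) (tt N6977 F54242) (tt N8731 (iv F57697)) (tt N6945 F54243) (tt N7272 F54244) (tt N7303 F54245) (tt N6936 (iv D13759)) (tt N7319 F54246) (tt N8735 D14622))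
theorem Q7874 : ∀ i, i < 7874 → P i := stepQ 7873 Q7873 (allL N7873 (tt N7069 F54247) (tt N6978 F54248) (tt N8732 (iv F57702)) (tt N6946 F54249) (tt N7273 F54250) (tt N6937 F54251) (tt N8735 (iv F57716)) (tt N8736 D14623) (tt N6936 (iv D13760)))
theorem Q7875 : ∀ i, i < 7875 → P i := stepQ 7874 Q7874 (allL N7874 (tt N7070 F54252) (tt N6979 F54253) (tt N8733 (iv F57706)) (tt N8737 D14624) (tt N6938 F54254) (tt N8736 (iv F57720)) (tt N8721 (iv F57658)) (tt N6937 (iv D13761)) (tt N8711 (iv F57606)))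
theorem Q7876 : ∀ i, i < 7876 → P i := stepQ 7875 Q7875 (allL N7875 (tt N7077 F54255) (tt N6980 F54256) (tt N8517 (iv F56909)) (tt N8738 D14625) (tt N6940 F54257) (tt N7592 F54258) (tt N6947 F54259) (tt N6939 (iv D13762)) (tt N7875 F54260))
theorem Q7877 : ∀ i, i < 7877 → P i := stepQ 7876 Q7876 (allL N7876 (tt N7078 F54261) (tt N8420 (iv F56471)) (tt N8728 (iv F57686)) (tt N6942 F54262) (tt N8739 D14626) (tt N6941 (iv D13763)) (tt N8740 D14627) (tt N8741 D14628) (tt N8742 D14629))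
theorem Q7878 : ∀ i, i < 7878 → P i := stepQ 7877 Q7877 (allL N7877 (tt N7079 F54263) (tt N7174 F54264) (tt N8729 (iv F57689)) (tt N7877 F54265) (tt N7035 F54266) (tt N8741 (iv F57740)) (tt N7038 F54267) (tt N6941 (iv D13764)) (tt N8743 D14630))
theorem Q7879 : ∀ i, i < 7879 → P i := stepQ 7878 Q7878 (allL N7878 (tt N7080 F54268) (tt N8421 (iv F56475)) (tt N8730 (iv F57693)) (tt N6943 F54269) (tt N8136 (iv F55453)) (tt N8742 (iv F57743)) (tt N8270 (iv F55976)) (tt N8744 D14631) (tt N6941 (iv D13765)))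
theorem Q7880 : ∀ i, i < 7880 → P i := stepQ 7879 Q7879 (allL N7879 (tt N7081 F54270) (tt N7689 F54271) (tt N6945 F54272) (tt N8740 (iv F57735)) (tt N6949 F54273) (tt N7690 F54274) (tt N6942 (iv D13766)) (tt N7879 F54275) (tt N8745 D14632))
theorem Q7881 : ∀ i, i < 7881 → P i := stepQ 7880 Q7880 (allL N7880 (tt N7082 F54276) (tt N8544 (iv F57012)) (tt N6946 F54277) (tt N8742 (iv F57742)) (tt N6950 F54278) (tt N6943 F54279) (tt N8745 (iv F57755)) (tt N8660 (iv F57397)) (tt N6942 (iv D13767)))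
theorem Q7882 : ∀ i, i < 7882 → P i := stepQ 7881 Q7881 (allL N7881 (tt N7083 F54280) (tt N8545 (iv F57019)) (tt N6947 F54281) (tt N8746 D14633) (tt N6944 F54282) (tt N8660 (iv F57396)) (tt N8517 (iv F56912)) (tt N6943 (iv D13768)) (tt N7881 F54283))
theorem Q7883 : ∀ i, i < 7883 → P i := stepQ 7882 Q7882 (allL N7882 (tt N7085 F54284) (tt N6981 F54285) (tt N8745 (iv F57752)) (tt N8735 (iv F57713)) (tt N6951 F54286) (tt N7593 F54287) (tt N6946 F54288) (tt N7834 (iv F54289)) (tt N6945 (iv D13769)))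
theorem Q7884 : ∀ i, i < 7884 → P i := stepQ 7883 Q7883 (allL N7883 (tt N7086 F54290) (tt N6982 F54291) (tt N8660 (iv F57395)) (tt N8747 D14634) (tt N6952 F54292) (tt N6947 F54293) (tt N7834 F54294) (tt N6946 (iv D13770)) (tt N7883 F54295))
theorem Q7885 : ∀ i, i < 7885 → P i := stepQ 7884 Q7884 (allL N7884 (tt N7087 F54296) (tt N6983 F54297) (tt N8748 D14635) (tt N6947 (iv D13771)) (tt N7721 F54298) (tt N8747 (iv F57761)) (tt N8738 (iv F57729)) (tt N8737 (iv F57724)) (tt N7884 F54299))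
theorem Q7886 : ∀ i, i < 7886 → P i := stepQ 7885 Q7885 (allL N7885 (tt N7088 F54300) (tt N8551 (iv F57050)) (tt N7290 F54301) (tt N8739 (iv F57732)) (tt N6948 (iv D13772)) (tt N8137 (iv F55458)) (tt N8505 (iv F56842)) (tt N8504 F56836) (tt N8657 (iv F57378)))
theorem Q7887 : ∀ i, i < 7887 → P i := stepQ 7886 Q7886 (allL N7886 (tt N7089 F54302) (tt N8550 (iv F57042)) (tt N7291 F54303) (tt N6949 F54304) (tt N8505 (iv F56840)) (tt N7886 F54305) (tt N6948 (iv D13773)) (tt N8503 F56827) (tt N8658 (iv F57384)))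
theorem Q7888 : ∀ i, i < 7888 → P i := stepQ 7887 Q7887 (allL N7887 (tt N7092 F54306) (tt N8689 (iv F57497)) (tt N6951 F54307) (tt N8658 F57385) (tt N8745 (iv F57753)) (tt N7887 F54308) (tt N6950 F54309) (tt N8659 (iv F57390)) (tt N6949 (iv D13774)))
theorem Q7889 : ∀ i, i < 7889 → P i := stepQ 7888 Q7888 (allL N7888 (tt N7094 F54310) (tt N6984 F54311) (tt N8659 F57392) (tt N8661 (iv F57401)) (tt N7834 F54312) (tt N7888 F54313) (tt N6952 F54314) (tt N6951 (iv D13775)) (tt N7888 F54315))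
theorem Q7890 : ∀ i, i < 7890 → P i := stepQ 7889 Q7889 (allL N7889 (tt N6996 F54316) (tt N8697 (iv F57536)) (tt N7309 F54317) (tt N6954 F54318) (tt N7233 F54319) (tt N6957 F54320) (tt N7298 F54321) (tt N8749 D14636) (tt N6953 (iv D13776)))
theorem Q7891 : ∀ i, i < 7891 → P i := stepQ 7890 Q7890 (allL N7890 (tt N7389 F54322) (tt N6955 (iv D13777)) (tt N8698 (iv F57542)) (tt N7890 F54323) (tt N7262 F54324) (tt N7257 F54325) (tt N6958 F54326) (tt N6967 F54327) (tt N8750 D14637))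
theorem Q7892 : ∀ i, i < 7892 → P i := stepQ 7891 Q7891 (allL N7891 (tt N6997 F54328) (tt N8750 (iv F57775)) (tt N6957 F54329) (tt N7891 F54330) (tt N7315 F54331) (tt N7309 F54332) (tt N6960 F54333) (tt N8751 D14638) (tt N6955 (iv D13778)))
theorem Q7893 : ∀ i, i < 7893 → P i := stepQ 7892 Q7892 (allL N7892 (tt N6998 F54334) (tt N8701 (iv F57557)) (tt N7315 F54335) (tt N7892 F54336) (tt N6957 F54337) (tt N7313 F54338) (tt N6962 F54339) (tt N8752 D14639) (tt N6956 (iv D13779)))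
theorem Q7894 : ∀ i, i < 7894 → P i := stepQ 7893 Q7893 (allL N7893 (tt N6999 F54340) (tt N8702 (iv F57563)) (tt N8751 (iv F57781)) (tt N7500 F54341) (tt N8752 (iv F57788)) (tt N8749 (iv F57771)) (tt N6963 F54342) (tt N6957 (iv D13780)) (tt N6970 F54343))
theorem Q7895 : ∀ i, i < 7895 → P i := stepQ 7894 Q7894 (allL N7894 (tt N6958 (iv D13781)) (tt N7000 F54344) (tt N8703 (iv F57568)) (tt N7894 F54345) (tt N7426 (iv F54349)) (tt N7302 F54346) (tt N7389 F54347) (tt N6971 F54348) (tt N8753 D14640))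
theorem Q7896 : ∀ i, i < 7896 → P i := stepQ 7895 Q7895 (allL N7895 (tt N7426 F54350) (tt N6959 F54351) (tt N8704 (iv F57575)) (tt N7278 (iv F54355)) (tt N6958 (iv D13782)) (tt N7272 F54352) (tt N7262 F54353) (tt N6972 F54354) (tt N8754 D14641))
theorem Q7897 : ∀ i, i < 7897 → P i := stepQ 7896 Q7896 (allL N7896 (tt N8753 (iv F57792)) (tt N6960 F54356) (tt N8705 (iv F57580)) (tt N7896 F54357) (tt N8754 (iv F57801)) (tt N7304 F54358) (tt N8750 (iv F57779)) (tt N8755 D14642) (tt N6958 (iv D13783)))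
theorem Q7898 : ∀ i, i < 7898 → P i := stepQ 7897 Q7897 (allL N7897 (tt N7002 F54359) (tt N8754 (iv F57799)) (tt N6962 F54360) (tt N7328 F54361) (tt N6960 F54362) (tt N7325 F54363) (tt N7315 F54364) (tt N8756 D14643) (tt N6959 (iv D13784)))
theorem Q7899 : ∀ i, i < 7899 → P i := stepQ 7898 Q7898 (allL N7898 (tt N7003 F54365) (tt N8755 (iv F57804)) (tt N6963 F54366) (tt N8757 D14644) (tt N8756 (iv F57810)) (tt N7306 F54367) (tt N8751 (iv F57784)) (tt N6960 (iv D13785)) (tt N6976 F54368))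
theorem Q7900 : ∀ i, i < 7900 → P i := stepQ 7899 Q7899 (allL N7899 (tt N7004 F54369) (tt N8710 (iv F57598)) (tt N7325 F54370) (tt N7899 F54371) (tt N7307 F54372) (tt N6962 F54373) (tt N7322 F54374) (tt N8758 D14645) (tt N6961 (iv D13786)))
theorem Q7901 : ∀ i, i < 7901 → P i := stepQ 7900 Q7900 (allL N7900 (tt N7005 F54375) (tt N8711 (iv F57604)) (tt N8756 (iv F57808)) (tt N8759 D14646) (tt N6963 F54376) (tt N8758 (iv F57822)) (tt N8752 (iv F57790)) (tt N6962 (iv D13787)) (tt N6979 F54377))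
theorem Q7902 : ∀ i, i < 7902 → P i := stepQ 7901 Q7901 (allL N7901 (tt N7220 F54378) (tt N6964 (iv D13788)) (tt N8712 (iv F57608)) (tt N6986 F54379) (tt N7246 F54380) (tt N6967 F54381) (tt N7223 F54382) (tt N7257 F54383) (tt N8760 D14647))
theorem Q7903 : ∀ i, i < 7903 → P i := stepQ 7902 Q7902 (allL N7902 (tt N7006 F54384) (tt N8760 (iv F57830)) (tt N6966 F54385) (tt N6987 F54386) (tt N7298 F54387) (tt N6968 F54388) (tt N7233 F54389) (tt N8761 D14648) (tt N6964 (iv D13789)))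
theorem Q7904 : ∀ i, i < 7904 → P i := stepQ 7903 Q7903 (allL N7903 (tt N7007 F54390) (tt N8715 (iv F57624)) (tt N7298 F54391) (tt N7903 F54392) (tt N6966 F54393) (tt N7300 F54394) (tt N7309 F54395) (tt N8762 D14649) (tt N6965 (iv D13790)))
theorem Q7905 : ∀ i, i < 7905 → P i := stepQ 7904 Q7904 (allL N7904 (tt N7008 F54396) (tt N8716 (iv F57630)) (tt N8761 (iv F57836)) (tt N7158 F54397) (tt N8762 (iv F57844)) (tt N6970 F54398) (tt N7310 F54399) (tt N6966 (iv D13791)) (tt N8749 (iv F57773)))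
theorem Q7906 : ∀ i, i < 7906 → P i := stepQ 7905 Q7905 (allL N7905 (tt N6967 (iv D13792)) (tt N7009 F54400) (tt N8717 (iv F57635)) (tt N6990 F54401) (tt N7410 F54402) (tt N7220 F54403) (tt N6971 F54404) (tt N7389 F54405) (tt N8763 D14650))
theorem Q7907 : ∀ i, i < 7907 → P i := stepQ 7906 Q7906 (allL N7906 (tt N8763 (iv F57848)) (tt N6968 F54406) (tt N8718 (iv F57642)) (tt N6991 F54407) (tt N7465 F54408) (tt N8760 (iv F57833)) (tt N6973 F54409) (tt N8764 D14651) (tt N6967 (iv D13793)))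
theorem Q7908 : ∀ i, i < 7908 → P i := stepQ 7907 Q7907 (allL N7907 (tt N7011 F54410) (tt N8764 (iv F57854)) (tt N6970 F54411) (tt N8765 D14652) (tt N7495 F54412) (tt N8761 (iv F57839)) (tt N6976 F54413) (tt N6968 (iv D13794)) (tt N8751 (iv F57785)))
theorem Q7909 : ∀ i, i < 7909 → P i := stepQ 7908 Q7908 (allL N7908 (tt N7012 F54414) (tt N8721 (iv F57655)) (tt N7495 F54415) (tt N8766 D14653) (tt N6970 F54416) (tt N7496 F54417) (tt N6979 F54418) (tt N6969 (iv D13795)) (tt N8752 (iv F57791)))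
theorem Q7910 : ∀ i, i < 7910 → P i := stepQ 7909 Q7909 (allL N7909 (tt N6972 F54419) (tt N7013 F54420) (tt N8722 (iv F57661)) (tt N7625 F54421) (tt N6971 (iv D13796)) (tt N7419 (iv F54424)) (tt N7410 F54422) (tt N7426 F54423) (tt N8767 D14654))
theorem Q7911 : ∀ i, i < 7911 → P i := stepQ 7910 Q7910 (allL N7910 (tt N6973 F54425) (tt N7014 F54426) (tt N8723 (iv F57667)) (tt N6993 F54427) (tt N8767 (iv F57872)) (tt N7318 F54428) (tt N8763 (iv F57853)) (tt N8768 D14655) (tt N6971 (iv D13797)))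
theorem Q7912 : ∀ i, i < 7912 → P i := stepQ 7911 Q7911 (allL N7911 (tt N7419 F54429) (tt N6974 F54430) (tt N8725 (iv F57674)) (tt N7608 F54431) (tt N7319 F54432) (tt N6972 (iv D13798)) (tt N7253 F54433) (tt N7272 F54434) (tt N8769 D14656))
theorem Q7913 : ∀ i, i < 7913 → P i := stepQ 7912 Q7912 (allL N7912 (tt N8767 (iv F57869)) (tt N6975 F54435) (tt N8726 (iv F57679)) (tt N7464 F54436) (tt N6973 F54437) (tt N8769 (iv F57882)) (tt N7465 F54438) (tt N8770 D14657) (tt N6972 (iv D13799)))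
theorem Q7914 : ∀ i, i < 7914 → P i := stepQ 7913 Q7913 (allL N7913 (tt N8768 (iv F57875)) (tt N6976 F54439) (tt N8727 (iv F57683)) (tt N8771 D14658) (tt N8770 (iv F57886)) (tt N7321 F54440) (tt N8764 (iv F57856)) (tt N6973 (iv D13800)) (tt N8755 (iv F57806)))
theorem Q7915 : ∀ i, i < 7915 → P i := stepQ 7914 Q7914 (allL N7914 (tt N7017 F54441) (tt N8769 (iv F57879)) (tt N6978 F54442) (tt N7497 F54443) (tt N7322 F54444) (tt N6975 F54445) (tt N7307 F54446) (tt N8772 D14659) (tt N6974 (iv D13801)))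
theorem Q7916 : ∀ i, i < 7916 → P i := stepQ 7915 Q7915 (allL N7915 (tt N7018 F54447) (tt N8770 (iv F57884)) (tt N6979 F54448) (tt N7494 F54449) (tt N6976 F54450) (tt N8772 (iv F57895)) (tt N7495 F54451) (tt N6975 (iv D13802)) (tt N8756 (iv F57813)))
theorem Q7917 : ∀ i, i < 7917 → P i := stepQ 7916 Q7916 (allL N7916 (tt N7019 F54452) (tt N8771 (iv F57888)) (tt N7736 F54453) (tt N6976 (iv D13803)) (tt N8773 D14660) (tt N7324 F54454) (tt N8765 (iv F57861)) (tt N6995 F54455) (tt N8757 (iv F57818)))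
theorem Q7918 : ∀ i, i < 7918 → P i := stepQ 7917 Q7917 (allL N7917 (tt N7020 F54456) (tt N8735 (iv F57712)) (tt N7307 F54457) (tt N6981 F54458) (tt N7325 F54459) (tt N7305 F54460) (tt N6978 F54461) (tt N8774 D14661) (tt N6977 (iv D13804)))
theorem Q7919 : ∀ i, i < 7919 → P i := stepQ 7918 Q7918 (allL N7918 (tt N7021 F54462) (tt N8736 (iv F57718)) (tt N8772 (iv F57892)) (tt N8775 D14662) (tt N7326 F54463) (tt N6979 F54464) (tt N8774 (iv F57909)) (tt N6978 (iv D13805)) (tt N8758 (iv F57824)))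
theorem Q7920 : ∀ i, i < 7920 → P i := stepQ 7919 Q7919 (allL N7919 (tt N7022 F54465) (tt N8737 (iv F57722)) (tt N8776 D14663) (tt N6979 (iv D13806)) (tt N7738 F54466) (tt N8775 (iv F57913)) (tt N8766 (iv F57867)) (tt N6983 F54467) (tt N8759 (iv F57828)))
theorem Q7921 : ∀ i, i < 7921 → P i := stepQ 7920 Q7920 (allL N7920 (tt N7023 F54468) (tt N8738 (iv F57726)) (tt N7590 F54469) (tt N6980 (iv D13807)) (tt N7596 F54470) (tt N7591 F54471) (tt N6983 F54472) (tt N8766 (iv F57868)) (tt N7920 F54473))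
theorem Q7922 : ∀ i, i < 7922 → P i := stepQ 7921 Q7921 (allL N7921 (tt N7024 F54474) (tt N8747 (iv F57760)) (tt N7799 F54475) (tt N6982 (iv D13808)) (tt N8777 D14664) (tt N6983 F54476) (tt N7800 F54477) (tt N8775 (iv F57915)) (tt N7921 F54478))
theorem Q7923 : ∀ i, i < 7923 → P i := stepQ 7922 Q7922 (allL N7922 (tt N7025 F54479) (tt N8778 D14665) (tt N6983 (iv D13809)) (tt N7589 F54480) (tt N7741 F54481) (tt N7799 F54482) (tt N7590 F54483) (tt N8776 (iv F57921)) (tt N7922 F54484))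
theorem Q7924 : ∀ i, i < 7924 → P i := stepQ 7923 Q7923 (allL N7923 (tt N7026 F54485) (tt N8662 (iv F57408)) (tt N7032 F54486) (tt N8777 (iv F57924)) (tt N6985 (iv D13810)) (tt N7228 F54487) (tt N7029 F54488) (tt N7027 F54489) (tt N7923 F54490))
theorem Q7925 : ∀ i, i < 7925 → P i := stepQ 7924 Q7924 (allL N7924 (tt N7227 F54491) (tt N6987 F54492) (tt N7925 (iv F54499)) (tt N8760 (iv F57831)) (tt N7386 F54493) (tt N6991 F54494) (tt N7229 F54495) (tt N7793 (iv F54496)) (tt N6986 (iv D13811)))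
theorem Q7926 : ∀ i, i < 7926 → P i := stepQ 7925 Q7925 (allL N7925 (tt N6991 F54497) (tt N7027 F54498) (tt N7924 F54499) (tt N8763 (iv F57850)) (tt N7297 F54500) (tt N7227 F54501) (tt N6993 F54502) (tt N8662 (iv F57412)) (tt N6990 (iv D13812)))
theorem Q7927 : ∀ i, i < 7927 → P i := stepQ 7926 Q7926 (allL N7926 (tt N8662 (iv F57407)) (tt N6992 F54503) (tt N8143 (iv F55482)) (tt N8779 D14666) (tt N7095 F54504) (tt N7793 F54505) (tt N6994 F54506) (tt N6991 (iv D13813)) (tt N7926 F54507))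
theorem Q7928 : ∀ i, i < 7928 → P i := stepQ 7927 Q7927 (allL N7927 (tt N7028 F54508) (tt N8779 (iv F57933)) (tt N7357 F54509) (tt N6992 (iv D13814)) (tt N7136 F54510) (tt N7801 F54511) (tt N6995 F54512) (tt N8765 (iv F57862)) (tt N7927 F54513))
theorem Q7929 : ∀ i, i < 7929 → P i := stepQ 7928 Q7928 (allL N7928 (tt N6994 F54514) (tt N7029 F54515) (tt N8145 (iv F55493)) (tt N8780 D14667) (tt N8661 (iv F57402)) (tt N7333 F54516) (tt N8662 (iv F57411)) (tt N6993 (iv D13815)) (tt N7928 F54517))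
theorem Q7930 : ∀ i, i < 7930 → P i := stepQ 7929 Q7929 (allL N7929 (tt N8780 (iv F57938)) (tt N6995 F54518) (tt N8781 D14668) (tt N6994 (iv D13816)) (tt N8782 D14669) (tt N7334 F54519) (tt N8779 (iv F57936)) (tt N8771 (iv F57890)) (tt N7929 F54520))
theorem Q7931 : ∀ i, i < 7931 → P i := stepQ 7930 Q7930 (allL N7930 (tt N7031 F54521) (tt N8782 (iv F57947)) (tt N7743 F54522) (tt N7135 F54523) (tt N6995 (iv D13817)) (tt N7809 (iv F54526)) (tt N7136 F54524) (tt N8773 (iv F57902)) (tt N7930 F54525))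
theorem Q7932 : ∀ i, i < 7932 → P i := stepQ 7931 Q7931 (allL N7931 (tt N8749 (iv F57767)) (tt N7139 F54527) (tt N7343 F54528) (tt N7143 F54529) (tt N7234 F54530) (tt N6999 F54531) (tt N7336 F54532) (tt N6996 (iv D13818)) (tt N7008 F54533))
theorem Q7933 : ∀ i, i < 7933 → P i := stepQ 7932 Q7932 (allL N7932 (tt N8751 (iv F57780)) (tt N7395 F54534) (tt N6999 F54535) (tt N8783 D14670) (tt N7346 F54536) (tt N7343 F54537) (tt N7003 F54538) (tt N6997 (iv D13819)) (tt N7011 F54539))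
theorem Q7934 : ∀ i, i < 7934 → P i := stepQ 7933 Q7933 (allL N7933 (tt N8752 (iv F57786)) (tt N7141 F54540) (tt N7346 F54541) (tt N8784 D14671) (tt N6999 F54542) (tt N7344 F54543) (tt N7005 F54544) (tt N6998 (iv D13820)) (tt N7012 F54545))
theorem Q7935 : ∀ i, i < 7935 → P i := stepQ 7934 Q7934 (allL N7934 (tt N7001 F54546) (tt N8753 (iv F57793)) (tt N7142 F54547) (tt N7934 F54548) (tt N7483 F54549) (tt N7338 F54550) (tt N7392 F54551) (tt N8785 D14672) (tt N7000 (iv D13821)))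
theorem Q7936 : ∀ i, i < 7936 → P i := stepQ 7935 Q7935 (allL N7935 (tt N8785 (iv F57966)) (tt N7003 F54552) (tt N7143 F54553) (tt N8786 D14673) (tt N7505 F54554) (tt N7339 F54555) (tt N7395 F54556) (tt N7001 (iv D13822)) (tt N7016 F54557))
theorem Q7937 : ∀ i, i < 7937 → P i := stepQ 7936 Q7936 (allL N7936 (tt N8756 (iv F57807)) (tt N7505 F54558) (tt N7005 F54559) (tt N7504 F54560) (tt N7003 F54561) (tt N7354 F54562) (tt N7346 F54563) (tt N7002 (iv D13823)) (tt N7018 F54564))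
theorem Q7938 : ∀ i, i < 7938 → P i := stepQ 7937 Q7937 (allL N7937 (tt N8757 (iv F57814)) (tt N8786 (iv F57972)) (tt N7744 F54565) (tt N7003 (iv D13824)) (tt N8787 D14674) (tt N7341 F54566) (tt N8783 (iv F57956)) (tt N7937 F54567) (tt N7019 F54568))
theorem Q7939 : ∀ i, i < 7939 → P i := stepQ 7938 Q7938 (allL N7938 (tt N8758 (iv F57819)) (tt N7147 F54569) (tt N7354 F54570) (tt N8788 D14675) (tt N7342 F54571) (tt N7005 F54572) (tt N7351 F54573) (tt N7004 (iv D13825)) (tt N7021 F54574))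
theorem Q7940 : ∀ i, i < 7940 → P i := stepQ 7939 Q7939 (allL N7939 (tt N8759 (iv F57825)) (tt N7148 F54575) (tt N8789 D14676) (tt N7005 (iv D13826)) (tt N7745 F54576) (tt N8788 (iv F57989)) (tt N8784 (iv F57963)) (tt N7939 F54577) (tt N7022 F54578))
theorem Q7941 : ∀ i, i < 7941 → P i := stepQ 7940 Q7940 (allL N7940 (tt N8761 (iv F57835)) (tt N7232 F54579) (tt N7008 F54580) (tt N7807 F54581) (tt N7336 F54582) (tt N7011 F54583) (tt N7234 F54584) (tt N7006 (iv D13827)) (tt N7343 F54585))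
theorem Q7942 : ∀ i, i < 7942 → P i := stepQ 7941 Q7941 (allL N7941 (tt N8762 (iv F57842)) (tt N7149 F54586) (tt N7336 F54587) (tt N8790 D14677) (tt N7008 F54588) (tt N7337 F54589) (tt N7343 F54590) (tt N7007 (iv D13828)) (tt N7234 F54591))
theorem Q7943 : ∀ i, i < 7943 → P i := stepQ 7942 Q7942 (allL N7942 (tt N7010 F54592) (tt N8763 (iv F57849)) (tt N7150 F54593) (tt N7027 F54594) (tt N7330 F54595) (tt N7221 F54596) (tt N7014 F54597) (tt N8791 D14678) (tt N7009 (iv D13829)))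
theorem Q7944 : ∀ i, i < 7944 → P i := stepQ 7943 Q7943 (allL N7943 (tt N8791 (iv F58007)) (tt N7011 F54598) (tt N7151 F54599) (tt N8792 D14679) (tt N7355 F54600) (tt N7232 F54601) (tt N7016 F54602) (tt N7010 (iv D13830)) (tt N7395 F54603))
theorem Q7945 : ∀ i, i < 7945 → P i := stepQ 7944 Q7944 (allL N7944 (tt N8765 (iv F57857)) (tt N8792 (iv F58013)) (tt N7350 F54604) (tt N7011 (iv D13831)) (tt N7165 F54605) (tt N7807 F54606) (tt N7019 F54607) (tt N7028 F54608) (tt N8783 (iv F57958)))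
theorem Q7946 : ∀ i, i < 7946 → P i := stepQ 7945 Q7945 (allL N7945 (tt N8766 (iv F57863)) (tt N7155 F54609) (tt N7511 F54610) (tt N7012 (iv D13832)) (tt N7509 F54611) (tt N7512 F54612) (tt N7022 F54613) (tt N7023 F54614) (tt N8784 (iv F57965)))
theorem Q7947 : ∀ i, i < 7947 → P i := stepQ 7946 Q7946 (allL N7946 (tt N7015 F54615) (tt N8767 (iv F57870)) (tt N7157 F54616) (tt N7329 F54617) (tt N7014 F54618) (tt N7481 F54619) (tt N7330 F54620) (tt N8793 D14680) (tt N7013 (iv D13833)))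
theorem Q7948 : ∀ i, i < 7948 → P i := stepQ 7947 Q7947 (allL N7947 (tt N7016 F54621) (tt N8768 (iv F57876)) (tt N7158 F54622) (tt N8794 D14681) (tt N8793 (iv F58023)) (tt N7348 F54623) (tt N8791 (iv F58011)) (tt N7014 (iv D13834)) (tt N8785 (iv F57971)))
theorem Q7949 : ∀ i, i < 7949 → P i := stepQ 7948 Q7948 (allL N7948 (tt N8793 (iv F58020)) (tt N7018 F54624) (tt N7160 F54625) (tt N7354 F54626) (tt N7016 F54627) (tt N7504 F54628) (tt N7355 F54629) (tt N7015 (iv D13835)) (tt N7505 F54630))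
theorem Q7950 : ∀ i, i < 7950 → P i := stepQ 7949 Q7949 (allL N7949 (tt N8794 (iv F58027)) (tt N7019 F54631) (tt N7807 F54632) (tt N7016 (iv D13836)) (tt N7806 (iv F54635)) (tt N7350 F54633) (tt N8792 (iv F58017)) (tt N7030 F54634) (tt N8786 (iv F57978)))
theorem Q7951 : ∀ i, i < 7951 → P i := stepQ 7950 Q7950 (allL N7950 (tt N8772 (iv F57891)) (tt N7504 F54636) (tt N7021 F54637) (tt N7505 F54638) (tt N7351 F54639) (tt N7018 F54640) (tt N7342 F54641) (tt N7017 (iv D13837)) (tt N7354 F54642))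
theorem Q7952 : ∀ i, i < 7952 → P i := stepQ 7951 Q7951 (allL N7951 (tt N8773 (iv F57898)) (tt N7806 F54643) (tt N7747 F54644) (tt N7164 F54645) (tt N7019 (iv D13838)) (tt N7808 (iv F54648)) (tt N7165 F54646) (tt N7031 F54647) (tt N8787 (iv F57984)))
theorem Q7953 : ∀ i, i < 7953 → P i := stepQ 7952 Q7952 (allL N7952 (tt N8774 (iv F57904)) (tt N7164 F54649) (tt N7342 F54650) (tt N7806 F54651) (tt N7354 F54652) (tt N7340 F54653) (tt N7021 F54654) (tt N7020 (iv D13839)) (tt N7351 F54655))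
theorem Q7954 : ∀ i, i < 7954 → P i := stepQ 7953 Q7953 (allL N7953 (tt N8775 (iv F57911)) (tt N7165 F54656) (tt N7805 F54657) (tt N7021 (iv D13840)) (tt N8792 (iv F58015)) (tt N7022 F54658) (tt N7806 F54659) (tt N7024 F54660) (tt N8788 (iv F57992)))
theorem Q7955 : ∀ i, i < 7955 → P i := stepQ 7954 Q7954 (allL N7954 (tt N8776 (iv F57916)) (tt N8795 D14682) (tt N7022 (iv D13841)) (tt N7510 F54661) (tt N7749 F54662) (tt N7805 F54663) (tt N7511 F54664) (tt N7025 F54665) (tt N8789 (iv F57998)))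
theorem Q7956 : ∀ i, i < 7956 → P i := stepQ 7955 Q7955 (allL N7955 (tt N8777 (iv F57922)) (tt N7028 F54666) (tt N7238 F54667) (tt N7026 F54668) (tt N7024 (iv D13842)) (tt N7236 F54669) (tt N7030 F54670) (tt N8792 (iv F58018)) (tt N7955 F54671))
theorem Q7957 : ∀ i, i < 7957 → P i := stepQ 7956 Q7956 (allL N7956 (tt N8796 D14683) (tt N7025 (iv D13843)) (tt N7170 F54672) (tt N7597 F54673) (tt N7750 F54674) (tt N7239 F54675) (tt N7598 F54676) (tt N8795 (iv F58037)) (tt N7956 F54677))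
theorem Q7958 : ∀ i, i < 7958 → P i := stepQ 7957 Q7957 (allL N7957 (tt N7030 F54678) (tt N8780 (iv F57939)) (tt N7801 F54679) (tt N7029 (iv D13844)) (tt N7800 F54680) (tt N7357 F54681) (tt N8777 (iv F57926)) (tt N8794 (iv F58031)) (tt N7957 F54682))
theorem Q7959 : ∀ i, i < 7959 → P i := stepQ 7958 Q7958 (allL N7958 (tt N8287 (iv F56025)) (tt N7171 F54683) (tt N8797 D14684) (tt N7034 (iv D13845)) (tt N8540 (iv F57000)) (tt N7035 F54684) (tt N7397 F54685) (tt N8103 (iv F55290)) (tt N8798 D14685))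
theorem Q7960 : ∀ i, i < 7960 → P i := stepQ 7959 Q7959 (allL N7959 (tt N8518 (iv F56914)) (tt N7172 F54686) (tt N7042 F54687) (tt N8798 (iv F58051)) (tt N8395 F56387) (tt N7036 F54688) (tt N7398 F54689) (tt N7189 F54690) (tt N7034 (iv D13846)))
theorem Q7961 : ∀ i, i < 7961 → P i := stepQ 7960 Q7960 (allL N7960 (tt N8280 (iv F56003)) (tt N8799 D14686) (tt N7035 (iv D13847)) (tt N7043 F54691) (tt N8729 (iv F57690)) (tt N8797 (iv F58048)) (tt N7037 F54692) (tt N8132 (iv F55436)) (tt N8800 D14687))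
theorem Q7962 : ∀ i, i < 7962 → P i := stepQ 7961 Q7961 (allL N7961 (tt N8289 (iv F56033)) (tt N7175 F54693) (tt N8800 (iv F58060)) (tt N7036 F54694) (tt N8743 (iv F57747)) (tt N8798 (iv F58052)) (tt N7039 F54695) (tt N8801 D14688) (tt N7035 (iv D13848)))
theorem Q7963 : ∀ i, i < 7963 → P i := stepQ 7962 Q7962 (allL N7962 (tt N8802 D14689) (tt N7037 (iv D13849)) (tt N7176 F54696) (tt N7046 F54697) (tt N8803 D14690) (tt N7402 F54698) (tt N8799 (iv F58057)) (tt N8267 (iv F55963)) (tt N8804 D14691))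
theorem Q7964 : ∀ i, i < 7964 → P i := stepQ 7963 Q7963 (allL N7963 (tt N8691 (iv F57507)) (tt N8803 (iv F58070)) (tt N7038 F54699) (tt N8805 D14692) (tt N7037 (iv D13850)) (tt N8806 D14693) (tt N8729 (iv F57691)) (tt N8268 (iv F55968)) (tt N8807 D14694))
theorem Q7965 : ∀ i, i < 7965 → P i := stepQ 7964 Q7964 (allL N7964 (tt N8692 (iv F57511)) (tt N8804 (iv F58074)) (tt N7039 F54700) (tt N7048 F54701) (tt N8807 (iv F58085)) (tt N7404 F54702) (tt N8800 (iv F58062)) (tt N8808 D14695) (tt N7037 (iv D13851)))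
theorem Q7966 : ∀ i, i < 7966 → P i := stepQ 7965 Q7965 (allL N7965 (tt N8693 (iv F57515)) (tt N7179 F54703) (tt N8806 (iv F58081)) (tt N7965 F54704) (tt N7405 F54705) (tt N7038 (iv D13852)) (tt N8809 D14696) (tt N7695 F54706) (tt N8810 D14697))
theorem Q7967 : ∀ i, i < 7967 → P i := stepQ 7966 Q7966 (allL N7966 (tt N8694 (iv F57520)) (tt N7180 F54707) (tt N8807 (iv F58084)) (tt N7966 F54708) (tt N7039 F54709) (tt N8810 (iv F58095)) (tt N8743 (iv F57748)) (tt N8811 D14698) (tt N7038 (iv D13853)))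
theorem Q7968 : ∀ i, i < 7968 → P i := stepQ 7967 Q7967 (allL N7967 (tt N8695 (iv F57525)) (tt N7181 F54710) (tt N8808 (iv F58086)) (tt N7755 F54711) (tt N8811 (iv F58097)) (tt N7407 F54712) (tt N8801 (iv F58065)) (tt N7039 (iv D13854)) (tt N8271 (iv F55980)))
theorem Q7969 : ∀ i, i < 7969 → P i := stepQ 7968 Q7968 (allL N7968 (tt N7385 F54713) (tt N7096 F54714) (tt N8395 (iv F56382)) (tt N7199 F54715) (tt N7042 F54716) (tt N7968 F54717) (tt N7218 F54718) (tt N7195 F54719) (tt N7040 (iv D13855)))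
theorem Q7970 : ∀ i, i < 7970 → P i := stepQ 7969 Q7969 (allL N7969 (tt N8696 (iv F57529)) (tt N7210 F54720) (tt N7041 (iv D13856)) (tt N8797 (iv F58046)) (tt N7209 F54721) (tt N7043 F54722) (tt N7361 F54723) (tt N7052 F54724) (tt N8812 D14699))
theorem Q7971 : ∀ i, i < 7971 → P i := stepQ 7970 Q7970 (allL N7970 (tt N8697 (iv F57535)) (tt N7097 F54725) (tt N8812 (iv F58099)) (tt N7042 F54726) (tt N7224 F54727) (tt N7045 F54728) (tt N7387 F54729) (tt N8813 D14700) (tt N7041 (iv D13857)))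
theorem Q7972 : ∀ i, i < 7972 → P i := stepQ 7971 Q7971 (allL N7971 (tt N7369 (iv F54734)) (tt N7043 (iv D13858)) (tt N7098 F54730) (tt N8799 (iv F58055)) (tt N7707 (iv F54735)) (tt N7210 F54731) (tt N7046 F54732) (tt N7055 F54733) (tt N8814 D14701))
theorem Q7973 : ∀ i, i < 7973 → P i := stepQ 7972 Q7972 (allL N7972 (tt N8699 (iv F57547)) (tt N7707 F54736) (tt N7044 F54737) (tt N8815 D14702) (tt N7043 (iv D13859)) (tt N7704 F54738) (tt N7047 F54739) (tt N7056 F54740) (tt N8816 D14703))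
theorem Q7974 : ∀ i, i < 7974 → P i := stepQ 7973 Q7973 (allL N7973 (tt N8700 (iv F57553)) (tt N8814 (iv F58110)) (tt N7045 F54741) (tt N8800 (iv F58061)) (tt N8816 (iv F58121)) (tt N8812 (iv F58101)) (tt N7048 F54742) (tt N8817 D14704) (tt N7043 (iv D13860)))
theorem Q7975 : ∀ i, i < 7975 → P i := stepQ 7974 Q7974 (allL N7974 (tt N8701 (iv F57556)) (tt N7100 F54743) (tt N8816 (iv F58120)) (tt N7974 F54744) (tt N7045 F54745) (tt N7733 F54746) (tt N7050 F54747) (tt N8818 D14705) (tt N7044 (iv D13861)))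
theorem Q7976 : ∀ i, i < 7976 → P i := stepQ 7975 Q7975 (allL N7975 (tt N8702 (iv F57562)) (tt N7101 F54748) (tt N8817 (iv F58124)) (tt N7478 F54749) (tt N8818 (iv F58128)) (tt N8813 (iv F58106)) (tt N7051 F54750) (tt N7045 (iv D13862)) (tt N7060 F54751))
theorem Q7977 : ∀ i, i < 7977 → P i := stepQ 7976 Q7976 (allL N7976 (tt N7046 (iv D13863)) (tt N8703 (iv F57567)) (tt N7102 F54752) (tt N8802 (iv F58067)) (tt N7765 (iv F54756)) (tt N7412 F54753) (tt N7369 F54754) (tt N7061 F54755) (tt N8819 D14706))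
theorem Q7978 : ∀ i, i < 7978 → P i := stepQ 7977 Q7977 (allL N7977 (tt N7765 F54757) (tt N7047 F54758) (tt N7103 F54759) (tt N8820 D14707) (tt N7046 (iv D13864)) (tt N8821 D14708) (tt N7707 F54760) (tt N7062 F54761) (tt N8822 D14709))
theorem Q7979 : ∀ i, i < 7979 → P i := stepQ 7978 Q7978 (allL N7978 (tt N8819 (iv F58132)) (tt N7048 F54762) (tt N7104 F54763) (tt N8804 (iv F58076)) (tt N8822 (iv F58150)) (tt N7414 F54764) (tt N8814 (iv F58114)) (tt N8823 D14710) (tt N7046 (iv D13865)))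
theorem Q7980 : ∀ i, i < 7980 → P i := stepQ 7979 Q7979 (allL N7979 (tt N8706 (iv F57582)) (tt N8820 (iv F58138)) (tt N7979 F54765) (tt N7047 (iv D13866)) (tt N8805 (iv F58079)) (tt N8824 D14711) (tt N8815 (iv F58118)) (tt N8825 D14712) (tt N8826 D14713))
theorem Q7981 : ∀ i, i < 7981 → P i := stepQ 7980 Q7980 (allL N7980 (tt N8707 (iv F57584)) (tt N8821 (iv F58142)) (tt N7049 F54766) (tt N8824 (iv F58157)) (tt N7416 F54767) (tt N7047 (iv D13867)) (tt N8827 D14714) (tt N7065 F54768) (tt N8828 D14715))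
theorem Q7982 : ∀ i, i < 7982 → P i := stepQ 7981 Q7981 (allL N7981 (tt N8708 (iv F57590)) (tt N8822 (iv F58148)) (tt N7050 F54769) (tt N8826 (iv F58161)) (tt N7048 F54770) (tt N8828 (iv F58170)) (tt N8816 (iv F58123)) (tt N8829 D14716) (tt N7047 (iv D13868)))
theorem Q7983 : ∀ i, i < 7983 → P i := stepQ 7982 Q7982 (allL N7982 (tt N8709 (iv F57593)) (tt N8823 (iv F58152)) (tt N7051 F54771) (tt N8830 D14717) (tt N8829 (iv F58172)) (tt N7418 F54772) (tt N8817 (iv F58125)) (tt N7048 (iv D13869)) (tt N7067 F54773))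
theorem Q7984 : ∀ i, i < 7984 → P i := stepQ 7983 Q7983 (allL N7983 (tt N7319 F54774) (tt N7108 F54775) (tt N8827 (iv F58164)) (tt N7983 F54776) (tt N7419 F54777) (tt N7317 F54778) (tt N7049 (iv D13870)) (tt N7068 F54779) (tt N8831 D14718))
theorem Q7985 : ∀ i, i < 7985 → P i := stepQ 7984 Q7984 (allL N7984 (tt N8710 (iv F57597)) (tt N7109 F54780) (tt N8828 (iv F58168)) (tt N7984 F54781) (tt N7420 F54782) (tt N7050 F54783) (tt N8831 (iv F58182)) (tt N8832 D14719) (tt N7049 (iv D13871)))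
theorem Q7986 : ∀ i, i < 7986 → P i := stepQ 7985 Q7985 (allL N7985 (tt N8711 (iv F57603)) (tt N7110 F54784) (tt N8829 (iv F58171)) (tt N8833 D14720) (tt N7051 F54785) (tt N8832 (iv F58185)) (tt N8818 (iv F58130)) (tt N7050 (iv D13872)) (tt N7070 F54786))
theorem Q7987 : ∀ i, i < 7987 → P i := stepQ 7986 Q7986 (allL N7986 (tt N8713 (iv F57613)) (tt N7205 F54787) (tt N7053 F54788) (tt N8834 D14721) (tt N7052 (iv D13873)) (tt N7699 (iv F54791)) (tt N7366 F54789) (tt N7209 F54790) (tt N8835 D14722))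
theorem Q7988 : ∀ i, i < 7988 → P i := stepQ 7987 Q7987 (allL N7987 (tt N8714 (iv F57619)) (tt N7364 F54792) (tt N7054 F54793) (tt N7992 (iv F54819)) (tt N8835 (iv F58198)) (tt N7057 F54794) (tt N7367 F54795) (tt N8836 D14723) (tt N7052 (iv D13874)))
theorem Q7989 : ∀ i, i < 7989 → P i := stepQ 7988 Q7988 (allL N7988 (tt N8715 (iv F57623)) (tt N7111 F54796) (tt N8835 (iv F58197)) (tt N7988 F54797) (tt N7054 F54798) (tt N7730 F54799) (tt N7390 F54800) (tt N8837 D14724) (tt N7053 (iv D13875)))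
theorem Q7990 : ∀ i, i < 7990 → P i := stepQ 7989 Q7989 (allL N7989 (tt N8716 (iv F57629)) (tt N7112 F54801) (tt N8836 (iv F58202)) (tt N7125 F54802) (tt N8837 (iv F58206)) (tt N7060 F54803) (tt N7391 F54804) (tt N7054 (iv D13876)) (tt N8813 (iv F58108)))
theorem Q7991 : ∀ i, i < 7991 → P i := stepQ 7990 Q7990 (allL N7990 (tt N7055 (iv D13877)) (tt N8717 (iv F57634)) (tt N7113 F54805) (tt N7857 F54806) (tt N7757 (iv F54810)) (tt N7207 F54807) (tt N7061 F54808) (tt N7369 F54809) (tt N8838 D14725))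
theorem Q7992 : ∀ i, i < 7992 → P i := stepQ 7991 Q7991 (allL N7991 (tt N7757 F54811) (tt N7056 F54812) (tt N7114 F54813) (tt N8839 D14726) (tt N7055 (iv D13878)) (tt N7700 F54814) (tt N7062 F54815) (tt N7707 F54816) (tt N8840 D14727))
theorem Q7993 : ∀ i, i < 7993 → P i := stepQ 7992 Q7992 (allL N7992 (tt N8838 (iv F58210)) (tt N7057 F54817) (tt N7115 F54818) (tt N7987 F54819) (tt N8840 (iv F58225)) (tt N7364 F54820) (tt N7063 F54821) (tt N8841 D14728) (tt N7055 (iv D13879)))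
theorem Q7994 : ∀ i, i < 7994 → P i := stepQ 7993 Q7993 (allL N7993 (tt N8268 (iv F55964)) (tt N8839 (iv F58217)) (tt N7071 F54822) (tt N7056 (iv D13880)) (tt N8123 (iv F55386)) (tt N8842 D14729) (tt N7064 F54823) (tt N8691 (iv F57510)) (tt N8843 D14730))
theorem Q7995 : ∀ i, i < 7995 → P i := stepQ 7994 Q7994 (allL N7994 (tt N7668 F54824) (tt N7700 F54825) (tt N7058 F54826) (tt N8842 (iv F58235)) (tt N7699 F54827) (tt N7056 (iv D13881)) (tt N8844 D14731) (tt N7704 F54828) (tt N8845 D14732))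
theorem Q7996 : ∀ i, i < 7996 → P i := stepQ 7995 Q7995 (allL N7995 (tt N8719 (iv F57645)) (tt N8840 (iv F58223)) (tt N7059 F54829) (tt N8843 (iv F58237)) (tt N7057 F54830) (tt N8845 (iv F58249)) (tt N7066 F54831) (tt N8846 D14733) (tt N7056 (iv D13882)))
theorem Q7997 : ∀ i, i < 7997 → P i := stepQ 7996 Q7996 (allL N7996 (tt N8720 (iv F57651)) (tt N8841 (iv F58228)) (tt N7060 F54832) (tt N8847 D14734) (tt N8846 (iv F58251)) (tt N8836 (iv F58203)) (tt N7067 F54833) (tt N7057 (iv D13883)) (tt N8817 (iv F58126)))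
theorem Q7998 : ∀ i, i < 7998 → P i := stepQ 7997 Q7997 (allL N7997 (tt N7303 F54834) (tt N7118 F54835) (tt N8844 (iv F58241)) (tt N7075 F54836) (tt N7302 F54837) (tt N7068 F54838) (tt N7058 (iv D13884)) (tt N7317 F54839) (tt N8848 D14735))
theorem Q7999 : ∀ i, i < 7999 → P i := stepQ 7998 Q7998 (allL N7998 (tt N7498 F54840) (tt N7119 F54841) (tt N8845 (iv F58247)) (tt N7076 F54842) (tt N7730 F54843) (tt N7059 F54844) (tt N8848 (iv F58260)) (tt N8849 D14736) (tt N7058 (iv D13885)))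
theorem Q8000 : ∀ i, i < 8000 → P i := stepQ 7999 Q7999 (allL N7999 (tt N8721 (iv F57654)) (tt N7120 F54845) (tt N8846 (iv F58250)) (tt N8850 D14737) (tt N7060 F54846) (tt N8849 (iv F58264)) (tt N7070 F54847) (tt N7059 (iv D13886)) (tt N8818 (iv F58131)))
theorem Q8001 : ∀ i, i < 8001 → P i := stepQ 8000 Q8000 (allL N8000 (tt N7062 F54848) (tt N8722 (iv F57660)) (tt N7121 F54849) (tt N8851 D14738) (tt N7061 (iv D13887)) (tt N8852 D14739) (tt N7757 F54850) (tt N7765 F54851) (tt N8853 D14740))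
theorem Q8002 : ∀ i, i < 8002 → P i := stepQ 8001 Q8001 (allL N8001 (tt N7063 F54852) (tt N8723 (iv F57666)) (tt N7122 F54853) (tt N8178 (iv F55621)) (tt N8853 (iv F58281)) (tt N7430 F54854) (tt N8838 (iv F58215)) (tt N8854 D14741) (tt N7061 (iv D13888)))
theorem Q8003 : ∀ i, i < 8003 → P i := stepQ 8002 Q8002 (allL N8002 (tt N8851 (iv F58270)) (tt N7064 F54855) (tt N8002 F54856) (tt N7062 (iv D13889)) (tt N8275 (iv F55991)) (tt N8855 D14742) (tt N8839 (iv F58221)) (tt N8856 D14743) (tt N8857 D14744))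
theorem Q8004 : ∀ i, i < 8004 → P i := stepQ 8003 Q8003 (allL N8003 (tt N8852 (iv F58273)) (tt N7065 F54857) (tt N7123 F54858) (tt N8855 (iv F58288)) (tt N7432 F54859) (tt N7062 (iv D13890)) (tt N8858 D14745) (tt N8821 (iv F58146)) (tt N8859 D14746))
theorem Q8005 : ∀ i, i < 8005 → P i := stepQ 8004 Q8004 (allL N8004 (tt N8853 (iv F58279)) (tt N7066 F54860) (tt N7124 F54861) (tt N8857 (iv F58293)) (tt N7063 F54862) (tt N8859 (iv F58303)) (tt N8840 (iv F58227)) (tt N8860 D14747) (tt N7062 (iv D13891)))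
theorem Q8006 : ∀ i, i < 8006 → P i := stepQ 8005 Q8005 (allL N8005 (tt N8854 (iv F58283)) (tt N7067 F54863) (tt N7125 F54864) (tt N8861 D14748) (tt N8860 (iv F58306)) (tt N7434 F54865) (tt N8841 (iv F58231)) (tt N7063 (iv D13892)) (tt N8823 (iv F58155)))
theorem Q8007 : ∀ i, i < 8007 → P i := stepQ 8006 Q8006 (allL N8006 (tt N8728 (iv F57685)) (tt N8855 (iv F58286)) (tt N7078 F54866) (tt N7065 F54867) (tt N8862 D14749) (tt N7064 (iv D13893)) (tt N8863 D14750) (tt N8864 D14751) (tt N8865 D14752))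
theorem Q8008 : ∀ i, i < 8008 → P i := stepQ 8007 Q8007 (allL N8007 (tt N8729 (iv F57688)) (tt N8856 (iv F58289)) (tt N7079 F54868) (tt N8825 (iv F58159)) (tt N8280 (iv F56006)) (tt N8864 (iv F58314)) (tt N8691 (iv F57509)) (tt N7064 (iv D13894)) (tt N8866 D14753))
theorem Q8009 : ∀ i, i < 8009 → P i := stepQ 8008 Q8008 (allL N8008 (tt N8730 (iv F57692)) (tt N8857 (iv F58291)) (tt N7080 F54869) (tt N7066 F54870) (tt N8281 (iv F56010)) (tt N8865 (iv F58317)) (tt N8843 (iv F58238)) (tt N8867 D14754) (tt N7064 (iv D13895)))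
theorem Q8010 : ∀ i, i < 8010 → P i := stepQ 8009 Q8009 (allL N8009 (tt N8731 (iv F57695)) (tt N8858 (iv F58295)) (tt N7068 F54871) (tt N8863 (iv F58312)) (tt N7438 F54872) (tt N8844 (iv F58243)) (tt N7065 (iv D13896)) (tt N8827 (iv F58167)) (tt N8868 D14755))
theorem Q8011 : ∀ i, i < 8011 → P i := stepQ 8010 Q8010 (allL N8010 (tt N8732 (iv F57701)) (tt N8859 (iv F58300)) (tt N7069 F54873) (tt N8865 (iv F58316)) (tt N7439 F54874) (tt N7066 F54875) (tt N8868 (iv F58322)) (tt N8869 D14756) (tt N7065 (iv D13897)))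
theorem Q8012 : ∀ i, i < 8012 → P i := stepQ 8011 Q8011 (allL N8011 (tt N8733 (iv F57705)) (tt N8860 (iv F58304)) (tt N7070 F54876) (tt N8870 D14757) (tt N7067 F54877) (tt N8869 (iv F58325)) (tt N8846 (iv F58252)) (tt N7066 (iv D13898)) (tt N8829 (iv F58173)))
theorem Q8013 : ∀ i, i < 8013 → P i := stepQ 8012 Q8012 (allL N8012 (tt N8734 (iv F57708)) (tt N8861 (iv F58307)) (tt N7768 F54878) (tt N7067 (iv D13899)) (tt N8871 D14758) (tt N7441 F54879) (tt N8847 (iv F58254)) (tt N8284 (iv F56018)) (tt N8830 (iv F58176)))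
theorem Q8014 : ∀ i, i < 8014 → P i := stepQ 8013 Q8013 (allL N8013 (tt N8735 (iv F57711)) (tt N7129 F54880) (tt N8868 (iv F58320)) (tt N7085 F54881) (tt N7442 F54882) (tt N8848 (iv F58259)) (tt N7069 F54883) (tt N8872 D14759) (tt N7068 (iv D13900)))
theorem Q8015 : ∀ i, i < 8015 → P i := stepQ 8014 Q8014 (allL N8014 (tt N8736 (iv F57717)) (tt N7130 F54884) (tt N8869 (iv F58323)) (tt N8873 D14760) (tt N7443 F54885) (tt N7070 F54886) (tt N8872 (iv F58329)) (tt N7069 (iv D13901)) (tt N8832 (iv F58186)))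
theorem Q8016 : ∀ i, i < 8016 → P i := stepQ 8015 Q8015 (allL N8015 (tt N8737 (iv F57721)) (tt N7131 F54887) (tt N8874 D14761) (tt N7070 (iv D13902)) (tt N7771 F54888) (tt N8873 (iv F58331)) (tt N8850 (iv F58268)) (tt N7087 F54889) (tt N8833 (iv F58190)))
theorem Q8017 : ∀ i, i < 8017 → P i := stepQ 8016 Q8016 (allL N8016 (tt N7695 F54890) (tt N8016 F54891) (tt N8842 (iv F58234)) (tt N7072 F54892) (tt N8562 (iv F57098)) (tt N7071 (iv D13903)) (tt N8875 D14762) (tt N8693 (iv F57519)) (tt N8876 D14763))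
theorem Q8018 : ∀ i, i < 8018 → P i := stepQ 8017 Q8017 (allL N8017 (tt N8270 (iv F55972)) (tt N8017 F54893) (tt N8843 (iv F58236)) (tt N7073 F54894) (tt N8124 (iv F55393)) (tt N8876 (iv F58342)) (tt N7080 F54895) (tt N8877 D14764) (tt N7071 (iv D13904)))
theorem Q8019 : ∀ i, i < 8019 → P i := stepQ 8018 Q8018 (allL N8018 (tt N7690 F54896) (tt N8018 F54897) (tt N7075 F54898) (tt N8875 (iv F58337)) (tt N8018 F54899) (tt N7081 F54900) (tt N7072 (iv D13905)) (tt N8018 F54901) (tt N8878 D14765))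
theorem Q8020 : ∀ i, i < 8020 → P i := stepQ 8019 Q8019 (allL N8019 (tt N7577 F54902) (tt N8019 F54903) (tt N7076 F54904) (tt N8876 (iv F58341)) (tt N8019 F54905) (tt N7073 F54906) (tt N8878 (iv F58350)) (tt N8879 D14766) (tt N7072 (iv D13906)))
theorem Q8021 : ∀ i, i < 8021 → P i := stepQ 8020 Q8020 (allL N8020 (tt N8517 (iv F56907)) (tt N8020 F54907) (tt N7077 F54908) (tt N8880 D14767) (tt N7074 F54909) (tt N8879 (iv F58356)) (tt N7083 F54910) (tt N7073 (iv D13907)) (tt N8020 F54911))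
theorem Q8022 : ∀ i, i < 8022 → P i := stepQ 8021 Q8021 (allL N8021 (tt N7593 F54912) (tt N7132 F54913) (tt N8878 (iv F58347)) (tt N8848 (iv F58257)) (tt N8021 F54914) (tt N7085 F54915) (tt N7076 F54916) (tt N7835 (iv F54917)) (tt N7075 (iv D13908)))
theorem Q8023 : ∀ i, i < 8023 → P i := stepQ 8022 Q8022 (allL N8022 (tt N7592 F54918) (tt N7133 F54919) (tt N8879 (iv F58354)) (tt N8881 D14768) (tt N8022 F54920) (tt N7077 F54921) (tt N7835 F54922) (tt N7076 (iv D13909)) (tt N8022 F54923))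
theorem Q8024 : ∀ i, i < 8024 → P i := stepQ 8023 Q8023 (allL N8023 (tt N8738 (iv F57725)) (tt N7134 F54924) (tt N8882 D14769) (tt N7077 (iv D13910)) (tt N7588 F54925) (tt N8881 (iv F58364)) (tt N7087 F54926) (tt N8850 (iv F58269)) (tt N8023 F54927))
theorem Q8025 : ∀ i, i < 8025 → P i := stepQ 8024 Q8024 (allL N8024 (tt N8739 (iv F57731)) (tt N8024 F54928) (tt N8862 (iv F58309)) (tt N7088 F54929) (tt N7078 (iv D13911)) (tt N8286 (iv F56024)) (tt N8530 (iv F56971)) (tt N8529 F56963) (tt N8883 D14770))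
theorem Q8026 : ∀ i, i < 8026 → P i := stepQ 8025 Q8025 (allL N8025 (tt N8740 (iv F57733)) (tt N8025 F54930) (tt N8863 (iv F58311)) (tt N7081 F54931) (tt N8530 (iv F56969)) (tt N8875 (iv F58338)) (tt N7078 (iv D13912)) (tt N8528 F56966) (tt N8884 D14771))
theorem Q8027 : ∀ i, i < 8027 → P i := stepQ 8026 Q8026 (allL N8026 (tt N8741 (iv F57737)) (tt N8026 F54932) (tt N8864 (iv F58313)) (tt N8026 F54933) (tt N8529 F56964) (tt N7079 F54934) (tt N8528 (iv F56965)) (tt N7078 (iv D13913)) (tt N8885 D14772))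
theorem Q8028 : ∀ i, i < 8028 → P i := stepQ 8027 Q8027 (allL N8027 (tt N8742 (iv F57741)) (tt N8027 F54935) (tt N8865 (iv F58315)) (tt N7082 F54936) (tt N8883 (iv F58372)) (tt N7080 F54937) (tt N8884 (iv F58375)) (tt N8886 D14773) (tt N7078 (iv D13914)))
theorem Q8029 : ∀ i, i < 8029 → P i := stepQ 8028 Q8028 (allL N8028 (tt N8743 (iv F57744)) (tt N8028 F54938) (tt N8866 (iv F58318)) (tt N8028 F54939) (tt N8289 (iv F56036)) (tt N8885 (iv F58378)) (tt N8694 (iv F57524)) (tt N8887 D14774) (tt N7079 (iv D13915)))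
theorem Q8030 : ∀ i, i < 8030 → P i := stepQ 8029 Q8029 (allL N8029 (tt N8744 (iv F57749)) (tt N8029 F54940) (tt N8867 (iv F58319)) (tt N8888 D14775) (tt N8290 (iv F56039)) (tt N8886 (iv F58380)) (tt N8877 (iv F58344)) (tt N7080 (iv D13916)) (tt N8887 (iv F58382)))
theorem Q8031 : ∀ i, i < 8031 → P i := stepQ 8030 Q8030 (allL N8030 (tt N8745 (iv F57750)) (tt N8030 F54941) (tt N7085 F54942) (tt N8884 (iv F58374)) (tt N7092 F54943) (tt N8878 (iv F58349)) (tt N7082 F54944) (tt N8889 D14776) (tt N7081 (iv D13917)))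
theorem Q8032 : ∀ i, i < 8032 → P i := stepQ 8031 Q8031 (allL N8031 (tt N8660 (iv F57393)) (tt N8031 F54945) (tt N7086 F54946) (tt N8890 D14777) (tt N7093 F54947) (tt N7083 F54948) (tt N8889 (iv F58390)) (tt N7082 (iv D13918)) (tt N8031 F54949))
theorem Q8033 : ∀ i, i < 8033 → P i := stepQ 8032 Q8032 (allL N8032 (tt N8746 (iv F57757)) (tt N8032 F54950) (tt N8891 D14778) (tt N7083 (iv D13919)) (tt N8892 D14779) (tt N8890 (iv F58393)) (tt N8880 (iv F58360)) (tt N8888 (iv F58384)) (tt N8032 F54951))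
theorem Q8034 : ∀ i, i < 8034 → P i := stepQ 8033 Q8033 (allL N8033 (tt N8519 (iv F56921)) (tt N8033 F54952) (tt N7781 F54953) (tt N8892 (iv F58398)) (tt N7084 (iv D13920)) (tt N8590 (iv F57192)) (tt N8499 (iv F56806)) (tt N8291 (iv F56045)) (tt N8033 F54954))
theorem Q8035 : ∀ i, i < 8035 → P i := stepQ 8034 Q8034 (allL N8034 (tt N7834 F54955) (tt N7135 F54956) (tt N8889 (iv F58387)) (tt N8782 (iv F57948)) (tt N7094 F54957) (tt N7835 F54958) (tt N7086 F54959) (tt N7085 (iv D13921)) (tt N8034 F54960))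
theorem Q8036 : ∀ i, i < 8036 → P i := stepQ 8035 Q8035 (allL N8035 (tt N8747 (iv F57759)) (tt N7136 F54961) (tt N8893 D14780) (tt N7086 (iv D13922)) (tt N8779 (iv F57934)) (tt N7087 F54962) (tt N8782 (iv F57949)) (tt N8873 (iv F58332)) (tt N8035 F54963))
theorem Q8037 : ∀ i, i < 8037 → P i := stepQ 8036 Q8036 (allL N8036 (tt N8748 (iv F57764)) (tt N8894 D14781) (tt N7087 (iv D13923)) (tt N8891 (iv F58395)) (tt N7784 F54964) (tt N8893 (iv F58400)) (tt N8882 (iv F58368)) (tt N8874 (iv F58334)) (tt N8036 F54965))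
theorem Q8038 : ∀ i, i < 8038 → P i := stepQ 8037 Q8037 (allL N8037 (tt N8657 (iv F57373)) (tt N8037 F54966) (tt N7467 F54967) (tt N8883 (iv F58371)) (tt N7091 F54968) (tt N8294 (iv F56064)) (tt N8535 (iv F56986)) (tt N8594 (iv F57212)) (tt N7088 (iv D13924)))
theorem Q8039 : ∀ i, i < 8039 → P i := stepQ 8038 Q8038 (allL N8038 (tt N8658 (iv F57379)) (tt N8038 F54969) (tt N7468 F54970) (tt N7092 F54971) (tt N8535 (iv F56984)) (tt N8038 F54972) (tt N7091 F54973) (tt N8595 (iv F57219)) (tt N7089 (iv D13925)))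
theorem Q8040 : ∀ i, i < 8040 → P i := stepQ 8039 Q8039 (allL N8039 (tt N8659 (iv F57386)) (tt N8039 F54974) (tt N7094 F54975) (tt N8596 (iv F57223)) (tt N8889 (iv F58388)) (tt N8039 F54976) (tt N7093 F54977) (tt N7092 (iv D13926)) (tt N8039 F54978))
theorem Q8041 : ∀ i, i < 8041 → P i := stepQ 8040 Q8040 (allL N8040 (tt N7139 F54979) (tt N8813 (iv F58103)) (tt N7226 F54980) (tt N7107 F54981) (tt N7225 F54982) (tt N7101 F54983) (tt N7388 F54984) (tt N7097 (iv D13927)) (tt N7112 F54985))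
theorem Q8042 : ∀ i, i < 8042 → P i := stepQ 8041 Q8041 (allL N8041 (tt N7372 F54986) (tt N7099 F54987) (tt N8814 (iv F58111)) (tt N7193 F54988) (tt N7710 F54989) (tt N7212 F54990) (tt N7104 F54991) (tt N8895 D14782) (tt N7098 (iv D13928)))
theorem Q8043 : ∀ i, i < 8043 → P i := stepQ 8042 Q8042 (allL N8042 (tt N7140 F54992) (tt N8895 (iv F58406)) (tt N7101 F54993) (tt N7388 F54994) (tt N7737 F54995) (tt N7226 F54996) (tt N7107 F54997) (tt N7099 (iv D13929)) (tt N7117 F54998))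
theorem Q8044 : ∀ i, i < 8044 → P i := stepQ 8043 Q8043 (allL N8043 (tt N7141 F54999) (tt N8818 (iv F58127)) (tt N7737 F55000) (tt N8896 D14783) (tt N7101 F55001) (tt N7735 F55002) (tt N7110 F55003) (tt N7100 (iv D13930)) (tt N7120 F55004))
theorem Q8045 : ∀ i, i < 8045 → P i := stepQ 8044 Q8044 (allL N8044 (tt N7104 F55005) (tt N7142 F55006) (tt N8819 (iv F58133)) (tt N7194 F55007) (tt N7769 F55008) (tt N7475 F55009) (tt N7372 F55010) (tt N8897 D14784) (tt N7102 (iv D13931)))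
theorem Q8046 : ∀ i, i < 8046 → P i := stepQ 8045 Q8045 (allL N8045 (tt N7488 F55011) (tt N7105 F55012) (tt N8821 (iv F58143)) (tt N7583 F55013) (tt N7476 F55014) (tt N7103 (iv D13932)) (tt N7485 F55015) (tt N7123 F55016) (tt N8898 D14785))
theorem Q8047 : ∀ i, i < 8047 → P i := stepQ 8046 Q8046 (allL N8046 (tt N7769 F55017) (tt N7106 F55018) (tt N8822 (iv F58149)) (tt N7719 F55019) (tt N7104 F55020) (tt N8898 (iv F58428)) (tt N7710 F55021) (tt N8899 D14786) (tt N7103 (iv D13933)))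
theorem Q8048 : ∀ i, i < 8048 → P i := stepQ 8047 Q8047 (allL N8047 (tt N8897 (iv F58418)) (tt N7107 F55022) (tt N8823 (iv F58153)) (tt N8813 (iv F58104)) (tt N8899 (iv F58432)) (tt N7478 F55023) (tt N8895 (iv F58410)) (tt N7104 (iv D13934)) (tt N7125 F55024))
theorem Q8049 : ∀ i, i < 8049 → P i := stepQ 8048 Q8048 (allL N8048 (tt N7144 F55025) (tt N8898 (iv F58425)) (tt N7109 F55026) (tt N7594 F55027) (tt N7479 F55028) (tt N7106 F55029) (tt N7506 F55030) (tt N8900 D14787) (tt N7105 (iv D13935)))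
theorem Q8050 : ∀ i, i < 8050 → P i := stepQ 8049 Q8049 (allL N8049 (tt N7145 F55031) (tt N8899 (iv F58431)) (tt N7110 F55032) (tt N8901 D14788) (tt N7107 F55033) (tt N8900 (iv F58438)) (tt N7737 F55034) (tt N7106 (iv D13936)) (tt N7128 F55035))
theorem Q8051 : ∀ i, i < 8051 → P i := stepQ 8050 Q8050 (allL N8050 (tt N7146 F55036) (tt N8831 (iv F58178)) (tt N7506 F55037) (tt N8050 F55038) (tt N7481 F55039) (tt N7347 F55040) (tt N7109 F55041) (tt N8902 D14789) (tt N7108 (iv D13937)))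
theorem Q8052 : ∀ i, i < 8052 → P i := stepQ 8051 Q8051 (allL N8051 (tt N7147 F55042) (tt N8832 (iv F58183)) (tt N8900 (iv F58436)) (tt N8903 D14790) (tt N7482 F55043) (tt N7110 F55044) (tt N8902 (iv F58451)) (tt N7109 (iv D13938)) (tt N7130 F55045))
theorem Q8053 : ∀ i, i < 8053 → P i := stepQ 8052 Q8052 (allL N8052 (tt N7148 F55046) (tt N8833 (iv F58187)) (tt N8904 D14791) (tt N7110 (iv D13939)) (tt N7795 F55047) (tt N8903 (iv F58454)) (tt N8896 (iv F58415)) (tt N8052 F55048) (tt N7131 F55049))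
theorem Q8054 : ∀ i, i < 8054 → P i := stepQ 8053 Q8053 (allL N8053 (tt N7149 F55050) (tt N8837 (iv F58205)) (tt N7219 F55051) (tt N8905 D14792) (tt N7112 F55052) (tt N7731 F55053) (tt N7393 F55054) (tt N7111 (iv D13940)) (tt N7225 F55055))
theorem Q8055 : ∀ i, i < 8055 → P i := stepQ 8054 Q8054 (allL N8054 (tt N7115 F55056) (tt N7150 F55057) (tt N8838 (iv F58211)) (tt N7138 F55058) (tt N7760 F55059) (tt N7208 F55060) (tt N7122 F55061) (tt N8906 D14793) (tt N7113 (iv D13941)))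
theorem Q8056 : ∀ i, i < 8056 → P i := stepQ 8055 Q8055 (allL N8055 (tt N7760 F55062) (tt N7116 F55063) (tt N8840 (iv F58224)) (tt N8055 F55064) (tt N7115 F55065) (tt N7702 F55066) (tt N7124 F55067) (tt N8907 D14794) (tt N7114 (iv D13942)))
theorem Q8057 : ∀ i, i < 8057 → P i := stepQ 8056 Q8056 (allL N8056 (tt N8906 (iv F58469)) (tt N7117 F55068) (tt N8841 (iv F58229)) (tt N7391 F55069) (tt N8907 (iv F58478)) (tt N7365 F55070) (tt N7125 F55071) (tt N7115 (iv D13943)) (tt N8895 (iv F58411)))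
theorem Q8058 : ∀ i, i < 8058 → P i := stepQ 8057 Q8057 (allL N8057 (tt N7152 F55072) (tt N8907 (iv F58477)) (tt N7120 F55073) (tt N8908 D14795) (tt N7117 F55074) (tt N7732 F55075) (tt N7128 F55076) (tt N7116 (iv D13944)) (tt N7737 F55077))
theorem Q8059 : ∀ i, i < 8059 → P i := stepQ 8058 Q8058 (allL N8058 (tt N7153 F55078) (tt N8848 (iv F58256)) (tt N7499 F55079) (tt N7132 F55080) (tt N7338 F55081) (tt N7129 F55082) (tt N7119 F55083) (tt N8909 D14796) (tt N7118 (iv D13945)))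
theorem Q8060 : ∀ i, i < 8060 → P i := stepQ 8059 Q8059 (allL N8059 (tt N7154 F55084) (tt N8849 (iv F58262)) (tt N7732 F55085) (tt N8910 D14797) (tt N7731 F55086) (tt N7120 F55087) (tt N8909 (iv F58493)) (tt N7119 (iv D13946)) (tt N7735 F55088))
theorem Q8061 : ∀ i, i < 8061 → P i := stepQ 8060 Q8060 (allL N8060 (tt N7155 F55089) (tt N8850 (iv F58266)) (tt N8911 D14798) (tt N7120 (iv D13947)) (tt N7493 F55090) (tt N8910 (iv F58496)) (tt N7131 F55091) (tt N7134 F55092) (tt N8896 (iv F58417)))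
theorem Q8062 : ∀ i, i < 8062 → P i := stepQ 8061 Q8061 (allL N8061 (tt N7123 F55093) (tt N7156 F55094) (tt N8852 (iv F58275)) (tt N8061 F55095) (tt N7485 F55096) (tt N7121 (iv D13948)) (tt N7476 F55097) (tt N7488 F55098) (tt N8912 D14799))
theorem Q8063 : ∀ i, i < 8063 → P i := stepQ 8062 Q8062 (allL N8062 (tt N7124 F55099) (tt N7157 F55100) (tt N8853 (iv F58280)) (tt N8062 F55101) (tt N7122 F55102) (tt N8912 (iv F58508)) (tt N7760 F55103) (tt N8913 D14800) (tt N7121 (iv D13949)))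
theorem Q8064 : ∀ i, i < 8064 → P i := stepQ 8063 Q8063 (allL N8063 (tt N7125 F55104) (tt N7158 F55105) (tt N8854 (iv F58284)) (tt N8716 (iv F57631)) (tt N8913 (iv F58512)) (tt N7487 F55106) (tt N8906 (iv F58474)) (tt N7122 (iv D13950)) (tt N8897 (iv F58423)))
theorem Q8065 : ∀ i, i < 8065 → P i := stepQ 8064 Q8064 (allL N8064 (tt N7476 F55107) (tt N7126 F55108) (tt N8858 (iv F58296)) (tt N8064 F55109) (tt N7488 F55110) (tt N7474 F55111) (tt N7123 (iv D13951)) (tt N7485 F55112) (tt N8914 D14801))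
theorem Q8066 : ∀ i, i < 8066 → P i := stepQ 8065 Q8065 (allL N8065 (tt N8912 (iv F58504)) (tt N7127 F55113) (tt N8859 (iv F58301)) (tt N8065 F55114) (tt N7489 F55115) (tt N7124 F55116) (tt N8914 (iv F58520)) (tt N8915 D14802) (tt N7123 (iv D13952)))
theorem Q8067 : ∀ i, i < 8067 → P i := stepQ 8066 Q8066 (allL N8066 (tt N8913 (iv F58510)) (tt N7128 F55117) (tt N8860 (iv F58305)) (tt N8916 D14803) (tt N7125 F55118) (tt N8915 (iv F58523)) (tt N8907 (iv F58480)) (tt N7124 (iv D13953)) (tt N8899 (iv F58434)))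
theorem Q8068 : ∀ i, i < 8068 → P i := stepQ 8067 Q8067 (allL N8067 (tt N7161 F55119) (tt N8914 (iv F58516)) (tt N7129 F55120) (tt N8067 F55121) (tt N7491 F55122) (tt N7499 F55123) (tt N7127 F55124) (tt N8917 D14804) (tt N7126 (iv D13954)))
theorem Q8069 : ∀ i, i < 8069 → P i := stepQ 8068 Q8068 (allL N8068 (tt N7162 F55125) (tt N8915 (iv F58521)) (tt N7130 F55126) (tt N8918 D14805) (tt N7492 F55127) (tt N7128 F55128) (tt N8917 (iv F58530)) (tt N7127 (iv D13955)) (tt N8900 (iv F58440)))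
theorem Q8070 : ∀ i, i < 8070 → P i := stepQ 8069 Q8069 (allL N8069 (tt N7163 F55129) (tt N8916 (iv F58524)) (tt N8919 D14806) (tt N7128 (iv D13956)) (tt N8905 (iv F58464)) (tt N8918 (iv F58533)) (tt N8908 (iv F58485)) (tt N8069 F55130) (tt N8901 (iv F58445)))
theorem Q8071 : ∀ i, i < 8071 → P i := stepQ 8070 Q8070 (allL N8070 (tt N7164 F55131) (tt N8872 (iv F58327)) (tt N8917 (iv F58527)) (tt N8773 (iv F57900)) (tt N7494 F55132) (tt N8909 (iv F58492)) (tt N7130 F55133) (tt N7129 (iv D13957)) (tt N8902 (iv F58452)))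
theorem Q8072 : ∀ i, i < 8072 → P i := stepQ 8071 Q8071 (allL N8071 (tt N7165 F55134) (tt N8873 (iv F58330)) (tt N8920 D14807) (tt N7130 (iv D13958)) (tt N8765 (iv F57859)) (tt N7131 F55135) (tt N8773 (iv F57901)) (tt N7136 F55136) (tt N8903 (iv F58456)))
theorem Q8073 : ∀ i, i < 8073 → P i := stepQ 8072 Q8072 (allL N8072 (tt N7166 F55137) (tt N8921 D14808) (tt N7131 (iv D13959)) (tt N8919 (iv F58536)) (tt N7798 F55138) (tt N8920 (iv F58542)) (tt N8911 (iv F58502)) (tt N7137 F55139) (tt N8904 (iv F58461)))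
theorem Q8074 : ∀ i, i < 8074 → P i := stepQ 8073 Q8073 (allL N8073 (tt N7167 F55140) (tt N8881 (iv F58363)) (tt N8922 D14809) (tt N7133 (iv D13960)) (tt N8923 D14810) (tt N7134 F55141) (tt N7809 F55142) (tt N8910 (iv F58498)) (tt N8073 F55143))
theorem Q8075 : ∀ i, i < 8075 → P i := stepQ 8074 Q8074 (allL N8074 (tt N7168 F55144) (tt N8924 D14811) (tt N7134 (iv D13961)) (tt N8074 F55145) (tt N7591 F55146) (tt N8922 (iv F58549)) (tt N7137 F55147) (tt N8911 (iv F58503)) (tt N8074 F55148))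
theorem Q8076 : ∀ i, i < 8076 → P i := stepQ 8075 Q8075 (allL N8075 (tt N7169 F55149) (tt N8925 D14812) (tt N7136 (iv D13962)) (tt N8075 F55150) (tt N7357 F55151) (tt N7137 F55152) (tt N7743 F55153) (tt N8920 (iv F58544)) (tt N8075 F55154))
theorem Q8077 : ∀ i, i < 8077 → P i := stepQ 8076 Q8076 (allL N8076 (tt N8926 D14813) (tt N7137 (iv D13963)) (tt N8894 (iv F58402)) (tt N8076 F55155) (tt N7802 F55156) (tt N8925 (iv F58566)) (tt N8924 (iv F58561)) (tt N8921 (iv F58546)) (tt N8076 F55157))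
theorem Q8078 : ∀ i, i < 8078 → P i := stepQ 8077 Q8077 (allL N8077 (tt N8896 (iv F58412)) (tt N8784 (iv F57959)) (tt N8927 D14814) (tt N7141 (iv D13964)) (tt N7503 F55158) (tt N7746 F55159) (tt N7148 F55160) (tt N8077 F55161) (tt N7155 F55162))
theorem Q8079 : ∀ i, i < 8079 → P i := stepQ 8078 Q8078 (allL N8078 (tt N7143 F55163) (tt N8897 (iv F58419)) (tt N8785 (iv F57967)) (tt N8749 (iv F57769)) (tt N7796 F55164) (tt N7500 F55165) (tt N7394 F55166) (tt N7142 (iv D13965)) (tt N7158 F55167))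
theorem Q8080 : ∀ i, i < 8080 → P i := stepQ 8079 Q8079 (allL N8079 (tt N8900 (iv F58435)) (tt N7510 F55168) (tt N7147 F55169) (tt N8795 (iv F58033)) (tt N7502 F55170) (tt N7145 F55171) (tt N7508 F55172) (tt N7144 (iv D13966)) (tt N7162 F55173))
theorem Q8081 : ∀ i, i < 8081 → P i := stepQ 8080 Q8080 (allL N8080 (tt N8901 (iv F58441)) (tt N7805 F55174) (tt N7353 (iv F55179)) (tt N7145 (iv D13967)) (tt N7235 F55175) (tt N8795 (iv F58035)) (tt N7748 F55176) (tt N7239 F55177) (tt N7163 F55178))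
theorem Q8082 : ∀ i, i < 8082 → P i := stepQ 8081 Q8081 (allL N8081 (tt N8902 (iv F58447)) (tt N7351 F55180) (tt N7508 F55181) (tt N8787 (iv F57981)) (tt N7504 F55182) (tt N7349 F55183) (tt N7147 F55184) (tt N7146 (iv D13968)) (tt N7164 F55185))
theorem Q8083 : ∀ i, i < 8083 → P i := stepQ 8082 Q8082 (allL N8082 (tt N8903 (iv F58453)) (tt N8788 (iv F57986)) (tt N8928 D14815) (tt N7147 (iv D13969)) (tt N8783 (iv F57954)) (tt N7148 F55186) (tt N8787 (iv F57982)) (tt N8082 F55187) (tt N7165 F55188))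
theorem Q8084 : ∀ i, i < 8084 → P i := stepQ 8083 Q8083 (allL N8083 (tt N8904 (iv F58457)) (tt N8929 D14816) (tt N7148 (iv D13970)) (tt N7353 F55189) (tt N7352 F55190) (tt N8928 (iv F58584)) (tt N8927 (iv F58577)) (tt N8083 F55191) (tt N7166 F55192))
theorem Q8085 : ∀ i, i < 8085 → P i := stepQ 8084 Q8084 (allL N8084 (tt N8905 (iv F58462)) (tt N8790 (iv F58000)) (tt N7341 F55193) (tt N7149 (iv D13971)) (tt N7163 F55194) (tt N7744 F55195) (tt N7396 F55196) (tt N8084 F55197) (tt N7235 F55198))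
theorem Q8086 : ∀ i, i < 8086 → P i := stepQ 8085 Q8085 (allL N8085 (tt N7151 F55199) (tt N8906 (iv F58470)) (tt N8791 (iv F58008)) (tt N7310 F55200) (tt N7794 F55201) (tt N7222 F55202) (tt N7158 F55203) (tt N7150 (iv D13972)) (tt N7394 F55204))
theorem Q8087 : ∀ i, i < 8087 → P i := stepQ 8086 Q8086 (allL N8086 (tt N8908 (iv F58482)) (tt N7804 F55205) (tt N8930 D14817) (tt N7152 (iv D13973)) (tt N7396 F55206) (tt N7745 F55207) (tt N7163 F55208) (tt N8086 F55209) (tt N7748 F55210))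
theorem Q8088 : ∀ i, i < 8088 → P i := stepQ 8087 Q8087 (allL N8087 (tt N8909 (iv F58488)) (tt N7340 F55211) (tt N7501 F55212) (tt N7808 F55213) (tt N7339 F55214) (tt N7164 F55215) (tt N7154 F55216) (tt N7153 (iv D13974)) (tt N7349 F55217))
theorem Q8089 : ∀ i, i < 8089 → P i := stepQ 8088 Q8088 (allL N8088 (tt N8910 (iv F58495)) (tt N7512 F55218) (tt N8931 D14818) (tt N7154 (iv D13975)) (tt N8932 D14819) (tt N7155 F55219) (tt N7808 F55220) (tt N7167 F55221) (tt N7746 F55222))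
theorem Q8090 : ∀ i, i < 8090 → P i := stepQ 8089 Q8089 (allL N8089 (tt N8911 (iv F58500)) (tt N8932 (iv F58609)) (tt N7155 (iv D13976)) (tt N8930 (iv F58596)) (tt N7512 F55223) (tt N8931 (iv F58604)) (tt N7166 F55224) (tt N7168 F55225) (tt N8927 (iv F58579)))
theorem Q8091 : ∀ i, i < 8091 → P i := stepQ 8090 Q8090 (allL N8090 (tt N7159 F55226) (tt N8912 (iv F58505)) (tt N7481 F55227) (tt N8090 F55228) (tt N7506 F55229) (tt N7157 F55230) (tt N7479 F55231) (tt N8933 D14820) (tt N7156 (iv D13977)))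
theorem Q8092 : ∀ i, i < 8092 → P i := stepQ 8091 Q8091 (allL N8091 (tt N7160 F55232) (tt N8913 (iv F58511)) (tt N8793 (iv F58021)) (tt N8934 D14821) (tt N7158 F55233) (tt N8933 (iv F58619)) (tt N7794 F55234) (tt N7157 (iv D13978)) (tt N7796 F55235))
theorem Q8093 : ∀ i, i < 8093 → P i := stepQ 8092 Q8092 (allL N8092 (tt N8933 (iv F58616)) (tt N7162 F55236) (tt N7504 F55237) (tt N8789 (iv F57993)) (tt N7508 F55238) (tt N7160 F55239) (tt N7502 F55240) (tt N7159 (iv D13979)) (tt N7510 F55241))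
theorem Q8094 : ∀ i, i < 8094 → P i := stepQ 8093 Q8093 (allL N8093 (tt N8934 (iv F58622)) (tt N7163 F55242) (tt N8788 (iv F57987)) (tt N7160 (iv D13980)) (tt N8790 (iv F58002)) (tt N8789 (iv F57995)) (tt N7804 F55243) (tt N8093 F55244) (tt N7805 F55245))
theorem Q8095 : ∀ i, i < 8095 → P i := stepQ 8094 Q8094 (allL N8094 (tt N8917 (iv F58526)) (tt N7502 F55246) (tt N7164 F55247) (tt N8935 D14822) (tt N7510 F55248) (tt N7501 F55249) (tt N7162 F55250) (tt N7161 (iv D13981)) (tt N7508 F55251))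
theorem Q8096 : ∀ i, i < 8096 → P i := stepQ 8095 Q8095 (allL N8095 (tt N8918 (iv F58532)) (tt N8789 F57999) (tt N8929 (iv F58588)) (tt N7162 (iv D13982)) (tt N8936 D14823) (tt N7163 F55252) (tt N8935 (iv F58630)) (tt N8095 F55253) (tt N8795 (iv F58038)))
theorem Q8097 : ∀ i, i < 8097 → P i := stepQ 8096 Q8096 (allL N8096 (tt N8919 (iv F58535)) (tt N8928 (iv F58581)) (tt N7163 (iv D13983)) (tt N7166 F55254) (tt N7341 F55255) (tt N8929 (iv F58591)) (tt N8930 (iv F58599)) (tt N8096 F55256) (tt N7353 F55257))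
theorem Q8098 : ∀ i, i < 8098 → P i := stepQ 8097 Q8097 (allL N8097 (tt N8920 (iv F58540)) (tt N7353 F55258) (tt N7165 (iv D13984)) (tt N8929 (iv F58589)) (tt N7350 F55259) (tt N7166 F55260) (tt N7747 F55261) (tt N7169 F55262) (tt N8928 (iv F58587)))
theorem Q8099 : ∀ i, i < 8099 → P i := stepQ 8098 Q8098 (allL N8098 (tt N8937 D14824) (tt N7166 (iv D13985)) (tt N8795 (iv F58032)) (tt N8928 (iv F58582)) (tt N7808 F55263) (tt N7353 F55264) (tt N8932 (iv F58613)) (tt N7170 F55265) (tt N8929 (iv F58594)))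
theorem Q8100 : ∀ i, i < 8100 → P i := stepQ 8099 Q8099 (allL N8099 (tt N8922 (iv F58547)) (tt N7599 F55266) (tt N7167 (iv D13986)) (tt N8099 F55267) (tt N7598 (iv F55271)) (tt N7168 F55268) (tt N7750 F55269) (tt N8931 (iv F58606)) (tt N8099 F55270))
theorem Q8101 : ∀ i, i < 8101 → P i := stepQ 8100 Q8100 (allL N8100 (tt N8923 (iv F58553)) (tt N7168 F55272) (tt N7598 F55273) (tt N8100 F55274) (tt N7167 (iv D13987)) (tt N7599 F55275) (tt N7170 F55276) (tt N8932 (iv F58614)) (tt N8100 F55277))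
theorem Q8102 : ∀ i, i < 8102 → P i := stepQ 8101 Q8101 (allL N8101 (tt N7170 (iv D13988)) (tt N8926 (iv F58569)) (tt N8796 (iv F58039)) (tt N8101 F55278) (tt N7809 F55279) (tt N7335 F55280) (tt N8923 (iv F58557)) (tt N8937 (iv F58642)) (tt N8101 F55281))
theorem Q8103 : ∀ i, i < 8103 → P i := stepQ 8102 Q8102 (allL N8102 (tt N8102 F55282) (tt N8798 (iv F58050)) (tt N7514 F55283) (tt N7172 F55284) (tt N8484 (iv F56741)) (tt N7175 F55285) (tt N7515 F55286) (tt N8938 D14825) (tt N7171 (iv D13989)))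
theorem Q8104 : ∀ i, i < 8104 → P i := stepQ 8103 Q8103 (allL N8103 (tt N7374 (iv F55291)) (tt N7173 (iv D13990)) (tt N8799 (iv F58054)) (tt N7183 F55287) (tt N8939 D14826) (tt N7214 F55288) (tt N7176 F55289) (tt N7958 F55290) (tt N8940 D14827))
theorem Q8105 : ∀ i, i < 8105 → P i := stepQ 8104 Q8104 (allL N8104 (tt N8104 F55292) (tt N8939 (iv F58649)) (tt N7174 F55293) (tt N7691 F55294) (tt N7173 (iv D13991)) (tt N8941 D14828) (tt N7177 F55295) (tt N7694 F55296) (tt N8486 (iv F56750)))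
theorem Q8106 : ∀ i, i < 8106 → P i := stepQ 8105 Q8105 (allL N8105 (tt N8105 F55297) (tt N8940 (iv F58655)) (tt N7175 F55298) (tt N7185 F55299) (tt N8486 (iv F56748)) (tt N7514 F55300) (tt N7178 F55301) (tt N8942 D14829) (tt N7173 (iv D13992)))
theorem Q8107 : ∀ i, i < 8107 → P i := stepQ 8106 Q8106 (allL N8106 (tt N8106 F55302) (tt N8741 (iv F57738)) (tt N8941 (iv F58661)) (tt N8106 F55303) (tt N8555 F57072) (tt N7174 (iv D13993)) (tt N8557 (iv F57082)) (tt N8420 (iv F56473)) (tt N8943 D14830))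
theorem Q8108 : ∀ i, i < 8108 → P i := stepQ 8107 Q8107 (allL N8107 (tt N8107 F55304) (tt N8743 (iv F57745)) (tt N8486 F56751) (tt N8107 F55305) (tt N7175 F55306) (tt N8943 (iv F58676)) (tt N7180 F55307) (tt N8944 D14831) (tt N7174 (iv D13994)))
theorem Q8109 : ∀ i, i < 8109 → P i := stepQ 8108 Q8108 (allL N8108 (tt N8108 F55308) (tt N8801 (iv F58063)) (tt N8942 (iv F58668)) (tt N7525 F55309) (tt N8944 (iv F58678)) (tt N8938 (iv F58646)) (tt N7181 F55310) (tt N7175 (iv D13995)) (tt N8422 (iv F56482)))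
theorem Q8110 : ∀ i, i < 8110 → P i := stepQ 8109 Q8109 (allL N8109 (tt N7176 (iv D13996)) (tt N8109 F55311) (tt N8802 (iv F58066)) (tt N7187 F55312) (tt N8945 D14832) (tt N7520 F55313) (tt N7374 F55314) (tt N8152 (iv F55528)) (tt N8946 D14833))
theorem Q8111 : ∀ i, i < 8111 → P i := stepQ 8110 Q8110 (allL N8110 (tt N8945 (iv F58680)) (tt N7177 F55315) (tt N8803 (iv F58071)) (tt N7660 (iv F55317)) (tt N7176 (iv D13997)) (tt N7662 (iv F55318)) (tt N8939 (iv F58652)) (tt N7664 F55316) (tt N8947 D14834))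
theorem Q8112 : ∀ i, i < 8112 → P i := stepQ 8111 Q8111 (allL N8111 (tt N8946 (iv F58686)) (tt N7178 F55319) (tt N8804 (iv F58075)) (tt N7189 F55320) (tt N8947 (iv F58693)) (tt N7522 F55321) (tt N8940 (iv F58658)) (tt N8948 D14835) (tt N7176 (iv D13998)))
theorem Q8113 : ∀ i, i < 8113 → P i := stepQ 8112 Q8112 (allL N8112 (tt N8112 F55322) (tt N8947 (iv F58691)) (tt N7180 F55323) (tt N7692 F55324) (tt N7178 F55325) (tt N7693 F55326) (tt N8486 (iv F56749)) (tt N8949 D14836) (tt N7177 (iv D13999)))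
theorem Q8114 : ∀ i, i < 8114 → P i := stepQ 8113 Q8113 (allL N8113 (tt N8113 F55327) (tt N8948 (iv F58695)) (tt N7181 F55328) (tt N8938 (iv F58645)) (tt N8949 (iv F58700)) (tt N7525 F55329) (tt N8942 (iv F58671)) (tt N7178 (iv D14000)) (tt N8423 (iv F56486)))
theorem Q8115 : ∀ i, i < 8115 → P i := stepQ 8114 Q8114 (allL N8114 (tt N8114 F55330) (tt N8809 (iv F58088)) (tt N7684 F55331) (tt N8114 F55332) (tt N7526 F55333) (tt N8557 (iv F57081)) (tt N7179 (iv D14001)) (tt N7687 F55334) (tt N8950 D14837))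
theorem Q8116 : ∀ i, i < 8116 → P i := stepQ 8115 Q8115 (allL N8115 (tt N8115 F55335) (tt N8810 (iv F58092)) (tt N7693 F55336) (tt N8115 F55337) (tt N7527 F55338) (tt N7180 F55339) (tt N8950 (iv F58707)) (tt N8951 D14838) (tt N7179 (iv D14002)))
theorem Q8117 : ∀ i, i < 8117 → P i := stepQ 8116 Q8116 (allL N8116 (tt N8116 F55340) (tt N8811 (iv F58096)) (tt N8949 (iv F58698)) (tt N8952 D14839) (tt N7181 F55341) (tt N8951 (iv F58711)) (tt N8944 (iv F58679)) (tt N7180 (iv D14003)) (tt N8424 (iv F56489)))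
theorem Q8118 : ∀ i, i < 8118 → P i := stepQ 8117 Q8117 (allL N8117 (tt N7377 F55342) (tt N7185 F55343) (tt N7193 F55344) (tt N8940 (iv F58656)) (tt N7217 F55345) (tt N7215 F55346) (tt N7189 F55347) (tt N7398 F55348) (tt N7183 (iv D14004)))
theorem Q8119 : ∀ i, i < 8119 → P i := stepQ 8118 Q8118 (allL N8118 (tt N7189 F55349) (tt N8118 F55350) (tt N7194 F55351) (tt N8946 (iv F58688)) (tt N7383 F55352) (tt N7529 F55353) (tt N7377 F55354) (tt N8518 (iv F56920)) (tt N7187 (iv D14005)))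
theorem Q8120 : ∀ i, i < 8120 → P i := stepQ 8119 Q8119 (allL N8119 (tt N7380 F55355) (tt N7190 F55356) (tt N7723 F55357) (tt N7188 (iv D14006)) (tt N7660 F55358) (tt N8119 F55359) (tt N7216 F55360) (tt N7657 F55361) (tt N8394 (iv F56378)))
theorem Q8121 : ∀ i, i < 8121 → P i := stepQ 8120 Q8120 (allL N8120 (tt N7383 F55362) (tt N7191 F55363) (tt N7195 F55364) (tt N8394 F56379) (tt N7189 F55365) (tt N8120 F55366) (tt N7217 F55367) (tt N8395 (iv F56385)) (tt N7188 (iv D14007)))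
theorem Q8122 : ∀ i, i < 8122 → P i := stepQ 8121 Q8121 (allL N8121 (tt N7199 F55368) (tt N7201 F55369) (tt N7840 F55370) (tt N7385 F55371) (tt N7229 F55372) (tt N8121 F55373) (tt N7386 F55374) (tt N7791 (iv F55375)) (tt N7198 (iv D14008)))
theorem Q8123 : ∀ i, i < 8123 → P i := stepQ 8122 Q8122 (allL N8122 (tt N7791 F55376) (tt N7200 F55377) (tt N7841 F55378) (tt N7728 F55379) (tt N7230 F55380) (tt N8122 F55381) (tt N7729 F55382) (tt N7199 (iv D14009)) (tt N8122 F55383))
theorem Q8124 : ∀ i, i < 8124 → P i := stepQ 8123 Q8123 (allL N8123 (tt N7358 F55384) (tt N8834 (iv F58191)) (tt N7203 (iv D14010)) (tt N7205 F55385) (tt N7993 F55386) (tt N7696 F55387) (tt N7368 F55388) (tt N7843 F55389) (tt N8953 D14840))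
theorem Q8125 : ∀ i, i < 8125 → P i := stepQ 8124 Q8124 (allL N8124 (tt N7360 F55390) (tt N8124 F55391) (tt N8953 (iv F58717)) (tt N7204 F55392) (tt N8017 F55393) (tt N7698 F55394) (tt N7376 F55395) (tt N8954 D14841) (tt N7203 (iv D14011)))
theorem Q8126 : ∀ i, i < 8126 → P i := stepQ 8125 Q8125 (allL N8125 (tt N7362 F55396) (tt N8835 (iv F58196)) (tt N7206 F55397) (tt N8953 (iv F58718)) (tt N7364 F55398) (tt N7701 F55399) (tt N7370 F55400) (tt N8955 D14842) (tt N7205 (iv D14012)))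
theorem Q8127 : ∀ i, i < 8127 → P i := stepQ 8126 Q8126 (allL N8126 (tt N7363 F55401) (tt N7219 F55402) (tt N8955 (iv F58730)) (tt N7255 F55403) (tt N7365 F55404) (tt N7703 F55405) (tt N7373 F55406) (tt N7206 (iv D14013)) (tt N7213 F55407))
theorem Q8128 : ∀ i, i < 8128 → P i := stepQ 8127 Q8127 (allL N8127 (tt N8712 (iv F57607)) (tt N7207 (iv D14014)) (tt N7220 F55408) (tt N7860 F55409) (tt N7361 F55410) (tt N8717 (iv F57638)) (tt N7209 F55411) (tt N7366 F55412) (tt N8956 D14843))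
theorem Q8129 : ∀ i, i < 8129 → P i := stepQ 8128 Q8128 (allL N8128 (tt N7364 F55413) (tt N8956 (iv F58735)) (tt N7208 F55414) (tt N7862 F55415) (tt N7362 F55416) (tt N8838 (iv F58214)) (tt N7211 F55417) (tt N8957 D14844) (tt N7207 (iv D14015)))
theorem Q8130 : ∀ i, i < 8130 → P i := stepQ 8129 Q8129 (allL N8129 (tt N7365 F55418) (tt N7222 F55419) (tt N8957 (iv F58741)) (tt N7264 F55420) (tt N7363 F55421) (tt N8906 (iv F58473)) (tt N7213 F55422) (tt N7208 (iv D14016)) (tt N7373 F55423))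
theorem Q8131 : ∀ i, i < 8131 → P i := stepQ 8130 Q8130 (allL N8130 (tt N7209 (iv D14017)) (tt N7256 F55424) (tt N7223 F55425) (tt N7865 F55426) (tt N8696 (iv F57531)) (tt N7259 F55427) (tt N8712 (iv F57610)) (tt N8713 (iv F57618)) (tt N8958 D14845))
theorem Q8132 : ∀ i, i < 8132 → P i := stepQ 8131 Q8131 (allL N8131 (tt N8958 (iv F58745)) (tt N7211 F55428) (tt N7224 F55429) (tt N7867 F55430) (tt N8812 (iv F58100)) (tt N7705 F55431) (tt N8956 (iv F58739)) (tt N8959 D14846) (tt N7209 (iv D14018)))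
theorem Q8133 : ∀ i, i < 8133 → P i := stepQ 8132 Q8132 (allL N8132 (tt N7368 F55432) (tt N8797 (iv F58045)) (tt N7214 F55433) (tt N7210 (iv D14019)) (tt N7868 F55434) (tt N8799 (iv F58056)) (tt N7358 F55435) (tt N7960 F55436) (tt N8960 D14847))
theorem Q8134 : ∀ i, i < 8134 → P i := stepQ 8133 Q8133 (allL N8133 (tt N7370 F55437) (tt N8812 (iv F58098)) (tt N7212 F55438) (tt N8960 (iv F58755)) (tt N7211 F55439) (tt N8814 (iv F58113)) (tt N7362 F55440) (tt N8961 D14848) (tt N7210 (iv D14020)))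
theorem Q8135 : ∀ i, i < 8135 → P i := stepQ 8134 Q8134 (allL N8134 (tt N7371 F55441) (tt N8959 (iv F58750)) (tt N7213 F55442) (tt N8962 D14849) (tt N8961 (iv F58760)) (tt N7709 F55443) (tt N8957 (iv F58743)) (tt N7211 (iv D14021)) (tt N8955 (iv F58734)))
theorem Q8136 : ∀ i, i < 8136 → P i := stepQ 8135 Q8135 (allL N8135 (tt N7373 F55444) (tt N7226 F55445) (tt N8961 (iv F58759)) (tt N7411 F55446) (tt N7213 F55447) (tt N8895 (iv F58409)) (tt N7363 F55448) (tt N7212 (iv D14022)) (tt N7365 F55449))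
theorem Q8137 : ∀ i, i < 8137 → P i := stepQ 8136 Q8136 (allL N8136 (tt N7376 F55450) (tt N7514 F55451) (tt N8960 (iv F58754)) (tt N7215 F55452) (tt N7878 F55453) (tt N8940 (iv F58657)) (tt N7360 F55454) (tt N8963 D14850) (tt N7214 (iv D14023)))
theorem Q8138 : ∀ i, i < 8138 → P i := stepQ 8137 Q8137 (allL N8137 (tt N7379 F55455) (tt N7691 F55456) (tt N7722 F55457) (tt N8939 (iv F58650)) (tt N7216 (iv D14024)) (tt N7885 F55458) (tt N7660 F55459) (tt N7658 F55460) (tt N8393 (iv F56373)))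
theorem Q8139 : ∀ i, i < 8139 → P i := stepQ 8138 Q8138 (allL N8138 (tt N8760 (iv F57829)) (tt N7221 F55461) (tt N8956 (iv F58736)) (tt N7227 F55462) (tt N7387 F55463) (tt N8763 (iv F57852)) (tt N7224 F55464) (tt N8964 D14851) (tt N7220 (iv D14025)))
theorem Q8140 : ∀ i, i < 8140 → P i := stepQ 8139 Q8139 (allL N8139 (tt N7232 F55465) (tt N8964 (iv F58773)) (tt N7222 F55466) (tt N8965 D14852) (tt N7388 F55467) (tt N8791 (iv F58010)) (tt N7225 F55468) (tt N7221 (iv D14026)) (tt N7393 F55469))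
theorem Q8141 : ∀ i, i < 8141 → P i := stepQ 8140 Q8140 (allL N8140 (tt N7224 F55470) (tt N7233 F55471) (tt N8958 (iv F58747)) (tt N7229 F55472) (tt N8697 (iv F57538)) (tt N7312 F55473) (tt N8760 (iv F57834)) (tt N8966 D14853) (tt N7223 (iv D14027)))
theorem Q8142 : ∀ i, i < 8142 → P i := stepQ 8141 Q8141 (allL N8141 (tt N8966 (iv F58783)) (tt N7225 F55474) (tt N8959 (iv F58751)) (tt N8967 D14854) (tt N8813 (iv F58105)) (tt N7734 F55475) (tt N8964 (iv F58775)) (tt N7224 (iv D14028)) (tt N8837 (iv F58209)))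
theorem Q8143 : ∀ i, i < 8143 → P i := stepQ 8142 Q8142 (allL N8142 (tt N7235 F55476) (tt N8967 (iv F58786)) (tt N7324 F55477) (tt N7225 (iv D14029)) (tt N8901 (iv F58442)) (tt N7736 F55478) (tt N8965 (iv F58780)) (tt N7231 F55479) (tt N8905 (iv F58468)))
theorem Q8144 : ∀ i, i < 8144 → P i := stepQ 8143 Q8143 (allL N8143 (tt N7793 F55480) (tt N7228 F55481) (tt N7926 F55482) (tt N8968 D14855) (tt N7729 F55483) (tt N8662 (iv F57410)) (tt N7230 F55484) (tt N7227 (iv D14030)) (tt N8143 F55485))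
theorem Q8145 : ∀ i, i < 8145 → P i := stepQ 8144 Q8144 (allL N8144 (tt N7236 F55486) (tt N8968 (iv F58790)) (tt N7332 F55487) (tt N7228 (iv D14031)) (tt N7740 F55488) (tt N8777 (iv F57925)) (tt N7231 F55489) (tt N8965 (iv F58781)) (tt N8144 F55490))
theorem Q8146 : ∀ i, i < 8146 → P i := stepQ 8145 Q8145 (allL N8145 (tt N7230 F55491) (tt N7237 F55492) (tt N7928 F55493) (tt N8969 D14856) (tt N7791 F55494) (tt N7331 F55495) (tt N7793 F55496) (tt N7229 (iv D14032)) (tt N8145 F55497))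
theorem Q8147 : ∀ i, i < 8147 → P i := stepQ 8146 Q8146 (allL N8146 (tt N8969 (iv F58794)) (tt N7231 F55498) (tt N8970 D14857) (tt N7230 (iv D14033)) (tt N8971 D14858) (tt N7742 F55499) (tt N8968 (iv F58792)) (tt N8967 (iv F58788)) (tt N8146 F55500))
theorem Q8148 : ∀ i, i < 8148 → P i := stepQ 8147 Q8147 (allL N8147 (tt N7239 F55501) (tt N8971 (iv F58805)) (tt N7335 F55502) (tt N7739 F55503) (tt N7231 (iv D14034)) (tt N8796 (iv F58042)) (tt N7740 F55504) (tt N8901 (iv F58444)) (tt N8147 F55505))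
theorem Q8149 : ∀ i, i < 8149 → P i := stepQ 8148 Q8148 (allL N8148 (tt N8965 (iv F58777)) (tt N7807 F55506) (tt N7345 F55507) (tt N7232 (iv D14035)) (tt N7748 F55508) (tt N8792 (iv F58016)) (tt N7235 F55509) (tt N7236 F55510) (tt N7396 F55511))
theorem Q8150 : ∀ i, i < 8150 → P i := stepQ 8149 Q8149 (allL N8149 (tt N7234 F55512) (tt N8966 (iv F58784)) (tt N7310 F55513) (tt N8972 D14859) (tt N8749 (iv F57770)) (tt N7314 F55514) (tt N8761 (iv F57840)) (tt N7233 (iv D14036)) (tt N8762 (iv F57847)))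
theorem Q8151 : ∀ i, i < 8151 → P i := stepQ 8150 Q8150 (allL N8150 (tt N8972 (iv F58809)) (tt N7235 F55515) (tt N8792 (iv F58014)) (tt N7234 (iv D14037)) (tt N7805 F55516) (tt N7345 F55517) (tt N7807 F55518) (tt N7238 F55519) (tt N8790 (iv F58006)))
theorem Q8152 : ∀ i, i < 8152 → P i := stepQ 8151 Q8151 (allL N8151 (tt N7238 F55520) (tt N8969 (iv F58795)) (tt N8777 (iv F57923)) (tt N7237 (iv D14038)) (tt N7799 F55521) (tt N7332 F55522) (tt N7801 F55523) (tt N8972 (iv F58813)) (tt N8151 F55524))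
theorem Q8153 : ∀ i, i < 8153 → P i := stepQ 8152 Q8152 (allL N8152 (tt N7397 F55525) (tt N8152 F55526) (tt N8973 D14860) (tt N7240 (iv D14039)) (tt N8515 (iv F56900)) (tt N7241 F55527) (tt N8287 (iv F56029)) (tt N8109 F55528) (tt N8974 D14861))
theorem Q8154 : ∀ i, i < 8154 → P i := stepQ 8153 Q8153 (allL N8153 (tt N7398 F55529) (tt N8153 F55530) (tt N7247 F55531) (tt N8974 (iv F58820)) (tt N7384 F55532) (tt N7242 F55533) (tt N8518 (iv F56919)) (tt N7377 F55534) (tt N7240 (iv D14040)))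
theorem Q8155 : ∀ i, i < 8155 → P i := stepQ 8154 Q8154 (allL N8154 (tt N7399 F55535) (tt N8975 D14862) (tt N7241 (iv D14041)) (tt N7248 F55536) (tt N8976 D14863) (tt N8973 (iv F58816)) (tt N7243 F55537) (tt N8309 (iv F56122)) (tt N8977 D14864))
theorem Q8156 : ∀ i, i < 8156 → P i := stepQ 8155 Q8155 (allL N8155 (tt N7400 F55538) (tt N8155 F55539) (tt N8976 (iv F58827)) (tt N7601 F55540) (tt N7241 (iv D14042)) (tt N8516 (iv F56905)) (tt N7244 F55541) (tt N8426 (iv F56498)) (tt N8978 D14865))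
theorem Q8157 : ∀ i, i < 8157 → P i := stepQ 8156 Q8156 (allL N8156 (tt N7401 F55542) (tt N8156 F55543) (tt N8977 (iv F58831)) (tt N7242 F55544) (tt N8978 (iv F58837)) (tt N8974 (iv F58821)) (tt N7245 F55545) (tt N8979 D14866) (tt N7241 (iv D14043)))
theorem Q8158 : ∀ i, i < 8158 → P i := stepQ 8157 Q8157 (allL N8157 (tt N8980 D14867) (tt N7243 (iv D14044)) (tt N8157 F55546) (tt N7250 F55547) (tt N8981 D14868) (tt N8690 (iv F57506)) (tt N8975 (iv F58825)) (tt N8559 (iv F57088)) (tt N8982 D14869))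
theorem Q8159 : ∀ i, i < 8159 → P i := stepQ 8158 Q8158 (allL N8158 (tt N7403 F55548) (tt N8981 (iv F58848)) (tt N7244 F55549) (tt N8983 D14870) (tt N7243 (iv D14045)) (tt N8984 D14871) (tt N8976 (iv F58829)) (tt N8560 (iv F57091)) (tt N8985 D14872))
theorem Q8160 : ∀ i, i < 8160 → P i := stepQ 8159 Q8159 (allL N8159 (tt N7404 F55550) (tt N8982 (iv F58850)) (tt N7245 F55551) (tt N7252 F55552) (tt N8985 (iv F58861)) (tt N8692 (iv F57514)) (tt N8977 (iv F58833)) (tt N8986 D14873) (tt N7243 (iv D14046)))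
theorem Q8161 : ∀ i, i < 8161 → P i := stepQ 8160 Q8160 (allL N8160 (tt N7405 F55553) (tt N8160 F55554) (tt N8984 (iv F58858)) (tt N7603 F55555) (tt N8693 (iv F57518)) (tt N7244 (iv D14047)) (tt N8520 (iv F56930)) (tt N8562 (iv F57099)) (tt N8987 D14874))
theorem Q8162 : ∀ i, i < 8162 → P i := stepQ 8161 Q8161 (allL N8161 (tt N7406 F55556) (tt N8161 F55557) (tt N8985 (iv F58860)) (tt N7604 F55558) (tt N7245 F55559) (tt N8987 (iv F58867)) (tt N8978 (iv F58838)) (tt N8988 D14875) (tt N7244 (iv D14048)))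
theorem Q8163 : ∀ i, i < 8163 → P i := stepQ 8162 Q8162 (allL N8162 (tt N7407 F55560) (tt N8162 F55561) (tt N8986 (iv F58863)) (tt N8954 (iv F58724)) (tt N8988 (iv F58870)) (tt N8695 (iv F57528)) (tt N8979 (iv F58842)) (tt N7245 (iv D14049)) (tt N8564 (iv F57106)))
theorem Q8164 : ∀ i, i < 8164 → P i := stepQ 8163 Q8163 (allL N8163 (tt N7361 F55562) (tt N8713 (iv F57614)) (tt N7246 (iv D14050)) (tt N8973 (iv F58815)) (tt N8712 F57612) (tt N7248 F55563) (tt N8696 (iv F57533)) (tt N7256 F55564) (tt N8989 D14876))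
theorem Q8165 : ∀ i, i < 8165 → P i := stepQ 8164 Q8164 (allL N8164 (tt N7387 F55565) (tt N7298 F55566) (tt N8989 (iv F58872)) (tt N7247 F55567) (tt N8760 (iv F57832)) (tt N7249 F55568) (tt N8697 (iv F57540)) (tt N8990 D14877) (tt N7246 (iv D14051)))
theorem Q8166 : ∀ i, i < 8166 → P i := stepQ 8165 Q8165 (allL N8165 (tt N7699 F55569) (tt N7248 (iv D14052)) (tt N7299 F55570) (tt N8975 (iv F58824)) (tt N7668 F55571) (tt N8713 (iv F57616)) (tt N7250 F55572) (tt N7259 F55573) (tt N8991 D14878))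
theorem Q8167 : ∀ i, i < 8167 → P i := stepQ 8166 Q8166 (allL N8166 (tt N7409 F55574) (tt N8991 (iv F58880)) (tt N7249 F55575) (tt N8977 (iv F58832)) (tt N7466 F55576) (tt N8989 (iv F58873)) (tt N7252 F55577) (tt N8992 D14879) (tt N7248 (iv D14053)))
theorem Q8168 : ∀ i, i < 8168 → P i := stepQ 8167 Q8167 (allL N8167 (tt N7411 F55578) (tt N7301 F55579) (tt N8992 (iv F58885)) (tt N7373 F55580) (tt N7444 F55581) (tt N8990 (iv F58877)) (tt N7255 F55582) (tt N7249 (iv D14054)) (tt N7264 F55583))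
theorem Q8169 : ∀ i, i < 8169 → P i := stepQ 8168 Q8168 (allL N8168 (tt N7250 (iv D14055)) (tt N7412 F55584) (tt N7302 F55585) (tt N8980 (iv F58845)) (tt N8844 (iv F58242)) (tt N8703 (iv F57569)) (tt N7699 F55586) (tt N7265 F55587) (tt N8993 D14880))
theorem Q8170 : ∀ i, i < 8170 → P i := stepQ 8169 Q8169 (allL N8169 (tt N8844 (iv F58239)) (tt N7251 F55588) (tt N7303 F55589) (tt N8994 D14881) (tt N7250 (iv D14056)) (tt N8731 (iv F57699)) (tt N7668 F55590) (tt N7266 F55591) (tt N8995 D14882))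
theorem Q8171 : ∀ i, i < 8171 → P i := stepQ 8170 Q8170 (allL N8170 (tt N8993 (iv F58889)) (tt N7252 F55592) (tt N7304 F55593) (tt N8982 (iv F58852)) (tt N8995 (iv F58898)) (tt N8705 (iv F57581)) (tt N8991 (iv F58883)) (tt N8996 D14883) (tt N7250 (iv D14057)))
theorem Q8172 : ∀ i, i < 8172 → P i := stepQ 8171 Q8171 (allL N8171 (tt N7415 F55594) (tt N8994 (iv F58893)) (tt N7606 F55595) (tt N7251 (iv D14058)) (tt N8983 (iv F58855)) (tt N8997 D14884) (tt N7665 F55596) (tt N8998 D14885) (tt N8999 D14886))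
theorem Q8173 : ∀ i, i < 8173 → P i := stepQ 8172 Q8172 (allL N8172 (tt N7416 F55597) (tt N8731 (iv F57696)) (tt N7253 F55598) (tt N8997 (iv F58905)) (tt N8707 (iv F57587)) (tt N7251 (iv D14059)) (tt N8725 (iv F57676)) (tt N7269 F55599) (tt N9000 D14887))
theorem Q8174 : ∀ i, i < 8174 → P i := stepQ 8173 Q8173 (allL N8173 (tt N7417 F55600) (tt N8995 (iv F58896)) (tt N7254 F55601) (tt N8999 (iv F58912)) (tt N7252 F55602) (tt N9000 (iv F58916)) (tt N7466 F55603) (tt N9001 D14888) (tt N7251 (iv D14060)))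
theorem Q8175 : ∀ i, i < 8175 → P i := stepQ 8174 Q8174 (allL N8174 (tt N7418 F55604) (tt N8996 (iv F58900)) (tt N7255 F55605) (tt N9002 D14889) (tt N9001 (iv F58919)) (tt N8709 (iv F57595)) (tt N8992 (iv F58887)) (tt N7252 (iv D14061)) (tt N7271 F55606))
theorem Q8176 : ∀ i, i < 8176 → P i := stepQ 8175 Q8175 (allL N8175 (tt N7420 F55607) (tt N7307 F55608) (tt N9000 (iv F58915)) (tt N7453 F55609) (tt N8710 (iv F57600)) (tt N7254 F55610) (tt N8769 (iv F57883)) (tt N9003 D14890) (tt N7253 (iv D14062)))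
theorem Q8177 : ∀ i, i < 8177 → P i := stepQ 8176 Q8176 (allL N8176 (tt N7421 F55611) (tt N7308 F55612) (tt N9001 (iv F58918)) (tt N7428 F55613) (tt N7255 F55614) (tt N9003 (iv F58927)) (tt N7444 F55615) (tt N7254 (iv D14063)) (tt N7274 F55616))
theorem Q8178 : ∀ i, i < 8178 → P i := stepQ 8177 Q8177 (allL N8177 (tt N7366 F55617) (tt N8696 (iv F57530)) (tt N7257 F55618) (tt N9004 D14891) (tt N7256 (iv D14064)) (tt N8698 (iv F57543)) (tt N8713 (iv F57617)) (tt N8712 (iv F57611)) (tt N9005 D14892))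
theorem Q8179 : ∀ i, i < 8179 → P i := stepQ 8178 Q8178 (allL N8178 (tt N7367 F55619) (tt N8958 (iv F58746)) (tt N7258 F55620) (tt N8001 F55621) (tt N9005 (iv F58934)) (tt N7261 F55622) (tt N8714 (iv F57622)) (tt N9006 D14893) (tt N7256 (iv D14065)))
theorem Q8180 : ∀ i, i < 8180 → P i := stepQ 8179 Q8179 (allL N8179 (tt N7390 F55623) (tt N7309 F55624) (tt N9005 (iv F58933)) (tt N8179 F55625) (tt N7258 F55626) (tt N8750 (iv F57778)) (tt N8715 (iv F57628)) (tt N9007 D14894) (tt N7257 (iv D14066)))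
theorem Q8181 : ∀ i, i < 8181 → P i := stepQ 8180 Q8180 (allL N8180 (tt N7391 F55627) (tt N7310 F55628) (tt N9006 (iv F58936)) (tt N8906 (iv F58471)) (tt N9007 (iv F58940)) (tt N7264 F55629) (tt N8716 (iv F57633)) (tt N7258 (iv D14067)) (tt N8990 (iv F58878)))
theorem Q8182 : ∀ i, i < 8182 → P i := stepQ 8181 Q8181 (allL N8181 (tt N7704 F55630) (tt N7260 F55631) (tt N7311 F55632) (tt N9008 D14895) (tt N7259 (iv D14068)) (tt N8699 (iv F57550)) (tt N7266 F55633) (tt N7668 F55634) (tt N9009 D14896))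
theorem Q8183 : ∀ i, i < 8183 → P i := stepQ 8182 Q8182 (allL N8182 (tt N7705 F55635) (tt N7261 F55636) (tt N7312 F55637) (tt N8190 (iv F55669)) (tt N9009 (iv F58948)) (tt N8958 (iv F58749)) (tt N7267 F55638) (tt N9010 D14897) (tt N7259 (iv D14069)))
theorem Q8184 : ∀ i, i < 8184 → P i := stepQ 8183 Q8183 (allL N8183 (tt N7422 F55639) (tt N9008 (iv F58942)) (tt N7275 F55640) (tt N7260 (iv D14070)) (tt N8346 (iv F56227)) (tt N9011 D14898) (tt N7268 F55641) (tt N9012 D14899) (tt N9013 D14900))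
theorem Q8185 : ∀ i, i < 8185 → P i := stepQ 8184 Q8184 (allL N8184 (tt N7423 F55642) (tt N8699 (iv F57548)) (tt N7262 F55643) (tt N9011 (iv F58956)) (tt N8698 F57546) (tt N7260 (iv D14071)) (tt N8704 (iv F57576)) (tt N7667 F55644) (tt N9014 D14901))
theorem Q8186 : ∀ i, i < 8186 → P i := stepQ 8185 Q8185 (allL N8185 (tt N7424 F55645) (tt N9009 (iv F58946)) (tt N7263 F55646) (tt N9013 (iv F58963)) (tt N7261 F55647) (tt N9014 (iv F58967)) (tt N7270 F55648) (tt N9015 D14902) (tt N7260 (iv D14072)))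
theorem Q8187 : ∀ i, i < 8187 → P i := stepQ 8186 Q8186 (allL N8186 (tt N7425 F55649) (tt N9010 (iv F58951)) (tt N7264 F55650) (tt N9016 D14903) (tt N9015 (iv F58970)) (tt N9006 (iv F58937)) (tt N7271 F55651) (tt N7261 (iv D14073)) (tt N8992 (iv F58888)))
theorem Q8188 : ∀ i, i < 8188 → P i := stepQ 8187 Q8187 (allL N8187 (tt N7427 F55652) (tt N7315 F55653) (tt N9014 (iv F58966)) (tt N7279 F55654) (tt N8750 (iv F57777)) (tt N7263 F55655) (tt N8754 (iv F57803)) (tt N9017 D14904) (tt N7262 (iv D14074)))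
theorem Q8189 : ∀ i, i < 8189 → P i := stepQ 8188 Q8188 (allL N8188 (tt N7428 F55656) (tt N7316 F55657) (tt N9015 (iv F58969)) (tt N7421 F55658) (tt N7264 F55659) (tt N9017 (iv F58978)) (tt N7274 F55660) (tt N7263 (iv D14075)) (tt N7444 F55661))
theorem Q8190 : ∀ i, i < 8190 → P i := stepQ 8189 Q8189 (allL N8189 (tt N7266 F55662) (tt N7429 F55663) (tt N7317 F55664) (tt N9018 D14905) (tt N7265 (iv D14076)) (tt N8827 (iv F58166)) (tt N7704 F55665) (tt N8844 (iv F58244)) (tt N9019 D14906))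
theorem Q8191 : ∀ i, i < 8191 → P i := stepQ 8190 Q8190 (allL N8190 (tt N7267 F55666) (tt N7430 F55667) (tt N7318 F55668) (tt N8182 F55669) (tt N9019 (iv F58988)) (tt N8723 (iv F57668)) (tt N7705 F55670) (tt N9020 D14907) (tt N7265 (iv D14077)))
theorem Q8192 : ∀ i, i < 8192 → P i := stepQ 8191 Q8191 (allL N8191 (tt N9018 (iv F58980)) (tt N7268 F55671) (tt N8191 F55672) (tt N7266 (iv D14078)) (tt N8570 (iv F57123)) (tt N9021 D14908) (tt N9008 (iv F58944)) (tt N9022 D14909) (tt N9023 D14910))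
theorem Q8193 : ∀ i, i < 8193 → P i := stepQ 8192 Q8192 (allL N8192 (tt N8827 (iv F58162)) (tt N7269 F55673) (tt N7319 F55674) (tt N9021 (iv F58996)) (tt N8725 (iv F57675)) (tt N7266 (iv D14079)) (tt N8707 (iv F57588)) (tt N8731 (iv F57700)) (tt N9024 D14911))
theorem Q8194 : ∀ i, i < 8194 → P i := stepQ 8193 Q8193 (allL N8193 (tt N9019 (iv F58985)) (tt N7270 F55675) (tt N7320 F55676) (tt N9023 (iv F59001)) (tt N7267 F55677) (tt N9024 (iv F59004)) (tt N9009 (iv F58949)) (tt N9025 D14912) (tt N7266 (iv D14080)))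
theorem Q8195 : ∀ i, i < 8195 → P i := stepQ 8194 Q8194 (allL N8194 (tt N9020 (iv F58990)) (tt N7271 F55678) (tt N7321 F55679) (tt N9026 D14913) (tt N9025 (iv F59007)) (tt N8727 (iv F57684)) (tt N9010 (iv F58953)) (tt N7267 (iv D14081)) (tt N8996 (iv F58902)))
theorem Q8196 : ∀ i, i < 8196 → P i := stepQ 8195 Q8195 (allL N8195 (tt N7435 F55680) (tt N9021 (iv F58994)) (tt N7280 F55681) (tt N7269 F55682) (tt N9027 D14914) (tt N7268 (iv D14082)) (tt N9028 D14915) (tt N9029 D14916) (tt N9030 D14917))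
theorem Q8197 : ∀ i, i < 8197 → P i := stepQ 8196 Q8196 (allL N8196 (tt N7436 F55683) (tt N9022 (iv F58997)) (tt N7281 F55684) (tt N8998 (iv F58908)) (tt N8574 (iv F57134)) (tt N9029 (iv F59018)) (tt N9012 (iv F58960)) (tt N7268 (iv D14083)) (tt N9031 D14918))
theorem Q8198 : ∀ i, i < 8198 → P i := stepQ 8197 Q8197 (allL N8197 (tt N7437 F55685) (tt N9023 (iv F58999)) (tt N7282 F55686) (tt N7270 F55687) (tt N8575 (iv F57138)) (tt N9030 (iv F59023)) (tt N9013 (iv F58964)) (tt N9032 D14919) (tt N7268 (iv D14084)))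
theorem Q8199 : ∀ i, i < 8199 → P i := stepQ 8198 Q8198 (allL N8198 (tt N7438 F55688) (tt N8707 (iv F57585)) (tt N7272 F55689) (tt N9028 (iv F59013)) (tt N8731 (iv F57698)) (tt N8704 F57578) (tt N7269 (iv D14085)) (tt N8725 (iv F57677)) (tt N9033 D14920))
theorem Q8200 : ∀ i, i < 8200 → P i := stepQ 8199 Q8199 (allL N8199 (tt N7439 F55690) (tt N9024 (iv F59002)) (tt N7273 F55691) (tt N9030 (iv F59022)) (tt N8732 (iv F57703)) (tt N7270 F55692) (tt N9033 (iv F59030)) (tt N9034 D14921) (tt N7269 (iv D14086)))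
theorem Q8201 : ∀ i, i < 8201 → P i := stepQ 8200 Q8200 (allL N8200 (tt N7440 F55693) (tt N9025 (iv F59005)) (tt N7274 F55694) (tt N9035 D14922) (tt N7271 F55695) (tt N9034 (iv F59033)) (tt N9015 (iv F58971)) (tt N7270 (iv D14087)) (tt N9001 (iv F58921)))
theorem Q8202 : ∀ i, i < 8202 → P i := stepQ 8201 Q8201 (allL N8201 (tt N7441 F55696) (tt N9026 (iv F59008)) (tt N8962 (iv F58764)) (tt N7271 (iv D14088)) (tt N9036 D14923) (tt N8734 (iv F57710)) (tt N9016 (iv F58974)) (tt N8578 (iv F57146)) (tt N9002 (iv F58923)))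
theorem Q8203 : ∀ i, i < 8203 → P i := stepQ 8202 Q8202 (allL N8202 (tt N7442 F55697) (tt N7325 F55698) (tt N9033 (iv F59029)) (tt N7287 F55699) (tt N8735 (iv F57714)) (tt N8754 (iv F57802)) (tt N7273 F55700) (tt N9037 D14924) (tt N7272 (iv D14089)))
theorem Q8204 : ∀ i, i < 8204 → P i := stepQ 8203 Q8203 (allL N8203 (tt N7443 F55701) (tt N7326 F55702) (tt N9034 (iv F59032)) (tt N9038 D14925) (tt N8736 (iv F57719)) (tt N7274 F55703) (tt N9037 (iv F59038)) (tt N7273 (iv D14090)) (tt N9003 (iv F58928)))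
theorem Q8205 : ∀ i, i < 8205 → P i := stepQ 8204 Q8204 (allL N8204 (tt N7444 F55704) (tt N7327 F55705) (tt N9039 D14926) (tt N7274 (iv D14091)) (tt N7411 F55706) (tt N9038 (iv F59041)) (tt N7421 F55707) (tt N7289 F55708) (tt N7428 F55709))
theorem Q8206 : ∀ i, i < 8206 → P i := stepQ 8205 Q8205 (allL N8205 (tt N7445 F55710) (tt N8205 F55711) (tt N9011 (iv F58955)) (tt N7276 F55712) (tt N9040 D14927) (tt N7275 (iv D14092)) (tt N9041 D14928) (tt N9042 D14929) (tt N9043 D14930))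
theorem Q8207 : ∀ i, i < 8207 → P i := stepQ 8206 Q8206 (allL N8206 (tt N7446 F55713) (tt N8206 F55714) (tt N9012 (iv F58958)) (tt N7613 F55715) (tt N8438 (iv F56543)) (tt N9042 (iv F59065)) (tt N7281 F55716) (tt N7275 (iv D14093)) (tt N9044 D14931))
theorem Q8208 : ∀ i, i < 8208 → P i := stepQ 8207 Q8207 (allL N8207 (tt N7447 F55717) (tt N8207 F55718) (tt N9013 (iv F58962)) (tt N7277 F55719) (tt N8439 (iv F56548)) (tt N9043 (iv F59070)) (tt N7282 F55720) (tt N9045 D14932) (tt N7275 (iv D14094)))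
theorem Q8209 : ∀ i, i < 8209 → P i := stepQ 8208 Q8208 (allL N8208 (tt N7448 F55721) (tt N8208 F55722) (tt N7278 F55723) (tt N9041 (iv F59057)) (tt N8208 F55724) (tt N7283 F55725) (tt N7276 (iv D14095)) (tt N7614 F55726) (tt N9046 D14933))
theorem Q8210 : ∀ i, i < 8210 → P i := stepQ 8209 Q8209 (allL N8209 (tt N7449 F55727) (tt N8209 F55728) (tt N7279 F55729) (tt N9043 (iv F59069)) (tt N8209 F55730) (tt N7277 F55731) (tt N9046 (iv F59084)) (tt N7647 F55732) (tt N7276 (iv D14096)))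
theorem Q8211 : ∀ i, i < 8211 → P i := stepQ 8210 Q8210 (allL N8210 (tt N7452 F55733) (tt N7328 F55734) (tt N9046 (iv F59081)) (tt N8754 (iv F57800)) (tt N8210 F55735) (tt N7287 F55736) (tt N7279 F55737) (tt N7648 F55738) (tt N7278 (iv D14097)))
theorem Q8212 : ∀ i, i < 8212 → P i := stepQ 8211 Q8211 (allL N8211 (tt N7454 F55739) (tt N8211 F55740) (tt N9027 (iv F59010)) (tt N7290 F55741) (tt N7280 (iv D14098)) (tt N8581 (iv F57156)) (tt N8213 (iv F55751)) (tt N8212 F55745) (tt N9047 D14934))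
theorem Q8213 : ∀ i, i < 8213 → P i := stepQ 8212 Q8212 (allL N8212 (tt N7455 F55742) (tt N8212 F55743) (tt N9028 (iv F59012)) (tt N7283 F55744) (tt N8213 (iv F55749)) (tt N9041 (iv F59059)) (tt N7280 (iv D14099)) (tt N8211 (iv F55745)) (tt N9048 D14935))
theorem Q8214 : ∀ i, i < 8214 → P i := stepQ 8213 Q8213 (allL N8213 (tt N7456 F55746) (tt N8213 F55747) (tt N9029 (iv F59016)) (tt N7617 F55748) (tt N8212 F55749) (tt N7281 F55750) (tt N8211 F55751) (tt N7280 (iv D14100)) (tt N9049 D14936))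
theorem Q8215 : ∀ i, i < 8215 → P i := stepQ 8214 Q8214 (allL N8214 (tt N7457 F55752) (tt N8214 F55753) (tt N9030 (iv F59021)) (tt N7284 F55754) (tt N9047 (iv F59089)) (tt N7282 F55755) (tt N9048 (iv F59093)) (tt N9050 D14937) (tt N7280 (iv D14101)))
theorem Q8216 : ∀ i, i < 8216 → P i := stepQ 8215 Q8215 (allL N8215 (tt N7458 F55756) (tt N8215 F55757) (tt N9031 (iv F59025)) (tt N7619 F55758) (tt N8585 (iv F57171)) (tt N9049 (iv F59098)) (tt N9044 (iv F59074)) (tt N9051 D14938) (tt N7281 (iv D14102)))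
theorem Q8217 : ∀ i, i < 8217 → P i := stepQ 8216 Q8216 (allL N8216 (tt N7459 F55759) (tt N8216 F55760) (tt N9032 (iv F59027)) (tt N9052 D14939) (tt N8586 (iv F57174)) (tt N9050 (iv F59102)) (tt N9045 (iv F59078)) (tt N7282 (iv D14103)) (tt N9051 (iv F59105)))
theorem Q8218 : ∀ i, i < 8218 → P i := stepQ 8217 Q8217 (allL N8217 (tt N7460 F55761) (tt N8217 F55762) (tt N7287 F55763) (tt N9048 (iv F59092)) (tt N7294 F55764) (tt N9046 (iv F59083)) (tt N7284 F55765) (tt N9053 D14940) (tt N7283 (iv D14104)))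
theorem Q8219 : ∀ i, i < 8219 → P i := stepQ 8218 Q8218 (allL N8218 (tt N7461 F55766) (tt N8218 F55767) (tt N7288 F55768) (tt N9054 D14941) (tt N7295 F55769) (tt N7285 F55770) (tt N9053 (iv F59115)) (tt N7284 (iv D14105)) (tt N7622 F55771))
theorem Q8220 : ∀ i, i < 8220 → P i := stepQ 8219 Q8219 (allL N8219 (tt N7462 F55772) (tt N8219 F55773) (tt N9055 D14942) (tt N7285 (iv D14106)) (tt N9056 D14943) (tt N9054 (iv F59120)) (tt N7645 F55774) (tt N9052 (iv F59109)) (tt N7623 F55775))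
theorem Q8221 : ∀ i, i < 8221 → P i := stepQ 8220 Q8220 (allL N8220 (tt N7463 F55776) (tt N8220 F55777) (tt N7634 F55778) (tt N9056 (iv F59129)) (tt N7286 (iv D14107)) (tt N8291 (iv F56043)) (tt N7638 F55779) (tt N8590 (iv F57194)) (tt N7624 F55780))
theorem Q8222 : ∀ i, i < 8222 → P i := stepQ 8221 Q8221 (allL N8221 (tt N7464 F55781) (tt N7329 F55782) (tt N9053 (iv F59112)) (tt N8767 (iv F57871)) (tt N7296 F55783) (tt N7648 F55784) (tt N7288 F55785) (tt N7287 (iv D14108)) (tt N7625 F55786))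
theorem Q8223 : ∀ i, i < 8223 → P i := stepQ 8222 Q8222 (allL N8222 (tt N7465 F55787) (tt N7330 F55788) (tt N9057 D14944) (tt N7288 (iv D14109)) (tt N8763 (iv F57851)) (tt N7289 F55789) (tt N8767 (iv F57874)) (tt N9038 (iv F59042)) (tt N7410 F55790))
theorem Q8224 : ∀ i, i < 8224 → P i := stepQ 8223 Q8223 (allL N8223 (tt N7466 F55791) (tt N7758 F55792) (tt N7289 (iv D14110)) (tt N9055 (iv F59123)) (tt N7409 F55793) (tt N9057 (iv F59135)) (tt N7417 F55794) (tt N9039 (iv F59048)) (tt N7408 F55795))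
theorem Q8225 : ∀ i, i < 8225 → P i := stepQ 8224 Q8224 (allL N8224 (tt N7467 F55796) (tt N8224 F55797) (tt N8657 (iv F57375)) (tt N9047 (iv F59088)) (tt N7293 F55798) (tt N8594 (iv F57211)) (tt N8511 (iv F56881)) (tt N8294 (iv F56065)) (tt N7290 (iv D14111)))
theorem Q8226 : ∀ i, i < 8226 → P i := stepQ 8225 Q8225 (allL N8225 (tt N7468 F55799) (tt N8225 F55800) (tt N8658 (iv F57381)) (tt N7294 F55801) (tt N8511 (iv F56879)) (tt N8225 F55802) (tt N7293 F55803) (tt N8296 (iv F56079)) (tt N7291 (iv D14112)))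
theorem Q8227 : ∀ i, i < 8227 → P i := stepQ 8226 Q8226 (allL N8226 (tt N7471 F55804) (tt N8226 F55805) (tt N7296 F55806) (tt N8297 (iv F56082)) (tt N9053 (iv F59113)) (tt N8226 F55807) (tt N7295 F55808) (tt N7294 (iv D14113)) (tt N7628 F55809))
theorem Q8228 : ∀ i, i < 8228 → P i := stepQ 8227 Q8227 (allL N8227 (tt N7336 F55810) (tt N8990 (iv F58875)) (tt N8762 (iv F57843)) (tt N7394 F55811) (tt N8761 (iv F57838)) (tt N7301 F55812) (tt N8749 (iv F57772)) (tt N7298 (iv D14114)) (tt N7310 F55813))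
theorem Q8229 : ∀ i, i < 8229 → P i := stepQ 8228 Q8228 (allL N8228 (tt N7730 F55814) (tt N7300 F55815) (tt N8991 (iv F58881)) (tt N8228 F55816) (tt N7498 F55817) (tt N8715 (iv F57627)) (tt N7304 F55818) (tt N9058 D14945) (tt N7299 (iv D14115)))
theorem Q8230 : ∀ i, i < 8230 → P i := stepQ 8229 Q8229 (allL N8229 (tt N7337 F55819) (tt N9058 (iv F59138)) (tt N7301 F55820) (tt N9059 D14946) (tt N7496 F55821) (tt N8762 (iv F57845)) (tt N7306 F55822) (tt N7300 (iv D14116)) (tt N7314 F55823))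
theorem Q8231 : ∀ i, i < 8231 → P i := stepQ 8230 Q8230 (allL N8230 (tt N7304 F55824) (tt N7338 F55825) (tt N8993 (iv F58891)) (tt N8230 F55826) (tt N8848 (iv F58258)) (tt N8753 (iv F57796)) (tt N7730 F55827) (tt N9060 D14947) (tt N7302 (iv D14117)))
theorem Q8232 : ∀ i, i < 8232 → P i := stepQ 8231 Q8231 (allL N8231 (tt N8848 (iv F58255)) (tt N7305 F55828) (tt N8995 (iv F58897)) (tt N7593 F55829) (tt N7304 F55830) (tt N8735 (iv F57715)) (tt N7498 F55831) (tt N9061 D14948) (tt N7303 (iv D14118)))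
theorem Q8233 : ∀ i, i < 8233 → P i := stepQ 8232 Q8232 (allL N8232 (tt N9060 (iv F59147)) (tt N7306 F55832) (tt N8996 (iv F58901)) (tt N9062 D14949) (tt N9061 (iv F59153)) (tt N8755 (iv F57805)) (tt N9058 (iv F59140)) (tt N7304 (iv D14119)) (tt N7321 F55833))
theorem Q8234 : ∀ i, i < 8234 → P i := stepQ 8233 Q8233 (allL N8233 (tt N7340 F55834) (tt N9061 (iv F59151)) (tt N7308 F55835) (tt N7798 F55836) (tt N7306 F55837) (tt N8774 (iv F57908)) (tt N7496 F55838) (tt N7305 (iv D14120)) (tt N7323 F55839))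
theorem Q8235 : ∀ i, i < 8235 → P i := stepQ 8234 Q8234 (allL N8234 (tt N7341 F55840) (tt N9062 (iv F59156)) (tt N8905 (iv F58463)) (tt N7306 (iv D14121)) (tt N8919 (iv F58537)) (tt N8757 (iv F57816)) (tt N9059 (iv F59144)) (tt N8234 F55841) (tt N7324 F55842))
theorem Q8236 : ∀ i, i < 8236 → P i := stepQ 8235 Q8235 (allL N8235 (tt N7342 F55843) (tt N9003 (iv F58925)) (tt N8774 (iv F57905)) (tt N7484 F55844) (tt N8758 (iv F57821)) (tt N7308 F55845) (tt N8772 (iv F57896)) (tt N7307 (iv D14122)) (tt N7326 F55846))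
theorem Q8237 : ∀ i, i < 8237 → P i := stepQ 8236 Q8236 (allL N8236 (tt N7343 F55847) (tt N9007 (iv F58939)) (tt N8749 (iv F57768)) (tt N9063 D14950) (tt N7310 F55848) (tt N8751 (iv F57783)) (tt N8762 (iv F57846)) (tt N7309 (iv D14123)) (tt N8761 (iv F57841)))
theorem Q8238 : ∀ i, i < 8238 → P i := stepQ 8237 Q8237 (allL N8237 (tt N7733 F55849) (tt N7313 F55850) (tt N9009 (iv F58947)) (tt N8237 F55851) (tt N7312 F55852) (tt N8701 (iv F57560)) (tt N7320 F55853) (tt N9064 D14951) (tt N7311 (iv D14124)))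
theorem Q8239 : ∀ i, i < 8239 → P i := stepQ 8238 Q8238 (allL N8238 (tt N7734 F55854) (tt N7314 F55855) (tt N9010 (iv F58952)) (tt N9065 D14952) (tt N9064 (iv F59165)) (tt N8966 (iv F58785)) (tt N7321 F55856) (tt N7312 (iv D14125)) (tt N9058 (iv F59141)))
theorem Q8240 : ∀ i, i < 8240 → P i := stepQ 8239 Q8239 (allL N8239 (tt N7344 F55857) (tt N9064 (iv F59164)) (tt N7316 F55858) (tt N9066 D14953) (tt N7314 F55859) (tt N8752 (iv F57789)) (tt N7323 F55860) (tt N7313 (iv D14126)) (tt N7496 F55861))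
theorem Q8241 : ∀ i, i < 8241 → P i := stepQ 8240 Q8240 (allL N8240 (tt N7345 F55862) (tt N9065 (iv F59169)) (tt N8965 (iv F58778)) (tt N7314 (iv D14127)) (tt N9067 D14954) (tt N8972 (iv F58811)) (tt N7324 F55863) (tt N7332 F55864) (tt N9059 (iv F59146)))
theorem Q8242 : ∀ i, i < 8242 → P i := stepQ 8241 Q8241 (allL N8241 (tt N7346 F55865) (tt N9017 (iv F58976)) (tt N8752 (iv F57787)) (tt N7482 F55866) (tt N8751 (iv F57782)) (tt N7316 F55867) (tt N8756 (iv F57812)) (tt N7315 (iv D14128)) (tt N7495 F55868))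
theorem Q8243 : ∀ i, i < 8243 → P i := stepQ 8242 Q8242 (allL N8242 (tt N7320 F55869) (tt N7347 F55870) (tt N9019 (iv F58987)) (tt N8242 F55871) (tt N7318 F55872) (tt N8831 (iv F58181)) (tt N7733 F55873) (tt N9068 D14955) (tt N7317 (iv D14129)))
theorem Q8244 : ∀ i, i < 8244 → P i := stepQ 8243 Q8243 (allL N8243 (tt N7321 F55874) (tt N7348 F55875) (tt N9020 (iv F58992)) (tt N9069 D14956) (tt N9068 (iv F59184)) (tt N8768 (iv F57877)) (tt N7734 F55876) (tt N7318 (iv D14130)) (tt N9060 (iv F59150)))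
theorem Q8245 : ∀ i, i < 8245 → P i := stepQ 8244 Q8244 (allL N8244 (tt N8831 (iv F58177)) (tt N7322 F55877) (tt N9024 (iv F59003)) (tt N8244 F55878) (tt N8769 (iv F57881)) (tt N7320 F55879) (tt N8710 (iv F57602)) (tt N9070 D14957) (tt N7319 (iv D14131)))
theorem Q8246 : ∀ i, i < 8246 → P i := stepQ 8245 Q8245 (allL N8245 (tt N9068 (iv F59182)) (tt N7323 F55880) (tt N9025 (iv F59006)) (tt N9071 D14958) (tt N7321 F55881) (tt N9070 (iv F59191)) (tt N9064 (iv F59166)) (tt N7320 (iv D14132)) (tt N9061 (iv F59155)))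
theorem Q8247 : ∀ i, i < 8247 → P i := stepQ 8246 Q8246 (allL N8246 (tt N9069 (iv F59186)) (tt N7324 F55882) (tt N9072 D14959) (tt N7321 (iv D14133)) (tt N9073 D14960) (tt N8771 (iv F57889)) (tt N9065 (iv F59170)) (tt N7334 F55883) (tt N9062 (iv F59158)))
theorem Q8248 : ∀ i, i < 8248 → P i := stepQ 8247 Q8247 (allL N8247 (tt N7351 F55884) (tt N9070 (iv F59190)) (tt N7326 F55885) (tt N9074 D14961) (tt N8772 (iv F57894)) (tt N7323 F55886) (tt N8758 (iv F57823)) (tt N7322 (iv D14134)) (tt N8774 (iv F57910)))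
theorem Q8249 : ∀ i, i < 8249 → P i := stepQ 8248 Q8248 (allL N8248 (tt N7352 F55887) (tt N9071 (iv F59192)) (tt N7795 F55888) (tt N7323 (iv D14135)) (tt N8904 (iv F58459)) (tt N9074 (iv F59200)) (tt N9066 (iv F59174)) (tt N8248 F55889) (tt N7798 F55890))
theorem Q8250 : ∀ i, i < 8250 → P i := stepQ 8249 Q8249 (allL N8249 (tt N7353 F55891) (tt N9073 (iv F59196)) (tt N8901 F58446) (tt N8904 (iv F58458)) (tt N7324 (iv D14136)) (tt N8937 (iv F58641)) (tt N9067 (iv F59180)) (tt N7335 F55892) (tt N8919 (iv F58539)))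
theorem Q8251 : ∀ i, i < 8251 → P i := stepQ 8250 Q8250 (allL N8250 (tt N7354 F55893) (tt N9037 (iv F59037)) (tt N8758 (iv F57820)) (tt N8793 (iv F58022)) (tt N8774 (iv F57907)) (tt N8756 (iv F57811)) (tt N7326 F55894) (tt N7325 (iv D14137)) (tt N8772 (iv F57897)))
theorem Q8252 : ∀ i, i < 8252 → P i := stepQ 8251 Q8251 (allL N8251 (tt N7355 F55895) (tt N9038 (iv F59040)) (tt N7794 (iv F55899)) (tt N7326 (iv D14138)) (tt N8791 (iv F58009)) (tt N7327 F55896) (tt N8793 (iv F58025)) (tt N7330 F55897) (tt N7484 F55898))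
theorem Q8253 : ∀ i, i < 8253 → P i := stepQ 8252 Q8252 (allL N8252 (tt N7742 F55900) (tt N7332 F55901) (tt N9075 D14962) (tt N7331 (iv D14139)) (tt N9076 D14963) (tt N8969 (iv F58797)) (tt N7334 F55902) (tt N9065 (iv F59171)) (tt N8252 F55903))
theorem Q8254 : ∀ i, i < 8254 → P i := stepQ 8253 Q8253 (allL N8253 (tt N7356 F55904) (tt N9076 (iv F59207)) (tt N7740 F55905) (tt N8253 F55906) (tt N7332 (iv D14140)) (tt N7741 F55907) (tt N7335 F55908) (tt N9067 (iv F59181)) (tt N8253 F55909))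
theorem Q8255 : ∀ i, i < 8255 → P i := stepQ 8254 Q8254 (allL N8254 (tt N7334 F55910) (tt N7357 F55911) (tt N9077 D14964) (tt N7333 (iv D14141)) (tt N8925 (iv F58565)) (tt N8780 (iv F57941)) (tt N7742 F55912) (tt N9069 (iv F59189)) (tt N8254 F55913))
theorem Q8256 : ∀ i, i < 8256 → P i := stepQ 8255 Q8255 (allL N8255 (tt N9077 (iv F59212)) (tt N8970 (iv F58800)) (tt N7334 (iv D14142)) (tt N8607 (iv F57250)) (tt N9078 D14965) (tt N8781 (iv F57944)) (tt N9075 (iv F59204)) (tt N9072 (iv F59195)) (tt N8255 F55914))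
theorem Q8257 : ∀ i, i < 8257 → P i := stepQ 8256 Q8256 (allL N8256 (tt N8925 (iv F58563)) (tt N7335 F55915) (tt N9078 (iv F59216)) (tt N8256 F55916) (tt N7334 (iv D14143)) (tt N8926 (iv F58572)) (tt N9076 (iv F59210)) (tt N9073 (iv F59197)) (tt N8256 F55917))
theorem Q8258 : ∀ i, i < 8258 → P i := stepQ 8257 Q8257 (allL N8257 (tt N9059 (iv F59142)) (tt N7744 F55918) (tt N7396 F55919) (tt N7337 (iv D14144)) (tt N8930 (iv F58597)) (tt N8790 (iv F58003)) (tt N7341 F55920) (tt N8257 F55921) (tt N7345 F55922))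
theorem Q8259 : ∀ i, i < 8259 → P i := stepQ 8258 Q8258 (allL N8258 (tt N7339 F55923) (tt N9060 (iv F59148)) (tt N7500 F55924) (tt N9079 D14966) (tt N8909 (iv F58491)) (tt N8785 (iv F57969)) (tt N7731 F55925) (tt N7338 (iv D14145)) (tt N7348 F55926))
theorem Q8260 : ∀ i, i < 8260 → P i := stepQ 8259 Q8259 (allL N8259 (tt N9079 (iv F59218)) (tt N7341 F55927) (tt N8783 (iv F57953)) (tt N7339 (iv D14146)) (tt N8928 (iv F58583)) (tt N8786 (iv F57975)) (tt N7744 F55928) (tt N8259 F55929) (tt N7350 F55930))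
theorem Q8261 : ∀ i, i < 8261 → P i := stepQ 8260 Q8260 (allL N8260 (tt N9063 (iv F59159)) (tt N7396 F55931) (tt N8786 (iv F57973)) (tt N7343 (iv D14147)) (tt N7804 F55932) (tt N8783 (iv F57955)) (tt N8790 (iv F58004)) (tt N8260 F55933) (tt N7807 F55934))
theorem Q8262 : ∀ i, i < 8262 → P i := stepQ 8261 Q8261 (allL N8261 (tt N9066 (iv F59172)) (tt N7746 F55935) (tt N7503 F55936) (tt N7344 (iv D14148)) (tt N8927 (iv F58575)) (tt N8784 (iv F57962)) (tt N7352 F55937) (tt N8261 F55938) (tt N7512 F55939))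
theorem Q8263 : ∀ i, i < 8263 → P i := stepQ 8262 Q8262 (allL N8262 (tt N9067 (iv F59177)) (tt N7747 F55940) (tt N7748 F55941) (tt N8927 (iv F58574)) (tt N7345 (iv D14149)) (tt N7749 F55942) (tt N7353 F55943) (tt N7356 F55944) (tt N8930 (iv F58601)))
theorem Q8264 : ∀ i, i < 8264 → P i := stepQ 8263 Q8263 (allL N8263 (tt N7349 F55945) (tt N9068 (iv F59183)) (tt N7507 F55946) (tt N9080 D14967) (tt N7348 F55947) (tt N8902 (iv F58450)) (tt N7735 F55948) (tt N7347 (iv D14150)) (tt N8909 (iv F58494)))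
theorem Q8265 : ∀ i, i < 8265 → P i := stepQ 8264 Q8264 (allL N8264 (tt N7350 F55949) (tt N9069 (iv F59187)) (tt N8765 (iv F57858)) (tt N7348 (iv D14151)) (tt N8920 (iv F58541)) (tt N8794 (iv F58030)) (tt N7736 F55950) (tt N7357 F55951) (tt N9079 (iv F59221)))
theorem Q8266 : ∀ i, i < 8266 → P i := stepQ 8265 Q8265 (allL N8265 (tt N9080 (iv F59222)) (tt N7352 F55952) (tt N8936 (iv F58634)) (tt N7349 (iv D14152)) (tt N8929 (iv F58590)) (tt N8787 F57985) (tt N7746 F55953) (tt N8265 F55954) (tt N7808 F55955))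
theorem Q8267 : ∀ i, i < 8267 → P i := stepQ 8266 Q8266 (allL N8266 (tt N9074 (iv F59198)) (tt N8787 (iv F57979)) (tt N7804 F55956) (tt N7351 (iv D14153)) (tt N8786 (iv F57974)) (tt N7352 F55957) (tt N8788 (iv F57990)) (tt N8266 F55958) (tt N7806 F55959))
theorem Q8268 : ∀ i, i < 8268 → P i := stepQ 8267 Q8267 (allL N8267 (tt N8973 (iv F58814)) (tt N7358 (iv D14154)) (tt N7397 F55960) (tt N7361 F55961) (tt N8541 (iv F57004)) (tt N7399 F55962) (tt N8797 (iv F58049)) (tt N7962 F55963) (tt N9081 D14968))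
theorem Q8269 : ∀ i, i < 8269 → P i := stepQ 8268 Q8268 (allL N8268 (tt N7993 F55964) (tt N8541 (iv F57002)) (tt N7359 F55965) (tt N7861 F55966) (tt N7358 (iv D14155)) (tt N8542 (iv F57008)) (tt N7868 F55967) (tt N7963 F55968) (tt N9082 D14969))
theorem Q8270 : ∀ i, i < 8270 → P i := stepQ 8269 Q8269 (allL N8269 (tt N8953 (iv F58716)) (tt N9081 (iv F59226)) (tt N7360 F55969) (tt N7362 F55970) (tt N9082 (iv F59233)) (tt N7752 F55971) (tt N8960 (iv F58757)) (tt N9083 D14970) (tt N7358 (iv D14156)))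
theorem Q8271 : ∀ i, i < 8271 → P i := stepQ 8270 Q8270 (allL N8270 (tt N8017 F55972) (tt N7516 F55973) (tt N9082 (iv F59231)) (tt N7629 F55974) (tt N7360 F55975) (tt N8485 (iv F56745)) (tt N7878 F55976) (tt N9084 D14971) (tt N7359 (iv D14157)))
theorem Q8272 : ∀ i, i < 8272 → P i := stepQ 8271 Q8271 (allL N8271 (tt N8954 (iv F58722)) (tt N7517 F55977) (tt N9083 (iv F59235)) (tt N7407 F55978) (tt N9084 (iv F59240)) (tt N7755 F55979) (tt N8963 (iv F58771)) (tt N7360 (iv D14158)) (tt N7967 F55980))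
theorem Q8273 : ∀ i, i < 8273 → P i := stepQ 8272 Q8272 (allL N8272 (tt N8989 (iv F58871)) (tt N7362 F55981) (tt N7387 F55982) (tt N9081 (iv F59228)) (tt N8956 (iv F58738)) (tt N7409 F55983) (tt N8812 (iv F58102)) (tt N9085 D14972) (tt N7361 (iv D14159)))
theorem Q8274 : ∀ i, i < 8274 → P i := stepQ 8273 Q8273 (allL N8273 (tt N8955 (iv F58729)) (tt N9085 (iv F59243)) (tt N7363 F55984) (tt N9086 D14973) (tt N8957 (iv F58742)) (tt N7759 F55985) (tt N8961 (iv F58761)) (tt N7362 (iv D14160)) (tt N7371 F55986))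
theorem Q8275 : ∀ i, i < 8275 → P i := stepQ 8274 Q8274 (allL N8274 (tt N8957 (iv F58740)) (tt N8836 (iv F58201)) (tt N7365 F55987) (tt N9087 D14974) (tt N8955 (iv F58731)) (tt N8841 (iv F58230)) (tt N7371 F55988) (tt N7364 (iv D14161)) (tt N8961 (iv F58762)))
theorem Q8276 : ∀ i, i < 8276 → P i := stepQ 8275 Q8275 (allL N8275 (tt N9004 (iv F58929)) (tt N7368 F55989) (tt N8275 F55990) (tt N7366 (iv D14162)) (tt N8002 F55991) (tt N9088 D14975) (tt N8834 (iv F58194)) (tt N9089 D14976) (tt N9090 D14977))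
theorem Q8277 : ∀ i, i < 8277 → P i := stepQ 8276 Q8276 (allL N8276 (tt N8698 (iv F57541)) (tt N7369 F55992) (tt N7389 F55993) (tt N9088 (iv F59255)) (tt N7423 F55994) (tt N7366 (iv D14163)) (tt N8703 (iv F57570)) (tt N8717 (iv F57640)) (tt N9091 D14978))
theorem Q8278 : ∀ i, i < 8278 → P i := stepQ 8277 Q8277 (allL N8277 (tt N9005 (iv F58932)) (tt N7370 F55995) (tt N7390 F55996) (tt N9090 (iv F59266)) (tt N7367 F55997) (tt N9091 (iv F59271)) (tt N8835 (iv F58200)) (tt N9092 D14979) (tt N7366 (iv D14164)))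
theorem Q8279 : ∀ i, i < 8279 → P i := stepQ 8278 Q8278 (allL N8278 (tt N9006 (iv F58935)) (tt N7371 F55998) (tt N7391 F55999) (tt N9093 D14980) (tt N9092 (iv F59274)) (tt N7425 F56000) (tt N8836 (iv F58204)) (tt N7367 (iv D14165)) (tt N9085 (iv F59246)))
theorem Q8280 : ∀ i, i < 8280 → P i := stepQ 8279 Q8279 (allL N8279 (tt N8799 F58059) (tt N9088 (iv F59253)) (tt N7374 F56001) (tt N7369 F56002) (tt N9094 D14981) (tt N7368 (iv D14166)) (tt N8802 (iv F58069)) (tt N9095 D14982) (tt N9096 D14983))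
theorem Q8281 : ∀ i, i < 8281 → P i := stepQ 8280 Q8280 (allL N8280 (tt N7960 F56003) (tt N9089 (iv F59258)) (tt N7375 F56004) (tt N7848 F56005) (tt N8007 F56006) (tt N9095 (iv F59285)) (tt N7843 F56007) (tt N7368 (iv D14167)) (tt N9097 D14984))
theorem Q8282 : ∀ i, i < 8282 → P i := stepQ 8281 Q8281 (allL N8281 (tt N8960 (iv F58753)) (tt N9090 (iv F59264)) (tt N7376 F56008) (tt N7370 F56009) (tt N8008 F56010) (tt N9096 (iv F59289)) (tt N8953 (iv F58721)) (tt N9098 D14985) (tt N7368 (iv D14168)))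
theorem Q8283 : ∀ i, i < 8283 → P i := stepQ 8282 Q8282 (allL N8282 (tt N8814 (iv F58109)) (tt N9091 (iv F59268)) (tt N7372 F56011) (tt N9096 (iv F59288)) (tt N7766 F56012) (tt N7370 F56013) (tt N8819 (iv F58136)) (tt N9099 D14986) (tt N7369 (iv D14169)))
theorem Q8284 : ∀ i, i < 8284 → P i := stepQ 8283 Q8283 (allL N8283 (tt N8961 (iv F58758)) (tt N9092 (iv F59272)) (tt N7373 F56014) (tt N9100 D14987) (tt N7371 F56015) (tt N9099 (iv F59299)) (tt N8955 (iv F58733)) (tt N7370 (iv D14170)) (tt N8957 (iv F58744)))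
theorem Q8285 : ∀ i, i < 8285 → P i := stepQ 8284 Q8284 (allL N8284 (tt N8962 (iv F58763)) (tt N9093 (iv F59275)) (tt N7441 F56016) (tt N7371 (iv D14171)) (tt N9101 D14988) (tt N7768 F56017) (tt N9087 (iv F59251)) (tt N8012 F56018) (tt N9086 (iv F59249)))
theorem Q8286 : ∀ i, i < 8286 → P i := stepQ 8285 Q8285 (allL N8285 (tt N8895 (iv F58405)) (tt N7394 F56019) (tt N9099 (iv F59297)) (tt N8990 (iv F58876)) (tt N7770 F56020) (tt N7373 F56021) (tt N8897 (iv F58422)) (tt N7372 (iv D14172)) (tt N8906 (iv F58475)))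
theorem Q8287 : ∀ i, i < 8287 → P i := stepQ 8286 Q8286 (allL N8286 (tt N8939 (iv F58648)) (tt N8286 F56022) (tt N9094 (iv F59278)) (tt N7379 F56023) (tt N7374 (iv D14173)) (tt N8024 F56024) (tt N8945 (iv F58683)) (tt N9102 D14989) (tt N9103 D14990))
theorem Q8288 : ∀ i, i < 8288 → P i := stepQ 8287 Q8287 (allL N8287 (tt N7958 F56025) (tt N8287 F56026) (tt N9095 (iv F59283)) (tt N7631 F56027) (tt N9102 (iv F59305)) (tt N7375 F56028) (tt N8152 F56029) (tt N7374 (iv D14174)) (tt N9104 D14991))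
theorem Q8289 : ∀ i, i < 8289 → P i := stepQ 8288 Q8288 (allL N8288 (tt N8940 (iv F58654)) (tt N8288 F56030) (tt N9096 (iv F59287)) (tt N7377 F56031) (tt N9103 (iv F59310)) (tt N7376 F56032) (tt N8946 (iv F58690)) (tt N9105 D14992) (tt N7374 (iv D14175)))
theorem Q8290 : ∀ i, i < 8290 → P i := stepQ 8289 Q8289 (allL N8289 (tt N7961 F56033) (tt N8289 F56034) (tt N9097 (iv F59291)) (tt N7632 F56035) (tt N8028 F56036) (tt N9104 (iv F59315)) (tt N7845 F56037) (tt N9106 D14993) (tt N7375 (iv D14176)))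
theorem Q8291 : ∀ i, i < 8291 → P i := stepQ 8290 Q8290 (allL N8290 (tt N8963 (iv F58767)) (tt N8290 F56038) (tt N9098 (iv F59295)) (tt N8979 (iv F58841)) (tt N8029 F56039) (tt N9105 (iv F59318)) (tt N8954 (iv F58727)) (tt N7376 (iv D14177)) (tt N9106 (iv F59323)))
theorem Q8292 : ∀ i, i < 8292 → P i := stepQ 8291 Q8291 (allL N8291 (tt N7634 F56040) (tt N8291 F56041) (tt N7463 F56042) (tt N8978 (iv F58836)) (tt N7378 (iv D14178)) (tt N8220 F56043) (tt N7604 F56044) (tt N8033 F56045) (tt N7601 F56046))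
theorem Q8293 : ∀ i, i < 8293 → P i := stepQ 8292 Q8292 (allL N8292 (tt N7660 F56047) (tt N8292 F56048) (tt N7655 F56049) (tt N8945 (iv F58682)) (tt N7380 F56050) (tt N7620 F56051) (tt N7379 (iv D14179)) (tt N7618 (iv F56052)) (tt N9107 D14994))
theorem Q8294 : ∀ i, i < 8294 → P i := stepQ 8293 Q8293 (allL N8293 (tt N7658 F56053) (tt N8293 F56054) (tt N7654 F56055) (tt N7621 (iv F56059)) (tt N7381 F56056) (tt N7650 F56057) (tt N7618 F56058) (tt N7379 (iv D14180)) (tt N7616 (iv F56060)))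
theorem Q8295 : ∀ i, i < 8295 → P i := stepQ 8294 Q8294 (allL N8294 (tt N8393 (iv F56370)) (tt N8294 F56061) (tt N7785 F56062) (tt N9103 (iv F59309)) (tt N7382 F56063) (tt N8037 F56064) (tt N9107 (iv F59329)) (tt N8224 F56065) (tt N7379 (iv D14181)))
theorem Q8296 : ∀ i, i < 8296 → P i := stepQ 8295 Q8295 (allL N8295 (tt N7657 F56066) (tt N8295 F56067) (tt N7653 F56068) (tt N7626 F56069) (tt N7618 F56070) (tt N8295 F56071) (tt N7381 F56072) (tt N7380 (iv D14182)) (tt N7615 (iv F56073)))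
theorem Q8297 : ∀ i, i < 8297 → P i := stepQ 8296 Q8296 (allL N8296 (tt N8394 (iv F56374)) (tt N8296 F56074) (tt N7786 F56075) (tt N7383 F56076) (tt N9107 (iv F59327)) (tt N8296 F56077) (tt N7382 F56078) (tt N8225 F56079) (tt N7380 (iv D14183)))
theorem Q8298 : ∀ i, i < 8298 → P i := stepQ 8297 Q8297 (allL N8297 (tt N8395 (iv F56380)) (tt N8297 F56080) (tt N7385 F56081) (tt N8226 F56082) (tt N8518 (iv F56917)) (tt N8297 F56083) (tt N7384 F56084) (tt N7383 (iv D14184)) (tt N7633 F56085))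
theorem Q8299 : ∀ i, i < 8299 → P i := stepQ 8298 Q8298 (allL N8298 (tt N8990 (iv F58874)) (tt N7388 F56086) (tt N9085 (iv F59244)) (tt N8895 (iv F58407)) (tt N8964 (iv F58774)) (tt N7411 F56087) (tt N8813 (iv F58107)) (tt N7387 (iv D14185)) (tt N7391 F56088))
theorem Q8300 : ∀ i, i < 8300 → P i := stepQ 8299 Q8299 (allL N8299 (tt N8750 (iv F57774)) (tt N7392 F56089) (tt N9091 (iv F59269)) (tt N8299 F56090) (tt N7427 F56091) (tt N7390 F56092) (tt N8753 (iv F57797)) (tt N9108 D14995) (tt N7389 (iv D14186)))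
theorem Q8301 : ∀ i, i < 8301 → P i := stepQ 8300 Q8300 (allL N8300 (tt N9007 (iv F58938)) (tt N7393 F56093) (tt N9092 (iv F59273)) (tt N9109 D14996) (tt N7391 F56094) (tt N9108 (iv F59333)) (tt N8837 (iv F58208)) (tt N7390 (iv D14187)) (tt N8964 (iv F58776)))
theorem Q8302 : ∀ i, i < 8302 → P i := stepQ 8301 Q8301 (allL N8301 (tt N7395 F56095) (tt N9108 (iv F59331)) (tt N7394 F56096) (tt N9110 D14997) (tt N7484 F56097) (tt N7393 F56098) (tt N8785 (iv F57970)) (tt N7392 (iv D14188)) (tt N8791 (iv F58012)))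
theorem Q8303 : ∀ i, i < 8303 → P i := stepQ 8302 Q8302 (allL N8302 (tt N7396 F56099) (tt N9109 (iv F59334)) (tt N9059 (iv F59143)) (tt N7393 (iv D14189)) (tt N8908 (iv F58483)) (tt N9110 (iv F59337)) (tt N8905 (iv F58466)) (tt N8302 F56100) (tt N8965 (iv F58782)))
theorem Q8304 : ∀ i, i < 8304 → P i := stepQ 8303 Q8303 (allL N8303 (tt N9110 (iv F59336)) (tt N8783 (iv F57952)) (tt N8790 (iv F58001)) (tt N7395 (iv D14190)) (tt N8788 (iv F57988)) (tt N7396 F56101) (tt N8786 (iv F57976)) (tt N8303 F56102) (tt N8792 (iv F58019)))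
theorem Q8305 : ∀ i, i < 8305 → P i := stepQ 8304 Q8304 (allL N8304 (tt N8974 (iv F58818)) (tt N7515 F56103) (tt N9081 (iv F59227)) (tt N7398 F56104) (tt N8388 (iv F56357)) (tt N7401 F56105) (tt N8798 (iv F58053)) (tt N9111 D14998) (tt N7397 (iv D14191)))
theorem Q8306 : ∀ i, i < 8306 → P i := stepQ 8305 Q8305 (allL N8305 (tt N8976 (iv F58826)) (tt N7751 F56106) (tt N7400 F56107) (tt N9112 D14999) (tt N7399 (iv D14192)) (tt N8543 (iv F57010)) (tt N7403 F56108) (tt N8310 (iv F56126)) (tt N9113 D15000))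
theorem Q8307 : ∀ i, i < 8307 → P i := stepQ 8306 Q8306 (allL N8306 (tt N8977 (iv F58830)) (tt N7752 F56109) (tt N7401 F56110) (tt N7409 F56111) (tt N9113 (iv F59350)) (tt N9081 (iv F59229)) (tt N7404 F56112) (tt N9114 D15001) (tt N7399 (iv D14193)))
theorem Q8308 : ∀ i, i < 8308 → P i := stepQ 8307 Q8307 (allL N8307 (tt N8978 (iv F58834)) (tt N7518 F56113) (tt N9113 (iv F59349)) (tt N7634 F56114) (tt N7401 F56115) (tt N8390 (iv F56364)) (tt N7406 F56116) (tt N9115 D15002) (tt N7400 (iv D14194)))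
theorem Q8309 : ∀ i, i < 8309 → P i := stepQ 8308 Q8308 (allL N8308 (tt N8979 (iv F58839)) (tt N7519 F56117) (tt N9114 (iv F59353)) (tt N8963 (iv F58769)) (tt N9115 (iv F59356)) (tt N9111 (iv F59340)) (tt N7407 F56118) (tt N7401 (iv D14195)) (tt N8430 (iv F56513)))
theorem Q8310 : ∀ i, i < 8310 → P i := stepQ 8309 Q8309 (allL N8309 (tt N7402 (iv D14196)) (tt N8980 (iv F58843)) (tt N7520 F56119) (tt N7412 F56120) (tt N9116 D15003) (tt N8802 (iv F58068)) (tt N7696 F56121) (tt N8154 F56122) (tt N9117 D15004))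
theorem Q8311 : ∀ i, i < 8311 → P i := stepQ 8310 Q8310 (allL N8310 (tt N9116 (iv F59358)) (tt N7403 F56123) (tt N7521 F56124) (tt N9118 D15005) (tt N7402 (iv D14197)) (tt N9119 D15006) (tt N7751 F56125) (tt N8305 F56126) (tt N9120 D15007))
theorem Q8312 : ∀ i, i < 8312 → P i := stepQ 8311 Q8311 (allL N8311 (tt N9117 (iv F59362)) (tt N7404 F56127) (tt N7522 F56128) (tt N7414 F56129) (tt N9120 (iv F59376)) (tt N8804 (iv F58077)) (tt N7752 F56130) (tt N9121 D15008) (tt N7402 (iv D14198)))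
theorem Q8313 : ∀ i, i < 8313 → P i := stepQ 8312 Q8312 (allL N8312 (tt N8983 (iv F58853)) (tt N9118 (iv F59366)) (tt N7636 F56131) (tt N7403 (iv D14199)) (tt N7415 F56132) (tt N9122 D15009) (tt N9112 (iv F59347)) (tt N9123 D15010) (tt N9124 D15011))
theorem Q8314 : ∀ i, i < 8314 → P i := stepQ 8313 Q8313 (allL N8313 (tt N8984 (iv F58857)) (tt N9119 (iv F59370)) (tt N7405 F56133) (tt N9122 (iv F59383)) (tt N8806 (iv F58082)) (tt N7403 (iv D14200)) (tt N9125 D15012) (tt N8616 (iv F57275)) (tt N9126 D15013))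
theorem Q8315 : ∀ i, i < 8315 → P i := stepQ 8314 Q8314 (allL N8314 (tt N8985 (iv F58859)) (tt N9120 (iv F59374)) (tt N7406 F56134) (tt N9124 (iv F59388)) (tt N7404 F56135) (tt N9126 (iv F59395)) (tt N9113 (iv F59351)) (tt N9127 D15014) (tt N7403 (iv D14201)))
theorem Q8316 : ∀ i, i < 8316 → P i := stepQ 8315 Q8315 (allL N8315 (tt N8986 (iv F58862)) (tt N9121 (iv F59378)) (tt N7407 F56136) (tt N9128 D15015) (tt N9127 (iv F59397)) (tt N8808 (iv F58087)) (tt N9114 (iv F59354)) (tt N7404 (iv D14202)) (tt N8618 (iv F57279)))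
theorem Q8317 : ∀ i, i < 8317 → P i := stepQ 8316 Q8316 (allL N8316 (tt N8520 (iv F56927)) (tt N7526 F56137) (tt N9125 (iv F59391)) (tt N7640 F56138) (tt N8809 (iv F58090)) (tt N8497 (iv F56796)) (tt N7405 (iv D14203)) (tt N8619 (iv F57283)) (tt N9129 D15016))
theorem Q8318 : ∀ i, i < 8318 → P i := stepQ 8317 Q8317 (allL N8317 (tt N8987 (iv F58864)) (tt N7527 F56139) (tt N9126 (iv F59394)) (tt N7641 F56140) (tt N8810 (iv F58094)) (tt N7406 F56141) (tt N9129 (iv F59401)) (tt N9130 D15017) (tt N7405 (iv D14204)))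
theorem Q8319 : ∀ i, i < 8319 → P i := stepQ 8318 Q8318 (allL N8318 (tt N8988 (iv F58868)) (tt N7528 F56142) (tt N9127 (iv F59396)) (tt N9131 D15018) (tt N7407 F56143) (tt N9130 (iv F59403)) (tt N9115 (iv F59357)) (tt N7406 (iv D14205)) (tt N8621 (iv F57290)))
theorem Q8320 : ∀ i, i < 8320 → P i := stepQ 8319 Q8319 (allL N8319 (tt N7665 F56144) (tt N7756 F56145) (tt N7623 F56146) (tt N7408 (iv D14206)) (tt N9112 (iv F59345)) (tt N9132 D15019) (tt N7415 F56147) (tt N9133 D15020) (tt N9055 (iv F59125)))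
theorem Q8321 : ∀ i, i < 8321 → P i := stepQ 8320 Q8320 (allL N8320 (tt N7667 F56148) (tt N7757 F56149) (tt N7410 F56150) (tt N9132 (iv F59409)) (tt N8717 (iv F57637)) (tt N7408 (iv D14207)) (tt N8722 (iv F57662)) (tt N7423 F56151) (tt N9057 (iv F59136)))
theorem Q8322 : ∀ i, i < 8322 → P i := stepQ 8321 Q8321 (allL N8321 (tt N8992 (iv F58884)) (tt N7759 F56152) (tt N7411 F56153) (tt N9134 D15021) (tt N9039 (iv F59046)) (tt N9085 (iv F59245)) (tt N7418 F56154) (tt N7409 (iv D14208)) (tt N7425 F56155))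
theorem Q8323 : ∀ i, i < 8323 → P i := stepQ 8322 Q8322 (allL N8322 (tt N7413 F56156) (tt N8844 (iv F58240)) (tt N7474 F56157) (tt N9135 D15022) (tt N7412 (iv D14209)) (tt N8858 (iv F58298)) (tt N7700 F56158) (tt N7429 F56159) (tt N9136 D15023))
theorem Q8324 : ∀ i, i < 8324 → P i := stepQ 8323 Q8323 (allL N8323 (tt N7414 F56160) (tt N8993 (iv F58890)) (tt N7475 F56161) (tt N9117 (iv F59364)) (tt N9136 (iv F59424)) (tt N8819 (iv F58135)) (tt N7701 F56162) (tt N9137 D15024) (tt N7412 (iv D14210)))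
theorem Q8325 : ∀ i, i < 8325 → P i := stepQ 8324 Q8324 (allL N8324 (tt N9135 (iv F59419)) (tt N7415 F56163) (tt N8324 F56164) (tt N7413 (iv D14211)) (tt N9118 (iv F59368)) (tt N9138 D15025) (tt N7756 F56165) (tt N9139 D15026) (tt N9140 D15027))
theorem Q8326 : ∀ i, i < 8326 → P i := stepQ 8325 Q8325 (allL N8325 (tt N8858 (iv F58294)) (tt N7416 F56166) (tt N7476 F56167) (tt N9138 (iv F59432)) (tt N8821 (iv F58144)) (tt N7413 (iv D14212)) (tt N8852 (iv F58277)) (tt N7432 F56168) (tt N9141 D15028))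
theorem Q8327 : ∀ i, i < 8327 → P i := stepQ 8326 Q8326 (allL N8326 (tt N9136 (iv F59422)) (tt N7417 F56169) (tt N7477 F56170) (tt N9140 (iv F59439)) (tt N7414 F56171) (tt N9141 (iv F59443)) (tt N7758 F56172) (tt N9142 D15029) (tt N7413 (iv D14213)))
theorem Q8328 : ∀ i, i < 8328 → P i := stepQ 8327 Q8327 (allL N8327 (tt N9137 (iv F59426)) (tt N7418 F56173) (tt N7478 F56174) (tt N9143 D15030) (tt N9142 (iv F59446)) (tt N8823 (iv F58154)) (tt N7759 F56175) (tt N7414 (iv D14214)) (tt N7434 F56176))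
theorem Q8329 : ∀ i, i < 8329 → P i := stepQ 8328 Q8328 (allL N8328 (tt N8997 (iv F58903)) (tt N9138 (iv F59430)) (tt N7643 F56177) (tt N7416 F56178) (tt N9144 D15031) (tt N7415 (iv D14215)) (tt N9145 D15032) (tt N9146 D15033) (tt N9147 D15034))
theorem Q8330 : ∀ i, i < 8330 → P i := stepQ 8329 Q8329 (allL N8329 (tt N8998 (iv F58906)) (tt N9139 (iv F59433)) (tt N7644 F56179) (tt N7436 F56180) (tt N9123 (iv F59386)) (tt N9146 (iv F59462)) (tt N9133 (iv F59415)) (tt N7415 (iv D14216)) (tt N9148 D15035))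
theorem Q8331 : ∀ i, i < 8331 → P i := stepQ 8330 Q8330 (allL N8330 (tt N8999 (iv F58910)) (tt N9140 (iv F59437)) (tt N7645 F56181) (tt N7417 F56182) (tt N9124 (iv F59389)) (tt N9147 (iv F59466)) (tt N9055 (iv F59124)) (tt N9149 D15036) (tt N7415 (iv D14217)))
theorem Q8332 : ∀ i, i < 8332 → P i := stepQ 8331 Q8331 (allL N8331 (tt N8725 (iv F57672)) (tt N8852 (iv F58274)) (tt N7419 F56183) (tt N9145 (iv F59456)) (tt N8827 (iv F58165)) (tt N8722 F57664) (tt N7416 (iv D14218)) (tt N7438 F56184) (tt N9150 D15037))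
theorem Q8333 : ∀ i, i < 8333 → P i := stepQ 8332 Q8332 (allL N8332 (tt N9000 (iv F58914)) (tt N9141 (iv F59441)) (tt N7420 F56185) (tt N9147 (iv F59465)) (tt N8828 (iv F58169)) (tt N7417 F56186) (tt N9150 (iv F59471)) (tt N9151 D15038) (tt N7416 (iv D14219)))
theorem Q8334 : ∀ i, i < 8334 → P i := stepQ 8333 Q8333 (allL N8333 (tt N9001 (iv F58917)) (tt N9142 (iv F59444)) (tt N7421 F56187) (tt N9152 D15039) (tt N7418 F56188) (tt N9151 (iv F59473)) (tt N9039 (iv F59047)) (tt N7417 (iv D14220)) (tt N7440 F56189))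
theorem Q8335 : ∀ i, i < 8335 → P i := stepQ 8334 Q8334 (allL N8334 (tt N9002 (iv F58922)) (tt N9143 (iv F59449)) (tt N9086 (iv F59247)) (tt N7418 (iv D14221)) (tt N9153 D15040) (tt N8830 (iv F58175)) (tt N9134 (iv F59417)) (tt N9128 (iv F59398)) (tt N7441 F56190))
theorem Q8336 : ∀ i, i < 8336 → P i := stepQ 8335 Q8335 (allL N8335 (tt N8769 (iv F57878)) (tt N7481 F56191) (tt N9150 (iv F59470)) (tt N7648 F56192) (tt N8831 (iv F58180)) (tt N8767 (iv F57873)) (tt N7420 F56193) (tt N9154 D15041) (tt N7419 (iv D14222)))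
theorem Q8337 : ∀ i, i < 8337 → P i := stepQ 8336 Q8336 (allL N8336 (tt N9003 (iv F58924)) (tt N7482 F56194) (tt N9151 (iv F59472)) (tt N9017 (iv F58977)) (tt N8832 (iv F58184)) (tt N7421 F56195) (tt N9154 (iv F59478)) (tt N7420 (iv D14223)) (tt N7443 F56196))
theorem Q8338 : ∀ i, i < 8338 → P i := stepQ 8337 Q8337 (allL N8337 (tt N9011 (iv F58954)) (tt N7762 F56197) (tt N7445 F56198) (tt N7423 F56199) (tt N9155 D15042) (tt N7422 (iv D14224)) (tt N9156 D15043) (tt N9157 D15044) (tt N9158 D15045))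
theorem Q8339 : ∀ i, i < 8339 → P i := stepQ 8338 Q8338 (allL N8338 (tt N9012 (iv F58957)) (tt N7763 F56200) (tt N7446 F56201) (tt N9133 (iv F59414)) (tt N8351 (iv F56243)) (tt N9157 (iv F59493)) (tt N7436 F56202) (tt N7422 (iv D14225)) (tt N9159 D15046))
theorem Q8340 : ∀ i, i < 8340 → P i := stepQ 8339 Q8339 (allL N8339 (tt N9013 (iv F58961)) (tt N7764 F56203) (tt N7447 F56204) (tt N7424 F56205) (tt N8352 (iv F56248)) (tt N9158 (iv F59498)) (tt N7437 F56206) (tt N9160 D15047) (tt N7422 (iv D14226)))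
theorem Q8341 : ∀ i, i < 8341 → P i := stepQ 8340 Q8340 (allL N8340 (tt N8704 (iv F57573)) (tt N7765 F56207) (tt N7426 F56208) (tt N9156 (iv F59486)) (tt N8703 F57572) (tt N7438 F56209) (tt N7423 (iv D14227)) (tt N8722 (iv F57663)) (tt N9161 D15048))
theorem Q8342 : ∀ i, i < 8342 → P i := stepQ 8341 Q8341 (allL N8341 (tt N9014 (iv F58965)) (tt N7766 F56210) (tt N7427 F56211) (tt N9158 (iv F59497)) (tt N9091 (iv F59270)) (tt N7424 F56212) (tt N9161 (iv F59508)) (tt N9162 D15049) (tt N7423 (iv D14228)))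
theorem Q8343 : ∀ i, i < 8343 → P i := stepQ 8342 Q8342 (allL N8342 (tt N9015 (iv F58968)) (tt N7767 F56213) (tt N7428 F56214) (tt N9163 D15050) (tt N7425 F56215) (tt N9162 (iv F59511)) (tt N7440 F56216) (tt N7424 (iv D14229)) (tt N9039 (iv F59049)))
theorem Q8344 : ∀ i, i < 8344 → P i := stepQ 8343 Q8343 (allL N8343 (tt N9016 (iv F58973)) (tt N7768 F56217) (tt N9087 (iv F59250)) (tt N7425 (iv D14230)) (tt N9164 D15051) (tt N9093 (iv F59276)) (tt N7441 F56218) (tt N8356 (iv F56262)) (tt N9134 (iv F59418)))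
theorem Q8345 : ∀ i, i < 8345 → P i := stepQ 8344 Q8344 (allL N8344 (tt N8754 (iv F57798)) (tt N7483 F56219) (tt N9161 (iv F59506)) (tt N7452 F56220) (tt N8753 (iv F57795)) (tt N7442 F56221) (tt N7427 F56222) (tt N9165 D15052) (tt N7426 (iv D14231)))
theorem Q8346 : ∀ i, i < 8346 → P i := stepQ 8345 Q8345 (allL N8345 (tt N9017 (iv F58975)) (tt N7484 F56223) (tt N9162 (iv F59510)) (tt N9003 (iv F58926)) (tt N9108 (iv F59332)) (tt N7428 F56224) (tt N9165 (iv F59518)) (tt N7427 (iv D14232)) (tt N9038 (iv F59043)))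
theorem Q8347 : ∀ i, i < 8347 → P i := stepQ 8346 Q8346 (allL N8346 (tt N7431 F56225) (tt N9018 (iv F58981)) (tt N7530 F56226) (tt N7429 (iv D14233)) (tt N8183 F56227) (tt N9166 D15053) (tt N7706 F56228) (tt N9167 D15054) (tt N9168 D15055))
theorem Q8348 : ∀ i, i < 8348 → P i := stepQ 8347 Q8347 (allL N8347 (tt N7432 F56229) (tt N8827 (iv F58163)) (tt N7485 F56230) (tt N9166 (iv F59521)) (tt N8852 (iv F58276)) (tt N7429 (iv D14234)) (tt N8821 (iv F58145)) (tt N8858 (iv F58299)) (tt N9169 D15056))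
theorem Q8349 : ∀ i, i < 8349 → P i := stepQ 8348 Q8348 (allL N8348 (tt N7433 F56231) (tt N9019 (iv F58986)) (tt N7486 F56232) (tt N9168 (iv F59528)) (tt N7430 F56233) (tt N9169 (iv F59533)) (tt N7708 F56234) (tt N9170 D15057) (tt N7429 (iv D14235)))
theorem Q8350 : ∀ i, i < 8350 → P i := stepQ 8349 Q8349 (allL N8349 (tt N7434 F56235) (tt N9020 (iv F58991)) (tt N7487 F56236) (tt N9171 D15058) (tt N9170 (iv F59536)) (tt N8854 (iv F58285)) (tt N7709 F56237) (tt N7430 (iv D14236)) (tt N9137 (iv F59429)))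
theorem Q8351 : ∀ i, i < 8351 → P i := stepQ 8350 Q8350 (allL N8350 (tt N9166 (iv F59519)) (tt N7435 F56238) (tt N7534 F56239) (tt N7432 F56240) (tt N9172 D15059) (tt N7431 (iv D14237)) (tt N9173 D15060) (tt N9174 D15061) (tt N9175 D15062))
theorem Q8352 : ∀ i, i < 8352 → P i := stepQ 8351 Q8351 (allL N8351 (tt N9167 (iv F59522)) (tt N7436 F56241) (tt N7535 F56242) (tt N9139 (iv F59435)) (tt N8338 F56243) (tt N9174 (iv F59552)) (tt N7763 F56244) (tt N7431 (iv D14238)) (tt N9176 D15063))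
theorem Q8353 : ∀ i, i < 8353 → P i := stepQ 8352 Q8352 (allL N8352 (tt N9168 (iv F59526)) (tt N7437 F56245) (tt N7536 F56246) (tt N7433 F56247) (tt N8339 F56248) (tt N9175 (iv F59557)) (tt N7764 F56249) (tt N9177 D15064) (tt N7431 (iv D14239)))
theorem Q8354 : ∀ i, i < 8354 → P i := stepQ 8353 Q8353 (allL N8353 (tt N8821 (iv F58141)) (tt N7438 F56250) (tt N7488 F56251) (tt N9173 (iv F59546)) (tt N8858 (iv F58297)) (tt N7765 F56252) (tt N7432 (iv D14240)) (tt N8852 (iv F58278)) (tt N9178 D15065))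
theorem Q8355 : ∀ i, i < 8355 → P i := stepQ 8354 Q8354 (allL N8354 (tt N9169 (iv F59531)) (tt N7439 F56253) (tt N7489 F56254) (tt N9175 (iv F59556)) (tt N8859 (iv F58302)) (tt N7433 F56255) (tt N9178 (iv F59569)) (tt N9179 D15066) (tt N7432 (iv D14241)))
theorem Q8356 : ∀ i, i < 8356 → P i := stepQ 8355 Q8355 (allL N8355 (tt N9170 (iv F59534)) (tt N7440 F56256) (tt N7490 F56257) (tt N9180 D15067) (tt N7434 F56258) (tt N9179 (iv F59572)) (tt N7767 F56259) (tt N7433 (iv D14242)) (tt N9142 (iv F59448)))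
theorem Q8357 : ∀ i, i < 8357 → P i := stepQ 8356 Q8356 (allL N8356 (tt N9171 (iv F59538)) (tt N7441 F56260) (tt N8847 (iv F58253)) (tt N7434 (iv D14243)) (tt N9181 D15068) (tt N8861 (iv F58308)) (tt N7768 F56261) (tt N8343 F56262) (tt N9143 (iv F59451)))
theorem Q8358 : ∀ i, i < 8358 → P i := stepQ 8357 Q8357 (allL N8357 (tt N9027 (iv F59009)) (tt N9172 (iv F59541)) (tt N7454 F56263) (tt N8862 (iv F58310)) (tt N7435 (iv D14244)) (tt N8630 (iv F57310)) (tt N8359 (iv F56270)) (tt N8358 F56266) (tt N9182 D15069))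
theorem Q8359 : ∀ i, i < 8359 → P i := stepQ 8358 Q8358 (allL N8358 (tt N9028 (iv F59011)) (tt N9173 (iv F59544)) (tt N7455 F56264) (tt N7438 F56265) (tt N8359 (iv F56268)) (tt N9156 (iv F59488)) (tt N7435 (iv D14245)) (tt N8357 (iv F56266)) (tt N9183 D15070))
theorem Q8360 : ∀ i, i < 8360 → P i := stepQ 8359 Q8359 (allL N8359 (tt N9029 (iv F59015)) (tt N9174 (iv F59549)) (tt N7456 F56267) (tt N9146 (iv F59460)) (tt N8358 F56268) (tt N7436 F56269) (tt N8357 F56270) (tt N7435 (iv D14246)) (tt N9184 D15071))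
theorem Q8361 : ∀ i, i < 8361 → P i := stepQ 8360 Q8360 (allL N8360 (tt N9030 (iv F59020)) (tt N9175 (iv F59554)) (tt N7457 F56271) (tt N7439 F56272) (tt N9182 (iv F59579)) (tt N7437 F56273) (tt N9183 (iv F59582)) (tt N9185 D15072) (tt N7435 (iv D14247)))
theorem Q8362 : ∀ i, i < 8362 → P i := stepQ 8361 Q8361 (allL N8361 (tt N9031 (iv F59024)) (tt N9176 (iv F59558)) (tt N7458 F56274) (tt N9148 (iv F59468)) (tt N8634 (iv F57319)) (tt N9184 (iv F59585)) (tt N9159 (iv F59501)) (tt N9186 D15073) (tt N7436 (iv D14248)))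
theorem Q8363 : ∀ i, i < 8363 → P i := stepQ 8362 Q8362 (allL N8362 (tt N9032 (iv F59026)) (tt N9177 (iv F59562)) (tt N7459 F56275) (tt N9187 D15074) (tt N8635 (iv F57321)) (tt N9185 (iv F59588)) (tt N9160 (iv F59504)) (tt N7437 (iv D14249)) (tt N9186 (iv F59590)))
theorem Q8364 : ∀ i, i < 8364 → P i := stepQ 8363 Q8363 (allL N8363 (tt N9033 (iv F59028)) (tt N9178 (iv F59566)) (tt N7442 F56276) (tt N9183 (iv F59581)) (tt N8868 (iv F58321)) (tt N9161 (iv F59507)) (tt N7439 F56277) (tt N9188 D15075) (tt N7438 (iv D14250)))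
theorem Q8365 : ∀ i, i < 8365 → P i := stepQ 8364 Q8364 (allL N8364 (tt N9034 (iv F59031)) (tt N9179 (iv F59570)) (tt N7443 F56278) (tt N9189 D15076) (tt N8869 (iv F58324)) (tt N7440 F56279) (tt N9188 (iv F59593)) (tt N7439 (iv D14251)) (tt N9151 (iv F59474)))
theorem Q8366 : ∀ i, i < 8366 → P i := stepQ 8365 Q8365 (allL N8365 (tt N9035 (iv F59034)) (tt N9180 (iv F59573)) (tt N9190 D15077) (tt N7440 (iv D14252)) (tt N9191 D15078) (tt N9189 (iv F59594)) (tt N9163 (iv F59513)) (tt N9187 (iv F59591)) (tt N9152 (iv F59475)))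
theorem Q8367 : ∀ i, i < 8367 → P i := stepQ 8366 Q8366 (allL N8366 (tt N9036 (iv F59035)) (tt N9181 (iv F59575)) (tt N9101 (iv F59300)) (tt N9191 (iv F59596)) (tt N7441 (iv D14253)) (tt N9192 D15079) (tt N9164 (iv F59515)) (tt N8639 (iv F57326)) (tt N9153 (iv F59476)))
theorem Q8368 : ∀ i, i < 8368 → P i := stepQ 8367 Q8367 (allL N8367 (tt N9037 (iv F59036)) (tt N7494 F56280) (tt N9188 (iv F59592)) (tt N8770 (iv F57885)) (tt N8872 (iv F58328)) (tt N9165 (iv F59517)) (tt N7443 F56281) (tt N7442 (iv D14254)) (tt N9154 (iv F59479)))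
theorem Q8369 : ∀ i, i < 8369 → P i := stepQ 8368 Q8368 (allL N8368 (tt N9038 (iv F59039)) (tt N7495 F56282) (tt N9193 D15080) (tt N7443 (iv D14255)) (tt N8764 (iv F57855)) (tt N7444 F56283) (tt N8770 (iv F57887)) (tt N7465 F56284) (tt N9017 (iv F58979)))
theorem Q8370 : ∀ i, i < 8370 → P i := stepQ 8369 Q8369 (allL N8369 (tt N9039 (iv F59044)) (tt N9194 D15081) (tt N7444 (iv D14256)) (tt N9190 (iv F59595)) (tt N8992 (iv F58886)) (tt N9193 (iv F59597)) (tt N9001 (iv F58920)) (tt N7466 F56285) (tt N9015 (iv F58972)))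
theorem Q8371 : ∀ i, i < 8371 → P i := stepQ 8370 Q8370 (allL N8370 (tt N9040 (iv F59050)) (tt N7554 F56286) (tt N9155 (iv F59481)) (tt N8370 F56287) (tt N7445 (iv D14257)) (tt N8443 (iv F56569)) (tt N7774 (iv F56288)) (tt N7773 (iv F56289)) (tt N9195 D15082))
theorem Q8372 : ∀ i, i < 8372 → P i := stepQ 8371 Q8371 (allL N8371 (tt N9041 (iv F59055)) (tt N7555 F56290) (tt N9156 (iv F59485)) (tt N7448 F56291) (tt N7774 F56292) (tt N7455 F56293) (tt N7445 (iv D14258)) (tt N7772 (iv F56294)) (tt N9196 D15083))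
theorem Q8373 : ∀ i, i < 8373 → P i := stepQ 8372 Q8372 (allL N8372 (tt N9042 (iv F59061)) (tt N7556 F56295) (tt N9157 (iv F59491)) (tt N7655 F56296) (tt N7773 F56297) (tt N7446 F56298) (tt N7772 F56299) (tt N7445 (iv D14259)) (tt N9197 D15084))
theorem Q8374 : ∀ i, i < 8374 → P i := stepQ 8373 Q8373 (allL N8373 (tt N9043 (iv F59067)) (tt N7557 F56300) (tt N9158 (iv F59496)) (tt N7449 F56301) (tt N9195 (iv F59603)) (tt N7447 F56302) (tt N9196 (iv F59609)) (tt N9198 D15085) (tt N7445 (iv D14260)))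
theorem Q8375 : ∀ i, i < 8375 → P i := stepQ 8374 Q8374 (allL N8374 (tt N9044 (iv F59071)) (tt N7558 F56303) (tt N9159 (iv F59500)) (tt N7656 F56304) (tt N8447 (iv F56584)) (tt N9197 (iv F59613)) (tt N7458 F56305) (tt N9199 D15086) (tt N7446 (iv D14261)))
theorem Q8376 : ∀ i, i < 8376 → P i := stepQ 8375 Q8375 (allL N8375 (tt N9045 (iv F59075)) (tt N7559 F56306) (tt N9160 (iv F59503)) (tt N9200 D15087) (tt N8448 (iv F56587)) (tt N9198 (iv F59616)) (tt N7459 F56307) (tt N7447 (iv D14262)) (tt N9199 (iv F59619)))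
theorem Q8377 : ∀ i, i < 8377 → P i := stepQ 8376 Q8376 (allL N8376 (tt N9046 (iv F59079)) (tt N7560 F56308) (tt N7452 F56309) (tt N9196 (iv F59606)) (tt N8376 F56310) (tt N7460 F56311) (tt N7449 F56312) (tt N9201 D15088) (tt N7448 (iv D14263)))
theorem Q8378 : ∀ i, i < 8378 → P i := stepQ 8377 Q8377 (allL N8377 (tt N7647 F56313) (tt N7561 F56314) (tt N7453 F56315) (tt N9202 D15089) (tt N8377 F56316) (tt N7450 F56317) (tt N9201 (iv F59629)) (tt N7449 (iv D14264)) (tt N7607 F56318))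
theorem Q8379 : ∀ i, i < 8379 → P i := stepQ 8378 Q8378 (allL N8378 (tt N7645 F56319) (tt N7562 F56320) (tt N8999 (iv F58911)) (tt N7450 (iv D14265)) (tt N9203 D15090) (tt N9202 (iv F59633)) (tt N7462 F56321) (tt N9200 (iv F59623)) (tt N7606 F56322))
theorem Q8380 : ∀ i, i < 8380 → P i := stepQ 8379 Q8379 (allL N8379 (tt N7638 F56323) (tt N7563 F56324) (tt N7604 F56325) (tt N9203 (iv F59637)) (tt N7451 (iv D14266)) (tt N8525 (iv F56951)) (tt N7463 F56326) (tt N8452 (iv F56604)) (tt N7602 F56327))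
theorem Q8381 : ∀ i, i < 8381 → P i := stepQ 8380 Q8380 (allL N8380 (tt N7648 F56328) (tt N7497 F56329) (tt N9201 (iv F59626)) (tt N8769 (iv F57880)) (tt N8380 F56330) (tt N7464 F56331) (tt N7453 F56332) (tt N7452 (iv D14267)) (tt N7608 F56333))
theorem Q8382 : ∀ i, i < 8382 → P i := stepQ 8381 Q8381 (allL N8381 (tt N9047 (iv F59086)) (tt N7567 F56334) (tt N9182 (iv F59578)) (tt N7467 F56335) (tt N7457 F56336) (tt N8643 (iv F57336)) (tt N8383 (iv F56344)) (tt N9204 D15091) (tt N7454 (iv D14268)))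
theorem Q8383 : ∀ i, i < 8383 → P i := stepQ 8382 Q8382 (allL N8382 (tt N9048 (iv F59090)) (tt N7568 F56337) (tt N9183 (iv F59580)) (tt N7460 F56338) (tt N8383 (iv F56342)) (tt N9196 (iv F59608)) (tt N7457 F56339) (tt N9205 D15092) (tt N7455 (iv D14269)))
theorem Q8384 : ∀ i, i < 8384 → P i := stepQ 8383 Q8383 (allL N8383 (tt N9049 (iv F59094)) (tt N7569 F56340) (tt N9184 (iv F59583)) (tt N7659 F56341) (tt N8382 F56342) (tt N7458 F56343) (tt N8381 F56344) (tt N9206 D15093) (tt N7456 (iv D14270)))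
theorem Q8385 : ∀ i, i < 8385 → P i := stepQ 8384 Q8384 (allL N8384 (tt N9050 (iv F59100)) (tt N7570 F56345) (tt N9185 (iv F59587)) (tt N9207 D15094) (tt N9204 (iv F59642)) (tt N7459 F56346) (tt N9205 (iv F59644)) (tt N7457 (iv D14271)) (tt N9206 (iv F59650)))
theorem Q8386 : ∀ i, i < 8386 → P i := stepQ 8385 Q8385 (allL N8385 (tt N9051 (iv F59103)) (tt N7571 F56347) (tt N9186 (iv F59589)) (tt N9208 D15095) (tt N8647 (iv F57346)) (tt N9206 (iv F59648)) (tt N9199 (iv F59618)) (tt N7458 (iv D14272)) (tt N7459 F56348))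
theorem Q8387 : ∀ i, i < 8387 → P i := stepQ 8386 Q8386 (allL N8386 (tt N9052 (iv F59106)) (tt N7572 F56349) (tt N9209 D15096) (tt N7459 (iv D14273)) (tt N9210 D15097) (tt N9207 (iv F59652)) (tt N9200 (iv F59622)) (tt N7462 F56350) (tt N9208 (iv F59657)))
theorem Q8388 : ∀ i, i < 8388 → P i := stepQ 8387 Q8387 (allL N8387 (tt N9053 (iv F59110)) (tt N7573 F56351) (tt N7464 F56352) (tt N9211 D15098) (tt N7471 F56353) (tt N9201 (iv F59628)) (tt N7461 F56354) (tt N7460 (iv D14274)) (tt N7663 F56355))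
theorem Q8389 : ∀ i, i < 8389 → P i := stepQ 8388 Q8388 (allL N8388 (tt N9054 (iv F59117)) (tt N7574 F56356) (tt N9212 D15099) (tt N7461 (iv D14275)) (tt N8304 F56357) (tt N7462 F56358) (tt N9211 (iv F59664)) (tt N9207 (iv F59653)) (tt N7664 F56359))
theorem Q8390 : ∀ i, i < 8390 → P i := stepQ 8389 Q8389 (allL N8389 (tt N9055 (iv F59122)) (tt N9213 D15100) (tt N7462 (iv D14276)) (tt N7466 F56360) (tt N9214 D15101) (tt N9212 (iv F59669)) (tt N8999 (iv F58913)) (tt N9209 (iv F59658)) (tt N7665 F56361))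
theorem Q8391 : ∀ i, i < 8391 → P i := stepQ 8390 Q8390 (allL N8390 (tt N9056 (iv F59127)) (tt N7576 F56362) (tt N9214 (iv F59675)) (tt N7463 F56363) (tt N7462 (iv D14277)) (tt N8307 F56364) (tt N9203 (iv F59638)) (tt N9210 (iv F59661)) (tt N7666 F56365))
theorem Q8392 : ∀ i, i < 8392 → P i := stepQ 8391 Q8391 (allL N8391 (tt N9057 (iv F59133)) (tt N8719 (iv F57646)) (tt N7465 (iv D14278)) (tt N9212 (iv F59667)) (tt N8718 (iv F57643)) (tt N7466 F56366) (tt N8726 (iv F57681)) (tt N9193 (iv F59598)) (tt N7667 F56367))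
theorem Q8393 : ∀ i, i < 8393 → P i := stepQ 8392 Q8392 (allL N8392 (tt N8845 (iv F58245)) (tt N7466 (iv D14279)) (tt N7498 F56368) (tt N9213 (iv F59672)) (tt N8991 (iv F58882)) (tt N8719 (iv F57649)) (tt N8995 (iv F58899)) (tt N9194 (iv F59600)) (tt N7668 F56369))
theorem Q8394 : ∀ i, i < 8394 → P i := stepQ 8393 Q8393 (allL N8393 (tt N8294 F56370) (tt N7578 F56371) (tt N8594 (iv F57209)) (tt N9215 D15102) (tt N7470 F56372) (tt N8657 (iv F57377)) (tt N8537 (iv F56994)) (tt N7467 (iv D14280)) (tt N8137 F56373))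
theorem Q8395 : ∀ i, i < 8395 → P i := stepQ 8394 Q8394 (allL N8394 (tt N8296 F56374) (tt N7579 F56375) (tt N8595 (iv F57215)) (tt N8120 (iv F56379)) (tt N8537 (iv F56992)) (tt N8394 F56376) (tt N7470 F56377) (tt N7468 (iv D14281)) (tt N8119 F56378))
theorem Q8396 : ∀ i, i < 8396 → P i := stepQ 8395 Q8395 (allL N8395 (tt N8297 F56380) (tt N7582 F56381) (tt N7968 F56382) (tt N7471 (iv D14282)) (tt N7959 (iv F56387)) (tt N8395 F56383) (tt N7472 F56384) (tt N8120 F56385) (tt N7669 F56386))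
theorem Q8397 : ∀ i, i < 8397 → P i := stepQ 8396 Q8396 (allL N8396 (tt N7477 F56388) (tt N7499 F56389) (tt N9136 (iv F59423)) (tt N8396 F56390) (tt N7475 F56391) (tt N8914 (iv F58519)) (tt N7702 F56392) (tt N9216 D15103) (tt N7474 (iv D14283)))
theorem Q8398 : ∀ i, i < 8398 → P i := stepQ 8397 Q8397 (allL N8397 (tt N7478 F56393) (tt N7500 F56394) (tt N9137 (iv F59427)) (tt N8702 (iv F57564)) (tt N9216 (iv F59685)) (tt N8897 (iv F58421)) (tt N7703 F56395) (tt N7475 (iv D14284)) (tt N7487 F56396))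
theorem Q8399 : ∀ i, i < 8399 → P i := stepQ 8398 Q8398 (allL N8398 (tt N8914 (iv F58515)) (tt N7479 F56397) (tt N9141 (iv F59442)) (tt N8398 F56398) (tt N8898 (iv F58427)) (tt N7477 F56399) (tt N8912 (iv F58509)) (tt N9217 D15104) (tt N7476 (iv D14285)))
theorem Q8400 : ∀ i, i < 8400 → P i := stepQ 8399 Q8399 (allL N8399 (tt N9216 (iv F59683)) (tt N7480 F56400) (tt N9142 (iv F59445)) (tt N9218 D15105) (tt N7478 F56401) (tt N9217 (iv F59689)) (tt N7761 F56402) (tt N7477 (iv D14286)) (tt N7490 F56403))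
theorem Q8401 : ∀ i, i < 8401 → P i := stepQ 8400 Q8400 (allL N8400 (tt N7502 F56404) (tt N9217 (iv F59688)) (tt N7482 F56405) (tt N9219 D15106) (tt N8900 (iv F58437)) (tt N7480 F56406) (tt N8933 (iv F58620)) (tt N7479 (iv D14287)) (tt N7492 F56407))
theorem Q8402 : ∀ i, i < 8402 → P i := stepQ 8401 Q8401 (allL N8401 (tt N7503 F56408) (tt N9218 (iv F59691)) (tt N9066 (iv F59173)) (tt N7480 (iv D14288)) (tt N8896 (iv F58413)) (tt N9219 (iv F59696)) (tt N7795 F56409) (tt N8401 F56410) (tt N7493 F56411))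
theorem Q8403 : ∀ i, i < 8403 → P i := stepQ 8402 Q8402 (allL N8402 (tt N7504 F56412) (tt N9154 (iv F59477)) (tt N8933 (iv F58617)) (tt N8756 (iv F57809)) (tt N8902 (iv F58449)) (tt N8793 (iv F58024)) (tt N7482 F56413) (tt N7481 (iv D14289)) (tt N7494 F56414))
theorem Q8404 : ∀ i, i < 8404 → P i := stepQ 8403 Q8403 (allL N8403 (tt N7505 F56415) (tt N9165 (iv F59516)) (tt N7796 F56416) (tt N8772 (iv F57893)) (tt N8785 (iv F57968)) (tt N7494 F56417) (tt N7484 F56418) (tt N7483 (iv D14290)) (tt N8793 (iv F58026)))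
theorem Q8405 : ∀ i, i < 8405 → P i := stepQ 8404 Q8404 (allL N8404 (tt N7489 F56419) (tt N7506 F56420) (tt N9169 (iv F59532)) (tt N7584 F56421) (tt N8912 (iv F58507)) (tt N7486 F56422) (tt N8898 (iv F58429)) (tt N9220 D15107) (tt N7485 (iv D14291)))
theorem Q8406 : ∀ i, i < 8406 → P i := stepQ 8405 Q8405 (allL N8405 (tt N7490 F56423) (tt N7507 F56424) (tt N9170 (iv F59535)) (tt N9221 D15108) (tt N7487 F56425) (tt N9220 (iv F59701)) (tt N7711 F56426) (tt N7486 (iv D14292)) (tt N9216 (iv F59687)))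
theorem Q8407 : ∀ i, i < 8407 → P i := stepQ 8406 Q8406 (allL N8406 (tt N8898 (iv F58424)) (tt N7491 F56427) (tt N9178 (iv F59567)) (tt N7586 F56428) (tt N8914 (iv F58518)) (tt N7769 F56429) (tt N7489 F56430) (tt N9222 D15109) (tt N7488 (iv D14293)))
theorem Q8408 : ∀ i, i < 8408 → P i := stepQ 8407 Q8407 (allL N8407 (tt N9220 (iv F59699)) (tt N7492 F56431) (tt N9179 (iv F59571)) (tt N9223 D15110) (tt N8915 (iv F58522)) (tt N7490 F56432) (tt N9222 (iv F59708)) (tt N7489 (iv D14294)) (tt N9217 (iv F59690)))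
theorem Q8409 : ∀ i, i < 8409 → P i := stepQ 8408 Q8408 (allL N8408 (tt N9221 (iv F59702)) (tt N7493 F56433) (tt N9224 D15111) (tt N7490 (iv D14295)) (tt N8850 (iv F58267)) (tt N9223 (iv F59710)) (tt N7771 F56434) (tt N7588 F56435) (tt N9218 (iv F59694)))
theorem Q8410 : ∀ i, i < 8410 → P i := stepQ 8409 Q8409 (allL N8409 (tt N7510 F56436) (tt N9222 (iv F59706)) (tt N7494 F56437) (tt N8776 (iv F57917)) (tt N8917 (iv F58528)) (tt N7796 F56438) (tt N7492 F56439) (tt N7491 (iv D14296)) (tt N8933 (iv F58621)))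
theorem Q8411 : ∀ i, i < 8411 → P i := stepQ 8410 Q8410 (allL N8410 (tt N7511 F56440) (tt N9223 (iv F59709)) (tt N8766 (iv F57864)) (tt N7492 (iv D14297)) (tt N9225 D15112) (tt N7493 F56441) (tt N8776 (iv F57920)) (tt N7590 F56442) (tt N9219 (iv F59698)))
theorem Q8412 : ∀ i, i < 8412 → P i := stepQ 8411 Q8411 (allL N8411 (tt N7512 F56443) (tt N9226 D15113) (tt N7493 (iv D14298)) (tt N7496 F56444) (tt N8911 (iv F58501)) (tt N8766 (iv F57866)) (tt N7798 F56445) (tt N7591 F56446) (tt N9066 (iv F59176)))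
theorem Q8413 : ∀ i, i < 8413 → P i := stepQ 8412 Q8412 (allL N8412 (tt N8849 (iv F58261)) (tt N7496 (iv D14299)) (tt N9194 (iv F59599)) (tt N9226 (iv F59718)) (tt N9058 (iv F59139)) (tt N8721 (iv F57657)) (tt N9061 (iv F59154)) (tt N7498 F56447) (tt N9064 (iv F59167)))
theorem Q8414 : ∀ i, i < 8414 → P i := stepQ 8413 Q8413 (allL N8413 (tt N7501 F56448) (tt N9216 (iv F59684)) (tt N8909 (iv F58489)) (tt N9227 D15114) (tt N7500 F56449) (tt N8917 (iv F58529)) (tt N7732 F56450) (tt N7499 (iv D14300)) (tt N7507 F56451))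
theorem Q8415 : ∀ i, i < 8415 → P i := stepQ 8414 Q8414 (allL N8414 (tt N9227 (iv F59721)) (tt N7503 F56452) (tt N9228 D15115) (tt N7501 (iv D14301)) (tt N8784 (iv F57961)) (tt N8935 (iv F58629)) (tt N7745 F56453) (tt N8414 F56454) (tt N7509 F56455))
theorem Q8416 : ∀ i, i < 8416 → P i := stepQ 8415 Q8415 (allL N8415 (tt N9219 (iv F59695)) (tt N8935 (iv F58626)) (tt N8784 (iv F57960)) (tt N7502 (iv D14302)) (tt N9228 (iv F59727)) (tt N7503 F56456) (tt N8789 (iv F57996)) (tt N8415 F56457) (tt N7511 F56458))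
theorem Q8417 : ∀ i, i < 8417 → P i := stepQ 8416 Q8416 (allL N8416 (tt N7508 F56459) (tt N9220 (iv F59700)) (tt N8902 (iv F58448)) (tt N9229 D15116) (tt N8933 (iv F58618)) (tt N7507 F56460) (tt N8900 (iv F58439)) (tt N7506 (iv D14303)) (tt N8917 (iv F58531)))
theorem Q8418 : ∀ i, i < 8418 → P i := stepQ 8417 Q8417 (allL N8417 (tt N7509 F56461) (tt N9221 (iv F59703)) (tt N9225 (iv F59715)) (tt N7507 (iv D14304)) (tt N8766 (iv F57865)) (tt N9229 (iv F59733)) (tt N7738 F56462) (tt N7596 F56463) (tt N9227 (iv F59724)))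
theorem Q8419 : ∀ i, i < 8419 → P i := stepQ 8418 Q8418 (allL N8418 (tt N9229 (iv F59732)) (tt N7511 F56464) (tt N8932 (iv F58610)) (tt N7508 (iv D14305)) (tt N8931 F58608) (tt N7509 F56465) (tt N8795 (iv F58036)) (tt N7598 F56466) (tt N8935 (iv F58632)))
theorem Q8420 : ∀ i, i < 8420 → P i := stepQ 8419 Q8419 (allL N8419 (tt N9225 (iv F59714)) (tt N8931 (iv F58602)) (tt N7509 (iv D14306)) (tt N8936 (iv F58635)) (tt N7511 F56467) (tt N8932 (iv F58612)) (tt N7749 F56468) (tt N7599 F56469) (tt N9228 (iv F59731)))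
theorem Q8421 : ∀ i, i < 8421 → P i := stepQ 8420 Q8420 (allL N8420 (tt N8420 F56470) (tt N7876 F56471) (tt N8555 (iv F57069)) (tt N7670 F56472) (tt N8941 (iv F58663)) (tt N7513 (iv D14307)) (tt N8556 (iv F57076)) (tt N8106 F56473) (tt N9230 D15117))
theorem Q8422 : ∀ i, i < 8422 → P i := stepQ 8421 Q8421 (allL N8421 (tt N8421 F56474) (tt N7878 F56475) (tt N8484 (iv F56740)) (tt N7671 F56476) (tt N7514 F56477) (tt N9230 (iv F59739)) (tt N7516 F56478) (tt N9231 D15118) (tt N7513 (iv D14308)))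
theorem Q8423 : ∀ i, i < 8423 → P i := stepQ 8422 Q8422 (allL N8422 (tt N8422 F56479) (tt N8963 (iv F58768)) (tt N8938 (iv F58644)) (tt N7519 F56480) (tt N9231 (iv F59742)) (tt N8942 (iv F58670)) (tt N7517 F56481) (tt N7514 (iv D14309)) (tt N8108 F56482))
theorem Q8424 : ∀ i, i < 8424 → P i := stepQ 8423 Q8423 (allL N8423 (tt N8423 F56483) (tt N9111 (iv F59339)) (tt N7517 F56484) (tt N8942 (iv F58669)) (tt N8480 F56729) (tt N7519 F56485) (tt N8938 (iv F58647)) (tt N7515 (iv D14310)) (tt N8113 F56486))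
theorem Q8425 : ∀ i, i < 8425 → P i := stepQ 8424 Q8424 (allL N8424 (tt N8424 F56487) (tt N9084 (iv F59239)) (tt N8480 F56728) (tt N9232 D15119) (tt N7517 F56488) (tt N8482 (iv F56734)) (tt N9231 (iv F59743)) (tt N7516 (iv D14311)) (tt N8116 F56489))
theorem Q8426 : ∀ i, i < 8426 → P i := stepQ 8425 Q8425 (allL N8425 (tt N8425 F56490) (tt N9115 (iv F59355)) (tt N7812 F56491) (tt N9233 D15120) (tt N7519 F56492) (tt N8483 (iv F56737)) (tt N7528 F56493) (tt N7518 (iv D14312)) (tt N8433 (iv F56529)))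
theorem Q8427 : ∀ i, i < 8427 → P i := stepQ 8426 Q8426 (allL N8426 (tt N7521 F56494) (tt N8426 F56495) (tt N9116 (iv F59359)) (tt N8426 F56496) (tt N7520 (iv D14313)) (tt N9234 D15121) (tt N7697 F56497) (tt N8155 F56498) (tt N9235 D15122))
theorem Q8428 : ∀ i, i < 8428 → P i := stepQ 8427 Q8427 (allL N8427 (tt N7522 F56499) (tt N8427 F56500) (tt N9117 (iv F59363)) (tt N7529 F56501) (tt N9235 (iv F59762)) (tt N8946 (iv F58689)) (tt N7698 F56502) (tt N9236 D15123) (tt N7520 (iv D14314)))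
theorem Q8429 : ∀ i, i < 8429 → P i := stepQ 8428 Q8428 (allL N8428 (tt N9234 (iv F59753)) (tt N7523 F56503) (tt N9119 (iv F59371)) (tt N8428 F56504) (tt N7662 F56505) (tt N7521 (iv D14315)) (tt N9237 D15124) (tt N7666 F56506) (tt N9238 D15125))
theorem Q8430 : ∀ i, i < 8430 → P i := stepQ 8429 Q8429 (allL N8429 (tt N9235 (iv F59759)) (tt N7524 F56507) (tt N9120 (iv F59375)) (tt N8429 F56508) (tt N7522 F56509) (tt N9238 (iv F59778)) (tt N7754 F56510) (tt N9239 D15126) (tt N7521 (iv D14316)))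
theorem Q8431 : ∀ i, i < 8431 → P i := stepQ 8430 Q8430 (allL N8430 (tt N9236 (iv F59764)) (tt N7525 F56511) (tt N9121 (iv F59379)) (tt N8801 (iv F58064)) (tt N9239 (iv F59780)) (tt N8948 (iv F58696)) (tt N7755 F56512) (tt N7522 (iv D14317)) (tt N8308 F56513))
theorem Q8432 : ∀ i, i < 8432 → P i := stepQ 8431 Q8431 (allL N8431 (tt N8431 F56514) (tt N9237 (iv F59770)) (tt N7526 F56515) (tt N8431 F56516) (tt N7684 F56517) (tt N7810 F56518) (tt N7523 (iv D14318)) (tt N7688 F56519) (tt N9240 D15127))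
theorem Q8433 : ∀ i, i < 8433 → P i := stepQ 8432 Q8432 (allL N8432 (tt N8432 F56520) (tt N9238 (iv F59775)) (tt N7527 F56521) (tt N8432 F56522) (tt N7693 F56523) (tt N7524 F56524) (tt N9240 (iv F59788)) (tt N9241 D15128) (tt N7523 (iv D14319)))
theorem Q8434 : ∀ i, i < 8434 → P i := stepQ 8433 Q8433 (allL N8433 (tt N8433 F56525) (tt N9239 (iv F59779)) (tt N7528 F56526) (tt N9242 D15129) (tt N7525 F56527) (tt N9241 (iv F59792)) (tt N7812 F56528) (tt N7524 (iv D14320)) (tt N8425 F56529))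
theorem Q8435 : ∀ i, i < 8435 → P i := stepQ 8434 Q8434 (allL N8434 (tt N8434 F56530) (tt N9129 (iv F59399)) (tt N9240 (iv F59784)) (tt N7676 F56531) (tt N8950 (iv F58706)) (tt N8474 F56705) (tt N7527 F56532) (tt N9243 D15130) (tt N7526 (iv D14321)))
theorem Q8436 : ∀ i, i < 8436 → P i := stepQ 8435 Q8435 (allL N8435 (tt N8435 F56533) (tt N9130 (iv F59402)) (tt N9241 (iv F59790)) (tt N9244 D15131) (tt N8951 (iv F58710)) (tt N7528 F56534) (tt N9243 (iv F59799)) (tt N7527 (iv D14322)) (tt N8672 (iv F57443)))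
theorem Q8437 : ∀ i, i < 8437 → P i := stepQ 8436 Q8436 (allL N8436 (tt N8436 F56535) (tt N9131 (iv F59404)) (tt N9245 D15132) (tt N7528 (iv D14323)) (tt N9232 (iv F59746)) (tt N9244 (iv F59801)) (tt N9233 (iv F59751)) (tt N7678 F56536) (tt N8673 (iv F57446)))
theorem Q8438 : ∀ i, i < 8438 → P i := stepQ 8437 Q8437 (allL N8437 (tt N7534 F56537) (tt N8437 F56538) (tt N9166 (iv F59520)) (tt N7531 F56539) (tt N9246 D15133) (tt N7530 (iv D14324)) (tt N9247 D15134) (tt N9248 D15135) (tt N9249 D15136))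
theorem Q8439 : ∀ i, i < 8439 → P i := stepQ 8438 Q8438 (allL N8438 (tt N7535 F56540) (tt N8438 F56541) (tt N9167 (iv F59523)) (tt N8438 F56542) (tt N8206 F56543) (tt N9248 (iv F59818)) (tt N7713 F56544) (tt N7530 (iv D14325)) (tt N9250 D15137))
theorem Q8440 : ∀ i, i < 8440 → P i := stepQ 8439 Q8439 (allL N8439 (tt N7536 F56545) (tt N8439 F56546) (tt N9168 (iv F59527)) (tt N7532 F56547) (tt N8207 F56548) (tt N9249 (iv F59823)) (tt N7714 F56549) (tt N9251 D15138) (tt N7530 (iv D14326)))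
theorem Q8441 : ∀ i, i < 8441 → P i := stepQ 8440 Q8440 (allL N8440 (tt N7537 F56550) (tt N8440 F56551) (tt N7583 F56552) (tt N9247 (iv F59811)) (tt N8440 F56553) (tt N7715 F56554) (tt N7531 (iv D14327)) (tt N8440 F56555) (tt N9252 D15139))
theorem Q8442 : ∀ i, i < 8442 → P i := stepQ 8441 Q8441 (allL N8441 (tt N7538 F56556) (tt N8441 F56557) (tt N7584 F56558) (tt N9249 (iv F59822)) (tt N8441 F56559) (tt N7532 F56560) (tt N9252 (iv F59838)) (tt N9253 D15140) (tt N7531 (iv D14328)))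
theorem Q8443 : ∀ i, i < 8443 → P i := stepQ 8442 Q8442 (allL N8442 (tt N7539 F56561) (tt N8442 F56562) (tt N7585 F56563) (tt N9254 D15141) (tt N7533 F56564) (tt N9253 (iv F59843)) (tt N7717 F56565) (tt N7532 (iv D14329)) (tt N8442 F56566))
theorem Q8444 : ∀ i, i < 8444 → P i := stepQ 8443 Q8443 (allL N8443 (tt N9246 (iv F59805)) (tt N7541 F56567) (tt N9172 (iv F59542)) (tt N8443 F56568) (tt N7534 (iv D14330)) (tt N8370 F56569) (tt N8445 (iv F56578)) (tt N8444 F56573) (tt N9255 D15142))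
theorem Q8445 : ∀ i, i < 8445 → P i := stepQ 8444 Q8444 (allL N8444 (tt N9247 (iv F59809)) (tt N7542 F56570) (tt N9173 (iv F59545)) (tt N7537 F56571) (tt N8445 (iv F56576)) (tt N7773 F56572) (tt N7534 (iv D14331)) (tt N8443 (iv F56573)) (tt N9256 D15143))
theorem Q8446 : ∀ i, i < 8446 → P i := stepQ 8445 Q8445 (allL N8445 (tt N9248 (iv F59814)) (tt N7543 F56574) (tt N9174 (iv F59550)) (tt N8445 F56575) (tt N8444 F56576) (tt N7535 F56577) (tt N8443 F56578) (tt N7534 (iv D14332)) (tt N9257 D15144))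
theorem Q8447 : ∀ i, i < 8447 → P i := stepQ 8446 Q8446 (allL N8446 (tt N9249 (iv F59820)) (tt N7544 F56579) (tt N9175 (iv F59555)) (tt N7538 F56580) (tt N9255 (iv F59851)) (tt N7536 F56581) (tt N9256 (iv F59856)) (tt N9258 D15145) (tt N7534 (iv D14333)))
theorem Q8448 : ∀ i, i < 8448 → P i := stepQ 8447 Q8447 (allL N8447 (tt N9250 (iv F59824)) (tt N7545 F56582) (tt N9176 (iv F59559)) (tt N8447 F56583) (tt N8374 F56584) (tt N9257 (iv F59860)) (tt N7776 F56585) (tt N9259 D15146) (tt N7535 (iv D14334)))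
theorem Q8449 : ∀ i, i < 8449 → P i := stepQ 8448 Q8448 (allL N8448 (tt N9251 (iv F59829)) (tt N7546 F56586) (tt N9177 (iv F59563)) (tt N9260 D15147) (tt N8375 F56587) (tt N9258 (iv F59863)) (tt N7777 F56588) (tt N7536 (iv D14335)) (tt N9259 (iv F59867)))
theorem Q8450 : ∀ i, i < 8450 → P i := stepQ 8449 Q8449 (allL N8449 (tt N9252 (iv F59833)) (tt N7547 F56589) (tt N7586 F56590) (tt N9256 (iv F59854)) (tt N8449 F56591) (tt N7778 F56592) (tt N7538 F56593) (tt N9261 D15148) (tt N7537 (iv D14336)))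
theorem Q8451 : ∀ i, i < 8451 → P i := stepQ 8450 Q8450 (allL N8450 (tt N9253 (iv F59839)) (tt N7548 F56594) (tt N7587 F56595) (tt N9262 D15149) (tt N8450 F56596) (tt N7539 F56597) (tt N9261 (iv F59875)) (tt N7538 (iv D14337)) (tt N8450 F56598))
theorem Q8452 : ∀ i, i < 8452 → P i := stepQ 8451 Q8451 (allL N8451 (tt N9254 (iv F59845)) (tt N7549 F56599) (tt N9263 D15150) (tt N7539 (iv D14338)) (tt N9264 D15151) (tt N9262 (iv F59878)) (tt N7780 F56600) (tt N9260 (iv F59870)) (tt N8451 F56601))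
theorem Q8453 : ∀ i, i < 8453 → P i := stepQ 8452 Q8452 (allL N8452 (tt N8524 (iv F56942)) (tt N7550 F56602) (tt N8499 (iv F56804)) (tt N9264 (iv F59884)) (tt N7540 (iv D14339)) (tt N9265 D15152) (tt N7781 F56603) (tt N8379 F56604) (tt N8452 F56605))
theorem Q8454 : ∀ i, i < 8454 → P i := stepQ 8453 Q8453 (allL N8453 (tt N8453 F56606) (tt N9255 (iv F59849)) (tt N7567 F56607) (tt N8453 F56608) (tt N7544 F56609) (tt N8465 (iv F56663)) (tt N8455 (iv F56620)) (tt N9266 D15153) (tt N7541 (iv D14340)))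
theorem Q8455 : ∀ i, i < 8455 → P i := stepQ 8454 Q8454 (allL N8454 (tt N8454 F56610) (tt N9256 (iv F59853)) (tt N7568 F56611) (tt N7547 F56612) (tt N8455 (iv F56618)) (tt N7814 F56613) (tt N7544 F56614) (tt N9267 D15154) (tt N7542 (iv D14341)))
theorem Q8456 : ∀ i, i < 8456 → P i := stepQ 8455 Q8455 (allL N8455 (tt N8455 F56615) (tt N9257 (iv F59857)) (tt N7569 F56616) (tt N8455 F56617) (tt N8454 F56618) (tt N7545 F56619) (tt N8453 F56620) (tt N9268 D15155) (tt N7543 (iv D14342)))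
theorem Q8457 : ∀ i, i < 8457 → P i := stepQ 8456 Q8456 (allL N8456 (tt N8456 F56621) (tt N9258 (iv F59862)) (tt N7570 F56622) (tt N9269 D15156) (tt N9266 (iv F59894)) (tt N7546 F56623) (tt N9267 (iv F59898)) (tt N7544 (iv D14343)) (tt N9268 (iv F59905)))
theorem Q8458 : ∀ i, i < 8458 → P i := stepQ 8457 Q8457 (allL N8457 (tt N8457 F56624) (tt N9259 (iv F59864)) (tt N7571 F56625) (tt N9270 D15157) (tt N8469 (iv F56682)) (tt N9268 (iv F59903)) (tt N7817 F56626) (tt N7545 (iv D14344)) (tt N7546 F56627))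
theorem Q8459 : ∀ i, i < 8459 → P i := stepQ 8458 Q8458 (allL N8458 (tt N8458 F56628) (tt N9260 (iv F59868)) (tt N9271 D15158) (tt N7546 (iv D14345)) (tt N9272 D15159) (tt N9269 (iv F59908)) (tt N7818 F56629) (tt N7549 F56630) (tt N9270 (iv F59914)))
theorem Q8460 : ∀ i, i < 8460 → P i := stepQ 8459 Q8459 (allL N8459 (tt N8459 F56631) (tt N9261 (iv F59871)) (tt N7551 F56632) (tt N9273 D15160) (tt N8459 F56633) (tt N7819 F56634) (tt N7548 F56635) (tt N7547 (iv D14346)) (tt N8459 F56636))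
theorem Q8461 : ∀ i, i < 8461 → P i := stepQ 8460 Q8460 (allL N8460 (tt N8460 F56637) (tt N9262 (iv F59877)) (tt N8546 (iv F57026)) (tt N7548 (iv D14347)) (tt N8549 (iv F57039)) (tt N7549 F56638) (tt N9273 (iv F59925)) (tt N9269 (iv F59909)) (tt N8460 F56639))
theorem Q8462 : ∀ i, i < 8462 → P i := stepQ 8461 Q8461 (allL N8461 (tt N8461 F56640) (tt N9274 D15161) (tt N7549 (iv D14348)) (tt N7553 F56641) (tt N9275 D15162) (tt N8546 (iv F57028)) (tt N7821 F56642) (tt N9271 (iv F59919)) (tt N8461 F56643))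
theorem Q8463 : ∀ i, i < 8463 → P i := stepQ 8462 Q8462 (allL N8462 (tt N8462 F56644) (tt N9264 (iv F59883)) (tt N9275 (iv F59931)) (tt N7550 F56645) (tt N7549 (iv D14349)) (tt N9276 D15163) (tt N7822 F56646) (tt N9272 (iv F59922)) (tt N8462 F56647))
theorem Q8464 : ∀ i, i < 8464 → P i := stepQ 8463 Q8463 (allL N8463 (tt N8463 F56648) (tt N9265 (iv F59887)) (tt N8463 F56649) (tt N9276 (iv F59936)) (tt N8463 F56650) (tt N7550 (iv D14350)) (tt N7677 F56651) (tt N7676 F56652) (tt N8463 F56653))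
theorem Q8465 : ∀ i, i < 8465 → P i := stepQ 8464 Q8464 (allL N8464 (tt N8879 (iv F58352)) (tt N7553 (iv D14351)) (tt N7592 F56654) (tt N9274 (iv F59927)) (tt N8464 F56655) (tt N8517 (iv F56911)) (tt N7826 F56656) (tt N7577 F56657) (tt N8464 F56658))
theorem Q8466 : ∀ i, i < 8466 → P i := stepQ 8465 Q8465 (allL N8465 (tt N8465 F56659) (tt N9195 (iv F59601)) (tt N7813 F56660) (tt N8465 F56661) (tt N7557 F56662) (tt N8453 F56663) (tt N7815 F56664) (tt N9277 D15164) (tt N7554 (iv D14352)))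
theorem Q8467 : ∀ i, i < 8467 → P i := stepQ 8466 Q8466 (allL N8466 (tt N8466 F56665) (tt N9196 (iv F59605)) (tt N7814 F56666) (tt N7560 F56667) (tt N7815 F56668) (tt N7568 F56669) (tt N7557 F56670) (tt N9278 D15165) (tt N7555 (iv D14353)))
theorem Q8468 : ∀ i, i < 8468 → P i := stepQ 8467 Q8467 (allL N8467 (tt N8467 F56671) (tt N9197 (iv F59610)) (tt N7815 F56672) (tt N7681 F56673) (tt N7814 F56674) (tt N7558 F56675) (tt N7813 F56676) (tt N9279 D15166) (tt N7556 (iv D14354)))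
theorem Q8469 : ∀ i, i < 8469 → P i := stepQ 8468 Q8468 (allL N8468 (tt N8468 F56677) (tt N9198 (iv F59615)) (tt N7816 F56678) (tt N9280 D15167) (tt N9277 (iv F59941)) (tt N7559 F56679) (tt N9278 (iv F59949)) (tt N7557 (iv D14355)) (tt N9279 (iv F59956)))
theorem Q8470 : ∀ i, i < 8470 → P i := stepQ 8469 Q8469 (allL N8469 (tt N8469 F56680) (tt N9199 (iv F59617)) (tt N7817 F56681) (tt N9281 D15168) (tt N8457 F56682) (tt N9279 (iv F59954)) (tt N7571 F56683) (tt N7558 (iv D14356)) (tt N7559 F56684))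
theorem Q8471 : ∀ i, i < 8471 → P i := stepQ 8470 Q8470 (allL N8470 (tt N8470 F56685) (tt N9200 (iv F59621)) (tt N9282 D15169) (tt N7559 (iv D14357)) (tt N9283 D15170) (tt N9280 (iv F59958)) (tt N7572 F56686) (tt N7562 F56687) (tt N9281 (iv F59963)))
theorem Q8472 : ∀ i, i < 8472 → P i := stepQ 8471 Q8471 (allL N8471 (tt N8471 F56688) (tt N9201 (iv F59625)) (tt N7564 F56689) (tt N9284 D15171) (tt N8471 F56690) (tt N7573 F56691) (tt N7561 F56692) (tt N7560 (iv D14358)) (tt N7685 F56693))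
theorem Q8473 : ∀ i, i < 8473 → P i := stepQ 8472 Q8472 (allL N8472 (tt N8472 F56694) (tt N9202 (iv F59632)) (tt N9285 D15172) (tt N7561 (iv D14359)) (tt N9286 D15173) (tt N7562 F56695) (tt N9284 (iv F59976)) (tt N9280 (iv F59959)) (tt N7686 F56696))
theorem Q8474 : ∀ i, i < 8474 → P i := stepQ 8473 Q8473 (allL N8473 (tt N8473 F56697) (tt N9287 D15174) (tt N7562 (iv D14360)) (tt N7566 F56698) (tt N8671 (iv F57437)) (tt N9285 (iv F59981)) (tt N7575 F56699) (tt N9282 (iv F59967)) (tt N7687 F56700))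
theorem Q8475 : ∀ i, i < 8475 → P i := stepQ 8474 Q8474 (allL N8474 (tt N8474 F56701) (tt N9203 (iv F59636)) (tt N8671 (iv F57435)) (tt N7563 F56702) (tt N7562 (iv D14361)) (tt N8434 (iv F56705)) (tt N7576 F56703) (tt N9283 (iv F59971)) (tt N7688 F56704))
theorem Q8476 : ∀ i, i < 8476 → P i := stepQ 8475 Q8475 (allL N8475 (tt N8475 F56706) (tt N8745 (iv F57751)) (tt N7565 (iv D14362)) (tt N9285 (iv F59980)) (tt N8689 (iv F57503)) (tt N7566 F56707) (tt N8544 (iv F57016)) (tt N7824 F56708) (tt N7689 F56709))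
theorem Q8477 : ∀ i, i < 8477 → P i := stepQ 8476 Q8476 (allL N8476 (tt N8878 (iv F58345)) (tt N7566 (iv D14363)) (tt N7593 F56710) (tt N9287 (iv F59989)) (tt N8476 F56711) (tt N8745 (iv F57754)) (tt N7577 F56712) (tt N7826 F56713) (tt N7690 F56714))
theorem Q8478 : ∀ i, i < 8478 → P i := stepQ 8477 Q8477 (allL N8477 (tt N8477 F56715) (tt N9204 (iv F59641)) (tt N9266 (iv F59893)) (tt N9288 D15175) (tt N7570 F56716) (tt N8674 (iv F57449)) (tt N8479 (iv F56723)) (tt N7567 (iv D14364)) (tt N8478 (iv F56719)))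
theorem Q8479 : ∀ i, i < 8479 → P i := stepQ 8478 Q8478 (allL N8478 (tt N8478 F56717) (tt N9205 (iv F59643)) (tt N9267 (iv F59896)) (tt N9289 D15176) (tt N8479 (iv F56721)) (tt N9278 (iv F59948)) (tt N7570 F56718) (tt N7568 (iv D14365)) (tt N8477 F56719))
theorem Q8480 : ∀ i, i < 8480 → P i := stepQ 8479 Q8479 (allL N8479 (tt N8479 F56720) (tt N9206 (iv F59646)) (tt N9268 (iv F59901)) (tt N8949 (iv F58699)) (tt N8478 F56721) (tt N7571 F56722) (tt N8477 F56723) (tt N7569 (iv D14366)) (tt N7570 F56724))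
theorem Q8481 : ∀ i, i < 8481 → P i := stepQ 8480 Q8480 (allL N8480 (tt N8480 F56725) (tt N9207 (iv F59651)) (tt N8424 (iv F56728)) (tt N7570 (iv D14367)) (tt N8423 (iv F56729)) (tt N7572 F56726) (tt N9289 (iv F59999)) (tt N7574 F56727) (tt N8949 (iv F58702)))
theorem Q8482 : ∀ i, i < 8482 → P i := stepQ 8481 Q8481 (allL N8481 (tt N8481 F56730) (tt N9208 (iv F59655)) (tt N8951 (iv F58709)) (tt N7571 (iv D14368)) (tt N9241 (iv F59791)) (tt N8949 (iv F58701)) (tt N9281 (iv F59961)) (tt N7693 F56731) (tt N7572 F56732))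
theorem Q8483 : ∀ i, i < 8483 → P i := stepQ 8482 Q8482 (allL N8482 (tt N8482 F56733) (tt N9290 D15177) (tt N7572 (iv D14369)) (tt N9271 (iv F59916)) (tt N8672 (iv F57441)) (tt N8424 F56734) (tt N9282 (iv F59966)) (tt N7575 F56735) (tt N8951 (iv F58712)))
theorem Q8484 : ∀ i, i < 8484 → P i := stepQ 8483 Q8483 (allL N8483 (tt N8483 F56736) (tt N9210 (iv F59659)) (tt N8672 (iv F57440)) (tt N8680 (iv F57464)) (tt N7572 (iv D14370)) (tt N8425 F56737) (tt N9283 (iv F59970)) (tt N7576 F56738) (tt N9241 (iv F59793)))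
theorem Q8485 : ∀ i, i < 8485 → P i := stepQ 8484 Q8484 (allL N8484 (tt N8484 F56739) (tt N9211 (iv F59662)) (tt N8421 F56740) (tt N7573 (iv D14371)) (tt N8102 F56741) (tt N9284 (iv F59975)) (tt N7574 F56742) (tt N9289 (iv F60000)) (tt N7694 F56743))
theorem Q8486 : ∀ i, i < 8486 → P i := stepQ 8485 Q8485 (allL N8485 (tt N8876 (iv F58339)) (tt N7575 (iv D14372)) (tt N9213 (iv F59671)) (tt N7577 F56744) (tt N8620 (iv F57286)) (tt N8270 F56745) (tt N9287 (iv F59990)) (tt N9290 (iv F60004)) (tt N7695 F56746))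
theorem Q8487 : ∀ i, i < 8487 → P i := stepQ 8486 Q8486 (allL N8486 (tt N8486 F56747) (tt N9215 (iv F59679)) (tt N8107 (iv F56751)) (tt N7578 (iv D14373)) (tt N8105 F56748) (tt N8688 (iv F57495)) (tt N8112 F56749) (tt N9288 (iv F59995)) (tt N8104 F56750))
theorem Q8488 : ∀ i, i < 8488 → P i := stepQ 8487 Q8487 (allL N8487 (tt N7586 F56752) (tt N7594 F56753) (tt N9252 (iv F59835)) (tt N8898 (iv F58426)) (tt N8487 F56754) (tt N7719 F56755) (tt N7584 F56756) (tt N9291 D15178) (tt N7583 (iv D14374)))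
theorem Q8489 : ∀ i, i < 8489 → P i := stepQ 8488 Q8488 (allL N8488 (tt N7587 F56757) (tt N7595 F56758) (tt N9253 (iv F59841)) (tt N9292 D15179) (tt N8488 F56759) (tt N7585 F56760) (tt N9291 (iv F60009)) (tt N7584 (iv D14375)) (tt N8488 F56761))
theorem Q8490 : ∀ i, i < 8490 → P i := stepQ 8489 Q8489 (allL N8489 (tt N7588 F56762) (tt N7596 F56763) (tt N9293 D15180) (tt N7585 (iv D14376)) (tt N8738 (iv F57727)) (tt N9292 (iv F60013)) (tt N7721 F56764) (tt N9221 (iv F59705)) (tt N8489 F56765))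
theorem Q8491 : ∀ i, i < 8491 → P i := stepQ 8490 Q8490 (allL N8490 (tt N9291 (iv F60005)) (tt N7589 F56766) (tt N9261 (iv F59872)) (tt N8778 (iv F57928)) (tt N8490 F56767) (tt N7782 F56768) (tt N7587 F56769) (tt N7586 (iv D14377)) (tt N8490 F56770))
theorem Q8492 : ∀ i, i < 8492 → P i := stepQ 8491 Q8491 (allL N8491 (tt N9292 (iv F60011)) (tt N7590 F56771) (tt N9294 D15181) (tt N7587 (iv D14378)) (tt N9295 D15182) (tt N7588 F56772) (tt N8778 (iv F57931)) (tt N9223 (iv F59711)) (tt N8491 F56773))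
theorem Q8493 : ∀ i, i < 8493 → P i := stepQ 8492 Q8492 (allL N8492 (tt N9293 (iv F60015)) (tt N9296 D15183) (tt N7588 (iv D14379)) (tt N9263 (iv F59880)) (tt N8882 (iv F58367)) (tt N9294 (iv F60018)) (tt N7784 F56774) (tt N9224 (iv F59713)) (tt N8492 F56775))
theorem Q8494 : ∀ i, i < 8494 → P i := stepQ 8493 Q8493 (allL N8493 (tt N7599 F56776) (tt N9295 (iv F60020)) (tt N7596 F56777) (tt N8493 F56778) (tt N7590 (iv D14380)) (tt N8923 (iv F58556)) (tt N7741 F56779) (tt N9225 (iv F59717)) (tt N8493 F56780))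
theorem Q8495 : ∀ i, i < 8495 → P i := stepQ 8494 Q8494 (allL N8494 (tt N8881 (iv F58362)) (tt N7591 (iv D14381)) (tt N9296 (iv F60024)) (tt N7592 F56781) (tt N8924 (iv F58560)) (tt N8738 (iv F57728)) (tt N7802 F56782) (tt N9226 (iv F59720)) (tt N8494 F56783))
theorem Q8496 : ∀ i, i < 8496 → P i := stepQ 8495 Q8495 (allL N8495 (tt N7597 F56784) (tt N9291 (iv F60006)) (tt N8495 F56785) (tt N8796 (iv F58040)) (tt N8495 F56786) (tt N7739 F56787) (tt N7595 F56788) (tt N7594 (iv D14382)) (tt N8495 F56789))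
theorem Q8497 : ∀ i, i < 8497 → P i := stepQ 8496 Q8496 (allL N8496 (tt N7598 F56790) (tt N9292 (iv F60012)) (tt N8923 (iv F58554)) (tt N7595 (iv D14383)) (tt N8922 F58552) (tt N7596 F56791) (tt N8796 (iv F58043)) (tt N9229 (iv F59734)) (tt N8496 F56792))
theorem Q8498 : ∀ i, i < 8498 → P i := stepQ 8497 Q8497 (allL N8497 (tt N7636 F56793) (tt N7688 F56794) (tt N8983 (iv F58854)) (tt N7602 (iv D14384)) (tt N7606 F56795) (tt N8316 F56796) (tt N7666 F56797) (tt N9237 (iv F59774)) (tt N9203 (iv F59639)))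
theorem Q8499 : ∀ i, i < 8499 → P i := stepQ 8498 Q8498 (allL N8498 (tt N7641 F56798) (tt N8498 F56799) (tt N8525 (iv F56949)) (tt N8987 (iv F58866)) (tt N8498 F56800) (tt N7604 F56801) (tt N8523 (iv F56941)) (tt N9297 D15184) (tt N7603 (iv D14385)))
theorem Q8500 : ∀ i, i < 8500 → P i := stepQ 8499 Q8499 (allL N8499 (tt N7642 F56802) (tt N8499 F56803) (tt N8452 F56804) (tt N9298 D15185) (tt N7605 F56805) (tt N9297 (iv F60031)) (tt N8033 F56806) (tt N7604 (iv D14386)) (tt N8499 F56807))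
theorem Q8501 : ∀ i, i < 8501 → P i := stepQ 8500 Q8500 (allL N8500 (tt N7643 F56808) (tt N7686 F56809) (tt N8997 (iv F58904)) (tt N7607 F56810) (tt N9299 D15186) (tt N7606 (iv D14387)) (tt N9300 D15187) (tt N9301 D15188) (tt N9202 (iv F59634)))
theorem Q8502 : ∀ i, i < 8502 → P i := stepQ 8501 Q8501 (allL N8501 (tt N7644 F56811) (tt N7684 F56812) (tt N8998 (iv F58907)) (tt N7610 F56813) (tt N9237 (iv F59772)) (tt N9301 (iv F60054)) (tt N7662 F56814) (tt N7606 (iv D14388)) (tt N9302 D15189))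
theorem Q8503 : ∀ i, i < 8503 → P i := stepQ 8502 Q8502 (allL N8502 (tt N7646 F56815) (tt N7685 F56816) (tt N7608 F56817) (tt N9300 (iv F60046)) (tt N8502 F56818) (tt N7663 F56819) (tt N7607 (iv D14389)) (tt N7611 F56820) (tt N9201 (iv F59630)))
theorem Q8504 : ∀ i, i < 8504 → P i := stepQ 8503 Q8503 (allL N8503 (tt N7649 F56821) (tt N7679 F56822) (tt N7615 F56823) (tt N8503 F56824) (tt N7609 (iv D14390)) (tt N8503 F56825) (tt N7787 F56828) (tt N7886 (iv F56827)) (tt N7653 F56826))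
theorem Q8505 : ∀ i, i < 8505 → P i := stepQ 8504 Q8504 (allL N8504 (tt N7650 F56829) (tt N7680 F56830) (tt N7616 F56831) (tt N7611 F56832) (tt N7787 F56833) (tt N7658 F56834) (tt N7609 (iv D14391)) (tt N7885 (iv F56836)) (tt N7654 F56835))
theorem Q8506 : ∀ i, i < 8506 → P i := stepQ 8505 Q8505 (allL N8505 (tt N7651 F56837) (tt N7682 F56838) (tt N7617 F56839) (tt N9301 (iv F60052)) (tt N7886 F56840) (tt N7610 F56841) (tt N7885 F56842) (tt N7609 (iv D14392)) (tt N9303 D15190))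
theorem Q8507 : ∀ i, i < 8507 → P i := stepQ 8506 Q8506 (allL N8506 (tt N7652 F56843) (tt N7683 F56844) (tt N7619 F56845) (tt N9302 (iv F60058)) (tt N8506 F56846) (tt N9303 (iv F60064)) (tt N7661 F56847) (tt N7656 F56848) (tt N7610 (iv D14393)))
theorem Q8508 : ∀ i, i < 8508 → P i := stepQ 8507 Q8507 (allL N8507 (tt N7653 F56849) (tt N8507 F56850) (tt N7657 F56851) (tt N8507 F56852) (tt N7612 (iv D14394)) (tt N8507 F56853) (tt N7724 (iv F56856)) (tt N7723 (iv F56855)) (tt N7649 F56854))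
theorem Q8509 : ∀ i, i < 8509 → P i := stepQ 8508 Q8508 (allL N8508 (tt N7654 F56857) (tt N8508 F56858) (tt N7658 F56859) (tt N7614 F56860) (tt N7724 F56861) (tt N7616 F56862) (tt N7612 (iv D14395)) (tt N7722 (iv F56864)) (tt N7650 F56863))
theorem Q8510 : ∀ i, i < 8510 → P i := stepQ 8509 Q8509 (allL N8509 (tt N7655 F56865) (tt N8509 F56866) (tt N7660 F56867) (tt N9042 (iv F59063)) (tt N7723 F56868) (tt N7613 F56869) (tt N7722 F56870) (tt N7612 (iv D14396)) (tt N9304 D15191))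
theorem Q8511 : ∀ i, i < 8511 → P i := stepQ 8510 Q8510 (allL N8510 (tt N7656 F56871) (tt N8510 F56872) (tt N7661 F56873) (tt N9044 (iv F59073)) (tt N8510 F56874) (tt N9304 (iv F60071)) (tt N7619 F56875) (tt N7652 F56876) (tt N7613 (iv D14397)))
theorem Q8512 : ∀ i, i < 8512 → P i := stepQ 8511 Q8511 (allL N8511 (tt N7659 F56877) (tt N8511 F56878) (tt N9303 (iv F60062)) (tt N9049 (iv F59096)) (tt N8225 F56879) (tt N7619 F56880) (tt N8224 F56881) (tt N9107 (iv F59330)) (tt N7617 (iv D14398)))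
theorem Q8513 : ∀ i, i < 8513 → P i := stepQ 8512 Q8512 (allL N8512 (tt N7661 F56882) (tt N8512 F56883) (tt N7656 F56884) (tt N9305 D15192) (tt N8512 F56885) (tt N9107 (iv F59328)) (tt N7652 F56886) (tt N7619 (iv D14399)) (tt N7620 F56887))
theorem Q8514 : ∀ i, i < 8514 → P i := stepQ 8513 Q8513 (allL N8513 (tt N7662 F56888) (tt N8513 F56889) (tt N9133 (iv F59413)) (tt N7620 (iv D14400)) (tt N9234 (iv F59756)) (tt N8945 F58685) (tt N7644 F56890) (tt N7623 F56891) (tt N9305 (iv F60077)))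
theorem Q8515 : ∀ i, i < 8515 → P i := stepQ 8514 Q8514 (allL N8514 (tt N7663 F56892) (tt N8514 F56893) (tt N7625 F56894) (tt N9102 (iv F59304)) (tt N7628 F56895) (tt N7646 F56896) (tt N7622 F56897) (tt N7621 (iv D14401)) (tt N9053 (iv F59116)))
theorem Q8516 : ∀ i, i < 8516 → P i := stepQ 8515 Q8515 (allL N8515 (tt N7664 F56898) (tt N8515 F56899) (tt N9132 (iv F59408)) (tt N7622 (iv D14402)) (tt N8152 F56900) (tt N7623 F56901) (tt N9102 (iv F59307)) (tt N8945 (iv F58684)) (tt N9054 (iv F59121)))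
theorem Q8517 : ∀ i, i < 8517 → P i := stepQ 8516 Q8516 (allL N8516 (tt N7666 F56902) (tt N8516 F56903) (tt N9112 (iv F59344)) (tt N7624 F56904) (tt N7623 (iv D14403)) (tt N8155 F56905) (tt N7636 F56906) (tt N9234 (iv F59757)) (tt N9056 (iv F59132)))
theorem Q8518 : ∀ i, i < 8518 → P i := stepQ 8517 Q8517 (allL N8517 (tt N8020 F56907) (tt N7674 F56908) (tt N7875 F56909) (tt N9306 D15193) (tt N7630 F56910) (tt N8464 F56911) (tt N7881 F56912) (tt N7629 (iv D14404)) (tt N8517 F56913))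
theorem Q8519 : ∀ i, i < 8519 → P i := stepQ 8518 Q8518 (allL N8518 (tt N7959 F56914) (tt N8518 F56915) (tt N7847 F56916) (tt N9104 (iv F59314)) (tt N8297 F56917) (tt N7632 F56918) (tt N8153 F56919) (tt N8118 F56920) (tt N7631 (iv D14405)))
theorem Q8520 : ∀ i, i < 8520 → P i := stepQ 8519 Q8519 (allL N8519 (tt N8033 F56921) (tt N7675 F56922) (tt N8590 (iv F57191)) (tt N9307 D15194) (tt N7635 F56923) (tt N7781 F56924) (tt N7642 F56925) (tt N7634 (iv D14406)) (tt N8519 F56926))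
theorem Q8521 : ∀ i, i < 8521 → P i := stepQ 8520 Q8520 (allL N8520 (tt N8316 F56927) (tt N8520 F56928) (tt N9122 (iv F59382)) (tt N7637 F56929) (tt N9308 D15195) (tt N7636 (iv D14407)) (tt N8160 F56930) (tt N9309 D15196) (tt N9310 D15197))
theorem Q8522 : ∀ i, i < 8522 → P i := stepQ 8521 Q8521 (allL N8521 (tt N9237 (iv F59769)) (tt N8521 F56931) (tt N9123 (iv F59385)) (tt N8521 F56932) (tt N7644 F56933) (tt N9309 (iv F60100)) (tt N9234 F59758) (tt N7636 (iv D14408)) (tt N9311 D15198))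
theorem Q8523 : ∀ i, i < 8523 → P i := stepQ 8522 Q8522 (allL N8522 (tt N9203 (iv F59635)) (tt N8522 F56934) (tt N9124 (iv F59387)) (tt N7638 F56935) (tt N7645 F56936) (tt N9310 (iv F60105)) (tt N9056 (iv F59131)) (tt N9312 D15199) (tt N7636 (iv D14409)))
theorem Q8524 : ∀ i, i < 8524 → P i := stepQ 8523 Q8523 (allL N8523 (tt N8525 (iv F56947)) (tt N8523 F56937) (tt N7641 F56938) (tt N9310 (iv F60104)) (tt N8523 F56939) (tt N7638 F56940) (tt N8498 F56941) (tt N9313 D15200) (tt N7637 (iv D14410)))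
theorem Q8525 : ∀ i, i < 8525 → P i := stepQ 8524 Q8524 (allL N8524 (tt N8452 F56942) (tt N8524 F56943) (tt N7642 F56944) (tt N9314 D15201) (tt N7639 F56945) (tt N9313 (iv F60116)) (tt N8590 (iv F57193)) (tt N7638 (iv D14411)) (tt N8524 F56946))
theorem Q8526 : ∀ i, i < 8526 → P i := stepQ 8525 Q8525 (allL N8525 (tt N8523 F56947) (tt N7676 F56948) (tt N8498 F56949) (tt N9129 (iv F59400)) (tt N8525 F56950) (tt N8379 F56951) (tt N7641 F56952) (tt N9265 (iv F59890)) (tt N7640 (iv D14412)))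
theorem Q8527 : ∀ i, i < 8527 → P i := stepQ 8526 Q8526 (allL N8526 (tt N9297 (iv F60027)) (tt N7677 F56953) (tt N9313 (iv F60114)) (tt N9315 D15202) (tt N8526 F56954) (tt N7642 F56955) (tt N9265 (iv F59889)) (tt N7641 (iv D14413)) (tt N8526 F56956))
theorem Q8528 : ∀ i, i < 8528 → P i := stepQ 8527 Q8527 (allL N8527 (tt N9298 (iv F60033)) (tt N7678 F56957) (tt N9316 D15203) (tt N7642 (iv D14414)) (tt N9306 (iv F60080)) (tt N9315 (iv F60124)) (tt N9307 (iv F60088)) (tt N9131 (iv F59405)) (tt N8527 F56958))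
theorem Q8529 : ∀ i, i < 8529 → P i := stepQ 8528 Q8528 (allL N8528 (tt N9299 (iv F60038)) (tt N8528 F56959) (tt N9144 (iv F59452)) (tt N8528 F56960) (tt N7643 (iv D14415)) (tt N9308 (iv F60093)) (tt N8026 F56965) (tt N8025 (iv F56966)) (tt N9317 D15204))
theorem Q8530 : ∀ i, i < 8530 → P i := stepQ 8529 Q8529 (allL N8529 (tt N9300 (iv F60044)) (tt N8529 F56961) (tt N9145 (iv F59455)) (tt N7646 F56962) (tt N8026 (iv F56964)) (tt N9102 (iv F59306)) (tt N7643 (iv D14416)) (tt N8024 (iv F56963)) (tt N9318 D15205))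
theorem Q8531 : ∀ i, i < 8531 → P i := stepQ 8530 Q8530 (allL N8530 (tt N9301 (iv F60050)) (tt N8530 F56967) (tt N9146 (iv F59459)) (tt N7651 F56968) (tt N8025 F56969) (tt N7644 F56970) (tt N8024 F56971) (tt N7643 (iv D14417)) (tt N9319 D15206))
theorem Q8532 : ∀ i, i < 8532 → P i := stepQ 8531 Q8531 (allL N8531 (tt N9202 (iv F59631)) (tt N8531 F56972) (tt N9147 (iv F59464)) (tt N7647 F56973) (tt N9317 (iv F60129)) (tt N7645 F56974) (tt N9318 (iv F60134)) (tt N9320 D15207) (tt N7643 (iv D14418)))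
theorem Q8533 : ∀ i, i < 8533 → P i := stepQ 8532 Q8532 (allL N8532 (tt N9302 (iv F60056)) (tt N8532 F56975) (tt N9148 (iv F59467)) (tt N7652 F56976) (tt N9311 (iv F60109)) (tt N9319 (iv F60138)) (tt N9305 (iv F60076)) (tt N9321 D15208) (tt N7644 (iv D14419)))
theorem Q8534 : ∀ i, i < 8534 → P i := stepQ 8533 Q8533 (allL N8533 (tt N9200 (iv F59620)) (tt N8533 F56977) (tt N9149 (iv F59469)) (tt N9045 (iv F59077)) (tt N9312 (iv F60111)) (tt N9320 (iv F60141)) (tt N9052 (iv F59108)) (tt N7645 (iv D14420)) (tt N9321 (iv F60143)))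
theorem Q8535 : ∀ i, i < 8535 → P i := stepQ 8534 Q8534 (allL N8534 (tt N9201 (iv F59624)) (tt N8534 F56978) (tt N7648 F56979) (tt N9318 (iv F60132)) (tt N8534 F56980) (tt N9053 (iv F59114)) (tt N7647 F56981) (tt N9046 (iv F59085)) (tt N7646 (iv D14421)))
theorem Q8536 : ∀ i, i < 8536 → P i := stepQ 8535 Q8535 (allL N8535 (tt N9303 (iv F60060)) (tt N8535 F56982) (tt N7659 F56983) (tt N9319 (iv F60136)) (tt N8038 F56984) (tt N7652 F56985) (tt N8037 F56986) (tt N9304 (iv F60073)) (tt N7651 (iv D14422)))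
theorem Q8537 : ∀ i, i < 8537 → P i := stepQ 8536 Q8536 (allL N8536 (tt N9304 (iv F60067)) (tt N7681 F56987) (tt N9107 (iv F59326)) (tt N9197 (iv F59611)) (tt N7786 F56988) (tt N7656 F56989) (tt N7785 F56990) (tt N9303 (iv F60066)) (tt N7655 (iv D14423)))
theorem Q8538 : ∀ i, i < 8538 → P i := stepQ 8537 Q8537 (allL N8537 (tt N9107 (iv F59324)) (tt N7692 F56991) (tt N9304 (iv F60069)) (tt N8947 (iv F58692)) (tt N8394 F56992) (tt N7661 F56993) (tt N8393 F56994) (tt N7659 (iv D14424)) (tt N7660 F56995))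
theorem Q8539 : ∀ i, i < 8539 → P i := stepQ 8538 Q8538 (allL N8538 (tt N9305 (iv F60074)) (tt N7693 F56996) (tt N9322 D15209) (tt N7661 (iv D14425)) (tt N9238 (iv F59777)) (tt N8947 (iv F58694)) (tt N9302 (iv F60059)) (tt N9208 (iv F59656)) (tt N7662 F56997))
theorem Q8540 : ∀ i, i < 8540 → P i := stepQ 8539 Q8539 (allL N8539 (tt N9133 (iv F59411)) (tt N8806 (iv F58080)) (tt N7662 (iv D14426)) (tt N9012 (iv F58959)) (tt N9119 (iv F59372)) (tt N8803 F58073) (tt N8998 (iv F58909)) (tt N7665 F56998) (tt N9322 (iv F60144)))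
theorem Q8541 : ∀ i, i < 8541 → P i := stepQ 8540 Q8540 (allL N8540 (tt N9102 (iv F59302)) (tt N7694 F56999) (tt N8724 (iv F57670)) (tt N7663 (iv D14427)) (tt N7958 F57000) (tt N9300 (iv F60048)) (tt N7664 F57001) (tt N8939 (iv F58653)) (tt N9211 (iv F59665)))
theorem Q8542 : ∀ i, i < 8542 → P i := stepQ 8541 Q8541 (allL N8541 (tt N9132 (iv F59406)) (tt N8268 F57002) (tt N7664 (iv D14428)) (tt N7667 F57003) (tt N8267 F57004) (tt N7665 F57005) (tt N8724 (iv F57671)) (tt N8803 (iv F58072)) (tt N9212 (iv F59670)))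
theorem Q8543 : ∀ i, i < 8543 → P i := stepQ 8542 Q8542 (allL N8542 (tt N8842 (iv F58232)) (tt N7665 (iv D14429)) (tt N7695 F57006) (tt N7668 F57007) (tt N8616 (iv F57274)) (tt N8268 F57008) (tt N8994 (iv F58895)) (tt N8806 (iv F58083)) (tt N9213 (iv F59674)))
theorem Q8544 : ∀ i, i < 8544 → P i := stepQ 8543 Q8543 (allL N8543 (tt N9112 (iv F59342)) (tt N8616 (iv F57272)) (tt N7666 F57009) (tt N8976 (iv F58828)) (tt N7665 (iv D14430)) (tt N8305 F57010) (tt N8983 (iv F58856)) (tt N9119 (iv F59373)) (tt N9214 (iv F59677)))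
theorem Q8545 : ∀ i, i < 8545 → P i := stepQ 8544 Q8544 (allL N8544 (tt N8544 F57011) (tt N7880 F57012) (tt N7836 F57013) (tt N9230 (iv F59737)) (tt N7830 F57014) (tt N7671 F57015) (tt N8475 F57016) (tt N7833 (iv F57017)) (tt N7670 (iv D14431)))
theorem Q8546 : ∀ i, i < 8546 → P i := stepQ 8545 Q8545 (allL N8545 (tt N8545 F57018) (tt N7881 F57019) (tt N7837 F57020) (tt N9323 D15210) (tt N7672 F57021) (tt N7833 F57022) (tt N7674 F57023) (tt N7671 (iv D14432)) (tt N8545 F57024))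
theorem Q8547 : ∀ i, i < 8547 → P i := stepQ 8546 Q8546 (allL N8546 (tt N8546 F57025) (tt N9306 (iv F60079)) (tt N8460 F57026) (tt N7674 (iv D14433)) (tt N7678 F57027) (tt N8461 F57028) (tt N9323 (iv F60150)) (tt N9232 (iv F59747)) (tt N8546 F57029))
theorem Q8548 : ∀ i, i < 8548 → P i := stepQ 8547 Q8547 (allL N8547 (tt N8547 F57030) (tt N9307 (iv F60085)) (tt N9324 D15211) (tt N7675 (iv D14434)) (tt N9323 (iv F60148)) (tt N7822 F57031) (tt N7678 F57032) (tt N9233 (iv F59752)) (tt N8547 F57033))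
theorem Q8549 : ∀ i, i < 8549 → P i := stepQ 8548 Q8548 (allL N8548 (tt N8548 F57034) (tt N9315 (iv F60123)) (tt N9325 D15212) (tt N7677 (iv D14435)) (tt N9326 D15213) (tt N7678 F57035) (tt N9276 (iv F59937)) (tt N9244 (iv F59802)) (tt N8548 F57036))
theorem Q8550 : ∀ i, i < 8550 → P i := stepQ 8549 Q8549 (allL N8549 (tt N8549 F57037) (tt N9327 D15214) (tt N7678 (iv D14436)) (tt N8549 F57038) (tt N8460 F57039) (tt N9325 (iv F60160)) (tt N9324 (iv F60156)) (tt N9245 (iv F59804)) (tt N8549 F57040))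
theorem Q8551 : ∀ i, i < 8551 → P i := stepQ 8550 Q8550 (allL N8550 (tt N8550 F57041) (tt N7886 F57042) (tt N8550 F57043) (tt N7838 (iv F57048)) (tt N7682 F57044) (tt N8550 F57045) (tt N7829 F57046) (tt N7679 (iv D14437)) (tt N7828 F57047))
theorem Q8552 : ∀ i, i < 8552 → P i := stepQ 8551 Q8551 (allL N8551 (tt N8551 F57049) (tt N7885 F57050) (tt N8551 F57051) (tt N8941 (iv F58662)) (tt N7829 F57052) (tt N7691 F57053) (tt N7682 F57054) (tt N7680 (iv D14438)) (tt N7827 F57055))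
theorem Q8553 : ∀ i, i < 8553 → P i := stepQ 8552 Q8552 (allL N8552 (tt N8552 F57056) (tt N9303 (iv F60061)) (tt N8552 F57057) (tt N9328 D15215) (tt N7828 F57058) (tt N7683 F57059) (tt N7827 F57060) (tt N7681 (iv D14439)) (tt N7682 F57061))
theorem Q8554 : ∀ i, i < 8554 → P i := stepQ 8553 Q8553 (allL N8553 (tt N8553 F57062) (tt N9301 (iv F60051)) (tt N8557 (iv F57079)) (tt N7682 (iv D14440)) (tt N8556 F57077) (tt N7684 F57063) (tt N8941 (iv F58664)) (tt N7686 F57064) (tt N9328 (iv F60176)))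
theorem Q8555 : ∀ i, i < 8555 → P i := stepQ 8554 Q8554 (allL N8554 (tt N8554 F57065) (tt N9302 (iv F60057)) (tt N8950 (iv F58704)) (tt N7683 (iv D14441)) (tt N9240 (iv F59786)) (tt N9328 (iv F60174)) (tt N7693 F57066) (tt N9281 (iv F59962)) (tt N7684 F57067))
theorem Q8556 : ∀ i, i < 8556 → P i := stepQ 8555 Q8555 (allL N8555 (tt N8555 F57068) (tt N9300 (iv F60045)) (tt N8420 F57069) (tt N7685 (iv D14442)) (tt N8106 (iv F57072)) (tt N7694 F57070) (tt N7686 F57071) (tt N8941 (iv F58665)) (tt N9284 (iv F59977)))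
theorem Q8557 : ∀ i, i < 8557 → P i := stepQ 8556 Q8556 (allL N8556 (tt N8556 F57073) (tt N8740 (iv F57734)) (tt N7686 (iv D14443)) (tt N7689 F57074) (tt N8553 (iv F57077)) (tt N7687 F57075) (tt N8420 F57076) (tt N8557 (iv F57083)) (tt N9285 (iv F59983)))
theorem Q8558 : ∀ i, i < 8558 → P i := stepQ 8557 Q8557 (allL N8557 (tt N8557 F57078) (tt N9299 (iv F60039)) (tt N8553 F57079) (tt N8557 F57080) (tt N7686 (iv D14444)) (tt N8114 F57081) (tt N8106 F57082) (tt N8556 F57083) (tt N9286 (iv F59988)))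
theorem Q8559 : ∀ i, i < 8559 → P i := stepQ 8558 Q8558 (allL N8558 (tt N8875 (iv F58335)) (tt N7687 (iv D14445)) (tt N8994 (iv F58894)) (tt N7690 F57084) (tt N8619 (iv F57282)) (tt N8740 (iv F57736)) (tt N7695 F57085) (tt N8809 (iv F58091)) (tt N9287 (iv F59991)))
theorem Q8560 : ∀ i, i < 8560 → P i := stepQ 8559 Q8559 (allL N8559 (tt N8975 (iv F58822)) (tt N7696 (iv D14446)) (tt N8559 F57086) (tt N7699 F57087) (tt N9329 D15216) (tt N8834 (iv F58193)) (tt N8980 (iv F58846)) (tt N8157 F57088) (tt N9330 D15217))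
theorem Q8561 : ∀ i, i < 8561 → P i := stepQ 8560 Q8560 (allL N8560 (tt N7751 F57089) (tt N9329 (iv F60178)) (tt N7697 F57090) (tt N9331 D15218) (tt N7696 (iv D14447)) (tt N9332 D15219) (tt N9116 (iv F59360)) (tt N8158 F57091) (tt N9333 D15220))
theorem Q8562 : ∀ i, i < 8562 → P i := stepQ 8561 Q8561 (allL N8561 (tt N7752 F57092) (tt N9330 (iv F60181)) (tt N7698 F57093) (tt N7701 F57094) (tt N9333 (iv F60196)) (tt N8953 (iv F58720)) (tt N9117 (iv F59365)) (tt N9334 D15221) (tt N7696 (iv D14448)))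
theorem Q8563 : ∀ i, i < 8563 → P i := stepQ 8562 Q8562 (allL N8562 (tt N7753 F57095) (tt N8562 F57096) (tt N9332 (iv F60190)) (tt N8562 F57097) (tt N8016 F57098) (tt N7697 (iv D14449)) (tt N9309 (iv F60101)) (tt N8160 F57099) (tt N9335 D15222))
theorem Q8564 : ∀ i, i < 8564 → P i := stepQ 8563 Q8563 (allL N8563 (tt N7754 F57100) (tt N8563 F57101) (tt N9333 (iv F60195)) (tt N8563 F57102) (tt N7698 F57103) (tt N9335 (iv F60204)) (tt N9235 (iv F59763)) (tt N9336 D15223) (tt N7697 (iv D14450)))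
theorem Q8565 : ∀ i, i < 8565 → P i := stepQ 8564 Q8564 (allL N8564 (tt N7755 F57104) (tt N8564 F57105) (tt N9334 (iv F60198)) (tt N8695 (iv F57527)) (tt N9336 (iv F60207)) (tt N8954 (iv F58726)) (tt N9236 (iv F59767)) (tt N7698 (iv D14451)) (tt N8162 F57106))
theorem Q8566 : ∀ i, i < 8566 → P i := stepQ 8565 Q8565 (allL N8565 (tt N8991 (iv F58879)) (tt N7701 F57107) (tt N7730 F57108) (tt N9330 (iv F60183)) (tt N8845 (iv F58248)) (tt N8835 (iv F58199)) (tt N8993 (iv F58892)) (tt N9337 D15224) (tt N7699 (iv D14452)))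
theorem Q8567 : ∀ i, i < 8567 → P i := stepQ 8566 Q8566 (allL N8566 (tt N7756 F57109) (tt N8842 (iv F58233)) (tt N8566 F57110) (tt N7700 (iv D14453)) (tt N9331 (iv F60186)) (tt N8839 (iv F58220)) (tt N9135 (iv F59421)) (tt N9338 D15225) (tt N9339 D15226))
theorem Q8568 : ∀ i, i < 8568 → P i := stepQ 8567 Q8567 (allL N8567 (tt N7758 F57111) (tt N8845 (iv F58246)) (tt N7702 F57112) (tt N9339 (iv F60217)) (tt N7701 F57113) (tt N8840 (iv F58226)) (tt N9136 (iv F59425)) (tt N9340 D15227) (tt N7700 (iv D14454)))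
theorem Q8569 : ∀ i, i < 8569 → P i := stepQ 8568 Q8568 (allL N8568 (tt N7759 F57114) (tt N9337 (iv F60209)) (tt N7703 F57115) (tt N9341 D15228) (tt N9340 (iv F60220)) (tt N8955 (iv F58732)) (tt N9137 (iv F59428)) (tt N7701 (iv D14455)) (tt N7709 F57116))
theorem Q8570 : ∀ i, i < 8570 → P i := stepQ 8569 Q8569 (allL N8569 (tt N7761 F57117) (tt N7732 F57118) (tt N9340 (iv F60219)) (tt N9342 D15229) (tt N7703 F57119) (tt N8907 (iv F58479)) (tt N9216 (iv F59686)) (tt N7702 (iv D14456)) (tt N7711 F57120))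
theorem Q8571 : ∀ i, i < 8571 → P i := stepQ 8570 Q8570 (allL N8570 (tt N9008 (iv F58941)) (tt N7706 F57121) (tt N8570 F57122) (tt N7704 (iv D14457)) (tt N8191 F57123) (tt N8815 (iv F58117)) (tt N9018 (iv F58984)) (tt N9343 D15230) (tt N9344 D15231))
theorem Q8572 : ∀ i, i < 8572 → P i := stepQ 8571 Q8571 (allL N8571 (tt N9009 (iv F58945)) (tt N7708 F57124) (tt N7733 F57125) (tt N9344 (iv F60233)) (tt N7705 F57126) (tt N8816 (iv F58122)) (tt N9019 (iv F58989)) (tt N9345 D15232) (tt N7704 (iv D14458)))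
theorem Q8573 : ∀ i, i < 8573 → P i := stepQ 8572 Q8572 (allL N8572 (tt N9010 (iv F58950)) (tt N7709 F57127) (tt N7734 F57128) (tt N9346 D15233) (tt N9345 (iv F60237)) (tt N8959 (iv F58752)) (tt N9020 (iv F58993)) (tt N7705 (iv D14459)) (tt N9337 (iv F60211)))
theorem Q8574 : ∀ i, i < 8574 → P i := stepQ 8573 Q8573 (allL N8573 (tt N7762 F57129) (tt N8815 (iv F58115)) (tt N7712 F57130) (tt N7707 F57131) (tt N9347 D15234) (tt N7706 (iv D14460)) (tt N8820 (iv F58140)) (tt N9348 D15235) (tt N9349 D15236))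
theorem Q8575 : ∀ i, i < 8575 → P i := stepQ 8574 Q8574 (allL N8574 (tt N7763 F57132) (tt N9343 (iv F60228)) (tt N7713 F57133) (tt N9338 (iv F60214)) (tt N8196 F57134) (tt N9348 (iv F60245)) (tt N9167 (iv F59525)) (tt N7706 (iv D14461)) (tt N9350 D15237))
theorem Q8576 : ∀ i, i < 8576 → P i := stepQ 8575 Q8575 (allL N8575 (tt N7764 F57135) (tt N9344 (iv F60231)) (tt N7714 F57136) (tt N7708 F57137) (tt N8197 F57138) (tt N9349 (iv F60249)) (tt N9168 (iv F59530)) (tt N9351 D15238) (tt N7706 (iv D14462)))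
theorem Q8577 : ∀ i, i < 8577 → P i := stepQ 8576 Q8576 (allL N8576 (tt N7766 F57139) (tt N8816 (iv F58119)) (tt N7710 F57140) (tt N9349 (iv F60248)) (tt N8814 (iv F58112)) (tt N7708 F57141) (tt N8822 (iv F58151)) (tt N9352 D15239) (tt N7707 (iv D14463)))
theorem Q8578 : ∀ i, i < 8578 → P i := stepQ 8577 Q8577 (allL N8577 (tt N7767 F57142) (tt N9345 (iv F60235)) (tt N7711 F57143) (tt N9353 D15240) (tt N7709 F57144) (tt N9352 (iv F60258)) (tt N9170 (iv F59537)) (tt N7708 (iv D14464)) (tt N9340 (iv F60221)))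
theorem Q8579 : ∀ i, i < 8579 → P i := stepQ 8578 Q8578 (allL N8578 (tt N7768 F57145) (tt N9346 (iv F60238)) (tt N8734 (iv F57709)) (tt N7709 (iv D14465)) (tt N9354 D15241) (tt N8962 (iv F58765)) (tt N9171 (iv F59539)) (tt N8201 F57146) (tt N9341 (iv F60223)))
theorem Q8580 : ∀ i, i < 8580 → P i := stepQ 8579 Q8579 (allL N8579 (tt N7770 F57147) (tt N7737 F57148) (tt N9352 (iv F60257)) (tt N9355 D15242) (tt N8895 (iv F58408)) (tt N7711 F57149) (tt N8899 (iv F58433)) (tt N7710 (iv D14466)) (tt N8907 (iv F58481)))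
theorem Q8581 : ∀ i, i < 8581 → P i := stepQ 8580 Q8580 (allL N8580 (tt N7771 F57150) (tt N7738 F57151) (tt N9356 D15243) (tt N7711 (iv D14467)) (tt N8737 (iv F57723)) (tt N9355 (iv F60264)) (tt N9221 (iv F59704)) (tt N7721 F57152) (tt N9342 (iv F60227)))
theorem Q8582 : ∀ i, i < 8582 → P i := stepQ 8581 Q8581 (allL N8581 (tt N7772 F57153) (tt N8581 F57154) (tt N9347 (iv F60241)) (tt N7722 F57155) (tt N7712 (iv D14468)) (tt N8211 F57156) (tt N9042 (iv F59066)) (tt N9041 F59060) (tt N9357 D15244))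
theorem Q8583 : ∀ i, i < 8583 → P i := stepQ 8582 Q8582 (allL N8582 (tt N7773 F57157) (tt N8582 F57158) (tt N8820 (iv F58139)) (tt N7715 F57159) (tt N9042 (iv F59064)) (tt N9247 (iv F59812)) (tt N7712 (iv D14469)) (tt N9040 F59054) (tt N9358 D15245))
theorem Q8584 : ∀ i, i < 8584 → P i := stepQ 8583 Q8583 (allL N8583 (tt N7774 F57160) (tt N8583 F57161) (tt N9348 (iv F60244)) (tt N8583 F57162) (tt N9041 (iv F59058)) (tt N7713 F57163) (tt N9040 F59053) (tt N7712 (iv D14470)) (tt N9359 D15246))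
theorem Q8585 : ∀ i, i < 8585 → P i := stepQ 8584 Q8584 (allL N8584 (tt N7775 F57164) (tt N8584 F57165) (tt N9349 (iv F60247)) (tt N7716 F57166) (tt N9357 (iv F60271)) (tt N7714 F57167) (tt N9358 (iv F60276)) (tt N9360 D15247) (tt N7712 (iv D14471)))
theorem Q8586 : ∀ i, i < 8586 → P i := stepQ 8585 Q8585 (allL N8585 (tt N7776 F57168) (tt N8585 F57169) (tt N9350 (iv F60251)) (tt N8585 F57170) (tt N8215 F57171) (tt N9359 (iv F60280)) (tt N9250 (iv F59828)) (tt N9361 D15248) (tt N7713 (iv D14472)))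
theorem Q8587 : ∀ i, i < 8587 → P i := stepQ 8586 Q8586 (allL N8586 (tt N7777 F57172) (tt N8586 F57173) (tt N9351 (iv F60254)) (tt N9362 D15249) (tt N8216 F57174) (tt N9360 (iv F60283)) (tt N9251 (iv F59832)) (tt N7714 (iv D14473)) (tt N9361 (iv F60287)))
theorem Q8588 : ∀ i, i < 8588 → P i := stepQ 8587 Q8587 (allL N8587 (tt N7778 F57175) (tt N8587 F57176) (tt N7719 F57177) (tt N9358 (iv F60275)) (tt N7726 F57178) (tt N9252 (iv F59837)) (tt N7716 F57179) (tt N9363 D15250) (tt N7715 (iv D14474)))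
theorem Q8589 : ∀ i, i < 8589 → P i := stepQ 8588 Q8588 (allL N8588 (tt N7779 F57180) (tt N8588 F57181) (tt N7720 F57182) (tt N9364 D15251) (tt N7727 F57183) (tt N7717 F57184) (tt N9363 (iv F60295)) (tt N7716 (iv D14475)) (tt N8588 F57185))
theorem Q8590 : ∀ i, i < 8590 → P i := stepQ 8589 Q8589 (allL N8589 (tt N7780 F57186) (tt N8589 F57187) (tt N9365 D15252) (tt N7717 (iv D14476)) (tt N9366 D15253) (tt N9364 (iv F60300)) (tt N9254 (iv F59847)) (tt N9362 (iv F60290)) (tt N8589 F57188))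
theorem Q8591 : ∀ i, i < 8591 → P i := stepQ 8590 Q8590 (allL N8590 (tt N7781 F57189) (tt N8590 F57190) (tt N8519 F57191) (tt N9366 (iv F60307)) (tt N7718 (iv D14477)) (tt N8033 F57192) (tt N8524 F57193) (tt N8220 F57194) (tt N8590 F57195))
theorem Q8592 : ∀ i, i < 8592 → P i := stepQ 8591 Q8591 (allL N8591 (tt N7782 F57196) (tt N7739 F57197) (tt N9363 (iv F60293)) (tt N8971 (iv F58806)) (tt N7728 F57198) (tt N9291 (iv F60008)) (tt N7720 F57199) (tt N7719 (iv D14478)) (tt N8591 F57200))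
theorem Q8593 : ∀ i, i < 8593 → P i := stepQ 8592 Q8592 (allL N8592 (tt N7783 F57201) (tt N7740 F57202) (tt N9367 D15254) (tt N7720 (iv D14479)) (tt N8968 (iv F58791)) (tt N7721 F57203) (tt N8971 (iv F58807)) (tt N9355 (iv F60265)) (tt N8592 F57204))
theorem Q8594 : ∀ i, i < 8594 → P i := stepQ 8593 Q8593 (allL N8593 (tt N7784 F57205) (tt N9368 D15255) (tt N7721 (iv D14480)) (tt N9365 (iv F60303)) (tt N8748 (iv F57765)) (tt N9367 (iv F60312)) (tt N9293 (iv F60016)) (tt N9356 (iv F60267)) (tt N8593 F57206))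
theorem Q8595 : ∀ i, i < 8595 → P i := stepQ 8594 Q8594 (allL N8594 (tt N7785 F57207) (tt N8594 F57208) (tt N8393 F57209) (tt N9357 (iv F60270)) (tt N7725 F57210) (tt N8224 F57211) (tt N9304 (iv F60072)) (tt N8037 F57212) (tt N7722 (iv D14481)))
theorem Q8596 : ∀ i, i < 8596 → P i := stepQ 8595 Q8595 (allL N8595 (tt N7786 F57213) (tt N8595 F57214) (tt N8394 F57215) (tt N7726 F57216) (tt N9304 (iv F60070)) (tt N8595 F57217) (tt N7725 F57218) (tt N8038 F57219) (tt N7723 (iv D14482)))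
theorem Q8597 : ∀ i, i < 8597 → P i := stepQ 8596 Q8596 (allL N8596 (tt N7789 F57220) (tt N8596 F57221) (tt N7728 F57222) (tt N8039 F57223) (tt N9363 (iv F60294)) (tt N8596 F57224) (tt N7727 F57225) (tt N7726 (iv D14483)) (tt N8596 F57226))
theorem Q8598 : ∀ i, i < 8598 → P i := stepQ 8597 Q8597 (allL N8597 (tt N9058 (iv F59137)) (tt N7731 F57227) (tt N9337 (iv F60210)) (tt N9369 D15256) (tt N8849 (iv F58263)) (tt N8837 (iv F58207)) (tt N9060 (iv F59149)) (tt N7730 (iv D14484)) (tt N7734 F57228))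
theorem Q8599 : ∀ i, i < 8599 → P i := stepQ 8598 Q8598 (allL N8598 (tt N7744 F57229) (tt N9369 (iv F60316)) (tt N8757 (iv F57815)) (tt N7731 (iv D14485)) (tt N9370 D15257) (tt N8905 (iv F58465)) (tt N9079 (iv F59219)) (tt N8598 F57230) (tt N7736 F57231))
theorem Q8600 : ∀ i, i < 8600 → P i := stepQ 8599 Q8599 (allL N8599 (tt N7745 F57232) (tt N9342 (iv F60225)) (tt N9371 D15258) (tt N7732 (iv D14486)) (tt N8759 (iv F57826)) (tt N8908 (iv F58484)) (tt N9227 (iv F59722)) (tt N8599 F57233) (tt N7738 F57234))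
theorem Q8601 : ∀ i, i < 8601 → P i := stepQ 8600 Q8600 (allL N8600 (tt N9064 (iv F59163)) (tt N7735 F57235) (tt N9345 (iv F60236)) (tt N9372 D15259) (tt N7734 F57236) (tt N8818 (iv F58129)) (tt N9068 (iv F59185)) (tt N7733 (iv D14487)) (tt N8849 (iv F58265)))
theorem Q8602 : ∀ i, i < 8602 → P i := stepQ 8601 Q8601 (allL N8601 (tt N9065 (iv F59168)) (tt N7736 F57237) (tt N9373 D15260) (tt N7734 (iv D14488)) (tt N9374 D15261) (tt N8967 (iv F58787)) (tt N9069 (iv F59188)) (tt N7742 F57238) (tt N9369 (iv F60318)))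
theorem Q8603 : ∀ i, i < 8603 → P i := stepQ 8602 Q8602 (allL N8602 (tt N7746 F57239) (tt N9372 (iv F60325)) (tt N9375 D15262) (tt N7735 (iv D14489)) (tt N9376 D15263) (tt N8896 (iv F58414)) (tt N9080 (iv F59223)) (tt N8602 F57240) (tt N8910 (iv F58499)))
theorem Q8604 : ∀ i, i < 8604 → P i := stepQ 8603 Q8603 (allL N8603 (tt N7747 F57241) (tt N9374 (iv F60328)) (tt N8773 (iv F57899)) (tt N9376 (iv F60334)) (tt N7736 (iv D14490)) (tt N9377 D15264) (tt N8920 (iv F58543)) (tt N7743 F57242) (tt N9370 (iv F60321)))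
theorem Q8605 : ∀ i, i < 8605 → P i := stepQ 8604 Q8604 (allL N8604 (tt N7748 F57243) (tt N9355 (iv F60263)) (tt N9067 (iv F59178)) (tt N7737 (iv D14491)) (tt N8965 (iv F58779)) (tt N7738 F57244) (tt N8901 (iv F58443)) (tt N7740 F57245) (tt N8908 (iv F58487)))
theorem Q8606 : ∀ i, i < 8606 → P i := stepQ 8605 Q8605 (allL N8605 (tt N7749 F57246) (tt N9378 D15265) (tt N7738 (iv D14492)) (tt N9375 (iv F60331)) (tt N8776 (iv F57918)) (tt N9067 (iv F59179)) (tt N9225 (iv F59716)) (tt N7741 F57247) (tt N9371 (iv F60324)))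
theorem Q8607 : ∀ i, i < 8607 → P i := stepQ 8606 Q8606 (allL N8606 (tt N9379 D15266) (tt N7741 (iv D14493)) (tt N9368 (iv F60314)) (tt N8606 F57248) (tt N8778 (iv F57929)) (tt N9076 (iv F59209)) (tt N9295 (iv F60022)) (tt N9378 (iv F60339)) (tt N8606 F57249))
theorem Q8608 : ∀ i, i < 8608 → P i := stepQ 8607 Q8607 (allL N8607 (tt N9075 (iv F59203)) (tt N8781 (iv F57943)) (tt N7742 (iv D14494)) (tt N8255 F57250) (tt N9380 D15267) (tt N8970 (iv F58802)) (tt N9077 (iv F59214)) (tt N9373 (iv F60327)) (tt N8607 F57251))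
theorem Q8609 : ∀ i, i < 8609 → P i := stepQ 8608 Q8608 (allL N8608 (tt N9076 (iv F59206)) (tt N7743 F57252) (tt N9380 (iv F60344)) (tt N8608 F57253) (tt N7742 (iv D14495)) (tt N9379 (iv F60342)) (tt N8925 (iv F58567)) (tt N9374 (iv F60329)) (tt N8608 F57254))
theorem Q8610 : ∀ i, i < 8610 → P i := stepQ 8609 Q8609 (allL N8609 (tt N7750 F57255) (tt N9379 (iv F60340)) (tt N7809 F57256) (tt N8609 F57257) (tt N8796 (iv F58041)) (tt N7743 (iv D14496)) (tt N8922 (iv F58550)) (tt N9377 (iv F60338)) (tt N8609 F57258))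
theorem Q8611 : ∀ i, i < 8611 → P i := stepQ 8610 Q8610 (allL N8610 (tt N9370 (iv F60319)) (tt N8930 (iv F58595)) (tt N8787 (iv F57980)) (tt N8932 (iv F58611)) (tt N7744 (iv D14497)) (tt N8936 (iv F58636)) (tt N8928 (iv F58585)) (tt N8610 F57259) (tt N7747 F57260))
theorem Q8612 : ∀ i, i < 8612 → P i := stepQ 8611 Q8611 (allL N8611 (tt N9371 (iv F60322)) (tt N8936 (iv F58633)) (tt N7745 (iv D14498)) (tt N8931 (iv F58603)) (tt N8789 (iv F57994)) (tt N8930 (iv F58598)) (tt N9228 (iv F59729)) (tt N8611 F57261) (tt N7749 F57262))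
theorem Q8613 : ∀ i, i < 8613 → P i := stepQ 8612 Q8612 (allL N8612 (tt N9375 (iv F60330)) (tt N9228 (iv F59725)) (tt N7746 (iv D14499)) (tt N7749 F57263) (tt N8935 (iv F58628)) (tt N8927 (iv F58576)) (tt N8936 (iv F58637)) (tt N8612 F57264) (tt N8931 (iv F58607)))
theorem Q8614 : ∀ i, i < 8614 → P i := stepQ 8613 Q8613 (allL N8613 (tt N9376 (iv F60333)) (tt N8927 F58580) (tt N8935 (iv F58627)) (tt N7747 F57265) (tt N7746 (iv D14500)) (tt N9228 (iv F59728)) (tt N8929 (iv F58592)) (tt N8613 F57266) (tt N8932 (iv F58615)))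
theorem Q8615 : ∀ i, i < 8615 → P i := stepQ 8614 Q8614 (allL N8614 (tt N9377 (iv F60336)) (tt N7749 F57267) (tt N7808 F57268) (tt N9228 (iv F59726)) (tt N8795 (iv F58034)) (tt N7747 (iv D14501)) (tt N8931 (iv F58605)) (tt N7750 F57269) (tt N8936 (iv F58639)))
theorem Q8616 : ∀ i, i < 8616 → P i := stepQ 8615 Q8615 (allL N8615 (tt N9331 (iv F60184)) (tt N9112 (iv F59343)) (tt N8615 F57270) (tt N7751 (iv D14502)) (tt N7756 F57271) (tt N9381 D15268) (tt N9118 (iv F59369)) (tt N9382 D15269) (tt N9383 D15270))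
theorem Q8617 : ∀ i, i < 8617 → P i := stepQ 8616 Q8616 (allL N8616 (tt N9332 (iv F60188)) (tt N8543 F57272) (tt N7753 F57273) (tt N9381 (iv F60349)) (tt N8542 F57274) (tt N7751 (iv D14503)) (tt N9384 D15271) (tt N8313 F57275) (tt N9385 D15272))
theorem Q8618 : ∀ i, i < 8618 → P i := stepQ 8617 Q8617 (allL N8617 (tt N9333 (iv F60194)) (tt N9113 (iv F59348)) (tt N7754 F57276) (tt N9383 (iv F60356)) (tt N7752 F57277) (tt N9385 (iv F60366)) (tt N9120 (iv F59377)) (tt N9386 D15273) (tt N7751 (iv D14504)))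
theorem Q8619 : ∀ i, i < 8619 → P i := stepQ 8618 Q8618 (allL N8618 (tt N9334 (iv F60197)) (tt N9114 (iv F59352)) (tt N7755 F57278) (tt N9387 D15274) (tt N9386 (iv F60368)) (tt N9083 (iv F59236)) (tt N9121 (iv F59380)) (tt N7752 (iv D14505)) (tt N8315 F57279))
theorem Q8620 : ∀ i, i < 8620 → P i := stepQ 8619 Q8619 (allL N8619 (tt N9309 (iv F60096)) (tt N7810 F57280) (tt N9384 (iv F60359)) (tt N8619 F57281) (tt N8558 F57282) (tt N9237 (iv F59773)) (tt N7753 (iv D14506)) (tt N8316 F57283) (tt N9388 D15275))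
theorem Q8621 : ∀ i, i < 8621 → P i := stepQ 8620 Q8620 (allL N8620 (tt N9335 (iv F60200)) (tt N7811 F57284) (tt N9385 (iv F60364)) (tt N8620 F57285) (tt N8485 F57286) (tt N7754 F57287) (tt N9388 (iv F60375)) (tt N9389 D15276) (tt N7753 (iv D14507)))
theorem Q8622 : ∀ i, i < 8622 → P i := stepQ 8621 Q8621 (allL N8621 (tt N9336 (iv F60205)) (tt N7812 F57288) (tt N9386 (iv F60367)) (tt N9390 D15277) (tt N7755 F57289) (tt N9389 (iv F60378)) (tt N9239 (iv F59781)) (tt N7754 (iv D14508)) (tt N8318 F57290))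
theorem Q8623 : ∀ i, i < 8623 → P i := stepQ 8622 Q8622 (allL N8622 (tt N8839 (iv F58216)) (tt N9132 (iv F59407)) (tt N8622 F57291) (tt N7757 F57292) (tt N9391 D15278) (tt N7756 (iv D14509)) (tt N8851 (iv F58272)) (tt N9392 D15279) (tt N9393 D15280))
theorem Q8624 : ∀ i, i < 8624 → P i := stepQ 8623 Q8623 (allL N8623 (tt N9338 (iv F60212)) (tt N9133 (iv F59412)) (tt N8623 F57293) (tt N7763 F57294) (tt N9382 (iv F60354)) (tt N9392 (iv F60391)) (tt N9139 (iv F59436)) (tt N7756 (iv D14510)) (tt N9394 D15281))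
theorem Q8625 : ∀ i, i < 8625 → P i := stepQ 8624 Q8624 (allL N8624 (tt N9339 (iv F60215)) (tt N9055 F59126) (tt N8624 F57295) (tt N7758 F57296) (tt N9383 (iv F60357)) (tt N9393 (iv F60394)) (tt N9140 (iv F59440)) (tt N9395 D15282) (tt N7756 (iv D14511)))
theorem Q8626 : ∀ i, i < 8626 → P i := stepQ 8625 Q8625 (allL N8625 (tt N8840 (iv F58222)) (tt N9057 (iv F59134)) (tt N7760 F57297) (tt N9393 (iv F60393)) (tt N8838 (iv F58213)) (tt N7758 F57298) (tt N8853 (iv F58282)) (tt N9396 D15283) (tt N7757 (iv D14512)))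
theorem Q8627 : ∀ i, i < 8627 → P i := stepQ 8626 Q8626 (allL N8626 (tt N9340 (iv F60218)) (tt N9039 (iv F59045)) (tt N7761 F57299) (tt N9397 D15284) (tt N7759 F57300) (tt N9396 (iv F60399)) (tt N9142 (iv F59447)) (tt N7758 (iv D14513)) (tt N7767 F57301))
theorem Q8628 : ∀ i, i < 8628 → P i := stepQ 8627 Q8627 (allL N8627 (tt N9341 (iv F60222)) (tt N9134 (iv F59416)) (tt N8830 (iv F58174)) (tt N7759 (iv D14514)) (tt N9398 D15285) (tt N9086 (iv F59248)) (tt N9143 (iv F59450)) (tt N9387 (iv F60370)) (tt N7768 F57302))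
theorem Q8629 : ∀ i, i < 8629 → P i := stepQ 8628 Q8628 (allL N8628 (tt N8907 (iv F58476)) (tt N7794 F57303) (tt N9396 (iv F60398)) (tt N9399 D15286) (tt N8906 (iv F58472)) (tt N7761 F57304) (tt N8913 (iv F58513)) (tt N7760 (iv D14515)) (tt N7770 F57305))
theorem Q8630 : ∀ i, i < 8630 → P i := stepQ 8629 Q8629 (allL N8629 (tt N9342 (iv F60224)) (tt N7795 F57306) (tt N9400 D15287) (tt N7761 (iv D14516)) (tt N8833 (iv F58188)) (tt N9399 (iv F60404)) (tt N9218 (iv F59692)) (tt N8629 F57307) (tt N7771 F57308))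
theorem Q8631 : ∀ i, i < 8631 → P i := stepQ 8630 Q8630 (allL N8630 (tt N9347 (iv F60240)) (tt N9155 (iv F59480)) (tt N7772 F57309) (tt N9094 (iv F59279)) (tt N7762 (iv D14517)) (tt N8357 F57310) (tt N9157 (iv F59494)) (tt N9156 F59489) (tt N9401 D15288))
theorem Q8632 : ∀ i, i < 8632 → P i := stepQ 8631 Q8631 (allL N8631 (tt N8820 (iv F58137)) (tt N9156 (iv F59484)) (tt N7773 F57311) (tt N7765 F57312) (tt N9157 (iv F59492)) (tt N9173 (iv F59547)) (tt N7762 (iv D14518)) (tt N9155 F59483) (tt N9402 D15289))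
theorem Q8633 : ∀ i, i < 8633 → P i := stepQ 8632 Q8632 (allL N8632 (tt N9348 (iv F60243)) (tt N9157 (iv F59490)) (tt N7774 F57313) (tt N9392 (iv F60390)) (tt N9156 (iv F59487)) (tt N7763 F57314) (tt N9155 F59482) (tt N7762 (iv D14519)) (tt N9403 D15290))
theorem Q8634 : ∀ i, i < 8634 → P i := stepQ 8633 Q8633 (allL N8633 (tt N9349 (iv F60246)) (tt N9158 (iv F59495)) (tt N7775 F57315) (tt N7766 F57316) (tt N9401 (iv F60410)) (tt N7764 F57317) (tt N9402 (iv F60414)) (tt N9404 D15291) (tt N7762 (iv D14520)))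
theorem Q8635 : ∀ i, i < 8635 → P i := stepQ 8634 Q8634 (allL N8634 (tt N9350 (iv F60250)) (tt N9159 (iv F59499)) (tt N7776 F57318) (tt N9394 (iv F60396)) (tt N8361 F57319) (tt N9403 (iv F60416)) (tt N9176 (iv F59561)) (tt N9405 D15292) (tt N7763 (iv D14521)))
theorem Q8636 : ∀ i, i < 8636 → P i := stepQ 8635 Q8635 (allL N8635 (tt N9351 (iv F60253)) (tt N9160 (iv F59502)) (tt N7777 F57320) (tt N9406 D15293) (tt N8362 F57321) (tt N9404 (iv F60418)) (tt N9177 (iv F59565)) (tt N7764 (iv D14522)) (tt N9405 (iv F60421)))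
theorem Q8637 : ∀ i, i < 8637 → P i := stepQ 8636 Q8636 (allL N8636 (tt N8822 (iv F58147)) (tt N9161 (iv F59505)) (tt N7769 F57322) (tt N9402 (iv F60413)) (tt N8819 (iv F58134)) (tt N9178 (iv F59568)) (tt N7766 F57323) (tt N9407 D15294) (tt N7765 (iv D14523)))
theorem Q8638 : ∀ i, i < 8638 → P i := stepQ 8637 Q8637 (allL N8637 (tt N9352 (iv F60256)) (tt N9162 (iv F59509)) (tt N7770 F57324) (tt N9408 D15295) (tt N9099 (iv F59298)) (tt N7767 F57325) (tt N9407 (iv F60424)) (tt N7766 (iv D14524)) (tt N9396 (iv F60400)))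
theorem Q8639 : ∀ i, i < 8639 → P i := stepQ 8638 Q8638 (allL N8638 (tt N9353 (iv F60259)) (tt N9163 (iv F59512)) (tt N9409 D15296) (tt N7767 (iv D14525)) (tt N9410 D15297) (tt N9408 (iv F60425)) (tt N9180 (iv F59574)) (tt N9406 (iv F60422)) (tt N9397 (iv F60401)))
theorem Q8640 : ∀ i, i < 8640 → P i := stepQ 8639 Q8639 (allL N8639 (tt N9354 (iv F60260)) (tt N9164 (iv F59514)) (tt N8871 (iv F58326)) (tt N9410 (iv F60427)) (tt N7768 (iv D14526)) (tt N9411 D15298) (tt N9181 (iv F59576)) (tt N8366 F57326) (tt N9398 (iv F60402)))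
theorem Q8641 : ∀ i, i < 8641 → P i := stepQ 8640 Q8640 (allL N8640 (tt N8899 (iv F58430)) (tt N7796 F57327) (tt N9407 (iv F60423)) (tt N9412 D15299) (tt N8897 (iv F58420)) (tt N9222 (iv F59707)) (tt N7770 F57328) (tt N7769 (iv D14527)) (tt N8913 (iv F58514)))
theorem Q8642 : ∀ i, i < 8642 → P i := stepQ 8641 Q8641 (allL N8641 (tt N9355 (iv F60262)) (tt N7797 F57329) (tt N9413 D15300) (tt N7770 (iv D14528)) (tt N9414 D15301) (tt N7771 F57330) (tt N9412 (iv F60430)) (tt N7783 F57331) (tt N9399 (iv F60406)))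
theorem Q8643 : ∀ i, i < 8643 → P i := stepQ 8642 Q8642 (allL N8642 (tt N9356 (iv F60266)) (tt N9415 D15302) (tt N7771 (iv D14529)) (tt N9409 (iv F60426)) (tt N8874 (iv F58333)) (tt N9413 (iv F60432)) (tt N9224 (iv F59712)) (tt N7784 F57332) (tt N9400 (iv F60408)))
theorem Q8644 : ∀ i, i < 8644 → P i := stepQ 8643 Q8643 (allL N8643 (tt N9357 (iv F60268)) (tt N7813 F57333) (tt N9401 (iv F60409)) (tt N7785 F57334) (tt N7775 F57335) (tt N8381 F57336) (tt N9197 (iv F59614)) (tt N9416 D15303) (tt N7772 (iv D14530)))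
theorem Q8645 : ∀ i, i < 8645 → P i := stepQ 8644 Q8644 (allL N8644 (tt N9358 (iv F60273)) (tt N7814 F57337) (tt N9402 (iv F60412)) (tt N7778 F57338) (tt N9197 (iv F59612)) (tt N9256 (iv F59855)) (tt N7775 F57339) (tt N9417 D15304) (tt N7773 (iv D14531)))
theorem Q8646 : ∀ i, i < 8646 → P i := stepQ 8645 Q8645 (allL N8645 (tt N9359 (iv F60277)) (tt N7815 F57340) (tt N9403 (iv F60415)) (tt N8645 F57341) (tt N9196 (iv F59607)) (tt N7776 F57342) (tt N9195 (iv F59604)) (tt N9418 D15305) (tt N7774 (iv D14532)))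
theorem Q8647 : ∀ i, i < 8647 → P i := stepQ 8646 Q8646 (allL N8646 (tt N9360 (iv F60281)) (tt N7816 F57343) (tt N9404 (iv F60417)) (tt N9419 D15306) (tt N9416 (iv F60439)) (tt N7777 F57344) (tt N9417 (iv F60442)) (tt N7775 (iv D14533)) (tt N9418 (iv F60445)))
theorem Q8648 : ∀ i, i < 8648 → P i := stepQ 8647 Q8647 (allL N8647 (tt N9361 (iv F60284)) (tt N7817 F57345) (tt N9405 (iv F60419)) (tt N9420 D15307) (tt N8385 F57346) (tt N9418 (iv F60444)) (tt N9259 (iv F59866)) (tt N7776 (iv D14534)) (tt N7777 F57347))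
theorem Q8649 : ∀ i, i < 8649 → P i := stepQ 8648 Q8648 (allL N8648 (tt N9362 (iv F60288)) (tt N7818 F57348) (tt N9421 D15308) (tt N7777 (iv D14535)) (tt N9422 D15309) (tt N9419 (iv F60447)) (tt N9260 (iv F59869)) (tt N7780 F57349) (tt N9420 (iv F60451)))
theorem Q8650 : ∀ i, i < 8650 → P i := stepQ 8649 Q8649 (allL N8649 (tt N9363 (iv F60291)) (tt N7819 F57350) (tt N7782 F57351) (tt N9423 D15310) (tt N7789 F57352) (tt N9261 (iv F59874)) (tt N7779 F57353) (tt N7778 (iv D14536)) (tt N8649 F57354))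
theorem Q8651 : ∀ i, i < 8651 → P i := stepQ 8650 Q8650 (allL N8650 (tt N9364 (iv F60297)) (tt N7820 F57355) (tt N9424 D15311) (tt N7779 (iv D14537)) (tt N9425 D15312) (tt N7780 F57356) (tt N9423 (iv F60457)) (tt N9419 (iv F60448)) (tt N8650 F57357))
theorem Q8652 : ∀ i, i < 8652 → P i := stepQ 8651 Q8651 (allL N8651 (tt N9365 (iv F60302)) (tt N9426 D15313) (tt N7780 (iv D14538)) (tt N7784 F57358) (tt N9427 D15314) (tt N9424 (iv F60460)) (tt N9263 (iv F59881)) (tt N9421 (iv F60452)) (tt N8651 F57359))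
theorem Q8653 : ∀ i, i < 8653 → P i := stepQ 8652 Q8652 (allL N8652 (tt N9366 (iv F60305)) (tt N7822 F57360) (tt N9427 (iv F60470)) (tt N7781 F57361) (tt N7780 (iv D14539)) (tt N9307 (iv F60087)) (tt N9264 (iv F59885)) (tt N9422 (iv F60455)) (tt N8652 F57362))
theorem Q8654 : ∀ i, i < 8654 → P i := stepQ 8653 Q8653 (allL N8653 (tt N8971 (iv F58804)) (tt N7799 F57363) (tt N9428 D15315) (tt N7782 (iv D14540)) (tt N8969 (iv F58796)) (tt N8778 (iv F57930)) (tt N7783 F57364) (tt N9412 (iv F60431)) (tt N8653 F57365))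
theorem Q8655 : ∀ i, i < 8655 → P i := stepQ 8654 Q8654 (allL N8654 (tt N9367 (iv F60311)) (tt N9429 D15316) (tt N7783 (iv D14541)) (tt N9424 (iv F60459)) (tt N9430 D15317) (tt N7784 F57366) (tt N9428 (iv F60472)) (tt N9413 (iv F60433)) (tt N8654 F57367))
theorem Q8656 : ∀ i, i < 8656 → P i := stepQ 8655 Q8655 (allL N8655 (tt N8968 (iv F58789)) (tt N7801 F57368) (tt N9430 (iv F60477)) (tt N7793 F57369) (tt N7783 (iv D14542)) (tt N8779 (iv F57935)) (tt N8969 (iv F58798)) (tt N9414 (iv F60435)) (tt N8655 F57370))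
theorem Q8657 : ∀ i, i < 8657 → P i := stepQ 8656 Q8656 (allL N8656 (tt N9431 D15318) (tt N7784 (iv D14543)) (tt N7802 F57371) (tt N9426 (iv F60468)) (tt N8894 (iv F58403)) (tt N9429 (iv F60475)) (tt N9296 (iv F60025)) (tt N9415 (iv F60437)) (tt N8656 F57372))
theorem Q8658 : ∀ i, i < 8658 → P i := stepQ 8657 Q8657 (allL N8657 (tt N8037 F57373) (tt N7827 F57374) (tt N8224 F57375) (tt N9432 D15319) (tt N7788 F57376) (tt N8393 F57377) (tt N9303 (iv F60065)) (tt N7785 (iv D14544)) (tt N7885 F57378))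
theorem Q8659 : ∀ i, i < 8659 → P i := stepQ 8658 Q8658 (allL N8658 (tt N8038 F57379) (tt N7828 F57380) (tt N8225 F57381) (tt N7887 (iv F57385)) (tt N9303 (iv F60063)) (tt N8658 F57382) (tt N7788 F57383) (tt N7786 (iv D14545)) (tt N7886 F57384))
theorem Q8660 : ∀ i, i < 8660 → P i := stepQ 8659 Q8659 (allL N8659 (tt N8039 F57386) (tt N7831 F57387) (tt N7888 (iv F57392)) (tt N7789 (iv D14546)) (tt N8686 (iv F57486)) (tt N8659 F57388) (tt N7790 F57389) (tt N7887 F57390) (tt N8659 F57391))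
theorem Q8661 : ∀ i, i < 8661 → P i := stepQ 8660 Q8660 (allL N8660 (tt N8031 F57393) (tt N7833 F57394) (tt N7883 F57395) (tt N9425 (iv F60464)) (tt N7790 (iv D14547)) (tt N7881 F57396) (tt N8686 (iv F57488)) (tt N7880 F57397) (tt N8660 F57398))
theorem Q8662 : ∀ i, i < 8662 → P i := stepQ 8661 Q8661 (allL N8661 (tt N7841 F57399) (tt N7842 F57400) (tt N7791 (iv D14548)) (tt N7888 F57401) (tt N7928 F57402) (tt N8661 F57403) (tt N7792 F57404) (tt N7840 F57405) (tt N8661 F57406))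
theorem Q8663 : ∀ i, i < 8663 → P i := stepQ 8662 Q8662 (allL N8662 (tt N7926 F57407) (tt N7923 F57408) (tt N7793 F57409) (tt N9433 D15320) (tt N7792 (iv D14549)) (tt N8143 F57410) (tt N7928 F57411) (tt N7925 F57412) (tt N8662 F57413))
theorem Q8664 : ∀ i, i < 8664 → P i := stepQ 8663 Q8663 (allL N8663 (tt N7804 F57414) (tt N9399 (iv F60403)) (tt N9074 (iv F59199)) (tt N7794 (iv D14550)) (tt N9063 (iv F59160)) (tt N7795 F57415) (tt N8934 (iv F58623)) (tt N8663 F57416) (tt N7797 F57417))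
theorem Q8665 : ∀ i, i < 8665 → P i := stepQ 8664 Q8664 (allL N8664 (tt N7805 F57418) (tt N9412 (iv F60429)) (tt N8775 (iv F57912)) (tt N7796 (iv D14551)) (tt N8972 (iv F58810)) (tt N8776 (iv F57919)) (tt N7797 F57419) (tt N7799 F57420) (tt N8934 (iv F58625)))
theorem Q8666 : ∀ i, i < 8666 → P i := stepQ 8665 Q8665 (allL N8665 (tt N7806 F57421) (tt N9434 D15321) (tt N7797 (iv D14552)) (tt N8774 (iv F57906)) (tt N8794 (iv F58029)) (tt N7798 F57422) (tt N8775 (iv F57914)) (tt N7800 F57423) (tt N9074 (iv F59202)))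
theorem Q8667 : ∀ i, i < 8667 → P i := stepQ 8666 Q8666 (allL N8666 (tt N7807 F57424) (tt N9414 (iv F60434)) (tt N8794 (iv F58028)) (tt N8761 (iv F57837)) (tt N7797 (iv D14553)) (tt N8765 (iv F57860)) (tt N8972 (iv F58812)) (tt N7801 F57425) (tt N9063 (iv F59162)))
theorem Q8668 : ∀ i, i < 8668 → P i := stepQ 8667 Q8667 (allL N8667 (tt N9435 D15322) (tt N7798 (iv D14554)) (tt N9415 (iv F60436)) (tt N9061 (iv F59152)) (tt N8921 (iv F58545)) (tt N9434 (iv F60492)) (tt N9226 (iv F59719)) (tt N7802 F57426) (tt N9071 (iv F59194)))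
theorem Q8669 : ∀ i, i < 8669 → P i := stepQ 8668 Q8668 (allL N8668 (tt N8782 (iv F57946)) (tt N7800 (iv D14555)) (tt N9429 (iv F60474)) (tt N7834 F57427) (tt N8780 (iv F57940)) (tt N7802 F57428) (tt N8747 (iv F57762)) (tt N9434 (iv F60493)) (tt N8668 F57429))
theorem Q8670 : ∀ i, i < 8670 → P i := stepQ 8669 Q8669 (allL N8669 (tt N7802 (iv D14556)) (tt N7809 F57430) (tt N9431 (iv F60479)) (tt N7835 F57431) (tt N8926 (iv F58571)) (tt N8782 F57951) (tt N8881 (iv F58365)) (tt N9435 (iv F60495)) (tt N8669 F57432))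
theorem Q8671 : ∀ i, i < 8671 → P i := stepQ 8670 Q8670 (allL N8670 (tt N7808 (iv D14557)) (tt N9435 (iv F60494)) (tt N9377 (iv F60337)) (tt N8909 (iv F58490)) (tt N8937 (iv F58640)) (tt N8773 F57903) (tt N8910 (iv F58497)) (tt N7809 F57433) (tt N9080 (iv F59225)))
theorem Q8672 : ∀ i, i < 8672 → P i := stepQ 8671 Q8671 (allL N8671 (tt N8671 F57434) (tt N9388 (iv F60372)) (tt N8474 F57435) (tt N8671 F57436) (tt N8473 F57437) (tt N9240 (iv F59787)) (tt N7811 F57438) (tt N9436 D15323) (tt N7810 (iv D14558)))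
theorem Q8673 : ∀ i, i < 8673 → P i := stepQ 8672 Q8672 (allL N8672 (tt N8672 F57439) (tt N9389 (iv F60376)) (tt N8483 F57440) (tt N9437 D15324) (tt N8482 F57441) (tt N7812 F57442) (tt N9436 (iv F60499)) (tt N7811 (iv D14559)) (tt N8435 F57443))
theorem Q8674 : ∀ i, i < 8674 → P i := stepQ 8673 Q8673 (allL N8673 (tt N8673 F57444) (tt N9390 (iv F60380)) (tt N9438 D15325) (tt N7812 (iv D14560)) (tt N8952 (iv F58714)) (tt N9437 (iv F60502)) (tt N9242 (iv F59795)) (tt N8673 F57445) (tt N8436 F57446))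
theorem Q8675 : ∀ i, i < 8675 → P i := stepQ 8674 Q8674 (allL N8674 (tt N8674 F57447) (tt N9416 (iv F60438)) (tt N9277 (iv F59940)) (tt N9439 D15326) (tt N7816 F57448) (tt N8477 F57449) (tt N9279 (iv F59955)) (tt N7813 (iv D14561)) (tt N9278 (iv F59950)))
theorem Q8676 : ∀ i, i < 8676 → P i := stepQ 8675 Q8675 (allL N8675 (tt N8675 F57450) (tt N9417 (iv F60441)) (tt N9278 (iv F59946)) (tt N9440 D15327) (tt N9279 (iv F59953)) (tt N9267 (iv F59897)) (tt N7816 F57451) (tt N7814 (iv D14562)) (tt N9277 (iv F59944)))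
theorem Q8677 : ∀ i, i < 8677 → P i := stepQ 8676 Q8676 (allL N8676 (tt N8676 F57452) (tt N9418 (iv F60443)) (tt N9279 (iv F59952)) (tt N9441 D15328) (tt N9278 (iv F59947)) (tt N7817 F57453) (tt N9277 (iv F59943)) (tt N7815 (iv D14563)) (tt N7816 F57454))
theorem Q8678 : ∀ i, i < 8678 → P i := stepQ 8677 Q8677 (allL N8677 (tt N8677 F57455) (tt N9419 (iv F60446)) (tt N9442 D15329) (tt N7816 (iv D14564)) (tt N9443 D15330) (tt N7818 F57456) (tt N9440 (iv F60512)) (tt N7820 F57457) (tt N9441 (iv F60517)))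
theorem Q8679 : ∀ i, i < 8679 → P i := stepQ 8678 Q8678 (allL N8678 (tt N8678 F57458) (tt N9420 (iv F60449)) (tt N9444 D15331) (tt N7817 (iv D14565)) (tt N9445 D15332) (tt N9441 (iv F60515)) (tt N9270 (iv F59912)) (tt N8678 F57459) (tt N7818 F57460))
theorem Q8680 : ∀ i, i < 8680 → P i := stepQ 8679 Q8679 (allL N8679 (tt N8679 F57461) (tt N9446 D15333) (tt N7818 (iv D14566)) (tt N9282 (iv F59965)) (tt N9447 D15334) (tt N9442 (iv F60519)) (tt N9271 (iv F59918)) (tt N7821 F57462) (tt N9444 (iv F60528)))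
theorem Q8681 : ∀ i, i < 8681 → P i := stepQ 8680 Q8680 (allL N8680 (tt N8680 F57463) (tt N9422 (iv F60453)) (tt N9447 (iv F60536)) (tt N8483 F57464) (tt N7818 (iv D14567)) (tt N9233 (iv F59750)) (tt N9272 (iv F59921)) (tt N7822 F57465) (tt N9445 (iv F60532)))
theorem Q8682 : ∀ i, i < 8682 → P i := stepQ 8681 Q8681 (allL N8681 (tt N8681 F57466) (tt N9423 (iv F60456)) (tt N8683 (iv F57475)) (tt N7819 (iv D14568)) (tt N8682 F57473) (tt N9273 (iv F59924)) (tt N7820 F57467) (tt N9440 (iv F60513)) (tt N8681 F57468))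
theorem Q8683 : ∀ i, i < 8683 → P i := stepQ 8682 Q8682 (allL N8682 (tt N8682 F57469) (tt N9448 D15335) (tt N7820 (iv D14569)) (tt N7824 F57470) (tt N8681 (iv F57473)) (tt N7821 F57471) (tt N8683 (iv F57477)) (tt N9442 (iv F60520)) (tt N8682 F57472))
theorem Q8684 : ∀ i, i < 8684 → P i := stepQ 8683 Q8683 (allL N8683 (tt N8683 F57474) (tt N9425 (iv F60463)) (tt N8681 F57475) (tt N7833 F57476) (tt N7820 (iv D14570)) (tt N9323 (iv F60149)) (tt N8682 F57477) (tt N9443 (iv F60525)) (tt N8683 F57478))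
theorem Q8685 : ∀ i, i < 8685 → P i := stepQ 8684 Q8684 (allL N8684 (tt N9449 D15336) (tt N7821 (iv D14571)) (tt N9426 (iv F60467)) (tt N7826 F57479) (tt N9450 D15337) (tt N9448 (iv F60540)) (tt N9274 (iv F59928)) (tt N9446 (iv F60534)) (tt N8684 F57480))
theorem Q8686 : ∀ i, i < 8686 → P i := stepQ 8685 Q8685 (allL N8685 (tt N8685 F57481) (tt N9450 (iv F60546)) (tt N7822 F57482) (tt N8685 F57483) (tt N7821 (iv D14572)) (tt N9324 (iv F60155)) (tt N9275 (iv F59933)) (tt N9447 (iv F60537)) (tt N8685 F57484))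
theorem Q8687 : ∀ i, i < 8687 → P i := stepQ 8686 Q8686 (allL N8686 (tt N8889 (iv F58385)) (tt N7824 (iv D14573)) (tt N7834 F57485) (tt N9448 (iv F60538)) (tt N8659 F57486) (tt N7826 F57487) (tt N8660 F57488) (tt N8745 F57756) (tt N8686 F57489))
theorem Q8688 : ∀ i, i < 8688 → P i := stepQ 8687 Q8687 (allL N8687 (tt N7826 (iv D14574)) (tt N8687 F57490) (tt N7835 F57491) (tt N9449 (iv F60544)) (tt N8687 F57492) (tt N8889 (iv F58389)) (tt N8879 (iv F58357)) (tt N8878 F58351) (tt N8687 F57493))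
theorem Q8689 : ∀ i, i < 8689 → P i := stepQ 8688 Q8688 (allL N8688 (tt N8688 F57494) (tt N9432 (iv F60482)) (tt N8943 (iv F58674)) (tt N7827 (iv D14575)) (tt N9230 (iv F59738)) (tt N8486 F57495) (tt N9328 (iv F60175)) (tt N9439 (iv F60510)) (tt N8941 (iv F58666)))
theorem Q8690 : ∀ i, i < 8690 → P i := stepQ 8689 Q8689 (allL N8689 (tt N8689 F57496) (tt N7887 F57497) (tt N7839 (iv F57502)) (tt N7828 (iv D14576)) (tt N8475 F57503) (tt N8689 F57498) (tt N7830 F57499) (tt N7831 F57500) (tt N7838 F57501))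
theorem Q8691 : ∀ i, i < 8691 → P i := stepQ 8690 Q8690 (allL N8690 (tt N9451 D15338) (tt N7843 (iv D14577)) (tt N8690 F57504) (tt N7851 F57505) (tt N9452 D15339) (tt N8157 F57506) (tt N9089 (iv F59263)) (tt N8834 (iv F58195)) (tt N9453 D15340))
theorem Q8692 : ∀ i, i < 8692 → P i := stepQ 8691 Q8691 (allL N8691 (tt N7963 F57507) (tt N9452 (iv F60557)) (tt N7844 F57508) (tt N9454 D15341) (tt N7843 (iv D14578)) (tt N9455 D15342) (tt N8007 F57509) (tt N7993 F57510) (tt N9456 D15343))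
theorem Q8693 : ∀ i, i < 8693 → P i := stepQ 8692 Q8692 (allL N8692 (tt N7964 F57511) (tt N9453 (iv F60563)) (tt N7845 F57512) (tt N7853 F57513) (tt N9456 (iv F60582)) (tt N8159 F57514) (tt N9097 (iv F59294)) (tt N9457 D15344) (tt N7843 (iv D14579)))
theorem Q8694 : ∀ i, i < 8694 → P i := stepQ 8693 Q8693 (allL N8693 (tt N7965 F57515) (tt N8693 F57516) (tt N9455 (iv F60576)) (tt N8693 F57517) (tt N8160 F57518) (tt N7844 (iv D14580)) (tt N9308 (iv F60094)) (tt N8016 F57519) (tt N9458 D15345))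
theorem Q8695 : ∀ i, i < 8695 → P i := stepQ 8694 Q8694 (allL N8694 (tt N7966 F57520) (tt N8694 F57521) (tt N9456 (iv F60581)) (tt N8694 F57522) (tt N7845 F57523) (tt N9458 (iv F60591)) (tt N8028 F57524) (tt N9459 D15346) (tt N7844 (iv D14581)))
theorem Q8696 : ∀ i, i < 8696 → P i := stepQ 8695 Q8695 (allL N8695 (tt N7967 F57525) (tt N8695 F57526) (tt N9457 (iv F60585)) (tt N8564 F57527) (tt N9459 (iv F60594)) (tt N8162 F57528) (tt N9106 (iv F59322)) (tt N7845 (iv D14582)) (tt N8954 (iv F58728)))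
theorem Q8697 : ∀ i, i < 8697 → P i := stepQ 8696 Q8696 (allL N8696 (tt N7969 F57529) (tt N8177 F57530) (tt N7846 (iv D14583)) (tt N9095 (iv F59284)) (tt N8130 F57531) (tt N7848 F57532) (tt N8163 F57533) (tt N7857 F57534) (tt N9460 D15347))
theorem Q8698 : ∀ i, i < 8698 → P i := stepQ 8697 Q8697 (allL N8697 (tt N7970 F57535) (tt N7889 F57536) (tt N9460 (iv F60599)) (tt N7847 F57537) (tt N8140 F57538) (tt N7850 F57539) (tt N8164 F57540) (tt N9461 D15348) (tt N7846 (iv D14584)))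
theorem Q8699 : ∀ i, i < 8699 → P i := stepQ 8698 Q8698 (allL N8698 (tt N8276 F57541) (tt N7848 (iv D14585)) (tt N7890 F57542) (tt N9089 (iv F59260)) (tt N8184 (iv F57546)) (tt N8177 F57543) (tt N7851 F57544) (tt N7860 F57545) (tt N9462 D15349))
theorem Q8700 : ∀ i, i < 8700 → P i := stepQ 8699 Q8699 (allL N8699 (tt N7972 F57547) (tt N8184 F57548) (tt N7849 F57549) (tt N9463 D15350) (tt N7848 (iv D14586)) (tt N8181 F57550) (tt N7852 F57551) (tt N7861 F57552) (tt N9464 D15351))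
theorem Q8701 : ∀ i, i < 8701 → P i := stepQ 8700 Q8700 (allL N8700 (tt N7973 F57553) (tt N9462 (iv F60611)) (tt N7850 F57554) (tt N9097 (iv F59292)) (tt N9464 (iv F60626)) (tt N9460 (iv F60601)) (tt N7853 F57555) (tt N9465 D15352) (tt N7848 (iv D14587)))
theorem Q8702 : ∀ i, i < 8702 → P i := stepQ 8701 Q8701 (allL N8701 (tt N7974 F57556) (tt N7892 F57557) (tt N9464 (iv F60625)) (tt N8701 F57558) (tt N7850 F57559) (tt N8237 F57560) (tt N7855 F57561) (tt N9466 D15353) (tt N7849 (iv D14588)))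
theorem Q8703 : ∀ i, i < 8703 → P i := stepQ 8702 Q8702 (allL N8702 (tt N7975 F57562) (tt N7893 F57563) (tt N9465 (iv F60630)) (tt N8397 F57564) (tt N9466 (iv F60635)) (tt N9461 (iv F60607)) (tt N7856 F57565) (tt N7850 (iv D14589)) (tt N7864 F57566))
theorem Q8704 : ∀ i, i < 8704 → P i := stepQ 8703 Q8703 (allL N8703 (tt N7851 (iv D14590)) (tt N7976 F57567) (tt N7894 F57568) (tt N9451 (iv F60551)) (tt N8340 (iv F57572)) (tt N8168 F57569) (tt N8276 F57570) (tt N7865 F57571) (tt N9467 D15354))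
theorem Q8705 : ∀ i, i < 8705 → P i := stepQ 8704 Q8704 (allL N8704 (tt N8340 F57573) (tt N7852 F57574) (tt N7895 F57575) (tt N9468 D15355) (tt N7851 (iv D14591)) (tt N8198 (iv F57578)) (tt N8184 F57576) (tt N7866 F57577) (tt N9469 D15356))
theorem Q8706 : ∀ i, i < 8706 → P i := stepQ 8705 Q8705 (allL N8705 (tt N9467 (iv F60639)) (tt N7853 F57579) (tt N7896 F57580) (tt N9453 (iv F60565)) (tt N9469 (iv F60655)) (tt N8170 F57581) (tt N9462 (iv F60615)) (tt N9470 D15357) (tt N7851 (iv D14592)))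
theorem Q8707 : ∀ i, i < 8707 → P i := stepQ 8706 Q8706 (allL N8706 (tt N7979 F57582) (tt N9468 (iv F60646)) (tt N8706 F57583) (tt N7852 (iv D14593)) (tt N9454 (iv F60570)) (tt N9471 D15358) (tt N9463 (iv F60621)) (tt N9472 D15359) (tt N9473 D15360))
theorem Q8708 : ∀ i, i < 8708 → P i := stepQ 8707 Q8707 (allL N8707 (tt N7980 F57584) (tt N8198 F57585) (tt N7854 F57586) (tt N9471 (iv F60665)) (tt N8172 F57587) (tt N7852 (iv D14594)) (tt N8192 F57588) (tt N7869 F57589) (tt N9474 D15361))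
theorem Q8709 : ∀ i, i < 8709 → P i := stepQ 8708 Q8708 (allL N8708 (tt N7981 F57590) (tt N9469 (iv F60653)) (tt N7855 F57591) (tt N9473 (iv F60675)) (tt N7853 F57592) (tt N9474 (iv F60680)) (tt N9464 (iv F60628)) (tt N9475 D15362) (tt N7852 (iv D14595)))
theorem Q8710 : ∀ i, i < 8710 → P i := stepQ 8709 Q8709 (allL N8709 (tt N7982 F57593) (tt N9470 (iv F60658)) (tt N7856 F57594) (tt N9476 D15363) (tt N9475 (iv F60684)) (tt N8174 F57595) (tt N9465 (iv F60631)) (tt N7853 (iv D14596)) (tt N7871 F57596))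
theorem Q8711 : ∀ i, i < 8711 → P i := stepQ 8710 Q8710 (allL N8710 (tt N7984 F57597) (tt N7899 F57598) (tt N9474 (iv F60678)) (tt N8710 F57599) (tt N8175 F57600) (tt N7855 F57601) (tt N8244 F57602) (tt N9477 D15364) (tt N7854 (iv D14597)))
theorem Q8712 : ∀ i, i < 8712 → P i := stepQ 8711 Q8711 (allL N8711 (tt N7985 F57603) (tt N7900 F57604) (tt N9475 (iv F60683)) (tt N9478 D15365) (tt N7856 F57605) (tt N9477 (iv F60693)) (tt N9466 (iv F60637)) (tt N7855 (iv D14598)) (tt N7874 F57606))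
theorem Q8713 : ∀ i, i < 8713 → P i := stepQ 8712 Q8712 (allL N8712 (tt N8127 F57607) (tt N7857 (iv D14599)) (tt N7901 F57608) (tt N8717 (iv F57636)) (tt N8163 (iv F57612)) (tt N7860 F57609) (tt N8130 F57610) (tt N8177 F57611) (tt N9479 D15366))
theorem Q8714 : ∀ i, i < 8714 → P i := stepQ 8713 Q8713 (allL N8713 (tt N7986 F57613) (tt N8163 F57614) (tt N7858 F57615) (tt N9391 (iv F60386)) (tt N7857 (iv D14600)) (tt N8165 F57616) (tt N8177 F57617) (tt N8130 F57618) (tt N9480 D15367))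
theorem Q8715 : ∀ i, i < 8715 → P i := stepQ 8714 Q8714 (allL N8714 (tt N7987 F57619) (tt N9479 (iv F60702)) (tt N7859 F57620) (tt N8838 (iv F58212)) (tt N9480 (iv F60710)) (tt N7862 F57621) (tt N8178 F57622) (tt N9481 D15368) (tt N7857 (iv D14601)))
theorem Q8716 : ∀ i, i < 8716 → P i := stepQ 8715 Q8715 (allL N8715 (tt N7988 F57623) (tt N7903 F57624) (tt N9480 (iv F60709)) (tt N8715 F57625) (tt N7859 F57626) (tt N8228 F57627) (tt N8179 F57628) (tt N9482 D15369) (tt N7858 (iv D14602)))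
theorem Q8717 : ∀ i, i < 8717 → P i := stepQ 8716 Q8716 (allL N8716 (tt N7989 F57629) (tt N7904 F57630) (tt N9481 (iv F60714)) (tt N8063 F57631) (tt N9482 (iv F60719)) (tt N7864 F57632) (tt N8180 F57633) (tt N7859 (iv D14603)) (tt N9461 (iv F60609)))
theorem Q8718 : ∀ i, i < 8718 → P i := stepQ 8717 Q8717 (allL N8717 (tt N7860 (iv D14604)) (tt N7990 F57634) (tt N7905 F57635) (tt N8712 F57636) (tt N8320 F57637) (tt N8127 F57638) (tt N7865 F57639) (tt N8276 F57640) (tt N9483 D15370))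
theorem Q8719 : ∀ i, i < 8719 → P i := stepQ 8718 Q8718 (allL N8718 (tt N9483 (iv F60723)) (tt N7862 F57641) (tt N7906 F57642) (tt N8956 (iv F58737)) (tt N8391 F57643) (tt N9479 (iv F60705)) (tt N7867 F57644) (tt N9484 D15371) (tt N7860 (iv D14605)))
theorem Q8720 : ∀ i, i < 8720 → P i := stepQ 8719 Q8719 (allL N8719 (tt N7995 F57645) (tt N8391 F57646) (tt N7863 F57647) (tt N9082 (iv F59232)) (tt N7862 F57648) (tt N8392 F57649) (tt N7870 F57650) (tt N9485 D15372) (tt N7861 (iv D14606)))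
theorem Q8721 : ∀ i, i < 8721 → P i := stepQ 8720 Q8720 (allL N8720 (tt N7996 F57651) (tt N9484 (iv F60730)) (tt N7864 F57652) (tt N9486 D15373) (tt N9485 (iv F60737)) (tt N9481 (iv F60715)) (tt N7871 F57653) (tt N7862 (iv D14607)) (tt N9465 (iv F60632)))
theorem Q8722 : ∀ i, i < 8722 → P i := stepQ 8721 Q8721 (allL N8721 (tt N7999 F57654) (tt N7908 F57655) (tt N9485 (iv F60736)) (tt N9487 D15374) (tt N7864 F57656) (tt N8412 F57657) (tt N7874 F57658) (tt N7863 (iv D14608)) (tt N9466 (iv F60638)))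
theorem Q8723 : ∀ i, i < 8723 → P i := stepQ 8722 Q8722 (allL N8722 (tt N7866 F57659) (tt N8000 F57660) (tt N7909 F57661) (tt N9488 D15375) (tt N7865 (iv D14609)) (tt N8331 (iv F57664)) (tt N8320 F57662) (tt N8340 F57663) (tt N9489 D15376))
theorem Q8724 : ∀ i, i < 8724 → P i := stepQ 8723 Q8723 (allL N8723 (tt N7867 F57665) (tt N8001 F57666) (tt N7910 F57667) (tt N8958 (iv F58748)) (tt N9489 (iv F60759)) (tt N8190 F57668) (tt N9483 (iv F60729)) (tt N9490 D15377) (tt N7865 (iv D14610)))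
theorem Q8725 : ∀ i, i < 8725 → P i := stepQ 8724 Q8724 (allL N8724 (tt N9488 (iv F60749)) (tt N7868 F57669) (tt N8540 F57670) (tt N7866 (iv D14611)) (tt N8797 (iv F58047)) (tt N9491 D15378) (tt N8541 F57671) (tt N9492 D15379) (tt N9493 D15380))
theorem Q8726 : ∀ i, i < 8726 → P i := stepQ 8725 Q8725 (allL N8725 (tt N8331 F57672) (tt N7869 F57673) (tt N7911 F57674) (tt N9491 (iv F60769)) (tt N8192 F57675) (tt N7866 (iv D14612)) (tt N8172 F57676) (tt N8198 F57677) (tt N9494 D15381))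
theorem Q8727 : ∀ i, i < 8727 → P i := stepQ 8726 Q8726 (allL N8726 (tt N9489 (iv F60756)) (tt N7870 F57678) (tt N7912 F57679) (tt N9493 (iv F60779)) (tt N7867 F57680) (tt N9494 (iv F60785)) (tt N8391 F57681) (tt N9495 D15382) (tt N7866 (iv D14613)))
theorem Q8728 : ∀ i, i < 8728 → P i := stepQ 8727 Q8727 (allL N8727 (tt N9490 (iv F60762)) (tt N7871 F57682) (tt N7913 F57683) (tt N9496 D15383) (tt N9495 (iv F60789)) (tt N8194 F57684) (tt N9484 (iv F60733)) (tt N7867 (iv D14614)) (tt N9470 (iv F60661)))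
theorem Q8729 : ∀ i, i < 8729 → P i := stepQ 8728 Q8728 (allL N8728 (tt N8006 F57685) (tt N9491 (iv F60767)) (tt N7876 F57686) (tt N7869 F57687) (tt N9497 D15384) (tt N7868 (iv D14615)) (tt N9498 D15385) (tt N9499 D15386) (tt N9500 D15387))
theorem Q8730 : ∀ i, i < 8730 → P i := stepQ 8729 Q8729 (allL N8729 (tt N8007 F57688) (tt N9492 (iv F60772)) (tt N7877 F57689) (tt N9472 (iv F60670)) (tt N7960 F57690) (tt N9499 (iv F60807)) (tt N7963 F57691) (tt N7868 (iv D14616)) (tt N9501 D15388))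
theorem Q8731 : ∀ i, i < 8731 → P i := stepQ 8730 Q8730 (allL N8730 (tt N8008 F57692) (tt N9493 (iv F60777)) (tt N7878 F57693) (tt N7870 F57694) (tt N8960 (iv F58756)) (tt N9500 (iv F60811)) (tt N9082 (iv F59234)) (tt N9502 D15389) (tt N7868 (iv D14617)))
theorem Q8732 : ∀ i, i < 8732 → P i := stepQ 8731 Q8731 (allL N8731 (tt N8009 F57695) (tt N8172 F57696) (tt N7872 F57697) (tt N9498 (iv F60801)) (tt N8198 F57698) (tt N8169 F57699) (tt N7869 (iv D14618)) (tt N8192 F57700) (tt N9503 D15390))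
theorem Q8733 : ∀ i, i < 8733 → P i := stepQ 8732 Q8732 (allL N8732 (tt N8010 F57701) (tt N9494 (iv F60782)) (tt N7873 F57702) (tt N9500 (iv F60810)) (tt N8199 F57703) (tt N7870 F57704) (tt N9503 (iv F60823)) (tt N9504 D15391) (tt N7869 (iv D14619)))
theorem Q8734 : ∀ i, i < 8734 → P i := stepQ 8733 Q8733 (allL N8733 (tt N8011 F57705) (tt N9495 (iv F60787)) (tt N7874 F57706) (tt N9505 D15392) (tt N7871 F57707) (tt N9504 (iv F60827)) (tt N9485 (iv F60739)) (tt N7870 (iv D14620)) (tt N9475 (iv F60685)))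
theorem Q8735 : ∀ i, i < 8735 → P i := stepQ 8734 Q8734 (allL N8734 (tt N8012 F57708) (tt N9496 (iv F60791)) (tt N8578 F57709) (tt N7871 (iv D14621)) (tt N9506 D15393) (tt N8201 F57710) (tt N9486 (iv F60742)) (tt N8962 (iv F58766)) (tt N9476 (iv F60689)))
theorem Q8736 : ∀ i, i < 8736 → P i := stepQ 8735 Q8735 (allL N8735 (tt N8013 F57711) (tt N7917 F57712) (tt N9503 (iv F60820)) (tt N7882 F57713) (tt N8202 F57714) (tt N8231 F57715) (tt N7873 F57716) (tt N9507 D15394) (tt N7872 (iv D14622)))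
theorem Q8737 : ∀ i, i < 8737 → P i := stepQ 8736 Q8736 (allL N8736 (tt N8014 F57717) (tt N7918 F57718) (tt N9504 (iv F60825)) (tt N9508 D15395) (tt N8203 F57719) (tt N7874 F57720) (tt N9507 (iv F60836)) (tt N7873 (iv D14623)) (tt N9477 (iv F60695)))
theorem Q8738 : ∀ i, i < 8738 → P i := stepQ 8737 Q8737 (allL N8737 (tt N8015 F57721) (tt N7919 F57722) (tt N9509 D15396) (tt N7874 (iv D14624)) (tt N8580 F57723) (tt N9508 (iv F60840)) (tt N9487 (iv F60747)) (tt N7884 F57724) (tt N9478 (iv F60700)))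
theorem Q8739 : ∀ i, i < 8739 → P i := stepQ 8738 Q8738 (allL N8738 (tt N8023 F57725) (tt N7920 F57726) (tt N9510 D15397) (tt N7875 (iv D14625)) (tt N8489 F57727) (tt N8494 F57728) (tt N7884 F57729) (tt N9487 (iv F60748)) (tt N8738 F57730))
theorem Q8740 : ∀ i, i < 8740 → P i := stepQ 8739 Q8739 (allL N8739 (tt N8024 F57731) (tt N8941 (iv F58660)) (tt N9497 (iv F60794)) (tt N7885 F57732) (tt N7876 (iv D14626)) (tt N8939 (iv F58651)) (tt N9301 (iv F60055)) (tt N9300 F60049) (tt N9432 (iv F60485)))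
theorem Q8741 : ∀ i, i < 8741 → P i := stepQ 8740 Q8740 (allL N8740 (tt N8025 F57733) (tt N8556 F57734) (tt N9498 (iv F60800)) (tt N7879 F57735) (tt N9301 (iv F60053)) (tt N8558 F57736) (tt N7876 (iv D14627)) (tt N9299 F60043) (tt N9511 D15398))
theorem Q8742 : ∀ i, i < 8742 → P i := stepQ 8741 Q8741 (allL N8741 (tt N8026 F57737) (tt N8106 F57738) (tt N9499 (iv F60805)) (tt N8741 F57739) (tt N9300 (iv F60047)) (tt N7877 F57740) (tt N9299 F60042) (tt N7876 (iv D14628)) (tt N9512 D15399))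
theorem Q8743 : ∀ i, i < 8743 → P i := stepQ 8742 Q8742 (allL N8742 (tt N8027 F57741) (tt N9230 (iv F59736)) (tt N9500 (iv F60809)) (tt N7880 F57742) (tt N9432 (iv F60483)) (tt N7878 F57743) (tt N9511 (iv F60856)) (tt N9513 D15400) (tt N7876 (iv D14629)))
theorem Q8744 : ∀ i, i < 8744 → P i := stepQ 8743 Q8743 (allL N8743 (tt N8028 F57744) (tt N8107 F57745) (tt N9501 (iv F60813)) (tt N8743 F57746) (tt N7961 F57747) (tt N9512 (iv F60860)) (tt N7966 F57748) (tt N9514 D15401) (tt N7877 (iv D14630)))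
theorem Q8745 : ∀ i, i < 8745 → P i := stepQ 8744 Q8744 (allL N8744 (tt N8029 F57749) (tt N9231 (iv F59741)) (tt N9502 (iv F60817)) (tt N9515 D15402) (tt N8963 (iv F58770)) (tt N9513 (iv F60862)) (tt N9084 (iv F59241)) (tt N7878 (iv D14631)) (tt N9514 (iv F60867)))
theorem Q8746 : ∀ i, i < 8746 → P i := stepQ 8745 Q8745 (allL N8745 (tt N8030 F57750) (tt N8475 F57751) (tt N7882 F57752) (tt N9511 (iv F60854)) (tt N7887 F57753) (tt N8476 F57754) (tt N7880 F57755) (tt N8686 (iv F57756)) (tt N7879 (iv D14632)))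
theorem Q8747 : ∀ i, i < 8747 → P i := stepQ 8746 Q8746 (allL N8746 (tt N8032 F57757) (tt N9323 (iv F60146)) (tt N9516 D15403) (tt N7881 (iv D14633)) (tt N9307 (iv F60086)) (tt N9425 (iv F60465)) (tt N9306 (iv F60082)) (tt N9515 (iv F60869)) (tt N8746 F57758))
theorem Q8748 : ∀ i, i < 8748 → P i := stepQ 8747 Q8747 (allL N8747 (tt N8035 F57759) (tt N7921 F57760) (tt N9517 D15404) (tt N7883 (iv D14634)) (tt N9433 (iv F60488)) (tt N7884 F57761) (tt N8668 F57762) (tt N9508 (iv F60842)) (tt N8747 F57763))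
theorem Q8749 : ∀ i, i < 8749 → P i := stepQ 8748 Q8748 (allL N8748 (tt N8036 F57764) (tt N9518 D15405) (tt N7884 (iv D14635)) (tt N9516 (iv F60871)) (tt N8593 F57765) (tt N9517 (iv F60875)) (tt N9510 (iv F60850)) (tt N9509 (iv F60845)) (tt N8748 F57766))
theorem Q8750 : ∀ i, i < 8750 → P i := stepQ 8749 Q8749 (allL N8749 (tt N7931 F57767) (tt N9461 (iv F60604)) (tt N8236 F57768) (tt N8078 F57769) (tt N8149 F57770) (tt N7893 F57771) (tt N8227 F57772) (tt N7889 (iv D14636)) (tt N7904 F57773))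
theorem Q8751 : ∀ i, i < 8751 → P i := stepQ 8750 Q8750 (allL N8750 (tt N8299 F57774) (tt N7891 F57775) (tt N9462 (iv F60612)) (tt N8750 F57776) (tt N8187 F57777) (tt N8179 F57778) (tt N7896 F57779) (tt N9519 D15406) (tt N7890 (iv D14637)))
theorem Q8752 : ∀ i, i < 8752 → P i := stepQ 8751 Q8751 (allL N8751 (tt N7932 F57780) (tt N9519 (iv F60884)) (tt N7893 F57781) (tt N9520 D15407) (tt N8241 F57782) (tt N8236 F57783) (tt N7898 F57784) (tt N7891 (iv D14638)) (tt N7907 F57785))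
theorem Q8753 : ∀ i, i < 8753 → P i := stepQ 8752 Q8752 (allL N8752 (tt N7933 F57786) (tt N9466 (iv F60634)) (tt N8241 F57787) (tt N9521 D15408) (tt N7893 F57788) (tt N8239 F57789) (tt N7900 F57790) (tt N7892 (iv D14639)) (tt N7908 F57791))
theorem Q8754 : ∀ i, i < 8754 → P i := stepQ 8753 Q8753 (allL N8753 (tt N7896 F57792) (tt N7934 F57793) (tt N9467 (iv F60641)) (tt N8753 F57794) (tt N8344 F57795) (tt N8230 F57796) (tt N8299 F57797) (tt N9522 D15409) (tt N7894 (iv D14640)))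
theorem Q8755 : ∀ i, i < 8755 → P i := stepQ 8754 Q8754 (allL N8754 (tt N8344 F57798) (tt N7897 F57799) (tt N9469 (iv F60654)) (tt N8210 F57800) (tt N7896 F57801) (tt N8202 F57802) (tt N8187 F57803) (tt N9523 D15410) (tt N7895 (iv D14641)))
theorem Q8756 : ∀ i, i < 8756 → P i := stepQ 8755 Q8755 (allL N8755 (tt N9522 (iv F60903)) (tt N7898 F57804) (tt N9470 (iv F60659)) (tt N9524 D15411) (tt N9523 (iv F60912)) (tt N8232 F57805) (tt N9519 (iv F60887)) (tt N7896 (iv D14642)) (tt N7913 F57806))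
theorem Q8757 : ∀ i, i < 8757 → P i := stepQ 8756 Q8756 (allL N8756 (tt N7936 F57807) (tt N9523 (iv F60910)) (tt N7900 F57808) (tt N8402 F57809) (tt N7898 F57810) (tt N8250 F57811) (tt N8241 F57812) (tt N7897 (iv D14643)) (tt N7915 F57813))
theorem Q8758 : ∀ i, i < 8758 → P i := stepQ 8757 Q8757 (allL N8757 (tt N7937 F57814) (tt N9524 (iv F60916)) (tt N8598 F57815) (tt N7898 (iv D14644)) (tt N9525 D15412) (tt N8234 F57816) (tt N9520 (iv F60893)) (tt N8757 F57817) (tt N7916 F57818))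
theorem Q8759 : ∀ i, i < 8759 → P i := stepQ 8758 Q8758 (allL N8758 (tt N7938 F57819) (tt N9477 (iv F60691)) (tt N8250 F57820) (tt N9526 D15413) (tt N8235 F57821) (tt N7900 F57822) (tt N8247 F57823) (tt N7899 (iv D14645)) (tt N7918 F57824))
theorem Q8760 : ∀ i, i < 8760 → P i := stepQ 8759 Q8759 (allL N8759 (tt N7939 F57825) (tt N9478 (iv F60697)) (tt N9527 D15414) (tt N7900 (iv D14646)) (tt N8599 F57826) (tt N9526 (iv F60930)) (tt N9521 (iv F60900)) (tt N8759 F57827) (tt N7919 F57828))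
theorem Q8761 : ∀ i, i < 8761 → P i := stepQ 8760 Q8760 (allL N8760 (tt N8138 F57829) (tt N7902 F57830) (tt N9479 (iv F60703)) (tt N7924 F57831) (tt N8164 F57832) (tt N7906 F57833) (tt N8140 F57834) (tt N9528 D15415) (tt N7901 (iv D14647)))
theorem Q8762 : ∀ i, i < 8762 → P i := stepQ 8761 Q8761 (allL N8761 (tt N7940 F57835) (tt N9528 (iv F60942)) (tt N7904 F57836) (tt N8666 F57837) (tt N8227 F57838) (tt N7907 F57839) (tt N8149 F57840) (tt N7902 (iv D14648)) (tt N8236 F57841))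
theorem Q8763 : ∀ i, i < 8763 → P i := stepQ 8762 Q8762 (allL N8762 (tt N7941 F57842) (tt N9482 (iv F60718)) (tt N8227 F57843) (tt N9529 D15416) (tt N7904 F57844) (tt N8229 F57845) (tt N8236 F57846) (tt N7903 (iv D14649)) (tt N8149 F57847))
theorem Q8764 : ∀ i, i < 8764 → P i := stepQ 8763 Q8763 (allL N8763 (tt N7906 F57848) (tt N7942 F57849) (tt N9483 (iv F60725)) (tt N7925 F57850) (tt N8222 F57851) (tt N8138 F57852) (tt N7910 F57853) (tt N9530 D15417) (tt N7905 (iv D14650)))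
theorem Q8765 : ∀ i, i < 8765 → P i := stepQ 8764 Q8764 (allL N8764 (tt N9530 (iv F60955)) (tt N7907 F57854) (tt N9484 (iv F60731)) (tt N9531 D15418) (tt N8368 F57855) (tt N9528 (iv F60945)) (tt N7913 F57856) (tt N7906 (iv D14651)) (tt N9519 (iv F60888)))
theorem Q8766 : ∀ i, i < 8766 → P i := stepQ 8765 Q8765 (allL N8765 (tt N7944 F57857) (tt N9531 (iv F60961)) (tt N8264 F57858) (tt N7907 (iv D14652)) (tt N8071 F57859) (tt N8666 F57860) (tt N7916 F57861) (tt N7927 F57862) (tt N9520 (iv F60895)))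
theorem Q8767 : ∀ i, i < 8767 → P i := stepQ 8766 Q8766 (allL N8766 (tt N7945 F57863) (tt N9487 (iv F60744)) (tt N8410 F57864) (tt N7908 (iv D14653)) (tt N8417 F57865) (tt N8411 F57866) (tt N7919 F57867) (tt N7920 F57868) (tt N9521 (iv F60902)))
theorem Q8768 : ∀ i, i < 8768 → P i := stepQ 8767 Q8767 (allL N8767 (tt N7912 F57869) (tt N7946 F57870) (tt N9489 (iv F60758)) (tt N8221 F57871) (tt N7910 F57872) (tt N8335 F57873) (tt N8222 F57874) (tt N9532 D15419) (tt N7909 (iv D14654)))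
theorem Q8769 : ∀ i, i < 8769 → P i := stepQ 8768 Q8768 (allL N8768 (tt N7913 F57875) (tt N7947 F57876) (tt N9490 (iv F60764)) (tt N9533 D15420) (tt N9532 (iv F60969)) (tt N8243 F57877) (tt N9530 (iv F60959)) (tt N7910 (iv D14655)) (tt N9522 (iv F60908)))
theorem Q8770 : ∀ i, i < 8770 → P i := stepQ 8769 Q8769 (allL N8769 (tt N8335 F57878) (tt N7914 F57879) (tt N9494 (iv F60783)) (tt N8380 F57880) (tt N8244 F57881) (tt N7912 F57882) (tt N8175 F57883) (tt N9534 D15421) (tt N7911 (iv D14656)))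
theorem Q8771 : ∀ i, i < 8771 → P i := stepQ 8770 Q8770 (allL N8770 (tt N9532 (iv F60966)) (tt N7915 F57884) (tt N9495 (iv F60788)) (tt N8367 F57885) (tt N7913 F57886) (tt N9534 (iv F60982)) (tt N8368 F57887) (tt N7912 (iv D14657)) (tt N9523 (iv F60915)))
theorem Q8772 : ∀ i, i < 8772 → P i := stepQ 8771 Q8771 (allL N8771 (tt N9533 (iv F60973)) (tt N7916 F57888) (tt N9535 D15422) (tt N7913 (iv D14658)) (tt N9536 D15423) (tt N8246 F57889) (tt N9531 (iv F60964)) (tt N7929 F57890) (tt N9524 (iv F60919)))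
theorem Q8773 : ∀ i, i < 8773 → P i := stepQ 8772 Q8772 (allL N8772 (tt N7950 F57891) (tt N9534 (iv F60979)) (tt N7918 F57892) (tt N8403 F57893) (tt N8247 F57894) (tt N7915 F57895) (tt N8235 F57896) (tt N7914 (iv D14659)) (tt N8250 F57897))
theorem Q8774 : ∀ i, i < 8774 → P i := stepQ 8773 Q8773 (allL N8773 (tt N7951 F57898) (tt N9536 (iv F60989)) (tt N8603 F57899) (tt N8070 F57900) (tt N7916 (iv D14660)) (tt N8670 (iv F57903)) (tt N8071 F57901) (tt N7930 F57902) (tt N9525 (iv F60925)))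
theorem Q8775 : ∀ i, i < 8775 → P i := stepQ 8774 Q8774 (allL N8774 (tt N7952 F57904) (tt N9507 (iv F60832)) (tt N8235 F57905) (tt N8665 F57906) (tt N8250 F57907) (tt N8233 F57908) (tt N7918 F57909) (tt N7917 (iv D14661)) (tt N8247 F57910))
theorem Q8776 : ∀ i, i < 8776 → P i := stepQ 8775 Q8775 (allL N8775 (tt N7953 F57911) (tt N9508 (iv F60839)) (tt N8664 F57912) (tt N7918 (iv D14662)) (tt N9537 D15424) (tt N7919 F57913) (tt N8665 F57914) (tt N7921 F57915) (tt N9526 (iv F60933)))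
theorem Q8777 : ∀ i, i < 8777 → P i := stepQ 8776 Q8776 (allL N8776 (tt N7954 F57916) (tt N9538 D15425) (tt N7919 (iv D14663)) (tt N8409 F57917) (tt N8605 F57918) (tt N8664 F57919) (tt N8410 F57920) (tt N7922 F57921) (tt N9527 (iv F60940)))
theorem Q8778 : ∀ i, i < 8778 → P i := stepQ 8777 Q8777 (allL N8777 (tt N7955 F57922) (tt N9433 (iv F60487)) (tt N8151 F57923) (tt N7923 F57924) (tt N7921 (iv D14664)) (tt N8144 F57925) (tt N7957 F57926) (tt N9537 (iv F60999)) (tt N8777 F57927))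
theorem Q8779 : ∀ i, i < 8779 → P i := stepQ 8778 Q8778 (allL N8778 (tt N9539 D15426) (tt N7922 (iv D14665)) (tt N9518 (iv F60878)) (tt N8490 F57928) (tt N8606 F57929) (tt N8653 F57930) (tt N8491 F57931) (tt N9538 (iv F61005)) (tt N8778 F57932))
theorem Q8780 : ∀ i, i < 8780 → P i := stepQ 8779 Q8779 (allL N8779 (tt N9433 (iv F60486)) (tt N7927 F57933) (tt N9540 D15427) (tt N7926 (iv D14666)) (tt N8035 F57934) (tt N8655 F57935) (tt N7929 F57936) (tt N9531 (iv F60965)) (tt N8779 F57937))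
theorem Q8781 : ∀ i, i < 8781 → P i := stepQ 8780 Q8780 (allL N8780 (tt N7929 F57938) (tt N7957 F57939) (tt N9541 D15428) (tt N7928 (iv D14667)) (tt N8668 F57940) (tt N8254 F57941) (tt N9433 (iv F60490)) (tt N9533 (iv F60977)) (tt N8780 F57942))
theorem Q8782 : ∀ i, i < 8782 → P i := stepQ 8781 Q8781 (allL N8781 (tt N9541 (iv F61017)) (tt N8607 F57943) (tt N7929 (iv D14668)) (tt N8970 (iv F58801)) (tt N9542 D15429) (tt N8255 F57944) (tt N9540 (iv F61015)) (tt N9535 (iv F60987)) (tt N8781 F57945))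
theorem Q8783 : ∀ i, i < 8783 → P i := stepQ 8782 Q8782 (allL N8782 (tt N8668 F57946) (tt N7930 F57947) (tt N9542 (iv F61024)) (tt N8034 F57948) (tt N7929 (iv D14669)) (tt N8669 (iv F57951)) (tt N8035 F57949) (tt N9536 (iv F60992)) (tt N8782 F57950))
theorem Q8784 : ∀ i, i < 8784 → P i := stepQ 8783 Q8783 (allL N8783 (tt N9520 (iv F60889)) (tt N8303 F57952) (tt N8259 F57953) (tt N7932 (iv D14670)) (tt N8082 F57954) (tt N8260 F57955) (tt N7937 F57956) (tt N8783 F57957) (tt N7944 F57958))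
theorem Q8785 : ∀ i, i < 8785 → P i := stepQ 8784 Q8784 (allL N8784 (tt N9521 (iv F60896)) (tt N8077 F57959) (tt N8415 F57960) (tt N7933 (iv D14671)) (tt N8414 F57961) (tt N8261 F57962) (tt N7939 F57963) (tt N8784 F57964) (tt N7945 F57965))
theorem Q8786 : ∀ i, i < 8786 → P i := stepQ 8785 Q8785 (allL N8785 (tt N7935 F57966) (tt N9522 (iv F60904)) (tt N8078 F57967) (tt N9543 D15430) (tt N8403 F57968) (tt N8258 F57969) (tt N8301 F57970) (tt N7934 (iv D14672)) (tt N7947 F57971))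
theorem Q8787 : ∀ i, i < 8787 → P i := stepQ 8786 Q8786 (allL N8786 (tt N9543 (iv F61028)) (tt N7937 F57972) (tt N8260 F57973) (tt N7935 (iv D14673)) (tt N8266 F57974) (tt N8259 F57975) (tt N8303 F57976) (tt N8786 F57977) (tt N7949 F57978))
theorem Q8788 : ∀ i, i < 8788 → P i := stepQ 8787 Q8787 (allL N8787 (tt N9525 (iv F60920)) (tt N8266 F57979) (tt N8610 F57980) (tt N8081 F57981) (tt N7937 (iv D14674)) (tt N8265 (iv F57985)) (tt N8082 F57982) (tt N8787 F57983) (tt N7951 F57984))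
theorem Q8789 : ∀ i, i < 8789 → P i := stepQ 8788 Q8788 (allL N8788 (tt N9526 (iv F60927)) (tt N8082 F57986) (tt N8093 F57987) (tt N7938 (iv D14675)) (tt N8303 F57988) (tt N7939 F57989) (tt N8266 F57990) (tt N8788 F57991) (tt N7953 F57992))
theorem Q8790 : ∀ i, i < 8790 → P i := stepQ 8789 Q8789 (allL N8789 (tt N9527 (iv F60934)) (tt N8095 (iv F57999)) (tt N7939 (iv D14676)) (tt N8092 F57993) (tt N8611 F57994) (tt N8093 F57995) (tt N8415 F57996) (tt N8789 F57997) (tt N7954 F57998))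
theorem Q8791 : ∀ i, i < 8791 → P i := stepQ 8790 Q8790 (allL N8790 (tt N9529 (iv F60948)) (tt N8084 F58000) (tt N8303 F58001) (tt N7941 (iv D14677)) (tt N8093 F58002) (tt N8257 F58003) (tt N8260 F58004) (tt N8790 F58005) (tt N8150 F58006))
theorem Q8792 : ∀ i, i < 8792 → P i := stepQ 8791 Q8791 (allL N8791 (tt N7943 F58007) (tt N9530 (iv F60956)) (tt N8085 F58008) (tt N9537 (iv F60996)) (tt N8251 F58009) (tt N8139 F58010) (tt N7947 F58011) (tt N7942 (iv D14678)) (tt N8301 F58012))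
theorem Q8793 : ∀ i, i < 8793 → P i := stepQ 8792 Q8792 (allL N8792 (tt N9537 (iv F60994)) (tt N7944 F58013) (tt N8150 F58014) (tt N7943 (iv D14679)) (tt N7953 F58015) (tt N8148 F58016) (tt N7949 F58017) (tt N7955 F58018) (tt N8303 F58019))
theorem Q8794 : ∀ i, i < 8794 → P i := stepQ 8793 Q8793 (allL N8793 (tt N7948 F58020) (tt N9532 (iv F60967)) (tt N8091 F58021) (tt N8250 F58022) (tt N7947 F58023) (tt N8402 F58024) (tt N8251 F58025) (tt N7946 (iv D14680)) (tt N8403 F58026))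
theorem Q8795 : ∀ i, i < 8795 → P i := stepQ 8794 Q8794 (allL N8794 (tt N7949 F58027) (tt N9533 (iv F60974)) (tt N8666 F58028) (tt N7947 (iv D14681)) (tt N8665 F58029) (tt N8264 F58030) (tt N9537 (iv F60998)) (tt N7957 F58031) (tt N9543 (iv F61034)))
theorem Q8796 : ∀ i, i < 8796 → P i := stepQ 8795 Q8795 (allL N8795 (tt N9544 D15431) (tt N7954 (iv D14682)) (tt N8098 F58032) (tt N8079 F58033) (tt N8614 F58034) (tt N8080 F58035) (tt N8418 F58036) (tt N7956 F58037) (tt N8095 F58038))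
theorem Q8797 : ∀ i, i < 8797 → P i := stepQ 8796 Q8796 (allL N8796 (tt N7956 (iv D14683)) (tt N9539 (iv F61006)) (tt N8101 F58039) (tt N8495 F58040) (tt N8609 F58041) (tt N8147 F58042) (tt N8496 F58043) (tt N9544 (iv F61040)) (tt N8796 F58044))
theorem Q8798 : ∀ i, i < 8798 → P i := stepQ 8797 Q8797 (allL N8797 (tt N9095 (iv F59281)) (tt N8132 F58045) (tt N7958 (iv D14684)) (tt N7969 F58046) (tt N8724 F58047) (tt N7960 F58048) (tt N8267 F58049) (tt N8799 (iv F58058)) (tt N9545 D15432))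
theorem Q8799 : ∀ i, i < 8799 → P i := stepQ 8798 Q8798 (allL N8798 (tt N9104 (iv F59312)) (tt N8102 F58050) (tt N9545 (iv F61043)) (tt N7959 F58051) (tt N9211 (iv F59663)) (tt N7961 F58052) (tt N8304 F58053) (tt N9546 D15433) (tt N7958 (iv D14685)))
theorem Q8800 : ∀ i, i < 8800 → P i := stepQ 8799 Q8799 (allL N8799 (tt N8279 (iv F58059)) (tt N7960 (iv D14686)) (tt N8103 F58054) (tt N7971 F58055) (tt N9492 (iv F60775)) (tt N8132 F58056) (tt N7962 F58057) (tt N8797 F58058) (tt N9547 D15434))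
theorem Q8801 : ∀ i, i < 8801 → P i := stepQ 8800 Q8800 (allL N8800 (tt N9097 (iv F59290)) (tt N9547 (iv F61053)) (tt N7961 F58060) (tt N7973 F58061) (tt N9501 (iv F60814)) (tt N9545 (iv F61046)) (tt N7964 F58062) (tt N9548 D15435) (tt N7960 (iv D14687)))
theorem Q8802 : ∀ i, i < 8802 → P i := stepQ 8801 Q8801 (allL N8801 (tt N9106 (iv F59319)) (tt N8108 F58063) (tt N9548 (iv F61058)) (tt N8430 F58064) (tt N9514 (iv F60865)) (tt N9546 (iv F61050)) (tt N7967 F58065) (tt N7961 (iv D14688)) (tt N8963 (iv F58772)))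
theorem Q8803 : ∀ i, i < 8803 → P i := stepQ 8802 Q8802 (allL N8802 (tt N7962 (iv D14689)) (tt N9451 (iv F60549)) (tt N8109 F58066) (tt N7976 F58067) (tt N9549 D15436) (tt N8309 F58068) (tt N8279 F58069) (tt N8973 (iv F58817)) (tt N9550 D15437))
theorem Q8804 : ∀ i, i < 8804 → P i := stepQ 8803 Q8803 (allL N8803 (tt N9549 (iv F61060)) (tt N7963 F58070) (tt N8110 F58071) (tt N9551 D15438) (tt N7962 (iv D14690)) (tt N8539 (iv F58073)) (tt N9492 (iv F60776)) (tt N8541 F58072) (tt N9552 D15439))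
theorem Q8805 : ∀ i, i < 8805 → P i := stepQ 8804 Q8804 (allL N8804 (tt N9550 (iv F61067)) (tt N7964 F58074) (tt N8111 F58075) (tt N7978 F58076) (tt N9552 (iv F61081)) (tt N8311 F58077) (tt N9547 (iv F61057)) (tt N9553 D15440) (tt N7962 (iv D14691)))
theorem Q8806 : ∀ i, i < 8806 → P i := stepQ 8805 Q8805 (allL N8805 (tt N9454 (iv F60567)) (tt N9551 (iv F61073)) (tt N8805 F58078) (tt N7963 (iv D14692)) (tt N7979 F58079) (tt N9554 D15441) (tt N9472 (iv F60672)) (tt N9463 (iv F60622)) (tt N9555 D15442))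
theorem Q8807 : ∀ i, i < 8807 → P i := stepQ 8806 Q8806 (allL N8806 (tt N9455 (iv F60574)) (tt N8539 F58080) (tt N7965 F58081) (tt N9554 (iv F61089)) (tt N8313 F58082) (tt N7963 (iv D14693)) (tt N9556 D15443) (tt N8542 F58083) (tt N9557 D15444))
theorem Q8808 : ∀ i, i < 8808 → P i := stepQ 8807 Q8807 (allL N8807 (tt N9456 (iv F60580)) (tt N9552 (iv F61079)) (tt N7966 F58084) (tt N9555 (iv F61093)) (tt N7964 F58085) (tt N9557 (iv F61103)) (tt N9501 (iv F60815)) (tt N9558 D15445) (tt N7963 (iv D14694)))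
theorem Q8809 : ∀ i, i < 8809 → P i := stepQ 8808 Q8808 (allL N8808 (tt N9457 (iv F60584)) (tt N9553 (iv F61083)) (tt N7967 F58086) (tt N9559 D15446) (tt N9558 (iv F61105)) (tt N8315 F58087) (tt N9548 (iv F61059)) (tt N7964 (iv D14695)) (tt N9083 (iv F59237)))
theorem Q8810 : ∀ i, i < 8810 → P i := stepQ 8809 Q8809 (allL N8809 (tt N9308 (iv F60090)) (tt N8114 F58088) (tt N9556 (iv F61096)) (tt N8809 F58089) (tt N8316 F58090) (tt N9299 (iv F60041)) (tt N7965 (iv D14696)) (tt N8558 F58091) (tt N9560 D15447))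
theorem Q8811 : ∀ i, i < 8811 → P i := stepQ 8810 Q8810 (allL N8810 (tt N9458 (iv F60587)) (tt N8115 F58092) (tt N9557 (iv F61101)) (tt N8810 F58093) (tt N8317 F58094) (tt N7966 F58095) (tt N9560 (iv F61112)) (tt N9561 D15448) (tt N7965 (iv D14697)))
theorem Q8812 : ∀ i, i < 8812 → P i := stepQ 8811 Q8811 (allL N8811 (tt N9459 (iv F60592)) (tt N8116 F58096) (tt N9558 (iv F61104)) (tt N9562 D15449) (tt N7967 F58097) (tt N9561 (iv F61115)) (tt N9514 (iv F60866)) (tt N7966 (iv D14698)) (tt N9084 (iv F59242)))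
theorem Q8813 : ∀ i, i < 8813 → P i := stepQ 8812 Q8812 (allL N8812 (tt N9460 (iv F60597)) (tt N8133 F58098) (tt N7970 F58099) (tt N9545 (iv F61044)) (tt N8131 F58100) (tt N7973 F58101) (tt N8272 F58102) (tt N9563 D15450) (tt N7969 (iv D14699)))
theorem Q8814 : ∀ i, i < 8814 → P i := stepQ 8813 Q8813 (allL N8813 (tt N9461 (iv F60603)) (tt N8040 F58103) (tt N9563 (iv F61121)) (tt N8047 F58104) (tt N8141 F58105) (tt N7975 F58106) (tt N8298 F58107) (tt N7970 (iv D14700)) (tt N7989 F58108))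
theorem Q8815 : ∀ i, i < 8815 → P i := stepQ 8814 Q8814 (allL N8814 (tt N8282 F58109) (tt N7973 F58110) (tt N8041 F58111) (tt N9547 (iv F61055)) (tt N8576 F58112) (tt N8133 F58113) (tt N7978 F58114) (tt N9564 D15451) (tt N7971 (iv D14701)))
theorem Q8816 : ∀ i, i < 8816 → P i := stepQ 8815 Q8815 (allL N8815 (tt N9463 (iv F60616)) (tt N8573 F58115) (tt N8815 F58116) (tt N7972 (iv D14702)) (tt N9472 (iv F60671)) (tt N8570 F58117) (tt N7979 F58118) (tt N9454 (iv F60572)) (tt N9565 D15452))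
theorem Q8817 : ∀ i, i < 8817 → P i := stepQ 8816 Q8816 (allL N8816 (tt N9464 (iv F60623)) (tt N8576 F58119) (tt N7974 F58120) (tt N9565 (iv F61135)) (tt N7973 F58121) (tt N8571 F58122) (tt N7981 F58123) (tt N9566 D15453) (tt N7972 (iv D14703)))
theorem Q8818 : ∀ i, i < 8818 → P i := stepQ 8817 Q8817 (allL N8817 (tt N9465 (iv F60629)) (tt N9564 (iv F61127)) (tt N7975 F58124) (tt N9567 D15454) (tt N9566 (iv F61140)) (tt N9563 (iv F61123)) (tt N7982 F58125) (tt N7973 (iv D14704)) (tt N7996 F58126))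
theorem Q8819 : ∀ i, i < 8819 → P i := stepQ 8818 Q8818 (allL N8818 (tt N9466 (iv F60633)) (tt N8043 F58127) (tt N9566 (iv F61139)) (tt N9568 D15455) (tt N7975 F58128) (tt N8600 F58129) (tt N7985 F58130) (tt N7974 (iv D14705)) (tt N7999 F58131))
theorem Q8820 : ∀ i, i < 8820 → P i := stepQ 8819 Q8819 (allL N8819 (tt N7978 F58132) (tt N9467 (iv F60640)) (tt N8044 F58133) (tt N9550 (iv F61069)) (tt N8636 F58134) (tt N8323 F58135) (tt N8282 F58136) (tt N9569 D15456) (tt N7976 (iv D14706)))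
theorem Q8821 : ∀ i, i < 8821 → P i := stepQ 8820 Q8820 (allL N8820 (tt N8631 F58137) (tt N7979 F58138) (tt N8582 F58139) (tt N7977 (iv D14707)) (tt N9551 (iv F61075)) (tt N9570 D15457) (tt N8573 F58140) (tt N9571 D15458) (tt N9572 D15459))
theorem Q8822 : ∀ i, i < 8822 → P i := stepQ 8821 Q8821 (allL N8821 (tt N8353 F58141) (tt N7980 F58142) (tt N8045 F58143) (tt N9570 (iv F61162)) (tt N8325 F58144) (tt N7977 (iv D14708)) (tt N8347 F58145) (tt N8003 F58146) (tt N9573 D15460))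
theorem Q8823 : ∀ i, i < 8823 → P i := stepQ 8822 Q8822 (allL N8822 (tt N8636 F58147) (tt N7981 F58148) (tt N8046 F58149) (tt N9572 (iv F61173)) (tt N7978 F58150) (tt N9573 (iv F61179)) (tt N8576 F58151) (tt N9574 D15461) (tt N7977 (iv D14709)))
theorem Q8824 : ∀ i, i < 8824 → P i := stepQ 8823 Q8823 (allL N8823 (tt N9569 (iv F61153)) (tt N7982 F58152) (tt N8047 F58153) (tt N9575 D15462) (tt N9574 (iv F61184)) (tt N8327 F58154) (tt N9564 (iv F61131)) (tt N7978 (iv D14710)) (tt N8005 F58155))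
theorem Q8825 : ∀ i, i < 8825 → P i := stepQ 8824 Q8824 (allL N8824 (tt N9471 (iv F60662)) (tt N9570 (iv F61160)) (tt N8824 F58156) (tt N7980 F58157) (tt N9576 D15463) (tt N7979 (iv D14711)) (tt N9577 D15464) (tt N9578 D15465) (tt N9579 D15466))
theorem Q8826 : ∀ i, i < 8826 → P i := stepQ 8825 Q8825 (allL N8825 (tt N9472 (iv F60667)) (tt N9571 (iv F61165)) (tt N8825 F58158) (tt N8007 F58159) (tt N9463 (iv F60619)) (tt N9578 (iv F61201)) (tt N9454 (iv F60571)) (tt N7979 (iv D14712)) (tt N9580 D15467))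
theorem Q8827 : ∀ i, i < 8827 → P i := stepQ 8826 Q8826 (allL N8826 (tt N9473 (iv F60673)) (tt N9572 (iv F61171)) (tt N8826 F58160) (tt N7981 F58161) (tt N9555 (iv F61094)) (tt N9579 (iv F61205)) (tt N9565 (iv F61137)) (tt N9581 D15468) (tt N7979 (iv D14713)))
theorem Q8828 : ∀ i, i < 8828 → P i := stepQ 8827 Q8827 (allL N8827 (tt N8192 F58162) (tt N8347 F58163) (tt N7983 F58164) (tt N9577 (iv F61195)) (tt N8331 F58165) (tt N8189 F58166) (tt N7980 (iv D14714)) (tt N8009 F58167) (tt N9582 D15469))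
theorem Q8829 : ∀ i, i < 8829 → P i := stepQ 8828 Q8828 (allL N8828 (tt N9474 (iv F60676)) (tt N9573 (iv F61176)) (tt N7984 F58168) (tt N9579 (iv F61204)) (tt N8332 F58169) (tt N7981 F58170) (tt N9582 (iv F61214)) (tt N9583 D15470) (tt N7980 (iv D14715)))
theorem Q8830 : ∀ i, i < 8830 → P i := stepQ 8829 Q8829 (allL N8829 (tt N9475 (iv F60682)) (tt N9574 (iv F61182)) (tt N7985 F58171) (tt N9584 D15471) (tt N7982 F58172) (tt N9583 (iv F61217)) (tt N9566 (iv F61142)) (tt N7981 (iv D14716)) (tt N8011 F58173))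
theorem Q8831 : ∀ i, i < 8831 → P i := stepQ 8830 Q8830 (allL N8830 (tt N9476 (iv F60686)) (tt N9575 (iv F61187)) (tt N8627 F58174) (tt N7982 (iv D14717)) (tt N9585 D15472) (tt N8334 F58175) (tt N9567 (iv F61145)) (tt N9559 (iv F61108)) (tt N8012 F58176))
theorem Q8832 : ∀ i, i < 8832 → P i := stepQ 8831 Q8831 (allL N8831 (tt N8244 F58177) (tt N8050 F58178) (tt N9582 (iv F61211)) (tt N8831 F58179) (tt N8335 F58180) (tt N8242 F58181) (tt N7984 F58182) (tt N9586 D15473) (tt N7983 (iv D14718)))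
theorem Q8833 : ∀ i, i < 8833 → P i := stepQ 8832 Q8832 (allL N8832 (tt N9477 (iv F60690)) (tt N8051 F58183) (tt N9583 (iv F61215)) (tt N9587 D15474) (tt N8336 F58184) (tt N7985 F58185) (tt N9586 (iv F61226)) (tt N7984 (iv D14719)) (tt N8014 F58186))
theorem Q8834 : ∀ i, i < 8834 → P i := stepQ 8833 Q8833 (allL N8833 (tt N9478 (iv F60696)) (tt N8052 F58187) (tt N9588 D15475) (tt N7985 (iv D14720)) (tt N8629 F58188) (tt N9587 (iv F61229)) (tt N9568 (iv F61150)) (tt N8833 F58189) (tt N8015 F58190))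
theorem Q8835 : ∀ i, i < 8835 → P i := stepQ 8834 Q8834 (allL N8834 (tt N9391 (iv F60383)) (tt N8123 F58191) (tt N8834 F58192) (tt N7986 (iv D14721)) (tt N8839 (iv F58219)) (tt N8559 F58193) (tt N8275 F58194) (tt N8690 F58195) (tt N9589 D15476))
theorem Q8836 : ∀ i, i < 8836 → P i := stepQ 8835 Q8835 (allL N8835 (tt N9480 (iv F60707)) (tt N8125 F58196) (tt N7988 F58197) (tt N9589 (iv F61237)) (tt N7987 F58198) (tt N8565 F58199) (tt N8277 F58200) (tt N9590 D15477) (tt N7986 (iv D14722)))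
theorem Q8837 : ∀ i, i < 8837 → P i := stepQ 8836 Q8836 (allL N8836 (tt N9481 (iv F60713)) (tt N8274 F58201) (tt N7989 F58202) (tt N9591 D15478) (tt N9590 (iv F61242)) (tt N7996 F58203) (tt N8278 F58204) (tt N7987 (iv D14723)) (tt N9563 (iv F61125)))
theorem Q8838 : ∀ i, i < 8838 → P i := stepQ 8837 Q8837 (allL N8837 (tt N9482 (iv F60717)) (tt N8053 F58205) (tt N9590 (iv F61241)) (tt N9592 D15479) (tt N7989 F58206) (tt N8597 F58207) (tt N8300 F58208) (tt N7988 (iv D14724)) (tt N8141 F58209))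
theorem Q8839 : ∀ i, i < 8839 → P i := stepQ 8838 Q8838 (allL N8838 (tt N7992 F58210) (tt N9483 (iv F60724)) (tt N8054 F58211) (tt N8714 F58212) (tt N8625 F58213) (tt N8128 F58214) (tt N8001 F58215) (tt N9593 D15480) (tt N7990 (iv D14725)))
theorem Q8840 : ∀ i, i < 8840 → P i := stepQ 8839 Q8839 (allL N8839 (tt N8622 F58216) (tt N7993 F58217) (tt N8839 F58218) (tt N7991 (iv D14726)) (tt N8834 F58219) (tt N8566 F58220) (tt N8002 F58221) (tt N9452 (iv F60560)) (tt N9594 D15481))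
theorem Q8841 : ∀ i, i < 8841 → P i := stepQ 8840 Q8840 (allL N8840 (tt N8625 F58222) (tt N7995 F58223) (tt N8055 F58224) (tt N9594 (iv F61265)) (tt N7992 F58225) (tt N8567 F58226) (tt N8004 F58227) (tt N9595 D15482) (tt N7991 (iv D14727)))
theorem Q8842 : ∀ i, i < 8842 → P i := stepQ 8841 Q8841 (allL N8841 (tt N9593 (iv F61256)) (tt N7996 F58228) (tt N8056 F58229) (tt N9596 D15483) (tt N9595 (iv F61272)) (tt N8274 F58230) (tt N8005 F58231) (tt N7992 (iv D14728)) (tt N9564 (iv F61132)))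
theorem Q8843 : ∀ i, i < 8843 → P i := stepQ 8842 Q8842 (allL N8842 (tt N8542 F58232) (tt N8566 F58233) (tt N8016 F58234) (tt N7994 F58235) (tt N9332 (iv F60192)) (tt N7993 (iv D14729)) (tt N9597 D15484) (tt N9455 (iv F60579)) (tt N9598 D15485))
theorem Q8844 : ∀ i, i < 8844 → P i := stepQ 8843 Q8843 (allL N8843 (tt N9082 (iv F59230)) (tt N9594 (iv F61263)) (tt N8017 F58236) (tt N7995 F58237) (tt N8953 (iv F58719)) (tt N9598 (iv F61290)) (tt N8008 F58238) (tt N9599 D15486) (tt N7993 (iv D14730)))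
theorem Q8845 : ∀ i, i < 8845 → P i := stepQ 8844 Q8844 (allL N8844 (tt N8169 F58239) (tt N8322 F58240) (tt N7997 F58241) (tt N9597 (iv F61284)) (tt N8168 F58242) (tt N8009 F58243) (tt N7994 (iv D14731)) (tt N8189 F58244) (tt N9600 D15487))
theorem Q8846 : ∀ i, i < 8846 → P i := stepQ 8845 Q8845 (allL N8845 (tt N8392 F58245) (tt N8567 F58246) (tt N7998 F58247) (tt N9598 (iv F61289)) (tt N8565 F58248) (tt N7995 F58249) (tt N9600 (iv F61298)) (tt N9601 D15488) (tt N7994 (iv D14732)))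
theorem Q8847 : ∀ i, i < 8847 → P i := stepQ 8846 Q8846 (allL N8846 (tt N9485 (iv F60734)) (tt N9595 (iv F61270)) (tt N7999 F58250) (tt N9602 D15489) (tt N7996 F58251) (tt N9601 (iv F61303)) (tt N8011 F58252) (tt N7995 (iv D14733)) (tt N9566 (iv F61143)))
theorem Q8848 : ∀ i, i < 8848 → P i := stepQ 8847 Q8847 (allL N8847 (tt N9486 (iv F60740)) (tt N9596 (iv F61276)) (tt N8356 F58253) (tt N7996 (iv D14734)) (tt N9603 D15490) (tt N9591 (iv F61248)) (tt N8012 F58254) (tt N9087 (iv F59252)) (tt N9567 (iv F61146)))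
theorem Q8849 : ∀ i, i < 8849 → P i := stepQ 8848 Q8848 (allL N8848 (tt N8231 F58255) (tt N8058 F58256) (tt N9600 (iv F61295)) (tt N8021 F58257) (tt N8230 F58258) (tt N8013 F58259) (tt N7998 F58260) (tt N9604 D15491) (tt N7997 (iv D14735)))
theorem Q8850 : ∀ i, i < 8850 → P i := stepQ 8849 Q8849 (allL N8849 (tt N8412 F58261) (tt N8059 F58262) (tt N9601 (iv F61301)) (tt N9605 D15492) (tt N8597 F58263) (tt N7999 F58264) (tt N9604 (iv F61313)) (tt N7998 (iv D14736)) (tt N8600 F58265))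
theorem Q8851 : ∀ i, i < 8851 → P i := stepQ 8850 Q8850 (allL N8850 (tt N9487 (iv F60743)) (tt N8060 F58266) (tt N9606 D15493) (tt N7999 (iv D14737)) (tt N8408 F58267) (tt N9605 (iv F61317)) (tt N8015 F58268) (tt N8023 F58269) (tt N9568 (iv F61152)))
theorem Q8852 : ∀ i, i < 8852 → P i := stepQ 8851 Q8851 (allL N8851 (tt N8002 F58270) (tt N9488 (iv F60750)) (tt N8851 F58271) (tt N8000 (iv D14738)) (tt N9004 (iv F58931)) (tt N9607 D15494) (tt N8622 F58272) (tt N9608 D15495) (tt N9609 D15496))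
theorem Q8853 : ∀ i, i < 8853 → P i := stepQ 8852 Q8852 (allL N8852 (tt N8003 F58273) (tt N8331 F58274) (tt N8061 F58275) (tt N9607 (iv F61327)) (tt N8347 F58276) (tt N8000 (iv D14739)) (tt N8325 F58277) (tt N8353 F58278) (tt N9610 D15497))
theorem Q8854 : ∀ i, i < 8854 → P i := stepQ 8853 Q8853 (allL N8853 (tt N8004 F58279) (tt N9489 (iv F60757)) (tt N8062 F58280) (tt N9609 (iv F61337)) (tt N8001 F58281) (tt N9610 (iv F61343)) (tt N8625 F58282) (tt N9611 D15498) (tt N8000 (iv D14740)))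
theorem Q8855 : ∀ i, i < 8855 → P i := stepQ 8854 Q8854 (allL N8854 (tt N8005 F58283) (tt N9490 (iv F60763)) (tt N8063 F58284) (tt N9612 D15499) (tt N9611 (iv F61347)) (tt N8349 F58285) (tt N9593 (iv F61260)) (tt N8001 (iv D14741)) (tt N9569 (iv F61158)))
theorem Q8856 : ∀ i, i < 8856 → P i := stepQ 8855 Q8855 (allL N8855 (tt N9607 (iv F61324)) (tt N8006 F58286) (tt N8855 F58287) (tt N8003 F58288) (tt N9613 D15500) (tt N8002 (iv D14742)) (tt N9614 D15501) (tt N9615 D15502) (tt N9616 D15503))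
theorem Q8857 : ∀ i, i < 8857 → P i := stepQ 8856 Q8856 (allL N8856 (tt N9608 (iv F61329)) (tt N8007 F58289) (tt N8856 F58290) (tt N9571 (iv F61167)) (tt N9089 (iv F59261)) (tt N9615 (iv F61366)) (tt N9452 (iv F60559)) (tt N8002 (iv D14743)) (tt N9617 D15504))
theorem Q8858 : ∀ i, i < 8858 → P i := stepQ 8857 Q8857 (allL N8857 (tt N9609 (iv F61335)) (tt N8008 F58291) (tt N8857 F58292) (tt N8004 F58293) (tt N9090 (iv F59267)) (tt N9616 (iv F61370)) (tt N9594 (iv F61268)) (tt N9618 D15505) (tt N8002 (iv D14744)))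
theorem Q8859 : ∀ i, i < 8859 → P i := stepQ 8858 Q8858 (allL N8858 (tt N8325 F58294) (tt N8009 F58295) (tt N8064 F58296) (tt N9614 (iv F61360)) (tt N8353 F58297) (tt N8322 F58298) (tt N8003 (iv D14745)) (tt N8347 F58299) (tt N9619 D15506))
theorem Q8860 : ∀ i, i < 8860 → P i := stepQ 8859 Q8859 (allL N8859 (tt N9610 (iv F61339)) (tt N8010 F58300) (tt N8065 F58301) (tt N9616 (iv F61369)) (tt N8354 F58302) (tt N8004 F58303) (tt N9619 (iv F61380)) (tt N9620 D15507) (tt N8003 (iv D14746)))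
theorem Q8861 : ∀ i, i < 8861 → P i := stepQ 8860 Q8860 (allL N8860 (tt N9611 (iv F61345)) (tt N8011 F58304) (tt N8066 F58305) (tt N9621 D15508) (tt N8005 F58306) (tt N9620 (iv F61384)) (tt N9595 (iv F61274)) (tt N8004 (iv D14747)) (tt N9574 (iv F61186)))
theorem Q8862 : ∀ i, i < 8862 → P i := stepQ 8861 Q8861 (allL N8861 (tt N9612 (iv F61350)) (tt N8012 F58307) (tt N9591 (iv F61247)) (tt N8005 (iv D14748)) (tt N9622 D15509) (tt N8356 F58308) (tt N9596 (iv F61279)) (tt N9093 (iv F59277)) (tt N9575 (iv F61189)))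
theorem Q8863 : ∀ i, i < 8863 → P i := stepQ 8862 Q8862 (allL N8862 (tt N9497 (iv F60793)) (tt N9613 (iv F61352)) (tt N8024 F58309) (tt N8357 F58310) (tt N8006 (iv D14749)) (tt N9094 (iv F59280)) (tt N9146 (iv F59463)) (tt N9145 F59458) (tt N9623 D15510))
theorem Q8864 : ∀ i, i < 8864 → P i := stepQ 8863 Q8863 (allL N8863 (tt N9498 (iv F60798)) (tt N9614 (iv F61358)) (tt N8025 F58311) (tt N8009 F58312) (tt N9146 (iv F59461)) (tt N9597 (iv F61285)) (tt N8006 (iv D14750)) (tt N9144 F59454) (tt N9624 D15511))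
theorem Q8865 : ∀ i, i < 8865 → P i := stepQ 8864 Q8864 (allL N8864 (tt N9499 (iv F60803)) (tt N9615 (iv F61363)) (tt N8026 F58313) (tt N9578 (iv F61199)) (tt N9145 (iv F59457)) (tt N8007 F58314) (tt N9144 F59453) (tt N8006 (iv D14751)) (tt N9625 D15512))
theorem Q8866 : ∀ i, i < 8866 → P i := stepQ 8865 Q8865 (allL N8865 (tt N9500 (iv F60808)) (tt N9616 (iv F61367)) (tt N8027 F58315) (tt N8010 F58316) (tt N9623 (iv F61389)) (tt N8008 F58317) (tt N9624 (iv F61392)) (tt N9626 D15513) (tt N8006 (iv D14752)))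
theorem Q8867 : ∀ i, i < 8867 → P i := stepQ 8866 Q8866 (allL N8866 (tt N9501 (iv F60812)) (tt N9617 (iv F61371)) (tt N8028 F58318) (tt N9580 (iv F61207)) (tt N9097 (iv F59293)) (tt N9625 (iv F61394)) (tt N9456 (iv F60583)) (tt N9627 D15514) (tt N8007 (iv D14753)))
theorem Q8868 : ∀ i, i < 8868 → P i := stepQ 8867 Q8867 (allL N8867 (tt N9502 (iv F60816)) (tt N9618 (iv F61373)) (tt N8029 F58319) (tt N9628 D15515) (tt N9098 (iv F59296)) (tt N9626 (iv F61396)) (tt N9599 (iv F61292)) (tt N8008 (iv D14754)) (tt N9627 (iv F61398)))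
theorem Q8869 : ∀ i, i < 8869 → P i := stepQ 8868 Q8868 (allL N8868 (tt N9503 (iv F60818)) (tt N9619 (iv F61376)) (tt N8013 F58320) (tt N9624 (iv F61391)) (tt N8363 F58321) (tt N9600 (iv F61297)) (tt N8010 F58322) (tt N9629 D15516) (tt N8009 (iv D14755)))
theorem Q8870 : ∀ i, i < 8870 → P i := stepQ 8869 Q8869 (allL N8869 (tt N9504 (iv F60824)) (tt N9620 (iv F61381)) (tt N8014 F58323) (tt N9630 D15517) (tt N8364 F58324) (tt N8011 F58325) (tt N9629 (iv F61402)) (tt N8010 (iv D14756)) (tt N9583 (iv F61218)))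
theorem Q8871 : ∀ i, i < 8871 → P i := stepQ 8870 Q8870 (allL N8870 (tt N9505 (iv F60828)) (tt N9621 (iv F61385)) (tt N9631 D15518) (tt N8011 (iv D14757)) (tt N9632 D15519) (tt N9630 (iv F61403)) (tt N9602 (iv F61305)) (tt N9628 (iv F61399)) (tt N9584 (iv F61219)))
theorem Q8872 : ∀ i, i < 8872 → P i := stepQ 8871 Q8871 (allL N8871 (tt N9506 (iv F60829)) (tt N9622 (iv F61386)) (tt N8639 F58326) (tt N9632 (iv F61405)) (tt N8012 (iv D14758)) (tt N9633 D15520) (tt N9603 (iv F61307)) (tt N9101 (iv F59301)) (tt N9585 (iv F61221)))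
theorem Q8873 : ∀ i, i < 8873 → P i := stepQ 8872 Q8872 (allL N8872 (tt N9507 (iv F60831)) (tt N8070 F58327) (tt N9629 (iv F61400)) (tt N9536 (iv F60990)) (tt N8367 F58328) (tt N9604 (iv F61312)) (tt N8014 F58329) (tt N8013 (iv D14759)) (tt N9586 (iv F61227)))
theorem Q8874 : ∀ i, i < 8874 → P i := stepQ 8873 Q8873 (allL N8873 (tt N9508 (iv F60838)) (tt N8071 F58330) (tt N9634 D15521) (tt N8014 (iv D14760)) (tt N9531 (iv F60962)) (tt N8015 F58331) (tt N9536 (iv F60991)) (tt N8035 F58332) (tt N9587 (iv F61231)))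
theorem Q8875 : ∀ i, i < 8875 → P i := stepQ 8874 Q8874 (allL N8874 (tt N9509 (iv F60843)) (tt N9635 D15522) (tt N8015 (iv D14761)) (tt N9631 (iv F61404)) (tt N8642 F58333) (tt N9634 (iv F61408)) (tt N9606 (iv F61322)) (tt N8036 F58334) (tt N9588 (iv F61234)))
theorem Q8876 : ∀ i, i < 8876 → P i := stepQ 8875 Q8875 (allL N8875 (tt N8558 F58335) (tt N8875 F58336) (tt N9597 (iv F61283)) (tt N8018 F58337) (tt N9309 (iv F60099)) (tt N8025 F58338) (tt N8016 (iv D14762)) (tt N9308 F60095) (tt N9636 D15523))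
theorem Q8877 : ∀ i, i < 8877 → P i := stepQ 8876 Q8876 (allL N8876 (tt N8485 F58339) (tt N8876 F58340) (tt N9598 (iv F61288)) (tt N8019 F58341) (tt N9335 (iv F60203)) (tt N8017 F58342) (tt N9636 (iv F61417)) (tt N9637 D15524) (tt N8016 (iv D14763)))
theorem Q8878 : ∀ i, i < 8878 → P i := stepQ 8877 Q8877 (allL N8877 (tt N9084 (iv F59238)) (tt N8877 F58343) (tt N9599 (iv F61291)) (tt N9638 D15525) (tt N8954 (iv F58725)) (tt N9637 (iv F61420)) (tt N8029 F58344) (tt N8017 (iv D14764)) (tt N9459 (iv F60596)))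
theorem Q8879 : ∀ i, i < 8879 → P i := stepQ 8878 Q8878 (allL N8878 (tt N8476 F58345) (tt N8878 F58346) (tt N8021 F58347) (tt N9636 (iv F61415)) (tt N8878 F58348) (tt N8030 F58349) (tt N8019 F58350) (tt N8687 (iv F58351)) (tt N8018 (iv D14765)))
theorem Q8880 : ∀ i, i < 8880 → P i := stepQ 8879 Q8879 (allL N8879 (tt N8464 F58352) (tt N8879 F58353) (tt N8022 F58354) (tt N9639 D15526) (tt N8879 F58355) (tt N8020 F58356) (tt N8687 F58357) (tt N8019 (iv D14766)) (tt N8879 F58358))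
theorem Q8881 : ∀ i, i < 8881 → P i := stepQ 8880 Q8880 (allL N8880 (tt N9306 (iv F60078)) (tt N8880 F58359) (tt N9640 D15527) (tt N8020 (iv D14767)) (tt N9298 (iv F60035)) (tt N9639 (iv F61426)) (tt N8032 F58360) (tt N9638 (iv F61423)) (tt N8880 F58361))
theorem Q8882 : ∀ i, i < 8882 → P i := stepQ 8881 Q8881 (allL N8881 (tt N8494 F58362) (tt N8073 F58363) (tt N9641 D15528) (tt N8022 (iv D14768)) (tt N9642 D15529) (tt N8023 F58364) (tt N8669 F58365) (tt N9605 (iv F61319)) (tt N8881 F58366))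
theorem Q8883 : ∀ i, i < 8883 → P i := stepQ 8882 Q8882 (allL N8882 (tt N9510 (iv F60846)) (tt N9643 D15530) (tt N8023 (iv D14769)) (tt N9640 (iv F61429)) (tt N8492 F58367) (tt N9641 (iv F61433)) (tt N8036 F58368) (tt N9606 (iv F61323)) (tt N8882 F58369))
theorem Q8884 : ∀ i, i < 8884 → P i := stepQ 8883 Q8883 (allL N8883 (tt N9432 (iv F60481)) (tt N8883 F58370) (tt N9623 (iv F61387)) (tt N8037 F58371) (tt N8027 F58372) (tt N9103 (iv F59311)) (tt N9319 (iv F60139)) (tt N9644 D15531) (tt N8024 (iv D14770)))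
theorem Q8885 : ∀ i, i < 8885 → P i := stepQ 8884 Q8884 (allL N8884 (tt N9511 (iv F60852)) (tt N8884 F58373) (tt N9624 (iv F61390)) (tt N8030 F58374) (tt N9319 (iv F60137)) (tt N9636 (iv F61416)) (tt N8027 F58375) (tt N9645 D15532) (tt N8025 (iv D14771)))
theorem Q8886 : ∀ i, i < 8886 → P i := stepQ 8885 Q8885 (allL N8885 (tt N9512 (iv F60857)) (tt N8885 F58376) (tt N9625 (iv F61393)) (tt N8885 F58377) (tt N9318 (iv F60133)) (tt N8028 F58378) (tt N9317 (iv F60130)) (tt N9646 D15533) (tt N8026 (iv D14772)))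
theorem Q8887 : ∀ i, i < 8887 → P i := stepQ 8886 Q8886 (allL N8886 (tt N9513 (iv F60861)) (tt N8886 F58379) (tt N9626 (iv F61395)) (tt N9647 D15534) (tt N9644 (iv F61447)) (tt N8029 F58380) (tt N9645 (iv F61449)) (tt N8027 (iv D14773)) (tt N9646 (iv F61452)))
theorem Q8888 : ∀ i, i < 8888 → P i := stepQ 8887 Q8887 (allL N8887 (tt N9514 (iv F60863)) (tt N8887 F58381) (tt N9627 (iv F61397)) (tt N9648 D15535) (tt N9106 (iv F59321)) (tt N9646 (iv F61451)) (tt N9459 (iv F60595)) (tt N8028 (iv D14774)) (tt N8029 F58382))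
theorem Q8889 : ∀ i, i < 8889 → P i := stepQ 8888 Q8888 (allL N8888 (tt N9515 (iv F60868)) (tt N8888 F58383) (tt N9649 D15536) (tt N8029 (iv D14775)) (tt N9650 D15537) (tt N9647 (iv F61454)) (tt N9638 (iv F61422)) (tt N8032 F58384) (tt N9648 (iv F61458)))
theorem Q8890 : ∀ i, i < 8890 → P i := stepQ 8889 Q8889 (allL N8889 (tt N8686 F58385) (tt N8889 F58386) (tt N8034 F58387) (tt N9651 D15538) (tt N8039 F58388) (tt N8687 F58389) (tt N8031 F58390) (tt N8030 (iv D14776)) (tt N8889 F58391))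
theorem Q8891 : ∀ i, i < 8891 → P i := stepQ 8890 Q8890 (allL N8890 (tt N9425 (iv F60462)) (tt N8890 F58392) (tt N9652 D15539) (tt N8031 (iv D14777)) (tt N9364 (iv F60299)) (tt N8032 F58393) (tt N9651 (iv F61465)) (tt N9647 (iv F61455)) (tt N8890 F58394))
theorem Q8892 : ∀ i, i < 8892 → P i := stepQ 8891 Q8891 (allL N8891 (tt N9516 (iv F60870)) (tt N9653 D15540) (tt N8032 (iv D14778)) (tt N8036 F58395) (tt N9654 D15541) (tt N9652 (iv F61468)) (tt N9640 (iv F61430)) (tt N9649 (iv F61459)) (tt N8891 F58396))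
theorem Q8893 : ∀ i, i < 8893 → P i := stepQ 8892 Q8892 (allL N8892 (tt N9307 (iv F60084)) (tt N8892 F58397) (tt N9654 (iv F61473)) (tt N8033 F58398) (tt N8032 (iv D14779)) (tt N9366 (iv F60308)) (tt N9298 (iv F60036)) (tt N9650 (iv F61461)) (tt N8892 F58399))
theorem Q8894 : ∀ i, i < 8894 → P i := stepQ 8893 Q8893 (allL N8893 (tt N9517 (iv F60873)) (tt N9655 D15542) (tt N8035 (iv D14780)) (tt N9652 (iv F61467)) (tt N9540 (iv F61013)) (tt N8036 F58400) (tt N9542 (iv F61025)) (tt N9634 (iv F61409)) (tt N8893 F58401))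
theorem Q8895 : ∀ i, i < 8895 → P i := stepQ 8894 Q8894 (allL N8894 (tt N9656 D15543) (tt N8036 (iv D14781)) (tt N8076 F58402) (tt N9653 (iv F61471)) (tt N8656 F58403) (tt N9655 (iv F61478)) (tt N9643 (iv F61444)) (tt N9635 (iv F61412)) (tt N8894 F58404))
theorem Q8896 : ∀ i, i < 8896 → P i := stepQ 8895 Q8895 (allL N8895 (tt N8285 F58405) (tt N8042 F58406) (tt N9564 (iv F61128)) (tt N8298 F58407) (tt N8579 F58408) (tt N8135 F58409) (tt N8047 F58410) (tt N8041 (iv D14782)) (tt N8056 F58411))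
theorem Q8897 : ∀ i, i < 8897 → P i := stepQ 8896 Q8896 (allL N8896 (tt N8077 F58412) (tt N9568 (iv F61147)) (tt N9657 D15544) (tt N8043 (iv D14783)) (tt N8401 F58413) (tt N8602 F58414) (tt N8052 F58415) (tt N8896 F58416) (tt N8060 F58417))
theorem Q8898 : ∀ i, i < 8898 → P i := stepQ 8897 Q8897 (allL N8897 (tt N8047 F58418) (tt N8078 F58419) (tt N9569 (iv F61154)) (tt N9461 (iv F60605)) (tt N8640 F58420) (tt N8397 F58421) (tt N8285 F58422) (tt N8044 (iv D14784)) (tt N8063 F58423))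
theorem Q8899 : ∀ i, i < 8899 → P i := stepQ 8898 Q8898 (allL N8898 (tt N8406 F58424) (tt N8048 F58425) (tt N9573 (iv F61177)) (tt N8487 F58426) (tt N8398 F58427) (tt N8046 F58428) (tt N8404 F58429) (tt N9658 D15545) (tt N8045 (iv D14785)))
theorem Q8900 : ∀ i, i < 8900 → P i := stepQ 8899 Q8899 (allL N8899 (tt N8640 F58430) (tt N8049 F58431) (tt N9574 (iv F61183)) (tt N9659 D15546) (tt N8047 F58432) (tt N9658 (iv F61496)) (tt N8579 F58433) (tt N8046 (iv D14786)) (tt N8066 F58434))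
theorem Q8901 : ∀ i, i < 8901 → P i := stepQ 8900 Q8900 (allL N8900 (tt N8079 F58435) (tt N9658 (iv F61494)) (tt N8051 F58436) (tt N9544 (iv F61036)) (tt N8400 F58437) (tt N8049 F58438) (tt N8416 F58439) (tt N8048 (iv D14787)) (tt N8068 F58440))
theorem Q8902 : ∀ i, i < 8902 → P i := stepQ 8901 Q8901 (allL N8901 (tt N8080 F58441) (tt N9659 (iv F61500)) (tt N8249 (iv F58446)) (tt N8049 (iv D14788)) (tt N8142 F58442) (tt N9544 (iv F61038)) (tt N8604 F58443) (tt N8147 F58444) (tt N8069 F58445))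
theorem Q8903 : ∀ i, i < 8903 → P i := stepQ 8902 Q8902 (allL N8902 (tt N8081 F58447) (tt N9586 (iv F61223)) (tt N8416 F58448) (tt N9525 (iv F60922)) (tt N8402 F58449) (tt N8263 F58450) (tt N8051 F58451) (tt N8050 (iv D14789)) (tt N8070 F58452))
theorem Q8904 : ∀ i, i < 8904 → P i := stepQ 8903 Q8903 (allL N8903 (tt N8082 F58453) (tt N9587 (iv F61228)) (tt N9660 D15547) (tt N8051 (iv D14790)) (tt N9520 (iv F60891)) (tt N8052 F58454) (tt N9525 (iv F60923)) (tt N8903 F58455) (tt N8071 F58456))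
theorem Q8905 : ∀ i, i < 8905 → P i := stepQ 8904 Q8904 (allL N8904 (tt N8083 F58457) (tt N9661 D15548) (tt N8052 (iv D14791)) (tt N8249 F58458) (tt N8248 F58459) (tt N9660 (iv F61508)) (tt N9657 (iv F61490)) (tt N8904 F58460) (tt N8072 F58461))
theorem Q8906 : ∀ i, i < 8906 → P i := stepQ 8905 Q8905 (allL N8905 (tt N8084 F58462) (tt N9592 (iv F61250)) (tt N8234 F58463) (tt N8053 (iv D14792)) (tt N8069 F58464) (tt N8598 F58465) (tt N8302 F58466) (tt N8905 F58467) (tt N8142 F58468))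
theorem Q8907 : ∀ i, i < 8907 → P i := stepQ 8906 Q8906 (allL N8906 (tt N8056 F58469) (tt N8085 F58470) (tt N9593 (iv F61257)) (tt N8180 F58471) (tt N8628 F58472) (tt N8129 F58473) (tt N8063 F58474) (tt N8054 (iv D14793)) (tt N8285 F58475))
theorem Q8908 : ∀ i, i < 8908 → P i := stepQ 8907 Q8907 (allL N8907 (tt N8628 F58476) (tt N8057 F58477) (tt N9595 (iv F61271)) (tt N9662 D15549) (tt N8056 F58478) (tt N8569 F58479) (tt N8066 F58480) (tt N8055 (iv D14794)) (tt N8579 F58481))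
theorem Q8909 : ∀ i, i < 8909 → P i := stepQ 8908 Q8908 (allL N8908 (tt N8086 F58482) (tt N9662 (iv F61517)) (tt N9663 D15550) (tt N8057 (iv D14795)) (tt N8302 F58483) (tt N8599 F58484) (tt N8069 F58485) (tt N8908 F58486) (tt N8604 F58487))
theorem Q8910 : ∀ i, i < 8910 → P i := stepQ 8909 Q8909 (allL N8909 (tt N8087 F58488) (tt N9604 (iv F61309)) (tt N8413 F58489) (tt N8670 F58490) (tt N8258 F58491) (tt N8070 F58492) (tt N8059 F58493) (tt N8058 (iv D14796)) (tt N8263 F58494))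
theorem Q8911 : ∀ i, i < 8911 → P i := stepQ 8910 Q8910 (allL N8910 (tt N8088 F58495) (tt N9605 (iv F61316)) (tt N9664 D15551) (tt N8059 (iv D14797)) (tt N9665 D15552) (tt N8060 F58496) (tt N8670 F58497) (tt N8073 F58498) (tt N8602 F58499))
theorem Q8912 : ∀ i, i < 8912 → P i := stepQ 8911 Q8911 (allL N8911 (tt N8089 F58500) (tt N9666 D15553) (tt N8060 (iv D14798)) (tt N9663 (iv F61524)) (tt N8411 F58501) (tt N9664 (iv F61532)) (tt N8072 F58502) (tt N8074 F58503) (tt N9657 (iv F61492)))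
theorem Q8913 : ∀ i, i < 8913 → P i := stepQ 8912 Q8912 (allL N8912 (tt N8065 F58504) (tt N8090 F58505) (tt N9610 (iv F61341)) (tt N8912 F58506) (tt N8404 F58507) (tt N8062 F58508) (tt N8398 F58509) (tt N9667 D15554) (tt N8061 (iv D14799)))
theorem Q8914 : ∀ i, i < 8914 → P i := stepQ 8913 Q8913 (allL N8913 (tt N8066 F58510) (tt N8091 F58511) (tt N9611 (iv F61346)) (tt N9668 D15555) (tt N8063 F58512) (tt N9667 (iv F61550)) (tt N8628 F58513) (tt N8062 (iv D14800)) (tt N8640 F58514))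
theorem Q8915 : ∀ i, i < 8915 → P i := stepQ 8914 Q8914 (allL N8914 (tt N8398 F58515) (tt N8067 F58516) (tt N9619 (iv F61377)) (tt N8914 F58517) (tt N8406 F58518) (tt N8396 F58519) (tt N8065 F58520) (tt N9669 D15556) (tt N8064 (iv D14801)))
theorem Q8916 : ∀ i, i < 8916 → P i := stepQ 8915 Q8915 (allL N8915 (tt N9667 (iv F61547)) (tt N8068 F58521) (tt N9620 (iv F61382)) (tt N9670 D15557) (tt N8407 F58522) (tt N8066 F58523) (tt N9669 (iv F61562)) (tt N8065 (iv D14802)) (tt N9658 (iv F61498)))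
theorem Q8917 : ∀ i, i < 8917 → P i := stepQ 8916 Q8916 (allL N8916 (tt N9668 (iv F61553)) (tt N8069 F58524) (tt N9671 D15558) (tt N8066 (iv D14803)) (tt N9592 (iv F61251)) (tt N9670 (iv F61565)) (tt N9662 (iv F61520)) (tt N8916 F58525) (tt N9659 (iv F61504)))
theorem Q8918 : ∀ i, i < 8918 → P i := stepQ 8917 Q8917 (allL N8917 (tt N8094 F58526) (tt N9669 (iv F61559)) (tt N8070 F58527) (tt N9672 D15559) (tt N8409 F58528) (tt N8413 F58529) (tt N8068 F58530) (tt N8067 (iv D14804)) (tt N8416 F58531))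
theorem Q8919 : ∀ i, i < 8919 → P i := stepQ 8918 Q8918 (allL N8918 (tt N8095 F58532) (tt N9670 (iv F61564)) (tt N9673 D15560) (tt N8068 (iv D14805)) (tt N9674 D15561) (tt N8069 F58533) (tt N9672 (iv F61572)) (tt N8918 F58534) (tt N9544 (iv F61041)))
theorem Q8920 : ∀ i, i < 8920 → P i := stepQ 8919 Q8919 (allL N8919 (tt N8096 F58535) (tt N9675 D15562) (tt N8069 (iv D14806)) (tt N8072 F58536) (tt N8234 F58537) (tt N9673 (iv F61577)) (tt N9663 (iv F61527)) (tt N8919 F58538) (tt N8249 F58539))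
theorem Q8921 : ∀ i, i < 8921 → P i := stepQ 8920 Q8920 (allL N8920 (tt N8097 F58540) (tt N9676 D15563) (tt N8071 (iv D14807)) (tt N9673 (iv F61576)) (tt N8264 F58541) (tt N8072 F58542) (tt N8603 F58543) (tt N8075 F58544) (tt N9660 (iv F61511)))
theorem Q8922 : ∀ i, i < 8922 → P i := stepQ 8921 Q8921 (allL N8921 (tt N9677 D15564) (tt N8072 (iv D14808)) (tt N9635 (iv F61410)) (tt N9675 (iv F61589)) (tt N8667 F58545) (tt N9676 (iv F61595)) (tt N9666 (iv F61545)) (tt N8076 F58546) (tt N9661 (iv F61515)))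
theorem Q8923 : ∀ i, i < 8923 → P i := stepQ 8922 Q8922 (allL N8922 (tt N8099 F58547) (tt N9678 D15565) (tt N8073 (iv D14809)) (tt N8922 F58548) (tt N8496 (iv F58552)) (tt N8074 F58549) (tt N8609 F58550) (tt N9664 (iv F61534)) (tt N8922 F58551))
theorem Q8924 : ∀ i, i < 8924 → P i := stepQ 8923 Q8923 (allL N8923 (tt N8100 F58553) (tt N9642 (iv F61437)) (tt N8496 F58554) (tt N8923 F58555) (tt N8073 (iv D14810)) (tt N8493 F58556) (tt N8101 F58557) (tt N9665 (iv F61542)) (tt N8923 F58558))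
theorem Q8925 : ∀ i, i < 8925 → P i := stepQ 8924 Q8924 (allL N8924 (tt N9642 (iv F61436)) (tt N8074 (iv D14811)) (tt N9643 (iv F61442)) (tt N8924 F58559) (tt N8494 F58560) (tt N9678 (iv F61605)) (tt N8076 F58561) (tt N9666 (iv F61546)) (tt N8924 F58562))
theorem Q8926 : ∀ i, i < 8926 → P i := stepQ 8925 Q8925 (allL N8925 (tt N8256 F58563) (tt N8075 (iv D14812)) (tt N9655 (iv F61476)) (tt N8925 F58564) (tt N8254 F58565) (tt N8076 F58566) (tt N8608 F58567) (tt N9676 (iv F61597)) (tt N8925 F58568))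
theorem Q8927 : ∀ i, i < 8927 → P i := stepQ 8926 Q8926 (allL N8926 (tt N8076 (iv D14813)) (tt N8101 F58569) (tt N9656 (iv F61482)) (tt N8926 F58570) (tt N8669 F58571) (tt N8256 F58572) (tt N9642 (iv F61440)) (tt N9677 (iv F61601)) (tt N8926 F58573))
theorem Q8928 : ∀ i, i < 8928 → P i := stepQ 8927 Q8927 (allL N8927 (tt N9657 (iv F61486)) (tt N8613 (iv F58580)) (tt N8077 (iv D14814)) (tt N8262 F58574) (tt N8261 F58575) (tt N8612 F58576) (tt N8083 F58577) (tt N8927 F58578) (tt N8089 F58579))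
theorem Q8929 : ∀ i, i < 8929 → P i := stepQ 8928 Q8928 (allL N8928 (tt N9660 (iv F61505)) (tt N8096 F58581) (tt N8082 (iv D14815)) (tt N8098 F58582) (tt N8259 F58583) (tt N8083 F58584) (tt N8610 F58585) (tt N8928 F58586) (tt N8097 F58587))
theorem Q8930 : ∀ i, i < 8930 → P i := stepQ 8929 Q8929 (allL N8929 (tt N9673 (iv F61575)) (tt N8083 (iv D14816)) (tt N8095 F58588) (tt N8097 F58589) (tt N8265 F58590) (tt N8096 F58591) (tt N8613 F58592) (tt N8929 F58593) (tt N8098 F58594))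
theorem Q8931 : ∀ i, i < 8931 → P i := stepQ 8930 Q8930 (allL N8930 (tt N9663 (iv F61523)) (tt N8610 F58595) (tt N8086 (iv D14817)) (tt N8089 F58596) (tt N8257 F58597) (tt N8611 F58598) (tt N8096 F58599) (tt N8930 F58600) (tt N8262 F58601))
theorem Q8932 : ∀ i, i < 8932 → P i := stepQ 8931 Q8931 (allL N8931 (tt N9664 (iv F61530)) (tt N8419 F58602) (tt N8088 (iv D14818)) (tt N8611 F58603) (tt N8418 (iv F58608)) (tt N8089 F58604) (tt N8614 F58605) (tt N8099 F58606) (tt N8612 F58607))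
theorem Q8933 : ∀ i, i < 8933 → P i := stepQ 8932 Q8932 (allL N8932 (tt N9665 (iv F61537)) (tt N8089 F58609) (tt N8418 F58610) (tt N8610 F58611) (tt N8088 (iv D14819)) (tt N8419 F58612) (tt N8098 F58613) (tt N8100 F58614) (tt N8613 F58615))
theorem Q8934 : ∀ i, i < 8934 → P i := stepQ 8933 Q8933 (allL N8933 (tt N8092 F58616) (tt N9667 (iv F61548)) (tt N8402 F58617) (tt N9527 (iv F60935)) (tt N8416 F58618) (tt N8091 F58619) (tt N8400 F58620) (tt N8090 (iv D14820)) (tt N8409 F58621))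
theorem Q8935 : ∀ i, i < 8935 → P i := stepQ 8934 Q8934 (allL N8934 (tt N8093 F58622) (tt N9668 (iv F61554)) (tt N9526 (iv F60928)) (tt N8091 (iv D14821)) (tt N9529 (iv F60950)) (tt N9527 (iv F60937)) (tt N8663 F58623) (tt N8934 F58624) (tt N8664 F58625))
theorem Q8936 : ∀ i, i < 8936 → P i := stepQ 8935 Q8935 (allL N8935 (tt N9672 (iv F61568)) (tt N8415 F58626) (tt N8613 F58627) (tt N8094 (iv D14822)) (tt N8612 F58628) (tt N8414 F58629) (tt N8095 F58630) (tt N8935 F58631) (tt N8418 F58632))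
theorem Q8937 : ∀ i, i < 8937 → P i := stepQ 8936 Q8936 (allL N8936 (tt N9674 (iv F61582)) (tt N8611 F58633) (tt N8265 F58634) (tt N8419 F58635) (tt N8095 (iv D14823)) (tt N8610 F58636) (tt N8612 F58637) (tt N8936 F58638) (tt N8614 F58639))
theorem Q8938 : ∀ i, i < 8938 → P i := stepQ 8937 Q8937 (allL N8937 (tt N8098 (iv D14824)) (tt N9677 (iv F61598)) (tt N9544 (iv F61035)) (tt N9660 (iv F61506)) (tt N8670 F58640) (tt N8249 F58641) (tt N9665 (iv F61541)) (tt N8101 F58642) (tt N9673 (iv F61580)))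
theorem Q8939 : ∀ i, i < 8939 → P i := stepQ 8938 Q8938 (allL N8938 (tt N8938 F58643) (tt N9546 (iv F61048)) (tt N8422 F58644) (tt N8113 F58645) (tt N9289 (iv F59998)) (tt N8108 F58646) (tt N8423 F58647) (tt N8102 (iv D14825)) (tt N8942 (iv F58672)))
theorem Q8940 : ∀ i, i < 8940 → P i := stepQ 8939 Q8939 (allL N8939 (tt N8286 F58648) (tt N8104 F58649) (tt N9492 (iv F60773)) (tt N8137 F58650) (tt N8103 (iv D14826)) (tt N8739 F58651) (tt N8110 F58652) (tt N8540 F58653) (tt N9215 (iv F59682)))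
theorem Q8941 : ∀ i, i < 8941 → P i := stepQ 8940 Q8940 (allL N8940 (tt N8288 F58654) (tt N8105 F58655) (tt N9547 (iv F61054)) (tt N8117 F58656) (tt N9215 (iv F59680)) (tt N8136 F58657) (tt N8111 F58658) (tt N9679 D15566) (tt N8103 (iv D14827)))
theorem Q8942 : ∀ i, i < 8942 → P i := stepQ 8941 Q8941 (allL N8941 (tt N8941 F58659) (tt N8739 F58660) (tt N8106 F58661) (tt N8551 F58662) (tt N8420 F58663) (tt N8104 (iv D14828)) (tt N8553 F58664) (tt N8555 F58665) (tt N8688 F58666))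
theorem Q8943 : ∀ i, i < 8943 → P i := stepQ 8942 Q8942 (allL N8942 (tt N8942 F58667) (tt N9679 (iv F61609)) (tt N8108 F58668) (tt N8423 F58669) (tt N9288 (iv F59993)) (tt N8422 F58670) (tt N8113 F58671) (tt N8105 (iv D14829)) (tt N8938 F58672))
theorem Q8944 : ∀ i, i < 8944 → P i := stepQ 8943 Q8943 (allL N8943 (tt N8943 F58673) (tt N9512 (iv F60858)) (tt N8688 F58674) (tt N8943 F58675) (tt N9284 F59978) (tt N8107 F58676) (tt N9286 (iv F59987)) (tt N9680 D15567) (tt N8106 (iv D14830)))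
theorem Q8945 : ∀ i, i < 8945 → P i := stepQ 8944 Q8944 (allL N8944 (tt N8944 F58677) (tt N9514 (iv F60864)) (tt N9288 F59996) (tt N9681 D15568) (tt N8108 F58678) (tt N9680 (iv F61616)) (tt N8116 F58679) (tt N8107 (iv D14831)) (tt N9231 (iv F59744)))
theorem Q8946 : ∀ i, i < 8946 → P i := stepQ 8945 Q8945 (allL N8945 (tt N8110 F58680) (tt N8945 F58681) (tt N9549 (iv F61062)) (tt N8292 F58682) (tt N8109 (iv D14832)) (tt N8513 (iv F58685)) (tt N8286 F58683) (tt N8515 F58684) (tt N9682 D15569))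
theorem Q8947 : ∀ i, i < 8947 → P i := stepQ 8946 Q8946 (allL N8946 (tt N8111 F58686) (tt N8946 F58687) (tt N9550 (iv F61068)) (tt N8118 F58688) (tt N9682 (iv F61624)) (tt N8427 F58689) (tt N8288 F58690) (tt N9683 D15570) (tt N8109 (iv D14833)))
theorem Q8948 : ∀ i, i < 8948 → P i := stepQ 8947 Q8947 (allL N8947 (tt N9682 (iv F61621)) (tt N8112 F58691) (tt N9552 (iv F61080)) (tt N8537 F58692) (tt N8111 F58693) (tt N8538 F58694) (tt N9215 (iv F59681)) (tt N9684 D15571) (tt N8110 (iv D14834)))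
theorem Q8949 : ∀ i, i < 8949 → P i := stepQ 8948 Q8948 (allL N8948 (tt N9683 (iv F61627)) (tt N8113 F58695) (tt N9553 (iv F61084)) (tt N9546 (iv F61049)) (tt N9684 (iv F61633)) (tt N8430 F58696) (tt N9679 (iv F61612)) (tt N8111 (iv D14835)) (tt N9111 (iv F59341)))
theorem Q8950 : ∀ i, i < 8950 → P i := stepQ 8949 Q8949 (allL N8949 (tt N8949 F58697) (tt N9684 (iv F61631)) (tt N8116 F58698) (tt N8479 F58699) (tt N8113 F58700) (tt N8481 F58701) (tt N9288 (iv F59994)) (tt N8112 (iv D14836)) (tt N8480 F58702))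
theorem Q8951 : ∀ i, i < 8951 → P i := stepQ 8950 Q8950 (allL N8950 (tt N8950 F58703) (tt N9560 (iv F61109)) (tt N8554 F58704) (tt N8950 F58705) (tt N8434 F58706) (tt N9286 (iv F59986)) (tt N8115 F58707) (tt N9685 D15572) (tt N8114 (iv D14837)))
theorem Q8952 : ∀ i, i < 8952 → P i := stepQ 8951 Q8951 (allL N8951 (tt N8951 F58708) (tt N9561 (iv F61113)) (tt N8481 F58709) (tt N9686 D15573) (tt N8435 F58710) (tt N8116 F58711) (tt N9685 (iv F61639)) (tt N8115 (iv D14838)) (tt N8482 F58712))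
theorem Q8953 : ∀ i, i < 8953 → P i := stepQ 8952 Q8952 (allL N8952 (tt N8952 F58713) (tt N9562 (iv F61117)) (tt N9687 D15574) (tt N8116 (iv D14839)) (tt N8673 F58714) (tt N9686 (iv F61644)) (tt N9681 (iv F61619)) (tt N8952 F58715) (tt N9232 (iv F59748)))
theorem Q8954 : ∀ i, i < 8954 → P i := stepQ 8953 Q8953 (allL N8953 (tt N8269 F58716) (tt N9589 (iv F61235)) (tt N8124 F58717) (tt N8125 F58718) (tt N8843 F58719) (tt N8561 F58720) (tt N8281 F58721) (tt N9688 D15575) (tt N8123 (iv D14840)))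
theorem Q8955 : ∀ i, i < 8955 → P i := stepQ 8954 Q8954 (allL N8954 (tt N8271 F58722) (tt N8954 F58723) (tt N9688 (iv F61655)) (tt N8162 F58724) (tt N8877 F58725) (tt N8564 F58726) (tt N8290 F58727) (tt N8124 (iv D14841)) (tt N8695 F58728))
theorem Q8956 : ∀ i, i < 8956 → P i := stepQ 8955 Q8955 (allL N8955 (tt N8273 F58729) (tt N9590 (iv F61240)) (tt N8126 F58730) (tt N9689 D15576) (tt N8274 F58731) (tt N8568 F58732) (tt N8283 F58733) (tt N8125 (iv D14842)) (tt N8134 F58734))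
theorem Q8957 : ∀ i, i < 8957 → P i := stepQ 8956 Q8956 (allL N8956 (tt N9479 (iv F60701)) (tt N8128 F58735) (tt N8138 F58736) (tt N8718 F58737) (tt N8272 F58738) (tt N9483 (iv F60728)) (tt N8131 F58739) (tt N9690 D15577) (tt N8127 (iv D14843)))
theorem Q8958 : ∀ i, i < 8958 → P i := stepQ 8957 Q8957 (allL N8957 (tt N8274 F58740) (tt N9690 (iv F61665)) (tt N8129 F58741) (tt N9691 D15578) (tt N8273 F58742) (tt N9593 (iv F61259)) (tt N8134 F58743) (tt N8128 (iv D14844)) (tt N8283 F58744))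
theorem Q8959 : ∀ i, i < 8959 → P i := stepQ 8958 Q8958 (allL N8958 (tt N8131 F58745) (tt N8178 F58746) (tt N8140 F58747) (tt N8723 F58748) (tt N9460 (iv F60600)) (tt N8182 F58749) (tt N9479 (iv F60706)) (tt N9692 D15579) (tt N8130 (iv D14845)))
theorem Q8960 : ∀ i, i < 8960 → P i := stepQ 8959 Q8959 (allL N8959 (tt N9692 (iv F61675)) (tt N8134 F58750) (tt N8141 F58751) (tt N9693 D15580) (tt N9563 (iv F61122)) (tt N8572 F58752) (tt N9690 (iv F61668)) (tt N8131 (iv D14846)) (tt N9590 (iv F61245)))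
theorem Q8961 : ∀ i, i < 8961 → P i := stepQ 8960 Q8960 (allL N8960 (tt N8281 F58753) (tt N9545 (iv F61042)) (tt N8136 F58754) (tt N8133 F58755) (tt N8730 F58756) (tt N9547 (iv F61056)) (tt N8269 F58757) (tt N9694 D15581) (tt N8132 (iv D14847)))
theorem Q8962 : ∀ i, i < 8962 → P i := stepQ 8961 Q8961 (allL N8961 (tt N8283 F58758) (tt N9563 (iv F61120)) (tt N8135 F58759) (tt N9695 D15582) (tt N8134 F58760) (tt N9564 (iv F61130)) (tt N8273 F58761) (tt N8133 (iv D14848)) (tt N8274 F58762))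
theorem Q8963 : ∀ i, i < 8963 → P i := stepQ 8962 Q8962 (allL N8962 (tt N8284 F58763) (tt N9693 (iv F61679)) (tt N8201 F58764) (tt N8134 (iv D14849)) (tt N9696 D15583) (tt N8578 F58765) (tt N9691 (iv F61672)) (tt N8734 F58766) (tt N9689 (iv F61664)))
theorem Q8964 : ∀ i, i < 8964 → P i := stepQ 8963 Q8963 (allL N8963 (tt N8290 F58767) (tt N8422 F58768) (tt N9694 (iv F61683)) (tt N8308 F58769) (tt N8744 F58770) (tt N9679 (iv F61611)) (tt N8271 F58771) (tt N8136 (iv D14850)) (tt N8801 F58772))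
theorem Q8965 : ∀ i, i < 8965 → P i := stepQ 8964 Q8964 (allL N8964 (tt N9528 (iv F60941)) (tt N8139 F58773) (tt N9690 (iv F61666)) (tt N9697 D15584) (tt N8298 F58774) (tt N9530 (iv F60958)) (tt N8141 F58775) (tt N8138 (iv D14851)) (tt N8300 F58776))
theorem Q8966 : ∀ i, i < 8966 → P i := stepQ 8965 Q8965 (allL N8965 (tt N8148 F58777) (tt N9697 (iv F61695)) (tt N8240 F58778) (tt N8139 (iv D14852)) (tt N8604 F58779) (tt N9537 (iv F60997)) (tt N8142 F58780) (tt N8144 F58781) (tt N8302 F58782))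
theorem Q8967 : ∀ i, i < 8967 → P i := stepQ 8966 Q8966 (allL N8966 (tt N8141 F58783) (tt N8149 F58784) (tt N9692 (iv F61677)) (tt N9698 D15585) (tt N9461 (iv F60606)) (tt N8238 F58785) (tt N9528 (iv F60946)) (tt N8140 (iv D14853)) (tt N9482 (iv F60722)))
theorem Q8968 : ∀ i, i < 8968 → P i := stepQ 8967 Q8967 (allL N8967 (tt N9698 (iv F61700)) (tt N8142 F58786) (tt N9699 D15586) (tt N8141 (iv D14854)) (tt N9659 (iv F61501)) (tt N8601 F58787) (tt N9697 (iv F61697)) (tt N8146 F58788) (tt N9592 (iv F61255)))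
theorem Q8969 : ∀ i, i < 8969 → P i := stepQ 8968 Q8968 (allL N8968 (tt N8655 F58789) (tt N8144 F58790) (tt N9700 D15587) (tt N8143 (iv D14855)) (tt N8592 F58791) (tt N9433 (iv F60489)) (tt N8146 F58792) (tt N9697 (iv F61698)) (tt N8968 F58793))
theorem Q8970 : ∀ i, i < 8970 → P i := stepQ 8969 Q8969 (allL N8969 (tt N8146 F58794) (tt N8151 F58795) (tt N9701 D15588) (tt N8145 (iv D14856)) (tt N8653 F58796) (tt N8252 F58797) (tt N8655 F58798) (tt N9698 (iv F61705)) (tt N8969 F58799))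
theorem Q8971 : ∀ i, i < 8971 → P i := stepQ 8970 Q8970 (allL N8970 (tt N9701 (iv F61715)) (tt N8255 F58800) (tt N8146 (iv D14857)) (tt N8781 F58801) (tt N9702 D15589) (tt N8607 F58802) (tt N9700 (iv F61713)) (tt N9699 (iv F61708)) (tt N8970 F58803))
theorem Q8972 : ∀ i, i < 8972 → P i := stepQ 8971 Q8971 (allL N8971 (tt N8653 F58804) (tt N8147 F58805) (tt N9702 (iv F61723)) (tt N8591 F58806) (tt N8146 (iv D14858)) (tt N9539 (iv F61009)) (tt N8592 F58807) (tt N9659 (iv F61503)) (tt N8971 F58808))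
theorem Q8973 : ∀ i, i < 8973 → P i := stepQ 8972 Q8972 (allL N8972 (tt N8150 F58809) (tt N9698 (iv F61701)) (tt N9537 (iv F60995)) (tt N8149 (iv D14859)) (tt N8664 F58810) (tt N8240 F58811) (tt N8666 F58812) (tt N8151 F58813) (tt N9529 (iv F60954)))
theorem Q8974 : ∀ i, i < 8974 → P i := stepQ 8973 Q8973 (allL N8973 (tt N8267 F58814) (tt N9391 (iv F60384)) (tt N8152 (iv D14860)) (tt N8163 F58815) (tt N9132 (iv F59410)) (tt N8154 F58816) (tt N9095 (iv F59286)) (tt N8802 F58817) (tt N9703 D15590))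
theorem Q8975 : ∀ i, i < 8975 → P i := stepQ 8974 Q8974 (allL N8974 (tt N8304 F58818) (tt N8974 F58819) (tt N9703 (iv F61727)) (tt N8153 F58820) (tt N9054 (iv F59119)) (tt N8156 F58821) (tt N9104 (iv F59316)) (tt N9704 D15591) (tt N8152 (iv D14861)))
theorem Q8976 : ∀ i, i < 8976 → P i := stepQ 8975 Q8975 (allL N8975 (tt N8559 F58822) (tt N8154 (iv D14862)) (tt N8975 F58823) (tt N8165 F58824) (tt N9381 (iv F60351)) (tt N9391 (iv F60387)) (tt N8157 F58825) (tt N8980 (iv F58847)) (tt N9705 D15592))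
theorem Q8977 : ∀ i, i < 8977 → P i := stepQ 8976 Q8976 (allL N8976 (tt N8305 F58826) (tt N9381 (iv F60347)) (tt N8155 F58827) (tt N8543 F58828) (tt N8154 (iv D14863)) (tt N9112 (iv F59346)) (tt N8158 F58829) (tt N9116 (iv F59361)) (tt N9706 D15593))
theorem Q8978 : ∀ i, i < 8978 → P i := stepQ 8977 Q8977 (allL N8977 (tt N8306 F58830) (tt N9705 (iv F61736)) (tt N8156 F58831) (tt N8166 F58832) (tt N9706 (iv F61743)) (tt N9703 (iv F61729)) (tt N8159 F58833) (tt N9707 D15594) (tt N8154 (iv D14864)))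
theorem Q8979 : ∀ i, i < 8979 → P i := stepQ 8978 Q8978 (allL N8978 (tt N8307 F58834) (tt N8978 F58835) (tt N9706 (iv F61741)) (tt N8291 F58836) (tt N8156 F58837) (tt N9056 (iv F59130)) (tt N8161 F58838) (tt N9708 D15595) (tt N8155 (iv D14865)))
theorem Q8980 : ∀ i, i < 8980 → P i := stepQ 8979 Q8979 (allL N8979 (tt N8308 F58839) (tt N8979 F58840) (tt N9707 (iv F61746)) (tt N8290 F58841) (tt N9708 (iv F61751)) (tt N9704 (iv F61733)) (tt N8162 F58842) (tt N8156 (iv D14866)) (tt N9236 (iv F59768)))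
theorem Q8981 : ∀ i, i < 8981 → P i := stepQ 8980 Q8980 (allL N8980 (tt N8157 (iv D14867)) (tt N8309 F58843) (tt N8980 F58844) (tt N8168 F58845) (tt N9709 D15596) (tt N9451 (iv F60552)) (tt N8559 F58846) (tt N8975 F58847) (tt N9710 D15597))
theorem Q8982 : ∀ i, i < 8982 → P i := stepQ 8981 Q8981 (allL N8981 (tt N9709 (iv F61753)) (tt N8158 F58848) (tt N8981 F58849) (tt N9384 (iv F60360)) (tt N8157 (iv D14868)) (tt N9711 D15598) (tt N9381 F60350) (tt N9329 (iv F60180)) (tt N9712 D15599))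
theorem Q8983 : ∀ i, i < 8983 → P i := stepQ 8982 Q8982 (allL N8982 (tt N9710 (iv F61759)) (tt N8159 F58850) (tt N8982 F58851) (tt N8170 F58852) (tt N9712 (iv F61771)) (tt N9453 (iv F60566)) (tt N9705 (iv F61739)) (tt N9713 D15600) (tt N8157 (iv D14869)))
theorem Q8984 : ∀ i, i < 8984 → P i := stepQ 8983 Q8983 (allL N8983 (tt N8312 F58853) (tt N9384 (iv F60358)) (tt N8497 F58854) (tt N8158 (iv D14870)) (tt N8171 F58855) (tt N9125 (iv F59393)) (tt N8543 F58856) (tt N9714 D15601) (tt N9715 D15602))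
theorem Q8985 : ∀ i, i < 8985 → P i := stepQ 8984 Q8984 (allL N8984 (tt N8313 F58857) (tt N9711 (iv F61765)) (tt N8160 F58858) (tt N9125 (iv F59392)) (tt N9455 (iv F60578)) (tt N8158 (iv D14871)) (tt N9122 (iv F59384)) (tt N9332 (iv F60193)) (tt N9716 D15603))
theorem Q8986 : ∀ i, i < 8986 → P i := stepQ 8985 Q8985 (allL N8985 (tt N8314 F58859) (tt N9712 (iv F61769)) (tt N8161 F58860) (tt N9715 (iv F61783)) (tt N8159 F58861) (tt N9716 (iv F61788)) (tt N9706 (iv F61744)) (tt N9717 D15604) (tt N8158 (iv D14872)))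
theorem Q8987 : ∀ i, i < 8987 → P i := stepQ 8986 Q8986 (allL N8986 (tt N8315 F58862) (tt N9713 (iv F61772)) (tt N8162 F58863) (tt N9718 D15605) (tt N9717 (iv F61791)) (tt N9457 (iv F60586)) (tt N9707 (iv F61747)) (tt N8159 (iv D14873)) (tt N9334 (iv F60199)))
theorem Q8988 : ∀ i, i < 8988 → P i := stepQ 8987 Q8987 (allL N8987 (tt N8317 F58864) (tt N8987 F58865) (tt N9716 (iv F61787)) (tt N8498 F58866) (tt N9458 (iv F60590)) (tt N8161 F58867) (tt N9310 (iv F60106)) (tt N9719 D15606) (tt N8160 (iv D14874)))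
theorem Q8989 : ∀ i, i < 8989 → P i := stepQ 8988 Q8988 (allL N8988 (tt N8318 F58868) (tt N8988 F58869) (tt N9717 (iv F61790)) (tt N9720 D15607) (tt N8162 F58870) (tt N9719 (iv F61796)) (tt N9708 (iv F61752)) (tt N8161 (iv D14875)) (tt N9336 (iv F60208)))
theorem Q8990 : ∀ i, i < 8990 → P i := stepQ 8989 Q8989 (allL N8989 (tt N8272 F58871) (tt N9480 (iv F60708)) (tt N8164 F58872) (tt N9703 (iv F61728)) (tt N9479 (iv F60704)) (tt N8166 F58873) (tt N9460 (iv F60602)) (tt N9721 D15608) (tt N8163 (iv D14876)))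
theorem Q8991 : ∀ i, i < 8991 → P i := stepQ 8990 Q8990 (allL N8990 (tt N8298 F58874) (tt N8227 F58875) (tt N9721 (iv F61803)) (tt N8285 F58876) (tt N9528 (iv F60944)) (tt N8167 F58877) (tt N9461 (iv F60608)) (tt N8164 (iv D14877)) (tt N8180 F58878))
theorem Q8992 : ∀ i, i < 8992 → P i := stepQ 8991 Q8991 (allL N8991 (tt N8565 F58879) (tt N8166 F58880) (tt N8228 F58881) (tt N9705 (iv F61738)) (tt N8392 F58882) (tt N9480 (iv F60711)) (tt N8170 F58883) (tt N9722 D15609) (tt N8165 (iv D14878)))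
theorem Q8993 : ∀ i, i < 8993 → P i := stepQ 8992 Q8992 (allL N8992 (tt N8321 F58884) (tt N9722 (iv F61807)) (tt N8167 F58885) (tt N9723 D15610) (tt N8369 F58886) (tt N9721 (iv F61804)) (tt N8174 F58887) (tt N8166 (iv D14879)) (tt N8186 F58888))
theorem Q8994 : ∀ i, i < 8994 → P i := stepQ 8993 Q8993 (allL N8993 (tt N8170 F58889) (tt N8323 F58890) (tt N8230 F58891) (tt N9710 (iv F61762)) (tt N9600 (iv F61296)) (tt N9467 (iv F60643)) (tt N8565 F58892) (tt N9724 D15611) (tt N8168 (iv D14880)))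
theorem Q8995 : ∀ i, i < 8995 → P i := stepQ 8994 Q8994 (allL N8994 (tt N9597 (iv F61281)) (tt N8171 F58893) (tt N8558 F58894) (tt N8169 (iv D14881)) (tt N9384 (iv F60361)) (tt N9498 (iv F60802)) (tt N8542 F58895) (tt N9556 (iv F61099)) (tt N9725 D15612))
theorem Q8996 : ∀ i, i < 8996 → P i := stepQ 8995 Q8995 (allL N8995 (tt N9600 (iv F61293)) (tt N8173 F58896) (tt N8231 F58897) (tt N9725 (iv F61823)) (tt N8170 F58898) (tt N9503 (iv F60822)) (tt N8392 F58899) (tt N9726 D15613) (tt N8169 (iv D14882)))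
theorem Q8997 : ∀ i, i < 8997 → P i := stepQ 8996 Q8996 (allL N8996 (tt N9724 (iv F61816)) (tt N8174 F58900) (tt N8232 F58901) (tt N9727 D15614) (tt N9726 (iv F61827)) (tt N9470 (iv F60660)) (tt N9722 (iv F61810)) (tt N8170 (iv D14883)) (tt N8194 F58902))
theorem Q8998 : ∀ i, i < 8998 → P i := stepQ 8997 Q8997 (allL N8997 (tt N8328 F58903) (tt N9498 (iv F60799)) (tt N8500 F58904) (tt N8172 F58905) (tt N9728 D15615) (tt N8171 (iv D14884)) (tt N9491 (iv F60770)) (tt N9729 D15616) (tt N9730 D15617))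
theorem Q8999 : ∀ i, i < 8999 → P i := stepQ 8998 Q8998 (allL N8998 (tt N8329 F58906) (tt N9556 (iv F61095)) (tt N8501 F58907) (tt N8196 F58908) (tt N9714 (iv F61778)) (tt N9729 (iv F61842)) (tt N8539 F58909) (tt N8171 (iv D14885)) (tt N9731 D15618))
theorem Q9000 : ∀ i, i < 9000 → P i := stepQ 8999 Q8999 (allL N8999 (tt N8330 F58910) (tt N9725 (iv F61821)) (tt N8378 F58911) (tt N8173 F58912) (tt N9715 (iv F61784)) (tt N9730 (iv F61847)) (tt N8389 F58913) (tt N9732 D15619) (tt N8171 (iv D14886)))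
theorem Q9001 : ∀ i, i < 9001 → P i := stepQ 9000 Q9000 (allL N9000 (tt N8332 F58914) (tt N9503 (iv F60819)) (tt N8175 F58915) (tt N9730 (iv F61846)) (tt N9474 (iv F60679)) (tt N8173 F58916) (tt N9494 (iv F60786)) (tt N9733 D15620) (tt N8172 (iv D14887)))
theorem Q9002 : ∀ i, i < 9002 → P i := stepQ 9001 Q9001 (allL N9001 (tt N8333 F58917) (tt N9726 (iv F61825)) (tt N8176 F58918) (tt N9734 D15621) (tt N8174 F58919) (tt N9733 (iv F61857)) (tt N8369 F58920) (tt N8173 (iv D14888)) (tt N8200 F58921))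
theorem Q9003 : ∀ i, i < 9003 → P i := stepQ 9002 Q9002 (allL N9002 (tt N8334 F58922) (tt N9727 (iv F61830)) (tt N9689 (iv F61661)) (tt N8174 (iv D14889)) (tt N9735 D15622) (tt N9476 (iv F60688)) (tt N9723 (iv F61814)) (tt N9718 (iv F61793)) (tt N8201 F58923))
theorem Q9004 : ∀ i, i < 9004 → P i := stepQ 9003 Q9003 (allL N9003 (tt N8336 F58924) (tt N8235 F58925) (tt N9733 (iv F61856)) (tt N8345 F58926) (tt N9477 (iv F60692)) (tt N8176 F58927) (tt N9534 (iv F60983)) (tt N8175 (iv D14890)) (tt N8203 F58928))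
theorem Q9005 : ∀ i, i < 9005 → P i := stepQ 9004 Q9004 (allL N9004 (tt N8275 F58929) (tt N9095 (iv F59282)) (tt N9004 F58930) (tt N8177 (iv D14891)) (tt N8851 F58931) (tt N9089 (iv F59262)) (tt N9391 (iv F60388)) (tt N9088 F59256) (tt N9736 D15623))
theorem Q9006 : ∀ i, i < 9006 → P i := stepQ 9005 Q9005 (allL N9005 (tt N8277 F58932) (tt N9460 (iv F60598)) (tt N8179 F58933) (tt N9736 (iv F61867)) (tt N8178 F58934) (tt N9462 (iv F60614)) (tt N9480 (iv F60712)) (tt N9737 D15624) (tt N8177 (iv D14892)))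
theorem Q9007 : ∀ i, i < 9007 → P i := stepQ 9006 Q9006 (allL N9006 (tt N8278 F58935) (tt N9692 (iv F61676)) (tt N8180 F58936) (tt N9738 D15625) (tt N9737 (iv F61871)) (tt N8186 F58937) (tt N9481 (iv F60716)) (tt N8178 (iv D14893)) (tt N9721 (iv F61805)))
theorem Q9008 : ∀ i, i < 9008 → P i := stepQ 9007 Q9007 (allL N9007 (tt N8300 F58938) (tt N8236 F58939) (tt N9737 (iv F61870)) (tt N9739 D15626) (tt N8180 F58940) (tt N9519 (iv F60886)) (tt N9482 (iv F60721)) (tt N8179 (iv D14894)) (tt N9528 (iv F60947)))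
theorem Q9009 : ∀ i, i < 9009 → P i := stepQ 9008 Q9008 (allL N9008 (tt N8570 F58941) (tt N8183 F58942) (tt N9008 F58943) (tt N8181 (iv D14895)) (tt N9018 (iv F58983)) (tt N9463 (iv F60620)) (tt N8191 F58944) (tt N9554 (iv F61090)) (tt N9740 D15627))
theorem Q9010 : ∀ i, i < 9010 → P i := stepQ 9009 Q9009 (allL N9009 (tt N8571 F58945) (tt N8185 F58946) (tt N8237 F58947) (tt N9740 (iv F61883)) (tt N8182 F58948) (tt N9464 (iv F60627)) (tt N8193 F58949) (tt N9741 D15628) (tt N8181 (iv D14896)))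
theorem Q9011 : ∀ i, i < 9011 → P i := stepQ 9010 Q9010 (allL N9010 (tt N8572 F58950) (tt N8186 F58951) (tt N8238 F58952) (tt N9742 D15629) (tt N9741 (iv F61888)) (tt N9692 (iv F61678)) (tt N8194 F58953) (tt N8182 (iv D14897)) (tt N9722 (iv F61811)))
theorem Q9012 : ∀ i, i < 9012 → P i := stepQ 9011 Q9011 (allL N9011 (tt N8337 F58954) (tt N9463 (iv F60617)) (tt N8205 F58955) (tt N8184 F58956) (tt N9571 (iv F61168)) (tt N8183 (iv D14898)) (tt N9468 (iv F60650)) (tt N9551 (iv F61078)) (tt N9743 D15630))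
theorem Q9013 : ∀ i, i < 9013 → P i := stepQ 9012 Q9012 (allL N9012 (tt N8338 F58957) (tt N9554 (iv F61087)) (tt N8206 F58958) (tt N8539 F58959) (tt N9167 (iv F59524)) (tt N9551 (iv F61076)) (tt N8196 F58960) (tt N8183 (iv D14899)) (tt N9744 D15631))
theorem Q9014 : ∀ i, i < 9014 → P i := stepQ 9013 Q9013 (allL N9013 (tt N8339 F58961) (tt N9740 (iv F61881)) (tt N8207 F58962) (tt N8185 F58963) (tt N9168 (iv F59529)) (tt N9743 (iv F61897)) (tt N8197 F58964) (tt N9745 D15632) (tt N8183 (iv D14900)))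
theorem Q9015 : ∀ i, i < 9015 → P i := stepQ 9014 Q9014 (allL N9014 (tt N8341 F58965) (tt N9464 (iv F60624)) (tt N8187 F58966) (tt N9743 (iv F61896)) (tt N9462 (iv F60613)) (tt N8185 F58967) (tt N9469 (iv F60657)) (tt N9746 D15633) (tt N8184 (iv D14901)))
theorem Q9016 : ∀ i, i < 9016 → P i := stepQ 9015 Q9015 (allL N9015 (tt N8342 F58968) (tt N9741 (iv F61886)) (tt N8188 F58969) (tt N9747 D15634) (tt N8186 F58970) (tt N9746 (iv F61907)) (tt N8200 F58971) (tt N8185 (iv D14902)) (tt N8369 F58972))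
theorem Q9017 : ∀ i, i < 9017 → P i := stepQ 9016 Q9016 (allL N9016 (tt N8343 F58973) (tt N9742 (iv F61892)) (tt N9691 (iv F61671)) (tt N8186 (iv D14903)) (tt N9748 D15635) (tt N9738 (iv F61873)) (tt N8201 F58974) (tt N9171 (iv F59540)) (tt N9723 (iv F61815)))
theorem Q9018 : ∀ i, i < 9018 → P i := stepQ 9017 Q9017 (allL N9017 (tt N8345 F58975) (tt N8241 F58976) (tt N9746 (iv F61906)) (tt N8336 F58977) (tt N9519 (iv F60885)) (tt N8188 F58978) (tt N9523 (iv F60914)) (tt N8187 (iv D14904)) (tt N8368 F58979))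
theorem Q9019 : ∀ i, i < 9019 → P i := stepQ 9018 Q9018 (allL N9018 (tt N8191 F58980) (tt N8346 F58981) (tt N9018 F58982) (tt N8189 (iv D14905)) (tt N9008 F58983) (tt N9577 (iv F61196)) (tt N8570 F58984) (tt N9749 D15636) (tt N9750 D15637))
theorem Q9020 : ∀ i, i < 9020 → P i := stepQ 9019 Q9019 (allL N9019 (tt N8193 F58985) (tt N8348 F58986) (tt N8242 F58987) (tt N9750 (iv F61924)) (tt N8190 F58988) (tt N9582 (iv F61213)) (tt N8571 F58989) (tt N9751 D15638) (tt N8189 (iv D14906)))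
theorem Q9021 : ∀ i, i < 9021 → P i := stepQ 9020 Q9020 (allL N9020 (tt N8194 F58990) (tt N8349 F58991) (tt N8243 F58992) (tt N9752 D15639) (tt N9751 (iv F61930)) (tt N9490 (iv F60765)) (tt N8572 F58993) (tt N8190 (iv D14907)) (tt N9724 (iv F61820)))
theorem Q9022 : ∀ i, i < 9022 → P i := stepQ 9021 Q9021 (allL N9021 (tt N9577 (iv F61192)) (tt N8195 F58994) (tt N9021 F58995) (tt N8192 F58996) (tt N9753 D15640) (tt N8191 (iv D14908)) (tt N9471 (iv F60666)) (tt N9754 D15641) (tt N9755 D15642))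
theorem Q9023 : ∀ i, i < 9023 → P i := stepQ 9022 Q9022 (allL N9022 (tt N9749 (iv F61915)) (tt N8196 F58997) (tt N9022 F58998) (tt N9556 (iv F61097)) (tt N9343 (iv F60230)) (tt N9754 (iv F61947)) (tt N9554 F61091) (tt N8191 (iv D14909)) (tt N9756 D15643))
theorem Q9024 : ∀ i, i < 9024 → P i := stepQ 9023 Q9023 (allL N9023 (tt N9750 (iv F61921)) (tt N8197 F58999) (tt N9023 F59000) (tt N8193 F59001) (tt N9344 (iv F60234)) (tt N9755 (iv F61952)) (tt N9740 (iv F61884)) (tt N9757 D15644) (tt N8191 (iv D14910)))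
theorem Q9025 : ∀ i, i < 9025 → P i := stepQ 9024 Q9024 (allL N9024 (tt N9582 (iv F61209)) (tt N8199 F59002) (tt N8244 F59003) (tt N9755 (iv F61951)) (tt N9494 (iv F60784)) (tt N8193 F59004) (tt N9474 (iv F60681)) (tt N9758 D15645) (tt N8192 (iv D14911)))
theorem Q9026 : ∀ i, i < 9026 → P i := stepQ 9025 Q9025 (allL N9025 (tt N9751 (iv F61927)) (tt N8200 F59005) (tt N8245 F59006) (tt N9759 D15646) (tt N8194 F59007) (tt N9758 (iv F61959)) (tt N9741 (iv F61889)) (tt N8193 (iv D14912)) (tt N9726 (iv F61829)))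
theorem Q9027 : ∀ i, i < 9027 → P i := stepQ 9026 Q9026 (allL N9026 (tt N9752 (iv F61932)) (tt N8201 F59008) (tt N9760 D15647) (tt N8194 (iv D14913)) (tt N9761 D15648) (tt N9496 (iv F60792)) (tt N9742 (iv F61893)) (tt N9346 (iv F60239)) (tt N9727 (iv F61831)))
theorem Q9028 : ∀ i, i < 9028 → P i := stepQ 9027 Q9027 (allL N9027 (tt N8357 F59009) (tt N9753 (iv F61937)) (tt N8211 F59010) (tt N9497 (iv F60795)) (tt N8195 (iv D14914)) (tt N9347 (iv F60242)) (tt N9029 (iv F59019)) (tt N9028 F59014) (tt N9762 D15649))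
theorem Q9029 : ∀ i, i < 9029 → P i := stepQ 9028 Q9028 (allL N9028 (tt N8358 F59011) (tt N9471 (iv F60663)) (tt N8212 F59012) (tt N8198 F59013) (tt N9029 (iv F59017)) (tt N9468 (iv F60649)) (tt N8195 (iv D14915)) (tt N9027 (iv F59014)) (tt N9763 D15650))
theorem Q9030 : ∀ i, i < 9030 → P i := stepQ 9029 Q9029 (allL N9029 (tt N8359 F59015) (tt N9754 (iv F61943)) (tt N8213 F59016) (tt N9729 (iv F61840)) (tt N9028 F59017) (tt N8196 F59018) (tt N9027 F59019) (tt N8195 (iv D14916)) (tt N9764 D15651))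
theorem Q9031 : ∀ i, i < 9031 → P i := stepQ 9030 Q9030 (allL N9030 (tt N8360 F59020) (tt N9755 (iv F61949)) (tt N8214 F59021) (tt N8199 F59022) (tt N9762 (iv F61965)) (tt N8197 F59023) (tt N9763 (iv F61969)) (tt N9765 D15652) (tt N8195 (iv D14917)))
theorem Q9032 : ∀ i, i < 9032 → P i := stepQ 9031 Q9031 (allL N9031 (tt N8361 F59024) (tt N9756 (iv F61953)) (tt N8215 F59025) (tt N9731 (iv F61850)) (tt N9350 (iv F60252)) (tt N9764 (iv F61973)) (tt N9744 (iv F61901)) (tt N9766 D15653) (tt N8196 (iv D14918)))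
theorem Q9033 : ∀ i, i < 9033 → P i := stepQ 9032 Q9032 (allL N9032 (tt N8362 F59026) (tt N9757 (iv F61955)) (tt N8216 F59027) (tt N9767 D15654) (tt N9351 (iv F60255)) (tt N9765 (iv F61977)) (tt N9745 (iv F61904)) (tt N8197 (iv D14919)) (tt N9766 (iv F61980)))
theorem Q9034 : ∀ i, i < 9034 → P i := stepQ 9033 Q9033 (allL N9033 (tt N8363 F59028) (tt N9474 (iv F60677)) (tt N8202 F59029) (tt N9763 (iv F61968)) (tt N9503 (iv F60821)) (tt N9469 (iv F60656)) (tt N8199 F59030) (tt N9768 D15655) (tt N8198 (iv D14920)))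
theorem Q9035 : ∀ i, i < 9035 → P i := stepQ 9034 Q9034 (allL N9034 (tt N8364 F59031) (tt N9758 (iv F61957)) (tt N8203 F59032) (tt N9769 D15656) (tt N9504 (iv F60826)) (tt N8200 F59033) (tt N9768 (iv F61985)) (tt N8199 (iv D14921)) (tt N9733 (iv F61858)))
theorem Q9036 : ∀ i, i < 9036 → P i := stepQ 9035 Q9035 (allL N9035 (tt N8365 F59034) (tt N9759 (iv F61960)) (tt N9770 D15657) (tt N8200 (iv D14922)) (tt N9771 D15658) (tt N9769 (iv F61987)) (tt N9747 (iv F61911)) (tt N9767 (iv F61982)) (tt N9734 (iv F61862)))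
theorem Q9037 : ∀ i, i < 9037 → P i := stepQ 9036 Q9036 (allL N9036 (tt N8366 F59035) (tt N9761 (iv F61962)) (tt N9696 (iv F61692)) (tt N9771 (iv F61994)) (tt N8201 (iv D14923)) (tt N9772 D15659) (tt N9748 (iv F61914)) (tt N9354 (iv F60261)) (tt N9735 (iv F61864)))
theorem Q9038 : ∀ i, i < 9038 → P i := stepQ 9037 Q9037 (allL N9037 (tt N8367 F59036) (tt N8250 F59037) (tt N9768 (iv F61984)) (tt N9532 (iv F60968)) (tt N9507 (iv F60834)) (tt N9523 (iv F60913)) (tt N8203 F59038) (tt N8202 (iv D14924)) (tt N9534 (iv F60984)))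
theorem Q9039 : ∀ i, i < 9039 → P i := stepQ 9038 Q9038 (allL N9038 (tt N8368 F59039) (tt N8251 F59040) (tt N9773 D15660) (tt N8203 (iv D14925)) (tt N9530 (iv F60957)) (tt N8204 F59041) (tt N9532 (iv F60971)) (tt N8222 F59042) (tt N8345 F59043))
theorem Q9040 : ∀ i, i < 9040 → P i := stepQ 9039 Q9039 (allL N9039 (tt N8369 F59044) (tt N8626 F59045) (tt N8204 (iv D14926)) (tt N9770 (iv F61989)) (tt N8321 F59046) (tt N9773 (iv F61998)) (tt N8333 F59047) (tt N8223 F59048) (tt N8342 F59049))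
theorem Q9041 : ∀ i, i < 9041 → P i := stepQ 9040 Q9040 (allL N9040 (tt N8370 F59050) (tt N9040 F59051) (tt N9571 (iv F61166)) (tt N9040 F59052) (tt N8205 (iv D14927)) (tt N9246 (iv F59808)) (tt N8583 (iv F59053)) (tt N8582 (iv F59054)) (tt N9774 D15661))
theorem Q9042 : ∀ i, i < 9042 → P i := stepQ 9041 Q9041 (allL N9041 (tt N8371 F59055) (tt N9041 F59056) (tt N9468 (iv F60647)) (tt N8208 F59057) (tt N8583 F59058) (tt N8212 F59059) (tt N8205 (iv D14928)) (tt N8581 (iv F59060)) (tt N9775 D15662))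
theorem Q9043 : ∀ i, i < 9043 → P i := stepQ 9042 Q9042 (allL N9042 (tt N8372 F59061) (tt N9042 F59062) (tt N9551 (iv F61074)) (tt N8509 F59063) (tt N8582 F59064) (tt N8206 F59065) (tt N8581 F59066) (tt N8205 (iv D14929)) (tt N9776 D15663))
theorem Q9044 : ∀ i, i < 9044 → P i := stepQ 9043 Q9043 (allL N9043 (tt N8373 F59067) (tt N9043 F59068) (tt N9743 (iv F61895)) (tt N8209 F59069) (tt N9774 (iv F62004)) (tt N8207 F59070) (tt N9775 (iv F62011)) (tt N9777 D15664) (tt N8205 (iv D14930)))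
theorem Q9045 : ∀ i, i < 9045 → P i := stepQ 9044 Q9044 (allL N9044 (tt N8374 F59071) (tt N9044 F59072) (tt N9744 (iv F61899)) (tt N8510 F59073) (tt N9250 (iv F59827)) (tt N9776 (iv F62016)) (tt N8215 F59074) (tt N9778 D15665) (tt N8206 (iv D14931)))
theorem Q9046 : ∀ i, i < 9046 → P i := stepQ 9045 Q9045 (allL N9045 (tt N8375 F59075) (tt N9045 F59076) (tt N9745 (iv F61903)) (tt N8533 F59077) (tt N9251 (iv F59831)) (tt N9777 (iv F62021)) (tt N8216 F59078) (tt N8207 (iv D14932)) (tt N9778 (iv F62026)))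
theorem Q9047 : ∀ i, i < 9047 → P i := stepQ 9046 Q9046 (allL N9046 (tt N8376 F59079) (tt N9046 F59080) (tt N8210 F59081) (tt N9775 (iv F62008)) (tt N9046 F59082) (tt N8217 F59083) (tt N8209 F59084) (tt N8534 F59085) (tt N8208 (iv D14933)))
theorem Q9048 : ∀ i, i < 9048 → P i := stepQ 9047 Q9047 (allL N9047 (tt N8381 F59086) (tt N9047 F59087) (tt N9762 (iv F61964)) (tt N8224 F59088) (tt N8214 F59089) (tt N9357 (iv F60272)) (tt N9049 (iv F59099)) (tt N9779 D15666) (tt N8211 (iv D14934)))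
theorem Q9049 : ∀ i, i < 9049 → P i := stepQ 9048 Q9048 (allL N9048 (tt N8382 F59090) (tt N9048 F59091) (tt N9763 (iv F61967)) (tt N8217 F59092) (tt N9049 (iv F59097)) (tt N9775 (iv F62010)) (tt N8214 F59093) (tt N9780 D15667) (tt N8212 (iv D14935)))
theorem Q9050 : ∀ i, i < 9050 → P i := stepQ 9049 Q9049 (allL N9049 (tt N8383 F59094) (tt N9049 F59095) (tt N9764 (iv F61971)) (tt N8511 F59096) (tt N9048 F59097) (tt N8215 F59098) (tt N9047 F59099) (tt N9781 D15668) (tt N8213 (iv D14936)))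
theorem Q9051 : ∀ i, i < 9051 → P i := stepQ 9050 Q9050 (allL N9050 (tt N8384 F59100) (tt N9050 F59101) (tt N9765 (iv F61976)) (tt N9782 D15669) (tt N9779 (iv F62029)) (tt N8216 F59102) (tt N9780 (iv F62032)) (tt N8214 (iv D14937)) (tt N9781 (iv F62039)))
theorem Q9052 : ∀ i, i < 9052 → P i := stepQ 9051 Q9051 (allL N9051 (tt N8385 F59103) (tt N9051 F59104) (tt N9766 (iv F61979)) (tt N9783 D15670) (tt N9361 (iv F60286)) (tt N9781 (iv F62037)) (tt N9778 (iv F62025)) (tt N8215 (iv D14938)) (tt N8216 F59105))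
theorem Q9053 : ∀ i, i < 9053 → P i := stepQ 9052 Q9052 (allL N9052 (tt N8386 F59106) (tt N9052 F59107) (tt N9784 D15671) (tt N8216 (iv D14939)) (tt N9785 D15672) (tt N9782 (iv F62042)) (tt N8533 F59108) (tt N8219 F59109) (tt N9783 (iv F62049)))
theorem Q9054 : ∀ i, i < 9054 → P i := stepQ 9053 Q9053 (allL N9053 (tt N8387 F59110) (tt N9053 F59111) (tt N8221 F59112) (tt N9786 D15673) (tt N8226 F59113) (tt N8534 F59114) (tt N8218 F59115) (tt N8217 (iv D14940)) (tt N8514 F59116))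
theorem Q9055 : ∀ i, i < 9055 → P i := stepQ 9054 Q9054 (allL N9054 (tt N8388 F59117) (tt N9054 F59118) (tt N9787 D15674) (tt N8218 (iv D14941)) (tt N8974 F59119) (tt N8219 F59120) (tt N9786 (iv F62063)) (tt N9782 (iv F62043)) (tt N8515 F59121))
theorem Q9056 : ∀ i, i < 9056 → P i := stepQ 9055 Q9055 (allL N9055 (tt N8389 F59122) (tt N8624 (iv F59126)) (tt N8219 (iv D14942)) (tt N8223 F59123) (tt N9788 D15675) (tt N9787 (iv F62068)) (tt N8330 F59124) (tt N9784 (iv F62052)) (tt N8319 F59125))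
theorem Q9057 : ∀ i, i < 9057 → P i := stepQ 9056 Q9056 (allL N9056 (tt N8390 F59127) (tt N9056 F59128) (tt N9788 (iv F62073)) (tt N8220 F59129) (tt N8219 (iv D14943)) (tt N8978 F59130) (tt N8522 F59131) (tt N9785 (iv F62058)) (tt N8516 F59132))
theorem Q9058 : ∀ i, i < 9058 → P i := stepQ 9057 Q9057 (allL N9057 (tt N8391 F59133) (tt N8625 F59134) (tt N8222 (iv D14944)) (tt N9787 (iv F62066)) (tt N9483 (iv F60727)) (tt N8223 F59135) (tt N9489 (iv F60761)) (tt N9773 (iv F61999)) (tt N8320 F59136))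
theorem Q9059 : ∀ i, i < 9059 → P i := stepQ 9058 Q9058 (allL N9058 (tt N8597 F59137) (tt N8229 F59138) (tt N9722 (iv F61808)) (tt N9789 D15676) (tt N8412 F59139) (tt N9482 (iv F60720)) (tt N8232 F59140) (tt N8228 (iv D14945)) (tt N8238 F59141))
theorem Q9060 : ∀ i, i < 9060 → P i := stepQ 9059 Q9059 (allL N9059 (tt N8257 F59142) (tt N9789 (iv F62079)) (tt N8302 F59143) (tt N8229 (iv D14946)) (tt N9663 (iv F61525)) (tt N9529 (iv F60951)) (tt N8234 F59144) (tt N9059 F59145) (tt N8240 F59146))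
theorem Q9061 : ∀ i, i < 9061 → P i := stepQ 9060 Q9060 (allL N9060 (tt N8232 F59147) (tt N8258 F59148) (tt N9724 (iv F61818)) (tt N9790 D15677) (tt N9604 (iv F61311)) (tt N9522 (iv F60906)) (tt N8597 F59149) (tt N8230 (iv D14947)) (tt N8243 F59150))
theorem Q9062 : ∀ i, i < 9062 → P i := stepQ 9061 Q9061 (allL N9061 (tt N9604 (iv F61308)) (tt N8233 F59151) (tt N9726 (iv F61826)) (tt N8667 F59152) (tt N8232 F59153) (tt N9507 (iv F60835)) (tt N8412 F59154) (tt N8231 (iv D14948)) (tt N8245 F59155))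
theorem Q9063 : ∀ i, i < 9063 → P i := stepQ 9062 Q9062 (allL N9062 (tt N9790 (iv F62083)) (tt N8234 F59156) (tt N9791 D15678) (tt N8232 (iv D14949)) (tt N9675 (iv F61590)) (tt N9524 (iv F60917)) (tt N9789 (iv F62080)) (tt N9062 F59157) (tt N8246 F59158))
theorem Q9064 : ∀ i, i < 9064 → P i := stepQ 9063 Q9063 (allL N9063 (tt N8260 F59159) (tt N9739 (iv F61876)) (tt N9543 (iv F61029)) (tt N8236 (iv D14950)) (tt N8663 F59160) (tt N9520 (iv F60892)) (tt N9529 (iv F60952)) (tt N9063 F59161) (tt N8666 F59162))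
theorem Q9065 : ∀ i, i < 9065 → P i := stepQ 9064 Q9064 (allL N9064 (tt N8600 F59163) (tt N8239 F59164) (tt N9741 (iv F61887)) (tt N9792 D15679) (tt N8238 F59165) (tt N9466 (iv F60636)) (tt N8245 F59166) (tt N8237 (iv D14951)) (tt N8412 F59167))
theorem Q9066 : ∀ i, i < 9066 → P i := stepQ 9065 Q9065 (allL N9065 (tt N8601 F59168) (tt N8240 F59169) (tt N9793 D15680) (tt N8238 (iv D14952)) (tt N9794 D15681) (tt N9698 (iv F61703)) (tt N8246 F59170) (tt N8252 F59171) (tt N9789 (iv F62082)))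
theorem Q9067 : ∀ i, i < 9067 → P i := stepQ 9066 Q9066 (allL N9066 (tt N8261 F59172) (tt N9792 (iv F62091)) (tt N8401 F59173) (tt N8239 (iv D14953)) (tt N9657 (iv F61488)) (tt N9521 (iv F60899)) (tt N8248 F59174) (tt N9066 F59175) (tt N8411 F59176))
theorem Q9068 : ∀ i, i < 9068 → P i := stepQ 9067 Q9067 (allL N9067 (tt N8262 F59177) (tt N9794 (iv F62099)) (tt N8604 F59178) (tt N9657 (iv F61487)) (tt N8240 (iv D14954)) (tt N8605 F59179) (tt N8249 F59180) (tt N8253 F59181) (tt N9663 (iv F61529)))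
theorem Q9069 : ∀ i, i < 9069 → P i := stepQ 9068 Q9068 (allL N9068 (tt N8245 F59182) (tt N8263 F59183) (tt N9751 (iv F61929)) (tt N9795 D15682) (tt N8243 F59184) (tt N9586 (iv F61225)) (tt N8600 F59185) (tt N8242 (iv D14955)) (tt N9604 (iv F61314)))
theorem Q9070 : ∀ i, i < 9070 → P i := stepQ 9069 Q9069 (allL N9069 (tt N8246 F59186) (tt N8264 F59187) (tt N9796 D15683) (tt N8243 (iv D14956)) (tt N9676 (iv F61594)) (tt N9533 (iv F60976)) (tt N8601 F59188) (tt N8254 F59189) (tt N9790 (iv F62087)))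
theorem Q9071 : ∀ i, i < 9071 → P i := stepQ 9070 Q9070 (allL N9070 (tt N9586 (iv F61222)) (tt N8247 F59190) (tt N9758 (iv F61958)) (tt N9797 D15684) (tt N9534 (iv F60981)) (tt N8245 F59191) (tt N9477 (iv F60694)) (tt N8244 (iv D14957)) (tt N9507 (iv F60837)))
theorem Q9072 : ∀ i, i < 9072 → P i := stepQ 9071 Q9071 (allL N9071 (tt N9795 (iv F62103)) (tt N8248 F59192) (tt N9798 D15685) (tt N8245 (iv D14958)) (tt N9661 (iv F61513)) (tt N9797 (iv F62112)) (tt N9792 (iv F62092)) (tt N9071 F59193) (tt N8667 F59194))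
theorem Q9073 : ∀ i, i < 9073 → P i := stepQ 9072 Q9072 (allL N9072 (tt N9796 (iv F62108)) (tt N9699 (iv F61706)) (tt N8246 (iv D14959)) (tt N9760 (iv F61961)) (tt N9799 D15686) (tt N9535 (iv F60986)) (tt N9793 (iv F62096)) (tt N8255 F59195) (tt N9791 (iv F62089)))
theorem Q9074 : ∀ i, i < 9074 → P i := stepQ 9073 Q9073 (allL N9073 (tt N9676 (iv F61593)) (tt N8249 F59196) (tt N9799 (iv F62118)) (tt N9661 (iv F61512)) (tt N8246 (iv D14960)) (tt N9677 (iv F61600)) (tt N9794 (iv F62101)) (tt N8256 F59197) (tt N9675 (iv F61592)))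
theorem Q9075 : ∀ i, i < 9075 → P i := stepQ 9074 Q9074 (allL N9074 (tt N8266 F59198) (tt N9797 (iv F62111)) (tt N8663 F59199) (tt N8247 (iv D14961)) (tt N9543 (iv F61030)) (tt N8248 F59200) (tt N9526 (iv F60931)) (tt N9074 F59201) (tt N8665 F59202))
theorem Q9076 : ∀ i, i < 9076 → P i := stepQ 9075 Q9075 (allL N9075 (tt N8607 F59203) (tt N9700 (iv F61710)) (tt N8252 (iv D14962)) (tt N9077 (iv F59213)) (tt N9800 D15687) (tt N9701 (iv F61718)) (tt N8255 F59204) (tt N9793 (iv F62097)) (tt N9075 F59205))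
theorem Q9077 : ∀ i, i < 9077 → P i := stepQ 9076 Q9076 (allL N9076 (tt N8608 F59206) (tt N8253 F59207) (tt N9800 (iv F62122)) (tt N9076 F59208) (tt N8252 (iv D14963)) (tt N8606 F59209) (tt N8256 F59210) (tt N9794 (iv F62102)) (tt N9076 F59211))
theorem Q9078 : ∀ i, i < 9078 → P i := stepQ 9077 Q9077 (allL N9077 (tt N8255 F59212) (tt N9540 (iv F61012)) (tt N8254 (iv D14964)) (tt N9075 F59213) (tt N9655 (iv F61477)) (tt N9541 (iv F61020)) (tt N8607 F59214) (tt N9796 (iv F62110)) (tt N9077 F59215))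
theorem Q9079 : ∀ i, i < 9079 → P i := stepQ 9078 Q9078 (allL N9078 (tt N9655 F61481) (tt N9702 (iv F61722)) (tt N8256 F59216) (tt N9801 D15688) (tt N8255 (iv D14965)) (tt N9656 (iv F61484)) (tt N9800 (iv F62124)) (tt N9799 (iv F62119)) (tt N9078 F59217))
theorem Q9080 : ∀ i, i < 9080 → P i := stepQ 9079 Q9079 (allL N9079 (tt N8259 F59218) (tt N9790 (iv F62084)) (tt N9520 (iv F60890)) (tt N8258 (iv D14966)) (tt N9660 (iv F61507)) (tt N9543 (iv F61031)) (tt N8598 F59219) (tt N9079 F59220) (tt N8264 F59221))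
theorem Q9081 : ∀ i, i < 9081 → P i := stepQ 9080 Q9080 (allL N9080 (tt N8265 F59222) (tt N9795 (iv F62104)) (tt N9674 (iv F61583)) (tt N8263 (iv D14967)) (tt N9673 F61581) (tt N9525 F60926) (tt N8602 F59223) (tt N9080 F59224) (tt N8670 F59225))
theorem Q9082 : ∀ i, i < 9082 → P i := stepQ 9081 Q9081 (allL N9081 (tt N9703 (iv F61726)) (tt N8269 F59226) (tt N8304 F59227) (tt N8272 F59228) (tt N9212 (iv F59668)) (tt N8306 F59229) (tt N9545 (iv F61047)) (tt N9802 D15689) (tt N8267 (iv D14968)))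
theorem Q9083 : ∀ i, i < 9083 → P i := stepQ 9082 Q9082 (allL N9082 (tt N8843 F59230) (tt N9212 (iv F59666)) (tt N8270 F59231) (tt N8719 F59232) (tt N8269 F59233) (tt N9213 (iv F59673)) (tt N8730 F59234) (tt N9803 D15690) (tt N8268 (iv D14969)))
theorem Q9084 : ∀ i, i < 9084 → P i := stepQ 9083 Q9083 (allL N9083 (tt N9688 (iv F61654)) (tt N9802 (iv F62128)) (tt N8271 F59235) (tt N9804 D15691) (tt N9803 (iv F62134)) (tt N8618 F59236) (tt N9694 (iv F61685)) (tt N8269 (iv D14970)) (tt N8808 F59237))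
theorem Q9085 : ∀ i, i < 9085 → P i := stepQ 9084 Q9084 (allL N9084 (tt N8877 F59238) (tt N8424 F59239) (tt N9803 (iv F62133)) (tt N9805 D15692) (tt N8271 F59240) (tt N9290 (iv F60003)) (tt N8744 F59241) (tt N8270 (iv D14971)) (tt N8811 F59242))
theorem Q9086 : ∀ i, i < 9086 → P i := stepQ 9085 Q9085 (allL N9085 (tt N9721 (iv F61802)) (tt N8273 F59243) (tt N8298 F59244) (tt N9806 D15693) (tt N9690 (iv F61667)) (tt N8321 F59245) (tt N9563 (iv F61124)) (tt N8272 (iv D14972)) (tt N8278 F59246))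
theorem Q9087 : ∀ i, i < 9087 → P i := stepQ 9086 Q9086 (allL N9086 (tt N9689 (iv F61660)) (tt N9806 (iv F62147)) (tt N8334 F59247) (tt N8273 (iv D14973)) (tt N9807 D15694) (tt N8627 F59248) (tt N9695 (iv F61689)) (tt N9804 (iv F62139)) (tt N8284 F59249))
theorem Q9088 : ∀ i, i < 9088 → P i := stepQ 9087 Q9087 (allL N9087 (tt N9691 (iv F61670)) (tt N9591 (iv F61246)) (tt N8343 F59250) (tt N8274 (iv D14974)) (tt N9808 D15695) (tt N9596 (iv F61278)) (tt N8284 F59251) (tt N8847 F59252) (tt N9695 (iv F61690)))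
theorem Q9089 : ∀ i, i < 9089 → P i := stepQ 9088 Q9088 (allL N9088 (tt N9089 (iv F59257)) (tt N8279 F59253) (tt N9088 F59254) (tt N8276 F59255) (tt N9608 (iv F61333)) (tt N8275 (iv D14975)) (tt N9451 (iv F60553)) (tt N9004 (iv F59256)) (tt N9809 D15696))
theorem Q9090 : ∀ i, i < 9090 → P i := stepQ 9089 Q9089 (allL N9089 (tt N9088 F59257) (tt N8280 F59258) (tt N9089 F59259) (tt N8698 F59260) (tt N8856 F59261) (tt N9004 F59262) (tt N8690 F59263) (tt N8275 (iv D14976)) (tt N9810 D15697))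
theorem Q9091 : ∀ i, i < 9091 → P i := stepQ 9090 Q9090 (allL N9090 (tt N9736 (iv F61865)) (tt N8281 F59264) (tt N9090 F59265) (tt N8277 F59266) (tt N8857 F59267) (tt N9809 (iv F62158)) (tt N9589 (iv F61239)) (tt N9811 D15698) (tt N8275 (iv D14977)))
theorem Q9092 : ∀ i, i < 9092 → P i := stepQ 9091 Q9091 (allL N9091 (tt N9462 (iv F60610)) (tt N8282 F59268) (tt N8299 F59269) (tt N9809 (iv F62157)) (tt N8341 F59270) (tt N8277 F59271) (tt N9467 (iv F60644)) (tt N9812 D15699) (tt N8276 (iv D14978)))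
theorem Q9093 : ∀ i, i < 9093 → P i := stepQ 9092 Q9092 (allL N9092 (tt N9737 (iv F61869)) (tt N8283 F59272) (tt N8300 F59273) (tt N9813 D15700) (tt N8278 F59274) (tt N9812 (iv F62172)) (tt N9590 (iv F61244)) (tt N8277 (iv D14979)) (tt N9690 (iv F61669)))
theorem Q9094 : ∀ i, i < 9094 → P i := stepQ 9093 Q9093 (allL N9093 (tt N9738 (iv F61872)) (tt N8284 F59275) (tt N9596 (iv F61277)) (tt N8278 (iv D14980)) (tt N9814 D15701) (tt N8343 F59276) (tt N9591 (iv F61249)) (tt N8861 F59277) (tt N9806 (iv F62149)))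
theorem Q9095 : ∀ i, i < 9095 → P i := stepQ 9094 Q9094 (allL N9094 (tt N9492 (iv F60771)) (tt N9608 (iv F61330)) (tt N8286 F59278) (tt N8630 F59279) (tt N8279 (iv D14981)) (tt N8862 F59280) (tt N9549 (iv F61064)) (tt N9488 (iv F60755)) (tt N9815 D15702))
theorem Q9096 : ∀ i, i < 9096 → P i := stepQ 9095 Q9095 (allL N9095 (tt N8797 F59281) (tt N9004 F59282) (tt N8287 F59283) (tt N8696 F59284) (tt N9488 (iv F60752)) (tt N8280 F59285) (tt N8973 F59286) (tt N8279 (iv D14982)) (tt N9816 D15703))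
theorem Q9097 : ∀ i, i < 9097 → P i := stepQ 9096 Q9096 (allL N9096 (tt N9547 (iv F61052)) (tt N9809 (iv F62155)) (tt N8288 F59287) (tt N8282 F59288) (tt N9815 (iv F62178)) (tt N8281 F59289) (tt N9550 (iv F61071)) (tt N9817 D15704) (tt N8279 (iv D14983)))
theorem Q9098 : ∀ i, i < 9098 → P i := stepQ 9097 Q9097 (allL N9097 (tt N8800 F59290) (tt N9810 (iv F62160)) (tt N8289 F59291) (tt N8700 F59292) (tt N8866 F59293) (tt N9816 (iv F62184)) (tt N8692 F59294) (tt N9818 D15705) (tt N8280 (iv D14984)))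
theorem Q9099 : ∀ i, i < 9099 → P i := stepQ 9098 Q9098 (allL N9098 (tt N9694 (iv F61682)) (tt N9811 (iv F62166)) (tt N8290 F59295) (tt N9819 D15706) (tt N8867 F59296) (tt N9817 (iv F62187)) (tt N9688 (iv F61658)) (tt N8281 (iv D14985)) (tt N9818 (iv F62192)))
theorem Q9100 : ∀ i, i < 9100 → P i := stepQ 9099 Q9099 (allL N9099 (tt N9564 (iv F61126)) (tt N9812 (iv F62169)) (tt N8285 F59297) (tt N9820 D15707) (tt N8637 F59298) (tt N8283 F59299) (tt N9569 (iv F61157)) (tt N8282 (iv D14986)) (tt N9593 (iv F61261)))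
theorem Q9101 : ∀ i, i < 9101 → P i := stepQ 9100 Q9100 (allL N9100 (tt N9695 (iv F61687)) (tt N9813 (iv F62173)) (tt N9723 (iv F61813)) (tt N8283 (iv D14987)) (tt N9821 D15708) (tt N9820 (iv F62194)) (tt N9689 (iv F61663)) (tt N9819 (iv F62193)) (tt N9691 (iv F61674)))
theorem Q9102 : ∀ i, i < 9102 → P i := stepQ 9101 Q9101 (allL N9101 (tt N9696 (iv F61691)) (tt N9814 (iv F62174)) (tt N8366 F59300) (tt N9821 (iv F62195)) (tt N8284 (iv D14988)) (tt N9822 D15709) (tt N9808 (iv F62153)) (tt N8871 F59301) (tt N9807 (iv F62151)))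
theorem Q9103 : ∀ i, i < 9103 → P i := stepQ 9102 Q9102 (allL N9102 (tt N8540 F59302) (tt N9102 F59303) (tt N9488 (iv F60751)) (tt N8514 F59304) (tt N8287 F59305) (tt N8529 F59306) (tt N8515 F59307) (tt N8286 (iv D14989)) (tt N9786 (iv F62064)))
theorem Q9104 : ∀ i, i < 9104 → P i := stepQ 9103 Q9103 (allL N9103 (tt N9215 (iv F59678)) (tt N9103 F59308) (tt N9815 (iv F62176)) (tt N8294 F59309) (tt N8288 F59310) (tt N8883 F59311) (tt N9682 (iv F61626)) (tt N9823 D15710) (tt N8286 (iv D14990)))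
theorem Q9105 : ∀ i, i < 9105 → P i := stepQ 9104 Q9104 (allL N9104 (tt N8798 F59312) (tt N9104 F59313) (tt N9816 (iv F62182)) (tt N8518 F59314) (tt N9786 (iv F62061)) (tt N8289 F59315) (tt N8974 F59316) (tt N9824 D15711) (tt N8287 (iv D14991)))
theorem Q9106 : ∀ i, i < 9106 → P i := stepQ 9105 Q9105 (allL N9105 (tt N9679 (iv F61608)) (tt N9105 F59317) (tt N9817 (iv F62186)) (tt N9704 (iv F61732)) (tt N9823 (iv F62201)) (tt N8290 F59318) (tt N9683 (iv F61630)) (tt N8288 (iv D14992)) (tt N9824 (iv F62208)))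
theorem Q9107 : ∀ i, i < 9107 → P i := stepQ 9106 Q9106 (allL N9106 (tt N8801 F59319) (tt N9106 F59320) (tt N9818 (iv F62189)) (tt N9236 (iv F59766)) (tt N8887 F59321) (tt N9824 (iv F62206)) (tt N8695 F59322) (tt N8289 (iv D14993)) (tt N8290 F59323))
theorem Q9108 : ∀ i, i < 9108 → P i := stepQ 9107 Q9107 (allL N9107 (tt N8537 F59324) (tt N9107 F59325) (tt N8536 F59326) (tt N9682 (iv F61623)) (tt N8296 F59327) (tt N8512 F59328) (tt N8294 F59329) (tt N8511 F59330) (tt N8292 (iv D14994)))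
theorem Q9109 : ∀ i, i < 9109 → P i := stepQ 9108 Q9108 (allL N9108 (tt N9519 (iv F60883)) (tt N8301 F59331) (tt N9812 (iv F62170)) (tt N9825 D15712) (tt N8345 F59332) (tt N8300 F59333) (tt N9522 (iv F60907)) (tt N8299 (iv D14995)) (tt N9530 (iv F60960)))
theorem Q9110 : ∀ i, i < 9110 → P i := stepQ 9109 Q9109 (allL N9109 (tt N9739 (iv F61875)) (tt N8302 F59334) (tt N9826 D15713) (tt N8300 (iv D14996)) (tt N9662 (iv F61518)) (tt N9825 (iv F62210)) (tt N9592 (iv F61253)) (tt N9109 F59335) (tt N9697 (iv F61699)))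
theorem Q9111 : ∀ i, i < 9111 → P i := stepQ 9110 Q9110 (allL N9110 (tt N8303 F59336) (tt N9825 (iv F62209)) (tt N9529 (iv F60949)) (tt N8301 (iv D14997)) (tt N9526 (iv F60929)) (tt N8302 F59337) (tt N9543 (iv F61032)) (tt N9110 F59338) (tt N9537 (iv F61000)))
theorem Q9112 : ∀ i, i < 9112 → P i := stepQ 9111 Q9111 (allL N9111 (tt N9704 (iv F61730)) (tt N8423 F59339) (tt N9802 (iv F62129)) (tt N9679 (iv F61610)) (tt N9207 F59654) (tt N8308 F59340) (tt N9546 (iv F61051)) (tt N8304 (iv D14998)) (tt N8948 F59341))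
theorem Q9113 : ∀ i, i < 9113 → P i := stepQ 9112 Q9112 (allL N9112 (tt N8543 F59342) (tt N8615 F59343) (tt N8516 F59344) (tt N8305 (iv D14999)) (tt N8319 F59345) (tt N8976 F59346) (tt N8312 F59347) (tt N9827 D15714) (tt N9788 (iv F62077)))
theorem Q9114 : ∀ i, i < 9114 → P i := stepQ 9113 Q9113 (allL N9113 (tt N9706 (iv F61740)) (tt N8617 F59348) (tt N8307 F59349) (tt N9788 (iv F62074)) (tt N8306 F59350) (tt N9214 (iv F59676)) (tt N8314 F59351) (tt N9828 D15715) (tt N8305 (iv D15000)))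
theorem Q9115 : ∀ i, i < 9115 → P i := stepQ 9114 Q9114 (allL N9114 (tt N9707 (iv F61745)) (tt N8618 F59352) (tt N8308 F59353) (tt N9829 D15716) (tt N9828 (iv F62221)) (tt N9802 (iv F62130)) (tt N8315 F59354) (tt N8306 (iv D15001)) (tt N9121 (iv F59381)))
theorem Q9116 : ∀ i, i < 9116 → P i := stepQ 9115 Q9115 (allL N9115 (tt N9708 (iv F61748)) (tt N8425 F59355) (tt N9828 (iv F62220)) (tt N9830 D15717) (tt N8308 F59356) (tt N9210 (iv F59660)) (tt N8318 F59357) (tt N8307 (iv D15002)) (tt N9239 (iv F59782)))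
theorem Q9117 : ∀ i, i < 9117 → P i := stepQ 9116 Q9116 (allL N9116 (tt N8310 F59358) (tt N9709 (iv F61754)) (tt N8426 F59359) (tt N9831 D15718) (tt N8309 (iv D15003)) (tt N9827 (iv F62217)) (tt N8560 F59360) (tt N8976 F59361) (tt N9832 D15719))
theorem Q9118 : ∀ i, i < 9118 → P i := stepQ 9117 Q9117 (allL N9117 (tt N8311 F59362) (tt N9710 (iv F61760)) (tt N8427 F59363) (tt N8323 F59364) (tt N9832 (iv F62238)) (tt N9550 (iv F61070)) (tt N8561 F59365) (tt N9833 D15720) (tt N8309 (iv D15004)))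
theorem Q9119 : ∀ i, i < 9119 → P i := stepQ 9118 Q9118 (allL N9118 (tt N9831 (iv F62232)) (tt N8312 F59366) (tt N9118 F59367) (tt N8310 (iv D15005)) (tt N8324 F59368) (tt N9834 D15721) (tt N8615 F59369) (tt N9835 D15722) (tt N9836 D15723))
theorem Q9120 : ∀ i, i < 9120 → P i := stepQ 9119 Q9119 (allL N9119 (tt N9827 (iv F62213)) (tt N8313 F59370) (tt N8428 F59371) (tt N9834 (iv F62246)) (tt N8539 F59372) (tt N8310 (iv D15006)) (tt N9714 (iv F61780)) (tt N8543 F59373) (tt N9837 D15724))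
theorem Q9121 : ∀ i, i < 9121 → P i := stepQ 9120 Q9120 (allL N9120 (tt N9832 (iv F62236)) (tt N8314 F59374) (tt N8429 F59375) (tt N9836 (iv F62258)) (tt N8311 F59376) (tt N9837 (iv F62264)) (tt N8617 F59377) (tt N9838 D15725) (tt N8310 (iv D15007)))
theorem Q9122 : ∀ i, i < 9122 → P i := stepQ 9121 Q9121 (allL N9121 (tt N9833 (iv F62240)) (tt N8315 F59378) (tt N8430 F59379) (tt N9839 D15726) (tt N9838 (iv F62267)) (tt N9553 (iv F61085)) (tt N8618 F59380) (tt N8311 (iv D15008)) (tt N9114 F59381))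
theorem Q9123 : ∀ i, i < 9123 → P i := stepQ 9122 Q9122 (allL N9122 (tt N9125 (iv F59390)) (tt N9834 (iv F62244)) (tt N8520 F59382) (tt N8313 F59383) (tt N9840 D15727) (tt N8312 (iv D15009)) (tt N8984 F59384) (tt N9841 D15728) (tt N9842 D15729))
theorem Q9124 : ∀ i, i < 9124 → P i := stepQ 9123 Q9123 (allL N9123 (tt N9714 (iv F61774)) (tt N9835 (iv F62250)) (tt N8521 F59385) (tt N9382 (iv F60353)) (tt N8329 F59386) (tt N9841 (iv F62285)) (tt N9827 (iv F62218)) (tt N8312 (iv D15010)) (tt N9843 D15730))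
theorem Q9125 : ∀ i, i < 9125 → P i := stepQ 9124 Q9124 (allL N9124 (tt N9715 (iv F61781)) (tt N9836 (iv F62256)) (tt N8522 F59387) (tt N8314 F59388) (tt N8330 F59389) (tt N9842 (iv F62289)) (tt N9788 (iv F62076)) (tt N9844 D15731) (tt N8312 (iv D15011)))
theorem Q9126 : ∀ i, i < 9126 → P i := stepQ 9125 Q9125 (allL N9125 (tt N9122 F59390) (tt N9714 (iv F61775)) (tt N8316 F59391) (tt N8984 F59392) (tt N9556 (iv F61098)) (tt N8983 F59393) (tt N8313 (iv D15012)) (tt N9384 (iv F60362)) (tt N9845 D15732))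
theorem Q9127 : ∀ i, i < 9127 → P i := stepQ 9126 Q9126 (allL N9126 (tt N9716 (iv F61786)) (tt N9837 (iv F62261)) (tt N8317 F59394) (tt N9842 (iv F62288)) (tt N9557 (iv F61102)) (tt N8314 F59395) (tt N9845 (iv F62299)) (tt N9846 D15733) (tt N8313 (iv D15013)))
theorem Q9128 : ∀ i, i < 9128 → P i := stepQ 9127 Q9127 (allL N9127 (tt N9717 (iv F61789)) (tt N9838 (iv F62265)) (tt N8318 F59396) (tt N9847 D15734) (tt N8315 F59397) (tt N9846 (iv F62301)) (tt N9828 (iv F62222)) (tt N8314 (iv D15014)) (tt N9386 (iv F60369)))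
theorem Q9129 : ∀ i, i < 9129 → P i := stepQ 9128 Q9128 (allL N9128 (tt N9718 (iv F61792)) (tt N9839 (iv F62270)) (tt N9804 (iv F62137)) (tt N8315 (iv D15015)) (tt N9848 D15735) (tt N9559 (iv F61107)) (tt N9829 (iv F62224)) (tt N8334 F59398) (tt N9387 (iv F60371)))
theorem Q9130 : ∀ i, i < 9130 → P i := stepQ 9129 Q9129 (allL N9129 (tt N9310 (iv F60102)) (tt N8434 F59399) (tt N9845 (iv F62296)) (tt N8525 F59400) (tt N9560 (iv F61111)) (tt N9203 F59640) (tt N8317 F59401) (tt N9849 D15736) (tt N8316 (iv D15016)))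
theorem Q9131 : ∀ i, i < 9131 → P i := stepQ 9130 Q9130 (allL N9130 (tt N9719 (iv F61794)) (tt N8435 F59402) (tt N9846 (iv F62300)) (tt N9850 D15737) (tt N9561 (iv F61114)) (tt N8318 F59403) (tt N9849 (iv F62304)) (tt N8317 (iv D15017)) (tt N9389 (iv F60379)))
theorem Q9132 : ∀ i, i < 9132 → P i := stepQ 9131 Q9131 (allL N9131 (tt N9720 (iv F61797)) (tt N8436 F59404) (tt N9851 D15738) (tt N8318 (iv D15018)) (tt N9805 (iv F62143)) (tt N9850 (iv F62306)) (tt N9830 (iv F62230)) (tt N8527 F59405) (tt N9390 (iv F60382)))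
theorem Q9133 : ∀ i, i < 9133 → P i := stepQ 9132 Q9132 (allL N9132 (tt N8541 F59406) (tt N8622 F59407) (tt N8515 F59408) (tt N8320 F59409) (tt N8973 F59410) (tt N8319 (iv D15019)) (tt N9488 (iv F60754)) (tt N9549 (iv F61065)) (tt N9787 (iv F62069)))
theorem Q9134 : ∀ i, i < 9134 → P i := stepQ 9133 Q9133 (allL N9133 (tt N8539 F59411) (tt N8623 F59412) (tt N8513 F59413) (tt N8338 F59414) (tt N9827 (iv F62216)) (tt N9549 F61066) (tt N8329 F59415) (tt N8319 (iv D15020)) (tt N9852 D15739))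
theorem Q9135 : ∀ i, i < 9135 → P i := stepQ 9134 Q9134 (allL N9134 (tt N9723 (iv F61812)) (tt N8627 F59416) (tt N9695 (iv F61688)) (tt N8321 (iv D15021)) (tt N9853 D15740) (tt N9806 (iv F62148)) (tt N8334 F59417) (tt N9829 (iv F62225)) (tt N8343 F59418))
theorem Q9136 : ∀ i, i < 9136 → P i := stepQ 9135 Q9135 (allL N9135 (tt N8324 F59419) (tt N9597 (iv F61282)) (tt N9135 F59420) (tt N8322 (iv D15022)) (tt N9831 (iv F62234)) (tt N9614 (iv F61361)) (tt N8566 F59421) (tt N9854 D15741) (tt N9855 D15742))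
theorem Q9137 : ∀ i, i < 9137 → P i := stepQ 9136 Q9136 (allL N9136 (tt N8326 F59422) (tt N9600 (iv F61294)) (tt N8396 F59423) (tt N9855 (iv F62325)) (tt N8323 F59424) (tt N9619 (iv F61379)) (tt N8567 F59425) (tt N9856 D15743) (tt N8322 (iv D15023)))
theorem Q9138 : ∀ i, i < 9138 → P i := stepQ 9137 Q9137 (allL N9137 (tt N8327 F59426) (tt N9724 (iv F61817)) (tt N8397 F59427) (tt N9857 D15744) (tt N9856 (iv F62329)) (tt N9569 (iv F61156)) (tt N8568 F59428) (tt N8323 (iv D15024)) (tt N8349 F59429))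
theorem Q9139 : ∀ i, i < 9139 → P i := stepQ 9138 Q9138 (allL N9138 (tt N9614 (iv F61357)) (tt N8328 F59430) (tt N9138 F59431) (tt N8325 F59432) (tt N9858 D15745) (tt N8324 (iv D15025)) (tt N9607 (iv F61328)) (tt N9859 D15746) (tt N9860 D15747))
theorem Q9140 : ∀ i, i < 9140 → P i := stepQ 9139 Q9139 (allL N9139 (tt N9854 (iv F62317)) (tt N8329 F59433) (tt N9139 F59434) (tt N8351 F59435) (tt N9835 (iv F62253)) (tt N9859 (iv F62345)) (tt N8623 F59436) (tt N8324 (iv D15026)) (tt N9861 D15748))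
theorem Q9141 : ∀ i, i < 9141 → P i := stepQ 9140 Q9140 (allL N9140 (tt N9855 (iv F62323)) (tt N8330 F59437) (tt N9140 F59438) (tt N8326 F59439) (tt N9836 (iv F62259)) (tt N9860 (iv F62350)) (tt N8624 F59440) (tt N9862 D15749) (tt N8324 (iv D15027)))
theorem Q9142 : ∀ i, i < 9142 → P i := stepQ 9141 Q9141 (allL N9141 (tt N9619 (iv F61375)) (tt N8332 F59441) (tt N8398 F59442) (tt N9860 (iv F62349)) (tt N9573 (iv F61178)) (tt N8326 F59443) (tt N9610 (iv F61344)) (tt N9863 D15750) (tt N8325 (iv D15028)))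
theorem Q9143 : ∀ i, i < 9143 → P i := stepQ 9142 Q9142 (allL N9142 (tt N9856 (iv F62327)) (tt N8333 F59444) (tt N8399 F59445) (tt N9864 D15751) (tt N8327 F59446) (tt N9863 (iv F62360)) (tt N8626 F59447) (tt N8326 (iv D15029)) (tt N8355 F59448))
theorem Q9144 : ∀ i, i < 9144 → P i := stepQ 9143 Q9143 (allL N9143 (tt N9857 (iv F62332)) (tt N8334 F59449) (tt N9567 (iv F61144)) (tt N8327 (iv D15030)) (tt N9865 D15752) (tt N9575 (iv F61188)) (tt N8627 F59450) (tt N9839 (iv F62272)) (tt N8356 F59451))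
theorem Q9145 : ∀ i, i < 9145 → P i := stepQ 9144 Q9144 (allL N9144 (tt N9728 (iv F61832)) (tt N9858 (iv F62335)) (tt N8528 F59452) (tt N9576 (iv F61191)) (tt N8328 (iv D15031)) (tt N9840 (iv F62277)) (tt N8864 (iv F59453)) (tt N8863 (iv F59454)) (tt N9866 D15753))
theorem Q9146 : ∀ i, i < 9146 → P i := stepQ 9145 Q9145 (allL N9145 (tt N9491 (iv F60766)) (tt N9607 (iv F61325)) (tt N8529 F59455) (tt N8331 F59456) (tt N8864 F59457) (tt N9488 (iv F60753)) (tt N8328 (iv D15032)) (tt N8862 (iv F59458)) (tt N9867 D15754))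
theorem Q9147 : ∀ i, i < 9147 → P i := stepQ 9146 Q9146 (allL N9146 (tt N9729 (iv F61837)) (tt N9859 (iv F62341)) (tt N8530 F59459) (tt N8359 F59460) (tt N8863 F59461) (tt N8329 F59462) (tt N8862 F59463) (tt N8328 (iv D15033)) (tt N9868 D15755))
theorem Q9148 : ∀ i, i < 9148 → P i := stepQ 9147 Q9147 (allL N9147 (tt N9730 (iv F61844)) (tt N9860 (iv F62347)) (tt N8531 F59464) (tt N8332 F59465) (tt N9866 (iv F62369)) (tt N8330 F59466) (tt N9867 (iv F62374)) (tt N9869 D15756) (tt N8328 (iv D15034)))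
theorem Q9149 : ∀ i, i < 9149 → P i := stepQ 9148 Q9148 (allL N9148 (tt N9731 (iv F61848)) (tt N9861 (iv F62351)) (tt N8532 F59467) (tt N8361 F59468) (tt N9843 (iv F62292)) (tt N9868 (iv F62378)) (tt N9852 (iv F62313)) (tt N9870 D15757) (tt N8329 (iv D15035)))
theorem Q9150 : ∀ i, i < 9150 → P i := stepQ 9149 Q9149 (allL N9149 (tt N9732 (iv F61852)) (tt N9862 (iv F62355)) (tt N8533 F59469) (tt N9871 D15758) (tt N9844 (iv F62294)) (tt N9869 (iv F62381)) (tt N9784 (iv F62051)) (tt N8330 (iv D15036)) (tt N9870 (iv F62383)))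
theorem Q9151 : ∀ i, i < 9151 → P i := stepQ 9150 Q9150 (allL N9150 (tt N9494 (iv F60781)) (tt N9610 (iv F61340)) (tt N8335 F59470) (tt N9867 (iv F62372)) (tt N9582 (iv F61212)) (tt N9489 (iv F60760)) (tt N8332 F59471) (tt N9872 D15759) (tt N8331 (iv D15037)))
theorem Q9152 : ∀ i, i < 9152 → P i := stepQ 9151 Q9151 (allL N9151 (tt N9733 (iv F61855)) (tt N9863 (iv F62358)) (tt N8336 F59472) (tt N9873 D15760) (tt N9583 (iv F61216)) (tt N8333 F59473) (tt N9872 (iv F62386)) (tt N8332 (iv D15038)) (tt N8364 F59474))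
theorem Q9153 : ∀ i, i < 9153 → P i := stepQ 9152 Q9152 (allL N9152 (tt N9734 (iv F61859)) (tt N9864 (iv F62362)) (tt N9747 (iv F61910)) (tt N8333 (iv D15039)) (tt N9874 D15761) (tt N9873 (iv F62388)) (tt N9770 (iv F61990)) (tt N9871 (iv F62384)) (tt N8365 F59475))
theorem Q9154 : ∀ i, i < 9154 → P i := stepQ 9153 Q9153 (allL N9153 (tt N9735 (iv F61863)) (tt N9865 (iv F62365)) (tt N9807 (iv F62150)) (tt N9874 (iv F62390)) (tt N8334 (iv D15040)) (tt N9875 D15762) (tt N9853 (iv F62315)) (tt N9848 (iv F62302)) (tt N8366 F59476))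
theorem Q9155 : ∀ i, i < 9155 → P i := stepQ 9154 Q9154 (allL N9154 (tt N9534 (iv F60978)) (tt N8402 F59477) (tt N9872 (iv F62385)) (tt N9523 (iv F60911)) (tt N9586 (iv F61224)) (tt N9532 (iv F60970)) (tt N8336 F59478) (tt N8335 (iv D15041)) (tt N8367 F59479))
theorem Q9156 : ∀ i, i < 9156 → P i := stepQ 9155 Q9155 (allL N9155 (tt N9571 (iv F61164)) (tt N8630 F59480) (tt N8370 F59481) (tt N9608 (iv F61332)) (tt N8337 (iv D15042)) (tt N9172 (iv F59543)) (tt N8632 (iv F59482)) (tt N8631 (iv F59483)) (tt N9876 D15763))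
theorem Q9157 : ∀ i, i < 9157 → P i := stepQ 9156 Q9156 (allL N9156 (tt N9468 (iv F60645)) (tt N8631 F59484) (tt N8371 F59485) (tt N8340 F59486) (tt N8632 F59487) (tt N8358 F59488) (tt N8337 (iv D15043)) (tt N8630 (iv F59489)) (tt N9877 D15764))
theorem Q9158 : ∀ i, i < 9158 → P i := stepQ 9157 Q9157 (allL N9157 (tt N9551 (iv F61072)) (tt N8632 F59490) (tt N8372 F59491) (tt N9549 (iv F61063)) (tt N8631 F59492) (tt N8338 F59493) (tt N8630 F59494) (tt N8337 (iv D15044)) (tt N9878 D15765))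
theorem Q9159 : ∀ i, i < 9159 → P i := stepQ 9158 Q9158 (allL N9158 (tt N9743 (iv F61894)) (tt N8633 F59495) (tt N8373 F59496) (tt N8341 F59497) (tt N9876 (iv F62395)) (tt N8339 F59498) (tt N9877 (iv F62402)) (tt N9879 D15766) (tt N8337 (iv D15045)))
theorem Q9160 : ∀ i, i < 9160 → P i := stepQ 9159 Q9159 (allL N9159 (tt N9744 (iv F61898)) (tt N8634 F59499) (tt N8374 F59500) (tt N9852 (iv F62312)) (tt N9176 (iv F59560)) (tt N9878 (iv F62406)) (tt N8361 F59501) (tt N9880 D15767) (tt N8338 (iv D15046)))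
theorem Q9161 : ∀ i, i < 9161 → P i := stepQ 9160 Q9160 (allL N9160 (tt N9745 (iv F61902)) (tt N8635 F59502) (tt N8375 F59503) (tt N9881 D15768) (tt N9177 (iv F59564)) (tt N9879 (iv F62410)) (tt N8362 F59504) (tt N8339 (iv D15047)) (tt N9880 (iv F62414)))
theorem Q9162 : ∀ i, i < 9162 → P i := stepQ 9161 Q9161 (allL N9161 (tt N9469 (iv F60652)) (tt N8636 F59505) (tt N8344 F59506) (tt N9877 (iv F62399)) (tt N9467 (iv F60642)) (tt N8363 F59507) (tt N8341 F59508) (tt N9882 D15769) (tt N8340 (iv D15048)))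
theorem Q9163 : ∀ i, i < 9163 → P i := stepQ 9162 Q9162 (allL N9162 (tt N9746 (iv F61905)) (tt N8637 F59509) (tt N8345 F59510) (tt N9883 D15770) (tt N9812 (iv F62171)) (tt N8342 F59511) (tt N9882 (iv F62421)) (tt N8341 (iv D15049)) (tt N9773 (iv F62000)))
theorem Q9164 : ∀ i, i < 9164 → P i := stepQ 9163 Q9163 (allL N9163 (tt N9747 (iv F61909)) (tt N8638 F59512) (tt N9734 (iv F61860)) (tt N8342 (iv D15050)) (tt N9884 D15771) (tt N9883 (iv F62423)) (tt N8365 F59513) (tt N9881 (iv F62417)) (tt N9770 (iv F61991)))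
theorem Q9165 : ∀ i, i < 9165 → P i := stepQ 9164 Q9164 (allL N9164 (tt N9748 (iv F61913)) (tt N8639 F59514) (tt N9808 (iv F62152)) (tt N9884 (iv F62425)) (tt N8343 (iv D15051)) (tt N9885 D15772) (tt N8366 F59515) (tt N9181 (iv F59577)) (tt N9853 (iv F62316)))
theorem Q9166 : ∀ i, i < 9166 → P i := stepQ 9165 Q9165 (allL N9165 (tt N9523 (iv F60909)) (tt N8403 F59516) (tt N9882 (iv F62419)) (tt N9534 (iv F60980)) (tt N9522 (iv F60905)) (tt N8367 F59517) (tt N8345 F59518) (tt N8344 (iv D15052)) (tt N9532 (iv F60972)))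
theorem Q9167 : ∀ i, i < 9167 → P i := stepQ 9166 Q9166 (allL N9166 (tt N8350 F59519) (tt N9577 (iv F61193)) (tt N8437 F59520) (tt N8347 F59521) (tt N9886 D15773) (tt N8346 (iv D15053)) (tt N9570 (iv F61163)) (tt N9887 D15774) (tt N9888 D15775))
theorem Q9168 : ∀ i, i < 9168 → P i := stepQ 9167 Q9167 (allL N9167 (tt N8351 F59522) (tt N9749 (iv F61916)) (tt N8438 F59523) (tt N9854 (iv F62320)) (tt N9012 F59524) (tt N9887 (iv F62439)) (tt N8574 F59525) (tt N8346 (iv D15054)) (tt N9889 D15776))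
theorem Q9169 : ∀ i, i < 9169 → P i := stepQ 9168 Q9168 (allL N9168 (tt N8352 F59526) (tt N9750 (iv F61922)) (tt N8439 F59527) (tt N8348 F59528) (tt N9013 F59529) (tt N9888 (iv F62444)) (tt N8575 F59530) (tt N9890 D15777) (tt N8346 (iv D15055)))
theorem Q9170 : ∀ i, i < 9170 → P i := stepQ 9169 Q9169 (allL N9169 (tt N8354 F59531) (tt N9582 (iv F61210)) (tt N8404 F59532) (tt N9888 (iv F62443)) (tt N9610 (iv F61342)) (tt N8348 F59533) (tt N9573 (iv F61180)) (tt N9891 D15778) (tt N8347 (iv D15056)))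
theorem Q9171 : ∀ i, i < 9171 → P i := stepQ 9170 Q9170 (allL N9170 (tt N8355 F59534) (tt N9751 (iv F61928)) (tt N8405 F59535) (tt N9892 D15779) (tt N8349 F59536) (tt N9891 (iv F62455)) (tt N8577 F59537) (tt N8348 (iv D15057)) (tt N9856 (iv F62331)))
theorem Q9172 : ∀ i, i < 9172 → P i := stepQ 9171 Q9171 (allL N9171 (tt N8356 F59538) (tt N9752 (iv F61933)) (tt N9486 (iv F60741)) (tt N8349 (iv D15058)) (tt N9893 D15780) (tt N9612 (iv F61351)) (tt N8578 F59539) (tt N9016 F59540) (tt N9857 (iv F62334)))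
theorem Q9173 : ∀ i, i < 9173 → P i := stepQ 9172 Q9172 (allL N9172 (tt N9886 (iv F62428)) (tt N8357 F59541) (tt N8443 F59542) (tt N9613 (iv F61354)) (tt N8350 (iv D15059)) (tt N9155 F59543) (tt N9174 (iv F59553)) (tt N9173 F59548) (tt N9894 D15781))
theorem Q9174 : ∀ i, i < 9174 → P i := stepQ 9173 Q9173 (allL N9173 (tt N9570 (iv F61159)) (tt N8358 F59544) (tt N8444 F59545) (tt N8353 F59546) (tt N9174 (iv F59551)) (tt N8631 F59547) (tt N8350 (iv D15060)) (tt N9172 (iv F59548)) (tt N9895 D15782))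
theorem Q9175 : ∀ i, i < 9175 → P i := stepQ 9174 Q9174 (allL N9174 (tt N9887 (iv F62434)) (tt N8359 F59549) (tt N8445 F59550) (tt N9859 (iv F62343)) (tt N9173 F59551) (tt N8351 F59552) (tt N9172 F59553) (tt N8350 (iv D15061)) (tt N9896 D15783))
theorem Q9176 : ∀ i, i < 9176 → P i := stepQ 9175 Q9175 (allL N9175 (tt N9888 (iv F62441)) (tt N8360 F59554) (tt N8446 F59555) (tt N8354 F59556) (tt N9894 (iv F62463)) (tt N8352 F59557) (tt N9895 (iv F62469)) (tt N9897 D15784) (tt N8350 (iv D15062)))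
theorem Q9177 : ∀ i, i < 9177 → P i := stepQ 9176 Q9176 (allL N9176 (tt N9889 (iv F62445)) (tt N8361 F59558) (tt N8447 F59559) (tt N9861 (iv F62353)) (tt N9159 F59560) (tt N9896 (iv F62473)) (tt N8634 F59561) (tt N9898 D15785) (tt N8351 (iv D15063)))
theorem Q9178 : ∀ i, i < 9178 → P i := stepQ 9177 Q9177 (allL N9177 (tt N9890 (iv F62449)) (tt N8362 F59562) (tt N8448 F59563) (tt N9899 D15786) (tt N9160 F59564) (tt N9897 (iv F62477)) (tt N8635 F59565) (tt N8352 (iv D15064)) (tt N9898 (iv F62482)))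
theorem Q9179 : ∀ i, i < 9179 → P i := stepQ 9178 Q9178 (allL N9178 (tt N9573 (iv F61175)) (tt N8363 F59566) (tt N8406 F59567) (tt N9895 (iv F62467)) (tt N9619 (iv F61378)) (tt N8636 F59568) (tt N8354 F59569) (tt N9900 D15787) (tt N8353 (iv D15065)))
theorem Q9180 : ∀ i, i < 9180 → P i := stepQ 9179 Q9179 (allL N9179 (tt N9891 (iv F62453)) (tt N8364 F59570) (tt N8407 F59571) (tt N9901 D15788) (tt N9620 (iv F61383)) (tt N8355 F59572) (tt N9900 (iv F62489)) (tt N8354 (iv D15066)) (tt N9863 (iv F62361)))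
theorem Q9181 : ∀ i, i < 9181 → P i := stepQ 9180 Q9180 (allL N9180 (tt N9892 (iv F62456)) (tt N8365 F59573) (tt N9902 D15789) (tt N8355 (iv D15067)) (tt N9903 D15790) (tt N9901 (iv F62491)) (tt N8638 F59574) (tt N9899 (iv F62485)) (tt N9864 (iv F62364)))
theorem Q9182 : ∀ i, i < 9182 → P i := stepQ 9181 Q9181 (allL N9181 (tt N9893 (iv F62458)) (tt N8366 F59575) (tt N9603 (iv F61306)) (tt N9903 (iv F62495)) (tt N8356 (iv D15068)) (tt N9904 D15791) (tt N8639 F59576) (tt N9164 F59577) (tt N9865 (iv F62367)))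
theorem Q9183 : ∀ i, i < 9183 → P i := stepQ 9182 Q9182 (allL N9182 (tt N9762 (iv F61963)) (tt N9894 (iv F62461)) (tt N8381 F59578) (tt N9623 (iv F61388)) (tt N8360 F59579) (tt N9401 (iv F60411)) (tt N9184 (iv F59586)) (tt N9905 D15792) (tt N8357 (iv D15069)))
theorem Q9184 : ∀ i, i < 9184 → P i := stepQ 9183 Q9183 (allL N9183 (tt N9763 (iv F61966)) (tt N9895 (iv F62465)) (tt N8382 F59580) (tt N8363 F59581) (tt N9184 (iv F59584)) (tt N9877 (iv F62401)) (tt N8360 F59582) (tt N9906 D15793) (tt N8358 (iv D15070)))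
theorem Q9185 : ∀ i, i < 9185 → P i := stepQ 9184 Q9184 (allL N9184 (tt N9764 (iv F61970)) (tt N9896 (iv F62470)) (tt N8383 F59583) (tt N9868 (iv F62376)) (tt N9183 F59584) (tt N8361 F59585) (tt N9182 F59586) (tt N9907 D15794) (tt N8359 (iv D15071)))
theorem Q9186 : ∀ i, i < 9186 → P i := stepQ 9185 Q9185 (allL N9185 (tt N9765 (iv F61975)) (tt N9897 (iv F62475)) (tt N8384 F59587) (tt N9908 D15795) (tt N9905 (iv F62500)) (tt N8362 F59588) (tt N9906 (iv F62502)) (tt N8360 (iv D15072)) (tt N9907 (iv F62508)))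
theorem Q9187 : ∀ i, i < 9187 → P i := stepQ 9186 Q9186 (allL N9186 (tt N9766 (iv F61978)) (tt N9898 (iv F62478)) (tt N8385 F59589) (tt N9909 D15796) (tt N9405 (iv F60420)) (tt N9907 (iv F62506)) (tt N9880 (iv F62413)) (tt N8361 (iv D15073)) (tt N8362 F59590))
theorem Q9188 : ∀ i, i < 9188 → P i := stepQ 9187 Q9187 (allL N9187 (tt N9767 (iv F61981)) (tt N9899 (iv F62483)) (tt N9910 D15797) (tt N8362 (iv D15074)) (tt N9911 D15798) (tt N9908 (iv F62509)) (tt N9881 (iv F62416)) (tt N8365 F59591) (tt N9909 (iv F62511)))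
theorem Q9189 : ∀ i, i < 9189 → P i := stepQ 9188 Q9188 (allL N9188 (tt N9768 (iv F61983)) (tt N9900 (iv F62486)) (tt N8367 F59592) (tt N9912 D15799) (tt N9629 (iv F61401)) (tt N9882 (iv F62420)) (tt N8364 F59593) (tt N8363 (iv D15075)) (tt N9872 (iv F62387)))
theorem Q9190 : ∀ i, i < 9190 → P i := stepQ 9189 Q9189 (allL N9189 (tt N9769 (iv F61986)) (tt N9901 (iv F62490)) (tt N9913 D15800) (tt N8364 (iv D15076)) (tt N9914 D15801) (tt N8365 F59594) (tt N9912 (iv F62515)) (tt N9908 (iv F62510)) (tt N9873 (iv F62389)))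
theorem Q9191 : ∀ i, i < 9191 → P i := stepQ 9190 Q9190 (allL N9190 (tt N9770 (iv F61988)) (tt N9915 D15802) (tt N8365 (iv D15077)) (tt N8369 F59595) (tt N9916 D15803) (tt N9913 (iv F62517)) (tt N9734 (iv F61861)) (tt N9910 (iv F62513)) (tt N9747 (iv F61912)))
theorem Q9192 : ∀ i, i < 9192 → P i := stepQ 9191 Q9191 (allL N9191 (tt N9771 (iv F61993)) (tt N9903 (iv F62494)) (tt N9916 (iv F62519)) (tt N8366 F59596) (tt N8365 (iv D15078)) (tt N9917 D15804) (tt N9884 (iv F62426)) (tt N9911 (iv F62514)) (tt N9874 (iv F62391)))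
theorem Q9193 : ∀ i, i < 9193 → P i := stepQ 9192 Q9192 (allL N9192 (tt N9772 (iv F61995)) (tt N9904 (iv F62497)) (tt N9822 (iv F62196)) (tt N9917 (iv F62520)) (tt N9633 (iv F61407)) (tt N8366 (iv D15079)) (tt N9918 D15805) (tt N9411 (iv F60428)) (tt N9875 (iv F62392)))
theorem Q9194 : ∀ i, i < 9194 → P i := stepQ 9193 Q9193 (allL N9193 (tt N9773 (iv F61996)) (tt N9485 (iv F60735)) (tt N8368 (iv D15080)) (tt N9913 (iv F62516)) (tt N9484 (iv F60732)) (tt N8369 F59597) (tt N9495 (iv F60790)) (tt N8391 F59598) (tt N9746 (iv F61908)))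
theorem Q9195 : ∀ i, i < 9195 → P i := stepQ 9194 Q9194 (allL N9194 (tt N9601 (iv F61299)) (tt N8369 (iv D15081)) (tt N8412 F59599) (tt N9915 (iv F62518)) (tt N9722 (iv F61809)) (tt N9485 (iv F60738)) (tt N9726 (iv F61828)) (tt N8392 F59600) (tt N9741 (iv F61890)))
theorem Q9196 : ∀ i, i < 9196 → P i := stepQ 9195 Q9195 (allL N9195 (tt N9774 (iv F62001)) (tt N8465 F59601) (tt N9876 (iv F62394)) (tt N9195 F59602) (tt N8373 F59603) (tt N9255 (iv F59852)) (tt N8645 F59604) (tt N9919 D15806) (tt N8370 (iv D15082)))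
theorem Q9197 : ∀ i, i < 9197 → P i := stepQ 9196 Q9196 (allL N9196 (tt N9775 (iv F62006)) (tt N8466 F59605) (tt N9877 (iv F62398)) (tt N8376 F59606) (tt N8645 F59607) (tt N8382 F59608) (tt N8373 F59609) (tt N9920 D15807) (tt N8371 (iv D15083)))
theorem Q9198 : ∀ i, i < 9198 → P i := stepQ 9197 Q9197 (allL N9197 (tt N9776 (iv F62012)) (tt N8467 F59610) (tt N9878 (iv F62404)) (tt N8536 F59611) (tt N8644 F59612) (tt N8374 F59613) (tt N8643 F59614) (tt N9921 D15808) (tt N8372 (iv D15084)))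
theorem Q9199 : ∀ i, i < 9199 → P i := stepQ 9198 Q9198 (allL N9198 (tt N9777 (iv F62018)) (tt N8468 F59615) (tt N9879 (iv F62409)) (tt N9922 D15809) (tt N9919 (iv F62522)) (tt N8375 F59616) (tt N9920 (iv F62528)) (tt N8373 (iv D15085)) (tt N9921 (iv F62534)))
theorem Q9200 : ∀ i, i < 9200 → P i := stepQ 9199 Q9199 (allL N9199 (tt N9778 (iv F62022)) (tt N8469 F59617) (tt N9880 (iv F62412)) (tt N9923 D15810) (tt N9259 (iv F59865)) (tt N9921 (iv F62532)) (tt N8385 F59618) (tt N8374 (iv D15086)) (tt N8375 F59619))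
theorem Q9201 : ∀ i, i < 9201 → P i := stepQ 9200 Q9200 (allL N9200 (tt N8533 F59620) (tt N8470 F59621) (tt N9732 (iv F61853)) (tt N8375 (iv D15087)) (tt N9924 D15811) (tt N9922 (iv F62537)) (tt N8386 F59622) (tt N8378 F59623) (tt N9923 (iv F62543)))
theorem Q9202 : ∀ i, i < 9202 → P i := stepQ 9201 Q9201 (allL N9201 (tt N8534 F59624) (tt N8471 F59625) (tt N8380 F59626) (tt N9925 D15812) (tt N9201 F59627) (tt N8387 F59628) (tt N8377 F59629) (tt N8376 (iv D15088)) (tt N8502 F59630))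
theorem Q9203 : ∀ i, i < 9203 → P i := stepQ 9202 Q9202 (allL N9202 (tt N8531 F59631) (tt N8472 F59632) (tt N9730 (iv F61845)) (tt N8377 (iv D15089)) (tt N9926 D15813) (tt N8378 F59633) (tt N9925 (iv F62552)) (tt N9922 (iv F62538)) (tt N8500 F59634))
theorem Q9204 : ∀ i, i < 9204 → P i := stepQ 9203 Q9203 (allL N9203 (tt N8522 F59635) (tt N8474 F59636) (tt N9715 (iv F61782)) (tt N8379 F59637) (tt N8378 (iv D15090)) (tt N9129 (iv F59640)) (tt N8390 F59638) (tt N9924 (iv F62547)) (tt N8497 F59639))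
theorem Q9205 : ∀ i, i < 9205 → P i := stepQ 9204 Q9204 (allL N9204 (tt N9779 (iv F62027)) (tt N8477 F59641) (tt N9905 (iv F62499)) (tt N9927 D15814) (tt N8384 F59642) (tt N9416 (iv F60440)) (tt N9206 (iv F59649)) (tt N8381 (iv D15091)) (tt N9205 (iv F59645)))
theorem Q9206 : ∀ i, i < 9206 → P i := stepQ 9205 Q9205 (allL N9205 (tt N9780 (iv F62030)) (tt N8478 F59643) (tt N9906 (iv F62501)) (tt N9928 D15815) (tt N9206 (iv F59647)) (tt N9920 (iv F62527)) (tt N8384 F59644) (tt N8382 (iv D15092)) (tt N9204 F59645))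
theorem Q9207 : ∀ i, i < 9207 → P i := stepQ 9206 Q9206 (allL N9206 (tt N9781 (iv F62034)) (tt N8479 F59646) (tt N9907 (iv F62504)) (tt N9684 (iv F61632)) (tt N9205 F59647) (tt N8385 F59648) (tt N9204 F59649) (tt N8383 (iv D15093)) (tt N8384 F59650))
theorem Q9208 : ∀ i, i < 9208 → P i := stepQ 9207 Q9207 (allL N9207 (tt N9782 (iv F62040)) (tt N8480 F59651) (tt N9929 D15816) (tt N8384 (iv D15094)) (tt N9111 (iv F59654)) (tt N8386 F59652) (tt N9928 (iv F62568)) (tt N8388 F59653) (tt N9684 (iv F61635)))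
theorem Q9209 : ∀ i, i < 9209 → P i := stepQ 9208 Q9208 (allL N9208 (tt N9783 (iv F62045)) (tt N8481 F59655) (tt N9930 D15817) (tt N8385 (iv D15095)) (tt N9931 D15818) (tt N9684 (iv F61634)) (tt N9923 (iv F62541)) (tt N8538 F59656) (tt N8386 F59657))
theorem Q9210 : ∀ i, i < 9210 → P i := stepQ 9209 Q9209 (allL N9209 (tt N9784 (iv F62050)) (tt N9932 D15819) (tt N8386 (iv D15096)) (tt N9910 (iv F62512)) (tt N9933 D15820) (tt N9929 (iv F62573)) (tt N9732 (iv F61854)) (tt N8389 F59658) (tt N9930 (iv F62576)))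
theorem Q9211 : ∀ i, i < 9211 → P i := stepQ 9210 Q9210 (allL N9210 (tt N9785 (iv F62054)) (tt N8483 F59659) (tt N9933 (iv F62584)) (tt N9422 (iv F60454)) (tt N8386 (iv D15097)) (tt N9115 F59660) (tt N9924 (iv F62546)) (tt N8390 F59661) (tt N9931 (iv F62580)))
theorem Q9212 : ∀ i, i < 9212 → P i := stepQ 9211 Q9211 (allL N9211 (tt N9786 (iv F62059)) (tt N8484 F59662) (tt N9493 (iv F60778)) (tt N8387 (iv D15098)) (tt N8798 F59663) (tt N9925 (iv F62551)) (tt N8388 F59664) (tt N9928 (iv F62569)) (tt N8540 F59665))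
theorem Q9213 : ∀ i, i < 9213 → P i := stepQ 9212 Q9212 (allL N9212 (tt N9787 (iv F62065)) (tt N9082 F59666) (tt N8388 (iv D15099)) (tt N8391 F59667) (tt N9081 F59668) (tt N8389 F59669) (tt N9493 (iv F60780)) (tt N9929 (iv F62574)) (tt N8541 F59670))
theorem Q9214 : ∀ i, i < 9214 → P i := stepQ 9213 Q9213 (allL N9213 (tt N9598 (iv F61286)) (tt N8389 (iv D15100)) (tt N8485 F59671) (tt N8392 F59672) (tt N9385 (iv F60365)) (tt N9082 F59673) (tt N9725 (iv F61824)) (tt N9932 (iv F62583)) (tt N8542 F59674))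
theorem Q9215 : ∀ i, i < 9215 → P i := stepQ 9214 Q9214 (allL N9214 (tt N9788 (iv F62071)) (tt N9385 (iv F60363)) (tt N8390 F59675) (tt N9706 (iv F61742)) (tt N8389 (iv D15101)) (tt N9113 F59676) (tt N9715 (iv F61785)) (tt N9933 (iv F62586)) (tt N8543 F59677))
theorem Q9216 : ∀ i, i < 9216 → P i := stepQ 9215 Q9215 (allL N9215 (tt N9103 F59678) (tt N8486 F59679) (tt N9934 D15821) (tt N8393 (iv D15102)) (tt N8940 F59680) (tt N9432 (iv F60484)) (tt N8947 F59681) (tt N9927 (iv F62565)) (tt N8939 F59682))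
theorem Q9217 : ∀ i, i < 9217 → P i := stepQ 9216 Q9216 (allL N9216 (tt N8399 F59683) (tt N8413 F59684) (tt N9856 (iv F62328)) (tt N9935 D15822) (tt N8397 F59685) (tt N9669 (iv F61561)) (tt N8569 F59686) (tt N8396 (iv D15103)) (tt N8405 F59687))
theorem Q9218 : ∀ i, i < 9218 → P i := stepQ 9217 Q9217 (allL N9217 (tt N9669 (iv F61558)) (tt N8400 F59688) (tt N9863 (iv F62359)) (tt N9936 D15823) (tt N9658 (iv F61495)) (tt N8399 F59689) (tt N9667 (iv F61551)) (tt N8398 (iv D15104)) (tt N8407 F59690))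
theorem Q9219 : ∀ i, i < 9219 → P i := stepQ 9218 Q9218 (allL N9218 (tt N9935 (iv F62592)) (tt N8401 F59691) (tt N9937 D15824) (tt N8399 (iv D15105)) (tt N9568 (iv F61148)) (tt N9936 (iv F62598)) (tt N8629 F59692) (tt N9218 F59693) (tt N8408 F59694))
theorem Q9220 : ∀ i, i < 9220 → P i := stepQ 9219 Q9219 (allL N9219 (tt N8415 F59695) (tt N9936 (iv F62597)) (tt N9521 (iv F60897)) (tt N8400 (iv D15106)) (tt N9938 D15825) (tt N8401 F59696) (tt N9527 (iv F60938)) (tt N9219 F59697) (tt N8410 F59698))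
theorem Q9221 : ∀ i, i < 9221 → P i := stepQ 9220 Q9220 (allL N9220 (tt N8407 F59699) (tt N8416 F59700) (tt N9891 (iv F62454)) (tt N9939 D15826) (tt N9667 (iv F61549)) (tt N8405 F59701) (tt N9658 (iv F61497)) (tt N8404 (iv D15107)) (tt N9669 (iv F61563)))
theorem Q9222 : ∀ i, i < 9222 → P i := stepQ 9221 Q9221 (allL N9221 (tt N8408 F59702) (tt N8417 F59703) (tt N9940 D15827) (tt N8405 (iv D15108)) (tt N9487 (iv F60745)) (tt N9939 (iv F62613)) (tt N8580 F59704) (tt N8489 F59705) (tt N9935 (iv F62596)))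
theorem Q9223 : ∀ i, i < 9223 → P i := stepQ 9222 Q9222 (allL N9222 (tt N9658 (iv F61493)) (tt N8409 F59706) (tt N9900 (iv F62487)) (tt N9538 (iv F61001)) (tt N9669 (iv F61560)) (tt N8640 F59707) (tt N8407 F59708) (tt N8406 (iv D15109)) (tt N9667 (iv F61552)))
theorem Q9224 : ∀ i, i < 9224 → P i := stepQ 9223 Q9223 (allL N9223 (tt N9939 (iv F62611)) (tt N8410 F59709) (tt N9941 D15828) (tt N8407 (iv D15110)) (tt N9942 D15829) (tt N8408 F59710) (tt N9538 (iv F61004)) (tt N8491 F59711) (tt N9936 (iv F62600)))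
theorem Q9225 : ∀ i, i < 9225 → P i := stepQ 9224 Q9224 (allL N9224 (tt N9940 (iv F62615)) (tt N9943 D15830) (tt N8408 (iv D15111)) (tt N9902 (iv F62492)) (tt N9606 (iv F61321)) (tt N9941 (iv F62618)) (tt N8642 F59712) (tt N8492 F59713) (tt N9937 (iv F62603)))
theorem Q9226 : ∀ i, i < 9226 → P i := stepQ 9225 Q9225 (allL N9225 (tt N8419 F59714) (tt N9942 (iv F62620)) (tt N8417 F59715) (tt N9674 (iv F61584)) (tt N8410 (iv D15112)) (tt N9665 (iv F61540)) (tt N8605 F59716) (tt N8493 F59717) (tt N9938 (iv F62610)))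
theorem Q9227 : ∀ i, i < 9227 → P i := stepQ 9226 Q9226 (allL N9226 (tt N9605 (iv F61315)) (tt N8411 (iv D15113)) (tt N9943 (iv F62623)) (tt N8412 F59718) (tt N9666 (iv F61544)) (tt N9487 (iv F60746)) (tt N8667 F59719) (tt N8494 F59720) (tt N9792 (iv F62094)))
theorem Q9228 : ∀ i, i < 9228 → P i := stepQ 9227 Q9227 (allL N9227 (tt N8414 F59721) (tt N9935 (iv F62593)) (tt N9938 (iv F62605)) (tt N8413 (iv D15114)) (tt N9521 (iv F60898)) (tt N9672 (iv F61571)) (tt N8599 F59722) (tt N9227 F59723) (tt N8417 F59724))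
theorem Q9229 : ∀ i, i < 9229 → P i := stepQ 9228 Q9228 (allL N9228 (tt N9938 (iv F62604)) (tt N8612 F59725) (tt N8414 (iv D15115)) (tt N8614 F59726) (tt N8415 F59727) (tt N8613 F59728) (tt N8611 F59729) (tt N9228 F59730) (tt N8419 F59731))
theorem Q9230 : ∀ i, i < 9230 → P i := stepQ 9229 Q9229 (allL N9229 (tt N8418 F59732) (tt N9939 (iv F62612)) (tt N9665 (iv F61538)) (tt N8416 (iv D15116)) (tt N9664 F61536) (tt N8417 F59733) (tt N9544 (iv F61039)) (tt N8496 F59734) (tt N9672 (iv F61574)))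
theorem Q9231 : ∀ i, i < 9231 → P i := stepQ 9230 Q9230 (allL N9230 (tt N9230 F59735) (tt N8742 F59736) (tt N9284 (iv F59974)) (tt N8544 F59737) (tt N8688 F59738) (tt N8421 F59739) (tt N9285 (iv F59982)) (tt N9944 D15831) (tt N8420 (iv D15117)))
theorem Q9232 : ∀ i, i < 9232 → P i := stepQ 9231 Q9231 (allL N9231 (tt N9231 F59740) (tt N8744 F59741) (tt N9289 F60002) (tt N9945 D15832) (tt N8422 F59742) (tt N9944 (iv F62630)) (tt N8424 F59743) (tt N8421 (iv D15118)) (tt N8944 F59744))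
theorem Q9233 : ∀ i, i < 9233 → P i := stepQ 9232 Q9232 (allL N9232 (tt N9232 F59745) (tt N9805 (iv F62142)) (tt N9269 (iv F59907)) (tt N8424 (iv D15119)) (tt N8436 F59746) (tt N9271 (iv F59917)) (tt N9945 (iv F62636)) (tt N8546 F59747) (tt N8952 F59748))
theorem Q9234 : ∀ i, i < 9234 → P i := stepQ 9233 Q9233 (allL N9233 (tt N9233 F59749) (tt N9830 (iv F62227)) (tt N9946 D15833) (tt N8425 (iv D15120)) (tt N9945 (iv F62634)) (tt N8680 F59750) (tt N8436 F59751) (tt N8547 F59752) (tt N9242 (iv F59797)))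
theorem Q9235 : ∀ i, i < 9235 → P i := stepQ 9234 Q9234 (allL N9234 (tt N8428 F59753) (tt N9234 F59754) (tt N9827 (iv F62215)) (tt N9234 F59755) (tt N8513 F59756) (tt N8426 (iv D15121)) (tt N8521 (iv F59758)) (tt N8516 F59757) (tt N9947 D15834))
theorem Q9236 : ∀ i, i < 9236 → P i := stepQ 9235 Q9235 (allL N9235 (tt N8429 F59759) (tt N9235 F59760) (tt N9832 (iv F62237)) (tt N9235 F59761) (tt N8427 F59762) (tt N9947 (iv F62648)) (tt N8563 F59763) (tt N9948 D15835) (tt N8426 (iv D15122)))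
theorem Q9237 : ∀ i, i < 9237 → P i := stepQ 9236 Q9236 (allL N9236 (tt N8430 F59764) (tt N9236 F59765) (tt N9833 (iv F62241)) (tt N9106 F59766) (tt N9948 (iv F62652)) (tt N9683 (iv F61629)) (tt N8564 F59767) (tt N8427 (iv D15123)) (tt N8979 F59768))
theorem Q9238 : ∀ i, i < 9238 → P i := stepQ 9237 Q9237 (allL N9237 (tt N8521 F59769) (tt N8431 F59770) (tt N9714 (iv F61776)) (tt N9237 F59771) (tt N8501 F59772) (tt N8619 F59773) (tt N8428 (iv D15124)) (tt N8497 F59774) (tt N9949 D15836))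
theorem Q9239 : ∀ i, i < 9239 → P i := stepQ 9238 Q9238 (allL N9238 (tt N9947 (iv F62644)) (tt N8432 F59775) (tt N9837 (iv F62262)) (tt N9238 F59776) (tt N8538 F59777) (tt N8429 F59778) (tt N9949 (iv F62660)) (tt N9931 (iv F62579)) (tt N8428 (iv D15125)))
theorem Q9240 : ∀ i, i < 9240 → P i := stepQ 9239 Q9239 (allL N9239 (tt N9948 (iv F62650)) (tt N8433 F59779) (tt N9838 (iv F62266)) (tt N9950 D15837) (tt N8430 F59780) (tt N9931 (iv F62578)) (tt N8621 F59781) (tt N8429 (iv D15126)) (tt N9115 F59782))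
theorem Q9241 : ∀ i, i < 9241 → P i := stepQ 9240 Q9240 (allL N9240 (tt N9240 F59783) (tt N9949 (iv F62656)) (tt N8434 F59784) (tt N9240 F59785) (tt N8554 F59786) (tt N8671 F59787) (tt N8432 F59788) (tt N9951 D15838) (tt N8431 (iv D15127)))
theorem Q9242 : ∀ i, i < 9242 → P i := stepQ 9241 Q9241 (allL N9241 (tt N9241 F59789) (tt N9931 (iv F62577)) (tt N8435 F59790) (tt N9445 (iv F60530)) (tt N8481 F59791) (tt N8433 F59792) (tt N9951 (iv F62669)) (tt N8432 (iv D15128)) (tt N8483 F59793))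
theorem Q9243 : ∀ i, i < 9243 → P i := stepQ 9242 Q9242 (allL N9242 (tt N9242 F59794) (tt N9950 (iv F62661)) (tt N9952 D15839) (tt N8433 (iv D15129)) (tt N9681 (iv F61618)) (tt N9445 F60533) (tt N8673 F59795) (tt N9242 F59796) (tt N9233 F59797))
theorem Q9244 : ∀ i, i < 9244 → P i := stepQ 9243 Q9243 (allL N9243 (tt N9243 F59798) (tt N9849 (iv F62303)) (tt N9951 (iv F62666)) (tt N9953 D15840) (tt N9685 (iv F61638)) (tt N9283 F59972) (tt N8435 F59799) (tt N8434 (iv D15130)) (tt N9436 (iv F60500)))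
theorem Q9245 : ∀ i, i < 9245 → P i := stepQ 9244 Q9244 (allL N9244 (tt N9244 F59800) (tt N9850 (iv F62305)) (tt N9954 D15841) (tt N8435 (iv D15131)) (tt N9955 D15842) (tt N8436 F59801) (tt N9953 (iv F62678)) (tt N8548 F59802) (tt N9437 (iv F60504)))
theorem Q9246 : ∀ i, i < 9246 → P i := stepQ 9245 Q9245 (allL N9245 (tt N9245 F59803) (tt N9956 D15843) (tt N8436 (iv D15132)) (tt N9952 (iv F62672)) (tt N9269 F59910) (tt N9954 (iv F62681)) (tt N9946 (iv F62642)) (tt N8549 F59804) (tt N9438 (iv F60507)))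
theorem Q9247 : ∀ i, i < 9247 → P i := stepQ 9246 Q9246 (allL N9246 (tt N8443 F59805) (tt N9246 F59806) (tt N9886 (iv F62430)) (tt N9246 F59807) (tt N8437 (iv D15133)) (tt N9040 F59808) (tt N9248 (iv F59819)) (tt N9247 F59813) (tt N9957 D15844))
theorem Q9248 : ∀ i, i < 9248 → P i := stepQ 9247 Q9247 (allL N9247 (tt N8444 F59809) (tt N9247 F59810) (tt N9570 (iv F61161)) (tt N8440 F59811) (tt N9248 (iv F59817)) (tt N8582 F59812) (tt N8437 (iv D15134)) (tt N9246 (iv F59813)) (tt N9958 D15845))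
theorem Q9249 : ∀ i, i < 9249 → P i := stepQ 9248 Q9248 (allL N9248 (tt N8445 F59814) (tt N9248 F59815) (tt N9887 (iv F62436)) (tt N9248 F59816) (tt N9247 F59817) (tt N8438 F59818) (tt N9246 F59819) (tt N8437 (iv D15135)) (tt N9959 D15846))
theorem Q9250 : ∀ i, i < 9250 → P i := stepQ 9249 Q9249 (allL N9249 (tt N8446 F59820) (tt N9249 F59821) (tt N9888 (iv F62442)) (tt N8441 F59822) (tt N9957 (iv F62692)) (tt N8439 F59823) (tt N9958 (iv F62698)) (tt N9960 D15847) (tt N8437 (iv D15136)))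
theorem Q9251 : ∀ i, i < 9251 → P i := stepQ 9250 Q9250 (allL N9250 (tt N8447 F59824) (tt N9250 F59825) (tt N9889 (iv F62446)) (tt N9250 F59826) (tt N9044 F59827) (tt N9959 (iv F62703)) (tt N8585 F59828) (tt N9961 D15848) (tt N8438 (iv D15137)))
theorem Q9252 : ∀ i, i < 9252 → P i := stepQ 9251 Q9251 (allL N9251 (tt N8448 F59829) (tt N9251 F59830) (tt N9890 (iv F62450)) (tt N9962 D15849) (tt N9045 F59831) (tt N9960 (iv F62707)) (tt N8586 F59832) (tt N8439 (iv D15138)) (tt N9961 (iv F62712)))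
theorem Q9253 : ∀ i, i < 9253 → P i := stepQ 9252 Q9252 (allL N9252 (tt N8449 F59833) (tt N9252 F59834) (tt N8487 F59835) (tt N9958 (iv F62696)) (tt N9252 F59836) (tt N8587 F59837) (tt N8441 F59838) (tt N9963 D15850) (tt N8440 (iv D15139)))
theorem Q9254 : ∀ i, i < 9254 → P i := stepQ 9253 Q9253 (allL N9253 (tt N8450 F59839) (tt N9253 F59840) (tt N8488 F59841) (tt N9964 D15851) (tt N9253 F59842) (tt N8442 F59843) (tt N9963 (iv F62722)) (tt N8441 (iv D15140)) (tt N9253 F59844))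
theorem Q9255 : ∀ i, i < 9255 → P i := stepQ 9254 Q9254 (allL N9254 (tt N8451 F59845) (tt N9254 F59846) (tt N9965 D15852) (tt N8442 (iv D15141)) (tt N9314 (iv F60121)) (tt N9964 (iv F62726)) (tt N8589 F59847) (tt N9962 (iv F62716)) (tt N9254 F59848))
theorem Q9256 : ∀ i, i < 9256 → P i := stepQ 9255 Q9255 (allL N9255 (tt N9957 (iv F62689)) (tt N8453 F59849) (tt N9894 (iv F62462)) (tt N9255 F59850) (tt N8446 F59851) (tt N9195 F59852) (tt N9257 (iv F59861)) (tt N9966 D15853) (tt N8443 (iv D15142)))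
theorem Q9257 : ∀ i, i < 9257 → P i := stepQ 9256 Q9256 (allL N9256 (tt N9958 (iv F62694)) (tt N8454 F59853) (tt N9895 (iv F62466)) (tt N8449 F59854) (tt N9257 (iv F59859)) (tt N8644 F59855) (tt N8446 F59856) (tt N9967 D15854) (tt N8444 (iv D15143)))
theorem Q9258 : ∀ i, i < 9258 → P i := stepQ 9257 Q9257 (allL N9257 (tt N9959 (iv F62699)) (tt N8455 F59857) (tt N9896 (iv F62471)) (tt N9257 F59858) (tt N9256 F59859) (tt N8447 F59860) (tt N9255 F59861) (tt N9968 D15855) (tt N8445 (iv D15144)))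
theorem Q9259 : ∀ i, i < 9259 → P i := stepQ 9258 Q9258 (allL N9258 (tt N9960 (iv F62705)) (tt N8456 F59862) (tt N9897 (iv F62476)) (tt N9969 D15856) (tt N9966 (iv F62733)) (tt N8448 F59863) (tt N9967 (iv F62737)) (tt N8446 (iv D15145)) (tt N9968 (iv F62743)))
theorem Q9260 : ∀ i, i < 9260 → P i := stepQ 9259 Q9259 (allL N9259 (tt N9961 (iv F62708)) (tt N8457 F59864) (tt N9898 (iv F62479)) (tt N9970 D15857) (tt N9199 F59865) (tt N9968 (iv F62741)) (tt N8647 F59866) (tt N8447 (iv D15146)) (tt N8448 F59867))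
theorem Q9261 : ∀ i, i < 9261 → P i := stepQ 9260 Q9260 (allL N9260 (tt N9962 (iv F62713)) (tt N8458 F59868) (tt N9971 D15858) (tt N8448 (iv D15147)) (tt N9972 D15859) (tt N9969 (iv F62745)) (tt N8648 F59869) (tt N8451 F59870) (tt N9970 (iv F62751)))
theorem Q9262 : ∀ i, i < 9262 → P i := stepQ 9261 Q9261 (allL N9261 (tt N9963 (iv F62717)) (tt N8459 F59871) (tt N8490 F59872) (tt N9973 D15860) (tt N9261 F59873) (tt N8649 F59874) (tt N8450 F59875) (tt N8449 (iv D15148)) (tt N9261 F59876))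
theorem Q9263 : ∀ i, i < 9263 → P i := stepQ 9262 Q9262 (allL N9262 (tt N9964 (iv F62724)) (tt N8460 F59877) (tt N9974 D15861) (tt N8450 (iv D15149)) (tt N9327 (iv F60170)) (tt N8451 F59878) (tt N9973 (iv F62760)) (tt N9969 (iv F62746)) (tt N9262 F59879))
theorem Q9264 : ∀ i, i < 9264 → P i := stepQ 9263 Q9263 (allL N9263 (tt N9965 (iv F62728)) (tt N9975 D15862) (tt N8451 (iv D15150)) (tt N8492 F59880) (tt N9976 D15863) (tt N9974 (iv F62763)) (tt N8651 F59881) (tt N9971 (iv F62753)) (tt N9263 F59882))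
theorem Q9265 : ∀ i, i < 9265 → P i := stepQ 9264 Q9264 (allL N9264 (tt N9314 (iv F60119)) (tt N8462 F59883) (tt N9976 (iv F62769)) (tt N8452 F59884) (tt N8451 (iv D15151)) (tt N9977 D15864) (tt N8652 F59885) (tt N9972 (iv F62757)) (tt N9264 F59886))
theorem Q9266 : ∀ i, i < 9266 → P i := stepQ 9265 Q9265 (allL N9265 (tt N9313 (iv F60112)) (tt N8463 F59887) (tt N9297 (iv F60029)) (tt N9977 (iv F62773)) (tt N9265 F59888) (tt N8452 (iv D15152)) (tt N8526 F59889) (tt N8525 F59890) (tt N9265 F59891))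
theorem Q9267 : ∀ i, i < 9267 → P i := stepQ 9266 Q9266 (allL N9266 (tt N9266 F59892) (tt N9966 (iv F62732)) (tt N8477 F59893) (tt N9978 D15865) (tt N8456 F59894) (tt N9277 (iv F59942)) (tt N9268 (iv F59904)) (tt N8453 (iv D15153)) (tt N9267 (iv F59899)))
theorem Q9268 : ∀ i, i < 9268 → P i := stepQ 9267 Q9267 (allL N9267 (tt N9267 F59895) (tt N9967 (iv F62735)) (tt N8478 F59896) (tt N9979 D15866) (tt N9268 (iv F59902)) (tt N8675 F59897) (tt N8456 F59898) (tt N8454 (iv D15154)) (tt N9266 F59899))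
theorem Q9269 : ∀ i, i < 9269 → P i := stepQ 9268 Q9268 (allL N9268 (tt N9268 F59900) (tt N9968 (iv F62739)) (tt N8479 F59901) (tt N9687 (iv F61649)) (tt N9267 F59902) (tt N8457 F59903) (tt N9266 F59904) (tt N8455 (iv D15155)) (tt N8456 F59905))
theorem Q9270 : ∀ i, i < 9270 → P i := stepQ 9269 Q9269 (allL N9269 (tt N9269 F59906) (tt N9969 (iv F62744)) (tt N9232 F59907) (tt N8456 (iv D15156)) (tt N9245 (iv F59910)) (tt N8458 F59908) (tt N9979 (iv F62785)) (tt N8460 F59909) (tt N9687 (iv F61653)))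
theorem Q9271 : ∀ i, i < 9271 → P i := stepQ 9270 Q9270 (allL N9270 (tt N9270 F59911) (tt N9970 (iv F62748)) (tt N9686 (iv F61643)) (tt N8457 (iv D15157)) (tt N9980 D15867) (tt N9687 (iv F61651)) (tt N8678 F59912) (tt N9270 F59913) (tt N8458 F59914))
theorem Q9272 : ∀ i, i < 9272 → P i := stepQ 9271 Q9271 (allL N9271 (tt N9271 F59915) (tt N9981 D15868) (tt N8458 (iv D15158)) (tt N8482 F59916) (tt N9982 D15869) (tt N9232 F59917) (tt N8679 F59918) (tt N8461 F59919) (tt N9686 (iv F61647)))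
theorem Q9273 : ∀ i, i < 9273 → P i := stepQ 9272 Q9272 (allL N9272 (tt N9272 F59920) (tt N9972 (iv F62754)) (tt N9982 (iv F62798)) (tt N9283 (iv F59969)) (tt N8458 (iv D15159)) (tt N9953 (iv F62677)) (tt N8680 F59921) (tt N8462 F59922) (tt N9980 (iv F62792)))
theorem Q9274 : ∀ i, i < 9274 → P i := stepQ 9273 Q9273 (allL N9273 (tt N9273 F59923) (tt N9973 (iv F62758)) (tt N9323 (iv F60147)) (tt N8459 (iv D15160)) (tt N9324 (iv F60154)) (tt N8681 F59924) (tt N8460 F59925) (tt N9979 (iv F62786)) (tt N9273 F59926))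
theorem Q9275 : ∀ i, i < 9275 → P i := stepQ 9274 Q9274 (allL N9274 (tt N9639 (iv F61424)) (tt N8461 (iv D15161)) (tt N9975 (iv F62765)) (tt N8464 F59927) (tt N9983 D15870) (tt N9306 (iv F60081)) (tt N8684 F59928) (tt N9981 (iv F62796)) (tt N9274 F59929))
theorem Q9276 : ∀ i, i < 9276 → P i := stepQ 9275 Q9275 (allL N9275 (tt N9275 F59930) (tt N9983 (iv F62802)) (tt N8462 F59931) (tt N9275 F59932) (tt N8461 (iv D15162)) (tt N9326 (iv F60166)) (tt N8685 F59933) (tt N9982 (iv F62801)) (tt N9275 F59934))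
theorem Q9277 : ∀ i, i < 9277 → P i := stepQ 9276 Q9276 (allL N9276 (tt N9276 F59935) (tt N9977 (iv F62772)) (tt N9326 (iv F60164)) (tt N8463 F59936) (tt N9325 F60162) (tt N8462 (iv D15163)) (tt N8548 F59937) (tt N9953 (iv F62679)) (tt N9276 F59938))
theorem Q9278 : ∀ i, i < 9278 → P i := stepQ 9277 Q9277 (allL N9277 (tt N9277 F59939) (tt N9919 (iv F62521)) (tt N8674 F59940) (tt N9984 D15871) (tt N8468 F59941) (tt N9266 F59942) (tt N8676 F59943) (tt N8465 (iv D15164)) (tt N8675 F59944))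
theorem Q9279 : ∀ i, i < 9279 → P i := stepQ 9278 Q9278 (allL N9278 (tt N9278 F59945) (tt N9920 (iv F62525)) (tt N8675 F59946) (tt N9985 D15872) (tt N8676 F59947) (tt N8478 F59948) (tt N8468 F59949) (tt N8466 (iv D15165)) (tt N8674 F59950))
theorem Q9280 : ∀ i, i < 9280 → P i := stepQ 9279 Q9279 (allL N9279 (tt N9279 F59951) (tt N9921 (iv F62530)) (tt N8676 F59952) (tt N9986 D15873) (tt N8675 F59953) (tt N8469 F59954) (tt N8674 F59955) (tt N8467 (iv D15166)) (tt N8468 F59956))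
theorem Q9281 : ∀ i, i < 9281 → P i := stepQ 9280 Q9280 (allL N9280 (tt N9280 F59957) (tt N9922 (iv F62536)) (tt N9987 D15874) (tt N8468 (iv D15167)) (tt N9988 D15875) (tt N8470 F59958) (tt N9985 (iv F62814)) (tt N8472 F59959) (tt N9986 (iv F62822)))
theorem Q9282 : ∀ i, i < 9282 → P i := stepQ 9281 Q9281 (allL N9281 (tt N9281 F59960) (tt N9923 (iv F62540)) (tt N9685 (iv F61637)) (tt N8469 (iv D15168)) (tt N9951 (iv F62667)) (tt N9986 (iv F62819)) (tt N8481 F59961) (tt N8554 F59962) (tt N8470 F59963))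
theorem Q9283 : ∀ i, i < 9283 → P i := stepQ 9282 Q9282 (allL N9282 (tt N9282 F59964) (tt N9989 D15876) (tt N8470 (iv D15169)) (tt N8679 F59965) (tt N9436 (iv F60498)) (tt N9987 (iv F62825)) (tt N8482 F59966) (tt N8473 F59967) (tt N9685 (iv F61640)))
theorem Q9284 : ∀ i, i < 9284 → P i := stepQ 9283 Q9283 (allL N9283 (tt N9283 F59968) (tt N9924 (iv F62545)) (tt N9436 (iv F60497)) (tt N9272 F59969) (tt N8470 (iv D15170)) (tt N9243 (iv F59972)) (tt N8483 F59970) (tt N8474 F59971) (tt N9951 (iv F62670)))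
theorem Q9285 : ∀ i, i < 9285 → P i := stepQ 9284 Q9284 (allL N9284 (tt N9284 F59973) (tt N9925 (iv F62550)) (tt N9230 F59974) (tt N8471 (iv D15171)) (tt N8943 (iv F59978)) (tt N8484 F59975) (tt N8472 F59976) (tt N9985 (iv F62815)) (tt N8555 F59977))
theorem Q9286 : ∀ i, i < 9286 → P i := stepQ 9285 Q9285 (allL N9285 (tt N9285 F59979) (tt N9511 (iv F60853)) (tt N8472 (iv D15172)) (tt N8475 F59980) (tt N9328 (iv F60173)) (tt N8473 F59981) (tt N9230 F59982) (tt N9987 (iv F62827)) (tt N8556 F59983))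
theorem Q9287 : ∀ i, i < 9287 → P i := stepQ 9286 Q9286 (allL N9286 (tt N9286 F59984) (tt N9926 (iv F62556)) (tt N9328 F60177) (tt N9286 F59985) (tt N8472 (iv D15173)) (tt N8950 F59986) (tt N8943 F59987) (tt N9988 (iv F62833)) (tt N8557 F59988))
theorem Q9288 : ∀ i, i < 9288 → P i := stepQ 9287 Q9287 (allL N9287 (tt N9636 (iv F61413)) (tt N8473 (iv D15174)) (tt N9725 (iv F61822)) (tt N8476 F59989) (tt N9388 (iv F60374)) (tt N9511 (iv F60855)) (tt N8485 F59990) (tt N9989 (iv F62837)) (tt N8558 F59991))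
theorem Q9289 : ∀ i, i < 9289 → P i := stepQ 9288 Q9288 (allL N9288 (tt N9288 F59992) (tt N9927 (iv F62562)) (tt N8944 (iv F59996)) (tt N8477 (iv D15175)) (tt N8942 F59993) (tt N9439 (iv F60509)) (tt N8949 F59994) (tt N8486 F59995) (tt N9289 (iv F60001)))
theorem Q9290 : ∀ i, i < 9290 → P i := stepQ 9289 Q9289 (allL N9289 (tt N9289 F59997) (tt N9928 (iv F62566)) (tt N9231 (iv F60002)) (tt N8478 (iv D15176)) (tt N8938 F59998) (tt N9985 (iv F62813)) (tt N8480 F59999) (tt N8484 F60000) (tt N9288 F60001))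
theorem Q9291 : ∀ i, i < 9291 → P i := stepQ 9290 Q9290 (allL N9290 (tt N9637 (iv F61418)) (tt N8482 (iv D15177)) (tt N9932 (iv F62581)) (tt N9981 (iv F62793)) (tt N9389 (iv F60377)) (tt N9084 F60003) (tt N9989 (iv F62836)) (tt N8485 F60004) (tt N9561 (iv F61116)))
theorem Q9292 : ∀ i, i < 9292 → P i := stepQ 9291 Q9291 (allL N9291 (tt N8490 F60005) (tt N8495 F60006) (tt N9963 (iv F62719)) (tt N9539 (iv F61007)) (tt N9291 F60007) (tt N8591 F60008) (tt N8488 F60009) (tt N8487 (iv D15178)) (tt N9291 F60010))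
theorem Q9293 : ∀ i, i < 9293 → P i := stepQ 9292 Q9292 (allL N9292 (tt N8491 F60011) (tt N8496 F60012) (tt N9990 D15877) (tt N8488 (iv D15179)) (tt N9678 (iv F61604)) (tt N8489 F60013) (tt N9539 (iv F61010)) (tt N9939 (iv F62614)) (tt N9292 F60014))
theorem Q9294 : ∀ i, i < 9294 → P i := stepQ 9293 Q9293 (allL N9293 (tt N8492 F60015) (tt N9991 D15878) (tt N8489 (iv D15180)) (tt N9965 (iv F62729)) (tt N9510 (iv F60848)) (tt N9990 (iv F62839)) (tt N8593 F60016) (tt N9940 (iv F62617)) (tt N9293 F60017))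
theorem Q9295 : ∀ i, i < 9295 → P i := stepQ 9294 Q9294 (allL N9294 (tt N9990 (iv F62838)) (tt N9510 (iv F60847)) (tt N8491 (iv D15181)) (tt N9974 (iv F62762)) (tt N9991 (iv F62842)) (tt N8492 F60018) (tt N9518 (iv F60881)) (tt N9941 (iv F62619)) (tt N9294 F60019))
theorem Q9296 : ∀ i, i < 9296 → P i := stepQ 9295 Q9295 (allL N9295 (tt N9678 (iv F61602)) (tt N8493 F60020) (tt N9991 (iv F62841)) (tt N9295 F60021) (tt N8491 (iv D15182)) (tt N9642 (iv F61439)) (tt N8606 F60022) (tt N9942 (iv F62622)) (tt N9295 F60023))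
theorem Q9297 : ∀ i, i < 9297 → P i := stepQ 9296 Q9296 (allL N9296 (tt N9641 (iv F61432)) (tt N8492 (iv D15183)) (tt N8494 F60024) (tt N9975 (iv F62766)) (tt N9643 (iv F61443)) (tt N9510 (iv F60849)) (tt N8656 F60025) (tt N9943 (iv F62625)) (tt N9296 F60026))
theorem Q9298 : ∀ i, i < 9298 → P i := stepQ 9297 Q9297 (allL N9297 (tt N8526 F60027) (tt N9297 F60028) (tt N9265 F60029) (tt N9992 D15879) (tt N9297 F60030) (tt N8499 F60031) (tt N9313 (iv F60117)) (tt N8498 (iv D15184)) (tt N9297 F60032))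
theorem Q9299 : ∀ i, i < 9299 → P i := stepQ 9298 Q9298 (allL N9298 (tt N8527 F60033) (tt N9298 F60034) (tt N9993 D15880) (tt N8499 (iv D15185)) (tt N8880 F60035) (tt N9992 (iv F62847)) (tt N8892 F60036) (tt N9720 (iv F61801)) (tt N9298 F60037))
theorem Q9300 : ∀ i, i < 9300 → P i := stepQ 9299 Q9299 (allL N9299 (tt N8528 F60038) (tt N8557 F60039) (tt N9728 (iv F61833)) (tt N9299 F60040) (tt N8500 (iv D15186)) (tt N8809 F60041) (tt N8741 (iv F60042)) (tt N8740 (iv F60043)) (tt N9926 (iv F62560)))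
theorem Q9301 : ∀ i, i < 9301 → P i := stepQ 9300 Q9300 (allL N9300 (tt N8529 F60044) (tt N8555 F60045) (tt N9491 (iv F60768)) (tt N8502 F60046) (tt N8741 F60047) (tt N8540 F60048) (tt N8500 (iv D15187)) (tt N8739 (iv F60049)) (tt N9925 (iv F62553)))
theorem Q9302 : ∀ i, i < 9302 → P i := stepQ 9301 Q9301 (allL N9301 (tt N8530 F60050) (tt N8553 F60051) (tt N9729 (iv F61839)) (tt N8505 F60052) (tt N8740 F60053) (tt N8501 F60054) (tt N8739 F60055) (tt N8500 (iv D15188)) (tt N9994 D15881))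
theorem Q9303 : ∀ i, i < 9303 → P i := stepQ 9302 Q9302 (allL N9302 (tt N8532 F60056) (tt N8554 F60057) (tt N9731 (iv F61849)) (tt N8506 F60058) (tt N9949 (iv F62658)) (tt N9994 (iv F62858)) (tt N8538 F60059) (tt N9923 (iv F62542)) (tt N8501 (iv D15189)))
theorem Q9304 : ∀ i, i < 9304 → P i := stepQ 9303 Q9303 (allL N9303 (tt N8535 F60060) (tt N8552 F60061) (tt N8511 F60062) (tt N9994 (iv F62856)) (tt N8658 F60063) (tt N8506 F60064) (tt N8657 F60065) (tt N8536 F60066) (tt N8505 (iv D15190)))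
theorem Q9305 : ∀ i, i < 9305 → P i := stepQ 9304 Q9304 (allL N9304 (tt N8536 F60067) (tt N9304 F60068) (tt N8537 F60069) (tt N9776 (iv F62014)) (tt N8595 F60070) (tt N8510 F60071) (tt N8594 F60072) (tt N8535 F60073) (tt N8509 (iv D15191)))
theorem Q9306 : ∀ i, i < 9306 → P i := stepQ 9305 Q9305 (allL N9305 (tt N8538 F60074) (tt N9305 F60075) (tt N9852 (iv F62311)) (tt N8512 (iv D15192)) (tt N9947 (iv F62647)) (tt N9682 (iv F61625)) (tt N8532 F60076) (tt N9783 (iv F62048)) (tt N8513 F60077))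
theorem Q9307 : ∀ i, i < 9307 → P i := stepQ 9306 Q9306 (allL N9306 (tt N8880 F60078) (tt N8546 F60079) (tt N9995 D15882) (tt N8517 (iv D15193)) (tt N8527 F60080) (tt N9274 F60081) (tt N8746 F60082) (tt N9805 (iv F62145)) (tt N9306 F60083))
theorem Q9308 : ∀ i, i < 9308 → P i := stepQ 9307 Q9307 (allL N9307 (tt N8892 F60084) (tt N8547 F60085) (tt N9996 D15883) (tt N8519 (iv D15194)) (tt N8746 F60086) (tt N8652 F60087) (tt N8527 F60088) (tt N9830 (iv F62231)) (tt N9307 F60089))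
theorem Q9309 : ∀ i, i < 9309 → P i := stepQ 9308 Q9308 (allL N9308 (tt N8809 F60090) (tt N9308 F60091) (tt N9840 (iv F62275)) (tt N9308 F60092) (tt N8520 (iv D15195)) (tt N8528 F60093) (tt N8693 F60094) (tt N8875 (iv F60095)) (tt N9997 D15884))
theorem Q9310 : ∀ i, i < 9310 → P i := stepQ 9309 Q9309 (allL N9309 (tt N8619 F60096) (tt N9309 F60097) (tt N9841 (iv F62282)) (tt N9309 F60098) (tt N8875 F60099) (tt N8521 F60100) (tt N8562 F60101) (tt N8520 (iv D15196)) (tt N9998 D15885))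
theorem Q9311 : ∀ i, i < 9311 → P i := stepQ 9310 Q9310 (allL N9310 (tt N9129 F60102) (tt N9310 F60103) (tt N9842 (iv F62287)) (tt N8523 F60104) (tt N9997 (iv F62875)) (tt N8522 F60105) (tt N8987 F60106) (tt N9999 D15886) (tt N8520 (iv D15197)))
theorem Q9312 : ∀ i, i < 9312 → P i := stepQ 9311 Q9311 (allL N9311 (tt N9949 (iv F62655)) (tt N9311 F60107) (tt N9843 (iv F62291)) (tt N9311 F60108) (tt N8532 F60109) (tt N9998 (iv F62882)) (tt N9947 (iv F62649)) (tt N10000 D15887) (tt N8521 (iv D15198)))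
theorem Q9313 : ∀ i, i < 9313 → P i := stepQ 9312 Q9312 (allL N9312 (tt N9924 (iv F62544)) (tt N9312 F60110) (tt N9844 (iv F62293)) (tt N10001 D15888) (tt N8533 F60111) (tt N9999 (iv F62886)) (tt N9785 (iv F62057)) (tt N8522 (iv D15199)) (tt N10000 (iv F62890)))
theorem Q9314 : ∀ i, i < 9314 → P i := stepQ 9313 Q9313 (allL N9313 (tt N9265 F60112) (tt N9313 F60113) (tt N8526 F60114) (tt N10002 D15889) (tt N9313 F60115) (tt N8524 F60116) (tt N9297 F60117) (tt N8523 (iv D15200)) (tt N9313 F60118))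
theorem Q9315 : ∀ i, i < 9315 → P i := stepQ 9314 Q9314 (allL N9314 (tt N9264 F60119) (tt N9314 F60120) (tt N10003 D15890) (tt N8524 (iv D15201)) (tt N9254 F60121) (tt N10002 (iv F62897)) (tt N9366 (iv F60309)) (tt N10001 (iv F62894)) (tt N9314 F60122))
theorem Q9316 : ∀ i, i < 9316 → P i := stepQ 9315 Q9315 (allL N9315 (tt N9992 (iv F62845)) (tt N8548 F60123) (tt N10004 D15891) (tt N8526 (iv D15202)) (tt N10005 D15892) (tt N8527 F60124) (tt N9977 (iv F62774)) (tt N9850 (iv F62307)) (tt N9315 F60125))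
theorem Q9317 : ∀ i, i < 9317 → P i := stepQ 9316 Q9316 (allL N9316 (tt N9993 (iv F62849)) (tt N10006 D15893) (tt N8527 (iv D15203)) (tt N10003 (iv F62901)) (tt N9995 (iv F62863)) (tt N10004 (iv F62904)) (tt N9996 (iv F62870)) (tt N9851 (iv F62308)) (tt N9316 F60126))
theorem Q9318 : ∀ i, i < 9318 → P i := stepQ 9317 Q9317 (allL N9317 (tt N9926 (iv F62555)) (tt N9317 F60127) (tt N9866 (iv F62368)) (tt N9317 F60128) (tt N8531 F60129) (tt N9997 (iv F62876)) (tt N8885 F60130) (tt N10007 D15894) (tt N8528 (iv D15204)))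
theorem Q9319 : ∀ i, i < 9319 → P i := stepQ 9318 Q9318 (allL N9318 (tt N9925 (iv F62549)) (tt N9318 F60131) (tt N9867 (iv F62371)) (tt N8534 F60132) (tt N8885 F60133) (tt N9786 (iv F62062)) (tt N8531 F60134) (tt N10008 D15895) (tt N8529 (iv D15205)))
theorem Q9320 : ∀ i, i < 9320 → P i := stepQ 9319 Q9319 (allL N9319 (tt N9994 (iv F62854)) (tt N9319 F60135) (tt N9868 (iv F62375)) (tt N8535 F60136) (tt N8884 F60137) (tt N8532 F60138) (tt N8883 F60139) (tt N10009 D15896) (tt N8530 (iv D15206)))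
theorem Q9321 : ∀ i, i < 9321 → P i := stepQ 9320 Q9320 (allL N9320 (tt N9922 (iv F62535)) (tt N9320 F60140) (tt N9869 (iv F62380)) (tt N9777 (iv F62020)) (tt N10007 (iv F62914)) (tt N8533 F60141) (tt N10008 (iv F62919)) (tt N8531 (iv D15207)) (tt N10009 (iv F62925)))
theorem Q9322 : ∀ i, i < 9322 → P i := stepQ 9321 Q9321 (allL N9321 (tt N9923 (iv F62539)) (tt N9321 F60142) (tt N9870 (iv F62382)) (tt N9778 (iv F62024)) (tt N10000 (iv F62889)) (tt N10009 (iv F62923)) (tt N9783 (iv F62047)) (tt N8532 (iv D15208)) (tt N8533 F60143))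
theorem Q9323 : ∀ i, i < 9323 → P i := stepQ 9322 Q9322 (allL N9322 (tt N9852 (iv F62309)) (tt N9557 (iv F61100)) (tt N8538 (iv D15209)) (tt N9744 (iv F61900)) (tt N9837 (iv F62263)) (tt N9552 (iv F61082)) (tt N9731 (iv F61851)) (tt N9930 (iv F62575)) (tt N8539 F60144))
theorem Q9324 : ∀ i, i < 9324 → P i := stepQ 9323 Q9323 (allL N9323 (tt N9323 F60145) (tt N8746 F60146) (tt N9273 F60147) (tt N8545 (iv D15210)) (tt N8547 F60148) (tt N8683 F60149) (tt N8546 F60150) (tt N9945 (iv F62637)) (tt N9323 F60151))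
theorem Q9325 : ∀ i, i < 9325 → P i := stepQ 9324 Q9324 (allL N9324 (tt N9324 F60152) (tt N10010 D15897) (tt N8547 (iv D15211)) (tt N9324 F60153) (tt N9273 F60154) (tt N8685 F60155) (tt N8549 F60156) (tt N9946 (iv F62643)) (tt N9324 F60157))
theorem Q9326 : ∀ i, i < 9326 → P i := stepQ 9325 Q9325 (allL N9325 (tt N9325 F60158) (tt N10011 D15898) (tt N8548 (iv D15212)) (tt N9325 F60159) (tt N9276 (iv F60162)) (tt N8549 F60160) (tt N9326 (iv F60167)) (tt N9954 (iv F62682)) (tt N9325 F60161))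
theorem Q9327 : ∀ i, i < 9327 → P i := stepQ 9326 Q9326 (allL N9326 (tt N9326 F60163) (tt N10005 (iv F62906)) (tt N9276 F60164) (tt N9326 F60165) (tt N8548 (iv D15213)) (tt N9275 F60166) (tt N9325 F60167) (tt N9955 (iv F62687)) (tt N9326 F60168))
theorem Q9328 : ∀ i, i < 9328 → P i := stepQ 9327 Q9327 (allL N9327 (tt N10012 D15899) (tt N8549 (iv D15214)) (tt N10006 (iv F62910)) (tt N9327 F60169) (tt N9262 F60170) (tt N10011 (iv F62933)) (tt N10010 (iv F62929)) (tt N9956 (iv F62688)) (tt N9327 F60171))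
theorem Q9329 : ∀ i, i < 9329 → P i := stepQ 9328 Q9328 (allL N9328 (tt N9328 F60172) (tt N9994 (iv F62855)) (tt N9286 (iv F60177)) (tt N8552 (iv D15215)) (tt N9285 F60173) (tt N8554 F60174) (tt N8688 F60175) (tt N9986 (iv F62821)) (tt N8553 F60176))
theorem Q9330 : ∀ i, i < 9330 → P i := stepQ 9329 Q9329 (allL N9329 (tt N9381 (iv F60346)) (tt N8560 F60178) (tt N9329 F60179) (tt N9332 (iv F60191)) (tt N8559 (iv D15216)) (tt N9331 F60187) (tt N9709 (iv F61757)) (tt N8981 F60180) (tt N10013 D15900))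
theorem Q9331 : ∀ i, i < 9331 → P i := stepQ 9330 Q9330 (allL N9330 (tt N9705 (iv F61735)) (tt N8561 F60181) (tt N9330 F60182) (tt N8565 F60183) (tt N10013 (iv F62942)) (tt N9589 (iv F61238)) (tt N9710 (iv F61763)) (tt N10014 D15901) (tt N8559 (iv D15217)))
theorem Q9332 : ∀ i, i < 9332 → P i := stepQ 9331 Q9331 (allL N9331 (tt N8615 F60184) (tt N9332 (iv F60189)) (tt N9331 F60185) (tt N8560 (iv D15218)) (tt N8566 F60186) (tt N9329 (iv F60187)) (tt N9831 (iv F62235)) (tt N9711 (iv F61768)) (tt N10015 D15902))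
theorem Q9333 : ∀ i, i < 9333 → P i := stepQ 9332 Q9332 (allL N9332 (tt N8616 F60188) (tt N9331 F60189) (tt N8562 F60190) (tt N9329 F60191) (tt N8842 F60192) (tt N8560 (iv D15219)) (tt N9841 (iv F62286)) (tt N8984 F60193) (tt N10016 D15903))
theorem Q9334 : ∀ i, i < 9334 → P i := stepQ 9333 Q9333 (allL N9333 (tt N8617 F60194) (tt N10013 (iv F62940)) (tt N8563 F60195) (tt N10015 (iv F62948)) (tt N8561 F60196) (tt N10016 (iv F62956)) (tt N9832 (iv F62239)) (tt N10017 D15904) (tt N8560 (iv D15220)))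
theorem Q9335 : ∀ i, i < 9335 → P i := stepQ 9334 Q9334 (allL N9334 (tt N8618 F60197) (tt N10014 (iv F62943)) (tt N8564 F60198) (tt N10018 D15905) (tt N10017 (iv F62959)) (tt N9688 (iv F61657)) (tt N9833 (iv F62242)) (tt N8561 (iv D15221)) (tt N8986 F60199))
theorem Q9336 : ∀ i, i < 9336 → P i := stepQ 9335 Q9335 (allL N9335 (tt N8620 F60200) (tt N9335 F60201) (tt N10016 (iv F62953)) (tt N9335 F60202) (tt N8876 F60203) (tt N8563 F60204) (tt N9998 (iv F62883)) (tt N10019 D15906) (tt N8562 (iv D15222)))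
theorem Q9337 : ∀ i, i < 9337 → P i := stepQ 9336 Q9336 (allL N9336 (tt N8621 F60205) (tt N9336 F60206) (tt N10017 (iv F62958)) (tt N10020 D15907) (tt N8564 F60207) (tt N10019 (iv F62967)) (tt N9948 (iv F62653)) (tt N8563 (iv D15223)) (tt N8988 F60208))
theorem Q9338 : ∀ i, i < 9338 → P i := stepQ 9337 Q9337 (allL N9337 (tt N9722 (iv F61806)) (tt N8568 F60209) (tt N8597 F60210) (tt N10021 D15908) (tt N9601 (iv F61302)) (tt N9590 (iv F61243)) (tt N9724 (iv F61819)) (tt N8565 (iv D15224)) (tt N8572 F60211))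
theorem Q9339 : ∀ i, i < 9339 → P i := stepQ 9338 Q9338 (allL N9338 (tt N8623 F60212) (tt N9455 (iv F60575)) (tt N9338 F60213) (tt N8574 F60214) (tt N9711 (iv F61767)) (tt N9452 F60562) (tt N9854 (iv F62322)) (tt N8566 (iv D15225)) (tt N10022 D15909))
theorem Q9340 : ∀ i, i < 9340 → P i := stepQ 9339 Q9339 (allL N9339 (tt N8624 F60215) (tt N9598 (iv F61287)) (tt N9339 F60216) (tt N8567 F60217) (tt N10015 (iv F62949)) (tt N9594 (iv F61267)) (tt N9855 (iv F62326)) (tt N10023 D15910) (tt N8566 (iv D15226)))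
theorem Q9341 : ∀ i, i < 9341 → P i := stepQ 9340 Q9340 (allL N9340 (tt N8626 F60218) (tt N9601 (iv F61300)) (tt N8569 F60219) (tt N10024 D15911) (tt N8568 F60220) (tt N9595 (iv F61273)) (tt N9856 (iv F62330)) (tt N8567 (iv D15227)) (tt N8577 F60221))
theorem Q9342 : ∀ i, i < 9342 → P i := stepQ 9341 Q9341 (allL N9341 (tt N8627 F60222) (tt N10021 (iv F62973)) (tt N9476 (iv F60687)) (tt N8568 (iv D15228)) (tt N10025 D15912) (tt N9689 (iv F61662)) (tt N9857 (iv F62333)) (tt N10018 (iv F62962)) (tt N8578 F60223))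
theorem Q9343 : ∀ i, i < 9343 → P i := stepQ 9342 Q9342 (allL N9342 (tt N8629 F60224) (tt N8599 F60225) (tt N10026 D15913) (tt N8569 (iv D15229)) (tt N9478 (iv F60698)) (tt N9662 (iv F61519)) (tt N9935 (iv F62594)) (tt N9342 F60226) (tt N8580 F60227))
theorem Q9344 : ∀ i, i < 9344 → P i := stepQ 9343 Q9343 (allL N9343 (tt N9554 (iv F61086)) (tt N8574 F60228) (tt N9343 F60229) (tt N9455 (iv F60577)) (tt N9022 F60230) (tt N9454 F60573) (tt N9749 (iv F61920)) (tt N8570 (iv D15230)) (tt N10027 D15914))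
theorem Q9345 : ∀ i, i < 9345 → P i := stepQ 9344 Q9344 (allL N9344 (tt N9740 (iv F61880)) (tt N8575 F60231) (tt N9344 F60232) (tt N8571 F60233) (tt N9023 F60234) (tt N9565 (iv F61136)) (tt N9750 (iv F61926)) (tt N10028 D15915) (tt N8570 (iv D15231)))
theorem Q9346 : ∀ i, i < 9346 → P i := stepQ 9345 Q9345 (allL N9345 (tt N9741 (iv F61885)) (tt N8577 F60235) (tt N8600 F60236) (tt N10029 D15916) (tt N8572 F60237) (tt N9566 (iv F61141)) (tt N9751 (iv F61931)) (tt N8571 (iv D15232)) (tt N9601 (iv F61304)))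
theorem Q9347 : ∀ i, i < 9347 → P i := stepQ 9346 Q9346 (allL N9346 (tt N9742 (iv F61891)) (tt N8578 F60238) (tt N10030 D15917) (tt N8572 (iv D15233)) (tt N10031 D15918) (tt N9693 (iv F61680)) (tt N9752 (iv F61934)) (tt N9026 F60239) (tt N10021 (iv F62974)))
theorem Q9348 : ∀ i, i < 9348 → P i := stepQ 9347 Q9347 (allL N9347 (tt N8630 F60240) (tt N9472 (iv F60668)) (tt N8581 F60241) (tt N9492 (iv F60774)) (tt N8573 (iv D15234)) (tt N9027 F60242) (tt N9551 (iv F61077)) (tt N9468 F60651) (tt N10032 D15919))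
theorem Q9349 : ∀ i, i < 9349 → P i := stepQ 9348 Q9348 (allL N9348 (tt N8632 F60243) (tt N9454 (iv F60568)) (tt N8583 F60244) (tt N9452 (iv F60561)) (tt N9468 (iv F60648)) (tt N8574 F60245) (tt N9571 (iv F61169)) (tt N8573 (iv D15235)) (tt N10033 D15920))
theorem Q9350 : ∀ i, i < 9350 → P i := stepQ 9349 Q9349 (allL N9349 (tt N8633 F60246) (tt N9565 (iv F61133)) (tt N8584 F60247) (tt N8576 F60248) (tt N10032 (iv F63001)) (tt N8575 F60249) (tt N9572 (iv F61174)) (tt N10034 D15921) (tt N8573 (iv D15236)))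
theorem Q9351 : ∀ i, i < 9351 → P i := stepQ 9350 Q9350 (allL N9350 (tt N8634 F60250) (tt N10027 (iv F62987)) (tt N8585 F60251) (tt N10022 (iv F62977)) (tt N9031 F60252) (tt N10033 (iv F63005)) (tt N9889 (iv F62448)) (tt N10035 D15922) (tt N8574 (iv D15237)))
theorem Q9352 : ∀ i, i < 9352 → P i := stepQ 9351 Q9351 (allL N9351 (tt N8635 F60253) (tt N10028 (iv F62990)) (tt N8586 F60254) (tt N10036 D15923) (tt N9032 F60255) (tt N10034 (iv F63008)) (tt N9890 (iv F62452)) (tt N8575 (iv D15238)) (tt N10035 (iv F63012)))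
theorem Q9353 : ∀ i, i < 9353 → P i := stepQ 9352 Q9352 (allL N9352 (tt N8637 F60256) (tt N9566 (iv F61138)) (tt N8579 F60257) (tt N10037 D15924) (tt N9564 (iv F61129)) (tt N8577 F60258) (tt N9574 (iv F61185)) (tt N8576 (iv D15239)) (tt N9595 (iv F61275)))
theorem Q9354 : ∀ i, i < 9354 → P i := stepQ 9353 Q9353 (allL N9353 (tt N8638 F60259) (tt N10029 (iv F62993)) (tt N10038 D15925) (tt N8577 (iv D15240)) (tt N10039 D15926) (tt N10037 (iv F63016)) (tt N9892 (iv F62457)) (tt N10036 (iv F63014)) (tt N10024 (iv F62981)))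
theorem Q9355 : ∀ i, i < 9355 → P i := stepQ 9354 Q9354 (allL N9354 (tt N8639 F60260) (tt N10031 (iv F62996)) (tt N9506 (iv F60830)) (tt N10039 (iv F63020)) (tt N8578 (iv D15241)) (tt N10040 D15927) (tt N9893 (iv F62459)) (tt N9036 F60261) (tt N10025 (iv F62983)))
theorem Q9356 : ∀ i, i < 9356 → P i := stepQ 9355 Q9355 (allL N9355 (tt N8641 F60262) (tt N8604 F60263) (tt N10041 D15928) (tt N8579 (iv D15242)) (tt N9697 (iv F61696)) (tt N8580 F60264) (tt N9659 (iv F61502)) (tt N8592 F60265) (tt N9662 (iv F61522)))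
theorem Q9357 : ∀ i, i < 9357 → P i := stepQ 9356 Q9356 (allL N9356 (tt N8642 F60266) (tt N10042 D15929) (tt N8580 (iv D15243)) (tt N10038 (iv F63018)) (tt N9509 (iv F60844)) (tt N10041 (iv F63024)) (tt N9940 (iv F62616)) (tt N8593 F60267) (tt N10026 (iv F62986)))
theorem Q9358 : ∀ i, i < 9358 → P i := stepQ 9357 Q9357 (allL N9357 (tt N8643 F60268) (tt N9357 F60269) (tt N10032 (iv F62999)) (tt N8594 F60270) (tt N8584 F60271) (tt N9047 F60272) (tt N9776 (iv F62017)) (tt N10043 D15930) (tt N8581 (iv D15244)))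
theorem Q9359 : ∀ i, i < 9359 → P i := stepQ 9358 Q9358 (allL N9358 (tt N8644 F60273) (tt N9358 F60274) (tt N9572 (iv F61172)) (tt N8587 F60275) (tt N9776 (iv F62015)) (tt N9958 (iv F62697)) (tt N8584 F60276) (tt N10044 D15931) (tt N8582 (iv D15245)))
theorem Q9360 : ∀ i, i < 9360 → P i := stepQ 9359 Q9359 (allL N9359 (tt N8645 F60277) (tt N9359 F60278) (tt N10033 (iv F63004)) (tt N9359 F60279) (tt N9775 (iv F62009)) (tt N8585 F60280) (tt N9774 (iv F62005)) (tt N10045 D15932) (tt N8583 (iv D15246)))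
theorem Q9361 : ∀ i, i < 9361 → P i := stepQ 9360 Q9360 (allL N9360 (tt N8646 F60281) (tt N9360 F60282) (tt N10034 (iv F63007)) (tt N10046 D15933) (tt N10043 (iv F63031)) (tt N8586 F60283) (tt N10044 (iv F63035)) (tt N8584 (iv D15247)) (tt N10045 (iv F63039)))
theorem Q9362 : ∀ i, i < 9362 → P i := stepQ 9361 Q9361 (allL N9361 (tt N8647 F60284) (tt N9361 F60285) (tt N10035 (iv F63010)) (tt N10047 D15934) (tt N9051 F60286) (tt N10045 (iv F63038)) (tt N9961 (iv F62711)) (tt N8585 (iv D15248)) (tt N8586 F60287))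
theorem Q9363 : ∀ i, i < 9363 → P i := stepQ 9362 Q9362 (allL N9362 (tt N8648 F60288) (tt N9362 F60289) (tt N10048 D15935) (tt N8586 (iv D15249)) (tt N10049 D15936) (tt N10046 (iv F63043)) (tt N9962 (iv F62715)) (tt N8589 F60290) (tt N10047 (iv F63048)))
theorem Q9364 : ∀ i, i < 9364 → P i := stepQ 9363 Q9363 (allL N9363 (tt N8649 F60291) (tt N9363 F60292) (tt N8591 F60293) (tt N10050 D15937) (tt N8596 F60294) (tt N9963 (iv F62721)) (tt N8588 F60295) (tt N8587 (iv D15250)) (tt N9363 F60296))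
theorem Q9365 : ∀ i, i < 9365 → P i := stepQ 9364 Q9364 (allL N9364 (tt N8650 F60297) (tt N9364 F60298) (tt N10051 D15938) (tt N8588 (iv D15251)) (tt N8890 F60299) (tt N8589 F60300) (tt N10050 (iv F63060)) (tt N10046 (iv F63044)) (tt N9364 F60301))
theorem Q9366 : ∀ i, i < 9366 → P i := stepQ 9365 Q9365 (allL N9365 (tt N8651 F60302) (tt N10052 D15939) (tt N8589 (iv D15252)) (tt N8593 F60303) (tt N10053 D15940) (tt N10051 (iv F63065)) (tt N9965 (iv F62730)) (tt N10048 (iv F63050)) (tt N9365 F60304))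
theorem Q9367 : ∀ i, i < 9367 → P i := stepQ 9366 Q9366 (allL N9366 (tt N8652 F60305) (tt N9366 F60306) (tt N10053 (iv F63071)) (tt N8590 F60307) (tt N8589 (iv D15253)) (tt N8892 F60308) (tt N9314 F60309) (tt N10049 (iv F63056)) (tt N9366 F60310))
theorem Q9368 : ∀ i, i < 9368 → P i := stepQ 9367 Q9367 (allL N9367 (tt N8654 F60311) (tt N9800 (iv F62121)) (tt N8592 (iv D15254)) (tt N10051 (iv F63063)) (tt N9700 (iv F61712)) (tt N8593 F60312) (tt N9702 (iv F61724)) (tt N10041 (iv F63025)) (tt N9367 F60313))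
theorem Q9369 : ∀ i, i < 9369 → P i := stepQ 9368 Q9368 (allL N9368 (tt N10054 D15941) (tt N8593 (iv D15255)) (tt N8606 F60314) (tt N10052 (iv F63068)) (tt N9518 (iv F60879)) (tt N9800 (iv F62123)) (tt N9991 (iv F62843)) (tt N10042 (iv F63027)) (tt N9368 F60315))
theorem Q9370 : ∀ i, i < 9370 → P i := stepQ 9369 Q9369 (allL N9369 (tt N9789 (iv F62078)) (tt N8598 F60316) (tt N10055 D15942) (tt N8597 (iv D15256)) (tt N10056 D15943) (tt N9592 (iv F61252)) (tt N9790 (iv F62085)) (tt N9369 F60317) (tt N8601 F60318))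
theorem Q9371 : ∀ i, i < 9371 → P i := stepQ 9370 Q9370 (allL N9370 (tt N8610 F60319) (tt N10056 (iv F63082)) (tt N9525 (iv F60921)) (tt N9665 (iv F61539)) (tt N8598 (iv D15257)) (tt N9674 (iv F61585)) (tt N9660 (iv F61509)) (tt N9370 F60320) (tt N8603 F60321))
theorem Q9372 : ∀ i, i < 9372 → P i := stepQ 9371 Q9371 (allL N9371 (tt N8611 F60322) (tt N10057 D15944) (tt N8599 (iv D15258)) (tt N9664 (iv F61531)) (tt N9527 (iv F60936)) (tt N9663 (iv F61526)) (tt N9938 (iv F62608)) (tt N9371 F60323) (tt N8605 F60324))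
theorem Q9373 : ∀ i, i < 9373 → P i := stepQ 9372 Q9372 (allL N9372 (tt N9792 (iv F62090)) (tt N8602 F60325) (tt N10058 D15945) (tt N8600 (iv D15259)) (tt N10059 D15946) (tt N9568 (iv F61149)) (tt N9795 (iv F62105)) (tt N9372 F60326) (tt N9605 (iv F61320)))
theorem Q9374 : ∀ i, i < 9374 → P i := stepQ 9373 Q9373 (allL N9373 (tt N9793 (iv F62095)) (tt N9535 (iv F60985)) (tt N8601 (iv D15260)) (tt N10030 (iv F62994)) (tt N10060 D15947) (tt N9699 (iv F61707)) (tt N9796 (iv F62109)) (tt N8607 F60327) (tt N10055 (iv F63081)))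
theorem Q9375 : ∀ i, i < 9375 → P i := stepQ 9374 Q9374 (allL N9374 (tt N9794 (iv F62098)) (tt N8603 F60328) (tt N10060 (iv F63091)) (tt N10059 (iv F63089)) (tt N8601 (iv D15261)) (tt N10061 D15948) (tt N9676 (iv F61596)) (tt N8608 F60329) (tt N10056 (iv F63084)))
theorem Q9376 : ∀ i, i < 9376 → P i := stepQ 9375 Q9375 (allL N9375 (tt N8612 F60330) (tt N10062 D15949) (tt N8602 (iv D15262)) (tt N8605 F60331) (tt N9672 (iv F61570)) (tt N9657 (iv F61489)) (tt N9674 (iv F61586)) (tt N9375 F60332) (tt N9664 (iv F61535)))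
theorem Q9377 : ∀ i, i < 9377 → P i := stepQ 9376 Q9376 (allL N9376 (tt N8613 F60333) (tt N10059 (iv F63088)) (tt N9672 (iv F61569)) (tt N8603 F60334) (tt N8602 (iv D15263)) (tt N9938 (iv F62607)) (tt N9673 (iv F61578)) (tt N9376 F60335) (tt N9665 (iv F61543)))
theorem Q9378 : ∀ i, i < 9378 → P i := stepQ 9377 Q9377 (allL N9377 (tt N8614 F60336) (tt N10061 (iv F63094)) (tt N8670 F60337) (tt N9938 (iv F62606)) (tt N9544 (iv F61037)) (tt N8603 (iv D15264)) (tt N9664 (iv F61533)) (tt N8609 F60338) (tt N9674 (iv F61588)))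
theorem Q9379 : ∀ i, i < 9379 → P i := stepQ 9378 Q9378 (allL N9378 (tt N10061 (iv F63093)) (tt N8605 (iv D15265)) (tt N10042 (iv F63026)) (tt N10062 (iv F63096)) (tt N9538 (iv F61002)) (tt N9794 (iv F62100)) (tt N9942 (iv F62621)) (tt N8606 F60339) (tt N10057 (iv F63086)))
theorem Q9380 : ∀ i, i < 9380 → P i := stepQ 9379 Q9379 (allL N9379 (tt N8606 (iv D15266)) (tt N8609 F60340) (tt N10054 (iv F63077)) (tt N9379 F60341) (tt N9539 (iv F61008)) (tt N8608 F60342) (tt N9678 (iv F61606)) (tt N10061 (iv F63095)) (tt N9379 F60343))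
theorem Q9381 : ∀ i, i < 9381 → P i := stepQ 9380 Q9380 (allL N9380 (tt N9800 (iv F62120)) (tt N9542 (iv F61023)) (tt N8608 F60344) (tt N10063 D15950) (tt N8607 (iv D15267)) (tt N10054 (iv F63078)) (tt N9655 (iv F61479)) (tt N10060 (iv F63092)) (tt N9380 F60345))
theorem Q9382 : ∀ i, i < 9382 → P i := stepQ 9381 Q9381 (allL N9381 (tt N9329 F60346) (tt N8976 F60347) (tt N9381 F60348) (tt N8616 F60349) (tt N8975 F60351) (tt N8615 (iv D15268)) (tt N8981 (iv F60350)) (tt N9709 (iv F61758)) (tt N10064 D15951))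
theorem Q9383 : ∀ i, i < 9383 → P i := stepQ 9382 Q9382 (allL N9382 (tt N9711 (iv F61764)) (tt N9827 (iv F62214)) (tt N9382 F60352) (tt N9123 F60353) (tt N8623 F60354) (tt N9709 (iv F61756)) (tt N9835 (iv F62255)) (tt N8615 (iv D15269)) (tt N10065 D15952))
theorem Q9384 : ∀ i, i < 9384 → P i := stepQ 9383 Q9383 (allL N9383 (tt N10015 (iv F62946)) (tt N9788 (iv F62072)) (tt N9383 F60355) (tt N8617 F60356) (tt N8624 F60357) (tt N10064 (iv F63106)) (tt N9836 (iv F62260)) (tt N10066 D15953) (tt N8615 (iv D15270)))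
theorem Q9385 : ∀ i, i < 9385 → P i := stepQ 9384 Q9384 (allL N9384 (tt N9841 (iv F62280)) (tt N8983 F60358) (tt N8619 F60359) (tt N8981 F60360) (tt N8994 F60361) (tt N9714 (iv F61779)) (tt N8616 (iv D15271)) (tt N9125 F60362) (tt N10067 D15954))
theorem Q9386 : ∀ i, i < 9386 → P i := stepQ 9385 Q9385 (allL N9385 (tt N10016 (iv F62951)) (tt N9214 F60363) (tt N8620 F60364) (tt N10064 (iv F63104)) (tt N9213 F60365) (tt N8617 F60366) (tt N10067 (iv F63117)) (tt N10068 D15955) (tt N8616 (iv D15272)))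
theorem Q9387 : ∀ i, i < 9387 → P i := stepQ 9386 Q9386 (allL N9386 (tt N10017 (iv F62957)) (tt N9828 (iv F62219)) (tt N8621 F60367) (tt N10069 D15956) (tt N8618 F60368) (tt N10068 (iv F63121)) (tt N9838 (iv F62268)) (tt N8617 (iv D15273)) (tt N9127 F60369))
theorem Q9388 : ∀ i, i < 9388 → P i := stepQ 9387 Q9387 (allL N9387 (tt N10018 (iv F62961)) (tt N9829 (iv F62223)) (tt N9559 (iv F61106)) (tt N8618 (iv D15274)) (tt N10070 D15957) (tt N9804 (iv F62138)) (tt N9839 (iv F62271)) (tt N8627 F60370) (tt N9128 F60371))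
theorem Q9389 : ∀ i, i < 9389 → P i := stepQ 9388 Q9388 (allL N9388 (tt N9998 (iv F62878)) (tt N8671 F60372) (tt N10067 (iv F63114)) (tt N9388 F60373) (tt N9287 F60374) (tt N9949 (iv F62659)) (tt N8620 F60375) (tt N10071 D15958) (tt N8619 (iv D15275)))
theorem Q9390 : ∀ i, i < 9390 → P i := stepQ 9389 Q9389 (allL N9389 (tt N10019 (iv F62964)) (tt N8672 F60376) (tt N10068 (iv F63119)) (tt N10072 D15959) (tt N9290 F60377) (tt N8621 F60378) (tt N10071 (iv F63128)) (tt N8620 (iv D15276)) (tt N9130 F60379))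
theorem Q9391 : ∀ i, i < 9391 → P i := stepQ 9390 Q9390 (allL N9390 (tt N10020 (iv F62969)) (tt N8673 F60380) (tt N10073 D15960) (tt N8621 (iv D15277)) (tt N9562 (iv F61118)) (tt N10072 (iv F63131)) (tt N9950 (iv F62662)) (tt N9390 F60381) (tt N9131 F60382))
theorem Q9392 : ∀ i, i < 9392 → P i := stepQ 9391 Q9391 (allL N9391 (tt N8834 F60383) (tt N8973 F60384) (tt N9391 F60385) (tt N8713 F60386) (tt N8622 (iv D15278)) (tt N8975 F60387) (tt N9004 F60388) (tt N9451 (iv F60554)) (tt N10074 D15961))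
theorem Q9393 : ∀ i, i < 9393 → P i := stepQ 9392 Q9392 (allL N9392 (tt N9452 (iv F60556)) (tt N9549 (iv F61061)) (tt N9392 F60389) (tt N8632 F60390) (tt N9451 F60555) (tt N8623 F60391) (tt N9608 (iv F61334)) (tt N8622 (iv D15279)) (tt N10075 D15962))
theorem Q9394 : ∀ i, i < 9394 → P i := stepQ 9393 Q9393 (allL N9393 (tt N9594 (iv F61262)) (tt N9787 F62070) (tt N9393 F60392) (tt N8625 F60393) (tt N10074 (iv F63140)) (tt N8624 F60394) (tt N9609 (iv F61338)) (tt N10076 D15963) (tt N8622 (iv D15280)))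
theorem Q9395 : ∀ i, i < 9395 → P i := stepQ 9394 Q9394 (allL N9394 (tt N10022 (iv F62975)) (tt N9852 (iv F62310)) (tt N9394 F60395) (tt N8634 F60396) (tt N10065 (iv F63110)) (tt N10075 (iv F63145)) (tt N9861 (iv F62354)) (tt N10077 D15964) (tt N8623 (iv D15281)))
theorem Q9396 : ∀ i, i < 9396 → P i := stepQ 9395 Q9395 (allL N9395 (tt N10023 (iv F62978)) (tt N9784 F62053) (tt N9395 F60397) (tt N10078 D15965) (tt N10066 (iv F63112)) (tt N10076 (iv F63147)) (tt N9862 (iv F62357)) (tt N8624 (iv D15282)) (tt N10077 (iv F63149)))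
theorem Q9397 : ∀ i, i < 9397 → P i := stepQ 9396 Q9396 (allL N9396 (tt N9595 (iv F61269)) (tt N9773 (iv F61997)) (tt N8628 F60398) (tt N10079 D15966) (tt N9593 (iv F61258)) (tt N8626 F60399) (tt N9611 (iv F61348)) (tt N8625 (iv D15283)) (tt N8637 F60400))
theorem Q9398 : ∀ i, i < 9398 → P i := stepQ 9397 Q9397 (allL N9397 (tt N10024 (iv F62980)) (tt N9770 F61992) (tt N10080 D15967) (tt N8626 (iv D15284)) (tt N10081 D15968) (tt N10079 (iv F63151)) (tt N9864 (iv F62363)) (tt N10078 (iv F63150)) (tt N8638 F60401))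
theorem Q9399 : ∀ i, i < 9399 → P i := stepQ 9398 Q9398 (allL N9398 (tt N10025 (iv F62982)) (tt N9853 (iv F62314)) (tt N9585 (iv F61220)) (tt N10081 (iv F63155)) (tt N8627 (iv D15285)) (tt N10082 D15969) (tt N9865 (iv F62366)) (tt N10070 (iv F63124)) (tt N8639 F60402))
theorem Q9400 : ∀ i, i < 9400 → P i := stepQ 9399 Q9399 (allL N9399 (tt N9662 (iv F61516)) (tt N8663 F60403) (tt N10083 D15970) (tt N8628 (iv D15286)) (tt N9739 (iv F61877)) (tt N8629 F60404) (tt N9668 (iv F61555)) (tt N9399 F60405) (tt N8641 F60406))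
theorem Q9401 : ∀ i, i < 9401 → P i := stepQ 9400 Q9400 (allL N9400 (tt N10026 (iv F62984)) (tt N9798 (iv F62115)) (tt N8629 (iv D15287)) (tt N10080 (iv F63153)) (tt N9588 (iv F61232)) (tt N10083 (iv F63158)) (tt N9937 (iv F62601)) (tt N9400 F60407) (tt N8642 F60408))
theorem Q9402 : ∀ i, i < 9402 → P i := stepQ 9401 Q9401 (allL N9401 (tt N10032 (iv F62998)) (tt N9876 (iv F62393)) (tt N8643 F60409) (tt N9815 (iv F62177)) (tt N8633 F60410) (tt N9182 F60411) (tt N9878 (iv F62407)) (tt N10084 D15971) (tt N8630 (iv D15288)))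
theorem Q9403 : ∀ i, i < 9403 → P i := stepQ 9402 Q9402 (allL N9402 (tt N9572 (iv F61170)) (tt N9877 (iv F62397)) (tt N8644 F60412) (tt N8636 F60413) (tt N9878 (iv F62405)) (tt N9895 (iv F62468)) (tt N8633 F60414) (tt N10085 D15972) (tt N8631 (iv D15289)))
theorem Q9404 : ∀ i, i < 9404 → P i := stepQ 9403 Q9403 (allL N9403 (tt N10033 (iv F63003)) (tt N9878 (iv F62403)) (tt N8645 F60415) (tt N10075 (iv F63144)) (tt N9877 (iv F62400)) (tt N8634 F60416) (tt N9876 (iv F62396)) (tt N10086 D15973) (tt N8632 (iv D15290)))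
theorem Q9405 : ∀ i, i < 9405 → P i := stepQ 9404 Q9404 (allL N9404 (tt N10034 (iv F63006)) (tt N9879 (iv F62408)) (tt N8646 F60417) (tt N10087 D15974) (tt N10084 (iv F63162)) (tt N8635 F60418) (tt N10085 (iv F63165)) (tt N8633 (iv D15291)) (tt N10086 (iv F63168)))
theorem Q9406 : ∀ i, i < 9406 → P i := stepQ 9405 Q9405 (allL N9405 (tt N10035 (iv F63009)) (tt N9880 (iv F62411)) (tt N8647 F60419) (tt N10088 D15975) (tt N9186 F60420) (tt N10086 (iv F63167)) (tt N9898 (iv F62481)) (tt N8634 (iv D15292)) (tt N8635 F60421))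
theorem Q9407 : ∀ i, i < 9407 → P i := stepQ 9406 Q9406 (allL N9406 (tt N10036 (iv F63013)) (tt N9881 (iv F62415)) (tt N10089 D15976) (tt N8635 (iv D15293)) (tt N10090 D15977) (tt N10087 (iv F63169)) (tt N9899 (iv F62484)) (tt N8638 F60422) (tt N10088 (iv F63171)))
theorem Q9408 : ∀ i, i < 9408 → P i := stepQ 9407 Q9407 (allL N9407 (tt N9574 (iv F61181)) (tt N9882 (iv F62418)) (tt N8640 F60423) (tt N10091 D15978) (tt N9569 (iv F61155)) (tt N9900 (iv F62488)) (tt N8637 F60424) (tt N8636 (iv D15294)) (tt N9611 (iv F61349)))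
theorem Q9409 : ∀ i, i < 9409 → P i := stepQ 9408 Q9408 (allL N9408 (tt N10037 (iv F63015)) (tt N9883 (iv F62422)) (tt N10092 D15979) (tt N8637 (iv D15295)) (tt N10093 D15980) (tt N8638 F60425) (tt N10091 (iv F63176)) (tt N10087 (iv F63170)) (tt N10079 (iv F63152)))
theorem Q9410 : ∀ i, i < 9410 → P i := stepQ 9409 Q9409 (allL N9409 (tt N10038 (iv F63017)) (tt N10094 D15981) (tt N8638 (iv D15296)) (tt N8642 F60426) (tt N10095 D15982) (tt N10092 (iv F63178)) (tt N9902 (iv F62493)) (tt N10089 (iv F63173)) (tt N10080 (iv F63154)))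
theorem Q9411 : ∀ i, i < 9411 → P i := stepQ 9410 Q9410 (allL N9410 (tt N10039 (iv F63019)) (tt N9884 (iv F62424)) (tt N10095 (iv F63180)) (tt N8639 F60427) (tt N8638 (iv D15297)) (tt N10096 D15983) (tt N9903 (iv F62496)) (tt N10090 (iv F63175)) (tt N10081 (iv F63156)))
theorem Q9412 : ∀ i, i < 9412 → P i := stepQ 9411 Q9411 (allL N9411 (tt N10040 (iv F63021)) (tt N9885 (iv F62427)) (tt N9633 (iv F61406)) (tt N10096 (iv F63181)) (tt N9822 (iv F62197)) (tt N8639 (iv D15298)) (tt N10097 D15984) (tt N9192 F60428) (tt N10082 (iv F63157)))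
theorem Q9413 : ∀ i, i < 9413 → P i := stepQ 9412 Q9412 (allL N9412 (tt N9659 (iv F61499)) (tt N8664 F60429) (tt N10098 D15985) (tt N8640 (iv D15299)) (tt N9698 (iv F61702)) (tt N9538 (iv F61003)) (tt N8641 F60430) (tt N8653 F60431) (tt N9668 (iv F61557)))
theorem Q9414 : ∀ i, i < 9414 → P i := stepQ 9413 Q9413 (allL N9413 (tt N10041 (iv F63023)) (tt N10099 D15986) (tt N8641 (iv D15300)) (tt N10092 (iv F63177)) (tt N10100 D15987) (tt N8642 F60432) (tt N10098 (iv F63183)) (tt N8654 F60433) (tt N10083 (iv F63160)))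
theorem Q9415 : ∀ i, i < 9415 → P i := stepQ 9414 Q9414 (allL N9414 (tt N9697 (iv F61694)) (tt N8666 F60434) (tt N10100 (iv F63188)) (tt N9528 (iv F60943)) (tt N8641 (iv D15301)) (tt N9531 (iv F60963)) (tt N9698 (iv F61704)) (tt N8655 F60435) (tt N9739 (iv F61879)))
theorem Q9416 : ∀ i, i < 9416 → P i := stepQ 9415 Q9415 (allL N9415 (tt N10101 D15988) (tt N8642 (iv D15302)) (tt N8667 F60436) (tt N10094 (iv F63179)) (tt N9635 (iv F61411)) (tt N10099 (iv F63186)) (tt N9943 (iv F62624)) (tt N8656 F60437) (tt N9798 (iv F62117)))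
theorem Q9417 : ∀ i, i < 9417 → P i := stepQ 9416 Q9416 (allL N9416 (tt N10043 (iv F63028)) (tt N8674 F60438) (tt N10084 (iv F63161)) (tt N10102 D15989) (tt N8646 F60439) (tt N9204 F60440) (tt N9921 (iv F62533)) (tt N8643 (iv D15303)) (tt N9920 (iv F62529)))
theorem Q9418 : ∀ i, i < 9418 → P i := stepQ 9417 Q9417 (allL N9417 (tt N10044 (iv F63033)) (tt N8675 F60441) (tt N10085 (iv F63164)) (tt N10103 D15990) (tt N9921 (iv F62531)) (tt N9967 (iv F62736)) (tt N8646 F60442) (tt N8644 (iv D15304)) (tt N9919 (iv F62524)))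
theorem Q9419 : ∀ i, i < 9419 → P i := stepQ 9418 Q9418 (allL N9418 (tt N10045 (iv F63036)) (tt N8676 F60443) (tt N10086 (iv F63166)) (tt N10104 D15991) (tt N9920 (iv F62526)) (tt N8647 F60444) (tt N9919 (iv F62523)) (tt N8645 (iv D15305)) (tt N8646 F60445))
theorem Q9420 : ∀ i, i < 9420 → P i := stepQ 9419 Q9419 (allL N9419 (tt N10046 (iv F63040)) (tt N8677 F60446) (tt N10105 D15992) (tt N8646 (iv D15306)) (tt N10106 D15993) (tt N8648 F60447) (tt N10103 (iv F63198)) (tt N8650 F60448) (tt N10104 (iv F63203)))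
theorem Q9421 : ∀ i, i < 9421 → P i := stepQ 9420 Q9420 (allL N9420 (tt N10047 (iv F63045)) (tt N8678 F60449) (tt N10107 D15994) (tt N8647 (iv D15307)) (tt N10108 D15995) (tt N10104 (iv F63201)) (tt N9970 (iv F62749)) (tt N9420 F60450) (tt N8648 F60451))
theorem Q9422 : ∀ i, i < 9422 → P i := stepQ 9421 Q9421 (allL N9421 (tt N10048 (iv F63049)) (tt N10109 D15996) (tt N8648 (iv D15308)) (tt N10089 (iv F63172)) (tt N10110 D15997) (tt N10105 (iv F63204)) (tt N9971 (iv F62752)) (tt N8651 F60452) (tt N10107 (iv F63212)))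
theorem Q9423 : ∀ i, i < 9423 → P i := stepQ 9422 Q9422 (allL N9422 (tt N10049 (iv F63051)) (tt N8680 F60453) (tt N10110 (iv F63220)) (tt N9210 F60454) (tt N8648 (iv D15309)) (tt N9830 (iv F62229)) (tt N9972 (iv F62756)) (tt N8652 F60455) (tt N10108 (iv F63216)))
theorem Q9424 : ∀ i, i < 9424 → P i := stepQ 9423 Q9423 (allL N9423 (tt N10050 (iv F63057)) (tt N8681 F60456) (tt N10111 D15998) (tt N8649 (iv D15310)) (tt N9448 (iv F60539)) (tt N9973 (iv F62759)) (tt N8650 F60457) (tt N10103 (iv F63199)) (tt N9423 F60458))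
theorem Q9425 : ∀ i, i < 9425 → P i := stepQ 9424 Q9424 (allL N9424 (tt N10051 (iv F63062)) (tt N10112 D15999) (tt N8650 (iv D15311)) (tt N8654 F60459) (tt N10113 D16000) (tt N8651 F60460) (tt N10111 (iv F63223)) (tt N10105 (iv F63205)) (tt N9424 F60461))
theorem Q9426 : ∀ i, i < 9426 → P i := stepQ 9425 Q9425 (allL N9425 (tt N8890 F60462) (tt N8683 F60463) (tt N10113 (iv F63232)) (tt N8660 F60464) (tt N8650 (iv D15312)) (tt N8746 F60465) (tt N9448 (iv F60541)) (tt N10106 (iv F63210)) (tt N9425 F60466))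
theorem Q9427 : ∀ i, i < 9427 → P i := stepQ 9426 Q9426 (allL N9426 (tt N10114 D16001) (tt N8651 (iv D15313)) (tt N8684 F60467) (tt N8656 F60468) (tt N10115 D16002) (tt N10112 (iv F63227)) (tt N9975 (iv F62767)) (tt N10109 (iv F63219)) (tt N9426 F60469))
theorem Q9428 : ∀ i, i < 9428 → P i := stepQ 9427 Q9427 (allL N9427 (tt N10053 (iv F63070)) (tt N10115 (iv F63240)) (tt N8652 F60470) (tt N9654 (iv F61474)) (tt N8651 (iv D15314)) (tt N9996 (iv F62869)) (tt N9976 (iv F62770)) (tt N10110 (iv F63221)) (tt N9427 F60471))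
theorem Q9429 : ∀ i, i < 9429 → P i := stepQ 9428 Q9428 (allL N9428 (tt N9702 (iv F61721)) (tt N9517 (iv F60874)) (tt N8653 (iv D15315)) (tt N10111 (iv F63222)) (tt N9701 (iv F61717)) (tt N9518 (iv F60880)) (tt N8654 F60472) (tt N10098 (iv F63184)) (tt N9428 F60473))
theorem Q9430 : ∀ i, i < 9430 → P i := stepQ 9429 Q9429 (allL N9429 (tt N9542 (iv F61022)) (tt N8654 (iv D15316)) (tt N8668 F60474) (tt N10112 (iv F63226)) (tt N9541 (iv F61019)) (tt N8656 F60475) (tt N9517 (iv F60876)) (tt N10099 (iv F63187)) (tt N9429 F60476))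
theorem Q9431 : ∀ i, i < 9431 → P i := stepQ 9430 Q9430 (allL N9430 (tt N9700 (iv F61709)) (tt N9541 (iv F61018)) (tt N8655 F60477) (tt N10116 D16003) (tt N8654 (iv D15317)) (tt N9540 (iv F61014)) (tt N9701 (iv F61719)) (tt N10100 (iv F63189)) (tt N9430 F60478))
theorem Q9432 : ∀ i, i < 9432 → P i := stepQ 9431 Q9431 (allL N9431 (tt N8656 (iv D15318)) (tt N10054 (iv F63076)) (tt N8669 F60479) (tt N10114 (iv F63238)) (tt N9656 (iv F61483)) (tt N9542 F61027) (tt N9641 (iv F61434)) (tt N10101 (iv F63191)) (tt N9431 F60480))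
theorem Q9433 : ∀ i, i < 9433 → P i := stepQ 9432 Q9432 (allL N9432 (tt N8883 F60481) (tt N8688 F60482) (tt N10117 D16004) (tt N8657 (iv D15319)) (tt N8742 F60483) (tt N9215 F60484) (tt N9994 (iv F62859)) (tt N10102 (iv F63195)) (tt N8739 F60485))
theorem Q9434 : ∀ i, i < 9434 → P i := stepQ 9433 Q9433 (allL N9433 (tt N8779 F60486) (tt N8777 F60487) (tt N10116 (iv F63245)) (tt N8662 (iv D15320)) (tt N8747 F60488) (tt N8968 F60489) (tt N8780 F60490) (tt N10118 D16005) (tt N9433 F60491))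
theorem Q9435 : ∀ i, i < 9435 → P i := stepQ 9434 Q9434 (allL N9434 (tt N9536 (iv F60988)) (tt N8665 (iv D15321)) (tt N10099 (iv F63185)) (tt N9507 (iv F60833)) (tt N9533 (iv F60975)) (tt N8667 F60492) (tt N9508 (iv F60841)) (tt N8668 F60493) (tt N9797 (iv F62114)))
theorem Q9436 : ∀ i, i < 9436 → P i := stepQ 9435 Q9435 (allL N9435 (tt N8667 (iv D15322)) (tt N8670 F60494) (tt N10101 (iv F63190)) (tt N9604 (iv F61310)) (tt N9677 (iv F61599)) (tt N9536 F60993) (tt N9605 (iv F61318)) (tt N8669 F60495) (tt N9795 (iv F62107)))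
theorem Q9437 : ∀ i, i < 9437 → P i := stepQ 9436 Q9436 (allL N9436 (tt N9436 F60496) (tt N10071 (iv F63126)) (tt N9283 F60497) (tt N10119 D16006) (tt N9282 F60498) (tt N9951 (iv F62668)) (tt N8672 F60499) (tt N8671 (iv D15323)) (tt N9243 F60500))
theorem Q9438 : ∀ i, i < 9438 → P i := stepQ 9437 Q9437 (allL N9437 (tt N9437 F60501) (tt N10072 (iv F63130)) (tt N10120 D16007) (tt N8672 (iv D15324)) (tt N10121 D16008) (tt N8673 F60502) (tt N10119 (iv F63264)) (tt N9437 F60503) (tt N9244 F60504))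
theorem Q9439 : ∀ i, i < 9439 → P i := stepQ 9438 Q9438 (allL N9438 (tt N9438 F60505) (tt N10122 D16009) (tt N8673 (iv D15325)) (tt N9946 (iv F62640)) (tt N9687 (iv F61650)) (tt N10120 (iv F63269)) (tt N9952 (iv F62673)) (tt N9438 F60506) (tt N9245 F60507))
theorem Q9440 : ∀ i, i < 9440 → P i := stepQ 9439 Q9439 (allL N9439 (tt N9439 F60508) (tt N10102 (iv F63193)) (tt N9680 (iv F61615)) (tt N8674 (iv D15326)) (tt N9944 (iv F62629)) (tt N9288 F60509) (tt N9986 (iv F62820)) (tt N8688 F60510) (tt N9985 (iv F62816)))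
theorem Q9441 : ∀ i, i < 9441 → P i := stepQ 9440 Q9440 (allL N9440 (tt N9440 F60511) (tt N10103 (iv F63197)) (tt N9443 (iv F60523)) (tt N8675 (iv D15327)) (tt N9442 F60521) (tt N9979 (iv F62784)) (tt N8677 F60512) (tt N8681 F60513) (tt N9984 (iv F62810)))
theorem Q9442 : ∀ i, i < 9442 → P i := stepQ 9441 Q9441 (allL N9441 (tt N9441 F60514) (tt N10104 (iv F63200)) (tt N10123 D16010) (tt N8676 (iv D15328)) (tt N10124 D16011) (tt N8678 F60515) (tt N9984 (iv F62808)) (tt N9441 F60516) (tt N8677 F60517))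
theorem Q9443 : ∀ i, i < 9443 → P i := stepQ 9442 Q9442 (allL N9442 (tt N9442 F60518) (tt N10125 D16012) (tt N8677 (iv D15329)) (tt N9987 (iv F62824)) (tt N9440 (iv F60521)) (tt N8679 F60519) (tt N9443 (iv F60524)) (tt N8682 F60520) (tt N10123 (iv F63285)))
theorem Q9444 : ∀ i, i < 9444 → P i := stepQ 9443 Q9443 (allL N9443 (tt N9443 F60522) (tt N10106 (iv F63207)) (tt N9440 F60523) (tt N9944 (iv F62628)) (tt N8677 (iv D15330)) (tt N9945 (iv F62635)) (tt N9442 F60524) (tt N8683 F60525) (tt N10124 (iv F63293)))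
theorem Q9445 : ∀ i, i < 9445 → P i := stepQ 9444 Q9444 (allL N9444 (tt N9444 F60526) (tt N10126 D16013) (tt N8678 (iv D15331)) (tt N9685 F61641) (tt N10127 D16014) (tt N10123 (iv F63283)) (tt N9686 (iv F61645)) (tt N9444 F60527) (tt N8679 F60528))
theorem Q9446 : ∀ i, i < 9446 → P i := stepQ 9445 Q9445 (allL N9445 (tt N9445 F60529) (tt N10108 (iv F63213)) (tt N10127 (iv F63301)) (tt N9241 F60530) (tt N8678 (iv D15332)) (tt N9242 (iv F60533)) (tt N9980 (iv F62790)) (tt N9445 F60531) (tt N8680 F60532))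
theorem Q9447 : ∀ i, i < 9447 → P i := stepQ 9446 Q9446 (allL N9446 (tt N10128 D16015) (tt N8679 (iv D15333)) (tt N10109 (iv F63218)) (tt N9989 (iv F62835)) (tt N10129 D16016) (tt N10125 (iv F63295)) (tt N9981 (iv F62795)) (tt N8684 F60534) (tt N10126 (iv F63299)))
theorem Q9448 : ∀ i, i < 9448 → P i := stepQ 9447 Q9447 (allL N9447 (tt N9447 F60535) (tt N10129 (iv F63308)) (tt N8680 F60536) (tt N10120 (iv F63268)) (tt N8679 (iv D15334)) (tt N9946 (iv F62641)) (tt N9982 (iv F62800)) (tt N8685 F60537) (tt N10127 (iv F63305)))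
theorem Q9449 : ∀ i, i < 9449 → P i := stepQ 9448 Q9448 (allL N9448 (tt N9651 (iv F61462)) (tt N8682 (iv D15335)) (tt N10112 (iv F63225)) (tt N8686 F60538) (tt N9423 F60539) (tt N8684 F60540) (tt N9425 F60541) (tt N10125 (iv F63297)) (tt N9448 F60542))
theorem Q9450 : ∀ i, i < 9450 → P i := stepQ 9449 Q9449 (allL N9449 (tt N8684 (iv D15336)) (tt N9449 F60543) (tt N10114 (iv F63237)) (tt N8687 F60544) (tt N10130 D16017) (tt N9651 (iv F61464)) (tt N9639 (iv F61427)) (tt N10128 (iv F63307)) (tt N9449 F60545))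
theorem Q9451 : ∀ i, i < 9451 → P i := stepQ 9450 Q9450 (allL N9450 (tt N10130 (iv F63310)) (tt N8685 F60546) (tt N10115 (iv F63241)) (tt N9450 F60547) (tt N8684 (iv D15337)) (tt N10010 (iv F62928)) (tt N9983 (iv F62804)) (tt N10129 (iv F63309)) (tt N9450 F60548))
theorem Q9452 : ∀ i, i < 9452 → P i := stepQ 9451 Q9451 (allL N9451 (tt N8690 (iv D15338)) (tt N8802 F60549) (tt N9451 F60550) (tt N8703 F60551) (tt N9392 (iv F60555)) (tt N8980 F60552) (tt N9088 F60553) (tt N9391 F60554) (tt N10131 D16018))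
theorem Q9453 : ∀ i, i < 9453 → P i := stepQ 9452 Q9452 (allL N9452 (tt N9392 F60556) (tt N8691 F60557) (tt N9452 F60558) (tt N9348 F60561) (tt N8690 (iv D15339)) (tt N9338 (iv F60562)) (tt N8856 F60559) (tt N8839 F60560) (tt N10132 D16019))
theorem Q9454 : ∀ i, i < 9454 → P i := stepQ 9453 Q9453 (allL N9453 (tt N10131 (iv F63314)) (tt N8692 F60563) (tt N9453 F60564) (tt N8705 F60565) (tt N10132 (iv F63325)) (tt N8982 F60566) (tt N9810 (iv F62165)) (tt N10133 D16020) (tt N8690 (iv D15340)))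
theorem Q9455 : ∀ i, i < 9455 → P i := stepQ 9454 Q9454 (allL N9454 (tt N8805 F60567) (tt N9348 F60568) (tt N9454 F60569) (tt N8691 (iv D15341)) (tt N8706 F60570) (tt N9343 (iv F60573)) (tt N8825 F60571) (tt N8815 F60572) (tt N10134 D16021))
theorem Q9456 : ∀ i, i < 9456 → P i := stepQ 9455 Q9455 (allL N9455 (tt N8806 F60574) (tt N9338 F60575) (tt N8693 F60576) (tt N9343 F60577) (tt N8984 F60578) (tt N8691 (iv D15342)) (tt N9840 (iv F62278)) (tt N8842 F60579) (tt N10135 D16022))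
theorem Q9457 : ∀ i, i < 9457 → P i := stepQ 9456 Q9456 (allL N9456 (tt N8807 F60580) (tt N10132 (iv F63322)) (tt N8694 F60581) (tt N10134 (iv F63334)) (tt N8692 F60582) (tt N10135 (iv F63343)) (tt N8866 F60583) (tt N10136 D16023) (tt N8691 (iv D15343)))
theorem Q9458 : ∀ i, i < 9458 → P i := stepQ 9457 Q9457 (allL N9457 (tt N8808 F60584) (tt N10133 (iv F63328)) (tt N8695 F60585) (tt N10137 D16024) (tt N10136 (iv F63346)) (tt N8986 F60586) (tt N9818 (iv F62191)) (tt N8692 (iv D15344)) (tt N9688 (iv F61659)))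
theorem Q9459 : ∀ i, i < 9459 → P i := stepQ 9458 Q9458 (allL N9458 (tt N8810 F60587) (tt N9458 F60588) (tt N10135 (iv F63340)) (tt N9458 F60589) (tt N8987 F60590) (tt N8694 F60591) (tt N9997 (iv F62877)) (tt N10138 D16025) (tt N8693 (iv D15345)))
theorem Q9460 : ∀ i, i < 9460 → P i := stepQ 9459 Q9459 (allL N9459 (tt N8811 F60592) (tt N9459 F60593) (tt N10136 (iv F63345)) (tt N10139 D16026) (tt N8695 F60594) (tt N10138 (iv F63356)) (tt N8887 F60595) (tt N8694 (iv D15346)) (tt N8877 F60596))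
theorem Q9461 : ∀ i, i < 9461 → P i := stepQ 9460 Q9460 (allL N9460 (tt N8812 F60597) (tt N9005 F60598) (tt N8697 F60599) (tt N9816 (iv F62183)) (tt N8958 F60600) (tt N8700 F60601) (tt N8989 F60602) (tt N10140 D16027) (tt N8696 (iv D15347)))
theorem Q9462 : ∀ i, i < 9462 → P i := stepQ 9461 Q9461 (allL N9461 (tt N8813 F60603) (tt N8749 F60604) (tt N10140 (iv F63366)) (tt N8897 F60605) (tt N8966 F60606) (tt N8702 F60607) (tt N8990 F60608) (tt N8697 (iv D15348)) (tt N8716 F60609))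
theorem Q9463 : ∀ i, i < 9463 → P i := stepQ 9462 Q9462 (allL N9462 (tt N9091 F60610) (tt N8700 F60611) (tt N8750 F60612) (tt N9810 (iv F62162)) (tt N9014 F60613) (tt N9005 F60614) (tt N8705 F60615) (tt N10141 D16028) (tt N8698 (iv D15349)))
theorem Q9464 : ∀ i, i < 9464 → P i := stepQ 9463 Q9463 (allL N9463 (tt N8815 F60616) (tt N9011 F60617) (tt N9463 F60618) (tt N8699 (iv D15350)) (tt N8825 F60619) (tt N9008 F60620) (tt N8706 F60621) (tt N8805 F60622) (tt N10142 D16029))
theorem Q9465 : ∀ i, i < 9465 → P i := stepQ 9464 Q9464 (allL N9464 (tt N8816 F60623) (tt N9014 F60624) (tt N8701 F60625) (tt N10142 (iv F63381)) (tt N8700 F60626) (tt N9009 F60627) (tt N8708 F60628) (tt N10143 D16030) (tt N8699 (iv D15351)))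
theorem Q9466 : ∀ i, i < 9466 → P i := stepQ 9465 Q9465 (allL N9465 (tt N8817 F60629) (tt N10141 (iv F63372)) (tt N8702 F60630) (tt N10144 D16031) (tt N10143 (iv F63388)) (tt N10140 (iv F63368)) (tt N8709 F60631) (tt N8700 (iv D15352)) (tt N8720 F60632))
theorem Q9467 : ∀ i, i < 9467 → P i := stepQ 9466 Q9466 (allL N9466 (tt N8818 F60633) (tt N8752 F60634) (tt N10143 (iv F63387)) (tt N10145 D16032) (tt N8702 F60635) (tt N9064 F60636) (tt N8711 F60637) (tt N8701 (iv D15353)) (tt N8721 F60638))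
theorem Q9468 : ∀ i, i < 9468 → P i := stepQ 9467 Q9467 (allL N9467 (tt N8705 F60639) (tt N8819 F60640) (tt N8753 F60641) (tt N10131 (iv F63317)) (tt N9161 F60642) (tt N8993 F60643) (tt N9091 F60644) (tt N10146 D16033) (tt N8703 (iv D15354)))
theorem Q9469 : ∀ i, i < 9469 → P i := stepQ 9468 Q9468 (allL N9468 (tt N9156 F60645) (tt N8706 F60646) (tt N9041 F60647) (tt N8704 (iv D15355)) (tt N9348 F60648) (tt N9028 F60649) (tt N9011 F60650) (tt N9347 (iv F60651)) (tt N10147 D16034))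
theorem Q9470 : ∀ i, i < 9470 → P i := stepQ 9469 Q9469 (allL N9469 (tt N9161 F60652) (tt N8708 F60653) (tt N8754 F60654) (tt N10147 (iv F63413)) (tt N8705 F60655) (tt N9033 F60656) (tt N9014 F60657) (tt N10148 D16035) (tt N8704 (iv D15356)))
theorem Q9471 : ∀ i, i < 9471 → P i := stepQ 9470 Q9470 (allL N9470 (tt N10146 (iv F63403)) (tt N8709 F60658) (tt N8755 F60659) (tt N10149 D16036) (tt N10148 (iv F63420)) (tt N8996 F60660) (tt N10141 (iv F63376)) (tt N8705 (iv D15357)) (tt N8727 F60661))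
theorem Q9472 : ∀ i, i < 9472 → P i := stepQ 9471 Q9471 (allL N9471 (tt N8824 F60662) (tt N9028 F60663) (tt N9471 F60664) (tt N8707 F60665) (tt N9754 (iv F61946)) (tt N8706 (iv D15358)) (tt N9021 F60666) (tt N9753 F61941) (tt N10150 D16037))
theorem Q9473 : ∀ i, i < 9473 → P i := stepQ 9472 Q9472 (allL N9472 (tt N8825 F60667) (tt N9347 F60668) (tt N9472 F60669) (tt N8729 F60670) (tt N8815 F60671) (tt N9753 (iv F61940)) (tt N8805 F60672) (tt N8706 (iv D15359)) (tt N10151 D16038))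
theorem Q9474 : ∀ i, i < 9474 → P i := stepQ 9473 Q9473 (allL N9473 (tt N8826 F60673) (tt N10147 (iv F63411)) (tt N9473 F60674) (tt N8708 F60675) (tt N10134 (iv F63335)) (tt N10150 (iv F63431)) (tt N10142 (iv F63384)) (tt N10152 D16039) (tt N8706 (iv D15360)))
theorem Q9475 : ∀ i, i < 9475 → P i := stepQ 9474 Q9474 (allL N9474 (tt N8828 F60676) (tt N9033 F60677) (tt N8710 F60678) (tt N10150 (iv F63430)) (tt N9000 F60679) (tt N8708 F60680) (tt N9024 F60681) (tt N10153 D16040) (tt N8707 (iv D15361)))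
theorem Q9476 : ∀ i, i < 9476 → P i := stepQ 9475 Q9475 (allL N9475 (tt N8829 F60682) (tt N10148 (iv F63418)) (tt N8711 F60683) (tt N10154 D16041) (tt N8709 F60684) (tt N10153 (iv F63445)) (tt N10143 (iv F63390)) (tt N8708 (iv D15362)) (tt N8733 F60685))
theorem Q9477 : ∀ i, i < 9477 → P i := stepQ 9476 Q9476 (allL N9476 (tt N8830 F60686) (tt N10149 (iv F63424)) (tt N9341 F60687) (tt N8709 (iv D15363)) (tt N10155 D16042) (tt N9002 F60688) (tt N10144 (iv F63394)) (tt N10137 (iv F63352)) (tt N8734 F60689))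
theorem Q9478 : ∀ i, i < 9478 → P i := stepQ 9477 Q9477 (allL N9477 (tt N8832 F60690) (tt N8758 F60691) (tt N10153 (iv F63443)) (tt N10156 D16043) (tt N9003 F60692) (tt N8711 F60693) (tt N9070 F60694) (tt N8710 (iv D15364)) (tt N8736 F60695))
theorem Q9479 : ∀ i, i < 9479 → P i := stepQ 9478 Q9478 (allL N9478 (tt N8833 F60696) (tt N8759 F60697) (tt N10157 D16044) (tt N8711 (iv D15365)) (tt N9342 F60698) (tt N10156 (iv F63456)) (tt N10145 (iv F63400)) (tt N9478 F60699) (tt N8737 F60700))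
theorem Q9480 : ∀ i, i < 9480 → P i := stepQ 9479 Q9479 (allL N9479 (tt N8956 F60701) (tt N8714 F60702) (tt N8760 F60703) (tt N9483 (iv F60726)) (tt N8989 F60704) (tt N8718 F60705) (tt N8958 F60706) (tt N10158 D16045) (tt N8712 (iv D15366)))
theorem Q9481 : ∀ i, i < 9481 → P i := stepQ 9480 Q9480 (allL N9480 (tt N8835 F60707) (tt N8989 F60708) (tt N8715 F60709) (tt N10074 (iv F63139)) (tt N8714 F60710) (tt N8991 F60711) (tt N9005 F60712) (tt N10159 D16046) (tt N8713 (iv D15367)))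
theorem Q9482 : ∀ i, i < 9482 → P i := stepQ 9481 Q9481 (allL N9481 (tt N8836 F60713) (tt N10158 (iv F63465)) (tt N8716 F60714) (tt N10160 D16047) (tt N10159 (iv F63474)) (tt N8720 F60715) (tt N9006 F60716) (tt N8714 (iv D15368)) (tt N10140 (iv F63370)))
theorem Q9483 : ∀ i, i < 9483 → P i := stepQ 9482 Q9482 (allL N9482 (tt N8837 F60717) (tt N8762 F60718) (tt N10159 (iv F63473)) (tt N10161 D16048) (tt N8716 F60719) (tt N9058 F60720) (tt N9007 F60721) (tt N8715 (iv D15369)) (tt N8966 F60722))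
theorem Q9484 : ∀ i, i < 9484 → P i := stepQ 9483 Q9483 (allL N9483 (tt N8718 F60723) (tt N8838 F60724) (tt N8763 F60725) (tt N9479 F60726) (tt N9057 F60727) (tt N8956 F60728) (tt N8723 F60729) (tt N10162 D16049) (tt N8717 (iv D15370)))
theorem Q9485 : ∀ i, i < 9485 → P i := stepQ 9484 Q9484 (allL N9484 (tt N10162 (iv F63489)) (tt N8720 F60730) (tt N8764 F60731) (tt N10163 D16050) (tt N9193 F60732) (tt N10158 (iv F63468)) (tt N8727 F60733) (tt N8718 (iv D15371)) (tt N10141 (iv F63377)))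
theorem Q9486 : ∀ i, i < 9486 → P i := stepQ 9485 Q9485 (allL N9485 (tt N8846 F60734) (tt N9193 F60735) (tt N8721 F60736) (tt N10164 D16051) (tt N8720 F60737) (tt N9194 F60738) (tt N8733 F60739) (tt N8719 (iv D15372)) (tt N10143 (iv F63391)))
theorem Q9487 : ∀ i, i < 9487 → P i := stepQ 9486 Q9486 (allL N9486 (tt N8847 F60740) (tt N10163 (iv F63496)) (tt N9171 F60741) (tt N8720 (iv D15373)) (tt N10165 D16052) (tt N10160 (iv F63480)) (tt N8734 F60742) (tt N9691 (iv F61673)) (tt N10144 (iv F63395)))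
theorem Q9488 : ∀ i, i < 9488 → P i := stepQ 9487 Q9487 (allL N9487 (tt N8850 F60743) (tt N8766 F60744) (tt N10166 D16053) (tt N8721 (iv D15374)) (tt N9221 F60745) (tt N9226 F60746) (tt N8737 F60747) (tt N8738 F60748) (tt N10145 (iv F63402)))
theorem Q9489 : ∀ i, i < 9489 → P i := stepQ 9488 Q9488 (allL N9488 (tt N8724 F60749) (tt N8851 F60750) (tt N9102 F60751) (tt N8722 (iv D15375)) (tt N9095 F60752) (tt N9145 F60753) (tt N9132 F60754) (tt N9094 F60755) (tt N10167 D16054))
theorem Q9490 : ∀ i, i < 9490 → P i := stepQ 9489 Q9489 (allL N9489 (tt N8726 F60756) (tt N8853 F60757) (tt N8767 F60758) (tt N10167 (iv F63514)) (tt N8723 F60759) (tt N9150 F60760) (tt N9057 F60761) (tt N10168 D16055) (tt N8722 (iv D15376)))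
theorem Q9491 : ∀ i, i < 9491 → P i := stepQ 9490 Q9490 (allL N9490 (tt N8727 F60762) (tt N8854 F60763) (tt N8768 F60764) (tt N10169 D16056) (tt N10168 (iv F63521)) (tt N9020 F60765) (tt N10162 (iv F63494)) (tt N8723 (iv D15377)) (tt N10146 (iv F63409)))
theorem Q9492 : ∀ i, i < 9492 → P i := stepQ 9491 Q9491 (allL N9491 (tt N9145 F60766) (tt N8728 F60767) (tt N9300 F60768) (tt N8725 F60769) (tt N9499 (iv F60806)) (tt N8724 (iv D15378)) (tt N8997 F60770) (tt N9497 F60797) (tt N10170 D16057))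
theorem Q9493 : ∀ i, i < 9493 → P i := stepQ 9492 Q9492 (allL N9492 (tt N9094 F60771) (tt N8729 F60772) (tt N8939 F60773) (tt N9347 F60774) (tt N8799 F60775) (tt N9497 (iv F60796)) (tt N8803 F60776) (tt N8724 (iv D15379)) (tt N9934 (iv F62591)))
theorem Q9494 : ∀ i, i < 9494 → P i := stepQ 9493 Q9493 (allL N9493 (tt N10167 (iv F63511)) (tt N8730 F60777) (tt N9211 F60778) (tt N8726 F60779) (tt N9545 (iv F61045)) (tt N10170 (iv F63532)) (tt N9212 F60780) (tt N10171 D16058) (tt N8724 (iv D15380)))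
theorem Q9495 : ∀ i, i < 9495 → P i := stepQ 9494 Q9494 (allL N9494 (tt N9150 F60781) (tt N8732 F60782) (tt N8769 F60783) (tt N10170 (iv F63531)) (tt N9024 F60784) (tt N8726 F60785) (tt N9000 F60786) (tt N10172 D16059) (tt N8725 (iv D15381)))
theorem Q9496 : ∀ i, i < 9496 → P i := stepQ 9495 Q9495 (allL N9495 (tt N10168 (iv F63518)) (tt N8733 F60787) (tt N8770 F60788) (tt N10173 D16060) (tt N8727 F60789) (tt N10172 (iv F63541)) (tt N9193 F60790) (tt N8726 (iv D15382)) (tt N10148 (iv F63423)))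
theorem Q9497 : ∀ i, i < 9497 → P i := stepQ 9496 Q9496 (allL N9496 (tt N10169 (iv F63525)) (tt N8734 F60791) (tt N10174 D16061) (tt N8727 (iv D15383)) (tt N10175 D16062) (tt N9026 F60792) (tt N10163 (iv F63497)) (tt N9693 (iv F61681)) (tt N10149 (iv F63426)))
theorem Q9498 : ∀ i, i < 9498 → P i := stepQ 9497 Q9497 (allL N9497 (tt N8862 F60793) (tt N9499 (iv F60804)) (tt N8739 F60794) (tt N9027 F60795) (tt N8728 (iv D15384)) (tt N9492 F60796) (tt N9729 (iv F61843)) (tt N9491 (iv F60797)) (tt N10117 (iv F63254)))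
theorem Q9499 : ∀ i, i < 9499 → P i := stepQ 9498 Q9498 (allL N9498 (tt N8863 F60798) (tt N8997 F60799) (tt N8740 F60800) (tt N8731 F60801) (tt N9729 (iv F61841)) (tt N8994 F60802) (tt N8728 (iv D15385)) (tt N9728 F61836) (tt N10176 D16063))
theorem Q9500 : ∀ i, i < 9500 → P i := stepQ 9499 Q9499 (allL N9499 (tt N8864 F60803) (tt N9497 F60804) (tt N8741 F60805) (tt N9753 (iv F61939)) (tt N9491 F60806) (tt N8729 F60807) (tt N9728 (iv F61835)) (tt N8728 (iv D15386)) (tt N10177 D16064))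
theorem Q9501 : ∀ i, i < 9501 → P i := stepQ 9500 Q9500 (allL N9500 (tt N8865 F60808) (tt N10170 (iv F63529)) (tt N8742 F60809) (tt N8732 F60810) (tt N10117 (iv F63252)) (tt N8730 F60811) (tt N10176 (iv F63556)) (tt N10178 D16065) (tt N8728 (iv D15387)))
theorem Q9502 : ∀ i, i < 9502 → P i := stepQ 9501 Q9501 (allL N9501 (tt N8866 F60812) (tt N9934 (iv F62588)) (tt N8743 F60813) (tt N10151 (iv F63436)) (tt N8800 F60814) (tt N10177 (iv F63561)) (tt N8807 F60815) (tt N10179 D16066) (tt N8729 (iv D15388)))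
theorem Q9503 : ∀ i, i < 9503 → P i := stepQ 9502 Q9502 (allL N9502 (tt N8867 F60816) (tt N10171 (iv F63534)) (tt N8744 F60817) (tt N10180 D16067) (tt N9694 (iv F61684)) (tt N10178 (iv F63564)) (tt N9803 (iv F62135)) (tt N8730 (iv D15389)) (tt N10179 (iv F63569)))
theorem Q9504 : ∀ i, i < 9504 → P i := stepQ 9503 Q9503 (allL N9503 (tt N8868 F60818) (tt N9000 F60819) (tt N8735 F60820) (tt N10176 (iv F63554)) (tt N9033 F60821) (tt N8995 F60822) (tt N8732 F60823) (tt N10181 D16068) (tt N8731 (iv D15390)))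
theorem Q9505 : ∀ i, i < 9505 → P i := stepQ 9504 Q9504 (allL N9504 (tt N8869 F60824) (tt N10172 (iv F63538)) (tt N8736 F60825) (tt N10182 D16069) (tt N9034 F60826) (tt N8733 F60827) (tt N10181 (iv F63577)) (tt N8732 (iv D15391)) (tt N10153 (iv F63447)))
theorem Q9506 : ∀ i, i < 9506 → P i := stepQ 9505 Q9505 (allL N9505 (tt N8870 F60828) (tt N10173 (iv F63544)) (tt N10183 D16070) (tt N8733 (iv D15392)) (tt N10184 D16071) (tt N10182 (iv F63580)) (tt N10164 (iv F63501)) (tt N10180 (iv F63571)) (tt N10154 (iv F63449)))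
theorem Q9507 : ∀ i, i < 9507 → P i := stepQ 9506 Q9506 (allL N9506 (tt N8871 F60829) (tt N10175 (iv F63550)) (tt N9354 F60830) (tt N10184 (iv F63584)) (tt N8734 (iv D15393)) (tt N10185 D16072) (tt N10165 (iv F63504)) (tt N9696 (iv F61693)) (tt N10155 (iv F63452)))
theorem Q9508 : ∀ i, i < 9508 → P i := stepQ 9507 Q9507 (allL N9507 (tt N8872 F60831) (tt N8774 F60832) (tt N10181 (iv F63574)) (tt N9434 F60833) (tt N9037 F60834) (tt N9061 F60835) (tt N8736 F60836) (tt N8735 (iv D15394)) (tt N9070 F60837))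
theorem Q9509 : ∀ i, i < 9509 → P i := stepQ 9508 Q9508 (allL N9508 (tt N8873 F60838) (tt N8775 F60839) (tt N10186 D16073) (tt N8736 (iv D15395)) (tt N10118 (iv F63258)) (tt N8737 F60840) (tt N9434 F60841) (tt N8747 F60842) (tt N10156 (iv F63459)))
theorem Q9510 : ∀ i, i < 9510 → P i := stepQ 9509 Q9509 (allL N9509 (tt N8874 F60843) (tt N10187 D16074) (tt N8737 (iv D15396)) (tt N10183 (iv F63582)) (tt N9356 F60844) (tt N10186 (iv F63590)) (tt N10166 (iv F63509)) (tt N8748 F60845) (tt N10157 (iv F63463)))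
theorem Q9511 : ∀ i, i < 9511 → P i := stepQ 9510 Q9510 (allL N9510 (tt N8882 F60846) (tt N9294 F60847) (tt N8738 (iv D15397)) (tt N9995 (iv F62862)) (tt N9293 F60848) (tt N9296 F60849) (tt N8748 F60850) (tt N10166 (iv F63510)) (tt N9510 F60851))
theorem Q9512 : ∀ i, i < 9512 → P i := stepQ 9511 Q9511 (allL N9511 (tt N8884 F60852) (tt N9285 F60853) (tt N10176 (iv F63553)) (tt N8745 F60854) (tt N9994 (iv F62857)) (tt N9287 F60855) (tt N8742 F60856) (tt N10188 D16075) (tt N8740 (iv D15398)))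
theorem Q9513 : ∀ i, i < 9513 → P i := stepQ 9512 Q9512 (allL N9512 (tt N8885 F60857) (tt N8943 F60858) (tt N10177 (iv F63559)) (tt N9512 F60859) (tt N9925 F62554) (tt N8743 F60860) (tt N9926 (iv F62559)) (tt N10189 D16076) (tt N8741 (iv D15399)))
theorem Q9514 : ∀ i, i < 9514 → P i := stepQ 9513 Q9513 (allL N9513 (tt N8886 F60861) (tt N9944 (iv F62627)) (tt N10178 (iv F63563)) (tt N10106 (iv F63208)) (tt N10102 F63196) (tt N8744 F60862) (tt N10188 (iv F63602)) (tt N8742 (iv D15400)) (tt N10189 (iv F63606)))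
theorem Q9515 : ∀ i, i < 9515 → P i := stepQ 9514 Q9514 (allL N9514 (tt N8887 F60863) (tt N8944 F60864) (tt N10179 (iv F63566)) (tt N10190 D16077) (tt N8801 F60865) (tt N10189 (iv F63605)) (tt N8811 F60866) (tt N8743 (iv D15401)) (tt N8744 F60867))
theorem Q9516 : ∀ i, i < 9516 → P i := stepQ 9515 Q9515 (allL N9515 (tt N8888 F60868) (tt N9945 (iv F62633)) (tt N10191 D16078) (tt N8744 (iv D15402)) (tt N9830 (iv F62228)) (tt N10106 (iv F63209)) (tt N9805 (iv F62144)) (tt N8746 F60869) (tt N10190 (iv F63612)))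
theorem Q9517 : ∀ i, i < 9517 → P i := stepQ 9516 Q9516 (allL N9516 (tt N8891 F60870) (tt N10192 D16079) (tt N8746 (iv D15403)) (tt N8748 F60871) (tt N9996 (iv F62868)) (tt N10113 (iv F63233)) (tt N9995 (iv F62865)) (tt N10191 (iv F63614)) (tt N9516 F60872))
theorem Q9518 : ∀ i, i < 9518 → P i := stepQ 9517 Q9517 (allL N9517 (tt N8893 F60873) (tt N9428 F60874) (tt N8747 (iv D15404)) (tt N10113 F63236) (tt N10116 (iv F63246)) (tt N8748 F60875) (tt N9429 F60876) (tt N10186 (iv F63592)) (tt N9517 F60877))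
theorem Q9519 : ∀ i, i < 9519 → P i := stepQ 9518 Q9518 (allL N9518 (tt N10193 D16080) (tt N8748 (iv D15405)) (tt N8778 F60878) (tt N10192 (iv F63616)) (tt N9368 F60879) (tt N9428 F60880) (tt N9294 F60881) (tt N10187 (iv F63597)) (tt N9518 F60882))
theorem Q9520 : ∀ i, i < 9520 → P i := stepQ 9519 Q9519 (allL N9519 (tt N9108 F60883) (tt N8751 F60884) (tt N10141 (iv F63373)) (tt N10194 D16081) (tt N9017 F60885) (tt N9007 F60886) (tt N8755 F60887) (tt N8750 (iv D15406)) (tt N8764 F60888))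
theorem Q9521 : ∀ i, i < 9521 → P i := stepQ 9520 Q9520 (allL N9520 (tt N8783 F60889) (tt N10194 (iv F63627)) (tt N9079 F60890) (tt N8751 (iv D15407)) (tt N8903 F60891) (tt N9063 F60892) (tt N8757 F60893) (tt N9520 F60894) (tt N8765 F60895))
theorem Q9522 : ∀ i, i < 9522 → P i := stepQ 9521 Q9521 (allL N9521 (tt N8784 F60896) (tt N10145 (iv F63397)) (tt N9219 F60897) (tt N8752 (iv D15408)) (tt N9227 F60898) (tt N9066 F60899) (tt N8759 F60900) (tt N9521 F60901) (tt N8766 F60902))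
theorem Q9523 : ∀ i, i < 9523 → P i := stepQ 9522 Q9522 (allL N9522 (tt N8755 F60903) (tt N8785 F60904) (tt N10146 (iv F63405)) (tt N10195 D16082) (tt N9165 F60905) (tt N9060 F60906) (tt N9108 F60907) (tt N8753 (iv D15409)) (tt N8768 F60908))
theorem Q9524 : ∀ i, i < 9524 → P i := stepQ 9523 Q9523 (allL N9523 (tt N9165 F60909) (tt N8756 F60910) (tt N10148 (iv F63419)) (tt N9154 F60911) (tt N8755 F60912) (tt N9037 F60913) (tt N9017 F60914) (tt N8754 (iv D15410)) (tt N8770 F60915))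
theorem Q9525 : ∀ i, i < 9525 → P i := stepQ 9524 Q9524 (allL N9524 (tt N10195 (iv F63633)) (tt N8757 F60916) (tt N10196 D16083) (tt N8755 (iv D15411)) (tt N10197 D16084) (tt N9062 F60917) (tt N10194 (iv F63630)) (tt N9524 F60918) (tt N8771 F60919))
theorem Q9526 : ∀ i, i < 9526 → P i := stepQ 9525 Q9525 (allL N9525 (tt N8787 F60920) (tt N10197 (iv F63645)) (tt N9370 F60921) (tt N8902 F60922) (tt N8757 (iv D15412)) (tt N9080 (iv F60926)) (tt N8903 F60923) (tt N9525 F60924) (tt N8773 F60925))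
theorem Q9527 : ∀ i, i < 9527 → P i := stepQ 9526 Q9526 (allL N9526 (tt N8788 F60927) (tt N10156 (iv F63454)) (tt N8934 F60928) (tt N8758 (iv D15413)) (tt N9110 F60929) (tt N8759 F60930) (tt N9074 F60931) (tt N9526 F60932) (tt N8775 F60933))
theorem Q9528 : ∀ i, i < 9528 → P i := stepQ 9527 Q9527 (allL N9527 (tt N8789 F60934) (tt N10198 D16085) (tt N8759 (iv D15414)) (tt N8933 F60935) (tt N9371 F60936) (tt N8934 F60937) (tt N9219 F60938) (tt N9527 F60939) (tt N8776 F60940))
theorem Q9529 : ∀ i, i < 9529 → P i := stepQ 9528 Q9528 (allL N9528 (tt N8964 F60941) (tt N8761 F60942) (tt N10158 (iv F63466)) (tt N9414 F60943) (tt N8990 F60944) (tt N8764 F60945) (tt N8966 F60946) (tt N8760 (iv D15415)) (tt N9007 F60947))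
theorem Q9530 : ∀ i, i < 9530 → P i := stepQ 9529 Q9529 (allL N9529 (tt N8790 F60948) (tt N10161 (iv F63483)) (tt N9110 F60949) (tt N8762 (iv D15416)) (tt N8934 F60950) (tt N9059 F60951) (tt N9063 F60952) (tt N9529 F60953) (tt N8972 F60954))
theorem Q9531 : ∀ i, i < 9531 → P i := stepQ 9530 Q9530 (allL N9530 (tt N8764 F60955) (tt N8791 F60956) (tt N10162 (iv F63491)) (tt N10118 (iv F63257)) (tt N9038 F60957) (tt N8964 F60958) (tt N8768 F60959) (tt N8763 (iv D15417)) (tt N9108 F60960))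
theorem Q9532 : ∀ i, i < 9532 → P i := stepQ 9531 Q9531 (allL N9531 (tt N10118 (iv F63255)) (tt N8765 F60961) (tt N10199 D16086) (tt N8764 (iv D15418)) (tt N8873 F60962) (tt N9414 F60963) (tt N8771 F60964) (tt N8779 F60965) (tt N10194 (iv F63632)))
theorem Q9533 : ∀ i, i < 9533 → P i := stepQ 9532 Q9532 (allL N9532 (tt N8770 F60966) (tt N8793 F60967) (tt N10168 (iv F63520)) (tt N9037 F60968) (tt N8768 F60969) (tt N9154 F60970) (tt N9038 F60971) (tt N8767 (iv D15419)) (tt N9165 F60972))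
theorem Q9534 : ∀ i, i < 9534 → P i := stepQ 9533 Q9533 (allL N9533 (tt N8771 F60973) (tt N8794 F60974) (tt N10200 D16087) (tt N8768 (iv D15420)) (tt N9434 F60975) (tt N9069 F60976) (tt N10118 (iv F63260)) (tt N8780 F60977) (tt N10195 (iv F63639)))
theorem Q9535 : ∀ i, i < 9535 → P i := stepQ 9534 Q9534 (allL N9534 (tt N9154 F60978) (tt N8772 F60979) (tt N10172 (iv F63539)) (tt N9165 F60980) (tt N9070 F60981) (tt N8770 F60982) (tt N9003 F60983) (tt N8769 (iv D15421)) (tt N9037 F60984))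
theorem Q9536 : ∀ i, i < 9536 → P i := stepQ 9535 Q9535 (allL N9535 (tt N10200 (iv F63663)) (tt N9373 F60985) (tt N8771 (iv D15422)) (tt N10174 (iv F63548)) (tt N10201 D16088) (tt N9072 F60986) (tt N10199 (iv F63661)) (tt N8781 F60987) (tt N10196 (iv F63643)))
theorem Q9537 : ∀ i, i < 9537 → P i := stepQ 9536 Q9536 (allL N9536 (tt N9434 F60988) (tt N8773 F60989) (tt N10201 (iv F63670)) (tt N8872 F60990) (tt N8771 (iv D15423)) (tt N9435 (iv F60993)) (tt N8873 F60991) (tt N8782 F60992) (tt N10197 (iv F63649)))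
theorem Q9538 : ∀ i, i < 9538 → P i := stepQ 9537 Q9537 (allL N9537 (tt N8792 F60994) (tt N10118 (iv F63256)) (tt N8972 F60995) (tt N8791 F60996) (tt N8775 (iv D15424)) (tt N8965 F60997) (tt N8794 F60998) (tt N8777 F60999) (tt N9110 F61000))
theorem Q9539 : ∀ i, i < 9539 → P i := stepQ 9538 Q9538 (allL N9538 (tt N10202 D16089) (tt N8776 (iv D15425)) (tt N10187 (iv F63593)) (tt N9222 F61001) (tt N9378 F61002) (tt N9412 F61003) (tt N9223 F61004) (tt N8778 F61005) (tt N10198 (iv F63657)))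
theorem Q9540 : ∀ i, i < 9540 → P i := stepQ 9539 Q9539 (allL N9539 (tt N8778 (iv D15426)) (tt N8796 F61006) (tt N10193 (iv F63621)) (tt N9291 F61007) (tt N9379 F61008) (tt N8971 F61009) (tt N9292 F61010) (tt N10202 (iv F63679)) (tt N9539 F61011))
theorem Q9541 : ∀ i, i < 9541 → P i := stepQ 9540 Q9540 (allL N9540 (tt N10116 (iv F63243)) (tt N9077 F61012) (tt N8779 (iv D15427)) (tt N9700 (iv F61711)) (tt N8893 F61013) (tt N9430 F61014) (tt N8781 F61015) (tt N10199 (iv F63662)) (tt N9540 F61016))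
theorem Q9542 : ∀ i, i < 9542 → P i := stepQ 9541 Q9541 (allL N9541 (tt N8781 F61017) (tt N9430 F61018) (tt N8780 (iv D15428)) (tt N9701 (iv F61716)) (tt N9429 F61019) (tt N9077 F61020) (tt N10116 (iv F63248)) (tt N10200 (iv F63667)) (tt N9541 F61021))
theorem Q9543 : ∀ i, i < 9543 → P i := stepQ 9542 Q9542 (allL N9542 (tt N9429 F61022) (tt N9380 F61023) (tt N8782 F61024) (tt N10203 D16090) (tt N8781 (iv D15429)) (tt N9431 (iv F61027)) (tt N8893 F61025) (tt N10201 (iv F63672)) (tt N9542 F61026))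
theorem Q9544 : ∀ i, i < 9544 → P i := stepQ 9543 Q9543 (allL N9543 (tt N8786 F61028) (tt N10195 (iv F63634)) (tt N9063 F61029) (tt N8785 (iv D15430)) (tt N9074 F61030) (tt N9079 F61031) (tt N9110 F61032) (tt N9543 F61033) (tt N8794 F61034))
theorem Q9545 : ∀ i, i < 9545 → P i := stepQ 9544 Q9544 (allL N9544 (tt N8795 (iv D15431)) (tt N10202 (iv F63674)) (tt N8937 F61035) (tt N8900 F61036) (tt N9377 F61037) (tt N8901 F61038) (tt N9229 F61039) (tt N8796 F61040) (tt N8918 F61041))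
theorem Q9546 : ∀ i, i < 9546 → P i := stepQ 9545 Q9545 (allL N9545 (tt N9816 (iv F62180)) (tt N8960 F61042) (tt N8798 F61043) (tt N8812 F61044) (tt N9493 F61045) (tt N8800 F61046) (tt N9081 F61047) (tt N10204 D16091) (tt N8797 (iv D15432)))
theorem Q9547 : ∀ i, i < 9547 → P i := stepQ 9546 Q9546 (allL N9546 (tt N9824 (iv F62203)) (tt N8938 F61048) (tt N10204 (iv F63688)) (tt N8948 F61049) (tt N9928 (iv F62567)) (tt N8801 F61050) (tt N9111 F61051) (tt N8798 (iv D15433)) (tt N9679 (iv F61613)))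
theorem Q9548 : ∀ i, i < 9548 → P i := stepQ 9547 Q9547 (allL N9547 (tt N9096 F61052) (tt N8800 F61053) (tt N8940 F61054) (tt N8814 F61055) (tt N9934 (iv F62589)) (tt N8960 F61056) (tt N8804 F61057) (tt N10205 D16092) (tt N8799 (iv D15434)))
theorem Q9549 : ∀ i, i < 9549 → P i := stepQ 9548 Q9548 (allL N9548 (tt N9818 (iv F62188)) (tt N10205 (iv F63693)) (tt N8801 F61058) (tt N10206 D16093) (tt N10179 (iv F63567)) (tt N10204 (iv F63690)) (tt N8808 F61059) (tt N8800 (iv D15435)) (tt N9694 (iv F61686)))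
theorem Q9550 : ∀ i, i < 9550 → P i := stepQ 9549 Q9549 (allL N9549 (tt N8803 F61060) (tt N9392 F61061) (tt N8945 F61062) (tt N9157 F61063) (tt N8802 (iv D15436)) (tt N9133 (iv F61066)) (tt N9094 F61064) (tt N9132 F61065) (tt N10207 D16094))
theorem Q9551 : ∀ i, i < 9551 → P i := stepQ 9550 Q9550 (allL N9550 (tt N8804 F61067) (tt N10131 (iv F63315)) (tt N8946 F61068) (tt N8819 F61069) (tt N10207 (iv F63705)) (tt N9117 F61070) (tt N9096 F61071) (tt N10208 D16095) (tt N8802 (iv D15437)))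
theorem Q9552 : ∀ i, i < 9552 → P i := stepQ 9551 Q9551 (allL N9551 (tt N9157 F61072) (tt N8805 F61073) (tt N9042 F61074) (tt N8803 (iv D15438)) (tt N8820 F61075) (tt N9012 F61076) (tt N9347 F61077) (tt N9011 F61078) (tt N10209 D16096))
theorem Q9553 : ∀ i, i < 9553 → P i := stepQ 9552 Q9552 (allL N9552 (tt N10207 (iv F63701)) (tt N8807 F61079) (tt N8947 F61080) (tt N10209 (iv F63715)) (tt N8804 F61081) (tt N9322 F61082) (tt N9934 (iv F62590)) (tt N10210 D16097) (tt N8803 (iv D15439)))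
theorem Q9554 : ∀ i, i < 9554 → P i := stepQ 9553 Q9553 (allL N9553 (tt N10208 (iv F63708)) (tt N8808 F61083) (tt N8948 F61084) (tt N10211 D16098) (tt N10210 (iv F63721)) (tt N9121 F61085) (tt N10205 (iv F63696)) (tt N8804 (iv D15440)) (tt N9802 (iv F62131)))
theorem Q9555 : ∀ i, i < 9555 → P i := stepQ 9554 Q9554 (allL N9554 (tt N9343 F61086) (tt N9012 F61087) (tt N9554 F61088) (tt N8806 F61089) (tt N9749 (iv F61918)) (tt N8805 (iv D15441)) (tt N9022 (iv F61091)) (tt N9008 F61090) (tt N10212 D16099))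
theorem Q9556 : ∀ i, i < 9556 → P i := stepQ 9555 Q9555 (allL N9555 (tt N10134 (iv F63331)) (tt N10209 (iv F63713)) (tt N9555 F61092) (tt N8807 F61093) (tt N8826 F61094) (tt N10212 (iv F63731)) (tt N10151 (iv F63438)) (tt N10213 D16100) (tt N8805 (iv D15442)))
theorem Q9557 : ∀ i, i < 9557 → P i := stepQ 9556 Q9556 (allL N9556 (tt N9840 (iv F62274)) (tt N8998 F61095) (tt N8809 F61096) (tt N9022 F61097) (tt N9125 F61098) (tt N9728 (iv F61834)) (tt N8806 (iv D15443)) (tt N8994 F61099) (tt N10214 D16101))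
theorem Q9558 : ∀ i, i < 9558 → P i := stepQ 9557 Q9557 (allL N9557 (tt N10135 (iv F63338)) (tt N9322 F61100) (tt N8810 F61101) (tt N10212 (iv F63730)) (tt N9126 F61102) (tt N8807 F61103) (tt N10214 (iv F63739)) (tt N10215 D16102) (tt N8806 (iv D15444)))
theorem Q9559 : ∀ i, i < 9559 → P i := stepQ 9558 Q9558 (allL N9558 (tt N10136 (iv F63344)) (tt N10210 (iv F63719)) (tt N8811 F61104) (tt N10216 D16103) (tt N8808 F61105) (tt N10215 (iv F63743)) (tt N10179 (iv F63568)) (tt N8807 (iv D15445)) (tt N9803 (iv F62136)))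
theorem Q9560 : ∀ i, i < 9560 → P i := stepQ 9559 Q9559 (allL N9559 (tt N10137 (iv F63349)) (tt N10211 (iv F63724)) (tt N9387 F61106) (tt N8808 (iv D15446)) (tt N10217 D16104) (tt N9128 F61107) (tt N10206 (iv F63699)) (tt N8830 F61108) (tt N9804 (iv F62140)))
theorem Q9561 : ∀ i, i < 9561 → P i := stepQ 9560 Q9560 (allL N9560 (tt N9997 (iv F62872)) (tt N8950 F61109) (tt N10214 (iv F63736)) (tt N9560 F61110) (tt N9129 F61111) (tt N9926 (iv F62558)) (tt N8810 F61112) (tt N10218 D16105) (tt N8809 (iv D15447)))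
theorem Q9562 : ∀ i, i < 9562 → P i := stepQ 9561 Q9561 (allL N9561 (tt N10138 (iv F63353)) (tt N8951 F61113) (tt N10215 (iv F63741)) (tt N10219 D16106) (tt N9130 F61114) (tt N8811 F61115) (tt N10218 (iv F63749)) (tt N8810 (iv D15448)) (tt N9290 F61116))
theorem Q9563 : ∀ i, i < 9563 → P i := stepQ 9562 Q9562 (allL N9562 (tt N10139 (iv F63358)) (tt N8952 F61117) (tt N10220 D16107) (tt N8811 (iv D15449)) (tt N9390 F61118) (tt N10219 (iv F63753)) (tt N10190 (iv F63610)) (tt N9562 F61119) (tt N9805 (iv F62146)))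
theorem Q9564 : ∀ i, i < 9564 → P i := stepQ 9563 Q9563 (allL N9563 (tt N10140 (iv F63364)) (tt N8961 F61120) (tt N8813 F61121) (tt N10221 D16108) (tt N8959 F61122) (tt N8817 F61123) (tt N9085 F61124) (tt N8812 (iv D15450)) (tt N8836 F61125))
theorem Q9565 : ∀ i, i < 9565 → P i := stepQ 9564 Q9564 (allL N9564 (tt N9099 F61126) (tt N8817 F61127) (tt N8895 F61128) (tt N10222 D16109) (tt N9352 F61129) (tt N8961 F61130) (tt N8823 F61131) (tt N8814 (iv D15451)) (tt N8841 F61132))
theorem Q9566 : ∀ i, i < 9566 → P i := stepQ 9565 Q9565 (allL N9565 (tt N10142 (iv F63378)) (tt N9349 F61133) (tt N9565 F61134) (tt N8816 F61135) (tt N10151 (iv F63437)) (tt N9344 F61136) (tt N8826 F61137) (tt N10223 D16110) (tt N8815 (iv D15452)))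
theorem Q9567 : ∀ i, i < 9567 → P i := stepQ 9566 Q9566 (allL N9566 (tt N10143 (iv F63385)) (tt N9352 F61138) (tt N8818 F61139) (tt N10224 D16111) (tt N8817 F61140) (tt N9345 F61141) (tt N8829 F61142) (tt N8816 (iv D15453)) (tt N8846 F61143))
theorem Q9568 : ∀ i, i < 9568 → P i := stepQ 9567 Q9567 (allL N9567 (tt N10144 (iv F63392)) (tt N10222 (iv F63765)) (tt N9143 F61144) (tt N8817 (iv D15454)) (tt N10225 D16112) (tt N10221 (iv F63761)) (tt N8830 F61145) (tt N10206 (iv F63700)) (tt N8847 F61146))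
theorem Q9569 : ∀ i, i < 9569 → P i := stepQ 9568 Q9568 (allL N9568 (tt N10145 (iv F63396)) (tt N8896 F61147) (tt N10226 D16113) (tt N8818 (iv D15455)) (tt N9218 F61148) (tt N9372 F61149) (tt N8833 F61150) (tt N9568 F61151) (tt N8850 F61152))
theorem Q9570 : ∀ i, i < 9570 → P i := stepQ 9569 Q9569 (allL N9569 (tt N8823 F61153) (tt N10146 (iv F63404)) (tt N8897 F61154) (tt N10227 D16114) (tt N9407 F61155) (tt N9137 F61156) (tt N9099 F61157) (tt N8819 (iv D15456)) (tt N8854 F61158))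
theorem Q9571 : ∀ i, i < 9571 → P i := stepQ 9570 Q9570 (allL N9570 (tt N9173 F61159) (tt N8824 F61160) (tt N9247 F61161) (tt N8821 F61162) (tt N9887 (iv F62438)) (tt N8820 (iv D15457)) (tt N9166 F61163) (tt N9886 F62433) (tt N10228 D16115))
theorem Q9572 : ∀ i, i < 9572 → P i := stepQ 9571 Q9571 (allL N9571 (tt N9155 F61164) (tt N8825 F61165) (tt N9040 F61166) (tt N8856 F61167) (tt N9011 F61168) (tt N9886 (iv F62432)) (tt N9348 F61169) (tt N8820 (iv D15458)) (tt N10229 D16116))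
theorem Q9573 : ∀ i, i < 9573 → P i := stepQ 9572 Q9572 (allL N9572 (tt N9402 F61170) (tt N8826 F61171) (tt N9358 F61172) (tt N8822 F61173) (tt N10209 (iv F63716)) (tt N10228 (iv F63794)) (tt N9349 F61174) (tt N10230 D16117) (tt N8820 (iv D15459)))
theorem Q9574 : ∀ i, i < 9574 → P i := stepQ 9573 Q9573 (allL N9573 (tt N9178 F61175) (tt N8828 F61176) (tt N8898 F61177) (tt N10228 (iv F63793)) (tt N9141 F61178) (tt N8822 F61179) (tt N9169 F61180) (tt N10231 D16118) (tt N8821 (iv D15460)))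
theorem Q9575 : ∀ i, i < 9575 → P i := stepQ 9574 Q9574 (allL N9574 (tt N9407 F61181) (tt N8829 F61182) (tt N8899 F61183) (tt N10232 D16119) (tt N8823 F61184) (tt N10231 (iv F63810)) (tt N9352 F61185) (tt N8822 (iv D15461)) (tt N8860 F61186))
theorem Q9576 : ∀ i, i < 9576 → P i := stepQ 9575 Q9575 (allL N9575 (tt N10227 (iv F63786)) (tt N8830 F61187) (tt N10221 (iv F63760)) (tt N8823 (iv D15462)) (tt N10233 D16120) (tt N9143 F61188) (tt N10222 (iv F63768)) (tt N10211 (iv F63726)) (tt N8861 F61189))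
theorem Q9577 : ∀ i, i < 9577 → P i := stepQ 9576 Q9576 (allL N9576 (tt N9754 (iv F61942)) (tt N9887 (iv F62435)) (tt N9576 F61190) (tt N9144 F61191) (tt N8824 (iv D15463)) (tt N9749 (iv F61919)) (tt N9578 (iv F61202)) (tt N9577 F61197) (tt N10234 D16121))
theorem Q9578 : ∀ i, i < 9578 → P i := stepQ 9577 Q9577 (allL N9577 (tt N9021 F61192) (tt N9166 F61193) (tt N9577 F61194) (tt N8827 F61195) (tt N9578 (iv F61200)) (tt N9018 F61196) (tt N8824 (iv D15464)) (tt N9576 (iv F61197)) (tt N10235 D16122))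
theorem Q9579 : ∀ i, i < 9579 → P i := stepQ 9578 Q9578 (allL N9578 (tt N9753 (iv F61936)) (tt N9886 (iv F62429)) (tt N9578 F61198) (tt N8864 F61199) (tt N9577 F61200) (tt N8825 F61201) (tt N9576 F61202) (tt N8824 (iv D15465)) (tt N10236 D16123))
theorem Q9580 : ∀ i, i < 9580 → P i := stepQ 9579 Q9579 (allL N9579 (tt N10150 (iv F63427)) (tt N10228 (iv F63791)) (tt N9579 F61203) (tt N8828 F61204) (tt N10234 (iv F63821)) (tt N8826 F61205) (tt N10235 (iv F63827)) (tt N10237 D16124) (tt N8824 (iv D15466)))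
theorem Q9581 : ∀ i, i < 9581 → P i := stepQ 9580 Q9580 (allL N9580 (tt N10151 (iv F63433)) (tt N10229 (iv F63797)) (tt N9580 F61206) (tt N8866 F61207) (tt N10142 (iv F63382)) (tt N10236 (iv F63831)) (tt N10134 (iv F63337)) (tt N10238 D16125) (tt N8825 (iv D15467)))
theorem Q9582 : ∀ i, i < 9582 → P i := stepQ 9581 Q9581 (allL N9581 (tt N10152 (iv F63439)) (tt N10230 (iv F63803)) (tt N9581 F61208) (tt N10239 D16126) (tt N10213 (iv F63734)) (tt N10237 (iv F63834)) (tt N10223 (iv F63773)) (tt N8826 (iv D15468)) (tt N10238 (iv F63836)))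
theorem Q9583 : ∀ i, i < 9583 → P i := stepQ 9582 Q9582 (allL N9582 (tt N9024 F61209) (tt N9169 F61210) (tt N8831 F61211) (tt N10235 (iv F63825)) (tt N9150 F61212) (tt N9019 F61213) (tt N8828 F61214) (tt N10240 D16127) (tt N8827 (iv D15469)))
theorem Q9584 : ∀ i, i < 9584 → P i := stepQ 9583 Q9583 (allL N9583 (tt N10153 (iv F63441)) (tt N10231 (iv F63807)) (tt N8832 F61215) (tt N10241 D16128) (tt N9151 F61216) (tt N8829 F61217) (tt N10240 (iv F63843)) (tt N8828 (iv D15470)) (tt N8869 F61218))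
theorem Q9585 : ∀ i, i < 9585 → P i := stepQ 9584 Q9584 (allL N9584 (tt N10154 (iv F63448)) (tt N10232 (iv F63814)) (tt N10242 D16129) (tt N8829 (iv D15471)) (tt N10243 D16130) (tt N10241 (iv F63845)) (tt N10224 (iv F63776)) (tt N10239 (iv F63837)) (tt N8870 F61219))
theorem Q9586 : ∀ i, i < 9586 → P i := stepQ 9585 Q9585 (allL N9585 (tt N10155 (iv F63450)) (tt N10233 (iv F63817)) (tt N9398 F61220) (tt N10243 (iv F63849)) (tt N8830 (iv D15472)) (tt N10244 D16131) (tt N10225 (iv F63779)) (tt N10217 (iv F63746)) (tt N8871 F61221))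
theorem Q9587 : ∀ i, i < 9587 → P i := stepQ 9586 Q9586 (allL N9586 (tt N9070 F61222) (tt N8902 F61223) (tt N10240 (iv F63840)) (tt N10197 (iv F63646)) (tt N9154 F61224) (tt N9068 F61225) (tt N8832 F61226) (tt N8831 (iv D15473)) (tt N8872 F61227))
theorem Q9588 : ∀ i, i < 9588 → P i := stepQ 9587 Q9587 (allL N9587 (tt N10156 (iv F63453)) (tt N8903 F61228) (tt N10245 D16132) (tt N8832 (iv D15474)) (tt N10194 (iv F63628)) (tt N8833 F61229) (tt N10197 (iv F63647)) (tt N9587 F61230) (tt N8873 F61231))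
theorem Q9589 : ∀ i, i < 9589 → P i := stepQ 9588 Q9588 (allL N9588 (tt N10157 (iv F63460)) (tt N10246 D16133) (tt N8833 (iv D15475)) (tt N10242 (iv F63847)) (tt N9400 F61232) (tt N10245 (iv F63854)) (tt N10226 (iv F63783)) (tt N9588 F61233) (tt N8874 F61234))
theorem Q9590 : ∀ i, i < 9590 → P i := stepQ 9589 Q9589 (allL N9589 (tt N10074 (iv F63136)) (tt N8953 F61235) (tt N9589 F61236) (tt N8835 F61237) (tt N9594 (iv F61266)) (tt N9330 F61238) (tt N9090 F61239) (tt N10247 D16134) (tt N8834 (iv D15476)))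
theorem Q9591 : ∀ i, i < 9591 → P i := stepQ 9590 Q9590 (allL N9590 (tt N10159 (iv F63471)) (tt N8955 F61240) (tt N8837 F61241) (tt N10248 D16135) (tt N8836 F61242) (tt N9337 F61243) (tt N9092 F61244) (tt N8835 (iv D15477)) (tt N8959 F61245))
theorem Q9592 : ∀ i, i < 9592 → P i := stepQ 9591 Q9591 (allL N9591 (tt N10160 (iv F63478)) (tt N9087 F61246) (tt N8861 F61247) (tt N8836 (iv D15478)) (tt N10249 D16136) (tt N8847 F61248) (tt N9093 F61249) (tt N9596 (iv F61280)) (tt N10221 (iv F63763)))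
theorem Q9593 : ∀ i, i < 9593 → P i := stepQ 9592 Q9592 (allL N9592 (tt N10161 (iv F63482)) (tt N8905 F61250) (tt N10250 D16137) (tt N8837 (iv D15479)) (tt N8916 F61251) (tt N9369 F61252) (tt N9109 F61253) (tt N9592 F61254) (tt N8967 F61255))
theorem Q9594 : ∀ i, i < 9594 → P i := stepQ 9593 Q9593 (allL N9593 (tt N8841 F61256) (tt N10162 (iv F63490)) (tt N8906 F61257) (tt N10251 D16138) (tt N9396 F61258) (tt N8957 F61259) (tt N8854 F61260) (tt N8838 (iv D15480)) (tt N9099 F61261))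
theorem Q9595 : ∀ i, i < 9595 → P i := stepQ 9594 Q9594 (allL N9594 (tt N9393 F61262) (tt N8843 F61263) (tt N9594 F61264) (tt N8840 F61265) (tt N9589 F61266) (tt N9339 F61267) (tt N8857 F61268) (tt N10252 D16139) (tt N8839 (iv D15481)))
theorem Q9596 : ∀ i, i < 9596 → P i := stepQ 9595 Q9595 (allL N9595 (tt N9396 F61269) (tt N8846 F61270) (tt N8907 F61271) (tt N10253 D16140) (tt N8841 F61272) (tt N9340 F61273) (tt N8860 F61274) (tt N8840 (iv D15482)) (tt N9352 F61275))
theorem Q9597 : ∀ i, i < 9597 → P i := stepQ 9596 Q9596 (allL N9596 (tt N10251 (iv F63879)) (tt N8847 F61276) (tt N9093 F61277) (tt N8841 (iv D15483)) (tt N10254 D16141) (tt N9087 F61278) (tt N8861 F61279) (tt N9591 F61280) (tt N10222 (iv F63769)))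
theorem Q9598 : ∀ i, i < 9598 → P i := stepQ 9597 Q9597 (allL N9597 (tt N8994 F61281) (tt N9135 F61282) (tt N8875 F61283) (tt N8844 F61284) (tt N9841 (iv F62284)) (tt N8863 F61285) (tt N8842 (iv D15484)) (tt N9840 F62279) (tt N10255 D16142))
theorem Q9599 : ∀ i, i < 9599 → P i := stepQ 9598 Q9598 (allL N9598 (tt N9213 F61286) (tt N9339 F61287) (tt N8876 F61288) (tt N8845 F61289) (tt N10016 (iv F62955)) (tt N8843 F61290) (tt N10255 (iv F63905)) (tt N10256 D16143) (tt N8842 (iv D15485)))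
theorem Q9600 : ∀ i, i < 9600 → P i := stepQ 9599 Q9599 (allL N9599 (tt N9803 (iv F62132)) (tt N10252 (iv F63886)) (tt N8877 F61291) (tt N10257 D16144) (tt N9688 (iv F61656)) (tt N10256 (iv F63909)) (tt N8867 F61292) (tt N8843 (iv D15486)) (tt N10136 (iv F63348)))
theorem Q9601 : ∀ i, i < 9601 → P i := stepQ 9600 Q9600 (allL N9600 (tt N8995 F61293) (tt N9136 F61294) (tt N8848 F61295) (tt N10255 (iv F63903)) (tt N8993 F61296) (tt N8868 F61297) (tt N8845 F61298) (tt N10258 D16145) (tt N8844 (iv D15487)))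
theorem Q9602 : ∀ i, i < 9602 → P i := stepQ 9601 Q9601 (allL N9601 (tt N9194 F61299) (tt N9340 F61300) (tt N8849 F61301) (tt N10259 D16146) (tt N9337 F61302) (tt N8846 F61303) (tt N10258 (iv F63917)) (tt N8845 (iv D15488)) (tt N9345 F61304))
theorem Q9603 : ∀ i, i < 9603 → P i := stepQ 9602 Q9602 (allL N9602 (tt N10164 (iv F63498)) (tt N10253 (iv F63892)) (tt N10260 D16147) (tt N8846 (iv D15489)) (tt N10261 D16148) (tt N10259 (iv F63921)) (tt N8870 F61305) (tt N10257 (iv F63911)) (tt N10224 (iv F63777)))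
theorem Q9604 : ∀ i, i < 9604 → P i := stepQ 9603 Q9603 (allL N9603 (tt N10165 (iv F63502)) (tt N10254 (iv F63896)) (tt N9181 F61306) (tt N10261 (iv F63925)) (tt N8847 (iv D15490)) (tt N10262 D16149) (tt N8871 F61307) (tt N9808 (iv F62154)) (tt N10225 (iv F63780)))
theorem Q9605 : ∀ i, i < 9605 → P i := stepQ 9604 Q9604 (allL N9604 (tt N9061 F61308) (tt N8909 F61309) (tt N10258 (iv F63914)) (tt N9435 F61310) (tt N9060 F61311) (tt N8872 F61312) (tt N8849 F61313) (tt N8848 (iv D15491)) (tt N9068 F61314))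
theorem Q9606 : ∀ i, i < 9606 → P i := stepQ 9605 Q9605 (allL N9605 (tt N9226 F61315) (tt N8910 F61316) (tt N10263 D16150) (tt N8849 (iv D15492)) (tt N10264 D16151) (tt N8850 F61317) (tt N9435 F61318) (tt N8881 F61319) (tt N9372 F61320))
theorem Q9607 : ∀ i, i < 9607 → P i := stepQ 9606 Q9606 (allL N9606 (tt N10166 (iv F63505)) (tt N10265 D16152) (tt N8850 (iv D15493)) (tt N10260 (iv F63923)) (tt N9224 F61321) (tt N10263 (iv F63929)) (tt N8874 F61322) (tt N8882 F61323) (tt N10226 (iv F63785)))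
theorem Q9608 : ∀ i, i < 9608 → P i := stepQ 9607 Q9607 (allL N9607 (tt N8855 F61324) (tt N9145 F61325) (tt N9607 F61326) (tt N8852 F61327) (tt N9615 (iv F61365)) (tt N8851 (iv D15494)) (tt N9138 F61328) (tt N9613 F61356) (tt N10266 D16153))
theorem Q9609 : ∀ i, i < 9609 → P i := stepQ 9608 Q9608 (allL N9608 (tt N8856 F61329) (tt N9094 F61330) (tt N9608 F61331) (tt N9155 F61332) (tt N9088 F61333) (tt N9613 (iv F61355)) (tt N9392 F61334) (tt N8851 (iv D15495)) (tt N10267 D16154))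
theorem Q9610 : ∀ i, i < 9610 → P i := stepQ 9609 Q9609 (allL N9609 (tt N8857 F61335) (tt N10167 (iv F63512)) (tt N9609 F61336) (tt N8853 F61337) (tt N9736 (iv F61868)) (tt N10266 (iv F63948)) (tt N9393 F61338) (tt N10268 D16155) (tt N8851 (iv D15496)))
theorem Q9611 : ∀ i, i < 9611 → P i := stepQ 9610 Q9610 (allL N9610 (tt N8859 F61339) (tt N9150 F61340) (tt N8912 F61341) (tt N10266 (iv F63947)) (tt N9169 F61342) (tt N8853 F61343) (tt N9141 F61344) (tt N10269 D16156) (tt N8852 (iv D15497)))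
theorem Q9612 : ∀ i, i < 9612 → P i := stepQ 9611 Q9611 (allL N9611 (tt N8860 F61345) (tt N10168 (iv F63519)) (tt N8913 F61346) (tt N10270 D16157) (tt N8854 F61347) (tt N10269 (iv F63963)) (tt N9396 F61348) (tt N8853 (iv D15498)) (tt N9407 F61349))
theorem Q9613 : ∀ i, i < 9613 → P i := stepQ 9612 Q9612 (allL N9612 (tt N8861 F61350) (tt N10169 (iv F63526)) (tt N10160 (iv F63479)) (tt N8854 (iv D15499)) (tt N10271 D16158) (tt N9171 F61351) (tt N10251 (iv F63882)) (tt N9738 (iv F61874)) (tt N10227 (iv F63789)))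
theorem Q9614 : ∀ i, i < 9614 → P i := stepQ 9613 Q9613 (allL N9613 (tt N9615 (iv F61362)) (tt N8862 F61352) (tt N9613 F61353) (tt N9172 F61354) (tt N8855 (iv D15500)) (tt N9608 F61355) (tt N9859 (iv F62346)) (tt N9607 (iv F61356)) (tt N10272 D16159))
theorem Q9615 : ∀ i, i < 9615 → P i := stepQ 9614 Q9614 (allL N9614 (tt N9138 F61357) (tt N8863 F61358) (tt N9614 F61359) (tt N8858 F61360) (tt N9859 (iv F62344)) (tt N9135 F61361) (tt N8855 (iv D15501)) (tt N9858 F62339) (tt N10273 D16160))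
theorem Q9616 : ∀ i, i < 9616 → P i := stepQ 9615 Q9615 (allL N9615 (tt N9613 F61362) (tt N8864 F61363) (tt N9615 F61364) (tt N9886 (iv F62431)) (tt N9607 F61365) (tt N8856 F61366) (tt N9858 (iv F62338)) (tt N8855 (iv D15502)) (tt N10274 D16161))
theorem Q9617 : ∀ i, i < 9617 → P i := stepQ 9616 Q9616 (allL N9616 (tt N10266 (iv F63944)) (tt N8865 F61367) (tt N9616 F61368) (tt N8859 F61369) (tt N10272 (iv F63973)) (tt N8857 F61370) (tt N10273 (iv F63980)) (tt N10275 D16162) (tt N8855 (iv D15503)))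
theorem Q9618 : ∀ i, i < 9618 → P i := stepQ 9617 Q9617 (allL N9617 (tt N10267 (iv F63950)) (tt N8866 F61371) (tt N9617 F61372) (tt N10229 (iv F63799)) (tt N9810 (iv F62163)) (tt N10274 (iv F63985)) (tt N10132 (iv F63327)) (tt N10276 D16163) (tt N8856 (iv D15504)))
theorem Q9619 : ∀ i, i < 9619 → P i := stepQ 9618 Q9618 (allL N9618 (tt N10268 (iv F63956)) (tt N8867 F61373) (tt N9618 F61374) (tt N10277 D16164) (tt N9811 (iv F62168)) (tt N10275 (iv F63988)) (tt N10252 (iv F63890)) (tt N8857 (iv D15505)) (tt N10276 (iv F63991)))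
theorem Q9620 : ∀ i, i < 9620 → P i := stepQ 9619 Q9619 (allL N9619 (tt N9141 F61375) (tt N8868 F61376) (tt N8914 F61377) (tt N10273 (iv F63978)) (tt N9178 F61378) (tt N9136 F61379) (tt N8859 F61380) (tt N10278 D16165) (tt N8858 (iv D15506)))
theorem Q9621 : ∀ i, i < 9621 → P i := stepQ 9620 Q9620 (allL N9620 (tt N10269 (iv F63959)) (tt N8869 F61381) (tt N8915 F61382) (tt N10279 D16166) (tt N9179 F61383) (tt N8860 F61384) (tt N10278 (iv F63999)) (tt N8859 (iv D15507)) (tt N10231 (iv F63812)))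
theorem Q9622 : ∀ i, i < 9622 → P i := stepQ 9621 Q9621 (allL N9621 (tt N10270 (iv F63966)) (tt N8870 F61385) (tt N10280 D16167) (tt N8860 (iv D15508)) (tt N10281 D16168) (tt N10279 (iv F64002)) (tt N10253 (iv F63894)) (tt N10277 (iv F63993)) (tt N10232 (iv F63816)))
theorem Q9623 : ∀ i, i < 9623 → P i := stepQ 9622 Q9622 (allL N9622 (tt N10271 (iv F63969)) (tt N8871 F61386) (tt N10249 (iv F63871)) (tt N10281 (iv F64005)) (tt N8861 (iv D15509)) (tt N10282 D16169) (tt N10254 (iv F63898)) (tt N9814 (iv F62175)) (tt N10233 (iv F63818)))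
theorem Q9624 : ∀ i, i < 9624 → P i := stepQ 9623 Q9623 (allL N9623 (tt N10117 (iv F63250)) (tt N10272 (iv F63970)) (tt N8883 F61387) (tt N9182 F61388) (tt N8865 F61389) (tt N9815 (iv F62179)) (tt N9868 (iv F62379)) (tt N10283 D16170) (tt N8862 (iv D15510)))
theorem Q9625 : ∀ i, i < 9625 → P i := stepQ 9624 Q9624 (allL N9624 (tt N10176 (iv F63551)) (tt N10273 (iv F63976)) (tt N8884 F61390) (tt N8868 F61391) (tt N9868 (iv F62377)) (tt N10255 (iv F63904)) (tt N8865 F61392) (tt N10284 D16171) (tt N8863 (iv D15511)))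
theorem Q9626 : ∀ i, i < 9626 → P i := stepQ 9625 Q9625 (allL N9625 (tt N10177 (iv F63557)) (tt N10274 (iv F63982)) (tt N8885 F61393) (tt N10236 (iv F63829)) (tt N9867 (iv F62373)) (tt N8866 F61394) (tt N9866 (iv F62370)) (tt N10285 D16172) (tt N8864 (iv D15512)))
theorem Q9627 : ∀ i, i < 9627 → P i := stepQ 9626 Q9626 (allL N9626 (tt N10178 (iv F63562)) (tt N10275 (iv F63986)) (tt N8886 F61395) (tt N10286 D16173) (tt N10283 (iv F64009)) (tt N8867 F61396) (tt N10284 (iv F64011)) (tt N8865 (iv D15513)) (tt N10285 (iv F64014)))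
theorem Q9628 : ∀ i, i < 9628 → P i := stepQ 9627 Q9627 (allL N9627 (tt N10179 (iv F63565)) (tt N10276 (iv F63989)) (tt N8887 F61397) (tt N10287 D16174) (tt N9818 (iv F62190)) (tt N10285 (iv F64013)) (tt N10136 (iv F63347)) (tt N8866 (iv D15514)) (tt N8867 F61398))
theorem Q9629 : ∀ i, i < 9629 → P i := stepQ 9628 Q9628 (allL N9628 (tt N10180 (iv F63570)) (tt N10277 (iv F63992)) (tt N10288 D16175) (tt N8867 (iv D15515)) (tt N10289 D16176) (tt N10286 (iv F64015)) (tt N10257 (iv F63910)) (tt N8870 F61399) (tt N10287 (iv F64017)))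
theorem Q9630 : ∀ i, i < 9630 → P i := stepQ 9629 Q9629 (allL N9629 (tt N10181 (iv F63572)) (tt N10278 (iv F63995)) (tt N8872 F61400) (tt N10290 D16177) (tt N9188 F61401) (tt N10258 (iv F63916)) (tt N8869 F61402) (tt N8868 (iv D15516)) (tt N10240 (iv F63844)))
theorem Q9631 : ∀ i, i < 9631 → P i := stepQ 9630 Q9630 (allL N9630 (tt N10182 (iv F63579)) (tt N10279 (iv F64001)) (tt N10291 D16178) (tt N8869 (iv D15517)) (tt N10292 D16179) (tt N8870 F61403) (tt N10290 (iv F64021)) (tt N10286 (iv F64016)) (tt N10241 (iv F63846)))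
theorem Q9632 : ∀ i, i < 9632 → P i := stepQ 9631 Q9631 (allL N9631 (tt N10183 (iv F63581)) (tt N10293 D16180) (tt N8870 (iv D15518)) (tt N8874 F61404) (tt N10294 D16181) (tt N10291 (iv F64023)) (tt N10260 (iv F63924)) (tt N10288 (iv F64019)) (tt N10242 (iv F63848)))
theorem Q9633 : ∀ i, i < 9633 → P i := stepQ 9632 Q9632 (allL N9632 (tt N10184 (iv F63583)) (tt N10281 (iv F64004)) (tt N10294 (iv F64026)) (tt N8871 F61405) (tt N8870 (iv D15519)) (tt N10295 D16182) (tt N10261 (iv F63926)) (tt N10289 (iv F64020)) (tt N10243 (iv F63850)))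
theorem Q9634 : ∀ i, i < 9634 → P i := stepQ 9633 Q9633 (allL N9633 (tt N10185 (iv F63585)) (tt N10282 (iv F64006)) (tt N9411 F61406) (tt N10295 (iv F64028)) (tt N9192 F61407) (tt N8871 (iv D15520)) (tt N10296 D16183) (tt N9822 (iv F62198)) (tt N10244 (iv F63853)))
theorem Q9635 : ∀ i, i < 9635 → P i := stepQ 9634 Q9634 (allL N9634 (tt N10186 (iv F63588)) (tt N10297 D16184) (tt N8873 (iv D15521)) (tt N10291 (iv F64022)) (tt N10199 (iv F63659)) (tt N8874 F61408) (tt N10201 (iv F63671)) (tt N8893 F61409) (tt N10245 (iv F63856)))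
theorem Q9636 : ∀ i, i < 9636 → P i := stepQ 9635 Q9635 (allL N9635 (tt N10298 D16185) (tt N8874 (iv D15522)) (tt N8921 F61410) (tt N10293 (iv F64025)) (tt N9415 F61411) (tt N10297 (iv F64033)) (tt N10265 (iv F63942)) (tt N8894 F61412) (tt N10246 (iv F63860)))
theorem Q9637 : ∀ i, i < 9637 → P i := stepQ 9636 Q9636 (allL N9636 (tt N9287 F61413) (tt N9636 F61414) (tt N10255 (iv F63902)) (tt N8878 F61415) (tt N9998 (iv F62881)) (tt N8884 F61416) (tt N8876 F61417) (tt N10299 D16186) (tt N8875 (iv D15523)))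
theorem Q9638 : ∀ i, i < 9638 → P i := stepQ 9637 Q9637 (allL N9637 (tt N9290 F61418) (tt N9637 F61419) (tt N10256 (iv F63908)) (tt N10300 D16187) (tt N10019 (iv F62966)) (tt N8877 F61420) (tt N10299 (iv F64045)) (tt N8876 (iv D15524)) (tt N10138 (iv F63357)))
theorem Q9639 : ∀ i, i < 9639 → P i := stepQ 9638 Q9638 (allL N9638 (tt N9805 (iv F62141)) (tt N9638 F61421) (tt N10301 D16188) (tt N8877 (iv D15525)) (tt N9720 (iv F61799)) (tt N10300 (iv F64048)) (tt N8888 F61422) (tt N8880 F61423) (tt N10139 (iv F63363)))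
theorem Q9640 : ∀ i, i < 9640 → P i := stepQ 9639 Q9639 (allL N9639 (tt N9274 F61424) (tt N9639 F61425) (tt N10302 D16189) (tt N8879 (iv D15526)) (tt N10303 D16190) (tt N8880 F61426) (tt N9449 F61427) (tt N10300 (iv F64050)) (tt N9639 F61428))
theorem Q9641 : ∀ i, i < 9641 → P i := stepQ 9640 Q9640 (allL N9640 (tt N9995 (iv F62860)) (tt N10304 D16191) (tt N8880 (iv D15527)) (tt N8882 F61429) (tt N9993 (iv F62851)) (tt N10302 (iv F64055)) (tt N8891 F61430) (tt N10301 (iv F64052)) (tt N9640 F61431))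
theorem Q9642 : ∀ i, i < 9642 → P i := stepQ 9641 Q9641 (allL N9641 (tt N9296 F61432) (tt N10305 D16192) (tt N8881 (iv D15528)) (tt N10302 (iv F64054)) (tt N10306 D16193) (tt N8882 F61433) (tt N9431 F61434) (tt N10263 (iv F63931)) (tt N9641 F61435))
theorem Q9643 : ∀ i, i < 9643 → P i := stepQ 9642 Q9642 (allL N9642 (tt N8924 F61436) (tt N8923 F61437) (tt N10306 (iv F64075)) (tt N9642 F61438) (tt N8881 (iv D15529)) (tt N9295 F61439) (tt N8926 F61440) (tt N10264 (iv F63938)) (tt N9642 F61441))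
theorem Q9644 : ∀ i, i < 9644 → P i := stepQ 9643 Q9643 (allL N9643 (tt N10306 (iv F64073)) (tt N8882 (iv D15530)) (tt N8924 F61442) (tt N10304 (iv F64064)) (tt N9296 F61443) (tt N10305 (iv F64069)) (tt N8894 F61444) (tt N10265 (iv F63943)) (tt N9643 F61445))
theorem Q9645 : ∀ i, i < 9645 → P i := stepQ 9644 Q9644 (allL N9644 (tt N10102 (iv F63192)) (tt N9644 F61446) (tt N10283 (iv F64008)) (tt N10043 (iv F63030)) (tt N8886 F61447) (tt N9823 (iv F62202)) (tt N10009 (iv F62924)) (tt N8883 (iv D15531)) (tt N10008 (iv F62920)))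
theorem Q9646 : ∀ i, i < 9646 → P i := stepQ 9645 Q9645 (allL N9645 (tt N10188 (iv F63598)) (tt N9645 F61448) (tt N10284 (iv F64010)) (tt N10307 D16194) (tt N10009 (iv F62922)) (tt N10299 (iv F64044)) (tt N8886 F61449) (tt N8884 (iv D15532)) (tt N10007 (iv F62916)))
theorem Q9647 : ∀ i, i < 9647 → P i := stepQ 9646 Q9646 (allL N9646 (tt N10189 (iv F63603)) (tt N9646 F61450) (tt N10285 (iv F64012)) (tt N10308 D16195) (tt N10008 (iv F62918)) (tt N8887 F61451) (tt N10007 (iv F62915)) (tt N8885 (iv D15533)) (tt N8886 F61452))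
theorem Q9648 : ∀ i, i < 9648 → P i := stepQ 9647 Q9647 (allL N9647 (tt N10106 (iv F63206)) (tt N9647 F61453) (tt N10309 D16196) (tt N8886 (iv D15534)) (tt N10046 (iv F63042)) (tt N8888 F61454) (tt N10307 (iv F64082)) (tt N8890 F61455) (tt N10308 (iv F64087)))
theorem Q9649 : ∀ i, i < 9649 → P i := stepQ 9648 Q9648 (allL N9648 (tt N10190 (iv F63607)) (tt N9648 F61456) (tt N10310 D16197) (tt N8887 (iv D15535)) (tt N10311 D16198) (tt N10308 (iv F64085)) (tt N10139 (iv F63361)) (tt N9648 F61457) (tt N8888 F61458))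
theorem Q9650 : ∀ i, i < 9650 → P i := stepQ 9649 Q9649 (allL N9649 (tt N10191 (iv F63613)) (tt N10312 D16199) (tt N8888 (iv D15536)) (tt N10288 (iv F64018)) (tt N10313 D16200) (tt N10309 (iv F64088)) (tt N10301 (iv F64051)) (tt N8891 F61459) (tt N10310 (iv F64091)))
theorem Q9651 : ∀ i, i < 9651 → P i := stepQ 9650 Q9650 (allL N9650 (tt N9830 (iv F62226)) (tt N9650 F61460) (tt N10313 (iv F64100)) (tt N9708 (iv F61750)) (tt N8888 (iv D15537)) (tt N10049 (iv F63054)) (tt N9720 (iv F61800)) (tt N8892 F61461) (tt N10311 (iv F64097)))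
theorem Q9652 : ∀ i, i < 9652 → P i := stepQ 9651 Q9651 (allL N9651 (tt N9448 F61462) (tt N9651 F61463) (tt N10203 (iv F63683)) (tt N8889 (iv D15538)) (tt N10050 (iv F63059)) (tt N9449 F61464) (tt N8890 F61465) (tt N10307 (iv F64083)) (tt N9651 F61466))
theorem Q9653 : ∀ i, i < 9653 → P i := stepQ 9652 Q9652 (allL N9652 (tt N10113 (iv F63230)) (tt N10314 D16201) (tt N8890 (iv D15539)) (tt N8893 F61467) (tt N10051 (iv F63064)) (tt N8891 F61468) (tt N10203 (iv F63685)) (tt N10309 (iv F64089)) (tt N9652 F61469))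
theorem Q9654 : ∀ i, i < 9654 → P i := stepQ 9653 Q9653 (allL N9653 (tt N10315 D16202) (tt N8891 (iv D15540)) (tt N9653 F61470) (tt N8894 F61471) (tt N10316 D16203) (tt N10314 (iv F64104)) (tt N10304 (iv F64065)) (tt N10312 (iv F64099)) (tt N9653 F61472))
theorem Q9655 : ∀ i, i < 9655 → P i := stepQ 9654 Q9654 (allL N9654 (tt N9996 (iv F62867)) (tt N10316 (iv F64112)) (tt N8892 F61473) (tt N9427 F61474) (tt N8891 (iv D15541)) (tt N10053 (iv F63073)) (tt N9993 (iv F62852)) (tt N10313 (iv F64101)) (tt N9654 F61475))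
theorem Q9656 : ∀ i, i < 9656 → P i := stepQ 9655 Q9655 (allL N9655 (tt N9078 (iv F61481)) (tt N8893 (iv D15542)) (tt N8925 F61476) (tt N10314 (iv F64103)) (tt N9077 F61477) (tt N8894 F61478) (tt N9380 F61479) (tt N10297 (iv F64035)) (tt N9655 F61480))
theorem Q9657 : ∀ i, i < 9657 → P i := stepQ 9656 Q9656 (allL N9656 (tt N8894 (iv D15543)) (tt N10193 (iv F63620)) (tt N8926 F61482) (tt N10315 (iv F64109)) (tt N9431 F61483) (tt N9078 F61484) (tt N10306 (iv F64077)) (tt N10298 (iv F64040)) (tt N9656 F61485))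
theorem Q9658 : ∀ i, i < 9658 → P i := stepQ 9657 Q9657 (allL N9657 (tt N8927 F61486) (tt N10317 D16204) (tt N8896 (iv D15544)) (tt N9067 F61487) (tt N9066 F61488) (tt N9375 F61489) (tt N8904 F61490) (tt N9657 F61491) (tt N8911 F61492))
theorem Q9659 : ∀ i, i < 9659 → P i := stepQ 9658 Q9658 (allL N9658 (tt N9222 F61493) (tt N8900 F61494) (tt N10231 (iv F63808)) (tt N10202 (iv F63675)) (tt N9217 F61495) (tt N8899 F61496) (tt N9220 F61497) (tt N8898 (iv D15545)) (tt N8915 F61498))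
theorem Q9660 : ∀ i, i < 9660 → P i := stepQ 9659 Q9659 (allL N9659 (tt N9412 F61499) (tt N8901 F61500) (tt N10318 D16205) (tt N8899 (iv D15546)) (tt N8967 F61501) (tt N10202 (iv F63677)) (tt N9355 F61502) (tt N8971 F61503) (tt N8916 F61504))
theorem Q9661 : ∀ i, i < 9661 → P i := stepQ 9660 Q9660 (allL N9660 (tt N8928 F61505) (tt N10319 D16206) (tt N8903 (iv D15547)) (tt N8937 F61506) (tt N9079 F61507) (tt N8904 F61508) (tt N9370 F61509) (tt N9660 F61510) (tt N8920 F61511))
theorem Q9662 : ∀ i, i < 9662 → P i := stepQ 9661 Q9661 (allL N9661 (tt N10320 D16207) (tt N8904 (iv D15548)) (tt N10246 (iv F63857)) (tt N9073 F61512) (tt N9071 F61513) (tt N10319 (iv F64132)) (tt N10317 (iv F64120)) (tt N9661 F61514) (tt N8921 F61515))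
theorem Q9663 : ∀ i, i < 9663 → P i := stepQ 9662 Q9662 (allL N9662 (tt N9399 F61516) (tt N8908 F61517) (tt N10321 D16208) (tt N8907 (iv D15549)) (tt N9109 F61518) (tt N9342 F61519) (tt N8916 F61520) (tt N9662 F61521) (tt N9355 F61522))
theorem Q9664 : ∀ i, i < 9664 → P i := stepQ 9663 Q9663 (allL N9663 (tt N8930 F61523) (tt N10322 D16209) (tt N8908 (iv D15550)) (tt N8911 F61524) (tt N9059 F61525) (tt N9371 F61526) (tt N8919 F61527) (tt N9663 F61528) (tt N9067 F61529))
theorem Q9665 : ∀ i, i < 9665 → P i := stepQ 9664 Q9664 (allL N9664 (tt N8931 F61530) (tt N10323 D16210) (tt N8910 (iv D15551)) (tt N9371 F61531) (tt N9229 (iv F61536)) (tt N8911 F61532) (tt N9377 F61533) (tt N8922 F61534) (tt N9375 F61535))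
theorem Q9666 : ∀ i, i < 9666 → P i := stepQ 9665 Q9665 (allL N9665 (tt N8932 F61537) (tt N10264 (iv F63934)) (tt N9229 F61538) (tt N9370 F61539) (tt N8910 (iv D15552)) (tt N9225 F61540) (tt N8937 F61541) (tt N8923 F61542) (tt N9376 F61543))
theorem Q9667 : ∀ i, i < 9667 → P i := stepQ 9666 Q9666 (allL N9666 (tt N10264 (iv F63933)) (tt N8911 (iv D15553)) (tt N10265 (iv F63940)) (tt N10322 (iv F64150)) (tt N9226 F61544) (tt N10323 (iv F64159)) (tt N8921 F61545) (tt N8924 F61546) (tt N10317 (iv F64122)))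
theorem Q9668 : ∀ i, i < 9668 → P i := stepQ 9667 Q9667 (allL N9667 (tt N8915 F61547) (tt N8933 F61548) (tt N10269 (iv F63961)) (tt N10198 (iv F63652)) (tt N9220 F61549) (tt N8913 F61550) (tt N9217 F61551) (tt N8912 (iv D15554)) (tt N9222 F61552))
theorem Q9669 : ∀ i, i < 9669 → P i := stepQ 9668 Q9668 (allL N9668 (tt N8916 F61553) (tt N8934 F61554) (tt N10324 D16211) (tt N8913 (iv D15555)) (tt N10161 (iv F63484)) (tt N10198 (iv F63654)) (tt N9399 F61555) (tt N9668 F61556) (tt N9412 F61557))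
theorem Q9670 : ∀ i, i < 9670 → P i := stepQ 9669 Q9669 (allL N9669 (tt N9217 F61558) (tt N8917 F61559) (tt N10278 (iv F63996)) (tt N10325 D16212) (tt N9222 F61560) (tt N9216 F61561) (tt N8915 F61562) (tt N8914 (iv D15556)) (tt N9220 F61563))
theorem Q9671 : ∀ i, i < 9671 → P i := stepQ 9670 Q9670 (allL N9670 (tt N10198 (iv F63651)) (tt N8918 F61564) (tt N10326 D16213) (tt N8915 (iv D15557)) (tt N10327 D16214) (tt N8916 F61565) (tt N10325 (iv F64171)) (tt N9670 F61566) (tt N10202 (iv F63680)))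
theorem Q9672 : ∀ i, i < 9672 → P i := stepQ 9671 Q9671 (allL N9671 (tt N10324 (iv F64163)) (tt N10328 D16215) (tt N8916 (iv D15558)) (tt N10280 (iv F64003)) (tt N10250 (iv F63874)) (tt N10326 (iv F64174)) (tt N10321 (iv F64146)) (tt N9671 F61567) (tt N10318 (iv F64128)))
theorem Q9673 : ∀ i, i < 9673 → P i := stepQ 9672 Q9672 (allL N9672 (tt N8935 F61568) (tt N10325 (iv F64168)) (tt N9376 F61569) (tt N8917 (iv D15559)) (tt N9375 F61570) (tt N9227 F61571) (tt N8918 F61572) (tt N9672 F61573) (tt N9229 F61574))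
theorem Q9674 : ∀ i, i < 9674 → P i := stepQ 9673 Q9673 (allL N9673 (tt N8929 F61575) (tt N10320 (iv F64136)) (tt N8918 (iv D15560)) (tt N8920 F61576) (tt N9080 (iv F61581)) (tt N8919 F61577) (tt N9376 F61578) (tt N9673 F61579) (tt N8937 F61580))
theorem Q9675 : ∀ i, i < 9675 → P i := stepQ 9674 Q9674 (allL N9674 (tt N8936 F61582) (tt N10327 (iv F64177)) (tt N9080 F61583) (tt N9225 F61584) (tt N8918 (iv D15561)) (tt N9370 F61585) (tt N9375 F61586) (tt N9674 F61587) (tt N9377 F61588))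
theorem Q9676 : ∀ i, i < 9676 → P i := stepQ 9675 Q9675 (allL N9675 (tt N10319 (iv F64129)) (tt N8919 (iv D15562)) (tt N10328 (iv F64183)) (tt N8921 F61589) (tt N9062 F61590) (tt N10320 (iv F64139)) (tt N10322 (iv F64153)) (tt N9675 F61591) (tt N9073 F61592))
theorem Q9677 : ∀ i, i < 9677 → P i := stepQ 9676 Q9676 (allL N9676 (tt N9073 F61593) (tt N8920 (iv D15563)) (tt N10297 (iv F64031)) (tt N10320 (iv F64137)) (tt N9069 F61594) (tt N8921 F61595) (tt N9374 F61596) (tt N8925 F61597) (tt N10319 (iv F64135)))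
theorem Q9678 : ∀ i, i < 9678 → P i := stepQ 9677 Q9677 (allL N9677 (tt N8921 (iv D15564)) (tt N8937 F61598) (tt N10298 (iv F64037)) (tt N10319 (iv F64130)) (tt N9435 F61599) (tt N9073 F61600) (tt N10264 (iv F63937)) (tt N8926 F61601) (tt N10320 (iv F64142)))
theorem Q9679 : ∀ i, i < 9679 → P i := stepQ 9678 Q9678 (allL N9678 (tt N9295 F61602) (tt N8922 (iv D15565)) (tt N10305 (iv F64068)) (tt N9678 F61603) (tt N9292 F61604) (tt N8924 F61605) (tt N9379 F61606) (tt N10323 (iv F64161)) (tt N9678 F61607))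
theorem Q9680 : ∀ i, i < 9680 → P i := stepQ 9679 Q9679 (allL N9679 (tt N9105 F61608) (tt N8942 F61609) (tt N10205 (iv F63694)) (tt N9111 F61610) (tt N9927 (iv F62563)) (tt N8963 F61611) (tt N8948 F61612) (tt N8940 (iv D15566)) (tt N9546 F61613))
theorem Q9681 : ∀ i, i < 9681 → P i := stepQ 9680 Q9680 (allL N9680 (tt N9680 F61614) (tt N10189 (iv F63604)) (tt N9439 F61615) (tt N10124 (iv F63289)) (tt N9985 F62817) (tt N8944 F61616) (tt N9988 (iv F62832)) (tt N8943 (iv D15567)) (tt N9944 (iv F62631)))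
theorem Q9682 : ∀ i, i < 9682 → P i := stepQ 9681 Q9681 (allL N9681 (tt N9681 F61617) (tt N10190 (iv F63608)) (tt N9978 (iv F62777)) (tt N8944 (iv D15568)) (tt N9242 F61618) (tt N10124 (iv F63290)) (tt N8952 F61619) (tt N9681 F61620) (tt N9945 (iv F62638)))
theorem Q9683 : ∀ i, i < 9683 → P i := stepQ 9682 Q9682 (allL N9682 (tt N8947 F61621) (tt N9682 F61622) (tt N10207 (iv F63703)) (tt N9107 F61623) (tt N8946 F61624) (tt N9305 F61625) (tt N9103 F61626) (tt N10329 D16216) (tt N8945 (iv D15569)))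
theorem Q9684 : ∀ i, i < 9684 → P i := stepQ 9683 Q9683 (allL N9683 (tt N8948 F61627) (tt N9683 F61628) (tt N10208 (iv F63709)) (tt N9824 (iv F62205)) (tt N10329 (iv F64190)) (tt N9236 F61629) (tt N9105 F61630) (tt N8946 (iv D15570)) (tt N9704 (iv F61734)))
theorem Q9685 : ∀ i, i < 9685 → P i := stepQ 9684 Q9684 (allL N9684 (tt N10329 (iv F64187)) (tt N8949 F61631) (tt N10210 (iv F63720)) (tt N9206 F61632) (tt N8948 F61633) (tt N9208 F61634) (tt N9927 (iv F62564)) (tt N8947 (iv D15571)) (tt N9207 F61635))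
theorem Q9686 : ∀ i, i < 9686 → P i := stepQ 9685 Q9685 (allL N9685 (tt N9685 F61636) (tt N10218 (iv F63747)) (tt N9281 F61637) (tt N9444 (iv F61641)) (tt N9243 F61638) (tt N9988 (iv F62831)) (tt N8951 F61639) (tt N8950 (iv D15572)) (tt N9282 F61640))
theorem Q9687 : ∀ i, i < 9687 → P i := stepQ 9686 Q9686 (allL N9686 (tt N9686 F61642) (tt N10219 (iv F63752)) (tt N9270 F61643) (tt N8951 (iv D15573)) (tt N10330 D16217) (tt N8952 F61644) (tt N9444 F61645) (tt N9686 F61646) (tt N9271 F61647))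
theorem Q9688 : ∀ i, i < 9688 → P i := stepQ 9687 Q9687 (allL N9687 (tt N9687 F61648) (tt N10331 D16218) (tt N8952 (iv D15574)) (tt N9268 F61649) (tt N9438 F61650) (tt N9270 F61651) (tt N9978 (iv F62779)) (tt N9687 F61652) (tt N9269 F61653))
theorem Q9689 : ∀ i, i < 9689 → P i := stepQ 9688 Q9688 (allL N9688 (tt N9083 F61654) (tt N10247 (iv F63861)) (tt N8954 F61655) (tt N10332 D16219) (tt N9599 F61656) (tt N9334 F61657) (tt N9098 F61658) (tt N8953 (iv D15575)) (tt N9457 F61659))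
theorem Q9690 : ∀ i, i < 9690 → P i := stepQ 9689 Q9689 (allL N9689 (tt N9086 F61660) (tt N10248 (iv F63866)) (tt N9002 F61661) (tt N8955 (iv D15576)) (tt N10333 D16220) (tt N9341 F61662) (tt N9100 F61663) (tt N10332 (iv F64210)) (tt N8962 F61664))
theorem Q9691 : ∀ i, i < 9691 → P i := stepQ 9690 Q9690 (allL N9690 (tt N10158 (iv F63464)) (tt N8957 F61665) (tt N8964 F61666) (tt N10334 D16221) (tt N9085 F61667) (tt N10162 (iv F63493)) (tt N8959 F61668) (tt N8956 (iv D15577)) (tt N9092 F61669))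
theorem Q9692 : ∀ i, i < 9692 → P i := stepQ 9691 Q9691 (allL N9691 (tt N9087 F61670) (tt N10334 (iv F64217)) (tt N9016 F61671) (tt N8957 (iv D15578)) (tt N10335 D16222) (tt N10251 (iv F63881)) (tt N8962 F61672) (tt N9486 F61673) (tt N9100 F61674))
theorem Q9693 : ∀ i, i < 9693 → P i := stepQ 9692 Q9692 (allL N9692 (tt N8959 F61675) (tt N9006 F61676) (tt N8966 F61677) (tt N10336 D16223) (tt N10140 (iv F63367)) (tt N9010 F61678) (tt N10158 (iv F63469)) (tt N8958 (iv D15579)) (tt N10159 (iv F63477)))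
theorem Q9694 : ∀ i, i < 9694 → P i := stepQ 9693 Q9693 (allL N9693 (tt N10336 (iv F64227)) (tt N8962 F61679) (tt N10337 D16224) (tt N8959 (iv D15580)) (tt N10338 D16225) (tt N9346 F61680) (tt N10334 (iv F64218)) (tt N9496 F61681) (tt N10248 (iv F63869)))
theorem Q9695 : ∀ i, i < 9695 → P i := stepQ 9694 Q9694 (allL N9694 (tt N9098 F61682) (tt N10204 (iv F63687)) (tt N8963 F61683) (tt N10339 D16226) (tt N9502 F61684) (tt N10205 (iv F63695)) (tt N9083 F61685) (tt N8960 (iv D15581)) (tt N9548 F61686))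
theorem Q9696 : ∀ i, i < 9696 → P i := stepQ 9695 Q9695 (allL N9695 (tt N9100 F61687) (tt N10221 (iv F63759)) (tt N9134 F61688) (tt N8961 (iv D15582)) (tt N10340 D16227) (tt N10222 (iv F63767)) (tt N9086 F61689) (tt N10339 (iv F64240)) (tt N9087 F61690))
theorem Q9697 : ∀ i, i < 9697 → P i := stepQ 9696 Q9696 (allL N9696 (tt N9101 F61691) (tt N10338 (iv F64235)) (tt N9036 F61692) (tt N10340 (iv F64244)) (tt N8962 (iv D15583)) (tt N10341 D16228) (tt N10335 (iv F64224)) (tt N9506 F61693) (tt N10333 (iv F64216)))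
theorem Q9698 : ∀ i, i < 9698 → P i := stepQ 9697 Q9697 (allL N9697 (tt N9414 F61694) (tt N8965 F61695) (tt N10342 D16229) (tt N8964 (iv D15584)) (tt N9355 F61696) (tt N10118 (iv F63259)) (tt N8967 F61697) (tt N8968 F61698) (tt N9109 F61699))
theorem Q9699 : ∀ i, i < 9699 → P i := stepQ 9698 Q9698 (allL N9698 (tt N8967 F61700) (tt N8972 F61701) (tt N10343 D16230) (tt N8966 (iv D15585)) (tt N9412 F61702) (tt N9065 F61703) (tt N9414 F61704) (tt N8969 F61705) (tt N10161 (iv F63488)))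
theorem Q9700 : ∀ i, i < 9700 → P i := stepQ 9699 Q9699 (allL N9699 (tt N10343 (iv F64257)) (tt N9072 F61706) (tt N8967 (iv D15586)) (tt N10337 (iv F64232)) (tt N10318 (iv F64125)) (tt N9373 F61707) (tt N10342 (iv F64254)) (tt N8970 F61708) (tt N10250 (iv F63878)))
theorem Q9701 : ∀ i, i < 9701 → P i := stepQ 9700 Q9700 (allL N9700 (tt N9430 F61709) (tt N9075 F61710) (tt N8968 (iv D15587)) (tt N9540 F61711) (tt N9367 F61712) (tt N10116 (iv F63247)) (tt N8970 F61713) (tt N10342 (iv F64255)) (tt N9700 F61714))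
theorem Q9702 : ∀ i, i < 9702 → P i := stepQ 9701 Q9701 (allL N9701 (tt N8970 F61715) (tt N10116 (iv F63244)) (tt N8969 (iv D15588)) (tt N9541 F61716) (tt N9428 F61717) (tt N9075 F61718) (tt N9430 F61719) (tt N10343 (iv F64261)) (tt N9701 F61720))
theorem Q9703 : ∀ i, i < 9703 → P i := stepQ 9702 Q9702 (allL N9702 (tt N9428 F61721) (tt N9078 F61722) (tt N8971 F61723) (tt N10344 D16231) (tt N8970 (iv D15589)) (tt N10193 (iv F63623)) (tt N9367 F61724) (tt N10318 (iv F64127)) (tt N9702 F61725))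
theorem Q9704 : ∀ i, i < 9704 → P i := stepQ 9703 Q9703 (allL N9703 (tt N9081 F61726) (tt N10074 (iv F63137)) (tt N8974 F61727) (tt N8989 F61728) (tt N9787 (iv F62067)) (tt N8977 F61729) (tt N9816 (iv F62185)) (tt N10345 D16232) (tt N8973 (iv D15590)))
theorem Q9705 : ∀ i, i < 9705 → P i := stepQ 9704 Q9704 (allL N9704 (tt N9111 F61730) (tt N9704 F61731) (tt N10345 (iv F64269)) (tt N9105 F61732) (tt N9782 F62044) (tt N8979 F61733) (tt N9824 (iv F62207)) (tt N8974 (iv D15591)) (tt N9683 F61734))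
theorem Q9706 : ∀ i, i < 9706 → P i := stepQ 9705 Q9705 (allL N9705 (tt N9330 F61735) (tt N8977 F61736) (tt N9705 F61737) (tt N8991 F61738) (tt N10064 (iv F63105)) (tt N10074 (iv F63141)) (tt N8982 F61739) (tt N10346 D16233) (tt N8975 (iv D15592)))
theorem Q9707 : ∀ i, i < 9707 → P i := stepQ 9706 Q9706 (allL N9706 (tt N9113 F61740) (tt N10064 (iv F63102)) (tt N8978 F61741) (tt N9214 F61742) (tt N8977 F61743) (tt N9788 (iv F62075)) (tt N8985 F61744) (tt N10347 D16234) (tt N8976 (iv D15593)))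
theorem Q9708 : ∀ i, i < 9708 → P i := stepQ 9707 Q9707 (allL N9707 (tt N9114 F61745) (tt N10346 (iv F64273)) (tt N8979 F61746) (tt N10348 D16235) (tt N10347 (iv F64278)) (tt N10345 (iv F64270)) (tt N8986 F61747) (tt N8977 (iv D15594)) (tt N9833 (iv F62243)))
theorem Q9709 : ∀ i, i < 9709 → P i := stepQ 9708 Q9708 (allL N9708 (tt N9115 F61748) (tt N9708 F61749) (tt N10347 (iv F64277)) (tt N9650 F61750) (tt N8979 F61751) (tt N9785 (iv F62056)) (tt N8988 F61752) (tt N8978 (iv D15595)) (tt N9948 (iv F62654)))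
theorem Q9710 : ∀ i, i < 9710 → P i := stepQ 9709 Q9709 (allL N9709 (tt N8981 F61753) (tt N9116 F61754) (tt N9709 F61755) (tt N9841 (iv F62283)) (tt N8980 (iv D15596)) (tt N9382 F61756) (tt N9329 F61757) (tt N9381 F61758) (tt N10349 D16236))
theorem Q9711 : ∀ i, i < 9711 → P i := stepQ 9710 Q9710 (allL N9710 (tt N8982 F61759) (tt N9117 F61760) (tt N9710 F61761) (tt N8993 F61762) (tt N10349 (iv F64287)) (tt N10131 (iv F63319)) (tt N9330 F61763) (tt N10350 D16237) (tt N8980 (iv D15597)))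
theorem Q9712 : ∀ i, i < 9712 → P i := stepQ 9711 Q9711 (allL N9711 (tt N9382 F61764) (tt N8984 F61765) (tt N9711 F61766) (tt N9714 (iv F61777)) (tt N9338 F61767) (tt N8981 (iv D15598)) (tt N9834 (iv F62247)) (tt N9331 F61768) (tt N10351 D16238))
theorem Q9713 : ∀ i, i < 9713 → P i := stepQ 9712 Q9712 (allL N9712 (tt N10349 (iv F64284)) (tt N8985 F61769) (tt N9712 F61770) (tt N10067 (iv F63115)) (tt N8982 F61771) (tt N10351 (iv F64299)) (tt N10064 (iv F63107)) (tt N10352 D16239) (tt N8981 (iv D15599)))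
theorem Q9714 : ∀ i, i < 9714 → P i := stepQ 9713 Q9713 (allL N9713 (tt N10350 (iv F64290)) (tt N8986 F61772) (tt N9713 F61773) (tt N10353 D16240) (tt N10352 (iv F64302)) (tt N10133 (iv F63330)) (tt N10346 (iv F64275)) (tt N8982 (iv D15600)) (tt N10014 (iv F62945)))
theorem Q9715 : ∀ i, i < 9715 → P i := stepQ 9714 Q9714 (allL N9714 (tt N9123 F61774) (tt N9125 F61775) (tt N9237 F61776) (tt N9711 F61777) (tt N8998 F61778) (tt N9384 F61779) (tt N9119 F61780) (tt N8983 (iv D15601)) (tt N10354 D16241))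
theorem Q9716 : ∀ i, i < 9716 → P i := stepQ 9715 Q9715 (allL N9715 (tt N9124 F61781) (tt N10067 (iv F63113)) (tt N9203 F61782) (tt N8985 F61783) (tt N8999 F61784) (tt N9845 (iv F62298)) (tt N9214 F61785) (tt N10355 D16242) (tt N8983 (iv D15602)))
theorem Q9717 : ∀ i, i < 9717 → P i := stepQ 9716 Q9716 (allL N9716 (tt N9126 F61786) (tt N10351 (iv F64296)) (tt N8987 F61787) (tt N9845 (iv F62297)) (tt N10135 (iv F63342)) (tt N8985 F61788) (tt N9842 (iv F62290)) (tt N10356 D16243) (tt N8984 (iv D15603)))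
theorem Q9718 : ∀ i, i < 9718 → P i := stepQ 9717 Q9717 (allL N9717 (tt N9127 F61789) (tt N10352 (iv F64300)) (tt N8988 F61790) (tt N10357 D16244) (tt N8986 F61791) (tt N10356 (iv F64318)) (tt N10347 (iv F64279)) (tt N8985 (iv D15604)) (tt N10017 (iv F62960)))
theorem Q9719 : ∀ i, i < 9719 → P i := stepQ 9718 Q9718 (allL N9718 (tt N9128 F61792) (tt N10353 (iv F64303)) (tt N10332 (iv F64207)) (tt N8986 (iv D15605)) (tt N10358 D16245) (tt N10137 (iv F63351)) (tt N10348 (iv F64282)) (tt N9002 F61793) (tt N10018 (iv F62963)))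
theorem Q9720 : ∀ i, i < 9720 → P i := stepQ 9719 Q9719 (allL N9719 (tt N9130 F61794) (tt N9719 F61795) (tt N10356 (iv F64317)) (tt N10359 D16246) (tt N10138 (iv F63355)) (tt N8988 F61796) (tt N9999 (iv F62887)) (tt N8987 (iv D15606)) (tt N10019 (iv F62968)))
theorem Q9721 : ∀ i, i < 9721 → P i := stepQ 9720 Q9720 (allL N9720 (tt N9131 F61797) (tt N9720 F61798) (tt N10360 D16247) (tt N8988 (iv D15607)) (tt N9638 F61799) (tt N10359 (iv F64324)) (tt N9650 F61800) (tt N9298 F61801) (tt N10020 (iv F62972)))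
theorem Q9722 : ∀ i, i < 9722 → P i := stepQ 9721 Q9721 (allL N9721 (tt N9085 F61802) (tt N10159 (iv F63472)) (tt N8990 F61803) (tt N10361 D16248) (tt N10158 (iv F63467)) (tt N8992 F61804) (tt N10140 (iv F63369)) (tt N8989 (iv D15608)) (tt N9006 F61805))
theorem Q9723 : ∀ i, i < 9723 → P i := stepQ 9722 Q9722 (allL N9722 (tt N9337 F61806) (tt N8992 F61807) (tt N9058 F61808) (tt N10362 D16249) (tt N9194 F61809) (tt N10159 (iv F63475)) (tt N8996 F61810) (tt N8991 (iv D15609)) (tt N9010 F61811))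
theorem Q9724 : ∀ i, i < 9724 → P i := stepQ 9723 Q9723 (allL N9723 (tt N9134 F61812) (tt N10362 (iv F64335)) (tt N9100 F61813) (tt N8992 (iv D15610)) (tt N10363 D16250) (tt N10361 (iv F64332)) (tt N9002 F61814) (tt N10348 (iv F64283)) (tt N9016 F61815))
theorem Q9725 : ∀ i, i < 9725 → P i := stepQ 9724 Q9724 (allL N9724 (tt N8996 F61816) (tt N9137 F61817) (tt N9060 F61818) (tt N10364 D16251) (tt N10258 (iv F63915)) (tt N10146 (iv F63407)) (tt N9337 F61819) (tt N8993 (iv D15611)) (tt N9020 F61820))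
theorem Q9726 : ∀ i, i < 9726 → P i := stepQ 9725 Q9725 (allL N9725 (tt N10255 (iv F63900)) (tt N8999 F61821) (tt N9287 F61822) (tt N8995 F61823) (tt N10067 (iv F63116)) (tt N10176 (iv F63555)) (tt N9213 F61824) (tt N10365 D16252) (tt N8994 (iv D15612)))
theorem Q9727 : ∀ i, i < 9727 → P i := stepQ 9726 Q9726 (allL N9726 (tt N10258 (iv F63912)) (tt N9001 F61825) (tt N9061 F61826) (tt N10366 D16253) (tt N8996 F61827) (tt N10181 (iv F63576)) (tt N9194 F61828) (tt N8995 (iv D15613)) (tt N9025 F61829))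
theorem Q9728 : ∀ i, i < 9728 → P i := stepQ 9727 Q9727 (allL N9727 (tt N10364 (iv F64343)) (tt N9002 F61830) (tt N10367 D16254) (tt N8996 (iv D15614)) (tt N10368 D16255) (tt N10149 (iv F63425)) (tt N10362 (iv F64336)) (tt N10353 (iv F64304)) (tt N9026 F61831))
theorem Q9729 : ∀ i, i < 9729 → P i := stepQ 9728 Q9728 (allL N9728 (tt N9144 F61832) (tt N9729 (iv F61838)) (tt N9299 F61833) (tt N9754 (iv F61945)) (tt N8997 (iv D15615)) (tt N9556 F61834) (tt N9499 F61835) (tt N9498 (iv F61836)) (tt N10369 D16256))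
theorem Q9730 : ∀ i, i < 9730 → P i := stepQ 9729 Q9729 (allL N9729 (tt N9146 F61837) (tt N9728 F61838) (tt N9301 F61839) (tt N9029 F61840) (tt N9498 F61841) (tt N8998 F61842) (tt N9497 F61843) (tt N8997 (iv D15616)) (tt N10370 D16257))
theorem Q9731 : ∀ i, i < 9731 → P i := stepQ 9730 Q9730 (allL N9730 (tt N9147 F61844) (tt N10176 (iv F63552)) (tt N9202 F61845) (tt N9000 F61846) (tt N10369 (iv F64360)) (tt N8999 F61847) (tt N10170 (iv F63533)) (tt N10371 D16258) (tt N8997 (iv D15617)))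
theorem Q9732 : ∀ i, i < 9732 → P i := stepQ 9731 Q9731 (allL N9731 (tt N9148 F61848) (tt N10214 (iv F63735)) (tt N9302 F61849) (tt N9031 F61850) (tt N10354 (iv F64309)) (tt N10370 (iv F64368)) (tt N9322 F61851) (tt N10372 D16259) (tt N8998 (iv D15618)))
theorem Q9733 : ∀ i, i < 9733 → P i := stepQ 9732 Q9732 (allL N9732 (tt N9149 F61852) (tt N10365 (iv F64347)) (tt N9200 F61853) (tt N10373 D16260) (tt N10355 (iv F64314)) (tt N10371 (iv F64372)) (tt N9209 F61854) (tt N8999 (iv D15619)) (tt N10372 (iv F64376)))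
theorem Q9734 : ∀ i, i < 9734 → P i := stepQ 9733 Q9733 (allL N9733 (tt N9151 F61855) (tt N10181 (iv F63573)) (tt N9003 F61856) (tt N10374 D16261) (tt N10153 (iv F63444)) (tt N9001 F61857) (tt N10172 (iv F63542)) (tt N9000 (iv D15620)) (tt N9034 F61858))
theorem Q9735 : ∀ i, i < 9735 → P i := stepQ 9734 Q9734 (allL N9734 (tt N9152 F61859) (tt N10366 (iv F64350)) (tt N9163 F61860) (tt N9001 (iv D15621)) (tt N10375 D16262) (tt N10374 (iv F64383)) (tt N9190 F61861) (tt N10373 (iv F64380)) (tt N9035 F61862))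
theorem Q9736 : ∀ i, i < 9736 → P i := stepQ 9735 Q9735 (allL N9735 (tt N9153 F61863) (tt N10368 (iv F64356)) (tt N10333 (iv F64213)) (tt N10375 (iv F64387)) (tt N9002 (iv D15622)) (tt N10376 D16263) (tt N10363 (iv F64341)) (tt N10358 (iv F64321)) (tt N9036 F61864))
theorem Q9737 : ∀ i, i < 9737 → P i := stepQ 9736 Q9736 (allL N9736 (tt N9090 F61865) (tt N9816 (iv F62181)) (tt N9736 F61866) (tt N9005 F61867) (tt N9609 F61868) (tt N9810 (iv F62164)) (tt N10074 (iv F63142)) (tt N10377 D16264) (tt N9004 (iv D15623)))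
theorem Q9738 : ∀ i, i < 9738 → P i := stepQ 9737 Q9737 (allL N9737 (tt N9092 F61869) (tt N10140 (iv F63365)) (tt N9007 F61870) (tt N10378 D16265) (tt N9006 F61871) (tt N10141 (iv F63375)) (tt N10159 (iv F63476)) (tt N9005 (iv D15624)) (tt N10158 (iv F63470)))
theorem Q9739 : ∀ i, i < 9739 → P i := stepQ 9738 Q9738 (allL N9738 (tt N9093 F61872) (tt N10336 (iv F64228)) (tt N10251 (iv F63880)) (tt N9006 (iv D15625)) (tt N10379 D16266) (tt N9016 F61873) (tt N10160 (iv F63481)) (tt N9612 F61874) (tt N10361 (iv F64333)))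
theorem Q9740 : ∀ i, i < 9740 → P i := stepQ 9739 Q9739 (allL N9739 (tt N9109 F61875) (tt N9063 F61876) (tt N10380 D16267) (tt N9007 (iv D15626)) (tt N9399 F61877) (tt N10194 (iv F63629)) (tt N10161 (iv F63486)) (tt N9739 F61878) (tt N9414 F61879))
theorem Q9741 : ∀ i, i < 9741 → P i := stepQ 9740 Q9740 (allL N9740 (tt N9344 F61880) (tt N9013 F61881) (tt N9740 F61882) (tt N9009 F61883) (tt N9750 (iv F61925)) (tt N10142 (iv F63383)) (tt N9023 F61884) (tt N10381 D16268) (tt N9008 (iv D15627)))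
theorem Q9742 : ∀ i, i < 9742 → P i := stepQ 9741 Q9741 (allL N9741 (tt N9345 F61885) (tt N9015 F61886) (tt N9064 F61887) (tt N10382 D16269) (tt N9010 F61888) (tt N10143 (iv F63389)) (tt N9025 F61889) (tt N9009 (iv D15628)) (tt N9194 F61890))
theorem Q9743 : ∀ i, i < 9743 → P i := stepQ 9742 Q9742 (allL N9742 (tt N9346 F61891) (tt N9016 F61892) (tt N10383 D16270) (tt N9010 (iv D15629)) (tt N10384 D16271) (tt N10336 (iv F64229)) (tt N9026 F61893) (tt N9752 (iv F61935)) (tt N10362 (iv F64337)))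
theorem Q9744 : ∀ i, i < 9744 → P i := stepQ 9743 Q9743 (allL N9743 (tt N9158 F61894) (tt N10142 (iv F63379)) (tt N9043 F61895) (tt N9014 F61896) (tt N10229 (iv F63800)) (tt N9013 F61897) (tt N10147 (iv F63416)) (tt N10385 D16272) (tt N9011 (iv D15630)))
theorem Q9745 : ∀ i, i < 9745 → P i := stepQ 9744 Q9744 (allL N9744 (tt N9159 F61898) (tt N10212 (iv F63728)) (tt N9044 F61899) (tt N9322 F61900) (tt N9889 (iv F62447)) (tt N10209 (iv F63717)) (tt N9031 F61901) (tt N10386 D16273) (tt N9012 (iv D15631)))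
theorem Q9746 : ∀ i, i < 9746 → P i := stepQ 9745 Q9745 (allL N9745 (tt N9160 F61902) (tt N10381 (iv F64403)) (tt N9045 F61903) (tt N10387 D16274) (tt N9890 (iv F62451)) (tt N10385 (iv F64418)) (tt N9032 F61904) (tt N9013 (iv D15632)) (tt N10386 (iv F64422)))
theorem Q9747 : ∀ i, i < 9747 → P i := stepQ 9746 Q9746 (allL N9746 (tt N9162 F61905) (tt N10143 (iv F63386)) (tt N9017 F61906) (tt N10388 D16275) (tt N10141 (iv F63374)) (tt N9015 F61907) (tt N10148 (iv F63422)) (tt N9014 (iv D15633)) (tt N9193 F61908))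
theorem Q9748 : ∀ i, i < 9748 → P i := stepQ 9747 Q9747 (allL N9747 (tt N9163 F61909) (tt N10382 (iv F64407)) (tt N9152 F61910) (tt N9015 (iv D15634)) (tt N10389 D16276) (tt N10388 (iv F64429)) (tt N9035 F61911) (tt N10387 (iv F64426)) (tt N9190 F61912))
theorem Q9749 : ∀ i, i < 9749 → P i := stepQ 9748 Q9748 (allL N9748 (tt N9164 F61913) (tt N10384 (iv F64414)) (tt N10335 (iv F64222)) (tt N10389 (iv F64433)) (tt N9016 (iv D15635)) (tt N10390 D16277) (tt N9036 F61914) (tt N9893 (iv F62460)) (tt N10363 (iv F64342)))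
theorem Q9750 : ∀ i, i < 9750 → P i := stepQ 9749 Q9749 (allL N9749 (tt N9022 F61915) (tt N9167 F61916) (tt N9749 F61917) (tt N9840 (iv F62276)) (tt N9554 F61918) (tt N9576 F61919) (tt N9343 F61920) (tt N9018 (iv D15636)) (tt N10391 D16278))
theorem Q9751 : ∀ i, i < 9751 → P i := stepQ 9750 Q9750 (allL N9750 (tt N9023 F61921) (tt N9168 F61922) (tt N9750 F61923) (tt N9019 F61924) (tt N9740 F61925) (tt N10235 (iv F63826)) (tt N9344 F61926) (tt N10392 D16279) (tt N9018 (iv D15637)))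
theorem Q9752 : ∀ i, i < 9752 → P i := stepQ 9751 Q9751 (allL N9751 (tt N9025 F61927) (tt N9170 F61928) (tt N9068 F61929) (tt N10393 D16280) (tt N9020 F61930) (tt N10240 (iv F63842)) (tt N9345 F61931) (tt N9019 (iv D15638)) (tt N10258 (iv F63918)))
theorem Q9753 : ∀ i, i < 9753 → P i := stepQ 9752 Q9752 (allL N9752 (tt N9026 F61932) (tt N9171 F61933) (tt N10394 D16281) (tt N9020 (iv D15639)) (tt N10395 D16282) (tt N10169 (iv F63527)) (tt N9346 F61934) (tt N9742 F61935) (tt N10364 (iv F64346)))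
theorem Q9754 : ∀ i, i < 9754 → P i := stepQ 9753 Q9753 (allL N9753 (tt N9578 F61936) (tt N9027 F61937) (tt N9753 F61938) (tt N9499 F61939) (tt N9021 (iv D15640)) (tt N9472 F61940) (tt N9754 (iv F61948)) (tt N9471 (iv F61941)) (tt N10396 D16283))
theorem Q9755 : ∀ i, i < 9755 → P i := stepQ 9754 Q9754 (allL N9754 (tt N9576 F61942) (tt N9029 F61943) (tt N9754 F61944) (tt N9728 F61945) (tt N9471 F61946) (tt N9022 F61947) (tt N9753 F61948) (tt N9021 (iv D15641)) (tt N10397 D16284))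
theorem Q9756 : ∀ i, i < 9756 → P i := stepQ 9755 Q9755 (allL N9755 (tt N10235 (iv F63822)) (tt N9030 F61949) (tt N9755 F61950) (tt N9024 F61951) (tt N10396 (iv F64463)) (tt N9023 F61952) (tt N10150 (iv F63432)) (tt N10398 D16285) (tt N9021 (iv D15642)))
theorem Q9757 : ∀ i, i < 9757 → P i := stepQ 9756 Q9756 (allL N9756 (tt N10391 (iv F64437)) (tt N9031 F61953) (tt N9756 F61954) (tt N10214 (iv F63737)) (tt N10027 (iv F62989)) (tt N10397 (iv F64470)) (tt N10212 (iv F63732)) (tt N10399 D16286) (tt N9022 (iv D15643)))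
theorem Q9758 : ∀ i, i < 9758 → P i := stepQ 9757 Q9757 (allL N9757 (tt N10392 (iv F64443)) (tt N9032 F61955) (tt N9757 F61956) (tt N10400 D16287) (tt N10028 (iv F62992)) (tt N10398 (iv F64474)) (tt N10381 (iv F64405)) (tt N9023 (iv D15644)) (tt N10399 (iv F64477)))
theorem Q9759 : ∀ i, i < 9759 → P i := stepQ 9758 Q9758 (allL N9758 (tt N10240 (iv F63838)) (tt N9034 F61957) (tt N9070 F61958) (tt N10401 D16288) (tt N10172 (iv F63540)) (tt N9025 F61959) (tt N10153 (iv F63446)) (tt N9024 (iv D15645)) (tt N10181 (iv F63578)))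
theorem Q9760 : ∀ i, i < 9760 → P i := stepQ 9759 Q9759 (allL N9759 (tt N10393 (iv F64448)) (tt N9035 F61960) (tt N10402 D16289) (tt N9025 (iv D15646)) (tt N10403 D16290) (tt N10401 (iv F64481)) (tt N10382 (iv F64408)) (tt N10400 (iv F64479)) (tt N10366 (iv F64353)))
theorem Q9761 : ∀ i, i < 9761 → P i := stepQ 9760 Q9760 (allL N9760 (tt N10394 (iv F64451)) (tt N10337 (iv F64231)) (tt N9026 (iv D15647)) (tt N9072 F61961) (tt N10404 D16291) (tt N10174 (iv F63549)) (tt N10383 (iv F64412)) (tt N10030 (iv F62995)) (tt N10367 (iv F64355)))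
theorem Q9762 : ∀ i, i < 9762 → P i := stepQ 9761 Q9761 (allL N9761 (tt N10395 (iv F64455)) (tt N9036 F61962) (tt N10404 (iv F64487)) (tt N10403 (iv F64486)) (tt N9026 (iv D15648)) (tt N10405 D16292) (tt N10384 (iv F64415)) (tt N10031 (iv F62997)) (tt N10368 (iv F64357)))
theorem Q9763 : ∀ i, i < 9763 → P i := stepQ 9762 Q9762 (allL N9762 (tt N9182 F61963) (tt N10396 (iv F64460)) (tt N9047 F61964) (tt N10117 (iv F63251)) (tt N9030 F61965) (tt N10032 (iv F63002)) (tt N9764 (iv F61974)) (tt N10406 D16293) (tt N9027 (iv D15649)))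
theorem Q9764 : ∀ i, i < 9764 → P i := stepQ 9763 Q9763 (allL N9763 (tt N9183 F61966) (tt N10150 (iv F63428)) (tt N9048 F61967) (tt N9033 F61968) (tt N9764 (iv F61972)) (tt N10147 (iv F63415)) (tt N9030 F61969) (tt N10407 D16294) (tt N9028 (iv D15650)))
theorem Q9765 : ∀ i, i < 9765 → P i := stepQ 9764 Q9764 (allL N9764 (tt N9184 F61970) (tt N10397 (iv F64466)) (tt N9049 F61971) (tt N10370 (iv F64366)) (tt N9763 F61972) (tt N9031 F61973) (tt N9762 F61974) (tt N10408 D16295) (tt N9029 (iv D15651)))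
theorem Q9766 : ∀ i, i < 9766 → P i := stepQ 9765 Q9765 (allL N9765 (tt N9185 F61975) (tt N10398 (iv F64472)) (tt N9050 F61976) (tt N10409 D16296) (tt N10406 (iv F64491)) (tt N9032 F61977) (tt N10407 (iv F64494)) (tt N9030 (iv D15652)) (tt N10408 (iv F64501)))
theorem Q9767 : ∀ i, i < 9767 → P i := stepQ 9766 Q9766 (allL N9766 (tt N9186 F61978) (tt N10399 (iv F64475)) (tt N9051 F61979) (tt N10410 D16297) (tt N10035 (iv F63011)) (tt N10408 (iv F64499)) (tt N10386 (iv F64421)) (tt N9031 (iv D15653)) (tt N9032 F61980))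
theorem Q9768 : ∀ i, i < 9768 → P i := stepQ 9767 Q9767 (allL N9767 (tt N9187 F61981) (tt N10400 (iv F64478)) (tt N10411 D16298) (tt N9032 (iv D15654)) (tt N10412 D16299) (tt N10409 (iv F64503)) (tt N10387 (iv F64425)) (tt N9035 F61982) (tt N10410 (iv F64506)))
theorem Q9769 : ∀ i, i < 9769 → P i := stepQ 9768 Q9768 (allL N9768 (tt N9188 F61983) (tt N10153 (iv F63442)) (tt N9037 F61984) (tt N10413 D16300) (tt N10181 (iv F63575)) (tt N10148 (iv F63421)) (tt N9034 F61985) (tt N9033 (iv D15655)) (tt N10172 (iv F63543)))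
theorem Q9770 : ∀ i, i < 9770 → P i := stepQ 9769 Q9769 (allL N9769 (tt N9189 F61986) (tt N10401 (iv F64480)) (tt N10414 D16301) (tt N9034 (iv D15656)) (tt N10415 D16302) (tt N9035 F61987) (tt N10413 (iv F64515)) (tt N10409 (iv F64504)) (tt N10374 (iv F64384)))
theorem Q9771 : ∀ i, i < 9771 → P i := stepQ 9770 Q9770 (allL N9770 (tt N9190 F61988) (tt N9397 (iv F61992)) (tt N9035 (iv D15657)) (tt N9039 F61989) (tt N10416 D16303) (tt N10414 (iv F64518)) (tt N9152 F61990) (tt N10411 (iv F64510)) (tt N9163 F61991))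
theorem Q9772 : ∀ i, i < 9772 → P i := stepQ 9771 Q9771 (allL N9771 (tt N9191 F61993) (tt N10403 (iv F64485)) (tt N10416 (iv F64524)) (tt N9036 F61994) (tt N9035 (iv D15658)) (tt N10417 D16304) (tt N10389 (iv F64434)) (tt N10412 (iv F64513)) (tt N10375 (iv F64389)))
theorem Q9773 : ∀ i, i < 9773 → P i := stepQ 9772 Q9772 (allL N9772 (tt N9192 F61995) (tt N10405 (iv F64488)) (tt N10341 (iv F64248)) (tt N10417 (iv F64529)) (tt N10185 (iv F63587)) (tt N9036 (iv D15659)) (tt N10418 D16305) (tt N10040 (iv F63022)) (tt N10376 (iv F64391)))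
theorem Q9774 : ∀ i, i < 9774 → P i := stepQ 9773 Q9773 (allL N9773 (tt N9193 F61996) (tt N9396 F61997) (tt N9038 (iv D15660)) (tt N10414 (iv F64517)) (tt N10162 (iv F63492)) (tt N9039 F61998) (tt N10168 (iv F63523)) (tt N9057 F61999) (tt N9162 F62000))
theorem Q9775 : ∀ i, i < 9775 → P i := stepQ 9774 Q9774 (allL N9774 (tt N9195 F62001) (tt N9774 F62002) (tt N10229 (iv F63798)) (tt N9774 F62003) (tt N9043 F62004) (tt N9957 (iv F62693)) (tt N9359 F62005) (tt N10419 D16306) (tt N9040 (iv D15661)))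
theorem Q9776 : ∀ i, i < 9776 → P i := stepQ 9775 Q9775 (allL N9775 (tt N9196 F62006) (tt N9775 F62007) (tt N10147 (iv F63412)) (tt N9046 F62008) (tt N9359 F62009) (tt N9048 F62010) (tt N9043 F62011) (tt N10420 D16307) (tt N9041 (iv D15662)))
theorem Q9777 : ∀ i, i < 9777 → P i := stepQ 9776 Q9776 (allL N9776 (tt N9197 F62012) (tt N9776 F62013) (tt N10209 (iv F63714)) (tt N9304 F62014) (tt N9358 F62015) (tt N9044 F62016) (tt N9357 F62017) (tt N10421 D16308) (tt N9042 (iv D15663)))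
theorem Q9778 : ∀ i, i < 9778 → P i := stepQ 9777 Q9777 (allL N9777 (tt N9198 F62018) (tt N9777 F62019) (tt N10385 (iv F64417)) (tt N9320 F62020) (tt N10419 (iv F64533)) (tt N9045 F62021) (tt N10420 (iv F64541)) (tt N9043 (iv D15664)) (tt N10421 (iv F64549)))
theorem Q9779 : ∀ i, i < 9779 → P i := stepQ 9778 Q9778 (allL N9778 (tt N9199 F62022) (tt N9778 F62023) (tt N10386 (iv F64420)) (tt N9321 F62024) (tt N9961 (iv F62710)) (tt N10421 (iv F64547)) (tt N9051 F62025) (tt N9044 (iv D15665)) (tt N9045 F62026))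
theorem Q9780 : ∀ i, i < 9780 → P i := stepQ 9779 Q9779 (allL N9779 (tt N9204 F62027) (tt N9779 F62028) (tt N10406 (iv F64490)) (tt N9823 (iv F62200)) (tt N9050 F62029) (tt N10043 (iv F63032)) (tt N9781 (iv F62038)) (tt N9047 (iv D15666)) (tt N9780 (iv F62033)))
theorem Q9781 : ∀ i, i < 9781 → P i := stepQ 9780 Q9780 (allL N9780 (tt N9205 F62030) (tt N9780 F62031) (tt N10407 (iv F64493)) (tt N10422 D16309) (tt N9781 (iv F62036)) (tt N10420 (iv F64540)) (tt N9050 F62032) (tt N9048 (iv D15667)) (tt N9779 F62033))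
theorem Q9782 : ∀ i, i < 9782 → P i := stepQ 9781 Q9781 (allL N9781 (tt N9206 F62034) (tt N9781 F62035) (tt N10408 (iv F64497)) (tt N10329 (iv F64189)) (tt N9780 F62036) (tt N9051 F62037) (tt N9779 F62038) (tt N9049 (iv D15668)) (tt N9050 F62039))
theorem Q9783 : ∀ i, i < 9783 → P i := stepQ 9782 Q9782 (allL N9782 (tt N9207 F62040) (tt N9782 F62041) (tt N10423 D16310) (tt N9050 (iv D15669)) (tt N9704 (iv F62044)) (tt N9052 F62042) (tt N10422 (iv F64554)) (tt N9054 F62043) (tt N10329 (iv F64193)))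
theorem Q9784 : ∀ i, i < 9784 → P i := stepQ 9783 Q9783 (allL N9783 (tt N9208 F62045) (tt N9783 F62046) (tt N10424 D16311) (tt N9051 (iv D15670)) (tt N10425 D16312) (tt N10329 (iv F64191)) (tt N9321 F62047) (tt N9305 F62048) (tt N9052 F62049))
theorem Q9785 : ∀ i, i < 9785 → P i := stepQ 9784 Q9784 (allL N9784 (tt N9209 F62050) (tt N9395 (iv F62053)) (tt N9052 (iv D15671)) (tt N10411 (iv F64508)) (tt N10426 D16313) (tt N10423 (iv F64559)) (tt N9149 F62051) (tt N9055 F62052) (tt N10424 (iv F64565)))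
theorem Q9786 : ∀ i, i < 9786 → P i := stepQ 9785 Q9785 (allL N9785 (tt N9210 F62054) (tt N9785 F62055) (tt N10426 (iv F64575)) (tt N10049 (iv F63053)) (tt N9052 (iv D15672)) (tt N9708 F62056) (tt N9312 F62057) (tt N9056 F62058) (tt N10425 (iv F64572)))
theorem Q9787 : ∀ i, i < 9787 → P i := stepQ 9786 Q9786 (allL N9786 (tt N9211 F62059) (tt N9786 F62060) (tt N10167 (iv F63513)) (tt N9053 (iv D15673)) (tt N9104 F62061) (tt N9318 F62062) (tt N9054 F62063) (tt N10422 (iv F64555)) (tt N9102 F62064))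
theorem Q9788 : ∀ i, i < 9788 → P i := stepQ 9787 Q9787 (allL N9787 (tt N9212 F62065) (tt N9393 (iv F62070)) (tt N9054 (iv D15674)) (tt N9057 F62066) (tt N9703 F62067) (tt N9055 F62068) (tt N10167 (iv F63517)) (tt N10423 (iv F64560)) (tt N9132 F62069))
theorem Q9789 : ∀ i, i < 9789 → P i := stepQ 9788 Q9788 (allL N9788 (tt N9214 F62071) (tt N9383 F62072) (tt N9056 F62073) (tt N9113 F62074) (tt N9055 (iv D15675)) (tt N9706 F62075) (tt N9124 F62076) (tt N10426 (iv F64578)) (tt N9112 F62077))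
theorem Q9790 : ∀ i, i < 9790 → P i := stepQ 9789 Q9789 (allL N9789 (tt N9369 F62078) (tt N9059 F62079) (tt N10427 D16314) (tt N9058 (iv D15676)) (tt N10322 (iv F64151)) (tt N10161 (iv F63485)) (tt N9062 F62080) (tt N9789 F62081) (tt N9065 F62082))
theorem Q9791 : ∀ i, i < 9791 → P i := stepQ 9790 Q9790 (allL N9790 (tt N9062 F62083) (tt N9079 F62084) (tt N10428 D16315) (tt N9060 (iv D15677)) (tt N10319 (iv F64131)) (tt N10195 (iv F63636)) (tt N9369 F62085) (tt N9790 F62086) (tt N9069 F62087))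
theorem Q9792 : ∀ i, i < 9792 → P i := stepQ 9791 Q9791 (allL N9791 (tt N10428 (iv F64584)) (tt N10250 (iv F63873)) (tt N9062 (iv D15678)) (tt N10367 (iv F64354)) (tt N10328 (iv F64184)) (tt N10196 (iv F63641)) (tt N10427 (iv F64581)) (tt N9791 F62088) (tt N9072 F62089))
theorem Q9793 : ∀ i, i < 9793 → P i := stepQ 9792 Q9792 (allL N9792 (tt N9372 F62090) (tt N9066 F62091) (tt N10429 D16316) (tt N9064 (iv D15679)) (tt N10317 (iv F64118)) (tt N10145 (iv F63399)) (tt N9071 F62092) (tt N9792 F62093) (tt N9226 F62094))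
theorem Q9794 : ∀ i, i < 9794 → P i := stepQ 9793 Q9793 (allL N9793 (tt N9373 F62095) (tt N10342 (iv F64252)) (tt N9065 (iv D15680)) (tt N10383 (iv F64411)) (tt N10430 D16317) (tt N10343 (iv F64259)) (tt N9072 F62096) (tt N9075 F62097) (tt N10427 (iv F64583)))
theorem Q9795 : ∀ i, i < 9795 → P i := stepQ 9794 Q9794 (allL N9794 (tt N9374 F62098) (tt N9067 F62099) (tt N10430 (iv F64595)) (tt N10317 (iv F64117)) (tt N9065 (iv D15681)) (tt N9378 F62100) (tt N9073 F62101) (tt N9076 F62102) (tt N10322 (iv F64155)))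
theorem Q9796 : ∀ i, i < 9796 → P i := stepQ 9795 Q9795 (allL N9795 (tt N9071 F62103) (tt N9080 F62104) (tt N10431 D16318) (tt N9068 (iv D15682)) (tt N10320 (iv F64138)) (tt N10197 F63650) (tt N9372 F62105) (tt N9795 F62106) (tt N9435 F62107))
theorem Q9797 : ∀ i, i < 9797 → P i := stepQ 9796 Q9796 (allL N9796 (tt N9072 F62108) (tt N10199 (iv F63658)) (tt N9069 (iv D15683)) (tt N10394 (iv F64452)) (tt N10297 (iv F64032)) (tt N10200 (iv F63666)) (tt N9373 F62109) (tt N9077 F62110) (tt N10428 (iv F64587)))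
theorem Q9798 : ∀ i, i < 9798 → P i := stepQ 9797 Q9797 (allL N9797 (tt N10197 (iv F63644)) (tt N9074 F62111) (tt N10432 D16319) (tt N9070 (iv D15684)) (tt N10195 (iv F63635)) (tt N9071 F62112) (tt N10156 (iv F63457)) (tt N9797 F62113) (tt N9434 F62114))
theorem Q9799 : ∀ i, i < 9799 → P i := stepQ 9798 Q9798 (allL N9798 (tt N10431 (iv F64599)) (tt N9400 F62115) (tt N9071 (iv D15685)) (tt N10402 (iv F64483)) (tt N10246 (iv F63858)) (tt N10432 (iv F64604)) (tt N10429 (iv F64590)) (tt N9798 F62116) (tt N9415 F62117))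
theorem Q9800 : ∀ i, i < 9800 → P i := stepQ 9799 Q9799 (allL N9799 (tt N10297 F64036) (tt N10318 (iv F64124)) (tt N9073 F62118) (tt N10433 D16320) (tt N9072 (iv D15686)) (tt N10298 (iv F64039)) (tt N10430 (iv F64597)) (tt N9078 F62119) (tt N10328 (iv F64186)))
theorem Q9801 : ∀ i, i < 9801 → P i := stepQ 9800 Q9800 (allL N9800 (tt N9380 F62120) (tt N9367 F62121) (tt N9076 F62122) (tt N10434 D16321) (tt N9075 (iv D15687)) (tt N9368 F62123) (tt N9078 F62124) (tt N10430 (iv F64598)) (tt N9800 F62125))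
theorem Q9802 : ∀ i, i < 9802 → P i := stepQ 9801 Q9801 (allL N9801 (tt N10314 F64107) (tt N10344 (iv F64263)) (tt N9801 F62126) (tt N9078 (iv D15688)) (tt N10063 (iv F63099)) (tt N10315 (iv F64110)) (tt N10434 (iv F64612)) (tt N10435 D16322) (tt N9801 F62127))
theorem Q9803 : ∀ i, i < 9803 → P i := stepQ 9802 Q9802 (allL N9802 (tt N10345 (iv F64268)) (tt N9083 F62128) (tt N9111 F62129) (tt N10436 D16323) (tt N9929 (iv F62572)) (tt N9114 F62130) (tt N10204 (iv F63691)) (tt N9081 (iv D15689)) (tt N9553 F62131))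
theorem Q9804 : ∀ i, i < 9804 → P i := stepQ 9803 Q9803 (allL N9803 (tt N9599 F62132) (tt N9929 (iv F62571)) (tt N9084 F62133) (tt N10437 D16324) (tt N9083 F62134) (tt N9932 (iv F62582)) (tt N9502 F62135) (tt N9082 (iv D15690)) (tt N9558 F62136))
theorem Q9805 : ∀ i, i < 9805 → P i := stepQ 9804 Q9804 (allL N9804 (tt N10332 (iv F64206)) (tt N10436 (iv F64615)) (tt N9128 F62137) (tt N9083 (iv D15691)) (tt N10438 D16325) (tt N9387 F62138) (tt N10339 (iv F64239)) (tt N9086 F62139) (tt N9559 F62140))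
theorem Q9806 : ∀ i, i < 9806 → P i := stepQ 9805 Q9805 (allL N9805 (tt N9638 F62141) (tt N9232 F62142) (tt N10439 D16326) (tt N9084 (iv D15692)) (tt N9131 F62143) (tt N9981 (iv F62794)) (tt N9515 F62144) (tt N9306 F62145) (tt N9562 F62146))
theorem Q9807 : ∀ i, i < 9807 → P i := stepQ 9806 Q9806 (allL N9806 (tt N10361 (iv F64330)) (tt N9086 F62147) (tt N10222 (iv F63766)) (tt N9085 (iv D15693)) (tt N10440 D16327) (tt N9134 F62148) (tt N10221 (iv F63762)) (tt N10436 (iv F64617)) (tt N9093 F62149))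
theorem Q9808 : ∀ i, i < 9808 → P i := stepQ 9807 Q9807 (allL N9807 (tt N10333 (iv F64212)) (tt N10440 (iv F64631)) (tt N9153 F62150) (tt N10335 (iv F64223)) (tt N9086 (iv D15694)) (tt N10441 D16328) (tt N10340 (iv F64245)) (tt N10438 (iv F64624)) (tt N9101 F62151))
theorem Q9809 : ∀ i, i < 9809 → P i := stepQ 9808 Q9808 (allL N9808 (tt N10335 (iv F64221)) (tt N10249 (iv F63870)) (tt N9164 F62152) (tt N10333 (iv F64214)) (tt N9087 (iv D15695)) (tt N10442 D16329) (tt N9101 F62153) (tt N9603 F62154) (tt N10340 (iv F64246)))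
theorem Q9810 : ∀ i, i < 9810 → P i := stepQ 9809 Q9809 (allL N9809 (tt N9810 (iv F62159)) (tt N9096 F62155) (tt N9809 F62156) (tt N9091 F62157) (tt N10267 (iv F63954)) (tt N9090 F62158) (tt N10131 (iv F63320)) (tt N10443 D16330) (tt N9088 (iv D15696)))
theorem Q9811 : ∀ i, i < 9811 → P i := stepQ 9810 Q9810 (allL N9810 (tt N9809 F62159) (tt N9097 F62160) (tt N9810 F62161) (tt N9462 F62162) (tt N9617 F62163) (tt N9736 F62164) (tt N9453 F62165) (tt N10444 D16331) (tt N9089 (iv D15697)))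
theorem Q9812 : ∀ i, i < 9812 → P i := stepQ 9811 Q9811 (allL N9811 (tt N10377 (iv F64392)) (tt N9098 F62166) (tt N9811 F62167) (tt N10445 D16332) (tt N9618 F62168) (tt N10443 (iv F64640)) (tt N10247 (iv F63864)) (tt N9090 (iv D15698)) (tt N10444 (iv F64648)))
theorem Q9813 : ∀ i, i < 9813 → P i := stepQ 9812 Q9812 (allL N9812 (tt N10141 (iv F63371)) (tt N9099 F62169) (tt N9108 F62170) (tt N10446 D16333) (tt N9162 F62171) (tt N9092 F62172) (tt N10146 (iv F63408)) (tt N9091 (iv D15699)) (tt N10162 (iv F63495)))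
theorem Q9814 : ∀ i, i < 9814 → P i := stepQ 9813 Q9813 (allL N9813 (tt N10378 (iv F64395)) (tt N9100 F62173) (tt N10447 D16334) (tt N9092 (iv D15700)) (tt N10448 D16335) (tt N10446 (iv F64652)) (tt N10248 (iv F63868)) (tt N10445 (iv F64650)) (tt N10334 (iv F64220)))
theorem Q9815 : ∀ i, i < 9815 → P i := stepQ 9814 Q9814 (allL N9814 (tt N10379 (iv F64396)) (tt N9101 F62174) (tt N10254 (iv F63897)) (tt N10448 (iv F64655)) (tt N9093 (iv D15701)) (tt N10449 D16336) (tt N10249 (iv F63872)) (tt N9622 F62175) (tt N10440 (iv F64632)))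
theorem Q9816 : ∀ i, i < 9816 → P i := stepQ 9815 Q9815 (allL N9815 (tt N9934 (iv F62587)) (tt N10267 (iv F63951)) (tt N9103 F62176) (tt N9401 F62177) (tt N9096 F62178) (tt N9623 F62179) (tt N10207 (iv F63707)) (tt N10450 D16337) (tt N9094 (iv D15702)))
theorem Q9817 : ∀ i, i < 9817 → P i := stepQ 9816 Q9816 (allL N9816 (tt N9545 F62180) (tt N9736 F62181) (tt N9104 F62182) (tt N9460 F62183) (tt N10167 (iv F63515)) (tt N9097 F62184) (tt N9703 F62185) (tt N10451 D16338) (tt N9095 (iv D15703)))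
theorem Q9818 : ∀ i, i < 9818 → P i := stepQ 9817 Q9817 (allL N9817 (tt N10205 (iv F63692)) (tt N10443 (iv F64638)) (tt N9105 F62186) (tt N10452 D16339) (tt N10450 (iv F64660)) (tt N9098 F62187) (tt N10208 (iv F63711)) (tt N9096 (iv D15704)) (tt N10451 (iv F64667)))
theorem Q9819 : ∀ i, i < 9819 → P i := stepQ 9818 Q9818 (allL N9818 (tt N9548 F62188) (tt N10444 (iv F64643)) (tt N9106 F62189) (tt N10453 D16340) (tt N9627 F62190) (tt N10451 (iv F64665)) (tt N9457 F62191) (tt N9097 (iv D15705)) (tt N9098 F62192))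
theorem Q9820 : ∀ i, i < 9820 → P i := stepQ 9819 Q9819 (allL N9819 (tt N10339 (iv F64237)) (tt N10445 (iv F64649)) (tt N10348 (iv F64281)) (tt N9098 (iv D15706)) (tt N10454 D16341) (tt N10452 (iv F64668)) (tt N10332 (iv F64209)) (tt N9100 F62193) (tt N10453 (iv F64673)))
theorem Q9821 : ∀ i, i < 9821 → P i := stepQ 9820 Q9820 (allL N9820 (tt N10222 (iv F63764)) (tt N10446 (iv F64651)) (tt N10361 (iv F64331)) (tt N9099 (iv D15707)) (tt N10455 D16342) (tt N9100 F62194) (tt N10227 (iv F63788)) (tt N10452 (iv F64669)) (tt N10251 (iv F63884)))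
theorem Q9822 : ∀ i, i < 9822 → P i := stepQ 9821 Q9821 (allL N9821 (tt N10340 (iv F64242)) (tt N10448 (iv F64654)) (tt N10363 (iv F64339)) (tt N9101 F62195) (tt N9100 (iv D15708)) (tt N10456 D16343) (tt N10333 (iv F64215)) (tt N10454 (iv F64675)) (tt N10335 (iv F64226)))
theorem Q9823 : ∀ i, i < 9823 → P i := stepQ 9822 Q9822 (allL N9822 (tt N10341 (iv F64247)) (tt N10449 (iv F64656)) (tt N9192 F62196) (tt N10456 (iv F64677)) (tt N9411 F62197) (tt N9101 (iv D15709)) (tt N10457 D16344) (tt N9633 F62198) (tt N10441 (iv F64635)))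
theorem Q9824 : ∀ i, i < 9824 → P i := stepQ 9823 Q9823 (allL N9823 (tt N9927 (iv F62561)) (tt N9823 F62199) (tt N10450 (iv F64659)) (tt N9779 F62200) (tt N9105 F62201) (tt N9644 F62202) (tt N10329 (iv F64192)) (tt N9103 (iv D15710)) (tt N10422 (iv F64556)))
theorem Q9825 : ∀ i, i < 9825 → P i := stepQ 9824 Q9824 (allL N9824 (tt N9546 F62203) (tt N9824 F62204) (tt N10451 (iv F64664)) (tt N9683 F62205) (tt N10422 (iv F64552)) (tt N9106 F62206) (tt N9704 F62207) (tt N9104 (iv D15711)) (tt N9105 F62208))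
theorem Q9826 : ∀ i, i < 9826 → P i := stepQ 9825 Q9825 (allL N9825 (tt N10194 (iv F63626)) (tt N9110 F62209) (tt N10458 D16345) (tt N9108 (iv D15712)) (tt N10156 (iv F63455)) (tt N9109 F62210) (tt N10195 (iv F63637)) (tt N9825 F62211) (tt N10118 F63261))
theorem Q9827 : ∀ i, i < 9827 → P i := stepQ 9826 Q9826 (allL N9826 (tt N10380 (iv F64398)) (tt N10427 (iv F64580)) (tt N9109 (iv D15713)) (tt N10447 (iv F64653)) (tt N10321 (iv F64144)) (tt N10458 (iv F64681)) (tt N10250 (iv F63876)) (tt N9826 F62212) (tt N10342 (iv F64256)))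
theorem Q9828 : ∀ i, i < 9828 → P i := stepQ 9827 Q9827 (allL N9827 (tt N9119 F62213) (tt N9382 F62214) (tt N9234 F62215) (tt N9835 (iv F62252)) (tt N9133 F62216) (tt N9116 F62217) (tt N9123 F62218) (tt N9112 (iv D15714)) (tt N10459 D16346))
theorem Q9829 : ∀ i, i < 9829 → P i := stepQ 9828 Q9828 (allL N9828 (tt N10347 (iv F64276)) (tt N9386 F62219) (tt N9115 F62220) (tt N10460 D16347) (tt N9114 F62221) (tt N9933 (iv F62585)) (tt N9127 F62222) (tt N9113 (iv D15715)) (tt N9838 (iv F62269)))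
theorem Q9830 : ∀ i, i < 9830 → P i := stepQ 9829 Q9829 (allL N9829 (tt N10348 (iv F64280)) (tt N9387 F62223) (tt N10339 (iv F64238)) (tt N9114 (iv D15716)) (tt N10461 D16348) (tt N10436 (iv F64616)) (tt N9128 F62224) (tt N9134 F62225) (tt N9839 (iv F62273)))
theorem Q9831 : ∀ i, i < 9831 → P i := stepQ 9830 Q9830 (allL N9830 (tt N9650 F62226) (tt N9233 F62227) (tt N10462 D16349) (tt N9115 (iv D15717)) (tt N9515 F62228) (tt N9422 F62229) (tt N9131 F62230) (tt N9307 F62231) (tt N9950 (iv F62664)))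
theorem Q9832 : ∀ i, i < 9832 → P i := stepQ 9831 Q9831 (allL N9831 (tt N9118 F62232) (tt N9841 (iv F62281)) (tt N9831 F62233) (tt N9116 (iv D15718)) (tt N9135 F62234) (tt N9835 (iv F62254)) (tt N9331 F62235) (tt N9834 F62248) (tt N10463 D16350))
theorem Q9833 : ∀ i, i < 9833 → P i := stepQ 9832 Q9832 (allL N9832 (tt N9120 F62236) (tt N10349 (iv F64285)) (tt N9235 F62237) (tt N10463 (iv F64701)) (tt N9117 F62238) (tt N10459 (iv F64687)) (tt N9333 F62239) (tt N10464 D16351) (tt N9116 (iv D15719)))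
theorem Q9834 : ∀ i, i < 9834 → P i := stepQ 9833 Q9833 (allL N9833 (tt N9121 F62240) (tt N10350 (iv F64291)) (tt N9236 F62241) (tt N10465 D16352) (tt N10464 (iv F64706)) (tt N10208 (iv F63710)) (tt N9334 F62242) (tt N9117 (iv D15720)) (tt N9707 F62243))
theorem Q9835 : ∀ i, i < 9835 → P i := stepQ 9834 Q9834 (allL N9834 (tt N9835 (iv F62249)) (tt N9122 F62244) (tt N9834 F62245) (tt N9119 F62246) (tt N9854 (iv F62321)) (tt N9118 (iv D15721)) (tt N9711 F62247) (tt N9831 (iv F62248)) (tt N10466 D16353))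
theorem Q9836 : ∀ i, i < 9836 → P i := stepQ 9835 Q9835 (allL N9835 (tt N9834 F62249) (tt N9123 F62250) (tt N9835 F62251) (tt N9827 F62252) (tt N9139 F62253) (tt N9831 F62254) (tt N9382 F62255) (tt N9118 (iv D15722)) (tt N10467 D16354))
theorem Q9837 : ∀ i, i < 9837 → P i := stepQ 9836 Q9836 (allL N9836 (tt N10463 (iv F64699)) (tt N9124 F62256) (tt N9836 F62257) (tt N9120 F62258) (tt N9140 F62259) (tt N10466 (iv F64717)) (tt N9383 F62260) (tt N10468 D16355) (tt N9118 (iv D15723)))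
theorem Q9838 : ∀ i, i < 9838 → P i := stepQ 9837 Q9837 (allL N9837 (tt N10459 (iv F64683)) (tt N9126 F62261) (tt N9238 F62262) (tt N10466 (iv F64716)) (tt N9322 F62263) (tt N9120 F62264) (tt N10354 (iv F64311)) (tt N10469 D16356) (tt N9119 (iv D15724)))
theorem Q9839 : ∀ i, i < 9839 → P i := stepQ 9838 Q9838 (allL N9838 (tt N10464 (iv F64704)) (tt N9127 F62265) (tt N9239 F62266) (tt N10470 D16357) (tt N9121 F62267) (tt N10469 (iv F64733)) (tt N9386 F62268) (tt N9120 (iv D15725)) (tt N9828 F62269))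
theorem Q9840 : ∀ i, i < 9840 → P i := stepQ 9839 Q9839 (allL N9839 (tt N10465 (iv F64709)) (tt N9128 F62270) (tt N10206 (iv F63698)) (tt N9121 (iv D15726)) (tt N10471 D16358) (tt N10211 (iv F63725)) (tt N9387 F62271) (tt N9143 F62272) (tt N9829 F62273))
theorem Q9841 : ∀ i, i < 9841 → P i := stepQ 9840 Q9840 (allL N9840 (tt N9556 F62274) (tt N9854 (iv F62318)) (tt N9308 F62275) (tt N9749 F62276) (tt N9122 (iv D15727)) (tt N9144 F62277) (tt N9455 F62278) (tt N9597 (iv F62279)) (tt N10472 D16359))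
theorem Q9842 : ∀ i, i < 9842 → P i := stepQ 9841 Q9841 (allL N9841 (tt N9384 F62280) (tt N9831 F62281) (tt N9309 F62282) (tt N9709 F62283) (tt N9597 F62284) (tt N9123 F62285) (tt N9332 F62286) (tt N9122 (iv D15728)) (tt N10473 D16360))
theorem Q9843 : ∀ i, i < 9843 → P i := stepQ 9842 Q9842 (allL N9842 (tt N9845 (iv F62295)) (tt N10466 (iv F64714)) (tt N9310 F62287) (tt N9126 F62288) (tt N10472 (iv F64745)) (tt N9124 F62289) (tt N9716 F62290) (tt N10474 D16361) (tt N9122 (iv D15729)))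
theorem Q9844 : ∀ i, i < 9844 → P i := stepQ 9843 Q9843 (allL N9843 (tt N10354 (iv F64305)) (tt N10467 (iv F64720)) (tt N9311 F62291) (tt N10065 (iv F63109)) (tt N9148 F62292) (tt N10473 (iv F64753)) (tt N10459 (iv F64688)) (tt N10475 D16362) (tt N9123 (iv D15730)))
theorem Q9845 : ∀ i, i < 9845 → P i := stepQ 9844 Q9844 (allL N9844 (tt N10355 (iv F64312)) (tt N10468 (iv F64726)) (tt N9312 F62293) (tt N10476 D16363) (tt N9149 F62294) (tt N10474 (iv F64756)) (tt N10426 (iv F64577)) (tt N9124 (iv D15731)) (tt N10475 (iv F64760)))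
theorem Q9846 : ∀ i, i < 9846 → P i := stepQ 9845 Q9845 (allL N9845 (tt N9842 F62295) (tt N10354 (iv F64306)) (tt N9129 F62296) (tt N9716 F62297) (tt N10214 (iv F63738)) (tt N9715 F62298) (tt N9126 F62299) (tt N10477 D16364) (tt N9125 (iv D15732)))
theorem Q9847 : ∀ i, i < 9847 → P i := stepQ 9846 Q9846 (allL N9846 (tt N10356 (iv F64316)) (tt N10469 (iv F64730)) (tt N9130 F62300) (tt N10478 D16365) (tt N10215 (iv F63742)) (tt N9127 F62301) (tt N10477 (iv F64765)) (tt N9126 (iv D15733)) (tt N10068 (iv F63122)))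
theorem Q9848 : ∀ i, i < 9848 → P i := stepQ 9847 Q9847 (allL N9847 (tt N10357 (iv F64319)) (tt N10470 (iv F64735)) (tt N10479 D16366) (tt N9127 (iv D15734)) (tt N10480 D16367) (tt N10478 (iv F64766)) (tt N10460 (iv F64690)) (tt N10476 (iv F64761)) (tt N10069 (iv F63123)))
theorem Q9849 : ∀ i, i < 9849 → P i := stepQ 9848 Q9848 (allL N9848 (tt N10358 (iv F64320)) (tt N10471 (iv F64738)) (tt N10438 (iv F64623)) (tt N10480 (iv F64768)) (tt N9128 (iv D15735)) (tt N10481 D16368) (tt N10461 (iv F64692)) (tt N9153 F62302) (tt N10070 (iv F63125)))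
theorem Q9850 : ∀ i, i < 9850 → P i := stepQ 9849 Q9849 (allL N9849 (tt N9999 (iv F62884)) (tt N9243 F62303) (tt N10477 (iv F64763)) (tt N10482 D16369) (tt N10218 (iv F63748)) (tt N9924 F62548) (tt N9130 F62304) (tt N9129 (iv D15736)) (tt N10071 (iv F63129)))
theorem Q9851 : ∀ i, i < 9851 → P i := stepQ 9850 Q9850 (allL N9850 (tt N10359 (iv F64322)) (tt N9244 F62305) (tt N10483 D16370) (tt N9130 (iv D15737)) (tt N10484 D16371) (tt N9131 F62306) (tt N10482 (iv F64772)) (tt N9315 F62307) (tt N10072 (iv F63133)))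
theorem Q9852 : ∀ i, i < 9852 → P i := stepQ 9851 Q9851 (allL N9851 (tt N10360 (iv F64326)) (tt N10485 D16372) (tt N9131 (iv D15738)) (tt N10479 (iv F64767)) (tt N10439 (iv F64627)) (tt N10483 (iv F64774)) (tt N10462 (iv F64697)) (tt N9316 F62308) (tt N10073 (iv F63135)))
theorem Q9853 : ∀ i, i < 9853 → P i := stepQ 9852 Q9852 (allL N9852 (tt N9322 F62309) (tt N9394 F62310) (tt N9305 F62311) (tt N9159 F62312) (tt N10459 (iv F64686)) (tt N10207 (iv F63706)) (tt N9148 F62313) (tt N10424 (iv F64564)) (tt N9133 (iv D15739)))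
theorem Q9854 : ∀ i, i < 9854 → P i := stepQ 9853 Q9853 (allL N9853 (tt N10363 (iv F64338)) (tt N9398 F62314) (tt N10340 (iv F64243)) (tt N10416 (iv F64525)) (tt N9134 (iv D15740)) (tt N10486 D16373) (tt N9153 F62315) (tt N10461 (iv F64693)) (tt N9164 F62316))
theorem Q9855 : ∀ i, i < 9855 → P i := stepQ 9854 Q9854 (allL N9854 (tt N9139 F62317) (tt N9840 F62318) (tt N9854 F62319) (tt N9167 F62320) (tt N9834 F62321) (tt N9858 (iv F62337)) (tt N9338 F62322) (tt N9135 (iv D15741)) (tt N10487 D16374))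
theorem Q9856 : ∀ i, i < 9856 → P i := stepQ 9855 Q9855 (allL N9855 (tt N9140 F62323) (tt N10255 (iv F63901)) (tt N9855 F62324) (tt N9136 F62325) (tt N10463 (iv F64702)) (tt N10273 (iv F63979)) (tt N9339 F62326) (tt N10488 D16375) (tt N9135 (iv D15742)))
theorem Q9857 : ∀ i, i < 9857 → P i := stepQ 9856 Q9856 (allL N9856 (tt N9142 F62327) (tt N10258 (iv F63913)) (tt N9216 F62328) (tt N10489 D16376) (tt N9137 F62329) (tt N10278 (iv F63998)) (tt N9340 F62330) (tt N9136 (iv D15743)) (tt N9170 F62331))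
theorem Q9858 : ∀ i, i < 9858 → P i := stepQ 9857 Q9857 (allL N9857 (tt N9143 F62332) (tt N10364 (iv F64344)) (tt N10144 (iv F63393)) (tt N9137 (iv D15744)) (tt N10490 D16377) (tt N10227 (iv F63787)) (tt N9341 F62333) (tt N10465 (iv F64712)) (tt N9171 F62334))
theorem Q9859 : ∀ i, i < 9859 → P i := stepQ 9858 Q9858 (allL N9858 (tt N9859 (iv F62340)) (tt N9144 F62335) (tt N9858 F62336) (tt N9887 (iv F62437)) (tt N9138 (iv D15745)) (tt N9854 F62337) (tt N9615 F62338) (tt N9614 (iv F62339)) (tt N10491 D16378))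
theorem Q9860 : ∀ i, i < 9860 → P i := stepQ 9859 Q9859 (allL N9859 (tt N9858 F62340) (tt N9146 F62341) (tt N9859 F62342) (tt N9174 F62343) (tt N9614 F62344) (tt N9139 F62345) (tt N9613 F62346) (tt N9138 (iv D15746)) (tt N10492 D16379))
theorem Q9861 : ∀ i, i < 9861 → P i := stepQ 9860 Q9860 (allL N9860 (tt N10273 (iv F63975)) (tt N9147 F62347) (tt N9860 F62348) (tt N9141 F62349) (tt N10491 (iv F64799)) (tt N9140 F62350) (tt N10266 (iv F63949)) (tt N10493 D16380) (tt N9138 (iv D15747)))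
theorem Q9862 : ∀ i, i < 9862 → P i := stepQ 9861 Q9861 (allL N9861 (tt N10487 (iv F64782)) (tt N9148 F62351) (tt N9861 F62352) (tt N9176 F62353) (tt N10467 (iv F64723)) (tt N10492 (iv F64807)) (tt N9394 F62354) (tt N10494 D16381) (tt N9139 (iv D15748)))
theorem Q9863 : ∀ i, i < 9863 → P i := stepQ 9862 Q9862 (allL N9862 (tt N10488 (iv F64788)) (tt N9149 F62355) (tt N9862 F62356) (tt N10495 D16382) (tt N10468 (iv F64728)) (tt N10493 (iv F64811)) (tt N9395 F62357) (tt N9140 (iv D15749)) (tt N10494 (iv F64815)))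
theorem Q9864 : ∀ i, i < 9864 → P i := stepQ 9863 Q9863 (allL N9863 (tt N10278 (iv F63994)) (tt N9151 F62358) (tt N9217 F62359) (tt N10496 D16383) (tt N10231 (iv F63809)) (tt N9142 F62360) (tt N10269 (iv F63964)) (tt N9141 (iv D15750)) (tt N9179 F62361))
theorem Q9865 : ∀ i, i < 9865 → P i := stepQ 9864 Q9864 (allL N9864 (tt N10489 (iv F64791)) (tt N9152 F62362) (tt N10497 D16384) (tt N9142 (iv D15751)) (tt N10498 D16385) (tt N10496 (iv F64820)) (tt N9397 F62363) (tt N10495 (iv F64818)) (tt N9180 F62364))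
theorem Q9866 : ∀ i, i < 9866 → P i := stepQ 9865 Q9865 (allL N9865 (tt N10490 (iv F64794)) (tt N9153 F62365) (tt N10225 (iv F63778)) (tt N10498 (iv F64826)) (tt N9143 (iv D15752)) (tt N10499 D16386) (tt N9398 F62366) (tt N10471 (iv F64740)) (tt N9181 F62367))
theorem Q9867 : ∀ i, i < 9867 → P i := stepQ 9866 Q9866 (allL N9866 (tt N10369 (iv F64358)) (tt N10491 (iv F64797)) (tt N9317 F62368) (tt N10234 (iv F63820)) (tt N9147 F62369) (tt N10472 (iv F64746)) (tt N9625 F62370) (tt N10500 D16387) (tt N9144 (iv D15753)))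
theorem Q9868 : ∀ i, i < 9868 → P i := stepQ 9867 Q9867 (allL N9867 (tt N10170 (iv F63528)) (tt N10266 (iv F63945)) (tt N9318 F62371) (tt N9150 F62372) (tt N9625 F62373) (tt N10167 (iv F63516)) (tt N9147 F62374) (tt N10501 D16388) (tt N9145 (iv D15754)))
theorem Q9869 : ∀ i, i < 9869 → P i := stepQ 9868 Q9868 (allL N9868 (tt N10370 (iv F64363)) (tt N10492 (iv F64803)) (tt N9319 F62375) (tt N9184 F62376) (tt N9624 F62377) (tt N9148 F62378) (tt N9623 F62379) (tt N10502 D16389) (tt N9146 (iv D15755)))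
theorem Q9870 : ∀ i, i < 9870 → P i := stepQ 9869 Q9869 (allL N9869 (tt N10371 (iv F64370)) (tt N10493 (iv F64809)) (tt N9320 F62380) (tt N10503 D16390) (tt N10500 (iv F64832)) (tt N9149 F62381) (tt N10501 (iv F64837)) (tt N9147 (iv D15756)) (tt N10502 (iv F64843)))
theorem Q9871 : ∀ i, i < 9871 → P i := stepQ 9870 Q9870 (allL N9870 (tt N10372 (iv F64373)) (tt N10494 (iv F64812)) (tt N9321 F62382) (tt N10504 D16391) (tt N10475 (iv F64759)) (tt N10502 (iv F64841)) (tt N10424 (iv F64563)) (tt N9148 (iv D15757)) (tt N9149 F62383))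
theorem Q9872 : ∀ i, i < 9872 → P i := stepQ 9871 Q9871 (allL N9871 (tt N10373 (iv F64377)) (tt N10495 (iv F64816)) (tt N10387 (iv F64424)) (tt N9149 (iv D15758)) (tt N10505 D16392) (tt N10503 (iv F64844)) (tt N10411 (iv F64509)) (tt N9152 F62384) (tt N10504 (iv F64847)))
theorem Q9873 : ∀ i, i < 9873 → P i := stepQ 9872 Q9872 (allL N9872 (tt N10172 (iv F63537)) (tt N10269 (iv F63960)) (tt N9154 F62385) (tt N10506 D16393) (tt N10240 (iv F63841)) (tt N10168 (iv F63522)) (tt N9151 F62386) (tt N9150 (iv D15759)) (tt N9188 F62387))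
theorem Q9874 : ∀ i, i < 9874 → P i := stepQ 9873 Q9873 (allL N9873 (tt N10374 (iv F64381)) (tt N10496 (iv F64819)) (tt N10388 (iv F64428)) (tt N9151 (iv D15760)) (tt N10507 D16394) (tt N9152 F62388) (tt N10506 (iv F64849)) (tt N10503 (iv F64845)) (tt N9189 F62389))
theorem Q9875 : ∀ i, i < 9875 → P i := stepQ 9874 Q9874 (allL N9874 (tt N10375 (iv F64385)) (tt N10498 (iv F64825)) (tt N10389 (iv F64432)) (tt N9153 F62390) (tt N9152 (iv D15761)) (tt N10508 D16395) (tt N10416 (iv F64526)) (tt N10505 (iv F64848)) (tt N9191 F62391))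
theorem Q9876 : ∀ i, i < 9876 → P i := stepQ 9875 Q9875 (allL N9875 (tt N10376 (iv F64390)) (tt N10499 (iv F64829)) (tt N10441 (iv F64633)) (tt N10508 (iv F64852)) (tt N10244 (iv F63852)) (tt N9153 (iv D15762)) (tt N10509 D16396) (tt N10481 (iv F64769)) (tt N9192 F62392))
theorem Q9877 : ∀ i, i < 9877 → P i := stepQ 9876 Q9876 (allL N9876 (tt N10229 (iv F63796)) (tt N9401 F62393) (tt N9195 F62394) (tt N10267 (iv F63953)) (tt N9158 F62395) (tt N9894 (iv F62464)) (tt N9403 F62396) (tt N10510 D16397) (tt N9155 (iv D15763)))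
theorem Q9878 : ∀ i, i < 9878 → P i := stepQ 9877 Q9877 (allL N9877 (tt N10147 (iv F63410)) (tt N9402 F62397) (tt N9196 F62398) (tt N9161 F62399) (tt N9403 F62400) (tt N9183 F62401) (tt N9158 F62402) (tt N10511 D16398) (tt N9156 (iv D15764)))
theorem Q9879 : ∀ i, i < 9879 → P i := stepQ 9878 Q9878 (allL N9878 (tt N10209 (iv F63712)) (tt N9403 F62403) (tt N9197 F62404) (tt N10207 (iv F63704)) (tt N9402 F62405) (tt N9159 F62406) (tt N9401 F62407) (tt N10512 D16399) (tt N9157 (iv D15765)))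
theorem Q9880 : ∀ i, i < 9880 → P i := stepQ 9879 Q9879 (allL N9879 (tt N10385 (iv F64416)) (tt N9404 F62408) (tt N9198 F62409) (tt N10513 D16400) (tt N10510 (iv F64857)) (tt N9160 F62410) (tt N10511 (iv F64864)) (tt N9158 (iv D15766)) (tt N10512 (iv F64871)))
theorem Q9881 : ∀ i, i < 9881 → P i := stepQ 9880 Q9880 (allL N9880 (tt N10386 (iv F64419)) (tt N9405 F62411) (tt N9199 F62412) (tt N10514 D16401) (tt N9898 (iv F62480)) (tt N10512 (iv F64869)) (tt N9186 F62413) (tt N9159 (iv D15767)) (tt N9160 F62414))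
theorem Q9882 : ∀ i, i < 9882 → P i := stepQ 9881 Q9881 (allL N9881 (tt N10387 (iv F64423)) (tt N9406 F62415) (tt N10373 (iv F64378)) (tt N9160 (iv D15768)) (tt N10515 D16402) (tt N10513 (iv F64873)) (tt N9187 F62416) (tt N9163 F62417) (tt N10514 (iv F64877)))
theorem Q9883 : ∀ i, i < 9883 → P i := stepQ 9882 Q9882 (allL N9882 (tt N10148 (iv F63417)) (tt N9407 F62418) (tt N9165 F62419) (tt N10516 D16403) (tt N10146 (iv F63406)) (tt N9188 F62420) (tt N9162 F62421) (tt N9161 (iv D15769)) (tt N10168 (iv F63524)))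
theorem Q9884 : ∀ i, i < 9884 → P i := stepQ 9883 Q9883 (allL N9883 (tt N10388 (iv F64427)) (tt N9408 F62422) (tt N10374 (iv F64382)) (tt N9162 (iv D15770)) (tt N10517 D16404) (tt N9163 F62423) (tt N10516 (iv F64883)) (tt N10513 (iv F64874)) (tt N10414 (iv F64519)))
theorem Q9885 : ∀ i, i < 9885 → P i := stepQ 9884 Q9884 (allL N9884 (tt N10389 (iv F64431)) (tt N9410 F62424) (tt N10375 (iv F64386)) (tt N9164 F62425) (tt N9163 (iv D15771)) (tt N10518 D16405) (tt N9191 F62426) (tt N10515 (iv F64880)) (tt N10416 (iv F64527)))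
theorem Q9886 : ∀ i, i < 9886 → P i := stepQ 9885 Q9885 (allL N9885 (tt N10390 (iv F64436)) (tt N9411 F62427) (tt N10442 (iv F64636)) (tt N10518 (iv F64886)) (tt N10449 (iv F64657)) (tt N9164 (iv D15772)) (tt N10519 D16406) (tt N9904 (iv F62498)) (tt N10486 (iv F64781)))
theorem Q9887 : ∀ i, i < 9887 → P i := stepQ 9886 Q9886 (allL N9886 (tt N9172 F62428) (tt N9578 F62429) (tt N9246 F62430) (tt N9615 F62431) (tt N9166 (iv D15773)) (tt N9571 F62432) (tt N9887 (iv F62440)) (tt N9570 (iv F62433)) (tt N10520 D16407))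
theorem Q9888 : ∀ i, i < 9888 → P i := stepQ 9887 Q9887 (allL N9887 (tt N9174 F62434) (tt N9576 F62435) (tt N9248 F62436) (tt N9858 F62437) (tt N9570 F62438) (tt N9167 F62439) (tt N9886 F62440) (tt N9166 (iv D15774)) (tt N10521 D16408))
theorem Q9889 : ∀ i, i < 9889 → P i := stepQ 9888 Q9888 (allL N9888 (tt N9175 F62441) (tt N10235 (iv F63823)) (tt N9249 F62442) (tt N9169 F62443) (tt N10520 (iv F64893)) (tt N9168 F62444) (tt N10228 (iv F63795)) (tt N10522 D16409) (tt N9166 (iv D15775)))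
theorem Q9890 : ∀ i, i < 9890 → P i := stepQ 9889 Q9889 (allL N9889 (tt N9176 F62445) (tt N10391 (iv F64438)) (tt N9250 F62446) (tt N10487 (iv F64785)) (tt N9744 F62447) (tt N10521 (iv F64900)) (tt N9350 F62448) (tt N10523 D16410) (tt N9167 (iv D15776)))
theorem Q9891 : ∀ i, i < 9891 → P i := stepQ 9890 Q9890 (allL N9890 (tt N9177 F62449) (tt N10392 (iv F64444)) (tt N9251 F62450) (tt N10524 D16411) (tt N9745 F62451) (tt N10522 (iv F64904)) (tt N9351 F62452) (tt N9168 (iv D15777)) (tt N10523 (iv F64909)))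
theorem Q9892 : ∀ i, i < 9892 → P i := stepQ 9891 Q9891 (allL N9891 (tt N9179 F62453) (tt N10240 (iv F63839)) (tt N9220 F62454) (tt N10525 D16412) (tt N10269 (iv F63962)) (tt N9170 F62455) (tt N10231 (iv F63811)) (tt N9169 (iv D15778)) (tt N10278 (iv F64000)))
theorem Q9893 : ∀ i, i < 9893 → P i := stepQ 9892 Q9892 (allL N9892 (tt N9180 F62456) (tt N10393 (iv F64449)) (tt N10526 D16413) (tt N9170 (iv D15779)) (tt N10527 D16414) (tt N10525 (iv F64914)) (tt N9353 F62457) (tt N10524 (iv F64912)) (tt N10489 (iv F64793)))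
theorem Q9894 : ∀ i, i < 9894 → P i := stepQ 9893 Q9893 (allL N9893 (tt N9181 F62458) (tt N10395 (iv F64456)) (tt N10165 (iv F63503)) (tt N10527 (iv F64919)) (tt N9171 (iv D15780)) (tt N10528 D16415) (tt N9354 F62459) (tt N9748 F62460) (tt N10490 (iv F64796)))
theorem Q9895 : ∀ i, i < 9895 → P i := stepQ 9894 Q9894 (allL N9894 (tt N10520 (iv F64889)) (tt N9182 F62461) (tt N9255 F62462) (tt N10272 (iv F63972)) (tt N9175 F62463) (tt N9876 F62464) (tt N9896 (iv F62474)) (tt N10529 D16416) (tt N9172 (iv D15781)))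
theorem Q9896 : ∀ i, i < 9896 → P i := stepQ 9895 Q9895 (allL N9895 (tt N10228 (iv F63790)) (tt N9183 F62465) (tt N9256 F62466) (tt N9178 F62467) (tt N9896 (iv F62472)) (tt N9402 F62468) (tt N9175 F62469) (tt N10530 D16417) (tt N9173 (iv D15782)))
theorem Q9897 : ∀ i, i < 9897 → P i := stepQ 9896 Q9896 (allL N9896 (tt N10521 (iv F64895)) (tt N9184 F62470) (tt N9257 F62471) (tt N10492 (iv F64805)) (tt N9895 F62472) (tt N9176 F62473) (tt N9894 F62474) (tt N10531 D16418) (tt N9174 (iv D15783)))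
theorem Q9898 : ∀ i, i < 9898 → P i := stepQ 9897 Q9897 (allL N9897 (tt N10522 (iv F64902)) (tt N9185 F62475) (tt N9258 F62476) (tt N10532 D16419) (tt N10529 (iv F64925)) (tt N9177 F62477) (tt N10530 (iv F64930)) (tt N9175 (iv D15784)) (tt N10531 (iv F64937)))
theorem Q9899 : ∀ i, i < 9899 → P i := stepQ 9898 Q9898 (allL N9898 (tt N10523 (iv F64905)) (tt N9186 F62478) (tt N9259 F62479) (tt N10533 D16420) (tt N9880 F62480) (tt N10531 (iv F64935)) (tt N9405 F62481) (tt N9176 (iv D15785)) (tt N9177 F62482))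
theorem Q9900 : ∀ i, i < 9900 → P i := stepQ 9899 Q9899 (allL N9899 (tt N10524 (iv F64910)) (tt N9187 F62483) (tt N10534 D16421) (tt N9177 (iv D15786)) (tt N10535 D16422) (tt N10532 (iv F64939)) (tt N9406 F62484) (tt N9180 F62485) (tt N10533 (iv F64943)))
theorem Q9901 : ∀ i, i < 9901 → P i := stepQ 9900 Q9900 (allL N9900 (tt N10231 (iv F63806)) (tt N9188 F62486) (tt N9222 F62487) (tt N10536 D16423) (tt N10278 (iv F63997)) (tt N9407 F62488) (tt N9179 F62489) (tt N9178 (iv D15787)) (tt N10269 (iv F63965)))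
theorem Q9902 : ∀ i, i < 9902 → P i := stepQ 9901 Q9901 (allL N9901 (tt N10525 (iv F64913)) (tt N9189 F62490) (tt N10537 D16424) (tt N9179 (iv D15788)) (tt N10538 D16425) (tt N9180 F62491) (tt N10536 (iv F64953)) (tt N10532 (iv F64940)) (tt N10496 (iv F64821)))
theorem Q9903 : ∀ i, i < 9903 → P i := stepQ 9902 Q9902 (allL N9902 (tt N10526 (iv F64915)) (tt N10539 D16426) (tt N9180 (iv D15789)) (tt N9224 F62492) (tt N10540 D16427) (tt N10537 (iv F64955)) (tt N9409 F62493) (tt N10534 (iv F64946)) (tt N10497 (iv F64824)))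
theorem Q9904 : ∀ i, i < 9904 → P i := stepQ 9903 Q9903 (allL N9903 (tt N10527 (iv F64918)) (tt N9191 F62494) (tt N10540 (iv F64960)) (tt N9181 F62495) (tt N9180 (iv D15790)) (tt N10541 D16428) (tt N9410 F62496) (tt N10535 (iv F64950)) (tt N10498 (iv F64828)))
theorem Q9905 : ∀ i, i < 9905 → P i := stepQ 9904 Q9904 (allL N9904 (tt N10528 (iv F64921)) (tt N9192 F62497) (tt N10262 (iv F63927)) (tt N10541 (iv F64963)) (tt N10282 (iv F64007)) (tt N9181 (iv D15791)) (tt N10542 D16429) (tt N9885 F62498) (tt N10499 (iv F64830)))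
theorem Q9906 : ∀ i, i < 9906 → P i := stepQ 9905 Q9905 (allL N9905 (tt N10406 (iv F64489)) (tt N10529 (iv F64923)) (tt N9204 F62499) (tt N10543 D16430) (tt N9185 F62500) (tt N10084 (iv F63163)) (tt N9907 (iv F62507)) (tt N9182 (iv D15792)) (tt N9906 (iv F62503)))
theorem Q9907 : ∀ i, i < 9907 → P i := stepQ 9906 Q9906 (allL N9906 (tt N10407 (iv F64492)) (tt N10530 (iv F64927)) (tt N9205 F62501) (tt N10544 D16431) (tt N9907 (iv F62505)) (tt N10511 (iv F64863)) (tt N9185 F62502) (tt N9183 (iv D15793)) (tt N9905 F62503))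
theorem Q9908 : ∀ i, i < 9908 → P i := stepQ 9907 Q9907 (allL N9907 (tt N10408 (iv F64496)) (tt N10531 (iv F64932)) (tt N9206 F62504) (tt N10545 D16432) (tt N9906 F62505) (tt N9186 F62506) (tt N9905 F62507) (tt N9184 (iv D15794)) (tt N9185 F62508))
theorem Q9909 : ∀ i, i < 9909 → P i := stepQ 9908 Q9908 (allL N9908 (tt N10409 (iv F64502)) (tt N10532 (iv F64938)) (tt N10546 D16433) (tt N9185 (iv D15795)) (tt N10547 D16434) (tt N9187 F62509) (tt N10544 (iv F64967)) (tt N9189 F62510) (tt N10545 (iv F64972)))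
theorem Q9910 : ∀ i, i < 9910 → P i := stepQ 9909 Q9909 (allL N9909 (tt N10410 (iv F64505)) (tt N10533 (iv F64941)) (tt N10548 D16435) (tt N9186 (iv D15796)) (tt N10549 D16436) (tt N10545 (iv F64970)) (tt N10514 (iv F64876)) (tt N10504 (iv F64846)) (tt N9187 F62511))
theorem Q9911 : ∀ i, i < 9911 → P i := stepQ 9910 Q9910 (allL N9910 (tt N10411 (iv F64507)) (tt N10550 D16437) (tt N9187 (iv D15797)) (tt N9209 F62512) (tt N10551 D16438) (tt N10546 (iv F64974)) (tt N10373 (iv F64379)) (tt N9190 F62513) (tt N10548 (iv F64979)))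
theorem Q9912 : ∀ i, i < 9912 → P i := stepQ 9911 Q9911 (allL N9911 (tt N10412 (iv F64512)) (tt N10535 (iv F64947)) (tt N10551 (iv F64984)) (tt N10090 (iv F63174)) (tt N9187 (iv D15798)) (tt N10552 D16439) (tt N10515 (iv F64879)) (tt N9191 F62514) (tt N10549 (iv F64980)))
theorem Q9913 : ∀ i, i < 9913 → P i := stepQ 9912 Q9912 (allL N9912 (tt N10413 (iv F64514)) (tt N10536 (iv F64951)) (tt N10173 (iv F63545)) (tt N9188 (iv D15799)) (tt N10553 D16440) (tt N10516 (iv F64882)) (tt N9189 F62515) (tt N10544 (iv F64968)) (tt N10506 (iv F64850)))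
theorem Q9914 : ∀ i, i < 9914 → P i := stepQ 9913 Q9913 (allL N9913 (tt N10414 (iv F64516)) (tt N10164 (iv F63499)) (tt N9189 (iv D15800)) (tt N9193 F62516) (tt N10554 D16441) (tt N9190 F62517) (tt N10173 (iv F63546)) (tt N10546 (iv F64975)) (tt N10388 (iv F64430)))
theorem Q9915 : ∀ i, i < 9915 → P i := stepQ 9914 Q9914 (allL N9914 (tt N10415 (iv F64521)) (tt N10538 (iv F64956)) (tt N10554 (iv F64988)) (tt N10292 (iv F64024)) (tt N9189 (iv D15801)) (tt N10555 D16442) (tt N10553 (iv F64987)) (tt N10547 (iv F64977)) (tt N10507 (iv F64851)))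
theorem Q9916 : ∀ i, i < 9916 → P i := stepQ 9915 Q9915 (allL N9915 (tt N10259 (iv F63919)) (tt N9190 (iv D15802)) (tt N10539 (iv F64957)) (tt N9194 F62518) (tt N10556 D16443) (tt N10164 (iv F63500)) (tt N10366 (iv F64352)) (tt N10550 (iv F64983)) (tt N10382 (iv F64409)))
theorem Q9917 : ∀ i, i < 9917 → P i := stepQ 9916 Q9916 (allL N9916 (tt N10416 (iv F64522)) (tt N10556 (iv F64990)) (tt N9191 F62519) (tt N10363 (iv F64340)) (tt N9190 (iv D15803)) (tt N10557 D16444) (tt N10375 (iv F64388)) (tt N10551 (iv F64985)) (tt N10389 (iv F64435)))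
theorem Q9918 : ∀ i, i < 9918 → P i := stepQ 9917 Q9917 (allL N9917 (tt N10417 (iv F64528)) (tt N10541 (iv F64962)) (tt N10557 (iv F64991)) (tt N9192 F62520) (tt N10555 (iv F64989)) (tt N9191 (iv D15804)) (tt N10558 D16445) (tt N10552 (iv F64986)) (tt N10508 (iv F64853)))
theorem Q9919 : ∀ i, i < 9919 → P i := stepQ 9918 Q9918 (allL N9918 (tt N10418 (iv F64530)) (tt N10542 (iv F64964)) (tt N10457 (iv F64678)) (tt N10558 (iv F64992)) (tt N10296 (iv F64030)) (tt N10519 (iv F64888)) (tt N9192 (iv D15805)) (tt N10097 (iv F63182)) (tt N10509 (iv F64854)))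
theorem Q9920 : ∀ i, i < 9920 → P i := stepQ 9919 Q9919 (allL N9919 (tt N10419 (iv F64531)) (tt N9277 F62521) (tt N10510 (iv F64856)) (tt N10559 D16446) (tt N9198 F62522) (tt N9966 (iv F62734)) (tt N9418 F62523) (tt N9195 (iv D15806)) (tt N9417 F62524))
theorem Q9921 : ∀ i, i < 9921 → P i := stepQ 9920 Q9920 (allL N9920 (tt N10420 (iv F64536)) (tt N9278 F62525) (tt N10511 (iv F64861)) (tt N10560 D16447) (tt N9418 F62526) (tt N9205 F62527) (tt N9198 F62528) (tt N9196 (iv D15807)) (tt N9416 F62529))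
theorem Q9922 : ∀ i, i < 9922 → P i := stepQ 9921 Q9921 (allL N9921 (tt N10421 (iv F64543)) (tt N9279 F62530) (tt N10512 (iv F64867)) (tt N10561 D16448) (tt N9417 F62531) (tt N9199 F62532) (tt N9416 F62533) (tt N9197 (iv D15808)) (tt N9198 F62534))
theorem Q9923 : ∀ i, i < 9923 → P i := stepQ 9922 Q9922 (allL N9922 (tt N9320 F62535) (tt N9280 F62536) (tt N10371 (iv F64371)) (tt N9198 (iv D15809)) (tt N10562 D16449) (tt N9200 F62537) (tt N10560 (iv F65000)) (tt N9202 F62538) (tt N10561 (iv F65010)))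
theorem Q9924 : ∀ i, i < 9924 → P i := stepQ 9923 Q9923 (allL N9923 (tt N9321 F62539) (tt N9281 F62540) (tt N10372 (iv F64374)) (tt N9199 (iv D15810)) (tt N10563 D16450) (tt N10561 (iv F65007)) (tt N9208 F62541) (tt N9302 F62542) (tt N9200 F62543))
theorem Q9925 : ∀ i, i < 9925 → P i := stepQ 9924 Q9924 (allL N9924 (tt N9312 F62544) (tt N9283 F62545) (tt N10355 (iv F64313)) (tt N9972 (iv F62755)) (tt N9200 (iv D15811)) (tt N9849 (iv F62548)) (tt N9210 F62546) (tt N9203 F62547) (tt N10563 (iv F65022)))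
theorem Q9926 : ∀ i, i < 9926 → P i := stepQ 9925 Q9925 (allL N9925 (tt N9318 F62549) (tt N9284 F62550) (tt N10170 (iv F63530)) (tt N9201 (iv D15812)) (tt N9512 (iv F62554)) (tt N9211 F62551) (tt N9202 F62552) (tt N10560 (iv F65001)) (tt N9300 F62553))
theorem Q9927 : ∀ i, i < 9927 → P i := stepQ 9926 Q9926 (allL N9926 (tt N9317 F62555) (tt N9286 F62556) (tt N10369 (iv F64359)) (tt N9926 F62557) (tt N9202 (iv D15813)) (tt N9560 F62558) (tt N9512 F62559) (tt N10562 (iv F65015)) (tt N9299 F62560))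
theorem Q9928 : ∀ i, i < 9928 → P i := stepQ 9927 Q9927 (allL N9927 (tt N9823 F62561) (tt N9288 F62562) (tt N10564 D16451) (tt N9204 (iv D15814)) (tt N9679 F62563) (tt N10102 (iv F63194)) (tt N9684 F62564) (tt N9215 F62565) (tt N9928 (iv F62570)))
theorem Q9929 : ∀ i, i < 9929 → P i := stepQ 9928 Q9928 (allL N9928 (tt N10422 (iv F64550)) (tt N9289 F62566) (tt N10171 (iv F63535)) (tt N9205 (iv D15815)) (tt N9546 F62567) (tt N10560 (iv F64999)) (tt N9207 F62568) (tt N9211 F62569) (tt N9927 F62570))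
theorem Q9930 : ∀ i, i < 9930 → P i := stepQ 9929 Q9929 (allL N9929 (tt N10423 (iv F64557)) (tt N9803 F62571) (tt N9207 (iv D15816)) (tt N10546 (iv F64973)) (tt N9802 F62572) (tt N9209 F62573) (tt N10171 (iv F63536)) (tt N9212 F62574) (tt N10210 (iv F63723)))
theorem Q9931 : ∀ i, i < 9931 → P i := stepQ 9930 Q9930 (allL N9930 (tt N10424 (iv F64562)) (tt N10215 (iv F63740)) (tt N9208 (iv D15817)) (tt N10548 (iv F64978)) (tt N10469 (iv F64732)) (tt N10210 (iv F63722)) (tt N10372 (iv F64375)) (tt N9322 F62575) (tt N9209 F62576))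
theorem Q9932 : ∀ i, i < 9932 → P i := stepQ 9931 Q9931 (allL N9931 (tt N10425 (iv F64567)) (tt N9241 F62577) (tt N10469 (iv F64731)) (tt N10108 (iv F63214)) (tt N9208 (iv D15818)) (tt N9239 F62578) (tt N10563 (iv F65020)) (tt N9238 F62579) (tt N9210 F62580))
theorem Q9933 : ∀ i, i < 9933 → P i := stepQ 9932 Q9932 (allL N9932 (tt N10256 (iv F63906)) (tt N9209 (iv D15819)) (tt N9290 F62581) (tt N10550 (iv F64981)) (tt N10068 (iv F63120)) (tt N9803 F62582) (tt N10365 (iv F64349)) (tt N9213 F62583) (tt N10215 (iv F63744)))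
theorem Q9934 : ∀ i, i < 9934 → P i := stepQ 9933 Q9933 (allL N9933 (tt N10426 (iv F64573)) (tt N10068 (iv F63118)) (tt N9210 F62584) (tt N10565 D16452) (tt N9209 (iv D15820)) (tt N9828 F62585) (tt N10355 (iv F64315)) (tt N9214 F62586) (tt N10469 (iv F64734)))
theorem Q9935 : ∀ i, i < 9935 → P i := stepQ 9934 Q9934 (allL N9934 (tt N9815 F62587) (tt N9501 F62588) (tt N9215 (iv D15821)) (tt N10032 (iv F63000)) (tt N9547 F62589) (tt N10117 (iv F63253)) (tt N9552 F62590) (tt N10564 (iv F65027)) (tt N9492 F62591))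
theorem Q9936 : ∀ i, i < 9936 → P i := stepQ 9935 Q9935 (allL N9935 (tt N9218 F62592) (tt N9227 F62593) (tt N10566 D16453) (tt N9216 (iv D15822)) (tt N10145 (iv F63398)) (tt N10325 (iv F64170)) (tt N9342 F62594) (tt N9935 F62595) (tt N9221 F62596))
theorem Q9937 : ∀ i, i < 9937 → P i := stepQ 9936 Q9936 (allL N9936 (tt N10325 (iv F64167)) (tt N9219 F62597) (tt N10567 D16454) (tt N9217 (iv D15823)) (tt N10568 D16455) (tt N9218 F62598) (tt N10198 (iv F63655)) (tt N9936 F62599) (tt N9223 F62600))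
theorem Q9938 : ∀ i, i < 9938 → P i := stepQ 9937 Q9937 (allL N9937 (tt N10566 (iv F65030)) (tt N10429 (iv F64589)) (tt N9218 (iv D15824)) (tt N10497 (iv F64822)) (tt N10226 (iv F63781)) (tt N10567 (iv F65034)) (tt N9400 F62601) (tt N9937 F62602) (tt N9224 F62603))
theorem Q9939 : ∀ i, i < 9939 → P i := stepQ 9938 Q9938 (allL N9938 (tt N9228 F62604) (tt N10568 (iv F65038)) (tt N9227 F62605) (tt N9377 F62606) (tt N9219 (iv D15825)) (tt N9376 F62607) (tt N9371 F62608) (tt N9938 F62609) (tt N9225 F62610))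
theorem Q9940 : ∀ i, i < 9940 → P i := stepQ 9939 Q9939 (allL N9939 (tt N9223 F62611) (tt N9229 F62612) (tt N10569 D16456) (tt N9220 (iv D15826)) (tt N10323 (iv F64158)) (tt N9221 F62613) (tt N10202 (iv F63678)) (tt N9292 F62614) (tt N10325 (iv F64173)))
theorem Q9941 : ∀ i, i < 9941 → P i := stepQ 9940 Q9940 (allL N9940 (tt N9224 F62615) (tt N10570 D16457) (tt N9221 (iv D15827)) (tt N10526 (iv F64916)) (tt N10166 (iv F63507)) (tt N10569 (iv F65045)) (tt N9356 F62616) (tt N9293 F62617) (tt N10566 (iv F65033)))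
theorem Q9942 : ∀ i, i < 9942 → P i := stepQ 9941 Q9941 (allL N9941 (tt N10569 (iv F65044)) (tt N10166 (iv F63506)) (tt N9223 (iv D15828)) (tt N10537 (iv F64954)) (tt N10570 (iv F65048)) (tt N9224 F62618) (tt N10187 (iv F63596)) (tt N9294 F62619) (tt N10567 (iv F65036)))
theorem Q9943 : ∀ i, i < 9943 → P i := stepQ 9942 Q9942 (allL N9942 (tt N10323 (iv F64156)) (tt N9225 F62620) (tt N10570 (iv F65047)) (tt N10327 (iv F64178)) (tt N9223 (iv D15829)) (tt N10264 (iv F63936)) (tt N9378 F62621) (tt N9295 F62622) (tt N10568 (iv F65043)))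
theorem Q9944 : ∀ i, i < 9944 → P i := stepQ 9943 Q9943 (allL N9943 (tt N10263 (iv F63928)) (tt N9224 (iv D15830)) (tt N9226 F62623) (tt N10539 (iv F64958)) (tt N10265 (iv F63941)) (tt N10166 (iv F63508)) (tt N9415 F62624) (tt N9296 F62625) (tt N10429 (iv F64592)))
theorem Q9945 : ∀ i, i < 9945 → P i := stepQ 9944 Q9944 (allL N9944 (tt N9944 F62626) (tt N9513 F62627) (tt N9985 (iv F62812)) (tt N9443 F62628) (tt N9439 F62629) (tt N9231 F62630) (tt N9987 (iv F62826)) (tt N9230 (iv D15831)) (tt N9680 F62631))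
theorem Q9946 : ∀ i, i < 9946 → P i := stepQ 9945 Q9945 (allL N9945 (tt N9945 F62632) (tt N9515 F62633) (tt N9979 (iv F62782)) (tt N9231 (iv D15832)) (tt N9233 F62634) (tt N9443 F62635) (tt N9232 F62636) (tt N9323 F62637) (tt N9681 F62638))
theorem Q9947 : ∀ i, i < 9947 → P i := stepQ 9946 Q9946 (allL N9946 (tt N9946 F62639) (tt N10571 D16458) (tt N9233 (iv D15833)) (tt N9438 F62640) (tt N9979 (iv F62783)) (tt N9447 F62641) (tt N9245 F62642) (tt N9324 F62643) (tt N9952 (iv F62675)))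
theorem Q9948 : ∀ i, i < 9948 → P i := stepQ 9947 Q9947 (allL N9947 (tt N9238 F62644) (tt N9947 F62645) (tt N10459 (iv F64685)) (tt N9947 F62646) (tt N9305 F62647) (tt N9235 F62648) (tt N9311 F62649) (tt N10425 (iv F64571)) (tt N9234 (iv D15834)))
theorem Q9949 : ∀ i, i < 9949 → P i := stepQ 9948 Q9948 (allL N9948 (tt N9239 F62650) (tt N9948 F62651) (tt N10464 (iv F64705)) (tt N10311 (iv F64094)) (tt N9236 F62652) (tt N10425 (iv F64569)) (tt N9336 F62653) (tt N9235 (iv D15835)) (tt N9708 F62654))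
theorem Q9950 : ∀ i, i < 9950 → P i := stepQ 9949 Q9949 (allL N9949 (tt N9311 F62655) (tt N9240 F62656) (tt N10354 (iv F64307)) (tt N9949 F62657) (tt N9302 F62658) (tt N9388 F62659) (tt N9238 F62660) (tt N10563 (iv F65021)) (tt N9237 (iv D15836)))
theorem Q9951 : ∀ i, i < 9951 → P i := stepQ 9950 Q9950 (allL N9950 (tt N10311 (iv F64092)) (tt N9242 F62661) (tt N10572 D16459) (tt N9239 (iv D15837)) (tt N10190 (iv F63609)) (tt N10108 F63217) (tt N9390 F62662) (tt N9950 F62663) (tt N9830 F62664))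
theorem Q9952 : ∀ i, i < 9952 → P i := stepQ 9951 Q9951 (allL N9951 (tt N9951 F62665) (tt N10563 (iv F65018)) (tt N9243 F62666) (tt N9980 (iv F62789)) (tt N9281 F62667) (tt N9436 F62668) (tt N9241 F62669) (tt N9240 (iv D15838)) (tt N9283 F62670))
theorem Q9953 : ∀ i, i < 9953 → P i := stepQ 9952 Q9952 (allL N9952 (tt N9952 F62671) (tt N10573 D16460) (tt N9242 (iv D15839)) (tt N9245 F62672) (tt N9978 (iv F62778)) (tt N10127 (iv F63303)) (tt N9438 F62673) (tt N9952 F62674) (tt N9946 F62675))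
theorem Q9954 : ∀ i, i < 9954 → P i := stepQ 9953 Q9953 (allL N9953 (tt N9953 F62676) (tt N10482 (iv F64770)) (tt N9955 (iv F62685)) (tt N9243 (iv D15840)) (tt N9954 F62683) (tt N9272 F62677) (tt N9244 F62678) (tt N9276 F62679) (tt N10119 (iv F63266)))
theorem Q9955 : ∀ i, i < 9955 → P i := stepQ 9954 Q9954 (allL N9954 (tt N9954 F62680) (tt N10574 D16461) (tt N9244 (iv D15841)) (tt N10127 (iv F63302)) (tt N9953 (iv F62683)) (tt N9245 F62681) (tt N9955 (iv F62686)) (tt N9325 F62682) (tt N10120 (iv F63271)))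
theorem Q9956 : ∀ i, i < 9956 → P i := stepQ 9955 Q9955 (allL N9955 (tt N9955 F62684) (tt N10484 (iv F64776)) (tt N9953 F62685) (tt N10330 (iv F64196)) (tt N9244 (iv D15842)) (tt N9982 (iv F62799)) (tt N9954 F62686) (tt N9326 F62687) (tt N10121 (iv F63278)))
theorem Q9957 : ∀ i, i < 9957 → P i := stepQ 9956 Q9956 (allL N9956 (tt N10575 D16462) (tt N9245 (iv D15843)) (tt N10485 (iv F64778)) (tt N10573 (iv F65058)) (tt N9969 F62747) (tt N10574 (iv F65063)) (tt N10571 (iv F65053)) (tt N9327 F62688) (tt N10122 (iv F63280)))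
theorem Q9958 : ∀ i, i < 9958 → P i := stepQ 9957 Q9957 (allL N9957 (tt N9255 F62689) (tt N9957 F62690) (tt N10520 (iv F64891)) (tt N9957 F62691) (tt N9249 F62692) (tt N9774 F62693) (tt N9959 (iv F62704)) (tt N10576 D16463) (tt N9246 (iv D15844)))
theorem Q9959 : ∀ i, i < 9959 → P i := stepQ 9958 Q9958 (allL N9958 (tt N9256 F62694) (tt N9958 F62695) (tt N10228 (iv F63792)) (tt N9252 F62696) (tt N9959 (iv F62702)) (tt N9358 F62697) (tt N9249 F62698) (tt N10577 D16464) (tt N9247 (iv D15845)))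
theorem Q9960 : ∀ i, i < 9960 → P i := stepQ 9959 Q9959 (allL N9959 (tt N9257 F62699) (tt N9959 F62700) (tt N10521 (iv F64897)) (tt N9959 F62701) (tt N9958 F62702) (tt N9250 F62703) (tt N9957 F62704) (tt N10578 D16465) (tt N9248 (iv D15846)))
theorem Q9961 : ∀ i, i < 9961 → P i := stepQ 9960 Q9960 (allL N9960 (tt N9258 F62705) (tt N9960 F62706) (tt N10522 (iv F64903)) (tt N10579 D16466) (tt N10576 (iv F65070)) (tt N9251 F62707) (tt N10577 (iv F65075)) (tt N9249 (iv D15847)) (tt N10578 (iv F65082)))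
theorem Q9962 : ∀ i, i < 9962 → P i := stepQ 9961 Q9961 (allL N9961 (tt N9259 F62708) (tt N9961 F62709) (tt N10523 (iv F64906)) (tt N10580 D16467) (tt N9778 F62710) (tt N10578 (iv F65080)) (tt N9361 F62711) (tt N9250 (iv D15848)) (tt N9251 F62712))
theorem Q9963 : ∀ i, i < 9963 → P i := stepQ 9962 Q9962 (allL N9962 (tt N9260 F62713) (tt N9962 F62714) (tt N10581 D16468) (tt N9251 (iv D15849)) (tt N10001 (iv F62893)) (tt N10579 (iv F65085)) (tt N9362 F62715) (tt N9254 F62716) (tt N10580 (iv F65092)))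
theorem Q9964 : ∀ i, i < 9964 → P i := stepQ 9963 Q9963 (allL N9963 (tt N9261 F62717) (tt N9963 F62718) (tt N9291 F62719) (tt N10582 D16469) (tt N9963 F62720) (tt N9363 F62721) (tt N9253 F62722) (tt N9252 (iv D15850)) (tt N9963 F62723))
theorem Q9965 : ∀ i, i < 9965 → P i := stepQ 9964 Q9964 (allL N9964 (tt N9262 F62724) (tt N9964 F62725) (tt N10583 D16470) (tt N9253 (iv D15851)) (tt N10012 (iv F62938)) (tt N9254 F62726) (tt N10582 (iv F65099)) (tt N10579 (iv F65086)) (tt N9964 F62727))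
theorem Q9966 : ∀ i, i < 9966 → P i := stepQ 9965 Q9965 (allL N9965 (tt N9263 F62728) (tt N10584 D16471) (tt N9254 (iv D15852)) (tt N9293 F62729) (tt N10003 (iv F62902)) (tt N10583 (iv F65103)) (tt N9365 F62730) (tt N10581 (iv F65095)) (tt N9965 F62731))
theorem Q9967 : ∀ i, i < 9967 → P i := stepQ 9966 Q9966 (allL N9966 (tt N10576 (iv F65068)) (tt N9266 F62732) (tt N10529 (iv F64924)) (tt N10585 D16472) (tt N9258 F62733) (tt N9919 F62734) (tt N9968 (iv F62742)) (tt N9255 (iv D15853)) (tt N9967 (iv F62738)))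
theorem Q9968 : ∀ i, i < 9968 → P i := stepQ 9967 Q9967 (allL N9967 (tt N10577 (iv F65072)) (tt N9267 F62735) (tt N10530 (iv F64928)) (tt N10586 D16473) (tt N9968 (iv F62740)) (tt N9417 F62736) (tt N9258 F62737) (tt N9256 (iv D15854)) (tt N9966 F62738))
theorem Q9969 : ∀ i, i < 9969 → P i := stepQ 9968 Q9968 (allL N9968 (tt N10578 (iv F65077)) (tt N9268 F62739) (tt N10531 (iv F64933)) (tt N10331 (iv F64201)) (tt N9967 F62740) (tt N9259 F62741) (tt N9966 F62742) (tt N9257 (iv D15855)) (tt N9258 F62743))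
theorem Q9970 : ∀ i, i < 9970 → P i := stepQ 9969 Q9969 (allL N9969 (tt N10579 (iv F65083)) (tt N9269 F62744) (tt N10587 D16474) (tt N9258 (iv D15856)) (tt N9956 (iv F62747)) (tt N9260 F62745) (tt N10586 (iv F65117)) (tt N9262 F62746) (tt N10331 (iv F64205)))
theorem Q9971 : ∀ i, i < 9971 → P i := stepQ 9970 Q9970 (allL N9970 (tt N10580 (iv F65088)) (tt N9270 F62748) (tt N10588 D16475) (tt N9259 (iv D15857)) (tt N10589 D16476) (tt N10331 (iv F64203)) (tt N9420 F62749) (tt N9970 F62750) (tt N9260 F62751))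
theorem Q9972 : ∀ i, i < 9972 → P i := stepQ 9971 Q9971 (allL N9971 (tt N10581 (iv F65093)) (tt N10590 D16477) (tt N9260 (iv D15858)) (tt N10534 (iv F64944)) (tt N10591 D16478) (tt N10587 (iv F65122)) (tt N9421 F62752) (tt N9263 F62753) (tt N10588 (iv F65126)))
theorem Q9973 : ∀ i, i < 9973 → P i := stepQ 9972 Q9972 (allL N9972 (tt N10001 (iv F62891)) (tt N9272 F62754) (tt N10591 (iv F65136)) (tt N9924 F62755) (tt N9260 (iv D15859)) (tt N10482 (iv F64771)) (tt N9422 F62756) (tt N9264 F62757) (tt N10589 (iv F65131)))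
theorem Q9974 : ∀ i, i < 9974 → P i := stepQ 9973 Q9973 (allL N9973 (tt N10582 (iv F65096)) (tt N9273 F62758) (tt N10192 (iv F63615)) (tt N9261 (iv D15860)) (tt N10010 (iv F62927)) (tt N9423 F62759) (tt N9262 F62760) (tt N10586 (iv F65118)) (tt N9973 F62761))
theorem Q9975 : ∀ i, i < 9975 → P i := stepQ 9974 Q9974 (allL N9974 (tt N10583 (iv F65101)) (tt N9995 (iv F62861)) (tt N9262 (iv D15861)) (tt N9294 F62762) (tt N10006 (iv F62911)) (tt N9263 F62763) (tt N10192 (iv F63618)) (tt N10587 (iv F65123)) (tt N9974 F62764))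
theorem Q9976 : ∀ i, i < 9976 → P i := stepQ 9975 Q9975 (allL N9975 (tt N10302 (iv F64053)) (tt N9263 (iv D15862)) (tt N9274 F62765) (tt N9296 F62766) (tt N10592 D16479) (tt N9995 (iv F62864)) (tt N9426 F62767) (tt N10590 (iv F65135)) (tt N9975 F62768))
theorem Q9977 : ∀ i, i < 9977 → P i := stepQ 9976 Q9976 (allL N9976 (tt N10003 (iv F62900)) (tt N10592 (iv F65139)) (tt N9264 F62769) (tt N9993 (iv F62850)) (tt N9263 (iv D15863)) (tt N10593 D16480) (tt N9427 F62770) (tt N10591 (iv F65138)) (tt N9976 F62771))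
theorem Q9978 : ∀ i, i < 9978 → P i := stepQ 9977 Q9977 (allL N9977 (tt N10002 (iv F62895)) (tt N9276 F62772) (tt N10593 (iv F65143)) (tt N9265 F62773) (tt N10011 (iv F62932)) (tt N9264 (iv D15864)) (tt N9315 F62774) (tt N10482 (iv F64773)) (tt N9977 F62775))
theorem Q9979 : ∀ i, i < 9979 → P i := stepQ 9978 Q9978 (allL N9978 (tt N9978 F62776) (tt N10585 (iv F65109)) (tt N9681 F62777) (tt N9266 (iv D15865)) (tt N9952 F62778) (tt N9984 (iv F62807)) (tt N9687 F62779) (tt N9978 F62780) (tt N9979 (iv F62787)))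
theorem Q9980 : ∀ i, i < 9980 → P i := stepQ 9979 Q9979 (allL N9979 (tt N9979 F62781) (tt N10586 (iv F65114)) (tt N9945 F62782) (tt N9267 (iv D15866)) (tt N9946 F62783) (tt N9440 F62784) (tt N9269 F62785) (tt N9273 F62786) (tt N9978 F62787))
theorem Q9981 : ∀ i, i < 9981 → P i := stepQ 9980 Q9980 (allL N9980 (tt N9980 F62788) (tt N10589 (iv F65127)) (tt N10330 (iv F64195)) (tt N9951 F62789) (tt N9270 (iv D15867)) (tt N10119 (iv F63263)) (tt N9445 F62790) (tt N9980 F62791) (tt N9272 F62792))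
theorem Q9982 : ∀ i, i < 9982 → P i := stepQ 9981 Q9981 (allL N9981 (tt N10300 (iv F64046)) (tt N9271 (iv D15868)) (tt N10590 (iv F65132)) (tt N9290 F62793) (tt N10594 D16481) (tt N9805 F62794) (tt N9446 F62795) (tt N9274 F62796) (tt N10219 (iv F63756)))
theorem Q9983 : ∀ i, i < 9983 → P i := stepQ 9982 Q9982 (allL N9982 (tt N9982 F62797) (tt N10594 (iv F65146)) (tt N9272 F62798) (tt N10121 (iv F63275)) (tt N9271 (iv D15869)) (tt N9955 F62799) (tt N9447 F62800) (tt N9275 F62801) (tt N10330 (iv F64200)))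
theorem Q9984 : ∀ i, i < 9984 → P i := stepQ 9983 Q9983 (allL N9983 (tt N10303 (iv F64058)) (tt N9275 F62802) (tt N10592 (iv F65140)) (tt N9983 F62803) (tt N9274 (iv D15870)) (tt N10005 (iv F62908)) (tt N9450 F62804) (tt N10594 (iv F65149)) (tt N9983 F62805))
theorem Q9985 : ∀ i, i < 9985 → P i := stepQ 9984 Q9984 (allL N9984 (tt N9984 F62806) (tt N10559 (iv F64993)) (tt N10124 (iv F63288)) (tt N9277 (iv D15871)) (tt N10123 F63286) (tt N9978 F62807) (tt N9441 F62808) (tt N9984 F62809) (tt N9440 F62810))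
theorem Q9986 : ∀ i, i < 9986 → P i := stepQ 9985 Q9985 (allL N9985 (tt N9985 F62811) (tt N10560 (iv F64998)) (tt N9944 F62812) (tt N9278 (iv D15872)) (tt N9680 (iv F62817)) (tt N9289 F62813) (tt N9280 F62814) (tt N9284 F62815) (tt N9439 F62816))
theorem Q9987 : ∀ i, i < 9987 → P i := stepQ 9986 Q9986 (allL N9986 (tt N9986 F62818) (tt N10561 (iv F65005)) (tt N9988 (iv F62830)) (tt N9279 (iv D15873)) (tt N9987 F62828) (tt N9281 F62819) (tt N9439 F62820) (tt N9328 F62821) (tt N9280 F62822))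
theorem Q9988 : ∀ i, i < 9988 → P i := stepQ 9987 Q9987 (allL N9987 (tt N9987 F62823) (tt N10188 (iv F63599)) (tt N9280 (iv D15874)) (tt N9442 F62824) (tt N9986 (iv F62828)) (tt N9282 F62825) (tt N9944 F62826) (tt N9285 F62827) (tt N9988 (iv F62834)))
theorem Q9989 : ∀ i, i < 9989 → P i := stepQ 9988 Q9988 (allL N9988 (tt N9988 F62829) (tt N10562 (iv F65012)) (tt N9986 F62830) (tt N10123 (iv F63282)) (tt N9280 (iv D15875)) (tt N9685 F62831) (tt N9680 F62832) (tt N9286 F62833) (tt N9987 F62834))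
theorem Q9990 : ∀ i, i < 9990 → P i := stepQ 9989 Q9989 (allL N9989 (tt N10299 (iv F64041)) (tt N9282 (iv D15876)) (tt N10365 (iv F64348)) (tt N9446 F62835) (tt N10071 (iv F63127)) (tt N10188 (iv F63601)) (tt N9290 F62836) (tt N9287 F62837) (tt N10218 (iv F63750)))
theorem Q9991 : ∀ i, i < 9991 → P i := stepQ 9990 Q9990 (allL N9990 (tt N9294 F62838) (tt N10306 (iv F64074)) (tt N9292 (iv D15877)) (tt N10583 (iv F65102)) (tt N10305 F64072) (tt N9293 F62839) (tt N10193 (iv F63624)) (tt N10569 (iv F65046)) (tt N9990 F62840))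
theorem Q9992 : ∀ i, i < 9992 → P i := stepQ 9991 Q9991 (allL N9991 (tt N10305 (iv F64067)) (tt N9293 (iv D15878)) (tt N9295 F62841) (tt N10584 (iv F65106)) (tt N9294 F62842) (tt N10306 (iv F64076)) (tt N9368 F62843) (tt N10570 (iv F65050)) (tt N9991 F62844))
theorem Q9993 : ∀ i, i < 9993 → P i := stepQ 9992 Q9992 (allL N9992 (tt N9315 F62845) (tt N9992 F62846) (tt N10595 D16482) (tt N9297 (iv D15879)) (tt N10596 D16483) (tt N9298 F62847) (tt N10002 (iv F62898)) (tt N10359 (iv F64325)) (tt N9992 F62848))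
theorem Q9994 : ∀ i, i < 9994 → P i := stepQ 9993 Q9993 (allL N9993 (tt N9316 F62849) (tt N10597 D16484) (tt N9298 (iv D15880)) (tt N9976 F62850) (tt N9640 F62851) (tt N10595 (iv F65152)) (tt N9654 F62852) (tt N10360 (iv F64329)) (tt N9993 F62853))
theorem Q9995 : ∀ i, i < 9995 → P i := stepQ 9994 Q9994 (allL N9994 (tt N9319 F62854) (tt N9328 F62855) (tt N10370 (iv F64365)) (tt N9303 F62856) (tt N9511 F62857) (tt N9302 F62858) (tt N9432 F62859) (tt N10561 (iv F65009)) (tt N9301 (iv D15881)))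
theorem Q9996 : ∀ i, i < 9996 → P i := stepQ 9995 Q9995 (allL N9995 (tt N9640 F62860) (tt N9974 F62861) (tt N9306 (iv D15882)) (tt N9510 F62862) (tt N9316 F62863) (tt N9975 F62864) (tt N9516 F62865) (tt N10439 (iv F64629)) (tt N9995 F62866))
theorem Q9997 : ∀ i, i < 9997 → P i := stepQ 9996 Q9996 (allL N9996 (tt N9654 F62867) (tt N10598 D16485) (tt N9307 (iv D15883)) (tt N10053 (iv F63072)) (tt N9516 F62868) (tt N9427 F62869) (tt N9316 F62870) (tt N10462 (iv F64698)) (tt N9996 F62871))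
theorem Q9998 : ∀ i, i < 9998 → P i := stepQ 9997 Q9997 (allL N9997 (tt N9560 F62872) (tt N9997 F62873) (tt N10472 (iv F64743)) (tt N9997 F62874) (tt N9310 F62875) (tt N9317 F62876) (tt N9458 F62877) (tt N10599 D16486) (tt N9308 (iv D15884)))
theorem Q9999 : ∀ i, i < 9999 → P i := stepQ 9998 Q9998 (allL N9998 (tt N9388 F62878) (tt N9998 F62879) (tt N10473 (iv F64750)) (tt N9998 F62880) (tt N9636 F62881) (tt N9311 F62882) (tt N9335 F62883) (tt N10600 D16487) (tt N9309 (iv D15885)))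
theorem Q10000 : ∀ i, i < 10000 → P i := stepQ 9999 Q9999 (allL N9999 (tt N9849 F62884) (tt N9999 F62885) (tt N10474 (iv F64755)) (tt N10601 D16488) (tt N10599 (iv F65171)) (tt N9312 F62886) (tt N9719 F62887) (tt N9310 (iv D15886)) (tt N10600 (iv F65180)))
theorem Q10001 : ∀ i, i < 10001 → P i := stepQ 10000 Q10000 (allL N10000 (tt N10563 (iv F65017)) (tt N10000 F62888) (tt N10475 (iv F64758)) (tt N10602 D16489) (tt N9321 F62889) (tt N10600 (iv F65178)) (tt N10425 (iv F64570)) (tt N9311 (iv D15887)) (tt N9312 F62890))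
theorem Q10002 : ∀ i, i < 10002 → P i := stepQ 10001 Q10001 (allL N10001 (tt N9972 F62891) (tt N10001 F62892) (tt N10603 D16490) (tt N9312 (iv D15888)) (tt N9962 F62893) (tt N10601 (iv F65183)) (tt N10049 (iv F63055)) (tt N9314 F62894) (tt N10602 (iv F65190)))
theorem Q10003 : ∀ i, i < 10003 → P i := stepQ 10002 Q10002 (allL N10002 (tt N9977 F62895) (tt N10002 F62896) (tt N10604 D16491) (tt N9313 (iv D15889)) (tt N10605 D16492) (tt N9314 F62897) (tt N9992 F62898) (tt N10601 (iv F65185)) (tt N10002 F62899))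
theorem Q10004 : ∀ i, i < 10004 → P i := stepQ 10003 Q10003 (allL N10003 (tt N9976 F62900) (tt N10606 D16493) (tt N9314 (iv D15890)) (tt N9316 F62901) (tt N9965 F62902) (tt N10604 (iv F65196)) (tt N10053 (iv F63074)) (tt N10603 (iv F65193)) (tt N10003 F62903))
theorem Q10005 : ∀ i, i < 10005 → P i := stepQ 10004 Q10004 (allL N10004 (tt N10595 (iv F65150)) (tt N10607 D16494) (tt N9315 (iv D15891)) (tt N10604 (iv F65195)) (tt N10608 D16495) (tt N9316 F62904) (tt N10593 (iv F65144)) (tt N10483 (iv F64775)) (tt N10004 F62905))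
theorem Q10006 : ∀ i, i < 10006 → P i := stepQ 10005 Q10005 (allL N10005 (tt N10596 (iv F65154)) (tt N9326 F62906) (tt N10608 (iv F65214)) (tt N10005 F62907) (tt N9315 (iv D15892)) (tt N9983 F62908) (tt N10011 (iv F62934)) (tt N10484 (iv F64777)) (tt N10005 F62909))
theorem Q10007 : ∀ i, i < 10007 → P i := stepQ 10006 Q10006 (allL N10006 (tt N10609 D16496) (tt N9316 (iv D15893)) (tt N9327 F62910) (tt N10606 (iv F65206)) (tt N9974 F62911) (tt N10607 (iv F65210)) (tt N10598 (iv F65167)) (tt N10485 (iv F64779)) (tt N10006 F62912))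
theorem Q10008 : ∀ i, i < 10008 → P i := stepQ 10007 Q10007 (allL N10007 (tt N10562 (iv F65011)) (tt N10007 F62913) (tt N10500 (iv F64831)) (tt N10610 D16497) (tt N9320 F62914) (tt N10599 (iv F65172)) (tt N9646 F62915) (tt N9317 (iv D15894)) (tt N9645 F62916))
theorem Q10009 : ∀ i, i < 10009 → P i := stepQ 10008 Q10008 (allL N10008 (tt N10560 (iv F64997)) (tt N10008 F62917) (tt N10501 (iv F64835)) (tt N10420 (iv F64538)) (tt N9646 F62918) (tt N10422 (iv F64553)) (tt N9320 F62919) (tt N9318 (iv D15895)) (tt N9644 F62920))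
theorem Q10010 : ∀ i, i < 10010 → P i := stepQ 10009 Q10009 (allL N10009 (tt N10561 (iv F65004)) (tt N10009 F62921) (tt N10502 (iv F64839)) (tt N10421 (iv F64545)) (tt N9645 F62922) (tt N9321 F62923) (tt N9644 F62924) (tt N9319 (iv D15896)) (tt N9320 F62925))
theorem Q10011 : ∀ i, i < 10011 → P i := stepQ 10010 Q10010 (allL N10010 (tt N10611 D16498) (tt N9324 (iv D15897)) (tt N10598 (iv F65164)) (tt N10010 F62926) (tt N9973 F62927) (tt N9450 F62928) (tt N9327 F62929) (tt N10571 (iv F65054)) (tt N10010 F62930))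
theorem Q10012 : ∀ i, i < 10012 → P i := stepQ 10011 Q10011 (allL N10011 (tt N10605 (iv F65199)) (tt N9325 (iv D15898)) (tt N10607 (iv F65209)) (tt N10011 F62931) (tt N9977 F62932) (tt N9327 F62933) (tt N10005 F62934) (tt N10574 (iv F65065)) (tt N10011 F62935))
theorem Q10013 : ∀ i, i < 10013 → P i := stepQ 10012 Q10012 (allL N10012 (tt N9327 (iv D15899)) (tt N10012 F62936) (tt N10609 (iv F65218)) (tt N10012 F62937) (tt N9964 F62938) (tt N10605 (iv F65202)) (tt N10611 (iv F65229)) (tt N10575 (iv F65067)) (tt N10012 F62939))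
theorem Q10014 : ∀ i, i < 10014 → P i := stepQ 10013 Q10013 (allL N10013 (tt N10064 (iv F63101)) (tt N9333 F62940) (tt N10013 F62941) (tt N10016 (iv F62954)) (tt N9330 F62942) (tt N10015 (iv F62950)) (tt N10349 (iv F64289)) (tt N10612 D16499) (tt N9329 (iv D15900)))
theorem Q10015 : ∀ i, i < 10015 → P i := stepQ 10014 Q10014 (allL N10014 (tt N10346 (iv F64272)) (tt N9334 F62943) (tt N10014 F62944) (tt N10613 D16500) (tt N10612 (iv F65233)) (tt N10247 (iv F63863)) (tt N10350 (iv F64293)) (tt N9330 (iv D15901)) (tt N9713 F62945))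
theorem Q10016 : ∀ i, i < 10016 → P i := stepQ 10015 Q10015 (allL N10015 (tt N9383 F62946) (tt N10016 (iv F62952)) (tt N10015 F62947) (tt N9333 F62948) (tt N9339 F62949) (tt N10013 F62950) (tt N10463 (iv F64703)) (tt N10614 D16501) (tt N9331 (iv D15902)))
theorem Q10017 : ∀ i, i < 10017 → P i := stepQ 10016 Q10016 (allL N10016 (tt N9385 F62951) (tt N10015 F62952) (tt N9335 F62953) (tt N10013 F62954) (tt N9598 F62955) (tt N9333 F62956) (tt N10473 (iv F64754)) (tt N10615 D16502) (tt N9332 (iv D15903)))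
theorem Q10018 : ∀ i, i < 10018 → P i := stepQ 10017 Q10017 (allL N10017 (tt N9386 F62957) (tt N10612 (iv F65231)) (tt N9336 F62958) (tt N10616 D16503) (tt N9334 F62959) (tt N10615 (iv F65246)) (tt N10464 (iv F64707)) (tt N9333 (iv D15904)) (tt N9717 F62960))
theorem Q10019 : ∀ i, i < 10019 → P i := stepQ 10018 Q10018 (allL N10018 (tt N9387 F62961) (tt N10613 (iv F65235)) (tt N10137 (iv F63350)) (tt N9334 (iv D15905)) (tt N10617 D16504) (tt N10332 (iv F64208)) (tt N10465 (iv F64711)) (tt N9341 F62962) (tt N9718 F62963))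
theorem Q10020 : ∀ i, i < 10020 → P i := stepQ 10019 Q10019 (allL N10019 (tt N9389 F62964) (tt N10019 F62965) (tt N10615 (iv F65244)) (tt N10618 D16505) (tt N9637 F62966) (tt N9336 F62967) (tt N10600 (iv F65179)) (tt N9335 (iv D15906)) (tt N9719 F62968))
theorem Q10021 : ∀ i, i < 10021 → P i := stepQ 10020 Q10020 (allL N10020 (tt N9390 F62969) (tt N10020 F62970) (tt N10619 D16506) (tt N9336 (iv D15907)) (tt N10139 (iv F63360)) (tt N10618 (iv F65255)) (tt N10311 (iv F64095)) (tt N10020 F62971) (tt N9720 F62972))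
theorem Q10022 : ∀ i, i < 10022 → P i := stepQ 10021 Q10021 (allL N10021 (tt N10362 (iv F64334)) (tt N9341 F62973) (tt N10620 D16507) (tt N9337 (iv D15908)) (tt N10621 D16508) (tt N10248 (iv F63867)) (tt N10364 (iv F64345)) (tt N10613 (iv F65236)) (tt N9346 F62974))
theorem Q10023 : ∀ i, i < 10023 → P i := stepQ 10022 Q10022 (allL N10022 (tt N9394 F62975) (tt N10135 (iv F63339)) (tt N10022 F62976) (tt N9350 F62977) (tt N10351 (iv F64298)) (tt N10132 (iv F63326)) (tt N10487 (iv F64787)) (tt N10622 D16509) (tt N9338 (iv D15909)))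
theorem Q10024 : ∀ i, i < 10024 → P i := stepQ 10023 Q10023 (allL N10023 (tt N9395 F62978) (tt N10256 (iv F63907)) (tt N10023 F62979) (tt N10623 D16510) (tt N10614 (iv F65240)) (tt N10252 (iv F63889)) (tt N10488 (iv F64790)) (tt N9339 (iv D15910)) (tt N10622 (iv F65267)))
theorem Q10025 : ∀ i, i < 10025 → P i := stepQ 10024 Q10024 (allL N10024 (tt N9397 F62980) (tt N10259 (iv F63920)) (tt N10624 D16511) (tt N9340 (iv D15911)) (tt N10625 D16512) (tt N10253 (iv F63893)) (tt N10489 (iv F64792)) (tt N10623 (iv F65269)) (tt N9353 F62981))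
theorem Q10026 : ∀ i, i < 10026 → P i := stepQ 10025 Q10025 (allL N10025 (tt N9398 F62982) (tt N10621 (iv F65263)) (tt N10155 (iv F63451)) (tt N10625 (iv F65274)) (tt N9341 (iv D15912)) (tt N10626 D16513) (tt N10490 (iv F64795)) (tt N10617 (iv F65251)) (tt N9354 F62983))
theorem Q10027 : ∀ i, i < 10027 → P i := stepQ 10026 Q10026 (allL N10026 (tt N9400 F62984) (tt N10627 D16514) (tt N9342 (iv D15913)) (tt N10624 (iv F65271)) (tt N10157 (iv F63461)) (tt N10321 (iv F64145)) (tt N10566 (iv F65031)) (tt N10026 F62985) (tt N9356 F62986))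
theorem Q10028 : ∀ i, i < 10028 → P i := stepQ 10027 Q10027 (allL N10027 (tt N10212 (iv F63727)) (tt N9350 F62987) (tt N10027 F62988) (tt N10135 (iv F63341)) (tt N9756 F62989) (tt N10134 (iv F63336)) (tt N10391 (iv F64442)) (tt N10628 D16515) (tt N9343 (iv D15914)))
theorem Q10029 : ∀ i, i < 10029 → P i := stepQ 10028 Q10028 (allL N10028 (tt N10381 (iv F64402)) (tt N9351 F62990) (tt N10028 F62991) (tt N10629 D16516) (tt N9757 F62992) (tt N10223 (iv F63772)) (tt N10392 (iv F64447)) (tt N9344 (iv D15915)) (tt N10628 (iv F65284)))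
theorem Q10030 : ∀ i, i < 10030 → P i := stepQ 10029 Q10029 (allL N10029 (tt N10382 (iv F64406)) (tt N9353 F62993) (tt N10630 D16517) (tt N9345 (iv D15916)) (tt N10631 D16518) (tt N10224 (iv F63775)) (tt N10393 (iv F64450)) (tt N10629 (iv F65286)) (tt N10259 (iv F63922)))
theorem Q10031 : ∀ i, i < 10031 → P i := stepQ 10030 Q10030 (allL N10030 (tt N10383 (iv F64410)) (tt N10174 (iv F63547)) (tt N9346 (iv D15917)) (tt N9373 F62994) (tt N10632 D16519) (tt N10337 (iv F64233)) (tt N10394 (iv F64453)) (tt N9760 F62995) (tt N10620 (iv F65262)))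
theorem Q10032 : ∀ i, i < 10032 → P i := stepQ 10031 Q10031 (allL N10031 (tt N10384 (iv F64413)) (tt N9354 F62996) (tt N10632 (iv F65290)) (tt N10631 (iv F65289)) (tt N9346 (iv D15918)) (tt N10633 D16520) (tt N10395 (iv F64457)) (tt N9761 F62997) (tt N10621 (iv F65264)))
theorem Q10033 : ∀ i, i < 10033 → P i := stepQ 10032 Q10032 (allL N10032 (tt N9401 F62998) (tt N10151 (iv F63434)) (tt N9357 F62999) (tt N9934 F63000) (tt N9349 F63001) (tt N9762 F63002) (tt N10209 (iv F63718)) (tt N10634 D16521) (tt N9347 (iv D15919)))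
theorem Q10034 : ∀ i, i < 10034 → P i := stepQ 10033 Q10033 (allL N10033 (tt N9403 F63003) (tt N10134 (iv F63332)) (tt N9359 F63004) (tt N10132 (iv F63324)) (tt N10147 (iv F63414)) (tt N9350 F63005) (tt N10229 (iv F63801)) (tt N10635 D16522) (tt N9348 (iv D15920)))
theorem Q10035 : ∀ i, i < 10035 → P i := stepQ 10034 Q10034 (allL N10034 (tt N9404 F63006) (tt N10223 (iv F63770)) (tt N9360 F63007) (tt N10636 D16523) (tt N10634 (iv F65296)) (tt N9351 F63008) (tt N10230 (iv F63805)) (tt N9349 (iv D15921)) (tt N10635 (iv F65301)))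
theorem Q10036 : ∀ i, i < 10036 → P i := stepQ 10035 Q10035 (allL N10035 (tt N9405 F63009) (tt N10628 (iv F65281)) (tt N9361 F63010) (tt N10637 D16524) (tt N9766 F63011) (tt N10635 (iv F65300)) (tt N10523 (iv F64908)) (tt N9350 (iv D15922)) (tt N9351 F63012))
theorem Q10037 : ∀ i, i < 10037 → P i := stepQ 10036 Q10036 (allL N10036 (tt N9406 F63013) (tt N10629 (iv F65285)) (tt N10638 D16525) (tt N9351 (iv D15923)) (tt N10639 D16526) (tt N10636 (iv F65303)) (tt N10524 (iv F64911)) (tt N9353 F63014) (tt N10637 (iv F65306)))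
theorem Q10038 : ∀ i, i < 10038 → P i := stepQ 10037 Q10037 (allL N10037 (tt N9408 F63015) (tt N10224 (iv F63774)) (tt N10640 D16527) (tt N9352 (iv D15924)) (tt N10641 D16528) (tt N9353 F63016) (tt N10232 (iv F63815)) (tt N10636 (iv F65304)) (tt N10253 (iv F63895)))
theorem Q10039 : ∀ i, i < 10039 → P i := stepQ 10038 Q10038 (allL N10038 (tt N9409 F63017) (tt N10642 D16529) (tt N9353 (iv D15925)) (tt N9356 F63018) (tt N10643 D16530) (tt N10640 (iv F65315)) (tt N10526 (iv F64917)) (tt N10638 (iv F65309)) (tt N10624 (iv F65272)))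
theorem Q10040 : ∀ i, i < 10040 → P i := stepQ 10039 Q10039 (allL N10039 (tt N9410 F63019) (tt N10631 (iv F65288)) (tt N10643 (iv F65319)) (tt N9354 F63020) (tt N9353 (iv D15926)) (tt N10644 D16531) (tt N10527 (iv F64920)) (tt N10639 (iv F65312)) (tt N10625 (iv F65275)))
theorem Q10041 : ∀ i, i < 10041 → P i := stepQ 10040 Q10040 (allL N10040 (tt N9411 F63021) (tt N10633 (iv F65292)) (tt N10185 (iv F63586)) (tt N10644 (iv F65321)) (tt N10341 (iv F64249)) (tt N9354 (iv D15927)) (tt N10645 D16532) (tt N9772 F63022) (tt N10626 (iv F65277)))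
theorem Q10042 : ∀ i, i < 10042 → P i := stepQ 10041 Q10041 (allL N10041 (tt N9413 F63023) (tt N10430 (iv F64594)) (tt N9355 (iv D15928)) (tt N10640 (iv F65314)) (tt N10342 (iv F64253)) (tt N9356 F63024) (tt N10318 (iv F64126)) (tt N9367 F63025) (tt N10321 (iv F64148)))
theorem Q10043 : ∀ i, i < 10043 → P i := stepQ 10042 Q10042 (allL N10042 (tt N10646 D16533) (tt N9356 (iv D15929)) (tt N9378 F63026) (tt N10642 (iv F65317)) (tt N10187 (iv F63594)) (tt N10430 (iv F64596)) (tt N10570 (iv F65049)) (tt N9368 F63027) (tt N10627 (iv F65280)))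
theorem Q10044 : ∀ i, i < 10044 → P i := stepQ 10043 Q10043 (allL N10043 (tt N9416 F63028) (tt N10043 F63029) (tt N10634 (iv F65295)) (tt N9644 F63030) (tt N9360 F63031) (tt N9779 F63032) (tt N10421 (iv F64548)) (tt N9357 (iv D15930)) (tt N10420 (iv F64542)))
theorem Q10045 : ∀ i, i < 10045 → P i := stepQ 10044 Q10044 (allL N10044 (tt N9417 F63033) (tt N10044 F63034) (tt N10230 (iv F63804)) (tt N10647 D16534) (tt N10421 (iv F64546)) (tt N10577 (iv F65074)) (tt N9360 F63035) (tt N9358 (iv D15931)) (tt N10419 (iv F64535)))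
theorem Q10046 : ∀ i, i < 10046 → P i := stepQ 10045 Q10045 (allL N10045 (tt N9418 F63036) (tt N10045 F63037) (tt N10635 (iv F65299)) (tt N10648 D16535) (tt N10420 (iv F64539)) (tt N9361 F63038) (tt N10419 (iv F64534)) (tt N9359 (iv D15932)) (tt N9360 F63039))
theorem Q10047 : ∀ i, i < 10047 → P i := stepQ 10046 Q10046 (allL N10046 (tt N9419 F63040) (tt N10046 F63041) (tt N10649 D16536) (tt N9360 (iv D15933)) (tt N9647 F63042) (tt N9362 F63043) (tt N10647 (iv F65331)) (tt N9364 F63044) (tt N10648 (iv F65338)))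
theorem Q10048 : ∀ i, i < 10048 → P i := stepQ 10047 Q10047 (allL N10047 (tt N9420 F63045) (tt N10047 F63046) (tt N10650 D16537) (tt N9361 (iv D15934)) (tt N10651 D16538) (tt N10648 (iv F65336)) (tt N10580 (iv F65090)) (tt N10047 F63047) (tt N9362 F63048))
theorem Q10049 : ∀ i, i < 10049 → P i := stepQ 10048 Q10048 (allL N10048 (tt N9421 F63049) (tt N10652 D16539) (tt N9362 (iv D15935)) (tt N10638 (iv F65308)) (tt N10653 D16540) (tt N10649 (iv F65341)) (tt N10581 (iv F65094)) (tt N9365 F63050) (tt N10650 (iv F65345)))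
theorem Q10050 : ∀ i, i < 10050 → P i := stepQ 10049 Q10049 (allL N10049 (tt N9422 F63051) (tt N10049 F63052) (tt N10653 (iv F65356)) (tt N9785 F63053) (tt N9362 (iv D15936)) (tt N9650 F63054) (tt N10001 F63055) (tt N9366 F63056) (tt N10651 (iv F65352)))
theorem Q10051 : ∀ i, i < 10051 → P i := stepQ 10050 Q10050 (allL N10050 (tt N9423 F63057) (tt N10050 F63058) (tt N10344 (iv F64264)) (tt N9363 (iv D15937)) (tt N9651 F63059) (tt N10582 (iv F65098)) (tt N9364 F63060) (tt N10647 (iv F65332)) (tt N10050 F63061))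
theorem Q10052 : ∀ i, i < 10052 → P i := stepQ 10051 Q10051 (allL N10051 (tt N9424 F63062) (tt N10434 (iv F64608)) (tt N9364 (iv D15938)) (tt N9367 F63063) (tt N9652 F63064) (tt N9365 F63065) (tt N10344 (iv F64266)) (tt N10649 (iv F65342)) (tt N10051 F63066))
theorem Q10053 : ∀ i, i < 10053 → P i := stepQ 10052 Q10052 (allL N10052 (tt N10654 D16541) (tt N9365 (iv D15939)) (tt N10052 F63067) (tt N9368 F63068) (tt N10655 D16542) (tt N10434 (iv F64611)) (tt N10584 (iv F65107)) (tt N10652 (iv F65354)) (tt N10052 F63069))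
theorem Q10054 : ∀ i, i < 10054 → P i := stepQ 10053 Q10053 (allL N10053 (tt N9427 F63070) (tt N10655 (iv F65365)) (tt N9366 F63071) (tt N9996 F63072) (tt N9365 (iv D15940)) (tt N9654 F63073) (tt N10003 F63074) (tt N10653 (iv F65359)) (tt N10053 F63075))
theorem Q10055 : ∀ i, i < 10055 → P i := stepQ 10054 Q10054 (allL N10054 (tt N9368 (iv D15941)) (tt N9431 F63076) (tt N9379 F63077) (tt N10654 (iv F65362)) (tt N10193 (iv F63622)) (tt N9380 F63078) (tt N10305 (iv F64070)) (tt N10646 (iv F65327)) (tt N10054 F63079))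
theorem Q10056 : ∀ i, i < 10056 → P i := stepQ 10055 Q10055 (allL N10055 (tt N10427 (iv F64579)) (tt N10196 (iv F63640)) (tt N9369 (iv D15942)) (tt N10620 (iv F65261)) (tt N10656 D16543) (tt N10250 (iv F63875)) (tt N10428 (iv F64585)) (tt N10055 F63080) (tt N9373 F63081))
theorem Q10057 : ∀ i, i < 10057 → P i := stepQ 10056 Q10056 (allL N10056 (tt N10322 (iv F64149)) (tt N9370 F63082) (tt N10656 (iv F65371)) (tt N10264 (iv F63935)) (tt N9369 (iv D15943)) (tt N10327 (iv F64179)) (tt N10319 (iv F64133)) (tt N10056 F63083) (tt N9374 F63084))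
theorem Q10058 : ∀ i, i < 10058 → P i := stepQ 10057 Q10057 (allL N10057 (tt N10327 (iv F64176)) (tt N9371 (iv D15944)) (tt N10627 (iv F65278)) (tt N10323 (iv F64157)) (tt N10198 (iv F63653)) (tt N10322 (iv F64152)) (tt N10568 (iv F65041)) (tt N10057 F63085) (tt N9378 F63086))
theorem Q10059 : ∀ i, i < 10059 → P i := stepQ 10058 Q10058 (allL N10058 (tt N10429 (iv F64588)) (tt N10657 D16544) (tt N9372 (iv D15945)) (tt N10630 (iv F65287)) (tt N10658 D16545) (tt N10226 (iv F63782)) (tt N10431 (iv F64600)) (tt N10058 F63087) (tt N10263 (iv F63932)))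
theorem Q10060 : ∀ i, i < 10060 → P i := stepQ 10059 Q10059 (allL N10059 (tt N10317 (iv F64116)) (tt N9376 F63088) (tt N10658 (iv F65376)) (tt N9374 F63089) (tt N9372 (iv D15946)) (tt N10568 (iv F65040)) (tt N10320 (iv F64140)) (tt N10059 F63090) (tt N10264 (iv F63939)))
theorem Q10061 : ∀ i, i < 10061 → P i := stepQ 10060 Q10060 (allL N10060 (tt N10430 (iv F64593)) (tt N10201 (iv F63669)) (tt N9374 F63091) (tt N10659 D16546) (tt N9373 (iv D15947)) (tt N10646 (iv F65326)) (tt N10297 (iv F64034)) (tt N9380 F63092) (tt N10656 (iv F65373)))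
theorem Q10062 : ∀ i, i < 10062 → P i := stepQ 10061 Q10061 (allL N10061 (tt N9378 F63093) (tt N9377 F63094) (tt N10646 (iv F65325)) (tt N10568 (iv F65039)) (tt N10202 (iv F63676)) (tt N9374 (iv D15948)) (tt N10323 (iv F64160)) (tt N9379 F63095) (tt N10327 (iv F64182)))
theorem Q10063 : ∀ i, i < 10063 → P i := stepQ 10062 Q10062 (allL N10062 (tt N10568 (iv F65037)) (tt N9375 (iv D15949)) (tt N10657 (iv F65374)) (tt N9378 F63096) (tt N10325 (iv F64169)) (tt N10317 (iv F64119)) (tt N10327 (iv F64180)) (tt N10062 F63097) (tt N10323 (iv F64162)))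
theorem Q10064 : ∀ i, i < 10064 → P i := stepQ 10063 Q10063 (allL N10063 (tt N10434 (iv F64607)) (tt N10203 (iv F63682)) (tt N10063 F63098) (tt N9380 (iv D15950)) (tt N9801 F63099) (tt N10654 (iv F65363)) (tt N10314 (iv F64105)) (tt N10660 D16547) (tt N10063 F63100))
theorem Q10065 : ∀ i, i < 10065 → P i := stepQ 10064 Q10064 (allL N10064 (tt N10013 F63101) (tt N9706 F63102) (tt N10064 F63103) (tt N9385 F63104) (tt N9705 F63105) (tt N9383 F63106) (tt N9712 F63107) (tt N10661 D16548) (tt N9381 (iv D15951)))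
theorem Q10066 : ∀ i, i < 10066 → P i := stepQ 10065 Q10065 (allL N10065 (tt N10351 (iv F64295)) (tt N10459 (iv F64684)) (tt N10065 F63108) (tt N9843 F63109) (tt N9394 F63110) (tt N10349 (iv F64288)) (tt N10467 (iv F64725)) (tt N10662 D16549) (tt N9382 (iv D15952)))
theorem Q10067 : ∀ i, i < 10067 → P i := stepQ 10066 Q10066 (allL N10066 (tt N10614 (iv F65238)) (tt N10426 (iv F64574)) (tt N10066 F63111) (tt N10663 D16550) (tt N9395 F63112) (tt N10661 (iv F65384)) (tt N10468 (iv F64729)) (tt N9383 (iv D15953)) (tt N10662 (iv F65388)))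
theorem Q10068 : ∀ i, i < 10068 → P i := stepQ 10067 Q10067 (allL N10067 (tt N10473 (iv F64748)) (tt N9715 F63113) (tt N9388 F63114) (tt N9712 F63115) (tt N9725 F63116) (tt N10354 (iv F64310)) (tt N9385 F63117) (tt N10664 D16551) (tt N9384 (iv D15954)))
theorem Q10069 : ∀ i, i < 10069 → P i := stepQ 10068 Q10068 (allL N10068 (tt N10615 (iv F65242)) (tt N9933 F63118) (tt N9389 F63119) (tt N10665 D16552) (tt N9932 F63120) (tt N9386 F63121) (tt N10664 (iv F65393)) (tt N9385 (iv D15955)) (tt N9846 F63122))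
theorem Q10070 : ∀ i, i < 10070 → P i := stepQ 10069 Q10069 (allL N10069 (tt N10616 (iv F65248)) (tt N10460 (iv F64689)) (tt N10666 D16553) (tt N9386 (iv D15956)) (tt N10667 D16554) (tt N10665 (iv F65396)) (tt N10470 (iv F64736)) (tt N10663 (iv F65389)) (tt N9847 F63123))
theorem Q10071 : ∀ i, i < 10071 → P i := stepQ 10070 Q10070 (allL N10070 (tt N10617 (iv F65250)) (tt N10461 (iv F64691)) (tt N10217 (iv F63745)) (tt N10667 (iv F65400)) (tt N9387 (iv D15957)) (tt N10668 D16555) (tt N10471 (iv F64739)) (tt N9398 F63124) (tt N9848 F63125))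
theorem Q10072 : ∀ i, i < 10072 → P i := stepQ 10071 Q10071 (allL N10071 (tt N10600 (iv F65175)) (tt N9436 F63126) (tt N10664 (iv F65391)) (tt N10669 D16556) (tt N9989 F63127) (tt N10563 (iv F65019)) (tt N9389 F63128) (tt N9388 (iv D15958)) (tt N9849 F63129))
theorem Q10073 : ∀ i, i < 10073 → P i := stepQ 10072 Q10072 (allL N10072 (tt N10618 (iv F65253)) (tt N9437 F63130) (tt N10670 D16557) (tt N9389 (iv D15959)) (tt N10671 D16558) (tt N9390 F63131) (tt N10669 (iv F65406)) (tt N10072 F63132) (tt N9850 F63133))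
theorem Q10074 : ∀ i, i < 10074 → P i := stepQ 10073 Q10073 (allL N10073 (tt N10619 (iv F65258)) (tt N10672 D16559) (tt N9390 (iv D15960)) (tt N10666 (iv F65398)) (tt N10220 (iv F63757)) (tt N10670 (iv F65409)) (tt N10572 (iv F65055)) (tt N10073 F63134) (tt N9851 F63135))
theorem Q10075 : ∀ i, i < 10075 → P i := stepQ 10074 Q10074 (allL N10074 (tt N9589 F63136) (tt N9703 F63137) (tt N10074 F63138) (tt N9480 F63139) (tt N9393 F63140) (tt N9705 F63141) (tt N9736 F63142) (tt N10673 D16560) (tt N9391 (iv D15961)))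
theorem Q10076 : ∀ i, i < 10076 → P i := stepQ 10075 Q10075 (allL N10075 (tt N10132 (iv F63321)) (tt N10207 (iv F63702)) (tt N10075 F63143) (tt N9403 F63144) (tt N10131 (iv F63318)) (tt N9394 F63145) (tt N10267 (iv F63955)) (tt N10674 D16561) (tt N9392 (iv D15962)))
theorem Q10077 : ∀ i, i < 10077 → P i := stepQ 10076 Q10076 (allL N10076 (tt N10252 (iv F63885)) (tt N10423 F64561) (tt N10076 F63146) (tt N10675 D16562) (tt N10673 (iv F65422)) (tt N9395 F63147) (tt N10268 (iv F63958)) (tt N9393 (iv D15963)) (tt N10674 (iv F65427)))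
theorem Q10078 : ∀ i, i < 10078 → P i := stepQ 10077 Q10077 (allL N10077 (tt N10622 (iv F65265)) (tt N10424 F64566) (tt N10077 F63148) (tt N10676 D16563) (tt N10662 (iv F65387)) (tt N10674 (iv F65426)) (tt N10494 (iv F64814)) (tt N9394 (iv D15964)) (tt N9395 F63149))
theorem Q10079 : ∀ i, i < 10079 → P i := stepQ 10078 Q10078 (allL N10078 (tt N10623 (iv F65268)) (tt N10411 F64511) (tt N10677 D16564) (tt N9395 (iv D15965)) (tt N10678 D16565) (tt N10675 (iv F65428)) (tt N10495 (iv F64817)) (tt N9397 F63150) (tt N10676 (iv F65431)))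
theorem Q10080 : ∀ i, i < 10080 → P i := stepQ 10079 Q10079 (allL N10079 (tt N10253 (iv F63891)) (tt N10414 F64520) (tt N10679 D16566) (tt N9396 (iv D15966)) (tt N10680 D16567) (tt N9397 F63151) (tt N10270 (iv F63967)) (tt N10675 (iv F65429)) (tt N9408 F63152))
theorem Q10081 : ∀ i, i < 10081 → P i := stepQ 10080 Q10080 (allL N10080 (tt N10624 (iv F65270)) (tt N10402 (iv F64482)) (tt N9397 (iv D15967)) (tt N9400 F63153) (tt N10681 D16568) (tt N10679 (iv F65436)) (tt N10497 (iv F64823)) (tt N10677 (iv F65433)) (tt N9409 F63154))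
theorem Q10082 : ∀ i, i < 10082 → P i := stepQ 10081 Q10081 (allL N10081 (tt N10625 (iv F65273)) (tt N10416 (iv F64523)) (tt N10681 (iv F65439)) (tt N9398 F63155) (tt N9397 (iv D15968)) (tt N10682 D16569) (tt N10498 (iv F64827)) (tt N10678 (iv F65434)) (tt N9410 F63156))
theorem Q10083 : ∀ i, i < 10083 → P i := stepQ 10082 Q10082 (allL N10082 (tt N10626 (iv F65276)) (tt N10486 (iv F64780)) (tt N10244 (iv F63851)) (tt N10682 (iv F65441)) (tt N10441 (iv F64634)) (tt N9398 (iv D15969)) (tt N10683 D16570) (tt N10668 (iv F65402)) (tt N9411 F63157))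
theorem Q10084 : ∀ i, i < 10084 → P i := stepQ 10083 Q10083 (allL N10083 (tt N10321 (iv F64143)) (tt N10432 (iv F64603)) (tt N9399 (iv D15970)) (tt N10679 (iv F65435)) (tt N10380 (iv F64399)) (tt N9400 F63158) (tt N10324 (iv F64164)) (tt N10083 F63159) (tt N9413 F63160))
theorem Q10085 : ∀ i, i < 10085 → P i := stepQ 10084 Q10084 (allL N10084 (tt N10634 (iv F65294)) (tt N10510 (iv F64855)) (tt N9416 F63161) (tt N10684 D16571) (tt N9404 F63162) (tt N9905 F63163) (tt N10512 (iv F64870)) (tt N9401 (iv D15971)) (tt N10511 (iv F64865)))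
theorem Q10086 : ∀ i, i < 10086 → P i := stepQ 10085 Q10085 (allL N10085 (tt N10230 (iv F63802)) (tt N10511 (iv F64860)) (tt N9417 F63164) (tt N10685 D16572) (tt N10512 (iv F64868)) (tt N10530 (iv F64929)) (tt N9404 F63165) (tt N9402 (iv D15972)) (tt N10510 (iv F64859)))
theorem Q10087 : ∀ i, i < 10087 → P i := stepQ 10086 Q10086 (allL N10086 (tt N10635 (iv F65298)) (tt N10512 (iv F64866)) (tt N9418 F63166) (tt N10686 D16573) (tt N10511 (iv F64862)) (tt N9405 F63167) (tt N10510 (iv F64858)) (tt N9403 (iv D15973)) (tt N9404 F63168))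
theorem Q10088 : ∀ i, i < 10088 → P i := stepQ 10087 Q10087 (allL N10087 (tt N10636 (iv F65302)) (tt N10513 (iv F64872)) (tt N10687 D16574) (tt N9404 (iv D15974)) (tt N10688 D16575) (tt N9406 F63169) (tt N10685 (iv F65445)) (tt N9408 F63170) (tt N10686 (iv F65448)))
theorem Q10089 : ∀ i, i < 10089 → P i := stepQ 10088 Q10088 (allL N10088 (tt N10637 (iv F65305)) (tt N10514 (iv F64875)) (tt N10689 D16576) (tt N9405 (iv D15975)) (tt N10690 D16577) (tt N10686 (iv F65447)) (tt N10533 (iv F64942)) (tt N10676 (iv F65430)) (tt N9406 F63171))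
theorem Q10090 : ∀ i, i < 10090 → P i := stepQ 10089 Q10089 (allL N10089 (tt N10638 (iv F65307)) (tt N10691 D16578) (tt N9406 (iv D15976)) (tt N9421 F63172) (tt N10692 D16579) (tt N10687 (iv F65450)) (tt N10534 (iv F64945)) (tt N9409 F63173) (tt N10689 (iv F65454)))
theorem Q10091 : ∀ i, i < 10091 → P i := stepQ 10090 Q10090 (allL N10090 (tt N10639 (iv F65310)) (tt N10515 (iv F64878)) (tt N10692 (iv F65459)) (tt N9911 F63174) (tt N9406 (iv D15977)) (tt N10693 D16580) (tt N10535 (iv F64949)) (tt N9410 F63175) (tt N10690 (iv F65456)))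
theorem Q10092 : ∀ i, i < 10092 → P i := stepQ 10091 Q10091 (allL N10091 (tt N10232 (iv F63813)) (tt N10516 (iv F64881)) (tt N10694 D16581) (tt N9407 (iv D15978)) (tt N10695 D16582) (tt N10536 (iv F64952)) (tt N9408 F63176) (tt N10685 (iv F65446)) (tt N10270 (iv F63968)))
theorem Q10093 : ∀ i, i < 10093 → P i := stepQ 10092 Q10092 (allL N10092 (tt N10640 (iv F65313)) (tt N10696 D16583) (tt N9408 (iv D15979)) (tt N9413 F63177) (tt N10697 D16584) (tt N9409 F63178) (tt N10694 (iv F65464)) (tt N10687 (iv F65451)) (tt N10679 (iv F65437)))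
theorem Q10094 : ∀ i, i < 10094 → P i := stepQ 10093 Q10093 (allL N10093 (tt N10641 (iv F65316)) (tt N10517 (iv F64884)) (tt N10697 (iv F65468)) (tt N10455 (iv F64676)) (tt N9408 (iv D15980)) (tt N10698 D16585) (tt N10695 (iv F65465)) (tt N10688 (iv F65452)) (tt N10680 (iv F65438)))
theorem Q10095 : ∀ i, i < 10095 → P i := stepQ 10094 Q10094 (allL N10094 (tt N10699 D16586) (tt N9409 (iv D15981)) (tt N10366 (iv F64351)) (tt N9415 F63179) (tt N10700 D16587) (tt N10696 (iv F65467)) (tt N10539 (iv F64959)) (tt N10691 (iv F65458)) (tt N10402 (iv F64484)))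
theorem Q10096 : ∀ i, i < 10096 → P i := stepQ 10095 Q10095 (allL N10095 (tt N10643 (iv F65318)) (tt N10700 (iv F65471)) (tt N9410 F63180) (tt N10294 (iv F64027)) (tt N9409 (iv D15982)) (tt N10701 D16588) (tt N10540 (iv F64961)) (tt N10692 (iv F65460)) (tt N10681 (iv F65440)))
theorem Q10097 : ∀ i, i < 10097 → P i := stepQ 10096 Q10096 (allL N10096 (tt N10644 (iv F65320)) (tt N10518 (iv F64885)) (tt N10701 (iv F65472)) (tt N9411 F63181) (tt N10698 (iv F65469)) (tt N9410 (iv D15983)) (tt N10702 D16589) (tt N10693 (iv F65462)) (tt N10682 (iv F65442)))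
theorem Q10098 : ∀ i, i < 10098 → P i := stepQ 10097 Q10097 (allL N10097 (tt N10645 (iv F65322)) (tt N10519 (iv F64887)) (tt N10296 (iv F64029)) (tt N10702 (iv F65473)) (tt N10457 (iv F64679)) (tt N10542 (iv F64965)) (tt N9411 (iv D15984)) (tt N9918 F63182) (tt N10683 (iv F65443)))
theorem Q10099 : ∀ i, i < 10099 → P i := stepQ 10098 Q10098 (allL N10098 (tt N10318 (iv F64123)) (tt N10186 (iv F63589)) (tt N9412 (iv D15985)) (tt N10694 (iv F65463)) (tt N10343 (iv F64258)) (tt N10187 (iv F63595)) (tt N9413 F63183) (tt N9428 F63184) (tt N10324 (iv F64166)))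
theorem Q10100 : ∀ i, i < 10100 → P i := stepQ 10099 Q10099 (allL N10099 (tt N10201 (iv F63668)) (tt N9413 (iv D15986)) (tt N9434 F63185) (tt N10696 (iv F65466)) (tt N10200 (iv F63665)) (tt N9415 F63186) (tt N10186 (iv F63591)) (tt N9429 F63187) (tt N10432 (iv F64606)))
theorem Q10101 : ∀ i, i < 10101 → P i := stepQ 10100 Q10100 (allL N10100 (tt N10342 (iv F64251)) (tt N10200 (iv F63664)) (tt N9414 F63188) (tt N10703 D16590) (tt N9413 (iv D15987)) (tt N10199 (iv F63660)) (tt N10343 (iv F64260)) (tt N9430 F63189) (tt N10380 (iv F64401)))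
theorem Q10102 : ∀ i, i < 10102 → P i := stepQ 10101 Q10101 (allL N10101 (tt N9415 (iv D15988)) (tt N10646 (iv F65324)) (tt N9435 F63190) (tt N10699 (iv F65470)) (tt N10298 (iv F64038)) (tt N10201 F63673) (tt N10263 (iv F63930)) (tt N9431 F63191) (tt N10431 (iv F64602)))
theorem Q10103 : ∀ i, i < 10103 → P i := stepQ 10102 Q10102 (allL N10102 (tt N9644 F63192) (tt N9439 F63193) (tt N10704 D16591) (tt N9416 (iv D15989)) (tt N9513 (iv F63196)) (tt N9927 F63194) (tt N10561 (iv F65008)) (tt N9432 F63195) (tt N10560 (iv F65002)))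
theorem Q10104 : ∀ i, i < 10104 → P i := stepQ 10103 Q10103 (allL N10103 (tt N10647 (iv F65328)) (tt N9440 F63197) (tt N10705 D16592) (tt N9417 (iv D15990)) (tt N10125 (iv F63294)) (tt N10586 (iv F65116)) (tt N9419 F63198) (tt N9423 F63199) (tt N10559 (iv F64996)))
theorem Q10105 : ∀ i, i < 10105 → P i := stepQ 10104 Q10104 (allL N10104 (tt N10648 (iv F65333)) (tt N9441 F63200) (tt N10706 D16593) (tt N9418 (iv D15991)) (tt N10707 D16594) (tt N9420 F63201) (tt N10559 (iv F64994)) (tt N10104 F63202) (tt N9419 F63203))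
theorem Q10106 : ∀ i, i < 10106 → P i := stepQ 10105 Q10105 (allL N10105 (tt N10649 (iv F65339)) (tt N10708 D16595) (tt N9419 (iv D15992)) (tt N10687 (iv F65449)) (tt N10709 D16596) (tt N9421 F63204) (tt N10705 (iv F65478)) (tt N9424 F63205) (tt N10706 (iv F65482)))
theorem Q10107 : ∀ i, i < 10107 → P i := stepQ 10106 Q10106 (allL N10106 (tt N9647 F63206) (tt N9443 F63207) (tt N10709 (iv F65495)) (tt N9513 F63208) (tt N9419 (iv D15993)) (tt N9515 F63209) (tt N10125 (iv F63296)) (tt N9425 F63210) (tt N10707 (iv F65488)))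
theorem Q10108 : ∀ i, i < 10108 → P i := stepQ 10107 Q10107 (allL N10107 (tt N10650 (iv F65343)) (tt N10710 D16597) (tt N9420 (iv D15994)) (tt N10689 (iv F65453)) (tt N10711 D16598) (tt N10706 (iv F65480)) (tt N10588 (iv F65124)) (tt N10107 F63211) (tt N9421 F63212))
theorem Q10109 : ∀ i, i < 10109 → P i := stepQ 10108 Q10108 (allL N10108 (tt N10651 (iv F65346)) (tt N9445 F63213) (tt N10711 (iv F65502)) (tt N9931 F63214) (tt N9420 (iv D15995)) (tt N9950 (iv F63217)) (tt N10589 (iv F65129)) (tt N10108 F63215) (tt N9422 F63216))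
theorem Q10110 : ∀ i, i < 10110 → P i := stepQ 10109 Q10109 (allL N10109 (tt N10712 D16599) (tt N9421 (iv D15996)) (tt N9446 F63218) (tt N10691 (iv F65457)) (tt N10713 D16600) (tt N10708 (iv F65490)) (tt N10590 (iv F65134)) (tt N9426 F63219) (tt N10710 (iv F65501)))
theorem Q10111 : ∀ i, i < 10111 → P i := stepQ 10110 Q10110 (allL N10110 (tt N10653 (iv F65355)) (tt N10713 (iv F65508)) (tt N9422 F63220) (tt N10714 D16601) (tt N9421 (iv D15997)) (tt N10462 (iv F64696)) (tt N10591 (iv F65137)) (tt N9427 F63221) (tt N10711 (iv F65504)))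
theorem Q10112 : ∀ i, i < 10112 → P i := stepQ 10111 Q10111 (allL N10111 (tt N10344 (iv F64262)) (tt N10113 (iv F63231)) (tt N9423 (iv D15998)) (tt N9428 F63222) (tt N10112 F63229) (tt N10192 (iv F63617)) (tt N9424 F63223) (tt N10705 (iv F65479)) (tt N10111 F63224))
theorem Q10113 : ∀ i, i < 10113 → P i := stepQ 10112 Q10112 (allL N10112 (tt N10203 (iv F63681)) (tt N9424 (iv D15999)) (tt N9448 F63225) (tt N9429 F63226) (tt N10111 (iv F63229)) (tt N9426 F63227) (tt N10113 (iv F63234)) (tt N10708 (iv F65491)) (tt N10112 F63228))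
theorem Q10114 : ∀ i, i < 10114 → P i := stepQ 10113 Q10113 (allL N10113 (tt N9652 F63230) (tt N10111 F63231) (tt N9425 F63232) (tt N9517 (iv F63236)) (tt N9424 (iv D16000)) (tt N9516 F63233) (tt N10112 F63234) (tt N10709 (iv F65498)) (tt N10113 F63235))
theorem Q10115 : ∀ i, i < 10115 → P i := stepQ 10114 Q10114 (allL N10114 (tt N9426 (iv D16001)) (tt N10654 (iv F65360)) (tt N9449 F63237) (tt N9431 F63238) (tt N10715 D16602) (tt N10203 (iv F63684)) (tt N10302 (iv F64056)) (tt N10712 (iv F65507)) (tt N10114 F63239))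
theorem Q10116 : ∀ i, i < 10116 → P i := stepQ 10115 Q10115 (allL N10115 (tt N10715 (iv F65512)) (tt N9427 F63240) (tt N9450 F63241) (tt N10316 (iv F64114)) (tt N9426 (iv D16002)) (tt N10598 (iv F65166)) (tt N10592 (iv F65141)) (tt N10713 (iv F65510)) (tt N10115 F63242))
theorem Q10117 : ∀ i, i < 10117 → P i := stepQ 10116 Q10116 (allL N10116 (tt N9540 F63243) (tt N9701 F63244) (tt N9433 F63245) (tt N9430 (iv D16003)) (tt N9517 F63246) (tt N9700 F63247) (tt N9541 F63248) (tt N10716 D16603) (tt N10116 F63249))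
theorem Q10118 : ∀ i, i < 10118 → P i := stepQ 10117 Q10117 (allL N10117 (tt N9623 F63250) (tt N10177 (iv F63558)) (tt N9432 (iv D16004)) (tt N9762 F63251) (tt N9500 F63252) (tt N9934 F63253) (tt N10370 (iv F64369)) (tt N10704 (iv F65477)) (tt N9497 F63254))
theorem Q10119 : ∀ i, i < 10119 → P i := stepQ 10118 Q10118 (allL N10118 (tt N9531 F63255) (tt N9537 F63256) (tt N10716 (iv F65517)) (tt N9530 F63257) (tt N9508 F63258) (tt N9697 F63259) (tt N9533 F63260) (tt N9433 (iv D16005)) (tt N9825 (iv F63261)))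
theorem Q10120 : ∀ i, i < 10120 → P i := stepQ 10119 Q10119 (allL N10119 (tt N10119 F63262) (tt N10669 (iv F65404)) (tt N10121 (iv F63274)) (tt N9436 (iv D16006)) (tt N10120 F63272) (tt N9980 F63263) (tt N9437 F63264) (tt N10119 F63265) (tt N9953 F63266))
theorem Q10121 : ∀ i, i < 10121 → P i := stepQ 10120 Q10120 (allL N10120 (tt N10120 F63267) (tt N10717 D16604) (tt N9437 (iv D16007)) (tt N9447 F63268) (tt N10119 (iv F63272)) (tt N9438 F63269) (tt N10121 (iv F63276)) (tt N10120 F63270) (tt N9954 F63271))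
theorem Q10122 : ∀ i, i < 10122 → P i := stepQ 10121 Q10121 (allL N10121 (tt N10121 F63273) (tt N10671 (iv F65412)) (tt N10119 F63274) (tt N9982 F63275) (tt N9437 (iv D16008)) (tt N10330 (iv F64197)) (tt N10120 F63276) (tt N10121 F63277) (tt N9955 F63278))
theorem Q10123 : ∀ i, i < 10123 → P i := stepQ 10122 Q10122 (allL N10122 (tt N10718 D16605) (tt N9438 (iv D16009)) (tt N10672 (iv F65416)) (tt N10571 (iv F65051)) (tt N10331 (iv F64202)) (tt N10717 (iv F65524)) (tt N10573 (iv F65059)) (tt N10122 F63279) (tt N9956 F63280))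
theorem Q10124 : ∀ i, i < 10124 → P i := stepQ 10123 Q10123 (allL N10123 (tt N10123 F63281) (tt N10719 D16606) (tt N9441 (iv D16010)) (tt N9988 F63282) (tt N9984 (iv F63286)) (tt N9444 F63283) (tt N10124 (iv F63291)) (tt N10123 F63284) (tt N9442 F63285))
theorem Q10125 : ∀ i, i < 10125 → P i := stepQ 10124 Q10124 (allL N10124 (tt N10124 F63287) (tt N10707 (iv F65484)) (tt N9984 F63288) (tt N9680 F63289) (tt N9441 (iv D16011)) (tt N9681 F63290) (tt N10123 F63291) (tt N10124 F63292) (tt N9443 F63293))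
theorem Q10126 : ∀ i, i < 10126 → P i := stepQ 10125 Q10125 (allL N10125 (tt N10307 (iv F64079)) (tt N9442 (iv D16012)) (tt N10708 (iv F65489)) (tt N10188 (iv F63600)) (tt N10103 F63294) (tt N9446 F63295) (tt N10106 F63296) (tt N9448 F63297) (tt N10719 (iv F65536)))
theorem Q10127 : ∀ i, i < 10127 → P i := stepQ 10126 Q10126 (allL N10126 (tt N10720 D16607) (tt N9444 (iv D16013)) (tt N10710 (iv F65499)) (tt N10218 F63751) (tt N10721 D16608) (tt N10719 (iv F65533)) (tt N10219 (iv F63754)) (tt N10126 F63298) (tt N9446 F63299))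
theorem Q10128 : ∀ i, i < 10128 → P i := stepQ 10127 Q10127 (allL N10127 (tt N10127 F63300) (tt N10721 (iv F65543)) (tt N9445 F63301) (tt N9954 F63302) (tt N9444 (iv D16014)) (tt N9952 F63303) (tt N10330 (iv F64198)) (tt N10127 F63304) (tt N9447 F63305))
theorem Q10129 : ∀ i, i < 10129 → P i := stepQ 10128 Q10128 (allL N10128 (tt N9446 (iv D16015)) (tt N10128 F63306) (tt N10712 (iv F65506)) (tt N10299 (iv F64043)) (tt N10722 D16609) (tt N10307 (iv F64081)) (tt N10300 (iv F64049)) (tt N9449 F63307) (tt N10720 (iv F65542)))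
theorem Q10130 : ∀ i, i < 10130 → P i := stepQ 10129 Q10129 (allL N10129 (tt N10722 (iv F65548)) (tt N9447 F63308) (tt N10713 (iv F65509)) (tt N10717 (iv F65522)) (tt N9446 (iv D16016)) (tt N10571 (iv F65052)) (tt N10594 (iv F65148)) (tt N9450 F63309) (tt N10721 (iv F65547)))
theorem Q10131 : ∀ i, i < 10131 → P i := stepQ 10130 Q10130 (allL N10130 (tt N9450 F63310) (tt N10130 F63311) (tt N10715 (iv F65513)) (tt N10130 F63312) (tt N9449 (iv D16017)) (tt N10611 (iv F65228)) (tt N10303 (iv F64061)) (tt N10722 (iv F65550)) (tt N10130 F63313))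
theorem Q10132 : ∀ i, i < 10132 → P i := stepQ 10131 Q10131 (allL N10131 (tt N9453 F63314) (tt N9550 F63315) (tt N10131 F63316) (tt N9467 F63317) (tt N10075 F63318) (tt N9710 F63319) (tt N9809 F63320) (tt N10723 D16610) (tt N9451 (iv D16018)))
theorem Q10133 : ∀ i, i < 10133 → P i := stepQ 10132 Q10132 (allL N10132 (tt N10075 F63321) (tt N9456 F63322) (tt N10132 F63323) (tt N10033 F63324) (tt N9453 F63325) (tt N10022 F63326) (tt N9617 F63327) (tt N10724 D16611) (tt N9452 (iv D16019)))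
theorem Q10134 : ∀ i, i < 10134 → P i := stepQ 10133 Q10133 (allL N10133 (tt N10723 (iv F65551)) (tt N9457 F63328) (tt N10133 F63329) (tt N10725 D16612) (tt N10724 (iv F65561)) (tt N9713 F63330) (tt N10444 (iv F64647)) (tt N9453 (iv D16020)) (tt N10247 (iv F63865)))
theorem Q10135 : ∀ i, i < 10135 → P i := stepQ 10134 Q10134 (allL N10134 (tt N9555 F63331) (tt N10033 F63332) (tt N10134 F63333) (tt N9456 F63334) (tt N9473 F63335) (tt N10027 F63336) (tt N9580 F63337) (tt N10726 D16613) (tt N9454 (iv D16021)))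
theorem Q10136 : ∀ i, i < 10136 → P i := stepQ 10135 Q10135 (allL N10135 (tt N9557 F63338) (tt N10022 F63339) (tt N9458 F63340) (tt N10027 F63341) (tt N9716 F63342) (tt N9456 F63343) (tt N10472 (iv F64747)) (tt N10727 D16614) (tt N9455 (iv D16022)))
theorem Q10137 : ∀ i, i < 10137 → P i := stepQ 10136 Q10136 (allL N10136 (tt N9558 F63344) (tt N10724 (iv F65559)) (tt N9459 F63345) (tt N10728 D16615) (tt N9457 F63346) (tt N10727 (iv F65579)) (tt N9627 F63347) (tt N9456 (iv D16023)) (tt N9599 F63348))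
theorem Q10138 : ∀ i, i < 10138 → P i := stepQ 10137 Q10137 (allL N10137 (tt N9559 F63349) (tt N10725 (iv F65565)) (tt N10018 F63350) (tt N9457 (iv D16024)) (tt N10729 D16616) (tt N9718 F63351) (tt N10453 (iv F64671)) (tt N9476 F63352) (tt N10332 (iv F64211)))
theorem Q10139 : ∀ i, i < 10139 → P i := stepQ 10138 Q10138 (allL N10138 (tt N9561 F63353) (tt N10138 F63354) (tt N10727 (iv F65577)) (tt N10730 D16617) (tt N9719 F63355) (tt N9459 F63356) (tt N10599 (iv F65173)) (tt N9458 (iv D16025)) (tt N9637 F63357))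
theorem Q10140 : ∀ i, i < 10140 → P i := stepQ 10139 Q10139 (allL N10139 (tt N9562 F63358) (tt N10139 F63359) (tt N10731 D16618) (tt N9459 (iv D16026)) (tt N10020 F63360) (tt N10730 (iv F65589)) (tt N9648 F63361) (tt N10139 F63362) (tt N9638 F63363))
theorem Q10141 : ∀ i, i < 10141 → P i := stepQ 10140 Q10140 (allL N10140 (tt N9563 F63364) (tt N9737 F63365) (tt N9461 F63366) (tt N10732 D16619) (tt N9692 F63367) (tt N9465 F63368) (tt N9721 F63369) (tt N9460 (iv D16027)) (tt N9481 F63370))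
theorem Q10142 : ∀ i, i < 10142 → P i := stepQ 10141 Q10141 (allL N10141 (tt N9812 F63371) (tt N9465 F63372) (tt N9519 F63373) (tt N10733 D16620) (tt N9746 F63374) (tt N9737 F63375) (tt N9470 F63376) (tt N9462 (iv D16028)) (tt N9484 F63377))
theorem Q10143 : ∀ i, i < 10143 → P i := stepQ 10142 Q10142 (allL N10142 (tt N9565 F63378) (tt N9743 F63379) (tt N10142 F63380) (tt N9464 F63381) (tt N9580 F63382) (tt N9740 F63383) (tt N9473 F63384) (tt N10734 D16621) (tt N9463 (iv D16029)))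
theorem Q10144 : ∀ i, i < 10144 → P i := stepQ 10143 Q10143 (allL N10143 (tt N9566 F63385) (tt N9746 F63386) (tt N9466 F63387) (tt N10735 D16622) (tt N9465 F63388) (tt N9741 F63389) (tt N9475 F63390) (tt N9464 (iv D16030)) (tt N9485 F63391))
theorem Q10145 : ∀ i, i < 10145 → P i := stepQ 10144 Q10144 (allL N10144 (tt N9567 F63392) (tt N10733 (iv F65605)) (tt N9857 F63393) (tt N9465 (iv D16031)) (tt N10736 D16623) (tt N10732 (iv F65601)) (tt N9476 F63394) (tt N10453 (iv F64672)) (tt N9486 F63395))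
theorem Q10146 : ∀ i, i < 10146 → P i := stepQ 10145 Q10145 (allL N10145 (tt N9568 F63396) (tt N9521 F63397) (tt N10737 D16624) (tt N9466 (iv D16032)) (tt N9935 F63398) (tt N9792 F63399) (tt N9478 F63400) (tt N10145 F63401) (tt N9487 F63402))
theorem Q10147 : ∀ i, i < 10147 → P i := stepQ 10146 Q10146 (allL N10146 (tt N9470 F63403) (tt N9569 F63404) (tt N9522 F63405) (tt N10738 D16625) (tt N9882 F63406) (tt N9724 F63407) (tt N9812 F63408) (tt N9467 (iv D16033)) (tt N9490 F63409))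
theorem Q10148 : ∀ i, i < 10148 → P i := stepQ 10147 Q10147 (allL N10147 (tt N9877 F63410) (tt N9473 F63411) (tt N9775 F63412) (tt N9469 F63413) (tt N10033 F63414) (tt N9763 F63415) (tt N9743 F63416) (tt N10739 D16626) (tt N9468 (iv D16034)))
theorem Q10149 : ∀ i, i < 10149 → P i := stepQ 10148 Q10148 (allL N10148 (tt N9882 F63417) (tt N9475 F63418) (tt N9523 F63419) (tt N10740 D16627) (tt N9470 F63420) (tt N9768 F63421) (tt N9746 F63422) (tt N9469 (iv D16035)) (tt N9495 F63423))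
theorem Q10150 : ∀ i, i < 10150 → P i := stepQ 10149 Q10149 (allL N10149 (tt N10738 (iv F65632)) (tt N9476 F63424) (tt N10741 D16628) (tt N9470 (iv D16036)) (tt N10742 D16629) (tt N9727 F63425) (tt N10733 (iv F65607)) (tt N10725 (iv F65567)) (tt N9496 F63426))
theorem Q10151 : ∀ i, i < 10151 → P i := stepQ 10150 Q10150 (allL N10150 (tt N9579 F63427) (tt N9763 F63428) (tt N10150 F63429) (tt N9474 F63430) (tt N10397 (iv F64469)) (tt N9473 F63431) (tt N9755 F63432) (tt N10743 D16630) (tt N9471 (iv D16037)))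
theorem Q10152 : ∀ i, i < 10152 → P i := stepQ 10151 Q10151 (allL N10151 (tt N9580 F63433) (tt N10032 F63434) (tt N10151 F63435) (tt N9501 F63436) (tt N9565 F63437) (tt N10396 (iv F64464)) (tt N9555 F63438) (tt N10744 D16631) (tt N9472 (iv D16038)))
theorem Q10153 : ∀ i, i < 10153 → P i := stepQ 10152 Q10152 (allL N10152 (tt N9581 F63439) (tt N10739 (iv F65638)) (tt N10152 F63440) (tt N10745 D16632) (tt N10726 (iv F65571)) (tt N10743 (iv F65659)) (tt N10734 (iv F65614)) (tt N9473 (iv D16039)) (tt N10744 (iv F65666)))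
theorem Q10154 : ∀ i, i < 10154 → P i := stepQ 10153 Q10153 (allL N10153 (tt N9583 F63441) (tt N9768 F63442) (tt N9477 F63443) (tt N10746 D16633) (tt N9733 F63444) (tt N9475 F63445) (tt N9758 F63446) (tt N9474 (iv D16040)) (tt N9504 F63447))
theorem Q10155 : ∀ i, i < 10155 → P i := stepQ 10154 Q10154 (allL N10154 (tt N9584 F63448) (tt N10740 (iv F65645)) (tt N10747 D16634) (tt N9475 (iv D16041)) (tt N10748 D16635) (tt N10746 (iv F65671)) (tt N10735 (iv F65619)) (tt N10745 (iv F65668)) (tt N9505 F63449))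
theorem Q10156 : ∀ i, i < 10156 → P i := stepQ 10155 Q10155 (allL N10155 (tt N9585 F63450) (tt N10742 (iv F65654)) (tt N10025 F63451) (tt N10748 (iv F65678)) (tt N9476 (iv D16042)) (tt N10749 D16636) (tt N10736 (iv F65623)) (tt N10729 (iv F65586)) (tt N9506 F63452))
theorem Q10157 : ∀ i, i < 10157 → P i := stepQ 10156 Q10156 (allL N10156 (tt N9587 F63453) (tt N9526 F63454) (tt N10750 D16637) (tt N9477 (iv D16043)) (tt N9825 F63455) (tt N9478 F63456) (tt N9797 F63457) (tt N10156 F63458) (tt N9508 F63459))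
theorem Q10158 : ∀ i, i < 10158 → P i := stepQ 10157 Q10157 (allL N10157 (tt N9588 F63460) (tt N10751 D16638) (tt N9478 (iv D16044)) (tt N10747 (iv F65675)) (tt N10026 F63461) (tt N10750 (iv F65687)) (tt N10737 (iv F65629)) (tt N10157 F63462) (tt N9509 F63463))
theorem Q10159 : ∀ i, i < 10159 → P i := stepQ 10158 Q10158 (allL N10158 (tt N9690 F63464) (tt N9481 F63465) (tt N9528 F63466) (tt N10752 D16639) (tt N9721 F63467) (tt N9484 F63468) (tt N9692 F63469) (tt N9479 (iv D16045)) (tt N9737 F63470))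
theorem Q10160 : ∀ i, i < 10160 → P i := stepQ 10159 Q10159 (allL N10159 (tt N9590 F63471) (tt N9721 F63472) (tt N9482 F63473) (tt N10753 D16640) (tt N9481 F63474) (tt N9722 F63475) (tt N9737 F63476) (tt N9480 (iv D16046)) (tt N9692 F63477))
theorem Q10161 : ∀ i, i < 10161 → P i := stepQ 10160 Q10160 (allL N10160 (tt N9591 F63478) (tt N10752 (iv F65699)) (tt N9612 F63479) (tt N9481 (iv D16047)) (tt N10754 D16641) (tt N9486 F63480) (tt N9738 F63481) (tt N10251 (iv F63883)) (tt N10732 (iv F65603)))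
theorem Q10162 : ∀ i, i < 10162 → P i := stepQ 10161 Q10161 (allL N10161 (tt N9592 F63482) (tt N9529 F63483) (tt N10755 D16642) (tt N9482 (iv D16048)) (tt N9668 F63484) (tt N9789 F63485) (tt N9739 F63486) (tt N10161 F63487) (tt N9698 F63488))
theorem Q10163 : ∀ i, i < 10163 → P i := stepQ 10162 Q10162 (allL N10162 (tt N9484 F63489) (tt N9593 F63490) (tt N9530 F63491) (tt N10756 D16643) (tt N9773 F63492) (tt N9690 F63493) (tt N9490 F63494) (tt N9483 (iv D16049)) (tt N9812 F63495))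
theorem Q10164 : ∀ i, i < 10164 → P i := stepQ 10163 Q10163 (allL N10163 (tt N10756 (iv F65719)) (tt N9486 F63496) (tt N10757 D16644) (tt N9484 (iv D16050)) (tt N10758 D16645) (tt N10752 (iv F65701)) (tt N9496 F63497) (tt N10334 (iv F64219)) (tt N10733 (iv F65608)))
theorem Q10165 : ∀ i, i < 10165 → P i := stepQ 10164 Q10164 (allL N10164 (tt N9602 F63498) (tt N9913 F63499) (tt N10759 D16646) (tt N9485 (iv D16051)) (tt N10760 D16647) (tt N9915 F63500) (tt N9505 F63501) (tt N10437 (iv F64621)) (tt N10735 (iv F65620)))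
theorem Q10166 : ∀ i, i < 10166 → P i := stepQ 10165 Q10165 (allL N10165 (tt N9603 F63502) (tt N10758 (iv F65729)) (tt N9893 F63503) (tt N10760 (iv F65739)) (tt N9486 (iv D16052)) (tt N10761 D16648) (tt N9506 F63504) (tt N10335 (iv F64225)) (tt N10736 (iv F65624)))
theorem Q10167 : ∀ i, i < 10167 → P i := stepQ 10166 Q10166 (allL N10166 (tt N9606 F63505) (tt N9941 F63506) (tt N9487 (iv D16053)) (tt N10759 (iv F65734)) (tt N9940 F63507) (tt N9943 F63508) (tt N9509 F63509) (tt N9510 F63510) (tt N10737 (iv F65631)))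
theorem Q10168 : ∀ i, i < 10168 → P i := stepQ 10167 Q10167 (allL N10167 (tt N9493 F63511) (tt N9609 F63512) (tt N9786 F63513) (tt N9489 F63514) (tt N9816 F63515) (tt N9867 F63516) (tt N9787 F63517) (tt N10762 D16649) (tt N9488 (iv D16054)))
theorem Q10169 : ∀ i, i < 10169 → P i := stepQ 10168 Q10168 (allL N10168 (tt N9495 F63518) (tt N9611 F63519) (tt N9532 F63520) (tt N10763 D16650) (tt N9490 F63521) (tt N9872 F63522) (tt N9773 F63523) (tt N9489 (iv D16055)) (tt N9882 F63524))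
theorem Q10170 : ∀ i, i < 10170 → P i := stepQ 10169 Q10169 (allL N10169 (tt N9496 F63525) (tt N9612 F63526) (tt N10764 D16651) (tt N9490 (iv D16056)) (tt N10765 D16652) (tt N9752 F63527) (tt N10756 (iv F65722)) (tt N10336 (iv F64230)) (tt N10738 (iv F65636)))
theorem Q10171 : ∀ i, i < 10171 → P i := stepQ 10170 Q10170 (allL N10170 (tt N9867 F63528) (tt N9500 F63529) (tt N9925 F63530) (tt N9494 F63531) (tt N10177 (iv F63560)) (tt N9493 F63532) (tt N9730 F63533) (tt N10766 D16653) (tt N9491 (iv D16057)))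
theorem Q10172 : ∀ i, i < 10172 → P i := stepQ 10171 Q10171 (allL N10171 (tt N10762 (iv F65743)) (tt N9502 F63534) (tt N9928 F63535) (tt N10767 D16654) (tt N10204 (iv F63689)) (tt N10766 (iv F65765)) (tt N9929 F63536) (tt N9493 (iv D16058)) (tt N10564 (iv F65028)))
theorem Q10173 : ∀ i, i < 10173 → P i := stepQ 10172 Q10172 (allL N10172 (tt N9872 F63537) (tt N9504 F63538) (tt N9534 F63539) (tt N10768 D16655) (tt N9758 F63540) (tt N9495 F63541) (tt N9733 F63542) (tt N9494 (iv D16059)) (tt N9768 F63543))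
theorem Q10174 : ∀ i, i < 10174 → P i := stepQ 10173 Q10173 (allL N10173 (tt N10763 (iv F65750)) (tt N9505 F63544) (tt N9912 F63545) (tt N9495 (iv D16060)) (tt N10769 D16656) (tt N10768 (iv F65775)) (tt N9913 F63546) (tt N10767 (iv F65771)) (tt N10740 (iv F65649)))
theorem Q10175 : ∀ i, i < 10175 → P i := stepQ 10174 Q10174 (allL N10174 (tt N10764 (iv F65756)) (tt N10030 F63547) (tt N9496 (iv D16061)) (tt N9535 F63548) (tt N10770 D16657) (tt N9760 F63549) (tt N10757 (iv F65728)) (tt N10337 (iv F64234)) (tt N10741 (iv F65653)))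
theorem Q10176 : ∀ i, i < 10176 → P i := stepQ 10175 Q10175 (allL N10175 (tt N10765 (iv F65760)) (tt N9506 F63550) (tt N10770 (iv F65783)) (tt N10769 (iv F65780)) (tt N9496 (iv D16062)) (tt N10771 D16658) (tt N10758 (iv F65731)) (tt N10338 (iv F64236)) (tt N10742 (iv F65655)))
theorem Q10177 : ∀ i, i < 10177 → P i := stepQ 10176 Q10176 (allL N10176 (tt N9624 F63551) (tt N9730 F63552) (tt N9511 F63553) (tt N9503 F63554) (tt N10370 (iv F64367)) (tt N9725 F63555) (tt N9500 F63556) (tt N10772 D16659) (tt N9498 (iv D16063)))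
theorem Q10178 : ∀ i, i < 10178 → P i := stepQ 10177 Q10177 (allL N10177 (tt N9625 F63557) (tt N10117 F63558) (tt N9512 F63559) (tt N10396 (iv F64462)) (tt N10170 F63560) (tt N9501 F63561) (tt N10369 (iv F64362)) (tt N10773 D16660) (tt N9499 (iv D16064)))
theorem Q10179 : ∀ i, i < 10179 → P i := stepQ 10178 Q10178 (allL N10178 (tt N9626 F63562) (tt N10766 (iv F65763)) (tt N9513 F63563) (tt N10774 D16661) (tt N10704 (iv F65475)) (tt N9502 F63564) (tt N10772 (iv F65790)) (tt N9500 (iv D16065)) (tt N10773 (iv F65796)))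
theorem Q10180 : ∀ i, i < 10180 → P i := stepQ 10179 Q10179 (allL N10179 (tt N9627 F63565) (tt N10564 (iv F65024)) (tt N9514 F63566) (tt N10775 D16662) (tt N9548 F63567) (tt N10773 (iv F65795)) (tt N9558 F63568) (tt N9501 (iv D16066)) (tt N9502 F63569))
theorem Q10181 : ∀ i, i < 10181 → P i := stepQ 10180 Q10180 (allL N10180 (tt N9628 F63570) (tt N10767 (iv F65768)) (tt N10776 D16663) (tt N9502 (iv D16067)) (tt N10777 D16664) (tt N10774 (iv F65798)) (tt N10437 (iv F64620)) (tt N9505 F63571) (tt N10775 (iv F65802)))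
theorem Q10182 : ∀ i, i < 10182 → P i := stepQ 10181 Q10181 (allL N10181 (tt N9629 F63572) (tt N9733 F63573) (tt N9507 F63574) (tt N10778 D16665) (tt N9768 F63575) (tt N9726 F63576) (tt N9504 F63577) (tt N9503 (iv D16068)) (tt N9758 F63578))
theorem Q10183 : ∀ i, i < 10183 → P i := stepQ 10182 Q10182 (allL N10182 (tt N9630 F63579) (tt N10768 (iv F65773)) (tt N10779 D16666) (tt N9504 (iv D16069)) (tt N10780 D16667) (tt N9505 F63580) (tt N10778 (iv F65812)) (tt N10774 (iv F65799)) (tt N10746 (iv F65673)))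
theorem Q10184 : ∀ i, i < 10184 → P i := stepQ 10183 Q10183 (allL N10183 (tt N9631 F63581) (tt N10781 D16668) (tt N9505 (iv D16070)) (tt N9509 F63582) (tt N10782 D16669) (tt N10779 (iv F65817)) (tt N10759 (iv F65736)) (tt N10776 (iv F65805)) (tt N10747 (iv F65676)))
theorem Q10185 : ∀ i, i < 10185 → P i := stepQ 10184 Q10184 (allL N10184 (tt N9632 F63583) (tt N10769 (iv F65778)) (tt N10782 (iv F65826)) (tt N9506 F63584) (tt N9505 (iv D16071)) (tt N10783 D16670) (tt N10760 (iv F65740)) (tt N10777 (iv F65807)) (tt N10748 (iv F65679)))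
theorem Q10186 : ∀ i, i < 10186 → P i := stepQ 10185 Q10185 (allL N10185 (tt N9633 F63585) (tt N10771 (iv F65784)) (tt N10040 F63586) (tt N10783 (iv F65829)) (tt N9772 F63587) (tt N9506 (iv D16072)) (tt N10784 D16671) (tt N10341 (iv F64250)) (tt N10749 (iv F65683)))
theorem Q10187 : ∀ i, i < 10187 → P i := stepQ 10186 Q10186 (allL N10186 (tt N9634 F63588) (tt N10098 F63589) (tt N9508 (iv D16073)) (tt N10779 (iv F65816)) (tt N10716 (iv F65518)) (tt N9509 F63590) (tt N10099 F63591) (tt N9517 F63592) (tt N10750 (iv F65690)))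
theorem Q10188 : ∀ i, i < 10188 → P i := stepQ 10187 Q10187 (allL N10187 (tt N10785 D16672) (tt N9509 (iv D16074)) (tt N9538 F63593) (tt N10781 (iv F65822)) (tt N10042 F63594) (tt N10098 F63595) (tt N9941 F63596) (tt N9518 F63597) (tt N10751 (iv F65696)))
theorem Q10189 : ∀ i, i < 10189 → P i := stepQ 10188 Q10188 (allL N10188 (tt N9645 F63598) (tt N9987 F63599) (tt N10772 (iv F65788)) (tt N10125 F63600) (tt N10561 (iv F65006)) (tt N9989 F63601) (tt N9513 F63602) (tt N9511 (iv D16075)) (tt N10562 (iv F65016)))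
theorem Q10190 : ∀ i, i < 10190 → P i := stepQ 10189 Q10189 (allL N10189 (tt N9646 F63603) (tt N9680 F63604) (tt N10773 (iv F65793)) (tt N10707 (iv F65485)) (tt N10560 F65003) (tt N9514 F63605) (tt N10562 (iv F65014)) (tt N9512 (iv D16076)) (tt N9513 F63606))
theorem Q10191 : ∀ i, i < 10191 → P i := stepQ 10190 Q10190 (allL N10190 (tt N9648 F63607) (tt N9681 F63608) (tt N10786 D16673) (tt N9514 (iv D16077)) (tt N9950 F63609) (tt N10707 (iv F65486)) (tt N9562 F63610) (tt N10190 F63611) (tt N9515 F63612))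
theorem Q10192 : ∀ i, i < 10192 → P i := stepQ 10191 Q10191 (allL N10191 (tt N9649 F63613) (tt N10787 D16674) (tt N9515 (iv D16078)) (tt N10776 (iv F65804)) (tt N10462 (iv F64695)) (tt N10709 (iv F65496)) (tt N10439 (iv F64628)) (tt N9516 F63614) (tt N10786 (iv F65844)))
theorem Q10193 : ∀ i, i < 10193 → P i := stepQ 10192 Q10192 (allL N10192 (tt N10788 D16675) (tt N9516 (iv D16079)) (tt N9973 F63615) (tt N9518 F63616) (tt N10598 (iv F65165)) (tt N10111 F63617) (tt N9974 F63618) (tt N10787 (iv F65848)) (tt N10192 F63619))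
theorem Q10194 : ∀ i, i < 10194 → P i := stepQ 10193 Q10193 (allL N10193 (tt N9518 (iv D16080)) (tt N9656 F63620) (tt N9539 F63621) (tt N10788 (iv F65851)) (tt N10054 F63622) (tt N9702 F63623) (tt N9990 F63624) (tt N10785 (iv F65838)) (tt N10193 F63625))
theorem Q10195 : ∀ i, i < 10195 → P i := stepQ 10194 Q10194 (allL N10194 (tt N9825 F63626) (tt N9520 F63627) (tt N10789 D16676) (tt N9519 (iv D16081)) (tt N9587 F63628) (tt N9739 F63629) (tt N9524 F63630) (tt N10194 F63631) (tt N9531 F63632))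
theorem Q10196 : ∀ i, i < 10196 → P i := stepQ 10195 Q10195 (allL N10195 (tt N9524 F63633) (tt N9543 F63634) (tt N10790 D16677) (tt N9522 (iv D16082)) (tt N9797 F63635) (tt N9790 F63636) (tt N9825 F63637) (tt N10195 F63638) (tt N9533 F63639))
theorem Q10197 : ∀ i, i < 10197 → P i := stepQ 10196 Q10196 (allL N10196 (tt N10790 (iv F65862)) (tt N10055 F63640) (tt N9524 (iv D16083)) (tt N10741 (iv F65651)) (tt N10791 D16678) (tt N9791 F63641) (tt N10789 (iv F65859)) (tt N10196 F63642) (tt N9535 F63643))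
theorem Q10198 : ∀ i, i < 10198 → P i := stepQ 10197 Q10197 (allL N10197 (tt N9797 F63644) (tt N9525 F63645) (tt N10791 (iv F65871)) (tt N9586 F63646) (tt N9524 (iv D16084)) (tt N9795 (iv F63650)) (tt N9587 F63647) (tt N10197 F63648) (tt N9536 F63649))
theorem Q10199 : ∀ i, i < 10199 → P i := stepQ 10198 Q10198 (allL N10198 (tt N9670 F63651) (tt N9527 (iv D16085)) (tt N10751 (iv F65691)) (tt N9667 F63652) (tt N10057 F63653) (tt N9668 F63654) (tt N9936 F63655) (tt N10198 F63656) (tt N9538 F63657))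
theorem Q10200 : ∀ i, i < 10200 → P i := stepQ 10199 Q10199 (allL N10199 (tt N10716 (iv F65515)) (tt N9796 F63658) (tt N9531 (iv D16086)) (tt N10757 (iv F65726)) (tt N9634 F63659) (tt N10100 F63660) (tt N9535 F63661) (tt N9540 F63662) (tt N10789 (iv F65861)))
theorem Q10201 : ∀ i, i < 10201 → P i := stepQ 10200 Q10200 (allL N10200 (tt N9535 F63663) (tt N10100 F63664) (tt N9533 (iv D16087)) (tt N10764 (iv F65758)) (tt N10099 F63665) (tt N9796 F63666) (tt N10716 (iv F65520)) (tt N9541 F63667) (tt N10790 (iv F65868)))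
theorem Q10202 : ∀ i, i < 10202 → P i := stepQ 10201 Q10201 (allL N10201 (tt N10099 F63668) (tt N10060 F63669) (tt N9536 F63670) (tt N10792 D16679) (tt N9535 (iv D16088)) (tt N10101 (iv F63673)) (tt N9634 F63671) (tt N9542 F63672) (tt N10791 (iv F65874)))
theorem Q10203 : ∀ i, i < 10203 → P i := stepQ 10202 Q10202 (allL N10202 (tt N9538 (iv D16089)) (tt N9544 F63674) (tt N10785 (iv F65834)) (tt N9658 F63675) (tt N10061 F63676) (tt N9659 F63677) (tt N9939 F63678) (tt N9539 F63679) (tt N9670 F63680))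
theorem Q10204 : ∀ i, i < 10204 → P i := stepQ 10203 Q10203 (allL N10203 (tt N10112 F63681) (tt N10063 F63682) (tt N9651 F63683) (tt N9542 (iv D16090)) (tt N10344 (iv F64265)) (tt N10114 F63684) (tt N9652 F63685) (tt N10793 D16680) (tt N10203 F63686))
theorem Q10205 : ∀ i, i < 10205 → P i := stepQ 10204 Q10204 (allL N10204 (tt N10451 (iv F64662)) (tt N9694 F63687) (tt N9546 F63688) (tt N10794 D16681) (tt N10171 F63689) (tt N9548 F63690) (tt N9802 F63691) (tt N9545 (iv D16091)) (tt N10205 (iv F63697)))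
theorem Q10206 : ∀ i, i < 10206 → P i := stepQ 10205 Q10205 (allL N10205 (tt N9817 F63692) (tt N9548 F63693) (tt N9679 F63694) (tt N10795 D16682) (tt N10564 (iv F65025)) (tt N9694 F63695) (tt N9553 F63696) (tt N9547 (iv D16092)) (tt N10204 F63697))
theorem Q10207 : ∀ i, i < 10207 → P i := stepQ 10206 Q10206 (allL N10206 (tt N10453 (iv F64670)) (tt N10795 (iv F65892)) (tt N9839 F63698) (tt N9548 (iv D16093)) (tt N10796 D16683) (tt N10794 (iv F65888)) (tt N9559 F63699) (tt N9567 F63700) (tt N10339 (iv F64241)))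
theorem Q10208 : ∀ i, i < 10208 → P i := stepQ 10207 Q10207 (allL N10207 (tt N9552 F63701) (tt N10075 F63702) (tt N9682 F63703) (tt N9878 F63704) (tt N9550 F63705) (tt N9852 F63706) (tt N9815 F63707) (tt N10797 D16684) (tt N9549 (iv D16094)))
theorem Q10209 : ∀ i, i < 10209 → P i := stepQ 10208 Q10208 (allL N10208 (tt N9553 F63708) (tt N10723 (iv F65552)) (tt N9683 F63709) (tt N10798 D16685) (tt N10797 (iv F65904)) (tt N9833 F63710) (tt N9817 F63711) (tt N9550 (iv D16095)) (tt N10345 (iv F64271)))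
theorem Q10210 : ∀ i, i < 10210 → P i := stepQ 10209 Q10209 (allL N10209 (tt N9878 F63712) (tt N9555 F63713) (tt N9776 F63714) (tt N9552 F63715) (tt N9572 F63716) (tt N9744 F63717) (tt N10032 F63718) (tt N10799 D16686) (tt N9551 (iv D16096)))
theorem Q10211 : ∀ i, i < 10211 → P i := stepQ 10210 Q10210 (allL N10210 (tt N10797 (iv F65901)) (tt N9558 F63719) (tt N9684 F63720) (tt N10800 D16687) (tt N9553 F63721) (tt N9930 F63722) (tt N10564 (iv F65026)) (tt N9552 (iv D16097)) (tt N9929 F63723))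
theorem Q10212 : ∀ i, i < 10212 → P i := stepQ 10211 Q10211 (allL N10211 (tt N10798 (iv F65908)) (tt N9559 F63724) (tt N10794 (iv F65887)) (tt N9553 (iv D16098)) (tt N10801 D16688) (tt N9839 F63725) (tt N10795 (iv F65895)) (tt N9575 F63726) (tt N10436 (iv F64618)))
theorem Q10213 : ∀ i, i < 10213 → P i := stepQ 10212 Q10212 (allL N10212 (tt N10027 F63727) (tt N9744 F63728) (tt N10212 F63729) (tt N9557 F63730) (tt N10391 (iv F64440)) (tt N9555 F63731) (tt N9756 F63732) (tt N10802 D16689) (tt N9554 (iv D16099)))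
theorem Q10214 : ∀ i, i < 10214 → P i := stepQ 10213 Q10213 (allL N10213 (tt N10726 (iv F65568)) (tt N10799 (iv F65913)) (tt N10213 F63733) (tt N10803 D16690) (tt N9581 F63734) (tt N10802 (iv F65928)) (tt N10744 (iv F65665)) (tt N9555 (iv D16100)) (tt N10734 (iv F65615)))
theorem Q10215 : ∀ i, i < 10215 → P i := stepQ 10214 Q10214 (allL N10214 (tt N10472 (iv F64742)) (tt N9731 F63735) (tt N9560 F63736) (tt N9756 F63737) (tt N9845 F63738) (tt N10369 (iv F64361)) (tt N9557 F63739) (tt N10804 D16691) (tt N9556 (iv D16101)))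
theorem Q10216 : ∀ i, i < 10216 → P i := stepQ 10215 Q10215 (allL N10215 (tt N10727 (iv F65575)) (tt N9930 F63740) (tt N9561 F63741) (tt N10805 D16692) (tt N9846 F63742) (tt N9558 F63743) (tt N10804 (iv F65935)) (tt N9557 (iv D16102)) (tt N9932 F63744))
theorem Q10217 : ∀ i, i < 10217 → P i := stepQ 10216 Q10216 (allL N10216 (tt N10728 (iv F65581)) (tt N10800 (iv F65919)) (tt N10806 D16693) (tt N9558 (iv D16103)) (tt N10807 D16694) (tt N10805 (iv F65938)) (tt N10775 (iv F65801)) (tt N10803 (iv F65931)) (tt N10437 (iv F64622)))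
theorem Q10218 : ∀ i, i < 10218 → P i := stepQ 10217 Q10217 (allL N10217 (tt N10729 (iv F65584)) (tt N10801 (iv F65923)) (tt N10070 F63745) (tt N10807 (iv F65941)) (tt N9559 (iv D16104)) (tt N10808 D16695) (tt N10796 (iv F65899)) (tt N9585 F63746) (tt N10438 (iv F64625)))
theorem Q10219 : ∀ i, i < 10219 → P i := stepQ 10218 Q10218 (allL N10218 (tt N10599 (iv F65169)) (tt N9685 F63747) (tt N10804 (iv F65933)) (tt N10126 (iv F63751)) (tt N9849 F63748) (tt N10562 (iv F65013)) (tt N9561 F63749) (tt N9560 (iv D16105)) (tt N9989 F63750))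
theorem Q10220 : ∀ i, i < 10220 → P i := stepQ 10219 Q10219 (allL N10219 (tt N10730 (iv F65587)) (tt N9686 F63752) (tt N10809 D16696) (tt N9561 (iv D16106)) (tt N10810 D16697) (tt N9562 F63753) (tt N10126 F63754) (tt N10219 F63755) (tt N9981 F63756))
theorem Q10221 : ∀ i, i < 10221 → P i := stepQ 10220 Q10220 (allL N10220 (tt N10731 (iv F65593)) (tt N10811 D16698) (tt N9562 (iv D16107)) (tt N10806 (iv F65940)) (tt N10073 F63757) (tt N10809 (iv F65946)) (tt N10786 (iv F65842)) (tt N10220 F63758) (tt N10439 (iv F64630)))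
theorem Q10222 : ∀ i, i < 10222 → P i := stepQ 10221 Q10221 (allL N10221 (tt N10732 (iv F65598)) (tt N9695 F63759) (tt N9575 F63760) (tt N9563 (iv D16108)) (tt N10812 D16699) (tt N9567 F63761) (tt N9806 F63762) (tt N10794 (iv F65890)) (tt N9591 F63763))
theorem Q10223 : ∀ i, i < 10223 → P i := stepQ 10222 Q10222 (allL N10222 (tt N9820 F63764) (tt N9567 F63765) (tt N9806 F63766) (tt N9564 (iv D16109)) (tt N10813 D16700) (tt N9695 F63767) (tt N9575 F63768) (tt N10795 (iv F65896)) (tt N9596 F63769))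
theorem Q10224 : ∀ i, i < 10224 → P i := stepQ 10223 Q10223 (allL N10223 (tt N10734 (iv F65609)) (tt N10034 F63770) (tt N10223 F63771) (tt N10814 D16701) (tt N10744 (iv F65664)) (tt N10028 F63772) (tt N9581 F63773) (tt N9565 (iv D16110)) (tt N10726 (iv F65574)))
theorem Q10225 : ∀ i, i < 10225 → P i := stepQ 10224 Q10224 (allL N10224 (tt N10735 (iv F65616)) (tt N10037 F63774) (tt N10815 D16702) (tt N9566 (iv D16111)) (tt N10816 D16703) (tt N10029 F63775) (tt N9584 F63776) (tt N10814 (iv F65975)) (tt N9602 F63777))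
theorem Q10226 : ∀ i, i < 10226 → P i := stepQ 10225 Q10225 (allL N10225 (tt N10736 (iv F65621)) (tt N10813 (iv F65967)) (tt N9865 F63778) (tt N10816 (iv F65981)) (tt N9567 (iv D16112)) (tt N10817 D16704) (tt N9585 F63779) (tt N10796 (iv F65900)) (tt N9603 F63780))
theorem Q10227 : ∀ i, i < 10227 → P i := stepQ 10226 Q10226 (allL N10226 (tt N10737 (iv F65625)) (tt N10818 D16705) (tt N9568 (iv D16113)) (tt N10815 (iv F65976)) (tt N9937 F63781) (tt N10058 F63782) (tt N9588 F63783) (tt N10226 F63784) (tt N9606 F63785))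
theorem Q10228 : ∀ i, i < 10228 → P i := stepQ 10227 Q10227 (allL N10227 (tt N9575 F63786) (tt N10738 (iv F65633)) (tt N10732 (iv F65600)) (tt N9569 (iv D16114)) (tt N10819 D16706) (tt N9857 F63787) (tt N9820 F63788) (tt N10798 (iv F65911)) (tt N9612 F63789))
theorem Q10229 : ∀ i, i < 10229 → P i := stepQ 10228 Q10228 (allL N10228 (tt N9895 F63790) (tt N9579 F63791) (tt N9958 F63792) (tt N9573 F63793) (tt N10521 (iv F64899)) (tt N9572 F63794) (tt N9888 F63795) (tt N10820 D16707) (tt N9570 (iv D16115)))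
theorem Q10230 : ∀ i, i < 10230 → P i := stepQ 10229 Q10229 (allL N10229 (tt N9876 F63796) (tt N9580 F63797) (tt N9774 F63798) (tt N9617 F63799) (tt N9743 F63800) (tt N10520 (iv F64894)) (tt N10033 F63801) (tt N10821 D16708) (tt N9571 (iv D16116)))
theorem Q10231 : ∀ i, i < 10231 → P i := stepQ 10230 Q10230 (allL N10230 (tt N10085 F63802) (tt N9581 F63803) (tt N10044 F63804) (tt N10822 D16709) (tt N10799 (iv F65915)) (tt N10820 (iv F66000)) (tt N10034 F63805) (tt N9572 (iv D16117)) (tt N10821 (iv F66007)))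
theorem Q10232 : ∀ i, i < 10232 → P i := stepQ 10231 Q10231 (allL N10231 (tt N9900 F63806) (tt N9583 F63807) (tt N9658 F63808) (tt N10823 D16710) (tt N9863 F63809) (tt N9574 F63810) (tt N9891 F63811) (tt N9573 (iv D16118)) (tt N9620 F63812))
theorem Q10233 : ∀ i, i < 10233 → P i := stepQ 10232 Q10232 (allL N10232 (tt N10091 F63813) (tt N9584 F63814) (tt N10824 D16711) (tt N9574 (iv D16119)) (tt N10825 D16712) (tt N10823 (iv F66014)) (tt N10037 F63815) (tt N10822 (iv F66011)) (tt N9621 F63816))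
theorem Q10234 : ∀ i, i < 10234 → P i := stepQ 10233 Q10233 (allL N10233 (tt N10819 (iv F65993)) (tt N9585 F63817) (tt N10812 (iv F65962)) (tt N10825 (iv F66024)) (tt N9575 (iv D16120)) (tt N10826 D16713) (tt N10813 (iv F65970)) (tt N10801 (iv F65924)) (tt N9622 F63818))
theorem Q10235 : ∀ i, i < 10235 → P i := stepQ 10234 Q10234 (allL N10234 (tt N10397 (iv F64465)) (tt N10521 (iv F64896)) (tt N10234 F63819) (tt N9866 F63820) (tt N9579 F63821) (tt N10391 (iv F64441)) (tt N10236 (iv F63832)) (tt N10827 D16714) (tt N9576 (iv D16121)))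
theorem Q10236 : ∀ i, i < 10236 → P i := stepQ 10235 Q10235 (allL N10235 (tt N9755 F63822) (tt N9888 F63823) (tt N10235 F63824) (tt N9582 F63825) (tt N10236 (iv F63830)) (tt N9750 F63826) (tt N9579 F63827) (tt N10828 D16715) (tt N9577 (iv D16122)))
theorem Q10237 : ∀ i, i < 10237 → P i := stepQ 10236 Q10236 (allL N10236 (tt N10396 (iv F64459)) (tt N10520 (iv F64890)) (tt N10236 F63828) (tt N9625 F63829) (tt N10235 F63830) (tt N9580 F63831) (tt N10234 F63832) (tt N10829 D16716) (tt N9578 (iv D16123)))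
theorem Q10238 : ∀ i, i < 10238 → P i := stepQ 10237 Q10237 (allL N10237 (tt N10743 (iv F65656)) (tt N10820 (iv F65998)) (tt N10237 F63833) (tt N10830 D16717) (tt N10827 (iv F66031)) (tt N9581 F63834) (tt N10828 (iv F66036)) (tt N9579 (iv D16124)) (tt N10829 (iv F66042)))
theorem Q10239 : ∀ i, i < 10239 → P i := stepQ 10238 Q10238 (allL N10238 (tt N10744 (iv F65661)) (tt N10821 (iv F66003)) (tt N10238 F63835) (tt N10831 D16718) (tt N10734 (iv F65612)) (tt N10829 (iv F66040)) (tt N10726 (iv F65573)) (tt N9580 (iv D16125)) (tt N9581 F63836))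
theorem Q10240 : ∀ i, i < 10240 → P i := stepQ 10239 Q10239 (allL N10239 (tt N10745 (iv F65667)) (tt N10822 (iv F66009)) (tt N10832 D16719) (tt N9581 (iv D16126)) (tt N10833 D16720) (tt N10830 (iv F66043)) (tt N10814 (iv F65974)) (tt N9584 F63837) (tt N10831 (iv F66046)))
theorem Q10241 : ∀ i, i < 10241 → P i := stepQ 10240 Q10240 (allL N10240 (tt N9758 F63838) (tt N9891 F63839) (tt N9586 F63840) (tt N10834 D16721) (tt N9872 F63841) (tt N9751 F63842) (tt N9583 F63843) (tt N9582 (iv D16127)) (tt N9629 F63844))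
theorem Q10242 : ∀ i, i < 10242 → P i := stepQ 10241 Q10241 (allL N10241 (tt N10746 (iv F65669)) (tt N10823 (iv F66013)) (tt N10835 D16722) (tt N9583 (iv D16128)) (tt N10836 D16723) (tt N9584 F63845) (tt N10834 (iv F66053)) (tt N10830 (iv F66044)) (tt N9630 F63846))
theorem Q10243 : ∀ i, i < 10243 → P i := stepQ 10242 Q10242 (allL N10242 (tt N10747 (iv F65674)) (tt N10837 D16724) (tt N9584 (iv D16129)) (tt N9588 F63847) (tt N10838 D16725) (tt N10835 (iv F66056)) (tt N10815 (iv F65978)) (tt N10832 (iv F66048)) (tt N9631 F63848))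
theorem Q10244 : ∀ i, i < 10244 → P i := stepQ 10243 Q10243 (allL N10243 (tt N10748 (iv F65677)) (tt N10825 (iv F66023)) (tt N10838 (iv F66063)) (tt N9585 F63849) (tt N9584 (iv D16130)) (tt N10839 D16726) (tt N10816 (iv F65982)) (tt N10833 (iv F66049)) (tt N9632 F63850))
theorem Q10245 : ∀ i, i < 10245 → P i := stepQ 10244 Q10244 (allL N10244 (tt N10749 (iv F65680)) (tt N10826 (iv F66027)) (tt N10082 F63851) (tt N10839 (iv F66066)) (tt N9875 F63852) (tt N9585 (iv D16131)) (tt N10840 D16727) (tt N10808 (iv F65944)) (tt N9633 F63853))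
theorem Q10246 : ∀ i, i < 10246 → P i := stepQ 10245 Q10245 (allL N10245 (tt N10750 (iv F65684)) (tt N10841 D16728) (tt N9587 (iv D16132)) (tt N10835 (iv F66055)) (tt N10789 (iv F65857)) (tt N9588 F63854) (tt N10791 (iv F65872)) (tt N10245 F63855) (tt N9634 F63856))
theorem Q10247 : ∀ i, i < 10247 → P i := stepQ 10246 Q10246 (allL N10246 (tt N10842 D16729) (tt N9588 (iv D16133)) (tt N9661 F63857) (tt N10837 (iv F66061)) (tt N9798 F63858) (tt N10841 (iv F66074)) (tt N10818 (iv F65989)) (tt N10246 F63859) (tt N9635 F63860))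
theorem Q10248 : ∀ i, i < 10248 → P i := stepQ 10247 Q10247 (allL N10247 (tt N10673 (iv F65419)) (tt N9688 F63861) (tt N10247 F63862) (tt N10843 D16730) (tt N10252 (iv F63888)) (tt N10014 F63863) (tt N9811 F63864) (tt N9589 (iv D16134)) (tt N10133 F63865))
theorem Q10249 : ∀ i, i < 10249 → P i := stepQ 10248 Q10248 (allL N10248 (tt N10753 (iv F65704)) (tt N9689 F63866) (tt N10844 D16731) (tt N9590 (iv D16135)) (tt N10845 D16732) (tt N10021 F63867) (tt N9813 F63868) (tt N10843 (iv F66088)) (tt N9693 F63869))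
theorem Q10250 : ∀ i, i < 10250 → P i := stepQ 10249 Q10249 (allL N10249 (tt N10754 (iv F65709)) (tt N9808 F63870) (tt N9622 F63871) (tt N10845 (iv F66096)) (tt N9591 (iv D16136)) (tt N10846 D16733) (tt N9814 F63872) (tt N10254 (iv F63899)) (tt N10812 (iv F65965)))
theorem Q10251 : ∀ i, i < 10251 → P i := stepQ 10250 Q10250 (allL N10250 (tt N10755 (iv F65712)) (tt N9791 F63873) (tt N9592 (iv D16137)) (tt N10844 (iv F66091)) (tt N9671 F63874) (tt N10055 F63875) (tt N9826 F63876) (tt N10250 F63877) (tt N9699 F63878))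
theorem Q10252 : ∀ i, i < 10252 → P i := stepQ 10251 Q10251 (allL N10251 (tt N9596 F63879) (tt N10756 (iv F65720)) (tt N9738 F63880) (tt N9593 (iv D16138)) (tt N10847 D16734) (tt N9691 F63881) (tt N9612 F63882) (tt N10160 F63883) (tt N9820 F63884))
theorem Q10253 : ∀ i, i < 10253 → P i := stepQ 10252 Q10252 (allL N10252 (tt N10076 F63885) (tt N9599 F63886) (tt N10252 F63887) (tt N10848 D16735) (tt N10247 F63888) (tt N10023 F63889) (tt N9618 F63890) (tt N9594 (iv D16139)) (tt N10724 (iv F65564)))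
theorem Q10254 : ∀ i, i < 10254 → P i := stepQ 10253 Q10253 (allL N10253 (tt N10079 F63891) (tt N9602 F63892) (tt N10849 D16736) (tt N9595 (iv D16140)) (tt N10850 D16737) (tt N10024 F63893) (tt N9621 F63894) (tt N10848 (iv F66112)) (tt N10037 F63895))
theorem Q10255 : ∀ i, i < 10255 → P i := stepQ 10254 Q10254 (allL N10254 (tt N10847 (iv F66102)) (tt N9603 F63896) (tt N9814 F63897) (tt N10850 (iv F66120)) (tt N9596 (iv D16141)) (tt N10851 D16738) (tt N9622 F63898) (tt N10249 F63899) (tt N10813 (iv F65971)))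
theorem Q10256 : ∀ i, i < 10256 → P i := stepQ 10255 Q10255 (allL N10255 (tt N9725 F63900) (tt N9855 F63901) (tt N9636 F63902) (tt N9600 F63903) (tt N10473 (iv F64752)) (tt N9624 F63904) (tt N9598 F63905) (tt N10852 D16739) (tt N9597 (iv D16142)))
theorem Q10257 : ∀ i, i < 10257 → P i := stepQ 10256 Q10256 (allL N10256 (tt N9932 F63906) (tt N10023 F63907) (tt N9637 F63908) (tt N10853 D16740) (tt N10615 (iv F65245)) (tt N9599 F63909) (tt N10852 (iv F66131)) (tt N9598 (iv D16143)) (tt N10727 (iv F65580)))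
theorem Q10258 : ∀ i, i < 10258 → P i := stepQ 10257 Q10257 (allL N10257 (tt N10437 (iv F64619)) (tt N10848 (iv F66109)) (tt N10854 D16741) (tt N9599 (iv D16144)) (tt N10855 D16742) (tt N10853 (iv F66134)) (tt N9628 F63910) (tt N9602 F63911) (tt N10728 (iv F65583)))
theorem Q10259 : ∀ i, i < 10259 → P i := stepQ 10258 Q10258 (allL N10258 (tt N9726 F63912) (tt N9856 F63913) (tt N9604 F63914) (tt N10856 D16743) (tt N9724 F63915) (tt N9629 F63916) (tt N9601 F63917) (tt N9600 (iv D16145)) (tt N9751 F63918))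
theorem Q10260 : ∀ i, i < 10260 → P i := stepQ 10259 Q10259 (allL N10259 (tt N9915 F63919) (tt N10024 F63920) (tt N10857 D16744) (tt N9601 (iv D16146)) (tt N10858 D16745) (tt N9602 F63921) (tt N10856 (iv F66145)) (tt N10853 (iv F66135)) (tt N10029 F63922))
theorem Q10261 : ∀ i, i < 10261 → P i := stepQ 10260 Q10260 (allL N10260 (tt N10759 (iv F65732)) (tt N10859 D16746) (tt N9602 (iv D16147)) (tt N9606 F63923) (tt N10860 D16747) (tt N10857 (iv F66149)) (tt N9631 F63924) (tt N10854 (iv F66138)) (tt N10815 (iv F65979)))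
theorem Q10262 : ∀ i, i < 10262 → P i := stepQ 10261 Q10261 (allL N10261 (tt N10760 (iv F65737)) (tt N10850 (iv F66119)) (tt N10860 (iv F66158)) (tt N9603 F63925) (tt N9602 (iv D16148)) (tt N10861 D16748) (tt N9632 F63926) (tt N10855 (iv F66140)) (tt N10816 (iv F65983)))
theorem Q10263 : ∀ i, i < 10263 → P i := stepQ 10262 Q10262 (allL N10262 (tt N10761 (iv F65741)) (tt N10851 (iv F66123)) (tt N9904 F63927) (tt N10861 (iv F66161)) (tt N10846 (iv F66101)) (tt N9603 (iv D16149)) (tt N10862 D16749) (tt N10442 (iv F64637)) (tt N10817 (iv F65985)))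
theorem Q10264 : ∀ i, i < 10264 → P i := stepQ 10263 Q10263 (allL N10263 (tt N9943 F63928) (tt N10863 D16750) (tt N9605 (iv D16150)) (tt N10857 (iv F66148)) (tt N10864 D16751) (tt N9606 F63929) (tt N10101 F63930) (tt N9641 F63931) (tt N10058 F63932))
theorem Q10265 : ∀ i, i < 10265 → P i := stepQ 10264 Q10264 (allL N10264 (tt N9666 F63933) (tt N9665 F63934) (tt N10864 (iv F66173)) (tt N10056 F63935) (tt N9605 (iv D16151)) (tt N9942 F63936) (tt N9677 F63937) (tt N9642 F63938) (tt N10059 F63939))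
theorem Q10266 : ∀ i, i < 10266 → P i := stepQ 10265 Q10265 (allL N10265 (tt N10864 (iv F66171)) (tt N9606 (iv D16152)) (tt N9666 F63940) (tt N10859 (iv F66156)) (tt N9943 F63941) (tt N10863 (iv F66166)) (tt N9635 F63942) (tt N9643 F63943) (tt N10818 (iv F65991)))
theorem Q10267 : ∀ i, i < 10267 → P i := stepQ 10266 Q10266 (allL N10266 (tt N9616 F63944) (tt N9867 F63945) (tt N10266 F63946) (tt N9610 F63947) (tt N10274 (iv F63984)) (tt N9609 F63948) (tt N9860 F63949) (tt N10865 D16752) (tt N9607 (iv D16153)))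
theorem Q10268 : ∀ i, i < 10268 → P i := stepQ 10267 Q10267 (allL N10267 (tt N9617 F63950) (tt N9815 F63951) (tt N10267 F63952) (tt N9876 F63953) (tt N9809 F63954) (tt N10272 (iv F63974)) (tt N10075 F63955) (tt N10866 D16753) (tt N9608 (iv D16154)))
theorem Q10269 : ∀ i, i < 10269 → P i := stepQ 10268 Q10268 (allL N10268 (tt N9618 F63956) (tt N10762 (iv F65744)) (tt N10268 F63957) (tt N10867 D16754) (tt N10377 (iv F64394)) (tt N10865 (iv F66181)) (tt N10076 F63958) (tt N9609 (iv D16155)) (tt N10866 (iv F66188)))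
theorem Q10270 : ∀ i, i < 10270 → P i := stepQ 10269 Q10269 (allL N10269 (tt N9620 F63959) (tt N9872 F63960) (tt N9667 F63961) (tt N10868 D16755) (tt N9891 F63962) (tt N9611 F63963) (tt N9863 F63964) (tt N9610 (iv D16156)) (tt N9900 F63965))
theorem Q10271 : ∀ i, i < 10271 → P i := stepQ 10270 Q10270 (allL N10270 (tt N9621 F63966) (tt N10763 (iv F65751)) (tt N10869 D16756) (tt N9611 (iv D16157)) (tt N10870 D16757) (tt N10868 (iv F66194)) (tt N10079 F63967) (tt N10867 (iv F66191)) (tt N10091 F63968))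
theorem Q10272 : ∀ i, i < 10272 → P i := stepQ 10271 Q10271 (allL N10271 (tt N9622 F63969) (tt N10765 (iv F65761)) (tt N10754 (iv F65710)) (tt N10870 (iv F66202)) (tt N9612 (iv D16158)) (tt N10871 D16758) (tt N10847 (iv F66105)) (tt N10379 (iv F64397)) (tt N10819 (iv F65996)))
theorem Q10273 : ∀ i, i < 10273 → P i := stepQ 10272 Q10272 (allL N10272 (tt N10274 (iv F63981)) (tt N9623 F63970) (tt N10272 F63971) (tt N9894 F63972) (tt N9616 F63973) (tt N10267 F63974) (tt N10492 (iv F64808)) (tt N10872 D16759) (tt N9613 (iv D16159)))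
theorem Q10274 : ∀ i, i < 10274 → P i := stepQ 10273 Q10273 (allL N10273 (tt N9860 F63975) (tt N9624 F63976) (tt N10273 F63977) (tt N9619 F63978) (tt N10492 (iv F64806)) (tt N9855 F63979) (tt N9616 F63980) (tt N10873 D16760) (tt N9614 (iv D16160)))
theorem Q10275 : ∀ i, i < 10275 → P i := stepQ 10274 Q10274 (allL N10274 (tt N10272 F63981) (tt N9625 F63982) (tt N10274 F63983) (tt N10520 (iv F64892)) (tt N10266 F63984) (tt N9617 F63985) (tt N10491 (iv F64801)) (tt N10874 D16761) (tt N9615 (iv D16161)))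
theorem Q10276 : ∀ i, i < 10276 → P i := stepQ 10275 Q10275 (allL N10275 (tt N10865 (iv F66178)) (tt N9626 F63986) (tt N10275 F63987) (tt N10875 D16762) (tt N10872 (iv F66209)) (tt N9618 F63988) (tt N10873 (iv F66216)) (tt N9616 (iv D16162)) (tt N10874 (iv F66222)))
theorem Q10277 : ∀ i, i < 10277 → P i := stepQ 10276 Q10276 (allL N10276 (tt N10866 (iv F66183)) (tt N9627 F63989) (tt N10276 F63990) (tt N10876 D16763) (tt N10444 (iv F64645)) (tt N10874 (iv F66221)) (tt N10724 (iv F65563)) (tt N9617 (iv D16163)) (tt N9618 F63991))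
theorem Q10278 : ∀ i, i < 10278 → P i := stepQ 10277 Q10277 (allL N10277 (tt N10867 (iv F66189)) (tt N9628 F63992) (tt N10877 D16764) (tt N9618 (iv D16164)) (tt N10878 D16765) (tt N10875 (iv F66224)) (tt N10848 (iv F66111)) (tt N9621 F63993) (tt N10876 (iv F66227)))
theorem Q10279 : ∀ i, i < 10279 → P i := stepQ 10278 Q10278 (allL N10278 (tt N9863 F63994) (tt N9629 F63995) (tt N9669 F63996) (tt N10879 D16766) (tt N9900 F63997) (tt N9856 F63998) (tt N9620 F63999) (tt N9619 (iv D16165)) (tt N9891 F64000))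
theorem Q10280 : ∀ i, i < 10280 → P i := stepQ 10279 Q10279 (allL N10279 (tt N10868 (iv F66192)) (tt N9630 F64001) (tt N10880 D16767) (tt N9620 (iv D16166)) (tt N10881 D16768) (tt N9621 F64002) (tt N10879 (iv F66235)) (tt N10875 (iv F66225)) (tt N10823 (iv F66016)))
theorem Q10281 : ∀ i, i < 10281 → P i := stepQ 10280 Q10280 (allL N10280 (tt N10869 (iv F66197)) (tt N10882 D16769) (tt N9621 (iv D16167)) (tt N9671 F64003) (tt N10883 D16770) (tt N10880 (iv F66238)) (tt N10849 (iv F66116)) (tt N10877 (iv F66229)) (tt N10824 (iv F66020)))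
theorem Q10282 : ∀ i, i < 10282 → P i := stepQ 10281 Q10281 (allL N10281 (tt N10870 (iv F66201)) (tt N9632 F64004) (tt N10883 (iv F66244)) (tt N9622 F64005) (tt N9621 (iv D16168)) (tt N10884 D16771) (tt N10850 (iv F66121)) (tt N10878 (iv F66231)) (tt N10825 (iv F66026)))
theorem Q10283 : ∀ i, i < 10283 → P i := stepQ 10282 Q10282 (allL N10282 (tt N10871 (iv F66205)) (tt N9633 F64006) (tt N10846 (iv F66100)) (tt N10884 (iv F66246)) (tt N9904 F64007) (tt N9622 (iv D16169)) (tt N10885 D16772) (tt N10449 (iv F64658)) (tt N10826 (iv F66029)))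
theorem Q10284 : ∀ i, i < 10284 → P i := stepQ 10283 Q10283 (allL N10283 (tt N10704 (iv F65474)) (tt N10872 (iv F66207)) (tt N9644 F64008) (tt N10886 D16773) (tt N9626 F64009) (tt N10450 (iv F64661)) (tt N10502 (iv F64842)) (tt N9623 (iv D16170)) (tt N10501 (iv F64838)))
theorem Q10285 : ∀ i, i < 10285 → P i := stepQ 10284 Q10284 (allL N10284 (tt N10772 (iv F65786)) (tt N10873 (iv F66213)) (tt N9645 F64010) (tt N10887 D16774) (tt N10502 (iv F64840)) (tt N10852 (iv F66130)) (tt N9626 F64011) (tt N9624 (iv D16171)) (tt N10500 (iv F64834)))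
theorem Q10286 : ∀ i, i < 10286 → P i := stepQ 10285 Q10285 (allL N10285 (tt N10773 (iv F65791)) (tt N10874 (iv F66218)) (tt N9646 F64012) (tt N10888 D16775) (tt N10501 (iv F64836)) (tt N9627 F64013) (tt N10500 (iv F64833)) (tt N9625 (iv D16172)) (tt N9626 F64014))
theorem Q10287 : ∀ i, i < 10287 → P i := stepQ 10286 Q10286 (allL N10286 (tt N10774 (iv F65797)) (tt N10875 (iv F66223)) (tt N10889 D16776) (tt N9626 (iv D16173)) (tt N10890 D16777) (tt N9628 F64015) (tt N10887 (iv F66250)) (tt N9630 F64016) (tt N10888 (iv F66253)))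
theorem Q10288 : ∀ i, i < 10288 → P i := stepQ 10287 Q10287 (allL N10287 (tt N10775 (iv F65800)) (tt N10876 (iv F66226)) (tt N10891 D16778) (tt N9627 (iv D16174)) (tt N10892 D16779) (tt N10888 (iv F66252)) (tt N10728 (iv F65582)) (tt N10831 (iv F66045)) (tt N9628 F64017))
theorem Q10289 : ∀ i, i < 10289 → P i := stepQ 10288 Q10288 (allL N10288 (tt N10776 (iv F65803)) (tt N10893 D16780) (tt N9628 (iv D16175)) (tt N9649 F64018) (tt N10894 D16781) (tt N10889 (iv F66255)) (tt N10854 (iv F66137)) (tt N9631 F64019) (tt N10891 (iv F66259)))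
theorem Q10290 : ∀ i, i < 10290 → P i := stepQ 10289 Q10289 (allL N10289 (tt N10777 (iv F65806)) (tt N10878 (iv F66230)) (tt N10894 (iv F66263)) (tt N10454 (iv F64674)) (tt N9628 (iv D16176)) (tt N10895 D16782) (tt N10855 (iv F66139)) (tt N9632 F64020) (tt N10892 (iv F66260)))
theorem Q10291 : ∀ i, i < 10291 → P i := stepQ 10290 Q10290 (allL N10290 (tt N10778 (iv F65808)) (tt N10879 (iv F66233)) (tt N10792 (iv F65878)) (tt N9629 (iv D16177)) (tt N10896 D16783) (tt N10856 (iv F66144)) (tt N9630 F64021) (tt N10887 (iv F66251)) (tt N10834 (iv F66054)))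
theorem Q10292 : ∀ i, i < 10292 → P i := stepQ 10291 Q10291 (allL N10291 (tt N10779 (iv F65814)) (tt N10897 D16784) (tt N9630 (iv D16178)) (tt N9634 F64022) (tt N10898 D16785) (tt N9631 F64023) (tt N10792 (iv F65880)) (tt N10889 (iv F66256)) (tt N10835 (iv F66057)))
theorem Q10293 : ∀ i, i < 10293 → P i := stepQ 10292 Q10292 (allL N10292 (tt N10780 (iv F65819)) (tt N10881 (iv F66239)) (tt N10898 (iv F66272)) (tt N9914 F64024) (tt N9630 (iv D16179)) (tt N10899 D16786) (tt N10896 (iv F66267)) (tt N10890 (iv F66257)) (tt N10836 (iv F66059)))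
theorem Q10294 : ∀ i, i < 10294 → P i := stepQ 10293 Q10293 (allL N10293 (tt N10900 D16787) (tt N9631 (iv D16180)) (tt N10882 (iv F66241)) (tt N9635 F64025) (tt N10901 D16788) (tt N10897 (iv F66270)) (tt N10859 (iv F66157)) (tt N10893 (iv F66262)) (tt N10837 (iv F66062)))
theorem Q10295 : ∀ i, i < 10295 → P i := stepQ 10294 Q10294 (allL N10294 (tt N10782 (iv F65825)) (tt N10901 (iv F66277)) (tt N9632 F64026) (tt N10095 F64027) (tt N9631 (iv D16181)) (tt N10902 D16789) (tt N10860 (iv F66160)) (tt N10894 (iv F66264)) (tt N10838 (iv F66065)))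
theorem Q10296 : ∀ i, i < 10296 → P i := stepQ 10295 Q10295 (allL N10295 (tt N10783 (iv F65828)) (tt N10884 (iv F66245)) (tt N10902 (iv F66279)) (tt N9633 F64028) (tt N10899 (iv F66274)) (tt N9632 (iv D16182)) (tt N10903 D16790) (tt N10895 (iv F66265)) (tt N10839 (iv F66067)))
theorem Q10297 : ∀ i, i < 10297 → P i := stepQ 10296 Q10296 (allL N10296 (tt N10784 (iv F65830)) (tt N10885 (iv F66247)) (tt N10097 F64029) (tt N10903 (iv F66281)) (tt N9918 F64030) (tt N10862 (iv F66163)) (tt N9633 (iv D16183)) (tt N10457 (iv F64680)) (tt N10840 (iv F66070)))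
theorem Q10298 : ∀ i, i < 10298 → P i := stepQ 10297 Q10297 (allL N10297 (tt N9799 (iv F64036)) (tt N9634 (iv D16184)) (tt N9676 F64031) (tt N10897 (iv F66269)) (tt N9796 F64032) (tt N9635 F64033) (tt N10060 F64034) (tt N9655 F64035) (tt N10841 (iv F66077)))
theorem Q10299 : ∀ i, i < 10299 → P i := stepQ 10298 Q10298 (allL N10298 (tt N9635 (iv D16185)) (tt N10785 (iv F65833)) (tt N9677 F64037) (tt N10900 (iv F66275)) (tt N10101 F64038) (tt N9799 F64039) (tt N10864 (iv F66175)) (tt N9656 F64040) (tt N10842 (iv F66084)))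
theorem Q10300 : ∀ i, i < 10300 → P i := stepQ 10299 Q10299 (allL N10299 (tt N9989 F64041) (tt N10299 F64042) (tt N10852 (iv F66129)) (tt N10128 F64043) (tt N10600 (iv F65177)) (tt N9645 F64044) (tt N9637 F64045) (tt N9636 (iv D16186)) (tt N10599 (iv F65174)))
theorem Q10301 : ∀ i, i < 10301 → P i := stepQ 10300 Q10300 (allL N10300 (tt N9981 F64046) (tt N10300 F64047) (tt N10904 D16791) (tt N9637 (iv D16187)) (tt N10905 D16792) (tt N9638 F64048) (tt N10128 F64049) (tt N9639 F64050) (tt N10730 (iv F65592)))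
theorem Q10302 : ∀ i, i < 10302 → P i := stepQ 10301 Q10301 (allL N10301 (tt N10439 (iv F64626)) (tt N10906 D16793) (tt N9638 (iv D16188)) (tt N10854 (iv F66136)) (tt N10360 (iv F64327)) (tt N10904 (iv F66283)) (tt N9649 F64051) (tt N9640 F64052) (tt N10731 (iv F65597)))
theorem Q10303 : ∀ i, i < 10303 → P i := stepQ 10302 Q10302 (allL N10302 (tt N9975 F64053) (tt N10907 D16794) (tt N9639 (iv D16189)) (tt N9641 F64054) (tt N10908 D16795) (tt N9640 F64055) (tt N10114 F64056) (tt N10904 (iv F66285)) (tt N10302 F64057))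
theorem Q10304 : ∀ i, i < 10304 → P i := stepQ 10303 Q10303 (allL N10303 (tt N9983 F64058) (tt N10303 F64059) (tt N10908 (iv F66300)) (tt N10303 F64060) (tt N9639 (iv D16190)) (tt N10596 (iv F65157)) (tt N10130 F64061) (tt N10905 (iv F66289)) (tt N10303 F64062))
theorem Q10305 : ∀ i, i < 10305 → P i := stepQ 10304 Q10304 (allL N10304 (tt N10909 D16796) (tt N9640 (iv D16191)) (tt N10304 F64063) (tt N9643 F64064) (tt N10597 (iv F65161)) (tt N10907 (iv F66296)) (tt N9653 F64065) (tt N10906 (iv F66292)) (tt N10304 F64066))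
theorem Q10306 : ∀ i, i < 10306 → P i := stepQ 10305 Q10305 (allL N10305 (tt N9991 F64067) (tt N9641 (iv D16192)) (tt N9678 F64068) (tt N10907 (iv F66295)) (tt N9990 (iv F64072)) (tt N9643 F64069) (tt N10054 F64070) (tt N10863 (iv F66168)) (tt N10305 F64071))
theorem Q10307 : ∀ i, i < 10307 → P i := stepQ 10306 Q10306 (allL N10306 (tt N9643 F64073) (tt N9990 F64074) (tt N9642 F64075) (tt N10909 (iv F66305)) (tt N9641 (iv D16193)) (tt N9991 F64076) (tt N9656 F64077) (tt N10864 (iv F66176)) (tt N10306 F64078))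
theorem Q10308 : ∀ i, i < 10308 → P i := stepQ 10307 Q10307 (allL N10307 (tt N10125 F64079) (tt N10307 F64080) (tt N10793 (iv F65883)) (tt N9645 (iv D16194)) (tt N10647 (iv F65330)) (tt N10128 F64081) (tt N9647 F64082) (tt N9651 F64083) (tt N10610 (iv F65224)))
theorem Q10309 : ∀ i, i < 10309 → P i := stepQ 10308 Q10308 (allL N10308 (tt N10707 (iv F65483)) (tt N10308 F64084) (tt N10910 D16797) (tt N9646 (iv D16195)) (tt N10648 (iv F65335)) (tt N9648 F64085) (tt N10610 (iv F65222)) (tt N10308 F64086) (tt N9647 F64087))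
theorem Q10310 : ∀ i, i < 10310 → P i := stepQ 10309 Q10309 (allL N10309 (tt N10709 (iv F65493)) (tt N10911 D16798) (tt N9647 (iv D16196)) (tt N10889 (iv F66254)) (tt N10649 (iv F65340)) (tt N9649 F64088) (tt N10793 (iv F65885)) (tt N9652 F64089) (tt N10910 (iv F66311)))
theorem Q10311 : ∀ i, i < 10311 → P i := stepQ 10310 Q10310 (allL N10310 (tt N10786 (iv F65840)) (tt N10912 D16799) (tt N9648 (iv D16197)) (tt N10891 (iv F66258)) (tt N10913 D16800) (tt N10910 (iv F66309)) (tt N10731 (iv F65595)) (tt N10310 F64090) (tt N9649 F64091))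
theorem Q10312 : ∀ i, i < 10312 → P i := stepQ 10311 Q10311 (allL N10311 (tt N9950 F64092) (tt N10311 F64093) (tt N10913 (iv F66321)) (tt N9948 F64094) (tt N9648 (iv D16198)) (tt N10651 (iv F65349)) (tt N10020 F64095) (tt N10311 F64096) (tt N9650 F64097))
theorem Q10313 : ∀ i, i < 10313 → P i := stepQ 10312 Q10312 (allL N10312 (tt N10914 D16801) (tt N9649 (iv D16199)) (tt N10312 F64098) (tt N10893 (iv F66261)) (tt N10915 D16802) (tt N10911 (iv F66313)) (tt N10906 (iv F66291)) (tt N9653 F64099) (tt N10912 (iv F66319)))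
theorem Q10314 : ∀ i, i < 10314 → P i := stepQ 10313 Q10313 (allL N10313 (tt N10462 (iv F64694)) (tt N10915 (iv F66328)) (tt N9650 F64100) (tt N10916 D16803) (tt N9649 (iv D16200)) (tt N10653 (iv F65357)) (tt N10360 (iv F64328)) (tt N9654 F64101) (tt N10913 (iv F66324)))
theorem Q10315 : ∀ i, i < 10315 → P i := stepQ 10314 Q10314 (allL N10314 (tt N9801 (iv F64107)) (tt N9652 (iv D16201)) (tt N10314 F64102) (tt N9655 F64103) (tt N10434 (iv F64610)) (tt N9653 F64104) (tt N10063 F64105) (tt N10911 (iv F66315)) (tt N10314 F64106))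
theorem Q10316 : ∀ i, i < 10316 → P i := stepQ 10315 Q10315 (allL N10315 (tt N9653 (iv D16202)) (tt N10788 (iv F65849)) (tt N10315 F64108) (tt N9656 F64109) (tt N10917 D16804) (tt N9801 F64110) (tt N10909 (iv F66307)) (tt N10914 (iv F66327)) (tt N10315 F64111))
theorem Q10317 : ∀ i, i < 10317 → P i := stepQ 10316 Q10316 (allL N10316 (tt N10917 (iv F66332)) (tt N9654 F64112) (tt N10316 F64113) (tt N10115 F64114) (tt N9653 (iv D16203)) (tt N10655 (iv F65368)) (tt N10597 (iv F65162)) (tt N10915 (iv F66330)) (tt N10316 F64115))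
theorem Q10318 : ∀ i, i < 10318 → P i := stepQ 10317 Q10317 (allL N10317 (tt N10059 F64116) (tt N9657 (iv D16204)) (tt N10818 (iv F65986)) (tt N9794 F64117) (tt N9792 F64118) (tt N10062 F64119) (tt N9661 F64120) (tt N10317 F64121) (tt N9666 F64122))
theorem Q10319 : ∀ i, i < 10319 → P i := stepQ 10318 Q10318 (allL N10318 (tt N10098 F64123) (tt N9799 F64124) (tt N9659 (iv D16205)) (tt N10824 (iv F66018)) (tt N9699 F64125) (tt N10785 (iv F65836)) (tt N10041 F64126) (tt N9702 F64127) (tt N9671 F64128))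
theorem Q10320 : ∀ i, i < 10320 → P i := stepQ 10319 Q10319 (allL N10319 (tt N9675 F64129) (tt N9660 (iv D16206)) (tt N10841 (iv F66072)) (tt N9677 F64130) (tt N9790 F64131) (tt N9661 F64132) (tt N10056 F64133) (tt N10319 F64134) (tt N9676 F64135))
theorem Q10321 : ∀ i, i < 10321 → P i := stepQ 10320 Q10320 (allL N10320 (tt N9661 (iv D16207)) (tt N9673 F64136) (tt N10842 (iv F66079)) (tt N9676 F64137) (tt N9795 F64138) (tt N9675 F64139) (tt N10059 F64140) (tt N10320 F64141) (tt N9677 F64142))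
theorem Q10322 : ∀ i, i < 10322 → P i := stepQ 10321 Q10321 (allL N10321 (tt N10083 F64143) (tt N10918 D16805) (tt N9662 (iv D16208)) (tt N10849 (iv F66114)) (tt N9826 F64144) (tt N10026 F64145) (tt N9671 F64146) (tt N10321 F64147) (tt N10041 F64148))
theorem Q10323 : ∀ i, i < 10323 → P i := stepQ 10322 Q10322 (allL N10322 (tt N10056 F64149) (tt N9663 (iv D16209)) (tt N10918 (iv F66337)) (tt N9666 F64150) (tt N9789 F64151) (tt N10057 F64152) (tt N9675 F64153) (tt N10322 F64154) (tt N9794 F64155))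
theorem Q10324 : ∀ i, i < 10324 → P i := stepQ 10323 Q10323 (allL N10323 (tt N9942 F64156) (tt N9664 (iv D16210)) (tt N10863 (iv F66165)) (tt N10057 F64157) (tt N9939 F64158) (tt N9666 F64159) (tt N10061 F64160) (tt N9678 F64161) (tt N10062 F64162))
theorem Q10325 : ∀ i, i < 10325 → P i := stepQ 10324 Q10324 (allL N10324 (tt N9671 F64163) (tt N10750 (iv F65685)) (tt N9668 (iv D16211)) (tt N10869 (iv F66198)) (tt N10755 (iv F65714)) (tt N10751 (iv F65693)) (tt N10083 F64164) (tt N10324 F64165) (tt N10098 F64166))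
theorem Q10326 : ∀ i, i < 10326 → P i := stepQ 10325 Q10325 (allL N10325 (tt N9936 F64167) (tt N9672 F64168) (tt N10919 D16806) (tt N9669 (iv D16212)) (tt N10062 F64169) (tt N9935 F64170) (tt N9670 F64171) (tt N10325 F64172) (tt N9939 F64173))
theorem Q10327 : ∀ i, i < 10327 → P i := stepQ 10326 Q10326 (allL N10326 (tt N10751 F65697) (tt N10842 (iv F66078)) (tt N9670 (iv D16213)) (tt N10880 (iv F66237)) (tt N10920 D16807) (tt N9671 F64174) (tt N10919 (iv F66347)) (tt N10326 F64175) (tt N10785 (iv F65839)))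
theorem Q10328 : ∀ i, i < 10328 → P i := stepQ 10327 Q10327 (allL N10327 (tt N10057 F64176) (tt N9674 F64177) (tt N10920 (iv F66352)) (tt N9942 F64178) (tt N9670 (iv D16214)) (tt N10056 F64179) (tt N10062 F64180) (tt N10327 F64181) (tt N10061 F64182))
theorem Q10329 : ∀ i, i < 10329 → P i := stepQ 10328 Q10328 (allL N10328 (tt N10841 (iv F66071)) (tt N9671 (iv D16215)) (tt N9675 F64183) (tt N10882 (iv F66242)) (tt N9791 F64184) (tt N10842 (iv F66081)) (tt N10918 (iv F66340)) (tt N10328 F64185) (tt N9799 F64186))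
theorem Q10330 : ∀ i, i < 10330 → P i := stepQ 10329 Q10329 (allL N10329 (tt N9684 F64187) (tt N10329 F64188) (tt N10797 (iv F65903)) (tt N9781 F64189) (tt N9683 F64190) (tt N9783 F64191) (tt N9823 F64192) (tt N9682 (iv D16216)) (tt N9782 F64193))
theorem Q10331 : ∀ i, i < 10331 → P i := stepQ 10330 Q10330 (allL N10330 (tt N10330 F64194) (tt N10810 (iv F65950)) (tt N9980 F64195) (tt N9955 F64196) (tt N9686 (iv D16217)) (tt N10121 F64197) (tt N10127 F64198) (tt N10330 F64199) (tt N9982 F64200))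
theorem Q10332 : ∀ i, i < 10332 → P i := stepQ 10331 Q10331 (allL N10331 (tt N10921 D16808) (tt N9687 (iv D16218)) (tt N10811 (iv F65956)) (tt N9968 F64201) (tt N10122 F64202) (tt N9970 F64203) (tt N10585 (iv F65112)) (tt N10331 F64204) (tt N9969 F64205))
theorem Q10333 : ∀ i, i < 10333 → P i := stepQ 10332 Q10332 (allL N10332 (tt N9804 F64206) (tt N10843 (iv F66085)) (tt N9718 F64207) (tt N9688 (iv D16219)) (tt N10922 D16809) (tt N10018 F64208) (tt N9819 F64209) (tt N9689 F64210) (tt N10137 F64211))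
theorem Q10334 : ∀ i, i < 10334 → P i := stepQ 10333 Q10333 (allL N10333 (tt N9807 F64212) (tt N10845 (iv F66095)) (tt N9735 F64213) (tt N9808 F64214) (tt N9689 (iv D16220)) (tt N10923 D16810) (tt N9821 F64215) (tt N10922 (iv F66367)) (tt N9696 F64216))
theorem Q10335 : ∀ i, i < 10335 → P i := stepQ 10334 Q10334 (allL N10334 (tt N10752 (iv F65698)) (tt N9691 F64217) (tt N10924 D16811) (tt N9690 (iv D16221)) (tt N10925 D16812) (tt N10756 (iv F65721)) (tt N9693 F64218) (tt N10163 F64219) (tt N9813 F64220))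
theorem Q10336 : ∀ i, i < 10336 → P i := stepQ 10335 Q10335 (allL N10335 (tt N9808 F64221) (tt N10925 (iv F66380)) (tt N9748 F64222) (tt N9807 F64223) (tt N9691 (iv D16222)) (tt N10926 D16813) (tt N9696 F64224) (tt N10165 F64225) (tt N9821 F64226))
theorem Q10337 : ∀ i, i < 10337 → P i := stepQ 10336 Q10336 (allL N10336 (tt N9693 F64227) (tt N9738 F64228) (tt N10927 D16814) (tt N9692 (iv D16223)) (tt N10928 D16815) (tt N9742 F64229) (tt N10752 (iv F65702)) (tt N10169 F64230) (tt N10753 (iv F65708)))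
theorem Q10338 : ∀ i, i < 10338 → P i := stepQ 10337 Q10337 (allL N10337 (tt N10927 (iv F66390)) (tt N9760 F64231) (tt N9693 (iv D16224)) (tt N9699 F64232) (tt N10929 D16816) (tt N10030 F64233) (tt N10924 (iv F66377)) (tt N10174 F64234) (tt N10844 (iv F66094)))
theorem Q10339 : ∀ i, i < 10339 → P i := stepQ 10338 Q10338 (allL N10338 (tt N10928 (iv F66395)) (tt N9696 F64235) (tt N10929 (iv F66399)) (tt N10812 (iv F65963)) (tt N9693 (iv D16225)) (tt N10930 D16817) (tt N10925 (iv F66382)) (tt N10175 F64236) (tt N10845 (iv F66098)))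
theorem Q10340 : ∀ i, i < 10340 → P i := stepQ 10339 Q10339 (allL N10339 (tt N9819 F64237) (tt N10794 (iv F65886)) (tt N9829 F64238) (tt N9694 (iv D16226)) (tt N10931 D16818) (tt N10795 (iv F65894)) (tt N9804 F64239) (tt N9695 F64240) (tt N10206 F64241))
theorem Q10341 : ∀ i, i < 10341 → P i := stepQ 10340 Q10340 (allL N10340 (tt N9821 F64242) (tt N10812 (iv F65961)) (tt N9853 F64243) (tt N9696 F64244) (tt N9695 (iv D16227)) (tt N10932 D16819) (tt N9807 F64245) (tt N10931 (iv F66408)) (tt N9808 F64246))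
theorem Q10342 : ∀ i, i < 10342 → P i := stepQ 10341 Q10341 (allL N10341 (tt N9822 F64247) (tt N10930 (iv F66401)) (tt N9772 F64248) (tt N10932 (iv F66412)) (tt N10040 F64249) (tt N9696 (iv D16228)) (tt N10933 D16820) (tt N10185 F64250) (tt N10923 (iv F66373)))
theorem Q10343 : ∀ i, i < 10343 → P i := stepQ 10342 Q10342 (allL N10342 (tt N10100 F64251) (tt N9793 F64252) (tt N9697 (iv D16229)) (tt N10924 (iv F66376)) (tt N10041 F64253) (tt N10716 (iv F65519)) (tt N9699 F64254) (tt N9700 F64255) (tt N9826 F64256))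
theorem Q10344 : ∀ i, i < 10344 → P i := stepQ 10343 Q10343 (allL N10343 (tt N9699 F64257) (tt N10716 (iv F65516)) (tt N9698 (iv D16230)) (tt N10927 (iv F66391)) (tt N10098 F64258) (tt N9793 F64259) (tt N10100 F64260) (tt N9701 F64261) (tt N10755 (iv F65718)))
theorem Q10345 : ∀ i, i < 10345 → P i := stepQ 10344 Q10344 (allL N10344 (tt N10111 F64262) (tt N9801 F64263) (tt N10050 F64264) (tt N9702 (iv D16231)) (tt N10203 F64265) (tt N10788 (iv F65852)) (tt N10051 F64266) (tt N10934 D16821) (tt N10344 F64267))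
theorem Q10346 : ∀ i, i < 10346 → P i := stepQ 10345 Q10345 (allL N10345 (tt N9802 F64268) (tt N10673 (iv F65420)) (tt N9704 F64269) (tt N10935 D16822) (tt N10423 (iv F64558)) (tt N9707 F64270) (tt N10451 (iv F64666)) (tt N9703 (iv D16232)) (tt N10208 F64271))
theorem Q10347 : ∀ i, i < 10347 → P i := stepQ 10346 Q10346 (allL N10346 (tt N10014 F64272) (tt N9707 F64273) (tt N10346 F64274) (tt N10936 D16823) (tt N10661 (iv F65383)) (tt N10673 (iv F65423)) (tt N9713 F64275) (tt N9705 (iv D16233)) (tt N10350 (iv F64294)))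
theorem Q10348 : ∀ i, i < 10348 → P i := stepQ 10347 Q10347 (allL N10347 (tt N9828 F64276) (tt N10661 (iv F65381)) (tt N9708 F64277) (tt N10937 D16824) (tt N9707 F64278) (tt N10426 (iv F64576)) (tt N9717 F64279) (tt N9706 (iv D16234)) (tt N10464 (iv F64708)))
theorem Q10349 : ∀ i, i < 10349 → P i := stepQ 10348 Q10348 (allL N10348 (tt N9829 F64280) (tt N10936 (iv F66429)) (tt N9819 F64281) (tt N9707 (iv D16235)) (tt N10938 D16825) (tt N10935 (iv F66425)) (tt N9718 F64282) (tt N9723 F64283) (tt N10465 (iv F64713)))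
theorem Q10350 : ∀ i, i < 10350 → P i := stepQ 10349 Q10349 (allL N10349 (tt N9712 F64284) (tt N9832 F64285) (tt N10349 F64286) (tt N10473 (iv F64751)) (tt N9710 F64287) (tt N10065 F64288) (tt N10013 F64289) (tt N10939 D16826) (tt N9709 (iv D16236)))
theorem Q10351 : ∀ i, i < 10351 → P i := stepQ 10350 Q10350 (allL N10350 (tt N9713 F64290) (tt N9833 F64291) (tt N10350 F64292) (tt N10940 D16827) (tt N10939 (iv F66443)) (tt N10723 (iv F65555)) (tt N10014 F64293) (tt N9710 (iv D16237)) (tt N10346 F64294))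
theorem Q10352 : ∀ i, i < 10352 → P i := stepQ 10351 Q10351 (allL N10351 (tt N10065 F64295) (tt N9716 F64296) (tt N10351 F64297) (tt N10354 (iv F64308)) (tt N10022 F64298) (tt N9712 F64299) (tt N10466 (iv F64718)) (tt N10941 D16828) (tt N9711 (iv D16238)))
theorem Q10353 : ∀ i, i < 10353 → P i := stepQ 10352 Q10352 (allL N10352 (tt N10939 (iv F66440)) (tt N9717 F64300) (tt N10352 F64301) (tt N10942 D16829) (tt N9713 F64302) (tt N10941 (iv F66456)) (tt N10661 (iv F65385)) (tt N9712 (iv D16239)) (tt N10612 (iv F65234)))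
theorem Q10354 : ∀ i, i < 10354 → P i := stepQ 10353 Q10353 (allL N10353 (tt N10940 (iv F66447)) (tt N9718 F64303) (tt N10943 D16830) (tt N9713 (iv D16240)) (tt N10944 D16831) (tt N10725 (iv F65566)) (tt N10936 (iv F66430)) (tt N9727 F64304) (tt N10613 (iv F65237)))
theorem Q10355 : ∀ i, i < 10355 → P i := stepQ 10354 Q10354 (allL N10354 (tt N9843 F64305) (tt N9845 F64306) (tt N9949 F64307) (tt N10351 F64308) (tt N9731 F64309) (tt N10067 F64310) (tt N9837 F64311) (tt N10945 D16832) (tt N9714 (iv D16241)))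
theorem Q10356 : ∀ i, i < 10356 → P i := stepQ 10355 Q10355 (allL N10355 (tt N9844 F64312) (tt N10664 (iv F65390)) (tt N9924 F64313) (tt N10946 D16833) (tt N9732 F64314) (tt N10477 (iv F64764)) (tt N9933 F64315) (tt N9715 (iv D16242)) (tt N10945 (iv F66469)))
theorem Q10357 : ∀ i, i < 10357 → P i := stepQ 10356 Q10356 (allL N10356 (tt N9846 F64316) (tt N10941 (iv F66453)) (tt N9719 F64317) (tt N10947 D16834) (tt N10727 (iv F65578)) (tt N9717 F64318) (tt N10474 (iv F64757)) (tt N9716 (iv D16243)) (tt N10615 (iv F65247)))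
theorem Q10358 : ∀ i, i < 10358 → P i := stepQ 10357 Q10357 (allL N10357 (tt N9847 F64319) (tt N10942 (iv F66458)) (tt N10948 D16835) (tt N9717 (iv D16244)) (tt N10949 D16836) (tt N10947 (iv F66474)) (tt N10937 (iv F66434)) (tt N10946 (iv F66472)) (tt N10616 (iv F65249)))
theorem Q10359 : ∀ i, i < 10359 → P i := stepQ 10358 Q10358 (allL N10358 (tt N9848 F64320) (tt N10944 (iv F66461)) (tt N10922 (iv F66364)) (tt N10949 (iv F66479)) (tt N9718 (iv D16245)) (tt N10950 D16837) (tt N10938 (iv F66438)) (tt N9735 F64321) (tt N10617 (iv F65252)))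
theorem Q10360 : ∀ i, i < 10360 → P i := stepQ 10359 Q10359 (allL N10359 (tt N9850 F64322) (tt N10359 F64323) (tt N10951 D16838) (tt N9719 (iv D16246)) (tt N10952 D16839) (tt N9720 F64324) (tt N10601 (iv F65184)) (tt N9992 F64325) (tt N10618 (iv F65257)))
theorem Q10361 : ∀ i, i < 10361 → P i := stepQ 10360 Q10360 (allL N10360 (tt N9851 F64326) (tt N10953 D16840) (tt N9720 (iv D16247)) (tt N10948 (iv F66476)) (tt N10301 F64327) (tt N10951 (iv F66483)) (tt N10313 F64328) (tt N9993 F64329) (tt N10619 (iv F65260)))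
theorem Q10362 : ∀ i, i < 10362 → P i := stepQ 10361 Q10361 (allL N10361 (tt N9806 F64330) (tt N10753 (iv F65705)) (tt N9820 F64331) (tt N9721 (iv D16248)) (tt N10954 D16841) (tt N9723 F64332) (tt N10732 (iv F65602)) (tt N10935 (iv F66426)) (tt N9738 F64333))
theorem Q10363 : ∀ i, i < 10363 → P i := stepQ 10362 Q10362 (allL N10362 (tt N10021 F64334) (tt N9723 F64335) (tt N10955 D16842) (tt N9722 (iv D16249)) (tt N10956 D16843) (tt N10753 (iv F65706)) (tt N9727 F64336) (tt N10936 (iv F66431)) (tt N9742 F64337))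
theorem Q10364 : ∀ i, i < 10364 → P i := stepQ 10363 Q10363 (allL N10363 (tt N9853 F64338) (tt N10956 (iv F66502)) (tt N9821 F64339) (tt N9916 F64340) (tt N9723 (iv D16250)) (tt N10957 D16844) (tt N9735 F64341) (tt N10938 (iv F66439)) (tt N9748 F64342))
theorem Q10365 : ∀ i, i < 10365 → P i := stepQ 10364 Q10364 (allL N10364 (tt N9727 F64343) (tt N9857 F64344) (tt N10958 D16845) (tt N9724 (iv D16251)) (tt N10959 D16846) (tt N10738 (iv F65634)) (tt N10021 F64345) (tt N10940 (iv F66450)) (tt N9752 F64346))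
theorem Q10366 : ∀ i, i < 10366 → P i := stepQ 10365 Q10365 (allL N10365 (tt N10852 (iv F66127)) (tt N9732 F64347) (tt N9989 F64348) (tt N10960 D16847) (tt N10664 (iv F65392)) (tt N10772 (iv F65789)) (tt N9932 F64349) (tt N9725 (iv D16252)) (tt N10804 (iv F65936)))
theorem Q10367 : ∀ i, i < 10367 → P i := stepQ 10366 Q10366 (allL N10366 (tt N10856 (iv F66141)) (tt N9734 F64350) (tt N10094 F64351) (tt N9726 (iv D16253)) (tt N10961 D16848) (tt N10778 (iv F65811)) (tt N9915 F64352) (tt N10960 (iv F66521)) (tt N9759 F64353))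
theorem Q10368 : ∀ i, i < 10368 → P i := stepQ 10367 Q10367 (allL N10367 (tt N10958 (iv F66510)) (tt N10844 (iv F66090)) (tt N9727 (iv D16254)) (tt N9791 F64354) (tt N10962 D16849) (tt N10741 (iv F65652)) (tt N10955 (iv F66499)) (tt N10943 (iv F66460)) (tt N9760 F64355))
theorem Q10369 : ∀ i, i < 10369 → P i := stepQ 10368 Q10368 (allL N10368 (tt N10959 (iv F66514)) (tt N9735 F64356) (tt N10962 (iv F66527)) (tt N10961 (iv F66524)) (tt N9727 (iv D16255)) (tt N10963 D16850) (tt N10956 (iv F66504)) (tt N10944 (iv F66462)) (tt N9761 F64357))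
theorem Q10370 : ∀ i, i < 10370 → P i := stepQ 10369 Q10369 (allL N10369 (tt N9866 F64358) (tt N10370 (iv F64364)) (tt N9926 F64359) (tt N10397 (iv F64468)) (tt N9730 F64360) (tt N10214 F64361) (tt N10177 F64362) (tt N10964 D16851) (tt N9728 (iv D16256)))
theorem Q10371 : ∀ i, i < 10371 → P i := stepQ 10370 Q10370 (allL N10370 (tt N9868 F64363) (tt N10369 F64364) (tt N9994 F64365) (tt N9764 F64366) (tt N10176 F64367) (tt N9731 F64368) (tt N10117 F64369) (tt N10965 D16852) (tt N9729 (iv D16257)))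
theorem Q10372 : ∀ i, i < 10372 → P i := stepQ 10371 Q10371 (allL N10371 (tt N9869 F64370) (tt N10772 (iv F65787)) (tt N9922 F64371) (tt N10966 D16853) (tt N10964 (iv F66533)) (tt N9732 F64372) (tt N10766 (iv F65766)) (tt N9730 (iv D16258)) (tt N10965 (iv F66543)))
theorem Q10373 : ∀ i, i < 10373 → P i := stepQ 10372 Q10372 (allL N10372 (tt N9870 F64373) (tt N10804 (iv F65932)) (tt N9923 F64374) (tt N10967 D16854) (tt N10945 (iv F66466)) (tt N10965 (iv F66541)) (tt N9930 F64375) (tt N9731 (iv D16259)) (tt N9732 F64376))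
theorem Q10374 : ∀ i, i < 10374 → P i := stepQ 10373 Q10373 (allL N10373 (tt N9871 F64377) (tt N10960 (iv F66518)) (tt N9881 F64378) (tt N9732 (iv D16260)) (tt N10968 D16855) (tt N10966 (iv F66546)) (tt N9910 F64379) (tt N9734 F64380) (tt N10967 (iv F66552)))
theorem Q10375 : ∀ i, i < 10375 → P i := stepQ 10374 Q10374 (allL N10374 (tt N9873 F64381) (tt N10778 (iv F65809)) (tt N9883 F64382) (tt N9733 (iv D16261)) (tt N10969 D16856) (tt N9734 F64383) (tt N10768 (iv F65776)) (tt N10966 (iv F66547)) (tt N9769 F64384))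
theorem Q10376 : ∀ i, i < 10376 → P i := stepQ 10375 Q10375 (allL N10375 (tt N9874 F64385) (tt N10961 (iv F66522)) (tt N9884 F64386) (tt N9735 F64387) (tt N9734 (iv D16262)) (tt N10970 D16857) (tt N9916 F64388) (tt N10968 (iv F66556)) (tt N9771 F64389))
theorem Q10377 : ∀ i, i < 10377 → P i := stepQ 10376 Q10376 (allL N10376 (tt N9875 F64390) (tt N10963 (iv F66529)) (tt N10923 (iv F66370)) (tt N10970 (iv F66562)) (tt N10749 (iv F65682)) (tt N9735 (iv D16263)) (tt N10971 D16858) (tt N10950 (iv F66481)) (tt N9772 F64391))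
theorem Q10378 : ∀ i, i < 10378 → P i := stepQ 10377 Q10377 (allL N10377 (tt N9811 F64392) (tt N10451 (iv F64663)) (tt N10377 F64393) (tt N10972 D16859) (tt N10268 F64394) (tt N10444 (iv F64646)) (tt N10673 (iv F65424)) (tt N9736 (iv D16264)) (tt N10443 (iv F64641)))
theorem Q10379 : ∀ i, i < 10379 → P i := stepQ 10378 Q10378 (allL N10378 (tt N9813 F64395) (tt N10732 (iv F65599)) (tt N10973 D16860) (tt N9737 (iv D16265)) (tt N10974 D16861) (tt N10733 (iv F65606)) (tt N10753 (iv F65707)) (tt N10972 (iv F66567)) (tt N10752 (iv F65703)))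
theorem Q10380 : ∀ i, i < 10380 → P i := stepQ 10379 Q10379 (allL N10379 (tt N9814 F64396) (tt N10928 (iv F66396)) (tt N10847 (iv F66103)) (tt N10974 (iv F66572)) (tt N9738 (iv D16266)) (tt N10975 D16862) (tt N10754 (iv F65711)) (tt N10271 F64397) (tt N10954 (iv F66495)))
theorem Q10381 : ∀ i, i < 10381 → P i := stepQ 10380 Q10380 (allL N10380 (tt N9826 F64398) (tt N10790 (iv F65863)) (tt N9739 (iv D16267)) (tt N10973 (iv F66569)) (tt N10083 F64399) (tt N10789 (iv F65858)) (tt N10755 (iv F65716)) (tt N10380 F64400) (tt N10100 F64401))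
theorem Q10382 : ∀ i, i < 10382 → P i := stepQ 10381 Q10381 (allL N10381 (tt N10028 F64402) (tt N9745 F64403) (tt N10381 F64404) (tt N10976 D16863) (tt N10392 (iv F64446)) (tt N10734 (iv F65613)) (tt N9757 F64405) (tt N9740 (iv D16268)) (tt N10802 (iv F65930)))
theorem Q10383 : ∀ i, i < 10383 → P i := stepQ 10382 Q10382 (allL N10382 (tt N10029 F64406) (tt N9747 F64407) (tt N10977 D16864) (tt N9741 (iv D16269)) (tt N10978 D16865) (tt N10735 (iv F65618)) (tt N9759 F64408) (tt N10976 (iv F66579)) (tt N9915 F64409))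
theorem Q10384 : ∀ i, i < 10384 → P i := stepQ 10383 Q10383 (allL N10383 (tt N10030 F64410) (tt N10924 (iv F66375)) (tt N9742 (iv D16270)) (tt N9793 F64411) (tt N10979 D16866) (tt N10927 (iv F66392)) (tt N9760 F64412) (tt N10394 (iv F64454)) (tt N10955 (iv F66500)))
theorem Q10385 : ∀ i, i < 10385 → P i := stepQ 10384 Q10384 (allL N10384 (tt N10031 F64413) (tt N9748 F64414) (tt N10979 (iv F66591)) (tt N10978 (iv F66587)) (tt N9742 (iv D16271)) (tt N10980 D16867) (tt N9761 F64415) (tt N10395 (iv F64458)) (tt N10956 (iv F66505)))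
theorem Q10386 : ∀ i, i < 10386 → P i := stepQ 10385 Q10385 (allL N10385 (tt N9879 F64416) (tt N10734 (iv F65610)) (tt N9777 F64417) (tt N10981 D16868) (tt N10821 (iv F66005)) (tt N9745 F64418) (tt N10739 (iv F65642)) (tt N9743 (iv D16272)) (tt N10799 (iv F65918)))
theorem Q10387 : ∀ i, i < 10387 → P i := stepQ 10386 Q10386 (allL N10386 (tt N9880 F64419) (tt N10802 (iv F65926)) (tt N9778 F64420) (tt N10982 D16869) (tt N10523 (iv F64907)) (tt N10799 (iv F65916)) (tt N9766 F64421) (tt N9744 (iv D16273)) (tt N9745 F64422))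
theorem Q10388 : ∀ i, i < 10388 → P i := stepQ 10387 Q10387 (allL N10387 (tt N9881 F64423) (tt N10976 (iv F66577)) (tt N9871 F64424) (tt N9745 (iv D16274)) (tt N10983 D16870) (tt N10981 (iv F66597)) (tt N9767 F64425) (tt N9747 F64426) (tt N10982 (iv F66603)))
theorem Q10389 : ∀ i, i < 10389 → P i := stepQ 10388 Q10388 (allL N10388 (tt N9883 F64427) (tt N10735 (iv F65617)) (tt N9873 F64428) (tt N9746 (iv D16275)) (tt N10984 D16871) (tt N9747 F64429) (tt N10740 (iv F65648)) (tt N10981 (iv F66598)) (tt N9913 F64430))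
theorem Q10390 : ∀ i, i < 10390 → P i := stepQ 10389 Q10389 (allL N10389 (tt N9884 F64431) (tt N10978 (iv F66586)) (tt N9874 F64432) (tt N9748 F64433) (tt N9747 (iv D16276)) (tt N10985 D16872) (tt N9771 F64434) (tt N10983 (iv F66607)) (tt N9916 F64435))
theorem Q10391 : ∀ i, i < 10391 → P i := stepQ 10390 Q10390 (allL N10390 (tt N9885 F64436) (tt N10980 (iv F66594)) (tt N10926 (iv F66386)) (tt N10985 (iv F66613)) (tt N10975 (iv F66574)) (tt N9748 (iv D16277)) (tt N10986 D16873) (tt N10528 (iv F64922)) (tt N10957 (iv F66509)))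
theorem Q10392 : ∀ i, i < 10392 → P i := stepQ 10391 Q10391 (allL N10391 (tt N9756 F64437) (tt N9889 F64438) (tt N10391 F64439) (tt N10472 (iv F64744)) (tt N10212 F64440) (tt N10234 F64441) (tt N10027 F64442) (tt N10987 D16874) (tt N9749 (iv D16278)))
theorem Q10393 : ∀ i, i < 10393 → P i := stepQ 10392 Q10392 (allL N10392 (tt N9757 F64443) (tt N9890 F64444) (tt N10392 F64445) (tt N10988 D16875) (tt N10381 F64446) (tt N10828 (iv F66035)) (tt N10028 F64447) (tt N9750 (iv D16279)) (tt N10987 (iv F66623)))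
theorem Q10394 : ∀ i, i < 10394 → P i := stepQ 10393 Q10393 (allL N10393 (tt N9759 F64448) (tt N9892 F64449) (tt N10989 D16876) (tt N9751 (iv D16280)) (tt N10990 D16877) (tt N10834 (iv F66052)) (tt N10029 F64450) (tt N10988 (iv F66627)) (tt N10856 (iv F66146)))
theorem Q10395 : ∀ i, i < 10395 → P i := stepQ 10394 Q10394 (allL N10394 (tt N9760 F64451) (tt N10757 (iv F65725)) (tt N9752 (iv D16281)) (tt N9796 F64452) (tt N10991 D16878) (tt N10764 (iv F65759)) (tt N10030 F64453) (tt N10383 F64454) (tt N10958 (iv F66513)))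
theorem Q10396 : ∀ i, i < 10396 → P i := stepQ 10395 Q10395 (allL N10395 (tt N9761 F64455) (tt N9893 F64456) (tt N10991 (iv F66637)) (tt N10990 (iv F66634)) (tt N9752 (iv D16282)) (tt N10992 D16879) (tt N10031 F64457) (tt N10384 F64458) (tt N10959 (iv F66517)))
theorem Q10397 : ∀ i, i < 10397 → P i := stepQ 10396 Q10396 (allL N10396 (tt N10236 F64459) (tt N9762 F64460) (tt N10396 F64461) (tt N10177 F64462) (tt N9755 F64463) (tt N10151 F64464) (tt N10397 (iv F64471)) (tt N10993 D16880) (tt N9753 (iv D16283)))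
theorem Q10398 : ∀ i, i < 10398 → P i := stepQ 10397 Q10397 (allL N10397 (tt N10234 F64465) (tt N9764 F64466) (tt N10397 F64467) (tt N10369 F64468) (tt N10150 F64469) (tt N9756 F64470) (tt N10396 F64471) (tt N10994 D16881) (tt N9754 (iv D16284)))
theorem Q10399 : ∀ i, i < 10399 → P i := stepQ 10398 Q10398 (allL N10398 (tt N10828 (iv F66032)) (tt N9765 F64472) (tt N10398 F64473) (tt N10995 D16882) (tt N10993 (iv F66646)) (tt N9757 F64474) (tt N10743 (iv F65660)) (tt N9755 (iv D16285)) (tt N10994 (iv F66655)))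
theorem Q10400 : ∀ i, i < 10400 → P i := stepQ 10399 Q10399 (allL N10399 (tt N10987 (iv F66617)) (tt N9766 F64475) (tt N10399 F64476) (tt N10996 D16883) (tt N10628 (iv F65283)) (tt N10994 (iv F66653)) (tt N10802 (iv F65929)) (tt N9756 (iv D16286)) (tt N9757 F64477))
theorem Q10401 : ∀ i, i < 10401 → P i := stepQ 10400 Q10400 (allL N10400 (tt N10988 (iv F66624)) (tt N9767 F64478) (tt N10997 D16884) (tt N9757 (iv D16287)) (tt N10998 D16885) (tt N10995 (iv F66657)) (tt N10976 (iv F66578)) (tt N9759 F64479) (tt N10996 (iv F66660)))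
theorem Q10402 : ∀ i, i < 10402 → P i := stepQ 10401 Q10401 (allL N10401 (tt N10834 (iv F66050)) (tt N9769 F64480) (tt N10999 D16886) (tt N9758 (iv D16288)) (tt N11000 D16887) (tt N9759 F64481) (tt N10746 (iv F65672)) (tt N10995 (iv F66658)) (tt N10778 (iv F65813)))
theorem Q10403 : ∀ i, i < 10403 → P i := stepQ 10402 Q10402 (allL N10402 (tt N10989 (iv F66628)) (tt N10080 F64482) (tt N9759 (iv D16289)) (tt N9798 F64483) (tt N11001 D16888) (tt N10999 (iv F66668)) (tt N10977 (iv F66583)) (tt N10997 (iv F66663)) (tt N10094 F64484))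
theorem Q10404 : ∀ i, i < 10404 → P i := stepQ 10403 Q10403 (allL N10403 (tt N10990 (iv F66632)) (tt N9771 F64485) (tt N11001 (iv F66672)) (tt N9761 F64486) (tt N9759 (iv D16290)) (tt N11002 D16889) (tt N10978 (iv F66588)) (tt N10998 (iv F66665)) (tt N10961 (iv F66526)))
theorem Q10405 : ∀ i, i < 10405 → P i := stepQ 10404 Q10404 (allL N10404 (tt N10991 (iv F66636)) (tt N10929 (iv F66398)) (tt N9761 F64487) (tt N11003 D16890) (tt N9760 (iv D16291)) (tt N11004 D16891) (tt N10979 (iv F66592)) (tt N10632 (iv F65291)) (tt N10962 (iv F66528)))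
theorem Q10406 : ∀ i, i < 10406 → P i := stepQ 10405 Q10405 (allL N10405 (tt N10992 (iv F66640)) (tt N9772 F64488) (tt N11004 (iv F66677)) (tt N11002 (iv F66675)) (tt N10771 (iv F65785)) (tt N9761 (iv D16292)) (tt N11005 D16892) (tt N10633 (iv F65293)) (tt N10963 (iv F66530)))
theorem Q10407 : ∀ i, i < 10407 → P i := stepQ 10406 Q10406 (allL N10406 (tt N9905 F64489) (tt N10993 (iv F66644)) (tt N9779 F64490) (tt N11006 D16893) (tt N9765 F64491) (tt N10634 (iv F65297)) (tt N10408 (iv F64500)) (tt N9762 (iv D16293)) (tt N10407 (iv F64495)))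
theorem Q10408 : ∀ i, i < 10408 → P i := stepQ 10407 Q10407 (allL N10407 (tt N9906 F64492) (tt N10743 (iv F65657)) (tt N9780 F64493) (tt N11007 D16894) (tt N10408 (iv F64498)) (tt N10739 (iv F65641)) (tt N9765 F64494) (tt N9763 (iv D16294)) (tt N10406 F64495))
theorem Q10409 : ∀ i, i < 10409 → P i := stepQ 10408 Q10408 (allL N10408 (tt N9907 F64496) (tt N10994 (iv F66650)) (tt N9781 F64497) (tt N11008 D16895) (tt N10407 F64498) (tt N9766 F64499) (tt N10406 F64500) (tt N9764 (iv D16295)) (tt N9765 F64501))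
theorem Q10410 : ∀ i, i < 10410 → P i := stepQ 10409 Q10409 (allL N10409 (tt N9908 F64502) (tt N10995 (iv F66656)) (tt N11009 D16896) (tt N9765 (iv D16296)) (tt N11010 D16897) (tt N9767 F64503) (tt N11007 (iv F66681)) (tt N9769 F64504) (tt N11008 (iv F66687)))
theorem Q10411 : ∀ i, i < 10411 → P i := stepQ 10410 Q10410 (allL N10410 (tt N9909 F64505) (tt N10996 (iv F66659)) (tt N11011 D16898) (tt N9766 (iv D16297)) (tt N11012 D16899) (tt N11008 (iv F66685)) (tt N10982 (iv F66601)) (tt N10967 (iv F66551)) (tt N9767 F64506))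
theorem Q10412 : ∀ i, i < 10412 → P i := stepQ 10411 Q10411 (allL N10411 (tt N9910 F64507) (tt N10078 (iv F64511)) (tt N9767 (iv D16298)) (tt N9784 F64508) (tt N11013 D16900) (tt N11009 (iv F66690)) (tt N9871 F64509) (tt N9770 F64510) (tt N11011 (iv F66699)))
theorem Q10413 : ∀ i, i < 10413 → P i := stepQ 10412 Q10412 (allL N10412 (tt N9911 F64512) (tt N10998 (iv F66664)) (tt N11013 (iv F66705)) (tt N10639 (iv F65311)) (tt N9767 (iv D16299)) (tt N11014 D16901) (tt N10983 (iv F66606)) (tt N9771 F64513) (tt N11012 (iv F66702)))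
theorem Q10414 : ∀ i, i < 10414 → P i := stepQ 10413 Q10413 (allL N10413 (tt N9912 F64514) (tt N10746 (iv F65670)) (tt N10763 (iv F65752)) (tt N9768 (iv D16300)) (tt N11015 D16902) (tt N10740 (iv F65647)) (tt N9769 F64515) (tt N11007 (iv F66682)) (tt N10768 (iv F65777)))
theorem Q10415 : ∀ i, i < 10415 → P i := stepQ 10414 Q10414 (allL N10414 (tt N9913 F64516) (tt N10079 (iv F64520)) (tt N9769 (iv D16301)) (tt N9773 F64517) (tt N11016 D16903) (tt N9770 F64518) (tt N10763 (iv F65754)) (tt N11009 (iv F66691)) (tt N9883 F64519))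
theorem Q10416 : ∀ i, i < 10416 → P i := stepQ 10415 Q10415 (allL N10415 (tt N9914 F64521) (tt N11000 (iv F66670)) (tt N11016 (iv F66714)) (tt N10780 (iv F65820)) (tt N9769 (iv D16302)) (tt N11017 D16904) (tt N11015 (iv F66711)) (tt N11010 (iv F66694)) (tt N10969 (iv F66559)))
theorem Q10417 : ∀ i, i < 10417 → P i := stepQ 10416 Q10416 (allL N10416 (tt N9916 F64522) (tt N10081 F64523) (tt N9771 F64524) (tt N9853 F64525) (tt N9770 (iv D16303)) (tt N11018 D16905) (tt N9874 F64526) (tt N11013 (iv F66707)) (tt N9884 F64527))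
theorem Q10418 : ∀ i, i < 10418 → P i := stepQ 10417 Q10417 (allL N10417 (tt N9917 F64528) (tt N11002 (iv F66674)) (tt N11018 (iv F66720)) (tt N9772 F64529) (tt N11017 (iv F66717)) (tt N9771 (iv D16304)) (tt N11019 D16906) (tt N11014 (iv F66709)) (tt N10970 (iv F66563)))
theorem Q10419 : ∀ i, i < 10419 → P i := stepQ 10418 Q10418 (allL N10418 (tt N9918 F64530) (tt N11005 (iv F66678)) (tt N10933 (iv F66415)) (tt N11019 (iv F66724)) (tt N10784 (iv F65832)) (tt N10986 (iv F66616)) (tt N9772 (iv D16305)) (tt N10645 (iv F65323)) (tt N10971 (iv F66565)))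
theorem Q10420 : ∀ i, i < 10420 → P i := stepQ 10419 Q10419 (allL N10419 (tt N9919 F64531) (tt N10419 F64532) (tt N10821 (iv F66004)) (tt N11020 D16907) (tt N9777 F64533) (tt N10576 (iv F65071)) (tt N10045 F64534) (tt N9774 (iv D16306)) (tt N10044 F64535))
theorem Q10421 : ∀ i, i < 10421 → P i := stepQ 10420 Q10420 (allL N10420 (tt N9920 F64536) (tt N10420 F64537) (tt N10739 (iv F65639)) (tt N10008 F64538) (tt N10045 F64539) (tt N9780 F64540) (tt N9777 F64541) (tt N9775 (iv D16307)) (tt N10043 F64542))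
theorem Q10422 : ∀ i, i < 10422 → P i := stepQ 10421 Q10421 (allL N10421 (tt N9921 F64543) (tt N10421 F64544) (tt N10799 (iv F65914)) (tt N10009 F64545) (tt N10044 F64546) (tt N9778 F64547) (tt N10043 F64548) (tt N9776 (iv D16308)) (tt N9777 F64549))
theorem Q10423 : ∀ i, i < 10423 → P i := stepQ 10422 Q10422 (allL N10422 (tt N9928 F64550) (tt N10422 F64551) (tt N10762 (iv F65745)) (tt N9780 (iv D16309)) (tt N9824 F64552) (tt N10008 F64553) (tt N9782 F64554) (tt N9786 F64555) (tt N9823 F64556))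
theorem Q10424 : ∀ i, i < 10424 → P i := stepQ 10423 Q10423 (allL N10423 (tt N9929 F64557) (tt N10076 (iv F64561)) (tt N9782 (iv D16310)) (tt N11009 (iv F66689)) (tt N10345 F64558) (tt N9784 F64559) (tt N10762 (iv F65748)) (tt N9787 F64560) (tt N10797 (iv F65907)))
theorem Q10425 : ∀ i, i < 10425 → P i := stepQ 10424 Q10424 (allL N10424 (tt N9930 F64562) (tt N10077 (iv F64566)) (tt N9783 (iv D16311)) (tt N11011 (iv F66696)) (tt N11021 D16908) (tt N10797 (iv F65905)) (tt N9870 F64563) (tt N9852 F64564) (tt N9784 F64565))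
theorem Q10426 : ∀ i, i < 10426 → P i := stepQ 10425 Q10425 (allL N10425 (tt N9931 F64567) (tt N10425 F64568) (tt N11021 (iv F66733)) (tt N10651 (iv F65348)) (tt N9783 (iv D16312)) (tt N9948 F64569) (tt N10000 F64570) (tt N9947 F64571) (tt N9785 F64572))
theorem Q10427 : ∀ i, i < 10427 → P i := stepQ 10426 Q10426 (allL N10426 (tt N9933 F64573) (tt N10066 F64574) (tt N9785 F64575) (tt N11022 D16909) (tt N9784 (iv D16313)) (tt N10347 F64576) (tt N9844 F64577) (tt N9788 F64578) (tt N11021 (iv F66737)))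
theorem Q10428 : ∀ i, i < 10428 → P i := stepQ 10427 Q10427 (allL N10427 (tt N10055 F64579) (tt N9826 F64580) (tt N9789 (iv D16314)) (tt N10955 (iv F66498)) (tt N10918 (iv F66338)) (tt N10755 (iv F65715)) (tt N9791 F64581) (tt N10427 F64582) (tt N9793 F64583))
theorem Q10429 : ∀ i, i < 10429 → P i := stepQ 10428 Q10428 (allL N10428 (tt N9791 F64584) (tt N10789 (iv F65856)) (tt N9790 (iv D16315)) (tt N10958 (iv F66511)) (tt N10841 (iv F66073)) (tt N10790 (iv F65865)) (tt N10055 F64585) (tt N10428 F64586) (tt N9796 F64587))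
theorem Q10430 : ∀ i, i < 10430 → P i := stepQ 10429 Q10429 (allL N10429 (tt N10058 F64588) (tt N9937 F64589) (tt N9792 (iv D16316)) (tt N10977 (iv F66582)) (tt N10818 (iv F65987)) (tt N10737 (iv F65628)) (tt N9798 F64590) (tt N10429 F64591) (tt N9943 F64592))
theorem Q10431 : ∀ i, i < 10431 → P i := stepQ 10430 Q10430 (allL N10430 (tt N10060 F64593) (tt N10041 F64594) (tt N9794 F64595) (tt N11023 D16910) (tt N9793 (iv D16317)) (tt N10042 F64596) (tt N9799 F64597) (tt N9800 F64598) (tt N10918 (iv F66342)))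
theorem Q10432 : ∀ i, i < 10432 → P i := stepQ 10431 Q10431 (allL N10431 (tt N9798 F64599) (tt N10920 (iv F66351)) (tt N9795 (iv D16318)) (tt N10989 (iv F66629)) (tt N10842 (iv F66080)) (tt N10791 F65875) (tt N10058 F64600) (tt N10431 F64601) (tt N10101 F64602))
theorem Q10433 : ∀ i, i < 10433 → P i := stepQ 10432 Q10432 (allL N10432 (tt N10791 (iv F65869)) (tt N10083 F64603) (tt N9797 (iv D16319)) (tt N10999 (iv F66667)) (tt N10790 (iv F65864)) (tt N9798 F64604) (tt N10750 (iv F65688)) (tt N10432 F64605) (tt N10099 F64606))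
theorem Q10434 : ∀ i, i < 10434 → P i := stepQ 10433 Q10433 (allL N10433 (tt N10897 (iv F66268)) (tt N10824 F66021) (tt N10837 (iv F66060)) (tt N9799 (iv D16320)) (tt N11003 (iv F66676)) (tt N10900 (iv F66276)) (tt N11023 (iv F66746)) (tt N11024 D16911) (tt N10882 (iv F66243)))
theorem Q10435 : ∀ i, i < 10435 → P i := stepQ 10434 Q10434 (allL N10434 (tt N10063 F64607) (tt N10051 F64608) (tt N10434 F64609) (tt N9800 (iv D16321)) (tt N10314 F64610) (tt N10052 F64611) (tt N9801 F64612) (tt N11025 D16912) (tt N10434 F64613))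
theorem Q10436 : ∀ i, i < 10436 → P i := stepQ 10435 Q10435 (allL N10435 (tt N10911 F66316) (tt N10934 (iv F66419)) (tt N10435 F64614) (tt N11024 (iv F66747)) (tt N10660 (iv F65379)) (tt N10914 (iv F66326)) (tt N11025 (iv F66753)) (tt N9801 (iv D16322)) (tt N11026 D16913))
theorem Q10437 : ∀ i, i < 10437 → P i := stepQ 10436 Q10436 (allL N10436 (tt N10935 (iv F66423)) (tt N9804 F64615) (tt N10795 (iv F65893)) (tt N9802 (iv D16323)) (tt N11027 D16914) (tt N9829 F64616) (tt N10794 (iv F65889)) (tt N9806 F64617) (tt N10211 F64618))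
theorem Q10438 : ∀ i, i < 10438 → P i := stepQ 10437 Q10437 (allL N10437 (tt N10257 F64619) (tt N10546 F64976) (tt N11028 D16915) (tt N9803 (iv D16324)) (tt N11029 D16916) (tt N10550 (iv F64982)) (tt N10180 F64620) (tt N10164 F64621) (tt N10216 F64622))
theorem Q10439 : ∀ i, i < 10439 → P i := stepQ 10438 Q10438 (allL N10438 (tt N10922 (iv F66363)) (tt N11027 (iv F66756)) (tt N9848 F64623) (tt N11029 (iv F66765)) (tt N9804 (iv D16325)) (tt N11030 D16917) (tt N10931 (iv F66407)) (tt N9807 F64624) (tt N10217 F64625))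
theorem Q10440 : ∀ i, i < 10440 → P i := stepQ 10439 Q10439 (allL N10439 (tt N10301 F64626) (tt N10587 (iv F65120)) (tt N9805 (iv D16326)) (tt N11028 (iv F66760)) (tt N9851 F64627) (tt N10590 (iv F65133)) (tt N10191 F64628) (tt N9995 F64629) (tt N10220 F64630))
theorem Q10441 : ∀ i, i < 10441 → P i := stepQ 10440 Q10440 (allL N10440 (tt N10954 (iv F66493)) (tt N9807 F64631) (tt N10813 (iv F65968)) (tt N10925 (iv F66381)) (tt N9806 (iv D16327)) (tt N11031 D16918) (tt N10812 (iv F65964)) (tt N11027 (iv F66757)) (tt N9814 F64632))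
theorem Q10442 : ∀ i, i < 10442 → P i := stepQ 10441 Q10441 (allL N10441 (tt N10923 (iv F66369)) (tt N11031 (iv F66773)) (tt N9875 F64633) (tt N10926 (iv F66387)) (tt N10082 F64634) (tt N9807 (iv D16328)) (tt N11032 D16919) (tt N11030 (iv F66771)) (tt N9822 F64635))
theorem Q10443 : ∀ i, i < 10443 → P i := stepQ 10442 Q10442 (allL N10442 (tt N10926 (iv F66385)) (tt N10846 (iv F66099)) (tt N9885 F64636) (tt N10923 (iv F66371)) (tt N10851 (iv F66125)) (tt N9808 (iv D16329)) (tt N11033 D16920) (tt N10262 F64637) (tt N10932 (iv F66413)))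
theorem Q10444 : ∀ i, i < 10444 → P i := stepQ 10443 Q10443 (allL N10443 (tt N10444 (iv F64642)) (tt N9817 F64638) (tt N10443 F64639) (tt N11034 D16921) (tt N10866 (iv F66186)) (tt N9811 F64640) (tt N10723 (iv F65556)) (tt N9809 (iv D16330)) (tt N10377 F64641))
theorem Q10445 : ∀ i, i < 10445 → P i := stepQ 10444 Q10444 (allL N10444 (tt N10443 F64642) (tt N9818 F64643) (tt N10444 F64644) (tt N11035 D16922) (tt N10276 F64645) (tt N10377 F64646) (tt N10133 F64647) (tt N9810 (iv D16331)) (tt N9811 F64648))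
theorem Q10446 : ∀ i, i < 10446 → P i := stepQ 10445 Q10445 (allL N10445 (tt N10972 (iv F66566)) (tt N9819 F64649) (tt N11036 D16923) (tt N9811 (iv D16332)) (tt N11037 D16924) (tt N11034 (iv F66783)) (tt N10843 (iv F66087)) (tt N9813 F64650) (tt N11035 (iv F66791)))
theorem Q10447 : ∀ i, i < 10447 → P i := stepQ 10446 Q10446 (allL N10446 (tt N10733 (iv F65604)) (tt N9820 F64651) (tt N11038 D16925) (tt N9812 (iv D16333)) (tt N11039 D16926) (tt N9813 F64652) (tt N10738 (iv F65635)) (tt N11034 (iv F66784)) (tt N10756 (iv F65724)))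
theorem Q10448 : ∀ i, i < 10448 → P i := stepQ 10447 Q10447 (allL N10447 (tt N10973 (iv F66568)) (tt N10955 (iv F66497)) (tt N9813 (iv D16334)) (tt N9826 F64653) (tt N11040 D16927) (tt N11038 (iv F66798)) (tt N10844 (iv F66093)) (tt N11036 (iv F66793)) (tt N10924 (iv F66379)))
theorem Q10449 : ∀ i, i < 10449 → P i := stepQ 10448 Q10448 (allL N10448 (tt N10974 (iv F66571)) (tt N9821 F64654) (tt N11040 (iv F66801)) (tt N9814 F64655) (tt N9813 (iv D16335)) (tt N11041 D16928) (tt N10845 (iv F66097)) (tt N11037 (iv F66796)) (tt N10925 (iv F66384)))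
theorem Q10450 : ∀ i, i < 10450 → P i := stepQ 10449 Q10449 (allL N10449 (tt N10975 (iv F66573)) (tt N9822 F64656) (tt N10851 (iv F66124)) (tt N11041 (iv F66803)) (tt N9885 F64657) (tt N9814 (iv D16336)) (tt N11042 D16929) (tt N10282 F64658) (tt N11031 (iv F66775)))
theorem Q10451 : ∀ i, i < 10451 → P i := stepQ 10450 Q10450 (allL N10450 (tt N10564 (iv F65023)) (tt N10866 (iv F66184)) (tt N9823 F64659) (tt N11043 D16930) (tt N9817 F64660) (tt N10283 F64661) (tt N10797 (iv F65906)) (tt N9815 (iv D16337)) (tt N10762 (iv F65749)))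
theorem Q10452 : ∀ i, i < 10452 → P i := stepQ 10451 Q10451 (allL N10451 (tt N10204 F64662) (tt N10377 F64663) (tt N9824 F64664) (tt N11044 D16931) (tt N10762 (iv F65746)) (tt N9818 F64665) (tt N10345 F64666) (tt N9816 (iv D16338)) (tt N9817 F64667))
theorem Q10453 : ∀ i, i < 10453 → P i := stepQ 10452 Q10452 (allL N10452 (tt N10795 (iv F65891)) (tt N11034 (iv F66782)) (tt N10935 (iv F66424)) (tt N9817 (iv D16339)) (tt N11045 D16932) (tt N9819 F64668) (tt N10798 (iv F65910)) (tt N9820 F64669) (tt N11044 (iv F66816)))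
theorem Q10454 : ∀ i, i < 10454 → P i := stepQ 10453 Q10453 (allL N10453 (tt N10206 F64670) (tt N11035 (iv F66787)) (tt N10465 (iv F64710)) (tt N9818 (iv D16340)) (tt N11046 D16933) (tt N11044 (iv F66813)) (tt N10137 F64671) (tt N10144 F64672) (tt N9819 F64673))
theorem Q10455 : ∀ i, i < 10455 → P i := stepQ 10454 Q10454 (allL N10454 (tt N10931 (iv F66404)) (tt N11037 (iv F66794)) (tt N10938 (iv F66437)) (tt N10289 F64674) (tt N9819 (iv D16341)) (tt N11047 D16934) (tt N10922 (iv F66366)) (tt N9821 F64675) (tt N11046 (iv F66822)))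
theorem Q10456 : ∀ i, i < 10456 → P i := stepQ 10455 Q10455 (allL N10455 (tt N10813 (iv F65966)) (tt N11039 (iv F66799)) (tt N10954 (iv F66494)) (tt N10093 F64676) (tt N9820 (iv D16342)) (tt N11048 D16935) (tt N10819 (iv F65995)) (tt N11045 (iv F66817)) (tt N10847 (iv F66107)))
theorem Q10457 : ∀ i, i < 10457 → P i := stepQ 10456 Q10456 (allL N10456 (tt N10932 (iv F66410)) (tt N11041 (iv F66802)) (tt N10957 (iv F66507)) (tt N9822 F64677) (tt N11048 (iv F66826)) (tt N9821 (iv D16343)) (tt N11049 D16936) (tt N11047 (iv F66824)) (tt N10926 (iv F66389)))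
theorem Q10458 : ∀ i, i < 10458 → P i := stepQ 10457 Q10457 (allL N10457 (tt N10933 (iv F66414)) (tt N11042 (iv F66804)) (tt N9918 F64678) (tt N11049 (iv F66827)) (tt N10097 F64679) (tt N11033 (iv F66780)) (tt N9822 (iv D16344)) (tt N10296 F64680) (tt N11032 (iv F66778)))
theorem Q10459 : ∀ i, i < 10459 → P i := stepQ 10458 Q10458 (allL N10458 (tt N10789 (iv F65855)) (tt N10755 (iv F65713)) (tt N9825 (iv D16345)) (tt N11038 (iv F66797)) (tt N10750 (iv F65686)) (tt N9826 F64681) (tt N10790 (iv F65866)) (tt N10458 F64682) (tt N10716 F65521))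
theorem Q10460 : ∀ i, i < 10460 → P i := stepQ 10459 Q10459 (allL N10459 (tt N9837 F64683) (tt N10065 F64684) (tt N9947 F64685) (tt N10467 (iv F64722)) (tt N9852 F64686) (tt N9832 F64687) (tt N9843 F64688) (tt N11021 (iv F66736)) (tt N9827 (iv D16346)))
theorem Q10461 : ∀ i, i < 10461 → P i := stepQ 10460 Q10460 (allL N10460 (tt N10937 (iv F66432)) (tt N10069 F64689) (tt N11050 D16937) (tt N9828 (iv D16347)) (tt N11051 D16938) (tt N10565 (iv F65029)) (tt N9847 F64690) (tt N11022 (iv F66742)) (tt N10470 (iv F64737)))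
theorem Q10462 : ∀ i, i < 10462 → P i := stepQ 10461 Q10461 (allL N10461 (tt N10938 (iv F66436)) (tt N10070 F64691) (tt N10931 (iv F66405)) (tt N11051 (iv F66833)) (tt N9829 (iv D16348)) (tt N11052 D16939) (tt N9848 F64692) (tt N9853 F64693) (tt N10471 (iv F64741)))
theorem Q10463 : ∀ i, i < 10463 → P i := stepQ 10462 Q10462 (allL N10462 (tt N10313 F64694) (tt N11053 D16940) (tt N9830 (iv D16349)) (tt N11050 (iv F66829)) (tt N10191 F64695) (tt N10110 F64696) (tt N9851 F64697) (tt N9996 F64698) (tt N10572 (iv F65057)))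
theorem Q10464 : ∀ i, i < 10464 → P i := stepQ 10463 Q10463 (allL N10463 (tt N9836 F64699) (tt N10473 (iv F64749)) (tt N10463 F64700) (tt N9832 F64701) (tt N9855 F64702) (tt N10467 (iv F64724)) (tt N10015 F64703) (tt N11054 D16941) (tt N9831 (iv D16350)))
theorem Q10465 : ∀ i, i < 10465 → P i := stepQ 10464 Q10464 (allL N10464 (tt N9838 F64704) (tt N10939 (iv F66441)) (tt N9948 F64705) (tt N11055 D16942) (tt N9833 F64706) (tt N11021 (iv F66734)) (tt N10017 F64707) (tt N9832 (iv D16351)) (tt N10347 F64708))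
theorem Q10466 : ∀ i, i < 10466 → P i := stepQ 10465 Q10465 (allL N10465 (tt N9839 F64709) (tt N10940 (iv F66448)) (tt N10453 F64710) (tt N9833 (iv D16352)) (tt N11056 D16943) (tt N10798 (iv F65909)) (tt N10018 F64711) (tt N9857 F64712) (tt N10348 F64713))
theorem Q10467 : ∀ i, i < 10467 → P i := stepQ 10466 Q10466 (allL N10466 (tt N10467 (iv F64719)) (tt N9842 F64714) (tt N10466 F64715) (tt N9837 F64716) (tt N10487 (iv F64786)) (tt N9836 F64717) (tt N10351 F64718) (tt N11057 D16944) (tt N9834 (iv D16353)))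
theorem Q10468 : ∀ i, i < 10468 → P i := stepQ 10467 Q10467 (allL N10467 (tt N10466 F64719) (tt N9843 F64720) (tt N10467 F64721) (tt N10459 F64722) (tt N9861 F64723) (tt N10463 F64724) (tt N10065 F64725) (tt N11058 D16945) (tt N9835 (iv D16354)))
theorem Q10469 : ∀ i, i < 10469 → P i := stepQ 10468 Q10468 (allL N10468 (tt N11054 (iv F66842)) (tt N9844 F64726) (tt N10468 F64727) (tt N11059 D16946) (tt N9862 F64728) (tt N11057 (iv F66856)) (tt N10066 F64729) (tt N9836 (iv D16355)) (tt N11058 (iv F66865)))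
theorem Q10470 : ∀ i, i < 10470 → P i := stepQ 10469 Q10469 (allL N10469 (tt N11021 (iv F66731)) (tt N9846 F64730) (tt N9931 F64731) (tt N11060 D16947) (tt N9930 F64732) (tt N9838 F64733) (tt N10945 (iv F66468)) (tt N9837 (iv D16356)) (tt N9933 F64734))
theorem Q10471 : ∀ i, i < 10471 → P i := stepQ 10470 Q10470 (allL N10470 (tt N11055 (iv F66846)) (tt N9847 F64735) (tt N11061 D16948) (tt N9838 (iv D16357)) (tt N11062 D16949) (tt N11060 (iv F66870)) (tt N10069 F64736) (tt N11059 (iv F66868)) (tt N10460 F64737))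
theorem Q10472 : ∀ i, i < 10472 → P i := stepQ 10471 Q10471 (allL N10471 (tt N11056 (iv F66849)) (tt N9848 F64738) (tt N10796 (iv F65898)) (tt N11062 (iv F66876)) (tt N9839 (iv D16358)) (tt N11063 D16950) (tt N10070 F64739) (tt N9865 F64740) (tt N10461 F64741))
theorem Q10473 : ∀ i, i < 10473 → P i := stepQ 10472 Q10472 (allL N10472 (tt N10214 F64742) (tt N10487 (iv F64783)) (tt N9997 F64743) (tt N10391 F64744) (tt N9842 F64745) (tt N9866 F64746) (tt N10135 F64747) (tt N11064 D16951) (tt N9840 (iv D16359)))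
theorem Q10474 : ∀ i, i < 10474 → P i := stepQ 10473 Q10473 (allL N10473 (tt N10067 F64748) (tt N10463 F64749) (tt N9998 F64750) (tt N10349 F64751) (tt N10255 F64752) (tt N9843 F64753) (tt N10016 F64754) (tt N11065 D16952) (tt N9841 (iv D16360)))
theorem Q10475 : ∀ i, i < 10475 → P i := stepQ 10474 Q10474 (allL N10474 (tt N10477 (iv F64762)) (tt N11057 (iv F66854)) (tt N9999 F64755) (tt N11066 D16953) (tt N11064 (iv F66884)) (tt N9844 F64756) (tt N10356 F64757) (tt N9842 (iv D16361)) (tt N11065 (iv F66894)))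
theorem Q10476 : ∀ i, i < 10476 → P i := stepQ 10475 Q10475 (allL N10475 (tt N10945 (iv F66463)) (tt N11058 (iv F66860)) (tt N10000 F64758) (tt N11067 D16954) (tt N9870 F64759) (tt N11065 (iv F66892)) (tt N11021 (iv F66735)) (tt N9843 (iv D16362)) (tt N9844 F64760))
theorem Q10477 : ∀ i, i < 10477 → P i := stepQ 10476 Q10476 (allL N10476 (tt N10946 (iv F66470)) (tt N11059 (iv F66866)) (tt N11068 D16955) (tt N9844 (iv D16363)) (tt N11069 D16956) (tt N11066 (iv F66895)) (tt N11022 (iv F66741)) (tt N9847 F64761) (tt N11067 (iv F66898)))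
theorem Q10478 : ∀ i, i < 10478 → P i := stepQ 10477 Q10477 (allL N10477 (tt N10474 F64762) (tt N10945 (iv F66464)) (tt N9849 F64763) (tt N11070 D16957) (tt N10804 (iv F65934)) (tt N10355 F64764) (tt N9846 F64765) (tt N9845 (iv D16364)) (tt N10664 (iv F65394)))
theorem Q10479 : ∀ i, i < 10479 → P i := stepQ 10478 Q10478 (allL N10478 (tt N10947 (iv F66473)) (tt N11060 (iv F66869)) (tt N11071 D16958) (tt N9846 (iv D16365)) (tt N11072 D16959) (tt N9847 F64766) (tt N11070 (iv F66905)) (tt N11066 (iv F66897)) (tt N10665 (iv F65397)))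
theorem Q10480 : ∀ i, i < 10480 → P i := stepQ 10479 Q10479 (allL N10479 (tt N10948 (iv F66475)) (tt N11073 D16960) (tt N9847 (iv D16366)) (tt N9851 F64767) (tt N11074 D16961) (tt N11071 (iv F66908)) (tt N11050 (iv F66831)) (tt N11068 (iv F66900)) (tt N10666 (iv F65399)))
theorem Q10481 : ∀ i, i < 10481 → P i := stepQ 10480 Q10480 (allL N10480 (tt N10949 (iv F66478)) (tt N11062 (iv F66875)) (tt N11074 (iv F66910)) (tt N9848 F64768) (tt N9847 (iv D16367)) (tt N11075 D16962) (tt N11051 (iv F66834)) (tt N11069 (iv F66902)) (tt N10667 (iv F65401)))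
theorem Q10482 : ∀ i, i < 10482 → P i := stepQ 10481 Q10481 (allL N10481 (tt N10950 (iv F66480)) (tt N11063 (iv F66879)) (tt N11030 (iv F66769)) (tt N11075 (iv F66911)) (tt N10808 (iv F65943)) (tt N9848 (iv D16368)) (tt N11076 D16963) (tt N9875 F64769) (tt N10668 (iv F65403)))
theorem Q10483 : ∀ i, i < 10483 → P i := stepQ 10482 Q10482 (allL N10482 (tt N10601 (iv F65181)) (tt N9953 F64770) (tt N11077 D16964) (tt N9849 (iv D16369)) (tt N10574 (iv F65062)) (tt N9972 F64771) (tt N9850 F64772) (tt N9977 F64773) (tt N10669 (iv F65408)))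
theorem Q10484 : ∀ i, i < 10484 → P i := stepQ 10483 Q10483 (allL N10483 (tt N10951 (iv F66482)) (tt N11078 D16965) (tt N9850 (iv D16370)) (tt N11071 (iv F66907)) (tt N11079 D16966) (tt N9851 F64774) (tt N11077 (iv F66914)) (tt N10004 F64775) (tt N10670 (iv F65411)))
theorem Q10485 : ∀ i, i < 10485 → P i := stepQ 10484 Q10484 (allL N10484 (tt N10952 (iv F66485)) (tt N9955 F64776) (tt N11079 (iv F66921)) (tt N10810 (iv F65951)) (tt N9850 (iv D16371)) (tt N10594 (iv F65147)) (tt N10574 (iv F65064)) (tt N10005 F64777) (tt N10671 (iv F65415)))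
theorem Q10486 : ∀ i, i < 10486 → P i := stepQ 10485 Q10485 (allL N10485 (tt N11080 D16967) (tt N9851 (iv D16372)) (tt N9956 F64778) (tt N11073 (iv F66909)) (tt N10587 (iv F65121)) (tt N11078 (iv F66917)) (tt N11053 (iv F66840)) (tt N10006 F64779) (tt N10672 (iv F65418)))
theorem Q10487 : ∀ i, i < 10487 → P i := stepQ 10486 Q10486 (allL N10486 (tt N10957 (iv F66506)) (tt N10082 F64780) (tt N10932 (iv F66411)) (tt N11018 (iv F66721)) (tt N11031 (iv F66774)) (tt N9853 (iv D16373)) (tt N11081 D16968) (tt N11052 (iv F66836)) (tt N9885 F64781))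
theorem Q10488 : ∀ i, i < 10488 → P i := stepQ 10487 Q10487 (allL N10487 (tt N9861 F64782) (tt N10472 F64783) (tt N10487 F64784) (tt N9889 F64785) (tt N10466 F64786) (tt N10491 (iv F64800)) (tt N10022 F64787) (tt N11082 D16969) (tt N9854 (iv D16374)))
theorem Q10489 : ∀ i, i < 10489 → P i := stepQ 10488 Q10488 (allL N10488 (tt N9862 F64788) (tt N10852 (iv F66128)) (tt N10488 F64789) (tt N11083 D16970) (tt N11054 (iv F66844)) (tt N10873 (iv F66215)) (tt N10023 F64790) (tt N9855 (iv D16375)) (tt N11082 (iv F66934)))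
theorem Q10490 : ∀ i, i < 10490 → P i := stepQ 10489 Q10489 (allL N10489 (tt N9864 F64791) (tt N10856 (iv F66142)) (tt N11084 D16971) (tt N9856 (iv D16376)) (tt N11085 D16972) (tt N10879 (iv F66234)) (tt N10024 F64792) (tt N11083 (iv F66937)) (tt N9892 F64793))
theorem Q10491 : ∀ i, i < 10491 → P i := stepQ 10490 Q10490 (allL N10490 (tt N9865 F64794) (tt N10959 (iv F66515)) (tt N10736 (iv F65622)) (tt N11085 (iv F66943)) (tt N9857 (iv D16377)) (tt N11086 D16973) (tt N10025 F64795) (tt N11056 (iv F66852)) (tt N9893 F64796))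
theorem Q10492 : ∀ i, i < 10492 → P i := stepQ 10491 Q10491 (allL N10491 (tt N10492 (iv F64802)) (tt N9866 F64797) (tt N10491 F64798) (tt N10521 (iv F64898)) (tt N9860 F64799) (tt N10487 F64800) (tt N10274 F64801) (tt N11087 D16974) (tt N9858 (iv D16378)))
theorem Q10493 : ∀ i, i < 10493 → P i := stepQ 10492 Q10492 (allL N10492 (tt N10491 F64802) (tt N9868 F64803) (tt N10492 F64804) (tt N9896 F64805) (tt N10273 F64806) (tt N9861 F64807) (tt N10272 F64808) (tt N11088 D16975) (tt N9859 (iv D16379)))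
theorem Q10494 : ∀ i, i < 10494 → P i := stepQ 10493 Q10493 (allL N10493 (tt N10873 (iv F66212)) (tt N9869 F64809) (tt N10493 F64810) (tt N11089 D16976) (tt N11087 (iv F66950)) (tt N9862 F64811) (tt N10865 (iv F66182)) (tt N9860 (iv D16380)) (tt N11088 (iv F66960)))
theorem Q10495 : ∀ i, i < 10495 → P i := stepQ 10494 Q10494 (allL N10494 (tt N11082 (iv F66929)) (tt N9870 F64812) (tt N10494 F64813) (tt N11090 D16977) (tt N11058 (iv F66862)) (tt N11088 (iv F66958)) (tt N10077 F64814) (tt N9861 (iv D16381)) (tt N9862 F64815))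
theorem Q10496 : ∀ i, i < 10496 → P i := stepQ 10495 Q10495 (allL N10495 (tt N11083 (iv F66935)) (tt N9871 F64816) (tt N11091 D16978) (tt N9862 (iv D16382)) (tt N11092 D16979) (tt N11089 (iv F66962)) (tt N10078 F64817) (tt N9864 F64818) (tt N11090 (iv F66967)))
theorem Q10497 : ∀ i, i < 10497 → P i := stepQ 10496 Q10496 (allL N10496 (tt N10879 (iv F66232)) (tt N9873 F64819) (tt N11093 D16980) (tt N9863 (iv D16383)) (tt N11094 D16981) (tt N9864 F64820) (tt N10868 (iv F66195)) (tt N11089 (iv F66963)) (tt N9901 F64821))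
theorem Q10498 : ∀ i, i < 10498 → P i := stepQ 10497 Q10497 (allL N10497 (tt N11084 (iv F66938)) (tt N10977 (iv F66581)) (tt N9864 (iv D16384)) (tt N9937 F64822) (tt N11095 D16982) (tt N11093 (iv F66975)) (tt N10080 F64823) (tt N11091 (iv F66970)) (tt N9902 F64824))
theorem Q10499 : ∀ i, i < 10499 → P i := stepQ 10498 Q10498 (allL N10498 (tt N11085 (iv F66942)) (tt N9874 F64825) (tt N11095 (iv F66979)) (tt N9865 F64826) (tt N9864 (iv D16385)) (tt N11096 D16983) (tt N10081 F64827) (tt N11092 (iv F66973)) (tt N9903 F64828))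
theorem Q10500 : ∀ i, i < 10500 → P i := stepQ 10499 Q10499 (allL N10499 (tt N11086 (iv F66946)) (tt N9875 F64829) (tt N10817 (iv F65984)) (tt N11096 (iv F66983)) (tt N10826 (iv F66028)) (tt N9865 (iv D16386)) (tt N11097 D16984) (tt N11063 (iv F66880)) (tt N9904 F64830))
theorem Q10501 : ∀ i, i < 10501 → P i := stepQ 10500 Q10500 (allL N10500 (tt N10964 (iv F66531)) (tt N11087 (iv F66948)) (tt N10007 F64831) (tt N11098 D16985) (tt N9869 F64832) (tt N11064 (iv F66885)) (tt N10285 F64833) (tt N9866 (iv D16387)) (tt N10284 F64834))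
theorem Q10502 : ∀ i, i < 10502 → P i := stepQ 10501 Q10501 (allL N10501 (tt N10766 (iv F65762)) (tt N10865 (iv F66179)) (tt N10008 F64835) (tt N11099 D16986) (tt N10285 F64836) (tt N10762 (iv F65747)) (tt N9869 F64837) (tt N9867 (iv D16388)) (tt N10283 F64838))
theorem Q10503 : ∀ i, i < 10503 → P i := stepQ 10502 Q10502 (allL N10502 (tt N10965 (iv F66537)) (tt N11088 (iv F66955)) (tt N10009 F64839) (tt N11100 D16987) (tt N10284 F64840) (tt N9870 F64841) (tt N10283 F64842) (tt N9868 (iv D16389)) (tt N9869 F64843))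
theorem Q10504 : ∀ i, i < 10504 → P i := stepQ 10503 Q10503 (allL N10503 (tt N10966 (iv F66544)) (tt N11089 (iv F66961)) (tt N10981 (iv F66596)) (tt N9869 (iv D16390)) (tt N11101 D16988) (tt N9871 F64844) (tt N11099 (iv F66990)) (tt N9873 F64845) (tt N11100 (iv F66996)))
theorem Q10505 : ∀ i, i < 10505 → P i := stepQ 10504 Q10504 (allL N10504 (tt N10967 (iv F66548)) (tt N11090 (iv F66964)) (tt N10982 (iv F66600)) (tt N9870 (iv D16391)) (tt N11102 D16989) (tt N11100 (iv F66993)) (tt N11011 (iv F66697)) (tt N9909 F64846) (tt N9871 F64847))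
theorem Q10506 : ∀ i, i < 10506 → P i := stepQ 10505 Q10505 (allL N10505 (tt N10968 (iv F66553)) (tt N11092 (iv F66971)) (tt N10983 (iv F66605)) (tt N11069 (iv F66901)) (tt N9871 (iv D16392)) (tt N11103 D16990) (tt N11013 (iv F66706)) (tt N9874 F64848) (tt N11102 (iv F66999)))
theorem Q10507 : ∀ i, i < 10507 → P i := stepQ 10506 Q10506 (allL N10506 (tt N10768 (iv F65772)) (tt N10868 (iv F66193)) (tt N10740 (iv F65646)) (tt N9872 (iv D16393)) (tt N11104 D16991) (tt N10763 (iv F65753)) (tt N9873 F64849) (tt N11099 (iv F66991)) (tt N9912 F64850))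
theorem Q10508 : ∀ i, i < 10508 → P i := stepQ 10507 Q10507 (allL N10507 (tt N10969 (iv F66557)) (tt N11094 (iv F66977)) (tt N10984 (iv F66609)) (tt N10836 (iv F66058)) (tt N9873 (iv D16394)) (tt N11105 D16992) (tt N11104 (iv F67001)) (tt N11101 (iv F66997)) (tt N9914 F64851))
theorem Q10509 : ∀ i, i < 10509 → P i := stepQ 10508 Q10508 (allL N10508 (tt N10970 (iv F66560)) (tt N11096 (iv F66982)) (tt N10985 (iv F66612)) (tt N9875 F64852) (tt N11105 (iv F67003)) (tt N9874 (iv D16395)) (tt N11106 D16993) (tt N11103 (iv F67000)) (tt N9917 F64853))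
theorem Q10510 : ∀ i, i < 10510 → P i := stepQ 10509 Q10509 (allL N10509 (tt N10971 (iv F66564)) (tt N11097 (iv F66985)) (tt N11032 (iv F66776)) (tt N11106 (iv F67005)) (tt N10840 (iv F66069)) (tt N11081 (iv F66927)) (tt N9875 (iv D16396)) (tt N11076 (iv F66912)) (tt N9918 F64854))
theorem Q10511 : ∀ i, i < 10511 → P i := stepQ 10510 Q10510 (allL N10510 (tt N10821 (iv F66002)) (tt N10084 F64855) (tt N9919 F64856) (tt N11107 D16994) (tt N9879 F64857) (tt N10529 (iv F64926)) (tt N10086 F64858) (tt N9876 (iv D16397)) (tt N10085 F64859))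
theorem Q10512 : ∀ i, i < 10512 → P i := stepQ 10511 Q10511 (allL N10511 (tt N10739 (iv F65637)) (tt N10085 F64860) (tt N9920 F64861) (tt N11108 D16995) (tt N10086 F64862) (tt N9906 F64863) (tt N9879 F64864) (tt N9877 (iv D16398)) (tt N10084 F64865))
theorem Q10513 : ∀ i, i < 10513 → P i := stepQ 10512 Q10512 (allL N10512 (tt N10799 (iv F65912)) (tt N10086 F64866) (tt N9921 F64867) (tt N11109 D16996) (tt N10085 F64868) (tt N9880 F64869) (tt N10084 F64870) (tt N9878 (iv D16399)) (tt N9879 F64871))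
theorem Q10514 : ∀ i, i < 10514 → P i := stepQ 10513 Q10513 (allL N10513 (tt N10981 (iv F66595)) (tt N10087 F64872) (tt N10966 (iv F66545)) (tt N9879 (iv D16400)) (tt N11110 D16997) (tt N9881 F64873) (tt N11108 (iv F67012)) (tt N9883 F64874) (tt N11109 (iv F67018)))
theorem Q10515 : ∀ i, i < 10515 → P i := stepQ 10514 Q10514 (allL N10514 (tt N10982 (iv F66599)) (tt N10088 F64875) (tt N10967 (iv F66549)) (tt N9880 (iv D16401)) (tt N11111 D16998) (tt N11109 (iv F67016)) (tt N9909 F64876) (tt N11011 (iv F66698)) (tt N9881 F64877))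
theorem Q10516 : ∀ i, i < 10516 → P i := stepQ 10515 Q10515 (allL N10515 (tt N10983 (iv F66604)) (tt N10090 F64878) (tt N10968 (iv F66554)) (tt N10535 (iv F64948)) (tt N9881 (iv D16402)) (tt N11112 D16999) (tt N9911 F64879) (tt N9884 F64880) (tt N11111 (iv F67023)))
theorem Q10517 : ∀ i, i < 10517 → P i := stepQ 10516 Q10516 (allL N10516 (tt N10740 (iv F65644)) (tt N10091 F64881) (tt N10768 (iv F65774)) (tt N9882 (iv D16403)) (tt N11113 D17000) (tt N9912 F64882) (tt N9883 F64883) (tt N11108 (iv F67013)) (tt N10763 (iv F65755)))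
theorem Q10518 : ∀ i, i < 10518 → P i := stepQ 10517 Q10517 (allL N10517 (tt N10984 (iv F66608)) (tt N10093 F64884) (tt N10969 (iv F66558)) (tt N11039 (iv F66800)) (tt N9883 (iv D16404)) (tt N11114 D17001) (tt N11113 (iv F67027)) (tt N11110 (iv F67020)) (tt N11016 (iv F66715)))
theorem Q10519 : ∀ i, i < 10519 → P i := stepQ 10518 Q10518 (allL N10518 (tt N10985 (iv F66611)) (tt N10096 F64885) (tt N10970 (iv F66561)) (tt N9885 F64886) (tt N11114 (iv F67029)) (tt N9884 (iv D16405)) (tt N11115 D17002) (tt N11112 (iv F67025)) (tt N11018 (iv F66722)))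
theorem Q10520 : ∀ i, i < 10520 → P i := stepQ 10519 Q10519 (allL N10519 (tt N10986 (iv F66615)) (tt N10097 F64887) (tt N11033 (iv F66779)) (tt N11115 (iv F67031)) (tt N11042 (iv F66805)) (tt N9918 F64888) (tt N9885 (iv D16406)) (tt N10542 (iv F64966)) (tt N11081 (iv F66928)))
theorem Q10521 : ∀ i, i < 10521 → P i := stepQ 10520 Q10520 (allL N10520 (tt N9894 F64889) (tt N10236 F64890) (tt N9957 F64891) (tt N10274 F64892) (tt N9888 F64893) (tt N10229 F64894) (tt N10521 (iv F64901)) (tt N11116 D17003) (tt N9886 (iv D16407)))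
theorem Q10522 : ∀ i, i < 10522 → P i := stepQ 10521 Q10521 (allL N10521 (tt N9896 F64895) (tt N10234 F64896) (tt N9959 F64897) (tt N10491 F64898) (tt N10228 F64899) (tt N9889 F64900) (tt N10520 F64901) (tt N11117 D17004) (tt N9887 (iv D16408)))
theorem Q10523 : ∀ i, i < 10523 → P i := stepQ 10522 Q10522 (allL N10522 (tt N9897 F64902) (tt N10828 (iv F66033)) (tt N9960 F64903) (tt N11118 D17005) (tt N11116 (iv F67036)) (tt N9890 F64904) (tt N10820 (iv F66001)) (tt N9888 (iv D16409)) (tt N11117 (iv F67045)))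
theorem Q10524 : ∀ i, i < 10524 → P i := stepQ 10523 Q10523 (allL N10523 (tt N9898 F64905) (tt N10987 (iv F66618)) (tt N9961 F64906) (tt N11119 D17006) (tt N10386 F64907) (tt N11117 (iv F67043)) (tt N10035 F64908) (tt N9889 (iv D16410)) (tt N9890 F64909))
theorem Q10525 : ∀ i, i < 10525 → P i := stepQ 10524 Q10524 (allL N10524 (tt N9899 F64910) (tt N10988 (iv F66625)) (tt N11120 D17007) (tt N9890 (iv D16411)) (tt N11121 D17008) (tt N11118 (iv F67047)) (tt N10036 F64911) (tt N9892 F64912) (tt N11119 (iv F67051)))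
theorem Q10526 : ∀ i, i < 10526 → P i := stepQ 10525 Q10525 (allL N10525 (tt N9901 F64913) (tt N10834 (iv F66051)) (tt N11122 D17009) (tt N9891 (iv D16412)) (tt N11123 D17010) (tt N9892 F64914) (tt N10823 (iv F66015)) (tt N11118 (iv F67048)) (tt N10879 (iv F66236)))
theorem Q10527 : ∀ i, i < 10527 → P i := stepQ 10526 Q10526 (allL N10526 (tt N9902 F64915) (tt N11124 D17011) (tt N9892 (iv D16413)) (tt N9940 F64916) (tt N11125 D17012) (tt N11122 (iv F67062)) (tt N10038 F64917) (tt N11120 (iv F67055)) (tt N11084 (iv F66941)))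
theorem Q10528 : ∀ i, i < 10528 → P i := stepQ 10527 Q10527 (allL N10527 (tt N9903 F64918) (tt N10990 (iv F66633)) (tt N11125 (iv F67067)) (tt N9893 F64919) (tt N9892 (iv D16414)) (tt N11126 D17013) (tt N10039 F64920) (tt N11121 (iv F67059)) (tt N11085 (iv F66945)))
theorem Q10529 : ∀ i, i < 10529 → P i := stepQ 10528 Q10528 (allL N10528 (tt N9904 F64921) (tt N10992 (iv F66641)) (tt N10761 (iv F65742)) (tt N11126 (iv F67070)) (tt N10871 (iv F66206)) (tt N9893 (iv D16415)) (tt N11127 D17014) (tt N10390 F64922) (tt N11086 (iv F66947)))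
theorem Q10530 : ∀ i, i < 10530 → P i := stepQ 10529 Q10529 (allL N10529 (tt N11116 (iv F67033)) (tt N9905 F64923) (tt N9966 F64924) (tt N11128 D17015) (tt N9897 F64925) (tt N10510 F64926) (tt N10531 (iv F64936)) (tt N9894 (iv D16416)) (tt N10530 (iv F64931)))
theorem Q10531 : ∀ i, i < 10531 → P i := stepQ 10530 Q10530 (allL N10530 (tt N10820 (iv F65997)) (tt N9906 F64927) (tt N9967 F64928) (tt N11129 D17016) (tt N10531 (iv F64934)) (tt N10085 F64929) (tt N9897 F64930) (tt N9895 (iv D16417)) (tt N10529 F64931))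
theorem Q10532 : ∀ i, i < 10532 → P i := stepQ 10531 Q10531 (allL N10531 (tt N11117 (iv F67039)) (tt N9907 F64932) (tt N9968 F64933) (tt N11130 D17017) (tt N10530 F64934) (tt N9898 F64935) (tt N10529 F64936) (tt N9896 (iv D16418)) (tt N9897 F64937))
theorem Q10533 : ∀ i, i < 10533 → P i := stepQ 10532 Q10532 (allL N10532 (tt N11118 (iv F67046)) (tt N9908 F64938) (tt N11131 D17018) (tt N9897 (iv D16419)) (tt N11132 D17019) (tt N9899 F64939) (tt N11129 (iv F67078)) (tt N9901 F64940) (tt N11130 (iv F67084)))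
theorem Q10534 : ∀ i, i < 10534 → P i := stepQ 10533 Q10533 (allL N10533 (tt N11119 (iv F67049)) (tt N9909 F64941) (tt N11133 D17020) (tt N9898 (iv D16420)) (tt N11134 D17021) (tt N11130 (iv F67082)) (tt N10088 F64942) (tt N11090 (iv F66966)) (tt N9899 F64943))
theorem Q10535 : ∀ i, i < 10535 → P i := stepQ 10534 Q10534 (allL N10534 (tt N11120 (iv F67052)) (tt N11135 D17022) (tt N9899 (iv D16421)) (tt N9971 F64944) (tt N11136 D17023) (tt N11131 (iv F67087)) (tt N10089 F64945) (tt N9902 F64946) (tt N11133 (iv F67093)))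
theorem Q10536 : ∀ i, i < 10536 → P i := stepQ 10535 Q10535 (allL N10535 (tt N11121 (iv F67056)) (tt N9911 F64947) (tt N11136 (iv F67103)) (tt N10515 F64948) (tt N9899 (iv D16422)) (tt N11137 D17024) (tt N10090 F64949) (tt N9903 F64950) (tt N11134 (iv F67097)))
theorem Q10537 : ∀ i, i < 10537 → P i := stepQ 10536 Q10536 (allL N10536 (tt N10823 (iv F66012)) (tt N9912 F64951) (tt N10781 (iv F65821)) (tt N9900 (iv D16423)) (tt N11138 D17025) (tt N10091 F64952) (tt N9901 F64953) (tt N11129 (iv F67079)) (tt N10868 (iv F66196)))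
theorem Q10538 : ∀ i, i < 10538 → P i := stepQ 10537 Q10537 (allL N10537 (tt N11122 (iv F67060)) (tt N10759 (iv F65733)) (tt N9901 (iv D16424)) (tt N9941 F64954) (tt N11139 D17026) (tt N9902 F64955) (tt N10781 (iv F65824)) (tt N11131 (iv F67088)) (tt N11093 (iv F66976)))
theorem Q10539 : ∀ i, i < 10539 → P i := stepQ 10538 Q10538 (allL N10538 (tt N11123 (iv F67063)) (tt N9914 F64956) (tt N11139 (iv F67111)) (tt N10881 (iv F66240)) (tt N9901 (iv D16425)) (tt N11140 D17027) (tt N11138 (iv F67110)) (tt N11132 (iv F67090)) (tt N11094 (iv F66978)))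
theorem Q10540 : ∀ i, i < 10540 → P i := stepQ 10539 Q10539 (allL N10539 (tt N10857 (iv F66147)) (tt N9902 (iv D16426)) (tt N9915 F64957) (tt N9943 F64958) (tt N11141 D17028) (tt N10759 (iv F65735)) (tt N10094 F64959) (tt N11135 (iv F67102)) (tt N10977 (iv F66584)))
theorem Q10541 : ∀ i, i < 10541 → P i := stepQ 10540 Q10540 (allL N10540 (tt N11125 (iv F67066)) (tt N11141 (iv F67114)) (tt N9903 F64960) (tt N10860 (iv F66159)) (tt N9902 (iv D16427)) (tt N11142 D17029) (tt N10095 F64961) (tt N11136 (iv F67105)) (tt N11095 (iv F66981)))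
theorem Q10542 : ∀ i, i < 10542 → P i := stepQ 10541 Q10541 (allL N10541 (tt N11126 (iv F67069)) (tt N9917 F64962) (tt N11142 (iv F67117)) (tt N9904 F64963) (tt N11140 (iv F67113)) (tt N9903 (iv D16428)) (tt N11143 D17030) (tt N11137 (iv F67108)) (tt N11096 (iv F66984)))
theorem Q10543 : ∀ i, i < 10543 → P i := stepQ 10542 Q10542 (allL N10542 (tt N11127 (iv F67071)) (tt N9918 F64964) (tt N10862 (iv F66162)) (tt N11143 (iv F67119)) (tt N10885 (iv F66248)) (tt N10097 F64965) (tt N9904 (iv D16429)) (tt N10519 F64966) (tt N11097 (iv F66987)))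
theorem Q10544 : ∀ i, i < 10544 → P i := stepQ 10543 Q10543 (allL N10543 (tt N11006 (iv F66679)) (tt N11128 (iv F67074)) (tt N11144 D17031) (tt N9905 (iv D16430)) (tt N11145 D17032) (tt N10684 (iv F65444)) (tt N10545 (iv F64971)) (tt N10886 (iv F66249)) (tt N10544 (iv F64969)))
theorem Q10545 : ∀ i, i < 10545 → P i := stepQ 10544 Q10544 (allL N10544 (tt N11007 (iv F66680)) (tt N11129 (iv F67076)) (tt N10767 (iv F65769)) (tt N9906 (iv D16431)) (tt N11146 D17033) (tt N11108 (iv F67011)) (tt N9908 F64967) (tt N9912 F64968) (tt N10543 F64969))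
theorem Q10546 : ∀ i, i < 10546 → P i := stepQ 10545 Q10545 (allL N10545 (tt N11008 (iv F66684)) (tt N11130 (iv F67081)) (tt N10800 (iv F65920)) (tt N9907 (iv D16432)) (tt N11147 D17034) (tt N9909 F64970) (tt N10543 F64971) (tt N11100 (iv F66995)) (tt N9908 F64972))
theorem Q10547 : ∀ i, i < 10547 → P i := stepQ 10546 Q10546 (allL N10546 (tt N11009 (iv F66688)) (tt N10437 (iv F64976)) (tt N9908 (iv D16433)) (tt N9929 F64973) (tt N11148 D17035) (tt N9910 F64974) (tt N10767 (iv F65770)) (tt N9913 F64975) (tt N10800 (iv F65922)))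
theorem Q10548 : ∀ i, i < 10548 → P i := stepQ 10547 Q10547 (allL N10547 (tt N11010 (iv F66693)) (tt N11132 (iv F67089)) (tt N11148 (iv F67134)) (tt N11145 (iv F67126)) (tt N9908 (iv D16434)) (tt N11149 D17036) (tt N11146 (iv F67127)) (tt N9914 F64977) (tt N11147 (iv F67132)))
theorem Q10549 : ∀ i, i < 10549 → P i := stepQ 10548 Q10548 (allL N10548 (tt N11011 (iv F66695)) (tt N10805 (iv F65937)) (tt N9909 (iv D16435)) (tt N9930 F64978) (tt N11150 D17037) (tt N10800 (iv F65921)) (tt N10967 (iv F66550)) (tt N10982 (iv F66602)) (tt N9910 F64979))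
theorem Q10550 : ∀ i, i < 10550 → P i := stepQ 10549 Q10549 (allL N10549 (tt N11012 (iv F66701)) (tt N11134 (iv F67094)) (tt N11150 (iv F67139)) (tt N10690 (iv F65455)) (tt N9909 (iv D16436)) (tt N11151 D17038) (tt N11111 (iv F67022)) (tt N11102 (iv F66998)) (tt N9911 F64980))
theorem Q10551 : ∀ i, i < 10551 → P i := stepQ 10550 Q10550 (allL N10550 (tt N10853 (iv F66132)) (tt N9910 (iv D16437)) (tt N11135 (iv F67098)) (tt N9932 F64981) (tt N11152 D17039) (tt N10437 F64982) (tt N10960 (iv F66520)) (tt N9915 F64983) (tt N10805 (iv F65939)))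
theorem Q10552 : ∀ i, i < 10552 → P i := stepQ 10551 Q10551 (allL N10551 (tt N11013 (iv F66703)) (tt N11152 (iv F67142)) (tt N9911 F64984) (tt N11153 D17040) (tt N9910 (iv D16438)) (tt N11154 D17041) (tt N10968 (iv F66555)) (tt N9916 F64985) (tt N11150 (iv F67140)))
theorem Q10553 : ∀ i, i < 10553 → P i := stepQ 10552 Q10552 (allL N10552 (tt N11014 (iv F66708)) (tt N11137 (iv F67106)) (tt N11154 (iv F67145)) (tt N10693 (iv F65461)) (tt N11149 (iv F67137)) (tt N9911 (iv D16439)) (tt N11155 D17042) (tt N9917 F64986) (tt N11151 (iv F67141)))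
theorem Q10554 : ∀ i, i < 10554 → P i := stepQ 10553 Q10553 (allL N10553 (tt N11015 (iv F66710)) (tt N11138 (iv F67109)) (tt N10769 (iv F65779)) (tt N10896 (iv F66266)) (tt N9912 (iv D16440)) (tt N11156 D17043) (tt N9914 F64987) (tt N11146 (iv F67128)) (tt N11104 (iv F67002)))
theorem Q10555 : ∀ i, i < 10555 → P i := stepQ 10554 Q10554 (allL N10554 (tt N11016 (iv F66712)) (tt N10760 (iv F65738)) (tt N9914 F64988) (tt N10758 (iv F65730)) (tt N9913 (iv D16441)) (tt N11157 D17044) (tt N10769 (iv F65781)) (tt N11148 (iv F67136)) (tt N10984 (iv F66610)))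
theorem Q10556 : ∀ i, i < 10556 → P i := stepQ 10555 Q10555 (allL N10555 (tt N11017 (iv F66716)) (tt N11140 (iv F67112)) (tt N11157 (iv F67148)) (tt N10899 (iv F66273)) (tt N9917 F64989) (tt N9914 (iv D16442)) (tt N11158 D17045) (tt N11149 (iv F67138)) (tt N11105 (iv F67004)))
theorem Q10557 : ∀ i, i < 10557 → P i := stepQ 10556 Q10556 (allL N10556 (tt N10858 (iv F66152)) (tt N9916 F64990) (tt N11141 (iv F67115)) (tt N10956 (iv F66503)) (tt N9915 (iv D16443)) (tt N11159 D17046) (tt N10961 (iv F66525)) (tt N11152 (iv F67143)) (tt N10978 (iv F66589)))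
theorem Q10558 : ∀ i, i < 10558 → P i := stepQ 10557 Q10557 (allL N10557 (tt N11018 (iv F66718)) (tt N11159 (iv F67151)) (tt N9917 F64991) (tt N10957 (iv F66508)) (tt N11157 (iv F67149)) (tt N9916 (iv D16444)) (tt N11160 D17047) (tt N11154 (iv F67146)) (tt N10985 (iv F66614)))
theorem Q10559 : ∀ i, i < 10559 → P i := stepQ 10558 Q10558 (allL N10558 (tt N11019 (iv F66723)) (tt N11143 (iv F67118)) (tt N11160 (iv F67152)) (tt N9918 F64992) (tt N11158 (iv F67150)) (tt N11115 (iv F67032)) (tt N9917 (iv D16445)) (tt N11155 (iv F67147)) (tt N11106 (iv F67006)))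
theorem Q10560 : ∀ i, i < 10560 → P i := stepQ 10559 Q10559 (allL N10559 (tt N11020 (iv F66725)) (tt N9984 F64993) (tt N11161 D17048) (tt N9919 (iv D16446)) (tt N10719 (iv F65532)) (tt N10585 (iv F65111)) (tt N10104 F64994) (tt N10559 F64995) (tt N10103 F64996))
theorem Q10561 : ∀ i, i < 10561 → P i := stepQ 10560 Q10560 (allL N10560 (tt N10008 F64997) (tt N9985 F64998) (tt N10766 (iv F65764)) (tt N9920 (iv D16447)) (tt N10189 (iv F65003)) (tt N9928 F64999) (tt N9922 F65000) (tt N9925 F65001) (tt N10102 F65002))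
theorem Q10562 : ∀ i, i < 10562 → P i := stepQ 10561 Q10561 (allL N10561 (tt N10009 F65004) (tt N9986 F65005) (tt N10965 (iv F66539)) (tt N9921 (iv D16448)) (tt N10188 F65006) (tt N9923 F65007) (tt N10102 F65008) (tt N9994 F65009) (tt N9922 F65010))
theorem Q10563 : ∀ i, i < 10563 → P i := stepQ 10562 Q10562 (allL N10562 (tt N10007 F65011) (tt N9988 F65012) (tt N10964 (iv F66532)) (tt N10719 (iv F65531)) (tt N9922 (iv D16449)) (tt N10218 F65013) (tt N10189 F65014) (tt N9926 F65015) (tt N10188 F65016))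
theorem Q10564 : ∀ i, i < 10564 → P i := stepQ 10563 Q10563 (allL N10563 (tt N10000 F65017) (tt N9951 F65018) (tt N10945 (iv F66465)) (tt N10589 (iv F65128)) (tt N9923 (iv D16450)) (tt N10071 F65019) (tt N9931 F65020) (tt N9949 F65021) (tt N9924 F65022))
theorem Q10565 : ∀ i, i < 10565 → P i := stepQ 10564 Q10564 (allL N10564 (tt N10450 F65023) (tt N10179 F65024) (tt N9927 (iv D16451)) (tt N11144 (iv F67122)) (tt N10205 F65025) (tt N10704 (iv F65476)) (tt N10210 F65026) (tt N9934 F65027) (tt N10171 F65028))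
theorem Q10566 : ∀ i, i < 10566 → P i := stepQ 10565 Q10565 (allL N10565 (tt N11022 (iv F66738)) (tt N10665 (iv F65395)) (tt N10714 (iv F65511)) (tt N9933 (iv D16452)) (tt N11153 (iv F67144)) (tt N10460 F65029) (tt N10946 (iv F66471)) (tt N10937 (iv F66435)) (tt N11060 (iv F66871)))
theorem Q10567 : ∀ i, i < 10567 → P i := stepQ 10566 Q10566 (allL N10566 (tt N9937 F65030) (tt N11162 D17049) (tt N9935 (iv D16453)) (tt N11084 (iv F66939)) (tt N10737 (iv F65627)) (tt N10919 (iv F66346)) (tt N10026 F65031) (tt N10566 F65032) (tt N9940 F65033))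
theorem Q10568 : ∀ i, i < 10568 → P i := stepQ 10567 Q10567 (allL N10567 (tt N10919 (iv F66343)) (tt N10737 (iv F65626)) (tt N9936 (iv D16454)) (tt N11093 (iv F66974)) (tt N11162 (iv F67158)) (tt N9937 F65034) (tt N10751 (iv F65694)) (tt N10567 F65035) (tt N9941 F65036))
theorem Q10569 : ∀ i, i < 10569 → P i := stepQ 10568 Q10568 (allL N10568 (tt N10062 F65037) (tt N9938 F65038) (tt N11162 (iv F67157)) (tt N10061 F65039) (tt N9936 (iv D16455)) (tt N10059 F65040) (tt N10057 F65041) (tt N10568 F65042) (tt N9942 F65043))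
theorem Q10570 : ∀ i, i < 10570 → P i := stepQ 10569 Q10569 (allL N10569 (tt N9941 F65044) (tt N10864 (iv F66172)) (tt N9939 (iv D16456)) (tt N11122 (iv F67061)) (tt N10863 F66170) (tt N9940 F65045) (tt N10785 (iv F65837)) (tt N9990 F65046) (tt N10919 (iv F66349)))
theorem Q10571 : ∀ i, i < 10571 → P i := stepQ 10570 Q10570 (allL N10570 (tt N10863 (iv F66164)) (tt N9940 (iv D16457)) (tt N9942 F65047) (tt N11124 (iv F67064)) (tt N9941 F65048) (tt N10864 (iv F66174)) (tt N10042 F65049) (tt N9991 F65050) (tt N11162 (iv F67162)))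
theorem Q10572 : ∀ i, i < 10572 → P i := stepQ 10571 Q10571 (allL N10571 (tt N11163 D17050) (tt N9946 (iv D16458)) (tt N11053 (iv F66837)) (tt N10122 F65051) (tt N10586 (iv F65115)) (tt N10129 F65052) (tt N9956 F65053) (tt N10010 F65054) (tt N10573 (iv F65061)))
theorem Q10573 : ∀ i, i < 10573 → P i := stepQ 10572 Q10572 (allL N10572 (tt N10913 (iv F66320)) (tt N11164 D17051) (tt N9950 (iv D16459)) (tt N11061 (iv F66872)) (tt N10786 (iv F65841)) (tt N10711 F65505) (tt N10073 F65055) (tt N10572 F65056) (tt N10462 F65057))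
theorem Q10574 : ∀ i, i < 10574 → P i := stepQ 10573 Q10573 (allL N10573 (tt N11165 D17052) (tt N9952 (iv D16460)) (tt N11164 (iv F67168)) (tt N9956 F65058) (tt N10585 (iv F65110)) (tt N10721 (iv F65545)) (tt N10122 F65059) (tt N10573 F65060) (tt N10571 F65061))
theorem Q10575 : ∀ i, i < 10575 → P i := stepQ 10574 Q10574 (allL N10574 (tt N11166 D17053) (tt N9954 (iv D16461)) (tt N11078 (iv F66916)) (tt N10721 (iv F65544)) (tt N10482 F65062) (tt N9956 F65063) (tt N10484 F65064) (tt N10011 F65065) (tt N10717 (iv F65527)))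
theorem Q10576 : ∀ i, i < 10576 → P i := stepQ 10575 Q10575 (allL N10575 (tt N9956 (iv D16462)) (tt N10575 F65066) (tt N11080 (iv F66924)) (tt N11165 (iv F67173)) (tt N10579 F65087) (tt N11166 (iv F67179)) (tt N11163 (iv F67166)) (tt N10012 F65067) (tt N10718 (iv F65530)))
theorem Q10577 : ∀ i, i < 10577 → P i := stepQ 10576 Q10576 (allL N10576 (tt N9966 F65068) (tt N10576 F65069) (tt N11116 (iv F67035)) (tt N11167 D17054) (tt N9960 F65070) (tt N10419 F65071) (tt N10578 (iv F65081)) (tt N9957 (iv D16463)) (tt N10577 (iv F65076)))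
theorem Q10578 : ∀ i, i < 10578 → P i := stepQ 10577 Q10577 (allL N10577 (tt N9967 F65072) (tt N10577 F65073) (tt N10820 (iv F65999)) (tt N11168 D17055) (tt N10578 (iv F65079)) (tt N10044 F65074) (tt N9960 F65075) (tt N9958 (iv D16464)) (tt N10576 F65076))
theorem Q10579 : ∀ i, i < 10579 → P i := stepQ 10578 Q10578 (allL N10578 (tt N9968 F65077) (tt N10578 F65078) (tt N11117 (iv F67041)) (tt N10921 (iv F66358)) (tt N10577 F65079) (tt N9961 F65080) (tt N10576 F65081) (tt N9959 (iv D16465)) (tt N9960 F65082))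
theorem Q10580 : ∀ i, i < 10580 → P i := stepQ 10579 Q10579 (allL N10579 (tt N9969 F65083) (tt N10579 F65084) (tt N11169 D17056) (tt N9960 (iv D16466)) (tt N10575 (iv F65087)) (tt N9962 F65085) (tt N11168 (iv F67192)) (tt N9964 F65086) (tt N10921 (iv F66362)))
theorem Q10581 : ∀ i, i < 10581 → P i := stepQ 10580 Q10580 (allL N10580 (tt N9970 F65088) (tt N10580 F65089) (tt N11170 D17057) (tt N9961 (iv D16467)) (tt N10602 (iv F65188)) (tt N10921 (iv F66360)) (tt N10047 F65090) (tt N10580 F65091) (tt N9962 F65092))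
theorem Q10582 : ∀ i, i < 10582 → P i := stepQ 10581 Q10581 (allL N10581 (tt N9971 F65093) (tt N11171 D17058) (tt N9962 (iv D16468)) (tt N11120 (iv F67053)) (tt N10603 (iv F65192)) (tt N11169 (iv F67197)) (tt N10048 F65094) (tt N9965 F65095) (tt N11170 (iv F67202)))
theorem Q10583 : ∀ i, i < 10583 → P i := stepQ 10582 Q10582 (allL N10582 (tt N9973 F65096) (tt N10582 F65097) (tt N10788 (iv F65850)) (tt N9963 (iv D16469)) (tt N10611 (iv F65227)) (tt N10050 F65098) (tt N9964 F65099) (tt N11168 (iv F67193)) (tt N10582 F65100))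
theorem Q10584 : ∀ i, i < 10584 → P i := stepQ 10583 Q10583 (allL N10583 (tt N9974 F65101) (tt N10909 (iv F66303)) (tt N9964 (iv D16470)) (tt N9990 F65102) (tt N10609 (iv F65219)) (tt N9965 F65103) (tt N10788 (iv F65853)) (tt N11169 (iv F67198)) (tt N10583 F65104))
theorem Q10585 : ∀ i, i < 10585 → P i := stepQ 10584 Q10584 (allL N10584 (tt N10907 (iv F66293)) (tt N9965 (iv D16471)) (tt N10584 F65105) (tt N9991 F65106) (tt N10606 (iv F65207)) (tt N10909 (iv F66306)) (tt N10052 F65107) (tt N11171 (iv F67205)) (tt N10584 F65108))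
theorem Q10586 : ∀ i, i < 10586 → P i := stepQ 10585 Q10585 (allL N10585 (tt N11167 (iv F67182)) (tt N9978 F65109) (tt N11172 D17059) (tt N9966 (iv D16472)) (tt N10573 F65110) (tt N10559 F65111) (tt N10331 F65112) (tt N10585 F65113) (tt N10586 (iv F65119)))
theorem Q10587 : ∀ i, i < 10587 → P i := stepQ 10586 Q10586 (allL N10586 (tt N11168 (iv F67188)) (tt N9979 F65114) (tt N10787 (iv F65845)) (tt N9967 (iv D16473)) (tt N10571 F65115) (tt N10103 F65116) (tt N9969 F65117) (tt N9973 F65118) (tt N10585 F65119))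
theorem Q10588 : ∀ i, i < 10588 → P i := stepQ 10587 Q10587 (allL N10587 (tt N11169 (iv F67195)) (tt N10439 F65120) (tt N9969 (iv D16474)) (tt N11131 (iv F67086)) (tt N10485 F65121) (tt N9971 F65122) (tt N10787 (iv F65847)) (tt N9974 F65123) (tt N10811 (iv F65960)))
theorem Q10589 : ∀ i, i < 10589 → P i := stepQ 10588 Q10588 (allL N10588 (tt N11170 (iv F67199)) (tt N10809 (iv F65945)) (tt N9970 (iv D16475)) (tt N11133 (iv F67091)) (tt N11173 D17060) (tt N10811 (iv F65958)) (tt N10107 F65124) (tt N10588 F65125) (tt N9971 F65126))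
theorem Q10590 : ∀ i, i < 10590 → P i := stepQ 10589 Q10589 (allL N10589 (tt N10602 (iv F65186)) (tt N9980 F65127) (tt N11173 (iv F67212)) (tt N10563 F65128) (tt N9970 (iv D16476)) (tt N10669 (iv F65405)) (tt N10108 F65129) (tt N10589 F65130) (tt N9972 F65131))
theorem Q10591 : ∀ i, i < 10591 → P i := stepQ 10590 Q10590 (allL N10590 (tt N10904 (iv F66282)) (tt N9971 (iv D16477)) (tt N9981 F65132) (tt N11135 (iv F67099)) (tt N11174 D17061) (tt N10439 F65133) (tt N10109 F65134) (tt N9975 F65135) (tt N10809 (iv F65949)))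
theorem Q10592 : ∀ i, i < 10592 → P i := stepQ 10591 Q10591 (allL N10591 (tt N10603 (iv F65191)) (tt N11174 (iv F67216)) (tt N9972 F65136) (tt N11175 D17062) (tt N9971 (iv D16478)) (tt N11077 (iv F66913)) (tt N10110 F65137) (tt N9976 F65138) (tt N11173 (iv F67215)))
theorem Q10593 : ∀ i, i < 10593 → P i := stepQ 10592 Q10592 (allL N10592 (tt N10908 (iv F66299)) (tt N9976 F65139) (tt N9983 F65140) (tt N10597 (iv F65160)) (tt N9975 (iv D16479)) (tt N10608 (iv F65215)) (tt N10115 F65141) (tt N11174 (iv F67220)) (tt N10592 F65142))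
theorem Q10594 : ∀ i, i < 10594 → P i := stepQ 10593 Q10593 (allL N10593 (tt N10604 (iv F65194)) (tt N10608 (iv F65213)) (tt N9977 F65143) (tt N10595 (iv F65151)) (tt N10607 F65212) (tt N9976 (iv D16480)) (tt N10004 F65144) (tt N11077 (iv F66915)) (tt N10593 F65145))
theorem Q10595 : ∀ i, i < 10595 → P i := stepQ 10594 Q10594 (allL N10594 (tt N10905 (iv F66286)) (tt N9982 F65146) (tt N11174 (iv F67217)) (tt N10671 (iv F65413)) (tt N9981 (iv D16481)) (tt N10484 F65147) (tt N10129 F65148) (tt N9983 F65149) (tt N10810 (iv F65955)))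
theorem Q10596 : ∀ i, i < 10596 → P i := stepQ 10595 Q10595 (allL N10595 (tt N10004 F65150) (tt N11176 D17063) (tt N9992 (iv D16482)) (tt N10593 F65151) (tt N11177 D17064) (tt N9993 F65152) (tt N10604 (iv F65197)) (tt N10951 (iv F66484)) (tt N10595 F65153))
theorem Q10597 : ∀ i, i < 10597 → P i := stepQ 10596 Q10596 (allL N10596 (tt N10005 F65154) (tt N10596 F65155) (tt N11177 (iv F67230)) (tt N10596 F65156) (tt N9992 (iv D16483)) (tt N10303 F65157) (tt N10605 (iv F65203)) (tt N10952 (iv F66488)) (tt N10596 F65158))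
theorem Q10598 : ∀ i, i < 10598 → P i := stepQ 10597 Q10597 (allL N10597 (tt N11178 D17065) (tt N9993 (iv D16484)) (tt N10597 F65159) (tt N10592 F65160) (tt N10304 F65161) (tt N11176 (iv F67227)) (tt N10316 F65162) (tt N10953 (iv F66492)) (tt N10597 F65163))
theorem Q10599 : ∀ i, i < 10599 → P i := stepQ 10598 Q10598 (allL N10598 (tt N11179 D17066) (tt N9996 (iv D16485)) (tt N10010 F65164) (tt N10655 (iv F65367)) (tt N10192 F65165) (tt N10115 F65166) (tt N10006 F65167) (tt N11053 (iv F66841)) (tt N10598 F65168))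
theorem Q10600 : ∀ i, i < 10600 → P i := stepQ 10599 Q10599 (allL N10599 (tt N10218 F65169) (tt N10599 F65170) (tt N11064 (iv F66883)) (tt N10720 (iv F65539)) (tt N9999 F65171) (tt N10007 F65172) (tt N10138 F65173) (tt N9997 (iv D16486)) (tt N10299 F65174))
theorem Q10601 : ∀ i, i < 10601 → P i := stepQ 10600 Q10600 (allL N10600 (tt N10071 F65175) (tt N10600 F65176) (tt N11065 (iv F66890)) (tt N11180 D17067) (tt N10299 F65177) (tt N10000 F65178) (tt N10019 F65179) (tt N9998 (iv D16487)) (tt N9999 F65180))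
theorem Q10602 : ∀ i, i < 10602 → P i := stepQ 10601 Q10601 (allL N10601 (tt N10482 F65181) (tt N10601 F65182) (tt N11181 D17068) (tt N9999 (iv D16488)) (tt N11166 (iv F67178)) (tt N10001 F65183) (tt N10359 F65184) (tt N10002 F65185) (tt N11180 (iv F67250)))
theorem Q10603 : ∀ i, i < 10603 → P i := stepQ 10602 Q10602 (allL N10602 (tt N10589 F65186) (tt N10602 F65187) (tt N11182 D17069) (tt N10000 (iv D16489)) (tt N10580 F65188) (tt N11180 (iv F67247)) (tt N10651 (iv F65350)) (tt N10602 F65189) (tt N10001 F65190))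
theorem Q10604 : ∀ i, i < 10604 → P i := stepQ 10603 Q10603 (allL N10603 (tt N10591 F65191) (tt N11183 D17070) (tt N10001 (iv D16490)) (tt N11068 (iv F66899)) (tt N10581 F65192) (tt N11181 (iv F67252)) (tt N10653 (iv F65358)) (tt N10003 F65193) (tt N11182 (iv F67258)))
theorem Q10605 : ∀ i, i < 10605 → P i := stepQ 10604 Q10604 (allL N10604 (tt N10593 F65194) (tt N11184 D17071) (tt N10002 (iv D16491)) (tt N10004 F65195) (tt N11185 D17072) (tt N10003 F65196) (tt N10595 F65197) (tt N11181 (iv F67254)) (tt N10604 F65198))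
theorem Q10606 : ∀ i, i < 10606 → P i := stepQ 10605 Q10605 (allL N10605 (tt N10011 F65199) (tt N10605 F65200) (tt N11185 (iv F67268)) (tt N10605 F65201) (tt N10002 (iv D16492)) (tt N10012 F65202) (tt N10596 F65203) (tt N11166 (iv F67181)) (tt N10605 F65204))
theorem Q10607 : ∀ i, i < 10607 → P i := stepQ 10606 Q10606 (allL N10606 (tt N11186 D17073) (tt N10003 (iv D16493)) (tt N10606 F65205) (tt N10006 F65206) (tt N10584 F65207) (tt N11184 (iv F67264)) (tt N10655 (iv F65369)) (tt N11183 (iv F67261)) (tt N10606 F65208))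
theorem Q10608 : ∀ i, i < 10608 → P i := stepQ 10607 Q10607 (allL N10607 (tt N11185 (iv F67267)) (tt N10004 (iv D16494)) (tt N10011 F65209) (tt N11184 (iv F67263)) (tt N10593 (iv F65212)) (tt N10006 F65210) (tt N10608 (iv F65216)) (tt N11078 (iv F66918)) (tt N10607 F65211))
theorem Q10609 : ∀ i, i < 10609 → P i := stepQ 10608 Q10608 (allL N10608 (tt N11177 (iv F67229)) (tt N10593 F65213) (tt N10005 F65214) (tt N11176 (iv F67226)) (tt N10004 (iv D16495)) (tt N10592 F65215) (tt N10607 F65216) (tt N11079 (iv F66923)) (tt N10608 F65217))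
theorem Q10610 : ∀ i, i < 10610 → P i := stepQ 10609 Q10609 (allL N10609 (tt N10006 (iv D16496)) (tt N11178 (iv F67233)) (tt N10012 F65218) (tt N11186 (iv F67274)) (tt N10583 F65219) (tt N11185 (iv F67269)) (tt N11179 (iv F67243)) (tt N11080 (iv F66925)) (tt N10609 F65220))
theorem Q10611 : ∀ i, i < 10611 → P i := stepQ 10610 Q10610 (allL N10610 (tt N10719 F65537) (tt N10610 F65221) (tt N11187 D17074) (tt N10007 (iv D16497)) (tt N11020 (iv F66727)) (tt N10720 (iv F65540)) (tt N10308 F65222) (tt N10610 F65223) (tt N10307 F65224))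
theorem Q10612 : ∀ i, i < 10612 → P i := stepQ 10611 Q10611 (allL N10611 (tt N10010 (iv D16498)) (tt N10611 F65225) (tt N11179 (iv F67240)) (tt N10611 F65226) (tt N10582 F65227) (tt N10130 F65228) (tt N10012 F65229) (tt N11163 (iv F67167)) (tt N10611 F65230))
theorem Q10613 : ∀ i, i < 10613 → P i := stepQ 10612 Q10612 (allL N10612 (tt N10661 (iv F65380)) (tt N10017 F65231) (tt N10612 F65232) (tt N11188 D17075) (tt N10014 F65233) (tt N10614 (iv F65241)) (tt N10939 (iv F66445)) (tt N10013 (iv D16499)) (tt N10352 F65234))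
theorem Q10614 : ∀ i, i < 10614 → P i := stepQ 10613 Q10613 (allL N10613 (tt N10936 (iv F66428)) (tt N10018 F65235) (tt N11189 D17076) (tt N10014 (iv D16500)) (tt N11190 D17077) (tt N10843 (iv F66086)) (tt N10940 (iv F66449)) (tt N10021 F65236) (tt N10353 F65237))
theorem Q10615 : ∀ i, i < 10615 → P i := stepQ 10614 Q10614 (allL N10614 (tt N10066 F65238) (tt N10615 (iv F65243)) (tt N10614 F65239) (tt N11191 D17078) (tt N10023 F65240) (tt N10612 F65241) (tt N11054 (iv F66845)) (tt N10015 (iv D16501)) (tt N10941 (iv F66457)))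
theorem Q10616 : ∀ i, i < 10616 → P i := stepQ 10615 Q10615 (allL N10615 (tt N10068 F65242) (tt N10614 F65243) (tt N10019 F65244) (tt N11192 D17079) (tt N10256 F65245) (tt N10017 F65246) (tt N11065 (iv F66893)) (tt N10016 (iv D16502)) (tt N10356 F65247))
theorem Q10617 : ∀ i, i < 10617 → P i := stepQ 10616 Q10616 (allL N10616 (tt N10069 F65248) (tt N11188 (iv F67280)) (tt N11193 D17080) (tt N10017 (iv D16503)) (tt N11194 D17081) (tt N11192 (iv F67293)) (tt N11055 (iv F66847)) (tt N11191 (iv F67290)) (tt N10357 F65249))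
theorem Q10618 : ∀ i, i < 10618 → P i := stepQ 10617 Q10617 (allL N10617 (tt N10070 F65250) (tt N11190 (iv F67285)) (tt N10729 (iv F65585)) (tt N11194 (iv F67300)) (tt N10018 (iv D16504)) (tt N11195 D17082) (tt N11056 (iv F66851)) (tt N10025 F65251) (tt N10358 F65252))
theorem Q10619 : ∀ i, i < 10619 → P i := stepQ 10618 Q10618 (allL N10618 (tt N10072 F65253) (tt N10618 F65254) (tt N11196 D17083) (tt N10019 (iv D16505)) (tt N11197 D17084) (tt N10020 F65255) (tt N11180 (iv F67248)) (tt N10618 F65256) (tt N10359 F65257))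
theorem Q10620 : ∀ i, i < 10620 → P i := stepQ 10619 Q10619 (allL N10619 (tt N10073 F65258) (tt N11198 D17085) (tt N10020 (iv D16506)) (tt N11193 (iv F67297)) (tt N10731 (iv F65594)) (tt N11196 (iv F67306)) (tt N10913 (iv F66322)) (tt N10619 F65259) (tt N10360 F65260))
theorem Q10621 : ∀ i, i < 10621 → P i := stepQ 10620 Q10620 (allL N10620 (tt N10955 (iv F66496)) (tt N10741 (iv F65650)) (tt N10021 (iv D16507)) (tt N10055 F65261) (tt N11199 D17086) (tt N10844 (iv F66092)) (tt N10958 (iv F66512)) (tt N11189 (iv F67283)) (tt N10030 F65262))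
theorem Q10622 : ∀ i, i < 10622 → P i := stepQ 10621 Q10621 (allL N10621 (tt N10956 (iv F66501)) (tt N10025 F65263) (tt N11199 (iv F67317)) (tt N10858 (iv F66154)) (tt N10021 (iv D16508)) (tt N11200 D17087) (tt N10959 (iv F66516)) (tt N11190 (iv F67286)) (tt N10031 F65264))
theorem Q10623 : ∀ i, i < 10623 → P i := stepQ 10622 Q10622 (allL N10622 (tt N10077 F65265) (tt N10727 (iv F65576)) (tt N10622 F65266) (tt N11201 D17088) (tt N10941 (iv F66455)) (tt N10724 (iv F65562)) (tt N11082 (iv F66933)) (tt N10022 (iv D16509)) (tt N10023 F65267))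
theorem Q10624 : ∀ i, i < 10624 → P i := stepQ 10623 Q10623 (allL N10623 (tt N10078 F65268) (tt N10853 (iv F66133)) (tt N11202 D17089) (tt N10023 (iv D16510)) (tt N11203 D17090) (tt N10848 (iv F66110)) (tt N11083 (iv F66936)) (tt N10024 F65269) (tt N11201 (iv F67323)))
theorem Q10625 : ∀ i, i < 10625 → P i := stepQ 10624 Q10624 (allL N10624 (tt N10080 F65270) (tt N11204 D17091) (tt N10024 (iv D16511)) (tt N10026 F65271) (tt N11205 D17092) (tt N10849 (iv F66115)) (tt N11084 (iv F66940)) (tt N11202 (iv F67326)) (tt N10038 F65272))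
theorem Q10626 : ∀ i, i < 10626 → P i := stepQ 10625 Q10625 (allL N10625 (tt N10081 F65273) (tt N10858 (iv F66153)) (tt N11205 (iv F67332)) (tt N10025 F65274) (tt N10024 (iv D16512)) (tt N11206 D17093) (tt N11085 (iv F66944)) (tt N11203 (iv F67328)) (tt N10039 F65275))
theorem Q10627 : ∀ i, i < 10627 → P i := stepQ 10626 Q10626 (allL N10626 (tt N10082 F65276) (tt N11200 (iv F67319)) (tt N10749 (iv F65681)) (tt N11206 (iv F67335)) (tt N10923 (iv F66372)) (tt N10025 (iv D16513)) (tt N11207 D17094) (tt N11195 (iv F67303)) (tt N10040 F65277))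
theorem Q10628 : ∀ i, i < 10628 → P i := stepQ 10627 Q10627 (allL N10627 (tt N10920 (iv F66350)) (tt N10026 (iv D16514)) (tt N10057 F65278) (tt N11204 (iv F67329)) (tt N10751 (iv F65692)) (tt N10918 (iv F66339)) (tt N11162 (iv F67160)) (tt N10627 F65279) (tt N10042 F65280))
theorem Q10629 : ∀ i, i < 10629 → P i := stepQ 10628 Q10628 (allL N10628 (tt N10802 (iv F65925)) (tt N10035 F65281) (tt N10628 F65282) (tt N11208 D17095) (tt N10399 F65283) (tt N10726 (iv F65572)) (tt N10987 (iv F66622)) (tt N10027 (iv D16515)) (tt N10028 F65284))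
theorem Q10630 : ∀ i, i < 10630 → P i := stepQ 10629 Q10629 (allL N10629 (tt N10976 (iv F66576)) (tt N10036 F65285) (tt N11209 D17096) (tt N10028 (iv D16516)) (tt N11210 D17097) (tt N10814 (iv F65973)) (tt N10988 (iv F66626)) (tt N10029 F65286) (tt N11208 (iv F67340)))
theorem Q10631 : ∀ i, i < 10631 → P i := stepQ 10630 Q10630 (allL N10630 (tt N10977 (iv F66580)) (tt N11211 D17098) (tt N10029 (iv D16517)) (tt N10058 F65287) (tt N11212 D17099) (tt N10815 (iv F65977)) (tt N10989 (iv F66630)) (tt N11209 (iv F67342)) (tt N10857 (iv F66151)))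
theorem Q10632 : ∀ i, i < 10632 → P i := stepQ 10631 Q10631 (allL N10631 (tt N10978 (iv F66585)) (tt N10039 F65288) (tt N11212 (iv F67348)) (tt N10031 F65289) (tt N10029 (iv D16518)) (tt N11213 D17100) (tt N10990 (iv F66635)) (tt N11210 (iv F67345)) (tt N10858 (iv F66155)))
theorem Q10633 : ∀ i, i < 10633 → P i := stepQ 10632 Q10632 (allL N10632 (tt N10979 (iv F66590)) (tt N10770 (iv F65782)) (tt N10031 F65290) (tt N11214 D17101) (tt N10030 (iv D16519)) (tt N11215 D17102) (tt N10991 (iv F66638)) (tt N10404 F65291) (tt N11199 (iv F67318)))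
theorem Q10634 : ∀ i, i < 10634 → P i := stepQ 10633 Q10633 (allL N10633 (tt N10980 (iv F66593)) (tt N10040 F65292) (tt N11215 (iv F67352)) (tt N11213 (iv F67350)) (tt N10930 (iv F66402)) (tt N10031 (iv D16520)) (tt N11216 D17103) (tt N10405 F65293) (tt N11200 (iv F67320)))
theorem Q10635 : ∀ i, i < 10635 → P i := stepQ 10634 Q10634 (allL N10634 (tt N10084 F65294) (tt N10744 (iv F65662)) (tt N10043 F65295) (tt N11217 D17104) (tt N10034 F65296) (tt N10406 F65297) (tt N10799 (iv F65917)) (tt N10032 (iv D16521)) (tt N10739 (iv F65643)))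
theorem Q10636 : ∀ i, i < 10636 → P i := stepQ 10635 Q10635 (allL N10635 (tt N10086 F65298) (tt N10726 (iv F65569)) (tt N10045 F65299) (tt N11218 D17105) (tt N10739 (iv F65640)) (tt N10035 F65300) (tt N10821 (iv F66006)) (tt N10033 (iv D16522)) (tt N10034 F65301))
theorem Q10637 : ∀ i, i < 10637 → P i := stepQ 10636 Q10636 (allL N10636 (tt N10087 F65302) (tt N10814 (iv F65972)) (tt N11219 D17106) (tt N10034 (iv D16523)) (tt N11220 D17107) (tt N10036 F65303) (tt N10822 (iv F66010)) (tt N10037 F65304) (tt N11218 (iv F67362)))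
theorem Q10638 : ∀ i, i < 10638 → P i := stepQ 10637 Q10637 (allL N10637 (tt N10088 F65305) (tt N11208 (iv F67339)) (tt N11221 D17108) (tt N10035 (iv D16524)) (tt N11222 D17109) (tt N11218 (iv F67361)) (tt N11119 (iv F67050)) (tt N11201 (iv F67322)) (tt N10036 F65306))
theorem Q10639 : ∀ i, i < 10639 → P i := stepQ 10638 Q10638 (allL N10638 (tt N10089 F65307) (tt N11223 D17110) (tt N10036 (iv D16525)) (tt N10048 F65308) (tt N11224 D17111) (tt N11219 (iv F67365)) (tt N11120 (iv F67054)) (tt N10038 F65309) (tt N11221 (iv F67371)))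
theorem Q10640 : ∀ i, i < 10640 → P i := stepQ 10639 Q10639 (allL N10639 (tt N10090 F65310) (tt N11210 (iv F67343)) (tt N11224 (iv F67378)) (tt N10412 F65311) (tt N10036 (iv D16526)) (tt N11225 D17112) (tt N11121 (iv F67058)) (tt N10039 F65312) (tt N11222 (iv F67374)))
theorem Q10641 : ∀ i, i < 10641 → P i := stepQ 10640 Q10640 (allL N10640 (tt N10092 F65313) (tt N11023 (iv F66744)) (tt N10037 (iv D16527)) (tt N10041 F65314) (tt N11226 D17113) (tt N10038 F65315) (tt N10824 (iv F66019)) (tt N11219 (iv F67366)) (tt N10849 (iv F66117)))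
theorem Q10642 : ∀ i, i < 10642 → P i := stepQ 10641 Q10641 (allL N10641 (tt N10093 F65316) (tt N10816 (iv F65980)) (tt N11226 (iv F67384)) (tt N10813 (iv F65969)) (tt N10037 (iv D16528)) (tt N11227 D17114) (tt N10825 (iv F66025)) (tt N11220 (iv F67368)) (tt N10850 (iv F66122)))
theorem Q10643 : ∀ i, i < 10643 → P i := stepQ 10642 Q10642 (allL N10642 (tt N11228 D17115) (tt N10038 (iv D16529)) (tt N11211 (iv F67346)) (tt N10042 F65317) (tt N11229 D17116) (tt N11023 (iv F66745)) (tt N11124 (iv F67065)) (tt N11223 (iv F67376)) (tt N11204 (iv F67330)))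
theorem Q10644 : ∀ i, i < 10644 → P i := stepQ 10643 Q10643 (allL N10643 (tt N10095 F65318) (tt N11229 (iv F67390)) (tt N10039 F65319) (tt N10782 (iv F65827)) (tt N10038 (iv D16530)) (tt N11230 D17117) (tt N11125 (iv F67068)) (tt N11224 (iv F67379)) (tt N11205 (iv F67333)))
theorem Q10645 : ∀ i, i < 10645 → P i := stepQ 10644 Q10644 (allL N10644 (tt N10096 F65320) (tt N11213 (iv F67349)) (tt N11230 (iv F67392)) (tt N10040 F65321) (tt N11227 (iv F67386)) (tt N10039 (iv D16531)) (tt N11231 D17118) (tt N11225 (iv F67382)) (tt N11206 (iv F67336)))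
theorem Q10646 : ∀ i, i < 10646 → P i := stepQ 10645 Q10645 (allL N10645 (tt N10097 F65322) (tt N11216 (iv F67354)) (tt N10784 (iv F65831)) (tt N11231 (iv F67394)) (tt N10933 (iv F66416)) (tt N11127 (iv F67072)) (tt N10040 (iv D16532)) (tt N10418 F65323) (tt N11207 (iv F67338)))
theorem Q10647 : ∀ i, i < 10647 → P i := stepQ 10646 Q10646 (allL N10646 (tt N10042 (iv D16533)) (tt N10101 F65324) (tt N10061 F65325) (tt N11228 (iv F67388)) (tt N10785 (iv F65835)) (tt N10060 F65326) (tt N10863 (iv F66167)) (tt N10054 F65327) (tt N10920 (iv F66356)))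
theorem Q10648 : ∀ i, i < 10648 → P i := stepQ 10647 Q10647 (allL N10647 (tt N10103 F65328) (tt N10647 F65329) (tt N10934 (iv F66420)) (tt N10044 (iv D16534)) (tt N10307 F65330) (tt N11168 (iv F67191)) (tt N10046 F65331) (tt N10050 F65332) (tt N11020 (iv F66730)))
theorem Q10649 : ∀ i, i < 10649 → P i := stepQ 10648 Q10648 (allL N10648 (tt N10104 F65333) (tt N10648 F65334) (tt N11232 D17119) (tt N10045 (iv D16535)) (tt N10308 F65335) (tt N10047 F65336) (tt N11020 (iv F66728)) (tt N10648 F65337) (tt N10046 F65338))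
theorem Q10650 : ∀ i, i < 10650 → P i := stepQ 10649 Q10649 (allL N10649 (tt N10105 F65339) (tt N11025 (iv F66749)) (tt N10046 (iv D16536)) (tt N11219 (iv F67364)) (tt N10309 F65340) (tt N10048 F65341) (tt N10934 (iv F66422)) (tt N10051 F65342) (tt N11232 (iv F67399)))
theorem Q10651 : ∀ i, i < 10651 → P i := stepQ 10650 Q10650 (allL N10650 (tt N10107 F65343) (tt N11233 D17120) (tt N10047 (iv D16537)) (tt N11221 (iv F67370)) (tt N11234 D17121) (tt N11232 (iv F67397)) (tt N11170 (iv F67200)) (tt N10650 F65344) (tt N10048 F65345))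
theorem Q10652 : ∀ i, i < 10652 → P i := stepQ 10651 Q10651 (allL N10651 (tt N10108 F65346) (tt N10651 F65347) (tt N11234 (iv F67404)) (tt N10425 F65348) (tt N10047 (iv D16538)) (tt N10311 F65349) (tt N10602 F65350) (tt N10651 F65351) (tt N10049 F65352))
theorem Q10653 : ∀ i, i < 10653 → P i := stepQ 10652 Q10652 (allL N10652 (tt N11235 D17122) (tt N10048 (iv D16539)) (tt N10652 F65353) (tt N11223 (iv F67375)) (tt N11236 D17123) (tt N11025 (iv F66752)) (tt N11171 (iv F67204)) (tt N10052 F65354) (tt N11233 (iv F67402)))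
theorem Q10654 : ∀ i, i < 10654 → P i := stepQ 10653 Q10653 (allL N10653 (tt N10110 F65355) (tt N11236 (iv F67413)) (tt N10049 F65356) (tt N11237 D17124) (tt N10048 (iv D16540)) (tt N10313 F65357) (tt N10603 F65358) (tt N10053 F65359) (tt N11234 (iv F67408)))
theorem Q10655 : ∀ i, i < 10655 → P i := stepQ 10654 Q10654 (allL N10654 (tt N10052 (iv D16541)) (tt N10114 F65360) (tt N10654 F65361) (tt N10054 F65362) (tt N11238 D17125) (tt N10063 F65363) (tt N10907 (iv F66297)) (tt N11235 (iv F67412)) (tt N10654 F65364))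
theorem Q10656 : ∀ i, i < 10656 → P i := stepQ 10655 Q10655 (allL N10655 (tt N11238 (iv F67423)) (tt N10053 F65365) (tt N10655 F65366) (tt N10598 F65367) (tt N10052 (iv D16542)) (tt N10316 F65368) (tt N10606 F65369) (tt N11236 (iv F67417)) (tt N10655 F65370))
theorem Q10657 : ∀ i, i < 10657 → P i := stepQ 10656 Q10656 (allL N10656 (tt N10918 (iv F66336)) (tt N10791 (iv F65870)) (tt N10056 F65371) (tt N11239 D17126) (tt N10055 (iv D16543)) (tt N10920 (iv F66353)) (tt N10841 (iv F66075)) (tt N10656 F65372) (tt N10060 F65373))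
theorem Q10658 : ∀ i, i < 10658 → P i := stepQ 10657 Q10657 (allL N10657 (tt N11162 (iv F67156)) (tt N10058 (iv D16544)) (tt N10062 F65374) (tt N11211 (iv F67347)) (tt N10919 (iv F66345)) (tt N10818 (iv F65988)) (tt N10920 (iv F66354)) (tt N10657 F65375) (tt N10863 (iv F66169)))
theorem Q10659 : ∀ i, i < 10659 → P i := stepQ 10658 Q10658 (allL N10658 (tt N10818 F65992) (tt N10919 (iv F66344)) (tt N10059 F65376) (tt N11240 D17127) (tt N10058 (iv D16545)) (tt N11162 (iv F67159)) (tt N10842 (iv F66082)) (tt N10658 F65377) (tt N10864 (iv F66177)))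
theorem Q10660 : ∀ i, i < 10660 → P i := stepQ 10659 Q10659 (allL N10659 (tt N11023 (iv F66743)) (tt N10792 (iv F65877)) (tt N11240 (iv F67431)) (tt N10060 (iv D16546)) (tt N11214 (iv F67351)) (tt N11228 (iv F67389)) (tt N10897 (iv F66271)) (tt N11241 D17128) (tt N11239 (iv F67430)))
theorem Q10661 : ∀ i, i < 10661 → P i := stepQ 10660 Q10660 (allL N10660 (tt N11025 (iv F66748)) (tt N10793 (iv F65882)) (tt N10660 F65378) (tt N11241 (iv F67432)) (tt N10435 F65379) (tt N11235 (iv F67411)) (tt N10911 (iv F66314)) (tt N10063 (iv D16547)) (tt N11242 D17129))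
theorem Q10662 : ∀ i, i < 10662 → P i := stepQ 10661 Q10661 (allL N10661 (tt N10612 F65380) (tt N10347 F65381) (tt N10661 F65382) (tt N11243 D17130) (tt N10346 F65383) (tt N10066 F65384) (tt N10352 F65385) (tt N10064 (iv D16548)) (tt N10939 (iv F66446)))
theorem Q10663 : ∀ i, i < 10663 → P i := stepQ 10662 Q10662 (allL N10662 (tt N10941 (iv F66452)) (tt N11021 (iv F66732)) (tt N10662 F65386) (tt N11244 D17131) (tt N10077 F65387) (tt N10939 (iv F66444)) (tt N11058 (iv F66864)) (tt N10065 (iv D16549)) (tt N10066 F65388))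
theorem Q10664 : ∀ i, i < 10664 → P i := stepQ 10663 Q10663 (allL N10663 (tt N11191 (iv F67288)) (tt N11022 (iv F66739)) (tt N11245 D17132) (tt N10066 (iv D16550)) (tt N11246 D17133) (tt N11243 (iv F67439)) (tt N11059 (iv F66867)) (tt N10069 F65389) (tt N11244 (iv F67443)))
theorem Q10665 : ∀ i, i < 10665 → P i := stepQ 10664 Q10664 (allL N10664 (tt N11065 (iv F66888)) (tt N10355 F65390) (tt N10071 F65391) (tt N11247 D17134) (tt N10365 F65392) (tt N10945 (iv F66467)) (tt N10068 F65393) (tt N10067 (iv D16551)) (tt N10477 F65394))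
theorem Q10666 : ∀ i, i < 10666 → P i := stepQ 10665 Q10665 (allL N10665 (tt N11192 (iv F67291)) (tt N10565 F65395) (tt N11248 D17135) (tt N10068 (iv D16552)) (tt N11249 D17136) (tt N10069 F65396) (tt N11247 (iv F67449)) (tt N11243 (iv F67441)) (tt N10478 F65397))
theorem Q10667 : ∀ i, i < 10667 → P i := stepQ 10666 Q10666 (allL N10666 (tt N11193 (iv F67296)) (tt N11250 D17137) (tt N10069 (iv D16553)) (tt N10073 F65398) (tt N11251 D17138) (tt N11248 (iv F67453)) (tt N11061 (iv F66873)) (tt N11245 (iv F67445)) (tt N10479 F65399))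
theorem Q10668 : ∀ i, i < 10668 → P i := stepQ 10667 Q10667 (allL N10667 (tt N11194 (iv F67299)) (tt N11051 (iv F66832)) (tt N11251 (iv F67460)) (tt N10070 F65400) (tt N10069 (iv D16554)) (tt N11252 D17139) (tt N11062 (iv F66877)) (tt N11246 (iv F67447)) (tt N10480 F65401))
theorem Q10669 : ∀ i, i < 10669 → P i := stepQ 10668 Q10668 (allL N10668 (tt N11195 (iv F67302)) (tt N11052 (iv F66835)) (tt N10808 (iv F65942)) (tt N11252 (iv F67462)) (tt N11030 (iv F66770)) (tt N10070 (iv D16555)) (tt N11253 D17140) (tt N10082 F65402) (tt N10481 F65403))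
theorem Q10670 : ∀ i, i < 10670 → P i := stepQ 10669 Q10669 (allL N10669 (tt N11180 (iv F67245)) (tt N10119 F65404) (tt N11254 D17141) (tt N10071 (iv D16556)) (tt N10717 (iv F65523)) (tt N10589 F65405) (tt N10072 F65406) (tt N10669 F65407) (tt N10482 F65408))
theorem Q10671 : ∀ i, i < 10671 → P i := stepQ 10670 Q10670 (allL N10670 (tt N11196 (iv F67305)) (tt N11255 D17142) (tt N10072 (iv D16557)) (tt N11248 (iv F67452)) (tt N11256 D17143) (tt N10073 F65409) (tt N11254 (iv F67467)) (tt N10670 F65410) (tt N10483 F65411))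
theorem Q10672 : ∀ i, i < 10672 → P i := stepQ 10671 Q10671 (allL N10671 (tt N11197 (iv F67309)) (tt N10121 F65412) (tt N11256 (iv F67476)) (tt N10594 F65413) (tt N10072 (iv D16558)) (tt N10810 (iv F65952)) (tt N10717 (iv F65525)) (tt N10671 F65414) (tt N10484 F65415))
theorem Q10673 : ∀ i, i < 10673 → P i := stepQ 10672 Q10672 (allL N10672 (tt N11257 D17144) (tt N10073 (iv D16559)) (tt N10122 F65416) (tt N11250 (iv F67458)) (tt N10811 (iv F65957)) (tt N11255 (iv F67471)) (tt N11164 (iv F67169)) (tt N10672 F65417) (tt N10485 F65418))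
theorem Q10674 : ∀ i, i < 10674 → P i := stepQ 10673 Q10673 (allL N10673 (tt N10247 F65419) (tt N10345 F65420) (tt N10673 F65421) (tt N11258 D17145) (tt N10076 F65422) (tt N10346 F65423) (tt N10377 F65424) (tt N10074 (iv D16560)) (tt N10723 (iv F65557)))
theorem Q10675 : ∀ i, i < 10675 → P i := stepQ 10674 Q10674 (allL N10674 (tt N10724 (iv F65558)) (tt N10797 (iv F65902)) (tt N10674 F65425) (tt N11259 D17146) (tt N10723 (iv F65554)) (tt N10077 F65426) (tt N10866 (iv F66187)) (tt N10075 (iv D16561)) (tt N10076 F65427))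
theorem Q10676 : ∀ i, i < 10676 → P i := stepQ 10675 Q10675 (allL N10675 (tt N10848 (iv F66108)) (tt N11009 F66692) (tt N11260 D17147) (tt N10076 (iv D16562)) (tt N11261 D17148) (tt N10078 F65428) (tt N10867 (iv F66190)) (tt N10079 F65429) (tt N11259 (iv F67490)))
theorem Q10677 : ∀ i, i < 10677 → P i := stepQ 10676 Q10676 (allL N10676 (tt N11201 (iv F67321)) (tt N11011 F66700) (tt N11262 D17149) (tt N10077 (iv D16563)) (tt N11263 D17150) (tt N11259 (iv F67488)) (tt N11090 (iv F66965)) (tt N10088 F65430) (tt N10078 F65431))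
theorem Q10678 : ∀ i, i < 10678 → P i := stepQ 10677 Q10677 (allL N10677 (tt N11202 (iv F67324)) (tt N10997 (iv F66661)) (tt N10078 (iv D16564)) (tt N10677 F65432) (tt N11264 D17151) (tt N11260 (iv F67492)) (tt N11091 (iv F66969)) (tt N10080 F65433) (tt N11262 (iv F67497)))
theorem Q10679 : ∀ i, i < 10679 → P i := stepQ 10678 Q10678 (allL N10678 (tt N11203 (iv F67327)) (tt N11013 (iv F66704)) (tt N11264 (iv F67500)) (tt N11246 (iv F67446)) (tt N10078 (iv D16565)) (tt N11265 D17152) (tt N11092 (iv F66972)) (tt N10081 F65434) (tt N11263 (iv F67499)))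
theorem Q10680 : ∀ i, i < 10680 → P i := stepQ 10679 Q10679 (allL N10679 (tt N10849 (iv F66113)) (tt N10999 (iv F66666)) (tt N10079 (iv D16566)) (tt N10083 F65435) (tt N11266 D17153) (tt N10080 F65436) (tt N10869 (iv F66199)) (tt N11260 (iv F67493)) (tt N10092 F65437))
theorem Q10681 : ∀ i, i < 10681 → P i := stepQ 10680 Q10680 (allL N10680 (tt N10850 (iv F66118)) (tt N11016 (iv F66713)) (tt N11266 (iv F67503)) (tt N10847 (iv F66104)) (tt N10079 (iv D16567)) (tt N11267 D17154) (tt N10870 (iv F66203)) (tt N11261 (iv F67494)) (tt N10093 F65438))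
theorem Q10682 : ∀ i, i < 10682 → P i := stepQ 10681 Q10681 (allL N10681 (tt N11205 (iv F67331)) (tt N11001 (iv F66671)) (tt N10081 F65439) (tt N10838 (iv F66064)) (tt N10080 (iv D16568)) (tt N11268 D17155) (tt N11095 (iv F66980)) (tt N11264 (iv F67501)) (tt N10095 F65440))
theorem Q10683 : ∀ i, i < 10683 → P i := stepQ 10682 Q10682 (allL N10682 (tt N11206 (iv F67334)) (tt N11018 (iv F66719)) (tt N11268 (iv F67507)) (tt N10082 F65441) (tt N11267 (iv F67505)) (tt N10081 (iv D16569)) (tt N11269 D17156) (tt N11265 (iv F67502)) (tt N10096 F65442))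
theorem Q10684 : ∀ i, i < 10684 → P i := stepQ 10683 Q10683 (allL N10683 (tt N11207 (iv F67337)) (tt N11081 (iv F66926)) (tt N10840 (iv F66068)) (tt N11269 (iv F67509)) (tt N11032 (iv F66777)) (tt N11097 (iv F66986)) (tt N10082 (iv D16570)) (tt N11253 (iv F67464)) (tt N10097 F65443))
theorem Q10685 : ∀ i, i < 10685 → P i := stepQ 10684 Q10684 (allL N10684 (tt N11217 (iv F67356)) (tt N11107 (iv F67007)) (tt N11270 D17157) (tt N10084 (iv D16571)) (tt N11271 D17158) (tt N10543 F65444) (tt N11109 (iv F67017)) (tt N11043 (iv F66809)) (tt N11108 (iv F67014)))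
theorem Q10686 : ∀ i, i < 10686 → P i := stepQ 10685 Q10685 (allL N10685 (tt N10822 (iv F66008)) (tt N11108 (iv F67010)) (tt N11272 D17159) (tt N10085 (iv D16572)) (tt N11273 D17160) (tt N11129 (iv F67077)) (tt N10087 F65445) (tt N10091 F65446) (tt N11107 (iv F67009)))
theorem Q10687 : ∀ i, i < 10687 → P i := stepQ 10686 Q10686 (allL N10686 (tt N11218 (iv F67360)) (tt N11109 (iv F67015)) (tt N11274 D17161) (tt N10086 (iv D16573)) (tt N11275 D17162) (tt N10088 F65447) (tt N11107 (iv F67008)) (tt N11259 (iv F67489)) (tt N10087 F65448))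
theorem Q10688 : ∀ i, i < 10688 → P i := stepQ 10687 Q10687 (allL N10687 (tt N11219 (iv F67363)) (tt N11276 D17163) (tt N10087 (iv D16574)) (tt N10105 F65449) (tt N11277 D17164) (tt N10089 F65450) (tt N11272 (iv F67517)) (tt N10092 F65451) (tt N11274 (iv F67523)))
theorem Q10689 : ∀ i, i < 10689 → P i := stepQ 10688 Q10688 (allL N10688 (tt N11220 (iv F67367)) (tt N11110 (iv F67019)) (tt N11277 (iv F67528)) (tt N11271 (iv F67515)) (tt N10087 (iv D16575)) (tt N11278 D17165) (tt N11273 (iv F67519)) (tt N10093 F65452) (tt N11275 (iv F67524)))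
theorem Q10690 : ∀ i, i < 10690 → P i := stepQ 10689 Q10689 (allL N10689 (tt N11221 (iv F67369)) (tt N11279 D17166) (tt N10088 (iv D16576)) (tt N10107 F65453) (tt N11280 D17167) (tt N11274 (iv F67522)) (tt N11133 (iv F67092)) (tt N11262 (iv F67496)) (tt N10089 F65454))
theorem Q10691 : ∀ i, i < 10691 → P i := stepQ 10690 Q10690 (allL N10690 (tt N11222 (iv F67372)) (tt N11111 (iv F67021)) (tt N11280 (iv F67534)) (tt N10549 F65455) (tt N10088 (iv D16577)) (tt N11281 D17168) (tt N11134 (iv F67096)) (tt N11263 (iv F67498)) (tt N10090 F65456))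
theorem Q10692 : ∀ i, i < 10692 → P i := stepQ 10691 Q10691 (allL N10691 (tt N11282 D17169) (tt N10089 (iv D16578)) (tt N10960 (iv F66519)) (tt N10109 F65457) (tt N11283 D17170) (tt N11276 (iv F67526)) (tt N11135 (iv F67101)) (tt N10094 F65458) (tt N11279 (iv F67533)))
theorem Q10693 : ∀ i, i < 10693 → P i := stepQ 10692 Q10692 (allL N10692 (tt N11224 (iv F67377)) (tt N11283 (iv F67540)) (tt N10090 F65459) (tt N11284 D17171) (tt N10089 (iv D16579)) (tt N11285 D17172) (tt N11136 (iv F67104)) (tt N10095 F65460) (tt N11280 (iv F67535)))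
theorem Q10694 : ∀ i, i < 10694 → P i := stepQ 10693 Q10693 (allL N10693 (tt N11225 (iv F67380)) (tt N11112 (iv F67024)) (tt N11285 (iv F67544)) (tt N10552 F65461) (tt N11278 (iv F67530)) (tt N10090 (iv D16580)) (tt N11286 D17173) (tt N10096 F65462) (tt N11281 (iv F67537)))
theorem Q10695 : ∀ i, i < 10695 → P i := stepQ 10694 Q10694 (allL N10694 (tt N10824 (iv F66017)) (tt N10779 (iv F65815)) (tt N10091 (iv D16581)) (tt N10098 F65463) (tt N11287 D17174) (tt N10781 (iv F65823)) (tt N10092 F65464) (tt N11272 (iv F67518)) (tt N10869 (iv F66200)))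
theorem Q10696 : ∀ i, i < 10696 → P i := stepQ 10695 Q10695 (allL N10695 (tt N10825 (iv F66022)) (tt N11113 (iv F67026)) (tt N11287 (iv F67548)) (tt N10819 (iv F65994)) (tt N10091 (iv D16582)) (tt N11288 D17175) (tt N10093 F65465) (tt N11273 (iv F67520)) (tt N10870 (iv F66204)))
theorem Q10697 : ∀ i, i < 10697 → P i := stepQ 10696 Q10696 (allL N10696 (tt N10792 (iv F65876)) (tt N10092 (iv D16583)) (tt N10778 (iv F65810)) (tt N10099 F65466) (tt N11289 D17176) (tt N10094 F65467) (tt N10779 (iv F65818)) (tt N11276 (iv F67527)) (tt N10999 (iv F66669)))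
theorem Q10698 : ∀ i, i < 10698 → P i := stepQ 10697 Q10697 (allL N10697 (tt N11226 (iv F67383)) (tt N11289 (iv F67550)) (tt N10093 F65468) (tt N11290 D17177) (tt N10092 (iv D16584)) (tt N11291 D17178) (tt N11287 (iv F67549)) (tt N11277 (iv F67529)) (tt N11266 (iv F67504)))
theorem Q10699 : ∀ i, i < 10699 → P i := stepQ 10698 Q10698 (allL N10698 (tt N11227 (iv F67385)) (tt N11114 (iv F67028)) (tt N11291 (iv F67552)) (tt N11048 (iv F66825)) (tt N10096 F65469) (tt N10093 (iv D16585)) (tt N11292 D17179) (tt N11278 (iv F67531)) (tt N11267 (iv F67506)))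
theorem Q10700 : ∀ i, i < 10700 → P i := stepQ 10699 Q10699 (allL N10699 (tt N10094 (iv D16586)) (tt N11228 (iv F67387)) (tt N10856 (iv F66143)) (tt N10101 F65470) (tt N11293 D17180) (tt N10792 (iv F65879)) (tt N10857 (iv F66150)) (tt N11282 (iv F67539)) (tt N10989 (iv F66631)))
theorem Q10701 : ∀ i, i < 10701 → P i := stepQ 10700 Q10700 (allL N10700 (tt N11293 (iv F67555)) (tt N10095 F65471) (tt N10961 (iv F66523)) (tt N10901 (iv F66278)) (tt N10094 (iv D16587)) (tt N11294 D17181) (tt N11141 (iv F67116)) (tt N11283 (iv F67541)) (tt N11001 (iv F66673)))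
theorem Q10702 : ∀ i, i < 10702 → P i := stepQ 10701 Q10701 (allL N10701 (tt N11230 (iv F67391)) (tt N11294 (iv F67556)) (tt N10096 F65472) (tt N10902 (iv F66280)) (tt N11291 (iv F67553)) (tt N10095 (iv D16588)) (tt N11295 D17182) (tt N11285 (iv F67545)) (tt N11268 (iv F67508)))
theorem Q10703 : ∀ i, i < 10703 → P i := stepQ 10702 Q10702 (allL N10702 (tt N11231 (iv F67393)) (tt N11115 (iv F67030)) (tt N11295 (iv F67557)) (tt N10097 F65473) (tt N11292 (iv F67554)) (tt N11143 (iv F67120)) (tt N10096 (iv D16589)) (tt N11286 (iv F67547)) (tt N11269 (iv F67510)))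
theorem Q10704 : ∀ i, i < 10704 → P i := stepQ 10703 Q10703 (allL N10703 (tt N10924 (iv F66374)) (tt N10764 (iv F65757)) (tt N10752 (iv F65700)) (tt N10100 (iv D16590)) (tt N11290 (iv F67551)) (tt N10757 (iv F65727)) (tt N10927 (iv F66393)) (tt N11296 D17183) (tt N10973 (iv F66570)))
theorem Q10705 : ∀ i, i < 10705 → P i := stepQ 10704 Q10704 (allL N10704 (tt N10283 F65474) (tt N10773 (iv F65792)) (tt N10102 (iv D16591)) (tt N11270 (iv F67512)) (tt N10178 F65475) (tt N10564 F65476) (tt N10965 (iv F66542)) (tt N10117 F65477) (tt N10766 (iv F65767)))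
theorem Q10706 : ∀ i, i < 10706 → P i := stepQ 10705 Q10705 (allL N10705 (tt N10934 (iv F66418)) (tt N10709 (iv F65494)) (tt N10103 (iv D16592)) (tt N11272 (iv F67516)) (tt N10708 F65492) (tt N10787 (iv F65846)) (tt N10105 F65478) (tt N10111 F65479) (tt N11161 (iv F67155)))
theorem Q10707 : ∀ i, i < 10707 → P i := stepQ 10706 Q10706 (allL N10706 (tt N11232 (iv F67395)) (tt N11297 D17184) (tt N10104 (iv D16593)) (tt N11274 (iv F67521)) (tt N11298 D17185) (tt N10107 F65480) (tt N11161 (iv F67153)) (tt N10706 F65481) (tt N10105 F65482))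
theorem Q10708 : ∀ i, i < 10708 → P i := stepQ 10707 Q10707 (allL N10707 (tt N10308 F65483) (tt N10124 F65484) (tt N11298 (iv F67573)) (tt N10189 F65485) (tt N10104 (iv D16594)) (tt N10190 F65486) (tt N10719 (iv F65534)) (tt N10707 F65487) (tt N10106 F65488))
theorem Q10709 : ∀ i, i < 10709 → P i := stepQ 10708 Q10708 (allL N10708 (tt N10793 (iv F65881)) (tt N10105 (iv D16595)) (tt N10125 F65489) (tt N11276 (iv F67525)) (tt N10705 (iv F65492)) (tt N10109 F65490) (tt N10709 (iv F65497)) (tt N10112 F65491) (tt N11297 (iv F67568)))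
theorem Q10710 : ∀ i, i < 10710 → P i := stepQ 10709 Q10709 (allL N10709 (tt N10309 F65493) (tt N10705 F65494) (tt N10106 F65495) (tt N11299 D17186) (tt N10105 (iv D16596)) (tt N10191 F65496) (tt N10708 F65497) (tt N10113 F65498) (tt N11298 (iv F67577)))
theorem Q10711 : ∀ i, i < 10711 → P i := stepQ 10710 Q10710 (allL N10710 (tt N11300 D17187) (tt N10107 (iv D16597)) (tt N10126 F65499) (tt N11279 (iv F67532)) (tt N11301 D17188) (tt N11297 (iv F67566)) (tt N10809 (iv F65947)) (tt N10710 F65500) (tt N10109 F65501))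
theorem Q10712 : ∀ i, i < 10712 → P i := stepQ 10711 Q10711 (allL N10711 (tt N11234 (iv F67403)) (tt N11301 (iv F67588)) (tt N10108 F65502) (tt N11302 D17189) (tt N10107 (iv D16598)) (tt N10572 (iv F65505)) (tt N11173 (iv F67213)) (tt N10711 F65503) (tt N10110 F65504))
theorem Q10713 : ∀ i, i < 10713 → P i := stepQ 10712 Q10712 (allL N10712 (tt N10109 (iv D16599)) (tt N11235 (iv F67409)) (tt N10128 F65506) (tt N11282 (iv F67538)) (tt N11303 D17190) (tt N10793 (iv F65884)) (tt N10904 (iv F66284)) (tt N10114 F65507) (tt N11300 (iv F67587)))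
theorem Q10714 : ∀ i, i < 10714 → P i := stepQ 10713 Q10713 (allL N10713 (tt N11303 (iv F67596)) (tt N10110 F65508) (tt N10129 F65509) (tt N11304 D17191) (tt N10109 (iv D16600)) (tt N11053 (iv F66839)) (tt N11174 (iv F67219)) (tt N10115 F65510) (tt N11301 (iv F67592)))
theorem Q10715 : ∀ i, i < 10715 → P i := stepQ 10714 Q10714 (allL N10714 (tt N11237 (iv F67418)) (tt N11304 (iv F67599)) (tt N10565 F65511) (tt N10110 (iv D16601)) (tt N11284 (iv F67543)) (tt N11050 (iv F66830)) (tt N11175 (iv F67223)) (tt N10916 (iv F66331)) (tt N11302 (iv F67595)))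
theorem Q10716 : ∀ i, i < 10716 → P i := stepQ 10715 Q10715 (allL N10715 (tt N10115 F65512) (tt N11238 (iv F67424)) (tt N10130 F65513) (tt N10917 (iv F66334)) (tt N10114 (iv D16602)) (tt N11179 (iv F67242)) (tt N10908 (iv F66301)) (tt N11303 (iv F67598)) (tt N10715 F65514))
theorem Q10717 : ∀ i, i < 10717 → P i := stepQ 10716 Q10716 (allL N10716 (tt N10199 F65515) (tt N10343 F65516) (tt N10118 F65517) (tt N11296 (iv F67561)) (tt N10186 F65518) (tt N10342 F65519) (tt N10200 F65520) (tt N10116 (iv D16603)) (tt N10458 (iv F65521)))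
theorem Q10718 : ∀ i, i < 10718 → P i := stepQ 10717 Q10717 (allL N10717 (tt N11305 D17192) (tt N10120 (iv D16604)) (tt N11255 (iv F67470)) (tt N10129 F65522) (tt N10669 F65523) (tt N10122 F65524) (tt N10671 F65525) (tt N10717 F65526) (tt N10574 F65527))
theorem Q10719 : ∀ i, i < 10719 → P i := stepQ 10718 Q10718 (allL N10718 (tt N10122 (iv D16605)) (tt N10718 F65528) (tt N11257 (iv F67480)) (tt N11163 (iv F67164)) (tt N10921 (iv F66359)) (tt N11305 (iv F67603)) (tt N11165 (iv F67174)) (tt N10718 F65529) (tt N10575 F65530))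
theorem Q10720 : ∀ i, i < 10720 → P i := stepQ 10719 Q10719 (allL N10719 (tt N10610 (iv F65537)) (tt N10123 (iv D16606)) (tt N11297 (iv F67565)) (tt N10562 F65531) (tt N10559 F65532) (tt N10126 F65533) (tt N10707 F65534) (tt N10719 F65535) (tt N10125 F65536))
theorem Q10721 : ∀ i, i < 10721 → P i := stepQ 10720 Q10720 (allL N10720 (tt N10126 (iv D16607)) (tt N10720 F65538) (tt N11300 (iv F67584)) (tt N10599 F65539) (tt N11306 D17193) (tt N10610 F65540) (tt N10730 (iv F65590)) (tt N10720 F65541) (tt N10128 F65542))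
theorem Q10722 : ∀ i, i < 10722 → P i := stepQ 10721 Q10721 (allL N10721 (tt N11306 (iv F67607)) (tt N10127 F65543) (tt N11301 (iv F67589)) (tt N10574 F65544) (tt N10126 (iv D16608)) (tt N10573 F65545) (tt N10810 (iv F65953)) (tt N10721 F65546) (tt N10129 F65547))
theorem Q10723 : ∀ i, i < 10723 → P i := stepQ 10722 Q10722 (allL N10722 (tt N10129 F65548) (tt N10722 F65549) (tt N11303 (iv F67597)) (tt N11305 (iv F67601)) (tt N10128 (iv D16609)) (tt N11163 (iv F67165)) (tt N10905 (iv F66288)) (tt N10130 F65550) (tt N11306 (iv F67612)))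
theorem Q10724 : ∀ i, i < 10724 → P i := stepQ 10723 Q10723 (allL N10723 (tt N10133 F65551) (tt N10208 F65552) (tt N10723 F65553) (tt N11307 D17194) (tt N10674 F65554) (tt N10350 F65555) (tt N10443 F65556) (tt N10131 (iv D16610)) (tt N10673 F65557))
theorem Q10725 : ∀ i, i < 10725 → P i := stepQ 10724 Q10724 (allL N10724 (tt N10674 F65558) (tt N10136 F65559) (tt N10724 F65560) (tt N11308 D17195) (tt N10133 F65561) (tt N10622 F65562) (tt N10276 F65563) (tt N10132 (iv D16611)) (tt N10252 F65564))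
theorem Q10726 : ∀ i, i < 10726 → P i := stepQ 10725 Q10725 (allL N10725 (tt N11307 (iv F67613)) (tt N10137 F65565) (tt N11309 D17196) (tt N10133 (iv D16612)) (tt N11310 D17197) (tt N10353 F65566) (tt N11035 (iv F66789)) (tt N10149 F65567) (tt N10843 (iv F66089)))
theorem Q10727 : ∀ i, i < 10727 → P i := stepQ 10726 Q10726 (allL N10726 (tt N10213 F65568) (tt N10635 F65569) (tt N10726 F65570) (tt N11311 D17198) (tt N10152 F65571) (tt N10628 F65572) (tt N10238 F65573) (tt N10134 (iv D16613)) (tt N10223 F65574))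
theorem Q10728 : ∀ i, i < 10728 → P i := stepQ 10727 Q10727 (allL N10727 (tt N10215 F65575) (tt N10622 F65576) (tt N10138 F65577) (tt N11312 D17199) (tt N10356 F65578) (tt N10136 F65579) (tt N11064 (iv F66886)) (tt N10135 (iv D16614)) (tt N10256 F65580))
theorem Q10729 : ∀ i, i < 10729 → P i := stepQ 10728 Q10728 (allL N10728 (tt N10216 F65581) (tt N11308 (iv F67620)) (tt N11313 D17200) (tt N10136 (iv D16615)) (tt N11314 D17201) (tt N11312 (iv F67639)) (tt N10287 F65582) (tt N11311 (iv F67635)) (tt N10257 F65583))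
theorem Q10730 : ∀ i, i < 10730 → P i := stepQ 10729 Q10729 (allL N10729 (tt N10217 F65584) (tt N11310 (iv F67629)) (tt N10617 F65585) (tt N11314 (iv F67647)) (tt N10137 (iv D16616)) (tt N11315 D17202) (tt N11046 (iv F66820)) (tt N10155 F65586) (tt N10922 (iv F66368)))
theorem Q10731 : ∀ i, i < 10731 → P i := stepQ 10730 Q10730 (allL N10730 (tt N10219 F65587) (tt N10730 F65588) (tt N11316 D17203) (tt N10138 (iv D16617)) (tt N11317 D17204) (tt N10139 F65589) (tt N10720 F65590) (tt N10730 F65591) (tt N10300 F65592))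
theorem Q10732 : ∀ i, i < 10732 → P i := stepQ 10731 Q10731 (allL N10731 (tt N10220 F65593) (tt N11318 D17205) (tt N10139 (iv D16618)) (tt N11313 (iv F67643)) (tt N10619 F65594) (tt N11316 (iv F67655)) (tt N10310 F65595) (tt N10731 F65596) (tt N10301 F65597))
theorem Q10733 : ∀ i, i < 10733 → P i := stepQ 10732 Q10732 (allL N10732 (tt N10221 F65598) (tt N10378 F65599) (tt N10227 F65600) (tt N10140 (iv D16619)) (tt N11319 D17206) (tt N10144 F65601) (tt N10361 F65602) (tt N11044 (iv F66815)) (tt N10160 F65603))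
theorem Q10734 : ∀ i, i < 10734 → P i := stepQ 10733 Q10733 (allL N10733 (tt N10446 F65604) (tt N10144 F65605) (tt N11320 D17207) (tt N10141 (iv D16620)) (tt N11321 D17208) (tt N10378 F65606) (tt N10149 F65607) (tt N11035 (iv F66790)) (tt N10163 F65608))
theorem Q10735 : ∀ i, i < 10735 → P i := stepQ 10734 Q10734 (allL N10734 (tt N10223 F65609) (tt N10385 F65610) (tt N10734 F65611) (tt N11322 D17209) (tt N10238 F65612) (tt N10381 F65613) (tt N10152 F65614) (tt N10142 (iv D16621)) (tt N10213 F65615))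
theorem Q10736 : ∀ i, i < 10736 → P i := stepQ 10735 Q10735 (allL N10735 (tt N10224 F65616) (tt N10388 F65617) (tt N11323 D17210) (tt N10143 (iv D16622)) (tt N11324 D17211) (tt N10382 F65618) (tt N10154 F65619) (tt N11322 (iv F67692)) (tt N10164 F65620))
theorem Q10737 : ∀ i, i < 10737 → P i := stepQ 10736 Q10736 (allL N10736 (tt N10225 F65621) (tt N11321 (iv F67684)) (tt N10490 F65622) (tt N11324 (iv F67702)) (tt N10144 (iv D16623)) (tt N11325 D17212) (tt N10155 F65623) (tt N11046 (iv F66821)) (tt N10165 F65624))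
theorem Q10738 : ∀ i, i < 10738 → P i := stepQ 10737 Q10737 (allL N10737 (tt N10226 F65625) (tt N10567 F65626) (tt N10145 (iv D16624)) (tt N11323 (iv F67696)) (tt N10566 F65627) (tt N10429 F65628) (tt N10157 F65629) (tt N10737 F65630) (tt N10166 F65631))
theorem Q10739 : ∀ i, i < 10739 → P i := stepQ 10738 Q10738 (allL N10738 (tt N10149 F65632) (tt N10227 F65633) (tt N11326 D17213) (tt N10146 (iv D16625)) (tt N11327 D17214) (tt N10364 F65634) (tt N10446 F65635) (tt N11307 (iv F67617)) (tt N10169 F65636))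
theorem Q10740 : ∀ i, i < 10740 → P i := stepQ 10739 Q10739 (allL N10739 (tt N10511 F65637) (tt N10152 F65638) (tt N10420 F65639) (tt N11328 D17215) (tt N10635 F65640) (tt N10407 F65641) (tt N10385 F65642) (tt N10147 (iv D16626)) (tt N10634 F65643))
theorem Q10741 : ∀ i, i < 10741 → P i := stepQ 10740 Q10740 (allL N10740 (tt N10516 F65644) (tt N10154 F65645) (tt N10506 F65646) (tt N10148 (iv D16627)) (tt N11329 D17216) (tt N10413 F65647) (tt N10388 F65648) (tt N11328 (iv F67724)) (tt N10173 F65649))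
theorem Q10742 : ∀ i, i < 10742 → P i := stepQ 10741 Q10741 (allL N10741 (tt N11326 (iv F67708)) (tt N10620 F65650) (tt N10149 (iv D16628)) (tt N10196 F65651) (tt N11330 D17217) (tt N10367 F65652) (tt N11320 (iv F67681)) (tt N11309 (iv F67628)) (tt N10174 F65653))
theorem Q10743 : ∀ i, i < 10743 → P i := stepQ 10742 Q10742 (allL N10742 (tt N11327 (iv F67714)) (tt N10155 F65654) (tt N11330 (iv F67733)) (tt N11329 (iv F67729)) (tt N10149 (iv D16629)) (tt N11331 D17218) (tt N11321 (iv F67686)) (tt N11310 (iv F67630)) (tt N10175 F65655))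
theorem Q10744 : ∀ i, i < 10744 → P i := stepQ 10743 Q10743 (allL N10743 (tt N10237 F65656) (tt N10407 F65657) (tt N10743 F65658) (tt N11332 D17219) (tt N10994 (iv F66652)) (tt N10152 F65659) (tt N10398 F65660) (tt N10150 (iv D16630)) (tt N10993 (iv F66648)))
theorem Q10745 : ∀ i, i < 10745 → P i := stepQ 10744 Q10744 (allL N10744 (tt N10238 F65661) (tt N10634 F65662) (tt N10744 F65663) (tt N11333 D17220) (tt N10223 F65664) (tt N10993 (iv F66647)) (tt N10213 F65665) (tt N10151 (iv D16631)) (tt N10152 F65666))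
theorem Q10746 : ∀ i, i < 10746 → P i := stepQ 10745 Q10745 (allL N10745 (tt N10239 F65667) (tt N11328 (iv F67720)) (tt N11334 D17221) (tt N10152 (iv D16632)) (tt N11335 D17222) (tt N11332 (iv F67740)) (tt N11322 (iv F67691)) (tt N10154 F65668) (tt N11333 (iv F67747)))
theorem Q10747 : ∀ i, i < 10747 → P i := stepQ 10746 Q10746 (allL N10746 (tt N10241 F65669) (tt N10413 F65670) (tt N11336 D17223) (tt N10153 (iv D16633)) (tt N11337 D17224) (tt N10154 F65671) (tt N10401 F65672) (tt N11332 (iv F67742)) (tt N10182 F65673))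
theorem Q10748 : ∀ i, i < 10748 → P i := stepQ 10747 Q10747 (allL N10747 (tt N10242 F65674) (tt N11338 D17225) (tt N10154 (iv D16634)) (tt N10157 F65675) (tt N11339 D17226) (tt N11336 (iv F67756)) (tt N11323 (iv F67698)) (tt N11334 (iv F67750)) (tt N10183 F65676))
theorem Q10749 : ∀ i, i < 10749 → P i := stepQ 10748 Q10748 (allL N10748 (tt N10243 F65677) (tt N11329 (iv F67727)) (tt N11339 (iv F67771)) (tt N10155 F65678) (tt N10154 (iv D16635)) (tt N11340 D17227) (tt N11324 (iv F67703)) (tt N11335 (iv F67752)) (tt N10184 F65679))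
theorem Q10750 : ∀ i, i < 10750 → P i := stepQ 10749 Q10749 (allL N10749 (tt N10244 F65680) (tt N11331 (iv F67735)) (tt N10626 F65681) (tt N11340 (iv F67775)) (tt N10376 F65682) (tt N10155 (iv D16636)) (tt N11341 D17228) (tt N11315 (iv F67653)) (tt N10185 F65683))
theorem Q10751 : ∀ i, i < 10751 → P i := stepQ 10750 Q10750 (allL N10750 (tt N10245 F65684) (tt N10324 F65685) (tt N10156 (iv D16637)) (tt N11336 (iv F67755)) (tt N10458 F65686) (tt N10157 F65687) (tt N10432 F65688) (tt N10750 F65689) (tt N10186 F65690))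
theorem Q10752 : ∀ i, i < 10752 → P i := stepQ 10751 Q10751 (allL N10751 (tt N10326 (iv F65697)) (tt N10157 (iv D16638)) (tt N10198 F65691) (tt N11338 (iv F67765)) (tt N10627 F65692) (tt N10324 F65693) (tt N10567 F65694) (tt N10751 F65695) (tt N10187 F65696))
theorem Q10753 : ∀ i, i < 10753 → P i := stepQ 10752 Q10752 (allL N10752 (tt N10334 F65698) (tt N10160 F65699) (tt N10703 F65700) (tt N10158 (iv D16639)) (tt N11342 D17229) (tt N10163 F65701) (tt N10336 F65702) (tt N10756 (iv F65723)) (tt N10378 F65703))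
theorem Q10754 : ∀ i, i < 10754 → P i := stepQ 10753 Q10753 (allL N10753 (tt N10248 F65704) (tt N10361 F65705) (tt N11343 D17230) (tt N10159 (iv D16640)) (tt N11344 D17231) (tt N10362 F65706) (tt N10378 F65707) (tt N11258 (iv F67487)) (tt N10336 F65708))
theorem Q10755 : ∀ i, i < 10755 → P i := stepQ 10754 Q10754 (allL N10754 (tt N10249 F65709) (tt N11342 (iv F67782)) (tt N10271 F65710) (tt N11344 (iv F67795)) (tt N10160 (iv D16641)) (tt N11345 D17232) (tt N10379 F65711) (tt N10847 (iv F66106)) (tt N11319 (iv F67676)))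
theorem Q10756 : ∀ i, i < 10756 → P i := stepQ 10755 Q10755 (allL N10755 (tt N10250 F65712) (tt N10458 F65713) (tt N10161 (iv D16642)) (tt N11343 (iv F67789)) (tt N10324 F65714) (tt N10427 F65715) (tt N10380 F65716) (tt N10755 F65717) (tt N10343 F65718))
theorem Q10757 : ∀ i, i < 10757 → P i := stepQ 10756 Q10756 (allL N10756 (tt N10163 F65719) (tt N10251 F65720) (tt N11296 (iv F67560)) (tt N10162 (iv D16643)) (tt N11346 D17233) (tt N10334 F65721) (tt N10169 F65722) (tt N10752 F65723) (tt N10446 F65724))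
theorem Q10758 : ∀ i, i < 10758 → P i := stepQ 10757 Q10757 (allL N10757 (tt N11296 (iv F67558)) (tt N10394 F65725) (tt N10163 (iv D16644)) (tt N10199 F65726) (tt N11347 D17234) (tt N10703 F65727) (tt N10174 F65728) (tt N10924 (iv F66378)) (tt N11320 (iv F67682)))
theorem Q10759 : ∀ i, i < 10759 → P i := stepQ 10758 Q10758 (allL N10758 (tt N11346 (iv F67801)) (tt N10165 F65729) (tt N11347 (iv F67808)) (tt N10554 F65730) (tt N10163 (iv D16645)) (tt N11348 D17235) (tt N10175 F65731) (tt N10925 (iv F66383)) (tt N11321 (iv F67687)))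
theorem Q10760 : ∀ i, i < 10760 → P i := stepQ 10759 Q10759 (allL N10759 (tt N10260 F65732) (tt N10537 F65733) (tt N10164 (iv D16646)) (tt N10166 F65734) (tt N11349 D17236) (tt N10539 F65735) (tt N10183 F65736) (tt N11028 (iv F66762)) (tt N11323 (iv F67699)))
theorem Q10761 : ∀ i, i < 10761 → P i := stepQ 10760 Q10760 (allL N10760 (tt N10261 F65737) (tt N10554 F65738) (tt N11349 (iv F67815)) (tt N10165 F65739) (tt N10164 (iv D16647)) (tt N11350 D17237) (tt N10184 F65740) (tt N11029 (iv F66767)) (tt N11324 (iv F67704)))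
theorem Q10762 : ∀ i, i < 10762 → P i := stepQ 10761 Q10761 (allL N10761 (tt N10262 F65741) (tt N11348 (iv F67811)) (tt N10528 F65742) (tt N11350 (iv F67820)) (tt N11345 (iv F67800)) (tt N10165 (iv D16648)) (tt N11351 D17238) (tt N10926 (iv F66388)) (tt N11325 (iv F67707)))
theorem Q10763 : ∀ i, i < 10763 → P i := stepQ 10762 Q10762 (allL N10762 (tt N10171 F65743) (tt N10268 F65744) (tt N10422 F65745) (tt N11352 D17239) (tt N10451 F65746) (tt N10501 F65747) (tt N10423 F65748) (tt N10167 (iv D16649)) (tt N10450 F65749))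
theorem Q10764 : ∀ i, i < 10764 → P i := stepQ 10763 Q10763 (allL N10763 (tt N10173 F65750) (tt N10270 F65751) (tt N10413 F65752) (tt N10168 (iv D16650)) (tt N11353 D17240) (tt N10506 F65753) (tt N10414 F65754) (tt N11352 (iv F67830)) (tt N10516 F65755))
theorem Q10765 : ∀ i, i < 10765 → P i := stepQ 10764 Q10764 (allL N10764 (tt N10174 F65756) (tt N10703 F65757) (tt N10169 (iv D16651)) (tt N10200 F65758) (tt N11354 D17241) (tt N10394 F65759) (tt N11296 (iv F67563)) (tt N10927 (iv F66394)) (tt N11326 (iv F67713)))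
theorem Q10766 : ∀ i, i < 10766 → P i := stepQ 10765 Q10765 (allL N10765 (tt N10175 F65760) (tt N10271 F65761) (tt N11354 (iv F67840)) (tt N11353 (iv F67835)) (tt N10169 (iv D16652)) (tt N11355 D17242) (tt N11346 (iv F67804)) (tt N10928 (iv F66397)) (tt N11327 (iv F67718)))
theorem Q10767 : ∀ i, i < 10767 → P i := stepQ 10766 Q10766 (allL N10766 (tt N10501 F65762) (tt N10178 F65763) (tt N10560 F65764) (tt N11356 D17243) (tt N10773 (iv F65794)) (tt N10171 F65765) (tt N10371 F65766) (tt N10170 (iv D16653)) (tt N10704 F65767))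
theorem Q10768 : ∀ i, i < 10768 → P i := stepQ 10767 Q10767 (allL N10767 (tt N11352 (iv F67825)) (tt N10180 F65768) (tt N10544 F65769) (tt N10171 (iv D16654)) (tt N11357 D17244) (tt N11356 (iv F67848)) (tt N10546 F65770) (tt N10173 F65771) (tt N11144 (iv F67124)))
theorem Q10769 : ∀ i, i < 10769 → P i := stepQ 10768 Q10768 (allL N10768 (tt N10506 F65772) (tt N10182 F65773) (tt N10516 F65774) (tt N10172 (iv D16655)) (tt N11358 D17245) (tt N10173 F65775) (tt N10374 F65776) (tt N11356 (iv F67850)) (tt N10413 F65777))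
theorem Q10770 : ∀ i, i < 10770 → P i := stepQ 10769 Q10769 (allL N10769 (tt N11353 (iv F67832)) (tt N10184 F65778) (tt N10553 F65779) (tt N10175 F65780) (tt N10173 (iv D16656)) (tt N11359 D17246) (tt N10554 F65781) (tt N11357 (iv F67855)) (tt N11329 (iv F67731)))
theorem Q10771 : ∀ i, i < 10771 → P i := stepQ 10770 Q10770 (allL N10770 (tt N11354 (iv F67838)) (tt N10632 F65782) (tt N10175 F65783) (tt N11360 D17247) (tt N10174 (iv D16657)) (tt N11361 D17248) (tt N11347 (iv F67810)) (tt N10929 (iv F66400)) (tt N11330 (iv F67734)))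
theorem Q10772 : ∀ i, i < 10772 → P i := stepQ 10771 Q10771 (allL N10771 (tt N11355 (iv F67842)) (tt N10185 F65784) (tt N11361 (iv F67871)) (tt N11359 (iv F67864)) (tt N10405 F65785) (tt N10175 (iv D16658)) (tt N11362 D17249) (tt N10930 (iv F66403)) (tt N11331 (iv F67737)))
theorem Q10773 : ∀ i, i < 10773 → P i := stepQ 10772 Q10772 (allL N10772 (tt N10284 F65786) (tt N10371 F65787) (tt N10188 F65788) (tt N11363 D17250) (tt N10965 (iv F66540)) (tt N10365 F65789) (tt N10178 F65790) (tt N10176 (iv D16659)) (tt N10964 (iv F66536)))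
theorem Q10774 : ∀ i, i < 10774 → P i := stepQ 10773 Q10773 (allL N10773 (tt N10285 F65791) (tt N10704 F65792) (tt N10189 F65793) (tt N11364 D17251) (tt N10766 F65794) (tt N10179 F65795) (tt N10964 (iv F66535)) (tt N10177 (iv D16660)) (tt N10178 F65796))
theorem Q10775 : ∀ i, i < 10775 → P i := stepQ 10774 Q10774 (allL N10774 (tt N10286 F65797) (tt N11356 (iv F67846)) (tt N11299 (iv F67580)) (tt N10178 (iv D16661)) (tt N11365 D17252) (tt N10180 F65798) (tt N11363 (iv F67879)) (tt N10182 F65799) (tt N11364 (iv F67884)))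
theorem Q10776 : ∀ i, i < 10776 → P i := stepQ 10775 Q10775 (allL N10775 (tt N10287 F65800) (tt N11144 F67125) (tt N11366 D17253) (tt N10179 (iv D16662)) (tt N11367 D17254) (tt N11364 (iv F67883)) (tt N10216 F65801) (tt N11333 (iv F67746)) (tt N10180 F65802))
theorem Q10777 : ∀ i, i < 10777 → P i := stepQ 10776 Q10776 (allL N10776 (tt N10288 F65803) (tt N11368 D17255) (tt N10180 (iv D16663)) (tt N10191 F65804) (tt N11369 D17256) (tt N11299 (iv F67581)) (tt N11028 (iv F66761)) (tt N10183 F65805) (tt N11366 (iv F67890)))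
theorem Q10778 : ∀ i, i < 10778 → P i := stepQ 10777 Q10777 (allL N10777 (tt N10289 F65806) (tt N11357 (iv F67852)) (tt N11369 (iv F67901)) (tt N10931 (iv F66406)) (tt N10180 (iv D16664)) (tt N11370 D17257) (tt N11029 (iv F66766)) (tt N10184 F65807) (tt N11367 (iv F67894)))
theorem Q10779 : ∀ i, i < 10779 → P i := stepQ 10778 Q10778 (allL N10778 (tt N10290 F65808) (tt N10374 F65809) (tt N10696 F65810) (tt N10181 (iv D16665)) (tt N11371 D17258) (tt N10366 F65811) (tt N10182 F65812) (tt N11363 (iv F67880)) (tt N10401 F65813))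
theorem Q10780 : ∀ i, i < 10780 → P i := stepQ 10779 Q10779 (allL N10779 (tt N10291 F65814) (tt N10694 F65815) (tt N10182 (iv D16666)) (tt N10186 F65816) (tt N11372 D17259) (tt N10183 F65817) (tt N10696 F65818) (tt N11299 (iv F67583)) (tt N11336 (iv F67758)))
theorem Q10781 : ∀ i, i < 10781 → P i := stepQ 10780 Q10780 (allL N10780 (tt N10292 F65819) (tt N11358 (iv F67857)) (tt N11372 (iv F67913)) (tt N10415 F65820) (tt N10182 (iv D16667)) (tt N11373 D17260) (tt N11371 (iv F67909)) (tt N11365 (iv F67886)) (tt N11337 (iv F67763)))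
theorem Q10782 : ∀ i, i < 10782 → P i := stepQ 10781 Q10781 (allL N10781 (tt N11374 D17261) (tt N10183 (iv D16668)) (tt N10536 F65821) (tt N10187 F65822) (tt N11375 D17262) (tt N10694 F65823) (tt N10537 F65824) (tt N11368 (iv F67899)) (tt N11338 (iv F67768)))
theorem Q10783 : ∀ i, i < 10783 → P i := stepQ 10782 Q10782 (allL N10782 (tt N10294 F65825) (tt N11375 (iv F67924)) (tt N10184 F65826) (tt N10643 F65827) (tt N10183 (iv D16669)) (tt N11376 D17263) (tt N11349 (iv F67817)) (tt N11369 (iv F67902)) (tt N11339 (iv F67773)))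
theorem Q10784 : ∀ i, i < 10784 → P i := stepQ 10783 Q10783 (allL N10783 (tt N10295 F65828) (tt N11359 (iv F67862)) (tt N11376 (iv F67929)) (tt N10185 F65829) (tt N11373 (iv F67917)) (tt N10184 (iv D16670)) (tt N11377 D17264) (tt N11370 (iv F67904)) (tt N11340 (iv F67776)))
theorem Q10785 : ∀ i, i < 10785 → P i := stepQ 10784 Q10784 (allL N10784 (tt N10296 F65830) (tt N11362 (iv F67873)) (tt N10645 F65831) (tt N11377 (iv F67932)) (tt N10418 F65832) (tt N11351 (iv F67824)) (tt N10185 (iv D16671)) (tt N10933 (iv F66417)) (tt N11341 (iv F67780)))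
theorem Q10786 : ∀ i, i < 10786 → P i := stepQ 10785 Q10785 (allL N10785 (tt N10187 (iv D16672)) (tt N10298 F65833) (tt N10202 F65834) (tt N11374 (iv F67920)) (tt N10646 F65835) (tt N10318 F65836) (tt N10569 F65837) (tt N10193 F65838) (tt N10326 F65839))
theorem Q10787 : ∀ i, i < 10787 → P i := stepQ 10786 Q10786 (allL N10786 (tt N10310 F65840) (tt N11172 (iv F67206)) (tt N10190 (iv D16673)) (tt N11366 (iv F67888)) (tt N10572 F65841) (tt N11298 (iv F67574)) (tt N10220 F65842) (tt N10786 F65843) (tt N10191 F65844))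
theorem Q10788 : ∀ i, i < 10788 → P i := stepQ 10787 Q10787 (allL N10787 (tt N11378 D17265) (tt N10191 (iv D16674)) (tt N10586 F65845) (tt N11368 (iv F67896)) (tt N11053 (iv F66838)) (tt N10705 F65846) (tt N10587 F65847) (tt N10192 F65848) (tt N11172 (iv F67211)))
theorem Q10789 : ∀ i, i < 10789 → P i := stepQ 10788 Q10788 (allL N10788 (tt N10192 (iv D16675)) (tt N10315 F65849) (tt N10582 F65850) (tt N10193 F65851) (tt N11179 (iv F67241)) (tt N10344 F65852) (tt N10583 F65853) (tt N11378 (iv F67937)) (tt N10788 F65854))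
theorem Q10790 : ∀ i, i < 10790 → P i := stepQ 10789 Q10789 (allL N10789 (tt N10458 F65855) (tt N10428 F65856) (tt N10194 (iv D16676)) (tt N11320 (iv F67679)) (tt N10245 F65857) (tt N10380 F65858) (tt N10196 F65859) (tt N10789 F65860) (tt N10199 F65861))
theorem Q10791 : ∀ i, i < 10791 → P i := stepQ 10790 Q10790 (allL N10790 (tt N10196 F65862) (tt N10380 F65863) (tt N10195 (iv D16677)) (tt N11326 (iv F67710)) (tt N10432 F65864) (tt N10428 F65865) (tt N10458 F65866) (tt N10790 F65867) (tt N10200 F65868))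
theorem Q10792 : ∀ i, i < 10792 → P i := stepQ 10791 Q10791 (allL N10791 (tt N10432 F65869) (tt N10656 F65870) (tt N10197 F65871) (tt N11379 D17266) (tt N10196 (iv D16678)) (tt N10431 (iv F65875)) (tt N10245 F65872) (tt N10791 F65873) (tt N10201 F65874))
theorem Q10793 : ∀ i, i < 10793 → P i := stepQ 10792 Q10792 (allL N10792 (tt N10696 F65876) (tt N10659 F65877) (tt N10290 F65878) (tt N10201 (iv D16679)) (tt N11360 (iv F67868)) (tt N10699 F65879) (tt N10291 F65880) (tt N11380 D17267) (tt N11379 (iv F67943)))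
theorem Q10794 : ∀ i, i < 10794 → P i := stepQ 10793 Q10793 (allL N10793 (tt N10708 F65881) (tt N10660 F65882) (tt N10307 F65883) (tt N11380 (iv F67947)) (tt N10934 (iv F66421)) (tt N10712 F65884) (tt N10309 F65885) (tt N10203 (iv D16680)) (tt N11187 (iv F67279)))
theorem Q10795 : ∀ i, i < 10795 → P i := stepQ 10794 Q10794 (allL N10794 (tt N11044 (iv F66810)) (tt N10339 F65886) (tt N10211 F65887) (tt N10204 (iv D16681)) (tt N11381 D17268) (tt N10206 F65888) (tt N10436 F65889) (tt N10221 F65890) (tt N10795 (iv F65897)))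
theorem Q10796 : ∀ i, i < 10796 → P i := stepQ 10795 Q10795 (allL N10795 (tt N10452 F65891) (tt N10206 F65892) (tt N10436 F65893) (tt N10205 (iv D16682)) (tt N11382 D17269) (tt N10339 F65894) (tt N10211 F65895) (tt N10222 F65896) (tt N10794 F65897))
theorem Q10797 : ∀ i, i < 10797 → P i := stepQ 10796 Q10796 (allL N10796 (tt N11046 (iv F66818)) (tt N11382 (iv F67956)) (tt N10471 F65898) (tt N11367 (iv F67892)) (tt N10206 (iv D16683)) (tt N11383 D17270) (tt N10217 F65899) (tt N10225 F65900) (tt N10931 (iv F66409)))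
theorem Q10798 : ∀ i, i < 10798 → P i := stepQ 10797 Q10797 (allL N10797 (tt N10210 F65901) (tt N10674 F65902) (tt N10329 F65903) (tt N11384 D17271) (tt N10208 F65904) (tt N10424 F65905) (tt N10450 F65906) (tt N10207 (iv D16684)) (tt N10423 F65907))
theorem Q10799 : ∀ i, i < 10799 → P i := stepQ 10798 Q10798 (allL N10798 (tt N10211 F65908) (tt N11307 (iv F67614)) (tt N11044 (iv F66812)) (tt N10208 (iv D16685)) (tt N11385 D17272) (tt N10465 F65909) (tt N10452 F65910) (tt N10227 F65911) (tt N10935 (iv F66427)))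
theorem Q10800 : ∀ i, i < 10800 → P i := stepQ 10799 Q10799 (allL N10799 (tt N10512 F65912) (tt N10213 F65913) (tt N10421 F65914) (tt N11386 D17273) (tt N10230 F65915) (tt N10386 F65916) (tt N10634 F65917) (tt N10209 (iv D16686)) (tt N10385 F65918))
theorem Q10801 : ∀ i, i < 10801 → P i := stepQ 10800 Q10800 (allL N10800 (tt N11384 (iv F67963)) (tt N10216 F65919) (tt N10545 F65920) (tt N10210 (iv D16687)) (tt N11387 D17274) (tt N10548 F65921) (tt N11144 (iv F67123)) (tt N11386 (iv F67978)) (tt N10546 F65922))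
theorem Q10802 : ∀ i, i < 10802 → P i := stepQ 10801 Q10801 (allL N10801 (tt N11385 (iv F67970)) (tt N10217 F65923) (tt N11381 (iv F67951)) (tt N11387 (iv F67982)) (tt N10211 (iv D16688)) (tt N11388 D17275) (tt N11382 (iv F67958)) (tt N10233 F65924) (tt N11027 (iv F66758)))
theorem Q10803 : ∀ i, i < 10803 → P i := stepQ 10802 Q10802 (allL N10802 (tt N10628 F65925) (tt N10386 F65926) (tt N10802 F65927) (tt N11389 D17276) (tt N10987 (iv F66620)) (tt N10213 F65928) (tt N10399 F65929) (tt N10212 (iv D16689)) (tt N10381 F65930))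
theorem Q10804 : ∀ i, i < 10804 → P i := stepQ 10803 Q10803 (allL N10803 (tt N11311 (iv F67631)) (tt N11386 (iv F67974)) (tt N11390 D17277) (tt N10213 (iv D16690)) (tt N11391 D17278) (tt N11389 (iv F67989)) (tt N11333 (iv F67745)) (tt N10216 F65931) (tt N11322 (iv F67693)))
theorem Q10805 : ∀ i, i < 10805 → P i := stepQ 10804 Q10804 (allL N10804 (tt N11064 (iv F66882)) (tt N10372 F65932) (tt N10218 F65933) (tt N11392 D17279) (tt N10477 F65934) (tt N10964 (iv F66534)) (tt N10215 F65935) (tt N10214 (iv D16691)) (tt N10365 F65936))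
theorem Q10806 : ∀ i, i < 10806 → P i := stepQ 10805 Q10805 (allL N10805 (tt N11312 (iv F67637)) (tt N10548 F65937) (tt N11393 D17280) (tt N10215 (iv D16692)) (tt N11394 D17281) (tt N10216 F65938) (tt N11392 (iv F67999)) (tt N11389 (iv F67991)) (tt N10550 F65939))
theorem Q10807 : ∀ i, i < 10807 → P i := stepQ 10806 Q10806 (allL N10806 (tt N11313 (iv F67642)) (tt N11395 D17282) (tt N10216 (iv D16693)) (tt N10220 F65940) (tt N11396 D17283) (tt N11393 (iv F68004)) (tt N11366 (iv F67889)) (tt N11390 (iv F67994)) (tt N11028 (iv F66763)))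
theorem Q10808 : ∀ i, i < 10808 → P i := stepQ 10807 Q10807 (allL N10807 (tt N11314 (iv F67646)) (tt N11387 (iv F67980)) (tt N11396 (iv F68014)) (tt N10217 F65941) (tt N10216 (iv D16694)) (tt N11397 D17284) (tt N11367 (iv F67893)) (tt N11391 (iv F67996)) (tt N11029 (iv F66768)))
theorem Q10809 : ∀ i, i < 10809 → P i := stepQ 10808 Q10808 (allL N10808 (tt N11315 (iv F67650)) (tt N11388 (iv F67984)) (tt N10668 F65942) (tt N11397 (iv F68016)) (tt N10481 F65943) (tt N10217 (iv D16695)) (tt N11398 D17285) (tt N10244 F65944) (tt N11030 (iv F66772)))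
theorem Q10810 : ∀ i, i < 10810 → P i := stepQ 10809 Q10809 (allL N10809 (tt N11316 (iv F67654)) (tt N10588 F65945) (tt N10219 (iv D16696)) (tt N11393 (iv F68003)) (tt N11399 D17286) (tt N10220 F65946) (tt N10710 F65947) (tt N10809 F65948) (tt N10590 F65949))
theorem Q10811 : ∀ i, i < 10811 → P i := stepQ 10810 Q10810 (allL N10810 (tt N11317 (iv F67659)) (tt N10330 F65950) (tt N11399 (iv F68021)) (tt N10484 F65951) (tt N10219 (iv D16697)) (tt N10671 F65952) (tt N10721 F65953) (tt N10810 F65954) (tt N10594 F65955))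
theorem Q10812 : ∀ i, i < 10812 → P i := stepQ 10811 Q10811 (allL N10811 (tt N11400 D17287) (tt N10220 (iv D16698)) (tt N10331 F65956) (tt N11395 (iv F68011)) (tt N10672 F65957) (tt N10588 F65958) (tt N11172 (iv F67209)) (tt N10811 F65959) (tt N10587 F65960))
theorem Q10813 : ∀ i, i < 10813 → P i := stepQ 10812 Q10812 (allL N10812 (tt N11319 (iv F67671)) (tt N10340 F65961) (tt N10233 F65962) (tt N10338 F65963) (tt N10221 (iv D16699)) (tt N11401 D17288) (tt N10440 F65964) (tt N11381 (iv F67954)) (tt N10249 F65965))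
theorem Q10814 : ∀ i, i < 10814 → P i := stepQ 10813 Q10813 (allL N10813 (tt N10455 F65966) (tt N10225 F65967) (tt N10440 F65968) (tt N10641 F65969) (tt N10222 (iv D16700)) (tt N11402 D17289) (tt N10233 F65970) (tt N11382 (iv F67959)) (tt N10254 F65971))
theorem Q10815 : ∀ i, i < 10815 → P i := stepQ 10814 Q10814 (allL N10814 (tt N11322 (iv F67688)) (tt N10636 F65972) (tt N11403 D17290) (tt N10223 (iv D16701)) (tt N11404 D17291) (tt N10629 F65973) (tt N10239 F65974) (tt N10224 F65975) (tt N11311 (iv F67636)))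
theorem Q10816 : ∀ i, i < 10816 → P i := stepQ 10815 Q10815 (allL N10815 (tt N11323 (iv F67694)) (tt N11405 D17292) (tt N10224 (iv D16702)) (tt N10226 F65976) (tt N11406 D17293) (tt N10630 F65977) (tt N10242 F65978) (tt N11403 (iv F68045)) (tt N10260 F65979))
theorem Q10817 : ∀ i, i < 10817 → P i := stepQ 10816 Q10816 (allL N10816 (tt N11324 (iv F67700)) (tt N10641 F65980) (tt N11406 (iv F68055)) (tt N10225 F65981) (tt N10224 (iv D16703)) (tt N11407 D17294) (tt N10243 F65982) (tt N11404 (iv F68048)) (tt N10261 F65983))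
theorem Q10818 : ∀ i, i < 10818 → P i := stepQ 10817 Q10817 (allL N10817 (tt N11325 (iv F67705)) (tt N11402 (iv F68037)) (tt N10499 F65984) (tt N11407 (iv F68060)) (tt N11401 (iv F68034)) (tt N10225 (iv D16704)) (tt N11408 D17295) (tt N11383 (iv F67962)) (tt N10262 F65985))
theorem Q10819 : ∀ i, i < 10819 → P i := stepQ 10818 Q10818 (allL N10818 (tt N10658 (iv F65992)) (tt N10226 (iv D16705)) (tt N10317 F65986) (tt N11405 (iv F68050)) (tt N10429 F65987) (tt N10657 F65988) (tt N10246 F65989) (tt N10818 F65990) (tt N10265 F65991))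
theorem Q10820 : ∀ i, i < 10820 → P i := stepQ 10819 Q10819 (allL N10819 (tt N10233 F65993) (tt N11327 (iv F67715)) (tt N11319 (iv F67673)) (tt N10695 F65994) (tt N10227 (iv D16706)) (tt N11409 D17296) (tt N10455 F65995) (tt N11385 (iv F67972)) (tt N10271 F65996))
theorem Q10821 : ∀ i, i < 10821 → P i := stepQ 10820 Q10820 (allL N10820 (tt N10530 F65997) (tt N10237 F65998) (tt N10577 F65999) (tt N11410 D17297) (tt N11117 (iv F67042)) (tt N10230 F66000) (tt N10522 F66001) (tt N10228 (iv D16707)) (tt N11116 (iv F67038)))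
theorem Q10822 : ∀ i, i < 10822 → P i := stepQ 10821 Q10821 (allL N10821 (tt N10510 F66002) (tt N10238 F66003) (tt N10419 F66004) (tt N11411 D17298) (tt N10385 F66005) (tt N11116 (iv F67037)) (tt N10635 F66006) (tt N10229 (iv D16708)) (tt N10230 F66007))
theorem Q10823 : ∀ i, i < 10823 → P i := stepQ 10822 Q10822 (allL N10822 (tt N10685 F66008) (tt N10239 F66009) (tt N11412 D17299) (tt N10230 (iv D16709)) (tt N11413 D17300) (tt N11410 (iv F68072)) (tt N10636 F66010) (tt N10232 F66011) (tt N11411 (iv F68079)))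
theorem Q10824 : ∀ i, i < 10824 → P i := stepQ 10823 Q10823 (allL N10823 (tt N10536 F66012) (tt N10241 F66013) (tt N11374 (iv F67919)) (tt N10231 (iv D16710)) (tt N11414 D17301) (tt N10232 F66014) (tt N10525 F66015) (tt N11410 (iv F68074)) (tt N10279 F66016))
theorem Q10825 : ∀ i, i < 10825 → P i := stepQ 10824 Q10824 (allL N10824 (tt N10694 F66017) (tt N10433 (iv F66021)) (tt N10232 (iv D16711)) (tt N10318 F66018) (tt N11415 D17302) (tt N11374 (iv F67921)) (tt N10640 F66019) (tt N11412 (iv F68083)) (tt N10280 F66020))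
theorem Q10826 : ∀ i, i < 10826 → P i := stepQ 10825 Q10825 (allL N10825 (tt N10695 F66022) (tt N10243 F66023) (tt N11415 (iv F68096)) (tt N10233 F66024) (tt N10232 (iv D16712)) (tt N11416 D17303) (tt N10641 F66025) (tt N11413 (iv F68088)) (tt N10281 F66026))
theorem Q10827 : ∀ i, i < 10827 → P i := stepQ 10826 Q10826 (allL N10826 (tt N11409 (iv F68066)) (tt N10244 F66027) (tt N11401 (iv F68032)) (tt N11416 (iv F68102)) (tt N10499 F66028) (tt N10233 (iv D16713)) (tt N11417 D17304) (tt N11388 (iv F67986)) (tt N10282 F66029))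
theorem Q10828 : ∀ i, i < 10828 → P i := stepQ 10827 Q10827 (allL N10827 (tt N10994 (iv F66649)) (tt N11117 (iv F67040)) (tt N10827 F66030) (tt N11418 D17305) (tt N10237 F66031) (tt N10987 (iv F66621)) (tt N10829 (iv F66041)) (tt N10234 (iv D16714)) (tt N10828 (iv F66037)))
theorem Q10829 : ∀ i, i < 10829 → P i := stepQ 10828 Q10828 (allL N10828 (tt N10398 F66032) (tt N10522 F66033) (tt N10828 F66034) (tt N11419 D17306) (tt N10829 (iv F66039)) (tt N10392 F66035) (tt N10237 F66036) (tt N10235 (iv D16715)) (tt N10827 F66037))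
theorem Q10830 : ∀ i, i < 10830 → P i := stepQ 10829 Q10829 (allL N10829 (tt N10993 (iv F66643)) (tt N11116 (iv F67034)) (tt N10829 F66038) (tt N11420 D17307) (tt N10828 F66039) (tt N10238 F66040) (tt N10827 F66041) (tt N10236 (iv D16716)) (tt N10237 F66042))
theorem Q10831 : ∀ i, i < 10831 → P i := stepQ 10830 Q10830 (allL N10830 (tt N11332 (iv F67738)) (tt N11410 (iv F68071)) (tt N11421 D17308) (tt N10237 (iv D16717)) (tt N11422 D17309) (tt N10239 F66043) (tt N11419 (iv F68111)) (tt N10241 F66044) (tt N11420 (iv F68117)))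
theorem Q10832 : ∀ i, i < 10832 → P i := stepQ 10831 Q10831 (allL N10831 (tt N11333 (iv F67743)) (tt N11411 (iv F68076)) (tt N11423 D17310) (tt N10238 (iv D16718)) (tt N11424 D17311) (tt N11420 (iv F68114)) (tt N11311 (iv F67634)) (tt N10287 F66045) (tt N10239 F66046))
theorem Q10833 : ∀ i, i < 10833 → P i := stepQ 10832 Q10832 (allL N10832 (tt N11334 (iv F67748)) (tt N11425 D17312) (tt N10239 (iv D16719)) (tt N10832 F66047) (tt N11426 D17313) (tt N11421 (iv F68119)) (tt N11403 (iv F68044)) (tt N10242 F66048) (tt N11423 (iv F68124)))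
theorem Q10834 : ∀ i, i < 10834 → P i := stepQ 10833 Q10833 (allL N10833 (tt N11335 (iv F67751)) (tt N11413 (iv F68086)) (tt N11426 (iv F68130)) (tt N11391 (iv F67995)) (tt N10239 (iv D16720)) (tt N11427 D17314) (tt N11404 (iv F68047)) (tt N10243 F66049) (tt N11424 (iv F68126)))
theorem Q10835 : ∀ i, i < 10835 → P i := stepQ 10834 Q10834 (allL N10834 (tt N10401 F66050) (tt N10525 F66051) (tt N11379 (iv F67940)) (tt N10240 (iv D16721)) (tt N11428 D17315) (tt N10393 F66052) (tt N10241 F66053) (tt N11419 (iv F68112)) (tt N10290 F66054))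
theorem Q10836 : ∀ i, i < 10836 → P i := stepQ 10835 Q10835 (allL N10835 (tt N11336 (iv F67753)) (tt N11429 D17316) (tt N10241 (iv D16722)) (tt N10245 F66055) (tt N11430 D17317) (tt N10242 F66056) (tt N11379 (iv F67942)) (tt N11421 (iv F68120)) (tt N10291 F66057))
theorem Q10837 : ∀ i, i < 10837 → P i := stepQ 10836 Q10836 (allL N10836 (tt N11337 (iv F67759)) (tt N11414 (iv F68090)) (tt N11430 (iv F68144)) (tt N10507 F66058) (tt N10241 (iv D16723)) (tt N11431 D17318) (tt N11428 (iv F68136)) (tt N11422 (iv F68121)) (tt N10292 F66059))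
theorem Q10838 : ∀ i, i < 10838 → P i := stepQ 10837 Q10837 (allL N10837 (tt N11432 D17319) (tt N10242 (iv D16724)) (tt N10433 F66060) (tt N10246 F66061) (tt N11433 D17320) (tt N11429 (iv F68141)) (tt N11405 (iv F68052)) (tt N11425 (iv F68129)) (tt N10293 F66062))
theorem Q10839 : ∀ i, i < 10839 → P i := stepQ 10838 Q10838 (allL N10838 (tt N11339 (iv F67770)) (tt N11433 (iv F68155)) (tt N10243 F66063) (tt N10681 F66064) (tt N10242 (iv D16725)) (tt N11434 D17321) (tt N11406 (iv F68057)) (tt N11426 (iv F68131)) (tt N10294 F66065))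
theorem Q10840 : ∀ i, i < 10840 → P i := stepQ 10839 Q10839 (allL N10839 (tt N11340 (iv F67774)) (tt N11416 (iv F68101)) (tt N11434 (iv F68159)) (tt N10244 F66066) (tt N11431 (iv F68147)) (tt N10243 (iv D16726)) (tt N11435 D17322) (tt N11427 (iv F68132)) (tt N10295 F66067))
theorem Q10841 : ∀ i, i < 10841 → P i := stepQ 10840 Q10840 (allL N10840 (tt N11341 (iv F67777)) (tt N11417 (iv F68104)) (tt N10683 F66068) (tt N11435 (iv F68162)) (tt N10509 F66069) (tt N11408 (iv F68064)) (tt N10244 (iv D16727)) (tt N11398 (iv F68019)) (tt N10296 F66070))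
theorem Q10842 : ∀ i, i < 10842 → P i := stepQ 10841 Q10841 (allL N10841 (tt N10328 F66071) (tt N10245 (iv D16728)) (tt N10319 F66072) (tt N11429 (iv F68140)) (tt N10428 F66073) (tt N10246 F66074) (tt N10656 F66075) (tt N10841 F66076) (tt N10297 F66077))
theorem Q10843 : ∀ i, i < 10843 → P i := stepQ 10842 Q10842 (allL N10842 (tt N10246 (iv D16729)) (tt N10326 F66078) (tt N10320 F66079) (tt N11432 (iv F68151)) (tt N10431 F66080) (tt N10328 F66081) (tt N10658 F66082) (tt N10842 F66083) (tt N10298 F66084))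
theorem Q10844 : ∀ i, i < 10844 → P i := stepQ 10843 Q10843 (allL N10843 (tt N11258 (iv F67483)) (tt N10332 F66085) (tt N11436 D17323) (tt N10247 (iv D16730)) (tt N11437 D17324) (tt N10613 F66086) (tt N10445 F66087) (tt N10248 F66088) (tt N10725 F66089))
theorem Q10845 : ∀ i, i < 10845 → P i := stepQ 10844 Q10844 (allL N10844 (tt N11343 (iv F67787)) (tt N10367 F66090) (tt N10248 (iv D16731)) (tt N10250 F66091) (tt N11438 D17325) (tt N10620 F66092) (tt N10447 F66093) (tt N11436 (iv F68168)) (tt N10337 F66094))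
theorem Q10846 : ∀ i, i < 10846 → P i := stepQ 10845 Q10845 (allL N10845 (tt N11344 (iv F67793)) (tt N10333 F66095) (tt N11438 (iv F68175)) (tt N10249 F66096) (tt N10248 (iv D16732)) (tt N11439 D17326) (tt N10448 F66097) (tt N11437 (iv F68172)) (tt N10338 F66098))
theorem Q10847 : ∀ i, i < 10847 → P i := stepQ 10846 Q10846 (allL N10846 (tt N11345 (iv F67798)) (tt N10442 F66099) (tt N10282 F66100) (tt N11439 (iv F68180)) (tt N10262 F66101) (tt N10249 (iv D16733)) (tt N11440 D17327) (tt N10851 (iv F66126)) (tt N11401 (iv F68035)))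
theorem Q10848 : ∀ i, i < 10848 → P i := stepQ 10847 Q10847 (allL N10847 (tt N10254 F66102) (tt N11346 (iv F67802)) (tt N10379 F66103) (tt N10680 F66104) (tt N10251 (iv D16734)) (tt N11441 D17328) (tt N10271 F66105) (tt N10754 F66106) (tt N10455 F66107))
theorem Q10849 : ∀ i, i < 10849 → P i := stepQ 10848 Q10848 (allL N10848 (tt N10675 F66108) (tt N10257 F66109) (tt N11442 D17329) (tt N10252 (iv D16735)) (tt N11443 D17330) (tt N10623 F66110) (tt N10277 F66111) (tt N10253 F66112) (tt N11308 (iv F67624)))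
theorem Q10850 : ∀ i, i < 10850 → P i := stepQ 10849 Q10849 (allL N10849 (tt N10679 F66113) (tt N11444 D17331) (tt N10253 (iv D16736)) (tt N10321 F66114) (tt N11445 D17332) (tt N10624 F66115) (tt N10280 F66116) (tt N11442 (iv F68197)) (tt N10640 F66117))
theorem Q10851 : ∀ i, i < 10851 → P i := stepQ 10850 Q10850 (allL N10850 (tt N10680 F66118) (tt N10261 F66119) (tt N11445 (iv F68210)) (tt N10254 F66120) (tt N10253 (iv D16737)) (tt N11446 D17333) (tt N10281 F66121) (tt N11443 (iv F68202)) (tt N10641 F66122))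
theorem Q10852 : ∀ i, i < 10852 → P i := stepQ 10851 Q10851 (allL N10851 (tt N11441 (iv F68187)) (tt N10262 F66123) (tt N10449 F66124) (tt N11446 (iv F68216)) (tt N10442 F66125) (tt N10254 (iv D16738)) (tt N11447 D17334) (tt N10846 F66126) (tt N11402 (iv F68041)))
theorem Q10853 : ∀ i, i < 10853 → P i := stepQ 10852 Q10852 (allL N10852 (tt N10365 F66127) (tt N10488 F66128) (tt N10299 F66129) (tt N11448 D17335) (tt N11065 (iv F66891)) (tt N10284 F66130) (tt N10256 F66131) (tt N10255 (iv D16739)) (tt N11064 (iv F66887)))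
theorem Q10854 : ∀ i, i < 10854 → P i := stepQ 10853 Q10853 (allL N10853 (tt N10550 F66132) (tt N10623 F66133) (tt N11449 D17336) (tt N10256 (iv D16740)) (tt N11450 D17337) (tt N10257 F66134) (tt N11448 (iv F68228)) (tt N10259 F66135) (tt N11312 (iv F67641)))
theorem Q10855 : ∀ i, i < 10855 → P i := stepQ 10854 Q10854 (allL N10854 (tt N11028 (iv F66759)) (tt N11451 D17338) (tt N10257 (iv D16741)) (tt N10301 F66136) (tt N11452 D17339) (tt N11449 (iv F68232)) (tt N10288 F66137) (tt N10260 F66138) (tt N11313 (iv F67645)))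
theorem Q10856 : ∀ i, i < 10856 → P i := stepQ 10855 Q10855 (allL N10855 (tt N11029 (iv F66764)) (tt N11443 (iv F68199)) (tt N11452 (iv F68241)) (tt N10922 (iv F66365)) (tt N10257 (iv D16742)) (tt N11453 D17340) (tt N10289 F66139) (tt N10261 F66140) (tt N11314 (iv F67649)))
theorem Q10857 : ∀ i, i < 10857 → P i := stepQ 10856 Q10856 (allL N10856 (tt N10366 F66141) (tt N10489 F66142) (tt N10699 F66143) (tt N10258 (iv D16743)) (tt N11454 D17341) (tt N10290 F66144) (tt N10259 F66145) (tt N11448 (iv F68229)) (tt N10393 F66146))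
theorem Q10858 : ∀ i, i < 10858 → P i := stepQ 10857 Q10857 (allL N10857 (tt N10539 F66147) (tt N11455 D17342) (tt N10259 (iv D16744)) (tt N10263 F66148) (tt N11456 D17343) (tt N10260 F66149) (tt N10699 F66150) (tt N11449 (iv F68234)) (tt N10630 F66151))
theorem Q10859 : ∀ i, i < 10859 → P i := stepQ 10858 Q10858 (allL N10858 (tt N10556 F66152) (tt N10625 F66153) (tt N11456 (iv F68258)) (tt N10621 F66154) (tt N10259 (iv D16745)) (tt N11457 D17344) (tt N11454 (iv F68249)) (tt N11450 (iv F68237)) (tt N10631 F66155))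
theorem Q10860 : ∀ i, i < 10860 → P i := stepQ 10859 Q10859 (allL N10859 (tt N11458 D17345) (tt N10260 (iv D16746)) (tt N11444 (iv F68204)) (tt N10265 F66156) (tt N11459 D17346) (tt N11455 (iv F68254)) (tt N10293 F66157) (tt N11451 (iv F68240)) (tt N11405 (iv F68053)))
theorem Q10861 : ∀ i, i < 10861 → P i := stepQ 10860 Q10860 (allL N10860 (tt N11349 (iv F67813)) (tt N11459 (iv F68272)) (tt N10261 F66158) (tt N10540 F66159) (tt N10260 (iv D16747)) (tt N11460 D17347) (tt N10294 F66160) (tt N11452 (iv F68243)) (tt N11406 (iv F68058)))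
theorem Q10862 : ∀ i, i < 10862 → P i := stepQ 10861 Q10861 (allL N10861 (tt N11350 (iv F67818)) (tt N11446 (iv F68215)) (tt N11460 (iv F68275)) (tt N10262 F66161) (tt N11457 (iv F68264)) (tt N10261 (iv D16748)) (tt N11461 D17348) (tt N11453 (iv F68244)) (tt N11407 (iv F68062)))
theorem Q10863 : ∀ i, i < 10863 → P i := stepQ 10862 Q10862 (allL N10862 (tt N11351 (iv F67822)) (tt N11447 (iv F68219)) (tt N10542 F66162) (tt N11461 (iv F68277)) (tt N11440 (iv F68185)) (tt N10296 F66163) (tt N10262 (iv D16749)) (tt N11033 (iv F66781)) (tt N11408 (iv F68065)))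
theorem Q10864 : ∀ i, i < 10864 → P i := stepQ 10863 Q10863 (allL N10863 (tt N10570 F66164) (tt N10263 (iv D16750)) (tt N10323 F66165) (tt N11455 (iv F68253)) (tt N10569 (iv F66170)) (tt N10265 F66166) (tt N10646 F66167) (tt N10305 F66168) (tt N10657 F66169))
theorem Q10865 : ∀ i, i < 10865 → P i := stepQ 10864 Q10864 (allL N10864 (tt N10265 F66171) (tt N10569 F66172) (tt N10264 F66173) (tt N11458 (iv F68268)) (tt N10263 (iv D16751)) (tt N10570 F66174) (tt N10298 F66175) (tt N10306 F66176) (tt N10658 F66177))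
theorem Q10866 : ∀ i, i < 10866 → P i := stepQ 10865 Q10865 (allL N10865 (tt N10275 F66178) (tt N10501 F66179) (tt N10865 F66180) (tt N11462 D17349) (tt N10874 (iv F66220)) (tt N10268 F66181) (tt N10493 F66182) (tt N10266 (iv D16752)) (tt N10872 (iv F66211)))
theorem Q10867 : ∀ i, i < 10867 → P i := stepQ 10866 Q10866 (allL N10866 (tt N10276 F66183) (tt N10450 F66184) (tt N10866 F66185) (tt N11463 D17350) (tt N10443 F66186) (tt N10872 (iv F66210)) (tt N10674 F66187) (tt N10267 (iv D16753)) (tt N10268 F66188))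
theorem Q10868 : ∀ i, i < 10868 → P i := stepQ 10867 Q10867 (allL N10867 (tt N10277 F66189) (tt N11352 (iv F67826)) (tt N11464 D17351) (tt N10268 (iv D16754)) (tt N11465 D17352) (tt N11462 (iv F68281)) (tt N10675 F66190) (tt N10270 F66191) (tt N11463 (iv F68288)))
theorem Q10869 : ∀ i, i < 10869 → P i := stepQ 10868 Q10868 (allL N10868 (tt N10279 F66192) (tt N10506 F66193) (tt N11338 (iv F67764)) (tt N10269 (iv D16755)) (tt N11466 D17353) (tt N10270 F66194) (tt N10496 F66195) (tt N11462 (iv F68283)) (tt N10536 F66196))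
theorem Q10870 : ∀ i, i < 10870 → P i := stepQ 10869 Q10869 (allL N10869 (tt N10280 F66197) (tt N11336 (iv F67754)) (tt N10270 (iv D16756)) (tt N10324 F66198) (tt N11467 D17354) (tt N11338 (iv F67766)) (tt N10679 F66199) (tt N11464 (iv F68292)) (tt N10694 F66200))
theorem Q10871 : ∀ i, i < 10871 → P i := stepQ 10870 Q10870 (allL N10870 (tt N10281 F66201) (tt N11353 (iv F67833)) (tt N11467 (iv F68302)) (tt N10271 F66202) (tt N10270 (iv D16757)) (tt N11468 D17355) (tt N10680 F66203) (tt N11465 (iv F68295)) (tt N10695 F66204))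
theorem Q10872 : ∀ i, i < 10872 → P i := stepQ 10871 Q10871 (allL N10871 (tt N10282 F66205) (tt N11355 (iv F67843)) (tt N11345 (iv F67799)) (tt N11468 (iv F68306)) (tt N10528 F66206) (tt N10271 (iv D16758)) (tt N11469 D17356) (tt N10975 (iv F66575)) (tt N11409 (iv F68069)))
theorem Q10873 : ∀ i, i < 10873 → P i := stepQ 10872 Q10872 (allL N10872 (tt N10874 (iv F66217)) (tt N10283 F66207) (tt N10872 F66208) (tt N11470 D17357) (tt N10275 F66209) (tt N10866 F66210) (tt N11088 (iv F66959)) (tt N10272 (iv D16759)) (tt N10865 F66211))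
theorem Q10874 : ∀ i, i < 10874 → P i := stepQ 10873 Q10873 (allL N10873 (tt N10493 F66212) (tt N10284 F66213) (tt N10873 F66214) (tt N11471 D17358) (tt N11088 (iv F66957)) (tt N10488 F66215) (tt N10275 F66216) (tt N10273 (iv D16760)) (tt N11087 (iv F66953)))
theorem Q10875 : ∀ i, i < 10875 → P i := stepQ 10874 Q10874 (allL N10874 (tt N10872 F66217) (tt N10285 F66218) (tt N10874 F66219) (tt N11472 D17359) (tt N10865 F66220) (tt N10276 F66221) (tt N11087 (iv F66952)) (tt N10274 (iv D16761)) (tt N10275 F66222))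
theorem Q10876 : ∀ i, i < 10876 → P i := stepQ 10875 Q10875 (allL N10875 (tt N11462 (iv F68279)) (tt N10286 F66223) (tt N11473 D17360) (tt N10275 (iv D16762)) (tt N11474 D17361) (tt N10277 F66224) (tt N11471 (iv F68317)) (tt N10279 F66225) (tt N11472 (iv F68322)))
theorem Q10877 : ∀ i, i < 10877 → P i := stepQ 10876 Q10876 (allL N10876 (tt N11463 (iv F68284)) (tt N10287 F66226) (tt N11475 D17362) (tt N10276 (iv D16763)) (tt N11476 D17363) (tt N11472 (iv F68321)) (tt N11308 (iv F67622)) (tt N11411 (iv F68078)) (tt N10277 F66227))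
theorem Q10878 : ∀ i, i < 10878 → P i := stepQ 10877 Q10877 (allL N10877 (tt N11464 (iv F68289)) (tt N11477 D17364) (tt N10277 (iv D16764)) (tt N10877 F66228) (tt N11478 D17365) (tt N11473 (iv F68324)) (tt N11442 (iv F68196)) (tt N10280 F66229) (tt N11475 (iv F68329)))
theorem Q10879 : ∀ i, i < 10879 → P i := stepQ 10878 Q10878 (allL N10878 (tt N11465 (iv F68293)) (tt N10289 F66230) (tt N11478 (iv F68335)) (tt N11037 (iv F66795)) (tt N10277 (iv D16765)) (tt N11479 D17366) (tt N11443 (iv F68201)) (tt N10281 F66231) (tt N11476 (iv F68331)))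
theorem Q10880 : ∀ i, i < 10880 → P i := stepQ 10879 Q10879 (allL N10879 (tt N10496 F66232) (tt N10290 F66233) (tt N11480 D17367) (tt N10278 (iv D16766)) (tt N11481 D17368) (tt N10489 F66234) (tt N10279 F66235) (tt N11471 (iv F68318)) (tt N10525 F66236))
theorem Q10881 : ∀ i, i < 10881 → P i := stepQ 10880 Q10880 (allL N10880 (tt N11338 F67769) (tt N11432 (iv F68149)) (tt N10279 (iv D16767)) (tt N10326 F66237) (tt N11482 D17369) (tt N10280 F66238) (tt N11480 (iv F68343)) (tt N11473 (iv F68325)) (tt N11374 (iv F67923)))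
theorem Q10882 : ∀ i, i < 10882 → P i := stepQ 10881 Q10881 (allL N10881 (tt N11466 (iv F68296)) (tt N10292 F66239) (tt N11482 (iv F68350)) (tt N10538 F66240) (tt N10279 (iv D16768)) (tt N11483 D17370) (tt N11481 (iv F68348)) (tt N11474 (iv F68327)) (tt N11414 (iv F68093)))
theorem Q10883 : ∀ i, i < 10883 → P i := stepQ 10882 Q10882 (allL N10882 (tt N11429 (iv F68138)) (tt N10280 (iv D16769)) (tt N10293 F66241) (tt N10328 F66242) (tt N11484 D17371) (tt N11432 (iv F68152)) (tt N11444 (iv F68207)) (tt N11477 (iv F68334)) (tt N10433 F66243))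
theorem Q10884 : ∀ i, i < 10884 → P i := stepQ 10883 Q10883 (allL N10883 (tt N11467 (iv F68301)) (tt N11484 (iv F68354)) (tt N10281 F66244) (tt N11438 (iv F68176)) (tt N10280 (iv D16770)) (tt N11485 D17372) (tt N11445 (iv F68212)) (tt N11478 (iv F68336)) (tt N11415 (iv F68099)))
theorem Q10885 : ∀ i, i < 10885 → P i := stepQ 10884 Q10884 (allL N10884 (tt N11468 (iv F68305)) (tt N10295 F66245) (tt N11485 (iv F68358)) (tt N10282 F66246) (tt N11483 (iv F68353)) (tt N10281 (iv D16771)) (tt N11486 D17373) (tt N11479 (iv F68338)) (tt N11416 (iv F68103)))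
theorem Q10886 : ∀ i, i < 10886 → P i := stepQ 10885 Q10885 (allL N10885 (tt N11469 (iv F68308)) (tt N10296 F66247) (tt N11440 (iv F68184)) (tt N11486 (iv F68360)) (tt N10542 F66248) (tt N11447 (iv F68222)) (tt N10282 (iv D16772)) (tt N11042 (iv F66806)) (tt N11417 (iv F68106)))
theorem Q10887 : ∀ i, i < 10887 → P i := stepQ 10886 Q10886 (allL N10886 (tt N11270 (iv F67511)) (tt N11470 (iv F68310)) (tt N11217 (iv F67357)) (tt N10283 (iv D16773)) (tt N11487 D17374) (tt N11043 (iv F66808)) (tt N11100 (iv F66994)) (tt N10543 F66249) (tt N11099 (iv F66992)))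
theorem Q10888 : ∀ i, i < 10888 → P i := stepQ 10887 Q10887 (allL N10887 (tt N11363 (iv F67875)) (tt N11471 (iv F68315)) (tt N11380 (iv F67946)) (tt N10284 (iv D16774)) (tt N11488 D17375) (tt N11448 (iv F68227)) (tt N10286 F66250) (tt N10290 F66251) (tt N11098 (iv F66989)))
theorem Q10889 : ∀ i, i < 10889 → P i := stepQ 10888 Q10888 (allL N10888 (tt N11364 (iv F67881)) (tt N11472 (iv F68320)) (tt N11489 D17376) (tt N10285 (iv D16775)) (tt N11490 D17377) (tt N10287 F66252) (tt N11098 (iv F66988)) (tt N11420 (iv F68116)) (tt N10286 F66253))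
theorem Q10890 : ∀ i, i < 10890 → P i := stepQ 10889 Q10889 (allL N10889 (tt N11299 (iv F67578)) (tt N11491 D17378) (tt N10286 (iv D16776)) (tt N10309 F66254) (tt N11492 D17379) (tt N10288 F66255) (tt N11380 (iv F67949)) (tt N10291 F66256) (tt N11489 (iv F68367)))
theorem Q10891 : ∀ i, i < 10891 → P i := stepQ 10890 Q10890 (allL N10890 (tt N11365 (iv F67885)) (tt N11474 (iv F68326)) (tt N11492 (iv F68374)) (tt N11487 (iv F68361)) (tt N10286 (iv D16777)) (tt N11493 D17380) (tt N11488 (iv F68363)) (tt N10292 F66257) (tt N11490 (iv F68368)))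
theorem Q10892 : ∀ i, i < 10892 → P i := stepQ 10891 Q10891 (allL N10891 (tt N11366 (iv F67887)) (tt N11494 D17381) (tt N10287 (iv D16778)) (tt N10310 F66258) (tt N11495 D17382) (tt N11489 (iv F68366)) (tt N11313 (iv F67644)) (tt N11423 (iv F68123)) (tt N10288 F66259))
theorem Q10893 : ∀ i, i < 10893 → P i := stepQ 10892 Q10892 (allL N10892 (tt N11367 (iv F67891)) (tt N11476 (iv F68330)) (tt N11495 (iv F68380)) (tt N11046 (iv F66819)) (tt N10287 (iv D16779)) (tt N11496 D17383) (tt N11314 (iv F67648)) (tt N11424 (iv F68125)) (tt N10289 F66260))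
theorem Q10894 : ∀ i, i < 10894 → P i := stepQ 10893 Q10893 (allL N10893 (tt N11497 D17384) (tt N10288 (iv D16780)) (tt N11477 (iv F68332)) (tt N10312 F66261) (tt N11498 D17385) (tt N11491 (iv F68371)) (tt N11451 (iv F68239)) (tt N10293 F66262) (tt N11494 (iv F68379)))
theorem Q10895 : ∀ i, i < 10895 → P i := stepQ 10894 Q10894 (allL N10894 (tt N11369 (iv F67900)) (tt N11498 (iv F68386)) (tt N10289 F66263) (tt N11499 D17386) (tt N10288 (iv D16781)) (tt N11500 D17387) (tt N11452 (iv F68242)) (tt N10294 F66264) (tt N11495 (iv F68381)))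
theorem Q10896 : ∀ i, i < 10896 → P i := stepQ 10895 Q10895 (allL N10895 (tt N11370 (iv F67903)) (tt N11479 (iv F68337)) (tt N11500 (iv F68390)) (tt N11047 (iv F66823)) (tt N11493 (iv F68376)) (tt N10289 (iv D16782)) (tt N11501 D17388) (tt N10295 F66265) (tt N11496 (iv F68382)))
theorem Q10897 : ∀ i, i < 10897 → P i := stepQ 10896 Q10896 (allL N10896 (tt N11371 (iv F67905)) (tt N11481 (iv F68346)) (tt N11360 (iv F67867)) (tt N10553 F66266) (tt N10290 (iv D16783)) (tt N11502 D17389) (tt N10292 F66267) (tt N11488 (iv F68364)) (tt N11428 (iv F68137)))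
theorem Q10898 : ∀ i, i < 10898 → P i := stepQ 10897 Q10897 (allL N10897 (tt N10433 F66268) (tt N10291 (iv D16784)) (tt N11432 (iv F68150)) (tt N10297 F66269) (tt N11503 D17390) (tt N10293 F66270) (tt N10659 F66271) (tt N11491 (iv F68373)) (tt N11429 (iv F68143)))
theorem Q10899 : ∀ i, i < 10899 → P i := stepQ 10898 Q10898 (allL N10898 (tt N11372 (iv F67911)) (tt N11503 (iv F68395)) (tt N10292 F66272) (tt N11347 (iv F67809)) (tt N10291 (iv D16785)) (tt N11504 D17391) (tt N11360 (iv F67869)) (tt N11492 (iv F68375)) (tt N11430 (iv F68145)))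
theorem Q10900 : ∀ i, i < 10900 → P i := stepQ 10899 Q10899 (allL N10899 (tt N11373 (iv F67915)) (tt N11483 (iv F68351)) (tt N11504 (iv F68398)) (tt N10555 F66273) (tt N10295 F66274) (tt N10292 (iv D16786)) (tt N11505 D17392) (tt N11493 (iv F68377)) (tt N11431 (iv F68148)))
theorem Q10901 : ∀ i, i < 10901 → P i := stepQ 10900 Q10900 (allL N10900 (tt N10293 (iv D16787)) (tt N11374 (iv F67918)) (tt N11429 (iv F68139)) (tt N10298 F66275) (tt N11506 D17393) (tt N10433 F66276) (tt N11458 (iv F68270)) (tt N11497 (iv F68385)) (tt N11432 (iv F68154)))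
theorem Q10902 : ∀ i, i < 10902 → P i := stepQ 10901 Q10901 (allL N10901 (tt N11506 (iv F68402)) (tt N10294 F66277) (tt N11484 (iv F68355)) (tt N10700 F66278) (tt N10293 (iv D16788)) (tt N11507 D17394) (tt N11459 (iv F68274)) (tt N11498 (iv F68387)) (tt N11433 (iv F68158)))
theorem Q10903 : ∀ i, i < 10903 → P i := stepQ 10902 Q10902 (allL N10902 (tt N11376 (iv F67928)) (tt N11507 (iv F68404)) (tt N10295 F66279) (tt N10701 F66280) (tt N11504 (iv F68399)) (tt N10294 (iv D16789)) (tt N11508 D17395) (tt N11500 (iv F68391)) (tt N11434 (iv F68161)))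
theorem Q10904 : ∀ i, i < 10904 → P i := stepQ 10903 Q10903 (allL N10903 (tt N11377 (iv F67931)) (tt N11486 (iv F68359)) (tt N11508 (iv F68406)) (tt N10296 F66281) (tt N11505 (iv F68401)) (tt N11461 (iv F68278)) (tt N10295 (iv D16790)) (tt N11501 (iv F68392)) (tt N11435 (iv F68163)))
theorem Q10905 : ∀ i, i < 10905 → P i := stepQ 10904 Q10904 (allL N10904 (tt N10590 F66282) (tt N11509 D17396) (tt N10300 (iv D16791)) (tt N11449 (iv F68231)) (tt N11510 D17397) (tt N10301 F66283) (tt N10712 F66284) (tt N10302 F66285) (tt N11316 (iv F67658)))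
theorem Q10906 : ∀ i, i < 10906 → P i := stepQ 10905 Q10905 (allL N10905 (tt N10594 F66286) (tt N10905 F66287) (tt N11510 (iv F68414)) (tt N11197 (iv F67311)) (tt N10300 (iv D16792)) (tt N10952 (iv F66487)) (tt N10722 F66288) (tt N10303 F66289) (tt N11317 (iv F67665)))
theorem Q10907 : ∀ i, i < 10907 → P i := stepQ 10906 Q10906 (allL N10906 (tt N11511 D17398) (tt N10301 (iv D16793)) (tt N10906 F66290) (tt N11451 (iv F68238)) (tt N10953 (iv F66490)) (tt N11509 (iv F68410)) (tt N10312 F66291) (tt N10304 F66292) (tt N11318 (iv F67670)))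
theorem Q10908 : ∀ i, i < 10908 → P i := stepQ 10907 Q10907 (allL N10907 (tt N10584 F66293) (tt N10302 (iv D16794)) (tt N10907 F66294) (tt N10305 F66295) (tt N11186 (iv F67275)) (tt N10304 F66296) (tt N10654 F66297) (tt N11509 (iv F68412)) (tt N10907 F66298))
theorem Q10909 : ∀ i, i < 10909 → P i := stepQ 10908 Q10908 (allL N10908 (tt N10592 F66299) (tt N11186 (iv F67272)) (tt N10303 F66300) (tt N11178 (iv F67235)) (tt N10302 (iv D16795)) (tt N11177 (iv F67231)) (tt N10715 F66301) (tt N11510 (iv F68416)) (tt N10908 F66302))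
theorem Q10910 : ∀ i, i < 10910 → P i := stepQ 10909 Q10909 (allL N10909 (tt N10304 (iv D16796)) (tt N10583 F66303) (tt N10909 F66304) (tt N10306 F66305) (tt N11178 (iv F67236)) (tt N10584 F66306) (tt N10315 F66307) (tt N11511 (iv F68421)) (tt N10909 F66308))
theorem Q10911 : ∀ i, i < 10911 → P i := stepQ 10910 Q10910 (allL N10910 (tt N11298 (iv F67571)) (tt N11512 D17399) (tt N10308 (iv D16797)) (tt N11489 (iv F68365)) (tt N11232 (iv F67396)) (tt N10310 F66309) (tt N11187 (iv F67277)) (tt N10910 F66310) (tt N10309 F66311))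
theorem Q10912 : ∀ i, i < 10912 → P i := stepQ 10911 Q10911 (allL N10911 (tt N10435 (iv F66316)) (tt N10309 (iv D16798)) (tt N10911 F66312) (tt N11491 (iv F68370)) (tt N11025 (iv F66751)) (tt N10312 F66313) (tt N10660 F66314) (tt N10314 F66315) (tt N11512 (iv F68426)))
theorem Q10913 : ∀ i, i < 10913 → P i := stepQ 10912 Q10912 (allL N10912 (tt N11513 D17400) (tt N10310 (iv D16799)) (tt N10912 F66317) (tt N11494 (iv F68378)) (tt N11514 D17401) (tt N11512 (iv F68423)) (tt N11318 (iv F67668)) (tt N10912 F66318) (tt N10312 F66319))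
theorem Q10914 : ∀ i, i < 10914 → P i := stepQ 10913 Q10913 (allL N10913 (tt N10572 F66320) (tt N11514 (iv F68432)) (tt N10311 F66321) (tt N11515 D17402) (tt N10310 (iv D16800)) (tt N11234 (iv F67405)) (tt N10619 F66322) (tt N10913 F66323) (tt N10313 F66324))
theorem Q10915 : ∀ i, i < 10915 → P i := stepQ 10914 Q10914 (allL N10914 (tt N10312 (iv D16801)) (tt N11378 (iv F67933)) (tt N10914 F66325) (tt N11497 (iv F68383)) (tt N11516 D17403) (tt N10435 F66326) (tt N11511 (iv F68420)) (tt N10315 F66327) (tt N11513 (iv F68431)))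
theorem Q10916 : ∀ i, i < 10916 → P i := stepQ 10915 Q10915 (allL N10915 (tt N11516 (iv F68441)) (tt N10313 F66328) (tt N10915 F66329) (tt N11517 D17404) (tt N10312 (iv D16802)) (tt N11236 (iv F67415)) (tt N10953 (iv F66491)) (tt N10316 F66330) (tt N11514 (iv F68436)))
theorem Q10917 : ∀ i, i < 10917 → P i := stepQ 10916 Q10916 (allL N10916 (tt N11050 (iv F66828)) (tt N11517 (iv F68444)) (tt N10937 (iv F66433)) (tt N10313 (iv D16803)) (tt N11499 (iv F68388)) (tt N11237 (iv F67420)) (tt N10948 (iv F66477)) (tt N10714 F66331) (tt N11515 (iv F68440)))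
theorem Q10918 : ∀ i, i < 10918 → P i := stepQ 10917 Q10917 (allL N10917 (tt N10316 F66332) (tt N11179 (iv F67239)) (tt N10917 F66333) (tt N10715 F66334) (tt N10315 (iv D16804)) (tt N11238 (iv F67427)) (tt N11178 (iv F67237)) (tt N11516 (iv F68443)) (tt N10917 F66335))
theorem Q10919 : ∀ i, i < 10919 → P i := stepQ 10918 Q10918 (allL N10918 (tt N10656 F66336) (tt N10321 (iv D16805)) (tt N10322 F66337) (tt N11444 (iv F68205)) (tt N10427 F66338) (tt N10627 F66339) (tt N10328 F66340) (tt N10918 F66341) (tt N10430 F66342))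
theorem Q10920 : ∀ i, i < 10920 → P i := stepQ 10919 Q10919 (allL N10919 (tt N10567 F66343) (tt N10658 F66344) (tt N10325 (iv D16806)) (tt N11480 (iv F68341)) (tt N10657 F66345) (tt N10566 F66346) (tt N10326 F66347) (tt N10919 F66348) (tt N10569 F66349))
theorem Q10921 : ∀ i, i < 10921 → P i := stepQ 10920 Q10920 (allL N10920 (tt N10627 F66350) (tt N10431 F66351) (tt N10327 F66352) (tt N11518 D17405) (tt N10326 (iv D16807)) (tt N10656 F66353) (tt N10657 F66354) (tt N10920 F66355) (tt N10646 F66356))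
theorem Q10922 : ∀ i, i < 10922 → P i := stepQ 10921 Q10921 (allL N10921 (tt N10331 (iv D16808)) (tt N10921 F66357) (tt N11400 (iv F68026)) (tt N10578 F66358) (tt N10718 F66359) (tt N10580 F66360) (tt N11167 (iv F67186)) (tt N10921 F66361) (tt N10579 F66362))
theorem Q10923 : ∀ i, i < 10923 → P i := stepQ 10922 Q10922 (allL N10922 (tt N10438 F66363) (tt N11437 (iv F68170)) (tt N10358 F66364) (tt N10855 F66365) (tt N10332 (iv D16809)) (tt N11519 D17406) (tt N10454 F66366) (tt N10333 F66367) (tt N10729 F66368))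
theorem Q10924 : ∀ i, i < 10924 → P i := stepQ 10923 Q10923 (allL N10923 (tt N10441 F66369) (tt N11439 (iv F68179)) (tt N10376 F66370) (tt N10442 F66371) (tt N10626 F66372) (tt N10333 (iv D16810)) (tt N11520 D17407) (tt N11519 (iv F68456)) (tt N10341 F66373))
theorem Q10925 : ∀ i, i < 10925 → P i := stepQ 10924 Q10924 (allL N10924 (tt N10703 F66374) (tt N10383 F66375) (tt N10334 (iv D16811)) (tt N10342 F66376) (tt N11521 D17408) (tt N11296 (iv F67562)) (tt N10337 F66377) (tt N10757 F66378) (tt N10447 F66379))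
theorem Q10926 : ∀ i, i < 10926 → P i := stepQ 10925 Q10925 (allL N10925 (tt N11342 (iv F67781)) (tt N10335 F66380) (tt N11521 (iv F68466)) (tt N10440 F66381) (tt N10334 (iv D16812)) (tt N11522 D17409) (tt N10338 F66382) (tt N10758 F66383) (tt N10448 F66384))
theorem Q10927 : ∀ i, i < 10927 → P i := stepQ 10926 Q10926 (allL N10926 (tt N10442 F66385) (tt N11522 (iv F68471)) (tt N10390 F66386) (tt N10441 F66387) (tt N11441 (iv F68190)) (tt N10335 (iv D16813)) (tt N11523 D17410) (tt N10761 F66388) (tt N10456 F66389))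
theorem Q10928 : ∀ i, i < 10928 → P i := stepQ 10927 Q10927 (allL N10927 (tt N10337 F66390) (tt N11296 (iv F67559)) (tt N10336 (iv D16814)) (tt N10343 F66391) (tt N11524 D17411) (tt N10383 F66392) (tt N10703 F66393) (tt N10764 F66394) (tt N11343 (iv F67792)))
theorem Q10929 : ∀ i, i < 10929 → P i := stepQ 10928 Q10928 (allL N10928 (tt N10338 F66395) (tt N10379 F66396) (tt N11524 (iv F68482)) (tt N11319 (iv F67674)) (tt N10336 (iv D16815)) (tt N11525 D17412) (tt N11342 (iv F67785)) (tt N10765 F66397) (tt N11344 (iv F67797)))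
theorem Q10930 : ∀ i, i < 10930 → P i := stepQ 10929 Q10929 (allL N10929 (tt N11524 (iv F68481)) (tt N10404 F66398) (tt N10338 F66399) (tt N11415 (iv F68097)) (tt N10337 (iv D16816)) (tt N11526 D17413) (tt N11521 (iv F68468)) (tt N10770 F66400) (tt N11438 (iv F68178)))
theorem Q10931 : ∀ i, i < 10931 → P i := stepQ 10930 Q10930 (allL N10930 (tt N11525 (iv F68486)) (tt N10341 F66401) (tt N11526 (iv F68491)) (tt N11401 (iv F68033)) (tt N10633 F66402) (tt N10338 (iv D16817)) (tt N11527 D17414) (tt N10771 F66403) (tt N11439 (iv F68182)))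
theorem Q10932 : ∀ i, i < 10932 → P i := stepQ 10931 Q10931 (allL N10931 (tt N10454 F66404) (tt N11381 (iv F67950)) (tt N10461 F66405) (tt N10777 F66406) (tt N10339 (iv D16818)) (tt N11528 D17415) (tt N10438 F66407) (tt N10340 F66408) (tt N10796 F66409))
theorem Q10933 : ∀ i, i < 10933 → P i := stepQ 10932 Q10932 (allL N10932 (tt N10456 F66410) (tt N11401 (iv F68031)) (tt N10486 F66411) (tt N10341 F66412) (tt N11402 (iv F68040)) (tt N10340 (iv D16819)) (tt N11529 D17416) (tt N11528 (iv F68500)) (tt N10442 F66413))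
theorem Q10934 : ∀ i, i < 10934 → P i := stepQ 10933 Q10933 (allL N10933 (tt N10457 F66414) (tt N11527 (iv F68494)) (tt N10418 F66415) (tt N11529 (iv F68504)) (tt N10645 F66416) (tt N11523 (iv F68478)) (tt N10341 (iv D16820)) (tt N10784 F66417) (tt N11520 (iv F68463)))
theorem Q10935 : ∀ i, i < 10935 → P i := stepQ 10934 Q10934 (allL N10934 (tt N10705 F66418) (tt N10435 F66419) (tt N10647 F66420) (tt N11412 (iv F68081)) (tt N10793 F66421) (tt N11378 (iv F67935)) (tt N10649 F66422) (tt N10344 (iv D16821)) (tt N11530 D17417))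
theorem Q10936 : ∀ i, i < 10936 → P i := stepQ 10935 Q10935 (allL N10935 (tt N10436 F66423) (tt N11258 (iv F67484)) (tt N10452 F66424) (tt N10345 (iv D16822)) (tt N11531 D17418) (tt N10348 F66425) (tt N11044 (iv F66814)) (tt N10361 F66426) (tt N10798 F66427))
theorem Q10937 : ∀ i, i < 10937 → P i := stepQ 10936 Q10936 (allL N10936 (tt N10613 F66428) (tt N10348 F66429) (tt N11532 D17419) (tt N10346 (iv D16823)) (tt N11533 D17420) (tt N11258 (iv F67485)) (tt N10353 F66430) (tt N10362 F66431) (tt N10940 (iv F66451)))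
theorem Q10938 : ∀ i, i < 10938 → P i := stepQ 10937 Q10937 (allL N10937 (tt N10460 F66432) (tt N11243 (iv F67438)) (tt N10916 F66433) (tt N10347 (iv D16824)) (tt N11534 D17421) (tt N11022 (iv F66740)) (tt N10357 F66434) (tt N10565 F66435) (tt N11055 (iv F66848)))
theorem Q10939 : ∀ i, i < 10939 → P i := stepQ 10938 Q10938 (allL N10938 (tt N10461 F66436) (tt N11533 (iv F68523)) (tt N10454 F66437) (tt N11534 (iv F68528)) (tt N10348 (iv D16825)) (tt N11535 D17422) (tt N10358 F66438) (tt N10363 F66439) (tt N11056 (iv F66853)))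
theorem Q10940 : ∀ i, i < 10940 → P i := stepQ 10939 Q10939 (allL N10939 (tt N10352 F66440) (tt N10464 F66441) (tt N10939 F66442) (tt N11536 D17423) (tt N10350 F66443) (tt N10662 F66444) (tt N10612 F66445) (tt N10349 (iv D16826)) (tt N10661 F66446))
theorem Q10941 : ∀ i, i < 10941 → P i := stepQ 10940 Q10940 (allL N10940 (tt N10353 F66447) (tt N10465 F66448) (tt N11537 D17424) (tt N10350 (iv D16827)) (tt N11538 D17425) (tt N11307 (iv F67615)) (tt N10613 F66449) (tt N10364 F66450) (tt N10936 F66451))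
theorem Q10942 : ∀ i, i < 10942 → P i := stepQ 10941 Q10941 (allL N10941 (tt N10662 F66452) (tt N10356 F66453) (tt N10941 F66454) (tt N11539 D17426) (tt N10622 F66455) (tt N10352 F66456) (tt N11057 (iv F66857)) (tt N10351 (iv D16828)) (tt N10614 F66457))
theorem Q10943 : ∀ i, i < 10943 → P i := stepQ 10942 Q10942 (allL N10942 (tt N11536 (iv F68534)) (tt N10357 F66458) (tt N11540 D17427) (tt N10352 (iv D16829)) (tt N11541 D17428) (tt N11539 (iv F68551)) (tt N11243 (iv F67440)) (tt N11247 (iv F67450)) (tt N11188 (iv F67281)))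
theorem Q10944 : ∀ i, i < 10944 → P i := stepQ 10943 Q10943 (allL N10943 (tt N11537 (iv F68539)) (tt N11436 (iv F68164)) (tt N10353 (iv D16830)) (tt N10943 F66459) (tt N11542 D17429) (tt N11309 (iv F67627)) (tt N11532 (iv F68520)) (tt N10367 F66460) (tt N11189 (iv F67284)))
theorem Q10945 : ∀ i, i < 10945 → P i := stepQ 10944 Q10944 (allL N10944 (tt N11538 (iv F68544)) (tt N10358 F66461) (tt N11542 (iv F68556)) (tt N11541 (iv F68555)) (tt N10353 (iv D16831)) (tt N11543 D17430) (tt N11533 (iv F68524)) (tt N10368 F66462) (tt N11190 (iv F67287)))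
theorem Q10946 : ∀ i, i < 10946 → P i := stepQ 10945 Q10945 (allL N10945 (tt N10475 F66463) (tt N10477 F66464) (tt N10563 F66465) (tt N11544 D17431) (tt N10372 F66466) (tt N10664 F66467) (tt N10469 F66468) (tt N10354 (iv D16832)) (tt N10355 F66469))
theorem Q10947 : ∀ i, i < 10947 → P i := stepQ 10946 Q10946 (allL N10946 (tt N10476 F66470) (tt N11247 (iv F67448)) (tt N11175 (iv F67222)) (tt N10355 (iv D16833)) (tt N11545 D17432) (tt N11070 (iv F66904)) (tt N10565 F66471) (tt N10357 F66472) (tt N11544 (iv F68565)))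
theorem Q10948 : ∀ i, i < 10948 → P i := stepQ 10947 Q10947 (allL N10947 (tt N10478 F66473) (tt N11539 (iv F68550)) (tt N11546 D17433) (tt N10356 (iv D16834)) (tt N11547 D17434) (tt N10357 F66474) (tt N11066 (iv F66896)) (tt N11070 (iv F66906)) (tt N11192 (iv F67295)))
theorem Q10949 : ∀ i, i < 10949 → P i := stepQ 10948 Q10948 (allL N10948 (tt N10479 F66475) (tt N11548 D17435) (tt N10357 (iv D16835)) (tt N10360 F66476) (tt N11549 D17436) (tt N11546 (iv F68572)) (tt N10916 F66477) (tt N11175 (iv F67224)) (tt N11193 (iv F67298)))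
theorem Q10950 : ∀ i, i < 10950 → P i := stepQ 10949 Q10949 (allL N10949 (tt N10480 F66478) (tt N11541 (iv F68554)) (tt N11549 (iv F68577)) (tt N10358 F66479) (tt N10357 (iv D16836)) (tt N11550 D17437) (tt N11534 (iv F68529)) (tt N11545 (iv F68569)) (tt N11194 (iv F67301)))
theorem Q10951 : ∀ i, i < 10951 → P i := stepQ 10950 Q10950 (allL N10950 (tt N10481 F66480) (tt N11543 (iv F68558)) (tt N11519 (iv F68453)) (tt N11550 (iv F68581)) (tt N11315 (iv F67652)) (tt N10358 (iv D16837)) (tt N11551 D17438) (tt N10376 F66481) (tt N11195 (iv F67304)))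
theorem Q10952 : ∀ i, i < 10952 → P i := stepQ 10951 Q10951 (allL N10951 (tt N10483 F66482) (tt N11552 D17439) (tt N10359 (iv D16838)) (tt N11546 (iv F68571)) (tt N11553 D17440) (tt N10360 F66483) (tt N11181 (iv F67253)) (tt N10595 F66484) (tt N11196 (iv F67308)))
theorem Q10953 : ∀ i, i < 10953 → P i := stepQ 10952 Q10952 (allL N10952 (tt N10484 F66485) (tt N10952 F66486) (tt N11553 (iv F68588)) (tt N11317 (iv F67661)) (tt N10359 (iv D16839)) (tt N10905 F66487) (tt N11166 (iv F67180)) (tt N10596 F66488) (tt N11197 (iv F67313)))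
theorem Q10954 : ∀ i, i < 10954 → P i := stepQ 10953 Q10953 (allL N10953 (tt N11554 D17441) (tt N10360 (iv D16840)) (tt N10953 F66489) (tt N11548 (iv F68574)) (tt N10906 F66490) (tt N11552 (iv F68585)) (tt N10915 F66491) (tt N10597 F66492) (tt N11198 (iv F67316)))
theorem Q10955 : ∀ i, i < 10955 → P i := stepQ 10954 Q10954 (allL N10954 (tt N10440 F66493) (tt N11344 (iv F67794)) (tt N10455 F66494) (tt N11342 (iv F67784)) (tt N10361 (iv D16841)) (tt N11555 D17442) (tt N11319 (iv F67675)) (tt N11531 (iv F68515)) (tt N10379 F66495))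
theorem Q10956 : ∀ i, i < 10956 → P i := stepQ 10955 Q10955 (allL N10955 (tt N10620 F66496) (tt N10447 F66497) (tt N10362 (iv D16842)) (tt N10427 F66498) (tt N11556 D17443) (tt N11343 (iv F67790)) (tt N10367 F66499) (tt N11532 (iv F68521)) (tt N10383 F66500))
theorem Q10957 : ∀ i, i < 10957 → P i := stepQ 10956 Q10956 (allL N10956 (tt N10621 F66501) (tt N10363 F66502) (tt N11556 (iv F68602)) (tt N10556 F66503) (tt N10362 (iv D16843)) (tt N11557 D17444) (tt N10368 F66504) (tt N11533 (iv F68525)) (tt N10384 F66505))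
theorem Q10958 : ∀ i, i < 10958 → P i := stepQ 10957 Q10957 (allL N10957 (tt N10486 F66506) (tt N11557 (iv F68606)) (tt N10456 F66507) (tt N10557 F66508) (tt N11555 (iv F68598)) (tt N10363 (iv D16844)) (tt N11558 D17445) (tt N11535 (iv F68533)) (tt N10390 F66509))
theorem Q10959 : ∀ i, i < 10959 → P i := stepQ 10958 Q10958 (allL N10958 (tt N10367 F66510) (tt N11320 (iv F67678)) (tt N10364 (iv D16845)) (tt N10428 F66511) (tt N11559 D17446) (tt N11326 (iv F67711)) (tt N10620 F66512) (tt N11537 (iv F68542)) (tt N10394 F66513))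
theorem Q10960 : ∀ i, i < 10960 → P i := stepQ 10959 Q10959 (allL N10959 (tt N10368 F66514) (tt N10490 F66515) (tt N11559 (iv F68615)) (tt N11454 (iv F68248)) (tt N10364 (iv D16846)) (tt N11560 D17447) (tt N10621 F66516) (tt N11538 (iv F68547)) (tt N10395 F66517))
theorem Q10961 : ∀ i, i < 10961 → P i := stepQ 10960 Q10960 (allL N10960 (tt N11448 (iv F68224)) (tt N10373 F66518) (tt N10691 F66519) (tt N10365 (iv D16847)) (tt N11561 D17448) (tt N11363 (iv F67878)) (tt N10550 F66520) (tt N10366 F66521) (tt N11392 (iv F68001)))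
theorem Q10962 : ∀ i, i < 10962 → P i := stepQ 10961 Q10961 (allL N10961 (tt N11454 (iv F68245)) (tt N10375 F66522) (tt N10700 F66523) (tt N10368 F66524) (tt N10366 (iv D16848)) (tt N11562 D17449) (tt N10556 F66525) (tt N11561 (iv F68624)) (tt N10403 F66526))
theorem Q10963 : ∀ i, i < 10963 → P i := stepQ 10962 Q10962 (allL N10962 (tt N11559 (iv F68614)) (tt N11438 (iv F68174)) (tt N10368 F66527) (tt N11484 (iv F68356)) (tt N10367 (iv D16849)) (tt N11563 D17450) (tt N11556 (iv F68603)) (tt N11542 (iv F68557)) (tt N10404 F66528))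
theorem Q10964 : ∀ i, i < 10964 → P i := stepQ 10963 Q10963 (allL N10963 (tt N11560 (iv F68618)) (tt N10376 F66529) (tt N11563 (iv F68629)) (tt N11562 (iv F68627)) (tt N11331 (iv F67736)) (tt N10368 (iv D16850)) (tt N11564 D17451) (tt N11543 (iv F68559)) (tt N10405 F66530))
theorem Q10965 : ∀ i, i < 10965 → P i := stepQ 10964 Q10964 (allL N10964 (tt N10500 F66531) (tt N10965 (iv F66538)) (tt N10562 F66532) (tt N11565 D17452) (tt N10371 F66533) (tt N10804 F66534) (tt N10773 F66535) (tt N10369 (iv D16851)) (tt N10772 F66536))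
theorem Q10966 : ∀ i, i < 10966 → P i := stepQ 10965 Q10965 (allL N10965 (tt N10502 F66537) (tt N10964 F66538) (tt N10561 F66539) (tt N11566 D17453) (tt N10772 F66540) (tt N10372 F66541) (tt N10704 F66542) (tt N10370 (iv D16852)) (tt N10371 F66543))
theorem Q10967 : ∀ i, i < 10967 → P i := stepQ 10966 Q10966 (allL N10966 (tt N10503 F66544) (tt N11363 (iv F67876)) (tt N10513 F66545) (tt N10371 (iv D16853)) (tt N11567 D17454) (tt N10373 F66546) (tt N11356 (iv F67849)) (tt N10374 F66547) (tt N11566 (iv F68643)))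
theorem Q10968 : ∀ i, i < 10968 → P i := stepQ 10967 Q10967 (allL N10967 (tt N10504 F66548) (tt N11392 (iv F67997)) (tt N10514 F66549) (tt N10372 (iv D16854)) (tt N11568 D17455) (tt N11566 (iv F68640)) (tt N10548 F66550) (tt N10410 F66551) (tt N10373 F66552))
theorem Q10969 : ∀ i, i < 10969 → P i := stepQ 10968 Q10968 (allL N10968 (tt N10505 F66553) (tt N11561 (iv F68621)) (tt N10515 F66554) (tt N11545 (iv F68567)) (tt N10373 (iv D16855)) (tt N11569 D17456) (tt N10551 F66555) (tt N10375 F66556) (tt N11568 (iv F68651)))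
theorem Q10970 : ∀ i, i < 10970 → P i := stepQ 10969 Q10969 (allL N10969 (tt N10507 F66557) (tt N11371 (iv F67906)) (tt N10517 F66558) (tt N11337 (iv F67761)) (tt N10374 (iv D16856)) (tt N11570 D17457) (tt N11358 (iv F67860)) (tt N11567 (iv F68646)) (tt N10415 F66559))
theorem Q10971 : ∀ i, i < 10971 → P i := stepQ 10970 Q10970 (allL N10970 (tt N10508 F66560) (tt N11562 (iv F68625)) (tt N10518 F66561) (tt N10376 F66562) (tt N11570 (iv F68657)) (tt N10375 (iv D16857)) (tt N11571 D17458) (tt N11569 (iv F68654)) (tt N10417 F66563))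
theorem Q10972 : ∀ i, i < 10972 → P i := stepQ 10971 Q10971 (allL N10971 (tt N10509 F66564) (tt N11564 (iv F68631)) (tt N11520 (iv F68459)) (tt N11571 (iv F68661)) (tt N11341 (iv F67779)) (tt N11558 (iv F68612)) (tt N10376 (iv D16858)) (tt N11551 (iv F68583)) (tt N10418 F66565))
theorem Q10973 : ∀ i, i < 10973 → P i := stepQ 10972 Q10972 (allL N10972 (tt N10445 F66566) (tt N11044 (iv F66811)) (tt N11572 D17459) (tt N10377 (iv D16859)) (tt N11573 D17460) (tt N11035 (iv F66788)) (tt N11258 (iv F67486)) (tt N10378 F66567) (tt N11034 (iv F66785)))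
theorem Q10974 : ∀ i, i < 10974 → P i := stepQ 10973 Q10973 (allL N10973 (tt N10447 F66568) (tt N11326 (iv F67709)) (tt N10378 (iv D16860)) (tt N10380 F66569) (tt N11574 D17461) (tt N11320 (iv F67680)) (tt N11343 (iv F67791)) (tt N11572 (iv F68666)) (tt N10703 F66570))
theorem Q10975 : ∀ i, i < 10975 → P i := stepQ 10974 Q10974 (allL N10974 (tt N10448 F66571) (tt N11319 (iv F67672)) (tt N11574 (iv F68671)) (tt N10379 F66572) (tt N10378 (iv D16861)) (tt N11575 D17462) (tt N11344 (iv F67796)) (tt N11573 (iv F68669)) (tt N11342 (iv F67786)))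
theorem Q10976 : ∀ i, i < 10976 → P i := stepQ 10975 Q10975 (allL N10975 (tt N10449 F66573) (tt N11525 (iv F68487)) (tt N11441 (iv F68188)) (tt N11575 (iv F68675)) (tt N10390 F66574) (tt N10379 (iv D16862)) (tt N11576 D17463) (tt N10871 F66575) (tt N11555 (iv F68599)))
theorem Q10977 : ∀ i, i < 10977 → P i := stepQ 10976 Q10976 (allL N10976 (tt N10629 F66576) (tt N10387 F66577) (tt N11577 D17464) (tt N10381 (iv D16863)) (tt N11578 D17465) (tt N11322 (iv F67690)) (tt N10400 F66578) (tt N10382 F66579) (tt N11389 (iv F67992)))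
theorem Q10978 : ∀ i, i < 10978 → P i := stepQ 10977 Q10977 (allL N10977 (tt N10630 F66580) (tt N10497 F66581) (tt N10382 (iv D16864)) (tt N10429 F66582) (tt N11579 D17466) (tt N11323 (iv F67697)) (tt N10402 F66583) (tt N11577 (iv F68683)) (tt N10539 F66584))
theorem Q10979 : ∀ i, i < 10979 → P i := stepQ 10978 Q10978 (allL N10978 (tt N10631 F66585) (tt N10389 F66586) (tt N11579 (iv F68690)) (tt N10384 F66587) (tt N10382 (iv D16865)) (tt N11580 D17467) (tt N10403 F66588) (tt N11578 (iv F68687)) (tt N10556 F66589))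
theorem Q10980 : ∀ i, i < 10980 → P i := stepQ 10979 Q10979 (allL N10979 (tt N10632 F66590) (tt N11521 (iv F68465)) (tt N10384 F66591) (tt N11581 D17468) (tt N10383 (iv D16866)) (tt N11582 D17469) (tt N10404 F66592) (tt N10991 (iv F66639)) (tt N11556 (iv F68604)))
theorem Q10981 : ∀ i, i < 10981 → P i := stepQ 10980 Q10980 (allL N10980 (tt N10633 F66593) (tt N10390 F66594) (tt N11582 (iv F68702)) (tt N11580 (iv F68695)) (tt N11525 (iv F68488)) (tt N10384 (iv D16867)) (tt N11583 D17470) (tt N10992 (iv F66642)) (tt N11557 (iv F68608)))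
theorem Q10982 : ∀ i, i < 10982 → P i := stepQ 10981 Q10981 (allL N10981 (tt N10513 F66595) (tt N11322 (iv F67689)) (tt N10503 F66596) (tt N10385 (iv D16868)) (tt N11584 D17471) (tt N10387 F66597) (tt N11328 (iv F67723)) (tt N10388 F66598) (tt N11386 (iv F67979)))
theorem Q10983 : ∀ i, i < 10983 → P i := stepQ 10982 Q10982 (allL N10982 (tt N10514 F66599) (tt N11389 (iv F67988)) (tt N10504 F66600) (tt N10386 (iv D16869)) (tt N11585 D17472) (tt N11386 (iv F67976)) (tt N10410 F66601) (tt N10548 F66602) (tt N10387 F66603))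
theorem Q10984 : ∀ i, i < 10984 → P i := stepQ 10983 Q10983 (allL N10983 (tt N10515 F66604) (tt N11578 (iv F68685)) (tt N10505 F66605) (tt N11121 (iv F67057)) (tt N10387 (iv D16870)) (tt N11586 D17473) (tt N10412 F66606) (tt N10389 F66607) (tt N11585 (iv F68713)))
theorem Q10985 : ∀ i, i < 10985 → P i := stepQ 10984 Q10984 (allL N10984 (tt N10517 F66608) (tt N11324 (iv F67701)) (tt N10507 F66609) (tt N11321 (iv F67685)) (tt N10388 (iv D16871)) (tt N11587 D17474) (tt N11329 (iv F67730)) (tt N11584 (iv F68708)) (tt N10554 F66610))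
theorem Q10986 : ∀ i, i < 10986 → P i := stepQ 10985 Q10985 (allL N10985 (tt N10518 F66611) (tt N11580 (iv F68694)) (tt N10508 F66612) (tt N10390 F66613) (tt N11587 (iv F68719)) (tt N10389 (iv D16872)) (tt N11588 D17475) (tt N11586 (iv F68716)) (tt N10557 F66614))
theorem Q10987 : ∀ i, i < 10987 → P i := stepQ 10986 Q10986 (allL N10986 (tt N10519 F66615) (tt N11583 (iv F68704)) (tt N11523 (iv F68476)) (tt N11588 (iv F68723)) (tt N11576 (iv F68677)) (tt N10418 F66616) (tt N10390 (iv D16873)) (tt N11127 (iv F67073)) (tt N11558 (iv F68613)))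
theorem Q10988 : ∀ i, i < 10988 → P i := stepQ 10987 Q10987 (allL N10987 (tt N10399 F66617) (tt N10523 F66618) (tt N10987 F66619) (tt N11589 D17476) (tt N10802 F66620) (tt N10827 F66621) (tt N10628 F66622) (tt N10391 (iv D16874)) (tt N10392 F66623))
theorem Q10989 : ∀ i, i < 10989 → P i := stepQ 10988 Q10988 (allL N10988 (tt N10400 F66624) (tt N10524 F66625) (tt N11590 D17477) (tt N10392 (iv D16875)) (tt N11591 D17478) (tt N11419 (iv F68110)) (tt N10629 F66626) (tt N10393 F66627) (tt N11589 (iv F68730)))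
theorem Q10990 : ∀ i, i < 10990 → P i := stepQ 10989 Q10989 (allL N10989 (tt N10402 F66628) (tt N11518 (iv F68447)) (tt N10393 (iv D16876)) (tt N10431 F66629) (tt N11592 D17479) (tt N11379 (iv F67941)) (tt N10630 F66630) (tt N11590 (iv F68734)) (tt N10699 F66631))
theorem Q10991 : ∀ i, i < 10991 → P i := stepQ 10990 Q10990 (allL N10990 (tt N10403 F66632) (tt N10527 F66633) (tt N11592 (iv F68741)) (tt N10395 F66634) (tt N10393 (iv D16877)) (tt N11593 D17480) (tt N10631 F66635) (tt N11591 (iv F68739)) (tt N11454 (iv F68250)))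
theorem Q10992 : ∀ i, i < 10992 → P i := stepQ 10991 Q10991 (allL N10991 (tt N10404 F66636) (tt N11347 (iv F67807)) (tt N10395 F66637) (tt N11503 (iv F68396)) (tt N10394 (iv D16878)) (tt N11594 D17481) (tt N10632 F66638) (tt N10979 F66639) (tt N11559 (iv F68617)))
theorem Q10993 : ∀ i, i < 10993 → P i := stepQ 10992 Q10992 (allL N10992 (tt N10405 F66640) (tt N10528 F66641) (tt N11594 (iv F68748)) (tt N11593 (iv F68746)) (tt N11355 (iv F67844)) (tt N10395 (iv D16879)) (tt N11595 D17482) (tt N10980 F66642) (tt N11560 (iv F68620)))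
theorem Q10994 : ∀ i, i < 10994 → P i := stepQ 10993 Q10993 (allL N10993 (tt N10829 F66643) (tt N10406 F66644) (tt N10993 F66645) (tt N11596 D17483) (tt N10398 F66646) (tt N10744 F66647) (tt N10994 (iv F66654)) (tt N10396 (iv D16880)) (tt N10743 F66648))
theorem Q10995 : ∀ i, i < 10995 → P i := stepQ 10994 Q10994 (allL N10994 (tt N10827 F66649) (tt N10408 F66650) (tt N10994 F66651) (tt N11597 D17484) (tt N10743 F66652) (tt N10399 F66653) (tt N10993 F66654) (tt N10397 (iv D16881)) (tt N10398 F66655))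
theorem Q10996 : ∀ i, i < 10996 → P i := stepQ 10995 Q10995 (allL N10995 (tt N11419 (iv F68108)) (tt N10409 F66656) (tt N11598 D17485) (tt N10398 (iv D16882)) (tt N11599 D17486) (tt N10400 F66657) (tt N11332 (iv F67741)) (tt N10401 F66658) (tt N11597 (iv F68764)))
theorem Q10997 : ∀ i, i < 10997 → P i := stepQ 10996 Q10996 (allL N10996 (tt N11589 (iv F68726)) (tt N10410 F66659) (tt N11600 D17487) (tt N10399 (iv D16883)) (tt N11601 D17488) (tt N11597 (iv F68761)) (tt N11389 (iv F67990)) (tt N11392 (iv F68000)) (tt N10400 F66660))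
theorem Q10998 : ∀ i, i < 10998 → P i := stepQ 10997 Q10997 (allL N10997 (tt N11590 (iv F68731)) (tt N10677 F66661) (tt N10400 (iv D16884)) (tt N10997 F66662) (tt N11602 D17489) (tt N11598 (iv F68767)) (tt N11577 (iv F68682)) (tt N10402 F66663) (tt N11600 (iv F68774)))
theorem Q10999 : ∀ i, i < 10999 → P i := stepQ 10998 Q10998 (allL N10998 (tt N11591 (iv F68735)) (tt N10412 F66664) (tt N11602 (iv F68778)) (tt N11210 (iv F67344)) (tt N10400 (iv D16885)) (tt N11603 D17490) (tt N11578 (iv F68686)) (tt N10403 F66665) (tt N11601 (iv F68776)))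
theorem Q11000 : ∀ i, i < 11000 → P i := stepQ 10999 Q10999 (allL N10999 (tt N11379 (iv F67938)) (tt N10679 F66666) (tt N10401 (iv D16886)) (tt N10432 F66667) (tt N11604 D17491) (tt N10402 F66668) (tt N11336 (iv F67757)) (tt N11598 (iv F68768)) (tt N10696 F66669))
theorem Q11001 : ∀ i, i < 11001 → P i := stepQ 11000 Q11000 (allL N11000 (tt N11428 (iv F68133)) (tt N10415 F66670) (tt N11604 (iv F68783)) (tt N11358 (iv F67859)) (tt N10401 (iv D16887)) (tt N11605 D17492) (tt N11337 (iv F67762)) (tt N11599 (iv F68770)) (tt N11371 (iv F67910)))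
theorem Q11002 : ∀ i, i < 11002 → P i := stepQ 11001 Q11001 (allL N11001 (tt N11592 (iv F68740)) (tt N10681 F66671) (tt N10403 F66672) (tt N11433 (iv F68157)) (tt N10402 (iv D16888)) (tt N11606 D17493) (tt N11579 (iv F68691)) (tt N11602 (iv F68779)) (tt N10700 F66673))
theorem Q11003 : ∀ i, i < 11003 → P i := stepQ 11002 Q11002 (allL N11002 (tt N11593 (iv F68744)) (tt N10417 F66674) (tt N11606 (iv F68788)) (tt N10405 F66675) (tt N11605 (iv F68786)) (tt N10403 (iv D16889)) (tt N11607 D17494) (tt N11603 (iv F68781)) (tt N11562 (iv F68628)))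
theorem Q11004 : ∀ i, i < 11004 → P i := stepQ 11003 Q11003 (allL N11003 (tt N11503 (iv F68394)) (tt N11415 (iv F68095)) (tt N11433 (iv F68156)) (tt N10404 (iv D16890)) (tt N10433 F66676) (tt N11608 D17495) (tt N11581 (iv F68700)) (tt N11609 D17496) (tt N11484 (iv F68357)))
theorem Q11005 : ∀ i, i < 11005 → P i := stepQ 11004 Q11004 (allL N11004 (tt N11594 (iv F68747)) (tt N11526 (iv F68490)) (tt N10405 F66677) (tt N11608 (iv F68792)) (tt N11361 (iv F67872)) (tt N10404 (iv D16891)) (tt N11610 D17497) (tt N11215 (iv F67353)) (tt N11563 (iv F68630)))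
theorem Q11006 : ∀ i, i < 11006 → P i := stepQ 11005 Q11005 (allL N11005 (tt N11595 (iv F68750)) (tt N10418 F66678) (tt N11610 (iv F68794)) (tt N11607 (iv F68791)) (tt N11362 (iv F67874)) (tt N11583 (iv F68705)) (tt N10405 (iv D16892)) (tt N11216 (iv F67355)) (tt N11564 (iv F68632)))
theorem Q11007 : ∀ i, i < 11007 → P i := stepQ 11006 Q11006 (allL N11006 (tt N10543 F66679) (tt N11596 (iv F68755)) (tt N11043 (iv F66807)) (tt N10406 (iv D16893)) (tt N11611 D17498) (tt N11217 (iv F67358)) (tt N11008 (iv F66686)) (tt N11270 (iv F67514)) (tt N11007 (iv F66683)))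
theorem Q11008 : ∀ i, i < 11008 → P i := stepQ 11007 Q11007 (allL N11007 (tt N10544 F66680) (tt N11332 (iv F67739)) (tt N11352 (iv F67827)) (tt N10407 (iv D16894)) (tt N11612 D17499) (tt N11328 (iv F67722)) (tt N10409 F66681) (tt N10413 F66682) (tt N11006 F66683))
theorem Q11009 : ∀ i, i < 11009 → P i := stepQ 11008 Q11008 (allL N11008 (tt N10545 F66684) (tt N11597 (iv F68760)) (tt N11384 (iv F67965)) (tt N10408 (iv D16895)) (tt N11613 D17500) (tt N10410 F66685) (tt N11006 F66686) (tt N11566 (iv F68642)) (tt N10409 F66687))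
theorem Q11010 : ∀ i, i < 11010 → P i := stepQ 11009 Q11009 (allL N11009 (tt N10546 F66688) (tt N10675 (iv F66692)) (tt N10409 (iv D16896)) (tt N10423 F66689) (tt N11614 D17501) (tt N10411 F66690) (tt N11352 (iv F67829)) (tt N10414 F66691) (tt N11384 (iv F67969)))
theorem Q11011 : ∀ i, i < 11011 → P i := stepQ 11010 Q11010 (allL N11010 (tt N10547 F66693) (tt N11599 (iv F68769)) (tt N11614 (iv F68807)) (tt N11611 (iv F68796)) (tt N10409 (iv D16897)) (tt N11615 D17502) (tt N11612 (iv F68798)) (tt N10415 F66694) (tt N11613 (iv F68804)))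
theorem Q11012 : ∀ i, i < 11012 → P i := stepQ 11011 Q11011 (allL N11011 (tt N10548 F66695) (tt N10676 (iv F66700)) (tt N10410 (iv D16898)) (tt N10424 F66696) (tt N11616 D17503) (tt N11384 (iv F67966)) (tt N10504 F66697) (tt N10514 F66698) (tt N10411 F66699))
theorem Q11013 : ∀ i, i < 11013 → P i := stepQ 11012 Q11012 (allL N11012 (tt N10549 F66701) (tt N11601 (iv F68775)) (tt N11616 (iv F68815)) (tt N11222 (iv F67373)) (tt N10410 (iv D16899)) (tt N11617 D17504) (tt N11585 (iv F68711)) (tt N11568 (iv F68650)) (tt N10412 F66702))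
theorem Q11014 : ∀ i, i < 11014 → P i := stepQ 11013 Q11013 (allL N11013 (tt N10551 F66703) (tt N10678 F66704) (tt N10412 F66705) (tt N11618 D17505) (tt N10411 (iv D16900)) (tt N11619 D17506) (tt N10505 F66706) (tt N10416 F66707) (tt N11616 (iv F68818)))
theorem Q11015 : ∀ i, i < 11015 → P i := stepQ 11014 Q11014 (allL N11014 (tt N10552 F66708) (tt N11603 (iv F68780)) (tt N11619 (iv F68828)) (tt N11225 (iv F67381)) (tt N11615 (iv F68811)) (tt N10412 (iv D16901)) (tt N11620 D17507) (tt N10417 F66709) (tt N11617 (iv F68820)))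
theorem Q11016 : ∀ i, i < 11016 → P i := stepQ 11015 Q11015 (allL N11015 (tt N10553 F66710) (tt N11337 (iv F67760)) (tt N11353 (iv F67834)) (tt N11371 (iv F67908)) (tt N10413 (iv D16902)) (tt N11621 D17508) (tt N10415 F66711) (tt N11612 (iv F68799)) (tt N11358 (iv F67861)))
theorem Q11017 : ∀ i, i < 11017 → P i := stepQ 11016 Q11016 (allL N11016 (tt N10554 F66712) (tt N10680 F66713) (tt N10415 F66714) (tt N11346 (iv F67803)) (tt N10414 (iv D16903)) (tt N11622 D17509) (tt N11353 (iv F67836)) (tt N11614 (iv F68809)) (tt N10517 F66715))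
theorem Q11018 : ∀ i, i < 11018 → P i := stepQ 11017 Q11017 (allL N11017 (tt N10555 F66716) (tt N11605 (iv F68785)) (tt N11622 (iv F68835)) (tt N11373 (iv F67916)) (tt N10417 F66717) (tt N10415 (iv D16904)) (tt N11623 D17510) (tt N11615 (iv F68812)) (tt N11570 (iv F68658)))
theorem Q11019 : ∀ i, i < 11019 → P i := stepQ 11018 Q11018 (allL N11018 (tt N10557 F66718) (tt N10682 F66719) (tt N10417 F66720) (tt N10486 F66721) (tt N11622 (iv F68836)) (tt N10416 (iv D16905)) (tt N11624 D17511) (tt N11619 (iv F68829)) (tt N10518 F66722))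
theorem Q11020 : ∀ i, i < 11020 → P i := stepQ 11019 Q11019 (allL N11019 (tt N10558 F66723) (tt N11607 (iv F68790)) (tt N11624 (iv F68842)) (tt N10418 F66724) (tt N11623 (iv F68839)) (tt N11588 (iv F68724)) (tt N10417 (iv D16906)) (tt N11620 (iv F68831)) (tt N11571 (iv F68663)))
theorem Q11021 : ∀ i, i < 11021 → P i := stepQ 11020 Q11020 (allL N11020 (tt N10559 F66725) (tt N11020 F66726) (tt N11530 (iv F68509)) (tt N10419 (iv D16907)) (tt N10610 F66727) (tt N11167 (iv F67185)) (tt N10648 F66728) (tt N11020 F66729) (tt N10647 F66730))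
theorem Q11022 : ∀ i, i < 11022 → P i := stepQ 11021 Q11021 (allL N11021 (tt N10469 F66731) (tt N10662 F66732) (tt N10425 F66733) (tt N11625 D17512) (tt N10424 (iv D16908)) (tt N10464 F66734) (tt N10475 F66735) (tt N10459 F66736) (tt N10426 F66737))
theorem Q11023 : ∀ i, i < 11023 → P i := stepQ 11022 Q11022 (allL N11022 (tt N10565 F66738) (tt N10663 F66739) (tt N11237 (iv F67419)) (tt N10426 (iv D16909)) (tt N11618 (iv F68823)) (tt N10937 F66740) (tt N10476 F66741) (tt N10460 F66742) (tt N11625 (iv F68850)))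
theorem Q11024 : ∀ i, i < 11024 → P i := stepQ 11023 Q11023 (allL N11023 (tt N10659 F66743) (tt N10640 F66744) (tt N11405 (iv F68049)) (tt N10430 (iv D16910)) (tt N11581 (iv F68699)) (tt N10642 F66745) (tt N10433 F66746) (tt N11626 D17513) (tt N11444 (iv F68208)))
theorem Q11025 : ∀ i, i < 11025 → P i := stepQ 11024 Q11024 (allL N11024 (tt N11491 (iv F68369)) (tt N11412 F68084) (tt N11425 (iv F68127)) (tt N10435 F66747) (tt N11609 (iv F68793)) (tt N11497 (iv F68384)) (tt N11626 (iv F68855)) (tt N10433 (iv D16911)) (tt N11627 D17514))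
theorem Q11026 : ∀ i, i < 11026 → P i := stepQ 11025 Q11025 (allL N11025 (tt N10660 F66748) (tt N10649 F66749) (tt N11025 F66750) (tt N11626 (iv F68853)) (tt N10911 F66751) (tt N10652 F66752) (tt N10435 F66753) (tt N10434 (iv D16912)) (tt N11628 D17515))
theorem Q11027 : ∀ i, i < 11027 → P i := stepQ 11026 Q11026 (allL N11026 (tt N11512 F68427) (tt N11530 (iv F68508)) (tt N11026 F66754) (tt N11627 (iv F68856)) (tt N11242 (iv F67435)) (tt N11513 (iv F68429)) (tt N11628 (iv F68862)) (tt N11026 F66755) (tt N10435 (iv D16913)))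
theorem Q11028 : ∀ i, i < 11028 → P i := stepQ 11027 Q11027 (allL N11027 (tt N11531 (iv F68513)) (tt N10438 F66756) (tt N11382 (iv F67957)) (tt N11148 (iv F67135)) (tt N10436 (iv D16914)) (tt N11629 D17516) (tt N11381 (iv F67953)) (tt N10440 F66757) (tt N10801 F66758))
theorem Q11029 : ∀ i, i < 11029 → P i := stepQ 11028 Q11028 (allL N11028 (tt N10854 F66759) (tt N11131 (iv F67085)) (tt N10437 (iv D16915)) (tt N10439 F66760) (tt N11630 D17517) (tt N11135 (iv F67100)) (tt N10776 F66761) (tt N10759 F66762) (tt N10806 F66763))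
theorem Q11030 : ∀ i, i < 11030 → P i := stepQ 11029 Q11029 (allL N11029 (tt N10855 F66764) (tt N11148 (iv F67133)) (tt N11630 (iv F68869)) (tt N10438 F66765) (tt N10437 (iv D16916)) (tt N11631 D17518) (tt N10777 F66766) (tt N10760 F66767) (tt N10807 F66768))
theorem Q11031 : ∀ i, i < 11031 → P i := stepQ 11030 Q11030 (allL N11030 (tt N11519 (iv F68452)) (tt N11629 (iv F68864)) (tt N10481 F66769) (tt N11631 (iv F68875)) (tt N10668 F66770) (tt N10438 (iv D16917)) (tt N11632 D17519) (tt N10441 F66771) (tt N10808 F66772))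
theorem Q11032 : ∀ i, i < 11032 → P i := stepQ 11031 Q11031 (allL N11031 (tt N11555 (iv F68596)) (tt N10441 F66773) (tt N11402 (iv F68038)) (tt N11522 (iv F68472)) (tt N10486 F66774) (tt N10440 (iv D16918)) (tt N11633 D17520) (tt N11629 (iv F68866)) (tt N10449 F66775))
theorem Q11033 : ∀ i, i < 11033 → P i := stepQ 11032 Q11032 (allL N11032 (tt N11520 (iv F68458)) (tt N11633 (iv F68882)) (tt N10509 F66776) (tt N11523 (iv F68477)) (tt N10683 F66777) (tt N11529 (iv F68505)) (tt N10441 (iv D16919)) (tt N11632 (iv F68880)) (tt N10457 F66778))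
theorem Q11034 : ∀ i, i < 11034 → P i := stepQ 11033 Q11033 (allL N11033 (tt N11523 (iv F68475)) (tt N11440 (iv F68183)) (tt N10519 F66779) (tt N11520 (iv F68460)) (tt N11447 (iv F68221)) (tt N10457 F66780) (tt N10442 (iv D16920)) (tt N10862 F66781) (tt N11529 (iv F68506)))
theorem Q11035 : ∀ i, i < 11035 → P i := stepQ 11034 Q11034 (allL N11034 (tt N11035 (iv F66786)) (tt N10452 F66782) (tt N11634 D17521) (tt N10443 (iv D16921)) (tt N11635 D17522) (tt N10445 F66783) (tt N11307 (iv F67616)) (tt N10446 F66784) (tt N10972 F66785))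
theorem Q11036 : ∀ i, i < 11036 → P i := stepQ 11035 Q11035 (allL N11035 (tt N11034 F66786) (tt N10453 F66787) (tt N11636 D17523) (tt N10444 (iv D16922)) (tt N11637 D17524) (tt N10972 F66788) (tt N10725 F66789) (tt N10733 F66790) (tt N10445 F66791))
theorem Q11037 : ∀ i, i < 11037 → P i := stepQ 11036 Q11036 (allL N11036 (tt N11572 (iv F68664)) (tt N11532 (iv F68518)) (tt N10445 (iv D16923)) (tt N11036 F66792) (tt N11638 D17525) (tt N11634 (iv F68886)) (tt N11436 (iv F68167)) (tt N10447 F66793) (tt N11636 (iv F68898)))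
theorem Q11038 : ∀ i, i < 11038 → P i := stepQ 11037 Q11037 (allL N11037 (tt N11573 (iv F68667)) (tt N10454 F66794) (tt N11638 (iv F68905)) (tt N10878 F66795) (tt N10445 (iv D16924)) (tt N11639 D17526) (tt N11437 (iv F68171)) (tt N10448 F66796) (tt N11637 (iv F68904)))
theorem Q11039 : ∀ i, i < 11039 → P i := stepQ 11038 Q11038 (allL N11038 (tt N11320 (iv F67677)) (tt N11343 (iv F67788)) (tt N10446 (iv D16925)) (tt N10458 F66797) (tt N11640 D17527) (tt N10447 F66798) (tt N11326 (iv F67712)) (tt N11634 (iv F68887)) (tt N11296 F67564))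
theorem Q11040 : ∀ i, i < 11040 → P i := stepQ 11039 Q11039 (allL N11039 (tt N11321 (iv F67683)) (tt N10455 F66799) (tt N11640 (iv F68910)) (tt N10517 F66800) (tt N10446 (iv D16926)) (tt N11641 D17528) (tt N11327 (iv F67717)) (tt N11635 (iv F68890)) (tt N11346 (iv F67806)))
theorem Q11041 : ∀ i, i < 11041 → P i := stepQ 11040 Q11040 (allL N11040 (tt N11574 (iv F68670)) (tt N11556 (iv F68601)) (tt N10448 F66801) (tt N11445 (iv F68211)) (tt N10447 (iv D16927)) (tt N11642 D17529) (tt N11438 (iv F68177)) (tt N11638 (iv F68906)) (tt N11521 (iv F68470)))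
theorem Q11042 : ∀ i, i < 11042 → P i := stepQ 11041 Q11041 (allL N11041 (tt N11575 (iv F68674)) (tt N10456 F66802) (tt N11642 (iv F68914)) (tt N10449 F66803) (tt N11641 (iv F68913)) (tt N10448 (iv D16928)) (tt N11643 D17530) (tt N11639 (iv F68909)) (tt N11522 (iv F68474)))
theorem Q11043 : ∀ i, i < 11043 → P i := stepQ 11042 Q11042 (allL N11042 (tt N11576 (iv F68676)) (tt N10457 F66804) (tt N11447 (iv F68220)) (tt N11643 (iv F68916)) (tt N10519 F66805) (tt N11440 (iv F68186)) (tt N10449 (iv D16929)) (tt N10885 F66806) (tt N11633 (iv F68884)))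
theorem Q11044 : ∀ i, i < 11044 → P i := stepQ 11043 Q11043 (allL N11043 (tt N11144 (iv F67121)) (tt N11463 (iv F68285)) (tt N11006 F66807) (tt N10450 (iv D16930)) (tt N11644 D17531) (tt N10886 F66808) (tt N11384 (iv F67967)) (tt N10684 F66809) (tt N11352 (iv F67831)))
theorem Q11045 : ∀ i, i < 11045 → P i := stepQ 11044 Q11044 (allL N11044 (tt N10794 F66810) (tt N10972 F66811) (tt N10798 F66812) (tt N10451 (iv D16931)) (tt N11645 D17532) (tt N10453 F66813) (tt N10935 F66814) (tt N10732 F66815) (tt N10452 F66816))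
theorem Q11046 : ∀ i, i < 11046 → P i := stepQ 11045 Q11045 (allL N11045 (tt N11382 (iv F67955)) (tt N11635 (iv F68889)) (tt N11531 (iv F68514)) (tt N11644 (iv F68918)) (tt N10452 (iv D16932)) (tt N11646 D17533) (tt N11385 (iv F67971)) (tt N10455 F66817) (tt N11645 (iv F68925)))
theorem Q11047 : ∀ i, i < 11047 → P i := stepQ 11046 Q11046 (allL N11046 (tt N10796 F66818) (tt N11637 (iv F68900)) (tt N11056 (iv F66850)) (tt N10892 F66819) (tt N10453 (iv D16933)) (tt N11647 D17534) (tt N10729 F66820) (tt N10736 F66821) (tt N10454 F66822))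
theorem Q11048 : ∀ i, i < 11048 → P i := stepQ 11047 Q11047 (allL N11047 (tt N11528 (iv F68497)) (tt N11639 (iv F68907)) (tt N11535 (iv F68532)) (tt N10895 F66823) (tt N11646 (iv F68926)) (tt N10454 (iv D16934)) (tt N11648 D17535) (tt N10456 F66824) (tt N11647 (iv F68931)))
theorem Q11049 : ∀ i, i < 11049 → P i := stepQ 11048 Q11048 (allL N11048 (tt N11402 (iv F68036)) (tt N11641 (iv F68911)) (tt N11555 (iv F68597)) (tt N10698 F66825) (tt N10456 F66826) (tt N10455 (iv D16935)) (tt N11649 D17536) (tt N11646 (iv F68927)) (tt N11441 (iv F68192)))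
theorem Q11050 : ∀ i, i < 11050 → P i := stepQ 11049 Q11049 (allL N11049 (tt N11529 (iv F68502)) (tt N11643 (iv F68915)) (tt N11558 (iv F68610)) (tt N10457 F66827) (tt N11649 (iv F68935)) (tt N11520 (iv F68462)) (tt N10456 (iv D16936)) (tt N11648 (iv F68933)) (tt N11523 (iv F68480)))
theorem Q11051 : ∀ i, i < 11051 → P i := stepQ 11050 Q11050 (allL N11050 (tt N10916 F66828) (tt N11650 D17537) (tt N10460 (iv D16937)) (tt N10462 F66829) (tt N11651 D17538) (tt N10714 F66830) (tt N10479 F66831) (tt N11237 (iv F67422)) (tt N11061 (iv F66874)))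
theorem Q11052 : ∀ i, i < 11052 → P i := stepQ 11051 Q11051 (allL N11051 (tt N11534 (iv F68526)) (tt N10667 F66832) (tt N11651 (iv F68941)) (tt N10461 F66833) (tt N10460 (iv D16938)) (tt N11652 D17539) (tt N10480 F66834) (tt N11618 (iv F68825)) (tt N11062 (iv F66878)))
theorem Q11053 : ∀ i, i < 11053 → P i := stepQ 11052 Q11052 (allL N11052 (tt N11535 (iv F68531)) (tt N10668 F66835) (tt N11528 (iv F68498)) (tt N11652 (iv F68945)) (tt N11629 (iv F68865)) (tt N10461 (iv D16939)) (tt N11653 D17540) (tt N10486 F66836) (tt N11063 (iv F66881)))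
theorem Q11054 : ∀ i, i < 11054 → P i := stepQ 11053 Q11053 (allL N11053 (tt N11654 D17541) (tt N10462 (iv D16940)) (tt N10571 F66837) (tt N11650 (iv F68937)) (tt N10787 F66838) (tt N10713 F66839) (tt N10485 F66840) (tt N10598 F66841) (tt N11164 (iv F67171)))
theorem Q11055 : ∀ i, i < 11055 → P i := stepQ 11054 Q11054 (allL N11054 (tt N10468 F66842) (tt N11065 (iv F66889)) (tt N11054 F66843) (tt N11655 D17542) (tt N10488 F66844) (tt N11058 (iv F66863)) (tt N10614 F66845) (tt N10463 (iv D16941)) (tt N11057 (iv F66858)))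
theorem Q11056 : ∀ i, i < 11056 → P i := stepQ 11055 Q11055 (allL N11055 (tt N10470 F66846) (tt N11536 (iv F68535)) (tt N11515 (iv F68438)) (tt N10464 (iv D16942)) (tt N11656 D17543) (tt N11625 (iv F68848)) (tt N10616 F66847) (tt N11655 (iv F68957)) (tt N10937 F66848))
theorem Q11057 : ∀ i, i < 11057 → P i := stepQ 11056 Q11056 (allL N11056 (tt N10471 F66849) (tt N11538 (iv F68545)) (tt N11046 F66850) (tt N11656 (iv F68959)) (tt N10465 (iv D16943)) (tt N11657 D17544) (tt N10617 F66851) (tt N10490 F66852) (tt N10938 F66853))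
theorem Q11058 : ∀ i, i < 11058 → P i := stepQ 11057 Q11057 (allL N11057 (tt N11058 (iv F66859)) (tt N10474 F66854) (tt N11057 F66855) (tt N11658 D17545) (tt N11082 (iv F66932)) (tt N10468 F66856) (tt N10941 F66857) (tt N10466 (iv D16944)) (tt N11054 F66858))
theorem Q11059 : ∀ i, i < 11059 → P i := stepQ 11058 Q11058 (allL N11058 (tt N11057 F66859) (tt N10475 F66860) (tt N11058 F66861) (tt N11659 D17546) (tt N10494 F66862) (tt N11054 F66863) (tt N10662 F66864) (tt N10467 (iv D16945)) (tt N10468 F66865))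
theorem Q11060 : ∀ i, i < 11060 → P i := stepQ 11059 Q11059 (allL N11059 (tt N11655 (iv F68955)) (tt N10476 F66866) (tt N11660 D17547) (tt N10468 (iv D16946)) (tt N11661 D17548) (tt N11658 (iv F68967)) (tt N10663 F66867) (tt N10470 F66868) (tt N11659 (iv F68976)))
theorem Q11061 : ∀ i, i < 11061 → P i := stepQ 11060 Q11060 (allL N11060 (tt N11625 (iv F68846)) (tt N10478 F66869) (tt N11302 (iv F67593)) (tt N10469 (iv D16947)) (tt N11662 D17549) (tt N10470 F66870) (tt N11544 (iv F68563)) (tt N11658 (iv F68969)) (tt N10565 F66871))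
theorem Q11062 : ∀ i, i < 11062 → P i := stepQ 11061 Q11061 (allL N11061 (tt N11515 (iv F68437)) (tt N11663 D17550) (tt N10470 (iv D16948)) (tt N10572 F66872) (tt N11664 D17551) (tt N11302 (iv F67594)) (tt N10666 F66873) (tt N11660 (iv F68979)) (tt N11050 F66874))
theorem Q11063 : ∀ i, i < 11063 → P i := stepQ 11062 Q11062 (allL N11062 (tt N11656 (iv F68958)) (tt N10480 F66875) (tt N11664 (iv F68991)) (tt N10471 F66876) (tt N10470 (iv D16949)) (tt N11665 D17552) (tt N10667 F66877) (tt N11661 (iv F68983)) (tt N11051 F66878))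
theorem Q11064 : ∀ i, i < 11064 → P i := stepQ 11063 Q11063 (allL N11063 (tt N11657 (iv F68962)) (tt N10481 F66879) (tt N11383 (iv F67961)) (tt N11665 (iv F68995)) (tt N11388 (iv F67985)) (tt N10471 (iv D16950)) (tt N11666 D17553) (tt N10499 F66880) (tt N11052 F66881))
theorem Q11065 : ∀ i, i < 11065 → P i := stepQ 11064 Q11064 (allL N11064 (tt N10804 F66882) (tt N11082 (iv F66930)) (tt N10599 F66883) (tt N11667 D17554) (tt N10474 F66884) (tt N10500 F66885) (tt N10727 F66886) (tt N10472 (iv D16951)) (tt N10852 F66887))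
theorem Q11066 : ∀ i, i < 11066 → P i := stepQ 11065 Q11065 (allL N11065 (tt N10664 F66888) (tt N11054 F66889) (tt N10600 F66890) (tt N11668 D17555) (tt N10852 F66891) (tt N10475 F66892) (tt N10615 F66893) (tt N10473 (iv D16952)) (tt N10474 F66894))
theorem Q11067 : ∀ i, i < 11067 → P i := stepQ 11066 Q11066 (allL N11066 (tt N11070 (iv F66903)) (tt N11658 (iv F68966)) (tt N11669 D17556) (tt N10474 (iv D16953)) (tt N11670 D17557) (tt N10476 F66895) (tt N10947 F66896) (tt N10478 F66897) (tt N11668 (iv F69011)))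
theorem Q11068 : ∀ i, i < 11068 → P i := stepQ 11067 Q11067 (allL N11067 (tt N11544 (iv F68560)) (tt N11659 (iv F68972)) (tt N11671 D17558) (tt N10475 (iv D16954)) (tt N11672 D17559) (tt N11668 (iv F69008)) (tt N11625 (iv F68849)) (tt N11244 (iv F67442)) (tt N10476 F66898))
theorem Q11069 : ∀ i, i < 11069 → P i := stepQ 11068 Q11068 (allL N11068 (tt N11175 (iv F67221)) (tt N11673 D17560) (tt N10476 (iv D16955)) (tt N10603 F66899) (tt N11674 D17561) (tt N11669 (iv F69013)) (tt N11237 (iv F67421)) (tt N10479 F66900) (tt N11671 (iv F69019)))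
theorem Q11070 : ∀ i, i < 11070 → P i := stepQ 11069 Q11069 (allL N11069 (tt N11545 (iv F68566)) (tt N11661 (iv F68980)) (tt N11674 (iv F69024)) (tt N10505 F66901) (tt N10476 (iv D16956)) (tt N11675 D17562) (tt N11618 (iv F68824)) (tt N10480 F66902) (tt N11672 (iv F69021)))
theorem Q11071 : ∀ i, i < 11071 → P i := stepQ 11070 Q11070 (allL N11070 (tt N11066 F66903) (tt N11544 (iv F68561)) (tt N11676 D17563) (tt N10477 (iv D16957)) (tt N11677 D17564) (tt N10946 F66904) (tt N10478 F66905) (tt N10947 F66906) (tt N11247 (iv F67451)))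
theorem Q11072 : ∀ i, i < 11072 → P i := stepQ 11071 Q11071 (allL N11071 (tt N11546 (iv F68570)) (tt N11678 D17565) (tt N10478 (iv D16958)) (tt N10483 F66907) (tt N11679 D17566) (tt N10479 F66908) (tt N11676 (iv F69031)) (tt N11669 (iv F69015)) (tt N11248 (iv F67454)))
theorem Q11073 : ∀ i, i < 11073 → P i := stepQ 11072 Q11072 (allL N11072 (tt N11547 (iv F68573)) (tt N11662 (iv F68984)) (tt N11679 (iv F69038)) (tt N11394 (iv F68008)) (tt N10478 (iv D16959)) (tt N11680 D17567) (tt N11677 (iv F69034)) (tt N11670 (iv F69017)) (tt N11249 (iv F67457)))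
theorem Q11074 : ∀ i, i < 11074 → P i := stepQ 11073 Q11073 (allL N11073 (tt N11681 D17568) (tt N10479 (iv D16960)) (tt N11663 (iv F68987)) (tt N10485 F66909) (tt N11682 D17569) (tt N11678 (iv F69037)) (tt N11650 (iv F68939)) (tt N11673 (iv F69023)) (tt N11250 (iv F67459)))
theorem Q11075 : ∀ i, i < 11075 → P i := stepQ 11074 Q11074 (allL N11074 (tt N11549 (iv F68576)) (tt N11682 (iv F69041)) (tt N10480 F66910) (tt N11630 (iv F68870)) (tt N10479 (iv D16961)) (tt N11683 D17570) (tt N11651 (iv F68943)) (tt N11674 (iv F69025)) (tt N11251 (iv F67461)))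
theorem Q11076 : ∀ i, i < 11076 → P i := stepQ 11075 Q11075 (allL N11075 (tt N11550 (iv F68580)) (tt N11665 (iv F68994)) (tt N11683 (iv F69042)) (tt N10481 F66911) (tt N11680 (iv F69039)) (tt N10480 (iv D16962)) (tt N11684 D17571) (tt N11675 (iv F69027)) (tt N11252 (iv F67463)))
theorem Q11077 : ∀ i, i < 11077 → P i := stepQ 11076 Q11076 (allL N11076 (tt N11551 (iv F68582)) (tt N11666 (iv F68997)) (tt N11632 (iv F68878)) (tt N11684 (iv F69043)) (tt N11398 (iv F68018)) (tt N11653 (iv F68947)) (tt N10481 (iv D16963)) (tt N10509 F66912) (tt N11253 (iv F67465)))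
theorem Q11078 : ∀ i, i < 11078 → P i := stepQ 11077 Q11077 (allL N11077 (tt N11181 (iv F67251)) (tt N11079 (iv F66920)) (tt N10482 (iv D16964)) (tt N11676 (iv F69029)) (tt N11078 F66919) (tt N10591 F66913) (tt N10483 F66914) (tt N10593 F66915) (tt N11254 (iv F67469)))
theorem Q11079 : ∀ i, i < 11079 → P i := stepQ 11078 Q11078 (allL N11078 (tt N11685 D17572) (tt N10483 (iv D16965)) (tt N10574 F66916) (tt N11678 (iv F69036)) (tt N11077 (iv F66919)) (tt N10485 F66917) (tt N11079 (iv F66922)) (tt N10607 F66918) (tt N11255 (iv F67473)))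
theorem Q11080 : ∀ i, i < 11080 → P i := stepQ 11079 Q11079 (allL N11079 (tt N11553 (iv F68587)) (tt N11077 F66920) (tt N10484 F66921) (tt N11686 D17573) (tt N10483 (iv D16966)) (tt N11174 (iv F67218)) (tt N11078 F66922) (tt N10608 F66923) (tt N11256 (iv F67479)))
theorem Q11081 : ∀ i, i < 11081 → P i := stepQ 11080 Q11080 (allL N11080 (tt N10485 (iv D16967)) (tt N11554 (iv F68591)) (tt N10575 F66924) (tt N11681 (iv F69040)) (tt N11169 (iv F67196)) (tt N11685 (iv F69046)) (tt N11654 (iv F68953)) (tt N10609 F66925) (tt N11257 (iv F67482)))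
theorem Q11082 : ∀ i, i < 11082 → P i := stepQ 11081 Q11081 (allL N11081 (tt N11558 (iv F68609)) (tt N10683 F66926) (tt N11529 (iv F68503)) (tt N11624 (iv F68843)) (tt N11633 (iv F68883)) (tt N10509 F66927) (tt N10486 (iv D16968)) (tt N11653 (iv F68948)) (tt N10519 F66928))
theorem Q11083 : ∀ i, i < 11083 → P i := stepQ 11082 Q11082 (allL N11082 (tt N10494 F66929) (tt N11064 F66930) (tt N11082 F66931) (tt N11687 D17574) (tt N11057 F66932) (tt N11087 (iv F66951)) (tt N10622 F66933) (tt N10487 (iv D16969)) (tt N10488 F66934))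
theorem Q11084 : ∀ i, i < 11084 → P i := stepQ 11083 Q11083 (allL N11083 (tt N10495 F66935) (tt N11448 (iv F68225)) (tt N11688 D17575) (tt N10488 (iv D16970)) (tt N11689 D17576) (tt N11471 (iv F68316)) (tt N10623 F66936) (tt N10489 F66937) (tt N11687 (iv F69055)))
theorem Q11085 : ∀ i, i < 11085 → P i := stepQ 11084 Q11084 (allL N11084 (tt N10497 F66938) (tt N11690 D17577) (tt N10489 (iv D16971)) (tt N10566 F66939) (tt N11691 D17578) (tt N11480 (iv F68342)) (tt N10624 F66940) (tt N11688 (iv F69059)) (tt N10526 F66941))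
theorem Q11086 : ∀ i, i < 11086 → P i := stepQ 11085 Q11085 (allL N11085 (tt N10498 F66942) (tt N11454 (iv F68246)) (tt N11691 (iv F69070)) (tt N10490 F66943) (tt N10489 (iv D16972)) (tt N11692 D17579) (tt N10625 F66944) (tt N11689 (iv F69062)) (tt N10527 F66945))
theorem Q11087 : ∀ i, i < 11087 → P i := stepQ 11086 Q11086 (allL N11086 (tt N10499 F66946) (tt N11560 (iv F68619)) (tt N11325 (iv F67706)) (tt N11692 (iv F69074)) (tt N11409 (iv F68068)) (tt N10490 (iv D16973)) (tt N11693 D17580) (tt N11657 (iv F68964)) (tt N10528 F66947))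
theorem Q11088 : ∀ i, i < 11088 → P i := stepQ 11087 Q11087 (allL N11087 (tt N11088 (iv F66954)) (tt N10500 F66948) (tt N11087 F66949) (tt N11694 D17581) (tt N10493 F66950) (tt N11082 F66951) (tt N10874 F66952) (tt N10491 (iv D16974)) (tt N10873 F66953))
theorem Q11089 : ∀ i, i < 11089 → P i := stepQ 11088 Q11088 (allL N11088 (tt N11087 F66954) (tt N10502 F66955) (tt N11088 F66956) (tt N11695 D17582) (tt N10873 F66957) (tt N10494 F66958) (tt N10872 F66959) (tt N10492 (iv D16975)) (tt N10493 F66960))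
theorem Q11090 : ∀ i, i < 11090 → P i := stepQ 11089 Q11089 (allL N11089 (tt N11471 (iv F68314)) (tt N10503 F66961) (tt N11696 D17583) (tt N10493 (iv D16976)) (tt N11697 D17584) (tt N10495 F66962) (tt N11462 (iv F68282)) (tt N10496 F66963) (tt N11695 (iv F69088)))
theorem Q11091 : ∀ i, i < 11091 → P i := stepQ 11090 Q11090 (allL N11090 (tt N11687 (iv F69051)) (tt N10504 F66964) (tt N11698 D17585) (tt N10494 (iv D16977)) (tt N11699 D17586) (tt N11695 (iv F69085)) (tt N10676 F66965) (tt N10533 F66966) (tt N10495 F66967))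
theorem Q11092 : ∀ i, i < 11092 → P i := stepQ 11091 Q11091 (allL N11091 (tt N11688 (iv F69056)) (tt N11577 (iv F68680)) (tt N10495 (iv D16978)) (tt N11091 F66968) (tt N11700 D17587) (tt N11696 (iv F69090)) (tt N10677 F66969) (tt N10497 F66970) (tt N11698 (iv F69097)))
theorem Q11093 : ∀ i, i < 11093 → P i := stepQ 11092 Q11092 (allL N11092 (tt N11689 (iv F69060)) (tt N10505 F66971) (tt N11700 (iv F69102)) (tt N11661 (iv F68981)) (tt N10495 (iv D16979)) (tt N11701 D17588) (tt N10678 F66972) (tt N10498 F66973) (tt N11699 (iv F69101)))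
theorem Q11094 : ∀ i, i < 11094 → P i := stepQ 11093 Q11093 (allL N11093 (tt N11480 (iv F68339)) (tt N11323 (iv F67695)) (tt N10496 (iv D16980)) (tt N10567 F66974) (tt N11702 D17589) (tt N10497 F66975) (tt N11338 (iv F67767)) (tt N11696 (iv F69091)) (tt N10537 F66976))
theorem Q11095 : ∀ i, i < 11095 → P i := stepQ 11094 Q11094 (allL N11094 (tt N11481 (iv F68345)) (tt N10507 F66977) (tt N11702 (iv F69107)) (tt N11414 (iv F68091)) (tt N10496 (iv D16981)) (tt N11703 D17590) (tt N11466 (iv F68299)) (tt N11697 (iv F69093)) (tt N10538 F66978))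
theorem Q11096 : ∀ i, i < 11096 → P i := stepQ 11095 Q11095 (allL N11095 (tt N11691 (iv F69069)) (tt N11579 (iv F68689)) (tt N10498 F66979) (tt N11406 (iv F68056)) (tt N10497 (iv D16982)) (tt N11704 D17591) (tt N10681 F66980) (tt N11700 (iv F69104)) (tt N10540 F66981))
theorem Q11097 : ∀ i, i < 11097 → P i := stepQ 11096 Q11096 (allL N11096 (tt N11692 (iv F69073)) (tt N10508 F66982) (tt N11704 (iv F69112)) (tt N10499 F66983) (tt N11703 (iv F69110)) (tt N10498 (iv D16983)) (tt N11705 D17592) (tt N11701 (iv F69106)) (tt N10541 F66984))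
theorem Q11098 : ∀ i, i < 11098 → P i := stepQ 11097 Q11097 (allL N11097 (tt N11693 (iv F69076)) (tt N10509 F66985) (tt N11408 (iv F68063)) (tt N11705 (iv F69115)) (tt N11417 (iv F68105)) (tt N10683 F66986) (tt N10499 (iv D16984)) (tt N11666 (iv F68999)) (tt N10542 F66987))
theorem Q11099 : ∀ i, i < 11099 → P i := stepQ 11098 Q11098 (allL N11098 (tt N11565 (iv F68633)) (tt N11694 (iv F69079)) (tt N11706 D17593) (tt N10500 (iv D16985)) (tt N11707 D17594) (tt N11667 (iv F69002)) (tt N10888 F66988) (tt N11418 (iv F68107)) (tt N10887 F66989))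
theorem Q11100 : ∀ i, i < 11100 → P i := stepQ 11099 Q11099 (allL N11099 (tt N11356 (iv F67845)) (tt N11462 (iv F68280)) (tt N11328 (iv F67721)) (tt N10501 (iv D16986)) (tt N11708 D17595) (tt N11352 (iv F67828)) (tt N10503 F66990) (tt N10506 F66991) (tt N10886 F66992))
theorem Q11101 : ∀ i, i < 11101 → P i := stepQ 11100 Q11100 (allL N11100 (tt N11566 (iv F68637)) (tt N11695 (iv F69084)) (tt N11386 (iv F67975)) (tt N10502 (iv D16987)) (tt N11709 D17596) (tt N10504 F66993) (tt N10886 F66994) (tt N10545 F66995) (tt N10503 F66996))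
theorem Q11102 : ∀ i, i < 11102 → P i := stepQ 11101 Q11101 (allL N11101 (tt N11567 (iv F68644)) (tt N11697 (iv F69092)) (tt N11584 (iv F68707)) (tt N11707 (iv F69121)) (tt N10503 (iv D16988)) (tt N11710 D17597) (tt N11708 (iv F69125)) (tt N10507 F66997) (tt N11709 (iv F69131)))
theorem Q11103 : ∀ i, i < 11103 → P i := stepQ 11102 Q11102 (allL N11102 (tt N11568 (iv F68647)) (tt N11699 (iv F69098)) (tt N11585 (iv F68710)) (tt N11672 (iv F69020)) (tt N10504 (iv D16989)) (tt N11711 D17598) (tt N11616 (iv F68816)) (tt N10549 F66998) (tt N10505 F66999))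
theorem Q11104 : ∀ i, i < 11104 → P i := stepQ 11103 Q11103 (allL N11103 (tt N11569 (iv F68652)) (tt N11701 (iv F69105)) (tt N11586 (iv F68715)) (tt N11675 (iv F69026)) (tt N11710 (iv F69132)) (tt N10505 (iv D16990)) (tt N11712 D17599) (tt N10508 F67000) (tt N11711 (iv F69135)))
theorem Q11105 : ∀ i, i < 11105 → P i := stepQ 11104 Q11104 (allL N11104 (tt N11358 (iv F67856)) (tt N11466 (iv F68297)) (tt N11329 (iv F67728)) (tt N11428 (iv F68135)) (tt N10506 (iv D16991)) (tt N11713 D17600) (tt N10507 F67001) (tt N11708 (iv F69126)) (tt N10553 F67002))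
theorem Q11106 : ∀ i, i < 11106 → P i := stepQ 11105 Q11105 (allL N11105 (tt N11570 (iv F68655)) (tt N11703 (iv F69109)) (tt N11587 (iv F68718)) (tt N11431 (iv F68146)) (tt N10508 F67003) (tt N10507 (iv D16992)) (tt N11714 D17601) (tt N11710 (iv F69133)) (tt N10555 F67004))
theorem Q11107 : ∀ i, i < 11107 → P i := stepQ 11106 Q11106 (allL N11106 (tt N11571 (iv F68659)) (tt N11705 (iv F69114)) (tt N11588 (iv F68722)) (tt N10509 F67005) (tt N11714 (iv F69138)) (tt N11624 (iv F68844)) (tt N10508 (iv D16993)) (tt N11712 (iv F69136)) (tt N10558 F67006))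
theorem Q11108 : ∀ i, i < 11108 → P i := stepQ 11107 Q11107 (allL N11107 (tt N11411 (iv F68075)) (tt N10684 F67007) (tt N11715 D17602) (tt N10510 (iv D16994)) (tt N11716 D17603) (tt N11128 (iv F67075)) (tt N10686 F67008) (tt N11463 (iv F68287)) (tt N10685 F67009))
theorem Q11109 : ∀ i, i < 11109 → P i := stepQ 11108 Q11108 (allL N11108 (tt N11328 (iv F67719)) (tt N10685 F67010) (tt N11356 (iv F67847)) (tt N10511 (iv D16995)) (tt N11717 D17604) (tt N10544 F67011) (tt N10513 F67012) (tt N10516 F67013) (tt N10684 F67014))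
theorem Q11110 : ∀ i, i < 11110 → P i := stepQ 11109 Q11109 (allL N11109 (tt N11386 (iv F67973)) (tt N10686 F67015) (tt N11566 (iv F68639)) (tt N10512 (iv D16996)) (tt N11718 D17605) (tt N10514 F67016) (tt N10684 F67017) (tt N11384 (iv F67968)) (tt N10513 F67018))
theorem Q11111 : ∀ i, i < 11111 → P i := stepQ 11110 Q11110 (allL N11110 (tt N11584 (iv F68706)) (tt N10688 F67019) (tt N11567 (iv F68645)) (tt N11716 (iv F69144)) (tt N10513 (iv D16997)) (tt N11719 D17606) (tt N11717 (iv F69149)) (tt N10517 F67020) (tt N11718 (iv F69155)))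
theorem Q11112 : ∀ i, i < 11112 → P i := stepQ 11111 Q11111 (allL N11111 (tt N11585 (iv F68709)) (tt N10690 F67021) (tt N11568 (iv F68648)) (tt N11134 (iv F67095)) (tt N10514 (iv D16998)) (tt N11720 D17607) (tt N10549 F67022) (tt N11616 (iv F68817)) (tt N10515 F67023))
theorem Q11113 : ∀ i, i < 11113 → P i := stepQ 11112 Q11112 (allL N11112 (tt N11586 (iv F68714)) (tt N10693 F67024) (tt N11569 (iv F68653)) (tt N11137 (iv F67107)) (tt N11719 (iv F69157)) (tt N10515 (iv D16999)) (tt N11721 D17608) (tt N10518 F67025) (tt N11720 (iv F69160)))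
theorem Q11114 : ∀ i, i < 11114 → P i := stepQ 11113 Q11113 (allL N11113 (tt N11329 (iv F67726)) (tt N10695 F67026) (tt N11358 (iv F67858)) (tt N11327 (iv F67716)) (tt N10516 (iv D17000)) (tt N11722 D17609) (tt N10517 F67027) (tt N11717 (iv F69150)) (tt N11353 (iv F67837)))
theorem Q11115 : ∀ i, i < 11115 → P i := stepQ 11114 Q11114 (allL N11114 (tt N11587 (iv F68717)) (tt N10698 F67028) (tt N11570 (iv F68656)) (tt N11641 (iv F68912)) (tt N10518 F67029) (tt N10517 (iv D17001)) (tt N11723 D17610) (tt N11719 (iv F69158)) (tt N11622 (iv F68837)))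
theorem Q11116 : ∀ i, i < 11116 → P i := stepQ 11115 Q11115 (allL N11115 (tt N11588 (iv F68721)) (tt N10702 F67030) (tt N11571 (iv F68660)) (tt N10519 F67031) (tt N11723 (iv F69167)) (tt N10558 F67032) (tt N10518 (iv D17002)) (tt N11721 (iv F69163)) (tt N11624 (iv F68845)))
theorem Q11117 : ∀ i, i < 11117 → P i := stepQ 11116 Q11116 (allL N11116 (tt N10529 F67033) (tt N10829 F67034) (tt N10576 F67035) (tt N11724 D17611) (tt N10522 F67036) (tt N10821 F67037) (tt N11117 (iv F67044)) (tt N10520 (iv D17003)) (tt N10820 F67038))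
theorem Q11118 : ∀ i, i < 11118 → P i := stepQ 11117 Q11117 (allL N11117 (tt N10531 F67039) (tt N10827 F67040) (tt N10578 F67041) (tt N11725 D17612) (tt N10820 F67042) (tt N10523 F67043) (tt N11116 F67044) (tt N10521 (iv D17004)) (tt N10522 F67045))
theorem Q11119 : ∀ i, i < 11119 → P i := stepQ 11118 Q11118 (allL N11118 (tt N10532 F67046) (tt N11419 (iv F68109)) (tt N11726 D17613) (tt N10522 (iv D17005)) (tt N11727 D17614) (tt N10524 F67047) (tt N11410 (iv F68073)) (tt N10525 F67048) (tt N11725 (iv F69178)))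
theorem Q11120 : ∀ i, i < 11120 → P i := stepQ 11119 Q11119 (allL N11119 (tt N10533 F67049) (tt N11589 (iv F68727)) (tt N11728 D17615) (tt N10523 (iv D17006)) (tt N11729 D17616) (tt N11725 (iv F69175)) (tt N10637 F67050) (tt N11687 (iv F69054)) (tt N10524 F67051))
theorem Q11121 : ∀ i, i < 11121 → P i := stepQ 11120 Q11120 (allL N11120 (tt N10534 F67052) (tt N11730 D17617) (tt N10524 (iv D17007)) (tt N10581 F67053) (tt N11731 D17618) (tt N11726 (iv F69181)) (tt N10638 F67054) (tt N10526 F67055) (tt N11728 (iv F69188)))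
theorem Q11122 : ∀ i, i < 11122 → P i := stepQ 11121 Q11121 (allL N11121 (tt N10535 F67056) (tt N11591 (iv F68736)) (tt N11731 (iv F69197)) (tt N10983 F67057) (tt N10524 (iv D17008)) (tt N11732 D17619) (tt N10639 F67058) (tt N10527 F67059) (tt N11729 (iv F69192)))
theorem Q11123 : ∀ i, i < 11123 → P i := stepQ 11122 Q11122 (allL N11122 (tt N10537 F67060) (tt N11458 (iv F68266)) (tt N10525 (iv D17009)) (tt N10569 F67061) (tt N11733 D17620) (tt N10526 F67062) (tt N11374 (iv F67922)) (tt N11726 (iv F69182)) (tt N11480 (iv F68344)))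
theorem Q11124 : ∀ i, i < 11124 → P i := stepQ 11123 Q11123 (allL N11123 (tt N10538 F67063) (tt N11428 (iv F68134)) (tt N11733 (iv F69205)) (tt N11466 (iv F68298)) (tt N10525 (iv D17010)) (tt N11734 D17621) (tt N11414 (iv F68092)) (tt N11727 (iv F69184)) (tt N11481 (iv F68349)))
theorem Q11125 : ∀ i, i < 11125 → P i := stepQ 11124 Q11124 (allL N11124 (tt N11455 (iv F68251)) (tt N10526 (iv D17011)) (tt N11518 (iv F68448)) (tt N10570 F67064) (tt N11735 D17622) (tt N11458 (iv F68269)) (tt N10642 F67065) (tt N11730 (iv F69195)) (tt N11690 (iv F69068)))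
theorem Q11126 : ∀ i, i < 11126 → P i := stepQ 11125 Q11125 (allL N11125 (tt N10540 F67066) (tt N11735 (iv F69208)) (tt N10527 F67067) (tt N11349 (iv F67816)) (tt N10526 (iv D17012)) (tt N11736 D17623) (tt N10643 F67068) (tt N11731 (iv F69200)) (tt N11691 (iv F69072)))
theorem Q11127 : ∀ i, i < 11127 → P i := stepQ 11126 Q11126 (allL N11126 (tt N10541 F67069) (tt N11593 (iv F68745)) (tt N11736 (iv F69212)) (tt N10528 F67070) (tt N11734 (iv F69207)) (tt N10527 (iv D17013)) (tt N11737 D17624) (tt N11732 (iv F69203)) (tt N11692 (iv F69075)))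
theorem Q11128 : ∀ i, i < 11128 → P i := stepQ 11127 Q11127 (allL N11127 (tt N10542 F67071) (tt N11595 (iv F68751)) (tt N11351 (iv F67823)) (tt N11737 (iv F69214)) (tt N11469 (iv F68309)) (tt N10645 F67072) (tt N10528 (iv D17014)) (tt N10986 F67073) (tt N11693 (iv F69078)))
theorem Q11129 : ∀ i, i < 11129 → P i := stepQ 11128 Q11128 (allL N11128 (tt N11724 (iv F69168)) (tt N10543 F67074) (tt N11738 D17625) (tt N10529 (iv D17015)) (tt N11739 D17626) (tt N11107 F67075) (tt N11130 (iv F67083)) (tt N11470 (iv F68312)) (tt N11129 (iv F67080)))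
theorem Q11130 : ∀ i, i < 11130 → P i := stepQ 11129 Q11129 (allL N11129 (tt N11410 (iv F68070)) (tt N10544 F67076) (tt N11368 (iv F67895)) (tt N10530 (iv D17016)) (tt N11740 D17627) (tt N10685 F67077) (tt N10532 F67078) (tt N10536 F67079) (tt N11128 F67080))
theorem Q11131 : ∀ i, i < 11131 → P i := stepQ 11130 Q11130 (allL N11130 (tt N11725 (iv F69173)) (tt N10545 F67081) (tt N11395 (iv F68010)) (tt N10531 (iv D17017)) (tt N11741 D17628) (tt N10533 F67082) (tt N11128 F67083) (tt N11695 (iv F69087)) (tt N10532 F67084))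
theorem Q11132 : ∀ i, i < 11132 → P i := stepQ 11131 Q11131 (allL N11131 (tt N11726 (iv F69179)) (tt N11028 F67085) (tt N10532 (iv D17018)) (tt N10587 F67086) (tt N11742 D17629) (tt N10534 F67087) (tt N11368 (iv F67898)) (tt N10537 F67088) (tt N11395 (iv F68013)))
theorem Q11133 : ∀ i, i < 11133 → P i := stepQ 11132 Q11132 (allL N11132 (tt N11727 (iv F69183)) (tt N10547 F67089) (tt N11742 (iv F69232)) (tt N11739 (iv F69222)) (tt N10532 (iv D17019)) (tt N11743 D17630) (tt N11740 (iv F69224)) (tt N10538 F67090) (tt N11741 (iv F69230)))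
theorem Q11134 : ∀ i, i < 11134 → P i := stepQ 11133 Q11133 (allL N11133 (tt N11728 (iv F69185)) (tt N11393 (iv F68002)) (tt N10533 (iv D17020)) (tt N10588 F67091) (tt N11744 D17631) (tt N11395 (iv F68012)) (tt N10689 F67092) (tt N11698 (iv F69096)) (tt N10534 F67093))
theorem Q11135 : ∀ i, i < 11135 → P i := stepQ 11134 Q11134 (allL N11134 (tt N11729 (iv F69189)) (tt N10549 F67094) (tt N11744 (iv F69238)) (tt N11111 F67095) (tt N10533 (iv D17021)) (tt N11745 D17632) (tt N10690 F67096) (tt N11699 (iv F69100)) (tt N10535 F67097))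
theorem Q11136 : ∀ i, i < 11136 → P i := stepQ 11135 Q11135 (allL N11135 (tt N11449 (iv F68230)) (tt N10534 (iv D17022)) (tt N10550 F67098) (tt N10590 F67099) (tt N11746 D17633) (tt N11028 F67100) (tt N10691 F67101) (tt N10539 F67102) (tt N11393 (iv F68006)))
theorem Q11137 : ∀ i, i < 11137 → P i := stepQ 11136 Q11136 (allL N11136 (tt N11731 (iv F69196)) (tt N11746 (iv F69244)) (tt N10535 F67103) (tt N11747 D17634) (tt N10534 (iv D17023)) (tt N11748 D17635) (tt N10692 F67104) (tt N10540 F67105) (tt N11744 (iv F69240)))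
theorem Q11138 : ∀ i, i < 11138 → P i := stepQ 11137 Q11137 (allL N11137 (tt N11732 (iv F69201)) (tt N10552 F67106) (tt N11748 (iv F69253)) (tt N11112 F67107) (tt N11743 (iv F69236)) (tt N10535 (iv D17024)) (tt N11749 D17636) (tt N10541 F67108) (tt N11745 (iv F69243)))
theorem Q11139 : ∀ i, i < 11139 → P i := stepQ 11138 Q11138 (allL N11138 (tt N11414 (iv F68089)) (tt N10553 F67109) (tt N11375 (iv F67925)) (tt N11481 (iv F68347)) (tt N10536 (iv D17025)) (tt N11750 D17637) (tt N10538 F67110) (tt N11740 (iv F69225)) (tt N11466 (iv F68300)))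
theorem Q11140 : ∀ i, i < 11140 → P i := stepQ 11139 Q11139 (allL N11139 (tt N11733 (iv F69204)) (tt N11349 (iv F67814)) (tt N10538 F67111) (tt N11735 (iv F69209)) (tt N10537 (iv D17026)) (tt N11751 D17638) (tt N11375 (iv F67927)) (tt N11742 (iv F69234)) (tt N11702 (iv F69108)))
theorem Q11141 : ∀ i, i < 11141 → P i := stepQ 11140 Q11140 (allL N11140 (tt N11734 (iv F69206)) (tt N10555 F67112) (tt N11751 (iv F69261)) (tt N11483 (iv F68352)) (tt N10541 F67113) (tt N10538 (iv D17027)) (tt N11752 D17639) (tt N11743 (iv F69237)) (tt N11703 (iv F69111)))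
theorem Q11142 : ∀ i, i < 11142 → P i := stepQ 11141 Q11141 (allL N11141 (tt N11456 (iv F68257)) (tt N10540 F67114) (tt N10556 F67115) (tt N11459 (iv F68273)) (tt N10539 (iv D17028)) (tt N11753 D17640) (tt N10700 F67116) (tt N11746 (iv F69247)) (tt N11579 (iv F68692)))
theorem Q11143 : ∀ i, i < 11143 → P i := stepQ 11142 Q11142 (allL N11142 (tt N11736 (iv F69211)) (tt N11753 (iv F69265)) (tt N10541 F67117) (tt N11460 (iv F68276)) (tt N11751 (iv F69262)) (tt N10540 (iv D17029)) (tt N11754 D17641) (tt N11748 (iv F69254)) (tt N11704 (iv F69113)))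
theorem Q11144 : ∀ i, i < 11144 → P i := stepQ 11143 Q11143 (allL N11143 (tt N11737 (iv F69213)) (tt N10558 F67118) (tt N11754 (iv F69267)) (tt N10542 F67119) (tt N11752 (iv F69264)) (tt N10702 F67120) (tt N10541 (iv D17030)) (tt N11749 (iv F69258)) (tt N11705 (iv F69117)))
theorem Q11145 : ∀ i, i < 11145 → P i := stepQ 11144 Q11144 (allL N11144 (tt N11043 F67121) (tt N10775 (iv F67125)) (tt N10543 (iv D17031)) (tt N10564 F67122) (tt N11755 D17642) (tt N11270 (iv F67513)) (tt N10800 F67123) (tt N11217 (iv F67359)) (tt N10767 F67124))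
theorem Q11146 : ∀ i, i < 11146 → P i := stepQ 11145 Q11145 (allL N11145 (tt N11611 (iv F68795)) (tt N11739 (iv F69221)) (tt N11755 (iv F69271)) (tt N10547 F67126) (tt N10543 (iv D17032)) (tt N11756 D17643) (tt N11147 (iv F67131)) (tt N11487 (iv F68362)) (tt N11146 (iv F67129)))
theorem Q11147 : ∀ i, i < 11147 → P i := stepQ 11146 Q11146 (allL N11146 (tt N11612 (iv F68797)) (tt N11740 (iv F69223)) (tt N11357 (iv F67853)) (tt N11147 (iv F67130)) (tt N10544 (iv D17033)) (tt N11757 D17644) (tt N10547 F67127) (tt N10553 F67128) (tt N11145 F67129))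
theorem Q11148 : ∀ i, i < 11148 → P i := stepQ 11147 Q11147 (allL N11147 (tt N11613 (iv F68801)) (tt N11741 (iv F69227)) (tt N11387 (iv F67981)) (tt N11146 F67130) (tt N10545 (iv D17034)) (tt N11758 D17645) (tt N11145 F67131) (tt N11709 (iv F69130)) (tt N10547 F67132))
theorem Q11149 : ∀ i, i < 11149 → P i := stepQ 11148 Q11148 (allL N11148 (tt N11614 (iv F68805)) (tt N11029 F67133) (tt N10547 F67134) (tt N11027 F67135) (tt N10546 (iv D17035)) (tt N11759 D17646) (tt N11357 (iv F67854)) (tt N10554 F67136) (tt N11387 (iv F67983)))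
theorem Q11150 : ∀ i, i < 11150 → P i := stepQ 11149 Q11149 (allL N11149 (tt N11615 (iv F68810)) (tt N11743 (iv F69235)) (tt N11759 (iv F69282)) (tt N11756 (iv F69275)) (tt N10552 F67137) (tt N10547 (iv D17036)) (tt N11760 D17647) (tt N10555 F67138) (tt N11758 (iv F69280)))
theorem Q11151 : ∀ i, i < 11151 → P i := stepQ 11150 Q11150 (allL N11150 (tt N11616 (iv F68813)) (tt N11394 (iv F68007)) (tt N10549 F67139) (tt N11662 (iv F68985)) (tt N10548 (iv D17037)) (tt N11761 D17648) (tt N11568 (iv F68649)) (tt N11585 (iv F68712)) (tt N10551 F67140))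
theorem Q11152 : ∀ i, i < 11152 → P i := stepQ 11151 Q11151 (allL N11151 (tt N11617 (iv F68819)) (tt N11745 (iv F69241)) (tt N11761 (iv F69288)) (tt N11281 (iv F67536)) (tt N11758 (iv F69279)) (tt N10549 (iv D17038)) (tt N11762 D17649) (tt N11711 (iv F69134)) (tt N10552 F67141))
theorem Q11153 : ∀ i, i < 11153 → P i := stepQ 11152 Q11152 (allL N11152 (tt N11450 (iv F68235)) (tt N10551 F67142) (tt N11746 (iv F69245)) (tt N11249 (iv F67456)) (tt N10550 (iv D17039)) (tt N11763 D17650) (tt N11561 (iv F68623)) (tt N10556 F67143) (tt N11394 (iv F68009)))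
theorem Q11154 : ∀ i, i < 11154 → P i := stepQ 11153 Q11153 (allL N11153 (tt N11618 (iv F68821)) (tt N11249 (iv F67455)) (tt N11284 (iv F67542)) (tt N10551 (iv D17040)) (tt N10565 F67144) (tt N11764 D17651) (tt N11545 (iv F68568)) (tt N11534 (iv F68530)) (tt N11662 (iv F68986)))
theorem Q11155 : ∀ i, i < 11155 → P i := stepQ 11154 Q11154 (allL N11154 (tt N11619 (iv F68826)) (tt N11763 (iv F69291)) (tt N10552 F67145) (tt N11764 (iv F69294)) (tt N11759 (iv F69284)) (tt N10551 (iv D17041)) (tt N11765 D17652) (tt N10557 F67146) (tt N11761 (iv F69289)))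
theorem Q11156 : ∀ i, i < 11156 → P i := stepQ 11155 Q11155 (allL N11155 (tt N11620 (iv F68830)) (tt N11749 (iv F69255)) (tt N11765 (iv F69296)) (tt N11286 (iv F67546)) (tt N11760 (iv F69286)) (tt N11721 (iv F69162)) (tt N10552 (iv D17042)) (tt N10558 F67147) (tt N11762 (iv F69290)))
theorem Q11157 : ∀ i, i < 11157 → P i := stepQ 11156 Q11156 (allL N11156 (tt N11621 (iv F68832)) (tt N11750 (iv F69259)) (tt N11359 (iv F67863)) (tt N11502 (iv F68393)) (tt N11722 (iv F69165)) (tt N10553 (iv D17043)) (tt N11766 D17653) (tt N11757 (iv F69276)) (tt N11713 (iv F69137)))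
theorem Q11158 : ∀ i, i < 11158 → P i := stepQ 11157 Q11157 (allL N11157 (tt N11622 (iv F68833)) (tt N11350 (iv F67819)) (tt N10555 F67148) (tt N11348 (iv F67812)) (tt N10557 F67149) (tt N10554 (iv D17044)) (tt N11767 D17654) (tt N11759 (iv F69285)) (tt N11587 (iv F68720)))
theorem Q11159 : ∀ i, i < 11159 → P i := stepQ 11158 Q11158 (allL N11158 (tt N11623 (iv F68838)) (tt N11752 (iv F69263)) (tt N11767 (iv F69299)) (tt N11505 (iv F68400)) (tt N10558 F67150) (tt N11766 (iv F69298)) (tt N10555 (iv D17045)) (tt N11760 (iv F69287)) (tt N11714 (iv F69139)))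
theorem Q11160 : ∀ i, i < 11160 → P i := stepQ 11159 Q11159 (allL N11159 (tt N11457 (iv F68261)) (tt N10557 F67151) (tt N11753 (iv F69266)) (tt N11557 (iv F68607)) (tt N11350 (iv F67821)) (tt N10556 (iv D17046)) (tt N11768 D17655) (tt N11763 (iv F69293)) (tt N11580 (iv F68696)))
theorem Q11161 : ∀ i, i < 11161 → P i := stepQ 11160 Q11160 (allL N11160 (tt N11624 (iv F68840)) (tt N11768 (iv F69301)) (tt N10558 F67152) (tt N11558 (iv F68611)) (tt N11767 (iv F69300)) (tt N11571 (iv F68662)) (tt N10557 (iv D17047)) (tt N11765 (iv F69297)) (tt N11588 (iv F68725)))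
theorem Q11162 : ∀ i, i < 11162 → P i := stepQ 11161 Q11161 (allL N11161 (tt N11530 (iv F68507)) (tt N11298 (iv F67572)) (tt N10559 (iv D17048)) (tt N11715 (iv F69140)) (tt N11297 F67570) (tt N11172 (iv F67208)) (tt N10706 F67153) (tt N11161 F67154) (tt N10705 F67155))
theorem Q11163 : ∀ i, i < 11163 → P i := stepQ 11162 Q11162 (allL N11162 (tt N10657 F67156) (tt N10566 (iv D17049)) (tt N10568 F67157) (tt N11690 (iv F69065)) (tt N10567 F67158) (tt N10658 F67159) (tt N10627 F67160) (tt N11162 F67161) (tt N10570 F67162))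
theorem Q11164 : ∀ i, i < 11164 → P i := stepQ 11163 Q11163 (allL N11163 (tt N10571 (iv D17050)) (tt N11163 F67163) (tt N11654 (iv F68950)) (tt N10718 F67164) (tt N11168 (iv F67190)) (tt N10722 F67165) (tt N10575 F67166) (tt N10611 F67167) (tt N11165 (iv F67176)))
theorem Q11165 : ∀ i, i < 11165 → P i := stepQ 11164 Q11164 (allL N11164 (tt N11769 D17656) (tt N10572 (iv D17051)) (tt N10573 F67168) (tt N11663 (iv F68988)) (tt N11172 (iv F67207)) (tt N11301 (iv F67590)) (tt N10672 F67169) (tt N11164 F67170) (tt N11053 F67171))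
theorem Q11166 : ∀ i, i < 11166 → P i := stepQ 11165 Q11165 (allL N11165 (tt N10573 (iv D17052)) (tt N11165 F67172) (tt N11769 (iv F69302)) (tt N10575 F67173) (tt N11167 (iv F67184)) (tt N11306 (iv F67610)) (tt N10718 F67174) (tt N11165 F67175) (tt N11163 F67176))
theorem Q11167 : ∀ i, i < 11167 → P i := stepQ 11166 Q11166 (allL N11166 (tt N10574 (iv D17053)) (tt N11166 F67177) (tt N11685 (iv F69044)) (tt N11306 (iv F67609)) (tt N10601 F67178) (tt N10575 F67179) (tt N10952 F67180) (tt N10605 F67181) (tt N11305 (iv F67606)))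
theorem Q11168 : ∀ i, i < 11168 → P i := stepQ 11167 Q11167 (allL N11167 (tt N10585 F67182) (tt N11167 F67183) (tt N11770 D17657) (tt N10576 (iv D17054)) (tt N11165 F67184) (tt N11020 F67185) (tt N10921 F67186) (tt N11167 F67187) (tt N11168 (iv F67194)))
theorem Q11169 : ∀ i, i < 11169 → P i := stepQ 11168 Q11168 (allL N11168 (tt N10586 F67188) (tt N11168 F67189) (tt N11378 (iv F67934)) (tt N10577 (iv D17055)) (tt N11163 F67190) (tt N10647 F67191) (tt N10579 F67192) (tt N10582 F67193) (tt N11167 F67194))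
theorem Q11170 : ∀ i, i < 11170 → P i := stepQ 11169 Q11169 (allL N11169 (tt N10587 F67195) (tt N11511 (iv F68417)) (tt N10579 (iv D17056)) (tt N11726 (iv F69180)) (tt N11080 F67196) (tt N10581 F67197) (tt N11378 (iv F67936)) (tt N10583 F67198) (tt N11400 (iv F68030)))
theorem Q11171 : ∀ i, i < 11171 → P i := stepQ 11170 Q11170 (allL N11170 (tt N10588 F67199) (tt N11771 D17658) (tt N10580 (iv D17057)) (tt N11728 (iv F69186)) (tt N11182 (iv F67256)) (tt N11400 (iv F68028)) (tt N10650 F67200) (tt N11170 F67201) (tt N10581 F67202))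
theorem Q11172 : ∀ i, i < 11172 → P i := stepQ 11171 Q11171 (allL N11171 (tt N11509 (iv F68408)) (tt N10581 (iv D17058)) (tt N11171 F67203) (tt N11730 (iv F69193)) (tt N11183 (iv F67260)) (tt N11511 (iv F68419)) (tt N10652 F67204) (tt N10584 F67205) (tt N11771 (iv F69316)))
theorem Q11173 : ∀ i, i < 11173 → P i := stepQ 11172 Q11172 (allL N11172 (tt N11770 (iv F69306)) (tt N10786 F67206) (tt N10585 (iv D17059)) (tt N11738 (iv F69217)) (tt N11164 F67207) (tt N11161 F67208) (tt N10811 F67209) (tt N11172 F67210) (tt N10787 F67211))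
theorem Q11174 : ∀ i, i < 11174 → P i := stepQ 11173 Q11173 (allL N11173 (tt N11182 (iv F67255)) (tt N11399 (iv F68020)) (tt N10589 F67212) (tt N11772 D17659) (tt N10588 (iv D17060)) (tt N11254 (iv F67466)) (tt N10711 F67213) (tt N11173 F67214) (tt N10591 F67215))
theorem Q11175 : ∀ i, i < 11175 → P i := stepQ 11174 Q11174 (allL N11174 (tt N11510 (iv F68413)) (tt N10591 F67216) (tt N10594 F67217) (tt N11773 D17660) (tt N10590 (iv D17061)) (tt N11079 F67218) (tt N10713 F67219) (tt N10592 F67220) (tt N11399 (iv F68025)))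
theorem Q11176 : ∀ i, i < 11176 → P i := stepQ 11175 Q11175 (allL N11175 (tt N11068 F67221) (tt N11773 (iv F69321)) (tt N10946 F67222) (tt N10591 (iv D17062)) (tt N11747 (iv F69250)) (tt N11676 (iv F69030)) (tt N10714 F67223) (tt N10948 F67224) (tt N11772 (iv F69320)))
theorem Q11177 : ∀ i, i < 11177 → P i := stepQ 11176 Q11176 (allL N11176 (tt N11774 D17661) (tt N10595 (iv D17063)) (tt N11176 F67225) (tt N10608 F67226) (tt N11775 D17662) (tt N10597 F67227) (tt N11184 (iv F67265)) (tt N11552 (iv F68586)) (tt N11176 F67228))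
theorem Q11178 : ∀ i, i < 11178 → P i := stepQ 11177 Q11177 (allL N11177 (tt N10608 F67229) (tt N11775 (iv F69332)) (tt N10596 F67230) (tt N11774 (iv F69327)) (tt N10595 (iv D17064)) (tt N10908 F67231) (tt N11185 (iv F67270)) (tt N11553 (iv F68590)) (tt N11177 F67232))
theorem Q11179 : ∀ i, i < 11179 → P i := stepQ 11178 Q11178 (allL N11178 (tt N10597 (iv D17065)) (tt N10609 F67233) (tt N11178 F67234) (tt N10908 F67235) (tt N10909 F67236) (tt N11774 (iv F69328)) (tt N10917 F67237) (tt N11554 (iv F68595)) (tt N11178 F67238))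
theorem Q11180 : ∀ i, i < 11180 → P i := stepQ 11179 Q11179 (allL N11179 (tt N10598 (iv D17066)) (tt N10917 F67239) (tt N10611 F67240) (tt N11238 (iv F67426)) (tt N10788 F67241) (tt N10715 F67242) (tt N10609 F67243) (tt N11654 (iv F68954)) (tt N11179 F67244))
theorem Q11181 : ∀ i, i < 11181 → P i := stepQ 11180 Q11180 (allL N11180 (tt N10669 F67245) (tt N11180 F67246) (tt N11776 D17663) (tt N10600 (iv D17067)) (tt N11305 (iv F67602)) (tt N10602 F67247) (tt N10618 F67248) (tt N11180 F67249) (tt N10601 F67250))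
theorem Q11182 : ∀ i, i < 11182 → P i := stepQ 11181 Q11181 (allL N11181 (tt N11077 F67251) (tt N11777 D17664) (tt N10601 (iv D17068)) (tt N11669 (iv F69012)) (tt N11685 (iv F69045)) (tt N10603 F67252) (tt N10951 F67253) (tt N10604 F67254) (tt N11776 (iv F69342)))
theorem Q11183 : ∀ i, i < 11183 → P i := stepQ 11182 Q11182 (allL N11182 (tt N11173 F67255) (tt N11778 D17665) (tt N10602 (iv D17069)) (tt N11671 (iv F69018)) (tt N11170 F67256) (tt N11776 (iv F69339)) (tt N11234 (iv F67406)) (tt N11182 F67257) (tt N10603 F67258))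
theorem Q11184 : ∀ i, i < 11184 → P i := stepQ 11183 Q11183 (allL N11183 (tt N11779 D17666) (tt N10603 (iv D17070)) (tt N11183 F67259) (tt N11673 (iv F69022)) (tt N11171 F67260) (tt N11777 (iv F69344)) (tt N11236 (iv F67416)) (tt N10606 F67261) (tt N11778 (iv F69350)))
theorem Q11185 : ∀ i, i < 11185 → P i := stepQ 11184 Q11184 (allL N11184 (tt N11775 (iv F69331)) (tt N10604 (iv D17071)) (tt N11184 F67262) (tt N10607 F67263) (tt N11774 F69330) (tt N10606 F67264) (tt N11176 F67265) (tt N11777 (iv F69346)) (tt N11184 F67266))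
theorem Q11186 : ∀ i, i < 11186 → P i := stepQ 11185 Q11185 (allL N11185 (tt N10607 F67267) (tt N11774 (iv F69325)) (tt N10605 F67268) (tt N11775 (iv F69334)) (tt N10604 (iv D17072)) (tt N10609 F67269) (tt N11177 F67270) (tt N11685 (iv F69048)) (tt N11185 F67271))
theorem Q11187 : ∀ i, i < 11187 → P i := stepQ 11186 Q11186 (allL N11186 (tt N10606 (iv D17073)) (tt N10908 F67272) (tt N11186 F67273) (tt N10609 F67274) (tt N10907 F67275) (tt N11775 (iv F69335)) (tt N11238 (iv F67428)) (tt N11779 (iv F69354)) (tt N11186 F67276))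
theorem Q11188 : ∀ i, i < 11188 → P i := stepQ 11187 Q11187 (allL N11187 (tt N11297 F67569) (tt N11242 (iv F67433)) (tt N10610 (iv D17074)) (tt N11706 (iv F69118)) (tt N11530 (iv F68510)) (tt N11300 (iv F67585)) (tt N10910 F67277) (tt N11187 F67278) (tt N10793 F67279))
theorem Q11189 : ∀ i, i < 11189 → P i := stepQ 11188 Q11188 (allL N11188 (tt N11243 (iv F67437)) (tt N10616 F67280) (tt N11780 D17667) (tt N10612 (iv D17075)) (tt N11781 D17668) (tt N11191 (iv F67289)) (tt N11536 (iv F68537)) (tt N11192 (iv F67294)) (tt N10942 F67281))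
theorem Q11190 : ∀ i, i < 11190 → P i := stepQ 11189 Q11189 (allL N11189 (tt N11532 (iv F68517)) (tt N11309 (iv F67625)) (tt N10613 (iv D17076)) (tt N11189 F67282) (tt N11782 D17669) (tt N11436 (iv F68166)) (tt N11537 (iv F68541)) (tt N10620 F67283) (tt N10943 F67284))
theorem Q11191 : ∀ i, i < 11191 → P i := stepQ 11190 Q11190 (allL N11190 (tt N11533 (iv F68522)) (tt N10617 F67285) (tt N11782 (iv F69360)) (tt N11781 (iv F69358)) (tt N10613 (iv D17077)) (tt N11783 D17670) (tt N11538 (iv F68546)) (tt N10621 F67286) (tt N10944 F67287))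
theorem Q11192 : ∀ i, i < 11192 → P i := stepQ 11191 Q11191 (allL N11191 (tt N10663 F67288) (tt N11192 (iv F67292)) (tt N11784 D17671) (tt N10614 (iv D17078)) (tt N11785 D17672) (tt N11188 F67289) (tt N11655 (iv F68956)) (tt N10616 F67290) (tt N11539 (iv F68552)))
theorem Q11193 : ∀ i, i < 11193 → P i := stepQ 11192 Q11192 (allL N11192 (tt N10665 F67291) (tt N11191 F67292) (tt N11786 D17673) (tt N10615 (iv D17079)) (tt N11787 D17674) (tt N10616 F67293) (tt N11668 (iv F69009)) (tt N11188 F67294) (tt N10947 F67295))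
theorem Q11194 : ∀ i, i < 11194 → P i := stepQ 11193 Q11193 (allL N11193 (tt N10666 F67296) (tt N11788 D17675) (tt N10616 (iv D17080)) (tt N10619 F67297) (tt N11789 D17676) (tt N11786 (iv F69375)) (tt N11515 (iv F68439)) (tt N11784 (iv F69369)) (tt N10948 F67298))
theorem Q11195 : ∀ i, i < 11195 → P i := stepQ 11194 Q11194 (allL N11194 (tt N10667 F67299) (tt N11781 (iv F69357)) (tt N11789 (iv F69386)) (tt N10617 F67300) (tt N10616 (iv D17081)) (tt N11790 D17677) (tt N11656 (iv F68960)) (tt N11785 (iv F69372)) (tt N10949 F67301))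
theorem Q11196 : ∀ i, i < 11196 → P i := stepQ 11195 Q11195 (allL N11195 (tt N10668 F67302) (tt N11783 (iv F69363)) (tt N11315 (iv F67651)) (tt N11790 (iv F69389)) (tt N11519 (iv F68455)) (tt N10617 (iv D17082)) (tt N11791 D17678) (tt N10626 F67303) (tt N10950 F67304))
theorem Q11197 : ∀ i, i < 11197 → P i := stepQ 11196 Q11196 (allL N11196 (tt N10670 F67305) (tt N11792 D17679) (tt N10618 (iv D17083)) (tt N11786 (iv F69374)) (tt N11793 D17680) (tt N10619 F67306) (tt N11776 (iv F69340)) (tt N11196 F67307) (tt N10951 F67308))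
theorem Q11198 : ∀ i, i < 11198 → P i := stepQ 11197 Q11197 (allL N11197 (tt N10671 F67309) (tt N11197 F67310) (tt N11793 (iv F69399)) (tt N10905 F67311) (tt N10618 (iv D17084)) (tt N11317 (iv F67662)) (tt N11305 (iv F67604)) (tt N11197 F67312) (tt N10952 F67313))
theorem Q11199 : ∀ i, i < 11199 → P i := stepQ 11198 Q11198 (allL N11198 (tt N11794 D17681) (tt N10619 (iv D17085)) (tt N11198 F67314) (tt N11788 (iv F69383)) (tt N11318 (iv F67667)) (tt N11792 (iv F69395)) (tt N11514 (iv F68434)) (tt N11198 F67315) (tt N10953 F67316))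
theorem Q11200 : ∀ i, i < 11200 → P i := stepQ 11199 Q11199 (allL N11199 (tt N11556 (iv F68600)) (tt N11330 (iv F67732)) (tt N10621 F67317) (tt N11795 D17682) (tt N10620 (iv D17086)) (tt N11796 D17683) (tt N11559 (iv F68616)) (tt N11782 (iv F69361)) (tt N10632 F67318))
theorem Q11201 : ∀ i, i < 11201 → P i := stepQ 11200 Q11200 (allL N11200 (tt N11557 (iv F68605)) (tt N10626 F67319) (tt N11796 (iv F69408)) (tt N11457 (iv F68263)) (tt N11439 (iv F68181)) (tt N10621 (iv D17087)) (tt N11797 D17684) (tt N11783 (iv F69364)) (tt N10633 F67320))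
theorem Q11202 : ∀ i, i < 11202 → P i := stepQ 11201 Q11201 (allL N11201 (tt N10676 F67321) (tt N11312 (iv F67638)) (tt N11798 D17685) (tt N10622 (iv D17088)) (tt N11799 D17686) (tt N11308 (iv F67621)) (tt N11687 (iv F69053)) (tt N10637 F67322) (tt N10623 F67323))
theorem Q11203 : ∀ i, i < 11203 → P i := stepQ 11202 Q11202 (allL N11202 (tt N10677 F67324) (tt N11800 D17687) (tt N10623 (iv D17089)) (tt N11202 F67325) (tt N11801 D17688) (tt N11442 (iv F68195)) (tt N11688 (iv F69058)) (tt N10624 F67326) (tt N11798 (iv F69415)))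
theorem Q11204 : ∀ i, i < 11204 → P i := stepQ 11203 Q11203 (allL N11203 (tt N10678 F67327) (tt N11450 (iv F68236)) (tt N11801 (iv F69422)) (tt N11785 (iv F69371)) (tt N10623 (iv D17090)) (tt N11802 D17689) (tt N11689 (iv F69061)) (tt N10625 F67328) (tt N11799 (iv F69418)))
theorem Q11205 : ∀ i, i < 11205 → P i := stepQ 11204 Q11204 (allL N11204 (tt N11518 (iv F68446)) (tt N10624 (iv D17091)) (tt N11455 (iv F68252)) (tt N10627 F67329) (tt N11803 D17690) (tt N11444 (iv F68206)) (tt N11690 (iv F69067)) (tt N11800 (iv F69420)) (tt N10642 F67330))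
theorem Q11206 : ∀ i, i < 11206 → P i := stepQ 11205 Q11205 (allL N11205 (tt N10681 F67331) (tt N11803 (iv F69426)) (tt N10625 F67332) (tt N11339 (iv F67772)) (tt N10624 (iv D17092)) (tt N11804 D17691) (tt N11691 (iv F69071)) (tt N11801 (iv F69423)) (tt N10643 F67333))
theorem Q11207 : ∀ i, i < 11207 → P i := stepQ 11206 Q11206 (allL N11206 (tt N10682 F67334) (tt N11457 (iv F68262)) (tt N11804 (iv F69429)) (tt N10626 F67335) (tt N11446 (iv F68217)) (tt N10625 (iv D17093)) (tt N11805 D17692) (tt N11802 (iv F69425)) (tt N10644 F67336))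
theorem Q11208 : ∀ i, i < 11208 → P i := stepQ 11207 Q11207 (allL N11207 (tt N10683 F67337) (tt N11797 (iv F69410)) (tt N11341 (iv F67778)) (tt N11805 (iv F69432)) (tt N11520 (iv F68461)) (tt N11693 (iv F69077)) (tt N10626 (iv D17094)) (tt N11791 (iv F69392)) (tt N10645 F67338))
theorem Q11209 : ∀ i, i < 11209 → P i := stepQ 11208 Q11208 (allL N11208 (tt N11389 (iv F67987)) (tt N10637 F67339) (tt N11806 D17693) (tt N10628 (iv D17095)) (tt N11807 D17694) (tt N11311 (iv F67633)) (tt N11589 (iv F68729)) (tt N11312 (iv F67640)) (tt N10629 F67340))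
theorem Q11210 : ∀ i, i < 11210 → P i := stepQ 11209 Q11209 (allL N11209 (tt N11577 (iv F68679)) (tt N11808 D17695) (tt N10629 (iv D17096)) (tt N11209 F67341) (tt N11809 D17696) (tt N11403 (iv F68043)) (tt N11590 (iv F68733)) (tt N10630 F67342) (tt N11806 (iv F69435)))
theorem Q11211 : ∀ i, i < 11211 → P i := stepQ 11210 Q11210 (allL N11210 (tt N11578 (iv F68684)) (tt N10639 F67343) (tt N11809 (iv F69442)) (tt N10998 F67344) (tt N10629 (iv D17097)) (tt N11810 D17697) (tt N11591 (iv F68738)) (tt N10631 F67345) (tt N11807 (iv F69438)))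
theorem Q11212 : ∀ i, i < 11212 → P i := stepQ 11211 Q11211 (allL N11211 (tt N11690 (iv F69063)) (tt N10630 (iv D17098)) (tt N10642 F67346) (tt N10657 F67347) (tt N11811 D17698) (tt N11405 (iv F68051)) (tt N11518 (iv F68450)) (tt N11808 (iv F69441)) (tt N11455 (iv F68256)))
theorem Q11213 : ∀ i, i < 11213 → P i := stepQ 11212 Q11212 (allL N11212 (tt N11579 (iv F68688)) (tt N11811 (iv F69447)) (tt N10631 F67348) (tt N11812 D17699) (tt N10630 (iv D17099)) (tt N11813 D17700) (tt N11592 (iv F68742)) (tt N11809 (iv F69443)) (tt N11456 (iv F68260)))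
theorem Q11214 : ∀ i, i < 11214 → P i := stepQ 11213 Q11213 (allL N11213 (tt N11580 (iv F68693)) (tt N10644 F67349) (tt N11813 (iv F69451)) (tt N10633 F67350) (tt N11407 (iv F68061)) (tt N10631 (iv D17100)) (tt N11814 D17701) (tt N11810 (iv F69446)) (tt N11457 (iv F68265)))
theorem Q11215 : ∀ i, i < 11215 → P i := stepQ 11214 Q11214 (allL N11214 (tt N11581 (iv F68697)) (tt N11360 (iv F67866)) (tt N11812 (iv F69449)) (tt N10632 (iv D17101)) (tt N10659 F67351) (tt N11815 D17702) (tt N11503 (iv F68397)) (tt N11816 D17703) (tt N11795 (iv F69407)))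
theorem Q11216 : ∀ i, i < 11216 → P i := stepQ 11215 Q11215 (allL N11215 (tt N11582 (iv F68701)) (tt N11361 (iv F67870)) (tt N10633 F67352) (tt N11815 (iv F69454)) (tt N11526 (iv F68492)) (tt N10632 (iv D17102)) (tt N11817 D17704) (tt N11004 F67353) (tt N11796 (iv F69409)))
theorem Q11217 : ∀ i, i < 11217 → P i := stepQ 11216 Q11216 (allL N11216 (tt N11583 (iv F68703)) (tt N10645 F67354) (tt N11817 (iv F69457)) (tt N11814 (iv F69453)) (tt N11527 (iv F68495)) (tt N11595 (iv F68752)) (tt N10633 (iv D17103)) (tt N11005 F67355) (tt N11797 (iv F69411)))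
theorem Q11218 : ∀ i, i < 11218 → P i := stepQ 11217 Q11217 (allL N11217 (tt N10684 F67356) (tt N11333 (iv F67744)) (tt N10886 F67357) (tt N10634 (iv D17104)) (tt N11818 D17705) (tt N11006 F67358) (tt N11386 (iv F67977)) (tt N11144 F67359) (tt N11328 (iv F67725)))
theorem Q11219 : ∀ i, i < 11219 → P i := stepQ 11218 Q11218 (allL N11218 (tt N10686 F67360) (tt N11311 (iv F67632)) (tt N11819 D17706) (tt N10635 (iv D17105)) (tt N11820 D17707) (tt N10637 F67361) (tt N11411 (iv F68077)) (tt N11308 (iv F67623)) (tt N10636 F67362))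
theorem Q11220 : ∀ i, i < 11220 → P i := stepQ 11219 Q11219 (allL N11219 (tt N10687 F67363) (tt N11626 (iv F68852)) (tt N10636 (iv D17106)) (tt N10649 F67364) (tt N11821 D17708) (tt N10638 F67365) (tt N11412 (iv F68082)) (tt N10640 F67366) (tt N11819 (iv F69466)))
theorem Q11221 : ∀ i, i < 11221 → P i := stepQ 11220 Q11220 (allL N11220 (tt N10688 F67367) (tt N11404 (iv F68046)) (tt N11821 (iv F69470)) (tt N11818 (iv F69461)) (tt N10636 (iv D17107)) (tt N11822 D17709) (tt N11413 (iv F68087)) (tt N10641 F67368) (tt N11820 (iv F69468)))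
theorem Q11222 : ∀ i, i < 11222 → P i := stepQ 11221 Q11221 (allL N11221 (tt N10689 F67369) (tt N11823 D17710) (tt N10637 (iv D17108)) (tt N10650 F67370) (tt N11824 D17711) (tt N11819 (iv F69465)) (tt N11728 (iv F69187)) (tt N11798 (iv F69414)) (tt N10638 F67371))
theorem Q11223 : ∀ i, i < 11223 → P i := stepQ 11222 Q11222 (allL N11222 (tt N10690 F67372) (tt N11807 (iv F69436)) (tt N11824 (iv F69479)) (tt N11012 F67373) (tt N10637 (iv D17109)) (tt N11825 D17712) (tt N11729 (iv F69191)) (tt N11799 (iv F69417)) (tt N10639 F67374))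
theorem Q11224 : ∀ i, i < 11224 → P i := stepQ 11223 Q11223 (allL N11223 (tt N11826 D17713) (tt N10638 (iv D17110)) (tt N11808 (iv F69439)) (tt N10652 F67375) (tt N11827 D17714) (tt N11626 (iv F68854)) (tt N11730 (iv F69194)) (tt N10642 F67376) (tt N11823 (iv F69477)))
theorem Q11225 : ∀ i, i < 11225 → P i := stepQ 11224 Q11224 (allL N11224 (tt N10692 F67377) (tt N11827 (iv F69488)) (tt N10639 F67378) (tt N11828 D17715) (tt N10638 (iv D17111)) (tt N11829 D17716) (tt N11731 (iv F69199)) (tt N10643 F67379) (tt N11824 (iv F69480)))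
theorem Q11226 : ∀ i, i < 11226 → P i := stepQ 11225 Q11225 (allL N11225 (tt N10693 F67380) (tt N11810 (iv F69444)) (tt N11829 (iv F69496)) (tt N11014 F67381) (tt N11822 (iv F69474)) (tt N10639 (iv D17112)) (tt N11830 D17717) (tt N10644 F67382) (tt N11825 (iv F69483)))
theorem Q11227 : ∀ i, i < 11227 → P i := stepQ 11226 Q11226 (allL N11226 (tt N10697 F67383) (tt N11581 (iv F68698)) (tt N10641 F67384) (tt N11521 (iv F68467)) (tt N10640 (iv D17113)) (tt N11831 D17718) (tt N11415 (iv F68098)) (tt N11821 (iv F69472)) (tt N11445 (iv F68213)))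
theorem Q11228 : ∀ i, i < 11228 → P i := stepQ 11227 Q11227 (allL N11227 (tt N10698 F67385) (tt N11407 (iv F68059)) (tt N11831 (iv F69502)) (tt N11402 (iv F68039)) (tt N10644 F67386) (tt N10641 (iv D17114)) (tt N11832 D17719) (tt N11822 (iv F69475)) (tt N11446 (iv F68218)))
theorem Q11229 : ∀ i, i < 11229 → P i := stepQ 11228 Q11228 (allL N11228 (tt N10642 (iv D17115)) (tt N10699 F67387) (tt N11690 (iv F69064)) (tt N10646 F67388) (tt N11833 D17720) (tt N10659 F67389) (tt N11455 (iv F68255)) (tt N11826 (iv F69487)) (tt N11518 (iv F68451)))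
theorem Q11230 : ∀ i, i < 11230 → P i := stepQ 11229 Q11229 (allL N11229 (tt N11833 (iv F69506)) (tt N10643 F67390) (tt N11811 (iv F69448)) (tt N11375 (iv F67926)) (tt N10642 (iv D17116)) (tt N11834 D17721) (tt N11735 (iv F69210)) (tt N11827 (iv F69489)) (tt N11803 (iv F69427)))
theorem Q11231 : ∀ i, i < 11231 → P i := stepQ 11230 Q11230 (allL N11230 (tt N10701 F67391) (tt N11834 (iv F69508)) (tt N10644 F67392) (tt N11376 (iv F67930)) (tt N11831 (iv F69503)) (tt N10643 (iv D17117)) (tt N11835 D17722) (tt N11829 (iv F69497)) (tt N11804 (iv F69430)))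
theorem Q11232 : ∀ i, i < 11232 → P i := stepQ 11231 Q11231 (allL N11231 (tt N10702 F67393) (tt N11814 (iv F69452)) (tt N11835 (iv F69510)) (tt N10645 F67394) (tt N11832 (iv F69505)) (tt N11737 (iv F69215)) (tt N10644 (iv D17118)) (tt N11830 (iv F69500)) (tt N11805 (iv F69433)))
theorem Q11233 : ∀ i, i < 11233 → P i := stepQ 11232 Q11232 (allL N11232 (tt N10706 F67395) (tt N11628 (iv F68858)) (tt N10648 (iv D17119)) (tt N11819 (iv F69464)) (tt N10910 F67396) (tt N10650 F67397) (tt N11530 (iv F68511)) (tt N11232 F67398) (tt N10649 F67399))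
theorem Q11234 : ∀ i, i < 11234 → P i := stepQ 11233 Q11233 (allL N11233 (tt N11836 D17723) (tt N10650 (iv D17120)) (tt N11233 F67400) (tt N11823 (iv F69476)) (tt N11837 D17724) (tt N11628 (iv F68861)) (tt N11771 (iv F69314)) (tt N11233 F67401) (tt N10652 F67402))
theorem Q11235 : ∀ i, i < 11235 → P i := stepQ 11234 Q11234 (allL N11234 (tt N10711 F67403) (tt N11837 (iv F69516)) (tt N10651 F67404) (tt N11838 D17725) (tt N10650 (iv D17121)) (tt N10913 F67405) (tt N11182 F67406) (tt N11234 F67407) (tt N10653 F67408))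
theorem Q11236 : ∀ i, i < 11236 → P i := stepQ 11235 Q11235 (allL N11235 (tt N10652 (iv D17122)) (tt N10712 F67409) (tt N11235 F67410) (tt N11826 (iv F69485)) (tt N11839 D17726) (tt N10660 F67411) (tt N11509 (iv F68411)) (tt N10654 F67412) (tt N11836 (iv F69515)))
theorem Q11237 : ∀ i, i < 11237 → P i := stepQ 11236 Q11236 (allL N11236 (tt N11839 (iv F69527)) (tt N10653 F67413) (tt N11236 F67414) (tt N11840 D17727) (tt N10652 (iv D17123)) (tt N10915 F67415) (tt N11183 F67416) (tt N10655 F67417) (tt N11837 (iv F69521)))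
theorem Q11238 : ∀ i, i < 11238 → P i := stepQ 11237 Q11237 (allL N11237 (tt N10714 F67418) (tt N11840 (iv F69533)) (tt N11022 F67419) (tt N10653 (iv D17124)) (tt N11828 (iv F69492)) (tt N10916 F67420) (tt N11068 F67421) (tt N11050 F67422) (tt N11838 (iv F69526)))
theorem Q11239 : ∀ i, i < 11239 → P i := stepQ 11238 Q11238 (allL N11238 (tt N10655 F67423) (tt N10715 F67424) (tt N11238 F67425) (tt N11179 F67426) (tt N10654 (iv D17125)) (tt N10917 F67427) (tt N11186 F67428) (tt N11839 (iv F69532)) (tt N11238 F67429))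
theorem Q11240 : ∀ i, i < 11240 → P i := stepQ 11239 Q11239 (allL N11239 (tt N11444 (iv F68203)) (tt N11379 (iv F67939)) (tt N11458 (iv F68267)) (tt N10656 (iv D17126)) (tt N11795 (iv F69406)) (tt N11518 (iv F68449)) (tt N11429 (iv F68142)) (tt N11841 D17728) (tt N10659 F67430))
theorem Q11241 : ∀ i, i < 11241 → P i := stepQ 11240 Q11240 (allL N11240 (tt N11405 F68054) (tt N11480 (iv F68340)) (tt N10659 F67431) (tt N10658 (iv D17127)) (tt N11812 (iv F69450)) (tt N11690 (iv F69066)) (tt N11432 (iv F68153)) (tt N11842 D17729) (tt N11458 (iv F68271)))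
theorem Q11242 : ∀ i, i < 11242 → P i := stepQ 11241 Q11241 (allL N11241 (tt N11626 (iv F68851)) (tt N11380 (iv F67945)) (tt N11842 (iv F69538)) (tt N10660 F67432) (tt N11816 (iv F69456)) (tt N11826 (iv F69486)) (tt N11491 (iv F68372)) (tt N10659 (iv D17128)) (tt N11843 D17730))
theorem Q11243 : ∀ i, i < 11243 → P i := stepQ 11242 Q11242 (allL N11242 (tt N11628 (iv F68857)) (tt N11187 F67433) (tt N11242 F67434) (tt N11843 (iv F69541)) (tt N11026 F67435) (tt N11836 (iv F69513)) (tt N11512 (iv F68424)) (tt N11242 F67436) (tt N10660 (iv D17129)))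
theorem Q11244 : ∀ i, i < 11244 → P i := stepQ 11243 Q11243 (allL N11243 (tt N11188 F67437) (tt N10937 F67438) (tt N11844 D17731) (tt N10661 (iv D17130)) (tt N11845 D17732) (tt N10663 F67439) (tt N10942 F67440) (tt N10665 F67441) (tt N11536 (iv F68538)))
theorem Q11245 : ∀ i, i < 11245 → P i := stepQ 11244 Q11244 (allL N11244 (tt N11539 (iv F68549)) (tt N11625 (iv F68847)) (tt N11846 D17733) (tt N10662 (iv D17131)) (tt N11847 D17734) (tt N11536 (iv F68536)) (tt N11659 (iv F68974)) (tt N11067 F67442) (tt N10663 F67443))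
theorem Q11246 : ∀ i, i < 11246 → P i := stepQ 11245 Q11245 (allL N11245 (tt N11784 (iv F69366)) (tt N11848 D17735) (tt N10663 (iv D17132)) (tt N11245 F67444) (tt N11849 D17736) (tt N11844 (iv F69544)) (tt N11660 (iv F68978)) (tt N10666 F67445) (tt N11846 (iv F69554)))
theorem Q11247 : ∀ i, i < 11247 → P i := stepQ 11246 Q11246 (allL N11246 (tt N11785 (iv F69370)) (tt N11618 (iv F68822)) (tt N11849 (iv F69561)) (tt N10678 F67446) (tt N10663 (iv D17133)) (tt N11850 D17737) (tt N11661 (iv F68982)) (tt N10667 F67447) (tt N11847 (iv F69557)))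
theorem Q11248 : ∀ i, i < 11248 → P i := stepQ 11247 Q11247 (allL N11247 (tt N11668 (iv F69006)) (tt N10946 F67448) (tt N11851 D17738) (tt N10664 (iv D17134)) (tt N11852 D17739) (tt N11544 (iv F68562)) (tt N10665 F67449) (tt N10942 F67450) (tt N11070 F67451))
theorem Q11249 : ∀ i, i < 11249 → P i := stepQ 11248 Q11248 (allL N11248 (tt N11786 (iv F69373)) (tt N11853 D17740) (tt N10665 (iv D17135)) (tt N10670 F67452) (tt N11854 D17741) (tt N10666 F67453) (tt N11851 (iv F69567)) (tt N11844 (iv F69546)) (tt N11071 F67454))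
theorem Q11250 : ∀ i, i < 11250 → P i := stepQ 11249 Q11249 (allL N11249 (tt N11787 (iv F69378)) (tt N11153 F67455) (tt N11854 (iv F69579)) (tt N11152 F67456) (tt N10665 (iv D17136)) (tt N11855 D17742) (tt N11852 (iv F69572)) (tt N11845 (iv F69551)) (tt N11072 F67457))
theorem Q11251 : ∀ i, i < 11251 → P i := stepQ 11250 Q11250 (allL N11250 (tt N11856 D17743) (tt N10666 (iv D17137)) (tt N11650 (iv F68936)) (tt N10672 F67458) (tt N11857 D17744) (tt N11853 (iv F69577)) (tt N11663 (iv F68989)) (tt N11848 (iv F69560)) (tt N11073 F67459))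
theorem Q11252 : ∀ i, i < 11252 → P i := stepQ 11251 Q11251 (allL N11251 (tt N11789 (iv F69385)) (tt N11857 (iv F69587)) (tt N10667 F67460) (tt N11396 (iv F68015)) (tt N10666 (iv D17138)) (tt N11858 D17745) (tt N11664 (iv F68992)) (tt N11849 (iv F69562)) (tt N11074 F67461))
theorem Q11253 : ∀ i, i < 11253 → P i := stepQ 11252 Q11252 (allL N11252 (tt N11790 (iv F69388)) (tt N11652 (iv F68944)) (tt N11858 (iv F69589)) (tt N10668 F67462) (tt N11855 (iv F69583)) (tt N10667 (iv D17139)) (tt N11859 D17746) (tt N11850 (iv F69564)) (tt N11075 F67463))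
theorem Q11254 : ∀ i, i < 11254 → P i := stepQ 11253 Q11253 (allL N11253 (tt N11791 (iv F69391)) (tt N11653 (iv F68946)) (tt N11398 (iv F68017)) (tt N11859 (iv F69591)) (tt N11632 (iv F68879)) (tt N11666 (iv F68998)) (tt N10668 (iv D17140)) (tt N10683 F67464) (tt N11076 F67465))
theorem Q11255 : ∀ i, i < 11255 → P i := stepQ 11254 Q11254 (allL N11254 (tt N11776 (iv F69338)) (tt N11256 (iv F67475)) (tt N10669 (iv D17141)) (tt N11851 (iv F69565)) (tt N11255 F67474) (tt N11173 F67466) (tt N10670 F67467) (tt N11254 F67468) (tt N11077 F67469))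
theorem Q11256 : ∀ i, i < 11256 → P i := stepQ 11255 Q11255 (allL N11255 (tt N11860 D17747) (tt N10670 (iv D17142)) (tt N10717 F67470) (tt N11853 (iv F69576)) (tt N11254 (iv F67474)) (tt N10672 F67471) (tt N11256 (iv F67477)) (tt N11255 F67472) (tt N11078 F67473))
theorem Q11257 : ∀ i, i < 11257 → P i := stepQ 11256 Q11256 (allL N11256 (tt N11793 (iv F69398)) (tt N11254 F67475) (tt N10671 F67476) (tt N11861 D17748) (tt N10670 (iv D17143)) (tt N11399 (iv F68022)) (tt N11255 F67477) (tt N11256 F67478) (tt N11079 F67479))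
theorem Q11258 : ∀ i, i < 11258 → P i := stepQ 11257 Q11257 (allL N11257 (tt N10672 (iv D17144)) (tt N11794 (iv F69402)) (tt N10718 F67480) (tt N11856 (iv F69585)) (tt N11400 (iv F68027)) (tt N11860 (iv F69595)) (tt N11769 (iv F69303)) (tt N11257 F67481) (tt N11080 F67482))
theorem Q11259 : ∀ i, i < 11259 → P i := stepQ 11258 Q11258 (allL N11258 (tt N10843 F67483) (tt N10935 F67484) (tt N11862 D17749) (tt N10673 (iv D17145)) (tt N11863 D17750) (tt N10936 F67485) (tt N10972 F67486) (tt N10753 F67487) (tt N11307 (iv F67618)))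
theorem Q11260 : ∀ i, i < 11260 → P i := stepQ 11259 Q11259 (allL N11259 (tt N11308 (iv F67619)) (tt N11384 (iv F67964)) (tt N11864 D17751) (tt N10674 (iv D17146)) (tt N11865 D17752) (tt N10676 F67488) (tt N11463 (iv F68286)) (tt N10686 F67489) (tt N10675 F67490))
theorem Q11261 : ∀ i, i < 11261 → P i := stepQ 11260 Q11260 (allL N11260 (tt N11442 (iv F68193)) (tt N11598 (iv F68765)) (tt N10675 (iv D17147)) (tt N11260 F67491) (tt N11866 D17753) (tt N10677 F67492) (tt N11464 (iv F68291)) (tt N10679 F67493) (tt N11864 (iv F69617)))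
theorem Q11262 : ∀ i, i < 11262 → P i := stepQ 11261 Q11261 (allL N11261 (tt N11443 (iv F68198)) (tt N11614 (iv F68806)) (tt N11866 (iv F69620)) (tt N11863 (iv F69611)) (tt N10675 (iv D17148)) (tt N11867 D17754) (tt N11465 (iv F68294)) (tt N10680 F67494) (tt N11865 (iv F69619)))
theorem Q11263 : ∀ i, i < 11263 → P i := stepQ 11262 Q11262 (allL N11262 (tt N11798 (iv F69412)) (tt N11600 (iv F68771)) (tt N10676 (iv D17149)) (tt N11262 F67495) (tt N11868 D17755) (tt N11864 (iv F69615)) (tt N11698 (iv F69095)) (tt N10689 F67496) (tt N10677 F67497))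
theorem Q11264 : ∀ i, i < 11264 → P i := stepQ 11263 Q11263 (allL N11263 (tt N11799 (iv F69416)) (tt N11616 (iv F68814)) (tt N11868 (iv F69624)) (tt N11847 (iv F69555)) (tt N10676 (iv D17150)) (tt N11869 D17756) (tt N11699 (iv F69099)) (tt N10690 F67498) (tt N10678 F67499))
theorem Q11265 : ∀ i, i < 11265 → P i := stepQ 11264 Q11264 (allL N11264 (tt N11801 (iv F69421)) (tt N11602 (iv F68777)) (tt N10678 F67500) (tt N11870 D17757) (tt N10677 (iv D17151)) (tt N11871 D17758) (tt N11700 (iv F69103)) (tt N10681 F67501) (tt N11868 (iv F69626)))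
theorem Q11266 : ∀ i, i < 11266 → P i := stepQ 11265 Q11265 (allL N11265 (tt N11802 (iv F69424)) (tt N11619 (iv F68827)) (tt N11871 (iv F69630)) (tt N11850 (iv F69563)) (tt N11867 (iv F69622)) (tt N10678 (iv D17152)) (tt N11872 D17759) (tt N10682 F67502) (tt N11869 (iv F69628)))
theorem Q11267 : ∀ i, i < 11267 → P i := stepQ 11266 Q11266 (allL N11266 (tt N11445 (iv F68209)) (tt N11604 (iv F68782)) (tt N10680 F67503) (tt N11574 (iv F68672)) (tt N10679 (iv D17153)) (tt N11873 D17760) (tt N11467 (iv F68303)) (tt N11866 (iv F69621)) (tt N10697 F67504))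
theorem Q11268 : ∀ i, i < 11268 → P i := stepQ 11267 Q11267 (allL N11267 (tt N11446 (iv F68214)) (tt N11622 (iv F68834)) (tt N11873 (iv F69633)) (tt N11441 (iv F68189)) (tt N10682 F67505) (tt N10680 (iv D17154)) (tt N11874 D17761) (tt N11867 (iv F69623)) (tt N10698 F67506))
theorem Q11269 : ∀ i, i < 11269 → P i := stepQ 11268 Q11268 (allL N11268 (tt N11804 (iv F69428)) (tt N11606 (iv F68787)) (tt N10682 F67507) (tt N11434 (iv F68160)) (tt N11873 (iv F69634)) (tt N10681 (iv D17155)) (tt N11875 D17762) (tt N11871 (iv F69631)) (tt N10701 F67508))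
theorem Q11270 : ∀ i, i < 11270 → P i := stepQ 11269 Q11269 (allL N11269 (tt N11805 (iv F69431)) (tt N11624 (iv F68841)) (tt N11875 (iv F69638)) (tt N10683 F67509) (tt N11874 (iv F69636)) (tt N11705 (iv F69116)) (tt N10682 (iv D17156)) (tt N11872 (iv F69632)) (tt N10702 F67510))
theorem Q11271 : ∀ i, i < 11271 → P i := stepQ 11270 Q11270 (allL N11270 (tt N10886 F67511) (tt N11364 (iv F67882)) (tt N10684 (iv D17157)) (tt N10704 F67512) (tt N11876 D17763) (tt N11144 F67513) (tt N11566 (iv F68641)) (tt N11006 F67514) (tt N11356 (iv F67851)))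
theorem Q11272 : ∀ i, i < 11272 → P i := stepQ 11271 Q11271 (allL N11271 (tt N11818 (iv F69459)) (tt N11716 (iv F69143)) (tt N11876 (iv F69641)) (tt N10688 F67515) (tt N10684 (iv D17158)) (tt N11877 D17764) (tt N11718 (iv F69154)) (tt N11644 (iv F68919)) (tt N11717 (iv F69151)))
theorem Q11273 : ∀ i, i < 11273 → P i := stepQ 11272 Q11272 (allL N11272 (tt N11412 (iv F68080)) (tt N11299 (iv F67579)) (tt N10685 (iv D17159)) (tt N10705 F67516) (tt N11878 D17765) (tt N11368 (iv F67897)) (tt N10687 F67517) (tt N10694 F67518) (tt N11715 (iv F69142)))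
theorem Q11274 : ∀ i, i < 11274 → P i := stepQ 11273 Q11273 (allL N11273 (tt N11413 (iv F68085)) (tt N11717 (iv F69147)) (tt N11878 (iv F69646)) (tt N11718 (iv F69153)) (tt N10685 (iv D17160)) (tt N11879 D17766) (tt N10688 F67519) (tt N10695 F67520) (tt N11716 (iv F69146)))
theorem Q11275 : ∀ i, i < 11275 → P i := stepQ 11274 Q11274 (allL N11274 (tt N11819 (iv F69463)) (tt N11880 D17767) (tt N10686 (iv D17161)) (tt N10706 F67521) (tt N11881 D17768) (tt N10689 F67522) (tt N11715 (iv F69141)) (tt N11864 (iv F69616)) (tt N10687 F67523))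
theorem Q11276 : ∀ i, i < 11276 → P i := stepQ 11275 Q11275 (allL N11275 (tt N11820 (iv F69467)) (tt N11718 (iv F69152)) (tt N11881 (iv F69655)) (tt N11717 (iv F69148)) (tt N10686 (iv D17162)) (tt N11882 D17769) (tt N11716 (iv F69145)) (tt N11865 (iv F69618)) (tt N10688 F67524))
theorem Q11277 : ∀ i, i < 11277 → P i := stepQ 11276 Q11276 (allL N11276 (tt N11380 (iv F67944)) (tt N10687 (iv D17163)) (tt N11363 (iv F67877)) (tt N10708 F67525) (tt N11883 D17770) (tt N10691 F67526) (tt N11299 (iv F67582)) (tt N10696 F67527) (tt N11880 (iv F69653)))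
theorem Q11278 : ∀ i, i < 11278 → P i := stepQ 11277 Q11277 (allL N11277 (tt N11821 (iv F69469)) (tt N11883 (iv F69659)) (tt N10688 F67528) (tt N11884 D17771) (tt N10687 (iv D17164)) (tt N11885 D17772) (tt N11878 (iv F69647)) (tt N10697 F67529) (tt N11881 (iv F69656)))
theorem Q11279 : ∀ i, i < 11279 → P i := stepQ 11278 Q11278 (allL N11278 (tt N11822 (iv F69473)) (tt N11719 (iv F69156)) (tt N11885 (iv F69668)) (tt N11877 (iv F69644)) (tt N10693 F67530) (tt N10688 (iv D17165)) (tt N11886 D17773) (tt N10698 F67531) (tt N11882 (iv F69658)))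
theorem Q11280 : ∀ i, i < 11280 → P i := stepQ 11279 Q11279 (allL N11279 (tt N11887 D17774) (tt N10689 (iv D17166)) (tt N11392 (iv F67998)) (tt N10710 F67532) (tt N11888 D17775) (tt N11880 (iv F69652)) (tt N11393 (iv F68005)) (tt N11600 (iv F68773)) (tt N10691 F67533))
theorem Q11281 : ∀ i, i < 11281 → P i := stepQ 11280 Q11280 (allL N11280 (tt N11824 (iv F69478)) (tt N11888 (iv F69677)) (tt N10690 F67534) (tt N11889 D17776) (tt N10689 (iv D17167)) (tt N11890 D17777) (tt N11744 (iv F69239)) (tt N11868 (iv F69625)) (tt N10692 F67535))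
theorem Q11282 : ∀ i, i < 11282 → P i := stepQ 11281 Q11281 (allL N11281 (tt N11825 (iv F69481)) (tt N11720 (iv F69159)) (tt N11890 (iv F69682)) (tt N11151 F67536) (tt N11882 (iv F69657)) (tt N10690 (iv D17168)) (tt N11891 D17778) (tt N11869 (iv F69627)) (tt N10693 F67537))
theorem Q11283 : ∀ i, i < 11283 → P i := stepQ 11282 Q11282 (allL N11282 (tt N10691 (iv D17169)) (tt N11826 (iv F69484)) (tt N11448 (iv F68226)) (tt N10712 F67538) (tt N11892 D17779) (tt N11380 (iv F67948)) (tt N11449 (iv F68233)) (tt N10699 F67539) (tt N11887 (iv F69676)))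
theorem Q11284 : ∀ i, i < 11284 → P i := stepQ 11283 Q11283 (allL N11283 (tt N11892 (iv F69686)) (tt N10692 F67540) (tt N11561 (iv F68622)) (tt N11893 D17780) (tt N10691 (iv D17170)) (tt N11894 D17781) (tt N11746 (iv F69246)) (tt N10700 F67541) (tt N11888 (iv F69678)))
theorem Q11285 : ∀ i, i < 11285 → P i := stepQ 11284 Q11284 (allL N11284 (tt N11828 (iv F69490)) (tt N11893 (iv F69688)) (tt N11153 F67542) (tt N10692 (iv D17171)) (tt N10714 F67543) (tt N11895 D17782) (tt N11747 (iv F69251)) (tt N11499 (iv F68389)) (tt N11889 (iv F69681)))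
theorem Q11286 : ∀ i, i < 11286 → P i := stepQ 11285 Q11285 (allL N11285 (tt N11829 (iv F69495)) (tt N11894 (iv F69690)) (tt N10693 F67544) (tt N11895 (iv F69693)) (tt N11885 (iv F69669)) (tt N10692 (iv D17172)) (tt N11896 D17783) (tt N10701 F67545) (tt N11890 (iv F69683)))
theorem Q11287 : ∀ i, i < 11287 → P i := stepQ 11286 Q11286 (allL N11286 (tt N11830 (iv F69498)) (tt N11721 (iv F69161)) (tt N11896 (iv F69694)) (tt N11155 F67546) (tt N11886 (iv F69671)) (tt N11749 (iv F69257)) (tt N10693 (iv D17173)) (tt N10702 F67547) (tt N11891 (iv F69685)))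
theorem Q11288 : ∀ i, i < 11288 → P i := stepQ 11287 Q11287 (allL N11287 (tt N11415 (iv F68094)) (tt N11372 (iv F67912)) (tt N10695 F67548) (tt N11524 (iv F68483)) (tt N10694 (iv D17174)) (tt N11897 D17784) (tt N10697 F67549) (tt N11878 (iv F69648)) (tt N11467 (iv F68304)))
theorem Q11289 : ∀ i, i < 11289 → P i := stepQ 11288 Q11288 (allL N11288 (tt N11416 (iv F68100)) (tt N11722 (iv F69164)) (tt N11897 (iv F69696)) (tt N11409 (iv F68067)) (tt N11750 (iv F69260)) (tt N10695 (iv D17175)) (tt N11898 D17785) (tt N11879 (iv F69649)) (tt N11468 (iv F68307)))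
theorem Q11290 : ∀ i, i < 11290 → P i := stepQ 11289 Q11289 (allL N11289 (tt N11360 (iv F67865)) (tt N10697 F67550) (tt N11371 (iv F67907)) (tt N11354 (iv F67841)) (tt N10696 (iv D17176)) (tt N11899 D17786) (tt N11372 (iv F67914)) (tt N11883 (iv F69661)) (tt N11604 (iv F68784)))
theorem Q11291 : ∀ i, i < 11291 → P i := stepQ 11290 Q11290 (allL N11290 (tt N11521 (iv F68464)) (tt N11354 (iv F67839)) (tt N11342 (iv F67783)) (tt N10697 (iv D17177)) (tt N10703 F67551) (tt N11900 D17787) (tt N11524 (iv F68484)) (tt N11901 D17788) (tt N11574 (iv F68673)))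
theorem Q11292 : ∀ i, i < 11292 → P i := stepQ 11291 Q11291 (allL N11291 (tt N11831 (iv F69501)) (tt N11899 (iv F69698)) (tt N10698 F67552) (tt N11900 (iv F69700)) (tt N10701 F67553) (tt N10697 (iv D17178)) (tt N11902 D17789) (tt N11885 (iv F69670)) (tt N11873 (iv F69635)))
theorem Q11293 : ∀ i, i < 11293 → P i := stepQ 11292 Q11292 (allL N11292 (tt N11832 (iv F69504)) (tt N11723 (iv F69166)) (tt N11902 (iv F69708)) (tt N11649 (iv F68934)) (tt N10702 F67554) (tt N11898 (iv F69697)) (tt N10698 (iv D17179)) (tt N11886 (iv F69672)) (tt N11874 (iv F69637)))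
theorem Q11294 : ∀ i, i < 11294 → P i := stepQ 11293 Q11293 (allL N11293 (tt N10700 F67555) (tt N11833 (iv F69507)) (tt N11454 (iv F68247)) (tt N11506 (iv F68403)) (tt N10699 (iv D17180)) (tt N11903 D17790) (tt N11456 (iv F68259)) (tt N11892 (iv F69687)) (tt N11592 (iv F68743)))
theorem Q11295 : ∀ i, i < 11295 → P i := stepQ 11294 Q11294 (allL N11294 (tt N11903 (iv F69710)) (tt N10701 F67556) (tt N11562 (iv F68626)) (tt N11507 (iv F68405)) (tt N11899 (iv F69699)) (tt N10700 (iv D17181)) (tt N11904 D17791) (tt N11894 (iv F69691)) (tt N11606 (iv F68789)))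
theorem Q11296 : ∀ i, i < 11296 → P i := stepQ 11295 Q11295 (allL N11295 (tt N11835 (iv F69509)) (tt N11904 (iv F69711)) (tt N10702 F67557) (tt N11508 (iv F68407)) (tt N11902 (iv F69709)) (tt N11754 (iv F69268)) (tt N10701 (iv D17182)) (tt N11896 (iv F69695)) (tt N11875 (iv F69639)))
theorem Q11297 : ∀ i, i < 11297 → P i := stepQ 11296 Q11296 (allL N11296 (tt N10757 F67558) (tt N10927 F67559) (tt N10756 F67560) (tt N10716 F67561) (tt N11901 (iv F69705)) (tt N10924 F67562) (tt N10764 F67563) (tt N10703 (iv D17183)) (tt N11038 (iv F67564)))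
theorem Q11298 : ∀ i, i < 11298 → P i := stepQ 11297 Q11297 (allL N11297 (tt N11187 (iv F67569)) (tt N10706 (iv D17184)) (tt N10719 F67565) (tt N11880 (iv F69651)) (tt N11161 (iv F67570)) (tt N10710 F67566) (tt N11298 (iv F67575)) (tt N11297 F67567) (tt N10708 F67568))
theorem Q11299 : ∀ i, i < 11299 → P i := stepQ 11298 Q11298 (allL N11298 (tt N10910 F67571) (tt N11161 F67572) (tt N10707 F67573) (tt N11905 D17792) (tt N10706 (iv D17185)) (tt N10786 F67574) (tt N11297 F67575) (tt N11298 F67576) (tt N10709 F67577))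
theorem Q11300 : ∀ i, i < 11300 → P i := stepQ 11299 Q11299 (allL N11299 (tt N10889 F67578) (tt N11272 F67579) (tt N10774 F67580) (tt N10709 (iv D17186)) (tt N11884 (iv F69665)) (tt N10776 F67581) (tt N11276 F67582) (tt N10779 F67583) (tt N11905 (iv F69717)))
theorem Q11301 : ∀ i, i < 11301 → P i := stepQ 11300 Q11300 (allL N11300 (tt N10710 (iv D17187)) (tt N11836 (iv F69511)) (tt N10720 F67584) (tt N11887 (iv F69674)) (tt N11906 D17793) (tt N11187 F67585) (tt N11316 (iv F67656)) (tt N11300 F67586) (tt N10712 F67587))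
theorem Q11302 : ∀ i, i < 11302 → P i := stepQ 11301 Q11301 (allL N11301 (tt N11906 (iv F69718)) (tt N10711 F67588) (tt N10721 F67589) (tt N11907 D17794) (tt N10710 (iv D17188)) (tt N11164 F67590) (tt N11399 (iv F68023)) (tt N11301 F67591) (tt N10713 F67592))
theorem Q11303 : ∀ i, i < 11303 → P i := stepQ 11302 Q11302 (allL N11302 (tt N11838 (iv F69522)) (tt N11907 (iv F69723)) (tt N11060 F67593) (tt N10711 (iv D17189)) (tt N11889 (iv F69680)) (tt N11061 F67594) (tt N11772 (iv F69319)) (tt N11908 D17795) (tt N10714 F67595))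
theorem Q11304 : ∀ i, i < 11304 → P i := stepQ 11303 Q11303 (allL N11303 (tt N10713 F67596) (tt N11839 (iv F69528)) (tt N10722 F67597) (tt N11909 D17796) (tt N10712 (iv D17190)) (tt N11654 (iv F68952)) (tt N11510 (iv F68415)) (tt N10715 F67598) (tt N11906 (iv F69722)))
theorem Q11305 : ∀ i, i < 11305 → P i := stepQ 11304 Q11304 (allL N11304 (tt N11909 (iv F69730)) (tt N10714 F67599) (tt N11853 (iv F69575)) (tt N10713 (iv D17191)) (tt N11893 (iv F69689)) (tt N11650 (iv F68938)) (tt N11773 (iv F69323)) (tt N11517 (iv F68445)) (tt N11907 (iv F69726)))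
theorem Q11306 : ∀ i, i < 11306 → P i := stepQ 11305 Q11305 (allL N11305 (tt N10717 (iv D17192)) (tt N11305 F67600) (tt N11860 (iv F69593)) (tt N10722 F67601) (tt N11180 F67602) (tt N10718 F67603) (tt N11197 F67604) (tt N11305 F67605) (tt N11166 F67606))
theorem Q11307 : ∀ i, i < 11307 → P i := stepQ 11306 Q11306 (allL N11306 (tt N10721 F67607) (tt N11306 F67608) (tt N11906 (iv F69719)) (tt N11166 F67609) (tt N10720 (iv D17193)) (tt N11165 F67610) (tt N11317 (iv F67663)) (tt N11306 F67611) (tt N10722 F67612))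
theorem Q11308 : ∀ i, i < 11308 → P i := stepQ 11307 Q11307 (allL N11307 (tt N10725 F67613) (tt N10798 F67614) (tt N11910 D17797) (tt N10723 (iv D17194)) (tt N11911 D17798) (tt N10940 F67615) (tt N11034 F67616) (tt N10738 F67617) (tt N11258 F67618))
theorem Q11309 : ∀ i, i < 11309 → P i := stepQ 11308 Q11308 (allL N11308 (tt N11259 F67619) (tt N10728 F67620) (tt N11912 D17799) (tt N10724 (iv D17195)) (tt N11913 D17800) (tt N11201 F67621) (tt N10876 F67622) (tt N11218 F67623) (tt N10848 F67624))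
theorem Q11310 : ∀ i, i < 11310 → P i := stepQ 11309 Q11309 (allL N11309 (tt N11910 (iv F69731)) (tt N11189 F67625) (tt N10725 (iv D17196)) (tt N11309 F67626) (tt N11914 D17801) (tt N10943 F67627) (tt N11636 (iv F68896)) (tt N10741 F67628) (tt N11436 (iv F68169)))
theorem Q11311 : ∀ i, i < 11311 → P i := stepQ 11310 Q11310 (allL N11310 (tt N11911 (iv F69738)) (tt N10729 F67629) (tt N11914 (iv F69757)) (tt N11913 (iv F69752)) (tt N10725 (iv D17197)) (tt N11915 D17802) (tt N11637 (iv F68902)) (tt N10742 F67630) (tt N11437 (iv F68173)))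
theorem Q11312 : ∀ i, i < 11312 → P i := stepQ 11311 Q11311 (allL N11311 (tt N10803 F67631) (tt N11218 F67632) (tt N11916 D17803) (tt N10726 (iv D17198)) (tt N11917 D17804) (tt N11208 F67633) (tt N10831 F67634) (tt N10728 F67635) (tt N10814 F67636))
theorem Q11313 : ∀ i, i < 11313 → P i := stepQ 11312 Q11312 (allL N11312 (tt N10805 F67637) (tt N11201 F67638) (tt N11918 D17805) (tt N10727 (iv D17199)) (tt N11919 D17806) (tt N10728 F67639) (tt N11667 (iv F69003)) (tt N11208 F67640) (tt N10853 F67641))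
theorem Q11314 : ∀ i, i < 11314 → P i := stepQ 11313 Q11313 (allL N11313 (tt N10806 F67642) (tt N11920 D17807) (tt N10728 (iv D17200)) (tt N10731 F67643) (tt N11921 D17808) (tt N11918 (iv F69776)) (tt N10891 F67644) (tt N11916 (iv F69766)) (tt N10854 F67645))
theorem Q11315 : ∀ i, i < 11315 → P i := stepQ 11314 Q11314 (allL N11314 (tt N10807 F67646) (tt N11913 (iv F69751)) (tt N11921 (iv F69789)) (tt N10729 F67647) (tt N10728 (iv D17201)) (tt N11922 D17809) (tt N10892 F67648) (tt N11917 (iv F69772)) (tt N10855 F67649))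
theorem Q11316 : ∀ i, i < 11316 → P i := stepQ 11315 Q11315 (allL N11315 (tt N10808 F67650) (tt N11915 (iv F69759)) (tt N11195 F67651) (tt N11922 (iv F69794)) (tt N10950 F67652) (tt N10729 (iv D17202)) (tt N11923 D17810) (tt N10749 F67653) (tt N11519 (iv F68457)))
theorem Q11317 : ∀ i, i < 11317 → P i := stepQ 11316 Q11316 (allL N11316 (tt N10809 F67654) (tt N11924 D17811) (tt N10730 (iv D17203)) (tt N11918 (iv F69775)) (tt N11925 D17812) (tt N10731 F67655) (tt N11300 F67656) (tt N11316 F67657) (tt N10904 F67658))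
theorem Q11318 : ∀ i, i < 11318 → P i := stepQ 11317 Q11317 (allL N11317 (tt N10810 F67659) (tt N11317 F67660) (tt N11925 (iv F69807)) (tt N10952 F67661) (tt N10730 (iv D17204)) (tt N11197 F67662) (tt N11306 F67663) (tt N11317 F67664) (tt N10905 F67665))
theorem Q11319 : ∀ i, i < 11319 → P i := stepQ 11318 Q11318 (allL N11318 (tt N11926 D17813) (tt N10731 (iv D17205)) (tt N11318 F67666) (tt N11920 (iv F69785)) (tt N11198 F67667) (tt N11924 (iv F69802)) (tt N10912 F67668) (tt N11318 F67669) (tt N10906 F67670))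
theorem Q11320 : ∀ i, i < 11320 → P i := stepQ 11319 Q11319 (allL N11319 (tt N10812 F67671) (tt N10974 F67672) (tt N10819 F67673) (tt N10928 F67674) (tt N10732 (iv D17206)) (tt N11927 D17814) (tt N10954 F67675) (tt N11645 (iv F68924)) (tt N10754 F67676))
theorem Q11321 : ∀ i, i < 11321 → P i := stepQ 11320 Q11320 (allL N11320 (tt N11038 F67677) (tt N10958 F67678) (tt N10733 (iv D17207)) (tt N10789 F67679) (tt N11928 D17815) (tt N10973 F67680) (tt N10741 F67681) (tt N11636 (iv F68897)) (tt N10757 F67682))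
theorem Q11322 : ∀ i, i < 11322 → P i := stepQ 11321 Q11321 (allL N11321 (tt N11039 F67683) (tt N10736 F67684) (tt N11928 (iv F69827)) (tt N10984 F67685) (tt N10733 (iv D17208)) (tt N11929 D17816) (tt N10742 F67686) (tt N11637 (iv F68903)) (tt N10758 F67687))
theorem Q11323 : ∀ i, i < 11323 → P i := stepQ 11322 Q11322 (allL N11322 (tt N10814 F67688) (tt N10981 F67689) (tt N11930 D17817) (tt N10734 (iv D17209)) (tt N11931 D17818) (tt N10976 F67690) (tt N10745 F67691) (tt N10735 F67692) (tt N10803 F67693))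
theorem Q11324 : ∀ i, i < 11324 → P i := stepQ 11323 Q11323 (allL N11323 (tt N10815 F67694) (tt N11093 F67695) (tt N10735 (iv D17210)) (tt N10737 F67696) (tt N11932 D17819) (tt N10977 F67697) (tt N10747 F67698) (tt N11930 (iv F69841)) (tt N10759 F67699))
theorem Q11325 : ∀ i, i < 11325 → P i := stepQ 11324 Q11324 (allL N11324 (tt N10816 F67700) (tt N10984 F67701) (tt N11932 (iv F69851)) (tt N10736 F67702) (tt N10735 (iv D17211)) (tt N11933 D17820) (tt N10748 F67703) (tt N11931 (iv F69847)) (tt N10760 F67704))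
theorem Q11326 : ∀ i, i < 11326 → P i := stepQ 11325 Q11325 (allL N11325 (tt N10817 F67705) (tt N11929 (iv F69832)) (tt N11086 F67706) (tt N11933 (iv F69857)) (tt N11927 (iv F69823)) (tt N10736 (iv D17212)) (tt N11934 D17821) (tt N11647 (iv F68930)) (tt N10761 F67707))
theorem Q11327 : ∀ i, i < 11327 → P i := stepQ 11326 Q11326 (allL N11326 (tt N10741 F67708) (tt N10973 F67709) (tt N10738 (iv D17213)) (tt N10790 F67710) (tt N11935 D17822) (tt N10958 F67711) (tt N11038 F67712) (tt N11910 (iv F69736)) (tt N10764 F67713))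
theorem Q11328 : ∀ i, i < 11328 → P i := stepQ 11327 Q11327 (allL N11327 (tt N10742 F67714) (tt N10819 F67715) (tt N11935 (iv F69866)) (tt N11113 F67716) (tt N10738 (iv D17214)) (tt N11936 D17823) (tt N11039 F67717) (tt N11911 (iv F69742)) (tt N10765 F67718))
theorem Q11329 : ∀ i, i < 11329 → P i := stepQ 11328 Q11328 (allL N11328 (tt N11108 F67719) (tt N10745 F67720) (tt N11099 F67721) (tt N10739 (iv D17215)) (tt N11937 D17824) (tt N11007 F67722) (tt N10981 F67723) (tt N10740 F67724) (tt N11217 F67725))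
theorem Q11330 : ∀ i, i < 11330 → P i := stepQ 11329 Q11329 (allL N11329 (tt N11113 F67726) (tt N10748 F67727) (tt N11104 F67728) (tt N10742 F67729) (tt N10740 (iv D17216)) (tt N11938 D17825) (tt N10984 F67730) (tt N11937 (iv F69880)) (tt N10769 F67731))
theorem Q11331 : ∀ i, i < 11331 → P i := stepQ 11330 Q11330 (allL N11330 (tt N11935 (iv F69864)) (tt N11199 F67732) (tt N10742 F67733) (tt N11939 D17826) (tt N10741 (iv D17217)) (tt N11940 D17827) (tt N11928 (iv F69829)) (tt N11914 (iv F69758)) (tt N10770 F67734))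
theorem Q11332 : ∀ i, i < 11332 → P i := stepQ 11331 Q11331 (allL N11331 (tt N11936 (iv F69870)) (tt N10749 F67735) (tt N11940 (iv F69895)) (tt N11938 (iv F69885)) (tt N10963 F67736) (tt N10742 (iv D17218)) (tt N11941 D17828) (tt N11915 (iv F69761)) (tt N10771 F67737))
theorem Q11333 : ∀ i, i < 11333 → P i := stepQ 11332 Q11332 (allL N11332 (tt N10830 F67738) (tt N11007 F67739) (tt N11942 D17829) (tt N10743 (iv D17219)) (tt N11943 D17830) (tt N10745 F67740) (tt N10995 F67741) (tt N10746 F67742) (tt N11596 (iv F68758)))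
theorem Q11334 : ∀ i, i < 11334 → P i := stepQ 11333 Q11333 (allL N11333 (tt N10831 F67743) (tt N11217 F67744) (tt N11944 D17831) (tt N10744 (iv D17220)) (tt N11945 D17832) (tt N11596 (iv F68756)) (tt N10803 F67745) (tt N10775 F67746) (tt N10745 F67747))
theorem Q11335 : ∀ i, i < 11335 → P i := stepQ 11334 Q11334 (allL N11334 (tt N10832 F67748) (tt N11946 D17833) (tt N10745 (iv D17221)) (tt N11334 F67749) (tt N11947 D17834) (tt N11942 (iv F69904)) (tt N11930 (iv F69840)) (tt N10747 F67750) (tt N11944 (iv F69915)))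
theorem Q11336 : ∀ i, i < 11336 → P i := stepQ 11335 Q11335 (allL N11335 (tt N10833 F67751) (tt N11937 (iv F69876)) (tt N11947 (iv F69929)) (tt N11917 (iv F69770)) (tt N10745 (iv D17222)) (tt N11948 D17835) (tt N11931 (iv F69846)) (tt N10748 F67752) (tt N11945 (iv F69921)))
theorem Q11337 : ∀ i, i < 11337 → P i := stepQ 11336 Q11336 (allL N11336 (tt N10835 F67753) (tt N10869 F67754) (tt N10746 (iv D17223)) (tt N10750 F67755) (tt N11949 D17836) (tt N10747 F67756) (tt N10999 F67757) (tt N11942 (iv F69906)) (tt N10779 F67758))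
theorem Q11338 : ∀ i, i < 11338 → P i := stepQ 11337 Q11337 (allL N11337 (tt N10836 F67759) (tt N11015 F67760) (tt N11949 (iv F69935)) (tt N10969 F67761) (tt N10746 (iv D17224)) (tt N11950 D17837) (tt N11000 F67762) (tt N11943 (iv F69910)) (tt N10780 F67763))
theorem Q11339 : ∀ i, i < 11339 → P i := stepQ 11338 Q11338 (allL N11338 (tt N10880 (iv F67769)) (tt N10747 (iv D17225)) (tt N10868 F67764) (tt N10751 F67765) (tt N11951 D17838) (tt N10869 F67766) (tt N11093 F67767) (tt N11946 (iv F69926)) (tt N10781 F67768))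
theorem Q11340 : ∀ i, i < 11340 → P i := stepQ 11339 Q11339 (allL N11339 (tt N10838 F67770) (tt N11951 (iv F69945)) (tt N10748 F67771) (tt N11205 F67772) (tt N10747 (iv D17226)) (tt N11952 D17839) (tt N11932 (iv F69853)) (tt N11947 (iv F69930)) (tt N10782 F67773))
theorem Q11341 : ∀ i, i < 11341 → P i := stepQ 11340 Q11340 (allL N11340 (tt N10839 F67774) (tt N11938 (iv F69883)) (tt N11952 (iv F69951)) (tt N10749 F67775) (tt N11950 (iv F69942)) (tt N10748 (iv D17227)) (tt N11953 D17840) (tt N11948 (iv F69932)) (tt N10783 F67776))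
theorem Q11342 : ∀ i, i < 11342 → P i := stepQ 11341 Q11341 (allL N11341 (tt N10840 F67777) (tt N11941 (iv F69898)) (tt N11207 F67778) (tt N11953 (iv F69955)) (tt N10971 F67779) (tt N11934 (iv F69862)) (tt N10749 (iv D17228)) (tt N11923 (iv F69799)) (tt N10784 F67780))
theorem Q11343 : ∀ i, i < 11343 → P i := stepQ 11342 Q11342 (allL N11342 (tt N10925 F67781) (tt N10754 F67782) (tt N11290 F67783) (tt N10954 F67784) (tt N10752 (iv D17229)) (tt N11954 D17841) (tt N10928 F67785) (tt N11346 (iv F67805)) (tt N10974 F67786))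
theorem Q11344 : ∀ i, i < 11344 → P i := stepQ 11343 Q11343 (allL N11343 (tt N10844 F67787) (tt N11038 F67788) (tt N10753 (iv D17230)) (tt N10755 F67789) (tt N11955 D17842) (tt N10955 F67790) (tt N10973 F67791) (tt N11862 (iv F69608)) (tt N10927 F67792))
theorem Q11345 : ∀ i, i < 11345 → P i := stepQ 11344 Q11344 (allL N11344 (tt N10845 F67793) (tt N10954 F67794) (tt N11955 (iv F69965)) (tt N10754 F67795) (tt N10753 (iv D17231)) (tt N11956 D17843) (tt N10974 F67796) (tt N11863 (iv F69613)) (tt N10928 F67797))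
theorem Q11346 : ∀ i, i < 11346 → P i := stepQ 11345 Q11345 (allL N11345 (tt N10846 F67798) (tt N11954 (iv F69958)) (tt N10871 F67799) (tt N11956 (iv F69971)) (tt N10761 F67800) (tt N10754 (iv D17232)) (tt N11957 D17844) (tt N11441 (iv F68191)) (tt N11927 (iv F69824)))
theorem Q11347 : ∀ i, i < 11347 → P i := stepQ 11346 Q11346 (allL N11346 (tt N10758 F67801) (tt N10847 F67802) (tt N11901 (iv F69703)) (tt N11016 F67803) (tt N10756 (iv D17233)) (tt N11958 D17845) (tt N10765 F67804) (tt N11342 F67805) (tt N11039 F67806))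
theorem Q11348 : ∀ i, i < 11348 → P i := stepQ 11347 Q11347 (allL N11347 (tt N11901 (iv F69701)) (tt N10991 F67807) (tt N10758 F67808) (tt N10898 F67809) (tt N10757 (iv D17234)) (tt N11959 D17846) (tt N10770 F67810) (tt N11521 (iv F68469)) (tt N11928 (iv F69830)))
theorem Q11349 : ∀ i, i < 11349 → P i := stepQ 11348 Q11348 (allL N11348 (tt N11958 (iv F69978)) (tt N10761 F67811) (tt N11959 (iv F69985)) (tt N11157 F67812) (tt N11954 (iv F69961)) (tt N10758 (iv D17235)) (tt N11960 D17847) (tt N11522 (iv F68473)) (tt N11929 (iv F69835)))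
theorem Q11350 : ∀ i, i < 11350 → P i := stepQ 11349 Q11349 (allL N11349 (tt N10860 F67813) (tt N11139 F67814) (tt N10760 F67815) (tt N11125 F67816) (tt N10759 (iv D17236)) (tt N11961 D17848) (tt N10782 F67817) (tt N11630 (iv F68872)) (tt N11932 (iv F69854)))
theorem Q11351 : ∀ i, i < 11351 → P i := stepQ 11350 Q11350 (allL N11350 (tt N10861 F67818) (tt N11157 F67819) (tt N11961 (iv F69993)) (tt N10761 F67820) (tt N11159 F67821) (tt N10760 (iv D17237)) (tt N11962 D17849) (tt N11631 (iv F68876)) (tt N11933 (iv F69859)))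
theorem Q11352 : ∀ i, i < 11352 → P i := stepQ 11351 Q11351 (allL N11351 (tt N10862 F67822) (tt N11960 (iv F69988)) (tt N11127 F67823) (tt N11962 (iv F69998)) (tt N11957 (iv F69976)) (tt N10784 F67824) (tt N10761 (iv D17238)) (tt N11523 (iv F68479)) (tt N11934 (iv F69863)))
theorem Q11353 : ∀ i, i < 11353 → P i := stepQ 11352 Q11352 (allL N11352 (tt N10767 F67825) (tt N10867 F67826) (tt N11007 F67827) (tt N10762 (iv D17239)) (tt N11963 D17850) (tt N11099 F67828) (tt N11009 F67829) (tt N10763 F67830) (tt N11043 F67831))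
theorem Q11354 : ∀ i, i < 11354 → P i := stepQ 11353 Q11353 (allL N11353 (tt N10769 F67832) (tt N10870 F67833) (tt N11015 F67834) (tt N10765 F67835) (tt N10763 (iv D17240)) (tt N11964 D17851) (tt N11016 F67836) (tt N11963 (iv F70006)) (tt N11113 F67837))
theorem Q11355 : ∀ i, i < 11355 → P i := stepQ 11354 Q11354 (allL N11354 (tt N10770 F67838) (tt N11290 F67839) (tt N10765 F67840) (tt N11289 F67841) (tt N10764 (iv D17241)) (tt N11965 D17852) (tt N11901 (iv F69706)) (tt N11524 (iv F68485)) (tt N11935 (iv F69869)))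
theorem Q11356 : ∀ i, i < 11356 → P i := stepQ 11355 Q11355 (allL N11355 (tt N10771 F67842) (tt N10871 F67843) (tt N11965 (iv F70016)) (tt N11964 (iv F70011)) (tt N10992 F67844) (tt N10765 (iv D17242)) (tt N11966 D17853) (tt N11525 (iv F68489)) (tt N11936 (iv F69874)))
theorem Q11357 : ∀ i, i < 11357 → P i := stepQ 11356 Q11356 (allL N11356 (tt N11099 F67845) (tt N10774 F67846) (tt N11108 F67847) (tt N10766 (iv D17243)) (tt N11967 D17854) (tt N10767 F67848) (tt N10966 F67849) (tt N10768 F67850) (tt N11270 F67851))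
theorem Q11358 : ∀ i, i < 11358 → P i := stepQ 11357 Q11357 (allL N11357 (tt N11963 (iv F70001)) (tt N10777 F67852) (tt N11146 F67853) (tt N11381 (iv F67952)) (tt N10767 (iv D17244)) (tt N11968 D17855) (tt N11148 F67854) (tt N10769 F67855) (tt N11755 (iv F69274)))
theorem Q11359 : ∀ i, i < 11359 → P i := stepQ 11358 Q11358 (allL N11358 (tt N11104 F67856) (tt N10780 F67857) (tt N11113 F67858) (tt N11000 F67859) (tt N10768 (iv D17245)) (tt N11969 D17856) (tt N10969 F67860) (tt N11967 (iv F70026)) (tt N11015 F67861))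
theorem Q11360 : ∀ i, i < 11360 → P i := stepQ 11359 Q11359 (allL N11359 (tt N11964 (iv F70008)) (tt N10783 F67862) (tt N11156 F67863) (tt N10771 F67864) (tt N11969 (iv F70035)) (tt N10769 (iv D17246)) (tt N11970 D17857) (tt N11968 (iv F70030)) (tt N11938 (iv F69887)))
theorem Q11361 : ∀ i, i < 11361 → P i := stepQ 11360 Q11360 (allL N11360 (tt N11289 F67865) (tt N11214 F67866) (tt N10896 F67867) (tt N10770 (iv D17247)) (tt N10792 F67868) (tt N11971 D17858) (tt N10898 F67869) (tt N11972 D17859) (tt N11939 (iv F69893)))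
theorem Q11362 : ∀ i, i < 11362 → P i := stepQ 11361 Q11361 (allL N11361 (tt N11965 (iv F70014)) (tt N11215 F67870) (tt N10771 F67871) (tt N11971 (iv F70044)) (tt N11004 F67872) (tt N10770 (iv D17248)) (tt N11973 D17860) (tt N11526 (iv F68493)) (tt N11940 (iv F69897)))
theorem Q11363 : ∀ i, i < 11363 → P i := stepQ 11362 Q11362 (allL N11362 (tt N11966 (iv F70019)) (tt N10784 F67873) (tt N11973 (iv F70052)) (tt N11970 (iv F70039)) (tt N11005 F67874) (tt N11960 (iv F69990)) (tt N10771 (iv D17249)) (tt N11527 (iv F68496)) (tt N11941 (iv F69900)))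
theorem Q11364 : ∀ i, i < 11364 → P i := stepQ 11363 Q11363 (allL N11363 (tt N10887 F67875) (tt N10966 F67876) (tt N11276 F67877) (tt N10772 (iv D17250)) (tt N11974 D17861) (tt N10960 F67878) (tt N10774 F67879) (tt N10778 F67880) (tt N11565 (iv F68636)))
theorem Q11365 : ∀ i, i < 11365 → P i := stepQ 11364 Q11364 (allL N11364 (tt N10888 F67881) (tt N11270 F67882) (tt N11905 (iv F69714)) (tt N10773 (iv D17251)) (tt N11975 D17862) (tt N10775 F67883) (tt N11565 (iv F68635)) (tt N11596 (iv F68757)) (tt N10774 F67884))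
theorem Q11366 : ∀ i, i < 11366 → P i := stepQ 11365 Q11365 (allL N11365 (tt N10890 F67885) (tt N11967 (iv F70023)) (tt N11884 (iv F69664)) (tt N11876 (iv F69642)) (tt N10774 (iv D17252)) (tt N11976 D17863) (tt N11974 (iv F70057)) (tt N10780 F67886) (tt N11975 (iv F70062)))
theorem Q11367 : ∀ i, i < 11367 → P i := stepQ 11366 Q11366 (allL N11366 (tt N10891 F67887) (tt N11738 (iv F69216)) (tt N10775 (iv D17253)) (tt N10786 F67888) (tt N11977 D17864) (tt N11905 (iv F69715)) (tt N10806 F67889) (tt N11944 (iv F69914)) (tt N10776 F67890))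
theorem Q11368 : ∀ i, i < 11368 → P i := stepQ 11367 Q11367 (allL N11367 (tt N10892 F67891) (tt N11755 (iv F69270)) (tt N11977 (iv F70067)) (tt N10796 F67892) (tt N10775 (iv D17254)) (tt N11978 D17865) (tt N10807 F67893) (tt N11945 (iv F69920)) (tt N10777 F67894))
theorem Q11369 : ∀ i, i < 11369 → P i := stepQ 11368 Q11368 (allL N11368 (tt N11979 D17866) (tt N10776 (iv D17255)) (tt N11129 F67895) (tt N10787 F67896) (tt N11980 D17867) (tt N11272 F67897) (tt N11131 F67898) (tt N10781 F67899) (tt N11738 (iv F69220)))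
theorem Q11370 : ∀ i, i < 11370 → P i := stepQ 11369 Q11369 (allL N11369 (tt N10894 F67900) (tt N11980 (iv F70080)) (tt N10777 F67901) (tt N11651 (iv F68942)) (tt N10776 (iv D17256)) (tt N11981 D17868) (tt N11630 (iv F68871)) (tt N10782 F67902) (tt N11977 (iv F70070)))
theorem Q11371 : ∀ i, i < 11371 → P i := stepQ 11370 Q11370 (allL N11370 (tt N10895 F67903) (tt N11968 (iv F70028)) (tt N11981 (iv F70085)) (tt N11528 (iv F68499)) (tt N11976 (iv F70064)) (tt N10777 (iv D17257)) (tt N11982 D17869) (tt N10783 F67904) (tt N11978 (iv F70073)))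
theorem Q11372 : ∀ i, i < 11372 → P i := stepQ 11371 Q11371 (allL N11371 (tt N10896 F67905) (tt N10969 F67906) (tt N11289 F67907) (tt N11015 F67908) (tt N10778 (iv D17258)) (tt N11983 D17870) (tt N10780 F67909) (tt N11974 (iv F70058)) (tt N11000 F67910))
theorem Q11373 : ∀ i, i < 11373 → P i := stepQ 11372 Q11372 (allL N11372 (tt N10898 F67911) (tt N11287 F67912) (tt N10780 F67913) (tt N11901 (iv F69704)) (tt N10779 (iv D17259)) (tt N11984 D17871) (tt N11289 F67914) (tt N11884 F69667) (tt N11949 (iv F69938)))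
theorem Q11374 : ∀ i, i < 11374 → P i := stepQ 11373 Q11373 (allL N11373 (tt N10899 F67915) (tt N11969 (iv F70032)) (tt N11984 (iv F70097)) (tt N11017 F67916) (tt N10783 F67917) (tt N10780 (iv D17260)) (tt N11985 D17872) (tt N11976 (iv F70065)) (tt N11950 (iv F69943)))
theorem Q11375 : ∀ i, i < 11375 → P i := stepQ 11374 Q11374 (allL N11374 (tt N10781 (iv D17261)) (tt N10900 F67918) (tt N10823 F67919) (tt N10785 F67920) (tt N11986 D17873) (tt N10824 F67921) (tt N11122 F67922) (tt N11979 (iv F70079)) (tt N10880 F67923))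
theorem Q11376 : ∀ i, i < 11376 → P i := stepQ 11375 Q11375 (allL N11375 (tt N11986 (iv F70102)) (tt N10782 F67924) (tt N11138 F67925) (tt N11229 F67926) (tt N10781 (iv D17262)) (tt N11987 D17874) (tt N11139 F67927) (tt N11980 (iv F70083)) (tt N11951 (iv F69949)))
theorem Q11377 : ∀ i, i < 11377 → P i := stepQ 11376 Q11376 (allL N11376 (tt N10902 F67928) (tt N11987 (iv F70108)) (tt N10783 F67929) (tt N11230 F67930) (tt N11984 (iv F70098)) (tt N10782 (iv D17263)) (tt N11988 D17875) (tt N11981 (iv F70086)) (tt N11952 (iv F69953)))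
theorem Q11378 : ∀ i, i < 11378 → P i := stepQ 11377 Q11377 (allL N11377 (tt N10903 F67931) (tt N11970 (iv F70037)) (tt N11988 (iv F70113)) (tt N10784 F67932) (tt N11985 (iv F70101)) (tt N11962 (iv F70000)) (tt N10783 (iv D17264)) (tt N11982 (iv F70088)) (tt N11953 (iv F69956)))
theorem Q11379 : ∀ i, i < 11379 → P i := stepQ 11378 Q11378 (allL N11378 (tt N10787 (iv D17265)) (tt N10914 F67933) (tt N11168 F67934) (tt N11979 (iv F70076)) (tt N11654 (iv F68951)) (tt N10934 F67935) (tt N11169 F67936) (tt N10788 F67937) (tt N11770 (iv F69311)))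
theorem Q11380 : ∀ i, i < 11380 → P i := stepQ 11379 Q11379 (allL N11379 (tt N10999 F67938) (tt N11239 F67939) (tt N10834 F67940) (tt N10791 (iv D17266)) (tt N11939 (iv F69891)) (tt N10989 F67941) (tt N10835 F67942) (tt N11989 D17876) (tt N10792 F67943))
theorem Q11381 : ∀ i, i < 11381 → P i := stepQ 11380 Q11380 (allL N11380 (tt N11276 F67944) (tt N11241 F67945) (tt N10887 F67946) (tt N10793 F67947) (tt N11972 (iv F70049)) (tt N11282 F67948) (tt N10889 F67949) (tt N10792 (iv D17267)) (tt N11706 (iv F69120)))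
theorem Q11382 : ∀ i, i < 11382 → P i := stepQ 11381 Q11381 (allL N11381 (tt N11645 (iv F68920)) (tt N10931 F67950) (tt N10801 F67951) (tt N11357 F67952) (tt N10794 (iv D17268)) (tt N11990 D17877) (tt N11027 F67953) (tt N10812 F67954) (tt N11382 (iv F67960)))
theorem Q11383 : ∀ i, i < 11383 → P i := stepQ 11382 Q11382 (allL N11382 (tt N11045 F67955) (tt N10796 F67956) (tt N11027 F67957) (tt N11755 (iv F69272)) (tt N10795 (iv D17269)) (tt N11991 D17878) (tt N10801 F67958) (tt N10813 F67959) (tt N11381 F67960))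
theorem Q11384 : ∀ i, i < 11384 → P i := stepQ 11383 Q11383 (allL N11383 (tt N11647 (iv F68928)) (tt N11991 (iv F70127)) (tt N11063 F67961) (tt N11978 (iv F70072)) (tt N11990 (iv F70124)) (tt N10796 (iv D17270)) (tt N11992 D17879) (tt N10817 F67962) (tt N11528 (iv F68501)))
theorem Q11385 : ∀ i, i < 11385 → P i := stepQ 11384 Q11384 (allL N11384 (tt N10800 F67963) (tt N11259 F67964) (tt N11008 F67965) (tt N10797 (iv D17271)) (tt N11993 D17880) (tt N11011 F67966) (tt N11043 F67967) (tt N11109 F67968) (tt N11009 F67969))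
theorem Q11386 : ∀ i, i < 11386 → P i := stepQ 11385 Q11385 (allL N11385 (tt N10801 F67970) (tt N11911 (iv F69739)) (tt N11645 (iv F68922)) (tt N11993 (iv F70138)) (tt N10798 (iv D17272)) (tt N11994 D17881) (tt N11045 F67971) (tt N10819 F67972) (tt N11531 (iv F68516)))
theorem Q11387 : ∀ i, i < 11387 → P i := stepQ 11386 Q11386 (allL N11386 (tt N11109 F67973) (tt N10803 F67974) (tt N11100 F67975) (tt N10799 (iv D17273)) (tt N11995 D17882) (tt N10982 F67976) (tt N11217 F67977) (tt N10800 F67978) (tt N10981 F67979))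
theorem Q11388 : ∀ i, i < 11388 → P i := stepQ 11387 Q11387 (allL N11387 (tt N11993 (iv F70135)) (tt N10807 F67980) (tt N11147 F67981) (tt N10801 F67982) (tt N10800 (iv D17274)) (tt N11996 D17883) (tt N11755 (iv F69273)) (tt N11995 (iv F70150)) (tt N11148 F67983))
theorem Q11389 : ∀ i, i < 11389 → P i := stepQ 11388 Q11388 (allL N11388 (tt N11994 (iv F70142)) (tt N10808 F67984) (tt N11990 (iv F70122)) (tt N11996 (iv F70154)) (tt N11063 F67985) (tt N10801 (iv D17275)) (tt N11997 D17884) (tt N10826 F67986) (tt N11629 (iv F68867)))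
theorem Q11390 : ∀ i, i < 11390 → P i := stepQ 11389 Q11389 (allL N11389 (tt N11208 F67987) (tt N10982 F67988) (tt N11998 D17885) (tt N10802 (iv D17276)) (tt N11999 D17886) (tt N10803 F67989) (tt N10996 F67990) (tt N10805 F67991) (tt N10976 F67992))
theorem Q11391 : ∀ i, i < 11391 → P i := stepQ 11390 Q11390 (allL N11390 (tt N11916 (iv F69762)) (tt N12000 D17887) (tt N10803 (iv D17277)) (tt N11390 F67993) (tt N12001 D17888) (tt N11998 (iv F70163)) (tt N11944 (iv F69913)) (tt N10806 F67994) (tt N11930 (iv F69842)))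
theorem Q11392 : ∀ i, i < 11392 → P i := stepQ 11391 Q11391 (allL N11391 (tt N11917 (iv F69768)) (tt N11995 (iv F70146)) (tt N12001 (iv F70177)) (tt N10833 F67995) (tt N10803 (iv D17278)) (tt N12002 D17889) (tt N11945 (iv F69919)) (tt N10807 F67996) (tt N11931 (iv F69848)))
theorem Q11393 : ∀ i, i < 11393 → P i := stepQ 11392 Q11392 (allL N11392 (tt N11667 (iv F69001)) (tt N10967 F67997) (tt N11279 F67998) (tt N10804 (iv D17279)) (tt N12003 D17890) (tt N11565 (iv F68634)) (tt N10805 F67999) (tt N10996 F68000) (tt N10960 F68001))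
theorem Q11394 : ∀ i, i < 11394 → P i := stepQ 11393 Q11393 (allL N11393 (tt N11918 (iv F69774)) (tt N11133 F68002) (tt N10805 (iv D17280)) (tt N10809 F68003) (tt N12004 D17891) (tt N10806 F68004) (tt N11279 F68005) (tt N11998 (iv F70165)) (tt N11135 F68006))
theorem Q11395 : ∀ i, i < 11395 → P i := stepQ 11394 Q11394 (allL N11394 (tt N11919 (iv F69780)) (tt N11150 F68007) (tt N12004 (iv F70188)) (tt N11072 F68008) (tt N10805 (iv D17281)) (tt N12005 D17892) (tt N12003 (iv F70184)) (tt N11999 (iv F70170)) (tt N11152 F68009))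
theorem Q11396 : ∀ i, i < 11396 → P i := stepQ 11395 Q11395 (allL N11395 (tt N12006 D17893) (tt N10806 (iv D17282)) (tt N11130 F68010) (tt N10811 F68011) (tt N12007 D17894) (tt N11133 F68012) (tt N11738 (iv F69219)) (tt N12000 (iv F70175)) (tt N11131 F68013))
theorem Q11397 : ∀ i, i < 11397 → P i := stepQ 11396 Q11396 (allL N11396 (tt N11921 (iv F69788)) (tt N12007 (iv F70199)) (tt N10807 F68014) (tt N11251 F68015) (tt N10806 (iv D17283)) (tt N12008 D17895) (tt N11977 (iv F70069)) (tt N12001 (iv F70178)) (tt N11630 (iv F68873)))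
theorem Q11398 : ∀ i, i < 11398 → P i := stepQ 11397 Q11397 (allL N11397 (tt N11922 (iv F69793)) (tt N11996 (iv F70152)) (tt N12008 (iv F70203)) (tt N10808 F68016) (tt N12005 (iv F70193)) (tt N10807 (iv D17284)) (tt N12009 D17896) (tt N12002 (iv F70180)) (tt N11631 (iv F68877)))
theorem Q11399 : ∀ i, i < 11399 → P i := stepQ 11398 Q11398 (allL N11398 (tt N11923 (iv F69796)) (tt N11997 (iv F70157)) (tt N11253 F68017) (tt N12009 (iv F70205)) (tt N11076 F68018) (tt N11992 (iv F70133)) (tt N10808 (iv D17285)) (tt N10840 F68019) (tt N11632 (iv F68881)))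
theorem Q11400 : ∀ i, i < 11400 → P i := stepQ 11399 Q11399 (allL N11399 (tt N11925 (iv F69806)) (tt N11173 F68020) (tt N10810 F68021) (tt N12010 D17897) (tt N10809 (iv D17286)) (tt N11256 F68022) (tt N11301 F68023) (tt N11399 F68024) (tt N11174 F68025))
theorem Q11401 : ∀ i, i < 11401 → P i := stepQ 11400 Q11400 (allL N11400 (tt N10811 (iv D17287)) (tt N11926 (iv F69812)) (tt N10921 F68026) (tt N12006 (iv F70196)) (tt N11257 F68027) (tt N11170 F68028) (tt N11770 (iv F69309)) (tt N11400 F68029) (tt N11169 F68030))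
theorem Q11402 : ∀ i, i < 11402 → P i := stepQ 11401 Q11401 (allL N11401 (tt N11927 (iv F69819)) (tt N10932 F68031) (tt N10826 F68032) (tt N10930 F68033) (tt N10817 F68034) (tt N10812 (iv D17288)) (tt N12011 D17898) (tt N11990 (iv F70125)) (tt N10846 F68035))
theorem Q11403 : ∀ i, i < 11403 → P i := stepQ 11402 Q11402 (allL N11402 (tt N11048 F68036) (tt N10817 F68037) (tt N11031 F68038) (tt N11227 F68039) (tt N10932 F68040) (tt N10813 (iv D17289)) (tt N12012 D17899) (tt N11991 (iv F70130)) (tt N10851 F68041))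
theorem Q11404 : ∀ i, i < 11404 → P i := stepQ 11403 Q11403 (allL N11403 (tt N11930 (iv F69836)) (tt N12013 D17900) (tt N10814 (iv D17290)) (tt N11403 F68042) (tt N12014 D17901) (tt N11209 F68043) (tt N10832 F68044) (tt N10815 F68045) (tt N11916 (iv F69767)))
theorem Q11405 : ∀ i, i < 11405 → P i := stepQ 11404 Q11404 (allL N11404 (tt N11931 (iv F69843)) (tt N11220 F68046) (tt N12014 (iv F70230)) (tt N11945 (iv F69918)) (tt N10814 (iv D17291)) (tt N12015 D17902) (tt N10833 F68047) (tt N10816 F68048) (tt N11917 (iv F69773)))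
theorem Q11406 : ∀ i, i < 11406 → P i := stepQ 11405 Q11405 (allL N11405 (tt N11240 (iv F68054)) (tt N10815 (iv D17292)) (tt N11023 F68049) (tt N10818 F68050) (tt N12016 D17903) (tt N11211 F68051) (tt N10837 F68052) (tt N12013 (iv F70228)) (tt N10859 F68053))
theorem Q11407 : ∀ i, i < 11407 → P i := stepQ 11406 Q11406 (allL N11406 (tt N11932 (iv F69849)) (tt N12016 (iv F70237)) (tt N10816 F68055) (tt N11095 F68056) (tt N10815 (iv D17293)) (tt N12017 D17904) (tt N10838 F68057) (tt N12014 (iv F70232)) (tt N10860 F68058))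
theorem Q11408 : ∀ i, i < 11408 → P i := stepQ 11407 Q11407 (allL N11407 (tt N11933 (iv F69855)) (tt N11227 F68059) (tt N12017 (iv F70242)) (tt N10817 F68060) (tt N11213 F68061) (tt N10816 (iv D17294)) (tt N12018 D17905) (tt N12015 (iv F70235)) (tt N10861 F68062))
theorem Q11409 : ∀ i, i < 11409 → P i := stepQ 11408 Q11408 (allL N11408 (tt N11934 (iv F69860)) (tt N12012 (iv F70218)) (tt N11097 F68063) (tt N12018 (iv F70247)) (tt N12011 (iv F70214)) (tt N10840 F68064) (tt N10817 (iv D17295)) (tt N11992 (iv F70134)) (tt N10862 F68065))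
theorem Q11410 : ∀ i, i < 11410 → P i := stepQ 11409 Q11409 (allL N11409 (tt N10826 F68066) (tt N11936 (iv F69871)) (tt N11927 (iv F69821)) (tt N11288 F68067) (tt N11086 F68068) (tt N10819 (iv D17296)) (tt N12019 D17906) (tt N11994 (iv F70144)) (tt N10871 F68069))
theorem Q11411 : ∀ i, i < 11411 → P i := stepQ 11410 Q11410 (allL N11410 (tt N11129 F68070) (tt N10830 F68071) (tt N11979 (iv F70075)) (tt N10820 (iv D17297)) (tt N12020 D17907) (tt N10822 F68072) (tt N11118 F68073) (tt N10823 F68074) (tt N11724 (iv F69172)))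
theorem Q11412 : ∀ i, i < 11412 → P i := stepQ 11411 Q11411 (allL N11411 (tt N11107 F68075) (tt N10831 F68076) (tt N12021 D17908) (tt N10821 (iv D17298)) (tt N12022 D17909) (tt N11724 (iv F69170)) (tt N11218 F68077) (tt N10876 F68078) (tt N10822 F68079))
theorem Q11413 : ∀ i, i < 11413 → P i := stepQ 11412 Q11412 (allL N11412 (tt N11272 F68080) (tt N11024 (iv F68084)) (tt N10822 (iv D17299)) (tt N10934 F68081) (tt N12023 D17910) (tt N11979 (iv F70077)) (tt N11219 F68082) (tt N10824 F68083) (tt N12021 (iv F70264)))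
theorem Q11414 : ∀ i, i < 11414 → P i := stepQ 11413 Q11413 (allL N11413 (tt N11273 F68085) (tt N10833 F68086) (tt N12023 (iv F70274)) (tt N11995 (iv F70148)) (tt N10822 (iv D17300)) (tt N12024 D17911) (tt N11220 F68087) (tt N10825 F68088) (tt N12022 (iv F70271)))
theorem Q11415 : ∀ i, i < 11415 → P i := stepQ 11414 Q11414 (allL N11414 (tt N11138 F68089) (tt N10836 F68090) (tt N11986 (iv F70104)) (tt N11094 F68091) (tt N10823 (iv D17301)) (tt N12025 D17912) (tt N11123 F68092) (tt N12020 (iv F70259)) (tt N10881 F68093))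
theorem Q11416 : ∀ i, i < 11416 → P i := stepQ 11415 Q11415 (allL N11415 (tt N11287 F68094) (tt N11003 F68095) (tt N10825 F68096) (tt N10929 F68097) (tt N10824 (iv D17302)) (tt N12026 D17913) (tt N11226 F68098) (tt N12023 (iv F70277)) (tt N10883 F68099))
theorem Q11417 : ∀ i, i < 11417 → P i := stepQ 11416 Q11416 (allL N11416 (tt N11288 F68100) (tt N10839 F68101) (tt N12026 (iv F70288)) (tt N10826 F68102) (tt N12025 (iv F70284)) (tt N10825 (iv D17303)) (tt N12027 D17914) (tt N12024 (iv F70280)) (tt N10884 F68103))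
theorem Q11418 : ∀ i, i < 11418 → P i := stepQ 11417 Q11417 (allL N11417 (tt N12019 (iv F70251)) (tt N10840 F68104) (tt N12011 (iv F70212)) (tt N12027 (iv F70293)) (tt N11097 F68105) (tt N12012 (iv F70222)) (tt N10826 (iv D17304)) (tt N11997 (iv F70159)) (tt N10885 F68106))
theorem Q11419 : ∀ i, i < 11419 → P i := stepQ 11418 Q11418 (allL N11418 (tt N11597 (iv F68759)) (tt N11725 (iv F69174)) (tt N12028 D17915) (tt N10827 (iv D17305)) (tt N12029 D17916) (tt N11589 (iv F68728)) (tt N11420 (iv F68115)) (tt N11098 F68107) (tt N11419 (iv F68113)))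
theorem Q11420 : ∀ i, i < 11420 → P i := stepQ 11419 Q11419 (allL N11419 (tt N10995 F68108) (tt N11118 F68109) (tt N11989 (iv F70117)) (tt N10828 (iv D17306)) (tt N12030 D17917) (tt N10988 F68110) (tt N10830 F68111) (tt N10834 F68112) (tt N11418 F68113))
theorem Q11421 : ∀ i, i < 11421 → P i := stepQ 11420 Q11420 (allL N11420 (tt N11596 (iv F68754)) (tt N11724 (iv F69169)) (tt N12031 D17918) (tt N10829 (iv D17307)) (tt N12032 D17919) (tt N10831 F68114) (tt N11418 F68115) (tt N10888 F68116) (tt N10830 F68117))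
theorem Q11422 : ∀ i, i < 11422 → P i := stepQ 11421 Q11421 (allL N11421 (tt N11942 (iv F69901)) (tt N12033 D17920) (tt N10830 (iv D17308)) (tt N11421 F68118) (tt N12034 D17921) (tt N10832 F68119) (tt N11989 (iv F70120)) (tt N10835 F68120) (tt N12031 (iv F70310)))
theorem Q11423 : ∀ i, i < 11423 → P i := stepQ 11422 Q11422 (allL N11422 (tt N11943 (iv F69907)) (tt N12020 (iv F70257)) (tt N12034 (iv F70321)) (tt N12029 (iv F70299)) (tt N10830 (iv D17309)) (tt N12035 D17922) (tt N12030 (iv F70303)) (tt N10836 F68121) (tt N12032 (iv F70314)))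
theorem Q11424 : ∀ i, i < 11424 → P i := stepQ 11423 Q11423 (allL N11423 (tt N11944 (iv F69911)) (tt N12036 D17923) (tt N10831 (iv D17310)) (tt N11423 F68122) (tt N12037 D17924) (tt N12031 (iv F70307)) (tt N11916 (iv F69765)) (tt N10891 F68123) (tt N10832 F68124))
theorem Q11425 : ∀ i, i < 11425 → P i := stepQ 11424 Q11424 (allL N11424 (tt N11945 (iv F69916)) (tt N12022 (iv F70267)) (tt N12037 (iv F70329)) (tt N11931 (iv F69845)) (tt N10831 (iv D17311)) (tt N12038 D17925) (tt N11917 (iv F69771)) (tt N10892 F68125) (tt N10833 F68126))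
theorem Q11426 : ∀ i, i < 11426 → P i := stepQ 11425 Q11425 (allL N11425 (tt N12039 D17926) (tt N10832 (iv D17312)) (tt N11024 F68127) (tt N11425 F68128) (tt N12040 D17927) (tt N12033 (iv F70318)) (tt N12013 (iv F70227)) (tt N10837 F68129) (tt N12036 (iv F70328)))
theorem Q11427 : ∀ i, i < 11427 → P i := stepQ 11426 Q11426 (allL N11426 (tt N11947 (iv F69928)) (tt N12040 (iv F70340)) (tt N10833 F68130) (tt N12041 D17928) (tt N10832 (iv D17313)) (tt N12042 D17929) (tt N12014 (iv F70231)) (tt N10838 F68131) (tt N12037 (iv F70331)))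
theorem Q11428 : ∀ i, i < 11428 → P i := stepQ 11427 Q11427 (allL N11427 (tt N11948 (iv F69931)) (tt N12024 (iv F70279)) (tt N12042 (iv F70345)) (tt N12002 (iv F70179)) (tt N12035 (iv F70323)) (tt N10833 (iv D17314)) (tt N12043 D17930) (tt N10839 F68132) (tt N12038 (iv F70333)))
theorem Q11429 : ∀ i, i < 11429 → P i := stepQ 11428 Q11428 (allL N11428 (tt N11000 F68133) (tt N11123 F68134) (tt N11939 (iv F69890)) (tt N11104 F68135) (tt N10834 (iv D17315)) (tt N12044 D17931) (tt N10836 F68136) (tt N12030 (iv F70304)) (tt N10896 F68137))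
theorem Q11430 : ∀ i, i < 11430 → P i := stepQ 11429 Q11429 (allL N11429 (tt N10882 F68138) (tt N10835 (iv D17316)) (tt N10900 F68139) (tt N10841 F68140) (tt N12045 D17932) (tt N10837 F68141) (tt N11239 F68142) (tt N12033 (iv F70320)) (tt N10897 F68143))
theorem Q11431 : ∀ i, i < 11431 → P i := stepQ 11430 Q11430 (allL N11430 (tt N11949 (iv F69933)) (tt N12045 (iv F70354)) (tt N10836 F68144) (tt N11928 (iv F69828)) (tt N10835 (iv D17317)) (tt N12046 D17933) (tt N11939 (iv F69892)) (tt N12034 (iv F70322)) (tt N10898 F68145))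
theorem Q11432 : ∀ i, i < 11432 → P i := stepQ 11431 Q11431 (allL N11431 (tt N11950 (iv F69939)) (tt N12025 (iv F70282)) (tt N12046 (iv F70359)) (tt N11105 F68146) (tt N10839 F68147) (tt N10836 (iv D17318)) (tt N12047 D17934) (tt N12035 (iv F70324)) (tt N10899 F68148))
theorem Q11433 : ∀ i, i < 11433 → P i := stepQ 11432 Q11432 (allL N11432 (tt N10837 (iv D17319)) (tt N10880 F68149) (tt N10897 F68150) (tt N10842 F68151) (tt N12048 D17935) (tt N10882 F68152) (tt N11240 F68153) (tt N12039 (iv F70339)) (tt N10900 F68154))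
theorem Q11434 : ∀ i, i < 11434 → P i := stepQ 11433 Q11433 (allL N11433 (tt N12048 (iv F70365)) (tt N10838 F68155) (tt N11003 F68156) (tt N11001 F68157) (tt N10837 (iv D17320)) (tt N12049 D17936) (tt N12016 (iv F70240)) (tt N12040 (iv F70342)) (tt N10901 F68158))
theorem Q11435 : ∀ i, i < 11435 → P i := stepQ 11434 Q11434 (allL N11434 (tt N11952 (iv F69950)) (tt N12049 (iv F70371)) (tt N10839 F68159) (tt N11268 F68160) (tt N12046 (iv F70360)) (tt N10838 (iv D17321)) (tt N12050 D17937) (tt N12042 (iv F70346)) (tt N10902 F68161))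
theorem Q11436 : ∀ i, i < 11436 → P i := stepQ 11435 Q11435 (allL N11435 (tt N11953 (iv F69954)) (tt N12027 (iv F70292)) (tt N12050 (iv F70375)) (tt N10840 F68162) (tt N12047 (iv F70363)) (tt N12018 (iv F70249)) (tt N10839 (iv D17322)) (tt N12043 (iv F70347)) (tt N10903 F68163))
theorem Q11437 : ∀ i, i < 11437 → P i := stepQ 11436 Q11436 (allL N11436 (tt N11862 (iv F69603)) (tt N10943 F68164) (tt N10843 (iv D17323)) (tt N11436 F68165) (tt N12051 D17938) (tt N11189 F68166) (tt N11036 F68167) (tt N10844 F68168) (tt N11309 F68169))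
theorem Q11438 : ∀ i, i < 11438 → P i := stepQ 11437 Q11437 (allL N11437 (tt N11863 (iv F69609)) (tt N10922 F68170) (tt N12051 (iv F70379)) (tt N11443 (iv F68200)) (tt N10843 (iv D17324)) (tt N12052 D17939) (tt N11037 F68171) (tt N10845 F68172) (tt N11310 F68173))
theorem Q11439 : ∀ i, i < 11439 → P i := stepQ 11438 Q11438 (allL N11438 (tt N11955 (iv F69963)) (tt N10962 F68174) (tt N10845 F68175) (tt N10883 F68176) (tt N10844 (iv D17325)) (tt N12053 D17940) (tt N11040 F68177) (tt N12051 (iv F70381)) (tt N10929 F68178))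
theorem Q11440 : ∀ i, i < 11440 → P i := stepQ 11439 Q11439 (allL N11439 (tt N11956 (iv F69969)) (tt N10923 F68179) (tt N12053 (iv F70388)) (tt N10846 F68180) (tt N11200 F68181) (tt N10845 (iv D17326)) (tt N12054 D17941) (tt N12052 (iv F70385)) (tt N10930 F68182))
theorem Q11441 : ∀ i, i < 11441 → P i := stepQ 11440 Q11440 (allL N11440 (tt N11957 (iv F69974)) (tt N11033 F68183) (tt N10885 F68184) (tt N12054 (iv F70393)) (tt N10862 F68185) (tt N11042 F68186) (tt N10846 (iv D17327)) (tt N11447 (iv F68223)) (tt N12011 (iv F70216)))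
theorem Q11442 : ∀ i, i < 11442 → P i := stepQ 11441 Q11441 (allL N11441 (tt N10851 F68187) (tt N11958 (iv F69979)) (tt N10975 F68188) (tt N11267 F68189) (tt N10926 F68190) (tt N10847 (iv D17328)) (tt N12055 D17942) (tt N11345 F68191) (tt N11048 F68192))
theorem Q11443 : ∀ i, i < 11443 → P i := stepQ 11442 Q11442 (allL N11442 (tt N11260 F68193) (tt N12056 D17943) (tt N10848 (iv D17329)) (tt N11442 F68194) (tt N12057 D17944) (tt N11202 F68195) (tt N10877 F68196) (tt N10849 F68197) (tt N11912 (iv F69749)))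
theorem Q11444 : ∀ i, i < 11444 → P i := stepQ 11443 Q11443 (allL N11443 (tt N11261 F68198) (tt N10855 F68199) (tt N12057 (iv F70411)) (tt N11437 F68200) (tt N10848 (iv D17330)) (tt N12058 D17945) (tt N10878 F68201) (tt N10850 F68202) (tt N11913 (iv F69755)))
theorem Q11445 : ∀ i, i < 11445 → P i := stepQ 11444 Q11444 (allL N11444 (tt N11239 F68203) (tt N10849 (iv D17331)) (tt N10859 F68204) (tt N10918 F68205) (tt N12059 D17946) (tt N11204 F68206) (tt N10882 F68207) (tt N12056 (iv F70409)) (tt N11023 F68208))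
theorem Q11446 : ∀ i, i < 11446 → P i := stepQ 11445 Q11445 (allL N11445 (tt N11266 F68209) (tt N12059 (iv F70420)) (tt N10850 F68210) (tt N11040 F68211) (tt N10849 (iv D17332)) (tt N12060 D17947) (tt N10883 F68212) (tt N12057 (iv F70413)) (tt N11226 F68213))
theorem Q11447 : ∀ i, i < 11447 → P i := stepQ 11446 Q11446 (allL N11446 (tt N11267 F68214) (tt N10861 F68215) (tt N12060 (iv F70426)) (tt N10851 F68216) (tt N11206 F68217) (tt N10850 (iv D17333)) (tt N12061 D17948) (tt N12058 (iv F70418)) (tt N11227 F68218))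
theorem Q11448 : ∀ i, i < 11448 → P i := stepQ 11447 Q11447 (allL N11447 (tt N12055 (iv F70397)) (tt N10862 F68219) (tt N11042 F68220) (tt N12061 (iv F70432)) (tt N11033 F68221) (tt N10885 F68222) (tt N10851 (iv D17334)) (tt N11440 F68223) (tt N12012 (iv F70223)))
theorem Q11449 : ∀ i, i < 11449 → P i := stepQ 11448 Q11448 (allL N11448 (tt N10960 F68224) (tt N11083 F68225) (tt N11282 F68226) (tt N10852 (iv D17335)) (tt N12062 D17949) (tt N10887 F68227) (tt N10853 F68228) (tt N10856 F68229) (tt N11667 (iv F69005)))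
theorem Q11450 : ∀ i, i < 11450 → P i := stepQ 11449 Q11449 (allL N11449 (tt N11135 F68230) (tt N12063 D17950) (tt N10853 (iv D17336)) (tt N10904 F68231) (tt N12064 D17951) (tt N10854 F68232) (tt N11282 F68233) (tt N10857 F68234) (tt N11918 (iv F69779)))
theorem Q11451 : ∀ i, i < 11451 → P i := stepQ 11450 Q11450 (allL N11450 (tt N11152 F68235) (tt N11203 F68236) (tt N12064 (iv F70448)) (tt N11787 (iv F69380)) (tt N10853 (iv D17337)) (tt N12065 D17952) (tt N12062 (iv F70439)) (tt N10858 F68237) (tt N11919 (iv F69784)))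
theorem Q11452 : ∀ i, i < 11452 → P i := stepQ 11451 Q11451 (allL N11451 (tt N12066 D17953) (tt N10854 (iv D17338)) (tt N12056 (iv F70405)) (tt N10906 F68238) (tt N12067 D17954) (tt N12063 (iv F70444)) (tt N10893 F68239) (tt N10859 F68240) (tt N11920 (iv F69787)))
theorem Q11453 : ∀ i, i < 11453 → P i := stepQ 11452 Q11452 (allL N11452 (tt N11630 (iv F68868)) (tt N12067 (iv F70461)) (tt N10855 F68241) (tt N11549 (iv F68578)) (tt N10854 (iv D17339)) (tt N12068 D17955) (tt N10894 F68242) (tt N10860 F68243) (tt N11921 (iv F69792)))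
theorem Q11454 : ∀ i, i < 11454 → P i := stepQ 11453 Q11453 (allL N11453 (tt N11631 (iv F68874)) (tt N12058 (iv F70415)) (tt N12068 (iv F70464)) (tt N11519 (iv F68454)) (tt N12065 (iv F70453)) (tt N10855 (iv D17340)) (tt N12069 D17956) (tt N10861 F68244) (tt N11922 (iv F69795)))
theorem Q11455 : ∀ i, i < 11455 → P i := stepQ 11454 Q11454 (allL N11454 (tt N10961 F68245) (tt N11085 F68246) (tt N11293 F68247) (tt N10959 F68248) (tt N10856 (iv D17341)) (tt N12070 D17957) (tt N10858 F68249) (tt N12062 (iv F70440)) (tt N10990 F68250))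
theorem Q11456 : ∀ i, i < 11456 → P i := stepQ 11455 Q11455 (allL N11455 (tt N11124 F68251) (tt N10857 (iv D17342)) (tt N11204 F68252) (tt N10863 F68253) (tt N12071 D17958) (tt N10859 F68254) (tt N11228 F68255) (tt N12063 (iv F70446)) (tt N11211 F68256))
theorem Q11457 : ∀ i, i < 11457 → P i := stepQ 11456 Q11456 (allL N11456 (tt N11141 F68257) (tt N12071 (iv F70475)) (tt N10858 F68258) (tt N12072 D17959) (tt N10857 (iv D17343)) (tt N12073 D17960) (tt N11293 F68259) (tt N12064 (iv F70450)) (tt N11212 F68260))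
theorem Q11458 : ∀ i, i < 11458 → P i := stepQ 11457 Q11457 (allL N11457 (tt N11159 F68261) (tt N11206 F68262) (tt N12073 (iv F70487)) (tt N11200 F68263) (tt N10861 F68264) (tt N10858 (iv D17344)) (tt N12074 D17961) (tt N12065 (iv F70454)) (tt N11213 F68265))
theorem Q11459 : ∀ i, i < 11459 → P i := stepQ 11458 Q11458 (allL N11458 (tt N10859 (iv D17345)) (tt N11122 F68266) (tt N11239 F68267) (tt N10864 F68268) (tt N12072 (iv F70483)) (tt N11124 F68269) (tt N10900 F68270) (tt N12066 (iv F70460)) (tt N11240 F68271))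
theorem Q11460 : ∀ i, i < 11460 → P i := stepQ 11459 Q11459 (allL N11459 (tt N12072 (iv F70480)) (tt N10860 F68272) (tt N12059 (iv F70421)) (tt N11141 F68273) (tt N10859 (iv D17346)) (tt N12075 D17962) (tt N10901 F68274) (tt N12067 (iv F70463)) (tt N12016 (iv F70241)))
theorem Q11461 : ∀ i, i < 11461 → P i := stepQ 11460 Q11460 (allL N11460 (tt N11961 (iv F69991)) (tt N12075 (iv F70495)) (tt N10861 F68275) (tt N11142 F68276) (tt N12073 (iv F70488)) (tt N10860 (iv D17347)) (tt N12076 D17963) (tt N12068 (iv F70465)) (tt N12017 (iv F70245)))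
theorem Q11462 : ∀ i, i < 11462 → P i := stepQ 11461 Q11461 (allL N11461 (tt N11962 (iv F69996)) (tt N12061 (iv F70431)) (tt N12076 (iv F70497)) (tt N10862 F68277) (tt N12074 (iv F70493)) (tt N10903 F68278) (tt N10861 (iv D17348)) (tt N12069 (iv F70467)) (tt N12018 (iv F70250)))
theorem Q11463 : ∀ i, i < 11463 → P i := stepQ 11462 Q11462 (allL N11462 (tt N10875 F68279) (tt N11099 F68280) (tt N11946 (iv F69922)) (tt N10865 (iv D17349)) (tt N12077 D17964) (tt N10867 F68281) (tt N11089 F68282) (tt N10868 F68283) (tt N11470 (iv F68313)))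
theorem Q11464 : ∀ i, i < 11464 → P i := stepQ 11463 Q11463 (allL N11463 (tt N10876 F68284) (tt N11043 F68285) (tt N12078 D17965) (tt N10866 (iv D17350)) (tt N12079 D17966) (tt N11470 (iv F68311)) (tt N11259 F68286) (tt N11107 F68287) (tt N10867 F68288))
theorem Q11465 : ∀ i, i < 11465 → P i := stepQ 11464 Q11464 (allL N11464 (tt N10877 F68289) (tt N11942 (iv F69902)) (tt N10867 (iv D17351)) (tt N11464 F68290) (tt N12080 D17967) (tt N11946 (iv F69924)) (tt N11260 F68291) (tt N10869 F68292) (tt N12078 (iv F70508)))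
theorem Q11466 : ∀ i, i < 11466 → P i := stepQ 11465 Q11465 (allL N11465 (tt N10878 F68293) (tt N11963 (iv F70002)) (tt N12080 (iv F70516)) (tt N11573 (iv F68668)) (tt N10867 (iv D17352)) (tt N12081 D17968) (tt N11261 F68294) (tt N10870 F68295) (tt N12079 (iv F70514)))
theorem Q11467 : ∀ i, i < 11467 → P i := stepQ 11466 Q11466 (allL N11466 (tt N10881 F68296) (tt N11104 F68297) (tt N11951 (iv F69946)) (tt N11123 F68298) (tt N10868 (iv D17353)) (tt N12082 D17969) (tt N11094 F68299) (tt N12077 (iv F70503)) (tt N11138 F68300))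
theorem Q11468 : ∀ i, i < 11468 → P i := stepQ 11467 Q11467 (allL N11467 (tt N10883 F68301) (tt N11949 (iv F69934)) (tt N10870 F68302) (tt N11955 (iv F69966)) (tt N10869 (iv D17354)) (tt N12083 D17970) (tt N11266 F68303) (tt N12080 (iv F70518)) (tt N11287 F68304))
theorem Q11469 : ∀ i, i < 11469 → P i := stepQ 11468 Q11468 (allL N11468 (tt N10884 F68305) (tt N11964 (iv F70009)) (tt N12083 (iv F70527)) (tt N10871 F68306) (tt N12082 (iv F70524)) (tt N10870 (iv D17355)) (tt N12084 D17971) (tt N12081 (iv F70520)) (tt N11288 F68307))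
theorem Q11470 : ∀ i, i < 11470 → P i := stepQ 11469 Q11469 (allL N11469 (tt N10885 F68308) (tt N11966 (iv F70020)) (tt N11957 (iv F69975)) (tt N12084 (iv F70530)) (tt N11127 F68309) (tt N12055 (iv F70401)) (tt N10871 (iv D17356)) (tt N11576 (iv F68678)) (tt N12019 (iv F70255)))
theorem Q11471 : ∀ i, i < 11471 → P i := stepQ 11470 Q11470 (allL N11470 (tt N11472 (iv F68319)) (tt N10886 F68310) (tt N12085 D17972) (tt N10872 (iv D17357)) (tt N12086 D17973) (tt N11463 F68311) (tt N11695 (iv F69086)) (tt N11128 F68312) (tt N11462 F68313))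
theorem Q11472 : ∀ i, i < 11472 → P i := stepQ 11471 Q11471 (allL N11471 (tt N11089 F68314) (tt N10887 F68315) (tt N12087 D17974) (tt N10873 (iv D17358)) (tt N12088 D17975) (tt N11083 F68316) (tt N10875 F68317) (tt N10879 F68318) (tt N11694 (iv F69082)))
theorem Q11473 : ∀ i, i < 11473 → P i := stepQ 11472 Q11472 (allL N11472 (tt N11470 F68319) (tt N10888 F68320) (tt N12089 D17976) (tt N10874 (iv D17359)) (tt N12090 D17977) (tt N10876 F68321) (tt N11694 (iv F69081)) (tt N11724 (iv F69171)) (tt N10875 F68322))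
theorem Q11474 : ∀ i, i < 11474 → P i := stepQ 11473 Q11473 (allL N11473 (tt N11946 F69927) (tt N12039 (iv F70334)) (tt N10875 (iv D17360)) (tt N11473 F68323) (tt N12091 D17978) (tt N10877 F68324) (tt N12087 (iv F70547)) (tt N10880 F68325) (tt N12089 (iv F70556)))
theorem Q11475 : ∀ i, i < 11475 → P i := stepQ 11474 Q11474 (allL N11474 (tt N12077 (iv F70500)) (tt N10890 F68326) (tt N12091 (iv F70561)) (tt N12086 (iv F70540)) (tt N10875 (iv D17361)) (tt N12092 D17979) (tt N12088 (iv F70551)) (tt N10881 F68327) (tt N12090 (iv F70560)))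
theorem Q11476 : ∀ i, i < 11476 → P i := stepQ 11475 Q11475 (allL N11475 (tt N12078 (iv F70504)) (tt N12093 D17980) (tt N10876 (iv D17362)) (tt N11475 F68328) (tt N12094 D17981) (tt N12089 (iv F70555)) (tt N11912 (iv F69747)) (tt N12021 (iv F70263)) (tt N10877 F68329))
theorem Q11477 : ∀ i, i < 11477 → P i := stepQ 11476 Q11476 (allL N11476 (tt N12079 (iv F70509)) (tt N10892 F68330) (tt N12094 (iv F70570)) (tt N11637 (iv F68901)) (tt N10876 (iv D17363)) (tt N12095 D17982) (tt N11913 (iv F69753)) (tt N12022 (iv F70270)) (tt N10878 F68331))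
theorem Q11478 : ∀ i, i < 11478 → P i := stepQ 11477 Q11477 (allL N11477 (tt N12033 (iv F70315)) (tt N10877 (iv D17364)) (tt N10893 F68332) (tt N11477 F68333) (tt N12096 D17983) (tt N12039 (iv F70337)) (tt N12056 (iv F70408)) (tt N10882 F68334) (tt N12093 (iv F70569)))
theorem Q11479 : ∀ i, i < 11479 → P i := stepQ 11478 Q11478 (allL N11478 (tt N12080 (iv F70515)) (tt N12096 (iv F70574)) (tt N10878 F68335) (tt N12097 D17984) (tt N10877 (iv D17365)) (tt N12098 D17985) (tt N12057 (iv F70412)) (tt N10883 F68336) (tt N12094 (iv F70571)))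
theorem Q11480 : ∀ i, i < 11480 → P i := stepQ 11479 Q11479 (allL N11479 (tt N12081 (iv F70519)) (tt N10895 F68337) (tt N12098 (iv F70578)) (tt N11639 (iv F68908)) (tt N12092 (iv F70564)) (tt N10878 (iv D17366)) (tt N12099 D17986) (tt N10884 F68338) (tt N12095 (iv F70573)))
theorem Q11481 : ∀ i, i < 11481 → P i := stepQ 11480 Q11480 (allL N11480 (tt N11093 F68339) (tt N11240 F68340) (tt N10879 (iv D17367)) (tt N10919 F68341) (tt N12100 D17987) (tt N11084 F68342) (tt N10880 F68343) (tt N12087 (iv F70548)) (tt N11122 F68344))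
theorem Q11482 : ∀ i, i < 11482 → P i := stepQ 11481 Q11481 (allL N11481 (tt N11094 F68345) (tt N10896 F68346) (tt N12100 (iv F70584)) (tt N11138 F68347) (tt N10879 (iv D17368)) (tt N12101 D17988) (tt N10881 F68348) (tt N12088 (iv F70552)) (tt N11123 F68349))
theorem Q11483 : ∀ i, i < 11483 → P i := stepQ 11482 Q11482 (allL N11482 (tt N11951 (iv F69944)) (tt N12048 (iv F70366)) (tt N10881 F68350) (tt N12102 D17989) (tt N10880 (iv D17369)) (tt N12103 D17990) (tt N12100 (iv F70586)) (tt N12091 (iv F70562)) (tt N11986 (iv F70107)))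
theorem Q11484 : ∀ i, i < 11484 → P i := stepQ 11483 Q11483 (allL N11483 (tt N12082 (iv F70521)) (tt N10899 F68351) (tt N12103 (iv F70599)) (tt N11140 F68352) (tt N10884 F68353) (tt N10881 (iv D17370)) (tt N12104 D17991) (tt N12092 (iv F70565)) (tt N12025 (iv F70285)))
theorem Q11485 : ∀ i, i < 11485 → P i := stepQ 11484 Q11484 (allL N11484 (tt N12045 (iv F70353)) (tt N10883 F68354) (tt N10901 F68355) (tt N10962 F68356) (tt N10882 (iv D17371)) (tt N12105 D17992) (tt N12059 (iv F70423)) (tt N12096 (iv F70576)) (tt N11003 F68357))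
theorem Q11486 : ∀ i, i < 11486 → P i := stepQ 11485 Q11485 (allL N11485 (tt N12083 (iv F70526)) (tt N12105 (iv F70604)) (tt N10884 F68358) (tt N12053 (iv F70389)) (tt N12103 (iv F70600)) (tt N10883 (iv D17372)) (tt N12106 D17993) (tt N12098 (iv F70579)) (tt N12026 (iv F70290)))
theorem Q11487 : ∀ i, i < 11487 → P i := stepQ 11486 Q11486 (allL N11486 (tt N12084 (iv F70529)) (tt N10903 F68359) (tt N12106 (iv F70608)) (tt N10885 F68360) (tt N12104 (iv F70603)) (tt N12061 (iv F70434)) (tt N10884 (iv D17373)) (tt N12099 (iv F70581)) (tt N12027 (iv F70295)))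
theorem Q11488 : ∀ i, i < 11488 → P i := stepQ 11487 Q11487 (allL N11487 (tt N11876 (iv F69640)) (tt N12086 (iv F70539)) (tt N11818 (iv F69460)) (tt N10890 F68361) (tt N10886 (iv D17374)) (tt N12107 D17994) (tt N11709 (iv F69129)) (tt N11145 F68362) (tt N11708 (iv F69127)))
theorem Q11489 : ∀ i, i < 11489 → P i := stepQ 11488 Q11488 (allL N11488 (tt N11974 (iv F70054)) (tt N12088 (iv F70550)) (tt N11972 (iv F70048)) (tt N11709 (iv F69128)) (tt N10887 (iv D17375)) (tt N12108 D17995) (tt N10890 F68363) (tt N10896 F68364) (tt N11707 (iv F69123)))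
theorem Q11490 : ∀ i, i < 11490 → P i := stepQ 11489 Q11489 (allL N11489 (tt N11905 (iv F69712)) (tt N12109 D17996) (tt N10888 (iv D17376)) (tt N10910 F68365) (tt N12110 D17997) (tt N10891 F68366) (tt N11706 (iv F69119)) (tt N12031 (iv F70309)) (tt N10889 F68367))
theorem Q11491 : ∀ i, i < 11491 → P i := stepQ 11490 Q11490 (allL N11490 (tt N11975 (iv F70059)) (tt N12090 (iv F70558)) (tt N12110 (iv F70617)) (tt N11708 (iv F69124)) (tt N10888 (iv D17377)) (tt N12111 D17998) (tt N11707 (iv F69122)) (tt N12032 (iv F70313)) (tt N10890 F68368))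
theorem Q11492 : ∀ i, i < 11492 → P i := stepQ 11491 Q11491 (allL N11491 (tt N11024 F68369) (tt N10889 (iv D17378)) (tt N12039 (iv F70335)) (tt N10911 F68370) (tt N12112 D17999) (tt N10893 F68371) (tt N11241 F68372) (tt N10897 F68373) (tt N12109 (iv F70616)))
theorem Q11493 : ∀ i, i < 11493 → P i := stepQ 11492 Q11492 (allL N11492 (tt N11884 (iv F69662)) (tt N12112 (iv F70622)) (tt N10890 F68374) (tt N11821 (iv F69471)) (tt N10889 (iv D17379)) (tt N12113 D18000) (tt N11972 (iv F70050)) (tt N10898 F68375) (tt N12110 (iv F70618)))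
theorem Q11494 : ∀ i, i < 11494 → P i := stepQ 11493 Q11493 (allL N11493 (tt N11976 (iv F70063)) (tt N12092 (iv F70563)) (tt N12113 (iv F70625)) (tt N12107 (iv F70609)) (tt N10895 F68376) (tt N10890 (iv D17380)) (tt N12114 D18001) (tt N10899 F68377) (tt N12111 (iv F70620)))
theorem Q11495 : ∀ i, i < 11495 → P i := stepQ 11494 Q11494 (allL N11494 (tt N12115 D18002) (tt N10891 (iv D17381)) (tt N12093 (iv F70566)) (tt N10912 F68378) (tt N12116 D18003) (tt N12109 (iv F70614)) (tt N11920 (iv F69786)) (tt N12036 (iv F70327)) (tt N10893 F68379))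
theorem Q11496 : ∀ i, i < 11496 → P i := stepQ 11495 Q11495 (allL N11495 (tt N11977 (iv F70066)) (tt N12116 (iv F70633)) (tt N10892 F68380) (tt N12117 D18004) (tt N10891 (iv D17382)) (tt N12118 D18005) (tt N11921 (iv F69791)) (tt N12037 (iv F70330)) (tt N10894 F68381))
theorem Q11497 : ∀ i, i < 11497 → P i := stepQ 11496 Q11496 (allL N11496 (tt N11978 (iv F70071)) (tt N12095 (iv F70572)) (tt N12118 (iv F70640)) (tt N11647 (iv F68929)) (tt N12111 (iv F70619)) (tt N10892 (iv D17383)) (tt N12119 D18006) (tt N12038 (iv F70332)) (tt N10895 F68382))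
theorem Q11498 : ∀ i, i < 11498 → P i := stepQ 11497 Q11497 (allL N11497 (tt N10893 (iv D17384)) (tt N11979 (iv F70074)) (tt N12033 (iv F70316)) (tt N10914 F68383) (tt N12120 D18007) (tt N11024 F68384) (tt N12066 (iv F70459)) (tt N10900 F68385) (tt N12115 (iv F70632)))
theorem Q11499 : ∀ i, i < 11499 → P i := stepQ 11498 Q11498 (allL N11498 (tt N12120 (iv F70643)) (tt N10894 F68386) (tt N12096 (iv F70575)) (tt N12121 D18008) (tt N10893 (iv D17385)) (tt N12122 D18009) (tt N12067 (iv F70462)) (tt N10901 F68387) (tt N12116 (iv F70634)))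
theorem Q11500 : ∀ i, i < 11500 → P i := stepQ 11499 Q11499 (allL N11499 (tt N11651 (iv F68940)) (tt N12121 (iv F70645)) (tt N11534 (iv F68527)) (tt N10894 (iv D17386)) (tt N10916 F68388) (tt N12123 D18010) (tt N11549 (iv F68579)) (tt N11284 F68389) (tt N12117 (iv F70639)))
theorem Q11501 : ∀ i, i < 11501 → P i := stepQ 11500 Q11500 (allL N11500 (tt N11981 (iv F70084)) (tt N12122 (iv F70648)) (tt N10895 F68390) (tt N12123 (iv F70650)) (tt N12113 (iv F70626)) (tt N10894 (iv D17387)) (tt N12124 D18011) (tt N10902 F68391) (tt N12118 (iv F70641)))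
theorem Q11502 : ∀ i, i < 11502 → P i := stepQ 11501 Q11501 (allL N11501 (tt N11982 (iv F70087)) (tt N12099 (iv F70580)) (tt N12124 (iv F70652)) (tt N11648 (iv F68932)) (tt N12114 (iv F70628)) (tt N12069 (iv F70466)) (tt N10895 (iv D17388)) (tt N10903 F68392) (tt N12119 (iv F70642)))
theorem Q11503 : ∀ i, i < 11503 → P i := stepQ 11502 Q11502 (allL N11502 (tt N11983 (iv F70089)) (tt N12101 (iv F70589)) (tt N11971 (iv F70043)) (tt N11156 F68393) (tt N12070 (iv F70472)) (tt N10896 (iv D17389)) (tt N12125 D18012) (tt N12108 (iv F70611)) (tt N12044 (iv F70352)))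
theorem Q11504 : ∀ i, i < 11504 → P i := stepQ 11503 Q11503 (allL N11503 (tt N11003 F68394) (tt N10898 F68395) (tt N12048 (iv F70367)) (tt N10991 F68396) (tt N10897 (iv D17390)) (tt N12126 D18013) (tt N11214 F68397) (tt N12112 (iv F70624)) (tt N12045 (iv F70358)))
theorem Q11505 : ∀ i, i < 11505 → P i := stepQ 11504 Q11504 (allL N11504 (tt N11984 (iv F70095)) (tt N12126 (iv F70657)) (tt N10899 F68398) (tt N11959 (iv F69986)) (tt N10902 F68399) (tt N10898 (iv D17391)) (tt N12127 D18014) (tt N12113 (iv F70627)) (tt N12046 (iv F70361)))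
theorem Q11506 : ∀ i, i < 11506 → P i := stepQ 11505 Q11505 (allL N11505 (tt N11985 (iv F70099)) (tt N12104 (iv F70601)) (tt N12127 (iv F70660)) (tt N11158 F68400) (tt N10903 F68401) (tt N12125 (iv F70655)) (tt N10899 (iv D17392)) (tt N12114 (iv F70629)) (tt N12047 (iv F70364)))
theorem Q11507 : ∀ i, i < 11507 → P i := stepQ 11506 Q11506 (allL N11506 (tt N10901 F68402) (tt N11986 (iv F70103)) (tt N12045 (iv F70355)) (tt N11293 F68403) (tt N10900 (iv D17393)) (tt N12128 D18015) (tt N12072 (iv F70484)) (tt N12120 (iv F70644)) (tt N12048 (iv F70370)))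
theorem Q11508 : ∀ i, i < 11508 → P i := stepQ 11507 Q11507 (allL N11507 (tt N12128 (iv F70662)) (tt N10902 F68404) (tt N12105 (iv F70605)) (tt N11294 F68405) (tt N12126 (iv F70659)) (tt N10901 (iv D17394)) (tt N12129 D18016) (tt N12122 (iv F70649)) (tt N12049 (iv F70374)))
theorem Q11509 : ∀ i, i < 11509 → P i := stepQ 11508 Q11508 (allL N11508 (tt N11988 (iv F70112)) (tt N12129 (iv F70665)) (tt N10903 F68406) (tt N11295 F68407) (tt N12127 (iv F70661)) (tt N12076 (iv F70499)) (tt N10902 (iv D17395)) (tt N12124 (iv F70653)) (tt N12050 (iv F70377)))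
theorem Q11510 : ∀ i, i < 11510 → P i := stepQ 11509 Q11509 (allL N11509 (tt N11171 F68408) (tt N10904 (iv D17396)) (tt N11509 F68409) (tt N12063 (iv F70443)) (tt N11779 (iv F69353)) (tt N10906 F68410) (tt N11235 F68411) (tt N10907 F68412) (tt N11924 (iv F69805)))
theorem Q11511 : ∀ i, i < 11511 → P i := stepQ 11510 Q11510 (allL N11510 (tt N11174 F68413) (tt N11779 (iv F69351)) (tt N10905 F68414) (tt N12130 D18017) (tt N10904 (iv D17397)) (tt N11553 (iv F68589)) (tt N11303 F68415) (tt N10908 F68416) (tt N11925 (iv F69811)))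
theorem Q11512 : ∀ i, i < 11512 → P i := stepQ 11511 Q11511 (allL N11511 (tt N10906 (iv D17398)) (tt N11169 F68417) (tt N11511 F68418) (tt N12066 (iv F70457)) (tt N11554 (iv F68593)) (tt N11171 F68419) (tt N10914 F68420) (tt N10909 F68421) (tt N11926 (iv F69818)))
theorem Q11513 : ∀ i, i < 11513 → P i := stepQ 11512 Q11512 (allL N11512 (tt N11026 (iv F68427)) (tt N10910 (iv D17399)) (tt N11512 F68422) (tt N12109 (iv F70613)) (tt N11628 (iv F68860)) (tt N10912 F68423) (tt N11242 F68424) (tt N11512 F68425) (tt N10911 F68426))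
theorem Q11514 : ∀ i, i < 11514 → P i := stepQ 11513 Q11513 (allL N11513 (tt N10912 (iv D17400)) (tt N11770 F69312) (tt N11513 F68428) (tt N12115 (iv F70630)) (tt N12131 D18018) (tt N11026 F68429) (tt N11926 (iv F69816)) (tt N11513 F68430) (tt N10914 F68431))
theorem Q11515 : ∀ i, i < 11515 → P i := stepQ 11514 Q11514 (allL N11514 (tt N12131 (iv F70669)) (tt N10913 F68432) (tt N11514 F68433) (tt N12132 D18019) (tt N10912 (iv D17401)) (tt N11837 (iv F69518)) (tt N11198 F68434) (tt N11514 F68435) (tt N10915 F68436))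
theorem Q11516 : ∀ i, i < 11516 → P i := stepQ 11515 Q11515 (allL N11515 (tt N11061 F68437) (tt N12132 (iv F70675)) (tt N11055 F68438) (tt N10913 (iv D17402)) (tt N12117 (iv F70637)) (tt N11838 (iv F69524)) (tt N11193 F68439) (tt N12133 D18020) (tt N10916 F68440))
theorem Q11517 : ∀ i, i < 11517 → P i := stepQ 11516 Q11516 (allL N11516 (tt N10915 F68441) (tt N11654 (iv F68949)) (tt N11516 F68442) (tt N12134 D18021) (tt N10914 (iv D17403)) (tt N11839 (iv F69530)) (tt N11554 (iv F68594)) (tt N10917 F68443) (tt N12131 (iv F70674)))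
theorem Q11518 : ∀ i, i < 11518 → P i := stepQ 11517 Q11517 (allL N11517 (tt N12134 (iv F70683)) (tt N10916 F68444) (tt N12135 D18022) (tt N10915 (iv D17404)) (tt N12121 (iv F70646)) (tt N11840 (iv F69534)) (tt N11548 (iv F68575)) (tt N11304 F68445) (tt N12132 (iv F70677)))
theorem Q11519 : ∀ i, i < 11519 → P i := stepQ 11518 Q11518 (allL N11518 (tt N11204 F68446) (tt N10989 F68447) (tt N11124 F68448) (tt N10920 (iv D17405)) (tt N12102 (iv F70596)) (tt N11239 F68449) (tt N11211 F68450) (tt N12136 D18023) (tt N11228 F68451))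
theorem Q11520 : ∀ i, i < 11520 → P i := stepQ 11519 Q11519 (allL N11519 (tt N11030 F68452) (tt N12052 (iv F70383)) (tt N10950 F68453) (tt N11453 F68454) (tt N11195 F68455) (tt N10922 (iv D17406)) (tt N12137 D18024) (tt N10923 F68456) (tt N11315 F68457))
theorem Q11521 : ∀ i, i < 11521 → P i := stepQ 11520 Q11520 (allL N11520 (tt N11032 F68458) (tt N12054 (iv F70392)) (tt N10971 F68459) (tt N11033 F68460) (tt N11207 F68461) (tt N11049 F68462) (tt N10923 (iv D17407)) (tt N12137 (iv F70700)) (tt N10933 F68463))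
theorem Q11522 : ∀ i, i < 11522 → P i := stepQ 11521 Q11521 (allL N11521 (tt N11290 F68464) (tt N10979 F68465) (tt N10925 F68466) (tt N11226 F68467) (tt N10924 (iv D17408)) (tt N12138 D18025) (tt N10929 F68468) (tt N11347 F68469) (tt N11040 F68470))
theorem Q11523 : ∀ i, i < 11523 → P i := stepQ 11522 Q11522 (allL N11522 (tt N11954 (iv F69957)) (tt N10926 F68471) (tt N12138 (iv F70704)) (tt N11031 F68472) (tt N11958 (iv F69981)) (tt N10925 (iv D17409)) (tt N12139 D18026) (tt N11348 F68473) (tt N11041 F68474))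
theorem Q11524 : ∀ i, i < 11524 → P i := stepQ 11523 Q11523 (allL N11523 (tt N11033 F68475) (tt N12139 (iv F70708)) (tt N10986 F68476) (tt N11032 F68477) (tt N12055 (iv F70400)) (tt N10933 F68478) (tt N10926 (iv D17410)) (tt N11351 F68479) (tt N11049 F68480))
theorem Q11525 : ∀ i, i < 11525 → P i := stepQ 11524 Q11524 (allL N11524 (tt N10929 F68481) (tt N11901 (iv F69702)) (tt N10928 F68482) (tt N11287 F68483) (tt N10927 (iv D17411)) (tt N12140 D18027) (tt N11290 F68484) (tt N11354 F68485) (tt N11955 (iv F69968)))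
theorem Q11526 : ∀ i, i < 11526 → P i := stepQ 11525 Q11525 (allL N11525 (tt N10930 F68486) (tt N10975 F68487) (tt N12140 (iv F70714)) (tt N11927 (iv F69822)) (tt N10980 F68488) (tt N10928 (iv D17412)) (tt N12141 D18028) (tt N11355 F68489) (tt N11956 (iv F69973)))
theorem Q11527 : ∀ i, i < 11527 → P i := stepQ 11526 Q11526 (allL N11526 (tt N12140 (iv F70713)) (tt N11004 F68490) (tt N10930 F68491) (tt N12026 (iv F70289)) (tt N11215 F68492) (tt N10929 (iv D17413)) (tt N12142 D18029) (tt N11361 F68493) (tt N12053 (iv F70391)))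
theorem Q11528 : ∀ i, i < 11528 → P i := stepQ 11527 Q11527 (allL N11527 (tt N12141 (iv F70718)) (tt N10933 F68494) (tt N12142 (iv F70723)) (tt N12011 (iv F70213)) (tt N11216 F68495) (tt N12139 (iv F70710)) (tt N10930 (iv D17414)) (tt N11362 F68496) (tt N12054 (iv F70396)))
theorem Q11529 : ∀ i, i < 11529 → P i := stepQ 11528 Q11528 (allL N11528 (tt N11047 F68497) (tt N11990 (iv F70121)) (tt N11052 F68498) (tt N11370 F68499) (tt N11991 (iv F70129)) (tt N10931 (iv D17415)) (tt N12143 D18030) (tt N10932 F68500) (tt N11383 F68501))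
theorem Q11530 : ∀ i, i < 11530 → P i := stepQ 11529 Q11529 (allL N11529 (tt N11049 F68502) (tt N12011 (iv F70211)) (tt N11081 F68503) (tt N10933 F68504) (tt N12012 (iv F70221)) (tt N11032 F68505) (tt N10932 (iv D17416)) (tt N12143 (iv F70730)) (tt N11033 F68506))
theorem Q11531 : ∀ i, i < 11531 → P i := stepQ 11530 Q11530 (allL N11530 (tt N11161 F68507) (tt N11026 F68508) (tt N11020 F68509) (tt N12021 (iv F70261)) (tt N11187 F68510) (tt N11770 (iv F69308)) (tt N11232 F68511) (tt N11530 F68512) (tt N10934 (iv D17417)))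
theorem Q11532 : ∀ i, i < 11532 → P i := stepQ 11531 Q11531 (allL N11531 (tt N11027 F68513) (tt N11863 (iv F69610)) (tt N11045 F68514) (tt N11614 (iv F68808)) (tt N10935 (iv D17418)) (tt N12144 D18031) (tt N11645 (iv F68923)) (tt N10954 F68515) (tt N11385 F68516))
theorem Q11533 : ∀ i, i < 11533 → P i := stepQ 11532 Q11532 (allL N11532 (tt N11189 F68517) (tt N11036 F68518) (tt N10936 (iv D17419)) (tt N11532 F68519) (tt N12145 D18032) (tt N11862 (iv F69606)) (tt N10943 F68520) (tt N10955 F68521) (tt N11537 (iv F68543)))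
theorem Q11534 : ∀ i, i < 11534 → P i := stepQ 11533 Q11533 (allL N11533 (tt N11190 F68522) (tt N10938 F68523) (tt N12145 (iv F70739)) (tt N11845 (iv F69549)) (tt N10936 (iv D17420)) (tt N12146 D18033) (tt N10944 F68524) (tt N10956 F68525) (tt N11538 (iv F68548)))
theorem Q11535 : ∀ i, i < 11535 → P i := stepQ 11534 Q11534 (allL N11534 (tt N11051 F68526) (tt N11845 (iv F69548)) (tt N11499 F68527) (tt N10938 F68528) (tt N10937 (iv D17421)) (tt N12147 D18034) (tt N10949 F68529) (tt N11153 F68530) (tt N11656 (iv F68961)))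
theorem Q11536 : ∀ i, i < 11536 → P i := stepQ 11535 Q11535 (allL N11535 (tt N11052 F68531) (tt N12146 (iv F70743)) (tt N11047 F68532) (tt N12147 (iv F70747)) (tt N12144 (iv F70734)) (tt N10938 (iv D17422)) (tt N12148 D18035) (tt N10957 F68533) (tt N11657 (iv F68965)))
theorem Q11537 : ∀ i, i < 11537 → P i := stepQ 11536 Q11536 (allL N11536 (tt N10942 F68534) (tt N11055 F68535) (tt N12149 D18036) (tt N10939 (iv D17423)) (tt N12150 D18037) (tt N11244 F68536) (tt N11188 F68537) (tt N11668 (iv F69010)) (tt N11243 F68538))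
theorem Q11538 : ∀ i, i < 11538 → P i := stepQ 11537 Q11537 (allL N11537 (tt N10943 F68539) (tt N11636 (iv F68893)) (tt N10940 (iv D17424)) (tt N11537 F68540) (tt N12151 D18038) (tt N11910 (iv F69734)) (tt N11189 F68541) (tt N10958 F68542) (tt N11532 F68543))
theorem Q11539 : ∀ i, i < 11539 → P i := stepQ 11538 Q11538 (allL N11538 (tt N10944 F68544) (tt N11056 F68545) (tt N12151 (iv F70764)) (tt N12150 (iv F70760)) (tt N10940 (iv D17425)) (tt N12152 D18039) (tt N11190 F68546) (tt N10959 F68547) (tt N11533 F68548))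
theorem Q11540 : ∀ i, i < 11540 → P i := stepQ 11539 Q11539 (allL N11539 (tt N11244 F68549) (tt N10947 F68550) (tt N12153 D18040) (tt N10941 (iv D17426)) (tt N12154 D18041) (tt N10942 F68551) (tt N11658 (iv F68968)) (tt N11544 (iv F68564)) (tt N11191 F68552))
theorem Q11541 : ∀ i, i < 11541 → P i := stepQ 11540 Q11540 (allL N11540 (tt N12149 (iv F70753)) (tt N12155 D18042) (tt N10942 (iv D17427)) (tt N11540 F68553) (tt N12156 D18043) (tt N12153 (iv F70774)) (tt N11844 (iv F69545)) (tt N11851 (iv F69568)) (tt N11780 (iv F69356)))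
theorem Q11542 : ∀ i, i < 11542 → P i := stepQ 11541 Q11541 (allL N11541 (tt N12150 (iv F70758)) (tt N10949 F68554) (tt N12156 (iv F70786)) (tt N10944 F68555) (tt N10942 (iv D17428)) (tt N12157 D18044) (tt N11845 (iv F69550)) (tt N11852 (iv F69573)) (tt N11781 (iv F69359)))
theorem Q11543 : ∀ i, i < 11543 → P i := stepQ 11542 Q11542 (allL N11542 (tt N12151 (iv F70763)) (tt N12051 (iv F70378)) (tt N10944 F68556) (tt N12158 D18045) (tt N10943 (iv D17429)) (tt N12159 D18046) (tt N12145 (iv F70740)) (tt N10962 F68557) (tt N11782 (iv F69362)))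
theorem Q11544 : ∀ i, i < 11544 → P i := stepQ 11543 Q11543 (allL N11543 (tt N12152 (iv F70768)) (tt N10950 F68558) (tt N12159 (iv F70790)) (tt N12157 (iv F70788)) (tt N11915 (iv F69760)) (tt N10944 (iv D17430)) (tt N12160 D18047) (tt N10963 F68559) (tt N11783 (iv F69365)))
theorem Q11545 : ∀ i, i < 11545 → P i := stepQ 11544 Q11544 (allL N11544 (tt N11067 F68560) (tt N11070 F68561) (tt N11772 (iv F69318)) (tt N10945 (iv D17431)) (tt N12161 D18048) (tt N11247 F68562) (tt N11060 F68563) (tt N11539 F68564) (tt N10946 F68565))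
theorem Q11546 : ∀ i, i < 11546 → P i := stepQ 11545 Q11545 (allL N11545 (tt N11069 F68566) (tt N11852 (iv F69570)) (tt N11747 (iv F69249)) (tt N10968 F68567) (tt N10946 (iv D17432)) (tt N12162 D18049) (tt N11153 F68568) (tt N10949 F68569) (tt N12161 (iv F70799)))
theorem Q11547 : ∀ i, i < 11547 → P i := stepQ 11546 Q11546 (allL N11546 (tt N11071 F68570) (tt N12163 D18050) (tt N10947 (iv D17433)) (tt N10951 F68571) (tt N12164 D18051) (tt N10948 F68572) (tt N11669 (iv F69014)) (tt N11676 (iv F69032)) (tt N11786 (iv F69377)))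
theorem Q11548 : ∀ i, i < 11548 → P i := stepQ 11547 Q11547 (allL N11547 (tt N11072 F68573) (tt N12154 (iv F70779)) (tt N12164 (iv F70807)) (tt N11919 (iv F69782)) (tt N10947 (iv D17434)) (tt N12165 D18052) (tt N11670 (iv F69016)) (tt N11677 (iv F69035)) (tt N11787 (iv F69382)))
theorem Q11549 : ∀ i, i < 11549 → P i := stepQ 11548 Q11548 (allL N11548 (tt N12166 D18053) (tt N10948 (iv D17435)) (tt N12155 (iv F70782)) (tt N10953 F68574) (tt N12167 D18054) (tt N12163 (iv F70804)) (tt N11517 F68575) (tt N11773 (iv F69324)) (tt N11788 (iv F69384)))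
theorem Q11550 : ∀ i, i < 11550 → P i := stepQ 11549 Q11549 (allL N11549 (tt N11074 F68576) (tt N12167 (iv F70814)) (tt N10949 F68577) (tt N11452 F68578) (tt N10948 (iv D17436)) (tt N12168 D18055) (tt N11499 F68579) (tt N11747 (iv F69252)) (tt N11789 (iv F69387)))
theorem Q11551 : ∀ i, i < 11551 → P i := stepQ 11550 Q11550 (allL N11550 (tt N11075 F68580) (tt N12157 (iv F70787)) (tt N12168 (iv F70818)) (tt N10950 F68581) (tt N12165 (iv F70809)) (tt N10949 (iv D17437)) (tt N12169 D18056) (tt N12162 (iv F70802)) (tt N11790 (iv F69390)))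
theorem Q11552 : ∀ i, i < 11552 → P i := stepQ 11551 Q11551 (allL N11551 (tt N11076 F68582) (tt N12160 (iv F70792)) (tt N12137 (iv F70696)) (tt N12169 (iv F70821)) (tt N11923 (iv F69798)) (tt N12148 (iv F70751)) (tt N10950 (iv D17438)) (tt N10971 F68583) (tt N11791 (iv F69393)))
theorem Q11553 : ∀ i, i < 11553 → P i := stepQ 11552 Q11552 (allL N11552 (tt N12170 D18057) (tt N10951 (iv D17439)) (tt N11552 F68584) (tt N12163 (iv F70803)) (tt N12171 D18058) (tt N10953 F68585) (tt N11777 (iv F69345)) (tt N11176 F68586) (tt N11792 (iv F69397)))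
theorem Q11554 : ∀ i, i < 11554 → P i := stepQ 11553 Q11553 (allL N11553 (tt N11079 F68587) (tt N12171 (iv F70828)) (tt N10952 F68588) (tt N12172 D18059) (tt N10951 (iv D17440)) (tt N11510 F68589) (tt N11685 (iv F69047)) (tt N11177 F68590) (tt N11793 (iv F69401)))
theorem Q11555 : ∀ i, i < 11555 → P i := stepQ 11554 Q11554 (allL N11554 (tt N10953 (iv D17441)) (tt N11080 F68591) (tt N11554 F68592) (tt N12166 (iv F70811)) (tt N11511 F68593) (tt N12170 (iv F70824)) (tt N11516 F68594) (tt N11178 F68595) (tt N11794 (iv F69405)))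
theorem Q11556 : ∀ i, i < 11556 → P i := stepQ 11555 Q11555 (allL N11555 (tt N11031 F68596) (tt N11956 (iv F69970)) (tt N11048 F68597) (tt N11954 (iv F69960)) (tt N10957 F68598) (tt N10954 (iv D17442)) (tt N12173 D18060) (tt N12144 (iv F70735)) (tt N10975 F68599))
theorem Q11557 : ∀ i, i < 11557 → P i := stepQ 11556 Q11556 (allL N11556 (tt N11199 F68600) (tt N11040 F68601) (tt N10956 F68602) (tt N12059 (iv F70422)) (tt N10955 (iv D17443)) (tt N12174 D18061) (tt N10962 F68603) (tt N12145 (iv F70741)) (tt N10979 F68604))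
theorem Q11558 : ∀ i, i < 11558 → P i := stepQ 11557 Q11557 (allL N11557 (tt N11200 F68605) (tt N10957 F68606) (tt N12174 (iv F70841)) (tt N11159 F68607) (tt N11956 (iv F69972)) (tt N10956 (iv D17444)) (tt N12175 D18062) (tt N12146 (iv F70744)) (tt N10980 F68608))
theorem Q11559 : ∀ i, i < 11559 → P i := stepQ 11558 Q11558 (allL N11558 (tt N11081 F68609) (tt N12175 (iv F70844)) (tt N11049 F68610) (tt N11160 F68611) (tt N12173 (iv F70837)) (tt N10971 F68612) (tt N10957 (iv D17445)) (tt N12148 (iv F70752)) (tt N10986 F68613))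
theorem Q11560 : ∀ i, i < 11560 → P i := stepQ 11559 Q11559 (allL N11559 (tt N10962 F68614) (tt N11928 (iv F69826)) (tt N10959 F68615) (tt N12045 (iv F70356)) (tt N10958 (iv D17446)) (tt N12176 D18063) (tt N11199 F68616) (tt N12151 (iv F70766)) (tt N10991 F68617))
theorem Q11561 : ∀ i, i < 11561 → P i := stepQ 11560 Q11560 (allL N11560 (tt N10963 F68618) (tt N11086 F68619) (tt N12176 (iv F70849)) (tt N12070 (iv F70471)) (tt N11936 (iv F69873)) (tt N10959 (iv D17447)) (tt N12177 D18064) (tt N12152 (iv F70770)) (tt N10992 F68620))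
theorem Q11562 : ∀ i, i < 11562 → P i := stepQ 11561 Q11561 (allL N11561 (tt N12062 (iv F70436)) (tt N10968 F68621) (tt N11283 F68622) (tt N11852 (iv F69571)) (tt N10960 (iv D17448)) (tt N12178 D18065) (tt N11152 F68623) (tt N10961 F68624) (tt N12003 (iv F70186)))
theorem Q11563 : ∀ i, i < 11563 → P i := stepQ 11562 Q11562 (allL N11562 (tt N12070 (iv F70468)) (tt N10970 F68625) (tt N11294 F68626) (tt N10963 F68627) (tt N11983 (iv F70093)) (tt N10961 (iv D17449)) (tt N12179 D18066) (tt N12178 (iv F70857)) (tt N11002 F68628))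
theorem Q11564 : ∀ i, i < 11564 → P i := stepQ 11563 Q11563 (allL N11563 (tt N12176 (iv F70848)) (tt N12053 (iv F70387)) (tt N10963 F68629) (tt N12105 (iv F70606)) (tt N11940 (iv F69896)) (tt N10962 (iv D17450)) (tt N12180 D18067) (tt N12159 (iv F70791)) (tt N11004 F68630))
theorem Q11565 : ∀ i, i < 11565 → P i := stepQ 11564 Q11564 (allL N11564 (tt N12177 (iv F70851)) (tt N10971 F68631) (tt N12180 (iv F70863)) (tt N12179 (iv F70860)) (tt N11941 (iv F69899)) (tt N12175 (iv F70846)) (tt N10963 (iv D17451)) (tt N12160 (iv F70793)) (tt N11005 F68632))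
theorem Q11566 : ∀ i, i < 11566 → P i := stepQ 11565 Q11565 (allL N11565 (tt N11098 F68633) (tt N11566 (iv F68638)) (tt N11880 (iv F69650)) (tt N10964 (iv D17452)) (tt N12181 D18068) (tt N11392 F68634) (tt N11364 F68635) (tt N11597 (iv F68763)) (tt N11363 F68636))
theorem Q11567 : ∀ i, i < 11567 → P i := stepQ 11566 Q11566 (allL N11566 (tt N11100 F68637) (tt N11565 F68638) (tt N11109 F68639) (tt N10965 (iv D17453)) (tt N12182 D18069) (tt N10967 F68640) (tt N11270 F68641) (tt N11008 F68642) (tt N10966 F68643))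
theorem Q11568 : ∀ i, i < 11568 → P i := stepQ 11567 Q11567 (allL N11567 (tt N11101 F68644) (tt N11974 (iv F70055)) (tt N11110 F68645) (tt N12181 (iv F70866)) (tt N10966 (iv D17454)) (tt N12183 D18070) (tt N11967 (iv F70025)) (tt N10969 F68646) (tt N12182 (iv F70875)))
theorem Q11569 : ∀ i, i < 11569 → P i := stepQ 11568 Q11568 (allL N11568 (tt N11102 F68647) (tt N12003 (iv F70181)) (tt N11111 F68648) (tt N12161 (iv F70796)) (tt N10967 (iv D17455)) (tt N12184 D18071) (tt N11150 F68649) (tt N11012 F68650) (tt N10968 F68651))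
theorem Q11570 : ∀ i, i < 11570 → P i := stepQ 11569 Q11569 (allL N11569 (tt N11103 F68652) (tt N12178 (iv F70855)) (tt N11112 F68653) (tt N12162 (iv F70801)) (tt N12183 (iv F70878)) (tt N10968 (iv D17456)) (tt N12185 D18072) (tt N10970 F68654) (tt N12184 (iv F70883)))
theorem Q11571 : ∀ i, i < 11571 → P i := stepQ 11570 Q11570 (allL N11570 (tt N11105 F68655) (tt N11983 (iv F70090)) (tt N11114 F68656) (tt N11950 (iv F69941)) (tt N10970 F68657) (tt N10969 (iv D17457)) (tt N12186 D18073) (tt N12183 (iv F70879)) (tt N11017 F68658))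
theorem Q11572 : ∀ i, i < 11572 → P i := stepQ 11571 Q11571 (allL N11571 (tt N11106 F68659) (tt N12179 (iv F70858)) (tt N11115 F68660) (tt N10971 F68661) (tt N12186 (iv F70890)) (tt N11160 F68662) (tt N10970 (iv D17458)) (tt N12185 (iv F70887)) (tt N11019 F68663))
theorem Q11573 : ∀ i, i < 11573 → P i := stepQ 11572 Q11572 (allL N11572 (tt N11036 F68664) (tt N11910 (iv F69732)) (tt N10972 (iv D17459)) (tt N11572 F68665) (tt N12187 D18074) (tt N11636 (iv F68895)) (tt N11862 (iv F69607)) (tt N10973 F68666) (tt N11634 (iv F68888)))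
theorem Q11574 : ∀ i, i < 11574 → P i := stepQ 11573 Q11573 (allL N11573 (tt N11037 F68667) (tt N11645 (iv F68921)) (tt N12187 (iv F70893)) (tt N11465 F68668) (tt N10972 (iv D17460)) (tt N12188 D18075) (tt N11863 (iv F69612)) (tt N10974 F68669) (tt N11635 (iv F68891)))
theorem Q11575 : ∀ i, i < 11575 → P i := stepQ 11574 Q11574 (allL N11574 (tt N11040 F68670) (tt N11935 (iv F69865)) (tt N10974 F68671) (tt N11266 F68672) (tt N10973 (iv D17461)) (tt N12189 D18076) (tt N11955 (iv F69967)) (tt N12187 (iv F70894)) (tt N11290 F68673))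
theorem Q11576 : ∀ i, i < 11576 → P i := stepQ 11575 Q11575 (allL N11575 (tt N11041 F68674) (tt N11927 (iv F69820)) (tt N12189 (iv F70899)) (tt N10975 F68675) (tt N11929 (iv F69834)) (tt N10974 (iv D17462)) (tt N12190 D18077) (tt N12188 (iv F70897)) (tt N11954 (iv F69962)))
theorem Q11577 : ∀ i, i < 11577 → P i := stepQ 11576 Q11576 (allL N11576 (tt N11042 F68676) (tt N12141 (iv F70719)) (tt N12055 (iv F70398)) (tt N12190 (iv F70903)) (tt N10986 F68677) (tt N11957 (iv F69977)) (tt N10975 (iv D17463)) (tt N11469 F68678) (tt N12173 (iv F70838)))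
theorem Q11578 : ∀ i, i < 11578 → P i := stepQ 11577 Q11577 (allL N11577 (tt N11209 F68679) (tt N11091 F68680) (tt N10976 (iv D17464)) (tt N11577 F68681) (tt N12191 D18078) (tt N11930 (iv F69839)) (tt N10997 F68682) (tt N10977 F68683) (tt N11998 (iv F70166)))
theorem Q11579 : ∀ i, i < 11579 → P i := stepQ 11578 Q11578 (allL N11578 (tt N11210 F68684) (tt N10983 F68685) (tt N12191 (iv F70906)) (tt N11591 (iv F68737)) (tt N10976 (iv D17465)) (tt N12192 D18079) (tt N10998 F68686) (tt N10978 F68687) (tt N11999 (iv F70171)))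
theorem Q11580 : ∀ i, i < 11580 → P i := stepQ 11579 Q11579 (allL N11579 (tt N11212 F68688) (tt N11095 F68689) (tt N10978 F68690) (tt N12016 (iv F70239)) (tt N10977 (iv D17466)) (tt N12193 D18080) (tt N11001 F68691) (tt N12191 (iv F70908)) (tt N11141 F68692))
theorem Q11581 : ∀ i, i < 11581 → P i := stepQ 11580 Q11580 (allL N11580 (tt N11213 F68693) (tt N10985 F68694) (tt N12193 (iv F70914)) (tt N10980 F68695) (tt N11933 (iv F69858)) (tt N10978 (iv D17467)) (tt N12194 D18081) (tt N12192 (iv F70911)) (tt N11159 F68696))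
theorem Q11582 : ∀ i, i < 11582 → P i := stepQ 11581 Q11581 (allL N11581 (tt N11214 F68697) (tt N11226 F68698) (tt N12016 (iv F70238)) (tt N10979 (iv D17468)) (tt N11023 F68699) (tt N12195 D18082) (tt N11003 F68700) (tt N12196 D18083) (tt N12059 (iv F70424)))
theorem Q11583 : ∀ i, i < 11583 → P i := stepQ 11582 Q11582 (allL N11582 (tt N11215 F68701) (tt N12138 (iv F70703)) (tt N10980 F68702) (tt N12195 (iv F70923)) (tt N12140 (iv F70716)) (tt N10979 (iv D17469)) (tt N12197 D18084) (tt N11594 (iv F68749)) (tt N12174 (iv F70842)))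
theorem Q11584 : ∀ i, i < 11584 → P i := stepQ 11583 Q11583 (allL N11583 (tt N11216 F68703) (tt N10986 F68704) (tt N12197 (iv F70931)) (tt N12194 (iv F70918)) (tt N12141 (iv F70720)) (tt N11005 F68705) (tt N10980 (iv D17470)) (tt N11595 (iv F68753)) (tt N12175 (iv F70847)))
theorem Q11585 : ∀ i, i < 11585 → P i := stepQ 11584 Q11584 (allL N11584 (tt N11110 F68706) (tt N11931 (iv F69844)) (tt N11101 F68707) (tt N12022 (iv F70268)) (tt N10981 (iv D17471)) (tt N12198 D18085) (tt N11937 (iv F69879)) (tt N10984 F68708) (tt N11995 (iv F70151)))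
theorem Q11586 : ∀ i, i < 11586 → P i := stepQ 11585 Q11585 (allL N11585 (tt N11111 F68709) (tt N11999 (iv F70168)) (tt N11102 F68710) (tt N11729 (iv F69190)) (tt N10982 (iv D17472)) (tt N12199 D18086) (tt N11012 F68711) (tt N11150 F68712) (tt N10983 F68713))
theorem Q11587 : ∀ i, i < 11587 → P i := stepQ 11586 Q11586 (allL N11586 (tt N11112 F68714) (tt N12192 (iv F70910)) (tt N11103 F68715) (tt N11732 (iv F69202)) (tt N12198 (iv F70935)) (tt N10983 (iv D17473)) (tt N12200 D18087) (tt N10985 F68716) (tt N12199 (iv F70940)))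
theorem Q11588 : ∀ i, i < 11588 → P i := stepQ 11587 Q11587 (allL N11587 (tt N11114 F68717) (tt N11933 (iv F69856)) (tt N11105 F68718) (tt N11929 (iv F69833)) (tt N10985 F68719) (tt N10984 (iv D17474)) (tt N12201 D18088) (tt N12198 (iv F70936)) (tt N11157 F68720))
theorem Q11589 : ∀ i, i < 11589 → P i := stepQ 11588 Q11588 (allL N11588 (tt N11115 F68721) (tt N12194 (iv F70917)) (tt N11106 F68722) (tt N10986 F68723) (tt N12201 (iv F70947)) (tt N11019 F68724) (tt N10985 (iv D17475)) (tt N12200 (iv F70944)) (tt N11160 F68725))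
theorem Q11590 : ∀ i, i < 11590 → P i := stepQ 11589 Q11589 (allL N11589 (tt N10996 F68726) (tt N11119 F68727) (tt N12202 D18089) (tt N10987 (iv D17476)) (tt N12203 D18090) (tt N11418 F68728) (tt N11208 F68729) (tt N11667 (iv F69004)) (tt N10988 F68730))
theorem Q11591 : ∀ i, i < 11591 → P i := stepQ 11590 Q11590 (allL N11590 (tt N10997 F68731) (tt N12136 (iv F70690)) (tt N10988 (iv D17477)) (tt N11590 F68732) (tt N12204 D18091) (tt N11989 (iv F70119)) (tt N11209 F68733) (tt N10989 F68734) (tt N12202 (iv F70954)))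
theorem Q11592 : ∀ i, i < 11592 → P i := stepQ 11591 Q11591 (allL N11591 (tt N10998 F68735) (tt N11121 F68736) (tt N12204 (iv F70961)) (tt N11578 F68737) (tt N10988 (iv D17478)) (tt N12205 D18092) (tt N11210 F68738) (tt N10990 F68739) (tt N12203 (iv F70959)))
theorem Q11593 : ∀ i, i < 11593 → P i := stepQ 11592 Q11592 (allL N11592 (tt N11001 F68740) (tt N12102 (iv F70594)) (tt N10990 F68741) (tt N12048 (iv F70368)) (tt N10989 (iv D17479)) (tt N12206 D18093) (tt N11212 F68742) (tt N12204 (iv F70963)) (tt N11293 F68743))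
theorem Q11594 : ∀ i, i < 11594 → P i := stepQ 11593 Q11593 (allL N11593 (tt N11002 F68744) (tt N11126 F68745) (tt N12206 (iv F70969)) (tt N10992 F68746) (tt N12044 (iv F70351)) (tt N10990 (iv D17480)) (tt N12207 D18094) (tt N12205 (iv F70967)) (tt N12070 (iv F70473)))
theorem Q11595 : ∀ i, i < 11595 → P i := stepQ 11594 Q11594 (allL N11594 (tt N11004 F68747) (tt N11959 (iv F69984)) (tt N10992 F68748) (tt N12126 (iv F70658)) (tt N11965 (iv F70018)) (tt N10991 (iv D17481)) (tt N12208 D18095) (tt N11582 F68749) (tt N12176 (iv F70850)))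
theorem Q11596 : ∀ i, i < 11596 → P i := stepQ 11595 Q11595 (allL N11595 (tt N11005 F68750) (tt N11127 F68751) (tt N12208 (iv F70976)) (tt N12207 (iv F70973)) (tt N11966 (iv F70021)) (tt N11216 F68752) (tt N10992 (iv D17482)) (tt N11583 F68753) (tt N12177 (iv F70854)))
theorem Q11597 : ∀ i, i < 11597 → P i := stepQ 11596 Q11596 (allL N11596 (tt N11420 F68754) (tt N11006 F68755) (tt N12209 D18096) (tt N10993 (iv D17483)) (tt N12210 D18097) (tt N11333 F68756) (tt N11597 (iv F68762)) (tt N11364 F68757) (tt N11332 F68758))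
theorem Q11598 : ∀ i, i < 11598 → P i := stepQ 11597 Q11597 (allL N11597 (tt N11418 F68759) (tt N11008 F68760) (tt N12211 D18098) (tt N10994 (iv D17484)) (tt N12212 D18099) (tt N10996 F68761) (tt N11596 F68762) (tt N11565 F68763) (tt N10995 F68764))
theorem Q11599 : ∀ i, i < 11599 → P i := stepQ 11598 Q11598 (allL N11598 (tt N11989 (iv F70115)) (tt N11260 F68765) (tt N10995 (iv D17485)) (tt N11598 F68766) (tt N12213 D18100) (tt N10997 F68767) (tt N11942 (iv F69905)) (tt N10999 F68768) (tt N12211 (iv F70996)))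
theorem Q11600 : ∀ i, i < 11600 → P i := stepQ 11599 Q11599 (allL N11599 (tt N12030 (iv F70301)) (tt N11010 F68769) (tt N12213 (iv F71004)) (tt N12210 (iv F70987)) (tt N10995 (iv D17486)) (tt N12214 D18101) (tt N11943 (iv F69909)) (tt N11000 F68770) (tt N12212 (iv F71002)))
theorem Q11601 : ∀ i, i < 11601 → P i := stepQ 11600 Q11600 (allL N11600 (tt N12202 (iv F70949)) (tt N11262 F68771) (tt N10996 (iv D17487)) (tt N11600 F68772) (tt N12215 D18102) (tt N12211 (iv F70993)) (tt N11998 (iv F70164)) (tt N11279 F68773) (tt N10997 F68774))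
theorem Q11602 : ∀ i, i < 11602 → P i := stepQ 11601 Q11601 (allL N11601 (tt N12203 (iv F70955)) (tt N11012 F68775) (tt N12215 (iv F71010)) (tt N11807 (iv F69437)) (tt N10996 (iv D17488)) (tt N12216 D18103) (tt N11999 (iv F70169)) (tt N12003 (iv F70185)) (tt N10998 F68776))
theorem Q11603 : ∀ i, i < 11603 → P i := stepQ 11602 Q11602 (allL N11602 (tt N12204 (iv F70960)) (tt N11264 F68777) (tt N10998 F68778) (tt N12217 D18104) (tt N10997 (iv D17489)) (tt N12218 D18105) (tt N12191 (iv F70907)) (tt N11001 F68779) (tt N12215 (iv F71012)))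
theorem Q11604 : ∀ i, i < 11604 → P i := stepQ 11603 Q11603 (allL N11603 (tt N12205 (iv F70964)) (tt N11014 F68780) (tt N12218 (iv F71018)) (tt N11810 (iv F69445)) (tt N12214 (iv F71007)) (tt N10998 (iv D17490)) (tt N12219 D18106) (tt N11002 F68781) (tt N12216 (iv F71014)))
theorem Q11605 : ∀ i, i < 11605 → P i := stepQ 11604 Q11604 (allL N11604 (tt N11939 (iv F69888)) (tt N11266 F68782) (tt N11000 F68783) (tt N11935 (iv F69867)) (tt N10999 (iv D17491)) (tt N12220 D18107) (tt N11949 (iv F69937)) (tt N12213 (iv F71005)) (tt N11289 F68784))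
theorem Q11606 : ∀ i, i < 11606 → P i := stepQ 11605 Q11605 (allL N11605 (tt N12044 (iv F70348)) (tt N11017 F68785) (tt N12220 (iv F71023)) (tt N11969 (iv F70034)) (tt N11002 F68786) (tt N11000 (iv D17492)) (tt N12221 D18108) (tt N12214 (iv F71008)) (tt N11983 (iv F70094)))
theorem Q11607 : ∀ i, i < 11607 → P i := stepQ 11606 Q11606 (allL N11606 (tt N12206 (iv F70968)) (tt N11268 F68787) (tt N11002 F68788) (tt N12049 (iv F70373)) (tt N12220 (iv F71024)) (tt N11001 (iv D17493)) (tt N12222 D18109) (tt N12218 (iv F71019)) (tt N11294 F68789))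
theorem Q11608 : ∀ i, i < 11608 → P i := stepQ 11607 Q11607 (allL N11607 (tt N12207 (iv F70971)) (tt N11019 F68790) (tt N12222 (iv F71029)) (tt N11005 F68791) (tt N12221 (iv F71027)) (tt N12194 (iv F70919)) (tt N11002 (iv D17494)) (tt N12219 (iv F71021)) (tt N12179 (iv F70862)))
theorem Q11609 : ∀ i, i < 11609 → P i := stepQ 11608 Q11608 (allL N11608 (tt N12126 (iv F70656)) (tt N12026 (iv F70287)) (tt N12049 (iv F70372)) (tt N11004 F68792) (tt N12128 (iv F70664)) (tt N11003 (iv D17495)) (tt N12223 D18110) (tt N12224 D18111) (tt N12105 (iv F70607)))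
theorem Q11610 : ∀ i, i < 11610 → P i := stepQ 11609 Q11609 (allL N11609 (tt N12112 (iv F70621)) (tt N12023 (iv F70273)) (tt N12040 (iv F70341)) (tt N11816 (iv F69455)) (tt N11024 F68793) (tt N12224 (iv F71032)) (tt N12196 (iv F70929)) (tt N11003 (iv D17496)) (tt N12225 D18112))
theorem Q11611 : ∀ i, i < 11611 → P i := stepQ 11610 Q11610 (allL N11610 (tt N12208 (iv F70975)) (tt N12142 (iv F70722)) (tt N11005 F68794) (tt N12223 (iv F71031)) (tt N11973 (iv F70053)) (tt N12197 (iv F70932)) (tt N11004 (iv D17497)) (tt N11817 (iv F69458)) (tt N12180 (iv F70864)))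
theorem Q11612 : ∀ i, i < 11612 → P i := stepQ 11611 Q11611 (allL N11611 (tt N11145 F68795) (tt N12210 (iv F70986)) (tt N11644 (iv F68917)) (tt N11010 F68796) (tt N11006 (iv D17498)) (tt N12226 D18113) (tt N11613 (iv F68803)) (tt N11876 (iv F69643)) (tt N11612 (iv F68800)))
theorem Q11613 : ∀ i, i < 11613 → P i := stepQ 11612 Q11612 (allL N11612 (tt N11146 F68797) (tt N11943 (iv F69908)) (tt N11963 (iv F70003)) (tt N11613 (iv F68802)) (tt N11007 (iv D17499)) (tt N12227 D18114) (tt N11010 F68798) (tt N11015 F68799) (tt N11611 F68800))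
theorem Q11614 : ∀ i, i < 11614 → P i := stepQ 11613 Q11613 (allL N11613 (tt N11147 F68801) (tt N12212 (iv F70998)) (tt N11993 (iv F70137)) (tt N11612 F68802) (tt N11008 (iv D17500)) (tt N12228 D18115) (tt N11611 F68803) (tt N12182 (iv F70874)) (tt N11010 F68804))
theorem Q11615 : ∀ i, i < 11615 → P i := stepQ 11614 Q11614 (allL N11614 (tt N11148 F68805) (tt N11261 F68806) (tt N11010 F68807) (tt N11531 F68808) (tt N11009 (iv D17501)) (tt N12229 D18116) (tt N11963 (iv F70005)) (tt N11016 F68809) (tt N11993 (iv F70141)))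
theorem Q11616 : ∀ i, i < 11616 → P i := stepQ 11615 Q11615 (allL N11615 (tt N11149 F68810) (tt N12214 (iv F71006)) (tt N12229 (iv F71045)) (tt N12226 (iv F71035)) (tt N11014 F68811) (tt N11010 (iv D17502)) (tt N12230 D18117) (tt N11017 F68812) (tt N12228 (iv F71042)))
theorem Q11617 : ∀ i, i < 11617 → P i := stepQ 11616 Q11616 (allL N11616 (tt N11150 F68813) (tt N11263 F68814) (tt N11012 F68815) (tt N12231 D18118) (tt N11011 (iv D17503)) (tt N12232 D18119) (tt N11102 F68816) (tt N11111 F68817) (tt N11013 F68818))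
theorem Q11618 : ∀ i, i < 11618 → P i := stepQ 11617 Q11617 (allL N11617 (tt N11151 F68819) (tt N12216 (iv F71013)) (tt N12232 (iv F71059)) (tt N11825 (iv F69482)) (tt N12228 (iv F71041)) (tt N11012 (iv D17504)) (tt N12233 D18120) (tt N12184 (iv F70882)) (tt N11014 F68820))
theorem Q11619 : ∀ i, i < 11619 → P i := stepQ 11618 Q11618 (allL N11618 (tt N11153 F68821) (tt N11246 F68822) (tt N11828 (iv F69491)) (tt N11013 (iv D17505)) (tt N11022 F68823) (tt N12234 D18121) (tt N11069 F68824) (tt N11051 F68825) (tt N12231 (iv F71056)))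
theorem Q11620 : ∀ i, i < 11620 → P i := stepQ 11619 Q11619 (allL N11619 (tt N11154 F68826) (tt N11265 F68827) (tt N11014 F68828) (tt N12234 (iv F71066)) (tt N12229 (iv F71047)) (tt N11013 (iv D17506)) (tt N12235 D18122) (tt N11018 F68829) (tt N12232 (iv F71061)))
theorem Q11621 : ∀ i, i < 11621 → P i := stepQ 11620 Q11620 (allL N11620 (tt N11155 F68830) (tt N12219 (iv F71020)) (tt N12235 (iv F71071)) (tt N11830 (iv F69499)) (tt N12230 (iv F71050)) (tt N12200 (iv F70943)) (tt N11014 (iv D17507)) (tt N11019 F68831) (tt N12233 (iv F71063)))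
theorem Q11622 : ∀ i, i < 11622 → P i := stepQ 11621 Q11621 (allL N11621 (tt N11156 F68832) (tt N11950 (iv F69940)) (tt N11964 (iv F70010)) (tt N11983 (iv F70092)) (tt N11938 (iv F69886)) (tt N11015 (iv D17508)) (tt N12236 D18123) (tt N12227 (iv F71037)) (tt N11969 (iv F70036)))
theorem Q11623 : ∀ i, i < 11623 → P i := stepQ 11622 Q11622 (allL N11622 (tt N11157 F68833) (tt N11267 F68834) (tt N11017 F68835) (tt N11958 (iv F69980)) (tt N11018 F68836) (tt N11016 (iv D17509)) (tt N12237 D18124) (tt N12229 (iv F71048)) (tt N11114 F68837))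
theorem Q11624 : ∀ i, i < 11624 → P i := stepQ 11623 Q11623 (allL N11623 (tt N11158 F68838) (tt N12221 (iv F71026)) (tt N12237 (iv F71078)) (tt N11985 (iv F70100)) (tt N11019 F68839) (tt N12236 (iv F71075)) (tt N11017 (iv D17510)) (tt N12230 (iv F71051)) (tt N12186 (iv F70891)))
theorem Q11625 : ∀ i, i < 11625 → P i := stepQ 11624 Q11624 (allL N11624 (tt N11160 F68840) (tt N11269 F68841) (tt N11019 F68842) (tt N11081 F68843) (tt N12237 (iv F71079)) (tt N11106 F68844) (tt N11018 (iv D17511)) (tt N12235 (iv F71073)) (tt N11115 F68845))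
theorem Q11626 : ∀ i, i < 11626 → P i := stepQ 11625 Q11625 (allL N11625 (tt N11060 F68846) (tt N11244 F68847) (tt N11838 (iv F69523)) (tt N11021 (iv D17512)) (tt N12231 (iv F71054)) (tt N11055 F68848) (tt N11067 F68849) (tt N11659 (iv F68975)) (tt N11022 F68850))
theorem Q11627 : ∀ i, i < 11627 → P i := stepQ 11626 Q11626 (allL N11626 (tt N11241 F68851) (tt N11219 F68852) (tt N12013 (iv F70224)) (tt N11025 F68853) (tt N12196 (iv F70928)) (tt N11223 F68854) (tt N11024 F68855) (tt N11023 (iv D17513)) (tt N12238 D18125))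
theorem Q11628 : ∀ i, i < 11628 → P i := stepQ 11627 Q11627 (allL N11627 (tt N12109 (iv F70612)) (tt N12021 F70265) (tt N12036 (iv F70325)) (tt N11026 F68856) (tt N12225 (iv F71033)) (tt N12115 (iv F70631)) (tt N12238 (iv F71085)) (tt N12093 (iv F70568)) (tt N11024 (iv D17514)))
theorem Q11629 : ∀ i, i < 11629 → P i := stepQ 11628 Q11628 (allL N11628 (tt N11242 F68857) (tt N11232 F68858) (tt N11628 F68859) (tt N12238 (iv F71083)) (tt N11512 F68860) (tt N11233 F68861) (tt N11026 F68862) (tt N11628 F68863) (tt N11025 (iv D17515)))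
theorem Q11630 : ∀ i, i < 11630 → P i := stepQ 11629 Q11629 (allL N11629 (tt N12144 (iv F70732)) (tt N11030 F68864) (tt N11991 (iv F70128)) (tt N11759 (iv F69283)) (tt N11052 F68865) (tt N11027 (iv D17516)) (tt N12239 D18126) (tt N11031 F68866) (tt N11388 F68867))
theorem Q11631 : ∀ i, i < 11631 → P i := stepQ 11630 Q11630 (allL N11630 (tt N11452 F68868) (tt N11742 (iv F69231)) (tt N11029 F68869) (tt N11074 F68870) (tt N11028 (iv D17517)) (tt N12240 D18127) (tt N11369 F68871) (tt N11349 F68872) (tt N11396 F68873))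
theorem Q11632 : ∀ i, i < 11632 → P i := stepQ 11631 Q11631 (allL N11631 (tt N11453 F68874) (tt N11759 (iv F69281)) (tt N12240 (iv F71091)) (tt N11030 F68875) (tt N11763 (iv F69292)) (tt N11029 (iv D17518)) (tt N12241 D18128) (tt N11350 F68876) (tt N11397 F68877))
theorem Q11633 : ∀ i, i < 11633 → P i := stepQ 11632 Q11632 (allL N11632 (tt N12137 (iv F70695)) (tt N12239 (iv F71086)) (tt N11076 F68878) (tt N12241 (iv F71096)) (tt N11253 F68879) (tt N12143 (iv F70729)) (tt N11030 (iv D17519)) (tt N11032 F68880) (tt N11398 F68881))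
theorem Q11634 : ∀ i, i < 11634 → P i := stepQ 11633 Q11633 (allL N11633 (tt N12173 (iv F70835)) (tt N11032 F68882) (tt N12012 (iv F70219)) (tt N12139 (iv F70709)) (tt N11081 F68883) (tt N12011 (iv F70215)) (tt N11031 (iv D17520)) (tt N12239 (iv F71088)) (tt N11042 F68884))
theorem Q11635 : ∀ i, i < 11635 → P i := stepQ 11634 Q11634 (allL N11634 (tt N11636 (iv F68892)) (tt N11862 (iv F69604)) (tt N11034 (iv D17521)) (tt N11634 F68885) (tt N12242 D18129) (tt N11036 F68886) (tt N11910 (iv F69735)) (tt N11038 F68887) (tt N11572 F68888))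
theorem Q11636 : ∀ i, i < 11636 → P i := stepQ 11635 Q11635 (allL N11635 (tt N11637 (iv F68899)) (tt N11045 F68889) (tt N12242 (iv F71100)) (tt N12079 (iv F70511)) (tt N11034 (iv D17522)) (tt N12243 D18130) (tt N11911 (iv F69741)) (tt N11039 F68890) (tt N11573 F68891))
theorem Q11637 : ∀ i, i < 11637 → P i := stepQ 11636 Q11636 (allL N11636 (tt N11634 F68892) (tt N11537 F68893) (tt N11035 (iv D17523)) (tt N11636 F68894) (tt N12244 D18131) (tt N11572 F68895) (tt N11309 F68896) (tt N11320 F68897) (tt N11036 F68898))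
theorem Q11638 : ∀ i, i < 11638 → P i := stepQ 11637 Q11637 (allL N11637 (tt N11635 F68899) (tt N11046 F68900) (tt N12244 (iv F71109)) (tt N11476 F68901) (tt N11035 (iv D17524)) (tt N12245 D18132) (tt N11310 F68902) (tt N11321 F68903) (tt N11037 F68904))
theorem Q11639 : ∀ i, i < 11639 → P i := stepQ 11638 Q11638 (allL N11638 (tt N12187 (iv F70892)) (tt N12145 (iv F70738)) (tt N11037 F68905) (tt N12246 D18133) (tt N11036 (iv D17525)) (tt N12247 D18134) (tt N12051 (iv F70380)) (tt N11040 F68906) (tt N12244 (iv F71112)))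
theorem Q11640 : ∀ i, i < 11640 → P i := stepQ 11639 Q11639 (allL N11639 (tt N12188 (iv F70895)) (tt N11047 F68907) (tt N12247 (iv F71121)) (tt N11479 F68908) (tt N12243 (iv F71104)) (tt N11037 (iv D17526)) (tt N12248 D18135) (tt N11041 F68909) (tt N12245 (iv F71118)))
theorem Q11641 : ∀ i, i < 11641 → P i := stepQ 11640 Q11640 (allL N11640 (tt N11928 (iv F69825)) (tt N11955 (iv F69964)) (tt N11039 F68910) (tt N11949 (iv F69936)) (tt N11038 (iv D17527)) (tt N12249 D18136) (tt N11935 (iv F69868)) (tt N12242 (iv F71101)) (tt N11901 F69707))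
theorem Q11642 : ∀ i, i < 11642 → P i := stepQ 11641 Q11641 (allL N11641 (tt N11929 (iv F69831)) (tt N11048 F68911) (tt N12249 (iv F71126)) (tt N11114 F68912) (tt N11041 F68913) (tt N11039 (iv D17528)) (tt N12250 D18137) (tt N12243 (iv F71105)) (tt N11958 (iv F69983)))
theorem Q11643 : ∀ i, i < 11643 → P i := stepQ 11642 Q11642 (allL N11642 (tt N12189 (iv F70898)) (tt N12174 (iv F70840)) (tt N11041 F68914) (tt N12060 (iv F70427)) (tt N12249 (iv F71127)) (tt N11040 (iv D17529)) (tt N12251 D18138) (tt N12247 (iv F71122)) (tt N12138 (iv F70707)))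
theorem Q11644 : ∀ i, i < 11644 → P i := stepQ 11643 Q11643 (allL N11643 (tt N12190 (iv F70902)) (tt N11049 F68915) (tt N12251 (iv F71131)) (tt N11042 F68916) (tt N12250 (iv F71130)) (tt N12054 (iv F70395)) (tt N11041 (iv D17530)) (tt N12248 (iv F71125)) (tt N12139 (iv F70712)))
theorem Q11645 : ∀ i, i < 11645 → P i := stepQ 11644 Q11644 (allL N11644 (tt N11755 (iv F69269)) (tt N12079 (iv F70510)) (tt N11611 F68917) (tt N11045 F68918) (tt N11043 (iv D17531)) (tt N12252 D18139) (tt N11993 (iv F70139)) (tt N11271 F68919) (tt N11963 (iv F70007)))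
theorem Q11646 : ∀ i, i < 11646 → P i := stepQ 11645 Q11645 (allL N11645 (tt N11381 F68920) (tt N11573 F68921) (tt N11385 F68922) (tt N11963 (iv F70004)) (tt N11044 (iv D17532)) (tt N12253 D18140) (tt N11531 F68923) (tt N11319 F68924) (tt N11045 F68925))
theorem Q11647 : ∀ i, i < 11647 → P i := stepQ 11646 Q11646 (allL N11646 (tt N11991 (iv F70126)) (tt N12243 (iv F71103)) (tt N12144 (iv F70733)) (tt N12252 (iv F71133)) (tt N11047 F68926) (tt N11045 (iv D17533)) (tt N12254 D18141) (tt N11048 F68927) (tt N12253 (iv F71141)))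
theorem Q11648 : ∀ i, i < 11648 → P i := stepQ 11647 Q11647 (allL N11647 (tt N11383 F68928) (tt N12245 (iv F71114)) (tt N11657 (iv F68963)) (tt N11496 F68929) (tt N12253 (iv F71139)) (tt N11046 (iv D17534)) (tt N12255 D18142) (tt N11325 F68930) (tt N11047 F68931))
theorem Q11649 : ∀ i, i < 11649 → P i := stepQ 11648 Q11648 (allL N11648 (tt N12143 (iv F70726)) (tt N12248 (iv F71123)) (tt N12148 (iv F70750)) (tt N11501 F68932) (tt N12254 (iv F71142)) (tt N12137 (iv F70699)) (tt N11047 (iv D17535)) (tt N11049 F68933) (tt N12255 (iv F71148)))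
theorem Q11650 : ∀ i, i < 11650 → P i := stepQ 11649 Q11649 (allL N11649 (tt N12012 (iv F70217)) (tt N12250 (iv F71128)) (tt N12173 (iv F70836)) (tt N11292 F68934) (tt N11049 F68935) (tt N12019 (iv F70254)) (tt N11048 (iv D17536)) (tt N12254 (iv F71143)) (tt N12055 (iv F70403)))
theorem Q11651 : ∀ i, i < 11651 → P i := stepQ 11650 Q11650 (allL N11650 (tt N12256 D18143) (tt N11050 (iv D17537)) (tt N11250 F68936) (tt N11053 F68937) (tt N12257 D18144) (tt N11304 F68938) (tt N11073 F68939) (tt N11840 (iv F69536)) (tt N11663 (iv F68990)))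
theorem Q11652 : ∀ i, i < 11652 → P i := stepQ 11651 Q11651 (allL N11651 (tt N11499 F68940) (tt N12257 (iv F71154)) (tt N11051 F68941) (tt N11369 F68942) (tt N11050 (iv D17538)) (tt N12258 D18145) (tt N11074 F68943) (tt N11828 (iv F69494)) (tt N11664 (iv F68993)))
theorem Q11653 : ∀ i, i < 11653 → P i := stepQ 11652 Q11652 (allL N11652 (tt N12147 (iv F70745)) (tt N11252 F68944) (tt N12258 (iv F71159)) (tt N11052 F68945) (tt N11764 (iv F69295)) (tt N11051 (iv D17539)) (tt N12259 D18146) (tt N12234 (iv F71068)) (tt N11665 (iv F68996)))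
theorem Q11654 : ∀ i, i < 11654 → P i := stepQ 11653 Q11653 (allL N11653 (tt N12148 (iv F70749)) (tt N11253 F68946) (tt N12143 (iv F70727)) (tt N12259 (iv F71163)) (tt N12239 (iv F71087)) (tt N11076 F68947) (tt N11052 (iv D17540)) (tt N11081 F68948) (tt N11666 (iv F69000)))
theorem Q11655 : ∀ i, i < 11655 → P i := stepQ 11654 Q11654 (allL N11654 (tt N11053 (iv D17541)) (tt N11516 F68949) (tt N11163 F68950) (tt N12256 (iv F71151)) (tt N11378 F68951) (tt N11303 F68952) (tt N11080 F68953) (tt N11179 F68954) (tt N11769 (iv F69305)))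
theorem Q11656 : ∀ i, i < 11656 → P i := stepQ 11655 Q11655 (allL N11655 (tt N11059 F68955) (tt N11668 (iv F69007)) (tt N12133 (iv F70679)) (tt N11054 (iv D17542)) (tt N12260 D18147) (tt N11659 (iv F68973)) (tt N11191 F68956) (tt N11055 F68957) (tt N11658 (iv F68970)))
theorem Q11657 : ∀ i, i < 11657 → P i := stepQ 11656 Q11656 (allL N11656 (tt N11062 F68958) (tt N12150 (iv F70759)) (tt N12117 (iv F70636)) (tt N11056 F68959) (tt N11055 (iv D17543)) (tt N12261 D18148) (tt N11194 F68960) (tt N12260 (iv F71168)) (tt N11534 F68961))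
theorem Q11658 : ∀ i, i < 11658 → P i := stepQ 11657 Q11657 (allL N11657 (tt N11063 F68962) (tt N12152 (iv F70769)) (tt N11647 F68963) (tt N12261 (iv F71170)) (tt N11994 (iv F70143)) (tt N11056 (iv D17544)) (tt N12262 D18149) (tt N11086 F68964) (tt N11535 F68965))
theorem Q11659 : ∀ i, i < 11659 → P i := stepQ 11658 Q11658 (allL N11658 (tt N11659 (iv F68971)) (tt N11066 F68966) (tt N11908 (iv F69727)) (tt N11057 (iv D17545)) (tt N12263 D18150) (tt N11059 F68967) (tt N11539 F68968) (tt N11060 F68969) (tt N11655 F68970))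
theorem Q11660 : ∀ i, i < 11660 → P i := stepQ 11659 Q11659 (allL N11659 (tt N11658 F68971) (tt N11067 F68972) (tt N12264 D18151) (tt N11058 (iv D17546)) (tt N12265 D18152) (tt N11655 F68973) (tt N11244 F68974) (tt N11625 F68975) (tt N11059 F68976))
theorem Q11661 : ∀ i, i < 11661 → P i := stepQ 11660 Q11660 (allL N11660 (tt N12133 (iv F70678)) (tt N12266 D18153) (tt N11059 (iv D17547)) (tt N11660 F68977) (tt N12267 D18154) (tt N11908 (iv F69729)) (tt N11245 F68978) (tt N11061 F68979) (tt N12264 (iv F71186)))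
theorem Q11662 : ∀ i, i < 11662 → P i := stepQ 11661 Q11661 (allL N11661 (tt N12260 (iv F71165)) (tt N11069 F68980) (tt N12267 (iv F71197)) (tt N11092 F68981) (tt N11059 (iv D17548)) (tt N12268 D18155) (tt N11246 F68982) (tt N11062 F68983) (tt N12265 (iv F71192)))
theorem Q11663 : ∀ i, i < 11663 → P i := stepQ 11662 Q11662 (allL N11662 (tt N12231 (iv F71052)) (tt N11072 F68984) (tt N11889 (iv F69679)) (tt N11150 F68985) (tt N11060 (iv D17549)) (tt N12269 D18156) (tt N12161 (iv F70797)) (tt N12263 (iv F71179)) (tt N11153 F68986))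
theorem Q11664 : ∀ i, i < 11664 → P i := stepQ 11663 Q11663 (allL N11663 (tt N12270 D18157) (tt N11061 (iv D17550)) (tt N11073 F68987) (tt N11164 F68988) (tt N12271 D18158) (tt N11907 (iv F69725)) (tt N11250 F68989) (tt N12266 (iv F71196)) (tt N11650 F68990))
theorem Q11665 : ∀ i, i < 11665 → P i := stepQ 11664 Q11664 (allL N11664 (tt N12117 (iv F70635)) (tt N12271 (iv F71211)) (tt N11062 F68991) (tt N11977 (iv F70068)) (tt N11061 (iv D17551)) (tt N12272 D18159) (tt N11251 F68992) (tt N12267 (iv F71199)) (tt N11651 F68993))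
theorem Q11666 : ∀ i, i < 11666 → P i := stepQ 11665 Q11665 (allL N11665 (tt N12261 (iv F71169)) (tt N11075 F68994) (tt N12272 (iv F71215)) (tt N11063 F68995) (tt N12269 (iv F71205)) (tt N11062 (iv D17552)) (tt N12273 D18160) (tt N12268 (iv F71202)) (tt N11652 F68996))
theorem Q11667 : ∀ i, i < 11667 → P i := stepQ 11666 Q11666 (allL N11666 (tt N12262 (iv F71172)) (tt N11076 F68997) (tt N11992 (iv F70132)) (tt N12273 (iv F71218)) (tt N11997 (iv F70158)) (tt N11253 F68998) (tt N11063 (iv D17553)) (tt N11097 F68999) (tt N11653 F69000))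
theorem Q11668 : ∀ i, i < 11668 → P i := stepQ 11667 Q11667 (allL N11667 (tt N11392 F69001) (tt N11687 (iv F69052)) (tt N11887 (iv F69673)) (tt N11064 (iv D17554)) (tt N12274 D18161) (tt N11098 F69002) (tt N11312 F69003) (tt N11589 F69004) (tt N11448 F69005))
theorem Q11669 : ∀ i, i < 11669 → P i := stepQ 11668 Q11668 (allL N11668 (tt N11247 F69006) (tt N11655 F69007) (tt N12275 D18162) (tt N11065 (iv D17555)) (tt N12276 D18163) (tt N11067 F69008) (tt N11192 F69009) (tt N11536 F69010) (tt N11066 F69011))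
theorem Q11670 : ∀ i, i < 11670 → P i := stepQ 11669 Q11669 (allL N11669 (tt N11676 (iv F69028)) (tt N12277 D18164) (tt N11066 (iv D17556)) (tt N11181 F69012) (tt N12278 D18165) (tt N11068 F69013) (tt N11546 F69014) (tt N11071 F69015) (tt N12275 (iv F71231)))
theorem Q11671 : ∀ i, i < 11671 → P i := stepQ 11670 Q11670 (allL N11670 (tt N11677 (iv F69033)) (tt N12263 (iv F71177)) (tt N12278 (iv F71242)) (tt N12274 (iv F71222)) (tt N11066 (iv D17557)) (tt N12279 D18166) (tt N11547 F69016) (tt N11072 F69017) (tt N12276 (iv F71237)))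
theorem Q11672 : ∀ i, i < 11672 → P i := stepQ 11671 Q11671 (allL N11671 (tt N11772 (iv F69317)) (tt N12280 D18167) (tt N11067 (iv D17558)) (tt N11182 F69018) (tt N12281 D18168) (tt N12275 (iv F71228)) (tt N11838 (iv F69525)) (tt N11846 (iv F69553)) (tt N11068 F69019))
theorem Q11673 : ∀ i, i < 11673 → P i := stepQ 11672 Q11672 (allL N11672 (tt N12161 (iv F70794)) (tt N12265 (iv F71188)) (tt N12281 (iv F71249)) (tt N11102 F69020) (tt N11067 (iv D17559)) (tt N12282 D18169) (tt N12231 (iv F71055)) (tt N11847 (iv F69556)) (tt N11069 F69021))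
theorem Q11674 : ∀ i, i < 11674 → P i := stepQ 11673 Q11673 (allL N11673 (tt N12283 D18170) (tt N11068 (iv D17560)) (tt N12266 (iv F71193)) (tt N11183 F69022) (tt N12284 D18171) (tt N12277 (iv F71239)) (tt N11840 (iv F69535)) (tt N11073 F69023) (tt N12280 (iv F71248)))
theorem Q11675 : ∀ i, i < 11675 → P i := stepQ 11674 Q11674 (allL N11674 (tt N11747 (iv F69248)) (tt N12284 (iv F71256)) (tt N11069 F69024) (tt N11731 (iv F69198)) (tt N11068 (iv D17561)) (tt N12285 D18172) (tt N11828 (iv F69493)) (tt N11074 F69025) (tt N12281 (iv F71250)))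
theorem Q11676 : ∀ i, i < 11676 → P i := stepQ 11675 Q11675 (allL N11675 (tt N12162 (iv F70800)) (tt N12268 (iv F71200)) (tt N12285 (iv F71258)) (tt N11103 F69026) (tt N12279 (iv F71245)) (tt N11069 (iv D17562)) (tt N12286 D18173) (tt N11075 F69027) (tt N12282 (iv F71252)))
theorem Q11677 : ∀ i, i < 11677 → P i := stepQ 11676 Q11676 (allL N11676 (tt N11669 F69028) (tt N11686 (iv F69049)) (tt N11070 (iv D17563)) (tt N11077 F69029) (tt N12287 D18174) (tt N11175 F69030) (tt N11071 F69031) (tt N11546 F69032) (tt N11851 (iv F69569)))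
theorem Q11678 : ∀ i, i < 11678 → P i := stepQ 11677 Q11677 (allL N11677 (tt N11670 F69033) (tt N12161 (iv F70795)) (tt N12287 (iv F71263)) (tt N12003 (iv F70183)) (tt N11070 (iv D17564)) (tt N12288 D18175) (tt N11072 F69034) (tt N11547 F69035) (tt N11852 (iv F69574)))
theorem Q11679 : ∀ i, i < 11679 → P i := stepQ 11678 Q11678 (allL N11678 (tt N12289 D18176) (tt N11071 (iv D17565)) (tt N11907 (iv F69724)) (tt N11078 F69036) (tt N12290 D18177) (tt N11073 F69037) (tt N11686 (iv F69050)) (tt N12277 (iv F71241)) (tt N11853 (iv F69578)))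
theorem Q11680 : ∀ i, i < 11680 → P i := stepQ 11679 Q11679 (allL N11679 (tt N12164 (iv F70806)) (tt N12290 (iv F71272)) (tt N11072 F69038) (tt N12291 D18178) (tt N11071 (iv D17566)) (tt N12292 D18179) (tt N12287 (iv F71264)) (tt N12278 (iv F71244)) (tt N11854 (iv F69580)))
theorem Q11681 : ∀ i, i < 11681 → P i := stepQ 11680 Q11680 (allL N11680 (tt N12165 (iv F70808)) (tt N12269 (iv F71203)) (tt N12292 (iv F71277)) (tt N12005 (iv F70192)) (tt N11075 F69039) (tt N11072 (iv D17567)) (tt N12293 D18180) (tt N12279 (iv F71246)) (tt N11855 (iv F69584)))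
theorem Q11682 : ∀ i, i < 11682 → P i := stepQ 11681 Q11681 (allL N11681 (tt N11073 (iv D17568)) (tt N12166 (iv F70810)) (tt N12270 (iv F71207)) (tt N11080 F69040) (tt N12294 D18181) (tt N12289 (iv F71270)) (tt N12256 (iv F71153)) (tt N12283 (iv F71255)) (tt N11856 (iv F69586)))
theorem Q11683 : ∀ i, i < 11683 → P i := stepQ 11682 Q11682 (allL N11682 (tt N12294 (iv F71280)) (tt N11074 F69041) (tt N12271 (iv F71212)) (tt N11742 (iv F69233)) (tt N11073 (iv D17569)) (tt N12295 D18182) (tt N12257 (iv F71157)) (tt N12284 (iv F71257)) (tt N11857 (iv F69588)))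
theorem Q11684 : ∀ i, i < 11684 → P i := stepQ 11683 Q11683 (allL N11683 (tt N12168 (iv F70817)) (tt N12295 (iv F71281)) (tt N11075 F69042) (tt N12240 (iv F71092)) (tt N12292 (iv F71278)) (tt N11074 (iv D17570)) (tt N12296 D18183) (tt N12285 (iv F71259)) (tt N11858 (iv F69590)))
theorem Q11685 : ∀ i, i < 11685 → P i := stepQ 11684 Q11684 (allL N11684 (tt N12169 (iv F70820)) (tt N12273 (iv F71217)) (tt N12296 (iv F71282)) (tt N11076 F69043) (tt N12293 (iv F71279)) (tt N12259 (iv F71164)) (tt N11075 (iv D17571)) (tt N12286 (iv F71261)) (tt N11859 (iv F69592)))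
theorem Q11686 : ∀ i, i < 11686 → P i := stepQ 11685 Q11685 (allL N11685 (tt N11078 (iv D17572)) (tt N12170 (iv F70822)) (tt N11166 F69044) (tt N12289 (iv F71269)) (tt N11181 F69045) (tt N11080 F69046) (tt N11553 F69047) (tt N11185 F69048) (tt N11860 (iv F69598)))
theorem Q11687 : ∀ i, i < 11687 → P i := stepQ 11686 Q11686 (allL N11686 (tt N12172 (iv F70833)) (tt N11676 F69049) (tt N12010 (iv F70207)) (tt N11079 (iv D17573)) (tt N12291 (iv F71275)) (tt N11773 (iv F69322)) (tt N11678 F69050) (tt N12163 (iv F70805)) (tt N11861 (iv F69602)))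
theorem Q11688 : ∀ i, i < 11688 → P i := stepQ 11687 Q11687 (allL N11687 (tt N11090 F69051) (tt N11667 F69052) (tt N12297 D18184) (tt N11082 (iv D17574)) (tt N12298 D18185) (tt N11694 (iv F69080)) (tt N11201 F69053) (tt N11119 F69054) (tt N11083 F69055))
theorem Q11689 : ∀ i, i < 11689 → P i := stepQ 11688 Q11688 (allL N11688 (tt N11091 F69056) (tt N12299 D18186) (tt N11083 (iv D17575)) (tt N11688 F69057) (tt N12300 D18187) (tt N12087 (iv F70546)) (tt N11202 F69058) (tt N11084 F69059) (tt N12297 (iv F71287)))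
theorem Q11690 : ∀ i, i < 11690 → P i := stepQ 11689 Q11689 (allL N11689 (tt N11092 F69060) (tt N12062 (iv F70437)) (tt N12300 (iv F71301)) (tt N12260 (iv F71166)) (tt N11083 (iv D17576)) (tt N12301 D18188) (tt N11203 F69061) (tt N11085 F69062) (tt N12298 (iv F71293)))
theorem Q11691 : ∀ i, i < 11691 → P i := stepQ 11690 Q11690 (allL N11690 (tt N11211 F69063) (tt N11084 (iv D17577)) (tt N11228 F69064) (tt N11162 F69065) (tt N12302 D18189) (tt N11240 F69066) (tt N11204 F69067) (tt N12299 (iv F71299)) (tt N11124 F69068))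
theorem Q11692 : ∀ i, i < 11692 → P i := stepQ 11691 Q11691 (allL N11691 (tt N11095 F69069) (tt N12302 (iv F71307)) (tt N11085 F69070) (tt N11932 (iv F69852)) (tt N11084 (iv D17578)) (tt N12303 D18190) (tt N11205 F69071) (tt N12300 (iv F71303)) (tt N11125 F69072))
theorem Q11693 : ∀ i, i < 11693 → P i := stepQ 11692 Q11692 (allL N11692 (tt N11096 F69073) (tt N12070 (iv F70469)) (tt N12303 (iv F71313)) (tt N11086 F69074) (tt N12101 (iv F70591)) (tt N11085 (iv D17579)) (tt N12304 D18191) (tt N12301 (iv F71305)) (tt N11126 F69075))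
theorem Q11694 : ∀ i, i < 11694 → P i := stepQ 11693 Q11693 (allL N11693 (tt N11097 F69076) (tt N12177 (iv F70852)) (tt N11934 (iv F69861)) (tt N12304 (iv F71316)) (tt N12019 (iv F70253)) (tt N11207 F69077) (tt N11086 (iv D17580)) (tt N12262 (iv F71175)) (tt N11127 F69078))
theorem Q11695 : ∀ i, i < 11695 → P i := stepQ 11694 Q11694 (allL N11694 (tt N11695 (iv F69083)) (tt N11098 F69079) (tt N12305 D18192) (tt N11087 (iv D17581)) (tt N12306 D18193) (tt N11687 F69080) (tt N11472 F69081) (tt N11725 (iv F69177)) (tt N11471 F69082))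
theorem Q11696 : ∀ i, i < 11696 → P i := stepQ 11695 Q11695 (allL N11695 (tt N11694 F69083) (tt N11100 F69084) (tt N12000 (iv F70172)) (tt N11088 (iv D17582)) (tt N12307 D18194) (tt N11090 F69085) (tt N11470 F69086) (tt N11130 F69087) (tt N11089 F69088))
theorem Q11697 : ∀ i, i < 11697 → P i := stepQ 11696 Q11696 (allL N11696 (tt N12087 (iv F70543)) (tt N11930 (iv F69837)) (tt N11089 (iv D17583)) (tt N11696 F69089) (tt N12308 D18195) (tt N11091 F69090) (tt N11946 (iv F69925)) (tt N11093 F69091) (tt N12000 (iv F70176)))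
theorem Q11698 : ∀ i, i < 11698 → P i := stepQ 11697 Q11697 (allL N11697 (tt N12088 (iv F70549)) (tt N11101 F69092) (tt N12308 (iv F71335)) (tt N12306 (iv F71326)) (tt N11089 (iv D17584)) (tt N12309 D18196) (tt N12077 (iv F70502)) (tt N11094 F69093) (tt N12307 (iv F71334)))
theorem Q11699 : ∀ i, i < 11699 → P i := stepQ 11698 Q11698 (allL N11698 (tt N12297 (iv F71283)) (tt N11998 (iv F70161)) (tt N11090 (iv D17585)) (tt N11698 F69094) (tt N12310 D18197) (tt N12000 (iv F70174)) (tt N11262 F69095) (tt N11133 F69096) (tt N11091 F69097))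
theorem Q11700 : ∀ i, i < 11700 → P i := stepQ 11699 Q11699 (allL N11699 (tt N12298 (iv F71288)) (tt N11102 F69098) (tt N12310 (iv F71340)) (tt N12265 (iv F71189)) (tt N11090 (iv D17586)) (tt N12311 D18198) (tt N11263 F69099) (tt N11134 F69100) (tt N11092 F69101))
theorem Q11701 : ∀ i, i < 11701 → P i := stepQ 11700 Q11700 (allL N11700 (tt N12300 (iv F71300)) (tt N12191 (iv F70905)) (tt N11092 F69102) (tt N12312 D18199) (tt N11091 (iv D17587)) (tt N12313 D18200) (tt N11264 F69103) (tt N11095 F69104) (tt N12310 (iv F71343)))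
theorem Q11702 : ∀ i, i < 11702 → P i := stepQ 11701 Q11701 (allL N11701 (tt N12301 (iv F71304)) (tt N11103 F69105) (tt N12313 (iv F71349)) (tt N12268 (iv F71201)) (tt N12309 (iv F71338)) (tt N11092 (iv D17588)) (tt N12314 D18201) (tt N11096 F69106) (tt N12311 (iv F71346)))
theorem Q11703 : ∀ i, i < 11703 → P i := stepQ 11702 Q11702 (allL N11702 (tt N12100 (iv F70582)) (tt N11932 (iv F69850)) (tt N11094 F69107) (tt N12302 (iv F71309)) (tt N11093 (iv D17589)) (tt N12315 D18202) (tt N11951 (iv F69948)) (tt N12308 (iv F71336)) (tt N11139 F69108))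
theorem Q11704 : ∀ i, i < 11704 → P i := stepQ 11703 Q11703 (allL N11703 (tt N12101 (iv F70588)) (tt N11105 F69109) (tt N12315 (iv F71354)) (tt N12025 (iv F70283)) (tt N11096 F69110) (tt N11094 (iv D17590)) (tt N12316 D18203) (tt N12309 (iv F71339)) (tt N11140 F69111))
theorem Q11705 : ∀ i, i < 11705 → P i := stepQ 11704 Q11704 (allL N11704 (tt N12303 (iv F71312)) (tt N12193 (iv F70913)) (tt N11096 F69112) (tt N12017 (iv F70243)) (tt N12315 (iv F71355)) (tt N11095 (iv D17591)) (tt N12317 D18204) (tt N12313 (iv F71350)) (tt N11142 F69113))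
theorem Q11706 : ∀ i, i < 11706 → P i := stepQ 11705 Q11705 (allL N11705 (tt N12304 (iv F71315)) (tt N11106 F69114) (tt N12317 (iv F71360)) (tt N11097 F69115) (tt N12316 (iv F71358)) (tt N11269 F69116) (tt N11096 (iv D17592)) (tt N12314 (iv F71353)) (tt N11143 F69117))
theorem Q11707 : ∀ i, i < 11707 → P i := stepQ 11706 Q11706 (allL N11706 (tt N11880 F69654) (tt N11843 (iv F69540)) (tt N11098 (iv D17593)) (tt N11187 F69118) (tt N12318 D18205) (tt N11887 (iv F69675)) (tt N11489 F69119) (tt N12028 (iv F70297)) (tt N11380 F69120))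
theorem Q11708 : ∀ i, i < 11708 → P i := stepQ 11707 Q11707 (allL N11707 (tt N12181 (iv F70865)) (tt N12306 (iv F71325)) (tt N12318 (iv F71363)) (tt N11101 F69121) (tt N11098 (iv D17594)) (tt N12319 D18206) (tt N11490 F69122) (tt N12029 (iv F70300)) (tt N11488 F69123))
theorem Q11709 : ∀ i, i < 11709 → P i := stepQ 11708 Q11708 (allL N11708 (tt N11967 (iv F70022)) (tt N12077 (iv F70501)) (tt N11937 (iv F69877)) (tt N11490 F69124) (tt N11099 (iv D17595)) (tt N12320 D18207) (tt N11101 F69125) (tt N11104 F69126) (tt N11487 F69127))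
theorem Q11710 : ∀ i, i < 11710 → P i := stepQ 11709 Q11709 (allL N11709 (tt N12182 (iv F70869)) (tt N12307 (iv F71330)) (tt N11995 (iv F70147)) (tt N11488 F69128) (tt N11100 (iv D17596)) (tt N12321 D18208) (tt N11487 F69129) (tt N11147 F69130) (tt N11101 F69131))
theorem Q11711 : ∀ i, i < 11711 → P i := stepQ 11710 Q11710 (allL N11710 (tt N12183 (iv F70876)) (tt N12309 (iv F71337)) (tt N12198 (iv F70934)) (tt N12319 (iv F71366)) (tt N11103 F69132) (tt N11101 (iv D17597)) (tt N12322 D18209) (tt N11105 F69133) (tt N12321 (iv F71374)))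
theorem Q11712 : ∀ i, i < 11712 → P i := stepQ 11711 Q11711 (allL N11711 (tt N12184 (iv F70880)) (tt N12311 (iv F71344)) (tt N12199 (iv F70938)) (tt N12282 (iv F71251)) (tt N12321 (iv F71372)) (tt N11102 (iv D17598)) (tt N12323 D18210) (tt N11151 F69134) (tt N11103 F69135))
theorem Q11713 : ∀ i, i < 11713 → P i := stepQ 11712 Q11712 (allL N11712 (tt N12185 (iv F70884)) (tt N12314 (iv F71351)) (tt N12200 (iv F70942)) (tt N12286 (iv F71260)) (tt N12322 (iv F71375)) (tt N12235 (iv F71072)) (tt N11103 (iv D17599)) (tt N11106 F69136) (tt N12323 (iv F71378)))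
theorem Q11714 : ∀ i, i < 11714 → P i := stepQ 11713 Q11713 (allL N11713 (tt N11969 (iv F70031)) (tt N12082 (iv F70522)) (tt N11938 (iv F69884)) (tt N12044 (iv F70350)) (tt N11964 (iv F70012)) (tt N11104 (iv D17600)) (tt N12324 D18211) (tt N12320 (iv F71369)) (tt N11156 F69137))
theorem Q11715 : ∀ i, i < 11715 → P i := stepQ 11714 Q11714 (allL N11714 (tt N12186 (iv F70888)) (tt N12316 (iv F71357)) (tt N12201 (iv F70946)) (tt N12047 (iv F70362)) (tt N11106 F69138) (tt N12324 (iv F71379)) (tt N11105 (iv D17601)) (tt N12322 (iv F71376)) (tt N11158 F69139))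
theorem Q11716 : ∀ i, i < 11716 → P i := stepQ 11715 Q11715 (allL N11715 (tt N12021 (iv F70260)) (tt N11905 (iv F69713)) (tt N11107 (iv D17602)) (tt N11161 F69140) (tt N12325 D18212) (tt N11738 (iv F69218)) (tt N11274 F69141) (tt N12078 (iv F70507)) (tt N11272 F69142))
theorem Q11717 : ∀ i, i < 11717 → P i := stepQ 11716 Q11716 (allL N11716 (tt N12022 (iv F70266)) (tt N11271 F69143) (tt N12325 (iv F71381)) (tt N11110 F69144) (tt N11107 (iv D17603)) (tt N12326 D18213) (tt N11275 F69145) (tt N12079 (iv F70513)) (tt N11273 F69146))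
theorem Q11718 : ∀ i, i < 11718 → P i := stepQ 11717 Q11717 (allL N11717 (tt N11937 (iv F69875)) (tt N11273 F69147) (tt N11967 (iv F70024)) (tt N11275 F69148) (tt N11108 (iv D17604)) (tt N12327 D18214) (tt N11110 F69149) (tt N11113 F69150) (tt N11271 F69151))
theorem Q11719 : ∀ i, i < 11719 → P i := stepQ 11718 Q11718 (allL N11718 (tt N11995 (iv F70145)) (tt N11275 F69152) (tt N12182 (iv F70871)) (tt N11273 F69153) (tt N11109 (iv D17605)) (tt N12328 D18215) (tt N11271 F69154) (tt N11993 (iv F70140)) (tt N11110 F69155))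
theorem Q11720 : ∀ i, i < 11720 → P i := stepQ 11719 Q11719 (allL N11719 (tt N12198 (iv F70933)) (tt N11278 F69156) (tt N12183 (iv F70877)) (tt N12326 (iv F71385)) (tt N11112 F69157) (tt N11110 (iv D17606)) (tt N12329 D18216) (tt N11114 F69158) (tt N12328 (iv F71395)))
theorem Q11721 : ∀ i, i < 11721 → P i := stepQ 11720 Q11720 (allL N11720 (tt N12199 (iv F70937)) (tt N11281 F69159) (tt N12184 (iv F70881)) (tt N11745 (iv F69242)) (tt N12328 (iv F71394)) (tt N11111 (iv D17607)) (tt N12330 D18217) (tt N12232 (iv F71060)) (tt N11112 F69160))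
theorem Q11722 : ∀ i, i < 11722 → P i := stepQ 11721 Q11721 (allL N11721 (tt N12200 (iv F70941)) (tt N11286 F69161) (tt N12185 (iv F70885)) (tt N11749 (iv F69256)) (tt N12329 (iv F71397)) (tt N11155 F69162) (tt N11112 (iv D17608)) (tt N11115 F69163) (tt N12330 (iv F71401)))
theorem Q11723 : ∀ i, i < 11723 → P i := stepQ 11722 Q11722 (allL N11722 (tt N11938 (iv F69882)) (tt N11288 F69164) (tt N11969 (iv F70033)) (tt N11936 (iv F69872)) (tt N11156 F69165) (tt N11113 (iv D17609)) (tt N12331 D18218) (tt N12327 (iv F71390)) (tt N11964 (iv F70013)))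
theorem Q11724 : ∀ i, i < 11724 → P i := stepQ 11723 Q11723 (allL N11723 (tt N12201 (iv F70945)) (tt N11292 F69166) (tt N12186 (iv F70889)) (tt N12250 (iv F71129)) (tt N11115 F69167) (tt N12331 (iv F71404)) (tt N11114 (iv D17610)) (tt N12329 (iv F71398)) (tt N12237 (iv F71080)))
theorem Q11725 : ∀ i, i < 11725 → P i := stepQ 11724 Q11724 (allL N11724 (tt N11128 F69168) (tt N11420 F69169) (tt N12332 D18219) (tt N11116 (iv D17611)) (tt N12333 D18220) (tt N11411 F69170) (tt N11725 (iv F69176)) (tt N11472 F69171) (tt N11410 F69172))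
theorem Q11726 : ∀ i, i < 11726 → P i := stepQ 11725 Q11725 (allL N11725 (tt N11130 F69173) (tt N11418 F69174) (tt N12006 (iv F70195)) (tt N11117 (iv D17612)) (tt N12334 D18221) (tt N11119 F69175) (tt N11724 F69176) (tt N11694 F69177) (tt N11118 F69178))
theorem Q11727 : ∀ i, i < 11727 → P i := stepQ 11726 Q11726 (allL N11726 (tt N11131 F69179) (tt N12066 (iv F70455)) (tt N11118 (iv D17613)) (tt N11169 F69180) (tt N12335 D18222) (tt N11120 F69181) (tt N11979 (iv F70078)) (tt N11122 F69182) (tt N12006 (iv F70198)))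
theorem Q11728 : ∀ i, i < 11728 → P i := stepQ 11727 Q11727 (allL N11727 (tt N11132 F69183) (tt N12030 (iv F70302)) (tt N12335 (iv F71424)) (tt N12333 (iv F71414)) (tt N11118 (iv D17614)) (tt N12336 D18223) (tt N12020 (iv F70258)) (tt N11123 F69184) (tt N12334 (iv F71422)))
theorem Q11729 : ∀ i, i < 11729 → P i := stepQ 11728 Q11728 (allL N11728 (tt N11133 F69185) (tt N12337 D18224) (tt N11119 (iv D17615)) (tt N11170 F69186) (tt N12338 D18225) (tt N12006 (iv F70197)) (tt N11221 F69187) (tt N12297 (iv F71286)) (tt N11120 F69188))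
theorem Q11730 : ∀ i, i < 11730 → P i := stepQ 11729 Q11729 (allL N11729 (tt N11134 F69189) (tt N12203 (iv F70956)) (tt N12338 (iv F71434)) (tt N11585 F69190) (tt N11119 (iv D17616)) (tt N12339 D18226) (tt N11222 F69191) (tt N12298 (iv F71292)) (tt N11121 F69192))
theorem Q11731 : ∀ i, i < 11731 → P i := stepQ 11730 Q11730 (allL N11730 (tt N12063 (iv F70441)) (tt N11120 (iv D17617)) (tt N12136 (iv F70691)) (tt N11171 F69193) (tt N12340 D18227) (tt N12066 (iv F70458)) (tt N11223 F69194) (tt N11124 F69195) (tt N12337 (iv F71432)))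
theorem Q11732 : ∀ i, i < 11732 → P i := stepQ 11731 Q11731 (allL N11731 (tt N11136 F69196) (tt N12340 (iv F71441)) (tt N11121 F69197) (tt N11674 F69198) (tt N11120 (iv D17618)) (tt N12341 D18228) (tt N11224 F69199) (tt N11125 F69200) (tt N12338 (iv F71437)))
theorem Q11733 : ∀ i, i < 11733 → P i := stepQ 11732 Q11732 (allL N11732 (tt N11137 F69201) (tt N12205 (iv F70965)) (tt N12341 (iv F71446)) (tt N11586 F69202) (tt N12336 (iv F71428)) (tt N11121 (iv D17619)) (tt N12342 D18229) (tt N11126 F69203) (tt N12339 (iv F71440)))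
theorem Q11734 : ∀ i, i < 11734 → P i := stepQ 11733 Q11733 (allL N11733 (tt N11139 F69204) (tt N12072 (iv F70481)) (tt N11123 F69205) (tt N12071 (iv F70477)) (tt N11122 (iv D17620)) (tt N12343 D18230) (tt N11986 (iv F70106)) (tt N12335 (iv F71426)) (tt N12100 (iv F70587)))
theorem Q11735 : ∀ i, i < 11735 → P i := stepQ 11734 Q11734 (allL N11734 (tt N11140 F69206) (tt N12044 (iv F70349)) (tt N12343 (iv F71454)) (tt N12082 (iv F70523)) (tt N11126 F69207) (tt N11123 (iv D17621)) (tt N12344 D18231) (tt N12336 (iv F71429)) (tt N12101 (iv F70592)))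
theorem Q11736 : ∀ i, i < 11736 → P i := stepQ 11735 Q11735 (allL N11735 (tt N12071 (iv F70474)) (tt N11125 F69208) (tt N12102 (iv F70595)) (tt N11139 F69209) (tt N11124 (iv D17622)) (tt N12345 D18232) (tt N11229 F69210) (tt N12340 (iv F71444)) (tt N12302 (iv F71311)))
theorem Q11737 : ∀ i, i < 11737 → P i := stepQ 11736 Q11736 (allL N11736 (tt N11142 F69211) (tt N12345 (iv F71458)) (tt N11126 F69212) (tt N11961 (iv F69994)) (tt N12343 (iv F71455)) (tt N11125 (iv D17623)) (tt N12346 D18233) (tt N12341 (iv F71448)) (tt N12303 (iv F71314)))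
theorem Q11738 : ∀ i, i < 11738 → P i := stepQ 11737 Q11737 (allL N11737 (tt N11143 F69213) (tt N12207 (iv F70972)) (tt N12346 (iv F71461)) (tt N11127 F69214) (tt N12344 (iv F71457)) (tt N11231 F69215) (tt N11126 (iv D17624)) (tt N12342 (iv F71452)) (tt N12304 (iv F71318)))
theorem Q11739 : ∀ i, i < 11739 → P i := stepQ 11738 Q11738 (allL N11738 (tt N12332 (iv F71405)) (tt N11366 F69216) (tt N11128 (iv D17625)) (tt N11172 F69217) (tt N12347 D18234) (tt N11715 F69218) (tt N11395 F69219) (tt N12085 (iv F70537)) (tt N11368 F69220))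
theorem Q11740 : ∀ i, i < 11740 → P i := stepQ 11739 Q11739 (allL N11739 (tt N12333 (iv F71412)) (tt N11145 F69221) (tt N12347 (iv F71464)) (tt N11132 F69222) (tt N11128 (iv D17626)) (tt N12348 D18235) (tt N11741 (iv F69229)) (tt N12086 (iv F70541)) (tt N11740 (iv F69226)))
theorem Q11741 : ∀ i, i < 11741 → P i := stepQ 11740 Q11740 (allL N11740 (tt N12020 (iv F70256)) (tt N11146 F69223) (tt N11980 (iv F70081)) (tt N11741 (iv F69228)) (tt N11129 (iv D17627)) (tt N12349 D18236) (tt N11132 F69224) (tt N11138 F69225) (tt N11739 F69226))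
theorem Q11742 : ∀ i, i < 11742 → P i := stepQ 11741 Q11741 (allL N11741 (tt N12334 (iv F71417)) (tt N11147 F69227) (tt N12007 (iv F70200)) (tt N11740 F69228) (tt N11130 (iv D17628)) (tt N12350 D18237) (tt N11739 F69229) (tt N12307 (iv F71333)) (tt N11132 F69230))
theorem Q11743 : ∀ i, i < 11743 → P i := stepQ 11742 Q11742 (allL N11742 (tt N12335 (iv F71423)) (tt N11630 F69231) (tt N11132 F69232) (tt N11682 F69233) (tt N11131 (iv D17629)) (tt N12351 D18238) (tt N11980 (iv F70082)) (tt N11139 F69234) (tt N12007 (iv F70202)))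
theorem Q11744 : ∀ i, i < 11744 → P i := stepQ 11743 Q11743 (allL N11743 (tt N12336 (iv F71427)) (tt N11149 F69235) (tt N12351 (iv F71480)) (tt N12348 (iv F71469)) (tt N11137 F69236) (tt N11132 (iv D17630)) (tt N12352 D18239) (tt N11140 F69237) (tt N12350 (iv F71478)))
theorem Q11745 : ∀ i, i < 11745 → P i := stepQ 11744 Q11744 (allL N11744 (tt N12338 (iv F71433)) (tt N12004 (iv F70187)) (tt N11134 F69238) (tt N12353 D18240) (tt N11133 (iv D17631)) (tt N12354 D18241) (tt N11280 F69239) (tt N12310 (iv F71342)) (tt N11136 F69240))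
theorem Q11746 : ∀ i, i < 11746 → P i := stepQ 11745 Q11745 (allL N11745 (tt N12339 (iv F71438)) (tt N11151 F69241) (tt N12354 (iv F71492)) (tt N11720 F69242) (tt N12350 (iv F71477)) (tt N11134 (iv D17632)) (tt N12355 D18242) (tt N12311 (iv F71345)) (tt N11137 F69243))
theorem Q11747 : ∀ i, i < 11747 → P i := stepQ 11746 Q11746 (allL N11746 (tt N12064 (iv F70447)) (tt N11136 F69244) (tt N11152 F69245) (tt N12356 D18243) (tt N11135 (iv D17633)) (tt N12357 D18244) (tt N11283 F69246) (tt N11141 F69247) (tt N12004 (iv F70190)))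
theorem Q11748 : ∀ i, i < 11748 → P i := stepQ 11747 Q11747 (allL N11747 (tt N11674 F69248) (tt N12356 (iv F71498)) (tt N11545 F69249) (tt N11136 (iv D17634)) (tt N11175 F69250) (tt N12358 D18245) (tt N11284 F69251) (tt N11549 F69252) (tt N12353 (iv F71491)))
theorem Q11749 : ∀ i, i < 11749 → P i := stepQ 11748 Q11748 (allL N11748 (tt N12341 (iv F71445)) (tt N12357 (iv F71502)) (tt N11137 F69253) (tt N12358 (iv F71508)) (tt N12351 (iv F71482)) (tt N11136 (iv D17635)) (tt N12359 D18246) (tt N11142 F69254) (tt N12354 (iv F71493)))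
theorem Q11750 : ∀ i, i < 11750 → P i := stepQ 11749 Q11749 (allL N11749 (tt N12342 (iv F71449)) (tt N11155 F69255) (tt N12359 (iv F71510)) (tt N11721 F69256) (tt N12352 (iv F71485)) (tt N11286 F69257) (tt N11137 (iv D17636)) (tt N11143 F69258) (tt N12355 (iv F71497)))
theorem Q11751 : ∀ i, i < 11751 → P i := stepQ 11750 Q11750 (allL N11750 (tt N12025 (iv F70281)) (tt N11156 F69259) (tt N11987 (iv F70109)) (tt N12101 (iv F70590)) (tt N11288 F69260) (tt N11138 (iv D17637)) (tt N12360 D18247) (tt N12349 (iv F71473)) (tt N12082 (iv F70525)))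
theorem Q11752 : ∀ i, i < 11752 → P i := stepQ 11751 Q11751 (allL N11751 (tt N12343 (iv F71453)) (tt N11961 (iv F69992)) (tt N11140 F69261) (tt N12345 (iv F71459)) (tt N11142 F69262) (tt N11139 (iv D17638)) (tt N12361 D18248) (tt N12351 (iv F71483)) (tt N12315 (iv F71356)))
theorem Q11753 : ∀ i, i < 11753 → P i := stepQ 11752 Q11752 (allL N11752 (tt N12344 (iv F71456)) (tt N11158 F69263) (tt N12361 (iv F71516)) (tt N12104 (iv F70602)) (tt N11143 F69264) (tt N12360 (iv F71515)) (tt N11140 (iv D17639)) (tt N12352 (iv F71486)) (tt N12316 (iv F71359)))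
theorem Q11754 : ∀ i, i < 11754 → P i := stepQ 11753 Q11753 (allL N11753 (tt N12073 (iv F70486)) (tt N11142 F69265) (tt N11159 F69266) (tt N12075 (iv F70496)) (tt N11961 (iv F69995)) (tt N11141 (iv D17640)) (tt N12362 D18249) (tt N12357 (iv F71505)) (tt N12193 (iv F70915)))
theorem Q11755 : ∀ i, i < 11755 → P i := stepQ 11754 Q11754 (allL N11754 (tt N12346 (iv F71460)) (tt N12362 (iv F71518)) (tt N11143 F69267) (tt N12076 (iv F70498)) (tt N12361 (iv F71517)) (tt N11295 F69268) (tt N11142 (iv D17641)) (tt N12359 (iv F71512)) (tt N12317 (iv F71362)))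
theorem Q11756 : ∀ i, i < 11756 → P i := stepQ 11755 Q11755 (allL N11755 (tt N11644 F69269) (tt N11367 F69270) (tt N11145 F69271) (tt N11382 F69272) (tt N11144 (iv D17642)) (tt N12363 D18250) (tt N11387 F69273) (tt N11818 (iv F69462)) (tt N11357 F69274))
theorem Q11757 : ∀ i, i < 11757 → P i := stepQ 11756 Q11756 (allL N11756 (tt N12226 (iv F71034)) (tt N12348 (iv F71468)) (tt N12363 (iv F71523)) (tt N11149 F69275) (tt N11877 (iv F69645)) (tt N11145 (iv D17643)) (tt N12364 D18251) (tt N12107 (iv F70610)) (tt N11757 (iv F69277)))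
theorem Q11758 : ∀ i, i < 11758 → P i := stepQ 11757 Q11757 (allL N11757 (tt N12227 (iv F71036)) (tt N12349 (iv F71471)) (tt N11968 (iv F70029)) (tt N11758 (iv F69278)) (tt N12327 (iv F71389)) (tt N11146 (iv D17644)) (tt N12365 D18252) (tt N11156 F69276) (tt N11756 F69277))
theorem Q11759 : ∀ i, i < 11759 → P i := stepQ 11758 Q11758 (allL N11758 (tt N12228 (iv F71039)) (tt N12350 (iv F71475)) (tt N11996 (iv F70153)) (tt N11757 F69278) (tt N11151 F69279) (tt N11147 (iv D17645)) (tt N12366 D18253) (tt N12321 (iv F71373)) (tt N11149 F69280))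
theorem Q11760 : ∀ i, i < 11760 → P i := stepQ 11759 Q11759 (allL N11759 (tt N12229 (iv F71043)) (tt N11631 F69281) (tt N11149 F69282) (tt N11629 F69283) (tt N11154 F69284) (tt N11148 (iv D17646)) (tt N12367 D18254) (tt N11157 F69285) (tt N11996 (iv F70156)))
theorem Q11761 : ∀ i, i < 11761 → P i := stepQ 11760 Q11760 (allL N11760 (tt N12230 (iv F71049)) (tt N12352 (iv F71484)) (tt N12367 (iv F71535)) (tt N12364 (iv F71526)) (tt N11155 F69286) (tt N12365 (iv F71527)) (tt N11149 (iv D17647)) (tt N11158 F69287) (tt N12366 (iv F71533)))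
theorem Q11762 : ∀ i, i < 11762 → P i := stepQ 11761 Q11761 (allL N11761 (tt N12232 (iv F71057)) (tt N12005 (iv F70191)) (tt N11151 F69288) (tt N12269 (iv F71204)) (tt N11996 (iv F70155)) (tt N11150 (iv D17648)) (tt N12368 D18255) (tt N12199 (iv F70939)) (tt N11154 F69289))
theorem Q11763 : ∀ i, i < 11763 → P i := stepQ 11762 Q11762 (allL N11762 (tt N12233 (iv F71062)) (tt N12355 (iv F71494)) (tt N12368 (iv F71539)) (tt N11891 (iv F69684)) (tt N12366 (iv F71531)) (tt N12330 (iv F71400)) (tt N11151 (iv D17649)) (tt N12323 (iv F71377)) (tt N11155 F69290))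
theorem Q11764 : ∀ i, i < 11764 → P i := stepQ 11763 Q11763 (allL N11763 (tt N12065 (iv F70451)) (tt N11154 F69291) (tt N12357 (iv F71503)) (tt N11855 (iv F69582)) (tt N11631 F69292) (tt N11152 (iv D17650)) (tt N12369 D18256) (tt N11159 F69293) (tt N12005 (iv F70194)))
theorem Q11765 : ∀ i, i < 11765 → P i := stepQ 11764 Q11764 (allL N11764 (tt N12234 (iv F71064)) (tt N11855 (iv F69581)) (tt N11895 (iv F69692)) (tt N11154 F69294) (tt N11652 F69295) (tt N11153 (iv D17651)) (tt N12370 D18257) (tt N12147 (iv F70748)) (tt N12269 (iv F71206)))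
theorem Q11766 : ∀ i, i < 11766 → P i := stepQ 11765 Q11765 (allL N11765 (tt N12235 (iv F71069)) (tt N12369 (iv F71541)) (tt N11155 F69296) (tt N12370 (iv F71544)) (tt N12367 (iv F71537)) (tt N12185 (iv F70886)) (tt N11154 (iv D17652)) (tt N11160 F69297) (tt N12368 (iv F71540)))
theorem Q11767 : ∀ i, i < 11767 → P i := stepQ 11766 Q11766 (allL N11766 (tt N12236 (iv F71074)) (tt N12360 (iv F71513)) (tt N11970 (iv F70038)) (tt N12125 (iv F70654)) (tt N12331 (iv F71403)) (tt N11158 F69298) (tt N11156 (iv D17653)) (tt N12365 (iv F71528)) (tt N12324 (iv F71380)))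
theorem Q11768 : ∀ i, i < 11768 → P i := stepQ 11767 Q11767 (allL N11767 (tt N12237 (iv F71076)) (tt N11962 (iv F69997)) (tt N11158 F69299) (tt N11960 (iv F69989)) (tt N11160 F69300) (tt N11970 (iv F70040)) (tt N11157 (iv D17654)) (tt N12367 (iv F71538)) (tt N12201 (iv F70948)))
theorem Q11769 : ∀ i, i < 11769 → P i := stepQ 11768 Q11768 (allL N11768 (tt N12074 (iv F70490)) (tt N11160 F69301) (tt N12362 (iv F71519)) (tt N12175 (iv F70845)) (tt N11962 (iv F69999)) (tt N12179 (iv F70861)) (tt N11159 (iv D17655)) (tt N12369 (iv F71543)) (tt N12194 (iv F70920)))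
theorem Q11770 : ∀ i, i < 11770 → P i := stepQ 11769 Q11769 (allL N11769 (tt N11164 (iv D17656)) (tt N12131 (iv F70670)) (tt N11165 F69302) (tt N12270 (iv F71208)) (tt N11770 (iv F69307)) (tt N11906 (iv F69720)) (tt N11257 F69303) (tt N11769 F69304) (tt N11654 F69305))
theorem Q11771 : ∀ i, i < 11771 → P i := stepQ 11770 Q11770 (allL N11770 (tt N11172 F69306) (tt N11513 (iv F69312)) (tt N11167 (iv D17657)) (tt N12332 (iv F71406)) (tt N11769 F69307) (tt N11530 F69308) (tt N11400 F69309) (tt N11770 F69310) (tt N11378 F69311))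
theorem Q11772 : ∀ i, i < 11772 → P i := stepQ 11771 Q11771 (allL N11771 (tt N11924 (iv F69800)) (tt N11170 (iv D17658)) (tt N11771 F69313) (tt N12337 (iv F71430)) (tt N11778 (iv F69348)) (tt N11926 (iv F69815)) (tt N11233 F69314) (tt N11771 F69315) (tt N11171 F69316))
theorem Q11773 : ∀ i, i < 11773 → P i := stepQ 11772 Q11772 (allL N11772 (tt N11671 F69317) (tt N12010 (iv F70206)) (tt N11544 F69318) (tt N11173 (iv D17659)) (tt N12353 (iv F71489)) (tt N11851 (iv F69566)) (tt N11302 F69319) (tt N12153 (iv F70776)) (tt N11175 F69320))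
theorem Q11774 : ∀ i, i < 11774 → P i := stepQ 11773 Q11773 (allL N11773 (tt N12130 (iv F70667)) (tt N11175 F69321) (tt N11861 (iv F69600)) (tt N11174 (iv D17660)) (tt N12356 (iv F71499)) (tt N11686 F69322) (tt N11304 F69323) (tt N11548 F69324) (tt N12010 (iv F70210)))
theorem Q11775 : ∀ i, i < 11775 → P i := stepQ 11774 Q11774 (allL N11774 (tt N11176 (iv D17661)) (tt N11185 F69325) (tt N11774 F69326) (tt N11177 F69327) (tt N11184 (iv F69330)) (tt N11178 F69328) (tt N11775 (iv F69336)) (tt N12170 (iv F70825)) (tt N11774 F69329))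
theorem Q11776 : ∀ i, i < 11776 → P i := stepQ 11775 Q11775 (allL N11775 (tt N11184 F69331) (tt N11177 F69332) (tt N11775 F69333) (tt N11185 F69334) (tt N11176 (iv D17662)) (tt N11186 F69335) (tt N11774 F69336) (tt N12171 (iv F70832)) (tt N11775 F69337))
theorem Q11777 : ∀ i, i < 11777 → P i := stepQ 11776 Q11776 (allL N11776 (tt N11254 F69338) (tt N12371 D18258) (tt N11180 (iv D17663)) (tt N12275 (iv F71227)) (tt N11860 (iv F69594)) (tt N11182 F69339) (tt N11196 F69340) (tt N11776 F69341) (tt N11181 F69342))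
theorem Q11778 : ∀ i, i < 11778 → P i := stepQ 11777 Q11777 (allL N11777 (tt N12171 (iv F70827)) (tt N11181 (iv D17664)) (tt N11777 F69343) (tt N12277 (iv F71238)) (tt N12170 F70826) (tt N11183 F69344) (tt N11552 F69345) (tt N11184 F69346) (tt N12371 (iv F71550)))
theorem Q11779 : ∀ i, i < 11779 → P i := stepQ 11778 Q11778 (allL N11778 (tt N12372 D18259) (tt N11182 (iv D17665)) (tt N11778 F69347) (tt N12280 (iv F71247)) (tt N11771 F69348) (tt N12371 (iv F71547)) (tt N11837 (iv F69519)) (tt N11778 F69349) (tt N11183 F69350))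
theorem Q11780 : ∀ i, i < 11780 → P i := stepQ 11779 Q11779 (allL N11779 (tt N11183 (iv D17666)) (tt N11510 F69351) (tt N11779 F69352) (tt N12283 (iv F71254)) (tt N11509 F69353) (tt N12171 (iv F70830)) (tt N11839 (iv F69531)) (tt N11186 F69354) (tt N12372 (iv F71555)))
theorem Q11781 : ∀ i, i < 11781 → P i := stepQ 11780 Q11780 (allL N11780 (tt N11844 (iv F69542)) (tt N12373 D18260) (tt N11188 (iv D17667)) (tt N11780 F69355) (tt N12374 D18261) (tt N11784 (iv F69368)) (tt N12149 (iv F70756)) (tt N11786 (iv F69376)) (tt N11540 F69356))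
theorem Q11782 : ∀ i, i < 11782 → P i := stepQ 11781 Q11781 (allL N11781 (tt N11845 (iv F69547)) (tt N11194 F69357) (tt N12374 (iv F71559)) (tt N11190 F69358) (tt N11188 (iv D17668)) (tt N12375 D18262) (tt N12150 (iv F70761)) (tt N11787 (iv F69381)) (tt N11541 F69359))
theorem Q11783 : ∀ i, i < 11783 → P i := stepQ 11782 Q11782 (allL N11782 (tt N12145 (iv F70737)) (tt N11914 (iv F69756)) (tt N11190 F69360) (tt N12376 D18263) (tt N11189 (iv D17669)) (tt N12377 D18264) (tt N12151 (iv F70765)) (tt N11199 F69361) (tt N11542 F69362))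
theorem Q11784 : ∀ i, i < 11784 → P i := stepQ 11783 Q11783 (allL N11783 (tt N12146 (iv F70742)) (tt N11195 F69363) (tt N12377 (iv F71566)) (tt N12375 (iv F71562)) (tt N12052 (iv F70384)) (tt N11190 (iv D17670)) (tt N12378 D18265) (tt N11200 F69364) (tt N11543 F69365))
theorem Q11785 : ∀ i, i < 11785 → P i := stepQ 11784 Q11784 (allL N11784 (tt N11245 F69366) (tt N12379 D18266) (tt N11191 (iv D17671)) (tt N11784 F69367) (tt N12380 D18267) (tt N11780 F69368) (tt N12133 (iv F70681)) (tt N11193 F69369) (tt N12153 (iv F70777)))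
theorem Q11786 : ∀ i, i < 11786 → P i := stepQ 11785 Q11785 (allL N11785 (tt N11246 F69370) (tt N11787 (iv F69379)) (tt N12380 (iv F71576)) (tt N11203 F69371) (tt N11191 (iv D17672)) (tt N12381 D18268) (tt N12260 (iv F71167)) (tt N11194 F69372) (tt N12154 (iv F70781)))
theorem Q11787 : ∀ i, i < 11787 → P i := stepQ 11786 Q11786 (allL N11786 (tt N11248 F69373) (tt N12382 D18269) (tt N11192 (iv D17673)) (tt N11196 F69374) (tt N12383 D18270) (tt N11193 F69375) (tt N12275 (iv F71229)) (tt N11780 F69376) (tt N11546 F69377))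
theorem Q11788 : ∀ i, i < 11788 → P i := stepQ 11787 Q11787 (allL N11787 (tt N11249 F69378) (tt N11785 F69379) (tt N12383 (iv F71588)) (tt N11450 F69380) (tt N11192 (iv D17674)) (tt N12384 D18271) (tt N12276 (iv F71235)) (tt N11781 F69381) (tt N11547 F69382))
theorem Q11789 : ∀ i, i < 11789 → P i := stepQ 11788 Q11788 (allL N11788 (tt N12385 D18272) (tt N11193 (iv D17675)) (tt N12373 (iv F71556)) (tt N11198 F69383) (tt N12386 D18273) (tt N12382 (iv F71584)) (tt N12132 (iv F70676)) (tt N12379 (iv F71574)) (tt N11548 F69384))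
theorem Q11790 : ∀ i, i < 11790 → P i := stepQ 11789 Q11789 (allL N11789 (tt N11251 F69385) (tt N12386 (iv F71600)) (tt N11194 F69386) (tt N11921 (iv F69790)) (tt N11193 (iv D17676)) (tt N12387 D18274) (tt N12117 (iv F70638)) (tt N12380 (iv F71577)) (tt N11549 F69387))
theorem Q11791 : ∀ i, i < 11791 → P i := stepQ 11790 Q11790 (allL N11790 (tt N11252 F69388) (tt N12375 (iv F71561)) (tt N12387 (iv F71603)) (tt N11195 F69389) (tt N12384 (iv F71594)) (tt N11194 (iv D17677)) (tt N12388 D18275) (tt N12381 (iv F71581)) (tt N11550 F69390))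
theorem Q11792 : ∀ i, i < 11792 → P i := stepQ 11791 Q11791 (allL N11791 (tt N11253 F69391) (tt N12378 (iv F71569)) (tt N11923 (iv F69797)) (tt N12388 (iv F71606)) (tt N12137 (iv F70698)) (tt N12262 (iv F71174)) (tt N11195 (iv D17678)) (tt N11207 F69392) (tt N11551 F69393))
theorem Q11793 : ∀ i, i < 11793 → P i := stepQ 11792 Q11792 (allL N11792 (tt N12389 D18276) (tt N11196 (iv D17679)) (tt N11792 F69394) (tt N12382 (iv F71583)) (tt N12390 D18277) (tt N11198 F69395) (tt N12371 (iv F71548)) (tt N11792 F69396) (tt N11552 F69397))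
theorem Q11794 : ∀ i, i < 11794 → P i := stepQ 11793 Q11793 (allL N11793 (tt N11256 F69398) (tt N12390 (iv F71615)) (tt N11197 F69399) (tt N12391 D18278) (tt N11196 (iv D17680)) (tt N11925 (iv F69808)) (tt N11860 (iv F69596)) (tt N11793 F69400) (tt N11553 F69401))
theorem Q11795 : ∀ i, i < 11795 → P i := stepQ 11794 Q11794 (allL N11794 (tt N11198 (iv D17681)) (tt N11257 F69402) (tt N11794 F69403) (tt N12385 (iv F71598)) (tt N11926 (iv F69814)) (tt N12389 (iv F71610)) (tt N12131 (iv F70672)) (tt N11794 F69404) (tt N11554 F69405))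
theorem Q11796 : ∀ i, i < 11796 → P i := stepQ 11795 Q11795 (allL N11795 (tt N12059 (iv F70419)) (tt N11939 (iv F69889)) (tt N12072 (iv F70482)) (tt N11199 (iv D17682)) (tt N11239 F69406) (tt N12392 D18279) (tt N12045 (iv F70357)) (tt N12393 D18280) (tt N11214 F69407))
theorem Q11797 : ∀ i, i < 11797 → P i := stepQ 11796 Q11796 (allL N11796 (tt N12174 (iv F70839)) (tt N11940 (iv F69894)) (tt N11200 F69408) (tt N12392 (iv F71624)) (tt N12053 (iv F70390)) (tt N11199 (iv D17683)) (tt N12394 D18281) (tt N12377 (iv F71567)) (tt N11215 F69409))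
theorem Q11798 : ∀ i, i < 11798 → P i := stepQ 11797 Q11797 (allL N11797 (tt N12175 (iv F70843)) (tt N11207 F69410) (tt N12394 (iv F71627)) (tt N12074 (iv F70492)) (tt N12054 (iv F70394)) (tt N12177 (iv F70853)) (tt N11200 (iv D17684)) (tt N12378 (iv F71570)) (tt N11216 F69411))
theorem Q11799 : ∀ i, i < 11799 → P i := stepQ 11798 Q11798 (allL N11798 (tt N11262 F69412) (tt N12395 D18282) (tt N11201 (iv D17685)) (tt N11798 F69413) (tt N12396 D18283) (tt N11912 (iv F69746)) (tt N12297 (iv F71285)) (tt N11221 F69414) (tt N11202 F69415))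
theorem Q11800 : ∀ i, i < 11800 → P i := stepQ 11799 Q11799 (allL N11799 (tt N11263 F69416) (tt N11919 (iv F69781)) (tt N12396 (iv F71633)) (tt N12154 (iv F70780)) (tt N11201 (iv D17686)) (tt N12397 D18284) (tt N12298 (iv F71291)) (tt N11222 F69417) (tt N11203 F69418))
theorem Q11801 : ∀ i, i < 11801 → P i := stepQ 11800 Q11800 (allL N11800 (tt N12136 (iv F70689)) (tt N11202 (iv D17687)) (tt N12063 (iv F70442)) (tt N11800 F69419) (tt N12398 D18285) (tt N12056 (iv F70407)) (tt N12299 (iv F71298)) (tt N11204 F69420) (tt N12395 (iv F71631)))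
theorem Q11802 : ∀ i, i < 11802 → P i := stepQ 11801 Q11801 (allL N11801 (tt N11264 F69421) (tt N12398 (iv F71639)) (tt N11203 F69422) (tt N12399 D18286) (tt N11202 (iv D17688)) (tt N12400 D18287) (tt N12300 (iv F71302)) (tt N11205 F69423) (tt N12396 (iv F71635)))
theorem Q11803 : ∀ i, i < 11803 → P i := stepQ 11802 Q11802 (allL N11802 (tt N11265 F69424) (tt N12065 (iv F70452)) (tt N12400 (iv F71644)) (tt N12381 (iv F71579)) (tt N12058 (iv F70417)) (tt N11203 (iv D17689)) (tt N12401 D18288) (tt N11206 F69425) (tt N12397 (iv F71638)))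
theorem Q11804 : ∀ i, i < 11804 → P i := stepQ 11803 Q11803 (allL N11803 (tt N12102 (iv F70593)) (tt N11205 F69426) (tt N12071 (iv F70476)) (tt N11951 (iv F69947)) (tt N11204 (iv D17690)) (tt N12402 D18289) (tt N12302 (iv F71310)) (tt N12398 (iv F71640)) (tt N11229 F69427))
theorem Q11805 : ∀ i, i < 11805 → P i := stepQ 11804 Q11804 (allL N11804 (tt N11268 F69428) (tt N12402 (iv F71648)) (tt N11206 F69429) (tt N11952 (iv F69952)) (tt N12060 (iv F70428)) (tt N11205 (iv D17691)) (tt N12403 D18290) (tt N12400 (iv F71645)) (tt N11230 F69430))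
theorem Q11806 : ∀ i, i < 11806 → P i := stepQ 11805 Q11805 (allL N11805 (tt N11269 F69431) (tt N12074 (iv F70491)) (tt N12403 (iv F71651)) (tt N11207 F69432) (tt N12061 (iv F70433)) (tt N12304 (iv F71317)) (tt N11206 (iv D17692)) (tt N12401 (iv F71647)) (tt N11231 F69433))
theorem Q11807 : ∀ i, i < 11807 → P i := stepQ 11806 Q11806 (allL N11806 (tt N11998 (iv F70160)) (tt N12404 D18291) (tt N11208 (iv D17693)) (tt N11806 F69434) (tt N12405 D18292) (tt N11916 (iv F69764)) (tt N12202 (iv F70952)) (tt N11918 (iv F69778)) (tt N11209 F69435))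
theorem Q11808 : ∀ i, i < 11808 → P i := stepQ 11807 Q11807 (allL N11807 (tt N11999 (iv F70167)) (tt N11222 F69436) (tt N12405 (iv F71656)) (tt N11601 F69437) (tt N11208 (iv D17694)) (tt N12406 D18293) (tt N12203 (iv F70958)) (tt N11919 (iv F69783)) (tt N11210 F69438))
theorem Q11809 : ∀ i, i < 11809 → P i := stepQ 11808 Q11808 (allL N11808 (tt N12299 (iv F71294)) (tt N11209 (iv D17695)) (tt N11223 F69439) (tt N11808 F69440) (tt N12407 D18294) (tt N12013 (iv F70226)) (tt N12136 (iv F70694)) (tt N11211 F69441) (tt N12404 (iv F71655)))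
theorem Q11810 : ∀ i, i < 11810 → P i := stepQ 11809 Q11809 (allL N11809 (tt N12191 (iv F70904)) (tt N12407 (iv F71661)) (tt N11210 F69442) (tt N12408 D18295) (tt N11209 (iv D17696)) (tt N12409 D18296) (tt N12204 (iv F70962)) (tt N11212 F69443) (tt N12405 (iv F71657)))
theorem Q11811 : ∀ i, i < 11811 → P i := stepQ 11810 Q11810 (allL N11810 (tt N12192 (iv F70909)) (tt N11225 F69444) (tt N12409 (iv F71666)) (tt N11603 F69445) (tt N12015 (iv F70234)) (tt N11210 (iv D17697)) (tt N12410 D18297) (tt N11213 F69446) (tt N12406 (iv F71660)))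
theorem Q11812 : ∀ i, i < 11812 → P i := stepQ 11811 Q11811 (allL N11811 (tt N12302 (iv F71306)) (tt N11212 F69447) (tt N11229 F69448) (tt N12100 (iv F70585)) (tt N11211 (iv D17698)) (tt N12411 D18298) (tt N12102 (iv F70597)) (tt N12407 (iv F71663)) (tt N12071 (iv F70479)))
theorem Q11813 : ∀ i, i < 11813 → P i := stepQ 11812 Q11812 (allL N11812 (tt N12016 (iv F70236)) (tt N12100 (iv F70583)) (tt N11214 F69449) (tt N11212 (iv D17699)) (tt N11240 F69450) (tt N12412 D18299) (tt N12048 (iv F70369)) (tt N12413 D18300) (tt N12072 (iv F70485)))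
theorem Q11814 : ∀ i, i < 11814 → P i := stepQ 11813 Q11813 (allL N11813 (tt N12193 (iv F70912)) (tt N12411 (iv F71671)) (tt N11213 F69451) (tt N12412 (iv F71674)) (tt N12017 (iv F70244)) (tt N11212 (iv D17700)) (tt N12414 D18301) (tt N12409 (iv F71667)) (tt N12073 (iv F70489)))
theorem Q11815 : ∀ i, i < 11815 → P i := stepQ 11814 Q11814 (allL N11814 (tt N12194 (iv F70916)) (tt N11231 F69452) (tt N12414 (iv F71677)) (tt N11216 F69453) (tt N12018 (iv F70248)) (tt N12207 (iv F70974)) (tt N11213 (iv D17701)) (tt N12410 (iv F71670)) (tt N12074 (iv F70494)))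
theorem Q11816 : ∀ i, i < 11816 → P i := stepQ 11815 Q11815 (allL N11815 (tt N12195 (iv F70921)) (tt N11971 (iv F70042)) (tt N12412 (iv F71673)) (tt N11215 F69454) (tt N12415 D18302) (tt N11214 (iv D17702)) (tt N12416 D18303) (tt N12417 D18304) (tt N12392 (iv F71625)))
theorem Q11817 : ∀ i, i < 11817 → P i := stepQ 11816 Q11816 (allL N11816 (tt N12196 (iv F70925)) (tt N11972 (iv F70047)) (tt N12413 (iv F71675)) (tt N11609 F69455) (tt N11241 F69456) (tt N12417 (iv F71683)) (tt N12112 (iv F70623)) (tt N11214 (iv D17703)) (tt N12418 D18305))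
theorem Q11818 : ∀ i, i < 11818 → P i := stepQ 11817 Q11817 (allL N11817 (tt N12197 (iv F70930)) (tt N11973 (iv F70051)) (tt N11216 F69457) (tt N12416 (iv F71681)) (tt N12142 (iv F70724)) (tt N12208 (iv F70977)) (tt N11215 (iv D17704)) (tt N11610 F69458) (tt N12394 (iv F71628)))
theorem Q11819 : ∀ i, i < 11819 → P i := stepQ 11818 Q11818 (allL N11818 (tt N11271 F69459) (tt N11945 (iv F69917)) (tt N11487 F69460) (tt N11220 F69461) (tt N11217 (iv D17705)) (tt N12419 D18306) (tt N11995 (iv F70149)) (tt N11755 F69462) (tt N11937 (iv F69881)))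
theorem Q11820 : ∀ i, i < 11820 → P i := stepQ 11819 Q11819 (allL N11819 (tt N11274 F69463) (tt N12238 (iv F71082)) (tt N11218 (iv D17706)) (tt N11232 F69464) (tt N12420 D18307) (tt N11221 F69465) (tt N12021 (iv F70262)) (tt N11912 (iv F69748)) (tt N11219 F69466))
theorem Q11821 : ∀ i, i < 11821 → P i := stepQ 11820 Q11820 (allL N11820 (tt N11275 F69467) (tt N11917 (iv F69769)) (tt N12420 (iv F71693)) (tt N11937 (iv F69878)) (tt N11218 (iv D17707)) (tt N12421 D18308) (tt N12022 (iv F70269)) (tt N11913 (iv F69754)) (tt N11220 F69468))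
theorem Q11822 : ∀ i, i < 11822 → P i := stepQ 11821 Q11821 (allL N11821 (tt N11277 F69469) (tt N12196 (iv F70926)) (tt N11220 F69470) (tt N11492 F69471) (tt N11219 (iv D17708)) (tt N12422 D18309) (tt N12023 (iv F70276)) (tt N11226 F69472) (tt N12420 (iv F71695)))
theorem Q11823 : ∀ i, i < 11823 → P i := stepQ 11822 Q11822 (allL N11822 (tt N11278 F69473) (tt N12015 (iv F70233)) (tt N12422 (iv F71700)) (tt N12419 (iv F71689)) (tt N11225 F69474) (tt N11220 (iv D17709)) (tt N12423 D18310) (tt N11227 F69475) (tt N12421 (iv F71698)))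
theorem Q11824 : ∀ i, i < 11824 → P i := stepQ 11823 Q11823 (allL N11823 (tt N12424 D18311) (tt N11221 (iv D17710)) (tt N12404 (iv F71653)) (tt N11233 F69476) (tt N12425 D18312) (tt N12238 (iv F71084)) (tt N12337 (iv F71431)) (tt N12395 (iv F71630)) (tt N11223 F69477))
theorem Q11825 : ∀ i, i < 11825 → P i := stepQ 11824 Q11824 (allL N11824 (tt N11280 F69478) (tt N12425 (iv F71711)) (tt N11222 F69479) (tt N12426 D18313) (tt N11221 (iv D17711)) (tt N12427 D18314) (tt N12338 (iv F71436)) (tt N12396 (iv F71634)) (tt N11224 F69480))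
theorem Q11826 : ∀ i, i < 11826 → P i := stepQ 11825 Q11825 (allL N11825 (tt N11281 F69481) (tt N12406 (iv F71658)) (tt N12427 (iv F71719)) (tt N11617 F69482) (tt N12421 (iv F71697)) (tt N11222 (iv D17712)) (tt N12428 D18315) (tt N12397 (iv F71637)) (tt N11225 F69483))
theorem Q11827 : ∀ i, i < 11827 → P i := stepQ 11826 Q11826 (allL N11826 (tt N11223 (iv D17713)) (tt N11282 F69484) (tt N12299 (iv F71295)) (tt N11235 F69485) (tt N12429 D18316) (tt N11241 F69486) (tt N12063 (iv F70445)) (tt N11228 F69487) (tt N12424 (iv F71710)))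
theorem Q11828 : ∀ i, i < 11828 → P i := stepQ 11827 Q11827 (allL N11827 (tt N12429 (iv F71724)) (tt N11224 F69488) (tt N12407 (iv F71662)) (tt N12430 D18317) (tt N11223 (iv D17714)) (tt N12431 D18318) (tt N12340 (iv F71443)) (tt N11229 F69489) (tt N12425 (iv F71712)))
theorem Q11829 : ∀ i, i < 11829 → P i := stepQ 11828 Q11828 (allL N11828 (tt N11284 F69490) (tt N12430 (iv F71727)) (tt N11618 F69491) (tt N11224 (iv D17715)) (tt N11237 F69492) (tt N12432 D18319) (tt N11674 F69493) (tt N11651 F69494) (tt N12426 (iv F71717)))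
theorem Q11830 : ∀ i, i < 11830 → P i := stepQ 11829 Q11829 (allL N11829 (tt N11285 F69495) (tt N12431 (iv F71731)) (tt N11225 F69496) (tt N12432 (iv F71735)) (tt N12422 (iv F71702)) (tt N11224 (iv D17716)) (tt N12433 D18320) (tt N11230 F69497) (tt N12427 (iv F71720)))
theorem Q11831 : ∀ i, i < 11831 → P i := stepQ 11830 Q11830 (allL N11830 (tt N11286 F69498) (tt N12410 (iv F71668)) (tt N12433 (iv F71739)) (tt N11620 F69499) (tt N12423 (iv F71705)) (tt N12342 (iv F71451)) (tt N11225 (iv D17717)) (tt N11231 F69500) (tt N12428 (iv F71723)))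
theorem Q11832 : ∀ i, i < 11832 → P i := stepQ 11831 Q11831 (allL N11831 (tt N11291 F69501) (tt N12195 (iv F70922)) (tt N11227 F69502) (tt N12138 (iv F70705)) (tt N11230 F69503) (tt N11226 (iv D17718)) (tt N12434 D18321) (tt N12422 (iv F71703)) (tt N12060 (iv F70429)))
theorem Q11833 : ∀ i, i < 11833 → P i := stepQ 11832 Q11832 (allL N11832 (tt N11292 F69504) (tt N12018 (iv F70246)) (tt N12434 (iv F71742)) (tt N12012 (iv F70220)) (tt N11231 F69505) (tt N12027 (iv F70294)) (tt N11227 (iv D17719)) (tt N12423 (iv F71706)) (tt N12061 (iv F70435)))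
theorem Q11834 : ∀ i, i < 11834 → P i := stepQ 11833 Q11833 (allL N11833 (tt N11229 F69506) (tt N11293 F69507) (tt N12302 (iv F71308)) (tt N11986 (iv F70105)) (tt N11228 (iv D17720)) (tt N12415 (iv F71680)) (tt N12071 (iv F70478)) (tt N12429 (iv F71726)) (tt N12102 (iv F70598)))
theorem Q11835 : ∀ i, i < 11835 → P i := stepQ 11834 Q11834 (allL N11834 (tt N12415 (iv F71678)) (tt N11230 F69508) (tt N12411 (iv F71672)) (tt N11987 (iv F70110)) (tt N12195 (iv F70924)) (tt N11229 (iv D17721)) (tt N12435 D18322) (tt N12431 (iv F71732)) (tt N12402 (iv F71649)))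
theorem Q11836 : ∀ i, i < 11836 → P i := stepQ 11835 Q11835 (allL N11835 (tt N11295 F69509) (tt N12435 (iv F71744)) (tt N11231 F69510) (tt N11988 (iv F70114)) (tt N12434 (iv F71743)) (tt N12346 (iv F71462)) (tt N11230 (iv D17722)) (tt N12433 (iv F71740)) (tt N12403 (iv F71652)))
theorem Q11837 : ∀ i, i < 11837 → P i := stepQ 11836 Q11836 (allL N11836 (tt N11233 (iv D17723)) (tt N11300 F69511) (tt N11836 F69512) (tt N12424 (iv F71708)) (tt N12436 D18323) (tt N11242 F69513) (tt N11924 (iv F69803)) (tt N11836 F69514) (tt N11235 F69515))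
theorem Q11838 : ∀ i, i < 11838 → P i := stepQ 11837 Q11837 (allL N11837 (tt N12436 (iv F71745)) (tt N11234 F69516) (tt N11837 F69517) (tt N12437 D18324) (tt N11233 (iv D17724)) (tt N11514 F69518) (tt N11778 F69519) (tt N11837 F69520) (tt N11236 F69521))
theorem Q11839 : ∀ i, i < 11839 → P i := stepQ 11838 Q11838 (allL N11838 (tt N11302 F69522) (tt N12437 (iv F71752)) (tt N11625 F69523) (tt N11234 (iv D17725)) (tt N12426 (iv F71715)) (tt N11515 F69524) (tt N11671 F69525) (tt N12264 (iv F71185)) (tt N11237 F69526))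
theorem Q11840 : ∀ i, i < 11840 → P i := stepQ 11839 Q11839 (allL N11839 (tt N11236 F69527) (tt N11303 F69528) (tt N11839 F69529) (tt N12438 D18325) (tt N11235 (iv D17726)) (tt N11516 F69530) (tt N11779 F69531) (tt N11238 F69532) (tt N12436 (iv F71751)))
theorem Q11841 : ∀ i, i < 11841 → P i := stepQ 11840 Q11840 (allL N11840 (tt N12438 (iv F71756)) (tt N11237 F69533) (tt N11848 (iv F69558)) (tt N11236 (iv D17727)) (tt N12430 (iv F71728)) (tt N11517 F69534) (tt N11673 F69535) (tt N11650 F69536) (tt N12437 (iv F71755)))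
theorem Q11842 : ∀ i, i < 11842 → P i := stepQ 11841 Q11841 (allL N11841 (tt N12056 (iv F70404)) (tt N11989 (iv F70116)) (tt N12066 (iv F70456)) (tt N11841 F69537) (tt N12393 (iv F71626)) (tt N12136 (iv F70693)) (tt N12033 (iv F70319)) (tt N11239 (iv D17728)) (tt N12439 D18326))
theorem Q11843 : ∀ i, i < 11843 → P i := stepQ 11842 Q11842 (allL N11842 (tt N12013 F70229) (tt N12087 (iv F70544)) (tt N11241 F69538) (tt N11842 F69539) (tt N12413 (iv F71676)) (tt N12299 (iv F71297)) (tt N12039 (iv F70338)) (tt N11240 (iv D17729)) (tt N12440 D18327))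
theorem Q11844 : ∀ i, i < 11844 → P i := stepQ 11843 Q11843 (allL N11843 (tt N12238 (iv F71081)) (tt N11706 F69540) (tt N12440 (iv F71765)) (tt N11242 F69541) (tt N12418 (iv F71686)) (tt N12424 (iv F71709)) (tt N12109 (iv F70615)) (tt N12439 (iv F71763)) (tt N11241 (iv D17730)))
theorem Q11845 : ∀ i, i < 11845 → P i := stepQ 11844 Q11844 (allL N11844 (tt N11780 F69542) (tt N12135 (iv F70685)) (tt N11243 (iv D17731)) (tt N11844 F69543) (tt N12441 D18328) (tt N11245 F69544) (tt N11540 F69545) (tt N11248 F69546) (tt N12149 (iv F70757)))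
theorem Q11846 : ∀ i, i < 11846 → P i := stepQ 11845 Q11845 (allL N11845 (tt N11781 F69547) (tt N11534 F69548) (tt N12441 (iv F71768)) (tt N11533 F69549) (tt N11243 (iv D17732)) (tt N12442 D18329) (tt N11541 F69550) (tt N11249 F69551) (tt N12150 (iv F70762)))
theorem Q11847 : ∀ i, i < 11847 → P i := stepQ 11846 Q11846 (allL N11846 (tt N12153 (iv F70772)) (tt N12443 D18330) (tt N11244 (iv D17733)) (tt N11846 F69552) (tt N12444 D18331) (tt N12149 (iv F70755)) (tt N12264 (iv F71184)) (tt N11671 F69553) (tt N11245 F69554))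
theorem Q11848 : ∀ i, i < 11848 → P i := stepQ 11847 Q11847 (allL N11847 (tt N12154 (iv F70778)) (tt N12231 (iv F71053)) (tt N12444 (iv F71780)) (tt N11263 F69555) (tt N11244 (iv D17734)) (tt N12445 D18332) (tt N12265 (iv F71190)) (tt N11672 F69556) (tt N11246 F69557))
theorem Q11849 : ∀ i, i < 11849 → P i := stepQ 11848 Q11848 (allL N11848 (tt N12446 D18333) (tt N11245 (iv D17735)) (tt N11840 F69558) (tt N11848 F69559) (tt N12447 D18334) (tt N12135 (iv F70687)) (tt N12266 (iv F71195)) (tt N11250 F69560) (tt N12443 (iv F71779)))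
theorem Q11850 : ∀ i, i < 11850 → P i := stepQ 11849 Q11849 (allL N11849 (tt N12380 (iv F71575)) (tt N12447 (iv F71789)) (tt N11246 F69561) (tt N12448 D18335) (tt N11245 (iv D17736)) (tt N12449 D18336) (tt N12267 (iv F71198)) (tt N11251 F69562) (tt N12444 (iv F71782)))
theorem Q11851 : ∀ i, i < 11851 → P i := stepQ 11850 Q11850 (allL N11850 (tt N12381 (iv F71578)) (tt N12234 (iv F71065)) (tt N12449 (iv F71794)) (tt N11265 F69563) (tt N12442 (iv F71774)) (tt N11246 (iv D17737)) (tt N12450 D18337) (tt N11252 F69564) (tt N12445 (iv F71785)))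
theorem Q11852 : ∀ i, i < 11852 → P i := stepQ 11851 Q11851 (allL N11851 (tt N12275 (iv F71226)) (tt N11861 (iv F69599)) (tt N11247 (iv D17738)) (tt N11254 F69565) (tt N12451 D18338) (tt N11772 F69566) (tt N11248 F69567) (tt N11540 F69568) (tt N11676 F69569))
theorem Q11853 : ∀ i, i < 11853 → P i := stepQ 11852 Q11852 (allL N11852 (tt N12276 (iv F71232)) (tt N11545 F69570) (tt N12451 (iv F71798)) (tt N11561 F69571) (tt N11247 (iv D17739)) (tt N12452 D18339) (tt N11249 F69572) (tt N11541 F69573) (tt N11677 F69574))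
theorem Q11854 : ∀ i, i < 11854 → P i := stepQ 11853 Q11853 (allL N11853 (tt N12453 D18340) (tt N11248 (iv D17740)) (tt N11304 F69575) (tt N11255 F69576) (tt N12454 D18341) (tt N11250 F69577) (tt N11861 (iv F69601)) (tt N12135 (iv F70688)) (tt N11678 F69578))
theorem Q11855 : ∀ i, i < 11855 → P i := stepQ 11854 Q11854 (allL N11854 (tt N12383 (iv F71587)) (tt N12454 (iv F71811)) (tt N11249 F69579) (tt N12455 D18342) (tt N11248 (iv D17741)) (tt N12456 D18343) (tt N12451 (iv F71799)) (tt N12441 (iv F71770)) (tt N11679 F69580))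
theorem Q11856 : ∀ i, i < 11856 → P i := stepQ 11855 Q11855 (allL N11855 (tt N12384 (iv F71591)) (tt N11764 F69581) (tt N12456 (iv F71820)) (tt N11763 F69582) (tt N11252 F69583) (tt N11249 (iv D17742)) (tt N12457 D18344) (tt N12442 (iv F71775)) (tt N11680 F69584))
theorem Q11857 : ∀ i, i < 11857 → P i := stepQ 11856 Q11856 (allL N11856 (tt N11250 (iv D17743)) (tt N12385 (iv F71597)) (tt N12256 (iv F71150)) (tt N11257 F69585) (tt N12458 D18345) (tt N12453 (iv F71808)) (tt N12270 (iv F71209)) (tt N12446 (iv F71788)) (tt N11681 F69586))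
theorem Q11858 : ∀ i, i < 11858 → P i := stepQ 11857 Q11857 (allL N11857 (tt N12458 (iv F71827)) (tt N11251 F69587) (tt N12257 (iv F71155)) (tt N12007 (iv F70201)) (tt N11250 (iv D17744)) (tt N12459 D18346) (tt N12271 (iv F71213)) (tt N12447 (iv F71791)) (tt N11682 F69588))
theorem Q11859 : ∀ i, i < 11859 → P i := stepQ 11858 Q11858 (allL N11858 (tt N12387 (iv F71602)) (tt N12459 (iv F71829)) (tt N11252 F69589) (tt N12008 (iv F70204)) (tt N12456 (iv F71821)) (tt N11251 (iv D17745)) (tt N12460 D18347) (tt N12449 (iv F71795)) (tt N11683 F69590))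
theorem Q11860 : ∀ i, i < 11860 → P i := stepQ 11859 Q11859 (allL N11859 (tt N12388 (iv F71605)) (tt N12259 (iv F71162)) (tt N12460 (iv F71831)) (tt N11253 F69591) (tt N12457 (iv F71825)) (tt N12273 (iv F71219)) (tt N11252 (iv D17746)) (tt N12450 (iv F71797)) (tt N11684 F69592))
theorem Q11861 : ∀ i, i < 11861 → P i := stepQ 11860 Q11860 (allL N11860 (tt N11255 (iv D17747)) (tt N12389 (iv F71608)) (tt N11305 F69593) (tt N12453 (iv F71807)) (tt N11776 F69594) (tt N11257 F69595) (tt N11793 F69596) (tt N11860 F69597) (tt N11685 F69598))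
theorem Q11862 : ∀ i, i < 11862 → P i := stepQ 11861 Q11861 (allL N11861 (tt N12391 (iv F71621)) (tt N11851 F69599) (tt N11773 F69600) (tt N11256 (iv D17748)) (tt N12455 (iv F71817)) (tt N12010 (iv F70208)) (tt N11853 F69601) (tt N12155 (iv F70785)) (tt N11686 F69602))
theorem Q11863 : ∀ i, i < 11863 → P i := stepQ 11862 Q11862 (allL N11862 (tt N11436 F69603) (tt N11634 F69604) (tt N11258 (iv D17749)) (tt N11862 F69605) (tt N12461 D18348) (tt N11532 F69606) (tt N11572 F69607) (tt N11343 F69608) (tt N11910 (iv F69737)))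
theorem Q11864 : ∀ i, i < 11864 → P i := stepQ 11863 Q11863 (allL N11863 (tt N11437 F69609) (tt N11531 F69610) (tt N12461 (iv F71835)) (tt N11261 F69611) (tt N11258 (iv D17750)) (tt N12462 D18349) (tt N11573 F69612) (tt N11344 F69613) (tt N11911 (iv F69743)))
theorem Q11865 : ∀ i, i < 11865 → P i := stepQ 11864 Q11864 (allL N11864 (tt N11912 (iv F69744)) (tt N12211 (iv F70991)) (tt N11259 (iv D17751)) (tt N11864 F69614) (tt N12463 D18350) (tt N11262 F69615) (tt N12078 (iv F70506)) (tt N11274 F69616) (tt N11260 F69617))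
theorem Q11866 : ∀ i, i < 11866 → P i := stepQ 11865 Q11865 (allL N11865 (tt N11913 (iv F69750)) (tt N11993 (iv F70136)) (tt N12463 (iv F71843)) (tt N11911 (iv F69740)) (tt N11259 (iv D17752)) (tt N12464 D18351) (tt N12079 (iv F70512)) (tt N11275 F69618) (tt N11261 F69619))
theorem Q11867 : ∀ i, i < 11867 → P i := stepQ 11866 Q11866 (allL N11866 (tt N12057 (iv F70410)) (tt N12213 (iv F71003)) (tt N11261 F69620) (tt N12465 D18352) (tt N11260 (iv D17753)) (tt N12466 D18353) (tt N12080 (iv F70517)) (tt N11266 F69621) (tt N12463 (iv F71845)))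
theorem Q11868 : ∀ i, i < 11868 → P i := stepQ 11867 Q11867 (allL N11867 (tt N12058 (iv F70414)) (tt N12229 (iv F71044)) (tt N12466 (iv F71850)) (tt N12462 (iv F71840)) (tt N11265 F69622) (tt N11261 (iv D17754)) (tt N12467 D18354) (tt N11267 F69623) (tt N12464 (iv F71848)))
theorem Q11869 : ∀ i, i < 11869 → P i := stepQ 11868 Q11868 (allL N11868 (tt N12396 (iv F71632)) (tt N12215 (iv F71009)) (tt N11263 F69624) (tt N12468 D18355) (tt N11262 (iv D17755)) (tt N12469 D18356) (tt N12310 (iv F71341)) (tt N11280 F69625) (tt N11264 F69626))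
theorem Q11870 : ∀ i, i < 11870 → P i := stepQ 11869 Q11869 (allL N11869 (tt N12397 (iv F71636)) (tt N12232 (iv F71058)) (tt N12469 (iv F71857)) (tt N12445 (iv F71783)) (tt N12464 (iv F71846)) (tt N11263 (iv D17756)) (tt N12470 D18357) (tt N11281 F69627) (tt N11265 F69628))
theorem Q11871 : ∀ i, i < 11871 → P i := stepQ 11870 Q11870 (allL N11870 (tt N12399 (iv F71641)) (tt N12217 (iv F71015)) (tt N12448 (iv F71792)) (tt N11264 (iv D17757)) (tt N11870 F69629) (tt N12471 D18358) (tt N12312 (iv F71348)) (tt N12041 (iv F70344)) (tt N12468 (iv F71856)))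
theorem Q11872 : ∀ i, i < 11872 → P i := stepQ 11871 Q11871 (allL N11871 (tt N12400 (iv F71643)) (tt N12218 (iv F71017)) (tt N11265 F69630) (tt N12471 (iv F71862)) (tt N12466 (iv F71851)) (tt N11264 (iv D17758)) (tt N12472 D18359) (tt N11268 F69631) (tt N12469 (iv F71859)))
theorem Q11873 : ∀ i, i < 11873 → P i := stepQ 11872 Q11872 (allL N11872 (tt N12401 (iv F71646)) (tt N12235 (iv F71070)) (tt N12472 (iv F71863)) (tt N12450 (iv F71796)) (tt N12467 (iv F71853)) (tt N12314 (iv F71352)) (tt N11265 (iv D17759)) (tt N11269 F69632) (tt N12470 (iv F71861)))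
theorem Q11874 : ∀ i, i < 11874 → P i := stepQ 11873 Q11873 (allL N11873 (tt N12060 (iv F70425)) (tt N12220 (iv F71022)) (tt N11267 F69633) (tt N12189 (iv F70900)) (tt N11268 F69634) (tt N11266 (iv D17760)) (tt N12473 D18360) (tt N12466 (iv F71852)) (tt N11291 F69635))
theorem Q11875 : ∀ i, i < 11875 → P i := stepQ 11874 Q11874 (allL N11874 (tt N12061 (iv F70430)) (tt N12237 (iv F71077)) (tt N12473 (iv F71865)) (tt N12055 (iv F70399)) (tt N11269 F69636) (tt N12084 (iv F70531)) (tt N11267 (iv D17761)) (tt N12467 (iv F71854)) (tt N11292 F69637))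
theorem Q11876 : ∀ i, i < 11876 → P i := stepQ 11875 Q11875 (allL N11875 (tt N12403 (iv F71650)) (tt N12222 (iv F71028)) (tt N11269 F69638) (tt N12050 (iv F70376)) (tt N12473 (iv F71866)) (tt N12317 (iv F71361)) (tt N11268 (iv D17762)) (tt N12472 (iv F71864)) (tt N11295 F69639))
theorem Q11877 : ∀ i, i < 11877 → P i := stepQ 11876 Q11876 (allL N11876 (tt N11487 F69640) (tt N11975 (iv F70060)) (tt N11271 F69641) (tt N11365 F69642) (tt N11270 (iv D17763)) (tt N12474 D18361) (tt N12182 (iv F70873)) (tt N11611 F69643) (tt N11967 (iv F70027)))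
theorem Q11878 : ∀ i, i < 11878 → P i := stepQ 11877 Q11877 (allL N11877 (tt N12419 (iv F71687)) (tt N12326 (iv F71384)) (tt N12474 (iv F71869)) (tt N11278 F69644) (tt N11756 F69645) (tt N11271 (iv D17764)) (tt N12475 D18362) (tt N12252 (iv F71135)) (tt N12327 (iv F71391)))
theorem Q11879 : ∀ i, i < 11879 → P i := stepQ 11878 Q11878 (allL N11878 (tt N12023 (iv F70272)) (tt N11884 (iv F69663)) (tt N11273 F69646) (tt N11883 (iv F69660)) (tt N11272 (iv D17765)) (tt N12476 D18363) (tt N11277 F69647) (tt N11287 F69648) (tt N12325 (iv F71383)))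
theorem Q11880 : ∀ i, i < 11880 → P i := stepQ 11879 Q11879 (allL N11879 (tt N12024 (iv F70278)) (tt N12327 (iv F71387)) (tt N12476 (iv F71875)) (tt N12328 (iv F71393)) (tt N12349 (iv F71472)) (tt N11273 (iv D17766)) (tt N12477 D18364) (tt N11288 F69649) (tt N12326 (iv F71386)))
theorem Q11881 : ∀ i, i < 11881 → P i := stepQ 11880 Q11880 (allL N11880 (tt N11706 (iv F69654)) (tt N11274 (iv D17767)) (tt N11565 F69650) (tt N11297 F69651) (tt N12478 D18365) (tt N11279 F69652) (tt N11905 (iv F69716)) (tt N12211 (iv F70995)) (tt N11276 F69653))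
theorem Q11882 : ∀ i, i < 11882 → P i := stepQ 11881 Q11881 (allL N11881 (tt N12420 (iv F71692)) (tt N12478 (iv F71880)) (tt N11275 F69655) (tt N12479 D18366) (tt N11274 (iv D17768)) (tt N12480 D18367) (tt N12325 (iv F71382)) (tt N12463 (iv F71844)) (tt N11277 F69656))
theorem Q11883 : ∀ i, i < 11883 → P i := stepQ 11882 Q11882 (allL N11882 (tt N12421 (iv F71696)) (tt N12328 (iv F71392)) (tt N12480 (iv F71890)) (tt N12327 (iv F71388)) (tt N11281 F69657) (tt N11275 (iv D17769)) (tt N12481 D18368) (tt N12464 (iv F71847)) (tt N11278 F69658))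
theorem Q11884 : ∀ i, i < 11884 → P i := stepQ 11883 Q11883 (allL N11883 (tt N11972 (iv F70046)) (tt N11277 F69659) (tt N11974 (iv F70056)) (tt N11878 F69660) (tt N11276 (iv D17770)) (tt N12482 D18369) (tt N11884 (iv F69666)) (tt N11289 F69661) (tt N12478 (iv F71883)))
theorem Q11885 : ∀ i, i < 11885 → P i := stepQ 11884 Q11884 (allL N11884 (tt N11492 F69662) (tt N11878 F69663) (tt N11365 F69664) (tt N11277 (iv D17771)) (tt N11299 F69665) (tt N12483 D18370) (tt N11883 F69666) (tt N11372 (iv F69667)) (tt N12479 (iv F71889)))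
theorem Q11886 : ∀ i, i < 11886 → P i := stepQ 11885 Q11885 (allL N11885 (tt N12422 (iv F71699)) (tt N12482 (iv F71895)) (tt N11278 F69668) (tt N12483 (iv F71902)) (tt N11285 F69669) (tt N11277 (iv D17772)) (tt N12484 D18371) (tt N11291 F69670) (tt N12480 (iv F71892)))
theorem Q11887 : ∀ i, i < 11887 → P i := stepQ 11886 Q11886 (allL N11886 (tt N12423 (iv F71704)) (tt N12329 (iv F71396)) (tt N12484 (iv F71905)) (tt N12475 (iv F71873)) (tt N11286 F69671) (tt N12477 (iv F71877)) (tt N11278 (iv D17773)) (tt N11292 F69672) (tt N12481 (iv F71894)))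
theorem Q11888 : ∀ i, i < 11888 → P i := stepQ 11887 Q11887 (allL N11887 (tt N11279 (iv D17774)) (tt N12424 (iv F71707)) (tt N11667 F69673) (tt N11300 F69674) (tt N12485 D18372) (tt N11706 F69675) (tt N11918 (iv F69777)) (tt N12202 (iv F70953)) (tt N11282 F69676))
theorem Q11889 : ∀ i, i < 11889 → P i := stepQ 11888 Q11888 (allL N11888 (tt N12485 (iv F71908)) (tt N11280 F69677) (tt N12003 (iv F70182)) (tt N12486 D18373) (tt N11279 (iv D17775)) (tt N12487 D18374) (tt N12004 (iv F70189)) (tt N12215 (iv F71011)) (tt N11283 F69678))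
theorem Q11890 : ∀ i, i < 11890 → P i := stepQ 11889 Q11889 (allL N11889 (tt N12426 (iv F71713)) (tt N12486 (iv F71911)) (tt N11662 F69679) (tt N11280 (iv D17776)) (tt N11302 F69680) (tt N12488 D18375) (tt N12353 (iv F71490)) (tt N12489 D18376) (tt N11284 F69681))
theorem Q11891 : ∀ i, i < 11891 → P i := stepQ 11890 Q11890 (allL N11890 (tt N12427 (iv F71718)) (tt N12487 (iv F71915)) (tt N11281 F69682) (tt N12488 (iv F71918)) (tt N12480 (iv F71891)) (tt N11280 (iv D17777)) (tt N12490 D18377) (tt N12469 (iv F71858)) (tt N11285 F69683))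
theorem Q11892 : ∀ i, i < 11892 → P i := stepQ 11891 Q11891 (allL N11891 (tt N12428 (iv F71721)) (tt N12330 (iv F71399)) (tt N12490 (iv F71923)) (tt N11762 F69684) (tt N12481 (iv F71893)) (tt N12355 (iv F71496)) (tt N11281 (iv D17778)) (tt N12470 (iv F71860)) (tt N11286 F69685))
theorem Q11893 : ∀ i, i < 11893 → P i := stepQ 11892 Q11892 (allL N11892 (tt N11283 F69686) (tt N12429 (iv F71725)) (tt N12062 (iv F70438)) (tt N12491 D18378) (tt N11282 (iv D17779)) (tt N12492 D18379) (tt N12064 (iv F70449)) (tt N11293 F69687) (tt N12485 (iv F71910)))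
theorem Q11894 : ∀ i, i < 11894 → P i := stepQ 11893 Q11893 (allL N11893 (tt N12491 (iv F71925)) (tt N11284 F69688) (tt N12454 (iv F71812)) (tt N11283 (iv D17780)) (tt N11304 F69689) (tt N12493 D18380) (tt N12356 (iv F71500)) (tt N12121 (iv F70647)) (tt N12486 (iv F71914)))
theorem Q11895 : ∀ i, i < 11895 → P i := stepQ 11894 Q11894 (allL N11894 (tt N12492 (iv F71927)) (tt N11285 F69690) (tt N12178 (iv F70856)) (tt N12493 (iv F71930)) (tt N12482 (iv F71897)) (tt N11283 (iv D17781)) (tt N12494 D18381) (tt N11294 F69691) (tt N12487 (iv F71916)))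
theorem Q11896 : ∀ i, i < 11896 → P i := stepQ 11895 Q11895 (allL N11895 (tt N12432 (iv F71733)) (tt N12493 (iv F71929)) (tt N11764 F69692) (tt N11285 F69693) (tt N12258 (iv F71161)) (tt N11284 (iv D17782)) (tt N12495 D18382) (tt N12123 (iv F70651)) (tt N12488 (iv F71920)))
theorem Q11897 : ∀ i, i < 11897 → P i := stepQ 11896 Q11896 (allL N11896 (tt N12433 (iv F71738)) (tt N12494 (iv F71931)) (tt N11286 F69694) (tt N12495 (iv F71934)) (tt N12484 (iv F71906)) (tt N12359 (iv F71511)) (tt N11285 (iv D17783)) (tt N11295 F69695) (tt N12490 (iv F71924)))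
theorem Q11898 : ∀ i, i < 11898 → P i := stepQ 11897 Q11897 (allL N11897 (tt N12026 (iv F70286)) (tt N11984 (iv F70096)) (tt N11288 F69696) (tt N12140 (iv F70715)) (tt N11987 (iv F70111)) (tt N11287 (iv D17784)) (tt N12496 D18383) (tt N12476 (iv F71876)) (tt N12083 (iv F70528)))
theorem Q11899 : ∀ i, i < 11899 → P i := stepQ 11898 Q11898 (allL N11898 (tt N12027 (iv F70291)) (tt N12331 (iv F71402)) (tt N12496 (iv F71935)) (tt N12019 (iv F70252)) (tt N12360 (iv F71514)) (tt N11292 F69697) (tt N11288 (iv D17785)) (tt N12477 (iv F71878)) (tt N12084 (iv F70532)))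
theorem Q11900 : ∀ i, i < 11900 → P i := stepQ 11899 Q11899 (allL N11899 (tt N11971 (iv F70041)) (tt N11291 F69698) (tt N11983 (iv F70091)) (tt N11965 (iv F70017)) (tt N11294 F69699) (tt N11289 (iv D17786)) (tt N12497 D18384) (tt N12482 (iv F71898)) (tt N12220 (iv F71025)))
theorem Q11901 : ∀ i, i < 11901 → P i := stepQ 11900 Q11900 (allL N11900 (tt N12138 (iv F70702)) (tt N11965 (iv F70015)) (tt N11954 (iv F69959)) (tt N11291 F69700) (tt N11959 (iv F69987)) (tt N11290 (iv D17787)) (tt N12498 D18385) (tt N12499 D18386) (tt N12189 (iv F70901)))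
theorem Q11902 : ∀ i, i < 11902 → P i := stepQ 11901 Q11901 (allL N11901 (tt N11347 F69701) (tt N11524 F69702) (tt N11346 F69703) (tt N11372 F69704) (tt N11296 F69705) (tt N12499 (iv F71945)) (tt N11354 F69706) (tt N11290 (iv D17788)) (tt N11640 (iv F69707)))
theorem Q11903 : ∀ i, i < 11903 → P i := stepQ 11902 Q11902 (allL N11902 (tt N12434 (iv F71741)) (tt N12497 (iv F71937)) (tt N11292 F69708) (tt N12498 (iv F71939)) (tt N11295 F69709) (tt N12496 (iv F71936)) (tt N11291 (iv D17789)) (tt N12484 (iv F71907)) (tt N12473 (iv F71867)))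
theorem Q11904 : ∀ i, i < 11904 → P i := stepQ 11903 Q11903 (allL N11903 (tt N11294 F69710) (tt N12415 (iv F71679)) (tt N12070 (iv F70470)) (tt N12128 (iv F70663)) (tt N11971 (iv F70045)) (tt N11293 (iv D17790)) (tt N12500 D18387) (tt N12492 (iv F71928)) (tt N12206 (iv F70970)))
theorem Q11905 : ∀ i, i < 11905 → P i := stepQ 11904 Q11904 (allL N11904 (tt N12500 (iv F71947)) (tt N11295 F69711) (tt N12179 (iv F70859)) (tt N12129 (iv F70666)) (tt N12497 (iv F71938)) (tt N12362 (iv F71520)) (tt N11294 (iv D17791)) (tt N12494 (iv F71932)) (tt N12222 (iv F71030)))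
theorem Q11906 : ∀ i, i < 11906 → P i := stepQ 11905 Q11905 (allL N11905 (tt N11489 F69712) (tt N11715 F69713) (tt N11364 F69714) (tt N11298 (iv D17792)) (tt N12479 (iv F71887)) (tt N11366 F69715) (tt N11880 F69716) (tt N12209 (iv F70983)) (tt N11299 F69717))
theorem Q11907 : ∀ i, i < 11907 → P i := stepQ 11906 Q11906 (allL N11906 (tt N11301 F69718) (tt N12436 (iv F71746)) (tt N11306 F69719) (tt N12501 D18388) (tt N11300 (iv D17793)) (tt N11769 F69720) (tt N11925 (iv F69809)) (tt N11906 F69721) (tt N11303 F69722))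
theorem Q11908 : ∀ i, i < 11908 → P i := stepQ 11907 Q11907 (allL N11907 (tt N12501 (iv F71948)) (tt N11302 F69723) (tt N11678 F69724) (tt N11301 (iv D17794)) (tt N12486 (iv F71913)) (tt N11663 F69725) (tt N12010 (iv F70209)) (tt N12502 D18389) (tt N11304 F69726))
theorem Q11909 : ∀ i, i < 11909 → P i := stepQ 11908 Q11908 (allL N11908 (tt N12264 (iv F71181)) (tt N12502 (iv F71952)) (tt N11658 F69727) (tt N11908 F69728) (tt N12489 (iv F71922)) (tt N11660 F69729) (tt N12153 (iv F70775)) (tt N11302 (iv D17795)) (tt N12133 (iv F70682)))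
theorem Q11910 : ∀ i, i < 11910 → P i := stepQ 11909 Q11909 (allL N11909 (tt N11304 F69730) (tt N12438 (iv F71757)) (tt N12453 (iv F71806)) (tt N11303 (iv D17796)) (tt N12491 (iv F71926)) (tt N12256 (iv F71152)) (tt N12130 (iv F70668)) (tt N12134 (iv F70684)) (tt N12501 (iv F71951)))
theorem Q11911 : ∀ i, i < 11911 → P i := stepQ 11910 Q11910 (allL N11910 (tt N11309 F69731) (tt N11572 F69732) (tt N11307 (iv D17797)) (tt N11910 F69733) (tt N12503 D18390) (tt N11537 F69734) (tt N11634 F69735) (tt N11326 F69736) (tt N11862 F69737))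
theorem Q11912 : ∀ i, i < 11912 → P i := stepQ 11911 Q11911 (allL N11911 (tt N11310 F69738) (tt N11385 F69739) (tt N12503 (iv F71958)) (tt N11865 F69740) (tt N11307 (iv D17798)) (tt N12504 D18391) (tt N11635 F69741) (tt N11327 F69742) (tt N11863 F69743))
theorem Q11913 : ∀ i, i < 11913 → P i := stepQ 11912 Q11912 (allL N11912 (tt N11864 F69744) (tt N12505 D18392) (tt N11308 (iv D17799)) (tt N11912 F69745) (tt N12506 D18393) (tt N11798 F69746) (tt N11475 F69747) (tt N11819 F69748) (tt N11442 F69749))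
theorem Q11914 : ∀ i, i < 11914 → P i := stepQ 11913 Q11913 (allL N11913 (tt N11865 F69750) (tt N11314 F69751) (tt N12506 (iv F71976)) (tt N11310 F69752) (tt N11308 (iv D17800)) (tt N12507 D18394) (tt N11476 F69753) (tt N11820 F69754) (tt N11443 F69755))
theorem Q11915 : ∀ i, i < 11915 → P i := stepQ 11914 Q11914 (allL N11914 (tt N12503 (iv F71956)) (tt N11782 F69756) (tt N11310 F69757) (tt N12508 D18395) (tt N11309 (iv D17801)) (tt N12509 D18396) (tt N12244 (iv F71110)) (tt N11330 F69758) (tt N12051 (iv F70382)))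
theorem Q11916 : ∀ i, i < 11916 → P i := stepQ 11915 Q11915 (allL N11915 (tt N12504 (iv F71962)) (tt N11315 F69759) (tt N12509 (iv F71989)) (tt N12507 (iv F71982)) (tt N11543 F69760) (tt N11310 (iv D17802)) (tt N12510 D18397) (tt N11331 F69761) (tt N12052 (iv F70386)))
theorem Q11917 : ∀ i, i < 11917 → P i := stepQ 11916 Q11916 (allL N11916 (tt N11390 F69762) (tt N12511 D18398) (tt N11311 (iv D17803)) (tt N11916 F69763) (tt N12512 D18399) (tt N11806 F69764) (tt N11423 F69765) (tt N11313 F69766) (tt N11403 F69767))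
theorem Q11918 : ∀ i, i < 11918 → P i := stepQ 11917 Q11917 (allL N11917 (tt N11391 F69768) (tt N11820 F69769) (tt N12512 (iv F72003)) (tt N11335 F69770) (tt N11311 (iv D17804)) (tt N12513 D18400) (tt N11424 F69771) (tt N11314 F69772) (tt N11404 F69773))
theorem Q11919 : ∀ i, i < 11919 → P i := stepQ 11918 Q11918 (allL N11918 (tt N11393 F69774) (tt N12514 D18401) (tt N11312 (iv D17805)) (tt N11316 F69775) (tt N12515 D18402) (tt N11313 F69776) (tt N11887 F69777) (tt N11806 F69778) (tt N11449 F69779))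
theorem Q11920 : ∀ i, i < 11920 → P i := stepQ 11919 Q11919 (allL N11919 (tt N11394 F69780) (tt N11799 F69781) (tt N12515 (iv F72021)) (tt N11547 F69782) (tt N11312 (iv D17806)) (tt N12516 D18403) (tt N12274 (iv F71223)) (tt N11807 F69783) (tt N11450 F69784))
theorem Q11921 : ∀ i, i < 11921 → P i := stepQ 11920 Q11920 (allL N11920 (tt N12517 D18404) (tt N11313 (iv D17807)) (tt N12505 (iv F71969)) (tt N11318 F69785) (tt N12518 D18405) (tt N12514 (iv F72016)) (tt N11494 F69786) (tt N12511 (iv F72000)) (tt N11451 F69787))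
theorem Q11922 : ∀ i, i < 11922 → P i := stepQ 11921 Q11921 (allL N11921 (tt N11396 F69788) (tt N12518 (iv F72038)) (tt N11314 F69789) (tt N11789 F69790) (tt N11313 (iv D17808)) (tt N12519 D18406) (tt N11495 F69791) (tt N12512 (iv F72005)) (tt N11452 F69792))
theorem Q11923 : ∀ i, i < 11923 → P i := stepQ 11922 Q11922 (allL N11922 (tt N11397 F69793) (tt N12507 (iv F71981)) (tt N12519 (iv F72043)) (tt N11315 F69794) (tt N12516 (iv F72028)) (tt N11314 (iv D17809)) (tt N12520 D18407) (tt N12513 (iv F72011)) (tt N11453 F69795))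
theorem Q11924 : ∀ i, i < 11924 → P i := stepQ 11923 Q11923 (allL N11923 (tt N11398 F69796) (tt N12510 (iv F71992)) (tt N11791 F69797) (tt N12520 (iv F72047)) (tt N11551 F69798) (tt N12255 (iv F71146)) (tt N11315 (iv D17810)) (tt N11341 F69799) (tt N12137 (iv F70701)))
theorem Q11925 : ∀ i, i < 11925 → P i := stepQ 11924 Q11924 (allL N11924 (tt N11771 F69800) (tt N11316 (iv D17811)) (tt N11924 F69801) (tt N12514 (iv F72015)) (tt N12372 (iv F71553)) (tt N11318 F69802) (tt N11836 F69803) (tt N11924 F69804) (tt N11509 F69805))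
theorem Q11926 : ∀ i, i < 11926 → P i := stepQ 11925 Q11925 (allL N11925 (tt N11399 F69806) (tt N12372 (iv F71551)) (tt N11317 F69807) (tt N12521 D18408) (tt N11316 (iv D17812)) (tt N11793 F69808) (tt N11906 F69809) (tt N11925 F69810) (tt N11510 F69811))
theorem Q11927 : ∀ i, i < 11927 → P i := stepQ 11926 Q11926 (allL N11926 (tt N11318 (iv D17813)) (tt N11400 F69812) (tt N11926 F69813) (tt N12517 (iv F72033)) (tt N11794 F69814) (tt N11771 F69815) (tt N11513 F69816) (tt N11926 F69817) (tt N11511 F69818))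
theorem Q11928 : ∀ i, i < 11928 → P i := stepQ 11927 Q11927 (allL N11927 (tt N11401 F69819) (tt N11575 F69820) (tt N11409 F69821) (tt N11525 F69822) (tt N11325 F69823) (tt N11319 (iv D17814)) (tt N12522 D18409) (tt N12253 (iv F71140)) (tt N11345 F69824))
theorem Q11929 : ∀ i, i < 11929 → P i := stepQ 11928 Q11928 (allL N11928 (tt N11640 F69825) (tt N11559 F69826) (tt N11321 F69827) (tt N11430 F69828) (tt N11320 (iv D17815)) (tt N12523 D18410) (tt N11330 F69829) (tt N12244 (iv F71111)) (tt N11347 F69830))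
theorem Q11930 : ∀ i, i < 11930 → P i := stepQ 11929 Q11929 (allL N11929 (tt N11641 F69831) (tt N11325 F69832) (tt N12523 (iv F72064)) (tt N11587 F69833) (tt N11575 F69834) (tt N11321 (iv D17816)) (tt N12524 D18411) (tt N12245 (iv F71117)) (tt N11348 F69835))
theorem Q11931 : ∀ i, i < 11931 → P i := stepQ 11930 Q11930 (allL N11930 (tt N11403 F69836) (tt N11696 F69837) (tt N11322 (iv D17817)) (tt N11930 F69838) (tt N12525 D18412) (tt N11577 F69839) (tt N11334 F69840) (tt N11323 F69841) (tt N11390 F69842))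
theorem Q11932 : ∀ i, i < 11932 → P i := stepQ 11931 Q11931 (allL N11931 (tt N11404 F69843) (tt N11584 F69844) (tt N12525 (iv F72076)) (tt N11424 F69845) (tt N11322 (iv D17818)) (tt N12526 D18413) (tt N11335 F69846) (tt N11324 F69847) (tt N11391 F69848))
theorem Q11933 : ∀ i, i < 11933 → P i := stepQ 11932 Q11932 (allL N11932 (tt N11406 F69849) (tt N11702 F69850) (tt N11324 F69851) (tt N11691 F69852) (tt N11323 (iv D17819)) (tt N12527 D18414) (tt N11339 F69853) (tt N12525 (iv F72078)) (tt N11349 F69854))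
theorem Q11934 : ∀ i, i < 11934 → P i := stepQ 11933 Q11933 (allL N11933 (tt N11407 F69855) (tt N11587 F69856) (tt N12527 (iv F72088)) (tt N11325 F69857) (tt N11580 F69858) (tt N11324 (iv D17820)) (tt N12528 D18415) (tt N12526 (iv F72084)) (tt N11350 F69859))
theorem Q11935 : ∀ i, i < 11935 → P i := stepQ 11934 Q11934 (allL N11934 (tt N11408 F69860) (tt N12524 (iv F72069)) (tt N11693 F69861) (tt N12528 (iv F72094)) (tt N12522 (iv F72059)) (tt N11341 F69862) (tt N11325 (iv D17821)) (tt N12255 (iv F71147)) (tt N11351 F69863))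
theorem Q11936 : ∀ i, i < 11936 → P i := stepQ 11935 Q11935 (allL N11935 (tt N11330 F69864) (tt N11574 F69865) (tt N11327 F69866) (tt N11604 F69867) (tt N11326 (iv D17822)) (tt N12529 D18416) (tt N11640 F69868) (tt N12503 (iv F71960)) (tt N11354 F69869))
theorem Q11937 : ∀ i, i < 11937 → P i := stepQ 11936 Q11936 (allL N11936 (tt N11331 F69870) (tt N11409 F69871) (tt N12529 (iv F72100)) (tt N11722 F69872) (tt N11560 F69873) (tt N11327 (iv D17823)) (tt N12530 D18417) (tt N12504 (iv F71966)) (tt N11355 F69874))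
theorem Q11938 : ∀ i, i < 11938 → P i := stepQ 11937 Q11937 (allL N11937 (tt N11717 F69875) (tt N11335 F69876) (tt N11708 F69877) (tt N11820 F69878) (tt N11328 (iv D17824)) (tt N12531 D18418) (tt N11584 F69879) (tt N11329 F69880) (tt N11818 F69881))
theorem Q11939 : ∀ i, i < 11939 → P i := stepQ 11938 Q11938 (allL N11938 (tt N11722 F69882) (tt N11340 F69883) (tt N11713 F69884) (tt N11331 F69885) (tt N11621 F69886) (tt N11329 (iv D17825)) (tt N12532 D18419) (tt N12531 (iv F72115)) (tt N11359 F69887))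
theorem Q11940 : ∀ i, i < 11940 → P i := stepQ 11939 Q11939 (allL N11939 (tt N11604 F69888) (tt N11795 F69889) (tt N11428 F69890) (tt N11330 (iv D17826)) (tt N11379 F69891) (tt N12533 D18420) (tt N11430 F69892) (tt N12534 D18421) (tt N11360 F69893))
theorem Q11941 : ∀ i, i < 11941 → P i := stepQ 11940 Q11940 (allL N11940 (tt N12529 (iv F72098)) (tt N11796 F69894) (tt N11331 F69895) (tt N12533 (iv F72127)) (tt N11563 F69896) (tt N11330 (iv D17827)) (tt N12535 D18422) (tt N12509 (iv F71991)) (tt N11361 F69897))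
theorem Q11942 : ∀ i, i < 11942 → P i := stepQ 11941 Q11941 (allL N11941 (tt N12530 (iv F72104)) (tt N11341 F69898) (tt N12535 (iv F72136)) (tt N12532 (iv F72120)) (tt N11564 F69899) (tt N12524 (iv F72072)) (tt N11331 (iv D17828)) (tt N12510 (iv F71994)) (tt N11362 F69900))
theorem Q11943 : ∀ i, i < 11943 → P i := stepQ 11942 Q11942 (allL N11942 (tt N11421 F69901) (tt N11464 F69902) (tt N11332 (iv D17829)) (tt N11942 F69903) (tt N12536 D18423) (tt N11334 F69904) (tt N11598 F69905) (tt N11336 F69906) (tt N12209 (iv F70984)))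
theorem Q11944 : ∀ i, i < 11944 → P i := stepQ 11943 Q11943 (allL N11943 (tt N11422 F69907) (tt N11612 F69908) (tt N12536 (iv F72141)) (tt N12212 (iv F70999)) (tt N11332 (iv D17830)) (tt N12537 D18424) (tt N11599 F69909) (tt N11337 F69910) (tt N12210 (iv F70989)))
theorem Q11945 : ∀ i, i < 11945 → P i := stepQ 11944 Q11944 (allL N11944 (tt N11423 F69911) (tt N12085 (iv F70533)) (tt N11333 (iv D17831)) (tt N11944 F69912) (tt N12538 D18425) (tt N12209 (iv F70982)) (tt N11390 F69913) (tt N11366 F69914) (tt N11334 F69915))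
theorem Q11946 : ∀ i, i < 11946 → P i := stepQ 11945 Q11945 (allL N11945 (tt N11424 F69916) (tt N11818 F69917) (tt N12538 (iv F72149)) (tt N11404 F69918) (tt N11333 (iv D17832)) (tt N12539 D18426) (tt N11391 F69919) (tt N11367 F69920) (tt N11335 F69921))
theorem Q11947 : ∀ i, i < 11947 → P i := stepQ 11946 Q11946 (allL N11946 (tt N11473 (iv F69927)) (tt N11334 (iv D17833)) (tt N11462 F69922) (tt N11946 F69923) (tt N12540 D18427) (tt N11464 F69924) (tt N11696 F69925) (tt N11338 F69926) (tt N12085 (iv F70538)))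
theorem Q11948 : ∀ i, i < 11948 → P i := stepQ 11947 Q11947 (allL N11947 (tt N11426 F69928) (tt N12540 (iv F72159)) (tt N11335 F69929) (tt N12541 D18428) (tt N11334 (iv D17834)) (tt N12542 D18429) (tt N12525 (iv F72077)) (tt N11339 F69930) (tt N12538 (iv F72152)))
theorem Q11949 : ∀ i, i < 11949 → P i := stepQ 11948 Q11948 (allL N11948 (tt N11427 F69931) (tt N12531 (iv F72111)) (tt N12542 (iv F72167)) (tt N12513 (iv F72009)) (tt N12537 (iv F72146)) (tt N11335 (iv D17835)) (tt N12543 D18430) (tt N11340 F69932) (tt N12539 (iv F72157)))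
theorem Q11950 : ∀ i, i < 11950 → P i := stepQ 11949 Q11949 (allL N11949 (tt N11430 F69933) (tt N11467 F69934) (tt N11337 F69935) (tt N11640 F69936) (tt N11336 (iv D17836)) (tt N12544 D18431) (tt N11604 F69937) (tt N12536 (iv F72143)) (tt N11372 F69938))
theorem Q11951 : ∀ i, i < 11951 → P i := stepQ 11950 Q11950 (allL N11950 (tt N11431 F69939) (tt N11621 F69940) (tt N12544 (iv F72173)) (tt N11570 F69941) (tt N11340 F69942) (tt N11337 (iv D17837)) (tt N12545 D18432) (tt N12537 (iv F72147)) (tt N11373 F69943))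
theorem Q11952 : ∀ i, i < 11952 → P i := stepQ 11951 Q11951 (allL N11951 (tt N11482 F69944) (tt N11339 F69945) (tt N11466 F69946) (tt N11803 F69947) (tt N11338 (iv D17838)) (tt N12546 D18433) (tt N11702 F69948) (tt N12540 (iv F72162)) (tt N11375 F69949))
theorem Q11953 : ∀ i, i < 11953 → P i := stepQ 11952 Q11952 (allL N11952 (tt N11434 F69950) (tt N12546 (iv F72184)) (tt N11340 F69951) (tt N11804 F69952) (tt N12544 (iv F72175)) (tt N11339 (iv D17839)) (tt N12547 D18434) (tt N12542 (iv F72168)) (tt N11376 F69953))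
theorem Q11954 : ∀ i, i < 11954 → P i := stepQ 11953 Q11953 (allL N11953 (tt N11435 F69954) (tt N12532 (iv F72118)) (tt N12547 (iv F72190)) (tt N11341 F69955) (tt N12545 (iv F72180)) (tt N12528 (iv F72096)) (tt N11340 (iv D17840)) (tt N12543 (iv F72170)) (tt N11377 F69956))
theorem Q11955 : ∀ i, i < 11955 → P i := stepQ 11954 Q11954 (allL N11954 (tt N11522 F69957) (tt N11345 F69958) (tt N11900 F69959) (tt N11555 F69960) (tt N11348 F69961) (tt N11342 (iv D17841)) (tt N12548 D18435) (tt N11958 (iv F69982)) (tt N11575 F69962))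
theorem Q11956 : ∀ i, i < 11956 → P i := stepQ 11955 Q11955 (allL N11955 (tt N11438 F69963) (tt N11640 F69964) (tt N11344 F69965) (tt N11467 F69966) (tt N11343 (iv D17842)) (tt N12549 D18436) (tt N11574 F69967) (tt N12461 (iv F71837)) (tt N11524 F69968))
theorem Q11957 : ∀ i, i < 11957 → P i := stepQ 11956 Q11956 (allL N11956 (tt N11439 F69969) (tt N11555 F69970) (tt N12549 (iv F72202)) (tt N11345 F69971) (tt N11557 F69972) (tt N11344 (iv D17843)) (tt N12550 D18437) (tt N12462 (iv F71842)) (tt N11525 F69973))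
theorem Q11958 : ∀ i, i < 11958 → P i := stepQ 11957 Q11957 (allL N11957 (tt N11440 F69974) (tt N12548 (iv F72194)) (tt N11469 F69975) (tt N12550 (iv F72208)) (tt N11351 F69976) (tt N11576 F69977) (tt N11345 (iv D17844)) (tt N12055 (iv F70402)) (tt N12522 (iv F72061)))
theorem Q11959 : ∀ i, i < 11959 → P i := stepQ 11958 Q11958 (allL N11958 (tt N11348 F69978) (tt N11441 F69979) (tt N12499 (iv F71942)) (tt N11622 F69980) (tt N11522 F69981) (tt N11346 (iv D17845)) (tt N12551 D18438) (tt N11954 F69982) (tt N11641 F69983))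
theorem Q11960 : ∀ i, i < 11960 → P i := stepQ 11959 Q11959 (allL N11959 (tt N12499 (iv F71940)) (tt N11594 F69984) (tt N11348 F69985) (tt N11504 F69986) (tt N11900 F69987) (tt N11347 (iv D17846)) (tt N12552 D18439) (tt N12138 (iv F70706)) (tt N12523 (iv F72067)))
theorem Q11961 : ∀ i, i < 11961 → P i := stepQ 11960 Q11960 (allL N11960 (tt N12551 (iv F72212)) (tt N11351 F69988) (tt N12552 (iv F72220)) (tt N11767 F69989) (tt N12548 (iv F72197)) (tt N11362 F69990) (tt N11348 (iv D17847)) (tt N12139 (iv F70711)) (tt N12524 (iv F72073)))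
theorem Q11962 : ∀ i, i < 11962 → P i := stepQ 11961 Q11961 (allL N11961 (tt N11460 F69991) (tt N11751 F69992) (tt N11350 F69993) (tt N11736 F69994) (tt N11753 F69995) (tt N11349 (iv D17848)) (tt N12553 D18440) (tt N12240 (iv F71093)) (tt N12527 (iv F72091)))
theorem Q11963 : ∀ i, i < 11963 → P i := stepQ 11962 Q11962 (allL N11962 (tt N11461 F69996) (tt N11767 F69997) (tt N12553 (iv F72226)) (tt N11351 F69998) (tt N11768 F69999) (tt N11377 F70000) (tt N11350 (iv D17849)) (tt N12241 (iv F71098)) (tt N12528 (iv F72097)))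
theorem Q11964 : ∀ i, i < 11964 → P i := stepQ 11963 Q11963 (allL N11963 (tt N11357 F70001) (tt N11465 F70002) (tt N11612 F70003) (tt N11645 F70004) (tt N11352 (iv D17850)) (tt N12554 D18441) (tt N11614 F70005) (tt N11353 F70006) (tt N11644 F70007))
theorem Q11965 : ∀ i, i < 11965 → P i := stepQ 11964 Q11964 (allL N11964 (tt N11359 F70008) (tt N11468 F70009) (tt N11621 F70010) (tt N11355 F70011) (tt N11713 F70012) (tt N11353 (iv D17851)) (tt N12555 D18442) (tt N12554 (iv F72235)) (tt N11722 F70013))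
theorem Q11966 : ∀ i, i < 11966 → P i := stepQ 11965 Q11965 (allL N11965 (tt N11361 F70014) (tt N11900 F70015) (tt N11355 F70016) (tt N11899 F70017) (tt N11594 F70018) (tt N11354 (iv D17852)) (tt N12556 D18443) (tt N12140 (iv F70717)) (tt N12529 (iv F72103)))
theorem Q11967 : ∀ i, i < 11967 → P i := stepQ 11966 Q11966 (allL N11966 (tt N11362 F70019) (tt N11469 F70020) (tt N12556 (iv F72246)) (tt N12555 (iv F72240)) (tt N11595 F70021) (tt N12551 (iv F72216)) (tt N11355 (iv D17853)) (tt N12141 (iv F70721)) (tt N12530 (iv F72109)))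
theorem Q11968 : ∀ i, i < 11968 → P i := stepQ 11967 Q11967 (allL N11967 (tt N11708 F70022) (tt N11365 F70023) (tt N11717 F70024) (tt N11975 (iv F70061)) (tt N11356 (iv D17854)) (tt N12557 D18444) (tt N11567 F70025) (tt N11358 F70026) (tt N11876 F70027))
theorem Q11969 : ∀ i, i < 11969 → P i := stepQ 11968 Q11968 (allL N11968 (tt N12554 (iv F72230)) (tt N11370 F70028) (tt N11757 F70029) (tt N11990 (iv F70123)) (tt N12557 (iv F72252)) (tt N11357 (iv D17855)) (tt N12558 D18445) (tt N11359 F70030) (tt N12363 (iv F71525)))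
theorem Q11970 : ∀ i, i < 11970 → P i := stepQ 11969 Q11969 (allL N11969 (tt N11713 F70031) (tt N11373 F70032) (tt N11722 F70033) (tt N11605 F70034) (tt N11359 F70035) (tt N11358 (iv D17856)) (tt N12559 D18446) (tt N12557 (iv F72253)) (tt N11621 F70036))
theorem Q11971 : ∀ i, i < 11971 → P i := stepQ 11970 Q11970 (allL N11970 (tt N12555 (iv F72237)) (tt N11377 F70037) (tt N11766 F70038) (tt N11362 F70039) (tt N12559 (iv F72263)) (tt N11767 F70040) (tt N11359 (iv D17857)) (tt N12558 (iv F72258)) (tt N12532 (iv F72123)))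
theorem Q11972 : ∀ i, i < 11972 → P i := stepQ 11971 Q11971 (allL N11971 (tt N11899 F70041) (tt N11815 F70042) (tt N11502 F70043) (tt N11361 F70044) (tt N11903 F70045) (tt N11360 (iv D17858)) (tt N12560 D18447) (tt N12561 D18448) (tt N12533 (iv F72129)))
theorem Q11973 : ∀ i, i < 11973 → P i := stepQ 11972 Q11972 (allL N11972 (tt N11883 F70046) (tt N11816 F70047) (tt N11488 F70048) (tt N12023 (iv F70275)) (tt N11380 F70049) (tt N12561 (iv F72276)) (tt N11492 F70050) (tt N11360 (iv D17859)) (tt N12318 (iv F71365)))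
theorem Q11974 : ∀ i, i < 11974 → P i := stepQ 11973 Q11973 (allL N11973 (tt N12556 (iv F72244)) (tt N11817 F70051) (tt N11362 F70052) (tt N12560 (iv F72269)) (tt N11610 F70053) (tt N12552 (iv F72223)) (tt N11361 (iv D17860)) (tt N12142 (iv F70725)) (tt N12535 (iv F72138)))
theorem Q11975 : ∀ i, i < 11975 → P i := stepQ 11974 Q11974 (allL N11974 (tt N11488 F70054) (tt N11567 F70055) (tt N11883 F70056) (tt N12182 (iv F70872)) (tt N11363 (iv D17861)) (tt N12562 D18449) (tt N11365 F70057) (tt N11371 F70058) (tt N12181 (iv F70868)))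
theorem Q11976 : ∀ i, i < 11976 → P i := stepQ 11975 Q11975 (allL N11975 (tt N11490 F70059) (tt N11876 F70060) (tt N12479 (iv F71886)) (tt N11967 F70061) (tt N11364 (iv D17862)) (tt N12563 D18450) (tt N12181 (iv F70867)) (tt N12210 (iv F70988)) (tt N11365 F70062))
theorem Q11977 : ∀ i, i < 11977 → P i := stepQ 11976 Q11976 (allL N11976 (tt N11493 F70063) (tt N12557 (iv F72250)) (tt N12483 (iv F71901)) (tt N12474 (iv F71870)) (tt N11370 F70064) (tt N11365 (iv D17863)) (tt N12564 D18451) (tt N11373 F70065) (tt N12563 (iv F72286)))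
theorem Q11978 : ∀ i, i < 11978 → P i := stepQ 11977 Q11977 (allL N11977 (tt N11495 F70066) (tt N12347 (iv F71463)) (tt N11367 F70067) (tt N11664 F70068) (tt N11366 (iv D17864)) (tt N12565 D18452) (tt N11396 F70069) (tt N12538 (iv F72151)) (tt N11369 F70070))
theorem Q11979 : ∀ i, i < 11979 → P i := stepQ 11978 Q11978 (allL N11978 (tt N11496 F70071) (tt N12363 (iv F71522)) (tt N12565 (iv F72291)) (tt N11383 F70072) (tt N12563 (iv F72285)) (tt N11367 (iv D17865)) (tt N12566 D18453) (tt N12539 (iv F72156)) (tt N11370 F70073))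
theorem Q11980 : ∀ i, i < 11980 → P i := stepQ 11979 Q11979 (allL N11979 (tt N11368 (iv D17866)) (tt N11497 F70074) (tt N11410 F70075) (tt N11378 F70076) (tt N12567 D18454) (tt N11412 F70077) (tt N11726 F70078) (tt N11374 F70079) (tt N12332 (iv F71410)))
theorem Q11981 : ∀ i, i < 11981 → P i := stepQ 11980 Q11980 (allL N11980 (tt N12567 (iv F72298)) (tt N11369 F70080) (tt N11740 F70081) (tt N12257 (iv F71156)) (tt N11368 (iv D17867)) (tt N12568 D18455) (tt N11742 F70082) (tt N11375 F70083) (tt N12347 (iv F71467)))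
theorem Q11982 : ∀ i, i < 11982 → P i := stepQ 11981 Q11981 (allL N11981 (tt N11500 F70084) (tt N12568 (iv F72303)) (tt N11370 F70085) (tt N12258 (iv F71160)) (tt N12483 (iv F71903)) (tt N11369 (iv D17868)) (tt N12569 D18456) (tt N11376 F70086) (tt N12565 (iv F72293)))
theorem Q11983 : ∀ i, i < 11983 → P i := stepQ 11982 Q11982 (allL N11982 (tt N11501 F70087) (tt N12558 (iv F72255)) (tt N12569 (iv F72308)) (tt N12143 (iv F70728)) (tt N12564 (iv F72288)) (tt N12241 (iv F71097)) (tt N11370 (iv D17869)) (tt N11377 F70088) (tt N12566 (iv F72297)))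
theorem Q11984 : ∀ i, i < 11984 → P i := stepQ 11983 Q11983 (allL N11983 (tt N11502 F70089) (tt N11570 F70090) (tt N11899 F70091) (tt N11621 F70092) (tt N11562 F70093) (tt N11371 (iv D17870)) (tt N12570 D18457) (tt N12562 (iv F72281)) (tt N11605 F70094))
theorem Q11985 : ∀ i, i < 11985 → P i := stepQ 11984 Q11984 (allL N11984 (tt N11504 F70095) (tt N11897 F70096) (tt N11373 F70097) (tt N12499 (iv F71943)) (tt N11376 F70098) (tt N11372 (iv D17871)) (tt N12571 D18458) (tt N12483 (iv F71904)) (tt N12544 (iv F72176)))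
theorem Q11986 : ∀ i, i < 11986 → P i := stepQ 11985 Q11985 (allL N11985 (tt N11505 F70099) (tt N12559 (iv F72260)) (tt N12571 (iv F72319)) (tt N11623 F70100) (tt N11377 F70101) (tt N12570 (iv F72315)) (tt N11373 (iv D17872)) (tt N12564 (iv F72289)) (tt N12545 (iv F72182)))
theorem Q11987 : ∀ i, i < 11987 → P i := stepQ 11986 Q11986 (allL N11986 (tt N11375 F70102) (tt N11506 F70103) (tt N11414 F70104) (tt N11833 F70105) (tt N11374 (iv D17873)) (tt N12572 D18459) (tt N11733 F70106) (tt N12567 (iv F72302)) (tt N11482 F70107))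
theorem Q11988 : ∀ i, i < 11988 → P i := stepQ 11987 Q11987 (allL N11987 (tt N12572 (iv F72322)) (tt N11376 F70108) (tt N11750 F70109) (tt N11834 F70110) (tt N11897 F70111) (tt N11375 (iv D17874)) (tt N12573 D18460) (tt N12568 (iv F72306)) (tt N12546 (iv F72188)))
theorem Q11989 : ∀ i, i < 11989 → P i := stepQ 11988 Q11988 (allL N11988 (tt N11508 F70112) (tt N12573 (iv F72328)) (tt N11377 F70113) (tt N11835 F70114) (tt N12571 (iv F72320)) (tt N12553 (iv F72229)) (tt N11376 (iv D17875)) (tt N12569 (iv F72309)) (tt N12547 (iv F72192)))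
theorem Q11990 : ∀ i, i < 11990 → P i := stepQ 11989 Q11989 (allL N11989 (tt N11598 F70115) (tt N11841 F70116) (tt N11419 F70117) (tt N11989 F70118) (tt N12534 (iv F72133)) (tt N11590 F70119) (tt N11421 F70120) (tt N11379 (iv D17876)) (tt N12028 (iv F70298)))
theorem Q11991 : ∀ i, i < 11991 → P i := stepQ 11990 Q11990 (allL N11990 (tt N12253 (iv F71136)) (tt N11528 F70121) (tt N11388 F70122) (tt N11968 F70123) (tt N11383 F70124) (tt N11381 (iv D17877)) (tt N12574 D18461) (tt N11401 F70125) (tt N11991 (iv F70131)))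
theorem Q11992 : ∀ i, i < 11992 → P i := stepQ 11991 Q11991 (allL N11991 (tt N11646 F70126) (tt N11383 F70127) (tt N11629 F70128) (tt N12363 (iv F71524)) (tt N11528 F70129) (tt N11382 (iv D17878)) (tt N12575 D18462) (tt N11402 F70130) (tt N11990 F70131))
theorem Q11993 : ∀ i, i < 11993 → P i := stepQ 11992 Q11992 (allL N11992 (tt N12255 (iv F71144)) (tt N12575 (iv F72340)) (tt N11666 F70132) (tt N12566 (iv F72295)) (tt N12574 (iv F72336)) (tt N11398 F70133) (tt N11383 (iv D17879)) (tt N11408 F70134) (tt N12143 (iv F70731)))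
theorem Q11994 : ∀ i, i < 11994 → P i := stepQ 11993 Q11993 (allL N11993 (tt N11387 F70135) (tt N11865 F70136) (tt N11613 F70137) (tt N11385 F70138) (tt N11384 (iv D17880)) (tt N12576 D18463) (tt N11644 F70139) (tt N11718 F70140) (tt N11614 F70141))
theorem Q11995 : ∀ i, i < 11995 → P i := stepQ 11994 Q11994 (allL N11994 (tt N11388 F70142) (tt N12504 (iv F71963)) (tt N12253 (iv F71138)) (tt N12576 (iv F72349)) (tt N11657 F70143) (tt N11385 (iv D17881)) (tt N12577 D18464) (tt N11409 F70144) (tt N12144 (iv F70736)))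
theorem Q11996 : ∀ i, i < 11996 → P i := stepQ 11995 Q11995 (allL N11995 (tt N11718 F70145) (tt N11391 F70146) (tt N11709 F70147) (tt N11413 F70148) (tt N11386 (iv D17882)) (tt N12578 D18465) (tt N11818 F70149) (tt N11387 F70150) (tt N11584 F70151))
theorem Q11997 : ∀ i, i < 11997 → P i := stepQ 11996 Q11996 (allL N11996 (tt N12576 (iv F72346)) (tt N11397 F70152) (tt N11758 F70153) (tt N11388 F70154) (tt N11761 F70155) (tt N11387 (iv D17883)) (tt N12579 D18466) (tt N12578 (iv F72362)) (tt N11759 F70156))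
theorem Q11998 : ∀ i, i < 11998 → P i := stepQ 11997 Q11997 (allL N11997 (tt N12577 (iv F72353)) (tt N11398 F70157) (tt N12574 (iv F72334)) (tt N12579 (iv F72366)) (tt N11666 F70158) (tt N12575 (iv F72343)) (tt N11388 (iv D17884)) (tt N11417 F70159) (tt N12239 (iv F71089)))
theorem Q11999 : ∀ i, i < 11999 → P i := stepQ 11998 Q11998 (allL N11998 (tt N11806 F70160) (tt N11698 F70161) (tt N11389 (iv D17885)) (tt N11998 F70162) (tt N12580 D18467) (tt N11390 F70163) (tt N11600 F70164) (tt N11393 F70165) (tt N11577 F70166))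
theorem Q12000 : ∀ i, i < 12000 → P i := stepQ 11999 Q11999 (allL N11999 (tt N11807 F70167) (tt N11585 F70168) (tt N12580 (iv F72371)) (tt N12203 (iv F70957)) (tt N11389 (iv D17886)) (tt N12581 D18468) (tt N11601 F70169) (tt N11394 F70170) (tt N11578 F70171))
theorem Q12001 : ∀ i, i < 12001 → P i := stepQ 12000 Q12000 (allL N12000 (tt N12305 (iv F71319)) (tt N11390 (iv D17887)) (tt N11695 F70172) (tt N12000 F70173) (tt N12582 D18469) (tt N11698 F70174) (tt N12085 (iv F70536)) (tt N11395 F70175) (tt N11696 F70176))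
theorem Q12002 : ∀ i, i < 12002 → P i := stepQ 12001 Q12001 (allL N12001 (tt N12512 (iv F72002)) (tt N12582 (iv F72380)) (tt N11391 F70177) (tt N12583 D18470) (tt N11390 (iv D17888)) (tt N12584 D18471) (tt N12538 (iv F72150)) (tt N11396 F70178) (tt N12525 (iv F72079)))
theorem Q12003 : ∀ i, i < 12003 → P i := stepQ 12002 Q12002 (allL N12002 (tt N12513 (iv F72007)) (tt N12578 (iv F72358)) (tt N12584 (iv F72387)) (tt N11427 F70179) (tt N12581 (iv F72377)) (tt N11391 (iv D17889)) (tt N12585 D18472) (tt N11397 F70180) (tt N12526 (iv F72085)))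
theorem Q12004 : ∀ i, i < 12004 → P i := stepQ 12003 Q12003 (allL N12003 (tt N12274 (iv F71221)) (tt N11568 F70181) (tt N11888 F70182) (tt N11677 F70183) (tt N11392 (iv D17890)) (tt N12586 D18473) (tt N11394 F70184) (tt N11601 F70185) (tt N11561 F70186))
theorem Q12005 : ∀ i, i < 12005 → P i := stepQ 12004 Q12004 (allL N12004 (tt N12515 (iv F72020)) (tt N11744 F70187) (tt N11394 F70188) (tt N12587 D18474) (tt N11393 (iv D17891)) (tt N12588 D18475) (tt N11888 F70189) (tt N12580 (iv F72373)) (tt N11746 F70190))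
theorem Q12006 : ∀ i, i < 12006 → P i := stepQ 12005 Q12005 (allL N12005 (tt N12516 (iv F72025)) (tt N11761 F70191) (tt N12588 (iv F72402)) (tt N11680 F70192) (tt N11397 F70193) (tt N11394 (iv D17892)) (tt N12589 D18476) (tt N12581 (iv F72378)) (tt N11763 F70194))
theorem Q12007 : ∀ i, i < 12007 → P i := stepQ 12006 Q12006 (allL N12006 (tt N11395 (iv D17893)) (tt N12517 (iv F72031)) (tt N11725 F70195) (tt N11400 F70196) (tt N12590 D18477) (tt N11728 F70197) (tt N12332 (iv F71408)) (tt N12305 (iv F71323)) (tt N11726 F70198))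
theorem Q12008 : ∀ i, i < 12008 → P i := stepQ 12007 Q12007 (allL N12007 (tt N12590 (iv F72409)) (tt N11396 F70199) (tt N11741 F70200) (tt N11857 F70201) (tt N11395 (iv D17894)) (tt N12591 D18478) (tt N12347 (iv F71466)) (tt N12582 (iv F72382)) (tt N11742 F70202))
theorem Q12009 : ∀ i, i < 12009 → P i := stepQ 12008 Q12008 (allL N12008 (tt N12519 (iv F72042)) (tt N12591 (iv F72413)) (tt N11397 F70203) (tt N11858 F70204) (tt N12588 (iv F72403)) (tt N11396 (iv D17895)) (tt N12592 D18479) (tt N12584 (iv F72388)) (tt N12240 (iv F71094)))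
theorem Q12010 : ∀ i, i < 12010 → P i := stepQ 12009 Q12009 (allL N12009 (tt N12520 (iv F72046)) (tt N12579 (iv F72364)) (tt N12592 (iv F72418)) (tt N11398 F70205) (tt N12589 (iv F72407)) (tt N12566 (iv F72296)) (tt N11397 (iv D17896)) (tt N12585 (iv F72390)) (tt N12241 (iv F71099)))
theorem Q12011 : ∀ i, i < 12011 → P i := stepQ 12010 Q12010 (allL N12010 (tt N12521 (iv F72050)) (tt N11772 F70206) (tt N11686 F70207) (tt N11399 (iv D17897)) (tt N12587 (iv F72398)) (tt N11861 F70208) (tt N11907 F70209) (tt N12593 D18480) (tt N11773 F70210))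
theorem Q12012 : ∀ i, i < 12012 → P i := stepQ 12011 Q12011 (allL N12011 (tt N12522 (iv F72055)) (tt N11529 F70211) (tt N11417 F70212) (tt N11527 F70213) (tt N11408 F70214) (tt N11633 F70215) (tt N11401 (iv D17898)) (tt N12574 (iv F72338)) (tt N11440 F70216))
theorem Q12013 : ∀ i, i < 12013 → P i := stepQ 12012 Q12012 (allL N12012 (tt N11649 F70217) (tt N11408 F70218) (tt N11633 F70219) (tt N11832 F70220) (tt N11529 F70221) (tt N11417 F70222) (tt N11402 (iv D17899)) (tt N12575 (iv F72344)) (tt N11447 F70223))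
theorem Q12014 : ∀ i, i < 12014 → P i := stepQ 12013 Q12013 (allL N12013 (tt N11842 (iv F70229)) (tt N11403 (iv D17900)) (tt N11626 F70224) (tt N12013 F70225) (tt N12594 D18481) (tt N11808 F70226) (tt N11425 F70227) (tt N11405 F70228) (tt N12511 (iv F72001)))
theorem Q12015 : ∀ i, i < 12015 → P i := stepQ 12014 Q12014 (allL N12014 (tt N12525 (iv F72074)) (tt N12594 (iv F72427)) (tt N11404 F70230) (tt N12595 D18482) (tt N11403 (iv D17901)) (tt N12596 D18483) (tt N11426 F70231) (tt N11406 F70232) (tt N12512 (iv F72006)))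
theorem Q12016 : ∀ i, i < 12016 → P i := stepQ 12015 Q12015 (allL N12015 (tt N12526 (iv F72080)) (tt N11822 F70233) (tt N12596 (iv F72434)) (tt N12539 (iv F72155)) (tt N11810 F70234) (tt N11404 (iv D17902)) (tt N12597 D18484) (tt N11407 F70235) (tt N12513 (iv F72012)))
theorem Q12017 : ∀ i, i < 12017 → P i := stepQ 12016 Q12016 (allL N12016 (tt N11812 F70236) (tt N11406 F70237) (tt N11581 F70238) (tt N11579 F70239) (tt N11405 (iv D17903)) (tt N12598 D18485) (tt N11433 F70240) (tt N12594 (iv F72430)) (tt N11459 F70241))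
theorem Q12018 : ∀ i, i < 12018 → P i := stepQ 12017 Q12017 (allL N12017 (tt N12527 (iv F72086)) (tt N12598 (iv F72442)) (tt N11407 F70242) (tt N11704 F70243) (tt N11813 F70244) (tt N11406 (iv D17904)) (tt N12599 D18486) (tt N12596 (iv F72436)) (tt N11460 F70245))
theorem Q12019 : ∀ i, i < 12019 → P i := stepQ 12018 Q12018 (allL N12018 (tt N12528 (iv F72092)) (tt N11832 F70246) (tt N12599 (iv F72447)) (tt N11408 F70247) (tt N11814 F70248) (tt N11435 F70249) (tt N11407 (iv D17905)) (tt N12597 (iv F72440)) (tt N11461 F70250))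
theorem Q12020 : ∀ i, i < 12020 → P i := stepQ 12019 Q12019 (allL N12019 (tt N11417 F70251) (tt N12530 (iv F72105)) (tt N12522 (iv F72057)) (tt N11898 F70252) (tt N11693 F70253) (tt N11649 F70254) (tt N11409 (iv D17906)) (tt N12577 (iv F72356)) (tt N11469 F70255))
theorem Q12021 : ∀ i, i < 12021 → P i := stepQ 12020 Q12020 (allL N12020 (tt N11740 F70256) (tt N11422 F70257) (tt N12567 (iv F72300)) (tt N12334 (iv F71419)) (tt N11410 (iv D17907)) (tt N12600 D18487) (tt N11727 F70258) (tt N11414 F70259) (tt N12333 (iv F71416)))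
theorem Q12022 : ∀ i, i < 12022 → P i := stepQ 12021 Q12021 (allL N12021 (tt N11715 F70260) (tt N11627 (iv F70265)) (tt N11411 (iv D17908)) (tt N11530 F70261) (tt N12601 D18488) (tt N12332 (iv F71407)) (tt N11819 F70262) (tt N11475 F70263) (tt N11412 F70264))
theorem Q12023 : ∀ i, i < 12023 → P i := stepQ 12022 Q12022 (allL N12022 (tt N11716 F70266) (tt N11424 F70267) (tt N12601 (iv F72458)) (tt N11584 F70268) (tt N11411 (iv D17909)) (tt N12602 D18489) (tt N11820 F70269) (tt N11476 F70270) (tt N11413 F70271))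
theorem Q12024 : ∀ i, i < 12024 → P i := stepQ 12023 Q12023 (allL N12023 (tt N11878 F70272) (tt N11609 F70273) (tt N11413 F70274) (tt N11972 F70275) (tt N11412 (iv D17910)) (tt N12603 D18490) (tt N11821 F70276) (tt N11415 F70277) (tt N12601 (iv F72462)))
theorem Q12025 : ∀ i, i < 12025 → P i := stepQ 12024 Q12024 (allL N12024 (tt N11879 F70278) (tt N11427 F70279) (tt N12603 (iv F72470)) (tt N12578 (iv F72360)) (tt N12600 (iv F72454)) (tt N11413 (iv D17911)) (tt N12604 D18491) (tt N11416 F70280) (tt N12602 (iv F72467)))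
theorem Q12026 : ∀ i, i < 12026 → P i := stepQ 12025 Q12025 (allL N12025 (tt N11750 F70281) (tt N11431 F70282) (tt N12572 (iv F72324)) (tt N11703 F70283) (tt N11416 F70284) (tt N11414 (iv D17912)) (tt N12605 D18492) (tt N12600 (iv F72455)) (tt N11483 F70285))
theorem Q12027 : ∀ i, i < 12027 → P i := stepQ 12026 Q12026 (allL N12026 (tt N11897 F70286) (tt N11608 F70287) (tt N11416 F70288) (tt N11526 F70289) (tt N12572 (iv F72326)) (tt N11415 (iv D17913)) (tt N12606 D18493) (tt N12603 (iv F72472)) (tt N11485 F70290))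
theorem Q12028 : ∀ i, i < 12028 → P i := stepQ 12027 Q12027 (allL N12027 (tt N11898 F70291) (tt N11435 F70292) (tt N12606 (iv F72485)) (tt N11417 F70293) (tt N12605 (iv F72480)) (tt N11832 F70294) (tt N11416 (iv D17914)) (tt N12604 (iv F72476)) (tt N11486 F70295))
theorem Q12029 : ∀ i, i < 12029 → P i := stepQ 12028 Q12028 (allL N12028 (tt N12211 (iv F70990)) (tt N12439 (iv F71761)) (tt N11418 (iv D17915)) (tt N12028 F70296) (tt N12607 D18494) (tt N12202 (iv F70951)) (tt N12031 (iv F70308)) (tt N11706 F70297) (tt N11989 F70298))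
theorem Q12030 : ∀ i, i < 12030 → P i := stepQ 12029 Q12029 (allL N12029 (tt N12212 (iv F70997)) (tt N12334 (iv F71418)) (tt N12607 (iv F72489)) (tt N11422 F70299) (tt N11418 (iv D17916)) (tt N12608 D18495) (tt N12032 (iv F70312)) (tt N11707 F70300) (tt N12030 (iv F70305)))
theorem Q12031 : ∀ i, i < 12031 → P i := stepQ 12030 Q12030 (allL N12030 (tt N11599 F70301) (tt N11727 F70302) (tt N12534 (iv F72132)) (tt N12032 (iv F70311)) (tt N11419 (iv D17917)) (tt N12609 D18496) (tt N11422 F70303) (tt N11428 F70304) (tt N12029 F70305))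
theorem Q12032 : ∀ i, i < 12032 → P i := stepQ 12031 Q12031 (allL N12031 (tt N12209 (iv F70979)) (tt N12610 D18497) (tt N11420 (iv D17918)) (tt N12031 F70306) (tt N12611 D18498) (tt N11423 F70307) (tt N12028 F70308) (tt N11489 F70309) (tt N11421 F70310))
theorem Q12033 : ∀ i, i < 12033 → P i := stepQ 12032 Q12032 (allL N12032 (tt N12210 (iv F70985)) (tt N12333 (iv F71413)) (tt N12611 (iv F72506)) (tt N12030 F70311) (tt N11420 (iv D17919)) (tt N12612 D18499) (tt N12029 F70312) (tt N11490 F70313) (tt N11422 F70314))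
theorem Q12034 : ∀ i, i < 12034 → P i := stepQ 12033 Q12033 (allL N12033 (tt N11477 F70315) (tt N11421 (iv D17920)) (tt N11497 F70316) (tt N12033 F70317) (tt N12613 D18500) (tt N11425 F70318) (tt N11841 F70319) (tt N11429 F70320) (tt N12610 (iv F72505)))
theorem Q12035 : ∀ i, i < 12035 → P i := stepQ 12034 Q12034 (allL N12034 (tt N12536 (iv F72139)) (tt N12613 (iv F72515)) (tt N11422 F70321) (tt N12614 D18501) (tt N11421 (iv D17921)) (tt N12615 D18502) (tt N12534 (iv F72134)) (tt N11430 F70322) (tt N12611 (iv F72509)))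
theorem Q12036 : ∀ i, i < 12036 → P i := stepQ 12035 Q12035 (allL N12035 (tt N12537 (iv F72144)) (tt N12600 (iv F72453)) (tt N12615 (iv F72520)) (tt N12608 (iv F72492)) (tt N11427 F70323) (tt N11422 (iv D17922)) (tt N12616 D18503) (tt N11431 F70324) (tt N12612 (iv F72513)))
theorem Q12037 : ∀ i, i < 12037 → P i := stepQ 12036 Q12036 (allL N12036 (tt N12617 D18504) (tt N11423 (iv D17923)) (tt N11627 F70325) (tt N12036 F70326) (tt N12618 D18505) (tt N12610 (iv F72502)) (tt N12511 (iv F71999)) (tt N11494 F70327) (tt N11425 F70328))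
theorem Q12038 : ∀ i, i < 12038 → P i := stepQ 12037 Q12037 (allL N12037 (tt N12538 (iv F72148)) (tt N12618 (iv F72532)) (tt N11424 F70329) (tt N12619 D18506) (tt N11423 (iv D17924)) (tt N12620 D18507) (tt N12512 (iv F72004)) (tt N11495 F70330) (tt N11426 F70331))
theorem Q12039 : ∀ i, i < 12039 → P i := stepQ 12038 Q12038 (allL N12038 (tt N12539 (iv F72153)) (tt N12602 (iv F72464)) (tt N12620 (iv F72538)) (tt N12526 (iv F72082)) (tt N12612 (iv F72511)) (tt N11424 (iv D17925)) (tt N12621 D18508) (tt N11496 F70332) (tt N11427 F70333))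
theorem Q12040 : ∀ i, i < 12040 → P i := stepQ 12039 Q12039 (allL N12039 (tt N11425 (iv D17926)) (tt N11473 F70334) (tt N11491 F70335) (tt N12039 F70336) (tt N12622 D18509) (tt N11477 F70337) (tt N11842 F70338) (tt N11432 F70339) (tt N12617 (iv F72531)))
theorem Q12041 : ∀ i, i < 12041 → P i := stepQ 12040 Q12040 (allL N12040 (tt N12622 (iv F72543)) (tt N11426 F70340) (tt N11609 F70341) (tt N12623 D18510) (tt N11425 (iv D17927)) (tt N12624 D18511) (tt N12594 (iv F72429)) (tt N11433 F70342) (tt N12618 (iv F72535)))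
theorem Q12042 : ∀ i, i < 12042 → P i := stepQ 12041 Q12041 (allL N12041 (tt N12541 (iv F72163)) (tt N12623 (iv F72548)) (tt N12583 (iv F72384)) (tt N11426 (iv D17928)) (tt N12041 F70343) (tt N12625 D18512) (tt N12595 (iv F72432)) (tt N11870 F70344) (tt N12619 (iv F72537)))
theorem Q12043 : ∀ i, i < 12043 → P i := stepQ 12042 Q12042 (allL N12042 (tt N12542 (iv F72166)) (tt N12624 (iv F72551)) (tt N11427 F70345) (tt N12625 (iv F72554)) (tt N12615 (iv F72521)) (tt N11426 (iv D17929)) (tt N12626 D18513) (tt N11434 F70346) (tt N12620 (iv F72540)))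
theorem Q12044 : ∀ i, i < 12044 → P i := stepQ 12043 Q12043 (allL N12043 (tt N12543 (iv F72169)) (tt N12604 (iv F72474)) (tt N12626 (iv F72556)) (tt N12585 (iv F72389)) (tt N12616 (iv F72523)) (tt N12597 (iv F72439)) (tt N11427 (iv D17930)) (tt N11435 F70347) (tt N12621 (iv F72542)))
theorem Q12045 : ∀ i, i < 12045 → P i := stepQ 12044 Q12044 (allL N12044 (tt N11605 F70348) (tt N11734 F70349) (tt N12533 (iv F72126)) (tt N11713 F70350) (tt N11593 F70351) (tt N11428 (iv D17931)) (tt N12627 D18514) (tt N12609 (iv F72497)) (tt N11502 F70352))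
theorem Q12046 : ∀ i, i < 12046 → P i := stepQ 12045 Q12045 (allL N12045 (tt N11484 F70353) (tt N11430 F70354) (tt N11506 F70355) (tt N11559 F70356) (tt N11429 (iv D17932)) (tt N12628 D18515) (tt N11795 F70357) (tt N12613 (iv F72518)) (tt N11503 F70358))
theorem Q12047 : ∀ i, i < 12047 → P i := stepQ 12046 Q12046 (allL N12046 (tt N12544 (iv F72171)) (tt N12628 (iv F72565)) (tt N11431 F70359) (tt N12523 (iv F72065)) (tt N11434 F70360) (tt N11430 (iv D17933)) (tt N12629 D18516) (tt N12615 (iv F72522)) (tt N11504 F70361))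
theorem Q12048 : ∀ i, i < 12048 → P i := stepQ 12047 Q12047 (allL N12047 (tt N12545 (iv F72177)) (tt N12605 (iv F72478)) (tt N12629 (iv F72570)) (tt N11714 F70362) (tt N11435 F70363) (tt N12627 (iv F72562)) (tt N11431 (iv D17934)) (tt N12616 (iv F72524)) (tt N11505 F70364))
theorem Q12049 : ∀ i, i < 12049 → P i := stepQ 12048 Q12048 (allL N12048 (tt N11433 F70365) (tt N11482 F70366) (tt N11503 F70367) (tt N11592 F70368) (tt N11432 (iv D17935)) (tt N12630 D18517) (tt N11812 F70369) (tt N12622 (iv F72547)) (tt N11506 F70370))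
theorem Q12050 : ∀ i, i < 12050 → P i := stepQ 12049 Q12049 (allL N12049 (tt N12630 (iv F72573)) (tt N11434 F70371) (tt N11608 F70372) (tt N11606 F70373) (tt N12628 (iv F72568)) (tt N11433 (iv D17936)) (tt N12631 D18518) (tt N12624 (iv F72553)) (tt N11507 F70374))
theorem Q12051 : ∀ i, i < 12051 → P i := stepQ 12050 Q12050 (allL N12050 (tt N12547 (iv F72189)) (tt N12631 (iv F72579)) (tt N11435 F70375) (tt N11875 F70376) (tt N12629 (iv F72571)) (tt N12599 (iv F72450)) (tt N11434 (iv D17937)) (tt N12626 (iv F72557)) (tt N11508 F70377))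
theorem Q12052 : ∀ i, i < 12052 → P i := stepQ 12051 Q12051 (allL N12051 (tt N12461 (iv F71833)) (tt N11542 F70378) (tt N11437 F70379) (tt N12632 D18519) (tt N11436 (iv D17938)) (tt N12633 D18520) (tt N11638 F70380) (tt N11438 F70381) (tt N11914 F70382))
theorem Q12053 : ∀ i, i < 12053 → P i := stepQ 12052 Q12052 (allL N12052 (tt N12462 (iv F71838)) (tt N11519 F70383) (tt N12633 (iv F72589)) (tt N12058 (iv F70416)) (tt N11783 F70384) (tt N11437 (iv D17939)) (tt N12634 D18521) (tt N11439 F70385) (tt N11915 F70386))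
theorem Q12054 : ∀ i, i < 12054 → P i := stepQ 12053 Q12053 (allL N12053 (tt N12549 (iv F72200)) (tt N11563 F70387) (tt N11439 F70388) (tt N11485 F70389) (tt N11796 F70390) (tt N11438 (iv D17940)) (tt N12635 D18522) (tt N12633 (iv F72591)) (tt N11526 F70391))
theorem Q12055 : ∀ i, i < 12055 → P i := stepQ 12054 Q12054 (allL N12054 (tt N12550 (iv F72206)) (tt N11520 F70392) (tt N12635 (iv F72599)) (tt N11440 F70393) (tt N11797 F70394) (tt N11643 F70395) (tt N11439 (iv D17941)) (tt N12634 (iv F72596)) (tt N11527 F70396))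
theorem Q12056 : ∀ i, i < 12056 → P i := stepQ 12055 Q12055 (allL N12055 (tt N11447 F70397) (tt N12551 (iv F72213)) (tt N11576 F70398) (tt N11874 F70399) (tt N11523 F70400) (tt N11469 F70401) (tt N11441 (iv D17942)) (tt N11957 F70402) (tt N11649 F70403))
theorem Q12057 : ∀ i, i < 12057 → P i := stepQ 12056 Q12056 (allL N12056 (tt N11841 F70404) (tt N11442 (iv D17943)) (tt N11451 F70405) (tt N12056 F70406) (tt N12636 D18523) (tt N11800 F70407) (tt N11477 F70408) (tt N11444 F70409) (tt N12505 (iv F71974)))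
theorem Q12058 : ∀ i, i < 12058 → P i := stepQ 12057 Q12057 (allL N12057 (tt N11866 F70410) (tt N12636 (iv F72605)) (tt N11443 F70411) (tt N12637 D18524) (tt N11442 (iv D17944)) (tt N12638 D18525) (tt N11478 F70412) (tt N11445 F70413) (tt N12506 (iv F71979)))
theorem Q12059 : ∀ i, i < 12059 → P i := stepQ 12058 Q12058 (allL N12058 (tt N11867 F70414) (tt N11453 F70415) (tt N12638 (iv F72615)) (tt N12052 F70416) (tt N11802 F70417) (tt N11443 (iv D17945)) (tt N12639 D18526) (tt N11446 F70418) (tt N12507 (iv F71985)))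
theorem Q12060 : ∀ i, i < 12060 → P i := stepQ 12059 Q12059 (allL N12059 (tt N11795 F70419) (tt N11445 F70420) (tt N11459 F70421) (tt N11556 F70422) (tt N11444 (iv D17946)) (tt N12640 D18527) (tt N11484 F70423) (tt N12636 (iv F72608)) (tt N11581 F70424))
theorem Q12061 : ∀ i, i < 12061 → P i := stepQ 12060 Q12060 (allL N12060 (tt N11873 F70425) (tt N12640 (iv F72625)) (tt N11446 F70426) (tt N11642 F70427) (tt N11804 F70428) (tt N11445 (iv D17947)) (tt N12641 D18528) (tt N12638 (iv F72617)) (tt N11831 F70429))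
theorem Q12062 : ∀ i, i < 12062 → P i := stepQ 12061 Q12061 (allL N12061 (tt N11874 F70430) (tt N11461 F70431) (tt N12641 (iv F72631)) (tt N11447 F70432) (tt N11805 F70433) (tt N11486 F70434) (tt N11446 (iv D17948)) (tt N12639 (iv F72623)) (tt N11832 F70435))
theorem Q12063 : ∀ i, i < 12063 → P i := stepQ 12062 Q12062 (allL N12062 (tt N11561 F70436) (tt N11689 F70437) (tt N11892 F70438) (tt N12276 (iv F71234)) (tt N11448 (iv D17949)) (tt N12642 D18529) (tt N11450 F70439) (tt N11454 F70440) (tt N12274 (iv F71225)))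
theorem Q12064 : ∀ i, i < 12064 → P i := stepQ 12063 Q12063 (allL N12063 (tt N11730 F70441) (tt N11449 (iv D17950)) (tt N11800 F70442) (tt N11509 F70443) (tt N12643 D18530) (tt N11451 F70444) (tt N11826 F70445) (tt N11455 F70446) (tt N12514 (iv F72019)))
theorem Q12065 : ∀ i, i < 12065 → P i := stepQ 12064 Q12064 (allL N12064 (tt N11746 F70447) (tt N12643 (iv F72642)) (tt N11450 F70448) (tt N12644 D18531) (tt N11449 (iv D17951)) (tt N12645 D18532) (tt N11892 F70449) (tt N11456 F70450) (tt N12515 (iv F72024)))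
theorem Q12066 : ∀ i, i < 12066 → P i := stepQ 12065 Q12065 (allL N12065 (tt N11763 F70451) (tt N11802 F70452) (tt N12645 (iv F72650)) (tt N12384 (iv F71593)) (tt N11453 F70453) (tt N11450 (iv D17952)) (tt N12646 D18533) (tt N11457 F70454) (tt N12516 (iv F72030)))
theorem Q12067 : ∀ i, i < 12067 → P i := stepQ 12066 Q12066 (allL N12066 (tt N11451 (iv D17953)) (tt N11726 F70455) (tt N11841 F70456) (tt N11511 F70457) (tt N12647 D18534) (tt N11730 F70458) (tt N11497 F70459) (tt N11458 F70460) (tt N12517 (iv F72037)))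
theorem Q12068 : ∀ i, i < 12068 → P i := stepQ 12067 Q12067 (allL N12067 (tt N12647 (iv F72657)) (tt N11452 F70461) (tt N12636 (iv F72606)) (tt N12167 (iv F70815)) (tt N11451 (iv D17954)) (tt N12648 D18535) (tt N11498 F70462) (tt N11459 F70463) (tt N12518 (iv F72041)))
theorem Q12069 : ∀ i, i < 12069 → P i := stepQ 12068 Q12068 (allL N12068 (tt N12240 (iv F71090)) (tt N12648 (iv F72662)) (tt N11453 F70464) (tt N12168 (iv F70819)) (tt N12645 (iv F72651)) (tt N11452 (iv D17955)) (tt N12649 D18536) (tt N11460 F70465) (tt N12519 (iv F72045)))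
theorem Q12070 : ∀ i, i < 12070 → P i := stepQ 12069 Q12069 (allL N12069 (tt N12241 (iv F71095)) (tt N12639 (iv F72619)) (tt N12649 (iv F72664)) (tt N12137 (iv F70697)) (tt N12646 (iv F72655)) (tt N11501 F70466) (tt N11453 (iv D17956)) (tt N11461 F70467) (tt N12520 (iv F72049)))
theorem Q12071 : ∀ i, i < 12071 → P i := stepQ 12070 Q12070 (allL N12070 (tt N11562 F70468) (tt N11692 F70469) (tt N11903 F70470) (tt N11560 F70471) (tt N11502 F70472) (tt N11454 (iv D17957)) (tt N12650 D18537) (tt N12642 (iv F72640)) (tt N11593 F70473))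
theorem Q12072 : ∀ i, i < 12072 → P i := stepQ 12071 Q12071 (allL N12071 (tt N11735 F70474) (tt N11456 F70475) (tt N11803 F70476) (tt N11733 F70477) (tt N11455 (iv D17958)) (tt N12651 D18538) (tt N11833 F70478) (tt N12643 (iv F72645)) (tt N11811 F70479))
theorem Q12073 : ∀ i, i < 12073 → P i := stepQ 12072 Q12072 (allL N12072 (tt N11459 F70480) (tt N11733 F70481) (tt N11795 F70482) (tt N11456 (iv D17959)) (tt N11458 F70483) (tt N12652 D18539) (tt N11506 F70484) (tt N12647 (iv F72661)) (tt N11812 F70485))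
theorem Q12074 : ∀ i, i < 12074 → P i := stepQ 12073 Q12073 (allL N12073 (tt N11753 F70486) (tt N12651 (iv F72675)) (tt N11457 F70487) (tt N12652 (iv F72683)) (tt N11460 F70488) (tt N11456 (iv D17960)) (tt N12653 D18540) (tt N12645 (iv F72652)) (tt N11813 F70489))
theorem Q12075 : ∀ i, i < 12075 → P i := stepQ 12074 Q12074 (allL N12074 (tt N11768 F70490) (tt N11805 F70491) (tt N12653 (iv F72687)) (tt N11797 F70492) (tt N11461 F70493) (tt N12650 (iv F72672)) (tt N11457 (iv D17961)) (tt N12646 (iv F72656)) (tt N11814 F70494))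
theorem Q12076 : ∀ i, i < 12076 → P i := stepQ 12075 Q12075 (allL N12075 (tt N12652 (iv F72680)) (tt N11460 F70495) (tt N12640 (iv F72626)) (tt N11753 F70496) (tt N12651 (iv F72678)) (tt N11459 (iv D17962)) (tt N12654 D18541) (tt N12648 (iv F72663)) (tt N12598 (iv F72446)))
theorem Q12077 : ∀ i, i < 12077 → P i := stepQ 12076 Q12076 (allL N12076 (tt N12553 (iv F72224)) (tt N12654 (iv F72691)) (tt N11461 F70497) (tt N11754 F70498) (tt N12653 (iv F72688)) (tt N11508 F70499) (tt N11460 (iv D17963)) (tt N12649 (iv F72666)) (tt N12599 (iv F72451)))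
theorem Q12078 : ∀ i, i < 12078 → P i := stepQ 12077 Q12077 (allL N12077 (tt N11474 F70500) (tt N11708 F70501) (tt N12540 (iv F72160)) (tt N12090 (iv F70559)) (tt N11462 (iv D17964)) (tt N12655 D18542) (tt N11697 F70502) (tt N11466 F70503) (tt N12086 (iv F70542)))
theorem Q12079 : ∀ i, i < 12079 → P i := stepQ 12078 Q12078 (allL N12078 (tt N11475 F70504) (tt N12209 (iv F70980)) (tt N11463 (iv D17965)) (tt N12078 F70505) (tt N12656 D18543) (tt N12085 (iv F70535)) (tt N11864 F70506) (tt N11715 F70507) (tt N11464 F70508))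
theorem Q12080 : ∀ i, i < 12080 → P i := stepQ 12079 Q12079 (allL N12079 (tt N11476 F70509) (tt N11644 F70510) (tt N12656 (iv F72699)) (tt N11635 F70511) (tt N11463 (iv D17966)) (tt N12657 D18544) (tt N11865 F70512) (tt N11716 F70513) (tt N11465 F70514))
theorem Q12081 : ∀ i, i < 12081 → P i := stepQ 12080 Q12080 (allL N12080 (tt N11478 F70515) (tt N12536 (iv F72140)) (tt N11465 F70516) (tt N12658 D18545) (tt N11464 (iv D17967)) (tt N12659 D18546) (tt N11866 F70517) (tt N11467 F70518) (tt N12656 (iv F72702)))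
theorem Q12082 : ∀ i, i < 12082 → P i := stepQ 12081 Q12081 (allL N12081 (tt N11479 F70519) (tt N12554 (iv F72231)) (tt N12659 (iv F72712)) (tt N12188 (iv F70896)) (tt N12655 (iv F72696)) (tt N11465 (iv D17968)) (tt N12660 D18547) (tt N11468 F70520) (tt N12657 (iv F72707)))
theorem Q12083 : ∀ i, i < 12083 → P i := stepQ 12082 Q12082 (allL N12082 (tt N11483 F70521) (tt N11713 F70522) (tt N12546 (iv F72185)) (tt N11734 F70523) (tt N11468 F70524) (tt N11466 (iv D17969)) (tt N12661 D18548) (tt N12655 (iv F72697)) (tt N11750 F70525))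
theorem Q12084 : ∀ i, i < 12084 → P i := stepQ 12083 Q12083 (allL N12083 (tt N11485 F70526) (tt N12544 (iv F72172)) (tt N11468 F70527) (tt N12549 (iv F72203)) (tt N12546 (iv F72187)) (tt N11467 (iv D17970)) (tt N12662 D18549) (tt N12659 (iv F72713)) (tt N11897 F70528))
theorem Q12085 : ∀ i, i < 12085 → P i := stepQ 12084 Q12084 (allL N12084 (tt N11486 F70529) (tt N12555 (iv F72238)) (tt N12662 (iv F72724)) (tt N11469 F70530) (tt N12661 (iv F72720)) (tt N11874 F70531) (tt N11468 (iv D17971)) (tt N12660 (iv F72716)) (tt N11898 F70532))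
theorem Q12086 : ∀ i, i < 12086 → P i := stepQ 12085 Q12085 (allL N12085 (tt N12089 (iv F70553)) (tt N11944 F70533) (tt N11470 (iv D17972)) (tt N12085 F70534) (tt N12663 D18550) (tt N12078 F70535) (tt N12000 F70536) (tt N11738 F70537) (tt N11946 F70538))
theorem Q12087 : ∀ i, i < 12087 → P i := stepQ 12086 Q12086 (allL N12086 (tt N12090 (iv F70557)) (tt N11487 F70539) (tt N12663 (iv F72728)) (tt N11474 F70540) (tt N11470 (iv D17973)) (tt N12664 D18551) (tt N12307 (iv F71332)) (tt N11739 F70541) (tt N12077 F70542))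
theorem Q12088 : ∀ i, i < 12088 → P i := stepQ 12087 Q12087 (allL N12087 (tt N11696 F70543) (tt N11842 F70544) (tt N11471 (iv D17974)) (tt N12087 F70545) (tt N12665 D18552) (tt N11688 F70546) (tt N11473 F70547) (tt N11480 F70548) (tt N12305 (iv F71324)))
theorem Q12089 : ∀ i, i < 12089 → P i := stepQ 12088 Q12088 (allL N12088 (tt N11697 F70549) (tt N11488 F70550) (tt N12665 (iv F72739)) (tt N12307 (iv F71331)) (tt N11471 (iv D17975)) (tt N12666 D18553) (tt N11474 F70551) (tt N11481 F70552) (tt N12306 (iv F71328)))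
theorem Q12090 : ∀ i, i < 12090 → P i := stepQ 12089 Q12089 (allL N12089 (tt N12085 F70553) (tt N12617 (iv F72525)) (tt N11472 (iv D17976)) (tt N12089 F70554) (tt N12667 D18554) (tt N11475 F70555) (tt N12305 (iv F71322)) (tt N12332 (iv F71409)) (tt N11473 F70556))
theorem Q12091 : ∀ i, i < 12091 → P i := stepQ 12090 Q12090 (allL N12090 (tt N12086 F70557) (tt N11490 F70558) (tt N12667 (iv F72747)) (tt N12077 F70559) (tt N11472 (iv D17977)) (tt N12668 D18555) (tt N12306 (iv F71327)) (tt N12333 (iv F71415)) (tt N11474 F70560))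
theorem Q12092 : ∀ i, i < 12092 → P i := stepQ 12091 Q12091 (allL N12091 (tt N12540 (iv F72158)) (tt N12622 (iv F72544)) (tt N11474 F70561) (tt N12669 D18556) (tt N11473 (iv D17978)) (tt N12670 D18557) (tt N12665 (iv F72740)) (tt N11482 F70562) (tt N12667 (iv F72748)))
theorem Q12093 : ∀ i, i < 12093 → P i := stepQ 12092 Q12092 (allL N12092 (tt N12655 (iv F72694)) (tt N11493 F70563) (tt N12670 (iv F72755)) (tt N12664 (iv F72733)) (tt N11479 F70564) (tt N11474 (iv D17979)) (tt N12671 D18558) (tt N11483 F70565) (tt N12668 (iv F72753)))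
theorem Q12094 : ∀ i, i < 12094 → P i := stepQ 12093 Q12093 (allL N12093 (tt N12610 (iv F72499)) (tt N11475 (iv D17980)) (tt N11494 F70566) (tt N12093 F70567) (tt N12672 D18559) (tt N12617 (iv F72528)) (tt N12505 (iv F71972)) (tt N11627 F70568) (tt N11477 F70569))
theorem Q12095 : ∀ i, i < 12095 → P i := stepQ 12094 Q12094 (allL N12094 (tt N12656 (iv F72698)) (tt N12672 (iv F72761)) (tt N11476 F70570) (tt N12673 D18560) (tt N11475 (iv D17981)) (tt N12674 D18561) (tt N12506 (iv F71977)) (tt N12601 (iv F72461)) (tt N11478 F70571))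
theorem Q12096 : ∀ i, i < 12096 → P i := stepQ 12095 Q12095 (allL N12095 (tt N12657 (iv F72703)) (tt N11496 F70572) (tt N12674 (iv F72767)) (tt N12245 (iv F71115)) (tt N12668 (iv F72752)) (tt N11476 (iv D17982)) (tt N12675 D18562) (tt N12602 (iv F72466)) (tt N11479 F70573))
theorem Q12097 : ∀ i, i < 12097 → P i := stepQ 12096 Q12096 (allL N12096 (tt N12613 (iv F72514)) (tt N11478 F70574) (tt N11498 F70575) (tt N12676 D18563) (tt N11477 (iv D17983)) (tt N12677 D18564) (tt N12636 (iv F72607)) (tt N11484 F70576) (tt N12672 (iv F72764)))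
theorem Q12098 : ∀ i, i < 12098 → P i := stepQ 12097 Q12097 (allL N12097 (tt N12658 (iv F72708)) (tt N12676 (iv F72771)) (tt N12246 (iv F71119)) (tt N11478 (iv D17984)) (tt N12097 F70577) (tt N12678 D18565) (tt N12637 (iv F72612)) (tt N12632 (iv F72586)) (tt N12673 (iv F72766)))
theorem Q12099 : ∀ i, i < 12099 → P i := stepQ 12098 Q12098 (allL N12098 (tt N12659 (iv F72711)) (tt N12677 (iv F72774)) (tt N11479 F70578) (tt N12678 (iv F72777)) (tt N12670 (iv F72756)) (tt N11478 (iv D17985)) (tt N12679 D18566) (tt N11485 F70579) (tt N12674 (iv F72768)))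
theorem Q12100 : ∀ i, i < 12100 → P i := stepQ 12099 Q12099 (allL N12099 (tt N12660 (iv F72714)) (tt N11501 F70580) (tt N12679 (iv F72778)) (tt N12248 (iv F71124)) (tt N12671 (iv F72759)) (tt N12639 (iv F72622)) (tt N11479 (iv D17986)) (tt N11486 F70581) (tt N12675 (iv F72770)))
theorem Q12101 : ∀ i, i < 12101 → P i := stepQ 12100 Q12100 (allL N12100 (tt N11702 F70582) (tt N11812 F70583) (tt N11481 F70584) (tt N11811 F70585) (tt N11480 (iv D17987)) (tt N12680 D18567) (tt N11482 F70586) (tt N12665 (iv F72741)) (tt N11733 F70587))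
theorem Q12102 : ∀ i, i < 12102 → P i := stepQ 12101 Q12101 (allL N12101 (tt N11703 F70588) (tt N11502 F70589) (tt N12680 (iv F72782)) (tt N11750 F70590) (tt N11692 F70591) (tt N11481 (iv D17988)) (tt N12681 D18568) (tt N12666 (iv F72745)) (tt N11734 F70592))
theorem Q12103 : ∀ i, i < 12103 → P i := stepQ 12102 Q12102 (allL N12102 (tt N11803 F70593) (tt N11592 F70594) (tt N11735 F70595) (tt N11482 (iv D17989)) (tt N11518 F70596) (tt N12682 D18569) (tt N11811 F70597) (tt N12683 D18570) (tt N11833 F70598))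
theorem Q12104 : ∀ i, i < 12104 → P i := stepQ 12103 Q12103 (allL N12103 (tt N12546 (iv F72183)) (tt N12630 (iv F72574)) (tt N11483 F70599) (tt N12682 (iv F72795)) (tt N11485 F70600) (tt N11482 (iv D17990)) (tt N12684 D18571) (tt N12670 (iv F72757)) (tt N12572 (iv F72327)))
theorem Q12105 : ∀ i, i < 12105 → P i := stepQ 12104 Q12104 (allL N12104 (tt N12661 (iv F72717)) (tt N11505 F70601) (tt N12684 (iv F72803)) (tt N11752 F70602) (tt N11486 F70603) (tt N12681 (iv F72790)) (tt N11483 (iv D17991)) (tt N12671 (iv F72760)) (tt N12605 (iv F72482)))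
theorem Q12106 : ∀ i, i < 12106 → P i := stepQ 12105 Q12105 (allL N12105 (tt N12628 (iv F72564)) (tt N11485 F70604) (tt N11507 F70605) (tt N11563 F70606) (tt N12630 (iv F72577)) (tt N11484 (iv D17992)) (tt N12685 D18572) (tt N12677 (iv F72776)) (tt N11608 F70607))
theorem Q12107 : ∀ i, i < 12107 → P i := stepQ 12106 Q12106 (allL N12106 (tt N12662 (iv F72723)) (tt N12685 (iv F72805)) (tt N11486 F70608) (tt N12635 (iv F72600)) (tt N12684 (iv F72804)) (tt N12641 (iv F72634)) (tt N11485 (iv D17993)) (tt N12679 (iv F72779)) (tt N12606 (iv F72488)))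
theorem Q12108 : ∀ i, i < 12108 → P i := stepQ 12107 Q12107 (allL N12107 (tt N12474 (iv F71868)) (tt N12664 (iv F72732)) (tt N12419 (iv F71688)) (tt N11493 F70609) (tt N12252 (iv F71134)) (tt N11487 (iv D17994)) (tt N12686 D18573) (tt N11756 F70610) (tt N12320 (iv F71370)))
theorem Q12109 : ∀ i, i < 12109 → P i := stepQ 12108 Q12108 (allL N12108 (tt N12562 (iv F72277)) (tt N12666 (iv F72743)) (tt N12561 (iv F72274)) (tt N12321 (iv F71371)) (tt N12642 (iv F72639)) (tt N11488 (iv D17995)) (tt N12687 D18574) (tt N11502 F70611) (tt N12319 (iv F71367)))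
theorem Q12110 : ∀ i, i < 12110 → P i := stepQ 12109 Q12109 (allL N12109 (tt N11627 F70612) (tt N11489 (iv D17996)) (tt N12617 (iv F72526)) (tt N11512 F70613) (tt N12688 D18575) (tt N11494 F70614) (tt N11843 F70615) (tt N12610 (iv F72504)) (tt N11491 F70616))
theorem Q12111 : ∀ i, i < 12111 → P i := stepQ 12110 Q12110 (allL N12110 (tt N12479 (iv F71884)) (tt N12688 (iv F72814)) (tt N11490 F70617) (tt N12420 (iv F71694)) (tt N11489 (iv D17997)) (tt N12689 D18576) (tt N12318 (iv F71364)) (tt N12611 (iv F72508)) (tt N11492 F70618))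
theorem Q12112 : ∀ i, i < 12112 → P i := stepQ 12111 Q12111 (allL N12111 (tt N12563 (iv F72282)) (tt N12668 (iv F72750)) (tt N12689 (iv F72817)) (tt N12320 (iv F71368)) (tt N11496 F70619) (tt N11490 (iv D17998)) (tt N12690 D18577) (tt N12612 (iv F72512)) (tt N11493 F70620))
theorem Q12113 : ∀ i, i < 12113 → P i := stepQ 12112 Q12112 (allL N12112 (tt N11609 F70621) (tt N11492 F70622) (tt N12622 (iv F72545)) (tt N12196 (iv F70927)) (tt N11491 (iv D17999)) (tt N12691 D18578) (tt N11816 F70623) (tt N11503 F70624) (tt N12688 (iv F72816)))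
theorem Q12114 : ∀ i, i < 12114 → P i := stepQ 12113 Q12113 (allL N12113 (tt N12483 (iv F71899)) (tt N12691 (iv F72823)) (tt N11493 F70625) (tt N12422 (iv F71701)) (tt N11500 F70626) (tt N11492 (iv D18000)) (tt N12692 D18579) (tt N11504 F70627) (tt N12689 (iv F72819)))
theorem Q12115 : ∀ i, i < 12115 → P i := stepQ 12114 Q12114 (allL N12114 (tt N12564 (iv F72287)) (tt N12671 (iv F72758)) (tt N12692 (iv F72826)) (tt N12686 (iv F72809)) (tt N11501 F70628) (tt N12687 (iv F72811)) (tt N11493 (iv D18001)) (tt N11505 F70629) (tt N12690 (iv F72821)))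
theorem Q12116 : ∀ i, i < 12116 → P i := stepQ 12115 Q12115 (allL N12115 (tt N11494 (iv D18002)) (tt N12332 F71411) (tt N12610 (iv F72500)) (tt N11513 F70630) (tt N12693 D18580) (tt N11627 F70631) (tt N12517 (iv F72035)) (tt N12617 (iv F72530)) (tt N11497 F70632))
theorem Q12117 : ∀ i, i < 12117 → P i := stepQ 12116 Q12116 (allL N12116 (tt N12693 (iv F72829)) (tt N11495 F70633) (tt N12672 (iv F72762)) (tt N12694 D18581) (tt N11494 (iv D18003)) (tt N12695 D18582) (tt N12518 (iv F72040)) (tt N12618 (iv F72534)) (tt N11498 F70634))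
theorem Q12118 : ∀ i, i < 12118 → P i := stepQ 12117 Q12117 (allL N12117 (tt N11664 F70635) (tt N12694 (iv F72831)) (tt N11656 F70636) (tt N11495 (iv D18004)) (tt N11515 F70637) (tt N12696 D18583) (tt N11789 F70638) (tt N12697 D18584) (tt N11499 F70639))
theorem Q12119 : ∀ i, i < 12119 → P i := stepQ 12118 Q12118 (allL N12118 (tt N12565 (iv F72290)) (tt N12695 (iv F72835)) (tt N11496 F70640) (tt N12696 (iv F72839)) (tt N12689 (iv F72818)) (tt N11495 (iv D18005)) (tt N12698 D18585) (tt N12620 (iv F72539)) (tt N11500 F70641))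
theorem Q12120 : ∀ i, i < 12120 → P i := stepQ 12119 Q12119 (allL N12119 (tt N12566 (iv F72294)) (tt N12675 (iv F72769)) (tt N12698 (iv F72846)) (tt N12255 (iv F71145)) (tt N12690 (iv F72820)) (tt N12520 (iv F72048)) (tt N11496 (iv D18006)) (tt N12621 (iv F72541)) (tt N11501 F70642))
theorem Q12121 : ∀ i, i < 12121 → P i := stepQ 12120 Q12120 (allL N12120 (tt N11498 F70643) (tt N12567 (iv F72299)) (tt N12613 (iv F72516)) (tt N12699 D18586) (tt N11497 (iv D18007)) (tt N12700 D18587) (tt N12647 (iv F72660)) (tt N11506 F70644) (tt N12693 (iv F72830)))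
theorem Q12122 : ∀ i, i < 12122 → P i := stepQ 12121 Q12121 (allL N12121 (tt N12699 (iv F72848)) (tt N11499 F70645) (tt N12701 D18588) (tt N11498 (iv D18008)) (tt N11517 F70646) (tt N12702 D18589) (tt N12167 (iv F70816)) (tt N11893 F70647) (tt N12694 (iv F72834)))
theorem Q12123 : ∀ i, i < 12123 → P i := stepQ 12122 Q12122 (allL N12122 (tt N12700 (iv F72851)) (tt N11500 F70648) (tt N12677 (iv F72775)) (tt N12702 (iv F72858)) (tt N12691 (iv F72824)) (tt N11498 (iv D18009)) (tt N12703 D18590) (tt N11507 F70649) (tt N12695 (iv F72836)))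
theorem Q12124 : ∀ i, i < 12124 → P i := stepQ 12123 Q12123 (allL N12123 (tt N12258 (iv F71158)) (tt N12702 (iv F72857)) (tt N12147 (iv F70746)) (tt N11500 F70650) (tt N12432 (iv F71736)) (tt N11499 (iv D18010)) (tt N12704 D18591) (tt N11895 F70651) (tt N12696 (iv F72840)))
theorem Q12125 : ∀ i, i < 12125 → P i := stepQ 12124 Q12124 (allL N12124 (tt N12569 (iv F72307)) (tt N12703 (iv F72860)) (tt N11501 F70652) (tt N12704 (iv F72862)) (tt N12692 (iv F72827)) (tt N12649 (iv F72665)) (tt N11500 (iv D18011)) (tt N11508 F70653) (tt N12698 (iv F72847)))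
theorem Q12126 : ∀ i, i < 12126 → P i := stepQ 12125 Q12125 (allL N12125 (tt N12570 (iv F72310)) (tt N12681 (iv F72787)) (tt N12560 (iv F72268)) (tt N11766 F70654) (tt N12650 (iv F72671)) (tt N11505 F70655) (tt N11502 (iv D18012)) (tt N12687 (iv F72812)) (tt N12627 (iv F72563)))
theorem Q12127 : ∀ i, i < 12127 → P i := stepQ 12126 Q12126 (allL N12126 (tt N11608 F70656) (tt N11504 F70657) (tt N12630 (iv F72575)) (tt N11594 F70658) (tt N11507 F70659) (tt N11503 (iv D18013)) (tt N12705 D18592) (tt N12691 (iv F72825)) (tt N12628 (iv F72569)))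
theorem Q12128 : ∀ i, i < 12128 → P i := stepQ 12127 Q12127 (allL N12127 (tt N12571 (iv F72317)) (tt N12705 (iv F72865)) (tt N11505 F70660) (tt N12552 (iv F72221)) (tt N11508 F70661) (tt N12560 (iv F72271)) (tt N11504 (iv D18014)) (tt N12692 (iv F72828)) (tt N12629 (iv F72572)))
theorem Q12129 : ∀ i, i < 12129 → P i := stepQ 12128 Q12128 (allL N12128 (tt N11507 F70662) (tt N12572 (iv F72323)) (tt N12628 (iv F72566)) (tt N11903 F70663) (tt N11608 F70664) (tt N11506 (iv D18015)) (tt N12706 D18593) (tt N12700 (iv F72853)) (tt N12630 (iv F72578)))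
theorem Q12130 : ∀ i, i < 12130 → P i := stepQ 12129 Q12129 (allL N12129 (tt N12706 (iv F72869)) (tt N11508 F70665) (tt N12685 (iv F72806)) (tt N11904 F70666) (tt N12705 (iv F72867)) (tt N12654 (iv F72693)) (tt N11507 (iv D18016)) (tt N12703 (iv F72861)) (tt N12631 (iv F72582)))
theorem Q12131 : ∀ i, i < 12131 → P i := stepQ 12130 Q12130 (allL N12130 (tt N11773 F70667) (tt N12283 (iv F71253)) (tt N12391 (iv F71622)) (tt N11510 (iv D18017)) (tt N12644 (iv F72647)) (tt N12172 (iv F70834)) (tt N11909 F70668) (tt N12166 (iv F70813)) (tt N12521 (iv F72054)))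
theorem Q12132 : ∀ i, i < 12132 → P i := stepQ 12131 Q12131 (allL N12131 (tt N11514 F70669) (tt N11769 F70670) (tt N12131 F70671) (tt N12707 D18594) (tt N11513 (iv D18018)) (tt N12436 (iv F71748)) (tt N11794 F70672) (tt N12131 F70673) (tt N11516 F70674))
theorem Q12133 : ∀ i, i < 12133 → P i := stepQ 12132 Q12132 (allL N12132 (tt N12707 (iv F72872)) (tt N11515 F70675) (tt N12708 D18595) (tt N11514 (iv D18019)) (tt N12694 (iv F72832)) (tt N12437 (iv F71753)) (tt N11788 F70676) (tt N12709 D18596) (tt N11517 F70677))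
theorem Q12134 : ∀ i, i < 12134 → P i := stepQ 12133 Q12133 (allL N12133 (tt N11660 F70678) (tt N12709 (iv F72881)) (tt N11655 F70679) (tt N12133 F70680) (tt N12697 (iv F72843)) (tt N12264 (iv F71183)) (tt N11784 F70681) (tt N11515 (iv D18020)) (tt N11908 F70682))
theorem Q12135 : ∀ i, i < 12135 → P i := stepQ 12134 Q12134 (allL N12134 (tt N11517 F70683) (tt N12256 (iv F71149)) (tt N12710 D18597) (tt N11516 (iv D18021)) (tt N12699 (iv F72849)) (tt N12438 (iv F71758)) (tt N12166 (iv F70812)) (tt N11909 F70684) (tt N12707 (iv F72875)))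
theorem Q12136 : ∀ i, i < 12136 → P i := stepQ 12135 Q12135 (allL N12135 (tt N12710 (iv F72885)) (tt N11844 F70685) (tt N11517 (iv D18022)) (tt N12135 F70686) (tt N12701 (iv F72855)) (tt N11848 F70687) (tt N12155 (iv F70784)) (tt N11853 F70688) (tt N12708 (iv F72880)))
theorem Q12137 : ∀ i, i < 12137 → P i := stepQ 12136 Q12136 (allL N12136 (tt N11800 F70689) (tt N11590 F70690) (tt N11730 F70691) (tt N12136 F70692) (tt N12683 (iv F72801)) (tt N11841 F70693) (tt N11808 F70694) (tt N11518 (iv D18023)) (tt N12711 D18598))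
theorem Q12138 : ∀ i, i < 12138 → P i := stepQ 12137 Q12137 (allL N12137 (tt N11632 F70695) (tt N12634 (iv F72593)) (tt N11551 F70696) (tt N12069 F70697) (tt N11791 F70698) (tt N11648 F70699) (tt N11519 (iv D18024)) (tt N11520 F70700) (tt N11923 F70701))
theorem Q12139 : ∀ i, i < 12139 → P i := stepQ 12138 Q12138 (allL N12138 (tt N11900 F70702) (tt N11582 F70703) (tt N11522 F70704) (tt N11831 F70705) (tt N12499 (iv F71944)) (tt N11521 (iv D18025)) (tt N12712 D18599) (tt N11959 F70706) (tt N11642 F70707))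
theorem Q12140 : ∀ i, i < 12140 → P i := stepQ 12139 Q12139 (allL N12139 (tt N12548 (iv F72193)) (tt N11523 F70708) (tt N12712 (iv F72898)) (tt N11633 F70709) (tt N12551 (iv F72215)) (tt N11527 F70710) (tt N11522 (iv D18026)) (tt N11960 F70711) (tt N11643 F70712))
theorem Q12141 : ∀ i, i < 12141 → P i := stepQ 12140 Q12140 (allL N12140 (tt N11526 F70713) (tt N12499 (iv F71941)) (tt N11525 F70714) (tt N11897 F70715) (tt N11582 F70716) (tt N11524 (iv D18027)) (tt N12713 D18600) (tt N11965 F70717) (tt N12549 (iv F72205)))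
theorem Q12142 : ∀ i, i < 12142 → P i := stepQ 12141 Q12141 (allL N12141 (tt N11527 F70718) (tt N11576 F70719) (tt N12713 (iv F72904)) (tt N12522 (iv F72058)) (tt N11583 F70720) (tt N12548 (iv F72198)) (tt N11525 (iv D18028)) (tt N11966 F70721) (tt N12550 (iv F72211)))
theorem Q12143 : ∀ i, i < 12143 → P i := stepQ 12142 Q12142 (allL N12142 (tt N12713 (iv F72903)) (tt N11610 F70722) (tt N11527 F70723) (tt N12606 (iv F72486)) (tt N11817 F70724) (tt N12712 (iv F72900)) (tt N11526 (iv D18029)) (tt N11973 F70725) (tt N12635 (iv F72603)))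
theorem Q12144 : ∀ i, i < 12144 → P i := stepQ 12143 Q12143 (allL N12143 (tt N11648 F70726) (tt N12574 (iv F72333)) (tt N11653 F70727) (tt N11982 F70728) (tt N12575 (iv F72342)) (tt N11632 F70729) (tt N11528 (iv D18030)) (tt N11529 F70730) (tt N11992 F70731))
theorem Q12145 : ∀ i, i < 12145 → P i := stepQ 12144 Q12144 (allL N12144 (tt N11629 F70732) (tt N12462 (iv F71839)) (tt N11646 F70733) (tt N12229 (iv F71046)) (tt N11535 F70734) (tt N11531 (iv D18031)) (tt N12714 D18601) (tt N11555 F70735) (tt N11994 F70736))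
theorem Q12146 : ∀ i, i < 12146 → P i := stepQ 12145 Q12145 (allL N12145 (tt N11782 F70737) (tt N11638 F70738) (tt N11533 F70739) (tt N12715 D18602) (tt N11532 (iv D18032)) (tt N12716 D18603) (tt N11542 F70740) (tt N11556 F70741) (tt N12151 (iv F70767)))
theorem Q12147 : ∀ i, i < 12147 → P i := stepQ 12146 Q12146 (allL N12146 (tt N11783 F70742) (tt N11535 F70743) (tt N12716 (iv F72920)) (tt N12442 (iv F71773)) (tt N12462 (iv F71841)) (tt N11533 (iv D18033)) (tt N12717 D18604) (tt N11557 F70744) (tt N12152 (iv F70771)))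
theorem Q12148 : ∀ i, i < 12148 → P i := stepQ 12147 Q12147 (allL N12147 (tt N11652 F70745) (tt N12442 (iv F71772)) (tt N12123 F70746) (tt N11535 F70747) (tt N12234 (iv F71067)) (tt N11534 (iv D18034)) (tt N12718 D18605) (tt N11764 F70748) (tt N12261 (iv F71171)))
theorem Q12149 : ∀ i, i < 12149 → P i := stepQ 12148 Q12148 (allL N12148 (tt N11653 F70749) (tt N12717 (iv F72923)) (tt N11648 F70750) (tt N12718 (iv F72928)) (tt N12714 (iv F72911)) (tt N11551 F70751) (tt N11535 (iv D18035)) (tt N11558 F70752) (tt N12262 (iv F71176)))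
theorem Q12150 : ∀ i, i < 12150 → P i := stepQ 12149 Q12149 (allL N12149 (tt N11540 F70753) (tt N12708 (iv F72876)) (tt N11536 (iv D18036)) (tt N12149 F70754) (tt N12719 D18606) (tt N11846 F70755) (tt N11780 F70756) (tt N12275 (iv F71230)) (tt N11844 F70757))
theorem Q12151 : ∀ i, i < 12151 → P i := stepQ 12150 Q12150 (allL N12150 (tt N11541 F70758) (tt N11656 F70759) (tt N12719 (iv F72932)) (tt N11538 F70760) (tt N11536 (iv D18037)) (tt N12720 D18607) (tt N11781 F70761) (tt N12276 (iv F71236)) (tt N11845 F70762))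
theorem Q12152 : ∀ i, i < 12152 → P i := stepQ 12151 Q12151 (allL N12151 (tt N11542 F70763) (tt N12244 (iv F71108)) (tt N11538 F70764) (tt N12721 D18608) (tt N11537 (iv D18038)) (tt N12722 D18609) (tt N11782 F70765) (tt N11559 F70766) (tt N12145 F70767))
theorem Q12153 : ∀ i, i < 12153 → P i := stepQ 12152 Q12152 (allL N12152 (tt N11543 F70768) (tt N11657 F70769) (tt N12722 (iv F72945)) (tt N12720 (iv F72937)) (tt N12504 (iv F71965)) (tt N11538 (iv D18039)) (tt N12723 D18610) (tt N11560 F70770) (tt N12146 F70771))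
theorem Q12154 : ∀ i, i < 12154 → P i := stepQ 12153 Q12153 (allL N12153 (tt N11846 F70772) (tt N12593 (iv F72420)) (tt N11539 (iv D18040)) (tt N12153 F70773) (tt N12724 D18611) (tt N11540 F70774) (tt N11908 F70775) (tt N11772 F70776) (tt N11784 F70777))
theorem Q12155 : ∀ i, i < 12155 → P i := stepQ 12154 Q12154 (allL N12154 (tt N11847 F70778) (tt N11547 F70779) (tt N12724 (iv F72954)) (tt N11799 F70780) (tt N11539 (iv D18041)) (tt N12725 D18612) (tt N12263 (iv F71178)) (tt N12161 (iv F70798)) (tt N11785 F70781))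
theorem Q12156 : ∀ i, i < 12156 → P i := stepQ 12155 Q12155 (allL N12155 (tt N12726 D18613) (tt N11540 (iv D18042)) (tt N11548 F70782) (tt N12155 F70783) (tt N12727 D18614) (tt N12593 (iv F72423)) (tt N12135 F70784) (tt N11861 F70785) (tt N12373 (iv F71558)))
theorem Q12157 : ∀ i, i < 12157 → P i := stepQ 12156 Q12156 (allL N12156 (tt N12719 (iv F72931)) (tt N12727 (iv F72967)) (tt N11541 F70786) (tt N12728 D18615) (tt N11540 (iv D18043)) (tt N12729 D18616) (tt N12441 (iv F71769)) (tt N12451 (iv F71800)) (tt N12374 (iv F71560)))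
theorem Q12158 : ∀ i, i < 12158 → P i := stepQ 12157 Q12157 (allL N12157 (tt N12720 (iv F72935)) (tt N11550 F70787) (tt N12729 (iv F72973)) (tt N11543 F70788) (tt N12725 (iv F72961)) (tt N11541 (iv D18044)) (tt N12730 D18617) (tt N12452 (iv F71804)) (tt N12375 (iv F71563)))
theorem Q12159 : ∀ i, i < 12159 → P i := stepQ 12158 Q12158 (allL N12158 (tt N12721 (iv F72940)) (tt N12632 (iv F72583)) (tt N12728 (iv F72971)) (tt N11542 (iv D18045)) (tt N12158 F70789) (tt N12731 D18618) (tt N12715 (iv F72917)) (tt N12676 (iv F72773)) (tt N12376 (iv F71565)))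
theorem Q12160 : ∀ i, i < 12160 → P i := stepQ 12159 Q12159 (allL N12159 (tt N12722 (iv F72944)) (tt N12633 (iv F72588)) (tt N11543 F70790) (tt N12731 (iv F72976)) (tt N12509 (iv F71990)) (tt N11542 (iv D18046)) (tt N12732 D18619) (tt N11563 F70791) (tt N12377 (iv F71568)))
theorem Q12161 : ∀ i, i < 12161 → P i := stepQ 12160 Q12160 (allL N12160 (tt N12723 (iv F72948)) (tt N11551 F70792) (tt N12732 (iv F72977)) (tt N12730 (iv F72975)) (tt N12510 (iv F71993)) (tt N12717 (iv F72924)) (tt N11543 (iv D18047)) (tt N11564 F70793) (tt N12378 (iv F71571)))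
theorem Q12162 : ∀ i, i < 12162 → P i := stepQ 12161 Q12161 (allL N12161 (tt N11672 F70794) (tt N11677 F70795) (tt N12353 (iv F71488)) (tt N11568 F70796) (tt N11544 (iv D18048)) (tt N12733 D18620) (tt N11662 F70797) (tt N12154 F70798) (tt N11545 F70799))
theorem Q12163 : ∀ i, i < 12163 → P i := stepQ 12162 Q12162 (allL N12162 (tt N11675 F70800) (tt N12452 (iv F71802)) (tt N12358 (iv F71507)) (tt N11569 F70801) (tt N12288 (iv F71267)) (tt N11545 (iv D18049)) (tt N12734 D18621) (tt N11550 F70802) (tt N12733 (iv F72984)))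
theorem Q12164 : ∀ i, i < 12164 → P i := stepQ 12163 Q12163 (allL N12163 (tt N12735 D18622) (tt N11546 (iv D18050)) (tt N12593 (iv F72421)) (tt N11552 F70803) (tt N12736 D18623) (tt N11548 F70804) (tt N12277 (iv F71240)) (tt N11686 F70805) (tt N12382 (iv F71586)))
theorem Q12165 : ∀ i, i < 12165 → P i := stepQ 12164 Q12164 (allL N12164 (tt N11679 F70806) (tt N12736 (iv F72993)) (tt N11547 F70807) (tt N12737 D18624) (tt N11546 (iv D18051)) (tt N12738 D18625) (tt N12278 (iv F71243)) (tt N12287 (iv F71265)) (tt N12383 (iv F71590)))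
theorem Q12166 : ∀ i, i < 12166 → P i := stepQ 12165 Q12165 (allL N12165 (tt N11680 F70808) (tt N12725 (iv F72959)) (tt N12738 (iv F72998)) (tt N12516 (iv F72027)) (tt N11550 F70809) (tt N11547 (iv D18052)) (tt N12739 D18626) (tt N12288 (iv F71268)) (tt N12384 (iv F71596)))
theorem Q12167 : ∀ i, i < 12167 → P i := stepQ 12166 Q12166 (allL N12166 (tt N11548 (iv D18053)) (tt N11681 F70810) (tt N12726 (iv F72963)) (tt N11554 F70811) (tt N12740 D18627) (tt N12735 (iv F72991)) (tt N12134 F70812) (tt N12130 F70813) (tt N12385 (iv F71599)))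
theorem Q12168 : ∀ i, i < 12168 → P i := stepQ 12167 Q12167 (allL N12167 (tt N12740 (iv F73002)) (tt N11549 F70814) (tt N12727 (iv F72968)) (tt N12067 F70815) (tt N11548 (iv D18054)) (tt N12741 D18628) (tt N12121 F70816) (tt N12356 (iv F71501)) (tt N12386 (iv F71601)))
theorem Q12169 : ∀ i, i < 12169 → P i := stepQ 12168 Q12168 (allL N12168 (tt N11683 F70817) (tt N12741 (iv F73007)) (tt N11550 F70818) (tt N12068 F70819) (tt N12738 (iv F72999)) (tt N11549 (iv D18055)) (tt N12742 D18629) (tt N12358 (iv F71509)) (tt N12387 (iv F71604)))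
theorem Q12170 : ∀ i, i < 12170 → P i := stepQ 12169 Q12169 (allL N12169 (tt N11684 F70820) (tt N12730 (iv F72974)) (tt N12742 (iv F73010)) (tt N11551 F70821) (tt N12739 (iv F73001)) (tt N12718 (iv F72929)) (tt N11550 (iv D18056)) (tt N12734 (iv F72988)) (tt N12388 (iv F71607)))
theorem Q12171 : ∀ i, i < 12171 → P i := stepQ 12170 Q12170 (allL N12170 (tt N11552 (iv D18057)) (tt N11685 F70822) (tt N12170 F70823) (tt N12735 (iv F72990)) (tt N11777 (iv F70826)) (tt N11554 F70824) (tt N12171 (iv F70831)) (tt N11774 F70825) (tt N12389 (iv F71612)))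
theorem Q12172 : ∀ i, i < 12172 → P i := stepQ 12171 Q12171 (allL N12171 (tt N11777 F70827) (tt N11553 F70828) (tt N12171 F70829) (tt N12743 D18630) (tt N11552 (iv D18058)) (tt N11779 F70830) (tt N12170 F70831) (tt N11775 F70832) (tt N12390 (iv F71620)))
theorem Q12173 : ∀ i, i < 12173 → P i := stepQ 12172 Q12172 (allL N12172 (tt N11686 F70833) (tt N12743 (iv F73014)) (tt N12521 (iv F72051)) (tt N11553 (iv D18059)) (tt N12737 (iv F72996)) (tt N12130 F70834) (tt N12289 (iv F71271)) (tt N12735 (iv F72992)) (tt N12391 (iv F71623)))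
theorem Q12174 : ∀ i, i < 12174 → P i := stepQ 12173 Q12173 (allL N12173 (tt N11633 F70835) (tt N12550 (iv F72207)) (tt N11649 F70836) (tt N12548 (iv F72196)) (tt N11558 F70837) (tt N12522 (iv F72060)) (tt N11555 (iv D18060)) (tt N12714 (iv F72912)) (tt N11576 F70838))
theorem Q12175 : ∀ i, i < 12175 → P i := stepQ 12174 Q12174 (allL N12174 (tt N11796 F70839) (tt N11642 F70840) (tt N11557 F70841) (tt N12640 (iv F72627)) (tt N12549 (iv F72204)) (tt N11556 (iv D18061)) (tt N12744 D18631) (tt N12716 (iv F72921)) (tt N11582 F70842))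
theorem Q12176 : ∀ i, i < 12176 → P i := stepQ 12175 Q12175 (allL N12175 (tt N11797 F70843) (tt N11558 F70844) (tt N12744 (iv F73020)) (tt N11768 F70845) (tt N12550 (iv F72209)) (tt N11564 F70846) (tt N11557 (iv D18062)) (tt N12717 (iv F72925)) (tt N11583 F70847))
theorem Q12177 : ∀ i, i < 12177 → P i := stepQ 12176 Q12176 (allL N12176 (tt N11563 F70848) (tt N12523 (iv F72063)) (tt N11560 F70849) (tt N12628 (iv F72567)) (tt N12529 (iv F72102)) (tt N11559 (iv D18063)) (tt N12745 D18632) (tt N12722 (iv F72946)) (tt N11594 F70850))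
theorem Q12178 : ∀ i, i < 12178 → P i := stepQ 12177 Q12177 (allL N12177 (tt N11564 F70851) (tt N11693 F70852) (tt N12745 (iv F73024)) (tt N12650 (iv F72670)) (tt N12530 (iv F72107)) (tt N11797 F70853) (tt N11560 (iv D18064)) (tt N12723 (iv F72951)) (tt N11595 F70854))
theorem Q12179 : ∀ i, i < 12179 → P i := stepQ 12178 Q12178 (allL N12178 (tt N12642 (iv F72636)) (tt N11569 F70855) (tt N11894 F70856) (tt N12452 (iv F71803)) (tt N12562 (iv F72280)) (tt N11561 (iv D18065)) (tt N12746 D18633) (tt N11562 F70857) (tt N12586 (iv F72395)))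
theorem Q12180 : ∀ i, i < 12180 → P i := stepQ 12179 Q12179 (allL N12179 (tt N12650 (iv F72667)) (tt N11571 F70858) (tt N11904 F70859) (tt N11564 F70860) (tt N12570 (iv F72314)) (tt N11768 F70861) (tt N11562 (iv D18066)) (tt N12746 (iv F73030)) (tt N11607 F70862))
theorem Q12181 : ∀ i, i < 12181 → P i := stepQ 12180 Q12180 (allL N12180 (tt N12745 (iv F73023)) (tt N12635 (iv F72598)) (tt N11564 F70863) (tt N12685 (iv F72807)) (tt N12535 (iv F72137)) (tt N12744 (iv F73021)) (tt N11563 (iv D18067)) (tt N12732 (iv F72978)) (tt N11610 F70864))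
theorem Q12182 : ∀ i, i < 12182 → P i := stepQ 12181 Q12181 (allL N12181 (tt N11707 F70865) (tt N12182 (iv F70870)) (tt N12478 (iv F71881)) (tt N11567 F70866) (tt N11565 (iv D18068)) (tt N12747 D18634) (tt N11975 F70867) (tt N12212 (iv F71001)) (tt N11974 F70868))
theorem Q12183 : ∀ i, i < 12183 → P i := stepQ 12182 Q12182 (allL N12182 (tt N11709 F70869) (tt N12181 F70870) (tt N11718 F70871) (tt N11974 F70872) (tt N11566 (iv D18069)) (tt N12748 D18635) (tt N11876 F70873) (tt N11613 F70874) (tt N11567 F70875))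
theorem Q12184 : ∀ i, i < 12184 → P i := stepQ 12183 Q12183 (allL N12183 (tt N11710 F70876) (tt N12562 (iv F72278)) (tt N11719 F70877) (tt N12747 (iv F73032)) (tt N11569 F70878) (tt N11567 (iv D18070)) (tt N12749 D18636) (tt N11570 F70879) (tt N12748 (iv F73041)))
theorem Q12185 : ∀ i, i < 12185 → P i := stepQ 12184 Q12184 (allL N12184 (tt N11711 F70880) (tt N12586 (iv F72391)) (tt N11720 F70881) (tt N12733 (iv F72981)) (tt N12748 (iv F73039)) (tt N11568 (iv D18071)) (tt N12750 D18637) (tt N11617 F70882) (tt N11569 F70883))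
theorem Q12186 : ∀ i, i < 12186 → P i := stepQ 12185 Q12185 (allL N12185 (tt N11712 F70884) (tt N12746 (iv F73027)) (tt N11721 F70885) (tt N12734 (iv F72986)) (tt N12749 (iv F73044)) (tt N11765 F70886) (tt N11569 (iv D18072)) (tt N11571 F70887) (tt N12750 (iv F73050)))
theorem Q12187 : ∀ i, i < 12187 → P i := stepQ 12186 Q12186 (allL N12186 (tt N11714 F70888) (tt N12570 (iv F72311)) (tt N11723 F70889) (tt N12545 (iv F72179)) (tt N11571 F70890) (tt N12559 (iv F72264)) (tt N11570 (iv D18073)) (tt N12749 (iv F73045)) (tt N11623 F70891))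
theorem Q12188 : ∀ i, i < 12188 → P i := stepQ 12187 Q12187 (allL N12187 (tt N11638 F70892) (tt N12503 (iv F71957)) (tt N11573 F70893) (tt N12751 D18638) (tt N11572 (iv D18074)) (tt N12752 D18639) (tt N12461 (iv F71836)) (tt N11574 F70894) (tt N12242 (iv F71102)))
theorem Q12189 : ∀ i, i < 12189 → P i := stepQ 12188 Q12188 (allL N12188 (tt N11639 F70895) (tt N12253 (iv F71137)) (tt N12752 (iv F73056)) (tt N12081 F70896) (tt N12245 (iv F71116)) (tt N11573 (iv D18075)) (tt N12753 D18640) (tt N11575 F70897) (tt N12243 (iv F71106)))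
theorem Q12190 : ∀ i, i < 12190 → P i := stepQ 12189 Q12189 (allL N12189 (tt N11642 F70898) (tt N12529 (iv F72099)) (tt N11575 F70899) (tt N11873 F70900) (tt N12523 (iv F72066)) (tt N11574 (iv D18076)) (tt N12754 D18641) (tt N12752 (iv F73057)) (tt N11900 F70901))
theorem Q12191 : ∀ i, i < 12191 → P i := stepQ 12190 Q12190 (allL N12190 (tt N11643 F70902) (tt N12522 (iv F72056)) (tt N12754 (iv F73062)) (tt N11576 F70903) (tt N12524 (iv F72071)) (tt N12550 (iv F72210)) (tt N11575 (iv D18077)) (tt N12753 (iv F73060)) (tt N12548 (iv F72199)))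
theorem Q12192 : ∀ i, i < 12192 → P i := stepQ 12191 Q12191 (allL N12191 (tt N11809 F70904) (tt N11700 F70905) (tt N11578 F70906) (tt N12755 D18642) (tt N11577 (iv D18078)) (tt N12756 D18643) (tt N11602 F70907) (tt N11579 F70908) (tt N12580 (iv F72374)))
theorem Q12193 : ∀ i, i < 12193 → P i := stepQ 12192 Q12192 (allL N12192 (tt N11810 F70909) (tt N11586 F70910) (tt N12756 (iv F73071)) (tt N12205 (iv F70966)) (tt N12526 (iv F72083)) (tt N11578 (iv D18079)) (tt N12757 D18644) (tt N11580 F70911) (tt N12581 (iv F72379)))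
theorem Q12194 : ∀ i, i < 12194 → P i := stepQ 12193 Q12193 (allL N12193 (tt N11813 F70912) (tt N11704 F70913) (tt N11580 F70914) (tt N12598 (iv F72444)) (tt N12527 (iv F72090)) (tt N11579 (iv D18080)) (tt N12758 D18645) (tt N12756 (iv F73072)) (tt N11753 F70915))
theorem Q12195 : ∀ i, i < 12195 → P i := stepQ 12194 Q12194 (allL N12194 (tt N11814 F70916) (tt N11588 F70917) (tt N12758 (iv F73079)) (tt N11583 F70918) (tt N12528 (iv F72095)) (tt N11607 F70919) (tt N11580 (iv D18081)) (tt N12757 (iv F73076)) (tt N11768 F70920))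
theorem Q12196 : ∀ i, i < 12196 → P i := stepQ 12195 Q12195 (allL N12195 (tt N11815 F70921) (tt N11831 F70922) (tt N12598 (iv F72443)) (tt N11582 F70923) (tt N11834 F70924) (tt N11581 (iv D18082)) (tt N12759 D18646) (tt N12760 D18647) (tt N12640 (iv F72629)))
theorem Q12197 : ∀ i, i < 12197 → P i := stepQ 12196 Q12196 (allL N12196 (tt N11816 F70925) (tt N11821 F70926) (tt N12594 (iv F72428)) (tt N12112 F70927) (tt N11626 F70928) (tt N12760 (iv F73091)) (tt N11609 F70929) (tt N11581 (iv D18083)) (tt N12761 D18648))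
theorem Q12198 : ∀ i, i < 12198 → P i := stepQ 12197 Q12197 (allL N12197 (tt N11817 F70930) (tt N12712 (iv F72897)) (tt N11583 F70931) (tt N12759 (iv F73084)) (tt N12713 (iv F72906)) (tt N11610 F70932) (tt N11582 (iv D18084)) (tt N12208 (iv F70978)) (tt N12744 (iv F73022)))
theorem Q12199 : ∀ i, i < 12199 → P i := stepQ 12198 Q12198 (allL N12198 (tt N11719 F70933) (tt N12526 (iv F72081)) (tt N11710 F70934) (tt N12602 (iv F72465)) (tt N11586 F70935) (tt N11584 (iv D18085)) (tt N12762 D18649) (tt N11587 F70936) (tt N12578 (iv F72363)))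
theorem Q12200 : ∀ i, i < 12200 → P i := stepQ 12199 Q12199 (allL N12199 (tt N11720 F70937) (tt N12581 (iv F72376)) (tt N11711 F70938) (tt N12339 (iv F71439)) (tt N12578 (iv F72361)) (tt N11585 (iv D18086)) (tt N12763 D18650) (tt N11761 F70939) (tt N11586 F70940))
theorem Q12201 : ∀ i, i < 12201 → P i := stepQ 12200 Q12200 (allL N12200 (tt N11721 F70941) (tt N12757 (iv F73074)) (tt N11712 F70942) (tt N12342 (iv F71450)) (tt N12762 (iv F73099)) (tt N11620 F70943) (tt N11586 (iv D18087)) (tt N11588 F70944) (tt N12763 (iv F73105)))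
theorem Q12202 : ∀ i, i < 12202 → P i := stepQ 12201 Q12201 (allL N12201 (tt N11723 F70945) (tt N12528 (iv F72093)) (tt N11714 F70946) (tt N12524 (iv F72070)) (tt N11588 F70947) (tt N12532 (iv F72122)) (tt N11587 (iv D18088)) (tt N12762 (iv F73100)) (tt N11767 F70948))
theorem Q12203 : ∀ i, i < 12203 → P i := stepQ 12202 Q12202 (allL N12202 (tt N11600 F70949) (tt N12711 (iv F72890)) (tt N11589 (iv D18089)) (tt N12202 F70950) (tt N12764 D18651) (tt N12028 F70951) (tt N11806 F70952) (tt N11887 F70953) (tt N11590 F70954))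
theorem Q12204 : ∀ i, i < 12204 → P i := stepQ 12203 Q12203 (allL N12203 (tt N11601 F70955) (tt N11729 F70956) (tt N12764 (iv F73107)) (tt N11999 F70957) (tt N11589 (iv D18090)) (tt N12765 D18652) (tt N11807 F70958) (tt N12274 (iv F71224)) (tt N11591 F70959))
theorem Q12205 : ∀ i, i < 12205 → P i := stepQ 12204 Q12204 (allL N12204 (tt N11602 F70960) (tt N12683 (iv F72799)) (tt N11591 F70961) (tt N12766 D18653) (tt N11590 (iv D18091)) (tt N12767 D18654) (tt N11809 F70962) (tt N11592 F70963) (tt N12764 (iv F73110)))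
theorem Q12206 : ∀ i, i < 12206 → P i := stepQ 12205 Q12205 (allL N12205 (tt N11603 F70964) (tt N11732 F70965) (tt N12767 (iv F73121)) (tt N12192 F70966) (tt N12609 (iv F72496)) (tt N11591 (iv D18092)) (tt N12768 D18655) (tt N11593 F70967) (tt N12765 (iv F73115)))
theorem Q12207 : ∀ i, i < 12207 → P i := stepQ 12206 Q12206 (allL N12206 (tt N11606 F70968) (tt N12682 (iv F72793)) (tt N11593 F70969) (tt N12630 (iv F72576)) (tt N12533 (iv F72128)) (tt N11592 (iv D18093)) (tt N12769 D18656) (tt N12767 (iv F73122)) (tt N11903 F70970))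
theorem Q12208 : ∀ i, i < 12208 → P i := stepQ 12207 Q12207 (allL N12207 (tt N11607 F70971) (tt N11737 F70972) (tt N12769 (iv F73129)) (tt N11595 F70973) (tt N12627 (iv F72561)) (tt N11814 F70974) (tt N11593 (iv D18094)) (tt N12768 (iv F73127)) (tt N12650 (iv F72673)))
theorem Q12209 : ∀ i, i < 12209 → P i := stepQ 12208 Q12208 (allL N12208 (tt N11610 F70975) (tt N12552 (iv F72219)) (tt N11595 F70976) (tt N12705 (iv F72866)) (tt N12556 (iv F72248)) (tt N11817 F70977) (tt N11594 (iv D18095)) (tt N12197 F70978) (tt N12745 (iv F73026)))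
theorem Q12210 : ∀ i, i < 12210 → P i := stepQ 12209 Q12209 (allL N12209 (tt N12031 F70979) (tt N12078 F70980) (tt N11596 (iv D18096)) (tt N12209 F70981) (tt N12770 D18657) (tt N11944 F70982) (tt N12211 (iv F70994)) (tt N11905 F70983) (tt N11942 F70984))
theorem Q12211 : ∀ i, i < 12211 → P i := stepQ 12210 Q12210 (allL N12210 (tt N12032 F70985) (tt N11611 F70986) (tt N12770 (iv F73134)) (tt N11599 F70987) (tt N11596 (iv D18097)) (tt N12771 D18658) (tt N12212 (iv F71000)) (tt N11975 F70988) (tt N11943 F70989))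
theorem Q12212 : ∀ i, i < 12212 → P i := stepQ 12211 Q12211 (allL N12211 (tt N12028 F70990) (tt N11864 F70991) (tt N11597 (iv D18098)) (tt N12211 F70992) (tt N12772 D18659) (tt N11600 F70993) (tt N12209 F70994) (tt N11880 F70995) (tt N11598 F70996))
theorem Q12213 : ∀ i, i < 12213 → P i := stepQ 12212 Q12212 (allL N12212 (tt N12029 F70997) (tt N11613 F70998) (tt N12772 (iv F73145)) (tt N11943 F70999) (tt N11597 (iv D18099)) (tt N12773 D18660) (tt N12210 F71000) (tt N12181 F71001) (tt N11599 F71002))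
theorem Q12214 : ∀ i, i < 12214 → P i := stepQ 12213 Q12213 (allL N12213 (tt N12534 (iv F72130)) (tt N11866 F71003) (tt N11599 F71004) (tt N12774 D18661) (tt N11598 (iv D18100)) (tt N12775 D18662) (tt N12536 (iv F72142)) (tt N11604 F71005) (tt N12772 (iv F73148)))
theorem Q12215 : ∀ i, i < 12215 → P i := stepQ 12214 Q12214 (allL N12214 (tt N12609 (iv F72494)) (tt N11615 F71006) (tt N12775 (iv F73158)) (tt N12771 (iv F73139)) (tt N11603 F71007) (tt N11599 (iv D18101)) (tt N12776 D18663) (tt N11605 F71008) (tt N12773 (iv F73154)))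
theorem Q12216 : ∀ i, i < 12216 → P i := stepQ 12215 Q12215 (allL N12215 (tt N12764 (iv F73106)) (tt N11868 F71009) (tt N11601 F71010) (tt N12777 D18664) (tt N11600 (iv D18102)) (tt N12778 D18665) (tt N12580 (iv F72372)) (tt N11888 F71011) (tt N11602 F71012))
theorem Q12217 : ∀ i, i < 12217 → P i := stepQ 12216 Q12216 (allL N12216 (tt N12765 (iv F73111)) (tt N11617 F71013) (tt N12778 (iv F73168)) (tt N12406 (iv F71659)) (tt N12773 (iv F73152)) (tt N11601 (iv D18103)) (tt N12779 D18666) (tt N12586 (iv F72394)) (tt N11603 F71014))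
theorem Q12218 : ∀ i, i < 12218 → P i := stepQ 12217 Q12217 (allL N12217 (tt N12766 (iv F73116)) (tt N11870 F71015) (tt N12408 (iv F71664)) (tt N11602 (iv D18104)) (tt N12217 F71016) (tt N12780 D18667) (tt N12755 (iv F73068)) (tt N12623 (iv F72550)) (tt N12777 (iv F73166)))
theorem Q12219 : ∀ i, i < 12219 → P i := stepQ 12218 Q12218 (allL N12218 (tt N12767 (iv F73120)) (tt N11871 F71017) (tt N11603 F71018) (tt N12780 (iv F73174)) (tt N12775 (iv F73159)) (tt N11602 (iv D18105)) (tt N12781 D18668) (tt N11606 F71019) (tt N12778 (iv F73170)))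
theorem Q12220 : ∀ i, i < 12220 → P i := stepQ 12219 Q12219 (allL N12219 (tt N12768 (iv F73123)) (tt N11620 F71020) (tt N12781 (iv F73176)) (tt N12410 (iv F71669)) (tt N12776 (iv F73162)) (tt N12757 (iv F73075)) (tt N11603 (iv D18106)) (tt N11607 F71021) (tt N12779 (iv F73172)))
theorem Q12221 : ∀ i, i < 12221 → P i := stepQ 12220 Q12220 (allL N12220 (tt N12533 (iv F72124)) (tt N11873 F71022) (tt N11605 F71023) (tt N12529 (iv F72101)) (tt N11606 F71024) (tt N11604 (iv D18107)) (tt N12782 D18669) (tt N12775 (iv F73160)) (tt N11899 F71025))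
theorem Q12222 : ∀ i, i < 12222 → P i := stepQ 12221 Q12221 (allL N12221 (tt N12627 (iv F72558)) (tt N11623 F71026) (tt N12782 (iv F73179)) (tt N12559 (iv F72262)) (tt N11607 F71027) (tt N12545 (iv F72181)) (tt N11605 (iv D18108)) (tt N12776 (iv F73163)) (tt N12570 (iv F72316)))
theorem Q12223 : ∀ i, i < 12223 → P i := stepQ 12222 Q12222 (allL N12222 (tt N12769 (iv F73128)) (tt N11875 F71028) (tt N11607 F71029) (tt N12631 (iv F72581)) (tt N12782 (iv F73180)) (tt N12758 (iv F73080)) (tt N11606 (iv D18109)) (tt N12781 (iv F73177)) (tt N11904 F71030))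
theorem Q12224 : ∀ i, i < 12224 → P i := stepQ 12223 Q12223 (allL N12223 (tt N12705 (iv F72864)) (tt N12606 (iv F72484)) (tt N12631 (iv F72580)) (tt N11610 F71031) (tt N12706 (iv F72871)) (tt N12759 (iv F73086)) (tt N11608 (iv D18110)) (tt N12783 D18670) (tt N12685 (iv F72808)))
theorem Q12225 : ∀ i, i < 12225 → P i := stepQ 12224 Q12224 (allL N12224 (tt N12691 (iv F72822)) (tt N12603 (iv F72469)) (tt N12624 (iv F72552)) (tt N12417 (iv F71682)) (tt N12700 (iv F72852)) (tt N11609 F71032) (tt N12783 (iv F73182)) (tt N11608 (iv D18111)) (tt N12784 D18671))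
theorem Q12226 : ∀ i, i < 12226 → P i := stepQ 12225 Q12225 (allL N12225 (tt N12688 (iv F72813)) (tt N12601 (iv F72457)) (tt N12618 (iv F72533)) (tt N12418 (iv F71685)) (tt N11627 F71033) (tt N12784 (iv F73183)) (tt N12761 (iv F73096)) (tt N12672 (iv F72763)) (tt N11609 (iv D18112)))
theorem Q12227 : ∀ i, i < 12227 → P i := stepQ 12226 Q12226 (allL N12226 (tt N11756 F71034) (tt N12771 (iv F73138)) (tt N12252 (iv F71132)) (tt N11615 F71035) (tt N12419 (iv F71690)) (tt N11611 (iv D18113)) (tt N12785 D18672) (tt N12474 (iv F71872)) (tt N12227 (iv F71038)))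
theorem Q12228 : ∀ i, i < 12228 → P i := stepQ 12227 Q12227 (allL N12227 (tt N11757 F71036) (tt N12537 (iv F72145)) (tt N12554 (iv F72232)) (tt N12228 (iv F71040)) (tt N12531 (iv F72114)) (tt N11612 (iv D18114)) (tt N12786 D18673) (tt N11621 F71037) (tt N12226 F71038))
theorem Q12229 : ∀ i, i < 12229 → P i := stepQ 12228 Q12228 (allL N12228 (tt N11758 F71039) (tt N12773 (iv F73150)) (tt N12576 (iv F72348)) (tt N12227 F71040) (tt N11617 F71041) (tt N11613 (iv D18115)) (tt N12787 D18674) (tt N12748 (iv F73040)) (tt N11615 F71042))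
theorem Q12230 : ∀ i, i < 12230 → P i := stepQ 12229 Q12229 (allL N12229 (tt N11759 F71043) (tt N11867 F71044) (tt N11615 F71045) (tt N12144 F71046) (tt N11619 F71047) (tt N11614 (iv D18116)) (tt N12788 D18675) (tt N11622 F71048) (tt N12576 (iv F72352)))
theorem Q12231 : ∀ i, i < 12231 → P i := stepQ 12230 Q12230 (allL N12230 (tt N11760 F71049) (tt N12776 (iv F73161)) (tt N12788 (iv F73197)) (tt N12785 (iv F73185)) (tt N11620 F71050) (tt N12786 (iv F73187)) (tt N11615 (iv D18117)) (tt N11623 F71051) (tt N12787 (iv F73194)))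
theorem Q12232 : ∀ i, i < 12232 → P i := stepQ 12231 Q12231 (allL N12231 (tt N11662 F71052) (tt N11847 F71053) (tt N12426 (iv F71714)) (tt N11616 (iv D18118)) (tt N11625 F71054) (tt N12789 D18676) (tt N11672 F71055) (tt N12265 (iv F71191)) (tt N11618 F71056))
theorem Q12233 : ∀ i, i < 12233 → P i := stepQ 12232 Q12232 (allL N12232 (tt N11761 F71057) (tt N11869 F71058) (tt N11617 F71059) (tt N12789 (iv F73203)) (tt N12576 (iv F72350)) (tt N11616 (iv D18119)) (tt N12790 D18677) (tt N11720 F71060) (tt N11619 F71061))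
theorem Q12234 : ∀ i, i < 12234 → P i := stepQ 12233 Q12233 (allL N12233 (tt N11762 F71062) (tt N12779 (iv F73171)) (tt N12790 (iv F73208)) (tt N12428 (iv F71722)) (tt N12787 (iv F73192)) (tt N12763 (iv F73103)) (tt N11617 (iv D18120)) (tt N12750 (iv F73049)) (tt N11620 F71063))
theorem Q12235 : ∀ i, i < 12235 → P i := stepQ 12234 Q12234 (allL N12234 (tt N11764 F71064) (tt N11850 F71065) (tt N12432 (iv F71734)) (tt N11619 F71066) (tt N12147 F71067) (tt N11618 (iv D18121)) (tt N12791 D18678) (tt N11652 F71068) (tt N12789 (iv F73205)))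
theorem Q12236 : ∀ i, i < 12236 → P i := stepQ 12235 Q12235 (allL N12235 (tt N11765 F71069) (tt N11872 F71070) (tt N11620 F71071) (tt N12791 (iv F73214)) (tt N12788 (iv F73199)) (tt N11712 F71072) (tt N11619 (iv D18122)) (tt N11624 F71073) (tt N12790 (iv F73211)))
theorem Q12237 : ∀ i, i < 12237 → P i := stepQ 12236 Q12236 (allL N12236 (tt N11766 F71074) (tt N12545 (iv F72178)) (tt N12555 (iv F72239)) (tt N12570 (iv F72313)) (tt N12532 (iv F72121)) (tt N11623 F71075) (tt N11621 (iv D18123)) (tt N12786 (iv F73188)) (tt N12559 (iv F72265)))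
theorem Q12238 : ∀ i, i < 12238 → P i := stepQ 12237 Q12237 (allL N12237 (tt N11767 F71076) (tt N11874 F71077) (tt N11623 F71078) (tt N12551 (iv F72214)) (tt N11624 F71079) (tt N12555 (iv F72242)) (tt N11622 (iv D18124)) (tt N12788 (iv F73200)) (tt N11723 F71080))
theorem Q12239 : ∀ i, i < 12239 → P i := stepQ 12238 Q12238 (allL N12238 (tt N11843 F71081) (tt N11819 F71082) (tt N12511 (iv F71996)) (tt N11628 F71083) (tt N12761 (iv F73095)) (tt N11823 F71084) (tt N11627 F71085) (tt N12505 (iv F71973)) (tt N11626 (iv D18125)))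
theorem Q12240 : ∀ i, i < 12240 → P i := stepQ 12239 Q12239 (allL N12239 (tt N12714 (iv F72909)) (tt N11632 F71086) (tt N12575 (iv F72341)) (tt N12367 (iv F71536)) (tt N11653 F71087) (tt N12574 (iv F72337)) (tt N11629 (iv D18126)) (tt N11633 F71088) (tt N11997 F71089))
theorem Q12241 : ∀ i, i < 12241 → P i := stepQ 12240 Q12240 (allL N12240 (tt N12068 F71090) (tt N12351 (iv F71479)) (tt N11631 F71091) (tt N11683 F71092) (tt N12357 (iv F71504)) (tt N11630 (iv D18127)) (tt N12792 D18679) (tt N11961 F71093) (tt N12008 F71094))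
theorem Q12242 : ∀ i, i < 12242 → P i := stepQ 12241 Q12241 (allL N12241 (tt N12069 F71095) (tt N12367 (iv F71534)) (tt N12792 (iv F73219)) (tt N11632 F71096) (tt N12369 (iv F71542)) (tt N11982 F71097) (tt N11631 (iv D18128)) (tt N11962 F71098) (tt N12009 F71099))
theorem Q12243 : ∀ i, i < 12243 → P i := stepQ 12242 Q12242 (allL N12242 (tt N12244 (iv F71107)) (tt N12461 (iv F71834)) (tt N11635 F71100) (tt N12793 D18680) (tt N11634 (iv D18129)) (tt N12794 D18681) (tt N12503 (iv F71959)) (tt N11640 F71101) (tt N12187 F71102))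
theorem Q12244 : ∀ i, i < 12244 → P i := stepQ 12243 Q12243 (allL N12243 (tt N12245 (iv F71113)) (tt N11646 F71103) (tt N12794 (iv F73226)) (tt N12657 (iv F72705)) (tt N11639 F71104) (tt N11635 (iv D18130)) (tt N12795 D18682) (tt N11641 F71105) (tt N12188 F71106))
theorem Q12245 : ∀ i, i < 12245 → P i := stepQ 12244 Q12244 (allL N12244 (tt N12242 F71107) (tt N12151 F71108) (tt N11637 F71109) (tt N12796 D18683) (tt N11636 (iv D18131)) (tt N12797 D18684) (tt N11914 F71110) (tt N11928 F71111) (tt N11638 F71112))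
theorem Q12246 : ∀ i, i < 12246 → P i := stepQ 12245 Q12245 (allL N12245 (tt N12243 F71113) (tt N11647 F71114) (tt N12797 (iv F73243)) (tt N12095 F71115) (tt N12188 F71116) (tt N11637 (iv D18132)) (tt N12798 D18685) (tt N11929 F71117) (tt N11639 F71118))
theorem Q12247 : ∀ i, i < 12247 → P i := stepQ 12246 Q12246 (allL N12246 (tt N12751 (iv F73051)) (tt N12715 (iv F72915)) (tt N12097 F71119) (tt N11638 (iv D18133)) (tt N12246 F71120) (tt N12799 D18686) (tt N12632 (iv F72585)) (tt N12637 (iv F72613)) (tt N12796 (iv F73240)))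
theorem Q12248 : ∀ i, i < 12248 → P i := stepQ 12247 Q12247 (allL N12247 (tt N12752 (iv F73055)) (tt N12716 (iv F72919)) (tt N11639 F71121) (tt N12799 (iv F73255)) (tt N12794 (iv F73227)) (tt N11638 (iv D18134)) (tt N12800 D18687) (tt N11642 F71122) (tt N12797 (iv F73246)))
theorem Q12249 : ∀ i, i < 12249 → P i := stepQ 12248 Q12248 (allL N12248 (tt N12753 (iv F73058)) (tt N11648 F71123) (tt N12800 (iv F73256)) (tt N12099 F71124) (tt N12795 (iv F73231)) (tt N12634 (iv F72595)) (tt N11639 (iv D18135)) (tt N11643 F71125) (tt N12798 (iv F73253)))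
theorem Q12250 : ∀ i, i < 12250 → P i := stepQ 12249 Q12249 (allL N12249 (tt N12523 (iv F72062)) (tt N12549 (iv F72201)) (tt N11641 F71126) (tt N12544 (iv F72174)) (tt N11642 F71127) (tt N11640 (iv D18136)) (tt N12801 D18688) (tt N12794 (iv F73228)) (tt N12499 F71946))
theorem Q12251 : ∀ i, i < 12251 → P i := stepQ 12250 Q12250 (allL N12250 (tt N12524 (iv F72068)) (tt N11649 F71128) (tt N12801 (iv F73258)) (tt N11723 F71129) (tt N11643 F71130) (tt N12530 (iv F72108)) (tt N11641 (iv D18137)) (tt N12795 (iv F73232)) (tt N12551 (iv F72218)))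
theorem Q12252 : ∀ i, i < 12252 → P i := stepQ 12251 Q12251 (allL N12251 (tt N12754 (iv F73061)) (tt N12744 (iv F73019)) (tt N11643 F71131) (tt N12641 (iv F72632)) (tt N12801 (iv F73259)) (tt N12635 (iv F72602)) (tt N11642 (iv D18138)) (tt N12800 (iv F73257)) (tt N12712 (iv F72902)))
theorem Q12253 : ∀ i, i < 12253 → P i := stepQ 12252 Q12252 (allL N12252 (tt N12363 (iv F71521)) (tt N12657 (iv F72704)) (tt N12226 F71132) (tt N11646 F71133) (tt N12107 F71134) (tt N11644 (iv D18139)) (tt N12802 D18689) (tt N11877 F71135) (tt N12554 (iv F72236)))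
theorem Q12254 : ∀ i, i < 12254 → P i := stepQ 12253 Q12253 (allL N12253 (tt N11990 F71136) (tt N12188 F71137) (tt N11994 F71138) (tt N12554 (iv F72233)) (tt N11647 F71139) (tt N11645 (iv D18140)) (tt N12803 D18690) (tt N11927 F71140) (tt N11646 F71141))
theorem Q12255 : ∀ i, i < 12255 → P i := stepQ 12254 Q12254 (allL N12254 (tt N12575 (iv F72339)) (tt N12795 (iv F73230)) (tt N12714 (iv F72910)) (tt N12802 (iv F73261)) (tt N11648 F71142) (tt N12577 (iv F72355)) (tt N11646 (iv D18141)) (tt N11649 F71143) (tt N12803 (iv F73270)))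
theorem Q12256 : ∀ i, i < 12256 → P i := stepQ 12255 Q12255 (allL N12255 (tt N11992 F71144) (tt N12798 (iv F73248)) (tt N12262 (iv F71173)) (tt N12119 F71145) (tt N12803 (iv F73267)) (tt N11923 F71146) (tt N11647 (iv D18142)) (tt N11934 F71147) (tt N11648 F71148))
theorem Q12257 : ∀ i, i < 12257 → P i := stepQ 12256 Q12256 (allL N12256 (tt N11650 (iv D18143)) (tt N12134 F71149) (tt N11856 F71150) (tt N11654 F71151) (tt N12804 D18691) (tt N11909 F71152) (tt N11681 F71153) (tt N12438 (iv F71760)) (tt N12270 (iv F71210)))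
theorem Q12258 : ∀ i, i < 12258 → P i := stepQ 12257 Q12257 (allL N12257 (tt N12804 (iv F73271)) (tt N11651 F71154) (tt N11857 F71155) (tt N11980 F71156) (tt N11650 (iv D18144)) (tt N12805 D18692) (tt N11682 F71157) (tt N12430 (iv F71730)) (tt N12271 (iv F71214)))
theorem Q12259 : ∀ i, i < 12259 → P i := stepQ 12258 Q12258 (allL N12258 (tt N12123 F71158) (tt N12805 (iv F73276)) (tt N11652 F71159) (tt N11981 F71160) (tt N11895 F71161) (tt N11651 (iv D18145)) (tt N12806 D18693) (tt N12432 (iv F71737)) (tt N12272 (iv F71216)))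
theorem Q12260 : ∀ i, i < 12260 → P i := stepQ 12259 Q12259 (allL N12259 (tt N12718 (iv F72926)) (tt N11859 F71162) (tt N12806 (iv F73281)) (tt N11653 F71163) (tt N12370 (iv F71545)) (tt N11684 F71164) (tt N11652 (iv D18146)) (tt N12791 (iv F73217)) (tt N12273 (iv F71220)))
theorem Q12261 : ∀ i, i < 12261 → P i := stepQ 12260 Q12260 (allL N12260 (tt N11661 F71165) (tt N12276 (iv F71233)) (tt N12697 (iv F72842)) (tt N11689 F71166) (tt N11655 (iv D18147)) (tt N12807 D18694) (tt N11785 F71167) (tt N11656 F71168) (tt N12263 (iv F71180)))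
theorem Q12262 : ∀ i, i < 12262 → P i := stepQ 12261 Q12261 (allL N12261 (tt N11665 F71169) (tt N12720 (iv F72936)) (tt N12696 (iv F72838)) (tt N11657 F71170) (tt N12789 (iv F73204)) (tt N11656 (iv D18148)) (tt N12808 D18695) (tt N12807 (iv F73287)) (tt N12147 F71171))
theorem Q12263 : ∀ i, i < 12263 → P i := stepQ 12262 Q12262 (allL N12262 (tt N11666 F71172) (tt N12723 (iv F72949)) (tt N12255 F71173) (tt N12808 (iv F73289)) (tt N12577 (iv F72354)) (tt N11791 F71174) (tt N11657 (iv D18149)) (tt N11693 F71175) (tt N12148 F71176))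
theorem Q12264 : ∀ i, i < 12264 → P i := stepQ 12263 Q12263 (allL N12263 (tt N12265 (iv F71187)) (tt N11670 F71177) (tt N12489 (iv F71921)) (tt N12298 (iv F71290)) (tt N11658 (iv D18150)) (tt N12809 D18696) (tt N12154 F71178) (tt N11662 F71179) (tt N12260 F71180))
theorem Q12265 : ∀ i, i < 12265 → P i := stepQ 12264 Q12264 (allL N12264 (tt N11908 F71181) (tt N12810 D18697) (tt N11659 (iv D18151)) (tt N12264 F71182) (tt N12811 D18698) (tt N12133 F71183) (tt N11846 F71184) (tt N11838 F71185) (tt N11660 F71186))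
theorem Q12266 : ∀ i, i < 12266 → P i := stepQ 12265 Q12265 (allL N12265 (tt N12263 F71187) (tt N11672 F71188) (tt N12811 (iv F73303)) (tt N11699 F71189) (tt N11659 (iv D18152)) (tt N12812 D18699) (tt N11847 F71190) (tt N12231 F71191) (tt N11661 F71192))
theorem Q12267 : ∀ i, i < 12267 → P i := stepQ 12266 Q12266 (allL N12266 (tt N12813 D18700) (tt N11660 (iv D18153)) (tt N11673 F71193) (tt N12266 F71194) (tt N12814 D18701) (tt N12502 (iv F71955)) (tt N11848 F71195) (tt N11663 F71196) (tt N12810 (iv F73301)))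
theorem Q12268 : ∀ i, i < 12268 → P i := stepQ 12267 Q12267 (allL N12267 (tt N12697 (iv F72841)) (tt N12814 (iv F73317)) (tt N11661 F71197) (tt N12815 D18702) (tt N11660 (iv D18154)) (tt N12816 D18703) (tt N11849 F71198) (tt N11664 F71199) (tt N12811 (iv F73306)))
theorem Q12269 : ∀ i, i < 12269 → P i := stepQ 12268 Q12268 (allL N12268 (tt N12807 (iv F73285)) (tt N11675 F71200) (tt N12816 (iv F73324)) (tt N11701 F71201) (tt N12809 (iv F73293)) (tt N11661 (iv D18155)) (tt N12817 D18704) (tt N11665 F71202) (tt N12812 (iv F73312)))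
theorem Q12270 : ∀ i, i < 12270 → P i := stepQ 12269 Q12269 (allL N12269 (tt N12789 (iv F73201)) (tt N11680 F71203) (tt N12488 (iv F71917)) (tt N11761 F71204) (tt N11665 F71205) (tt N11662 (iv D18156)) (tt N12818 D18705) (tt N12809 (iv F73294)) (tt N11764 F71206))
theorem Q12271 : ∀ i, i < 12271 → P i := stepQ 12270 Q12270 (allL N12270 (tt N11663 (iv D18157)) (tt N12707 (iv F72873)) (tt N11681 F71207) (tt N11769 F71208) (tt N12819 D18706) (tt N12501 (iv F71950)) (tt N11856 F71209) (tt N12813 (iv F73316)) (tt N12256 F71210))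
theorem Q12272 : ∀ i, i < 12272 → P i := stepQ 12271 Q12271 (allL N12271 (tt N12819 (iv F73334)) (tt N11664 F71211) (tt N11682 F71212) (tt N12347 (iv F71465)) (tt N11663 (iv D18158)) (tt N12820 D18707) (tt N11857 F71213) (tt N12814 (iv F73320)) (tt N12257 F71214))
theorem Q12273 : ∀ i, i < 12273 → P i := stepQ 12272 Q12272 (allL N12272 (tt N12696 (iv F72837)) (tt N12820 (iv F73338)) (tt N11665 F71215) (tt N12565 (iv F72292)) (tt N12488 (iv F71919)) (tt N11664 (iv D18159)) (tt N12821 D18708) (tt N12816 (iv F73325)) (tt N12258 F71216))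
theorem Q12274 : ∀ i, i < 12274 → P i := stepQ 12273 Q12273 (allL N12273 (tt N12808 (iv F73288)) (tt N11684 F71217) (tt N12821 (iv F73341)) (tt N11666 F71218) (tt N12818 (iv F73332)) (tt N11859 F71219) (tt N11665 (iv D18160)) (tt N12817 (iv F73329)) (tt N12259 F71220))
theorem Q12275 : ∀ i, i < 12275 → P i := stepQ 12274 Q12274 (allL N12274 (tt N12003 F71221) (tt N12298 (iv F71289)) (tt N12485 (iv F71909)) (tt N11670 F71222) (tt N11667 (iv D18161)) (tt N12822 D18709) (tt N11919 F71223) (tt N12203 F71224) (tt N12062 F71225))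
theorem Q12276 : ∀ i, i < 12276 → P i := stepQ 12275 Q12275 (allL N12275 (tt N11851 F71226) (tt N12823 D18710) (tt N11668 (iv D18162)) (tt N11776 F71227) (tt N12824 D18711) (tt N11671 F71228) (tt N11786 F71229) (tt N12149 F71230) (tt N11669 F71231))
theorem Q12277 : ∀ i, i < 12277 → P i := stepQ 12276 Q12276 (allL N12276 (tt N11852 F71232) (tt N12260 F71233) (tt N12824 (iv F73356)) (tt N12062 F71234) (tt N11668 (iv D18163)) (tt N12825 D18712) (tt N11787 F71235) (tt N12150 F71236) (tt N11670 F71237))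
theorem Q12278 : ∀ i, i < 12278 → P i := stepQ 12277 Q12277 (allL N12277 (tt N12743 (iv F73013)) (tt N11669 (iv D18164)) (tt N12502 (iv F71953)) (tt N11777 F71238) (tt N12826 D18713) (tt N11673 F71239) (tt N12163 F71240) (tt N11678 F71241) (tt N12823 (iv F73354)))
theorem Q12279 : ∀ i, i < 12279 → P i := stepQ 12278 Q12278 (allL N12278 (tt N12287 (iv F71262)) (tt N12826 (iv F73366)) (tt N11670 F71242) (tt N12827 D18714) (tt N11669 (iv D18165)) (tt N12828 D18715) (tt N12164 F71243) (tt N11679 F71244) (tt N12824 (iv F73359)))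
theorem Q12280 : ∀ i, i < 12280 → P i := stepQ 12279 Q12279 (allL N12279 (tt N12288 (iv F71266)) (tt N12809 (iv F73292)) (tt N12828 (iv F73372)) (tt N12822 (iv F73345)) (tt N11675 F71245) (tt N11670 (iv D18166)) (tt N12829 D18716) (tt N11680 F71246) (tt N12825 (iv F73365)))
theorem Q12281 : ∀ i, i < 12281 → P i := stepQ 12280 Q12280 (allL N12280 (tt N12830 D18717) (tt N11671 (iv D18167)) (tt N12810 (iv F73296)) (tt N11778 F71247) (tt N12831 D18718) (tt N12823 (iv F73351)) (tt N12437 (iv F71754)) (tt N12443 (iv F71778)) (tt N11673 F71248))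
theorem Q12282 : ∀ i, i < 12282 → P i := stepQ 12281 Q12281 (allL N12281 (tt N12353 (iv F71487)) (tt N12831 (iv F73381)) (tt N11672 F71249) (tt N12338 (iv F71435)) (tt N11671 (iv D18168)) (tt N12832 D18719) (tt N12426 (iv F71716)) (tt N12444 (iv F71781)) (tt N11674 F71250))
theorem Q12283 : ∀ i, i < 12283 → P i := stepQ 12282 Q12282 (allL N12282 (tt N12733 (iv F72979)) (tt N12812 (iv F73308)) (tt N12832 (iv F73383)) (tt N11711 F71251) (tt N12825 (iv F73363)) (tt N11672 (iv D18169)) (tt N12833 D18720) (tt N12445 (iv F71784)) (tt N11675 F71252))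
theorem Q12284 : ∀ i, i < 12284 → P i := stepQ 12283 Q12283 (allL N12283 (tt N11673 (iv D18170)) (tt N12130 F71253) (tt N12813 (iv F73313)) (tt N11779 F71254) (tt N12834 D18721) (tt N12743 (iv F73015)) (tt N12438 (iv F71759)) (tt N11681 F71255) (tt N12830 (iv F73380)))
theorem Q12285 : ∀ i, i < 12285 → P i := stepQ 12284 Q12284 (allL N12284 (tt N12834 (iv F73387)) (tt N11674 F71256) (tt N12814 (iv F73318)) (tt N12340 (iv F71442)) (tt N11673 (iv D18171)) (tt N12835 D18722) (tt N12430 (iv F71729)) (tt N11682 F71257) (tt N12831 (iv F73382)))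
theorem Q12286 : ∀ i, i < 12286 → P i := stepQ 12285 Q12285 (allL N12285 (tt N12358 (iv F71506)) (tt N12835 (iv F73391)) (tt N11675 F71258) (tt N12341 (iv F71447)) (tt N12828 (iv F73373)) (tt N11674 (iv D18172)) (tt N12836 D18723) (tt N11683 F71259) (tt N12832 (iv F73384)))
theorem Q12287 : ∀ i, i < 12287 → P i := stepQ 12286 Q12286 (allL N12286 (tt N12734 (iv F72985)) (tt N12817 (iv F73326)) (tt N12836 (iv F73393)) (tt N11712 F71260) (tt N12829 (iv F73375)) (tt N12791 (iv F73216)) (tt N11675 (iv D18173)) (tt N11684 F71261) (tt N12833 (iv F73386)))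
theorem Q12288 : ∀ i, i < 12288 → P i := stepQ 12287 Q12287 (allL N12287 (tt N12278 F71262) (tt N12291 (iv F71274)) (tt N11677 F71263) (tt N12290 (iv F71273)) (tt N11676 (iv D18174)) (tt N12837 D18724) (tt N11679 F71264) (tt N12164 F71265) (tt N12451 (iv F71801)))
theorem Q12289 : ∀ i, i < 12289 → P i := stepQ 12288 Q12288 (allL N12288 (tt N12279 F71266) (tt N12733 (iv F72980)) (tt N12837 (iv F73396)) (tt N12586 (iv F72393)) (tt N12162 F71267) (tt N11677 (iv D18175)) (tt N12838 D18725) (tt N12165 F71268) (tt N12452 (iv F71805)))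
theorem Q12290 : ∀ i, i < 12290 → P i := stepQ 12289 Q12289 (allL N12289 (tt N11678 (iv D18176)) (tt N12735 (iv F72989)) (tt N12501 (iv F71949)) (tt N11685 F71269) (tt N12827 (iv F73370)) (tt N11681 F71270) (tt N12172 F71271) (tt N12743 (iv F73017)) (tt N12453 (iv F71810)))
theorem Q12291 : ∀ i, i < 12291 → P i := stepQ 12290 Q12290 (allL N12290 (tt N12827 (iv F73369)) (tt N11679 F71272) (tt N12486 (iv F71912)) (tt N12287 F71273) (tt N11678 (iv D18177)) (tt N12839 D18726) (tt N12291 (iv F71276)) (tt N12826 (iv F73368)) (tt N12454 (iv F71814)))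
theorem Q12292 : ∀ i, i < 12292 → P i := stepQ 12291 Q12291 (allL N12291 (tt N12737 (iv F72995)) (tt N12287 F71274) (tt N12587 (iv F72397)) (tt N11679 (iv D18178)) (tt N11686 F71275) (tt N12840 D18727) (tt N12290 F71276) (tt N12736 (iv F72994)) (tt N12455 (iv F71819)))
theorem Q12293 : ∀ i, i < 12293 → P i := stepQ 12292 Q12292 (allL N12292 (tt N12738 (iv F72997)) (tt N12839 (iv F73403)) (tt N11680 F71277) (tt N12840 (iv F73407)) (tt N11683 F71278) (tt N11679 (iv D18179)) (tt N12841 D18728) (tt N12828 (iv F73374)) (tt N12456 (iv F71822)))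
theorem Q12294 : ∀ i, i < 12294 → P i := stepQ 12293 Q12293 (allL N12293 (tt N12739 (iv F73000)) (tt N12818 (iv F73330)) (tt N12841 (iv F73408)) (tt N12589 (iv F72406)) (tt N11684 F71279) (tt N12838 (iv F73401)) (tt N11680 (iv D18180)) (tt N12829 (iv F73377)) (tt N12457 (iv F71826)))
theorem Q12295 : ∀ i, i < 12295 → P i := stepQ 12294 Q12294 (allL N12294 (tt N11682 F71280) (tt N12740 (iv F73003)) (tt N12819 (iv F73335)) (tt N12335 (iv F71425)) (tt N11681 (iv D18181)) (tt N12842 D18729) (tt N12804 (iv F73275)) (tt N12834 (iv F73390)) (tt N12458 (iv F71828)))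
theorem Q12296 : ∀ i, i < 12296 → P i := stepQ 12295 Q12295 (allL N12295 (tt N12842 (iv F73410)) (tt N11683 F71281) (tt N12820 (iv F73339)) (tt N12351 (iv F71481)) (tt N12839 (iv F73405)) (tt N11682 (iv D18182)) (tt N12843 D18730) (tt N12835 (iv F73392)) (tt N12459 (iv F71830)))
theorem Q12297 : ∀ i, i < 12297 → P i := stepQ 12296 Q12296 (allL N12296 (tt N12742 (iv F73009)) (tt N12843 (iv F73411)) (tt N11684 F71282) (tt N12792 (iv F73220)) (tt N12841 (iv F73409)) (tt N12806 (iv F73284)) (tt N11683 (iv D18183)) (tt N12836 (iv F73394)) (tt N12460 (iv F71832)))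
theorem Q12298 : ∀ i, i < 12298 → P i := stepQ 12297 Q12297 (allL N12297 (tt N11698 F71283) (tt N12844 D18731) (tt N11687 (iv D18184)) (tt N12297 F71284) (tt N12845 D18732) (tt N12305 (iv F71321)) (tt N11798 F71285) (tt N11728 F71286) (tt N11688 F71287))
theorem Q12299 : ∀ i, i < 12299 → P i := stepQ 12298 Q12298 (allL N12298 (tt N11699 F71288) (tt N12274 F71289) (tt N12845 (iv F73420)) (tt N12263 F71290) (tt N11687 (iv D18185)) (tt N12846 D18733) (tt N11799 F71291) (tt N11729 F71292) (tt N11689 F71293))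
theorem Q12300 : ∀ i, i < 12300 → P i := stepQ 12299 Q12299 (allL N12299 (tt N11808 F71294) (tt N11688 (iv D18186)) (tt N11826 F71295) (tt N12299 F71296) (tt N12847 D18734) (tt N11842 F71297) (tt N11800 F71298) (tt N11690 F71299) (tt N12844 (iv F73418)))
theorem Q12301 : ∀ i, i < 12301 → P i := stepQ 12300 Q12300 (allL N12300 (tt N11700 F71300) (tt N12847 (iv F73430)) (tt N11689 F71301) (tt N12848 D18735) (tt N11688 (iv D18187)) (tt N12849 D18736) (tt N11801 F71302) (tt N11691 F71303) (tt N12845 (iv F73423)))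
theorem Q12302 : ∀ i, i < 12302 → P i := stepQ 12301 Q12301 (allL N12301 (tt N11701 F71304) (tt N12642 (iv F72637)) (tt N12849 (iv F73438)) (tt N12807 (iv F73286)) (tt N12666 (iv F72744)) (tt N11689 (iv D18188)) (tt N12850 D18737) (tt N11692 F71305) (tt N12846 (iv F73428)))
theorem Q12303 : ∀ i, i < 12303 → P i := stepQ 12302 Q12302 (allL N12302 (tt N11811 F71306) (tt N11691 F71307) (tt N11833 F71308) (tt N11702 F71309) (tt N11690 (iv D18189)) (tt N12851 D18738) (tt N11803 F71310) (tt N12847 (iv F73433)) (tt N11735 F71311))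
theorem Q12304 : ∀ i, i < 12304 → P i := stepQ 12303 Q12303 (allL N12303 (tt N11704 F71312) (tt N12851 (iv F73444)) (tt N11692 F71313) (tt N12527 (iv F72089)) (tt N12680 (iv F72784)) (tt N11691 (iv D18190)) (tt N12852 D18739) (tt N12849 (iv F73439)) (tt N11736 F71314))
theorem Q12305 : ∀ i, i < 12305 → P i := stepQ 12304 Q12304 (allL N12304 (tt N11705 F71315) (tt N12650 (iv F72668)) (tt N12852 (iv F73450)) (tt N11693 F71316) (tt N12681 (iv F72789)) (tt N11805 F71317) (tt N11692 (iv D18191)) (tt N12850 (iv F73442)) (tt N11737 F71318))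
theorem Q12306 : ∀ i, i < 12306 → P i := stepQ 12305 Q12305 (allL N12305 (tt N12000 F71319) (tt N12440 (iv F71764)) (tt N11694 (iv D18192)) (tt N12305 F71320) (tt N12853 D18740) (tt N12297 F71321) (tt N12089 F71322) (tt N12006 F71323) (tt N12087 F71324))
theorem Q12307 : ∀ i, i < 12307 → P i := stepQ 12306 Q12306 (allL N12306 (tt N12307 (iv F71329)) (tt N11707 F71325) (tt N12853 (iv F73454)) (tt N11697 F71326) (tt N11694 (iv D18193)) (tt N12854 D18741) (tt N12090 F71327) (tt N12334 (iv F71421)) (tt N12088 F71328))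
theorem Q12308 : ∀ i, i < 12308 → P i := stepQ 12307 Q12307 (allL N12307 (tt N12306 F71329) (tt N11709 F71330) (tt N12582 (iv F72381)) (tt N12088 F71331) (tt N11695 (iv D18194)) (tt N12855 D18742) (tt N12086 F71332) (tt N11741 F71333) (tt N11697 F71334))
theorem Q12309 : ∀ i, i < 12309 → P i := stepQ 12308 Q12308 (allL N12308 (tt N12665 (iv F72737)) (tt N12525 (iv F72075)) (tt N11697 F71335) (tt N12856 D18743) (tt N11696 (iv D18195)) (tt N12857 D18744) (tt N12540 (iv F72161)) (tt N11702 F71336) (tt N12582 (iv F72383)))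
theorem Q12310 : ∀ i, i < 12310 → P i := stepQ 12309 Q12309 (allL N12309 (tt N12666 (iv F72742)) (tt N11710 F71337) (tt N12857 (iv F73469)) (tt N12854 (iv F73459)) (tt N11701 F71338) (tt N11697 (iv D18196)) (tt N12858 D18745) (tt N11703 F71339) (tt N12855 (iv F73467)))
theorem Q12311 : ∀ i, i < 12311 → P i := stepQ 12310 Q12310 (allL N12310 (tt N12845 (iv F73419)) (tt N12580 (iv F72370)) (tt N11699 F71340) (tt N12859 D18746) (tt N11698 (iv D18197)) (tt N12860 D18747) (tt N11868 F71341) (tt N11744 F71342) (tt N11700 F71343))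
theorem Q12312 : ∀ i, i < 12312 → P i := stepQ 12311 Q12311 (allL N12311 (tt N12846 (iv F73424)) (tt N11711 F71344) (tt N12860 (iv F73478)) (tt N12812 (iv F73309)) (tt N12855 (iv F73465)) (tt N11699 (iv D18198)) (tt N12861 D18748) (tt N11745 F71345) (tt N11701 F71346))
theorem Q12313 : ∀ i, i < 12313 → P i := stepQ 12312 Q12312 (allL N12312 (tt N12848 (iv F73434)) (tt N12755 (iv F73066)) (tt N12815 (iv F73321)) (tt N11700 (iv D18199)) (tt N12312 F71347) (tt N12862 D18749) (tt N11870 F71348) (tt N12595 (iv F72433)) (tt N12859 (iv F73477)))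
theorem Q12314 : ∀ i, i < 12314 → P i := stepQ 12313 Q12313 (allL N12313 (tt N12849 (iv F73437)) (tt N12756 (iv F73070)) (tt N11701 F71349) (tt N12862 (iv F73485)) (tt N12857 (iv F73470)) (tt N11700 (iv D18200)) (tt N12863 D18750) (tt N11704 F71350) (tt N12860 (iv F73480)))
theorem Q12315 : ∀ i, i < 12315 → P i := stepQ 12314 Q12314 (allL N12314 (tt N12850 (iv F73440)) (tt N11712 F71351) (tt N12863 (iv F73486)) (tt N12817 (iv F73327)) (tt N12858 (iv F73473)) (tt N11872 F71352) (tt N11701 (iv D18201)) (tt N11705 F71353) (tt N12861 (iv F73484)))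
theorem Q12316 : ∀ i, i < 12316 → P i := stepQ 12315 Q12315 (allL N12315 (tt N12680 (iv F72780)) (tt N12527 (iv F72087)) (tt N11703 F71354) (tt N12851 (iv F73446)) (tt N11704 F71355) (tt N11702 (iv D18202)) (tt N12864 D18751) (tt N12857 (iv F73471)) (tt N11751 F71356))
theorem Q12317 : ∀ i, i < 12317 → P i := stepQ 12316 Q12316 (allL N12316 (tt N12681 (iv F72786)) (tt N11714 F71357) (tt N12864 (iv F73489)) (tt N12605 (iv F72479)) (tt N11705 F71358) (tt N12661 (iv F72721)) (tt N11703 (iv D18203)) (tt N12858 (iv F73474)) (tt N11752 F71359))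
theorem Q12318 : ∀ i, i < 12318 → P i := stepQ 12317 Q12317 (allL N12317 (tt N12852 (iv F73449)) (tt N12758 (iv F73078)) (tt N11705 F71360) (tt N12599 (iv F72448)) (tt N12864 (iv F73490)) (tt N11875 F71361) (tt N11704 (iv D18204)) (tt N12863 (iv F73488)) (tt N11754 F71362))
theorem Q12319 : ∀ i, i < 12319 → P i := stepQ 12318 Q12318 (allL N12318 (tt N12478 (iv F71879)) (tt N12418 (iv F71684)) (tt N11707 F71363) (tt N12601 (iv F72459)) (tt N11706 (iv D18205)) (tt N12865 D18752) (tt N12110 F71364) (tt N12607 (iv F72490)) (tt N11972 F71365))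
theorem Q12320 : ∀ i, i < 12320 → P i := stepQ 12319 Q12319 (allL N12319 (tt N12747 (iv F73031)) (tt N12854 (iv F73458)) (tt N12865 (iv F73492)) (tt N11710 F71366) (tt N12822 (iv F73346)) (tt N11707 (iv D18206)) (tt N12866 D18753) (tt N12608 (iv F72493)) (tt N12108 F71367))
theorem Q12321 : ∀ i, i < 12321 → P i := stepQ 12320 Q12320 (allL N12320 (tt N12557 (iv F72249)) (tt N12655 (iv F72695)) (tt N12531 (iv F72112)) (tt N12111 F71368) (tt N12554 (iv F72234)) (tt N11708 (iv D18207)) (tt N12867 D18754) (tt N11713 F71369) (tt N12107 F71370))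
theorem Q12322 : ∀ i, i < 12322 → P i := stepQ 12321 Q12321 (allL N12321 (tt N12748 (iv F73035)) (tt N12855 (iv F73463)) (tt N12578 (iv F72359)) (tt N12108 F71371) (tt N11711 F71372) (tt N11709 (iv D18208)) (tt N12868 D18755) (tt N11758 F71373) (tt N11710 F71374))
theorem Q12323 : ∀ i, i < 12323 → P i := stepQ 12322 Q12322 (allL N12322 (tt N12749 (iv F73042)) (tt N12858 (iv F73472)) (tt N12762 (iv F73098)) (tt N12866 (iv F73494)) (tt N11712 F71375) (tt N12867 (iv F73498)) (tt N11710 (iv D18209)) (tt N11714 F71376) (tt N12868 (iv F73505)))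
theorem Q12324 : ∀ i, i < 12324 → P i := stepQ 12323 Q12323 (allL N12323 (tt N12750 (iv F73046)) (tt N12861 (iv F73481)) (tt N12763 (iv F73102)) (tt N12833 (iv F73385)) (tt N12868 (iv F73502)) (tt N12790 (iv F73209)) (tt N11711 (iv D18210)) (tt N11762 F71377) (tt N11712 F71378))
theorem Q12325 : ∀ i, i < 12325 → P i := stepQ 12324 Q12324 (allL N12324 (tt N12559 (iv F72259)) (tt N12661 (iv F72718)) (tt N12532 (iv F72119)) (tt N12627 (iv F72560)) (tt N12555 (iv F72241)) (tt N11714 F71379) (tt N11713 (iv D18211)) (tt N12867 (iv F73499)) (tt N11766 F71380))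
theorem Q12326 : ∀ i, i < 12326 → P i := stepQ 12325 Q12325 (allL N12325 (tt N12601 (iv F72456)) (tt N12479 (iv F71885)) (tt N11716 F71381) (tt N12478 (iv F71882)) (tt N11715 (iv D18212)) (tt N12869 D18756) (tt N11881 F71382) (tt N12656 (iv F72701)) (tt N11878 F71383))
theorem Q12327 : ∀ i, i < 12327 → P i := stepQ 12326 Q12326 (allL N12326 (tt N12602 (iv F72463)) (tt N11877 F71384) (tt N12869 (iv F73506)) (tt N11719 F71385) (tt N12348 (iv F71470)) (tt N11716 (iv D18213)) (tt N12870 D18757) (tt N12657 (iv F72706)) (tt N11879 F71386))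
theorem Q12328 : ∀ i, i < 12328 → P i := stepQ 12327 Q12327 (allL N12327 (tt N12531 (iv F72110)) (tt N11879 F71387) (tt N12557 (iv F72251)) (tt N11882 F71388) (tt N11757 F71389) (tt N11717 (iv D18214)) (tt N12871 D18758) (tt N11722 F71390) (tt N11877 F71391))
theorem Q12329 : ∀ i, i < 12329 → P i := stepQ 12328 Q12328 (allL N12328 (tt N12578 (iv F72357)) (tt N11882 F71392) (tt N12748 (iv F73037)) (tt N11879 F71393) (tt N11720 F71394) (tt N11718 (iv D18215)) (tt N12872 D18759) (tt N12576 (iv F72351)) (tt N11719 F71395))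
theorem Q12330 : ∀ i, i < 12330 → P i := stepQ 12329 Q12329 (allL N12329 (tt N12762 (iv F73097)) (tt N11886 F71396) (tt N12749 (iv F73043)) (tt N12870 (iv F73509)) (tt N11721 F71397) (tt N12871 (iv F73515)) (tt N11719 (iv D18216)) (tt N11723 F71398) (tt N12872 (iv F73522)))
theorem Q12331 : ∀ i, i < 12331 → P i := stepQ 12330 Q12330 (allL N12330 (tt N12763 (iv F73101)) (tt N11891 F71399) (tt N12750 (iv F73047)) (tt N12355 (iv F71495)) (tt N12872 (iv F73520)) (tt N11762 F71400) (tt N11720 (iv D18217)) (tt N12790 (iv F73210)) (tt N11721 F71401))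
theorem Q12332 : ∀ i, i < 12332 → P i := stepQ 12331 Q12331 (allL N12331 (tt N12532 (iv F72117)) (tt N11898 F71402) (tt N12559 (iv F72261)) (tt N12530 (iv F72106)) (tt N11766 F71403) (tt N11723 F71404) (tt N11722 (iv D18218)) (tt N12871 (iv F73516)) (tt N12555 (iv F72243)))
theorem Q12333 : ∀ i, i < 12333 → P i := stepQ 12332 Q12332 (allL N12332 (tt N11738 F71405) (tt N12115 (iv F71411)) (tt N11724 (iv D18219)) (tt N11770 F71406) (tt N12873 D18760) (tt N12021 F71407) (tt N12006 F71408) (tt N12089 F71409) (tt N11979 F71410))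
theorem Q12334 : ∀ i, i < 12334 → P i := stepQ 12333 Q12333 (allL N12333 (tt N11739 F71412) (tt N12032 F71413) (tt N12873 (iv F73525)) (tt N11727 F71414) (tt N11724 (iv D18220)) (tt N12874 D18761) (tt N12334 (iv F71420)) (tt N12090 F71415) (tt N12020 F71416))
theorem Q12335 : ∀ i, i < 12335 → P i := stepQ 12334 Q12334 (allL N12334 (tt N11741 F71417) (tt N12029 F71418) (tt N12590 (iv F72410)) (tt N12020 F71419) (tt N11725 (iv D18221)) (tt N12875 D18762) (tt N12333 F71420) (tt N12306 F71421) (tt N11727 F71422))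
theorem Q12336 : ∀ i, i < 12336 → P i := stepQ 12335 Q12335 (allL N12335 (tt N11742 F71423) (tt N12647 (iv F72658)) (tt N11727 F71424) (tt N12294 F71425) (tt N11726 (iv D18222)) (tt N12876 D18763) (tt N12567 (iv F72301)) (tt N11733 F71426) (tt N12590 (iv F72412)))
theorem Q12337 : ∀ i, i < 12337 → P i := stepQ 12336 Q12336 (allL N12336 (tt N11743 F71427) (tt N12609 (iv F72495)) (tt N12876 (iv F73543)) (tt N12874 (iv F73532)) (tt N11732 F71428) (tt N11727 (iv D18223)) (tt N12877 D18764) (tt N11734 F71429) (tt N12875 (iv F73541)))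
theorem Q12338 : ∀ i, i < 12338 → P i := stepQ 12337 Q12337 (allL N12337 (tt N12514 (iv F72013)) (tt N11728 (iv D18224)) (tt N12711 (iv F72891)) (tt N11771 F71430) (tt N12878 D18765) (tt N12517 (iv F72034)) (tt N11823 F71431) (tt N12844 (iv F73417)) (tt N11730 F71432))
theorem Q12339 : ∀ i, i < 12339 → P i := stepQ 12338 Q12338 (allL N12338 (tt N11744 F71433) (tt N12878 (iv F73550)) (tt N11729 F71434) (tt N12281 F71435) (tt N11728 (iv D18225)) (tt N12879 D18766) (tt N11824 F71436) (tt N12845 (iv F73422)) (tt N11731 F71437))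
theorem Q12340 : ∀ i, i < 12340 → P i := stepQ 12339 Q12339 (allL N12339 (tt N11745 F71438) (tt N12765 (iv F73112)) (tt N12879 (iv F73555)) (tt N12199 F71439) (tt N12875 (iv F73539)) (tt N11729 (iv D18226)) (tt N12880 D18767) (tt N12846 (iv F73427)) (tt N11732 F71440))
theorem Q12341 : ∀ i, i < 12341 → P i := stepQ 12340 Q12340 (allL N12340 (tt N12643 (iv F72641)) (tt N11731 F71441) (tt N12683 (iv F72800)) (tt N12284 F71442) (tt N11730 (iv D18227)) (tt N12881 D18768) (tt N11827 F71443) (tt N11735 F71444) (tt N12878 (iv F73553)))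
theorem Q12342 : ∀ i, i < 12342 → P i := stepQ 12341 Q12341 (allL N12341 (tt N11748 F71445) (tt N12881 (iv F73562)) (tt N11732 F71446) (tt N12285 F71447) (tt N12876 (iv F73545)) (tt N11731 (iv D18228)) (tt N12882 D18769) (tt N11736 F71448) (tt N12879 (iv F73557)))
theorem Q12343 : ∀ i, i < 12343 → P i := stepQ 12342 Q12342 (allL N12342 (tt N11749 F71449) (tt N12768 (iv F73124)) (tt N12882 (iv F73566)) (tt N12200 F71450) (tt N12877 (iv F73548)) (tt N11830 F71451) (tt N11732 (iv D18229)) (tt N11737 F71452) (tt N12880 (iv F73561)))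
theorem Q12344 : ∀ i, i < 12344 → P i := stepQ 12343 Q12343 (allL N12343 (tt N11751 F71453) (tt N12652 (iv F72681)) (tt N11734 F71454) (tt N12651 (iv F72677)) (tt N11736 F71455) (tt N11733 (iv D18230)) (tt N12883 D18770) (tt N12876 (iv F73546)) (tt N12680 (iv F72785)))
theorem Q12345 : ∀ i, i < 12345 → P i := stepQ 12344 Q12344 (allL N12344 (tt N11752 F71456) (tt N12627 (iv F72559)) (tt N12883 (iv F73571)) (tt N12661 (iv F72719)) (tt N11737 F71457) (tt N12605 (iv F72481)) (tt N11734 (iv D18231)) (tt N12877 (iv F73549)) (tt N12681 (iv F72791)))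
theorem Q12346 : ∀ i, i < 12346 → P i := stepQ 12345 Q12345 (allL N12345 (tt N12651 (iv F72674)) (tt N11736 F71458) (tt N12682 (iv F72794)) (tt N11751 F71459) (tt N12652 (iv F72684)) (tt N11735 (iv D18232)) (tt N12884 D18771) (tt N12881 (iv F73564)) (tt N12851 (iv F73448)))
theorem Q12347 : ∀ i, i < 12347 → P i := stepQ 12346 Q12346 (allL N12346 (tt N11754 F71460) (tt N12884 (iv F73573)) (tt N11737 F71461) (tt N12553 (iv F72227)) (tt N12883 (iv F73572)) (tt N11835 F71462) (tt N11736 (iv D18233)) (tt N12882 (iv F73569)) (tt N12852 (iv F73452)))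
theorem Q12348 : ∀ i, i < 12348 → P i := stepQ 12347 Q12347 (allL N12347 (tt N12873 (iv F73523)) (tt N11977 F71463) (tt N11739 F71464) (tt N12271 F71465) (tt N11738 (iv D18234)) (tt N12885 D18772) (tt N12007 F71466) (tt N12663 (iv F72730)) (tt N11980 F71467))
theorem Q12349 : ∀ i, i < 12349 → P i := stepQ 12348 Q12348 (allL N12348 (tt N12874 (iv F73530)) (tt N11756 F71468) (tt N12885 (iv F73577)) (tt N11743 F71469) (tt N12326 F71470) (tt N11739 (iv D18235)) (tt N12886 D18773) (tt N12664 (iv F72735)) (tt N12349 (iv F71474)))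
theorem Q12350 : ∀ i, i < 12350 → P i := stepQ 12349 Q12349 (allL N12349 (tt N12600 (iv F72452)) (tt N11757 F71471) (tt N12568 (iv F72304)) (tt N12350 (iv F71476)) (tt N11879 F71472) (tt N11740 (iv D18236)) (tt N12887 D18774) (tt N11750 F71473) (tt N12348 F71474))
theorem Q12351 : ∀ i, i < 12351 → P i := stepQ 12350 Q12350 (allL N12350 (tt N12875 (iv F73536)) (tt N11758 F71475) (tt N12591 (iv F72414)) (tt N12349 F71476) (tt N11745 F71477) (tt N11741 (iv D18237)) (tt N12888 D18775) (tt N12855 (iv F73466)) (tt N11743 F71478))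
theorem Q12352 : ∀ i, i < 12352 → P i := stepQ 12351 Q12351 (allL N12351 (tt N12876 (iv F73542)) (tt N12240 F71479) (tt N11743 F71480) (tt N12295 F71481) (tt N11748 F71482) (tt N11742 (iv D18238)) (tt N12889 D18776) (tt N11751 F71483) (tt N12591 (iv F72417)))
theorem Q12353 : ∀ i, i < 12353 → P i := stepQ 12352 Q12352 (allL N12352 (tt N12877 (iv F73547)) (tt N11760 F71484) (tt N12889 (iv F73595)) (tt N12886 (iv F73582)) (tt N11749 F71485) (tt N12887 (iv F73586)) (tt N11743 (iv D18239)) (tt N11752 F71486) (tt N12888 (iv F73593)))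
theorem Q12354 : ∀ i, i < 12354 → P i := stepQ 12353 Q12353 (allL N12353 (tt N12281 F71487) (tt N12587 (iv F72396)) (tt N12161 F71488) (tt N11744 (iv D18240)) (tt N11772 F71489) (tt N12890 D18777) (tt N11889 F71490) (tt N12724 (iv F72956)) (tt N11747 F71491))
theorem Q12355 : ∀ i, i < 12355 → P i := stepQ 12354 Q12354 (allL N12354 (tt N12879 (iv F73554)) (tt N12588 (iv F72401)) (tt N11745 F71492) (tt N12890 (iv F73601)) (tt N12591 (iv F72416)) (tt N11744 (iv D18241)) (tt N12891 D18778) (tt N12860 (iv F73479)) (tt N11748 F71493))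
theorem Q12356 : ∀ i, i < 12356 → P i := stepQ 12355 Q12355 (allL N12355 (tt N12880 (iv F73558)) (tt N11762 F71494) (tt N12891 (iv F73603)) (tt N12330 F71495) (tt N12888 (iv F73591)) (tt N11891 F71496) (tt N11745 (iv D18242)) (tt N12861 (iv F73483)) (tt N11749 F71497))
theorem Q12357 : ∀ i, i < 12357 → P i := stepQ 12356 Q12356 (allL N12356 (tt N12644 (iv F72646)) (tt N11747 F71498) (tt N12455 (iv F71816)) (tt N11746 (iv D18243)) (tt N11773 F71499) (tt N12892 D18779) (tt N11893 F71500) (tt N12167 F71501) (tt N12587 (iv F72400)))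
theorem Q12358 : ∀ i, i < 12358 → P i := stepQ 12357 Q12357 (allL N12357 (tt N12645 (iv F72649)) (tt N11748 F71502) (tt N11763 F71503) (tt N12892 (iv F73607)) (tt N12240 F71504) (tt N11746 (iv D18244)) (tt N12893 D18780) (tt N11753 F71505) (tt N12588 (iv F72404)))
theorem Q12359 : ∀ i, i < 12359 → P i := stepQ 12358 Q12358 (allL N12358 (tt N12285 F71506) (tt N12892 (iv F73606)) (tt N12162 F71507) (tt N11748 F71508) (tt N12837 (iv F73397)) (tt N11747 (iv D18245)) (tt N12894 D18781) (tt N12168 F71509) (tt N12890 (iv F73602)))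
theorem Q12360 : ∀ i, i < 12360 → P i := stepQ 12359 Q12359 (allL N12359 (tt N12882 (iv F73565)) (tt N12893 (iv F73610)) (tt N11749 F71510) (tt N12894 (iv F73617)) (tt N12889 (iv F73597)) (tt N11896 F71511) (tt N11748 (iv D18246)) (tt N11754 F71512) (tt N12891 (iv F73605)))
theorem Q12361 : ∀ i, i < 12361 → P i := stepQ 12360 Q12360 (allL N12360 (tt N12605 (iv F72477)) (tt N11766 F71513) (tt N12573 (iv F72329)) (tt N12681 (iv F72788)) (tt N11898 F71514) (tt N11752 F71515) (tt N11750 (iv D18247)) (tt N12887 (iv F73587)) (tt N12661 (iv F72722)))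
theorem Q12362 : ∀ i, i < 12362 → P i := stepQ 12361 Q12361 (allL N12361 (tt N12883 (iv F73570)) (tt N12553 (iv F72225)) (tt N11752 F71516) (tt N12884 (iv F73574)) (tt N11754 F71517) (tt N12573 (iv F72332)) (tt N11751 (iv D18248)) (tt N12889 (iv F73598)) (tt N12864 (iv F73491)))
theorem Q12363 : ∀ i, i < 12363 → P i := stepQ 12362 Q12362 (allL N12362 (tt N12653 (iv F72686)) (tt N11754 F71518) (tt N11768 F71519) (tt N12654 (iv F72692)) (tt N12553 (iv F72228)) (tt N11904 F71520) (tt N11753 (iv D18249)) (tt N12893 (iv F73614)) (tt N12758 (iv F73081)))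
theorem Q12364 : ∀ i, i < 12364 → P i := stepQ 12363 Q12363 (allL N12363 (tt N12252 F71521) (tt N11978 F71522) (tt N11756 F71523) (tt N11991 F71524) (tt N12474 (iv F71871)) (tt N11755 (iv D18250)) (tt N12895 D18782) (tt N12419 (iv F71691)) (tt N11968 F71525))
theorem Q12365 : ∀ i, i < 12365 → P i := stepQ 12364 Q12364 (allL N12364 (tt N12785 (iv F73184)) (tt N12886 (iv F73581)) (tt N12895 (iv F73622)) (tt N11760 F71526) (tt N12475 (iv F71874)) (tt N12366 (iv F71532)) (tt N11756 (iv D18251)) (tt N12686 (iv F72810)) (tt N12365 (iv F71529)))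
theorem Q12366 : ∀ i, i < 12366 → P i := stepQ 12365 Q12365 (allL N12365 (tt N12786 (iv F73186)) (tt N12887 (iv F73584)) (tt N12558 (iv F72256)) (tt N12366 (iv F71530)) (tt N12871 (iv F73514)) (tt N11760 F71527) (tt N11757 (iv D18252)) (tt N11766 F71528) (tt N12364 F71529))
theorem Q12367 : ∀ i, i < 12367 → P i := stepQ 12366 Q12366 (allL N12366 (tt N12787 (iv F73190)) (tt N12888 (iv F73589)) (tt N12579 (iv F72365)) (tt N12365 F71530) (tt N11762 F71531) (tt N12364 F71532) (tt N11758 (iv D18253)) (tt N12868 (iv F73504)) (tt N11760 F71533))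
theorem Q12368 : ∀ i, i < 12368 → P i := stepQ 12367 Q12367 (allL N12367 (tt N12788 (iv F73195)) (tt N12241 F71534) (tt N11760 F71535) (tt N12239 F71536) (tt N11765 F71537) (tt N12558 (iv F72257)) (tt N11759 (iv D18254)) (tt N11767 F71538) (tt N12579 (iv F72368)))
theorem Q12369 : ∀ i, i < 12369 → P i := stepQ 12368 Q12368 (allL N12368 (tt N12790 (iv F73206)) (tt N12589 (iv F72405)) (tt N11762 F71539) (tt N12818 (iv F73331)) (tt N12579 (iv F72367)) (tt N12750 (iv F73048)) (tt N11761 (iv D18255)) (tt N12763 (iv F73104)) (tt N11765 F71540))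
theorem Q12370 : ∀ i, i < 12370 → P i := stepQ 12369 Q12369 (allL N12369 (tt N12646 (iv F72653)) (tt N11765 F71541) (tt N12893 (iv F73611)) (tt N12457 (iv F71824)) (tt N12241 F71542) (tt N12746 (iv F73029)) (tt N11763 (iv D18256)) (tt N11768 F71543) (tt N12589 (iv F72408)))
theorem Q12371 : ∀ i, i < 12371 → P i := stepQ 12370 Q12370 (allL N12370 (tt N12791 (iv F73212)) (tt N12457 (iv F71823)) (tt N12495 (iv F71933)) (tt N11765 F71544) (tt N12259 F71545) (tt N12734 (iv F72987)) (tt N11764 (iv D18257)) (tt N12718 (iv F72930)) (tt N12818 (iv F73333)))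
theorem Q12372 : ∀ i, i < 12372 → P i := stepQ 12371 Q12371 (allL N12371 (tt N12390 (iv F71614)) (tt N11776 (iv D18258)) (tt N12371 F71546) (tt N12823 (iv F73350)) (tt N12389 F71613) (tt N11778 F71547) (tt N11792 F71548) (tt N12371 F71549) (tt N11777 F71550))
theorem Q12373 : ∀ i, i < 12373 → P i := stepQ 12372 Q12372 (allL N12372 (tt N11778 (iv D18259)) (tt N11925 F71551) (tt N12372 F71552) (tt N12830 (iv F73379)) (tt N11924 F71553) (tt N12390 (iv F71617)) (tt N12436 (iv F71749)) (tt N12372 F71554) (tt N11779 F71555))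
theorem Q12374 : ∀ i, i < 12374 → P i := stepQ 12373 Q12373 (allL N12373 (tt N12896 D18783) (tt N11780 (iv D18260)) (tt N11788 F71556) (tt N12373 F71557) (tt N12897 D18784) (tt N12379 (iv F71573)) (tt N12708 (iv F72879)) (tt N12382 (iv F71585)) (tt N12155 F71558))
theorem Q12375 : ∀ i, i < 12375 → P i := stepQ 12374 Q12374 (allL N12374 (tt N12441 (iv F71767)) (tt N12897 (iv F73630)) (tt N11781 F71559) (tt N12898 D18785) (tt N11780 (iv D18261)) (tt N12899 D18786) (tt N12719 (iv F72933)) (tt N12383 (iv F71589)) (tt N12156 F71560))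
theorem Q12376 : ∀ i, i < 12376 → P i := stepQ 12375 Q12375 (allL N12375 (tt N12442 (iv F71771)) (tt N11790 F71561) (tt N12899 (iv F73636)) (tt N11783 F71562) (tt N12381 (iv F71580)) (tt N11781 (iv D18262)) (tt N12900 D18787) (tt N12384 (iv F71595)) (tt N12157 F71563))
theorem Q12377 : ∀ i, i < 12377 → P i := stepQ 12376 Q12376 (allL N12376 (tt N12715 (iv F72914)) (tt N12508 (iv F71986)) (tt N12898 (iv F73633)) (tt N11782 (iv D18263)) (tt N12376 F71564) (tt N12901 D18788) (tt N12721 (iv F72942)) (tt N12902 D18789) (tt N12158 F71565))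
theorem Q12378 : ∀ i, i < 12378 → P i := stepQ 12377 Q12377 (allL N12377 (tt N12716 (iv F72918)) (tt N12509 (iv F71988)) (tt N11783 F71566) (tt N12901 (iv F73641)) (tt N12633 (iv F72590)) (tt N11782 (iv D18264)) (tt N12903 D18790) (tt N11796 F71567) (tt N12159 F71568))
theorem Q12379 : ∀ i, i < 12379 → P i := stepQ 12378 Q12378 (allL N12378 (tt N12717 (iv F72922)) (tt N11791 F71569) (tt N12903 (iv F73645)) (tt N12900 (iv F73639)) (tt N12634 (iv F72594)) (tt N12723 (iv F72950)) (tt N11783 (iv D18265)) (tt N11797 F71570) (tt N12160 F71571))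
theorem Q12380 : ∀ i, i < 12380 → P i := stepQ 12379 Q12379 (allL N12379 (tt N12904 D18791) (tt N11784 (iv D18266)) (tt N12382 (iv F71582)) (tt N12379 F71572) (tt N12905 D18792) (tt N12373 F71573) (tt N12709 (iv F72883)) (tt N11788 F71574) (tt N12593 (iv F72425)))
theorem Q12381 : ∀ i, i < 12381 → P i := stepQ 12380 Q12380 (allL N12380 (tt N11849 F71575) (tt N12905 (iv F73652)) (tt N11785 F71576) (tt N12906 D18793) (tt N11784 (iv D18267)) (tt N12907 D18794) (tt N12697 (iv F72844)) (tt N11789 F71577) (tt N12724 (iv F72957)))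
theorem Q12382 : ∀ i, i < 12382 → P i := stepQ 12381 Q12381 (allL N12381 (tt N11850 F71578) (tt N12384 (iv F71592)) (tt N12907 (iv F73658)) (tt N11802 F71579) (tt N12375 F71580) (tt N11785 (iv D18268)) (tt N12908 D18795) (tt N11790 F71581) (tt N12725 (iv F72962)))
theorem Q12383 : ∀ i, i < 12383 → P i := stepQ 12382 Q12382 (allL N12382 (tt N12909 D18796) (tt N11786 (iv D18269)) (tt N12379 F71582) (tt N11792 F71583) (tt N12910 D18797) (tt N11788 F71584) (tt N12823 (iv F73352)) (tt N12373 F71585) (tt N12163 F71586))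
theorem Q12384 : ∀ i, i < 12384 → P i := stepQ 12383 Q12383 (allL N12383 (tt N11854 F71587) (tt N12910 (iv F73671)) (tt N11787 F71588) (tt N12911 D18798) (tt N11786 (iv D18270)) (tt N12912 D18799) (tt N12824 (iv F73357)) (tt N12374 F71589) (tt N12164 F71590))
theorem Q12385 : ∀ i, i < 12385 → P i := stepQ 12384 Q12384 (allL N12384 (tt N11855 F71591) (tt N12381 F71592) (tt N12912 (iv F73680)) (tt N12065 F71593) (tt N11790 F71594) (tt N11787 (iv D18271)) (tt N12913 D18800) (tt N12375 F71595) (tt N12165 F71596))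
theorem Q12386 : ∀ i, i < 12386 → P i := stepQ 12385 Q12385 (allL N12385 (tt N11788 (iv D18272)) (tt N11856 F71597) (tt N12896 (iv F73627)) (tt N11794 F71598) (tt N12914 D18801) (tt N12909 (iv F73668)) (tt N12707 (iv F72874)) (tt N12904 (iv F73651)) (tt N12166 F71599))
theorem Q12387 : ∀ i, i < 12387 → P i := stepQ 12386 Q12386 (allL N12386 (tt N12914 (iv F73690)) (tt N11789 F71600) (tt N12897 (iv F73631)) (tt N12518 (iv F72039)) (tt N11788 (iv D18273)) (tt N12915 D18802) (tt N12694 (iv F72833)) (tt N12905 (iv F73653)) (tt N12167 F71601))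
theorem Q12388 : ∀ i, i < 12388 → P i := stepQ 12387 Q12387 (allL N12387 (tt N11858 F71602) (tt N12915 (iv F73693)) (tt N11790 F71603) (tt N12519 (iv F72044)) (tt N12912 (iv F73681)) (tt N11789 (iv D18274)) (tt N12916 D18803) (tt N12907 (iv F73660)) (tt N12168 F71604))
theorem Q12389 : ∀ i, i < 12389 → P i := stepQ 12388 Q12388 (allL N12388 (tt N11859 F71605) (tt N12900 (iv F73638)) (tt N12916 (iv F73696)) (tt N11791 F71606) (tt N12913 (iv F73687)) (tt N12808 (iv F73290)) (tt N11790 (iv D18275)) (tt N12908 (iv F73664)) (tt N12169 F71607))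
theorem Q12390 : ∀ i, i < 12390 → P i := stepQ 12389 Q12389 (allL N12389 (tt N11792 (iv D18276)) (tt N11860 F71608) (tt N12389 F71609) (tt N12909 (iv F73667)) (tt N12371 (iv F71613)) (tt N11794 F71610) (tt N12390 (iv F71618)) (tt N12389 F71611) (tt N12170 F71612))
theorem Q12391 : ∀ i, i < 12391 → P i := stepQ 12390 Q12390 (allL N12390 (tt N12371 F71614) (tt N11793 F71615) (tt N12390 F71616) (tt N12917 D18804) (tt N11792 (iv D18277)) (tt N12372 F71617) (tt N12389 F71618) (tt N12390 F71619) (tt N12171 F71620))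
theorem Q12392 : ∀ i, i < 12392 → P i := stepQ 12391 Q12391 (allL N12391 (tt N11861 F71621) (tt N12917 (iv F73699)) (tt N12130 F71622) (tt N11793 (iv D18278)) (tt N12911 (iv F73677)) (tt N12521 (iv F72052)) (tt N12453 (iv F71809)) (tt N12726 (iv F72966)) (tt N12172 F71623))
theorem Q12393 : ∀ i, i < 12393 → P i := stepQ 12392 Q12392 (allL N12392 (tt N12640 (iv F72624)) (tt N12533 (iv F72125)) (tt N12652 (iv F72682)) (tt N11796 F71624) (tt N12682 (iv F72796)) (tt N11795 (iv D18279)) (tt N12918 D18805) (tt N12919 D18806) (tt N11815 F71625))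
theorem Q12394 : ∀ i, i < 12394 → P i := stepQ 12393 Q12393 (allL N12393 (tt N12636 (iv F72604)) (tt N12534 (iv F72131)) (tt N12647 (iv F72659)) (tt N12902 (iv F73643)) (tt N11841 F71626) (tt N12919 (iv F73705)) (tt N12613 (iv F72517)) (tt N11795 (iv D18280)) (tt N12920 D18807))
theorem Q12395 : ∀ i, i < 12395 → P i := stepQ 12394 Q12394 (allL N12394 (tt N12744 (iv F73018)) (tt N12535 (iv F72135)) (tt N11797 F71627) (tt N12918 (iv F73703)) (tt N12635 (iv F72601)) (tt N12745 (iv F73025)) (tt N11796 (iv D18281)) (tt N12903 (iv F73646)) (tt N11817 F71628))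
theorem Q12396 : ∀ i, i < 12396 → P i := stepQ 12395 Q12395 (allL N12395 (tt N12711 (iv F72889)) (tt N11798 (iv D18282)) (tt N12514 (iv F72014)) (tt N12395 F71629) (tt N12921 D18808) (tt N12505 (iv F71971)) (tt N12844 (iv F73416)) (tt N11823 F71630) (tt N11800 F71631))
theorem Q12397 : ∀ i, i < 12397 → P i := stepQ 12396 Q12396 (allL N12396 (tt N11868 F71632) (tt N12921 (iv F73709)) (tt N11799 F71633) (tt N12922 D18809) (tt N11798 (iv D18283)) (tt N12923 D18810) (tt N12845 (iv F73421)) (tt N11824 F71634) (tt N11801 F71635))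
theorem Q12398 : ∀ i, i < 12398 → P i := stepQ 12397 Q12397 (allL N12397 (tt N11869 F71636) (tt N12516 (iv F72026)) (tt N12923 (iv F73716)) (tt N12725 (iv F72960)) (tt N12507 (iv F71983)) (tt N11799 (iv D18284)) (tt N12924 D18811) (tt N11825 F71637) (tt N11802 F71638))
theorem Q12399 : ∀ i, i < 12399 → P i := stepQ 12398 Q12398 (allL N12398 (tt N12683 (iv F72798)) (tt N11801 F71639) (tt N12643 (iv F72643)) (tt N12925 D18812) (tt N11800 (iv D18285)) (tt N12926 D18813) (tt N12847 (iv F73432)) (tt N11803 F71640) (tt N12921 (iv F73711)))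
theorem Q12400 : ∀ i, i < 12400 → P i := stepQ 12399 Q12399 (allL N12399 (tt N11870 F71641) (tt N12925 (iv F73722)) (tt N12906 (iv F73655)) (tt N11801 (iv D18286)) (tt N12399 F71642) (tt N12927 D18814) (tt N12848 (iv F73436)) (tt N12541 (iv F72165)) (tt N12922 (iv F73714)))
theorem Q12401 : ∀ i, i < 12401 → P i := stepQ 12400 Q12400 (allL N12400 (tt N11871 F71643) (tt N12926 (iv F73724)) (tt N11802 F71644) (tt N12927 (iv F73727)) (tt N12638 (iv F72616)) (tt N11801 (iv D18287)) (tt N12928 D18815) (tt N11804 F71645) (tt N12923 (iv F73718)))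
theorem Q12402 : ∀ i, i < 12402 → P i := stepQ 12401 Q12401 (allL N12401 (tt N11872 F71646) (tt N12646 (iv F72654)) (tt N12928 (iv F73729)) (tt N12908 (iv F73662)) (tt N12639 (iv F72621)) (tt N12850 (iv F73441)) (tt N11802 (iv D18288)) (tt N11805 F71647) (tt N12924 (iv F73721)))
theorem Q12403 : ∀ i, i < 12403 → P i := stepQ 12402 Q12402 (allL N12402 (tt N12682 (iv F72792)) (tt N11804 F71648) (tt N12651 (iv F72676)) (tt N12546 (iv F72186)) (tt N12640 (iv F72628)) (tt N11803 (iv D18289)) (tt N12929 D18816) (tt N12926 (iv F73725)) (tt N11834 F71649))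
theorem Q12404 : ∀ i, i < 12404 → P i := stepQ 12403 Q12403 (allL N12403 (tt N11875 F71650) (tt N12929 (iv F73731)) (tt N11805 F71651) (tt N12547 (iv F72191)) (tt N12641 (iv F72633)) (tt N12852 (iv F73451)) (tt N11804 (iv D18290)) (tt N12928 (iv F73730)) (tt N11835 F71652))
theorem Q12405 : ∀ i, i < 12405 → P i := stepQ 12404 Q12404 (allL N12404 (tt N12844 (iv F73412)) (tt N11806 (iv D18291)) (tt N11823 F71653) (tt N12404 F71654) (tt N12930 D18817) (tt N12511 (iv F71998)) (tt N12711 (iv F72894)) (tt N12514 (iv F72018)) (tt N11808 F71655))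
theorem Q12406 : ∀ i, i < 12406 → P i := stepQ 12405 Q12405 (allL N12405 (tt N12580 (iv F72369)) (tt N12930 (iv F73733)) (tt N11807 F71656) (tt N12931 D18818) (tt N11806 (iv D18292)) (tt N12932 D18819) (tt N12764 (iv F73108)) (tt N12515 (iv F72023)) (tt N11809 F71657))
theorem Q12407 : ∀ i, i < 12407 → P i := stepQ 12406 Q12406 (allL N12406 (tt N12581 (iv F72375)) (tt N11825 F71658) (tt N12932 (iv F73739)) (tt N12216 F71659) (tt N12513 (iv F72010)) (tt N11807 (iv D18293)) (tt N12933 D18820) (tt N12516 (iv F72029)) (tt N11810 F71660))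
theorem Q12408 : ∀ i, i < 12408 → P i := stepQ 12407 Q12407 (allL N12407 (tt N12847 (iv F73429)) (tt N11809 F71661) (tt N11827 F71662) (tt N12934 D18821) (tt N11808 (iv D18294)) (tt N12935 D18822) (tt N12683 (iv F72802)) (tt N11811 F71663) (tt N12930 (iv F73735)))
theorem Q12409 : ∀ i, i < 12409 → P i := stepQ 12408 Q12408 (allL N12408 (tt N12755 (iv F73065)) (tt N12934 (iv F73744)) (tt N12217 F71664) (tt N11809 (iv D18295)) (tt N12408 F71665) (tt N12936 D18823) (tt N12766 (iv F73119)) (tt N12937 D18824) (tt N12931 (iv F73738)))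
theorem Q12410 : ∀ i, i < 12410 → P i := stepQ 12409 Q12409 (allL N12409 (tt N12756 (iv F73069)) (tt N12935 (iv F73746)) (tt N11810 F71666) (tt N12936 (iv F73750)) (tt N12596 (iv F72435)) (tt N11809 (iv D18296)) (tt N12938 D18825) (tt N11813 F71667) (tt N12932 (iv F73740)))
theorem Q12411 : ∀ i, i < 12411 → P i := stepQ 12410 Q12410 (allL N12410 (tt N12757 (iv F73073)) (tt N11830 F71668) (tt N12938 (iv F73754)) (tt N12219 F71669) (tt N12597 (iv F72438)) (tt N12768 (iv F73126)) (tt N11810 (iv D18297)) (tt N11814 F71670) (tt N12933 (iv F73743)))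
theorem Q12412 : ∀ i, i < 12412 → P i := stepQ 12411 Q12411 (allL N12411 (tt N12851 (iv F73443)) (tt N11813 F71671) (tt N11834 F71672) (tt N12680 (iv F72783)) (tt N12598 (iv F72445)) (tt N11811 (iv D18298)) (tt N12939 D18826) (tt N12935 (iv F73748)) (tt N12651 (iv F72679)))
theorem Q12413 : ∀ i, i < 12413 → P i := stepQ 12412 Q12412 (allL N12412 (tt N12598 (iv F72441)) (tt N12680 (iv F72781)) (tt N11815 F71673) (tt N11813 F71674) (tt N12851 (iv F73447)) (tt N11812 (iv D18299)) (tt N12940 D18827) (tt N12941 D18828) (tt N12652 (iv F72685)))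
theorem Q12414 : ∀ i, i < 12414 → P i := stepQ 12413 Q12413 (allL N12413 (tt N12594 (iv F72426)) (tt N12665 (iv F72738)) (tt N11816 F71675) (tt N12937 (iv F73752)) (tt N11842 F71676) (tt N12941 (iv F73761)) (tt N12622 (iv F72546)) (tt N11812 (iv D18300)) (tt N12942 D18829))
theorem Q12415 : ∀ i, i < 12415 → P i := stepQ 12414 Q12414 (allL N12414 (tt N12758 (iv F73077)) (tt N12939 (iv F73756)) (tt N11814 F71677) (tt N12940 (iv F73759)) (tt N12599 (iv F72449)) (tt N12769 (iv F73130)) (tt N11813 (iv D18301)) (tt N12938 (iv F73755)) (tt N12653 (iv F72690)))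
theorem Q12416 : ∀ i, i < 12416 → P i := stepQ 12415 Q12415 (allL N12415 (tt N11834 F71678) (tt N11903 F71679) (tt N12851 (iv F73445)) (tt N12572 (iv F72325)) (tt N11815 (iv D18302)) (tt N11833 F71680) (tt N12943 D18830) (tt N12944 D18831) (tt N12682 (iv F72797)))
theorem Q12417 : ∀ i, i < 12417 → P i := stepQ 12416 Q12416 (allL N12416 (tt N12759 (iv F73082)) (tt N12560 (iv F72267)) (tt N12940 (iv F73758)) (tt N11817 F71681) (tt N12943 (iv F73767)) (tt N12705 (iv F72868)) (tt N11815 (iv D18303)) (tt N12945 D18832) (tt N12918 (iv F73704)))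
theorem Q12418 : ∀ i, i < 12418 → P i := stepQ 12417 Q12417 (allL N12417 (tt N12760 (iv F73087)) (tt N12561 (iv F72273)) (tt N12941 (iv F73760)) (tt N12224 F71682) (tt N12944 (iv F73770)) (tt N11816 F71683) (tt N12945 (iv F73773)) (tt N11815 (iv D18304)) (tt N12946 D18833))
theorem Q12419 : ∀ i, i < 12419 → P i := stepQ 12418 Q12418 (allL N12418 (tt N12761 (iv F73092)) (tt N12318 F71684) (tt N12942 (iv F73763)) (tt N12225 F71685) (tt N11843 F71686) (tt N12946 (iv F73776)) (tt N12688 (iv F72815)) (tt N12920 (iv F73708)) (tt N11816 (iv D18305)))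
theorem Q12420 : ∀ i, i < 12420 → P i := stepQ 12419 Q12419 (allL N12419 (tt N11877 F71687) (tt N12539 (iv F72154)) (tt N12107 F71688) (tt N11822 F71689) (tt N12226 F71690) (tt N11818 (iv D18306)) (tt N12947 D18834) (tt N12363 F71691) (tt N12531 (iv F72116)))
theorem Q12421 : ∀ i, i < 12421 → P i := stepQ 12420 Q12420 (allL N12420 (tt N11881 F71692) (tt N12761 (iv F73093)) (tt N11820 F71693) (tt N12110 F71694) (tt N11819 (iv D18307)) (tt N12948 D18835) (tt N12601 (iv F72460)) (tt N12506 (iv F71978)) (tt N11821 F71695))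
theorem Q12422 : ∀ i, i < 12422 → P i := stepQ 12421 Q12421 (allL N12421 (tt N11882 F71696) (tt N12513 (iv F72008)) (tt N12948 (iv F73783)) (tt N12531 (iv F72113)) (tt N11825 F71697) (tt N11820 (iv D18308)) (tt N12949 D18836) (tt N12507 (iv F71984)) (tt N11822 F71698))
theorem Q12423 : ∀ i, i < 12423 → P i := stepQ 12422 Q12422 (allL N12422 (tt N11885 F71699) (tt N12760 (iv F73088)) (tt N11822 F71700) (tt N12113 F71701) (tt N11829 F71702) (tt N11821 (iv D18309)) (tt N12950 D18837) (tt N11831 F71703) (tt N12948 (iv F73786)))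
theorem Q12424 : ∀ i, i < 12424 → P i := stepQ 12423 Q12423 (allL N12423 (tt N11886 F71704) (tt N12597 (iv F72437)) (tt N12950 (iv F73791)) (tt N12947 (iv F73779)) (tt N11830 F71705) (tt N12604 (iv F72475)) (tt N11822 (iv D18310)) (tt N11832 F71706) (tt N12949 (iv F73789)))
theorem Q12425 : ∀ i, i < 12425 → P i := stepQ 12424 Q12424 (allL N12424 (tt N11823 (iv D18311)) (tt N11887 F71707) (tt N12844 (iv F73413)) (tt N11836 F71708) (tt N12951 D18838) (tt N11843 F71709) (tt N12514 (iv F72017)) (tt N12711 (iv F72895)) (tt N11826 F71710))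
theorem Q12426 : ∀ i, i < 12426 → P i := stepQ 12425 Q12425 (allL N12425 (tt N12951 (iv F73795)) (tt N11824 F71711) (tt N12930 (iv F73734)) (tt N12952 D18839) (tt N11823 (iv D18312)) (tt N12953 D18840) (tt N12878 (iv F73552)) (tt N12921 (iv F73710)) (tt N11827 F71712))
theorem Q12427 : ∀ i, i < 12427 → P i := stepQ 12426 Q12426 (allL N12426 (tt N11889 F71713) (tt N12952 (iv F73798)) (tt N12231 F71714) (tt N11824 (iv D18313)) (tt N11838 F71715) (tt N12954 D18841) (tt N12281 F71716) (tt N12811 (iv F73305)) (tt N11828 F71717))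
theorem Q12428 : ∀ i, i < 12428 → P i := stepQ 12427 Q12427 (allL N12427 (tt N11890 F71718) (tt N12953 (iv F73802)) (tt N11825 F71719) (tt N12954 (iv F73806)) (tt N12948 (iv F73785)) (tt N11824 (iv D18314)) (tt N12955 D18842) (tt N12923 (iv F73717)) (tt N11829 F71720))
theorem Q12429 : ∀ i, i < 12429 → P i := stepQ 12428 Q12428 (allL N12428 (tt N11891 F71721) (tt N12933 (iv F73741)) (tt N12955 (iv F73810)) (tt N12233 F71722) (tt N12949 (iv F73788)) (tt N12880 (iv F73560)) (tt N11825 (iv D18315)) (tt N12924 (iv F73720)) (tt N11830 F71723))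
theorem Q12430 : ∀ i, i < 12430 → P i := stepQ 12429 Q12429 (allL N12429 (tt N11827 F71724) (tt N11892 F71725) (tt N12847 (iv F73431)) (tt N12956 D18843) (tt N11826 (iv D18316)) (tt N12944 (iv F73771)) (tt N12643 (iv F72644)) (tt N11833 F71726) (tt N12951 (iv F73797)))
theorem Q12431 : ∀ i, i < 12431 → P i := stepQ 12430 Q12430 (allL N12430 (tt N12956 (iv F73812)) (tt N11828 F71727) (tt N12447 (iv F71790)) (tt N11827 (iv D18317)) (tt N11840 F71728) (tt N12957 D18844) (tt N12284 F71729) (tt N12257 F71730) (tt N12952 (iv F73801)))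
theorem Q12432 : ∀ i, i < 12432 → P i := stepQ 12431 Q12431 (allL N12431 (tt N12944 (iv F73768)) (tt N11829 F71731) (tt N12935 (iv F73747)) (tt N12957 (iv F73818)) (tt N12760 (iv F73090)) (tt N11827 (iv D18318)) (tt N12958 D18845) (tt N11834 F71732) (tt N12953 (iv F73803)))
theorem Q12433 : ∀ i, i < 12433 → P i := stepQ 12432 Q12432 (allL N12432 (tt N11895 F71733) (tt N12957 (iv F73817)) (tt N12234 F71734) (tt N11829 F71735) (tt N12123 F71736) (tt N11828 (iv D18319)) (tt N12959 D18846) (tt N12258 F71737) (tt N12954 (iv F73808)))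
theorem Q12434 : ∀ i, i < 12434 → P i := stepQ 12433 Q12433 (allL N12433 (tt N11896 F71738) (tt N12958 (iv F73821)) (tt N11830 F71739) (tt N12959 (iv F73825)) (tt N12950 (iv F73793)) (tt N12882 (iv F73568)) (tt N11829 (iv D18320)) (tt N11835 F71740) (tt N12955 (iv F73811)))
theorem Q12435 : ∀ i, i < 12435 → P i := stepQ 12434 Q12434 (allL N12434 (tt N11902 F71741) (tt N12759 (iv F73083)) (tt N11832 F71742) (tt N12712 (iv F72899)) (tt N11835 F71743) (tt N12606 (iv F72487)) (tt N11831 (iv D18321)) (tt N12950 (iv F73794)) (tt N12641 (iv F72635)))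
theorem Q12436 : ∀ i, i < 12436 → P i := stepQ 12435 Q12435 (allL N12435 (tt N12943 (iv F73765)) (tt N11835 F71744) (tt N12939 (iv F73757)) (tt N12573 (iv F72330)) (tt N12759 (iv F73085)) (tt N12884 (iv F73575)) (tt N11834 (iv D18322)) (tt N12958 (iv F73822)) (tt N12929 (iv F73732)))
theorem Q12437 : ∀ i, i < 12437 → P i := stepQ 12436 Q12436 (allL N12436 (tt N11837 F71745) (tt N11906 F71746) (tt N12436 F71747) (tt N12960 D18847) (tt N11836 (iv D18323)) (tt N12131 F71748) (tt N12372 F71749) (tt N12436 F71750) (tt N11839 F71751))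
theorem Q12438 : ∀ i, i < 12438 → P i := stepQ 12437 Q12437 (allL N12437 (tt N12960 (iv F73829)) (tt N11838 F71752) (tt N12443 (iv F71776)) (tt N11837 (iv D18324)) (tt N12952 (iv F73799)) (tt N12132 F71753) (tt N12280 F71754) (tt N12810 (iv F73300)) (tt N11840 F71755))
theorem Q12439 : ∀ i, i < 12439 → P i := stepQ 12438 Q12438 (allL N12438 (tt N11840 F71756) (tt N11909 F71757) (tt N12446 (iv F71786)) (tt N11839 (iv D18325)) (tt N12956 (iv F73814)) (tt N12134 F71758) (tt N12283 F71759) (tt N12256 F71760) (tt N12960 (iv F73833)))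
theorem Q12440 : ∀ i, i < 12440 → P i := stepQ 12439 Q12439 (allL N12439 (tt N12505 (iv F71968)) (tt N12028 F71761) (tt N12517 (iv F72032)) (tt N12439 F71762) (tt N12920 (iv F73707)) (tt N12711 (iv F72893)) (tt N12610 (iv F72503)) (tt N11843 F71763) (tt N11841 (iv D18326)))
theorem Q12441 : ∀ i, i < 12441 → P i := stepQ 12440 Q12440 (allL N12440 (tt N12511 (iv F71995)) (tt N12305 F71764) (tt N11843 F71765) (tt N12440 F71766) (tt N12942 (iv F73764)) (tt N12844 (iv F73415)) (tt N12617 (iv F72529)) (tt N12517 (iv F72036)) (tt N11842 (iv D18327)))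
theorem Q12442 : ∀ i, i < 12442 → P i := stepQ 12441 Q12441 (allL N12441 (tt N12374 F71767) (tt N12701 (iv F72854)) (tt N11845 F71768) (tt N12961 D18848) (tt N11844 (iv D18328)) (tt N12962 D18849) (tt N12156 F71769) (tt N11854 F71770) (tt N12719 (iv F72934)))
theorem Q12443 : ∀ i, i < 12443 → P i := stepQ 12442 Q12442 (allL N12442 (tt N12375 F71771) (tt N12147 F71772) (tt N12962 (iv F73839)) (tt N12146 F71773) (tt N11850 F71774) (tt N11845 (iv D18329)) (tt N12963 D18850) (tt N11855 F71775) (tt N12720 (iv F72939)))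
theorem Q12444 : ∀ i, i < 12444 → P i := stepQ 12443 Q12443 (allL N12443 (tt N12964 D18851) (tt N11846 (iv D18330)) (tt N12437 F71776) (tt N12443 F71777) (tt N12965 D18852) (tt N12708 (iv F72878)) (tt N12810 (iv F73299)) (tt N12280 F71778) (tt N11848 F71779))
theorem Q12445 : ∀ i, i < 12445 → P i := stepQ 12444 Q12444 (allL N12444 (tt N12724 (iv F72953)) (tt N12965 (iv F73852)) (tt N11847 F71780) (tt N12966 D18853) (tt N11846 (iv D18331)) (tt N12967 D18854) (tt N12811 (iv F73304)) (tt N12281 F71781) (tt N11849 F71782))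
theorem Q12446 : ∀ i, i < 12446 → P i := stepQ 12445 Q12445 (allL N12445 (tt N12725 (iv F72958)) (tt N12789 (iv F73202)) (tt N12967 (iv F73859)) (tt N11869 F71783) (tt N12720 (iv F72938)) (tt N11847 (iv D18332)) (tt N12968 D18855) (tt N12282 F71784) (tt N11850 F71785))
theorem Q12447 : ∀ i, i < 12447 → P i := stepQ 12446 Q12446 (allL N12446 (tt N11848 (iv D18333)) (tt N12904 (iv F73648)) (tt N12438 F71786) (tt N12446 F71787) (tt N12969 D18856) (tt N12710 (iv F72887)) (tt N12813 (iv F73315)) (tt N11856 F71788) (tt N12964 (iv F73851)))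
theorem Q12448 : ∀ i, i < 12448 → P i := stepQ 12447 Q12447 (allL N12447 (tt N12969 (iv F73865)) (tt N11849 F71789) (tt N12430 F71790) (tt N12970 D18857) (tt N11848 (iv D18334)) (tt N12971 D18858) (tt N12814 (iv F73319)) (tt N11857 F71791) (tt N12965 (iv F73855)))
theorem Q12449 : ∀ i, i < 12449 → P i := stepQ 12448 Q12448 (allL N12448 (tt N12906 (iv F73654)) (tt N12970 (iv F73868)) (tt N11870 F71792) (tt N11849 (iv D18335)) (tt N12448 F71793) (tt N12972 D18859) (tt N12815 (iv F73323)) (tt N12583 (iv F72386)) (tt N12966 (iv F73858)))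
theorem Q12450 : ∀ i, i < 12450 → P i := stepQ 12449 Q12449 (allL N12449 (tt N12907 (iv F73657)) (tt N12971 (iv F73871)) (tt N11850 F71794) (tt N12972 (iv F73875)) (tt N12962 (iv F73840)) (tt N11849 (iv D18336)) (tt N12973 D18860) (tt N11858 F71795) (tt N12967 (iv F73861)))
theorem Q12451 : ∀ i, i < 12451 → P i := stepQ 12450 Q12450 (allL N12450 (tt N12908 (iv F73661)) (tt N12791 (iv F73213)) (tt N12973 (iv F73876)) (tt N11872 F71796) (tt N12963 (iv F73845)) (tt N12817 (iv F73328)) (tt N11850 (iv D18337)) (tt N11859 F71797) (tt N12968 (iv F73864)))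
theorem Q12452 : ∀ i, i < 12452 → P i := stepQ 12451 Q12451 (allL N12451 (tt N12824 (iv F73355)) (tt N12455 (iv F71815)) (tt N11852 F71798) (tt N12454 (iv F71813)) (tt N11851 (iv D18338)) (tt N12974 D18861) (tt N11854 F71799) (tt N12156 F71800) (tt N12287 F71801))
theorem Q12453 : ∀ i, i < 12453 → P i := stepQ 12452 Q12452 (allL N12452 (tt N12825 (iv F73360)) (tt N12162 F71802) (tt N12974 (iv F73878)) (tt N12178 F71803) (tt N12733 (iv F72982)) (tt N11852 (iv D18339)) (tt N12975 D18862) (tt N12157 F71804) (tt N12288 F71805))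
theorem Q12454 : ∀ i, i < 12454 → P i := stepQ 12453 Q12453 (allL N12453 (tt N11853 (iv D18340)) (tt N12909 (iv F73665)) (tt N11909 F71806) (tt N11860 F71807) (tt N12976 D18863) (tt N11856 F71808) (tt N12391 F71809) (tt N12710 (iv F72888)) (tt N12289 F71810))
theorem Q12455 : ∀ i, i < 12455 → P i := stepQ 12454 Q12454 (allL N12454 (tt N12976 (iv F73887)) (tt N11854 F71811) (tt N11893 F71812) (tt N12451 F71813) (tt N11853 (iv D18341)) (tt N12977 D18864) (tt N12455 (iv F71818)) (tt N12701 (iv F72856)) (tt N12290 F71814))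
theorem Q12456 : ∀ i, i < 12456 → P i := stepQ 12455 Q12455 (allL N12455 (tt N12911 (iv F73675)) (tt N12451 F71815) (tt N12356 F71816) (tt N11854 (iv D18342)) (tt N11861 F71817) (tt N12978 D18865) (tt N12454 F71818) (tt N12727 (iv F72970)) (tt N12291 F71819))
theorem Q12457 : ∀ i, i < 12457 → P i := stepQ 12456 Q12456 (allL N12456 (tt N12912 (iv F73679)) (tt N12977 (iv F73892)) (tt N11855 F71820) (tt N12978 (iv F73899)) (tt N11858 F71821) (tt N11854 (iv D18343)) (tt N12979 D18866) (tt N12962 (iv F73841)) (tt N12292 F71822))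
theorem Q12458 : ∀ i, i < 12458 → P i := stepQ 12457 Q12457 (allL N12457 (tt N12913 (iv F73684)) (tt N12370 F71823) (tt N12979 (iv F73901)) (tt N12369 F71824) (tt N11859 F71825) (tt N12975 (iv F73884)) (tt N11855 (iv D18344)) (tt N12963 (iv F73847)) (tt N12293 F71826))
theorem Q12459 : ∀ i, i < 12459 → P i := stepQ 12458 Q12458 (allL N12458 (tt N11857 F71827) (tt N12914 (iv F73691)) (tt N12804 (iv F73273)) (tt N12590 (iv F72411)) (tt N11856 (iv D18345)) (tt N12980 D18867) (tt N12819 (iv F73336)) (tt N12969 (iv F73867)) (tt N12294 F71828))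
theorem Q12460 : ∀ i, i < 12460 → P i := stepQ 12459 Q12459 (allL N12459 (tt N12980 (iv F73904)) (tt N11858 F71829) (tt N12805 (iv F73277)) (tt N12591 (iv F72415)) (tt N12977 (iv F73895)) (tt N11857 (iv D18346)) (tt N12981 D18868) (tt N12971 (iv F73873)) (tt N12295 F71830))
theorem Q12461 : ∀ i, i < 12461 → P i := stepQ 12460 Q12460 (allL N12460 (tt N12916 (iv F73695)) (tt N12981 (iv F73906)) (tt N11859 F71831) (tt N12592 (iv F72419)) (tt N12979 (iv F73902)) (tt N12821 (iv F73342)) (tt N11858 (iv D18347)) (tt N12973 (iv F73877)) (tt N12296 F71832))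
theorem Q12462 : ∀ i, i < 12462 → P i := stepQ 12461 Q12461 (allL N12461 (tt N12051 F71833) (tt N12242 F71834) (tt N11863 F71835) (tt N12982 D18869) (tt N11862 (iv D18348)) (tt N12983 D18870) (tt N12187 F71836) (tt N11955 F71837) (tt N12503 (iv F71961)))
theorem Q12463 : ∀ i, i < 12463 → P i := stepQ 12462 Q12462 (allL N12462 (tt N12052 F71838) (tt N12144 F71839) (tt N12983 (iv F73916)) (tt N11867 F71840) (tt N12146 F71841) (tt N11863 (iv D18349)) (tt N12984 D18871) (tt N11956 F71842) (tt N12504 (iv F71967)))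
theorem Q12464 : ∀ i, i < 12464 → P i := stepQ 12463 Q12463 (allL N12463 (tt N12506 (iv F71975)) (tt N12772 (iv F73144)) (tt N11865 F71843) (tt N12985 D18872) (tt N11864 (iv D18350)) (tt N12986 D18873) (tt N12656 (iv F72700)) (tt N11881 F71844) (tt N11866 F71845))
theorem Q12465 : ∀ i, i < 12465 → P i := stepQ 12464 Q12464 (allL N12464 (tt N12507 (iv F71980)) (tt N12576 (iv F72347)) (tt N12986 (iv F73927)) (tt N12504 (iv F71964)) (tt N11869 F71846) (tt N11865 (iv D18351)) (tt N12987 D18874) (tt N11882 F71847) (tt N11867 F71848))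
theorem Q12466 : ∀ i, i < 12466 → P i := stepQ 12465 Q12465 (allL N12465 (tt N12637 (iv F72609)) (tt N12774 (iv F73155)) (tt N12982 (iv F73910)) (tt N11866 (iv D18352)) (tt N12465 F71849) (tt N12988 D18875) (tt N12658 (iv F72710)) (tt N12751 (iv F73054)) (tt N12985 (iv F73926)))
theorem Q12467 : ∀ i, i < 12467 → P i := stepQ 12466 Q12466 (allL N12466 (tt N12638 (iv F72614)) (tt N12775 (iv F73157)) (tt N11867 F71850) (tt N12988 (iv F73934)) (tt N11871 F71851) (tt N11866 (iv D18353)) (tt N12989 D18876) (tt N11873 F71852) (tt N12986 (iv F73930)))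
theorem Q12468 : ∀ i, i < 12468 → P i := stepQ 12467 Q12467 (allL N12467 (tt N12639 (iv F72618)) (tt N12788 (iv F73196)) (tt N12989 (iv F73935)) (tt N12984 (iv F73921)) (tt N11872 F71853) (tt N12660 (iv F72715)) (tt N11867 (iv D18354)) (tt N11874 F71854) (tt N12987 (iv F73933)))
theorem Q12469 : ∀ i, i < 12469 → P i := stepQ 12468 Q12468 (allL N12468 (tt N12922 (iv F73712)) (tt N12777 (iv F73164)) (tt N12966 (iv F73856)) (tt N11868 (iv D18355)) (tt N12468 F71855) (tt N12990 D18877) (tt N12859 (iv F73476)) (tt N12991 D18878) (tt N11870 F71856))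
theorem Q12470 : ∀ i, i < 12470 → P i := stepQ 12469 Q12469 (allL N12469 (tt N12923 (iv F73715)) (tt N12778 (iv F73167)) (tt N11869 F71857) (tt N12990 (iv F73938)) (tt N12986 (iv F73928)) (tt N11868 (iv D18356)) (tt N12992 D18879) (tt N11890 F71858) (tt N11871 F71859))
theorem Q12471 : ∀ i, i < 12471 → P i := stepQ 12470 Q12470 (allL N12470 (tt N12924 (iv F73719)) (tt N12790 (iv F73207)) (tt N12992 (iv F73942)) (tt N12968 (iv F73862)) (tt N12987 (iv F73931)) (tt N12861 (iv F73482)) (tt N11869 (iv D18357)) (tt N11891 F71860) (tt N11872 F71861))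
theorem Q12472 : ∀ i, i < 12472 → P i := stepQ 12471 Q12471 (allL N12471 (tt N12927 (iv F73726)) (tt N12780 (iv F73173)) (tt N12972 (iv F73874)) (tt N11871 F71862) (tt N12993 D18880) (tt N11870 (iv D18358)) (tt N12994 D18881) (tt N12625 (iv F72555)) (tt N12990 (iv F73939)))
theorem Q12473 : ∀ i, i < 12473 → P i := stepQ 12472 Q12472 (allL N12472 (tt N12928 (iv F73728)) (tt N12781 (iv F73175)) (tt N11872 F71863) (tt N12994 (iv F73946)) (tt N12989 (iv F73936)) (tt N12863 (iv F73487)) (tt N11871 (iv D18359)) (tt N11875 F71864) (tt N12992 (iv F73944)))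
theorem Q12474 : ∀ i, i < 12474 → P i := stepQ 12473 Q12473 (allL N12473 (tt N12641 (iv F72630)) (tt N12782 (iv F73178)) (tt N11874 F71865) (tt N12754 (iv F73063)) (tt N11875 F71866) (tt N12662 (iv F72725)) (tt N11873 (iv D18360)) (tt N12989 (iv F73937)) (tt N11902 F71867))
theorem Q12475 : ∀ i, i < 12475 → P i := stepQ 12474 Q12474 (allL N12474 (tt N12107 F71868) (tt N12563 (iv F72283)) (tt N11877 F71869) (tt N11976 F71870) (tt N12363 F71871) (tt N11876 (iv D18361)) (tt N12995 D18882) (tt N12226 F71872) (tt N12557 (iv F72254)))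
theorem Q12476 : ∀ i, i < 12476 → P i := stepQ 12475 Q12475 (allL N12475 (tt N12947 (iv F73777)) (tt N12870 (iv F73508)) (tt N12995 (iv F73948)) (tt N11886 F71873) (tt N12364 F71874) (tt N12872 (iv F73521)) (tt N11877 (iv D18362)) (tt N12802 (iv F73263)) (tt N12871 (iv F73517)))
theorem Q12477 : ∀ i, i < 12477 → P i := stepQ 12476 Q12476 (allL N12476 (tt N12603 (iv F72468)) (tt N12483 (iv F71900)) (tt N11879 F71875) (tt N12482 (iv F71896)) (tt N12568 (iv F72305)) (tt N11878 (iv D18363)) (tt N12996 D18883) (tt N11897 F71876) (tt N12869 (iv F73507)))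
theorem Q12478 : ∀ i, i < 12478 → P i := stepQ 12477 Q12477 (allL N12477 (tt N12604 (iv F72473)) (tt N12871 (iv F73512)) (tt N12996 (iv F73952)) (tt N12872 (iv F73519)) (tt N12887 (iv F73585)) (tt N11886 F71877) (tt N11879 (iv D18364)) (tt N11898 F71878) (tt N12870 (iv F73511)))
theorem Q12479 : ∀ i, i < 12479 → P i := stepQ 12478 Q12478 (allL N12478 (tt N12318 F71879) (tt N11881 F71880) (tt N12181 F71881) (tt N12325 F71882) (tt N11880 (iv D18365)) (tt N12997 D18884) (tt N12479 (iv F71888)) (tt N12772 (iv F73147)) (tt N11883 F71883))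
theorem Q12480 : ∀ i, i < 12480 → P i := stepQ 12479 Q12479 (allL N12479 (tt N12110 F71884) (tt N12325 F71885) (tt N11975 F71886) (tt N11881 (iv D18366)) (tt N11905 F71887) (tt N12998 D18885) (tt N12478 F71888) (tt N12770 (iv F73135)) (tt N11884 F71889))
theorem Q12481 : ∀ i, i < 12481 → P i := stepQ 12480 Q12480 (allL N12480 (tt N12948 (iv F73782)) (tt N12997 (iv F73956)) (tt N11882 F71890) (tt N12998 (iv F73964)) (tt N11890 F71891) (tt N11881 (iv D18367)) (tt N12999 D18886) (tt N12986 (iv F73929)) (tt N11885 F71892))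
theorem Q12482 : ∀ i, i < 12482 → P i := stepQ 12481 Q12481 (allL N12481 (tt N12949 (iv F73787)) (tt N12872 (iv F73518)) (tt N12999 (iv F73967)) (tt N12871 (iv F73513)) (tt N11891 F71893) (tt N12870 (iv F73510)) (tt N11882 (iv D18368)) (tt N12987 (iv F73932)) (tt N11886 F71894))
theorem Q12483 : ∀ i, i < 12483 → P i := stepQ 12482 Q12482 (allL N12482 (tt N12561 (iv F72272)) (tt N11885 F71895) (tt N12562 (iv F72279)) (tt N12476 F71896) (tt N11894 F71897) (tt N11883 (iv D18369)) (tt N13000 D18887) (tt N11899 F71898) (tt N12997 (iv F73960)))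
theorem Q12484 : ∀ i, i < 12484 → P i := stepQ 12483 Q12483 (allL N12483 (tt N12113 F71899) (tt N12476 F71900) (tt N11976 F71901) (tt N11885 F71902) (tt N11981 F71903) (tt N11884 (iv D18370)) (tt N13001 D18888) (tt N11984 F71904) (tt N12998 (iv F73966)))
theorem Q12485 : ∀ i, i < 12485 → P i := stepQ 12484 Q12484 (allL N12484 (tt N12950 (iv F73790)) (tt N13000 (iv F73970)) (tt N11886 F71905) (tt N13001 (iv F73977)) (tt N11896 F71906) (tt N12996 (iv F73953)) (tt N11885 (iv D18371)) (tt N11902 F71907) (tt N12999 (iv F73969)))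
theorem Q12486 : ∀ i, i < 12486 → P i := stepQ 12485 Q12485 (allL N12485 (tt N11888 F71908) (tt N12951 (iv F73796)) (tt N12274 F71909) (tt N13002 D18889) (tt N11887 (iv D18372)) (tt N13003 D18890) (tt N12515 (iv F72022)) (tt N12764 (iv F73109)) (tt N11892 F71910))
theorem Q12487 : ∀ i, i < 12487 → P i := stepQ 12486 Q12486 (allL N12486 (tt N13002 (iv F73981)) (tt N11889 F71911) (tt N12290 F71912) (tt N11888 (iv D18373)) (tt N11907 F71913) (tt N13004 D18891) (tt N12587 (iv F72399)) (tt N13005 D18892) (tt N11893 F71914))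
theorem Q12488 : ∀ i, i < 12488 → P i := stepQ 12487 Q12487 (allL N12487 (tt N13003 (iv F73985)) (tt N11890 F71915) (tt N12586 (iv F72392)) (tt N13004 (iv F73991)) (tt N12997 (iv F73959)) (tt N11888 (iv D18374)) (tt N13006 D18893) (tt N12778 (iv F73169)) (tt N11894 F71916))
theorem Q12489 : ∀ i, i < 12489 → P i := stepQ 12488 Q12488 (allL N12488 (tt N12954 (iv F73804)) (tt N13004 (iv F73989)) (tt N12269 F71917) (tt N11890 F71918) (tt N12272 F71919) (tt N11889 (iv D18375)) (tt N13007 D18894) (tt N13008 D18895) (tt N11895 F71920))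
theorem Q12490 : ∀ i, i < 12490 → P i := stepQ 12489 Q12489 (allL N12489 (tt N12811 (iv F73302)) (tt N13005 (iv F73994)) (tt N12263 F71921) (tt N12991 (iv F73940)) (tt N11908 F71922) (tt N13008 (iv F74005)) (tt N12724 (iv F72955)) (tt N11889 (iv D18376)) (tt N12697 (iv F72845)))
theorem Q12491 : ∀ i, i < 12491 → P i := stepQ 12490 Q12490 (allL N12490 (tt N12955 (iv F73809)) (tt N13006 (iv F73997)) (tt N11891 F71923) (tt N13007 (iv F74000)) (tt N12999 (iv F73968)) (tt N12891 (iv F73604)) (tt N11890 (iv D18377)) (tt N12992 (iv F73943)) (tt N11896 F71924))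
theorem Q12492 : ∀ i, i < 12492 → P i := stepQ 12491 Q12491 (allL N12491 (tt N11893 F71925) (tt N12956 (iv F73813)) (tt N12976 (iv F73888)) (tt N11892 (iv D18378)) (tt N11909 F71926) (tt N13009 D18896) (tt N12644 (iv F72648)) (tt N12699 (iv F72850)) (tt N13002 (iv F73984)))
theorem Q12493 : ∀ i, i < 12493 → P i := stepQ 12492 Q12492 (allL N12492 (tt N11894 F71927) (tt N12944 (iv F73769)) (tt N12642 (iv F72638)) (tt N13009 (iv F74007)) (tt N12561 (iv F72275)) (tt N11892 (iv D18379)) (tt N13010 D18897) (tt N11903 F71928) (tt N13003 (iv F73988)))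
theorem Q12494 : ∀ i, i < 12494 → P i := stepQ 12493 Q12493 (allL N12493 (tt N13009 (iv F74006)) (tt N11895 F71929) (tt N12977 (iv F73893)) (tt N11894 F71930) (tt N12805 (iv F73279)) (tt N11893 (iv D18380)) (tt N13011 D18898) (tt N12702 (iv F72859)) (tt N13004 (iv F73993)))
theorem Q12495 : ∀ i, i < 12495 → P i := stepQ 12494 Q12494 (allL N12494 (tt N13010 (iv F74008)) (tt N11896 F71931) (tt N12746 (iv F73028)) (tt N13011 (iv F74011)) (tt N13000 (iv F73972)) (tt N12893 (iv F73613)) (tt N11894 (iv D18381)) (tt N11904 F71932) (tt N13006 (iv F73998)))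
theorem Q12496 : ∀ i, i < 12496 → P i := stepQ 12495 Q12495 (allL N12495 (tt N12959 (iv F73823)) (tt N13011 (iv F74010)) (tt N12370 F71933) (tt N11896 F71934) (tt N12806 (iv F73283)) (tt N12894 (iv F73618)) (tt N11895 (iv D18382)) (tt N12704 (iv F72863)) (tt N13007 (iv F74002)))
theorem Q12497 : ∀ i, i < 12497 → P i := stepQ 12496 Q12496 (allL N12496 (tt N12606 (iv F72483)) (tt N12571 (iv F72318)) (tt N11898 F71935) (tt N12713 (iv F72905)) (tt N12573 (iv F72331)) (tt N11902 F71936) (tt N11897 (iv D18383)) (tt N12996 (iv F73954)) (tt N12662 (iv F72726)))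
theorem Q12498 : ∀ i, i < 12498 → P i := stepQ 12497 Q12497 (allL N12497 (tt N12560 (iv F72266)) (tt N11902 F71937) (tt N12570 (iv F72312)) (tt N12556 (iv F72247)) (tt N11904 F71938) (tt N12571 (iv F72321)) (tt N11899 (iv D18384)) (tt N13000 (iv F73973)) (tt N12782 (iv F73181)))
theorem Q12499 : ∀ i, i < 12499 → P i := stepQ 12498 Q12498 (allL N12498 (tt N12712 (iv F72896)) (tt N12556 (iv F72245)) (tt N12548 (iv F72195)) (tt N11902 F71939) (tt N12552 (iv F72222)) (tt N12713 (iv F72907)) (tt N11900 (iv D18385)) (tt N13012 D18899) (tt N12754 (iv F73064)))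
theorem Q12500 : ∀ i, i < 12500 → P i := stepQ 12499 Q12499 (allL N12499 (tt N11959 F71940) (tt N12140 F71941) (tt N11958 F71942) (tt N11984 F71943) (tt N12138 F71944) (tt N11901 F71945) (tt N13012 (iv F74018)) (tt N11900 (iv D18386)) (tt N12249 (iv F71946)))
theorem Q12501 : ∀ i, i < 12501 → P i := stepQ 12500 Q12500 (allL N12500 (tt N11904 F71947) (tt N12943 (iv F73766)) (tt N12650 (iv F72669)) (tt N12706 (iv F72870)) (tt N12560 (iv F72270)) (tt N12653 (iv F72689)) (tt N11903 (iv D18387)) (tt N13010 (iv F74009)) (tt N12769 (iv F73131)))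
theorem Q12502 : ∀ i, i < 12502 → P i := stepQ 12501 Q12501 (allL N12501 (tt N11907 F71948) (tt N12960 (iv F73830)) (tt N12289 F71949) (tt N11906 (iv D18388)) (tt N13002 (iv F73983)) (tt N12270 F71950) (tt N12521 (iv F72053)) (tt N13013 D18900) (tt N11909 F71951))
theorem Q12503 : ∀ i, i < 12503 → P i := stepQ 12502 Q12502 (allL N12502 (tt N13013 (iv F74020)) (tt N11908 F71952) (tt N12277 F71953) (tt N12502 F71954) (tt N13005 (iv F73996)) (tt N12266 F71955) (tt N12593 (iv F72424)) (tt N11907 (iv D18389)) (tt N12709 (iv F72884)))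
theorem Q12504 : ∀ i, i < 12504 → P i := stepQ 12503 Q12503 (allL N12503 (tt N11914 F71956) (tt N12187 F71957) (tt N11911 F71958) (tt N13014 D18901) (tt N11910 (iv D18390)) (tt N13015 D18902) (tt N12242 F71959) (tt N11935 F71960) (tt N12461 F71961))
theorem Q12505 : ∀ i, i < 12505 → P i := stepQ 12504 Q12504 (allL N12504 (tt N11915 F71962) (tt N11994 F71963) (tt N13015 (iv F74033)) (tt N12464 F71964) (tt N12152 F71965) (tt N11911 (iv D18391)) (tt N13016 D18903) (tt N11936 F71966) (tt N12462 F71967))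
theorem Q12506 : ∀ i, i < 12506 → P i := stepQ 12505 Q12505 (allL N12505 (tt N12439 F71968) (tt N11912 (iv D18392)) (tt N11920 F71969) (tt N12505 F71970) (tt N13017 D18904) (tt N12395 F71971) (tt N12093 F71972) (tt N12238 F71973) (tt N12056 F71974))
theorem Q12507 : ∀ i, i < 12507 → P i := stepQ 12506 Q12506 (allL N12506 (tt N12463 F71975) (tt N13017 (iv F74045)) (tt N11913 F71976) (tt N13018 D18905) (tt N11912 (iv D18393)) (tt N13019 D18906) (tt N12094 F71977) (tt N12420 F71978) (tt N12057 F71979))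
theorem Q12508 : ∀ i, i < 12508 → P i := stepQ 12507 Q12507 (allL N12507 (tt N12464 F71980) (tt N11922 F71981) (tt N13019 (iv F74056)) (tt N11915 F71982) (tt N12397 F71983) (tt N11913 (iv D18394)) (tt N13020 D18907) (tt N12421 F71984) (tt N12058 F71985))
theorem Q12509 : ∀ i, i < 12509 → P i := stepQ 12508 Q12508 (allL N12508 (tt N13014 (iv F74024)) (tt N12376 F71986) (tt N13018 (iv F74051)) (tt N11914 (iv D18395)) (tt N12508 F71987) (tt N13021 D18908) (tt N12796 (iv F73238)) (tt N13022 D18909) (tt N12632 (iv F72587)))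
theorem Q12510 : ∀ i, i < 12510 → P i := stepQ 12509 Q12509 (allL N12509 (tt N13015 (iv F74031)) (tt N12377 F71988) (tt N11915 F71989) (tt N13021 (iv F74068)) (tt N12159 F71990) (tt N11914 (iv D18396)) (tt N13023 D18910) (tt N11940 F71991) (tt N12633 (iv F72592)))
theorem Q12511 : ∀ i, i < 12511 → P i := stepQ 12510 Q12510 (allL N12510 (tt N13016 (iv F74037)) (tt N11923 F71992) (tt N13023 (iv F74075)) (tt N13020 (iv F74062)) (tt N12160 F71993) (tt N12798 (iv F73251)) (tt N11915 (iv D18397)) (tt N11941 F71994) (tt N12634 (iv F72597)))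
theorem Q12512 : ∀ i, i < 12512 → P i := stepQ 12511 Q12511 (allL N12511 (tt N12440 F71995) (tt N11916 (iv D18398)) (tt N12238 F71996) (tt N12511 F71997) (tt N13024 D18911) (tt N12404 F71998) (tt N12036 F71999) (tt N11920 F72000) (tt N12013 F72001))
theorem Q12513 : ∀ i, i < 12513 → P i := stepQ 12512 Q12512 (allL N12512 (tt N12001 F72002) (tt N13024 (iv F74079)) (tt N11917 F72003) (tt N13025 D18912) (tt N11916 (iv D18399)) (tt N13026 D18913) (tt N12037 F72004) (tt N11921 F72005) (tt N12014 F72006))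
theorem Q12514 : ∀ i, i < 12514 → P i := stepQ 12513 Q12513 (allL N12513 (tt N12002 F72007) (tt N12421 F72008) (tt N13026 (iv F74091)) (tt N11948 F72009) (tt N12406 F72010) (tt N11917 (iv D18400)) (tt N13027 D18914) (tt N11922 F72011) (tt N12015 F72012))
theorem Q12515 : ∀ i, i < 12515 → P i := stepQ 12514 Q12514 (allL N12514 (tt N12337 F72013) (tt N11918 (iv D18401)) (tt N12395 F72014) (tt N11924 F72015) (tt N13028 D18915) (tt N11920 F72016) (tt N12424 F72017) (tt N12404 F72018) (tt N12063 F72019))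
theorem Q12516 : ∀ i, i < 12516 → P i := stepQ 12515 Q12515 (allL N12515 (tt N12004 F72020) (tt N13028 (iv F74103)) (tt N11919 F72021) (tt N13029 D18916) (tt N11918 (iv D18402)) (tt N13030 D18917) (tt N12485 F72022) (tt N12405 F72023) (tt N12064 F72024))
theorem Q12517 : ∀ i, i < 12517 → P i := stepQ 12516 Q12516 (allL N12516 (tt N12005 F72025) (tt N12397 F72026) (tt N13030 (iv F74114)) (tt N12165 F72027) (tt N11922 F72028) (tt N11919 (iv D18403)) (tt N13031 D18918) (tt N12406 F72029) (tt N12065 F72030))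
theorem Q12518 : ∀ i, i < 12518 → P i := stepQ 12517 Q12517 (allL N12517 (tt N11920 (iv D18404)) (tt N12006 F72031) (tt N12439 F72032) (tt N11926 F72033) (tt N13032 D18919) (tt N12337 F72034) (tt N12115 F72035) (tt N12440 F72036) (tt N12066 F72037))
theorem Q12519 : ∀ i, i < 12519 → P i := stepQ 12518 Q12518 (allL N12518 (tt N13032 (iv F74124)) (tt N11921 F72038) (tt N13017 (iv F74046)) (tt N12386 F72039) (tt N11920 (iv D18405)) (tt N13033 D18920) (tt N12116 F72040) (tt N13024 (iv F74082)) (tt N12067 F72041))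
theorem Q12520 : ∀ i, i < 12520 → P i := stepQ 12519 Q12519 (allL N12519 (tt N12008 F72042) (tt N13033 (iv F74131)) (tt N11922 F72043) (tt N12387 F72044) (tt N13030 (iv F74115)) (tt N11921 (iv D18406)) (tt N13034 D18921) (tt N13026 (iv F74093)) (tt N12068 F72045))
theorem Q12521 : ∀ i, i < 12521 → P i := stepQ 12520 Q12520 (allL N12520 (tt N12009 F72046) (tt N13020 (iv F74061)) (tt N13034 (iv F74135)) (tt N11923 F72047) (tt N13031 (iv F74121)) (tt N12119 F72048) (tt N11922 (iv D18407)) (tt N13027 (iv F74100)) (tt N12069 F72049))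
theorem Q12522 : ∀ i, i < 12522 → P i := stepQ 12521 Q12521 (allL N12521 (tt N12010 F72050) (tt N12830 (iv F73378)) (tt N12172 F72051) (tt N11925 (iv D18408)) (tt N13029 (iv F74110)) (tt N12391 F72052) (tt N12501 F72053) (tt N13035 D18922) (tt N12130 F72054))
theorem Q12523 : ∀ i, i < 12523 → P i := stepQ 12522 Q12522 (allL N12522 (tt N12011 F72055) (tt N12190 F72056) (tt N12019 F72057) (tt N12141 F72058) (tt N11934 F72059) (tt N12173 F72060) (tt N11927 (iv D18409)) (tt N12803 (iv F73269)) (tt N11957 F72061))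
theorem Q12524 : ∀ i, i < 12524 → P i := stepQ 12523 Q12523 (allL N12523 (tt N12249 F72062) (tt N12176 F72063) (tt N11929 F72064) (tt N12046 F72065) (tt N12189 F72066) (tt N11928 (iv D18410)) (tt N13036 D18923) (tt N12797 (iv F73245)) (tt N11959 F72067))
theorem Q12525 : ∀ i, i < 12525 → P i := stepQ 12524 Q12524 (allL N12524 (tt N12250 F72068) (tt N11934 F72069) (tt N13036 (iv F74148)) (tt N12201 F72070) (tt N12190 F72071) (tt N11941 F72072) (tt N11929 (iv D18411)) (tt N12798 (iv F73252)) (tt N11960 F72073))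
theorem Q12526 : ∀ i, i < 12526 → P i := stepQ 12525 Q12525 (allL N12525 (tt N12014 F72074) (tt N12308 F72075) (tt N11931 F72076) (tt N13037 D18924) (tt N11930 (iv D18412)) (tt N13038 D18925) (tt N11947 F72077) (tt N11932 F72078) (tt N12001 F72079))
theorem Q12527 : ∀ i, i < 12527 → P i := stepQ 12526 Q12526 (allL N12526 (tt N12015 F72080) (tt N12198 F72081) (tt N13038 (iv F74162)) (tt N12038 F72082) (tt N12192 F72083) (tt N11931 (iv D18413)) (tt N13039 D18926) (tt N11933 F72084) (tt N12002 F72085))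
theorem Q12528 : ∀ i, i < 12528 → P i := stepQ 12527 Q12527 (allL N12527 (tt N12017 F72086) (tt N12315 F72087) (tt N11933 F72088) (tt N12303 F72089) (tt N12193 F72090) (tt N11932 (iv D18414)) (tt N13040 D18927) (tt N13038 (iv F74164)) (tt N11961 F72091))
theorem Q12529 : ∀ i, i < 12529 → P i := stepQ 12528 Q12528 (allL N12528 (tt N12018 F72092) (tt N12201 F72093) (tt N13040 (iv F74175)) (tt N11934 F72094) (tt N12194 F72095) (tt N11953 F72096) (tt N11933 (iv D18415)) (tt N13039 (iv F74171)) (tt N11962 F72097))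
theorem Q12530 : ∀ i, i < 12530 → P i := stepQ 12529 Q12529 (allL N12529 (tt N11940 F72098) (tt N12189 F72099) (tt N11936 F72100) (tt N12220 F72101) (tt N12176 F72102) (tt N11935 (iv D18416)) (tt N13041 D18928) (tt N13015 (iv F74035)) (tt N11965 F72103))
theorem Q12531 : ∀ i, i < 12531 → P i := stepQ 12530 Q12530 (allL N12530 (tt N11941 F72104) (tt N12019 F72105) (tt N13041 (iv F74182)) (tt N12331 F72106) (tt N12177 F72107) (tt N12250 F72108) (tt N11936 (iv D18417)) (tt N13016 (iv F74042)) (tt N11966 F72109))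
theorem Q12532 : ∀ i, i < 12532 → P i := stepQ 12531 Q12531 (allL N12531 (tt N12327 F72110) (tt N11948 F72111) (tt N12320 F72112) (tt N12421 F72113) (tt N12227 F72114) (tt N11937 (iv D18418)) (tt N13042 D18929) (tt N11938 F72115) (tt N12419 F72116))
theorem Q12533 : ∀ i, i < 12533 → P i := stepQ 12532 Q12532 (allL N12532 (tt N12331 F72117) (tt N11953 F72118) (tt N12324 F72119) (tt N11941 F72120) (tt N12236 F72121) (tt N12201 F72122) (tt N11938 (iv D18419)) (tt N13042 (iv F74193)) (tt N11970 F72123))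
theorem Q12534 : ∀ i, i < 12534 → P i := stepQ 12533 Q12533 (allL N12533 (tt N12220 F72124) (tt N12392 F72125) (tt N12044 F72126) (tt N11940 F72127) (tt N12206 F72128) (tt N11939 (iv D18420)) (tt N13043 D18930) (tt N13044 D18931) (tt N11971 F72129))
theorem Q12535 : ∀ i, i < 12535 → P i := stepQ 12534 Q12534 (allL N12534 (tt N12213 F72130) (tt N12393 F72131) (tt N12030 F72132) (tt N13022 (iv F74071)) (tt N11989 F72133) (tt N13044 (iv F74206)) (tt N12034 F72134) (tt N11939 (iv D18421)) (tt N12607 (iv F72491)))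
theorem Q12536 : ∀ i, i < 12536 → P i := stepQ 12535 Q12535 (allL N12535 (tt N13041 (iv F74180)) (tt N12394 F72135) (tt N11941 F72136) (tt N13043 (iv F74198)) (tt N12180 F72137) (tt N13036 (iv F74151)) (tt N11940 (iv D18422)) (tt N13023 (iv F74077)) (tt N11973 F72138))
theorem Q12537 : ∀ i, i < 12537 → P i := stepQ 12536 Q12536 (allL N12536 (tt N12034 F72139) (tt N12080 F72140) (tt N11943 F72141) (tt N13045 D18932) (tt N11942 (iv D18423)) (tt N13046 D18933) (tt N12213 F72142) (tt N11949 F72143) (tt N12770 (iv F73136)))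
theorem Q12538 : ∀ i, i < 12538 → P i := stepQ 12537 Q12537 (allL N12537 (tt N12035 F72144) (tt N12227 F72145) (tt N13046 (iv F74214)) (tt N12773 (iv F73151)) (tt N11948 F72146) (tt N11943 (iv D18424)) (tt N13047 D18934) (tt N11950 F72147) (tt N12771 (iv F73142)))
theorem Q12539 : ∀ i, i < 12539 → P i := stepQ 12538 Q12538 (allL N12538 (tt N12037 F72148) (tt N12663 (iv F72727)) (tt N11945 F72149) (tt N13048 D18935) (tt N11944 (iv D18425)) (tt N13049 D18936) (tt N12001 F72150) (tt N11977 F72151) (tt N11947 F72152))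
theorem Q12540 : ∀ i, i < 12540 → P i := stepQ 12539 Q12539 (allL N12539 (tt N12038 F72153) (tt N12419 F72154) (tt N13049 (iv F74229)) (tt N12015 F72155) (tt N12771 (iv F73140)) (tt N11945 (iv D18426)) (tt N13050 D18937) (tt N11978 F72156) (tt N11948 F72157))
theorem Q12541 : ∀ i, i < 12541 → P i := stepQ 12540 Q12540 (allL N12540 (tt N12091 F72158) (tt N11947 F72159) (tt N12077 F72160) (tt N13051 D18938) (tt N11946 (iv D18427)) (tt N13052 D18939) (tt N12308 F72161) (tt N11951 F72162) (tt N12663 (iv F72731)))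
theorem Q12542 : ∀ i, i < 12542 → P i := stepQ 12541 Q12541 (allL N12541 (tt N12041 F72163) (tt N13051 (iv F74239)) (tt N13025 (iv F74085)) (tt N11947 (iv D18428)) (tt N12541 F72164) (tt N13053 D18940) (tt N13037 (iv F74157)) (tt N12399 F72165) (tt N13048 (iv F74227)))
theorem Q12543 : ∀ i, i < 12543 → P i := stepQ 12542 Q12542 (allL N12542 (tt N12042 F72166) (tt N13052 (iv F74244)) (tt N11948 F72167) (tt N13053 (iv F74249)) (tt N13046 (iv F74215)) (tt N11947 (iv D18429)) (tt N13054 D18941) (tt N11952 F72168) (tt N13049 (iv F74231)))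
theorem Q12544 : ∀ i, i < 12544 → P i := stepQ 12543 Q12543 (allL N12543 (tt N12043 F72169) (tt N13042 (iv F74188)) (tt N13054 (iv F74252)) (tt N13027 (iv F74097)) (tt N13047 (iv F74219)) (tt N13039 (iv F74170)) (tt N11948 (iv D18430)) (tt N11953 F72170) (tt N13050 (iv F74237)))
theorem Q12545 : ∀ i, i < 12545 → P i := stepQ 12544 Q12544 (allL N12544 (tt N12046 F72171) (tt N12083 F72172) (tt N11950 F72173) (tt N12249 F72174) (tt N11952 F72175) (tt N11949 (iv D18431)) (tt N13055 D18942) (tt N13046 (iv F74216)) (tt N11984 F72176))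
theorem Q12546 : ∀ i, i < 12546 → P i := stepQ 12545 Q12545 (allL N12545 (tt N12047 F72177) (tt N12236 F72178) (tt N13055 (iv F74256)) (tt N12186 F72179) (tt N11953 F72180) (tt N12221 F72181) (tt N11950 (iv D18432)) (tt N13047 (iv F74221)) (tt N11985 F72182))
theorem Q12547 : ∀ i, i < 12547 → P i := stepQ 12546 Q12546 (allL N12546 (tt N12103 F72183) (tt N11952 F72184) (tt N12082 F72185) (tt N12402 F72186) (tt N12083 F72187) (tt N11951 (iv D18433)) (tt N13056 D18943) (tt N13052 (iv F74247)) (tt N11987 F72188))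
theorem Q12548 : ∀ i, i < 12548 → P i := stepQ 12547 Q12547 (allL N12547 (tt N12050 F72189) (tt N13056 (iv F74262)) (tt N11953 F72190) (tt N12403 F72191) (tt N13055 (iv F74258)) (tt N13040 (iv F74178)) (tt N11952 (iv D18434)) (tt N13054 (iv F74253)) (tt N11988 F72192))
theorem Q12549 : ∀ i, i < 12549 → P i := stepQ 12548 Q12548 (allL N12548 (tt N12139 F72193) (tt N11957 F72194) (tt N12498 F72195) (tt N12173 F72196) (tt N11960 F72197) (tt N12141 F72198) (tt N11954 (iv D18435)) (tt N12551 (iv F72217)) (tt N12190 F72199))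
theorem Q12550 : ∀ i, i < 12550 → P i := stepQ 12549 Q12549 (allL N12549 (tt N12053 F72200) (tt N12249 F72201) (tt N11956 F72202) (tt N12083 F72203) (tt N12174 F72204) (tt N11955 (iv D18436)) (tt N13057 D18944) (tt N12983 (iv F73918)) (tt N12140 F72205))
theorem Q12551 : ∀ i, i < 12551 → P i := stepQ 12550 Q12550 (allL N12550 (tt N12054 F72206) (tt N12173 F72207) (tt N13057 (iv F74270)) (tt N11957 F72208) (tt N12175 F72209) (tt N12190 F72210) (tt N11956 (iv D18437)) (tt N12984 (iv F73924)) (tt N12141 F72211))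
theorem Q12552 : ∀ i, i < 12552 → P i := stepQ 12551 Q12551 (allL N12551 (tt N11960 F72212) (tt N12055 F72213) (tt N13012 (iv F74014)) (tt N12237 F72214) (tt N12139 F72215) (tt N11966 F72216) (tt N11958 (iv D18438)) (tt N12548 F72217) (tt N12250 F72218))
theorem Q12553 : ∀ i, i < 12553 → P i := stepQ 12552 Q12552 (allL N12552 (tt N13012 (iv F74012)) (tt N12208 F72219) (tt N11960 F72220) (tt N12127 F72221) (tt N12498 F72222) (tt N11973 F72223) (tt N11959 (iv D18439)) (tt N12712 (iv F72901)) (tt N13036 (iv F74152)))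
theorem Q12554 : ∀ i, i < 12554 → P i := stepQ 12553 Q12553 (allL N12553 (tt N12076 F72224) (tt N12361 F72225) (tt N11962 F72226) (tt N12346 F72227) (tt N12362 F72228) (tt N11988 F72229) (tt N11961 (iv D18440)) (tt N12792 (iv F73222)) (tt N13040 (iv F74179)))
theorem Q12555 : ∀ i, i < 12555 → P i := stepQ 12554 Q12554 (allL N12554 (tt N11968 F72230) (tt N12081 F72231) (tt N12227 F72232) (tt N12253 F72233) (tt N12320 F72234) (tt N11963 (iv D18441)) (tt N13058 D18945) (tt N11964 F72235) (tt N12252 F72236))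
theorem Q12556 : ∀ i, i < 12556 → P i := stepQ 12555 Q12555 (allL N12555 (tt N11970 F72237) (tt N12084 F72238) (tt N12236 F72239) (tt N11966 F72240) (tt N12324 F72241) (tt N12237 F72242) (tt N11964 (iv D18442)) (tt N13058 (iv F74281)) (tt N12331 F72243))
theorem Q12557 : ∀ i, i < 12557 → P i := stepQ 12556 Q12556 (allL N12556 (tt N11973 F72244) (tt N12498 F72245) (tt N11966 F72246) (tt N12497 F72247) (tt N12208 F72248) (tt N13012 (iv F74017)) (tt N11965 (iv D18443)) (tt N12713 (iv F72908)) (tt N13041 (iv F74186)))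
theorem Q12558 : ∀ i, i < 12558 → P i := stepQ 12557 Q12557 (allL N12557 (tt N12320 F72249) (tt N11976 F72250) (tt N12327 F72251) (tt N12563 (iv F72284)) (tt N11968 F72252) (tt N11967 (iv D18444)) (tt N13059 D18946) (tt N11969 F72253) (tt N12474 F72254))
theorem Q12559 : ∀ i, i < 12559 → P i := stepQ 12558 Q12558 (allL N12558 (tt N13058 (iv F74275)) (tt N11982 F72255) (tt N12365 F72256) (tt N12574 (iv F72335)) (tt N13059 (iv F74286)) (tt N12367 F72257) (tt N11968 (iv D18445)) (tt N11970 F72258) (tt N12895 (iv F73625)))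
theorem Q12560 : ∀ i, i < 12560 → P i := stepQ 12559 Q12559 (allL N12559 (tt N12324 F72259) (tt N11985 F72260) (tt N12331 F72261) (tt N12221 F72262) (tt N11970 F72263) (tt N12186 F72264) (tt N11969 (iv D18446)) (tt N13059 (iv F74288)) (tt N12236 F72265))
theorem Q12561 : ∀ i, i < 12561 → P i := stepQ 12560 Q12560 (allL N12560 (tt N12497 F72266) (tt N12416 F72267) (tt N12125 F72268) (tt N11973 F72269) (tt N12500 F72270) (tt N12127 F72271) (tt N11971 (iv D18447)) (tt N13060 D18947) (tt N13043 (iv F74201)))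
theorem Q12562 : ∀ i, i < 12562 → P i := stepQ 12561 Q12561 (allL N12561 (tt N12482 F72272) (tt N12417 F72273) (tt N12108 F72274) (tt N12603 (iv F72471)) (tt N12492 F72275) (tt N11972 F72276) (tt N13060 (iv F74295)) (tt N11971 (iv D18448)) (tt N12865 (iv F73493)))
theorem Q12563 : ∀ i, i < 12563 → P i := stepQ 12562 Q12562 (allL N12562 (tt N12108 F72277) (tt N12183 F72278) (tt N12482 F72279) (tt N12748 (iv F73038)) (tt N12178 F72280) (tt N11974 (iv D18449)) (tt N13061 D18948) (tt N11983 F72281) (tt N12747 (iv F73034)))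
theorem Q12564 : ∀ i, i < 12564 → P i := stepQ 12563 Q12563 (allL N12563 (tt N12111 F72282) (tt N12474 F72283) (tt N12998 (iv F73963)) (tt N12557 F72284) (tt N11978 F72285) (tt N11975 (iv D18450)) (tt N13062 D18949) (tt N12771 (iv F73141)) (tt N11976 F72286))
theorem Q12565 : ∀ i, i < 12565 → P i := stepQ 12564 Q12564 (allL N12564 (tt N12114 F72287) (tt N13059 (iv F74284)) (tt N13001 (iv F73976)) (tt N12995 (iv F73949)) (tt N11982 F72288) (tt N13061 (iv F74300)) (tt N11976 (iv D18451)) (tt N11985 F72289) (tt N13062 (iv F74306)))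
theorem Q12566 : ∀ i, i < 12566 → P i := stepQ 12565 Q12565 (allL N12565 (tt N12118 F72290) (tt N12885 (iv F73576)) (tt N11978 F72291) (tt N12272 F72292) (tt N12998 (iv F73965)) (tt N11977 (iv D18452)) (tt N13063 D18950) (tt N13049 (iv F74230)) (tt N11981 F72293))
theorem Q12567 : ∀ i, i < 12567 → P i := stepQ 12566 Q12566 (allL N12566 (tt N12119 F72294) (tt N12895 (iv F73621)) (tt N13063 (iv F74308)) (tt N11992 F72295) (tt N13062 (iv F74305)) (tt N12009 F72296) (tt N11978 (iv D18453)) (tt N13050 (iv F74236)) (tt N11982 F72297))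
theorem Q12568 : ∀ i, i < 12568 → P i := stepQ 12567 Q12567 (allL N12567 (tt N11980 F72298) (tt N12120 F72299) (tt N12020 F72300) (tt N12804 (iv F73274)) (tt N11979 (iv D18454)) (tt N13064 D18951) (tt N12335 F72301) (tt N11986 F72302) (tt N12873 (iv F73529)))
theorem Q12569 : ∀ i, i < 12569 → P i := stepQ 12568 Q12568 (allL N12568 (tt N13064 (iv F74312)) (tt N11981 F72303) (tt N12349 F72304) (tt N12805 (iv F73278)) (tt N12476 F72305) (tt N11980 (iv D18455)) (tt N13065 D18952) (tt N11987 F72306) (tt N12885 (iv F73580)))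
theorem Q12570 : ∀ i, i < 12570 → P i := stepQ 12569 Q12569 (allL N12569 (tt N12124 F72307) (tt N13065 (iv F74317)) (tt N11982 F72308) (tt N12806 (iv F73282)) (tt N13001 (iv F73978)) (tt N12792 (iv F73221)) (tt N11981 (iv D18456)) (tt N11988 F72309) (tt N13063 (iv F74311)))
theorem Q12571 : ∀ i, i < 12571 → P i := stepQ 12570 Q12570 (allL N12570 (tt N12125 F72310) (tt N12186 F72311) (tt N12497 F72312) (tt N12236 F72313) (tt N12179 F72314) (tt N11985 F72315) (tt N11983 (iv D18457)) (tt N13061 (iv F74301)) (tt N12221 F72316))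
theorem Q12572 : ∀ i, i < 12572 → P i := stepQ 12571 Q12571 (allL N12571 (tt N12127 F72317) (tt N12496 F72318) (tt N11985 F72319) (tt N13012 (iv F74015)) (tt N11988 F72320) (tt N12497 F72321) (tt N11984 (iv D18458)) (tt N13001 (iv F73980)) (tt N13055 (iv F74260)))
theorem Q12573 : ∀ i, i < 12573 → P i := stepQ 12572 Q12572 (allL N12572 (tt N11987 F72322) (tt N12128 F72323) (tt N12025 F72324) (tt N12415 F72325) (tt N12026 F72326) (tt N11986 (iv D18459)) (tt N13066 D18953) (tt N13064 (iv F74316)) (tt N12103 F72327))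
theorem Q12574 : ∀ i, i < 12574 → P i := stepQ 12573 Q12573 (allL N12573 (tt N13066 (iv F74322)) (tt N11988 F72328) (tt N12360 F72329) (tt N12435 F72330) (tt N12496 F72331) (tt N12361 F72332) (tt N11987 (iv D18460)) (tt N13065 (iv F74321)) (tt N13056 (iv F74267)))
theorem Q12575 : ∀ i, i < 12575 → P i := stepQ 12574 Q12574 (allL N12574 (tt N12803 (iv F73264)) (tt N12143 F72333) (tt N11997 F72334) (tt N12558 F72335) (tt N11992 F72336) (tt N12239 F72337) (tt N11990 (iv D18461)) (tt N12011 F72338) (tt N12575 (iv F72345)))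
theorem Q12576 : ∀ i, i < 12576 → P i := stepQ 12575 Q12575 (allL N12575 (tt N12254 F72339) (tt N11992 F72340) (tt N12239 F72341) (tt N12895 (iv F73623)) (tt N12143 F72342) (tt N11997 F72343) (tt N11991 (iv D18462)) (tt N12012 F72344) (tt N12574 F72345))
theorem Q12577 : ∀ i, i < 12577 → P i := stepQ 12576 Q12576 (allL N12576 (tt N11996 F72346) (tt N12464 F72347) (tt N12228 F72348) (tt N11994 F72349) (tt N12232 F72350) (tt N11993 (iv D18463)) (tt N13067 D18954) (tt N12328 F72351) (tt N12229 F72352))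
theorem Q12578 : ∀ i, i < 12578 → P i := stepQ 12577 Q12577 (allL N12577 (tt N11997 F72353) (tt N13016 (iv F74038)) (tt N12803 (iv F73266)) (tt N13067 (iv F74332)) (tt N12262 F72354) (tt N12254 F72355) (tt N11994 (iv D18464)) (tt N12019 F72356) (tt N12714 (iv F72913)))
theorem Q12579 : ∀ i, i < 12579 → P i := stepQ 12578 Q12578 (allL N12578 (tt N12328 F72357) (tt N12002 F72358) (tt N12321 F72359) (tt N12024 F72360) (tt N12199 F72361) (tt N11995 (iv D18465)) (tt N13068 D18955) (tt N11996 F72362) (tt N12198 F72363))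
theorem Q12580 : ∀ i, i < 12580 → P i := stepQ 12579 Q12579 (allL N12579 (tt N13067 (iv F74329)) (tt N12009 F72364) (tt N12366 F72365) (tt N11997 F72366) (tt N12368 F72367) (tt N12895 (iv F73624)) (tt N11996 (iv D18466)) (tt N13068 (iv F74343)) (tt N12367 F72368))
theorem Q12581 : ∀ i, i < 12581 → P i := stepQ 12580 Q12580 (allL N12580 (tt N12405 F72369) (tt N12310 F72370) (tt N11999 F72371) (tt N13069 D18956) (tt N11998 (iv D18467)) (tt N13070 D18957) (tt N12215 F72372) (tt N12004 F72373) (tt N12191 F72374))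
theorem Q12582 : ∀ i, i < 12582 → P i := stepQ 12581 Q12581 (allL N12581 (tt N12406 F72375) (tt N12199 F72376) (tt N13070 (iv F74352)) (tt N12765 (iv F73113)) (tt N12002 F72377) (tt N11999 (iv D18468)) (tt N13071 D18958) (tt N12005 F72378) (tt N12192 F72379))
theorem Q12583 : ∀ i, i < 12583 → P i := stepQ 12582 Q12582 (allL N12582 (tt N12853 (iv F73453)) (tt N12001 F72380) (tt N12307 F72381) (tt N13072 D18959) (tt N12000 (iv D18469)) (tt N13073 D18960) (tt N12663 (iv F72729)) (tt N12007 F72382) (tt N12308 F72383))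
theorem Q12584 : ∀ i, i < 12584 → P i := stepQ 12583 Q12583 (allL N12583 (tt N13025 (iv F74084)) (tt N13072 (iv F74362)) (tt N12041 F72384) (tt N12001 (iv D18470)) (tt N12583 F72385) (tt N13074 D18961) (tt N13048 (iv F74225)) (tt N12448 F72386) (tt N13037 (iv F74159)))
theorem Q12585 : ∀ i, i < 12585 → P i := stepQ 12584 Q12584 (allL N12584 (tt N13026 (iv F74090)) (tt N13073 (iv F74366)) (tt N12002 F72387) (tt N13074 (iv F74372)) (tt N13070 (iv F74353)) (tt N12001 (iv D18471)) (tt N13075 D18962) (tt N12008 F72388) (tt N13038 (iv F74165)))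
theorem Q12586 : ∀ i, i < 12586 → P i := stepQ 12585 Q12585 (allL N12585 (tt N13027 (iv F74095)) (tt N13068 (iv F74338)) (tt N13075 (iv F74374)) (tt N12043 F72389) (tt N13071 (iv F74358)) (tt N13050 (iv F74235)) (tt N12002 (iv D18472)) (tt N12009 F72390) (tt N13039 (iv F74172)))
theorem Q12587 : ∀ i, i < 12587 → P i := stepQ 12586 Q12586 (allL N12586 (tt N12822 (iv F73344)) (tt N12184 F72391) (tt N12487 F72392) (tt N12288 F72393) (tt N12747 (iv F73033)) (tt N12003 (iv D18473)) (tt N13076 D18963) (tt N12216 F72394) (tt N12178 F72395))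
theorem Q12588 : ∀ i, i < 12588 → P i := stepQ 12587 Q12587 (allL N12587 (tt N13029 (iv F74108)) (tt N12353 F72396) (tt N12291 F72397) (tt N12004 (iv D18474)) (tt N12010 F72398) (tt N13077 D18964) (tt N12486 F72399) (tt N13078 D18965) (tt N12356 F72400))
theorem Q12589 : ∀ i, i < 12589 → P i := stepQ 12588 Q12588 (allL N12588 (tt N13030 (iv F74113)) (tt N12354 F72401) (tt N12005 F72402) (tt N13077 (iv F74384)) (tt N12008 F72403) (tt N12004 (iv D18475)) (tt N13079 D18966) (tt N13070 (iv F74354)) (tt N12357 F72404))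
theorem Q12590 : ∀ i, i < 12590 → P i := stepQ 12589 Q12589 (allL N12589 (tt N13031 (iv F74118)) (tt N12368 F72405) (tt N13079 (iv F74393)) (tt N12293 F72406) (tt N12009 F72407) (tt N13076 (iv F74379)) (tt N12005 (iv D18476)) (tt N13071 (iv F74360)) (tt N12369 F72408))
theorem Q12591 : ∀ i, i < 12591 → P i := stepQ 12590 Q12590 (allL N12590 (tt N12007 F72409) (tt N13032 (iv F74125)) (tt N12334 F72410) (tt N12458 F72411) (tt N12006 (iv D18477)) (tt N13080 D18967) (tt N12873 (iv F73527)) (tt N12853 (iv F73456)) (tt N12335 F72412))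
theorem Q12592 : ∀ i, i < 12592 → P i := stepQ 12591 Q12591 (allL N12591 (tt N13080 (iv F74397)) (tt N12008 F72413) (tt N12350 F72414) (tt N12459 F72415) (tt N12354 F72416) (tt N12007 (iv D18478)) (tt N13081 D18968) (tt N13073 (iv F74369)) (tt N12351 F72417))
theorem Q12593 : ∀ i, i < 12593 → P i := stepQ 12592 Q12592 (allL N12592 (tt N13034 (iv F74134)) (tt N13081 (iv F74402)) (tt N12009 F72418) (tt N12460 F72419) (tt N13079 (iv F74394)) (tt N13063 (iv F74310)) (tt N12008 (iv D18479)) (tt N13075 (iv F74375)) (tt N12792 (iv F73223)))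
theorem Q12594 : ∀ i, i < 12594 → P i := stepQ 12593 Q12593 (allL N12593 (tt N13035 (iv F74139)) (tt N12153 F72420) (tt N12163 F72421) (tt N12593 F72422) (tt N13078 (iv F74389)) (tt N12155 F72423) (tt N12502 F72424) (tt N12010 (iv D18480)) (tt N12379 F72425))
theorem Q12595 : ∀ i, i < 12595 → P i := stepQ 12594 Q12594 (allL N12594 (tt N12413 F72426) (tt N12014 F72427) (tt N12196 F72428) (tt N13082 D18969) (tt N12013 (iv D18481)) (tt N13083 D18970) (tt N12040 F72429) (tt N12016 F72430) (tt N13024 (iv F74083)))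
theorem Q12596 : ∀ i, i < 12596 → P i := stepQ 12595 Q12595 (allL N12595 (tt N13037 (iv F74153)) (tt N13082 (iv F74408)) (tt N13048 (iv F74223)) (tt N12014 (iv D18482)) (tt N12595 F72431) (tt N13084 D18971) (tt N12041 F72432) (tt N12312 F72433) (tt N13025 (iv F74089)))
theorem Q12597 : ∀ i, i < 12597 → P i := stepQ 12596 Q12596 (allL N12596 (tt N13038 (iv F74160)) (tt N13083 (iv F74413)) (tt N12015 F72434) (tt N13084 (iv F74417)) (tt N12409 F72435) (tt N12014 (iv D18483)) (tt N13085 D18972) (tt N12017 F72436) (tt N13026 (iv F74094)))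
theorem Q12598 : ∀ i, i < 12598 → P i := stepQ 12597 Q12597 (allL N12597 (tt N13039 (iv F74166)) (tt N12423 F72437) (tt N13085 (iv F74419)) (tt N13050 (iv F74234)) (tt N12410 F72438) (tt N12043 F72439) (tt N12015 (iv D18484)) (tt N12018 F72440) (tt N13027 (iv F74101)))
theorem Q12599 : ∀ i, i < 12599 → P i := stepQ 12598 Q12598 (allL N12598 (tt N12412 F72441) (tt N12017 F72442) (tt N12195 F72443) (tt N12193 F72444) (tt N12411 F72445) (tt N12016 (iv D18485)) (tt N13086 D18973) (tt N13083 (iv F74416)) (tt N12075 F72446))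
theorem Q12600 : ∀ i, i < 12600 → P i := stepQ 12599 Q12599 (allL N12599 (tt N13040 (iv F74173)) (tt N13086 (iv F74424)) (tt N12018 F72447) (tt N12317 F72448) (tt N12414 F72449) (tt N12050 F72450) (tt N12017 (iv D18486)) (tt N13085 (iv F74422)) (tt N12076 F72451))
theorem Q12601 : ∀ i, i < 12601 → P i := stepQ 12600 Q12600 (allL N12600 (tt N12349 F72452) (tt N12035 F72453) (tt N13064 (iv F74314)) (tt N12875 (iv F73538)) (tt N12024 F72454) (tt N12020 (iv D18487)) (tt N13087 D18974) (tt N12025 F72455) (tt N12874 (iv F73535)))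
theorem Q12602 : ∀ i, i < 12602 → P i := stepQ 12601 Q12601 (allL N12601 (tt N12325 F72456) (tt N12225 F72457) (tt N12022 F72458) (tt N12318 F72459) (tt N12021 (iv D18488)) (tt N13088 D18975) (tt N12420 F72460) (tt N12094 F72461) (tt N12023 F72462))
theorem Q12603 : ∀ i, i < 12603 → P i := stepQ 12602 Q12602 (allL N12602 (tt N12326 F72463) (tt N12038 F72464) (tt N13088 (iv F74437)) (tt N12198 F72465) (tt N12874 (iv F73533)) (tt N12022 (iv D18489)) (tt N13089 D18976) (tt N12095 F72466) (tt N12024 F72467))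
theorem Q12604 : ∀ i, i < 12604 → P i := stepQ 12603 Q12603 (allL N12603 (tt N12476 F72468) (tt N12224 F72469) (tt N12024 F72470) (tt N12561 F72471) (tt N13064 (iv F74315)) (tt N12023 (iv D18490)) (tt N13090 D18977) (tt N12026 F72472) (tt N13088 (iv F74440)))
theorem Q12605 : ∀ i, i < 12605 → P i := stepQ 12604 Q12604 (allL N12604 (tt N12477 F72473) (tt N12043 F72474) (tt N13090 (iv F74449)) (tt N13068 (iv F74340)) (tt N13087 (iv F74432)) (tt N12423 F72475) (tt N12024 (iv D18491)) (tt N12027 F72476) (tt N13089 (iv F74446)))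
theorem Q12606 : ∀ i, i < 12606 → P i := stepQ 12605 Q12605 (allL N12605 (tt N12360 F72477) (tt N12047 F72478) (tt N13066 (iv F74324)) (tt N12316 F72479) (tt N12027 F72480) (tt N12344 F72481) (tt N12025 (iv D18492)) (tt N13087 (iv F74434)) (tt N12104 F72482))
theorem Q12607 : ∀ i, i < 12607 → P i := stepQ 12606 Q12606 (allL N12606 (tt N12496 F72483) (tt N12223 F72484) (tt N12027 F72485) (tt N12142 F72486) (tt N13066 (iv F74326)) (tt N12434 F72487) (tt N12026 (iv D18493)) (tt N13090 (iv F74452)) (tt N12106 F72488))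
theorem Q12608 : ∀ i, i < 12608 → P i := stepQ 12607 Q12607 (allL N12607 (tt N12772 (iv F73143)) (tt N12920 (iv F73706)) (tt N12029 F72489) (tt N13091 D18978) (tt N12028 (iv D18494)) (tt N13092 D18979) (tt N12611 (iv F72507)) (tt N12318 F72490) (tt N12534 F72491))
theorem Q12609 : ∀ i, i < 12609 → P i := stepQ 12608 Q12608 (allL N12608 (tt N12773 (iv F73149)) (tt N12875 (iv F73537)) (tt N13092 (iv F74457)) (tt N12035 F72492) (tt N12765 (iv F73114)) (tt N12029 (iv D18495)) (tt N13093 D18980) (tt N12319 F72493) (tt N12609 (iv F72498)))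
theorem Q12610 : ∀ i, i < 12610 → P i := stepQ 12609 Q12609 (allL N12609 (tt N12214 F72494) (tt N12336 F72495) (tt N13044 (iv F74204)) (tt N12612 (iv F72510)) (tt N12205 F72496) (tt N12030 (iv D18496)) (tt N13094 D18981) (tt N12044 F72497) (tt N12608 F72498))
theorem Q12611 : ∀ i, i < 12611 → P i := stepQ 12610 Q12610 (allL N12610 (tt N12093 F72499) (tt N12031 (iv D18497)) (tt N12115 F72500) (tt N12610 F72501) (tt N13095 D18982) (tt N12036 F72502) (tt N12439 F72503) (tt N12109 F72504) (tt N12033 F72505))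
theorem Q12612 : ∀ i, i < 12612 → P i := stepQ 12611 Q12611 (allL N12611 (tt N12770 (iv F73132)) (tt N13095 (iv F74469)) (tt N12032 F72506) (tt N13096 D18983) (tt N12031 (iv D18498)) (tt N13097 D18984) (tt N12607 F72507) (tt N12110 F72508) (tt N12034 F72509))
theorem Q12613 : ∀ i, i < 12613 → P i := stepQ 12612 Q12612 (allL N12612 (tt N12771 (iv F73137)) (tt N12874 (iv F73531)) (tt N13097 (iv F74479)) (tt N12609 F72510) (tt N12038 F72511) (tt N12032 (iv D18499)) (tt N13098 D18985) (tt N12111 F72512) (tt N12035 F72513))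
theorem Q12614 : ∀ i, i < 12614 → P i := stepQ 12613 Q12613 (allL N12613 (tt N12096 F72514) (tt N12034 F72515) (tt N12120 F72516) (tt N13099 D18986) (tt N12033 (iv D18500)) (tt N13100 D18987) (tt N12393 F72517) (tt N12045 F72518) (tt N13095 (iv F74473)))
theorem Q12615 : ∀ i, i < 12615 → P i := stepQ 12614 Q12614 (allL N12614 (tt N13045 (iv F74207)) (tt N13099 (iv F74489)) (tt N13091 (iv F74453)) (tt N12034 (iv D18501)) (tt N12614 F72519) (tt N13101 D18988) (tt N13022 (iv F74073)) (tt N12796 (iv F73239)) (tt N13096 (iv F74478)))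
theorem Q12616 : ∀ i, i < 12616 → P i := stepQ 12615 Q12615 (allL N12615 (tt N13046 (iv F74212)) (tt N13100 (iv F74494)) (tt N12035 F72520) (tt N13101 (iv F74498)) (tt N12042 F72521) (tt N12034 (iv D18502)) (tt N13102 D18989) (tt N12046 F72522) (tt N13097 (iv F74482)))
theorem Q12617 : ∀ i, i < 12617 → P i := stepQ 12616 Q12616 (allL N12616 (tt N13047 (iv F74217)) (tt N13087 (iv F74431)) (tt N13102 (iv F74499)) (tt N13093 (iv F74460)) (tt N12043 F72523) (tt N13094 (iv F74465)) (tt N12035 (iv D18503)) (tt N12047 F72524) (tt N13098 (iv F74487)))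
theorem Q12618 : ∀ i, i < 12618 → P i := stepQ 12617 Q12617 (allL N12617 (tt N12036 (iv D18504)) (tt N12089 F72525) (tt N12109 F72526) (tt N12617 F72527) (tt N13103 D18990) (tt N12093 F72528) (tt N12440 F72529) (tt N12115 F72530) (tt N12039 F72531))
theorem Q12619 : ∀ i, i < 12619 → P i := stepQ 12618 Q12618 (allL N12618 (tt N13103 (iv F74502)) (tt N12037 F72532) (tt N12225 F72533) (tt N13104 D18991) (tt N12036 (iv D18505)) (tt N13105 D18992) (tt N13024 (iv F74081)) (tt N12116 F72534) (tt N12040 F72535))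
theorem Q12620 : ∀ i, i < 12620 → P i := stepQ 12619 Q12619 (allL N12619 (tt N13048 (iv F74222)) (tt N13104 (iv F74508)) (tt N13037 (iv F74155)) (tt N12037 (iv D18506)) (tt N12619 F72536) (tt N13106 D18993) (tt N13025 (iv F74087)) (tt N13107 D18994) (tt N12041 F72537))
theorem Q12621 : ∀ i, i < 12621 → P i := stepQ 12620 Q12620 (allL N12620 (tt N13049 (iv F74228)) (tt N13105 (iv F74511)) (tt N12038 F72538) (tt N13106 (iv F74515)) (tt N13097 (iv F74480)) (tt N12037 (iv D18507)) (tt N13108 D18995) (tt N12118 F72539) (tt N12042 F72540))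
theorem Q12622 : ∀ i, i < 12622 → P i := stepQ 12621 Q12621 (allL N12621 (tt N13050 (iv F74232)) (tt N13089 (iv F74442)) (tt N13108 (iv F74523)) (tt N13039 (iv F74168)) (tt N13098 (iv F74484)) (tt N13027 (iv F74099)) (tt N12038 (iv D18508)) (tt N12119 F72541) (tt N12043 F72542))
theorem Q12623 : ∀ i, i < 12623 → P i := stepQ 12622 Q12622 (allL N12622 (tt N12040 F72543) (tt N12091 F72544) (tt N12112 F72545) (tt N13109 D18996) (tt N12039 (iv D18509)) (tt N13110 D18997) (tt N12413 F72546) (tt N12048 F72547) (tt N13103 (iv F74507)))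
theorem Q12624 : ∀ i, i < 12624 → P i := stepQ 12623 Q12623 (allL N12623 (tt N13109 (iv F74526)) (tt N12041 F72548) (tt N12937 (iv F73751)) (tt N12040 (iv D18510)) (tt N12623 F72549) (tt N13111 D18998) (tt N13082 (iv F74410)) (tt N12217 F72550) (tt N13104 (iv F74510)))
theorem Q12625 : ∀ i, i < 12625 → P i := stepQ 12624 Q12624 (allL N12624 (tt N13110 (iv F74532)) (tt N12042 F72551) (tt N12224 F72552) (tt N13111 (iv F74538)) (tt N13100 (iv F74496)) (tt N12040 (iv D18511)) (tt N13112 D18999) (tt N12049 F72553) (tt N13105 (iv F74514)))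
theorem Q12626 : ∀ i, i < 12626 → P i := stepQ 12625 Q12625 (allL N12625 (tt N13053 (iv F74248)) (tt N13111 (iv F74537)) (tt N13074 (iv F74371)) (tt N12042 F72554) (tt N13113 D19000) (tt N12041 (iv D18512)) (tt N13114 D19001) (tt N12471 F72555) (tt N13106 (iv F74516)))
theorem Q12627 : ∀ i, i < 12627 → P i := stepQ 12626 Q12626 (allL N12626 (tt N13054 (iv F74251)) (tt N13112 (iv F74540)) (tt N12043 F72556) (tt N13114 (iv F74545)) (tt N13102 (iv F74500)) (tt N13085 (iv F74421)) (tt N12042 (iv D18513)) (tt N12050 F72557) (tt N13108 (iv F74525)))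
theorem Q12628 : ∀ i, i < 12628 → P i := stepQ 12627 Q12627 (allL N12627 (tt N12221 F72558) (tt N12344 F72559) (tt N13043 (iv F74197)) (tt N12324 F72560) (tt N12207 F72561) (tt N12047 F72562) (tt N12044 (iv D18514)) (tt N13094 (iv F74466)) (tt N12125 F72563))
theorem Q12629 : ∀ i, i < 12629 → P i := stepQ 12628 Q12628 (allL N12628 (tt N12105 F72564) (tt N12046 F72565) (tt N12128 F72566) (tt N12176 F72567) (tt N12049 F72568) (tt N12045 (iv D18515)) (tt N13115 D19002) (tt N13100 (iv F74497)) (tt N12126 F72569))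
theorem Q12630 : ∀ i, i < 12630 → P i := stepQ 12629 Q12629 (allL N12629 (tt N13055 (iv F74254)) (tt N13115 (iv F74548)) (tt N12047 F72570) (tt N13036 (iv F74149)) (tt N12050 F72571) (tt N13043 (iv F74200)) (tt N12046 (iv D18516)) (tt N13102 (iv F74501)) (tt N12127 F72572))
theorem Q12631 : ∀ i, i < 12631 → P i := stepQ 12630 Q12630 (allL N12630 (tt N12049 F72573) (tt N12103 F72574) (tt N12126 F72575) (tt N12206 F72576) (tt N12105 F72577) (tt N12048 (iv D18517)) (tt N13116 D19003) (tt N13110 (iv F74536)) (tt N12128 F72578))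
theorem Q12632 : ∀ i, i < 12632 → P i := stepQ 12631 Q12631 (allL N12631 (tt N13116 (iv F74554)) (tt N12050 F72579) (tt N12223 F72580) (tt N12222 F72581) (tt N13115 (iv F74551)) (tt N13086 (iv F74428)) (tt N12049 (iv D18518)) (tt N13112 (iv F74542)) (tt N12129 F72582))
theorem Q12633 : ∀ i, i < 12633 → P i := stepQ 12632 Q12632 (allL N12632 (tt N12982 (iv F73908)) (tt N12158 F72583) (tt N12637 (iv F72610)) (tt N12051 (iv D18519)) (tt N12632 F72584) (tt N13117 D19004) (tt N12246 F72585) (tt N12097 F72586) (tt N12508 F72587))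
theorem Q12634 : ∀ i, i < 12634 → P i := stepQ 12633 Q12633 (allL N12633 (tt N12983 (iv F73914)) (tt N12159 F72588) (tt N12052 F72589) (tt N13117 (iv F74562)) (tt N12377 F72590) (tt N12051 (iv D18520)) (tt N13118 D19005) (tt N12053 F72591) (tt N12509 F72592))
theorem Q12635 : ∀ i, i < 12635 → P i := stepQ 12634 Q12634 (allL N12634 (tt N12984 (iv F73919)) (tt N12137 F72593) (tt N13118 (iv F74566)) (tt N12639 (iv F72620)) (tt N12378 F72594) (tt N12248 F72595) (tt N12052 (iv D18521)) (tt N12054 F72596) (tt N12510 F72597))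
theorem Q12636 : ∀ i, i < 12636 → P i := stepQ 12635 Q12635 (allL N12635 (tt N13057 (iv F74268)) (tt N12180 F72598) (tt N12054 F72599) (tt N12106 F72600) (tt N12394 F72601) (tt N12251 F72602) (tt N12053 (iv D18522)) (tt N13118 (iv F74569)) (tt N12142 F72603))
theorem Q12637 : ∀ i, i < 12637 → P i := stepQ 12636 Q12636 (allL N12636 (tt N12393 F72604) (tt N12057 F72605) (tt N12067 F72606) (tt N13119 D19006) (tt N12056 (iv D18523)) (tt N13120 D19007) (tt N12096 F72607) (tt N12059 F72608) (tt N13017 (iv F74049)))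
theorem Q12638 : ∀ i, i < 12638 → P i := stepQ 12637 Q12637 (allL N12637 (tt N12465 F72609) (tt N13119 (iv F74572)) (tt N12632 F72610) (tt N12057 (iv D18524)) (tt N12637 F72611) (tt N13121 D19008) (tt N12097 F72612) (tt N12246 F72613) (tt N13018 (iv F74054)))
theorem Q12639 : ∀ i, i < 12639 → P i := stepQ 12638 Q12638 (allL N12638 (tt N12466 F72614) (tt N13120 (iv F74577)) (tt N12058 F72615) (tt N13121 (iv F74583)) (tt N12400 F72616) (tt N12057 (iv D18525)) (tt N13122 D19009) (tt N12060 F72617) (tt N13019 (iv F74059)))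
theorem Q12640 : ∀ i, i < 12640 → P i := stepQ 12639 Q12639 (allL N12639 (tt N12467 F72618) (tt N12069 F72619) (tt N13122 (iv F74586)) (tt N12634 F72620) (tt N12401 F72621) (tt N12099 F72622) (tt N12058 (iv D18526)) (tt N12061 F72623) (tt N13020 (iv F74066)))
theorem Q12641 : ∀ i, i < 12641 → P i := stepQ 12640 Q12640 (allL N12640 (tt N12392 F72624) (tt N12060 F72625) (tt N12075 F72626) (tt N12174 F72627) (tt N12402 F72628) (tt N12059 (iv D18527)) (tt N13123 D19010) (tt N13120 (iv F74580)) (tt N12195 F72629))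
theorem Q12642 : ∀ i, i < 12642 → P i := stepQ 12641 Q12641 (allL N12641 (tt N12473 F72630) (tt N13123 (iv F74591)) (tt N12061 F72631) (tt N12251 F72632) (tt N12403 F72633) (tt N12106 F72634) (tt N12060 (iv D18528)) (tt N13122 (iv F74589)) (tt N12434 F72635))
theorem Q12643 : ∀ i, i < 12643 → P i := stepQ 12642 Q12642 (allL N12642 (tt N12178 F72636) (tt N12301 F72637) (tt N12492 F72638) (tt N12825 (iv F73362)) (tt N12108 F72639) (tt N12062 (iv D18529)) (tt N13124 D19011) (tt N12070 F72640) (tt N12822 (iv F73348)))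
theorem Q12644 : ∀ i, i < 12644 → P i := stepQ 12643 Q12643 (allL N12643 (tt N12340 F72641) (tt N12064 F72642) (tt N12398 F72643) (tt N12834 (iv F73389)) (tt N12063 (iv D18530)) (tt N13125 D19012) (tt N12429 F72644) (tt N12071 F72645) (tt N13028 (iv F74107)))
theorem Q12645 : ∀ i, i < 12645 → P i := stepQ 12644 Q12644 (allL N12644 (tt N12356 F72646) (tt N12834 (iv F73388)) (tt N12911 (iv F73676)) (tt N12064 (iv D18531)) (tt N12130 F72647) (tt N13126 D19013) (tt N12491 F72648) (tt N12740 (iv F73006)) (tt N13029 (iv F74112)))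
theorem Q12646 : ∀ i, i < 12646 → P i := stepQ 12645 Q12645 (allL N12645 (tt N12357 F72649) (tt N13125 (iv F74604)) (tt N12065 F72650) (tt N13126 (iv F74609)) (tt N12068 F72651) (tt N12064 (iv D18532)) (tt N13127 D19014) (tt N12073 F72652) (tt N13030 (iv F74117)))
theorem Q12647 : ∀ i, i < 12647 → P i := stepQ 12646 Q12646 (allL N12646 (tt N12369 F72653) (tt N12401 F72654) (tt N13127 (iv F74611)) (tt N12913 (iv F73686)) (tt N12069 F72655) (tt N13124 (iv F74601)) (tt N12065 (iv D18533)) (tt N12074 F72656) (tt N13031 (iv F74123)))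
theorem Q12648 : ∀ i, i < 12648 → P i := stepQ 12647 Q12647 (allL N12647 (tt N12067 F72657) (tt N12335 F72658) (tt N12393 F72659) (tt N12740 (iv F73004)) (tt N12066 (iv D18534)) (tt N13128 D19015) (tt N12120 F72660) (tt N12072 F72661) (tt N13032 (iv F74130)))
theorem Q12649 : ∀ i, i < 12649 → P i := stepQ 12648 Q12648 (allL N12648 (tt N13128 (iv F74615)) (tt N12068 F72662) (tt N13120 (iv F74578)) (tt N12741 (iv F73008)) (tt N13125 (iv F74606)) (tt N12067 (iv D18535)) (tt N13129 D19016) (tt N12075 F72663) (tt N13033 (iv F74133)))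
theorem Q12650 : ∀ i, i < 12650 → P i := stepQ 12649 Q12649 (allL N12649 (tt N12792 (iv F73218)) (tt N13129 (iv F74620)) (tt N12069 F72664) (tt N12742 (iv F73011)) (tt N13127 (iv F74612)) (tt N12124 F72665) (tt N12068 (iv D18536)) (tt N12076 F72666) (tt N13034 (iv F74138)))
theorem Q12651 : ∀ i, i < 12651 → P i := stepQ 12650 Q12650 (allL N12650 (tt N12179 F72667) (tt N12304 F72668) (tt N12500 F72669) (tt N12177 F72670) (tt N12125 F72671) (tt N12074 F72672) (tt N12070 (iv D18537)) (tt N13124 (iv F74602)) (tt N12207 F72673))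
theorem Q12652 : ∀ i, i < 12652 → P i := stepQ 12651 Q12651 (allL N12651 (tt N12345 F72674) (tt N12073 F72675) (tt N12402 F72676) (tt N12343 F72677) (tt N12075 F72678) (tt N12071 (iv D18538)) (tt N13130 D19017) (tt N13125 (iv F74607)) (tt N12411 F72679))
theorem Q12653 : ∀ i, i < 12653 → P i := stepQ 12652 Q12652 (allL N12652 (tt N12075 F72680) (tt N12343 F72681) (tt N12392 F72682) (tt N12073 F72683) (tt N12345 F72684) (tt N12072 (iv D18539)) (tt N13131 D19018) (tt N13128 (iv F74619)) (tt N12412 F72685))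
theorem Q12654 : ∀ i, i < 12654 → P i := stepQ 12653 Q12653 (allL N12653 (tt N12362 F72686) (tt N13130 (iv F74624)) (tt N12074 F72687) (tt N13131 (iv F74633)) (tt N12076 F72688) (tt N12500 F72689) (tt N12073 (iv D18540)) (tt N13127 (iv F74614)) (tt N12414 F72690))
theorem Q12655 : ∀ i, i < 12655 → P i := stepQ 12654 Q12654 (allL N12654 (tt N13131 (iv F74630)) (tt N12076 F72691) (tt N13123 (iv F74592)) (tt N12362 F72692) (tt N13130 (iv F74627)) (tt N12129 F72693) (tt N12075 (iv D18541)) (tt N13129 (iv F74622)) (tt N13086 (iv F74429)))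
theorem Q12656 : ∀ i, i < 12656 → P i := stepQ 12655 Q12655 (allL N12655 (tt N12092 F72694) (tt N12320 F72695) (tt N13052 (iv F74245)) (tt N12668 (iv F72751)) (tt N12081 F72696) (tt N12077 (iv D18542)) (tt N13132 D19019) (tt N12082 F72697) (tt N12664 (iv F72736)))
theorem Q12657 : ∀ i, i < 12657 → P i := stepQ 12656 Q12656 (allL N12656 (tt N12094 F72698) (tt N12770 (iv F73133)) (tt N12079 F72699) (tt N13133 D19020) (tt N12078 (iv D18543)) (tt N13134 D19021) (tt N12463 F72700) (tt N12325 F72701) (tt N12080 F72702))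
theorem Q12658 : ∀ i, i < 12658 → P i := stepQ 12657 Q12657 (allL N12657 (tt N12095 F72703) (tt N12252 F72704) (tt N13134 (iv F74648)) (tt N12243 F72705) (tt N12664 (iv F72734)) (tt N12079 (iv D18544)) (tt N13135 D19022) (tt N12326 F72706) (tt N12081 F72707))
theorem Q12659 : ∀ i, i < 12659 → P i := stepQ 12658 Q12658 (allL N12658 (tt N12097 F72708) (tt N13045 (iv F74208)) (tt N12751 (iv F73052)) (tt N12080 (iv D18545)) (tt N12658 F72709) (tt N13136 D19023) (tt N12465 F72710) (tt N12982 (iv F73913)) (tt N13133 (iv F74646)))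
theorem Q12660 : ∀ i, i < 12660 → P i := stepQ 12659 Q12659 (allL N12659 (tt N12098 F72711) (tt N13046 (iv F74213)) (tt N12081 F72712) (tt N13136 (iv F74658)) (tt N13052 (iv F74246)) (tt N12080 (iv D18546)) (tt N13137 D19024) (tt N12083 F72713) (tt N13134 (iv F74650)))
theorem Q12661 : ∀ i, i < 12661 → P i := stepQ 12660 Q12660 (allL N12660 (tt N12099 F72714) (tt N13058 (iv F74276)) (tt N13137 (iv F74660)) (tt N12753 (iv F73059)) (tt N13132 (iv F74639)) (tt N12467 F72715) (tt N12081 (iv D18547)) (tt N12084 F72716) (tt N13135 (iv F74656)))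
theorem Q12662 : ∀ i, i < 12662 → P i := stepQ 12661 Q12661 (allL N12661 (tt N12104 F72717) (tt N12324 F72718) (tt N13056 (iv F74263)) (tt N12344 F72719) (tt N12084 F72720) (tt N12316 F72721) (tt N12082 (iv D18548)) (tt N13132 (iv F74641)) (tt N12360 F72722))
theorem Q12663 : ∀ i, i < 12663 → P i := stepQ 12662 Q12662 (allL N12662 (tt N12106 F72723) (tt N13055 (iv F74255)) (tt N12084 F72724) (tt N13057 (iv F74271)) (tt N13056 (iv F74265)) (tt N12473 F72725) (tt N12083 (iv D18549)) (tt N13137 (iv F74662)) (tt N12496 F72726))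
theorem Q12664 : ∀ i, i < 12664 → P i := stepQ 12663 Q12663 (allL N12663 (tt N12667 (iv F72746)) (tt N12538 F72727) (tt N12086 F72728) (tt N13138 D19025) (tt N12085 (iv D18550)) (tt N13139 D19026) (tt N12582 F72729) (tt N12347 F72730) (tt N12540 F72731))
theorem Q12665 : ∀ i, i < 12665 → P i := stepQ 12664 Q12664 (allL N12664 (tt N12668 (iv F72749)) (tt N12107 F72732) (tt N13139 (iv F74669)) (tt N12092 F72733) (tt N12657 F72734) (tt N12086 (iv D18551)) (tt N13140 D19027) (tt N12348 F72735) (tt N12655 F72736))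
theorem Q12666 : ∀ i, i < 12666 → P i := stepQ 12665 Q12665 (allL N12665 (tt N12308 F72737) (tt N12413 F72738) (tt N12088 F72739) (tt N13141 D19028) (tt N12087 (iv D18552)) (tt N13142 D19029) (tt N12091 F72740) (tt N12100 F72741) (tt N12853 (iv F73457)))
theorem Q12667 : ∀ i, i < 12667 → P i := stepQ 12666 Q12666 (allL N12666 (tt N12309 F72742) (tt N12108 F72743) (tt N13142 (iv F74686)) (tt N12855 (iv F73464)) (tt N12301 F72744) (tt N12088 (iv D18553)) (tt N13143 D19030) (tt N12101 F72745) (tt N12854 (iv F73461)))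
theorem Q12668 : ∀ i, i < 12668 → P i := stepQ 12667 Q12667 (allL N12667 (tt N12663 F72746) (tt N13103 (iv F74503)) (tt N12090 F72747) (tt N13144 D19031) (tt N12089 (iv D18554)) (tt N13145 D19032) (tt N12853 (iv F73455)) (tt N12873 (iv F73528)) (tt N12091 F72748))
theorem Q12669 : ∀ i, i < 12669 → P i := stepQ 12668 Q12668 (allL N12668 (tt N12664 F72749) (tt N12111 F72750) (tt N13145 (iv F74699)) (tt N12655 F72751) (tt N12095 F72752) (tt N12090 (iv D18555)) (tt N13146 D19033) (tt N12874 (iv F73534)) (tt N12092 F72753))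
theorem Q12670 : ∀ i, i < 12670 → P i := stepQ 12669 Q12669 (allL N12669 (tt N13051 (iv F74238)) (tt N13109 (iv F74527)) (tt N13138 (iv F74664)) (tt N12091 (iv D18556)) (tt N12669 F72754) (tt N13147 D19034) (tt N13141 (iv F74682)) (tt N13148 D19035) (tt N13144 (iv F74697)))
theorem Q12671 : ∀ i, i < 12671 → P i := stepQ 12670 Q12670 (allL N12670 (tt N13052 (iv F74243)) (tt N13110 (iv F74533)) (tt N12092 F72755) (tt N13147 (iv F74707)) (tt N12098 F72756) (tt N12091 (iv D18557)) (tt N13149 D19036) (tt N12103 F72757) (tt N13145 (iv F74701)))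
theorem Q12672 : ∀ i, i < 12672 → P i := stepQ 12671 Q12671 (allL N12671 (tt N13132 (iv F74637)) (tt N12114 F72758) (tt N13149 (iv F74713)) (tt N13140 (iv F74674)) (tt N12099 F72759) (tt N13143 (iv F74692)) (tt N12092 (iv D18558)) (tt N12104 F72760) (tt N13146 (iv F74706)))
theorem Q12673 : ∀ i, i < 12673 → P i := stepQ 12672 Q12672 (allL N12672 (tt N13095 (iv F74468)) (tt N12094 F72761) (tt N12116 F72762) (tt N13150 D19037) (tt N12093 (iv D18559)) (tt N13151 D19038) (tt N13017 (iv F74047)) (tt N12225 F72763) (tt N12096 F72764))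
theorem Q12674 : ∀ i, i < 12674 → P i := stepQ 12673 Q12673 (allL N12673 (tt N13133 (iv F74642)) (tt N13150 (iv F74716)) (tt N12796 (iv F73236)) (tt N12094 (iv D18560)) (tt N12673 F72765) (tt N13152 D19039) (tt N13018 (iv F74053)) (tt N13091 (iv F74455)) (tt N12097 F72766))
theorem Q12675 : ∀ i, i < 12675 → P i := stepQ 12674 Q12674 (allL N12674 (tt N13134 (iv F74647)) (tt N13151 (iv F74719)) (tt N12095 F72767) (tt N13152 (iv F74723)) (tt N13145 (iv F74700)) (tt N12094 (iv D18561)) (tt N13153 D19040) (tt N13088 (iv F74439)) (tt N12098 F72768))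
theorem Q12676 : ∀ i, i < 12676 → P i := stepQ 12675 Q12675 (allL N12675 (tt N13135 (iv F74651)) (tt N12119 F72769) (tt N13153 (iv F74725)) (tt N12798 (iv F73249)) (tt N13146 (iv F74705)) (tt N13020 (iv F74064)) (tt N12095 (iv D18562)) (tt N13089 (iv F74445)) (tt N12099 F72770))
theorem Q12677 : ∀ i, i < 12677 → P i := stepQ 12676 Q12676 (allL N12676 (tt N13099 (iv F74488)) (tt N12097 F72771) (tt N13154 D19041) (tt N12096 (iv D18563)) (tt N12676 F72772) (tt N13155 D19042) (tt N13119 (iv F74574)) (tt N12158 F72773) (tt N13150 (iv F74718)))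
theorem Q12678 : ∀ i, i < 12678 → P i := stepQ 12677 Q12677 (allL N12677 (tt N13100 (iv F74493)) (tt N12098 F72774) (tt N12122 F72775) (tt N13155 (iv F74732)) (tt N13110 (iv F74535)) (tt N12096 (iv D18564)) (tt N13156 D19043) (tt N12105 F72776) (tt N13151 (iv F74722)))
theorem Q12679 : ∀ i, i < 12679 → P i := stepQ 12678 Q12678 (allL N12678 (tt N13136 (iv F74657)) (tt N13155 (iv F74731)) (tt N12799 (iv F73254)) (tt N12098 F72777) (tt N13157 D19044) (tt N12097 (iv D18565)) (tt N13158 D19045) (tt N13117 (iv F74563)) (tt N13152 (iv F74724)))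
theorem Q12680 : ∀ i, i < 12680 → P i := stepQ 12679 Q12679 (allL N12679 (tt N13137 (iv F74659)) (tt N13156 (iv F74734)) (tt N12099 F72778) (tt N13158 (iv F74738)) (tt N13149 (iv F74714)) (tt N13122 (iv F74588)) (tt N12098 (iv D18566)) (tt N12106 F72779) (tt N13153 (iv F74726)))
theorem Q12681 : ∀ i, i < 12681 → P i := stepQ 12680 Q12680 (allL N12680 (tt N12315 F72780) (tt N12412 F72781) (tt N12101 F72782) (tt N12411 F72783) (tt N12303 F72784) (tt N12100 (iv D18567)) (tt N13159 D19046) (tt N13142 (iv F74688)) (tt N12343 F72785))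
theorem Q12682 : ∀ i, i < 12682 → P i := stepQ 12681 Q12681 (allL N12681 (tt N12316 F72786) (tt N12125 F72787) (tt N13159 (iv F74741)) (tt N12360 F72788) (tt N12304 F72789) (tt N12104 F72790) (tt N12101 (iv D18568)) (tt N13143 (iv F74693)) (tt N12344 F72791))
theorem Q12683 : ∀ i, i < 12683 → P i := stepQ 12682 Q12682 (allL N12682 (tt N12402 F72792) (tt N12206 F72793) (tt N12345 F72794) (tt N12103 F72795) (tt N12392 F72796) (tt N12102 (iv D18569)) (tt N13160 D19047) (tt N13161 D19048) (tt N12415 F72797))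
theorem Q12684 : ∀ i, i < 12684 → P i := stepQ 12683 Q12683 (allL N12683 (tt N12398 F72798) (tt N12204 F72799) (tt N12340 F72800) (tt N13148 (iv F74710)) (tt N12136 F72801) (tt N13161 (iv F74757)) (tt N12407 F72802) (tt N12102 (iv D18570)) (tt N13162 D19049))
theorem Q12685 : ∀ i, i < 12685 → P i := stepQ 12684 Q12684 (allL N12684 (tt N13056 (iv F74261)) (tt N13116 (iv F74555)) (tt N12104 F72803) (tt N13160 (iv F74749)) (tt N12106 F72804) (tt N13159 (iv F74744)) (tt N12103 (iv D18571)) (tt N13149 (iv F74715)) (tt N13066 (iv F74328)))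
theorem Q12686 : ∀ i, i < 12686 → P i := stepQ 12685 Q12685 (allL N12685 (tt N13115 (iv F74547)) (tt N12106 F72805) (tt N12129 F72806) (tt N12180 F72807) (tt N13116 (iv F74558)) (tt N13123 (iv F74595)) (tt N12105 (iv D18572)) (tt N13156 (iv F74736)) (tt N12223 F72808))
theorem Q12687 : ∀ i, i < 12687 → P i := stepQ 12686 Q12686 (allL N12686 (tt N12995 (iv F73947)) (tt N13140 (iv F74673)) (tt N12947 (iv F73778)) (tt N12114 F72809) (tt N12802 (iv F73262)) (tt N12868 (iv F73503)) (tt N12107 (iv D18573)) (tt N12364 F72810) (tt N12867 (iv F73500)))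
theorem Q12688 : ∀ i, i < 12688 → P i := stepQ 12687 Q12687 (allL N12687 (tt N13061 (iv F74296)) (tt N13143 (iv F74690)) (tt N13060 (iv F74292)) (tt N12868 (iv F73501)) (tt N13124 (iv F74600)) (tt N12114 F72811) (tt N12108 (iv D18574)) (tt N12125 F72812) (tt N12866 (iv F73496)))
theorem Q12689 : ∀ i, i < 12689 → P i := stepQ 12688 Q12688 (allL N12688 (tt N12225 F72813) (tt N12110 F72814) (tt N13103 (iv F74504)) (tt N12761 (iv F73094)) (tt N12109 (iv D18575)) (tt N13163 D19050) (tt N12418 F72815) (tt N13095 (iv F74472)) (tt N12112 F72816))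
theorem Q12690 : ∀ i, i < 12690 → P i := stepQ 12689 Q12689 (allL N12689 (tt N12998 (iv F73961)) (tt N13163 (iv F74765)) (tt N12111 F72817) (tt N12948 (iv F73784)) (tt N12118 F72818) (tt N12110 (iv D18576)) (tt N13164 D19051) (tt N13097 (iv F74481)) (tt N12113 F72819))
theorem Q12691 : ∀ i, i < 12691 → P i := stepQ 12690 Q12690 (allL N12690 (tt N13062 (iv F74302)) (tt N13146 (iv F74703)) (tt N13164 (iv F74768)) (tt N12867 (iv F73497)) (tt N12119 F72820) (tt N12866 (iv F73495)) (tt N12111 (iv D18577)) (tt N13098 (iv F74486)) (tt N12114 F72821))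
theorem Q12692 : ∀ i, i < 12692 → P i := stepQ 12691 Q12691 (allL N12691 (tt N12224 F72822) (tt N12113 F72823) (tt N13110 (iv F74534)) (tt N12760 (iv F73089)) (tt N12122 F72824) (tt N12112 (iv D18578)) (tt N13165 D19052) (tt N12126 F72825) (tt N13163 (iv F74767)))
theorem Q12693 : ∀ i, i < 12693 → P i := stepQ 12692 Q12692 (allL N12692 (tt N13001 (iv F73974)) (tt N13165 (iv F74772)) (tt N12114 F72826) (tt N12950 (iv F73792)) (tt N12124 F72827) (tt N13060 (iv F74294)) (tt N12113 (iv D18579)) (tt N12127 F72828) (tt N13164 (iv F74770)))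
theorem Q12694 : ∀ i, i < 12694 → P i := stepQ 12693 Q12693 (allL N12693 (tt N12116 F72829) (tt N12873 (iv F73524)) (tt N13095 (iv F74470)) (tt N13166 D19053) (tt N12115 (iv D18580)) (tt N13167 D19054) (tt N13032 (iv F74128)) (tt N13103 (iv F74506)) (tt N12120 F72830))
theorem Q12695 : ∀ i, i < 12695 → P i := stepQ 12694 Q12694 (allL N12694 (tt N13166 (iv F74776)) (tt N12117 F72831) (tt N13168 D19055) (tt N12116 (iv D18581)) (tt N12132 F72832) (tt N13169 D19056) (tt N12386 F72833) (tt N13170 D19057) (tt N12121 F72834))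
theorem Q12696 : ∀ i, i < 12696 → P i := stepQ 12695 Q12695 (allL N12695 (tt N13167 (iv F74781)) (tt N12118 F72835) (tt N13151 (iv F74720)) (tt N13169 (iv F74789)) (tt N13163 (iv F74766)) (tt N12116 (iv D18582)) (tt N13171 D19058) (tt N13105 (iv F74513)) (tt N12122 F72836))
theorem Q12697 : ∀ i, i < 12697 → P i := stepQ 12696 Q12696 (allL N12696 (tt N12272 F72837) (tt N13169 (iv F74788)) (tt N12261 F72838) (tt N12118 F72839) (tt N12954 (iv F73807)) (tt N12117 (iv D18583)) (tt N13172 D19059) (tt N13173 D19060) (tt N12123 F72840))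
theorem Q12698 : ∀ i, i < 12698 → P i := stepQ 12697 Q12697 (allL N12697 (tt N12267 F72841) (tt N13170 (iv F74791)) (tt N12260 F72842) (tt N13107 (iv F74519)) (tt N12133 F72843) (tt N13173 (iv F74804)) (tt N12380 F72844) (tt N12117 (iv D18584)) (tt N12489 F72845))
theorem Q12699 : ∀ i, i < 12699 → P i := stepQ 12698 Q12698 (allL N12698 (tt N13063 (iv F74307)) (tt N13171 (iv F74795)) (tt N12119 F72846) (tt N13172 (iv F74799)) (tt N13164 (iv F74769)) (tt N13034 (iv F74137)) (tt N12118 (iv D18585)) (tt N13108 (iv F74524)) (tt N12124 F72847))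
theorem Q12700 : ∀ i, i < 12700 → P i := stepQ 12699 Q12699 (allL N12699 (tt N12121 F72848) (tt N12804 (iv F73272)) (tt N13174 D19061) (tt N12120 (iv D18586)) (tt N12134 F72849) (tt N13175 D19062) (tt N12740 (iv F73005)) (tt N12491 F72850) (tt N13166 (iv F74780)))
theorem Q12701 : ∀ i, i < 12701 → P i := stepQ 12700 Q12700 (allL N12700 (tt N12122 F72851) (tt N13064 (iv F74313)) (tt N13100 (iv F74495)) (tt N13175 (iv F74810)) (tt N12224 F72852) (tt N12120 (iv D18587)) (tt N13176 D19063) (tt N12128 F72853) (tt N13167 (iv F74783)))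
theorem Q12702 : ∀ i, i < 12702 → P i := stepQ 12701 Q12701 (allL N12701 (tt N13174 (iv F74806)) (tt N12441 F72854) (tt N12121 (iv D18588)) (tt N13154 (iv F74728)) (tt N12135 F72855) (tt N13177 D19064) (tt N12727 (iv F72969)) (tt N12454 F72856) (tt N13168 (iv F74787)))
theorem Q12703 : ∀ i, i < 12703 → P i := stepQ 12702 Q12702 (allL N12702 (tt N13175 (iv F74809)) (tt N12123 F72857) (tt N13177 (iv F74816)) (tt N12122 F72858) (tt N12957 (iv F73819)) (tt N12121 (iv D18589)) (tt N13178 D19065) (tt N12493 F72859) (tt N13169 (iv F74790)))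
theorem Q12704 : ∀ i, i < 12704 → P i := stepQ 12703 Q12703 (allL N12703 (tt N13176 (iv F74812)) (tt N12124 F72860) (tt N13156 (iv F74735)) (tt N13178 (iv F74820)) (tt N13165 (iv F74773)) (tt N13129 (iv F74621)) (tt N12122 (iv D18590)) (tt N12129 F72861) (tt N13171 (iv F74796)))
theorem Q12705 : ∀ i, i < 12705 → P i := stepQ 12704 Q12704 (allL N12704 (tt N12806 (iv F73280)) (tt N13178 (iv F74819)) (tt N12718 (iv F72927)) (tt N12124 F72862) (tt N12959 (iv F73826)) (tt N12742 (iv F73012)) (tt N12123 (iv D18591)) (tt N12495 F72863) (tt N13172 (iv F74801)))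
theorem Q12706 : ∀ i, i < 12706 → P i := stepQ 12705 Q12705 (allL N12705 (tt N12223 F72864) (tt N12127 F72865) (tt N13116 (iv F74556)) (tt N12208 F72866) (tt N12129 F72867) (tt N12416 F72868) (tt N12126 (iv D18592)) (tt N13165 (iv F74775)) (tt N13115 (iv F74553)))
theorem Q12707 : ∀ i, i < 12707 → P i := stepQ 12706 Q12706 (allL N12706 (tt N12129 F72869) (tt N13066 (iv F74323)) (tt N13115 (iv F74549)) (tt N12500 F72870) (tt N12223 F72871) (tt N13131 (iv F74635)) (tt N12128 (iv D18593)) (tt N13176 (iv F74814)) (tt N13116 (iv F74560)))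
theorem Q12708 : ∀ i, i < 12708 → P i := stepQ 12707 Q12707 (allL N12707 (tt N12132 F72872) (tt N12270 F72873) (tt N13179 D19066) (tt N12131 (iv D18594)) (tt N13166 (iv F74778)) (tt N12960 (iv F73831)) (tt N12385 F72874) (tt N13180 D19067) (tt N12134 F72875))
theorem Q12709 : ∀ i, i < 12709 → P i := stepQ 12708 Q12708 (allL N12708 (tt N13179 (iv F74822)) (tt N12149 F72876) (tt N12132 (iv D18595)) (tt N12708 F72877) (tt N13168 (iv F74785)) (tt N12443 F72878) (tt N12373 F72879) (tt N12823 (iv F73353)) (tt N12135 F72880))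
theorem Q12710 : ∀ i, i < 12710 → P i := stepQ 12709 Q12709 (allL N12709 (tt N13180 (iv F74829)) (tt N12133 F72881) (tt N12823 (iv F73349)) (tt N12709 F72882) (tt N13170 (iv F74792)) (tt N12810 (iv F73298)) (tt N12379 F72883) (tt N12132 (iv D18596)) (tt N12502 F72884))
theorem Q12711 : ∀ i, i < 12711 → P i := stepQ 12710 Q12710 (allL N12710 (tt N12135 F72885) (tt N12896 (iv F73626)) (tt N12134 (iv D18597)) (tt N12710 F72886) (tt N13174 (iv F74807)) (tt N12446 F72887) (tt N12726 (iv F72965)) (tt N12453 F72888) (tt N13179 (iv F74827)))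
theorem Q12712 : ∀ i, i < 12712 → P i := stepQ 12711 Q12711 (allL N12711 (tt N12395 F72889) (tt N12202 F72890) (tt N12337 F72891) (tt N12711 F72892) (tt N13162 (iv F74761)) (tt N12439 F72893) (tt N12404 F72894) (tt N12424 F72895) (tt N12136 (iv D18598)))
theorem Q12713 : ∀ i, i < 12713 → P i := stepQ 12712 Q12712 (allL N12712 (tt N12498 F72896) (tt N12197 F72897) (tt N12139 F72898) (tt N12434 F72899) (tt N13012 (iv F74016)) (tt N12142 F72900) (tt N12138 (iv D18599)) (tt N12552 F72901) (tt N12251 F72902))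
theorem Q12714 : ∀ i, i < 12714 → P i := stepQ 12713 Q12713 (allL N12713 (tt N12142 F72903) (tt N13012 (iv F74013)) (tt N12141 F72904) (tt N12496 F72905) (tt N12197 F72906) (tt N12498 F72907) (tt N12140 (iv D18600)) (tt N12556 F72908) (tt N13057 (iv F74274)))
theorem Q12715 : ∀ i, i < 12715 → P i := stepQ 12714 Q12714 (allL N12714 (tt N12239 F72909) (tt N12984 (iv F73920)) (tt N12254 F72910) (tt N12788 (iv F73198)) (tt N12148 F72911) (tt N12803 (iv F73268)) (tt N12144 (iv D18601)) (tt N12173 F72912) (tt N12577 F72913))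
theorem Q12716 : ∀ i, i < 12716 → P i := stepQ 12715 Q12715 (allL N12715 (tt N12376 F72914) (tt N12246 F72915) (tt N12961 (iv F73835)) (tt N12145 (iv D18602)) (tt N12715 F72916) (tt N13181 D19068) (tt N12158 F72917) (tt N13119 (iv F74575)) (tt N12721 (iv F72943)))
theorem Q12717 : ∀ i, i < 12717 → P i := stepQ 12716 Q12716 (allL N12716 (tt N12377 F72918) (tt N12247 F72919) (tt N12146 F72920) (tt N13181 (iv F74837)) (tt N12983 (iv F73917)) (tt N12145 (iv D18603)) (tt N13182 D19069) (tt N12174 F72921) (tt N12722 (iv F72947)))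
theorem Q12718 : ∀ i, i < 12718 → P i := stepQ 12717 Q12717 (allL N12717 (tt N12378 F72922) (tt N12148 F72923) (tt N13182 (iv F74840)) (tt N12963 (iv F73844)) (tt N12984 (iv F73922)) (tt N12160 F72924) (tt N12146 (iv D18604)) (tt N12175 F72925) (tt N12723 (iv F72952)))
theorem Q12719 : ∀ i, i < 12719 → P i := stepQ 12718 Q12718 (allL N12718 (tt N12259 F72926) (tt N12963 (iv F73843)) (tt N12704 F72927) (tt N12148 F72928) (tt N12791 (iv F73215)) (tt N12169 F72929) (tt N12147 (iv D18605)) (tt N12370 F72930) (tt N12808 (iv F73291)))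
theorem Q12720 : ∀ i, i < 12720 → P i := stepQ 12719 Q12719 (allL N12719 (tt N12156 F72931) (tt N13168 (iv F74784)) (tt N12150 F72932) (tt N13183 D19070) (tt N12149 (iv D18606)) (tt N13184 D19071) (tt N12374 F72933) (tt N12824 (iv F73358)) (tt N12441 F72934))
theorem Q12721 : ∀ i, i < 12721 → P i := stepQ 12720 Q12720 (allL N12720 (tt N12157 F72935) (tt N12261 F72936) (tt N13184 (iv F74849)) (tt N12152 F72937) (tt N12445 F72938) (tt N12150 (iv D18607)) (tt N13185 D19072) (tt N12825 (iv F73364)) (tt N12442 F72939))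
theorem Q12722 : ∀ i, i < 12722 → P i := stepQ 12721 Q12721 (allL N12721 (tt N12158 F72940) (tt N12796 (iv F73235)) (tt N13183 (iv F74844)) (tt N12151 (iv D18608)) (tt N12721 F72941) (tt N13186 D19073) (tt N12376 F72942) (tt N13099 (iv F74492)) (tt N12715 F72943))
theorem Q12723 : ∀ i, i < 12723 → P i := stepQ 12722 Q12722 (allL N12722 (tt N12159 F72944) (tt N12797 (iv F73242)) (tt N12152 F72945) (tt N13186 (iv F74859)) (tt N13015 (iv F74034)) (tt N12151 (iv D18609)) (tt N13187 D19074) (tt N12176 F72946) (tt N12716 F72947))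
theorem Q12724 : ∀ i, i < 12724 → P i := stepQ 12723 Q12723 (allL N12723 (tt N12160 F72948) (tt N12262 F72949) (tt N13187 (iv F74862)) (tt N13185 (iv F74854)) (tt N13016 (iv F74040)) (tt N12378 F72950) (tt N12152 (iv D18610)) (tt N12177 F72951) (tt N12717 F72952))
theorem Q12725 : ∀ i, i < 12725 → P i := stepQ 12724 Q12724 (allL N12724 (tt N12444 F72953) (tt N13078 (iv F74387)) (tt N12154 F72954) (tt N13188 D19075) (tt N12153 (iv D18611)) (tt N13189 D19076) (tt N12489 F72955) (tt N12353 F72956) (tt N12380 F72957))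
theorem Q12726 : ∀ i, i < 12726 → P i := stepQ 12725 Q12725 (allL N12725 (tt N12445 F72958) (tt N12165 F72959) (tt N13189 (iv F74873)) (tt N12397 F72960) (tt N12157 F72961) (tt N12154 (iv D18612)) (tt N13190 D19077) (tt N12733 (iv F72983)) (tt N12381 F72962))
theorem Q12727 : ∀ i, i < 12727 → P i := stepQ 12726 Q12726 (allL N12726 (tt N12155 (iv D18613)) (tt N13179 (iv F74823)) (tt N12166 F72963) (tt N12726 F72964) (tt N13191 D19078) (tt N13035 (iv F74143)) (tt N12710 F72965) (tt N12391 F72966) (tt N12896 (iv F73629)))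
theorem Q12728 : ∀ i, i < 12728 → P i := stepQ 12727 Q12727 (allL N12727 (tt N13191 (iv F74882)) (tt N12156 F72967) (tt N12167 F72968) (tt N13192 D19079) (tt N12155 (iv D18614)) (tt N13193 D19080) (tt N12701 F72969) (tt N12455 F72970) (tt N12897 (iv F73632)))
theorem Q12729 : ∀ i, i < 12729 → P i := stepQ 12728 Q12728 (allL N12728 (tt N13183 (iv F74843)) (tt N13192 (iv F74886)) (tt N12158 F72971) (tt N12156 (iv D18615)) (tt N12728 F72972) (tt N13194 D19081) (tt N12961 (iv F73837)) (tt N13154 (iv F74730)) (tt N12898 (iv F73635)))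
theorem Q12730 : ∀ i, i < 12730 → P i := stepQ 12729 Q12729 (allL N12729 (tt N13184 (iv F74848)) (tt N13193 (iv F74891)) (tt N12157 F72973) (tt N13194 (iv F74895)) (tt N13189 (iv F74874)) (tt N12156 (iv D18616)) (tt N13195 D19082) (tt N12974 (iv F73880)) (tt N12899 (iv F73637)))
theorem Q12731 : ∀ i, i < 12731 → P i := stepQ 12730 Q12730 (allL N12730 (tt N13185 (iv F74852)) (tt N12169 F72974) (tt N13195 (iv F74896)) (tt N12160 F72975) (tt N13190 (iv F74880)) (tt N12963 (iv F73846)) (tt N12157 (iv D18617)) (tt N12975 (iv F73885)) (tt N12900 (iv F73640)))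
theorem Q12732 : ∀ i, i < 12732 → P i := stepQ 12731 Q12731 (allL N12731 (tt N13186 (iv F74858)) (tt N13117 (iv F74561)) (tt N13194 (iv F74894)) (tt N12159 F72976) (tt N13196 D19083) (tt N12158 (iv D18618)) (tt N13197 D19084) (tt N13155 (iv F74733)) (tt N12901 (iv F73642)))
theorem Q12733 : ∀ i, i < 12733 → P i := stepQ 12732 Q12732 (allL N12732 (tt N13187 (iv F74861)) (tt N13118 (iv F74565)) (tt N12160 F72977) (tt N13197 (iv F74898)) (tt N13023 (iv F74076)) (tt N13182 (iv F74841)) (tt N12159 (iv D18619)) (tt N12180 F72978) (tt N12903 (iv F73647)))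
theorem Q12734 : ∀ i, i < 12734 → P i := stepQ 12733 Q12733 (allL N12733 (tt N12282 F72979) (tt N12288 F72980) (tt N12890 (iv F73600)) (tt N12184 F72981) (tt N12452 F72982) (tt N12161 (iv D18620)) (tt N13198 D19085) (tt N12725 F72983) (tt N12162 F72984))
theorem Q12735 : ∀ i, i < 12735 → P i := stepQ 12734 Q12734 (allL N12734 (tt N12286 F72985) (tt N12975 (iv F73882)) (tt N12894 (iv F73616)) (tt N12185 F72986) (tt N12838 (iv F73400)) (tt N12370 F72987) (tt N12162 (iv D18621)) (tt N12169 F72988) (tt N13198 (iv F74905)))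
theorem Q12736 : ∀ i, i < 12736 → P i := stepQ 12735 Q12735 (allL N12735 (tt N12163 (iv D18622)) (tt N12289 F72989) (tt N13035 (iv F74141)) (tt N12170 F72990) (tt N13199 D19086) (tt N12166 F72991) (tt N12743 (iv F73016)) (tt N12172 F72992) (tt N12909 (iv F73670)))
theorem Q12737 : ∀ i, i < 12737 → P i := stepQ 12736 Q12736 (allL N12736 (tt N13199 (iv F74906)) (tt N12164 F72993) (tt N13078 (iv F74388)) (tt N13200 D19087) (tt N12163 (iv D18623)) (tt N13201 D19088) (tt N12826 (iv F73367)) (tt N12291 F72994) (tt N12910 (iv F73674)))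
theorem Q12738 : ∀ i, i < 12738 → P i := stepQ 12737 Q12737 (allL N12737 (tt N12291 F72995) (tt N13200 (iv F74911)) (tt N13029 (iv F74109)) (tt N12164 (iv D18624)) (tt N12172 F72996) (tt N13202 D19089) (tt N12827 (iv F73371)) (tt N13199 (iv F74909)) (tt N12911 (iv F73678)))
theorem Q12739 : ∀ i, i < 12739 → P i := stepQ 12738 Q12738 (allL N12738 (tt N12292 F72997) (tt N13201 (iv F74915)) (tt N12165 F72998) (tt N13202 (iv F74919)) (tt N12168 F72999) (tt N12164 (iv D18625)) (tt N13203 D19090) (tt N12837 (iv F73398)) (tt N12912 (iv F73683)))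
theorem Q12740 : ∀ i, i < 12740 → P i := stepQ 12739 Q12739 (allL N12739 (tt N12293 F73000) (tt N13190 (iv F74878)) (tt N13203 (iv F74922)) (tt N13031 (iv F74120)) (tt N12169 F73001) (tt N12829 (iv F73376)) (tt N12165 (iv D18626)) (tt N12838 (iv F73402)) (tt N12913 (iv F73689)))
theorem Q12741 : ∀ i, i < 12741 → P i := stepQ 12740 Q12740 (allL N12740 (tt N12167 F73002) (tt N12294 F73003) (tt N13191 (iv F74883)) (tt N12647 F73004) (tt N12166 (iv D18627)) (tt N13204 D19091) (tt N12699 F73005) (tt N12644 F73006) (tt N12914 (iv F73692)))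
theorem Q12742 : ∀ i, i < 12742 → P i := stepQ 12741 Q12741 (allL N12741 (tt N13204 (iv F74924)) (tt N12168 F73007) (tt N13193 (iv F74892)) (tt N12648 F73008) (tt N13201 (iv F74916)) (tt N12167 (iv D18628)) (tt N13205 D19092) (tt N12892 (iv F73609)) (tt N12915 (iv F73694)))
theorem Q12743 : ∀ i, i < 12743 → P i := stepQ 12742 Q12742 (allL N12742 (tt N12296 F73009) (tt N13205 (iv F74928)) (tt N12169 F73010) (tt N12649 F73011) (tt N13203 (iv F74923)) (tt N12704 F73012) (tt N12168 (iv D18629)) (tt N12894 (iv F73619)) (tt N12916 (iv F73697)))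
theorem Q12744 : ∀ i, i < 12744 → P i := stepQ 12743 Q12743 (allL N12743 (tt N12277 F73013) (tt N12172 F73014) (tt N13013 (iv F74021)) (tt N12171 (iv D18630)) (tt N13200 (iv F74912)) (tt N12283 F73015) (tt N12735 F73016) (tt N12289 F73017) (tt N12917 (iv F73702)))
theorem Q12745 : ∀ i, i < 12745 → P i := stepQ 12744 Q12744 (allL N12744 (tt N12394 F73018) (tt N12251 F73019) (tt N12175 F73020) (tt N13123 (iv F74593)) (tt N13057 (iv F74272)) (tt N12180 F73021) (tt N12174 (iv D18631)) (tt N13182 (iv F74842)) (tt N12197 F73022))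
theorem Q12746 : ∀ i, i < 12746 → P i := stepQ 12745 Q12745 (allL N12745 (tt N12180 F73023) (tt N13036 (iv F74147)) (tt N12177 F73024) (tt N13115 (iv F74550)) (tt N13041 (iv F74184)) (tt N12394 F73025) (tt N12176 (iv D18632)) (tt N13187 (iv F74864)) (tt N12208 F73026))
theorem Q12747 : ∀ i, i < 12747 → P i := stepQ 12746 Q12746 (allL N12746 (tt N13124 (iv F74597)) (tt N12185 F73027) (tt N12494 F73028) (tt N12975 (iv F73883)) (tt N13061 (iv F74299)) (tt N12369 F73029) (tt N12178 (iv D18633)) (tt N12179 F73030) (tt N13076 (iv F74381)))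
theorem Q12748 : ∀ i, i < 12748 → P i := stepQ 12747 Q12747 (allL N12747 (tt N12319 F73031) (tt N12748 (iv F73036)) (tt N12997 (iv F73957)) (tt N12183 F73032) (tt N12586 F73033) (tt N12181 (iv D18634)) (tt N13206 D19093) (tt N12773 (iv F73153)) (tt N12562 F73034))
theorem Q12749 : ∀ i, i < 12749 → P i := stepQ 12748 Q12748 (allL N12748 (tt N12321 F73035) (tt N12747 F73036) (tt N12328 F73037) (tt N12562 F73038) (tt N12184 F73039) (tt N12182 (iv D18635)) (tt N13207 D19094) (tt N12228 F73040) (tt N12183 F73041))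
theorem Q12750 : ∀ i, i < 12750 → P i := stepQ 12749 Q12749 (allL N12749 (tt N12322 F73042) (tt N13061 (iv F74297)) (tt N12329 F73043) (tt N13206 (iv F74932)) (tt N12185 F73044) (tt N13059 (iv F74287)) (tt N12183 (iv D18636)) (tt N12186 F73045) (tt N13207 (iv F74943)))
theorem Q12751 : ∀ i, i < 12751 → P i := stepQ 12750 Q12750 (allL N12750 (tt N12323 F73046) (tt N13076 (iv F74376)) (tt N12330 F73047) (tt N13198 (iv F74901)) (tt N13207 (iv F74940)) (tt N12368 F73048) (tt N12184 (iv D18637)) (tt N12233 F73049) (tt N12185 F73050))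
theorem Q12752 : ∀ i, i < 12752 → P i := stepQ 12751 Q12751 (allL N12751 (tt N12246 F73051) (tt N13014 (iv F74025)) (tt N12658 F73052) (tt N12187 (iv D18638)) (tt N12751 F73053) (tt N13208 D19095) (tt N12982 (iv F73912)) (tt N12465 F73054) (tt N12793 (iv F73225)))
theorem Q12753 : ∀ i, i < 12753 → P i := stepQ 12752 Q12752 (allL N12752 (tt N12247 F73055) (tt N13015 (iv F74032)) (tt N12188 F73056) (tt N13208 (iv F74946)) (tt N12797 (iv F73244)) (tt N12187 (iv D18639)) (tt N13209 D19096) (tt N12189 F73057) (tt N12794 (iv F73229)))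
theorem Q12754 : ∀ i, i < 12754 → P i := stepQ 12753 Q12753 (allL N12753 (tt N12248 F73058) (tt N12803 (iv F73265)) (tt N13209 (iv F74949)) (tt N12660 F73059) (tt N12798 (iv F73250)) (tt N12984 (iv F73923)) (tt N12188 (iv D18640)) (tt N12190 F73060) (tt N12795 (iv F73233)))
theorem Q12755 : ∀ i, i < 12755 → P i := stepQ 12754 Q12754 (allL N12754 (tt N12251 F73061) (tt N13041 (iv F74181)) (tt N12190 F73062) (tt N12473 F73063) (tt N13036 (iv F74150)) (tt N13057 (iv F74273)) (tt N12189 (iv D18641)) (tt N13209 (iv F74950)) (tt N12498 F73064))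
theorem Q12756 : ∀ i, i < 12756 → P i := stepQ 12755 Q12755 (allL N12755 (tt N12408 F73065) (tt N12312 F73066) (tt N12766 (iv F73117)) (tt N12191 (iv D18642)) (tt N12755 F73067) (tt N13210 D19097) (tt N12217 F73068) (tt N13082 (iv F74411)) (tt N13069 (iv F74349)))
theorem Q12757 : ∀ i, i < 12757 → P i := stepQ 12756 Q12756 (allL N12756 (tt N12409 F73069) (tt N12313 F73070) (tt N12192 F73071) (tt N13210 (iv F74953)) (tt N13038 (iv F74163)) (tt N12191 (iv D18643)) (tt N13211 D19098) (tt N12193 F73072) (tt N13070 (iv F74355)))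
theorem Q12758 : ∀ i, i < 12758 → P i := stepQ 12757 Q12757 (allL N12757 (tt N12410 F73073) (tt N12200 F73074) (tt N13211 (iv F74956)) (tt N12768 (iv F73125)) (tt N13039 (iv F74169)) (tt N12219 F73075) (tt N12192 (iv D18644)) (tt N12194 F73076) (tt N13071 (iv F74361)))
theorem Q12759 : ∀ i, i < 12759 → P i := stepQ 12758 Q12758 (allL N12758 (tt N12414 F73077) (tt N12317 F73078) (tt N12194 F73079) (tt N13086 (iv F74426)) (tt N13040 (iv F74177)) (tt N12222 F73080) (tt N12193 (iv D18645)) (tt N13211 (iv F74958)) (tt N12362 F73081))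
theorem Q12760 : ∀ i, i < 12760 → P i := stepQ 12759 Q12759 (allL N12759 (tt N12416 F73082) (tt N12434 F73083) (tt N13086 (iv F74425)) (tt N12197 F73084) (tt N12435 F73085) (tt N12223 F73086) (tt N12195 (iv D18646)) (tt N13212 D19099) (tt N13123 (iv F74596)))
theorem Q12761 : ∀ i, i < 12761 → P i := stepQ 12760 Q12760 (allL N12760 (tt N12417 F73087) (tt N12422 F73088) (tt N13083 (iv F74414)) (tt N12691 F73089) (tt N12431 F73090) (tt N12196 F73091) (tt N13212 (iv F74964)) (tt N12195 (iv D18647)) (tt N13213 D19100))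
theorem Q12762 : ∀ i, i < 12762 → P i := stepQ 12761 Q12761 (allL N12761 (tt N12418 F73092) (tt N12420 F73093) (tt N13024 (iv F74080)) (tt N12688 F73094) (tt N12238 F73095) (tt N13213 (iv F74969)) (tt N12225 F73096) (tt N13017 (iv F74048)) (tt N12196 (iv D18648)))
theorem Q12763 : ∀ i, i < 12763 → P i := stepQ 12762 Q12762 (allL N12762 (tt N12329 F73097) (tt N13039 (iv F74167)) (tt N12322 F73098) (tt N13089 (iv F74443)) (tt N12200 F73099) (tt N13042 (iv F74192)) (tt N12198 (iv D18649)) (tt N12201 F73100) (tt N13068 (iv F74344)))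
theorem Q12764 : ∀ i, i < 12764 → P i := stepQ 12763 Q12763 (allL N12763 (tt N12330 F73101) (tt N13071 (iv F74357)) (tt N12323 F73102) (tt N12880 (iv F73559)) (tt N13068 (iv F74341)) (tt N12233 F73103) (tt N12199 (iv D18650)) (tt N12368 F73104) (tt N12200 F73105))
theorem Q12765 : ∀ i, i < 12765 → P i := stepQ 12764 Q12764 (allL N12764 (tt N12215 F73106) (tt N13162 (iv F74759)) (tt N12203 F73107) (tt N13214 D19101) (tt N12202 (iv D18651)) (tt N13215 D19102) (tt N12405 F73108) (tt N12485 F73109) (tt N12204 F73110))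
theorem Q12766 : ∀ i, i < 12766 → P i := stepQ 12765 Q12765 (allL N12765 (tt N12216 F73111) (tt N12339 F73112) (tt N13215 (iv F74976)) (tt N12581 F73113) (tt N12608 F73114) (tt N12203 (iv D18652)) (tt N13216 D19103) (tt N12822 (iv F73347)) (tt N12205 F73115))
theorem Q12767 : ∀ i, i < 12767 → P i := stepQ 12766 Q12766 (allL N12766 (tt N12217 F73116) (tt N13148 (iv F74709)) (tt N12755 F73117) (tt N12204 (iv D18653)) (tt N12766 F73118) (tt N13217 D19104) (tt N12408 F73119) (tt N13109 (iv F74531)) (tt N13214 (iv F74974)))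
theorem Q12768 : ∀ i, i < 12768 → P i := stepQ 12767 Q12767 (allL N12767 (tt N12218 F73120) (tt N13161 (iv F74754)) (tt N12205 F73121) (tt N13217 (iv F74988)) (tt N13044 (iv F74205)) (tt N12204 (iv D18654)) (tt N13218 D19105) (tt N12206 F73122) (tt N13215 (iv F74979)))
theorem Q12769 : ∀ i, i < 12769 → P i := stepQ 12768 Q12768 (allL N12768 (tt N12219 F73123) (tt N12342 F73124) (tt N13218 (iv F74990)) (tt N12757 F73125) (tt N13094 (iv F74464)) (tt N12410 F73126) (tt N12205 (iv D18655)) (tt N12207 F73127) (tt N13216 (iv F74985)))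
theorem Q12770 : ∀ i, i < 12770 → P i := stepQ 12769 Q12769 (allL N12769 (tt N12222 F73128) (tt N13160 (iv F74747)) (tt N12207 F73129) (tt N13116 (iv F74557)) (tt N13043 (iv F74199)) (tt N12414 F73130) (tt N12206 (iv D18656)) (tt N13218 (iv F74992)) (tt N12500 F73131))
theorem Q12771 : ∀ i, i < 12771 → P i := stepQ 12770 Q12770 (allL N12770 (tt N12611 F73132) (tt N12656 F73133) (tt N12210 F73134) (tt N13219 D19106) (tt N12209 (iv D18657)) (tt N13220 D19107) (tt N12772 (iv F73146)) (tt N12479 F73135) (tt N12536 F73136))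
theorem Q12772 : ∀ i, i < 12772 → P i := stepQ 12771 Q12771 (allL N12771 (tt N12612 F73137) (tt N12226 F73138) (tt N13220 (iv F75001)) (tt N12214 F73139) (tt N12539 F73140) (tt N12210 (iv D18658)) (tt N13221 D19108) (tt N12563 F73141) (tt N12537 F73142))
theorem Q12773 : ∀ i, i < 12773 → P i := stepQ 12772 Q12772 (allL N12772 (tt N12607 F73143) (tt N12463 F73144) (tt N12212 F73145) (tt N13222 D19109) (tt N12211 (iv D18659)) (tt N13223 D19110) (tt N12770 F73146) (tt N12478 F73147) (tt N12213 F73148))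
theorem Q12774 : ∀ i, i < 12774 → P i := stepQ 12773 Q12773 (allL N12773 (tt N12608 F73149) (tt N12228 F73150) (tt N13223 (iv F75020)) (tt N12537 F73151) (tt N12216 F73152) (tt N12212 (iv D18660)) (tt N13224 D19111) (tt N12747 F73153) (tt N12214 F73154))
theorem Q12775 : ∀ i, i < 12775 → P i := stepQ 12774 Q12774 (allL N12774 (tt N13022 (iv F74069)) (tt N12465 F73155) (tt N13219 (iv F74995)) (tt N12213 (iv D18661)) (tt N12774 F73156) (tt N13225 D19112) (tt N13045 (iv F74210)) (tt N13014 (iv F74029)) (tt N13222 (iv F75017)))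
theorem Q12776 : ∀ i, i < 12776 → P i := stepQ 12775 Q12775 (allL N12775 (tt N13044 (iv F74202)) (tt N12466 F73157) (tt N12214 F73158) (tt N13225 (iv F75032)) (tt N12218 F73159) (tt N12213 (iv D18662)) (tt N13226 D19113) (tt N12220 F73160) (tt N13223 (iv F75023)))
theorem Q12777 : ∀ i, i < 12777 → P i := stepQ 12776 Q12776 (allL N12776 (tt N13094 (iv F74462)) (tt N12230 F73161) (tt N13226 (iv F75034)) (tt N13221 (iv F75007)) (tt N12219 F73162) (tt N13047 (iv F74220)) (tt N12214 (iv D18663)) (tt N12221 F73163) (tt N13224 (iv F75030)))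
theorem Q12778 : ∀ i, i < 12778 → P i := stepQ 12777 Q12777 (allL N12777 (tt N13214 (iv F74970)) (tt N12468 F73164) (tt N12931 (iv F73736)) (tt N12215 (iv D18664)) (tt N12777 F73165) (tt N13227 D19114) (tt N13069 (iv F74348)) (tt N13228 D19115) (tt N12217 F73166))
theorem Q12779 : ∀ i, i < 12779 → P i := stepQ 12778 Q12778 (allL N12778 (tt N13215 (iv F74975)) (tt N12469 F73167) (tt N12216 F73168) (tt N13227 (iv F75038)) (tt N13223 (iv F75021)) (tt N12215 (iv D18665)) (tt N13229 D19116) (tt N12487 F73169) (tt N12218 F73170))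
theorem Q12780 : ∀ i, i < 12780 → P i := stepQ 12779 Q12779 (allL N12779 (tt N13216 (iv F74980)) (tt N12233 F73171) (tt N13229 (iv F75044)) (tt N12933 (iv F73742)) (tt N13224 (iv F75027)) (tt N13071 (iv F74359)) (tt N12216 (iv D18666)) (tt N13076 (iv F74380)) (tt N12219 F73172))
theorem Q12781 : ∀ i, i < 12781 → P i := stepQ 12780 Q12780 (allL N12780 (tt N13217 (iv F74986)) (tt N12471 F73173) (tt N12936 (iv F73749)) (tt N12218 F73174) (tt N13230 D19117) (tt N12217 (iv D18667)) (tt N13231 D19118) (tt N13111 (iv F74539)) (tt N13227 (iv F75039)))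
theorem Q12782 : ∀ i, i < 12782 → P i := stepQ 12781 Q12781 (allL N12781 (tt N13218 (iv F74989)) (tt N12472 F73175) (tt N12219 F73176) (tt N13231 (iv F75050)) (tt N13226 (iv F75035)) (tt N13211 (iv F74957)) (tt N12218 (iv D18668)) (tt N12222 F73177) (tt N13229 (iv F75046)))
theorem Q12783 : ∀ i, i < 12783 → P i := stepQ 12782 Q12782 (allL N12782 (tt N13043 (iv F74195)) (tt N12473 F73178) (tt N12221 F73179) (tt N13041 (iv F74183)) (tt N12222 F73180) (tt N13055 (iv F74259)) (tt N12220 (iv D18669)) (tt N13226 (iv F75036)) (tt N12497 F73181))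
theorem Q12784 : ∀ i, i < 12784 → P i := stepQ 12783 Q12783 (allL N12783 (tt N13165 (iv F74771)) (tt N13090 (iv F74448)) (tt N13112 (iv F74541)) (tt N12945 (iv F73772)) (tt N13176 (iv F74813)) (tt N13212 (iv F74963)) (tt N12224 F73182) (tt N12223 (iv D18670)) (tt N13232 D19119))
theorem Q12785 : ∀ i, i < 12785 → P i := stepQ 12784 Q12784 (allL N12784 (tt N13163 (iv F74764)) (tt N13088 (iv F74436)) (tt N13105 (iv F74512)) (tt N12946 (iv F73775)) (tt N13167 (iv F74782)) (tt N12225 F73183) (tt N13232 (iv F75051)) (tt N13151 (iv F74721)) (tt N12224 (iv D18671)))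
theorem Q12786 : ∀ i, i < 12786 → P i := stepQ 12785 Q12785 (allL N12785 (tt N12364 F73184) (tt N13221 (iv F75006)) (tt N12802 (iv F73260)) (tt N12230 F73185) (tt N12947 (iv F73780)) (tt N12787 (iv F73193)) (tt N12226 (iv D18672)) (tt N12995 (iv F73951)) (tt N12786 (iv F73189)))
theorem Q12787 : ∀ i, i < 12787 → P i := stepQ 12786 Q12786 (allL N12786 (tt N12365 F73186) (tt N13047 (iv F74218)) (tt N13058 (iv F74277)) (tt N12787 (iv F73191)) (tt N13042 (iv F74191)) (tt N12230 F73187) (tt N12227 (iv D18673)) (tt N12236 F73188) (tt N12785 F73189))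
theorem Q12788 : ∀ i, i < 12788 → P i := stepQ 12787 Q12787 (allL N12787 (tt N12366 F73190) (tt N13224 (iv F75025)) (tt N13067 (iv F74331)) (tt N12786 F73191) (tt N12233 F73192) (tt N12785 F73193) (tt N12228 (iv D18674)) (tt N13207 (iv F74942)) (tt N12230 F73194))
theorem Q12789 : ∀ i, i < 12789 → P i := stepQ 12788 Q12788 (allL N12788 (tt N12367 F73195) (tt N12467 F73196) (tt N12230 F73197) (tt N12714 F73198) (tt N12235 F73199) (tt N13058 (iv F74280)) (tt N12229 (iv D18675)) (tt N12237 F73200) (tt N13067 (iv F74336)))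
theorem Q12790 : ∀ i, i < 12790 → P i := stepQ 12789 Q12789 (allL N12789 (tt N12269 F73201) (tt N12445 F73202) (tt N12954 (iv F73805)) (tt N12232 F73203) (tt N12261 F73204) (tt N12231 (iv D18676)) (tt N13233 D19120) (tt N12812 (iv F73311)) (tt N12234 F73205))
theorem Q12791 : ∀ i, i < 12791 → P i := stepQ 12790 Q12790 (allL N12790 (tt N12368 F73206) (tt N12470 F73207) (tt N12233 F73208) (tt N13233 (iv F75054)) (tt N13067 (iv F74333)) (tt N12323 F73209) (tt N12232 (iv D18677)) (tt N12330 F73210) (tt N12235 F73211))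
theorem Q12792 : ∀ i, i < 12792 → P i := stepQ 12791 Q12791 (allL N12791 (tt N12370 F73212) (tt N12450 F73213) (tt N12959 (iv F73824)) (tt N12235 F73214) (tt N12718 F73215) (tt N12286 F73216) (tt N12234 (iv D18678)) (tt N12259 F73217) (tt N13233 (iv F75057)))
theorem Q12793 : ∀ i, i < 12793 → P i := stepQ 12792 Q12792 (allL N12792 (tt N12649 F73218) (tt N12889 (iv F73594)) (tt N12241 F73219) (tt N12296 F73220) (tt N12893 (iv F73612)) (tt N12569 F73221) (tt N12240 (iv D18679)) (tt N12553 F73222) (tt N12592 F73223))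
theorem Q12794 : ∀ i, i < 12794 → P i := stepQ 12793 Q12793 (allL N12793 (tt N12796 (iv F73234)) (tt N12982 (iv F73909)) (tt N13133 (iv F74643)) (tt N12242 (iv D18680)) (tt N12793 F73224) (tt N13234 D19121) (tt N13014 (iv F74028)) (tt N13045 (iv F74211)) (tt N12751 F73225))
theorem Q12795 : ∀ i, i < 12795 → P i := stepQ 12794 Q12794 (allL N12794 (tt N12797 (iv F73241)) (tt N12983 (iv F73915)) (tt N12243 F73226) (tt N13234 (iv F75058)) (tt N12247 F73227) (tt N12242 (iv D18681)) (tt N13235 D19122) (tt N12249 F73228) (tt N12752 F73229))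
theorem Q12796 : ∀ i, i < 12796 → P i := stepQ 12795 Q12795 (allL N12795 (tt N12798 (iv F73247)) (tt N12254 F73230) (tt N13235 (iv F75060)) (tt N13135 (iv F74653)) (tt N12248 F73231) (tt N13016 (iv F74041)) (tt N12243 (iv D18682)) (tt N12250 F73232) (tt N12753 F73233))
theorem Q12797 : ∀ i, i < 12797 → P i := stepQ 12796 Q12796 (allL N12796 (tt N12793 F73234) (tt N12721 F73235) (tt N12673 F73236) (tt N12244 (iv D18683)) (tt N12796 F73237) (tt N13236 D19123) (tt N12508 F73238) (tt N12614 F73239) (tt N12246 F73240))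
theorem Q12798 : ∀ i, i < 12798 → P i := stepQ 12797 Q12797 (allL N12797 (tt N12794 F73241) (tt N12722 F73242) (tt N12245 F73243) (tt N13236 (iv F75067)) (tt N12752 F73244) (tt N12244 (iv D18684)) (tt N13237 D19124) (tt N12523 F73245) (tt N12247 F73246))
theorem Q12799 : ∀ i, i < 12799 → P i := stepQ 12798 Q12798 (allL N12798 (tt N12795 F73247) (tt N12255 F73248) (tt N13237 (iv F75072)) (tt N12675 F73249) (tt N12753 F73250) (tt N12510 F73251) (tt N12245 (iv D18685)) (tt N12524 F73252) (tt N12248 F73253))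
theorem Q12800 : ∀ i, i < 12800 → P i := stepQ 12799 Q12799 (allL N12799 (tt N13208 (iv F74944)) (tt N13181 (iv F74836)) (tt N12678 F73254) (tt N12247 F73255) (tt N13238 D19125) (tt N12246 (iv D18686)) (tt N13239 D19126) (tt N13121 (iv F74584)) (tt N13236 (iv F75069)))
theorem Q12801 : ∀ i, i < 12801 → P i := stepQ 12800 Q12800 (allL N12800 (tt N13209 (iv F74948)) (tt N13182 (iv F74839)) (tt N12248 F73256) (tt N13239 (iv F75080)) (tt N13235 (iv F75061)) (tt N13118 (iv F74568)) (tt N12247 (iv D18687)) (tt N12251 F73257) (tt N13237 (iv F75076)))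
theorem Q12802 : ∀ i, i < 12802 → P i := stepQ 12801 Q12801 (allL N12801 (tt N13036 (iv F74146)) (tt N13057 (iv F74269)) (tt N12250 F73258) (tt N13055 (iv F74257)) (tt N12251 F73259) (tt N13041 (iv F74185)) (tt N12249 (iv D18688)) (tt N13235 (iv F75062)) (tt N13012 F74019))
theorem Q12803 : ∀ i, i < 12803 → P i := stepQ 12802 Q12802 (allL N12802 (tt N12895 (iv F73620)) (tt N13135 (iv F74652)) (tt N12785 F73260) (tt N12254 F73261) (tt N12686 F73262) (tt N13067 (iv F74334)) (tt N12252 (iv D18689)) (tt N12475 F73263) (tt N13058 (iv F74282)))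
theorem Q12804 : ∀ i, i < 12804 → P i := stepQ 12803 Q12803 (allL N12803 (tt N12574 F73264) (tt N12753 F73265) (tt N12577 F73266) (tt N13058 (iv F74278)) (tt N12255 F73267) (tt N12714 F73268) (tt N12253 (iv D18690)) (tt N12522 F73269) (tt N12254 F73270))
theorem Q12805 : ∀ i, i < 12805 → P i := stepQ 12804 Q12804 (allL N12804 (tt N12257 F73271) (tt N12699 F73272) (tt N12458 F73273) (tt N12567 F73274) (tt N12256 (iv D18691)) (tt N13240 D19127) (tt N12294 F73275) (tt N12956 (iv F73816)) (tt N12819 (iv F73337)))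
theorem Q12806 : ∀ i, i < 12806 → P i := stepQ 12805 Q12805 (allL N12805 (tt N13240 (iv F75081)) (tt N12258 F73276) (tt N12459 F73277) (tt N12568 F73278) (tt N12493 F73279) (tt N12257 (iv D18692)) (tt N13241 D19128) (tt N12957 (iv F73820)) (tt N12820 (iv F73340)))
theorem Q12807 : ∀ i, i < 12807 → P i := stepQ 12806 Q12806 (allL N12806 (tt N12704 F73280) (tt N13241 (iv F75086)) (tt N12259 F73281) (tt N12569 F73282) (tt N12495 F73283) (tt N12296 F73284) (tt N12258 (iv D18693)) (tt N12959 (iv F73828)) (tt N12821 (iv F73343)))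
theorem Q12808 : ∀ i, i < 12808 → P i := stepQ 12807 Q12807 (allL N12807 (tt N12268 F73285) (tt N12825 (iv F73361)) (tt N13173 (iv F74803)) (tt N12301 F73286) (tt N12812 (iv F73310)) (tt N12260 (iv D18694)) (tt N13242 D19129) (tt N12261 F73287) (tt N12809 (iv F73295)))
theorem Q12809 : ∀ i, i < 12809 → P i := stepQ 12808 Q12808 (allL N12808 (tt N12273 F73288) (tt N13185 (iv F74853)) (tt N13172 (iv F74798)) (tt N12262 F73289) (tt N13233 (iv F75055)) (tt N12388 F73290) (tt N12261 (iv D18695)) (tt N13242 (iv F75094)) (tt N12718 F73291))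
theorem Q12810 : ∀ i, i < 12810 → P i := stepQ 12809 Q12809 (allL N12809 (tt N12812 (iv F73307)) (tt N12279 F73292) (tt N13008 (iv F74003)) (tt N12846 (iv F73426)) (tt N12268 F73293) (tt N12263 (iv D18696)) (tt N13243 D19130) (tt N12269 F73294) (tt N12807 F73295))
theorem Q12811 : ∀ i, i < 12811 → P i := stepQ 12810 Q12810 (allL N12810 (tt N13244 D19131) (tt N12264 (iv D18697)) (tt N12280 F73296) (tt N12810 F73297) (tt N13245 D19132) (tt N12709 F73298) (tt N12443 F73299) (tt N12437 F73300) (tt N12266 F73301))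
theorem Q12812 : ∀ i, i < 12812 → P i := stepQ 12811 Q12811 (allL N12811 (tt N12489 F73302) (tt N13245 (iv F75107)) (tt N12265 F73303) (tt N13246 D19133) (tt N12264 (iv D18698)) (tt N13247 D19134) (tt N12444 F73304) (tt N12426 F73305) (tt N12267 F73306))
theorem Q12813 : ∀ i, i < 12813 → P i := stepQ 12812 Q12812 (allL N12812 (tt N12809 F73307) (tt N12282 F73308) (tt N13247 (iv F75119)) (tt N12311 F73309) (tt N12807 F73310) (tt N12265 (iv D18699)) (tt N13248 D19135) (tt N12789 F73311) (tt N12268 F73312))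
theorem Q12814 : ∀ i, i < 12814 → P i := stepQ 12813 Q12813 (allL N12813 (tt N12266 (iv D18700)) (tt N13180 (iv F74830)) (tt N12283 F73313) (tt N12813 F73314) (tt N13249 D19136) (tt N13013 (iv F74023)) (tt N12446 F73315) (tt N12270 F73316) (tt N13244 (iv F75106)))
theorem Q12815 : ∀ i, i < 12815 → P i := stepQ 12814 Q12814 (allL N12814 (tt N13249 (iv F75130)) (tt N12267 F73317) (tt N12284 F73318) (tt N13250 D19137) (tt N12266 (iv D18701)) (tt N13251 D19138) (tt N12447 F73319) (tt N12271 F73320) (tt N13245 (iv F75111)))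
theorem Q12816 : ∀ i, i < 12816 → P i := stepQ 12815 Q12815 (allL N12815 (tt N13107 (iv F74517)) (tt N13250 (iv F75134)) (tt N12312 F73321) (tt N12267 (iv D18702)) (tt N12815 F73322) (tt N13252 D19139) (tt N12448 F73323) (tt N13048 (iv F74226)) (tt N13246 (iv F75117)))
theorem Q12817 : ∀ i, i < 12817 → P i := stepQ 12816 Q12816 (allL N12816 (tt N13173 (iv F74802)) (tt N13251 (iv F75139)) (tt N12268 F73324) (tt N13252 (iv F75143)) (tt N13008 (iv F74004)) (tt N12267 (iv D18703)) (tt N13253 D19140) (tt N12272 F73325) (tt N13247 (iv F75122)))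
theorem Q12818 : ∀ i, i < 12818 → P i := stepQ 12817 Q12817 (allL N12817 (tt N13242 (iv F75091)) (tt N12286 F73326) (tt N13253 (iv F75144)) (tt N12314 F73327) (tt N13243 (iv F75096)) (tt N12450 F73328) (tt N12268 (iv D18704)) (tt N12273 F73329) (tt N13248 (iv F75129)))
theorem Q12819 : ∀ i, i < 12819 → P i := stepQ 12818 Q12818 (allL N12818 (tt N13233 (iv F75052)) (tt N12293 F73330) (tt N13007 (iv F73999)) (tt N12368 F73331) (tt N12273 F73332) (tt N13198 (iv F74903)) (tt N12269 (iv D18705)) (tt N13243 (iv F75098)) (tt N12370 F73333))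
theorem Q12820 : ∀ i, i < 12820 → P i := stepQ 12819 Q12819 (allL N12819 (tt N12271 F73334) (tt N13166 (iv F74777)) (tt N12294 F73335) (tt N12873 (iv F73526)) (tt N12270 (iv D18706)) (tt N13254 D19141) (tt N12458 F73336) (tt N13249 (iv F75133)) (tt N12804 F73337))
theorem Q12821 : ∀ i, i < 12821 → P i := stepQ 12820 Q12820 (allL N12820 (tt N13254 (iv F75147)) (tt N12272 F73338) (tt N12295 F73339) (tt N12885 (iv F73578)) (tt N13004 (iv F73992)) (tt N12271 (iv D18707)) (tt N13255 D19142) (tt N13251 (iv F75141)) (tt N12805 F73340))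
theorem Q12822 : ∀ i, i < 12822 → P i := stepQ 12821 Q12821 (allL N12821 (tt N13172 (iv F74797)) (tt N13255 (iv F75150)) (tt N12273 F73341) (tt N13063 (iv F74309)) (tt N13007 (iv F74001)) (tt N12460 F73342) (tt N12272 (iv D18708)) (tt N13253 (iv F75146)) (tt N12806 F73343))
theorem Q12823 : ∀ i, i < 12823 → P i := stepQ 12822 Q12822 (allL N12822 (tt N12586 F73344) (tt N12846 (iv F73425)) (tt N13003 (iv F73986)) (tt N12279 F73345) (tt N12319 F73346) (tt N12274 (iv D18709)) (tt N13256 D19143) (tt N12765 F73347) (tt N12642 F73348))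
theorem Q12824 : ∀ i, i < 12824 → P i := stepQ 12823 Q12823 (allL N12823 (tt N12917 (iv F73698)) (tt N12275 (iv D18710)) (tt N12709 F73349) (tt N12371 F73350) (tt N13257 D19144) (tt N12280 F73351) (tt N12382 F73352) (tt N12708 F73353) (tt N12277 F73354))
theorem Q12825 : ∀ i, i < 12825 → P i := stepQ 12824 Q12824 (allL N12824 (tt N12451 F73355) (tt N13257 (iv F75160)) (tt N12276 F73356) (tt N12976 (iv F73889)) (tt N12275 (iv D18711)) (tt N13258 D19145) (tt N12383 F73357) (tt N12719 F73358) (tt N12278 F73359))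
theorem Q12826 : ∀ i, i < 12826 → P i := stepQ 12825 Q12825 (allL N12825 (tt N12452 F73360) (tt N12807 F73361) (tt N13258 (iv F75166)) (tt N12642 F73362) (tt N12282 F73363) (tt N12276 (iv D18712)) (tt N13259 D19146) (tt N12720 F73364) (tt N12279 F73365))
theorem Q12827 : ∀ i, i < 12827 → P i := stepQ 12826 Q12826 (allL N12826 (tt N13200 (iv F74910)) (tt N12278 F73366) (tt N13005 (iv F73995)) (tt N13199 (iv F74908)) (tt N12277 (iv D18713)) (tt N13260 D19147) (tt N12736 F73367) (tt N12290 F73368) (tt N13257 (iv F75164)))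
theorem Q12828 : ∀ i, i < 12828 → P i := stepQ 12827 Q12827 (allL N12827 (tt N12290 F73369) (tt N13199 (iv F74907)) (tt N13002 (iv F73982)) (tt N12278 (iv D18714)) (tt N12289 F73370) (tt N13261 D19148) (tt N12737 F73371) (tt N13200 (iv F74914)) (tt N12976 (iv F73891)))
theorem Q12829 : ∀ i, i < 12829 → P i := stepQ 12828 Q12828 (allL N12828 (tt N12837 (iv F73395)) (tt N13260 (iv F75177)) (tt N12279 F73372) (tt N13261 (iv F75181)) (tt N12285 F73373) (tt N12278 (iv D18715)) (tt N13262 D19149) (tt N12292 F73374) (tt N13258 (iv F75169)))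
theorem Q12830 : ∀ i, i < 12830 → P i := stepQ 12829 Q12829 (allL N12829 (tt N12838 (iv F73399)) (tt N13243 (iv F75095)) (tt N13262 (iv F75183)) (tt N13256 (iv F75155)) (tt N12286 F73375) (tt N12739 F73376) (tt N12279 (iv D18716)) (tt N12293 F73377) (tt N13259 (iv F75176)))
theorem Q12831 : ∀ i, i < 12831 → P i := stepQ 12830 Q12830 (allL N12830 (tt N12280 (iv D18717)) (tt N12521 F73378) (tt N13244 (iv F75101)) (tt N12372 F73379) (tt N13263 D19150) (tt N12917 (iv F73700)) (tt N12960 (iv F73832)) (tt N12964 (iv F73850)) (tt N12283 F73380))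
theorem Q12832 : ∀ i, i < 12832 → P i := stepQ 12831 Q12831 (allL N12831 (tt N13263 (iv F75187)) (tt N12281 F73381) (tt N13245 (iv F75108)) (tt N12878 (iv F73551)) (tt N12280 (iv D18718)) (tt N13264 D19151) (tt N12952 (iv F73800)) (tt N12965 (iv F73854)) (tt N12284 F73382))
theorem Q12833 : ∀ i, i < 12833 → P i := stepQ 12832 Q12832 (allL N12832 (tt N12890 (iv F73599)) (tt N13264 (iv F75191)) (tt N12282 F73383) (tt N12879 (iv F73556)) (tt N13258 (iv F75167)) (tt N12281 (iv D18719)) (tt N13265 D19152) (tt N12967 (iv F73860)) (tt N12285 F73384))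
theorem Q12834 : ∀ i, i < 12834 → P i := stepQ 12833 Q12833 (allL N12833 (tt N13198 (iv F74899)) (tt N13248 (iv F75124)) (tt N13265 (iv F75193)) (tt N12323 F73385) (tt N13259 (iv F75173)) (tt N13233 (iv F75056)) (tt N12282 (iv D18720)) (tt N12968 (iv F73863)) (tt N12286 F73386))
theorem Q12835 : ∀ i, i < 12835 → P i := stepQ 12834 Q12834 (allL N12834 (tt N12284 F73387) (tt N12644 F73388) (tt N13249 (iv F75131)) (tt N12643 F73389) (tt N12283 (iv D18721)) (tt N13266 D19153) (tt N12956 (iv F73815)) (tt N12294 F73390) (tt N13263 (iv F75190)))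
theorem Q12836 : ∀ i, i < 12836 → P i := stepQ 12835 Q12835 (allL N12835 (tt N13266 (iv F75195)) (tt N12285 F73391) (tt N13251 (iv F75140)) (tt N12881 (iv F73563)) (tt N13260 (iv F75178)) (tt N12284 (iv D18722)) (tt N13267 D19154) (tt N12295 F73392) (tt N13264 (iv F75192)))
theorem Q12837 : ∀ i, i < 12837 → P i := stepQ 12836 Q12836 (allL N12836 (tt N12894 (iv F73615)) (tt N13267 (iv F75199)) (tt N12286 F73393) (tt N12882 (iv F73567)) (tt N13262 (iv F75184)) (tt N12959 (iv F73827)) (tt N12285 (iv D18723)) (tt N12296 F73394) (tt N13265 (iv F75194)))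
theorem Q12838 : ∀ i, i < 12838 → P i := stepQ 12837 Q12837 (allL N12837 (tt N12828 F73395) (tt N12840 (iv F73406)) (tt N12288 F73396) (tt N12839 (iv F73404)) (tt N12358 F73397) (tt N12287 (iv D18724)) (tt N13268 D19155) (tt N12738 F73398) (tt N12974 (iv F73881)))
theorem Q12839 : ∀ i, i < 12839 → P i := stepQ 12838 Q12838 (allL N12838 (tt N12829 F73399) (tt N13198 (iv F74900)) (tt N13268 (iv F75202)) (tt N13076 (iv F74378)) (tt N12734 F73400) (tt N12293 F73401) (tt N12288 (iv D18725)) (tt N12739 F73402) (tt N12975 (iv F73886)))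
theorem Q12840 : ∀ i, i < 12840 → P i := stepQ 12839 Q12839 (allL N12839 (tt N13261 (iv F75180)) (tt N12292 F73403) (tt N13004 (iv F73990)) (tt N12837 F73404) (tt N12295 F73405) (tt N12290 (iv D18726)) (tt N13269 D19156) (tt N13260 (iv F75179)) (tt N12977 (iv F73896)))
theorem Q12841 : ∀ i, i < 12841 → P i := stepQ 12840 Q12840 (allL N12840 (tt N13202 (iv F74918)) (tt N12837 F73406) (tt N13077 (iv F74383)) (tt N12292 F73407) (tt N12892 (iv F73608)) (tt N12291 (iv D18727)) (tt N13270 D19157) (tt N13201 (iv F74917)) (tt N12978 (iv F73900)))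
theorem Q12842 : ∀ i, i < 12842 → P i := stepQ 12841 Q12841 (allL N12841 (tt N13203 (iv F74921)) (tt N13269 (iv F75206)) (tt N12293 F73408) (tt N13270 (iv F75210)) (tt N12296 F73409) (tt N13268 (iv F75204)) (tt N12292 (iv D18728)) (tt N13262 (iv F75186)) (tt N12979 (iv F73903)))
theorem Q12843 : ∀ i, i < 12843 → P i := stepQ 12842 Q12842 (allL N12842 (tt N12295 F73410) (tt N13204 (iv F74925)) (tt N13254 (iv F75148)) (tt N12876 (iv F73544)) (tt N13261 (iv F75182)) (tt N12294 (iv D18729)) (tt N13271 D19158) (tt N13266 (iv F75198)) (tt N12980 (iv F73905)))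
theorem Q12844 : ∀ i, i < 12844 → P i := stepQ 12843 Q12843 (allL N12843 (tt N13271 (iv F75212)) (tt N12296 F73411) (tt N13255 (iv F75151)) (tt N12889 (iv F73596)) (tt N13269 (iv F75208)) (tt N13241 (iv F75090)) (tt N12295 (iv D18730)) (tt N13267 (iv F75200)) (tt N12981 (iv F73907)))
theorem Q12845 : ∀ i, i < 12845 → P i := stepQ 12844 Q12844 (allL N12844 (tt N12404 F73412) (tt N12297 (iv D18731)) (tt N12424 F73413) (tt N12844 F73414) (tt N13272 D19159) (tt N12440 F73415) (tt N12395 F73416) (tt N12337 F73417) (tt N12299 F73418))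
theorem Q12846 : ∀ i, i < 12846 → P i := stepQ 12845 Q12845 (allL N12845 (tt N12310 F73419) (tt N13272 (iv F75214)) (tt N12298 F73420) (tt N13273 D19160) (tt N12297 (iv D18732)) (tt N13274 D19161) (tt N12396 F73421) (tt N12338 F73422) (tt N12300 F73423))
theorem Q12847 : ∀ i, i < 12847 → P i := stepQ 12846 Q12846 (allL N12846 (tt N12311 F73424) (tt N12822 F73425) (tt N13274 (iv F75226)) (tt N12809 F73426) (tt N12854 (iv F73460)) (tt N12298 (iv D18733)) (tt N13275 D19162) (tt N12339 F73427) (tt N12301 F73428))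
theorem Q12848 : ∀ i, i < 12848 → P i := stepQ 12847 Q12847 (allL N12847 (tt N12407 F73429) (tt N12300 F73430) (tt N12429 F73431) (tt N13276 D19163) (tt N12299 (iv D18734)) (tt N13277 D19164) (tt N12398 F73432) (tt N12302 F73433) (tt N13272 (iv F75218)))
theorem Q12849 : ∀ i, i < 12849 → P i := stepQ 12848 Q12848 (allL N12848 (tt N12312 F73434) (tt N13276 (iv F75236)) (tt N13107 (iv F74518)) (tt N12300 (iv D18735)) (tt N12848 F73435) (tt N13278 D19165) (tt N12399 F73436) (tt N13037 (iv F74158)) (tt N13273 (iv F75224)))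
theorem Q12850 : ∀ i, i < 12850 → P i := stepQ 12849 Q12849 (allL N12849 (tt N12313 F73437) (tt N13277 (iv F75241)) (tt N12301 F73438) (tt N13278 (iv F75246)) (tt N13142 (iv F74687)) (tt N12300 (iv D18736)) (tt N13279 D19166) (tt N12303 F73439) (tt N13274 (iv F75228)))
theorem Q12851 : ∀ i, i < 12851 → P i := stepQ 12850 Q12850 (allL N12850 (tt N12314 F73440) (tt N13124 (iv F74598)) (tt N13279 (iv F75248)) (tt N13242 (iv F75092)) (tt N13143 (iv F74691)) (tt N12401 F73441) (tt N12301 (iv D18737)) (tt N12304 F73442) (tt N13275 (iv F75234)))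
theorem Q12852 : ∀ i, i < 12852 → P i := stepQ 12851 Q12851 (allL N12851 (tt N12411 F73443) (tt N12303 F73444) (tt N12415 F73445) (tt N12315 F73446) (tt N12412 F73447) (tt N12302 (iv D18738)) (tt N13280 D19167) (tt N13277 (iv F75244)) (tt N12345 F73448))
theorem Q12853 : ∀ i, i < 12853 → P i := stepQ 12852 Q12852 (allL N12852 (tt N12317 F73449) (tt N13280 (iv F75252)) (tt N12304 F73450) (tt N13040 (iv F74176)) (tt N13159 (iv F74743)) (tt N12403 F73451) (tt N12303 (iv D18739)) (tt N13279 (iv F75250)) (tt N12346 F73452))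
theorem Q12854 : ∀ i, i < 12854 → P i := stepQ 12853 Q12853 (allL N12853 (tt N12582 F73453) (tt N12942 (iv F73762)) (tt N12306 F73454) (tt N13281 D19168) (tt N12305 (iv D18740)) (tt N13282 D19169) (tt N12667 F73455) (tt N12590 F73456) (tt N12665 F73457))
theorem Q12855 : ∀ i, i < 12855 → P i := stepQ 12854 Q12854 (allL N12854 (tt N12855 (iv F73462)) (tt N12319 F73458) (tt N13282 (iv F75264)) (tt N12309 F73459) (tt N12846 F73460) (tt N12306 (iv D18741)) (tt N13283 D19170) (tt N12875 (iv F73540)) (tt N12666 F73461))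
theorem Q12856 : ∀ i, i < 12856 → P i := stepQ 12855 Q12855 (allL N12855 (tt N12854 F73462) (tt N12321 F73463) (tt N13073 (iv F74367)) (tt N12666 F73464) (tt N12311 F73465) (tt N12307 (iv D18742)) (tt N13284 D19171) (tt N12350 F73466) (tt N12309 F73467))
theorem Q12857 : ∀ i, i < 12857 → P i := stepQ 12856 Q12856 (allL N12856 (tt N13141 (iv F74678)) (tt N13037 (iv F74154)) (tt N13281 (iv F75259)) (tt N12308 (iv D18743)) (tt N12856 F73468) (tt N13285 D19172) (tt N13051 (iv F74241)) (tt N13276 (iv F75239)) (tt N13072 (iv F74365)))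
theorem Q12858 : ∀ i, i < 12858 → P i := stepQ 12857 Q12857 (allL N12857 (tt N13142 (iv F74684)) (tt N13038 (iv F74161)) (tt N12309 F73469) (tt N13285 (iv F75280)) (tt N12313 F73470) (tt N12308 (iv D18744)) (tt N13286 D19173) (tt N12315 F73471) (tt N13073 (iv F74370)))
theorem Q12859 : ∀ i, i < 12859 → P i := stepQ 12858 Q12858 (allL N12858 (tt N13143 (iv F74689)) (tt N12322 F73472) (tt N13286 (iv F75281)) (tt N13283 (iv F75269)) (tt N12314 F73473) (tt N13132 (iv F74640)) (tt N12309 (iv D18745)) (tt N12316 F73474) (tt N13284 (iv F75279)))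
theorem Q12860 : ∀ i, i < 12860 → P i := stepQ 12859 Q12859 (allL N12859 (tt N13273 (iv F75219)) (tt N13069 (iv F74346)) (tt N13246 (iv F75113)) (tt N12310 (iv D18746)) (tt N12859 F73475) (tt N13287 D19174) (tt N12468 F73476) (tt N13188 (iv F74870)) (tt N12312 F73477))
theorem Q12861 : ∀ i, i < 12861 → P i := stepQ 12860 Q12860 (allL N12860 (tt N13274 (iv F75225)) (tt N13070 (iv F74351)) (tt N12311 F73478) (tt N13287 (iv F75284)) (tt N13073 (iv F74368)) (tt N12310 (iv D18747)) (tt N13288 D19175) (tt N12354 F73479) (tt N12313 F73480))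
theorem Q12862 : ∀ i, i < 12862 → P i := stepQ 12861 Q12861 (allL N12861 (tt N13275 (iv F75229)) (tt N12323 F73481) (tt N13288 (iv F75286)) (tt N13248 (iv F75125)) (tt N13284 (iv F75276)) (tt N12470 F73482) (tt N12311 (iv D18748)) (tt N12355 F73483) (tt N12314 F73484))
theorem Q12863 : ∀ i, i < 12863 → P i := stepQ 12862 Q12862 (allL N12862 (tt N13278 (iv F75245)) (tt N13210 (iv F74952)) (tt N13252 (iv F75142)) (tt N12313 F73485) (tt N13289 D19176) (tt N12312 (iv D18749)) (tt N13290 D19177) (tt N13084 (iv F74418)) (tt N13287 (iv F75285)))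
theorem Q12864 : ∀ i, i < 12864 → P i := stepQ 12863 Q12863 (allL N12863 (tt N13279 (iv F75247)) (tt N13211 (iv F74955)) (tt N12314 F73486) (tt N13290 (iv F75291)) (tt N13286 (iv F75282)) (tt N12472 F73487) (tt N12313 (iv D18750)) (tt N12317 F73488) (tt N13288 (iv F75289)))
theorem Q12865 : ∀ i, i < 12865 → P i := stepQ 12864 Q12864 (allL N12864 (tt N13159 (iv F74739)) (tt N13040 (iv F74174)) (tt N12316 F73489) (tt N13280 (iv F75254)) (tt N12317 F73490) (tt N13056 (iv F74266)) (tt N12315 (iv D18751)) (tt N13286 (iv F75283)) (tt N12361 F73491))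
theorem Q12866 : ∀ i, i < 12866 → P i := stepQ 12865 Q12865 (allL N12865 (tt N12997 (iv F73955)) (tt N12946 (iv F73774)) (tt N12319 F73492) (tt N13088 (iv F74438)) (tt N13003 (iv F73987)) (tt N12318 (iv D18752)) (tt N13291 D19178) (tt N13092 (iv F74458)) (tt N12561 F73493))
theorem Q12867 : ∀ i, i < 12867 → P i := stepQ 12866 Q12866 (allL N12866 (tt N13206 (iv F74931)) (tt N13283 (iv F75268)) (tt N13291 (iv F75293)) (tt N12322 F73494) (tt N13256 (iv F75156)) (tt N12690 F73495) (tt N12319 (iv D18753)) (tt N13093 (iv F74461)) (tt N12687 F73496))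
theorem Q12868 : ∀ i, i < 12868 → P i := stepQ 12867 Q12867 (allL N12867 (tt N13059 (iv F74283)) (tt N13132 (iv F74638)) (tt N13042 (iv F74189)) (tt N12690 F73497) (tt N13058 (iv F74279)) (tt N12322 F73498) (tt N12320 (iv D18754)) (tt N12324 F73499) (tt N12686 F73500))
theorem Q12869 : ∀ i, i < 12869 → P i := stepQ 12868 Q12868 (allL N12868 (tt N13207 (iv F74936)) (tt N13284 (iv F75274)) (tt N13068 (iv F74339)) (tt N12687 F73501) (tt N12323 F73502) (tt N12686 F73503) (tt N12321 (iv D18755)) (tt N12366 F73504) (tt N12322 F73505))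
theorem Q12870 : ∀ i, i < 12870 → P i := stepQ 12869 Q12869 (allL N12869 (tt N13088 (iv F74435)) (tt N12998 (iv F73962)) (tt N12326 F73506) (tt N12997 (iv F73958)) (tt N12885 (iv F73579)) (tt N12325 (iv D18756)) (tt N13292 D19179) (tt N13134 (iv F74649)) (tt N12476 F73507))
theorem Q12871 : ∀ i, i < 12871 → P i := stepQ 12870 Q12870 (allL N12870 (tt N13089 (iv F74441)) (tt N12475 F73508) (tt N13292 (iv F75296)) (tt N12329 F73509) (tt N12886 (iv F73583)) (tt N12481 F73510) (tt N12326 (iv D18757)) (tt N13135 (iv F74655)) (tt N12477 F73511))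
theorem Q12872 : ∀ i, i < 12872 → P i := stepQ 12871 Q12871 (allL N12871 (tt N13042 (iv F74187)) (tt N12477 F73512) (tt N13059 (iv F74285)) (tt N12481 F73513) (tt N12365 F73514) (tt N12329 F73515) (tt N12327 (iv D18758)) (tt N12331 F73516) (tt N12475 F73517))
theorem Q12873 : ∀ i, i < 12873 → P i := stepQ 12872 Q12872 (allL N12872 (tt N13068 (iv F74337)) (tt N12481 F73518) (tt N13207 (iv F74938)) (tt N12477 F73519) (tt N12330 F73520) (tt N12475 F73521) (tt N12328 (iv D18759)) (tt N13067 (iv F74335)) (tt N12329 F73522))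
theorem Q12874 : ∀ i, i < 12874 → P i := stepQ 12873 Q12873 (allL N12873 (tt N12347 F73523) (tt N12693 F73524) (tt N12333 F73525) (tt N12819 F73526) (tt N12332 (iv D18760)) (tt N13293 D19180) (tt N12590 F73527) (tt N12667 F73528) (tt N12567 F73529))
theorem Q12875 : ∀ i, i < 12875 → P i := stepQ 12874 Q12874 (allL N12874 (tt N12348 F73530) (tt N12612 F73531) (tt N13293 (iv F75301)) (tt N12336 F73532) (tt N12602 F73533) (tt N12333 (iv D18761)) (tt N13294 D19181) (tt N12668 F73534) (tt N12600 F73535))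
theorem Q12876 : ∀ i, i < 12876 → P i := stepQ 12875 Q12875 (allL N12875 (tt N12350 F73536) (tt N12608 F73537) (tt N13080 (iv F74398)) (tt N12600 F73538) (tt N12339 F73539) (tt N12334 (iv D18762)) (tt N13295 D19182) (tt N12854 F73540) (tt N12336 F73541))
theorem Q12877 : ∀ i, i < 12877 → P i := stepQ 12876 Q12876 (allL N12876 (tt N12351 F73542) (tt N13128 (iv F74616)) (tt N12336 F73543) (tt N12842 F73544) (tt N12341 F73545) (tt N12335 (iv D18763)) (tt N13296 D19183) (tt N12343 F73546) (tt N13080 (iv F74401)))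
theorem Q12878 : ∀ i, i < 12878 → P i := stepQ 12877 Q12877 (allL N12877 (tt N12352 F73547) (tt N13094 (iv F74463)) (tt N13296 (iv F75320)) (tt N13294 (iv F75308)) (tt N12342 F73548) (tt N13087 (iv F74433)) (tt N12336 (iv D18764)) (tt N12344 F73549) (tt N13295 (iv F75318)))
theorem Q12879 : ∀ i, i < 12879 → P i := stepQ 12878 Q12878 (allL N12878 (tt N13028 (iv F74102)) (tt N12338 F73550) (tt N13162 (iv F74760)) (tt N12831 F73551) (tt N12337 (iv D18765)) (tt N13297 D19184) (tt N12425 F73552) (tt N13272 (iv F75217)) (tt N12340 F73553))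
theorem Q12880 : ∀ i, i < 12880 → P i := stepQ 12879 Q12879 (allL N12879 (tt N12354 F73554) (tt N13297 (iv F75324)) (tt N12339 F73555) (tt N12832 F73556) (tt N13080 (iv F74400)) (tt N12338 (iv D18766)) (tt N13298 D19185) (tt N13274 (iv F75227)) (tt N12341 F73557))
theorem Q12881 : ∀ i, i < 12881 → P i := stepQ 12880 Q12880 (allL N12880 (tt N12355 F73558) (tt N13216 (iv F74981)) (tt N13298 (iv F75328)) (tt N12763 F73559) (tt N13295 (iv F75315)) (tt N12428 F73560) (tt N12339 (iv D18767)) (tt N13275 (iv F75233)) (tt N12342 F73561))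
theorem Q12882 : ∀ i, i < 12882 → P i := stepQ 12881 Q12881 (allL N12881 (tt N13125 (iv F74603)) (tt N12341 F73562) (tt N13161 (iv F74755)) (tt N12835 F73563) (tt N13128 (iv F74618)) (tt N12340 (iv D18768)) (tt N13299 D19186) (tt N12345 F73564) (tt N13297 (iv F75326)))
theorem Q12883 : ∀ i, i < 12883 → P i := stepQ 12882 Q12882 (allL N12882 (tt N12359 F73565) (tt N13299 (iv F75332)) (tt N12342 F73566) (tt N12836 F73567) (tt N13296 (iv F75322)) (tt N12433 F73568) (tt N12341 (iv D18769)) (tt N12346 F73569) (tt N13298 (iv F75331)))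
theorem Q12884 : ∀ i, i < 12884 → P i := stepQ 12883 Q12883 (allL N12883 (tt N12361 F73570) (tt N13131 (iv F74631)) (tt N12344 F73571) (tt N13130 (iv F74626)) (tt N12346 F73572) (tt N13066 (iv F74327)) (tt N12343 (iv D18770)) (tt N13296 (iv F75323)) (tt N13159 (iv F74745)))
theorem Q12885 : ∀ i, i < 12885 → P i := stepQ 12884 Q12884 (allL N12884 (tt N13130 (iv F74623)) (tt N12346 F73573) (tt N13160 (iv F74748)) (tt N12361 F73574) (tt N13131 (iv F74634)) (tt N12435 F73575) (tt N12345 (iv D18771)) (tt N13299 (iv F75335)) (tt N13280 (iv F75257)))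
theorem Q12886 : ∀ i, i < 12886 → P i := stepQ 12885 Q12885 (allL N12885 (tt N13293 (iv F75299)) (tt N12565 F73576) (tt N12348 F73577) (tt N12820 F73578) (tt N12869 F73579) (tt N12347 (iv D18772)) (tt N13300 D19187) (tt N13139 (iv F74671)) (tt N12568 F73580))
theorem Q12887 : ∀ i, i < 12887 → P i := stepQ 12886 Q12886 (allL N12886 (tt N13294 (iv F75306)) (tt N12364 F73581) (tt N13300 (iv F75337)) (tt N12352 F73582) (tt N12870 F73583) (tt N12888 (iv F73592)) (tt N12348 (iv D18773)) (tt N13140 (iv F74676)) (tt N12887 (iv F73588)))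
theorem Q12888 : ∀ i, i < 12888 → P i := stepQ 12887 Q12887 (allL N12887 (tt N13087 (iv F74430)) (tt N12365 F73584) (tt N13065 (iv F74318)) (tt N12888 (iv F73590)) (tt N12477 F73585) (tt N12352 F73586) (tt N12349 (iv D18774)) (tt N12360 F73587) (tt N12886 F73588))
theorem Q12889 : ∀ i, i < 12889 → P i := stepQ 12888 Q12888 (allL N12888 (tt N13295 (iv F75312)) (tt N12366 F73589) (tt N13081 (iv F74403)) (tt N12887 F73590) (tt N12355 F73591) (tt N12886 F73592) (tt N12350 (iv D18775)) (tt N13284 (iv F75278)) (tt N12352 F73593))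
theorem Q12890 : ∀ i, i < 12890 → P i := stepQ 12889 Q12889 (allL N12889 (tt N13296 (iv F75319)) (tt N12792 F73594) (tt N12352 F73595) (tt N12843 F73596) (tt N12359 F73597) (tt N13065 (iv F74320)) (tt N12351 (iv D18776)) (tt N12361 F73598) (tt N13081 (iv F74406)))
theorem Q12891 : ∀ i, i < 12891 → P i := stepQ 12890 Q12890 (allL N12890 (tt N12832 F73599) (tt N13077 (iv F74382)) (tt N12733 F73600) (tt N12354 F73601) (tt N12974 (iv F73879)) (tt N12353 (iv D18777)) (tt N13301 D19188) (tt N13189 (iv F74875)) (tt N12358 F73602))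
theorem Q12892 : ∀ i, i < 12892 → P i := stepQ 12891 Q12891 (allL N12891 (tt N13298 (iv F75327)) (tt N13079 (iv F74392)) (tt N12355 F73603) (tt N13301 (iv F75344)) (tt N13081 (iv F74405)) (tt N12490 F73604) (tt N12354 (iv D18778)) (tt N13288 (iv F75288)) (tt N12359 F73605))
theorem Q12893 : ∀ i, i < 12893 → P i := stepQ 12892 Q12892 (allL N12892 (tt N13126 (iv F74608)) (tt N12358 F73606) (tt N12978 (iv F73898)) (tt N12357 F73607) (tt N12840 F73608) (tt N12356 (iv D18779)) (tt N13302 D19189) (tt N12741 F73609) (tt N13077 (iv F74386)))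
theorem Q12894 : ∀ i, i < 12894 → P i := stepQ 12893 Q12893 (allL N12893 (tt N13127 (iv F74610)) (tt N12359 F73610) (tt N12369 F73611) (tt N13302 (iv F75348)) (tt N12792 F73612) (tt N12494 F73613) (tt N12357 (iv D18780)) (tt N12362 F73614) (tt N13079 (iv F74396)))
theorem Q12895 : ∀ i, i < 12895 → P i := stepQ 12894 Q12894 (allL N12894 (tt N12836 F73615) (tt N13302 (iv F75347)) (tt N12734 F73616) (tt N12359 F73617) (tt N13268 (iv F75203)) (tt N12495 F73618) (tt N12358 (iv D18781)) (tt N12742 F73619) (tt N13301 (iv F75346)))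
theorem Q12896 : ∀ i, i < 12896 → P i := stepQ 12895 Q12895 (allL N12895 (tt N12802 F73620) (tt N12566 F73621) (tt N12364 F73622) (tt N12575 F73623) (tt N12995 (iv F73950)) (tt N12579 F73624) (tt N12363 (iv D18782)) (tt N12947 (iv F73781)) (tt N12558 F73625))
theorem Q12897 : ∀ i, i < 12897 → P i := stepQ 12896 Q12896 (allL N12896 (tt N12373 (iv D18783)) (tt N12710 F73626) (tt N12385 F73627) (tt N12896 F73628) (tt N13303 D19190) (tt N12904 (iv F73650)) (tt N13179 (iv F74826)) (tt N12909 (iv F73669)) (tt N12726 F73629))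
theorem Q12898 : ∀ i, i < 12898 → P i := stepQ 12897 Q12897 (allL N12897 (tt N13303 (iv F75352)) (tt N12374 F73630) (tt N12386 F73631) (tt N13304 D19191) (tt N12373 (iv D18784)) (tt N13305 D19192) (tt N13168 (iv F74786)) (tt N12910 (iv F73673)) (tt N12727 F73632))
theorem Q12899 : ∀ i, i < 12899 → P i := stepQ 12898 Q12898 (allL N12898 (tt N12961 (iv F73834)) (tt N13304 (iv F75356)) (tt N12376 F73633) (tt N12374 (iv D18785)) (tt N12898 F73634) (tt N13306 D19193) (tt N13183 (iv F74846)) (tt N13307 D19194) (tt N12728 F73635))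
theorem Q12900 : ∀ i, i < 12900 → P i := stepQ 12899 Q12899 (allL N12899 (tt N12962 (iv F73838)) (tt N13305 (iv F75359)) (tt N12375 F73636) (tt N13306 (iv F75363)) (tt N12907 (iv F73659)) (tt N12374 (iv D18786)) (tt N13308 D19195) (tt N12912 (iv F73682)) (tt N12729 F73637))
theorem Q12901 : ∀ i, i < 12901 → P i := stepQ 12900 Q12900 (allL N12900 (tt N12963 (iv F73842)) (tt N12388 F73638) (tt N13308 (iv F75369)) (tt N12378 F73639) (tt N12908 (iv F73663)) (tt N13185 (iv F74856)) (tt N12375 (iv D18787)) (tt N12913 (iv F73688)) (tt N12730 F73640))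
theorem Q12902 : ∀ i, i < 12902 → P i := stepQ 12901 Q12901 (allL N12901 (tt N13181 (iv F74835)) (tt N13021 (iv F74067)) (tt N13306 (iv F75362)) (tt N12377 F73641) (tt N13309 D19196) (tt N12376 (iv D18788)) (tt N13310 D19197) (tt N13311 D19198) (tt N12731 F73642))
theorem Q12903 : ∀ i, i < 12903 → P i := stepQ 12902 Q12902 (allL N12902 (tt N13119 (iv F74571)) (tt N13022 (iv F74070)) (tt N13307 (iv F75366)) (tt N12393 F73643) (tt N12902 F73644) (tt N13311 (iv F75376)) (tt N13099 (iv F74491)) (tt N12376 (iv D18789)) (tt N13312 D19199))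
theorem Q12904 : ∀ i, i < 12904 → P i := stepQ 12903 Q12903 (allL N12903 (tt N13182 (iv F74838)) (tt N13023 (iv F74074)) (tt N12378 F73645) (tt N13310 (iv F75373)) (tt N13118 (iv F74567)) (tt N13187 (iv F74863)) (tt N12377 (iv D18790)) (tt N12394 F73646) (tt N12732 F73647))
theorem Q12905 : ∀ i, i < 12905 → P i := stepQ 12904 Q12904 (allL N12904 (tt N12379 (iv D18791)) (tt N12446 F73648) (tt N12909 (iv F73666)) (tt N12904 F73649) (tt N13313 D19200) (tt N12896 F73650) (tt N13180 (iv F74833)) (tt N12385 F73651) (tt N13035 (iv F74145)))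
theorem Q12906 : ∀ i, i < 12906 → P i := stepQ 12905 Q12905 (allL N12905 (tt N13313 (iv F75381)) (tt N12380 F73652) (tt N12910 (iv F73672)) (tt N13314 D19201) (tt N12379 (iv D18792)) (tt N13315 D19202) (tt N13170 (iv F74793)) (tt N12386 F73653) (tt N13078 (iv F74391)))
theorem Q12907 : ∀ i, i < 12907 → P i := stepQ 12906 Q12906 (allL N12906 (tt N12448 F73654) (tt N13314 (iv F75384)) (tt N12399 F73655) (tt N12380 (iv D18793)) (tt N12906 F73656) (tt N13316 D19203) (tt N13107 (iv F74521)) (tt N13025 (iv F74088)) (tt N13188 (iv F74871)))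
theorem Q12908 : ∀ i, i < 12908 → P i := stepQ 12907 Q12907 (allL N12907 (tt N12449 F73657) (tt N13315 (iv F75386)) (tt N12381 F73658) (tt N13316 (iv F75391)) (tt N12899 F73659) (tt N12380 (iv D18794)) (tt N13317 D19204) (tt N12387 F73660) (tt N13189 (iv F74876)))
theorem Q12909 : ∀ i, i < 12909 → P i := stepQ 12908 Q12908 (allL N12908 (tt N12450 F73661) (tt N12913 (iv F73685)) (tt N13317 (iv F75393)) (tt N12401 F73662) (tt N12900 F73663) (tt N13242 (iv F75093)) (tt N12381 (iv D18795)) (tt N12388 F73664) (tt N13190 (iv F74881)))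
theorem Q12910 : ∀ i, i < 12910 → P i := stepQ 12909 Q12909 (allL N12909 (tt N12382 (iv D18796)) (tt N12453 F73665) (tt N12904 F73666) (tt N12389 F73667) (tt N13318 D19205) (tt N12385 F73668) (tt N12917 (iv F73701)) (tt N12896 F73669) (tt N12735 F73670))
theorem Q12911 : ∀ i, i < 12911 → P i := stepQ 12910 Q12910 (allL N12910 (tt N13318 (iv F75396)) (tt N12383 F73671) (tt N12905 F73672) (tt N13319 D19206) (tt N12382 (iv D18797)) (tt N13320 D19207) (tt N13257 (iv F75162)) (tt N12897 F73673) (tt N12736 F73674))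
theorem Q12912 : ∀ i, i < 12912 → P i := stepQ 12911 Q12911 (allL N12911 (tt N12455 F73675) (tt N13319 (iv F75403)) (tt N12644 F73676) (tt N12383 (iv D18798)) (tt N12391 F73677) (tt N13321 D19208) (tt N12976 (iv F73890)) (tt N13191 (iv F74885)) (tt N12737 F73678))
theorem Q12913 : ∀ i, i < 12913 → P i := stepQ 12912 Q12912 (allL N12912 (tt N12456 F73679) (tt N13320 (iv F75407)) (tt N12384 F73680) (tt N13321 (iv F75414)) (tt N12387 F73681) (tt N12383 (iv D18799)) (tt N13322 D19209) (tt N12899 F73682) (tt N12738 F73683))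
theorem Q12914 : ∀ i, i < 12914 → P i := stepQ 12913 Q12913 (allL N12913 (tt N12457 F73684) (tt N12908 F73685) (tt N13322 (iv F75417)) (tt N12646 F73686) (tt N12388 F73687) (tt N13259 (iv F75174)) (tt N12384 (iv D18800)) (tt N12900 F73688) (tt N12739 F73689))
theorem Q12915 : ∀ i, i < 12915 → P i := stepQ 12914 Q12914 (allL N12914 (tt N12386 F73690) (tt N12458 F73691) (tt N13303 (iv F75354)) (tt N13032 (iv F74127)) (tt N12385 (iv D18801)) (tt N13323 D19210) (tt N13166 (iv F74779)) (tt N13313 (iv F75383)) (tt N12740 F73692))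
theorem Q12916 : ∀ i, i < 12916 → P i := stepQ 12915 Q12915 (allL N12915 (tt N13323 (iv F75421)) (tt N12387 F73693) (tt N13305 (iv F75360)) (tt N13033 (iv F74132)) (tt N13320 (iv F75409)) (tt N12386 (iv D18802)) (tt N13324 D19211) (tt N13315 (iv F75388)) (tt N12741 F73694))
theorem Q12917 : ∀ i, i < 12917 → P i := stepQ 12916 Q12916 (allL N12916 (tt N12460 F73695) (tt N13324 (iv F75424)) (tt N12388 F73696) (tt N13034 (iv F74136)) (tt N13322 (iv F75418)) (tt N13172 (iv F74800)) (tt N12387 (iv D18803)) (tt N13317 (iv F75395)) (tt N12742 F73697))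
theorem Q12918 : ∀ i, i < 12918 → P i := stepQ 12917 Q12917 (allL N12917 (tt N12823 F73698) (tt N12391 F73699) (tt N13180 (iv F74831)) (tt N12390 (iv D18804)) (tt N13319 (iv F75404)) (tt N12830 F73700) (tt N12909 F73701) (tt N13179 F74828) (tt N12743 F73702))
theorem Q12919 : ∀ i, i < 12919 → P i := stepQ 12918 Q12918 (allL N12918 (tt N13123 (iv F74590)) (tt N13043 (iv F74196)) (tt N13131 (iv F74632)) (tt N12394 F73703) (tt N13160 (iv F74750)) (tt N13115 (iv F74552)) (tt N12392 (iv D18805)) (tt N13325 D19212) (tt N12416 F73704))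
theorem Q12920 : ∀ i, i < 12920 → P i := stepQ 12919 Q12919 (allL N12919 (tt N13120 (iv F74576)) (tt N13044 (iv F74203)) (tt N13128 (iv F74617)) (tt N13311 (iv F75375)) (tt N13161 (iv F74756)) (tt N12393 F73705) (tt N13325 (iv F75426)) (tt N12392 (iv D18806)) (tt N13326 D19213))
theorem Q12921 : ∀ i, i < 12921 → P i := stepQ 12920 Q12920 (allL N12920 (tt N13017 (iv F74044)) (tt N12607 F73706) (tt N13032 (iv F74126)) (tt N13312 (iv F75378)) (tt N12439 F73707) (tt N13326 (iv F75428)) (tt N13095 (iv F74471)) (tt N12418 F73708) (tt N12393 (iv D18807)))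
theorem Q12922 : ∀ i, i < 12922 → P i := stepQ 12921 Q12921 (allL N12921 (tt N13162 (iv F74758)) (tt N12396 F73709) (tt N13028 (iv F74104)) (tt N13327 D19214) (tt N12395 (iv D18808)) (tt N13328 D19215) (tt N13272 (iv F75216)) (tt N12425 F73710) (tt N12398 F73711))
theorem Q12923 : ∀ i, i < 12923 → P i := stepQ 12922 Q12922 (allL N12922 (tt N12468 F73712) (tt N13327 (iv F75430)) (tt N13188 (iv F74867)) (tt N12396 (iv D18809)) (tt N12922 F73713) (tt N13329 D19216) (tt N13273 (iv F75222)) (tt N13246 (iv F75116)) (tt N12399 F73714))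
theorem Q12924 : ∀ i, i < 12924 → P i := stepQ 12923 Q12923 (allL N12923 (tt N12469 F73715) (tt N13328 (iv F75433)) (tt N12397 F73716) (tt N13329 (iv F75437)) (tt N13019 (iv F74057)) (tt N12396 (iv D18810)) (tt N13330 D19217) (tt N12427 F73717) (tt N12400 F73718))
theorem Q12925 : ∀ i, i < 12925 → P i := stepQ 12924 Q12924 (allL N12924 (tt N12470 F73719) (tt N13031 (iv F74119)) (tt N13330 (iv F75440)) (tt N13190 (iv F74879)) (tt N13020 (iv F74063)) (tt N13275 (iv F75232)) (tt N12397 (iv D18811)) (tt N12428 F73720) (tt N12401 F73721))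
theorem Q12926 : ∀ i, i < 12926 → P i := stepQ 12925 Q12925 (allL N12925 (tt N13148 (iv F74708)) (tt N12399 F73722) (tt N13331 D19218) (tt N12398 (iv D18812)) (tt N12925 F73723) (tt N13332 D19219) (tt N13276 (iv F75238)) (tt N13051 (iv F74242)) (tt N13327 (iv F75432)))
theorem Q12927 : ∀ i, i < 12927 → P i := stepQ 12926 Q12926 (allL N12926 (tt N13161 (iv F74753)) (tt N12400 F73724) (tt N13125 (iv F74605)) (tt N13332 (iv F75448)) (tt N13120 (iv F74579)) (tt N12398 (iv D18813)) (tt N13333 D19220) (tt N12402 F73725) (tt N13328 (iv F75435)))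
theorem Q12928 : ∀ i, i < 12928 → P i := stepQ 12927 Q12927 (allL N12927 (tt N12471 F73726) (tt N13332 (iv F75447)) (tt N13316 (iv F75390)) (tt N12400 F73727) (tt N13334 D19221) (tt N12399 (iv D18814)) (tt N13335 D19222) (tt N13053 (iv F74250)) (tt N13329 (iv F75438)))
theorem Q12929 : ∀ i, i < 12929 → P i := stepQ 12928 Q12928 (allL N12928 (tt N12472 F73728) (tt N13333 (iv F75449)) (tt N12401 F73729) (tt N13335 (iv F75454)) (tt N13122 (iv F74587)) (tt N13279 (iv F75249)) (tt N12400 (iv D18815)) (tt N12403 F73730) (tt N13330 (iv F75442)))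
theorem Q12930 : ∀ i, i < 12930 → P i := stepQ 12929 Q12929 (allL N12929 (tt N13160 (iv F74746)) (tt N12403 F73731) (tt N13130 (iv F74625)) (tt N13056 (iv F74264)) (tt N13123 (iv F74594)) (tt N13280 (iv F75256)) (tt N12402 (iv D18816)) (tt N13333 (iv F75450)) (tt N12435 F73732))
theorem Q12931 : ∀ i, i < 12931 → P i := stepQ 12930 Q12930 (allL N12930 (tt N13272 (iv F75213)) (tt N12405 F73733) (tt N12425 F73734) (tt N13336 D19223) (tt N12404 (iv D18817)) (tt N13337 D19224) (tt N13162 (iv F74762)) (tt N13028 (iv F74106)) (tt N12407 F73735))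
theorem Q12932 : ∀ i, i < 12932 → P i := stepQ 12931 Q12931 (allL N12931 (tt N13069 (iv F74345)) (tt N13336 (iv F75455)) (tt N12777 F73736) (tt N12405 (iv D18818)) (tt N12931 F73737) (tt N13338 D19225) (tt N13214 (iv F74973)) (tt N13339 D19226) (tt N12408 F73738))
theorem Q12933 : ∀ i, i < 12933 → P i := stepQ 12932 Q12932 (allL N12932 (tt N13070 (iv F74350)) (tt N13337 (iv F75458)) (tt N12406 F73739) (tt N13338 (iv F75462)) (tt N13026 (iv F74092)) (tt N12405 (iv D18819)) (tt N13340 D19227) (tt N13030 (iv F74116)) (tt N12409 F73740))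
theorem Q12934 : ∀ i, i < 12934 → P i := stepQ 12933 Q12933 (allL N12933 (tt N13071 (iv F74356)) (tt N12428 F73741) (tt N13340 (iv F75466)) (tt N12779 F73742) (tt N13027 (iv F74098)) (tt N13216 (iv F74984)) (tt N12406 (iv D18820)) (tt N13031 (iv F74122)) (tt N12410 F73743))
theorem Q12935 : ∀ i, i < 12935 → P i := stepQ 12934 Q12934 (allL N12934 (tt N13276 (iv F75235)) (tt N12408 F73744) (tt N12970 (iv F73869)) (tt N12407 (iv D18821)) (tt N12934 F73745) (tt N13341 D19228) (tt N13148 (iv F74712)) (tt N13141 (iv F74683)) (tt N13336 (iv F75457)))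
theorem Q12936 : ∀ i, i < 12936 → P i := stepQ 12935 Q12935 (allL N12935 (tt N13277 (iv F75240)) (tt N12409 F73746) (tt N12431 F73747) (tt N13341 (iv F75469)) (tt N13083 (iv F74415)) (tt N12407 (iv D18822)) (tt N13342 D19229) (tt N12411 F73748) (tt N13337 (iv F75460)))
theorem Q12937 : ∀ i, i < 12937 → P i := stepQ 12936 Q12936 (allL N12936 (tt N13210 (iv F74951)) (tt N13341 (iv F75468)) (tt N12780 F73749) (tt N12409 F73750) (tt N13343 D19230) (tt N12408 (iv D18823)) (tt N13344 D19231) (tt N13345 D19232) (tt N13338 (iv F75463)))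
theorem Q12938 : ∀ i, i < 12938 → P i := stepQ 12937 Q12937 (allL N12937 (tt N13082 (iv F74407)) (tt N13141 (iv F74679)) (tt N12623 F73751) (tt N12413 F73752) (tt N12937 F73753) (tt N13345 (iv F75479)) (tt N13109 (iv F74530)) (tt N12408 (iv D18824)) (tt N13346 D19233))
theorem Q12939 : ∀ i, i < 12939 → P i := stepQ 12938 Q12938 (allL N12938 (tt N13211 (iv F74954)) (tt N13342 (iv F75470)) (tt N12410 F73754) (tt N13344 (iv F75476)) (tt N13085 (iv F74420)) (tt N13218 (iv F74991)) (tt N12409 (iv D18825)) (tt N12414 F73755) (tt N13340 (iv F75467)))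
theorem Q12940 : ∀ i, i < 12940 → P i := stepQ 12939 Q12939 (allL N12939 (tt N13280 (iv F75251)) (tt N12414 F73756) (tt N12435 F73757) (tt N13159 (iv F74742)) (tt N13086 (iv F74427)) (tt N13160 (iv F74751)) (tt N12411 (iv D18826)) (tt N13342 (iv F75472)) (tt N13130 (iv F74629)))
theorem Q12941 : ∀ i, i < 12941 → P i := stepQ 12940 Q12940 (allL N12940 (tt N13086 (iv F74423)) (tt N13159 (iv F74740)) (tt N12416 F73758) (tt N12414 F73759) (tt N13280 (iv F75255)) (tt N13116 (iv F74559)) (tt N12412 (iv D18827)) (tt N13347 D19234) (tt N13131 (iv F74636)))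
theorem Q12942 : ∀ i, i < 12942 → P i := stepQ 12941 Q12941 (allL N12941 (tt N13083 (iv F74412)) (tt N13142 (iv F74685)) (tt N12417 F73760) (tt N13345 (iv F75478)) (tt N13277 (iv F75243)) (tt N12413 F73761) (tt N13347 (iv F75485)) (tt N12412 (iv D18828)) (tt N13348 D19235))
theorem Q12943 : ∀ i, i < 12943 → P i := stepQ 12942 Q12942 (allL N12942 (tt N13024 (iv F74078)) (tt N12853 F73762) (tt N12418 F73763) (tt N13346 (iv F75482)) (tt N12440 F73764) (tt N13348 (iv F75488)) (tt N13103 (iv F74505)) (tt N13032 (iv F74129)) (tt N12413 (iv D18829)))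
theorem Q12944 : ∀ i, i < 12944 → P i := stepQ 12943 Q12943 (allL N12943 (tt N12435 F73765) (tt N12500 F73766) (tt N13280 (iv F75253)) (tt N13066 (iv F74325)) (tt N12416 F73767) (tt N13130 (iv F74628)) (tt N12415 (iv D18830)) (tt N13349 D19236) (tt N13160 (iv F74752)))
theorem Q12945 : ∀ i, i < 12945 → P i := stepQ 12944 Q12944 (allL N12944 (tt N12431 F73768) (tt N12492 F73769) (tt N13277 (iv F75242)) (tt N13350 D19237) (tt N12417 F73770) (tt N12429 F73771) (tt N13349 (iv F75492)) (tt N12415 (iv D18831)) (tt N13351 D19238))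
theorem Q12946 : ∀ i, i < 12946 → P i := stepQ 12945 Q12945 (allL N12945 (tt N13212 (iv F74959)) (tt N13060 (iv F74291)) (tt N13347 (iv F75484)) (tt N12783 F73772) (tt N13349 (iv F75491)) (tt N13165 (iv F74774)) (tt N12417 F73773) (tt N12416 (iv D18832)) (tt N13352 D19239))
theorem Q12947 : ∀ i, i < 12947 → P i := stepQ 12946 Q12946 (allL N12946 (tt N13213 (iv F74965)) (tt N12865 F73774) (tt N13348 (iv F75487)) (tt N12784 F73775) (tt N13351 (iv F75500)) (tt N12418 F73776) (tt N13352 (iv F75504)) (tt N13326 (iv F75429)) (tt N12417 (iv D18833)))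
theorem Q12948 : ∀ i, i < 12948 → P i := stepQ 12947 Q12947 (allL N12947 (tt N12475 F73777) (tt N13050 (iv F74233)) (tt N12686 F73778) (tt N12423 F73779) (tt N12785 F73780) (tt N13068 (iv F74342)) (tt N12419 (iv D18834)) (tt N12895 F73781) (tt N13042 (iv F74194)))
theorem Q12949 : ∀ i, i < 12949 → P i := stepQ 12948 Q12948 (allL N12948 (tt N12480 F73782) (tt N13213 (iv F74966)) (tt N12421 F73783) (tt N12689 F73784) (tt N12427 F73785) (tt N12420 (iv D18835)) (tt N13353 D19240) (tt N13019 (iv F74058)) (tt N12422 F73786))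
theorem Q12950 : ∀ i, i < 12950 → P i := stepQ 12949 Q12949 (allL N12949 (tt N12481 F73787) (tt N13027 (iv F74096)) (tt N13353 (iv F75506)) (tt N13042 (iv F74190)) (tt N12428 F73788) (tt N13089 (iv F74444)) (tt N12421 (iv D18836)) (tt N13020 (iv F74065)) (tt N12423 F73789))
theorem Q12951 : ∀ i, i < 12951 → P i := stepQ 12950 Q12950 (allL N12950 (tt N12484 F73790) (tt N13212 (iv F74960)) (tt N12423 F73791) (tt N12692 F73792) (tt N12433 F73793) (tt N13090 (iv F74451)) (tt N12422 (iv D18837)) (tt N12434 F73794) (tt N13353 (iv F75509)))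
theorem Q12952 : ∀ i, i < 12952 → P i := stepQ 12951 Q12951 (allL N12951 (tt N12425 F73795) (tt N12485 F73796) (tt N13272 (iv F75215)) (tt N13354 D19241) (tt N12424 (iv D18838)) (tt N13351 (iv F75501)) (tt N13028 (iv F74105)) (tt N13162 (iv F74763)) (tt N12429 F73797))
theorem Q12953 : ∀ i, i < 12953 → P i := stepQ 12952 Q12952 (allL N12952 (tt N13354 (iv F75510)) (tt N12426 F73798) (tt N12965 (iv F73853)) (tt N12425 (iv D18839)) (tt N12437 F73799) (tt N13355 D19242) (tt N12831 F73800) (tt N13245 (iv F75110)) (tt N12430 F73801))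
theorem Q12954 : ∀ i, i < 12954 → P i := stepQ 12953 Q12953 (allL N12953 (tt N13351 (iv F75498)) (tt N12427 F73802) (tt N13337 (iv F75459)) (tt N13355 (iv F75516)) (tt N13213 (iv F74968)) (tt N12425 (iv D18840)) (tt N13356 D19243) (tt N13328 (iv F75434)) (tt N12431 F73803))
theorem Q12955 : ∀ i, i < 12955 → P i := stepQ 12954 Q12954 (allL N12954 (tt N12488 F73804) (tt N13355 (iv F75515)) (tt N12789 F73805) (tt N12427 F73806) (tt N12696 F73807) (tt N12426 (iv D18841)) (tt N13357 D19244) (tt N13247 (iv F75121)) (tt N12432 F73808))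
theorem Q12956 : ∀ i, i < 12956 → P i := stepQ 12955 Q12955 (allL N12955 (tt N12490 F73809) (tt N13356 (iv F75519)) (tt N12428 F73810) (tt N13357 (iv F75523)) (tt N13353 (iv F75508)) (tt N13298 (iv F75330)) (tt N12427 (iv D18842)) (tt N13330 (iv F75441)) (tt N12433 F73811))
theorem Q12957 : ∀ i, i < 12957 → P i := stepQ 12956 Q12956 (allL N12956 (tt N12430 F73812) (tt N12491 F73813) (tt N12969 (iv F73866)) (tt N12429 (iv D18843)) (tt N12438 F73814) (tt N13350 (iv F75496)) (tt N12834 F73815) (tt N12804 F73816) (tt N13354 (iv F75514)))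
theorem Q12958 : ∀ i, i < 12958 → P i := stepQ 12957 Q12957 (allL N12957 (tt N13350 (iv F75493)) (tt N12432 F73817) (tt N12971 (iv F73872)) (tt N12431 F73818) (tt N12702 F73819) (tt N12430 (iv D18844)) (tt N13358 D19245) (tt N12805 F73820) (tt N13355 (iv F75518)))
theorem Q12959 : ∀ i, i < 12959 → P i := stepQ 12958 Q12958 (allL N12958 (tt N13349 (iv F75489)) (tt N12433 F73821) (tt N13342 (iv F75471)) (tt N13358 (iv F75528)) (tt N13212 (iv F74962)) (tt N13299 (iv F75334)) (tt N12431 (iv D18845)) (tt N12435 F73822) (tt N13356 (iv F75520)))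
theorem Q12960 : ∀ i, i < 12960 → P i := stepQ 12959 Q12959 (allL N12959 (tt N12495 F73823) (tt N13358 (iv F75527)) (tt N12791 F73824) (tt N12433 F73825) (tt N12704 F73826) (tt N12836 F73827) (tt N12432 (iv D18846)) (tt N12806 F73828) (tt N13357 (iv F75526)))
theorem Q12961 : ∀ i, i < 12961 → P i := stepQ 12960 Q12960 (allL N12960 (tt N12437 F73829) (tt N12501 F73830) (tt N12964 (iv F73848)) (tt N12436 (iv D18847)) (tt N13354 (iv F75512)) (tt N12707 F73831) (tt N12830 F73832) (tt N13244 (iv F75105)) (tt N12438 F73833))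
theorem Q12962 : ∀ i, i < 12962 → P i := stepQ 12961 Q12961 (allL N12961 (tt N12898 F73834) (tt N13154 (iv F74727)) (tt N12715 F73835) (tt N12441 (iv D18848)) (tt N12961 F73836) (tt N13359 D19246) (tt N12728 F73837) (tt N13192 (iv F74890)) (tt N13183 (iv F74847)))
theorem Q12963 : ∀ i, i < 12963 → P i := stepQ 12962 Q12962 (allL N12962 (tt N12899 F73838) (tt N13177 (iv F74815)) (tt N12442 F73839) (tt N13359 (iv F75534)) (tt N12449 F73840) (tt N12441 (iv D18849)) (tt N13360 D19247) (tt N12456 F73841) (tt N13184 (iv F74851)))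
theorem Q12964 : ∀ i, i < 12964 → P i := stepQ 12963 Q12963 (allL N12963 (tt N12900 F73842) (tt N12718 F73843) (tt N13360 (iv F75536)) (tt N12717 F73844) (tt N12450 F73845) (tt N12730 F73846) (tt N12442 (iv D18850)) (tt N12457 F73847) (tt N13185 (iv F74857)))
theorem Q12965 : ∀ i, i < 12965 → P i := stepQ 12964 Q12964 (allL N12964 (tt N12443 (iv D18851)) (tt N13035 (iv F74140)) (tt N12960 F73848) (tt N12964 F73849) (tt N13361 D19248) (tt N13179 (iv F74825)) (tt N13244 (iv F75104)) (tt N12830 F73850) (tt N12446 F73851))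
theorem Q12966 : ∀ i, i < 12966 → P i := stepQ 12965 Q12965 (allL N12965 (tt N13361 (iv F75540)) (tt N12444 F73852) (tt N12952 F73853) (tt N13362 D19249) (tt N12443 (iv D18852)) (tt N13363 D19250) (tt N13245 (iv F75109)) (tt N12831 F73854) (tt N12447 F73855))
theorem Q12967 : ∀ i, i < 12967 → P i := stepQ 12966 Q12966 (allL N12966 (tt N13188 (iv F74866)) (tt N13362 (iv F75544)) (tt N12468 F73856) (tt N12444 (iv D18853)) (tt N12966 F73857) (tt N13364 D19251) (tt N13246 (iv F75115)) (tt N13273 (iv F75223)) (tt N12448 F73858))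
theorem Q12968 : ∀ i, i < 12968 → P i := stepQ 12967 Q12967 (allL N12967 (tt N13189 (iv F74872)) (tt N13363 (iv F75548)) (tt N12445 F73859) (tt N13364 (iv F75553)) (tt N13184 (iv F74850)) (tt N12444 (iv D18854)) (tt N13365 D19252) (tt N12832 F73860) (tt N12449 F73861))
theorem Q12969 : ∀ i, i < 12969 → P i := stepQ 12968 Q12968 (allL N12968 (tt N13190 (iv F74877)) (tt N13233 (iv F75053)) (tt N13365 (iv F75555)) (tt N12470 F73862) (tt N13185 (iv F74855)) (tt N13248 (iv F75127)) (tt N12445 (iv D18855)) (tt N12833 F73863) (tt N12450 F73864))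
theorem Q12970 : ∀ i, i < 12970 → P i := stepQ 12969 Q12969 (allL N12969 (tt N12447 F73865) (tt N13313 (iv F75382)) (tt N12956 F73866) (tt N13366 D19253) (tt N12446 (iv D18856)) (tt N13367 D19254) (tt N13249 (iv F75132)) (tt N12458 F73867) (tt N13361 (iv F75543)))
theorem Q12971 : ∀ i, i < 12971 → P i := stepQ 12970 Q12970 (allL N12970 (tt N13366 (iv F75558)) (tt N12448 F73868) (tt N12934 F73869) (tt N12447 (iv D18857)) (tt N12970 F73870) (tt N13368 D19255) (tt N13250 (iv F75137)) (tt N13072 (iv F74364)) (tt N13362 (iv F75547)))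
theorem Q12972 : ∀ i, i < 12972 → P i := stepQ 12971 Q12971 (allL N12971 (tt N13367 (iv F75563)) (tt N12449 F73871) (tt N12957 F73872) (tt N13368 (iv F75568)) (tt N13177 (iv F74817)) (tt N12447 (iv D18858)) (tt N13369 D19256) (tt N12459 F73873) (tt N13363 (iv F75551)))
theorem Q12973 : ∀ i, i < 12973 → P i := stepQ 12972 Q12972 (allL N12972 (tt N13316 (iv F75389)) (tt N13368 (iv F75566)) (tt N12471 F73874) (tt N12449 F73875) (tt N13370 D19257) (tt N12448 (iv D18859)) (tt N13371 D19258) (tt N13074 (iv F74373)) (tt N13364 (iv F75554)))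
theorem Q12974 : ∀ i, i < 12974 → P i := stepQ 12973 Q12973 (allL N12973 (tt N13317 (iv F75392)) (tt N13369 (iv F75569)) (tt N12450 F73876) (tt N13371 (iv F75575)) (tt N13360 (iv F75537)) (tt N13253 (iv F75145)) (tt N12449 (iv D18860)) (tt N12460 F73877) (tt N13365 (iv F75557)))
theorem Q12975 : ∀ i, i < 12975 → P i := stepQ 12974 Q12974 (allL N12974 (tt N13258 (iv F75165)) (tt N12978 (iv F73897)) (tt N12452 F73878) (tt N12977 (iv F73894)) (tt N12890 F73879) (tt N12451 (iv D18861)) (tt N13372 D19259) (tt N12729 F73880) (tt N12837 F73881))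
theorem Q12976 : ∀ i, i < 12976 → P i := stepQ 12975 Q12975 (allL N12975 (tt N13259 (iv F75170)) (tt N12734 F73882) (tt N13372 (iv F75576)) (tt N12746 F73883) (tt N13198 (iv F74902)) (tt N12457 F73884) (tt N12452 (iv D18862)) (tt N12730 F73885) (tt N12838 F73886))
theorem Q12977 : ∀ i, i < 12977 → P i := stepQ 12976 Q12976 (allL N12976 (tt N12454 F73887) (tt N13318 (iv F75397)) (tt N12491 F73888) (tt N12824 F73889) (tt N12453 (iv D18863)) (tt N13373 D19260) (tt N12911 F73890) (tt N13174 (iv F74808)) (tt N12827 F73891))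
theorem Q12978 : ∀ i, i < 12978 → P i := stepQ 12977 Q12977 (allL N12977 (tt N13373 (iv F75581)) (tt N12456 F73892) (tt N12493 F73893) (tt N12974 F73894) (tt N12459 F73895) (tt N12454 (iv D18864)) (tt N13374 D19261) (tt N13177 (iv F74818)) (tt N12839 F73896))
theorem Q12979 : ∀ i, i < 12979 → P i := stepQ 12978 Q12978 (allL N12978 (tt N13321 (iv F75412)) (tt N12974 F73897) (tt N12892 F73898) (tt N12456 F73899) (tt N13077 (iv F74385)) (tt N12455 (iv D18865)) (tt N13375 D19262) (tt N13193 (iv F74893)) (tt N12840 F73900))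
theorem Q12980 : ∀ i, i < 12980 → P i := stepQ 12979 Q12979 (allL N12979 (tt N13322 (iv F75416)) (tt N13374 (iv F75586)) (tt N12457 F73901) (tt N13375 (iv F75593)) (tt N12460 F73902) (tt N13372 (iv F75578)) (tt N12456 (iv D18866)) (tt N13360 (iv F75539)) (tt N12841 F73903))
theorem Q12981 : ∀ i, i < 12981 → P i := stepQ 12980 Q12980 (allL N12980 (tt N12459 F73904) (tt N13323 (iv F75422)) (tt N13240 (iv F75083)) (tt N13080 (iv F74399)) (tt N13373 (iv F75584)) (tt N12458 (iv D18867)) (tt N13376 D19263) (tt N13367 (iv F75565)) (tt N12842 F73905))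
theorem Q12982 : ∀ i, i < 12982 → P i := stepQ 12981 Q12981 (allL N12981 (tt N13376 (iv F75596)) (tt N12460 F73906) (tt N13241 (iv F75087)) (tt N13081 (iv F74404)) (tt N13374 (iv F75589)) (tt N13255 (iv F75152)) (tt N12459 (iv D18868)) (tt N13369 (iv F75571)) (tt N12843 F73907))
theorem Q12983 : ∀ i, i < 12983 → P i := stepQ 12982 Q12982 (allL N12982 (tt N12632 F73908) (tt N12793 F73909) (tt N12465 F73910) (tt N12461 (iv D18869)) (tt N12982 F73911) (tt N13377 D19264) (tt N12751 F73912) (tt N12658 F73913) (tt N13014 (iv F74030)))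
theorem Q12984 : ∀ i, i < 12984 → P i := stepQ 12983 Q12983 (allL N12983 (tt N12633 F73914) (tt N12794 F73915) (tt N12462 F73916) (tt N13377 (iv F75601)) (tt N12716 F73917) (tt N12461 (iv D18870)) (tt N13378 D19265) (tt N12549 F73918) (tt N13015 (iv F74036)))
theorem Q12985 : ∀ i, i < 12985 → P i := stepQ 12984 Q12984 (allL N12984 (tt N12634 F73919) (tt N12714 F73920) (tt N13378 (iv F75605)) (tt N12467 F73921) (tt N12717 F73922) (tt N12753 F73923) (tt N12462 (iv D18871)) (tt N12550 F73924) (tt N13016 (iv F74043)))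
theorem Q12986 : ∀ i, i < 12986 → P i := stepQ 12985 Q12985 (allL N12985 (tt N13018 (iv F74050)) (tt N13222 (iv F75012)) (tt N13014 (iv F74026)) (tt N12463 (iv D18872)) (tt N12985 F73925) (tt N13379 D19266) (tt N13133 (iv F74645)) (tt N13219 (iv F74997)) (tt N12465 F73926))
theorem Q12987 : ∀ i, i < 12987 → P i := stepQ 12986 Q12986 (allL N12986 (tt N13019 (iv F74055)) (tt N13223 (iv F75019)) (tt N12464 F73927) (tt N13379 (iv F75609)) (tt N12469 F73928) (tt N12463 (iv D18873)) (tt N13380 D19267) (tt N12480 F73929) (tt N12466 F73930))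
theorem Q12988 : ∀ i, i < 12988 → P i := stepQ 12987 Q12987 (allL N12987 (tt N13020 (iv F74060)) (tt N13067 (iv F74330)) (tt N13380 (iv F75611)) (tt N13016 (iv F74039)) (tt N12470 F73931) (tt N13135 (iv F74654)) (tt N12464 (iv D18874)) (tt N12481 F73932) (tt N12467 F73933))
theorem Q12989 : ∀ i, i < 12989 → P i := stepQ 12988 Q12988 (allL N12988 (tt N13121 (iv F74581)) (tt N13225 (iv F75031)) (tt N13377 (iv F75600)) (tt N12466 F73934) (tt N13381 D19268) (tt N12465 (iv D18875)) (tt N13382 D19269) (tt N13208 (iv F74947)) (tt N13379 (iv F75610)))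
theorem Q12990 : ∀ i, i < 12990 → P i := stepQ 12989 Q12989 (allL N12989 (tt N13122 (iv F74585)) (tt N13226 (iv F75033)) (tt N12467 F73935) (tt N13382 (iv F75617)) (tt N12472 F73936) (tt N13137 (iv F74661)) (tt N12466 (iv D18876)) (tt N12473 F73937) (tt N13380 (iv F75614)))
theorem Q12991 : ∀ i, i < 12991 → P i := stepQ 12990 Q12990 (allL N12990 (tt N13329 (iv F75436)) (tt N13227 (iv F75037)) (tt N13364 (iv F75552)) (tt N12469 F73938) (tt N13383 D19270) (tt N12468 (iv D18877)) (tt N13384 D19271) (tt N13385 D19272) (tt N12471 F73939))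
theorem Q12992 : ∀ i, i < 12992 → P i := stepQ 12991 Q12991 (allL N12991 (tt N13246 (iv F75112)) (tt N13228 (iv F75040)) (tt N13273 (iv F75220)) (tt N12489 F73940) (tt N12991 F73941) (tt N13385 (iv F75623)) (tt N13188 (iv F74869)) (tt N12468 (iv D18878)) (tt N13107 (iv F74522)))
theorem Q12993 : ∀ i, i < 12993 → P i := stepQ 12992 Q12992 (allL N12992 (tt N13330 (iv F75439)) (tt N13229 (iv F75043)) (tt N12470 F73942) (tt N13384 (iv F75620)) (tt N13380 (iv F75612)) (tt N13288 (iv F75287)) (tt N12469 (iv D18879)) (tt N12490 F73943) (tt N12472 F73944))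
theorem Q12994 : ∀ i, i < 12994 → P i := stepQ 12993 Q12993 (allL N12993 (tt N13334 (iv F75451)) (tt N13230 (iv F75047)) (tt N13370 (iv F75572)) (tt N13381 (iv F75615)) (tt N12471 (iv D18880)) (tt N12993 F73945) (tt N13386 D19273) (tt N13113 (iv F74544)) (tt N13383 (iv F75619)))
theorem Q12995 : ∀ i, i < 12995 → P i := stepQ 12994 Q12994 (allL N12994 (tt N13335 (iv F75453)) (tt N13231 (iv F75049)) (tt N13371 (iv F75574)) (tt N12472 F73946) (tt N13386 (iv F75624)) (tt N13290 (iv F75292)) (tt N12471 (iv D18881)) (tt N13114 (iv F74546)) (tt N13384 (iv F75621)))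
theorem Q12996 : ∀ i, i < 12996 → P i := stepQ 12995 Q12995 (allL N12995 (tt N12686 F73947) (tt N13062 (iv F74303)) (tt N12475 F73948) (tt N12564 F73949) (tt N12895 F73950) (tt N13207 (iv F74941)) (tt N12474 (iv D18882)) (tt N12785 F73951) (tt N13059 (iv F74289)))
theorem Q12997 : ∀ i, i < 12997 → P i := stepQ 12996 Q12996 (allL N12996 (tt N13090 (iv F74447)) (tt N13001 (iv F73975)) (tt N12477 F73952) (tt N13000 (iv F73971)) (tt N13065 (iv F74319)) (tt N12484 F73953) (tt N12476 (iv D18883)) (tt N12496 F73954) (tt N13292 (iv F75298)))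
theorem Q12998 : ∀ i, i < 12998 → P i := stepQ 12997 Q12997 (allL N12997 (tt N12865 F73955) (tt N12480 F73956) (tt N12747 F73957) (tt N12869 F73958) (tt N12487 F73959) (tt N12478 (iv D18884)) (tt N13387 D19274) (tt N13223 (iv F75022)) (tt N12482 F73960))
theorem Q12999 : ∀ i, i < 12999 → P i := stepQ 12998 Q12998 (allL N12998 (tt N12689 F73961) (tt N12869 F73962) (tt N12563 F73963) (tt N12480 F73964) (tt N12565 F73965) (tt N12479 (iv D18885)) (tt N13388 D19275) (tt N13220 (iv F75003)) (tt N12483 F73966))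
theorem Q13000 : ∀ i, i < 13000 → P i := stepQ 12999 Q12999 (allL N12999 (tt N13353 (iv F75505)) (tt N13387 (iv F75626)) (tt N12481 F73967) (tt N13388 (iv F75634)) (tt N12490 F73968) (tt N13292 (iv F75297)) (tt N12480 (iv D18886)) (tt N13380 (iv F75613)) (tt N12484 F73969))
theorem Q13001 : ∀ i, i < 13001 → P i := stepQ 13000 Q13000 (allL N13000 (tt N13060 (iv F74290)) (tt N12484 F73970) (tt N13061 (iv F74298)) (tt N12996 F73971) (tt N12494 F73972) (tt N13001 (iv F73979)) (tt N12482 (iv D18887)) (tt N12497 F73973) (tt N13387 (iv F75630)))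
theorem Q13002 : ∀ i, i < 13002 → P i := stepQ 13001 Q13001 (allL N13001 (tt N12692 F73974) (tt N12996 F73975) (tt N12564 F73976) (tt N12484 F73977) (tt N12569 F73978) (tt N13000 F73979) (tt N12483 (iv D18888)) (tt N12571 F73980) (tt N13388 (iv F75637)))
theorem Q13003 : ∀ i, i < 13003 → P i := stepQ 13002 Q13002 (allL N13002 (tt N12486 F73981) (tt N13354 (iv F75511)) (tt N12827 F73982) (tt N12485 (iv D18889)) (tt N12501 F73983) (tt N13389 D19276) (tt N13029 (iv F74111)) (tt N13390 D19277) (tt N12491 F73984))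
theorem Q13004 : ∀ i, i < 13004 → P i := stepQ 13003 Q13003 (allL N13003 (tt N12487 F73985) (tt N13351 (iv F75499)) (tt N12822 F73986) (tt N13389 (iv F75640)) (tt N12865 F73987) (tt N12485 (iv D18890)) (tt N13391 D19278) (tt N13215 (iv F74978)) (tt N12492 F73988))
theorem Q13005 : ∀ i, i < 13005 → P i := stepQ 13004 Q13004 (allL N13004 (tt N13389 (iv F75638)) (tt N12488 F73989) (tt N12839 F73990) (tt N12487 F73991) (tt N12820 F73992) (tt N12486 (iv D18891)) (tt N13392 D19279) (tt N13393 D19280) (tt N12493 F73993))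
theorem Q13006 : ∀ i, i < 13006 → P i := stepQ 13005 Q13005 (allL N13005 (tt N13390 (iv F75643)) (tt N12489 F73994) (tt N12826 F73995) (tt N13228 (iv F75041)) (tt N12502 F73996) (tt N13393 (iv F75658)) (tt N13078 (iv F74390)) (tt N12486 (iv D18892)) (tt N13170 (iv F74794)))
theorem Q13007 : ∀ i, i < 13007 → P i := stepQ 13006 Q13006 (allL N13006 (tt N13391 (iv F75646)) (tt N12490 F73997) (tt N13076 (iv F74377)) (tt N13392 (iv F75652)) (tt N13387 (iv F75629)) (tt N13079 (iv F74395)) (tt N12487 (iv D18893)) (tt N13229 (iv F75045)) (tt N12494 F73998))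
theorem Q13008 : ∀ i, i < 13008 → P i := stepQ 13007 Q13007 (allL N13007 (tt N13357 (iv F75521)) (tt N13392 (iv F75650)) (tt N12818 F73999) (tt N12490 F74000) (tt N12821 F74001) (tt N13301 (iv F75345)) (tt N12488 (iv D18894)) (tt N13394 D19281) (tt N12495 F74002))
theorem Q13009 : ∀ i, i < 13009 → P i := stepQ 13008 Q13008 (allL N13008 (tt N13247 (iv F75118)) (tt N13393 (iv F75655)) (tt N12809 F74003) (tt N13385 (iv F75622)) (tt N12816 F74004) (tt N12489 F74005) (tt N13394 (iv F75661)) (tt N12488 (iv D18895)) (tt N13173 (iv F74805)))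
theorem Q13010 : ∀ i, i < 13010 → P i := stepQ 13009 Q13009 (allL N13009 (tt N12493 F74006) (tt N13350 (iv F75494)) (tt N13373 (iv F75582)) (tt N12492 F74007) (tt N13240 (iv F75085)) (tt N12491 (iv D18896)) (tt N13395 D19282) (tt N13175 (iv F74811)) (tt N13389 (iv F75642)))
theorem Q13011 : ∀ i, i < 13011 → P i := stepQ 13010 Q13010 (allL N13010 (tt N12494 F74008) (tt N13349 (iv F75490)) (tt N13124 (iv F74599)) (tt N13395 (iv F75663)) (tt N13060 (iv F74293)) (tt N13127 (iv F74613)) (tt N12492 (iv D18897)) (tt N12500 F74009) (tt N13391 (iv F75649)))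
theorem Q13012 : ∀ i, i < 13012 → P i := stepQ 13011 Q13011 (allL N13011 (tt N13395 (iv F75662)) (tt N12495 F74010) (tt N13374 (iv F75587)) (tt N12494 F74011) (tt N13241 (iv F75089)) (tt N13302 (iv F75350)) (tt N12493 (iv D18898)) (tt N13178 (iv F74821)) (tt N13392 (iv F75654)))
theorem Q13013 : ∀ i, i < 13013 → P i := stepQ 13012 Q13012 (allL N13012 (tt N12552 F74012) (tt N12713 F74013) (tt N12551 F74014) (tt N12571 F74015) (tt N12712 F74016) (tt N12556 F74017) (tt N12499 F74018) (tt N12498 (iv D18899)) (tt N12801 (iv F74019)))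
theorem Q13014 : ∀ i, i < 13014 → P i := stepQ 13013 Q13013 (allL N13013 (tt N12502 F74020) (tt N13244 (iv F75100)) (tt N12743 F74021) (tt N13013 F74022) (tt N13390 (iv F75645)) (tt N12813 F74023) (tt N13035 (iv F74144)) (tt N12501 (iv D18900)) (tt N13180 (iv F74834)))
theorem Q13015 : ∀ i, i < 13015 → P i := stepQ 13014 Q13014 (allL N13014 (tt N12508 F74024) (tt N12751 F74025) (tt N12985 F74026) (tt N12503 (iv D18901)) (tt N13014 F74027) (tt N13396 D19283) (tt N12793 F74028) (tt N12774 F74029) (tt N12982 F74030))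
theorem Q13016 : ∀ i, i < 13016 → P i := stepQ 13015 Q13015 (allL N13015 (tt N12509 F74031) (tt N12752 F74032) (tt N12504 F74033) (tt N13396 (iv F75667)) (tt N12722 F74034) (tt N12503 (iv D18902)) (tt N13397 D19284) (tt N12529 F74035) (tt N12983 F74036))
theorem Q13017 : ∀ i, i < 13017 → P i := stepQ 13016 Q13016 (allL N13016 (tt N12510 F74037) (tt N12577 F74038) (tt N13397 (iv F75672)) (tt N12987 F74039) (tt N12723 F74040) (tt N12795 F74041) (tt N12504 (iv D18903)) (tt N12530 F74042) (tt N12984 F74043))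
theorem Q13018 : ∀ i, i < 13018 → P i := stepQ 13017 Q13017 (allL N13017 (tt N12920 F74044) (tt N12506 F74045) (tt N12518 F74046) (tt N13398 D19285) (tt N12505 (iv D18904)) (tt N13399 D19286) (tt N12672 F74047) (tt N12761 F74048) (tt N12636 F74049))
theorem Q13019 : ∀ i, i < 13019 → P i := stepQ 13018 Q13018 (allL N13018 (tt N12985 F74050) (tt N13398 (iv F75678)) (tt N12508 F74051) (tt N12506 (iv D18905)) (tt N13018 F74052) (tt N13400 D19287) (tt N12673 F74053) (tt N13096 (iv F74477)) (tt N12637 F74054))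
theorem Q13020 : ∀ i, i < 13020 → P i := stepQ 13019 Q13019 (allL N13019 (tt N12986 F74055) (tt N13399 (iv F75684)) (tt N12507 F74056) (tt N13400 (iv F75691)) (tt N12923 F74057) (tt N12506 (iv D18906)) (tt N13401 D19288) (tt N12948 F74058) (tt N12638 F74059))
theorem Q13021 : ∀ i, i < 13021 → P i := stepQ 13020 Q13020 (allL N13020 (tt N12987 F74060) (tt N12520 F74061) (tt N13401 (iv F75694)) (tt N12510 F74062) (tt N12924 F74063) (tt N12675 F74064) (tt N12507 (iv D18907)) (tt N12949 F74065) (tt N12639 F74066))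
theorem Q13022 : ∀ i, i < 13022 → P i := stepQ 13021 Q13021 (allL N13021 (tt N13396 (iv F75664)) (tt N12901 F74067) (tt N13400 (iv F75690)) (tt N12509 F74068) (tt N13402 D19289) (tt N12508 (iv D18908)) (tt N13403 D19290) (tt N13404 D19291) (tt N13117 (iv F74564)))
theorem Q13023 : ∀ i, i < 13023 → P i := stepQ 13022 Q13022 (allL N13022 (tt N12774 F74069) (tt N12902 F74070) (tt N13096 (iv F74474)) (tt N12534 F74071) (tt N13022 F74072) (tt N13404 (iv F75707)) (tt N12614 F74073) (tt N12508 (iv D18909)) (tt N13091 (iv F74456)))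
theorem Q13024 : ∀ i, i < 13024 → P i := stepQ 13023 Q13023 (allL N13023 (tt N13397 (iv F75670)) (tt N12903 F74074) (tt N12510 F74075) (tt N13403 (iv F75703)) (tt N12732 F74076) (tt N13237 (iv F75074)) (tt N12509 (iv D18910)) (tt N12535 F74077) (tt N13118 (iv F74570)))
theorem Q13025 : ∀ i, i < 13025 → P i := stepQ 13024 Q13024 (allL N13024 (tt N12942 F74078) (tt N12512 F74079) (tt N12761 F74080) (tt N13405 D19292) (tt N12511 (iv D18911)) (tt N13406 D19293) (tt N12618 F74081) (tt N12518 F74082) (tt N12594 F74083))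
theorem Q13026 : ∀ i, i < 13026 → P i := stepQ 13025 Q13025 (allL N13025 (tt N12583 F74084) (tt N13405 (iv F75709)) (tt N12541 F74085) (tt N12512 (iv D18912)) (tt N13025 F74086) (tt N13407 D19294) (tt N12619 F74087) (tt N12906 F74088) (tt N12595 F74089))
theorem Q13027 : ∀ i, i < 13027 → P i := stepQ 13026 Q13026 (allL N13026 (tt N12584 F74090) (tt N13406 (iv F75715)) (tt N12513 F74091) (tt N13407 (iv F75722)) (tt N12932 F74092) (tt N12512 (iv D18913)) (tt N13408 D19295) (tt N12519 F74093) (tt N12596 F74094))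
theorem Q13028 : ∀ i, i < 13028 → P i := stepQ 13027 Q13027 (allL N13027 (tt N12585 F74095) (tt N12949 F74096) (tt N13408 (iv F75726)) (tt N12543 F74097) (tt N12933 F74098) (tt N12621 F74099) (tt N12513 (iv D18914)) (tt N12520 F74100) (tt N12597 F74101))
theorem Q13029 : ∀ i, i < 13029 → P i := stepQ 13028 Q13028 (allL N13028 (tt N12878 F74102) (tt N12515 F74103) (tt N12921 F74104) (tt N13263 (iv F75189)) (tt N12514 (iv D18915)) (tt N13409 D19296) (tt N12951 F74105) (tt N12930 F74106) (tt N12643 F74107))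
theorem Q13030 : ∀ i, i < 13030 → P i := stepQ 13029 Q13029 (allL N13029 (tt N12587 F74108) (tt N13263 (iv F75188)) (tt N12737 F74109) (tt N12515 (iv D18916)) (tt N12521 F74110) (tt N13410 D19297) (tt N13002 F74111) (tt N13411 D19298) (tt N12644 F74112))
theorem Q13031 : ∀ i, i < 13031 → P i := stepQ 13030 Q13030 (allL N13030 (tt N12588 F74113) (tt N13409 (iv F75732)) (tt N12516 F74114) (tt N13410 (iv F75739)) (tt N12519 F74115) (tt N12515 (iv D18917)) (tt N13412 D19299) (tt N12932 F74116) (tt N12645 F74117))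
theorem Q13032 : ∀ i, i < 13032 → P i := stepQ 13031 Q13031 (allL N13031 (tt N12589 F74118) (tt N12924 F74119) (tt N13412 (iv F75750)) (tt N12739 F74120) (tt N12520 F74121) (tt N13256 (iv F75157)) (tt N12516 (iv D18918)) (tt N12933 F74122) (tt N12646 F74123))
theorem Q13033 : ∀ i, i < 13033 → P i := stepQ 13032 Q13032 (allL N13032 (tt N12518 F74124) (tt N12590 F74125) (tt N12920 F74126) (tt N12914 F74127) (tt N12517 (iv D18919)) (tt N13413 D19300) (tt N12693 F74128) (tt N12942 F74129) (tt N12647 F74130))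
theorem Q13034 : ∀ i, i < 13034 → P i := stepQ 13033 Q13033 (allL N13033 (tt N13413 (iv F75755)) (tt N12519 F74131) (tt N13399 (iv F75685)) (tt N12915 F74132) (tt N13409 (iv F75734)) (tt N12518 (iv D18920)) (tt N13414 D19301) (tt N13406 (iv F75718)) (tt N12648 F74133))
theorem Q13035 : ∀ i, i < 13035 → P i := stepQ 13034 Q13034 (allL N13034 (tt N12592 F74134) (tt N13414 (iv F75762)) (tt N12520 F74135) (tt N12916 F74136) (tt N13412 (iv F75751)) (tt N12698 F74137) (tt N12519 (iv D18921)) (tt N13408 (iv F75729)) (tt N12649 F74138))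
theorem Q13036 : ∀ i, i < 13036 → P i := stepQ 13035 Q13035 (allL N13035 (tt N12593 F74139) (tt N12964 F74140) (tt N12735 F74141) (tt N13035 F74142) (tt N13411 (iv F75746)) (tt N12726 F74143) (tt N13013 F74144) (tt N12521 (iv D18922)) (tt N12904 F74145))
theorem Q13037 : ∀ i, i < 13037 → P i := stepQ 13036 Q13036 (allL N13036 (tt N12801 F74146) (tt N12745 F74147) (tt N12524 F74148) (tt N12629 F74149) (tt N12754 F74150) (tt N12535 F74151) (tt N12523 (iv D18923)) (tt N13237 (iv F75075)) (tt N12552 F74152))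
theorem Q13038 : ∀ i, i < 13038 → P i := stepQ 13037 Q13037 (allL N13037 (tt N12595 F74153) (tt N12856 F74154) (tt N12619 F74155) (tt N12525 (iv D18924)) (tt N13037 F74156) (tt N13415 D19302) (tt N12541 F74157) (tt N12848 F74158) (tt N12583 F74159))
theorem Q13039 : ∀ i, i < 13039 → P i := stepQ 13038 Q13038 (allL N13038 (tt N12596 F74160) (tt N12857 F74161) (tt N12526 F74162) (tt N13415 (iv F75769)) (tt N12756 F74163) (tt N12525 (iv D18925)) (tt N13416 D19303) (tt N12527 F74164) (tt N12584 F74165))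
theorem Q13040 : ∀ i, i < 13040 → P i := stepQ 13039 Q13039 (allL N13039 (tt N12597 F74166) (tt N12762 F74167) (tt N13416 (iv F75774)) (tt N12621 F74168) (tt N12757 F74169) (tt N12543 F74170) (tt N12526 (iv D18926)) (tt N12528 F74171) (tt N12585 F74172))
theorem Q13041 : ∀ i, i < 13041 → P i := stepQ 13040 Q13040 (allL N13040 (tt N12599 F74173) (tt N12864 F74174) (tt N12528 F74175) (tt N12852 F74176) (tt N12758 F74177) (tt N12547 F74178) (tt N12527 (iv D18927)) (tt N13416 (iv F75777)) (tt N12553 F74179))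
theorem Q13042 : ∀ i, i < 13042 → P i := stepQ 13041 Q13041 (allL N13041 (tt N12535 F74180) (tt N12754 F74181) (tt N12530 F74182) (tt N12782 F74183) (tt N12745 F74184) (tt N12801 F74185) (tt N12529 (iv D18928)) (tt N13397 (iv F75675)) (tt N12556 F74186))
theorem Q13043 : ∀ i, i < 13043 → P i := stepQ 13042 Q13042 (allL N13042 (tt N12871 F74187) (tt N12543 F74188) (tt N12867 F74189) (tt N12949 F74190) (tt N12786 F74191) (tt N12762 F74192) (tt N12531 (iv D18929)) (tt N12532 F74193) (tt N12947 F74194))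
theorem Q13044 : ∀ i, i < 13044 → P i := stepQ 13043 Q13043 (allL N13043 (tt N12782 F74195) (tt N12918 F74196) (tt N12627 F74197) (tt N12535 F74198) (tt N12769 F74199) (tt N12629 F74200) (tt N12533 (iv D18930)) (tt N13417 D19304) (tt N12560 F74201))
theorem Q13045 : ∀ i, i < 13045 → P i := stepQ 13044 Q13044 (allL N13044 (tt N12775 F74202) (tt N12919 F74203) (tt N12609 F74204) (tt N13404 (iv F75706)) (tt N12767 F74205) (tt N12534 F74206) (tt N13417 (iv F75784)) (tt N12533 (iv D18931)) (tt N13092 (iv F74459)))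
theorem Q13046 : ∀ i, i < 13046 → P i := stepQ 13045 Q13045 (allL N13045 (tt N12614 F74207) (tt N12658 F74208) (tt N13222 (iv F75013)) (tt N12536 (iv D18932)) (tt N13045 F74209) (tt N13418 D19305) (tt N12774 F74210) (tt N12793 F74211) (tt N13219 (iv F74998)))
theorem Q13047 : ∀ i, i < 13047 → P i := stepQ 13046 Q13046 (allL N13046 (tt N12615 F74212) (tt N12659 F74213) (tt N12537 F74214) (tt N13418 (iv F75787)) (tt N12542 F74215) (tt N12536 (iv D18933)) (tt N13419 D19306) (tt N12544 F74216) (tt N13220 (iv F75004)))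
theorem Q13048 : ∀ i, i < 13048 → P i := stepQ 13047 Q13047 (allL N13047 (tt N12616 F74217) (tt N12786 F74218) (tt N13419 (iv F75791)) (tt N13224 (iv F75026)) (tt N12543 F74219) (tt N12776 F74220) (tt N12537 (iv D18934)) (tt N12545 F74221) (tt N13221 (iv F75010)))
theorem Q13049 : ∀ i, i < 13049 → P i := stepQ 13048 Q13048 (allL N13048 (tt N12619 F74222) (tt N13138 (iv F74663)) (tt N12595 F74223) (tt N12538 (iv D18935)) (tt N13048 F74224) (tt N13420 D19307) (tt N12583 F74225) (tt N12815 F74226) (tt N12541 F74227))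
theorem Q13050 : ∀ i, i < 13050 → P i := stepQ 13049 Q13049 (allL N13049 (tt N12620 F74228) (tt N13139 (iv F74668)) (tt N12539 F74229) (tt N13420 (iv F75797)) (tt N13220 (iv F75002)) (tt N12538 (iv D18936)) (tt N13421 D19308) (tt N12565 F74230) (tt N12542 F74231))
theorem Q13051 : ∀ i, i < 13051 → P i := stepQ 13050 Q13050 (allL N13050 (tt N12621 F74232) (tt N12947 F74233) (tt N13421 (iv F75801)) (tt N12597 F74234) (tt N13221 (iv F75008)) (tt N12585 F74235) (tt N12539 (iv D18937)) (tt N12566 F74236) (tt N12543 F74237))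
theorem Q13052 : ∀ i, i < 13052 → P i := stepQ 13051 Q13051 (allL N13051 (tt N12669 F74238) (tt N12541 F74239) (tt N13144 (iv F74695)) (tt N12540 (iv D18938)) (tt N13051 F74240) (tt N13422 D19309) (tt N12856 F74241) (tt N12925 F74242) (tt N13138 (iv F74667)))
theorem Q13053 : ∀ i, i < 13053 → P i := stepQ 13052 Q13052 (allL N13052 (tt N12670 F74243) (tt N12542 F74244) (tt N12655 F74245) (tt N13422 (iv F75807)) (tt N12659 F74246) (tt N12540 (iv D18939)) (tt N13423 D19310) (tt N12546 F74247) (tt N13139 (iv F74672)))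
theorem Q13054 : ∀ i, i < 13054 → P i := stepQ 13053 Q13053 (allL N13053 (tt N12625 F74248) (tt N13422 (iv F75806)) (tt N13407 (iv F75721)) (tt N12542 F74249) (tt N13424 D19311) (tt N12541 (iv D18940)) (tt N13425 D19312) (tt N12927 F74250) (tt N13420 (iv F75799)))
theorem Q13055 : ∀ i, i < 13055 → P i := stepQ 13054 Q13054 (allL N13054 (tt N12626 F74251) (tt N13423 (iv F75810)) (tt N12543 F74252) (tt N13425 (iv F75819)) (tt N13419 (iv F75792)) (tt N13416 (iv F75776)) (tt N12542 (iv D18941)) (tt N12547 F74253) (tt N13421 (iv F75804)))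
theorem Q13056 : ∀ i, i < 13056 → P i := stepQ 13055 Q13055 (allL N13055 (tt N12629 F74254) (tt N12662 F74255) (tt N12545 F74256) (tt N12801 F74257) (tt N12547 F74258) (tt N12782 F74259) (tt N12544 (iv D18942)) (tt N13419 (iv F75794)) (tt N12571 F74260))
theorem Q13057 : ∀ i, i < 13057 → P i := stepQ 13056 Q13056 (allL N13056 (tt N12684 F74261) (tt N12547 F74262) (tt N12661 F74263) (tt N12929 F74264) (tt N12662 F74265) (tt N12864 F74266) (tt N12546 (iv D18943)) (tt N13423 (iv F75814)) (tt N12573 F74267))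
theorem Q13058 : ∀ i, i < 13058 → P i := stepQ 13057 Q13057 (allL N13057 (tt N12635 F74268) (tt N12801 F74269) (tt N12550 F74270) (tt N12662 F74271) (tt N12744 F74272) (tt N12754 F74273) (tt N12549 (iv D18944)) (tt N13378 (iv F75608)) (tt N12713 F74274))
theorem Q13059 : ∀ i, i < 13059 → P i := stepQ 13058 Q13058 (allL N13058 (tt N12558 F74275) (tt N12660 F74276) (tt N12786 F74277) (tt N12803 F74278) (tt N12867 F74279) (tt N12788 F74280) (tt N12554 (iv D18945)) (tt N12555 F74281) (tt N12802 F74282))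
theorem Q13060 : ∀ i, i < 13060 → P i := stepQ 13059 Q13059 (allL N13059 (tt N12867 F74283) (tt N12564 F74284) (tt N12871 F74285) (tt N13062 (iv F74304)) (tt N12558 F74286) (tt N12749 F74287) (tt N12557 (iv D18946)) (tt N12559 F74288) (tt N12995 F74289))
theorem Q13061 : ∀ i, i < 13061 → P i := stepQ 13060 Q13060 (allL N13060 (tt N13000 F74290) (tt N12945 F74291) (tt N12687 F74292) (tt N13090 (iv F74450)) (tt N13010 F74293) (tt N12692 F74294) (tt N12561 F74295) (tt N12560 (iv D18947)) (tt N13291 (iv F75295)))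
theorem Q13062 : ∀ i, i < 13062 → P i := stepQ 13061 Q13061 (allL N13061 (tt N12687 F74296) (tt N12749 F74297) (tt N13000 F74298) (tt N13207 (iv F74939)) (tt N12746 F74299) (tt N12564 F74300) (tt N12562 (iv D18948)) (tt N12570 F74301) (tt N13206 (iv F74935)))
theorem Q13063 : ∀ i, i < 13063 → P i := stepQ 13062 Q13062 (allL N13062 (tt N12690 F74302) (tt N12995 F74303) (tt N13388 (iv F75633)) (tt N13059 F74304) (tt N12566 F74305) (tt N13206 (iv F74934)) (tt N12563 (iv D18949)) (tt N13221 (iv F75009)) (tt N12564 F74306))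
theorem Q13064 : ∀ i, i < 13064 → P i := stepQ 13063 Q13063 (allL N13063 (tt N12698 F74307) (tt N13300 (iv F75336)) (tt N12566 F74308) (tt N12821 F74309) (tt N13388 (iv F75635)) (tt N12592 F74310) (tt N12565 (iv D18950)) (tt N13421 (iv F75803)) (tt N12569 F74311))
theorem Q13065 : ∀ i, i < 13065 → P i := stepQ 13064 Q13064 (allL N13064 (tt N12568 F74312) (tt N12700 F74313) (tt N12600 F74314) (tt N13240 (iv F75084)) (tt N12603 F74315) (tt N12567 (iv D18951)) (tt N13426 D19313) (tt N12572 F74316) (tt N13293 (iv F75305)))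
theorem Q13066 : ∀ i, i < 13066 → P i := stepQ 13065 Q13065 (allL N13065 (tt N13426 (iv F75821)) (tt N12569 F74317) (tt N12887 F74318) (tt N13241 (iv F75088)) (tt N12996 F74319) (tt N12889 F74320) (tt N12568 (iv D18952)) (tt N12573 F74321) (tt N13300 (iv F75341)))
theorem Q13067 : ∀ i, i < 13067 → P i := stepQ 13066 Q13066 (allL N13066 (tt N12573 F74322) (tt N12706 F74323) (tt N12605 F74324) (tt N12943 F74325) (tt N12606 F74326) (tt N12883 F74327) (tt N12572 (iv D18953)) (tt N13426 (iv F75826)) (tt N12684 F74328))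
theorem Q13068 : ∀ i, i < 13068 → P i := stepQ 13067 Q13067 (allL N13067 (tt N12579 F74329) (tt N12987 F74330) (tt N12787 F74331) (tt N12577 F74332) (tt N12790 F74333) (tt N12802 F74334) (tt N12576 (iv D18954)) (tt N12872 F74335) (tt N12788 F74336))
theorem Q13069 : ∀ i, i < 13069 → P i := stepQ 13068 Q13068 (allL N13068 (tt N12872 F74337) (tt N12585 F74338) (tt N12868 F74339) (tt N12604 F74340) (tt N12763 F74341) (tt N12947 F74342) (tt N12578 (iv D18955)) (tt N12579 F74343) (tt N12762 F74344))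
theorem Q13070 : ∀ i, i < 13070 → P i := stepQ 13069 Q13069 (allL N13069 (tt N12931 F74345) (tt N12859 F74346) (tt N13214 (iv F74971)) (tt N12580 (iv D18956)) (tt N13069 F74347) (tt N13427 D19314) (tt N12777 F74348) (tt N13428 D19315) (tt N12755 F74349))
theorem Q13071 : ∀ i, i < 13071 → P i := stepQ 13070 Q13070 (allL N13070 (tt N12932 F74350) (tt N12860 F74351) (tt N12581 F74352) (tt N13427 (iv F75829)) (tt N12584 F74353) (tt N12580 (iv D18957)) (tt N13429 D19316) (tt N12588 F74354) (tt N12756 F74355))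
theorem Q13072 : ∀ i, i < 13072 → P i := stepQ 13071 Q13071 (allL N13071 (tt N12933 F74356) (tt N12763 F74357) (tt N13429 (iv F75839)) (tt N13216 (iv F74982)) (tt N12585 F74358) (tt N12779 F74359) (tt N12581 (iv D18958)) (tt N12589 F74360) (tt N12757 F74361))
theorem Q13073 : ∀ i, i < 13073 → P i := stepQ 13072 Q13072 (allL N13072 (tt N13281 (iv F75258)) (tt N12583 F74362) (tt N13141 (iv F74680)) (tt N12582 (iv D18959)) (tt N13072 F74363) (tt N13430 D19317) (tt N13138 (iv F74666)) (tt N12970 F74364) (tt N12856 F74365))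
theorem Q13074 : ∀ i, i < 13074 → P i := stepQ 13073 Q13073 (allL N13073 (tt N13282 (iv F75263)) (tt N12584 F74366) (tt N12855 F74367) (tt N13430 (iv F75845)) (tt N12860 F74368) (tt N12582 (iv D18960)) (tt N13431 D19318) (tt N12591 F74369) (tt N12857 F74370))
theorem Q13075 : ∀ i, i < 13075 → P i := stepQ 13074 Q13074 (allL N13074 (tt N13407 (iv F75720)) (tt N13430 (iv F75844)) (tt N12625 F74371) (tt N12584 F74372) (tt N13432 D19319) (tt N12583 (iv D18961)) (tt N13433 D19320) (tt N12972 F74373) (tt N13415 (iv F75771)))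
theorem Q13076 : ∀ i, i < 13076 → P i := stepQ 13075 Q13075 (allL N13075 (tt N13408 (iv F75725)) (tt N13431 (iv F75848)) (tt N12585 F74374) (tt N13433 (iv F75857)) (tt N13429 (iv F75840)) (tt N13421 (iv F75802)) (tt N12584 (iv D18962)) (tt N12592 F74375) (tt N13416 (iv F75778)))
theorem Q13077 : ∀ i, i < 13077 → P i := stepQ 13076 Q13076 (allL N13076 (tt N13256 (iv F75154)) (tt N12750 F74376) (tt N13006 F74377) (tt N12838 F74378) (tt N13206 (iv F74933)) (tt N12589 F74379) (tt N12586 (iv D18963)) (tt N12779 F74380) (tt N12746 F74381))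
theorem Q13078 : ∀ i, i < 13078 → P i := stepQ 13077 Q13077 (allL N13077 (tt N13410 (iv F75737)) (tt N12890 F74382) (tt N12840 F74383) (tt N12588 F74384) (tt N12978 F74385) (tt N12587 (iv D18964)) (tt N13434 D19321) (tt N13435 D19322) (tt N12892 F74386))
theorem Q13079 : ∀ i, i < 13079 → P i := stepQ 13078 Q13078 (allL N13078 (tt N13411 (iv F75742)) (tt N12724 F74387) (tt N12736 F74388) (tt N13428 (iv F75833)) (tt N12593 F74389) (tt N13435 (iv F75868)) (tt N13005 F74390) (tt N12587 (iv D18965)) (tt N12905 F74391))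
theorem Q13080 : ∀ i, i < 13080 → P i := stepQ 13079 Q13079 (allL N13079 (tt N13412 (iv F75749)) (tt N12891 F74392) (tt N12589 F74393) (tt N13434 (iv F75861)) (tt N12592 F74394) (tt N13006 F74395) (tt N12588 (iv D18966)) (tt N13429 (iv F75842)) (tt N12893 F74396))
theorem Q13081 : ∀ i, i < 13081 → P i := stepQ 13080 Q13080 (allL N13080 (tt N12591 F74397) (tt N13413 (iv F75756)) (tt N12875 F74398) (tt N12980 F74399) (tt N12879 F74400) (tt N12590 (iv D18967)) (tt N13436 D19323) (tt N13282 (iv F75266)) (tt N12876 F74401))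
theorem Q13082 : ∀ i, i < 13082 → P i := stepQ 13081 Q13081 (allL N13081 (tt N13436 (iv F75870)) (tt N12592 F74402) (tt N12888 F74403) (tt N12981 F74404) (tt N12891 F74405) (tt N13300 (iv F75340)) (tt N12591 (iv D18968)) (tt N13431 (iv F75851)) (tt N12889 F74406))
theorem Q13083 : ∀ i, i < 13083 → P i := stepQ 13082 Q13082 (allL N13082 (tt N12937 F74407) (tt N12595 F74408) (tt N13109 (iv F74528)) (tt N12594 (iv D18969)) (tt N13082 F74409) (tt N13437 D19324) (tt N12623 F74410) (tt N12755 F74411) (tt N13405 (iv F75713)))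
theorem Q13084 : ∀ i, i < 13084 → P i := stepQ 13083 Q13083 (allL N13083 (tt N12941 F74412) (tt N12596 F74413) (tt N12760 F74414) (tt N13437 (iv F75877)) (tt N12935 F74415) (tt N12594 (iv D18970)) (tt N13438 D19325) (tt N12598 F74416) (tt N13406 (iv F75719)))
theorem Q13085 : ∀ i, i < 13085 → P i := stepQ 13084 Q13084 (allL N13084 (tt N13415 (iv F75766)) (tt N13437 (iv F75876)) (tt N13420 (iv F75796)) (tt N12596 F74417) (tt N13439 D19326) (tt N12595 (iv D18971)) (tt N13440 D19327) (tt N12862 F74418) (tt N13407 (iv F75724)))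
theorem Q13086 : ∀ i, i < 13086 → P i := stepQ 13085 Q13085 (allL N13085 (tt N13416 (iv F75772)) (tt N13438 (iv F75880)) (tt N12597 F74419) (tt N13440 (iv F75888)) (tt N12938 F74420) (tt N12626 F74421) (tt N12596 (iv D18972)) (tt N12599 F74422) (tt N13408 (iv F75730)))
theorem Q13087 : ∀ i, i < 13087 → P i := stepQ 13086 Q13086 (allL N13086 (tt N12940 F74423) (tt N12599 F74424) (tt N12759 F74425) (tt N12758 F74426) (tt N12939 F74427) (tt N12631 F74428) (tt N12598 (iv D18973)) (tt N13438 (iv F75884)) (tt N12654 F74429))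
theorem Q13088 : ∀ i, i < 13088 → P i := stepQ 13087 Q13087 (allL N13087 (tt N12887 F74430) (tt N12616 F74431) (tt N13426 (iv F75823)) (tt N13295 (iv F75314)) (tt N12604 F74432) (tt N12877 F74433) (tt N12600 (iv D18974)) (tt N12605 F74434) (tt N13294 (iv F75311)))
theorem Q13089 : ∀ i, i < 13089 → P i := stepQ 13088 Q13088 (allL N13088 (tt N12869 F74435) (tt N12784 F74436) (tt N12602 F74437) (tt N12865 F74438) (tt N13293 (iv F75303)) (tt N12601 (iv D18975)) (tt N13441 D19328) (tt N12674 F74439) (tt N12603 F74440))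
theorem Q13090 : ∀ i, i < 13090 → P i := stepQ 13089 Q13089 (allL N13089 (tt N12870 F74441) (tt N12621 F74442) (tt N13441 (iv F75893)) (tt N12762 F74443) (tt N13294 (iv F75309)) (tt N12949 F74444) (tt N12602 (iv D18976)) (tt N12675 F74445) (tt N12604 F74446))
theorem Q13091 : ∀ i, i < 13091 → P i := stepQ 13090 Q13090 (allL N13090 (tt N12996 F74447) (tt N12783 F74448) (tt N12604 F74449) (tt N13060 F74450) (tt N13426 (iv F75824)) (tt N12950 F74451) (tt N12603 (iv D18977)) (tt N12606 F74452) (tt N13441 (iv F75897)))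
theorem Q13092 : ∀ i, i < 13092 → P i := stepQ 13091 Q13091 (allL N13091 (tt N13222 (iv F75011)) (tt N13312 (iv F75377)) (tt N12614 F74453) (tt N12607 (iv D18978)) (tt N13091 F74454) (tt N13442 D19329) (tt N13096 (iv F74476)) (tt N12673 F74455) (tt N13022 F74456))
theorem Q13093 : ∀ i, i < 13093 → P i := stepQ 13092 Q13092 (allL N13092 (tt N13223 (iv F75018)) (tt N13326 (iv F75427)) (tt N12608 F74457) (tt N13442 (iv F75899)) (tt N13215 (iv F74977)) (tt N12607 (iv D18979)) (tt N13443 D19330) (tt N12865 F74458) (tt N13044 F74459))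
theorem Q13094 : ∀ i, i < 13094 → P i := stepQ 13093 Q13093 (allL N13093 (tt N13224 (iv F75024)) (tt N13295 (iv F75313)) (tt N13443 (iv F75902)) (tt N12616 F74460) (tt N13216 (iv F74983)) (tt N13098 (iv F74485)) (tt N12608 (iv D18980)) (tt N12866 F74461) (tt N13094 (iv F74467)))
theorem Q13095 : ∀ i, i < 13095 → P i := stepQ 13094 Q13094 (allL N13094 (tt N12776 F74462) (tt N12877 F74463) (tt N13417 (iv F75781)) (tt N13098 (iv F74483)) (tt N12768 F74464) (tt N12616 F74465) (tt N12609 (iv D18981)) (tt N12627 F74466) (tt N13093 F74467))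
theorem Q13096 : ∀ i, i < 13096 → P i := stepQ 13095 Q13095 (allL N13095 (tt N12672 F74468) (tt N12611 F74469) (tt N12693 F74470) (tt N13444 D19331) (tt N12610 (iv D18982)) (tt N13445 D19332) (tt N12920 F74471) (tt N12688 F74472) (tt N12613 F74473))
theorem Q13097 : ∀ i, i < 13097 → P i := stepQ 13096 Q13096 (allL N13096 (tt N13219 (iv F74993)) (tt N13444 (iv F75906)) (tt N13022 F74474) (tt N12611 (iv D18983)) (tt N13096 F74475) (tt N13446 D19333) (tt N13091 F74476) (tt N13018 F74477) (tt N12614 F74478))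
theorem Q13098 : ∀ i, i < 13098 → P i := stepQ 13097 Q13097 (allL N13097 (tt N13220 (iv F74999)) (tt N13445 (iv F75912)) (tt N12612 F74479) (tt N13446 (iv F75918)) (tt N12620 F74480) (tt N12611 (iv D18984)) (tt N13447 D19334) (tt N12689 F74481) (tt N12615 F74482))
theorem Q13099 : ∀ i, i < 13099 → P i := stepQ 13098 Q13098 (allL N13098 (tt N13221 (iv F75005)) (tt N13294 (iv F75307)) (tt N13447 (iv F75921)) (tt N13094 F74483) (tt N12621 F74484) (tt N13093 F74485) (tt N12612 (iv D18985)) (tt N12690 F74486) (tt N12616 F74487))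
theorem Q13100 : ∀ i, i < 13100 → P i := stepQ 13099 Q13099 (allL N13099 (tt N12676 F74488) (tt N12614 F74489) (tt N13448 D19335) (tt N12613 (iv D18986)) (tt N13099 F74490) (tt N13449 D19336) (tt N12902 F74491) (tt N12721 F74492) (tt N13444 (iv F75910)))
theorem Q13101 : ∀ i, i < 13101 → P i := stepQ 13100 Q13100 (allL N13100 (tt N12677 F74493) (tt N12615 F74494) (tt N12700 F74495) (tt N13449 (iv F75933)) (tt N12624 F74496) (tt N12613 (iv D18987)) (tt N13450 D19337) (tt N12628 F74497) (tt N13445 (iv F75916)))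
theorem Q13102 : ∀ i, i < 13102 → P i := stepQ 13101 Q13101 (allL N13101 (tt N13418 (iv F75785)) (tt N13449 (iv F75932)) (tt N13442 (iv F75898)) (tt N12615 F74498) (tt N13451 D19338) (tt N12614 (iv D18988)) (tt N13452 D19339) (tt N13236 (iv F75068)) (tt N13446 (iv F75920)))
theorem Q13103 : ∀ i, i < 13103 → P i := stepQ 13102 Q13102 (allL N13102 (tt N13419 (iv F75789)) (tt N13450 (iv F75936)) (tt N12616 F74499) (tt N13452 (iv F75943)) (tt N12626 F74500) (tt N13417 (iv F75783)) (tt N12615 (iv D18989)) (tt N12629 F74501) (tt N13447 (iv F75925)))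
theorem Q13104 : ∀ i, i < 13104 → P i := stepQ 13103 Q13103 (allL N13103 (tt N12618 F74502) (tt N12667 F74503) (tt N12688 F74504) (tt N13453 D19340) (tt N12617 (iv D18990)) (tt N13454 D19341) (tt N12942 F74505) (tt N12693 F74506) (tt N12622 F74507))
theorem Q13105 : ∀ i, i < 13105 → P i := stepQ 13104 Q13104 (allL N13104 (tt N13453 (iv F75944)) (tt N12619 F74508) (tt N13346 (iv F75481)) (tt N12618 (iv D18991)) (tt N13104 F74509) (tt N13455 D19342) (tt N13405 (iv F75711)) (tt N13456 D19343) (tt N12623 F74510))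
theorem Q13106 : ∀ i, i < 13106 → P i := stepQ 13105 Q13105 (allL N13105 (tt N13454 (iv F75950)) (tt N12620 F74511) (tt N12784 F74512) (tt N13455 (iv F75957)) (tt N13445 (iv F75914)) (tt N12618 (iv D18992)) (tt N13457 D19344) (tt N12695 F74513) (tt N12624 F74514))
theorem Q13107 : ∀ i, i < 13107 → P i := stepQ 13106 Q13106 (allL N13106 (tt N13420 (iv F75795)) (tt N13455 (iv F75956)) (tt N13415 (iv F75768)) (tt N12620 F74515) (tt N13458 D19345) (tt N12619 (iv D18993)) (tt N13459 D19346) (tt N13460 D19347) (tt N12625 F74516))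
theorem Q13108 : ∀ i, i < 13108 → P i := stepQ 13107 Q13107 (allL N13107 (tt N12815 F74517) (tt N13456 (iv F75959)) (tt N12848 F74518) (tt N12697 F74519) (tt N13107 F74520) (tt N13460 (iv F75975)) (tt N12906 F74521) (tt N12619 (iv D18994)) (tt N12991 F74522))
theorem Q13109 : ∀ i, i < 13109 → P i := stepQ 13108 Q13108 (allL N13108 (tt N13421 (iv F75800)) (tt N13457 (iv F75964)) (tt N12621 F74523) (tt N13459 (iv F75970)) (tt N13447 (iv F75922)) (tt N13408 (iv F75728)) (tt N12620 (iv D18995)) (tt N12698 F74524) (tt N12626 F74525))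
theorem Q13110 : ∀ i, i < 13110 → P i := stepQ 13109 Q13109 (allL N13109 (tt N12623 F74526) (tt N12669 F74527) (tt N13082 F74528) (tt N12622 (iv D18996)) (tt N13109 F74529) (tt N13461 D19348) (tt N12937 F74530) (tt N12766 F74531) (tt N13453 (iv F75949)))
theorem Q13111 : ∀ i, i < 13111 → P i := stepQ 13110 Q13110 (allL N13110 (tt N12624 F74532) (tt N12670 F74533) (tt N12691 F74534) (tt N13461 (iv F75980)) (tt N12677 F74535) (tt N12622 (iv D18997)) (tt N13462 D19349) (tt N12630 F74536) (tt N13454 (iv F75955)))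
theorem Q13112 : ∀ i, i < 13112 → P i := stepQ 13111 Q13111 (allL N13111 (tt N13461 (iv F75977)) (tt N12625 F74537) (tt N13345 (iv F75477)) (tt N12624 F74538) (tt N13463 D19350) (tt N12623 (iv D18998)) (tt N13464 D19351) (tt N12780 F74539) (tt N13455 (iv F75958)))
theorem Q13113 : ∀ i, i < 13113 → P i := stepQ 13112 Q13112 (allL N13112 (tt N13462 (iv F75982)) (tt N12626 F74540) (tt N12783 F74541) (tt N13464 (iv F75992)) (tt N13450 (iv F75938)) (tt N13438 (iv F75883)) (tt N12624 (iv D18999)) (tt N12631 F74542) (tt N13457 (iv F75967)))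
theorem Q13114 : ∀ i, i < 13114 → P i := stepQ 13113 Q13113 (allL N13113 (tt N13424 (iv F75815)) (tt N13463 (iv F75988)) (tt N13432 (iv F75853)) (tt N13451 (iv F75941)) (tt N12625 (iv D19000)) (tt N13113 F74543) (tt N13465 D19352) (tt N12993 F74544) (tt N13458 (iv F75969)))
theorem Q13115 : ∀ i, i < 13115 → P i := stepQ 13114 Q13114 (allL N13114 (tt N13425 (iv F75818)) (tt N13464 (iv F75991)) (tt N13433 (iv F75856)) (tt N12626 F74545) (tt N13465 (iv F75994)) (tt N13440 (iv F75889)) (tt N12625 (iv D19001)) (tt N12994 F74546) (tt N13459 (iv F75971)))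
theorem Q13116 : ∀ i, i < 13116 → P i := stepQ 13115 Q13115 (allL N13115 (tt N12685 F74547) (tt N12629 F74548) (tt N12706 F74549) (tt N12745 F74550) (tt N12631 F74551) (tt N12918 F74552) (tt N12628 (iv D19002)) (tt N13450 (iv F75940)) (tt N12705 F74553))
theorem Q13117 : ∀ i, i < 13117 → P i := stepQ 13116 Q13116 (allL N13116 (tt N12631 F74554) (tt N12684 F74555) (tt N12705 F74556) (tt N12769 F74557) (tt N12685 F74558) (tt N12940 F74559) (tt N12630 (iv D19003)) (tt N13462 (iv F75987)) (tt N12706 F74560))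
theorem Q13118 : ∀ i, i < 13118 → P i := stepQ 13117 Q13117 (allL N13117 (tt N13377 (iv F75598)) (tt N12731 F74561) (tt N13121 (iv F74582)) (tt N12633 F74562) (tt N13466 D19353) (tt N12632 (iv D19004)) (tt N13467 D19354) (tt N12678 F74563) (tt N13021 F74564))
theorem Q13119 : ∀ i, i < 13119 → P i := stepQ 13118 Q13118 (allL N13118 (tt N13378 (iv F75603)) (tt N12732 F74565) (tt N12634 F74566) (tt N13467 (iv F76002)) (tt N12903 F74567) (tt N12800 F74568) (tt N12633 (iv D19005)) (tt N12635 F74569) (tt N13023 F74570))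
theorem Q13120 : ∀ i, i < 13120 → P i := stepQ 13119 Q13119 (allL N13119 (tt N12902 F74571) (tt N12637 F74572) (tt N13192 (iv F74887)) (tt N12636 (iv D19006)) (tt N13119 F74573) (tt N13468 D19355) (tt N12676 F74574) (tt N12715 F74575) (tt N13398 (iv F75682)))
theorem Q13121 : ∀ i, i < 13121 → P i := stepQ 13120 Q13120 (allL N13120 (tt N12919 F74576) (tt N12638 F74577) (tt N12648 F74578) (tt N13468 (iv F76008)) (tt N12926 F74579) (tt N12636 (iv D19007)) (tt N13469 D19356) (tt N12640 F74580) (tt N13399 (iv F75688)))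
theorem Q13122 : ∀ i, i < 13122 → P i := stepQ 13121 Q13121 (allL N13121 (tt N12988 F74581) (tt N13468 (iv F76007)) (tt N13117 F74582) (tt N12638 F74583) (tt N13470 D19357) (tt N12637 (iv D19008)) (tt N13471 D19358) (tt N12799 F74584) (tt N13400 (iv F75692)))
theorem Q13123 : ∀ i, i < 13123 → P i := stepQ 13122 Q13122 (allL N13122 (tt N12989 F74585) (tt N13469 (iv F76011)) (tt N12639 F74586) (tt N13471 (iv F76023)) (tt N12928 F74587) (tt N12679 F74588) (tt N12638 (iv D19009)) (tt N12641 F74589) (tt N13401 (iv F75698)))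
theorem Q13124 : ∀ i, i < 13124 → P i := stepQ 13123 Q13123 (allL N13123 (tt N12918 F74590) (tt N12641 F74591) (tt N12654 F74592) (tt N12744 F74593) (tt N12929 F74594) (tt N12685 F74595) (tt N12640 (iv D19010)) (tt N13469 (iv F76015)) (tt N12759 F74596))
theorem Q13125 : ∀ i, i < 13125 → P i := stepQ 13124 Q13124 (allL N13124 (tt N12746 F74597) (tt N12850 F74598) (tt N13010 F74599) (tt N13259 (iv F75172)) (tt N12687 F74600) (tt N12646 F74601) (tt N12642 (iv D19011)) (tt N12650 F74602) (tt N13256 (iv F75159)))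
theorem Q13126 : ∀ i, i < 13126 → P i := stepQ 13125 Q13125 (allL N13125 (tt N12881 F74603) (tt N12645 F74604) (tt N12926 F74605) (tt N13266 (iv F75197)) (tt N12648 F74606) (tt N12643 (iv D19012)) (tt N13472 D19359) (tt N12651 F74607) (tt N13409 (iv F75736)))
theorem Q13127 : ∀ i, i < 13127 → P i := stepQ 13126 Q13126 (allL N13126 (tt N12892 F74608) (tt N13266 (iv F75196)) (tt N13321 (iv F75413)) (tt N12645 F74609) (tt N13202 (iv F74920)) (tt N12644 (iv D19013)) (tt N13473 D19360) (tt N13204 (iv F74927)) (tt N13410 (iv F75741)))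
theorem Q13128 : ∀ i, i < 13128 → P i := stepQ 13127 Q13127 (allL N13127 (tt N12893 F74610) (tt N13472 (iv F76027)) (tt N12646 F74611) (tt N13473 (iv F76033)) (tt N12649 F74612) (tt N13010 F74613) (tt N12645 (iv D19014)) (tt N12653 F74614) (tt N13412 (iv F75754)))
theorem Q13129 : ∀ i, i < 13129 → P i := stepQ 13128 Q13128 (allL N13128 (tt N12648 F74615) (tt N12876 F74616) (tt N12919 F74617) (tt N13204 (iv F74926)) (tt N12881 F74618) (tt N12647 (iv D19015)) (tt N13474 D19361) (tt N12652 F74619) (tt N13413 (iv F75761)))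
theorem Q13130 : ∀ i, i < 13130 → P i := stepQ 13129 Q13129 (allL N13129 (tt N13474 (iv F76035)) (tt N12649 F74620) (tt N13469 (iv F76012)) (tt N13205 (iv F74929)) (tt N13472 (iv F76029)) (tt N12703 F74621) (tt N12648 (iv D19016)) (tt N12654 F74622) (tt N13414 (iv F75765)))
theorem Q13131 : ∀ i, i < 13131 → P i := stepQ 13130 Q13130 (allL N13130 (tt N12884 F74623) (tt N12653 F74624) (tt N12929 F74625) (tt N12883 F74626) (tt N12654 F74627) (tt N12943 F74628) (tt N12651 (iv D19017)) (tt N13472 (iv F76031)) (tt N12939 F74629))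
theorem Q13132 : ∀ i, i < 13132 → P i := stepQ 13131 Q13131 (allL N13131 (tt N12654 F74630) (tt N12883 F74631) (tt N12918 F74632) (tt N12653 F74633) (tt N12884 F74634) (tt N12706 F74635) (tt N12652 (iv D19018)) (tt N13474 (iv F76040)) (tt N12940 F74636))
theorem Q13133 : ∀ i, i < 13133 → P i := stepQ 13132 Q13132 (allL N13132 (tt N12671 F74637) (tt N12867 F74638) (tt N13423 (iv F75811)) (tt N13146 (iv F74704)) (tt N12660 F74639) (tt N12858 F74640) (tt N12655 (iv D19019)) (tt N12661 F74641) (tt N13140 (iv F74677)))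
theorem Q13134 : ∀ i, i < 13134 → P i := stepQ 13133 Q13133 (allL N13133 (tt N12673 F74642) (tt N13219 (iv F74994)) (tt N12793 F74643) (tt N12656 (iv D19020)) (tt N13133 F74644) (tt N13475 D19362) (tt N12985 F74645) (tt N13222 (iv F75016)) (tt N12658 F74646))
theorem Q13135 : ∀ i, i < 13135 → P i := stepQ 13134 Q13134 (allL N13134 (tt N12674 F74647) (tt N13220 (iv F75000)) (tt N12657 F74648) (tt N13475 (iv F76043)) (tt N13139 (iv F74670)) (tt N12656 (iv D19021)) (tt N13476 D19363) (tt N12869 F74649) (tt N12659 F74650))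
theorem Q13136 : ∀ i, i < 13136 → P i := stepQ 13135 Q13135 (allL N13135 (tt N12675 F74651) (tt N12802 F74652) (tt N13476 (iv F76046)) (tt N12795 F74653) (tt N13140 (iv F74675)) (tt N12987 F74654) (tt N12657 (iv D19022)) (tt N12870 F74655) (tt N12660 F74656))
theorem Q13137 : ∀ i, i < 13137 → P i := stepQ 13136 Q13136 (allL N13136 (tt N12678 F74657) (tt N13418 (iv F75786)) (tt N13208 (iv F74945)) (tt N12659 F74658) (tt N13477 D19364) (tt N12658 (iv D19023)) (tt N13478 D19365) (tt N13377 (iv F75602)) (tt N13475 (iv F76044)))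
theorem Q13138 : ∀ i, i < 13138 → P i := stepQ 13137 Q13137 (allL N13137 (tt N12679 F74659) (tt N13419 (iv F75790)) (tt N12660 F74660) (tt N13478 (iv F76053)) (tt N13423 (iv F75812)) (tt N12989 F74661) (tt N12659 (iv D19024)) (tt N12662 F74662) (tt N13476 (iv F76049)))
theorem Q13139 : ∀ i, i < 13139 → P i := stepQ 13138 Q13138 (allL N13138 (tt N13144 (iv F74694)) (tt N13048 F74663) (tt N12669 F74664) (tt N12663 (iv D19025)) (tt N13138 F74665) (tt N13479 D19366) (tt N13072 F74666) (tt N13250 (iv F75138)) (tt N13051 F74667))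
theorem Q13140 : ∀ i, i < 13140 → P i := stepQ 13139 Q13139 (allL N13139 (tt N13145 (iv F74698)) (tt N13049 F74668) (tt N12664 F74669) (tt N13479 (iv F76057)) (tt N13134 F74670) (tt N12663 (iv D19026)) (tt N13480 D19367) (tt N12885 F74671) (tt N13052 F74672))
theorem Q13141 : ∀ i, i < 13141 → P i := stepQ 13140 Q13140 (allL N13140 (tt N13146 (iv F74702)) (tt N12686 F74673) (tt N13480 (iv F76060)) (tt N12671 F74674) (tt N13135 F74675) (tt N13284 (iv F75277)) (tt N12664 (iv D19027)) (tt N12886 F74676) (tt N13132 F74677))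
theorem Q13142 : ∀ i, i < 13142 → P i := stepQ 13141 Q13141 (allL N13141 (tt N12856 F74678) (tt N12937 F74679) (tt N13072 F74680) (tt N12665 (iv D19028)) (tt N13141 F74681) (tt N13481 D19368) (tt N12669 F74682) (tt N12934 F74683) (tt N13281 (iv F75262)))
theorem Q13143 : ∀ i, i < 13143 → P i := stepQ 13142 Q13142 (allL N13142 (tt N12857 F74684) (tt N12941 F74685) (tt N12666 F74686) (tt N13481 (iv F76068)) (tt N12849 F74687) (tt N12665 (iv D19029)) (tt N13482 D19369) (tt N12680 F74688) (tt N13282 (iv F75267)))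
theorem Q13144 : ∀ i, i < 13144 → P i := stepQ 13143 Q13143 (allL N13143 (tt N12858 F74689) (tt N12687 F74690) (tt N13482 (iv F76072)) (tt N13284 (iv F75275)) (tt N12850 F74691) (tt N12671 F74692) (tt N12666 (iv D19030)) (tt N12681 F74693) (tt N13283 (iv F75272)))
theorem Q13145 : ∀ i, i < 13145 → P i := stepQ 13144 Q13144 (allL N13144 (tt N13138 F74694) (tt N13453 (iv F75945)) (tt N13051 F74695) (tt N12667 (iv D19031)) (tt N13144 F74696) (tt N13483 D19370) (tt N13281 (iv F75261)) (tt N13331 (iv F75446)) (tt N12669 F74697))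
theorem Q13146 : ∀ i, i < 13146 → P i := stepQ 13145 Q13145 (allL N13145 (tt N13139 F74698) (tt N13454 (iv F75951)) (tt N12668 F74699) (tt N13483 (iv F76078)) (tt N12674 F74700) (tt N12667 (iv D19032)) (tt N13484 D19371) (tt N13293 (iv F75304)) (tt N12670 F74701))
theorem Q13147 : ∀ i, i < 13147 → P i := stepQ 13146 Q13146 (allL N13146 (tt N13140 F74702) (tt N12690 F74703) (tt N13484 (iv F76081)) (tt N13132 F74704) (tt N12675 F74705) (tt N13283 (iv F75271)) (tt N12668 (iv D19033)) (tt N13294 (iv F75310)) (tt N12671 F74706))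
theorem Q13148 : ∀ i, i < 13148 → P i := stepQ 13147 Q13147 (allL N13147 (tt N13422 (iv F75805)) (tt N13461 (iv F75978)) (tt N13479 (iv F76056)) (tt N12670 F74707) (tt N13485 D19372) (tt N12669 (iv D19034)) (tt N13486 D19373) (tt N13487 D19374) (tt N13483 (iv F76079)))
theorem Q13149 : ∀ i, i < 13149 → P i := stepQ 13148 Q13148 (allL N13148 (tt N12925 F74708) (tt N12766 F74709) (tt N13250 (iv F75135)) (tt N12683 F74710) (tt N13148 F74711) (tt N13487 (iv F76090)) (tt N12934 F74712) (tt N12669 (iv D19035)) (tt N13488 D19375))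
theorem Q13150 : ∀ i, i < 13150 → P i := stepQ 13149 Q13149 (allL N13149 (tt N13423 (iv F75809)) (tt N13462 (iv F75983)) (tt N12671 F74713) (tt N13486 (iv F76086)) (tt N12679 F74714) (tt N13482 (iv F76074)) (tt N12670 (iv D19036)) (tt N12684 F74715) (tt N13484 (iv F76083)))
theorem Q13151 : ∀ i, i < 13151 → P i := stepQ 13150 Q13150 (allL N13150 (tt N13444 (iv F75905)) (tt N12673 F74716) (tt N13489 D19376) (tt N12672 (iv D19037)) (tt N13150 F74717) (tt N13490 D19377) (tt N13398 (iv F75681)) (tt N13312 (iv F75380)) (tt N12676 F74718))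
theorem Q13152 : ∀ i, i < 13152 → P i := stepQ 13151 Q13151 (allL N13151 (tt N13445 (iv F75911)) (tt N12674 F74719) (tt N12695 F74720) (tt N13490 (iv F76102)) (tt N13454 (iv F75953)) (tt N12672 (iv D19038)) (tt N13491 D19378) (tt N12784 F74721) (tt N12677 F74722))
theorem Q13153 : ∀ i, i < 13153 → P i := stepQ 13152 Q13152 (allL N13152 (tt N13475 (iv F76041)) (tt N13490 (iv F76101)) (tt N13236 (iv F75066)) (tt N12674 F74723) (tt N13492 D19379) (tt N12673 (iv D19039)) (tt N13493 D19380) (tt N13442 (iv F75900)) (tt N12678 F74724))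
theorem Q13154 : ∀ i, i < 13154 → P i := stepQ 13153 Q13153 (allL N13153 (tt N13476 (iv F76045)) (tt N13491 (iv F76104)) (tt N12675 F74725) (tt N13493 (iv F76110)) (tt N13484 (iv F76082)) (tt N13401 (iv F75696)) (tt N12674 (iv D19040)) (tt N13441 (iv F75896)) (tt N12679 F74726))
theorem Q13155 : ∀ i, i < 13155 → P i := stepQ 13154 Q13154 (allL N13154 (tt N13448 (iv F75926)) (tt N12961 F74727) (tt N12676 (iv D19041)) (tt N12701 F74728) (tt N13154 F74729) (tt N13494 D19381) (tt N13192 (iv F74889)) (tt N12728 F74730) (tt N13489 (iv F76100)))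
theorem Q13156 : ∀ i, i < 13156 → P i := stepQ 13155 Q13155 (allL N13155 (tt N13449 (iv F75931)) (tt N12678 F74731) (tt N13494 (iv F76113)) (tt N12677 F74732) (tt N13495 D19382) (tt N12676 (iv D19042)) (tt N13496 D19383) (tt N12731 F74733) (tt N13490 (iv F76103)))
theorem Q13157 : ∀ i, i < 13157 → P i := stepQ 13156 Q13156 (allL N13156 (tt N13450 (iv F75935)) (tt N12679 F74734) (tt N12703 F74735) (tt N13496 (iv F76120)) (tt N13462 (iv F75985)) (tt N13469 (iv F76014)) (tt N12677 (iv D19043)) (tt N12685 F74736) (tt N13491 (iv F76107)))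
theorem Q13158 : ∀ i, i < 13158 → P i := stepQ 13157 Q13157 (allL N13157 (tt N13477 (iv F76050)) (tt N13495 (iv F76116)) (tt N13238 (iv F75077)) (tt N13485 (iv F76084)) (tt N12678 (iv D19044)) (tt N13157 F74737) (tt N13497 D19384) (tt N13466 (iv F75999)) (tt N13492 (iv F76109)))
theorem Q13159 : ∀ i, i < 13159 → P i := stepQ 13158 Q13158 (allL N13158 (tt N13478 (iv F76052)) (tt N13496 (iv F76119)) (tt N13239 (iv F75079)) (tt N12679 F74738) (tt N13497 (iv F76122)) (tt N13471 (iv F76024)) (tt N12678 (iv D19045)) (tt N13467 (iv F76004)) (tt N13493 (iv F76111)))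
theorem Q13160 : ∀ i, i < 13160 → P i := stepQ 13159 Q13159 (allL N13159 (tt N12864 F74739) (tt N12940 F74740) (tt N12681 F74741) (tt N12939 F74742) (tt N12852 F74743) (tt N12684 F74744) (tt N12680 (iv D19046)) (tt N13482 (iv F76075)) (tt N12883 F74745))
theorem Q13161 : ∀ i, i < 13161 → P i := stepQ 13160 Q13160 (allL N13160 (tt N12929 F74746) (tt N12769 F74747) (tt N12884 F74748) (tt N12684 F74749) (tt N12918 F74750) (tt N12939 F74751) (tt N12682 (iv D19047)) (tt N13498 D19385) (tt N12943 F74752))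
theorem Q13162 : ∀ i, i < 13162 → P i := stepQ 13161 Q13161 (allL N13161 (tt N12926 F74753) (tt N12767 F74754) (tt N12881 F74755) (tt N13487 (iv F76089)) (tt N12919 F74756) (tt N12683 F74757) (tt N13498 (iv F76128)) (tt N12682 (iv D19048)) (tt N13499 D19386))
theorem Q13163 : ∀ i, i < 13163 → P i := stepQ 13162 Q13162 (allL N13162 (tt N12921 F74758) (tt N12764 F74759) (tt N12878 F74760) (tt N13488 (iv F76093)) (tt N12711 F74761) (tt N13499 (iv F76133)) (tt N12930 F74762) (tt N12951 F74763) (tt N12683 (iv D19049)))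
theorem Q13164 : ∀ i, i < 13164 → P i := stepQ 13163 Q13163 (allL N13163 (tt N12784 F74764) (tt N12689 F74765) (tt N13454 (iv F75952)) (tt N13213 (iv F74967)) (tt N12695 F74766) (tt N12688 (iv D19050)) (tt N13500 D19387) (tt N13445 (iv F75915)) (tt N12691 F74767))
theorem Q13165 : ∀ i, i < 13165 → P i := stepQ 13164 Q13164 (allL N13164 (tt N13388 (iv F75631)) (tt N13500 (iv F76136)) (tt N12690 F74768) (tt N13353 (iv F75507)) (tt N12698 F74769) (tt N13291 (iv F75294)) (tt N12689 (iv D19051)) (tt N13447 (iv F75924)) (tt N12692 F74770))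
theorem Q13166 : ∀ i, i < 13166 → P i := stepQ 13165 Q13165 (allL N13165 (tt N12783 F74771) (tt N12692 F74772) (tt N13462 (iv F75984)) (tt N13212 (iv F74961)) (tt N12703 F74773) (tt N12945 F74774) (tt N12691 (iv D19052)) (tt N12705 F74775) (tt N13500 (iv F76139)))
theorem Q13167 : ∀ i, i < 13167 → P i := stepQ 13166 Q13166 (allL N13166 (tt N12694 F74776) (tt N12819 F74777) (tt N13501 D19388) (tt N12693 (iv D19053)) (tt N12707 F74778) (tt N13502 D19389) (tt N12914 F74779) (tt N13503 D19390) (tt N12699 F74780))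
theorem Q13168 : ∀ i, i < 13168 → P i := stepQ 13167 Q13167 (allL N13167 (tt N12695 F74781) (tt N13293 (iv F75300)) (tt N13445 (iv F75913)) (tt N13502 (iv F76148)) (tt N12784 F74782) (tt N12693 (iv D19054)) (tt N13504 D19391) (tt N13454 (iv F75954)) (tt N12700 F74783))
theorem Q13169 : ∀ i, i < 13169 → P i := stepQ 13168 Q13168 (allL N13168 (tt N13501 (iv F76140)) (tt N12719 F74784) (tt N12694 (iv D19055)) (tt N13489 (iv F76097)) (tt N12708 F74785) (tt N13505 D19392) (tt N12897 F74786) (tt N13257 (iv F75163)) (tt N12701 F74787))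
theorem Q13170 : ∀ i, i < 13170 → P i := stepQ 13169 Q13169 (allL N13169 (tt N13502 (iv F76146)) (tt N12696 F74788) (tt N13505 (iv F76160)) (tt N12695 F74789) (tt N13355 (iv F75517)) (tt N12694 (iv D19056)) (tt N13506 D19393) (tt N13507 D19394) (tt N12702 F74790))
theorem Q13171 : ∀ i, i < 13171 → P i := stepQ 13170 Q13170 (allL N13170 (tt N13503 (iv F76150)) (tt N12697 F74791) (tt N13257 (iv F75161)) (tt N13456 (iv F75960)) (tt N12709 F74792) (tt N13507 (iv F76168)) (tt N12905 F74793) (tt N12694 (iv D19057)) (tt N13005 F74794))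
theorem Q13172 : ∀ i, i < 13172 → P i := stepQ 13171 Q13171 (allL N13171 (tt N13504 (iv F76156)) (tt N12698 F74795) (tt N13491 (iv F76105)) (tt N13506 (iv F76164)) (tt N13500 (iv F76137)) (tt N13414 (iv F75764)) (tt N12695 (iv D19058)) (tt N13457 (iv F75966)) (tt N12703 F74796))
theorem Q13173 : ∀ i, i < 13173 → P i := stepQ 13172 Q13172 (allL N13172 (tt N12821 F74797) (tt N13506 (iv F76163)) (tt N12808 F74798) (tt N12698 F74799) (tt N13357 (iv F75524)) (tt N12916 F74800) (tt N12696 (iv D19059)) (tt N13508 D19395) (tt N12704 F74801))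
theorem Q13174 : ∀ i, i < 13174 → P i := stepQ 13173 Q13173 (allL N13173 (tt N12816 F74802) (tt N13507 (iv F76167)) (tt N12807 F74803) (tt N13460 (iv F75974)) (tt N13247 (iv F75120)) (tt N12697 F74804) (tt N13508 (iv F76173)) (tt N12696 (iv D19060)) (tt N13008 F74805))
theorem Q13175 : ∀ i, i < 13175 → P i := stepQ 13174 Q13174 (allL N13174 (tt N12701 F74806) (tt N13303 (iv F75353)) (tt N12699 (iv D19061)) (tt N13448 (iv F75927)) (tt N12710 F74807) (tt N13509 D19396) (tt N13191 (iv F74884)) (tt N12976 F74808) (tt N13501 (iv F76144)))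
theorem Q13176 : ∀ i, i < 13176 → P i := stepQ 13175 Q13175 (allL N13175 (tt N12702 F74809) (tt N13240 (iv F75082)) (tt N13509 (iv F76176)) (tt N12700 F74810) (tt N13350 (iv F75495)) (tt N12699 (iv D19062)) (tt N13510 D19397) (tt N13009 F74811) (tt N13502 (iv F76149)))
theorem Q13177 : ∀ i, i < 13177 → P i := stepQ 13176 Q13176 (allL N13176 (tt N12703 F74812) (tt N13426 (iv F75822)) (tt N13450 (iv F75937)) (tt N13510 (iv F76180)) (tt N12783 F74813) (tt N13474 (iv F76039)) (tt N12700 (iv D19063)) (tt N12706 F74814) (tt N13504 (iv F76158)))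
theorem Q13178 : ∀ i, i < 13178 → P i := stepQ 13177 Q13177 (allL N13177 (tt N13509 (iv F76175)) (tt N12962 F74815) (tt N12702 F74816) (tt N13494 (iv F76114)) (tt N12971 F74817) (tt N12701 (iv D19064)) (tt N13511 D19398) (tt N12977 F74818) (tt N13505 (iv F76162)))
theorem Q13179 : ∀ i, i < 13179 → P i := stepQ 13178 Q13178 (allL N13178 (tt N13510 (iv F76179)) (tt N12704 F74819) (tt N13511 (iv F76183)) (tt N12703 F74820) (tt N13358 (iv F75529)) (tt N13205 (iv F74930)) (tt N12702 (iv D19065)) (tt N13011 F74821) (tt N13506 (iv F76166)))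
theorem Q13180 : ∀ i, i < 13180 → P i := stepQ 13179 Q13179 (allL N13179 (tt N12708 F74822) (tt N12726 F74823) (tt N12707 (iv D19066)) (tt N13179 F74824) (tt N13501 (iv F76142)) (tt N12964 F74825) (tt N12896 F74826) (tt N12917 (iv F74828)) (tt N12710 F74827))
theorem Q13181 : ∀ i, i < 13181 → P i := stepQ 13180 Q13180 (allL N13180 (tt N12709 F74829) (tt N12813 F74830) (tt N12917 F74831) (tt N13180 F74832) (tt N13503 (iv F76153)) (tt N13244 (iv F75103)) (tt N12904 F74833) (tt N12707 (iv D19067)) (tt N13013 F74834))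
theorem Q13182 : ∀ i, i < 13182 → P i := stepQ 13181 Q13181 (allL N13181 (tt N12901 F74835) (tt N12799 F74836) (tt N13359 (iv F75533)) (tt N12716 F74837) (tt N13512 D19399) (tt N12715 (iv D19068)) (tt N13513 D19400) (tt N13468 (iv F76009)) (tt N13186 (iv F74860)))
theorem Q13183 : ∀ i, i < 13183 → P i := stepQ 13182 Q13182 (allL N13182 (tt N12903 F74838) (tt N12800 F74839) (tt N12717 F74840) (tt N13513 (iv F76191)) (tt N13378 (iv F75606)) (tt N12732 F74841) (tt N12716 (iv D19069)) (tt N12744 F74842) (tt N13187 (iv F74865)))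
theorem Q13184 : ∀ i, i < 13184 → P i := stepQ 13183 Q13183 (allL N13183 (tt N12728 F74843) (tt N13489 (iv F76096)) (tt N12721 F74844) (tt N12719 (iv D19070)) (tt N13183 F74845) (tt N13514 D19401) (tt N12898 F74846) (tt N13448 (iv F75930)) (tt N12961 F74847))
theorem Q13185 : ∀ i, i < 13185 → P i := stepQ 13184 Q13184 (allL N13184 (tt N12729 F74848) (tt N13505 (iv F76159)) (tt N12720 F74849) (tt N13514 (iv F76195)) (tt N12967 F74850) (tt N12719 (iv D19071)) (tt N13515 D19402) (tt N13258 (iv F75168)) (tt N12962 F74851))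
theorem Q13186 : ∀ i, i < 13186 → P i := stepQ 13185 Q13185 (allL N13185 (tt N12730 F74852) (tt N12808 F74853) (tt N13515 (iv F76198)) (tt N12723 F74854) (tt N12968 F74855) (tt N12900 F74856) (tt N12720 (iv D19072)) (tt N13259 (iv F75175)) (tt N12963 F74857))
theorem Q13187 : ∀ i, i < 13187 → P i := stepQ 13186 Q13186 (allL N13186 (tt N12731 F74858) (tt N13236 (iv F75065)) (tt N13514 (iv F76194)) (tt N12722 F74859) (tt N13516 D19403) (tt N12721 (iv D19073)) (tt N13517 D19404) (tt N13449 (iv F75934)) (tt N13181 F74860))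
theorem Q13188 : ∀ i, i < 13188 → P i := stepQ 13187 Q13187 (allL N13187 (tt N12732 F74861) (tt N13237 (iv F75071)) (tt N12723 F74862) (tt N13517 (iv F76206)) (tt N13397 (iv F75673)) (tt N12903 F74863) (tt N12722 (iv D19074)) (tt N12745 F74864) (tt N13182 F74865))
theorem Q13189 : ∀ i, i < 13189 → P i := stepQ 13188 Q13188 (allL N13188 (tt N12966 F74866) (tt N13428 (iv F75832)) (tt N12922 F74867) (tt N12724 (iv D19075)) (tt N13188 F74868) (tt N13518 D19405) (tt N12991 F74869) (tt N12859 F74870) (tt N12906 F74871))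
theorem Q13190 : ∀ i, i < 13190 → P i := stepQ 13189 Q13189 (allL N13189 (tt N12967 F74872) (tt N13435 (iv F75865)) (tt N12725 F74873) (tt N13518 (iv F76211)) (tt N12729 F74874) (tt N12724 (iv D19076)) (tt N13519 D19406) (tt N12890 F74875) (tt N12907 F74876))
theorem Q13191 : ∀ i, i < 13191 → P i := stepQ 13190 Q13190 (allL N13190 (tt N12968 F74877) (tt N12739 F74878) (tt N13519 (iv F76215)) (tt N12924 F74879) (tt N12730 F74880) (tt N13243 (iv F75097)) (tt N12725 (iv D19077)) (tt N13198 (iv F74904)) (tt N12908 F74881))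
theorem Q13192 : ∀ i, i < 13192 → P i := stepQ 13191 Q13191 (allL N13191 (tt N12727 F74882) (tt N13501 (iv F76141)) (tt N12740 F74883) (tt N13307 (iv F75367)) (tt N12726 (iv D19078)) (tt N13520 D19407) (tt N13174 F74884) (tt N12911 F74885) (tt N13303 (iv F75355)))
theorem Q13193 : ∀ i, i < 13193 → P i := stepQ 13192 Q13192 (allL N13192 (tt N13307 (iv F75365)) (tt N12728 F74886) (tt N13119 F74887) (tt N12727 (iv D19079)) (tt N13192 F74888) (tt N13521 D19408) (tt N13154 F74889) (tt N12961 F74890) (tt N13304 (iv F75358)))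
theorem Q13194 : ∀ i, i < 13194 → P i := stepQ 13193 Q13193 (allL N13193 (tt N13520 (iv F76220)) (tt N12729 F74891) (tt N12741 F74892) (tt N13521 (iv F76225)) (tt N13435 (iv F75867)) (tt N12727 (iv D19080)) (tt N13522 D19409) (tt N12978 F74893) (tt N13305 (iv F75361)))
theorem Q13195 : ∀ i, i < 13195 → P i := stepQ 13194 Q13194 (allL N13194 (tt N13514 (iv F76193)) (tt N13521 (iv F76223)) (tt N12731 F74894) (tt N12729 F74895) (tt N13523 D19410) (tt N12728 (iv D19081)) (tt N13524 D19411) (tt N13494 (iv F76115)) (tt N13306 (iv F75364)))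
theorem Q13196 : ∀ i, i < 13196 → P i := stepQ 13195 Q13195 (allL N13195 (tt N13515 (iv F76197)) (tt N13522 (iv F76227)) (tt N12730 F74896) (tt N13524 (iv F76234)) (tt N13519 (iv F76216)) (tt N13360 (iv F75538)) (tt N12729 (iv D19082)) (tt N13372 (iv F75579)) (tt N13308 (iv F75370)))
theorem Q13197 : ∀ i, i < 13197 → P i := stepQ 13196 Q13196 (allL N13196 (tt N13516 (iv F76202)) (tt N13466 (iv F75996)) (tt N13523 (iv F76231)) (tt N13402 (iv F75700)) (tt N12731 (iv D19083)) (tt N13196 F74897) (tt N13525 D19412) (tt N13495 (iv F76118)) (tt N13309 (iv F75372)))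
theorem Q13198 : ∀ i, i < 13198 → P i := stepQ 13197 Q13197 (allL N13197 (tt N13517 (iv F76205)) (tt N13467 (iv F76001)) (tt N13524 (iv F76233)) (tt N12732 F74898) (tt N13525 (iv F76235)) (tt N13513 (iv F76192)) (tt N12731 (iv D19084)) (tt N13496 (iv F76121)) (tt N13310 (iv F75374)))
theorem Q13199 : ∀ i, i < 13199 → P i := stepQ 13198 Q13198 (allL N13198 (tt N12833 F74899) (tt N12838 F74900) (tt N13301 (iv F75343)) (tt N12750 F74901) (tt N12975 F74902) (tt N12818 F74903) (tt N12733 (iv D19085)) (tt N13190 F74904) (tt N12734 F74905))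
theorem Q13200 : ∀ i, i < 13200 → P i := stepQ 13199 Q13199 (allL N13199 (tt N12736 F74906) (tt N12827 F74907) (tt N13411 (iv F75744)) (tt N12826 F74908) (tt N12735 (iv D19086)) (tt N13526 D19413) (tt N13200 (iv F74913)) (tt N12737 F74909) (tt N13318 (iv F75401)))
theorem Q13201 : ∀ i, i < 13201 → P i := stepQ 13200 Q13200 (allL N13200 (tt N12826 F74910) (tt N12737 F74911) (tt N13390 (iv F75644)) (tt N12736 (iv D19087)) (tt N12743 F74912) (tt N13527 D19414) (tt N13199 F74913) (tt N12827 F74914) (tt N13319 (iv F75406)))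
theorem Q13202 : ∀ i, i < 13202 → P i := stepQ 13201 Q13201 (allL N13201 (tt N13526 (iv F76236)) (tt N12738 F74915) (tt N13435 (iv F75866)) (tt N13527 (iv F76243)) (tt N12741 F74916) (tt N12736 (iv D19088)) (tt N13528 D19415) (tt N12840 F74917) (tt N13320 (iv F75411)))
theorem Q13203 : ∀ i, i < 13203 → P i := stepQ 13202 Q13202 (allL N13202 (tt N12840 F74918) (tt N13527 (iv F76242)) (tt N13410 (iv F75738)) (tt N12738 F74919) (tt N13126 F74920) (tt N12737 (iv D19089)) (tt N13529 D19416) (tt N13526 (iv F76240)) (tt N13321 (iv F75415)))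
theorem Q13204 : ∀ i, i < 13204 → P i := stepQ 13203 Q13203 (allL N13203 (tt N12841 F74921) (tt N13528 (iv F76246)) (tt N12739 F74922) (tt N13529 (iv F76250)) (tt N12742 F74923) (tt N13262 (iv F75185)) (tt N12738 (iv D19090)) (tt N13268 (iv F75205)) (tt N13322 (iv F75420)))
theorem Q13205 : ∀ i, i < 13205 → P i := stepQ 13204 Q13204 (allL N13204 (tt N12741 F74924) (tt N12842 F74925) (tt N13520 (iv F76221)) (tt N13128 F74926) (tt N13526 (iv F76239)) (tt N12740 (iv D19091)) (tt N13530 D19417) (tt N13126 F74927) (tt N13323 (iv F75423)))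
theorem Q13206 : ∀ i, i < 13206 → P i := stepQ 13205 Q13205 (allL N13205 (tt N13530 (iv F76252)) (tt N12742 F74928) (tt N13522 (iv F76228)) (tt N13129 F74929) (tt N13528 (iv F76247)) (tt N13178 F74930) (tt N12741 (iv D19092)) (tt N13302 (iv F75351)) (tt N13324 (iv F75425)))
theorem Q13207 : ∀ i, i < 13207 → P i := stepQ 13206 Q13206 (allL N13206 (tt N12866 F74931) (tt N13207 (iv F74937)) (tt N13387 (iv F75627)) (tt N12749 F74932) (tt N13076 F74933) (tt N13062 F74934) (tt N12747 (iv D19093)) (tt N13224 (iv F75029)) (tt N13061 F74935))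
theorem Q13208 : ∀ i, i < 13208 → P i := stepQ 13207 Q13207 (allL N13207 (tt N12868 F74936) (tt N13206 F74937) (tt N12872 F74938) (tt N13061 F74939) (tt N12750 F74940) (tt N12995 F74941) (tt N12748 (iv D19094)) (tt N12787 F74942) (tt N12749 F74943))
theorem Q13209 : ∀ i, i < 13209 → P i := stepQ 13208 Q13208 (allL N13208 (tt N12799 F74944) (tt N13396 (iv F75665)) (tt N13136 F74945) (tt N12752 F74946) (tt N13531 D19418) (tt N12751 (iv D19095)) (tt N13532 D19419) (tt N12988 F74947) (tt N13234 (iv F75059)))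
theorem Q13210 : ∀ i, i < 13210 → P i := stepQ 13209 Q13209 (allL N13209 (tt N12800 F74948) (tt N13397 (iv F75671)) (tt N12753 F74949) (tt N13532 (iv F76263)) (tt N13237 (iv F75073)) (tt N13378 (iv F75607)) (tt N12752 (iv D19096)) (tt N12754 F74950) (tt N13235 (iv F75063)))
theorem Q13211 : ∀ i, i < 13211 → P i := stepQ 13210 Q13210 (allL N13210 (tt N12936 F74951) (tt N12862 F74952) (tt N13217 (iv F74987)) (tt N12756 F74953) (tt N13533 D19420) (tt N12755 (iv D19097)) (tt N13534 D19421) (tt N13437 (iv F75878)) (tt N13427 (iv F75830)))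
theorem Q13212 : ∀ i, i < 13212 → P i := stepQ 13211 Q13211 (allL N13211 (tt N12938 F74954) (tt N12863 F74955) (tt N12757 F74956) (tt N13534 (iv F76270)) (tt N13416 (iv F75775)) (tt N12781 F74957) (tt N12756 (iv D19098)) (tt N12758 F74958) (tt N13429 (iv F75843)))
theorem Q13213 : ∀ i, i < 13213 → P i := stepQ 13212 Q13212 (allL N13212 (tt N12945 F74959) (tt N12950 F74960) (tt N13438 (iv F75881)) (tt N13165 F74961) (tt N12958 F74962) (tt N12783 F74963) (tt N12760 F74964) (tt N12759 (iv D19099)) (tt N13535 D19422))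
theorem Q13214 : ∀ i, i < 13214 → P i := stepQ 13213 Q13213 (allL N13213 (tt N12946 F74965) (tt N12948 F74966) (tt N13406 (iv F75716)) (tt N13163 F74967) (tt N12953 F74968) (tt N12761 F74969) (tt N13535 (iv F76277)) (tt N13399 (iv F75687)) (tt N12760 (iv D19100)))
theorem Q13215 : ∀ i, i < 13215 → P i := stepQ 13214 Q13214 (allL N13214 (tt N12777 F74970) (tt N13488 (iv F76092)) (tt N13069 F74971) (tt N12764 (iv D19101)) (tt N13214 F74972) (tt N13536 D19423) (tt N12931 F74973) (tt N13537 D19424) (tt N12766 F74974))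
theorem Q13216 : ∀ i, i < 13216 → P i := stepQ 13215 Q13215 (allL N13215 (tt N12778 F74975) (tt N13499 (iv F76130)) (tt N12765 F74976) (tt N13536 (iv F76280)) (tt N13092 F74977) (tt N12764 (iv D19102)) (tt N13538 D19425) (tt N13003 F74978) (tt N12767 F74979))
theorem Q13217 : ∀ i, i < 13217 → P i := stepQ 13216 Q13216 (allL N13216 (tt N12779 F74980) (tt N12880 F74981) (tt N13538 (iv F76288)) (tt N13071 F74982) (tt N13093 F74983) (tt N12933 F74984) (tt N12765 (iv D19103)) (tt N13256 (iv F75158)) (tt N12768 F74985))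
theorem Q13218 : ∀ i, i < 13218 → P i := stepQ 13217 Q13217 (allL N13217 (tt N12780 F74986) (tt N13487 (iv F76088)) (tt N13210 F74987) (tt N12767 F74988) (tt N13539 D19426) (tt N12766 (iv D19104)) (tt N13540 D19427) (tt N13461 (iv F75981)) (tt N13536 (iv F76281)))
theorem Q13219 : ∀ i, i < 13219 → P i := stepQ 13218 Q13218 (allL N13218 (tt N12781 F74989) (tt N13498 (iv F76124)) (tt N12768 F74990) (tt N13540 (iv F76298)) (tt N13417 (iv F75782)) (tt N12938 F74991) (tt N12767 (iv D19105)) (tt N12769 F74992) (tt N13538 (iv F76292)))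
theorem Q13220 : ∀ i, i < 13220 → P i := stepQ 13219 Q13219 (allL N13219 (tt N13096 F74993) (tt N13133 F74994) (tt N12774 F74995) (tt N12770 (iv D19106)) (tt N13219 F74996) (tt N13541 D19428) (tt N13222 (iv F75015)) (tt N12985 F74997) (tt N13045 F74998))
theorem Q13221 : ∀ i, i < 13221 → P i := stepQ 13220 Q13220 (allL N13220 (tt N13097 F74999) (tt N13134 F75000) (tt N12771 F75001) (tt N13541 (iv F76303)) (tt N13049 F75002) (tt N12770 (iv D19107)) (tt N13542 D19429) (tt N12998 F75003) (tt N13046 F75004))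
theorem Q13222 : ∀ i, i < 13222 → P i := stepQ 13221 Q13221 (allL N13221 (tt N13098 F75005) (tt N12785 F75006) (tt N13542 (iv F76308)) (tt N12776 F75007) (tt N13050 F75008) (tt N13224 (iv F75028)) (tt N12771 (iv D19108)) (tt N13062 F75009) (tt N13047 F75010))
theorem Q13223 : ∀ i, i < 13223 → P i := stepQ 13222 Q13222 (allL N13222 (tt N13091 F75011) (tt N12985 F75012) (tt N13045 F75013) (tt N12772 (iv D19109)) (tt N13222 F75014) (tt N13543 D19430) (tt N13219 F75015) (tt N13133 F75016) (tt N12774 F75017))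
theorem Q13224 : ∀ i, i < 13224 → P i := stepQ 13223 Q13223 (allL N13223 (tt N13092 F75018) (tt N12986 F75019) (tt N12773 F75020) (tt N13543 (iv F76315)) (tt N12778 F75021) (tt N12772 (iv D19110)) (tt N13544 D19431) (tt N12997 F75022) (tt N12775 F75023))
theorem Q13225 : ∀ i, i < 13225 → P i := stepQ 13224 Q13224 (allL N13224 (tt N13093 F75024) (tt N12787 F75025) (tt N13544 (iv F76320)) (tt N13047 F75026) (tt N12779 F75027) (tt N13221 F75028) (tt N12773 (iv D19111)) (tt N13206 F75029) (tt N12776 F75030))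
theorem Q13226 : ∀ i, i < 13226 → P i := stepQ 13225 Q13225 (allL N13225 (tt N13404 (iv F75704)) (tt N12988 F75031) (tt N13541 (iv F76302)) (tt N12775 F75032) (tt N13545 D19432) (tt N12774 (iv D19112)) (tt N13546 D19433) (tt N13396 (iv F75668)) (tt N13543 (iv F76317)))
theorem Q13227 : ∀ i, i < 13227 → P i := stepQ 13226 Q13226 (allL N13226 (tt N13417 (iv F75779)) (tt N12989 F75033) (tt N12776 F75034) (tt N13546 (iv F76329)) (tt N12781 F75035) (tt N13419 (iv F75793)) (tt N12775 (iv D19113)) (tt N12782 F75036) (tt N13544 (iv F76324)))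
theorem Q13228 : ∀ i, i < 13228 → P i := stepQ 13227 Q13227 (allL N13227 (tt N13536 (iv F76278)) (tt N12990 F75037) (tt N13338 (iv F75461)) (tt N12778 F75038) (tt N13547 D19434) (tt N12777 (iv D19114)) (tt N13548 D19435) (tt N13549 D19436) (tt N12780 F75039))
theorem Q13229 : ∀ i, i < 13229 → P i := stepQ 13228 Q13228 (allL N13228 (tt N13537 (iv F76282)) (tt N12991 F75040) (tt N13339 (iv F75464)) (tt N13005 F75041) (tt N13228 F75042) (tt N13549 (iv F76338)) (tt N13428 (iv F75835)) (tt N12777 (iv D19115)) (tt N13456 (iv F75963)))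
theorem Q13230 : ∀ i, i < 13230 → P i := stepQ 13229 Q13229 (allL N13229 (tt N13538 (iv F76287)) (tt N12992 F75043) (tt N12779 F75044) (tt N13548 (iv F76334)) (tt N13544 (iv F76321)) (tt N13429 (iv F75841)) (tt N12778 (iv D19116)) (tt N13006 F75045) (tt N12781 F75046))
theorem Q13231 : ∀ i, i < 13231 → P i := stepQ 13230 Q13230 (allL N13230 (tt N13539 (iv F76293)) (tt N12993 F75047) (tt N13343 (iv F75473)) (tt N13545 (iv F76326)) (tt N12780 (iv D19117)) (tt N13230 F75048) (tt N13550 D19437) (tt N13463 (iv F75990)) (tt N13547 (iv F76332)))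
theorem Q13232 : ∀ i, i < 13232 → P i := stepQ 13231 Q13231 (allL N13231 (tt N13540 (iv F76296)) (tt N12994 F75049) (tt N13344 (iv F75475)) (tt N12781 F75050) (tt N13550 (iv F76340)) (tt N13534 (iv F76271)) (tt N12780 (iv D19118)) (tt N13464 (iv F75993)) (tt N13548 (iv F76335)))
theorem Q13233 : ∀ i, i < 13233 → P i := stepQ 13232 Q13232 (allL N13232 (tt N13500 (iv F76135)) (tt N13441 (iv F75892)) (tt N13457 (iv F75965)) (tt N13352 (iv F75503)) (tt N13504 (iv F76157)) (tt N13535 (iv F76276)) (tt N12784 F75051) (tt N13491 (iv F76106)) (tt N12783 (iv D19119)))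
theorem Q13234 : ∀ i, i < 13234 → P i := stepQ 13233 Q13233 (allL N13233 (tt N12818 F75052) (tt N12968 F75053) (tt N13357 (iv F75522)) (tt N12790 F75054) (tt N12808 F75055) (tt N12833 F75056) (tt N12789 (iv D19120)) (tt N13248 (iv F75128)) (tt N12791 F75057))
theorem Q13235 : ∀ i, i < 13235 → P i := stepQ 13234 Q13234 (allL N13234 (tt N13236 (iv F75064)) (tt N13377 (iv F75599)) (tt N13475 (iv F76042)) (tt N12794 F75058) (tt N13551 D19438) (tt N12793 (iv D19121)) (tt N13552 D19439) (tt N13418 (iv F75788)) (tt N13208 F75059))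
theorem Q13236 : ∀ i, i < 13236 → P i := stepQ 13235 Q13235 (allL N13235 (tt N13237 (iv F75070)) (tt N13378 (iv F75604)) (tt N12795 F75060) (tt N13552 (iv F76344)) (tt N12800 F75061) (tt N13397 (iv F75674)) (tt N12794 (iv D19122)) (tt N12801 F75062) (tt N13209 F75063))
theorem Q13237 : ∀ i, i < 13237 → P i := stepQ 13236 Q13236 (allL N13236 (tt N13234 F75064) (tt N13186 F75065) (tt N13152 F75066) (tt N12797 F75067) (tt N13553 D19440) (tt N12796 (iv D19123)) (tt N13554 D19441) (tt N13101 F75068) (tt N12799 F75069))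
theorem Q13238 : ∀ i, i < 13238 → P i := stepQ 13237 Q13237 (allL N13237 (tt N13235 F75070) (tt N13187 F75071) (tt N12798 F75072) (tt N13554 (iv F76356)) (tt N13209 F75073) (tt N13023 F75074) (tt N12797 (iv D19124)) (tt N13036 F75075) (tt N12800 F75076))
theorem Q13239 : ∀ i, i < 13239 → P i := stepQ 13238 Q13238 (allL N13238 (tt N13531 (iv F76257)) (tt N13512 (iv F76187)) (tt N13157 F75077) (tt N13551 (iv F76341)) (tt N12799 (iv D19125)) (tt N13238 F75078) (tt N13555 D19442) (tt N13470 (iv F76020)) (tt N13553 (iv F76352)))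
theorem Q13240 : ∀ i, i < 13240 → P i := stepQ 13239 Q13239 (allL N13239 (tt N13532 (iv F76261)) (tt N13513 (iv F76190)) (tt N13158 F75079) (tt N12800 F75080) (tt N13555 (iv F76361)) (tt N13467 (iv F76003)) (tt N12799 (iv D19126)) (tt N13471 (iv F76025)) (tt N13554 (iv F76359)))
theorem Q13241 : ∀ i, i < 13241 → P i := stepQ 13240 Q13240 (allL N13240 (tt N12805 F75081) (tt N13175 F75082) (tt N12980 F75083) (tt N13064 F75084) (tt N13009 F75085) (tt N12804 (iv D19127)) (tt N13556 D19443) (tt N13350 (iv F75497)) (tt N13254 (iv F75149)))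
theorem Q13242 : ∀ i, i < 13242 → P i := stepQ 13241 Q13241 (allL N13241 (tt N13556 (iv F76362)) (tt N12806 F75086) (tt N12981 F75087) (tt N13065 F75088) (tt N13011 F75089) (tt N12843 F75090) (tt N12805 (iv D19128)) (tt N13358 (iv F75531)) (tt N13255 (iv F75153)))
theorem Q13243 : ∀ i, i < 13243 → P i := stepQ 13242 Q13242 (allL N13242 (tt N12817 F75091) (tt N13259 (iv F75171)) (tt N13508 (iv F76171)) (tt N12850 F75092) (tt N13248 (iv F75126)) (tt N12908 F75093) (tt N12807 (iv D19129)) (tt N12808 F75094) (tt N13243 (iv F75099)))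
theorem Q13244 : ∀ i, i < 13244 → P i := stepQ 13243 Q13243 (allL N13243 (tt N13248 (iv F75123)) (tt N12829 F75095) (tt N13394 (iv F75659)) (tt N13275 (iv F75231)) (tt N12817 F75096) (tt N13190 F75097) (tt N12809 (iv D19130)) (tt N12818 F75098) (tt N13242 F75099))
theorem Q13245 : ∀ i, i < 13245 → P i := stepQ 13244 Q13244 (allL N13244 (tt N12810 (iv D19131)) (tt N13013 F75100) (tt N12830 F75101) (tt N13244 F75102) (tt N13557 D19444) (tt N13180 F75103) (tt N12964 F75104) (tt N12960 F75105) (tt N12813 F75106))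
theorem Q13246 : ∀ i, i < 13246 → P i := stepQ 13245 Q13245 (allL N13245 (tt N13557 (iv F76368)) (tt N12811 F75107) (tt N12831 F75108) (tt N13558 D19445) (tt N12810 (iv D19132)) (tt N13559 D19446) (tt N12965 F75109) (tt N12952 F75110) (tt N12814 F75111))
theorem Q13247 : ∀ i, i < 13247 → P i := stepQ 13246 Q13246 (allL N13246 (tt N12991 F75112) (tt N13558 (iv F76374)) (tt N12859 F75113) (tt N12811 (iv D19133)) (tt N13246 F75114) (tt N13560 D19447) (tt N12966 F75115) (tt N12922 F75116) (tt N12815 F75117))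
theorem Q13248 : ∀ i, i < 13248 → P i := stepQ 13247 Q13247 (allL N13247 (tt N13008 F75118) (tt N13559 (iv F76380)) (tt N12812 F75119) (tt N13560 (iv F76387)) (tt N13173 F75120) (tt N12811 (iv D19134)) (tt N13561 D19448) (tt N12954 F75121) (tt N12816 F75122))
theorem Q13249 : ∀ i, i < 13249 → P i := stepQ 13248 Q13248 (allL N13248 (tt N13243 F75123) (tt N12833 F75124) (tt N13561 (iv F76391)) (tt N12861 F75125) (tt N13242 F75126) (tt N12968 F75127) (tt N12812 (iv D19135)) (tt N13233 F75128) (tt N12817 F75129))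
theorem Q13250 : ∀ i, i < 13250 → P i := stepQ 13249 Q13249 (allL N13249 (tt N12814 F75130) (tt N13503 (iv F76151)) (tt N12834 F75131) (tt N13331 (iv F75444)) (tt N12813 (iv D19136)) (tt N13562 D19449) (tt N12969 F75132) (tt N12819 F75133) (tt N13557 (iv F76373)))
theorem Q13251 : ∀ i, i < 13251 → P i := stepQ 13250 Q13250 (allL N13250 (tt N13331 (iv F75443)) (tt N12815 F75134) (tt N13148 F75135) (tt N12814 (iv D19137)) (tt N13250 F75136) (tt N13563 D19450) (tt N12970 F75137) (tt N13138 F75138) (tt N13558 (iv F76379)))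
theorem Q13252 : ∀ i, i < 13252 → P i := stepQ 13251 Q13251 (allL N13251 (tt N13562 (iv F76396)) (tt N12816 F75139) (tt N12835 F75140) (tt N13563 (iv F76401)) (tt N13393 (iv F75657)) (tt N12814 (iv D19138)) (tt N13564 D19451) (tt N12820 F75141) (tt N13559 (iv F76384)))
theorem Q13253 : ∀ i, i < 13253 → P i := stepQ 13252 Q13252 (allL N13252 (tt N13460 (iv F75972)) (tt N13563 (iv F76399)) (tt N12862 F75142) (tt N12816 F75143) (tt N13565 D19452) (tt N12815 (iv D19139)) (tt N13566 D19453) (tt N13420 (iv F75798)) (tt N13560 (iv F76389)))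
theorem Q13254 : ∀ i, i < 13254 → P i := stepQ 13253 Q13253 (allL N13253 (tt N13508 (iv F76170)) (tt N13564 (iv F76403)) (tt N12817 F75144) (tt N13566 (iv F76410)) (tt N13394 (iv F75660)) (tt N12973 F75145) (tt N12816 (iv D19140)) (tt N12821 F75146) (tt N13561 (iv F76395)))
theorem Q13255 : ∀ i, i < 13255 → P i := stepQ 13254 Q13254 (allL N13254 (tt N12820 F75147) (tt N13502 (iv F76147)) (tt N12842 F75148) (tt N13293 (iv F75302)) (tt N13389 (iv F75641)) (tt N12819 (iv D19141)) (tt N13567 D19454) (tt N13562 (iv F76398)) (tt N13240 F75149))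
theorem Q13256 : ∀ i, i < 13256 → P i := stepQ 13255 Q13255 (allL N13255 (tt N13567 (iv F76412)) (tt N12821 F75150) (tt N12843 F75151) (tt N13300 (iv F75338)) (tt N13392 (iv F75653)) (tt N12981 F75152) (tt N12820 (iv D19142)) (tt N13564 (iv F76406)) (tt N13241 F75153))
theorem Q13257 : ∀ i, i < 13257 → P i := stepQ 13256 Q13256 (allL N13256 (tt N13076 F75154) (tt N13275 (iv F75230)) (tt N13391 (iv F75647)) (tt N12829 F75155) (tt N12866 F75156) (tt N13031 F75157) (tt N12822 (iv D19143)) (tt N13216 F75158) (tt N13124 F75159))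
theorem Q13258 : ∀ i, i < 13258 → P i := stepQ 13257 Q13257 (allL N13257 (tt N13319 (iv F75402)) (tt N12824 F75160) (tt N13170 F75161) (tt N13318 (iv F75399)) (tt N12823 (iv D19144)) (tt N13568 D19455) (tt N12910 F75162) (tt N13168 F75163) (tt N12826 F75164))
theorem Q13259 : ∀ i, i < 13259 → P i := stepQ 13258 Q13258 (allL N13258 (tt N12974 F75165) (tt N13568 (iv F76416)) (tt N12825 F75166) (tt N13373 (iv F75583)) (tt N12832 F75167) (tt N12824 (iv D19145)) (tt N13569 D19456) (tt N13184 F75168) (tt N12828 F75169))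
theorem Q13260 : ∀ i, i < 13260 → P i := stepQ 13259 Q13259 (allL N13259 (tt N12975 F75170) (tt N13242 F75171) (tt N13569 (iv F76422)) (tt N13124 F75172) (tt N12833 F75173) (tt N12913 F75174) (tt N12825 (iv D19146)) (tt N13185 F75175) (tt N12829 F75176))
theorem Q13261 : ∀ i, i < 13261 → P i := stepQ 13260 Q13260 (allL N13260 (tt N13527 (iv F76241)) (tt N12828 F75177) (tt N13393 (iv F75656)) (tt N13526 (iv F76238)) (tt N12835 F75178) (tt N12826 (iv D19147)) (tt N13570 D19457) (tt N12839 F75179) (tt N13568 (iv F76420)))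
theorem Q13262 : ∀ i, i < 13262 → P i := stepQ 13261 Q13261 (allL N13261 (tt N12839 F75180) (tt N13526 (iv F76237)) (tt N13389 (iv F75639)) (tt N12828 F75181) (tt N12842 F75182) (tt N12827 (iv D19148)) (tt N13571 D19458) (tt N13527 (iv F76245)) (tt N13373 (iv F75585)))
theorem Q13263 : ∀ i, i < 13263 → P i := stepQ 13262 Q13262 (allL N13262 (tt N13268 (iv F75201)) (tt N13570 (iv F76427)) (tt N12829 F75183) (tt N13571 (iv F76432)) (tt N12836 F75184) (tt N13203 F75185) (tt N12828 (iv D19149)) (tt N12841 F75186) (tt N13569 (iv F76426)))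
theorem Q13264 : ∀ i, i < 13264 → P i := stepQ 13263 Q13263 (allL N13263 (tt N12831 F75187) (tt N13029 F75188) (tt N13557 (iv F76370)) (tt N13028 F75189) (tt N12830 (iv D19150)) (tt N13572 D19459) (tt N13354 (iv F75513)) (tt N13361 (iv F75542)) (tt N12834 F75190))
theorem Q13265 : ∀ i, i < 13265 → P i := stepQ 13264 Q13264 (allL N13264 (tt N13572 (iv F76435)) (tt N12832 F75191) (tt N13559 (iv F76381)) (tt N13297 (iv F75325)) (tt N13568 (iv F76418)) (tt N12831 (iv D19151)) (tt N13573 D19460) (tt N13363 (iv F75550)) (tt N12835 F75192))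
theorem Q13266 : ∀ i, i < 13266 → P i := stepQ 13265 Q13265 (allL N13265 (tt N13301 (iv F75342)) (tt N13573 (iv F76439)) (tt N12833 F75193) (tt N13298 (iv F75329)) (tt N13569 (iv F76423)) (tt N13357 (iv F75525)) (tt N12832 (iv D19152)) (tt N13365 (iv F75556)) (tt N12836 F75194))
theorem Q13267 : ∀ i, i < 13267 → P i := stepQ 13266 Q13266 (allL N13266 (tt N12835 F75195) (tt N13126 F75196) (tt N13562 (iv F76397)) (tt N13125 F75197) (tt N13527 (iv F76244)) (tt N12834 (iv D19153)) (tt N13574 D19461) (tt N12842 F75198) (tt N13572 (iv F76438)))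
theorem Q13268 : ∀ i, i < 13268 → P i := stepQ 13267 Q13267 (allL N13267 (tt N13574 (iv F76441)) (tt N12836 F75199) (tt N13564 (iv F76404)) (tt N13299 (iv F75333)) (tt N13570 (iv F76428)) (tt N13358 (iv F75530)) (tt N12835 (iv D19154)) (tt N12843 F75200) (tt N13573 (iv F76440)))
theorem Q13269 : ∀ i, i < 13269 → P i := stepQ 13268 Q13268 (allL N13268 (tt N13262 F75201) (tt N13270 (iv F75209)) (tt N12838 F75202) (tt N13269 (iv F75207)) (tt N12894 F75203) (tt N12841 F75204) (tt N12837 (iv D19155)) (tt N13203 F75205) (tt N13372 (iv F75580)))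
theorem Q13270 : ∀ i, i < 13270 → P i := stepQ 13269 Q13269 (allL N13269 (tt N13571 (iv F76431)) (tt N12841 F75206) (tt N13392 (iv F75651)) (tt N13268 F75207) (tt N12843 F75208) (tt N13270 (iv F75211)) (tt N12839 (iv D19156)) (tt N13570 (iv F76430)) (tt N13374 (iv F75590)))
theorem Q13271 : ∀ i, i < 13271 → P i := stepQ 13270 Q13270 (allL N13270 (tt N13529 (iv F76249)) (tt N13268 F75209) (tt N13434 (iv F75860)) (tt N12841 F75210) (tt N13302 (iv F75349)) (tt N13269 F75211) (tt N12840 (iv D19157)) (tt N13528 (iv F76248)) (tt N13375 (iv F75595)))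
theorem Q13272 : ∀ i, i < 13272 → P i := stepQ 13271 Q13271 (allL N13271 (tt N12843 F75212) (tt N13530 (iv F76253)) (tt N13567 (iv F76413)) (tt N13296 (iv F75321)) (tt N13571 (iv F76433)) (tt N13556 (iv F76367)) (tt N12842 (iv D19158)) (tt N13574 (iv F76444)) (tt N13376 (iv F75597)))
theorem Q13273 : ∀ i, i < 13273 → P i := stepQ 13272 Q13272 (allL N13272 (tt N12930 F75213) (tt N12845 F75214) (tt N12951 F75215) (tt N13575 D19462) (tt N12844 (iv D19159)) (tt N13576 D19463) (tt N12921 F75216) (tt N12878 F75217) (tt N12847 F75218))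
theorem Q13274 : ∀ i, i < 13274 → P i := stepQ 13273 Q13273 (allL N13273 (tt N12859 F75219) (tt N13575 (iv F76446)) (tt N12991 F75220) (tt N12845 (iv D19160)) (tt N13273 F75221) (tt N13577 D19464) (tt N12922 F75222) (tt N12966 F75223) (tt N12848 F75224))
theorem Q13275 : ∀ i, i < 13275 → P i := stepQ 13274 Q13274 (allL N13274 (tt N12860 F75225) (tt N13576 (iv F76452)) (tt N12846 F75226) (tt N13577 (iv F76459)) (tt N13282 (iv F75265)) (tt N12845 (iv D19161)) (tt N13578 D19465) (tt N12879 F75227) (tt N12849 F75228))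
theorem Q13276 : ∀ i, i < 13276 → P i := stepQ 13275 Q13275 (allL N13275 (tt N12861 F75229) (tt N13256 F75230) (tt N13578 (iv F76463)) (tt N13243 F75231) (tt N13283 (iv F75270)) (tt N12924 F75232) (tt N12846 (iv D19162)) (tt N12880 F75233) (tt N12850 F75234))
theorem Q13277 : ∀ i, i < 13277 → P i := stepQ 13276 Q13276 (allL N13276 (tt N12934 F75235) (tt N12848 F75236) (tt N13366 (iv F75559)) (tt N12847 (iv D19163)) (tt N13276 F75237) (tt N13579 D19466) (tt N12925 F75238) (tt N12856 F75239) (tt N13575 (iv F76450)))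
theorem Q13278 : ∀ i, i < 13278 → P i := stepQ 13277 Q13277 (allL N13277 (tt N12935 F75240) (tt N12849 F75241) (tt N12944 F75242) (tt N13579 (iv F76469)) (tt N12941 F75243) (tt N12847 (iv D19164)) (tt N13580 D19467) (tt N12851 F75244) (tt N13576 (iv F76456)))
theorem Q13279 : ∀ i, i < 13279 → P i := stepQ 13278 Q13278 (allL N13278 (tt N12862 F75245) (tt N13579 (iv F76468)) (tt N13460 (iv F75973)) (tt N12849 F75246) (tt N13581 D19468) (tt N12848 (iv D19165)) (tt N13582 D19469) (tt N13415 (iv F75770)) (tt N13577 (iv F76461)))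
theorem Q13280 : ∀ i, i < 13280 → P i := stepQ 13279 Q13279 (allL N13279 (tt N12863 F75247) (tt N13580 (iv F76472)) (tt N12850 F75248) (tt N13582 (iv F76480)) (tt N13482 (iv F76073)) (tt N12928 F75249) (tt N12849 (iv D19166)) (tt N12852 F75250) (tt N13578 (iv F76466)))
theorem Q13281 : ∀ i, i < 13281 → P i := stepQ 13280 Q13280 (allL N13280 (tt N12939 F75251) (tt N12852 F75252) (tt N12943 F75253) (tt N12864 F75254) (tt N12940 F75255) (tt N12929 F75256) (tt N12851 (iv D19167)) (tt N13580 (iv F76476)) (tt N12884 F75257))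
theorem Q13282 : ∀ i, i < 13282 → P i := stepQ 13281 Q13281 (allL N13281 (tt N13072 F75258) (tt N13346 (iv F75480)) (tt N12856 F75259) (tt N12853 (iv D19168)) (tt N13281 F75260) (tt N13583 D19470) (tt N13144 F75261) (tt N13366 (iv F75562)) (tt N13141 F75262))
theorem Q13283 : ∀ i, i < 13283 → P i := stepQ 13282 Q13282 (allL N13282 (tt N13073 F75263) (tt N13348 (iv F75486)) (tt N12854 F75264) (tt N13583 (iv F76484)) (tt N13274 F75265) (tt N12853 (iv D19169)) (tt N13584 D19471) (tt N13080 F75266) (tt N13142 F75267))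
theorem Q13284 : ∀ i, i < 13284 → P i := stepQ 13283 Q13283 (allL N13283 (tt N13284 (iv F75273)) (tt N12866 F75268) (tt N13584 (iv F76487)) (tt N12858 F75269) (tt N13275 F75270) (tt N13146 F75271) (tt N12854 (iv D19170)) (tt N13295 (iv F75317)) (tt N13143 F75272))
theorem Q13285 : ∀ i, i < 13285 → P i := stepQ 13284 Q13284 (allL N13284 (tt N13283 F75273) (tt N12868 F75274) (tt N13431 (iv F75849)) (tt N13143 F75275) (tt N12861 F75276) (tt N13140 F75277) (tt N12855 (iv D19171)) (tt N12888 F75278) (tt N12858 F75279))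
theorem Q13286 : ∀ i, i < 13286 → P i := stepQ 13285 Q13285 (allL N13285 (tt N13481 (iv F76065)) (tt N13415 (iv F75767)) (tt N13583 (iv F76483)) (tt N12857 F75280) (tt N13585 D19472) (tt N12856 (iv D19172)) (tt N13586 D19473) (tt N13579 (iv F76470)) (tt N13430 (iv F75847)))
theorem Q13287 : ∀ i, i < 13287 → P i := stepQ 13286 Q13286 (allL N13286 (tt N13482 (iv F76070)) (tt N13416 (iv F75773)) (tt N12858 F75281) (tt N13586 (iv F76494)) (tt N12863 F75282) (tt N13423 (iv F75813)) (tt N12857 (iv D19173)) (tt N12864 F75283) (tt N13431 (iv F75852)))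
theorem Q13288 : ∀ i, i < 13288 → P i := stepQ 13287 Q13287 (allL N13287 (tt N13577 (iv F76457)) (tt N13427 (iv F75828)) (tt N13560 (iv F76386)) (tt N12860 F75284) (tt N13587 D19474) (tt N12859 (iv D19174)) (tt N13588 D19475) (tt N13518 (iv F76212)) (tt N12862 F75285))
theorem Q13289 : ∀ i, i < 13289 → P i := stepQ 13288 Q13288 (allL N13288 (tt N13578 (iv F76462)) (tt N13429 (iv F75838)) (tt N12861 F75286) (tt N13588 (iv F76497)) (tt N13431 (iv F75850)) (tt N12992 F75287) (tt N12860 (iv D19175)) (tt N12891 F75288) (tt N12863 F75289))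
theorem Q13290 : ∀ i, i < 13290 → P i := stepQ 13289 Q13289 (allL N13289 (tt N13581 (iv F76477)) (tt N13533 (iv F76266)) (tt N13565 (iv F76407)) (tt N13585 (iv F76492)) (tt N12862 (iv D19176)) (tt N13289 F75290) (tt N13589 D19476) (tt N13439 (iv F75887)) (tt N13587 (iv F76496)))
theorem Q13291 : ∀ i, i < 13291 → P i := stepQ 13290 Q13290 (allL N13290 (tt N13582 (iv F76479)) (tt N13534 (iv F76269)) (tt N13566 (iv F76409)) (tt N12863 F75291) (tt N13589 (iv F76500)) (tt N12994 F75292) (tt N12862 (iv D19177)) (tt N13440 (iv F75890)) (tt N13588 (iv F76499)))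
theorem Q13292 : ∀ i, i < 13292 → P i := stepQ 13291 Q13291 (allL N13291 (tt N13387 (iv F75625)) (tt N13352 (iv F75502)) (tt N12866 F75293) (tt N13441 (iv F75894)) (tt N13391 (iv F75648)) (tt N13164 F75294) (tt N12865 (iv D19178)) (tt N13443 (iv F75903)) (tt N13060 F75295))
theorem Q13293 : ∀ i, i < 13293 → P i := stepQ 13292 Q13292 (allL N13292 (tt N13441 (iv F75891)) (tt N13388 (iv F75632)) (tt N12870 F75296) (tt N13387 (iv F75628)) (tt N13300 (iv F75339)) (tt N12999 F75297) (tt N12869 (iv D19179)) (tt N13476 (iv F76048)) (tt N12996 F75298))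
theorem Q13294 : ∀ i, i < 13294 → P i := stepQ 13293 Q13293 (allL N13293 (tt N12885 F75299) (tt N13167 F75300) (tt N12874 F75301) (tt N13254 F75302) (tt N13088 F75303) (tt N12873 (iv D19180)) (tt N13590 D19477) (tt N13145 F75304) (tt N13064 F75305))
theorem Q13295 : ∀ i, i < 13295 → P i := stepQ 13294 Q13294 (allL N13294 (tt N12886 F75306) (tt N13098 F75307) (tt N13590 (iv F76503)) (tt N12877 F75308) (tt N13089 F75309) (tt N13295 (iv F75316)) (tt N12874 (iv D19181)) (tt N13146 F75310) (tt N13087 F75311))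
theorem Q13296 : ∀ i, i < 13296 → P i := stepQ 13295 Q13295 (allL N13295 (tt N12888 F75312) (tt N13093 F75313) (tt N13436 (iv F75871)) (tt N13087 F75314) (tt N12880 F75315) (tt N13294 F75316) (tt N12875 (iv D19182)) (tt N13283 F75317) (tt N12877 F75318))
theorem Q13297 : ∀ i, i < 13297 → P i := stepQ 13296 Q13296 (allL N13296 (tt N12889 F75319) (tt N13474 (iv F76036)) (tt N12877 F75320) (tt N13271 F75321) (tt N12882 F75322) (tt N13426 (iv F75825)) (tt N12876 (iv D19183)) (tt N12883 F75323) (tt N13436 (iv F75874)))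
theorem Q13298 : ∀ i, i < 13298 → P i := stepQ 13297 Q13297 (allL N13297 (tt N13409 (iv F75731)) (tt N12879 F75324) (tt N13499 (iv F76131)) (tt N13264 F75325) (tt N13413 (iv F75759)) (tt N12878 (iv D19184)) (tt N13591 D19478) (tt N13576 (iv F76455)) (tt N12881 F75326))
theorem Q13299 : ∀ i, i < 13299 → P i := stepQ 13298 Q13298 (allL N13298 (tt N12891 F75327) (tt N13591 (iv F76509)) (tt N12880 F75328) (tt N13265 F75329) (tt N13436 (iv F75873)) (tt N12955 F75330) (tt N12879 (iv D19185)) (tt N13578 (iv F76465)) (tt N12882 F75331))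
theorem Q13300 : ∀ i, i < 13300 → P i := stepQ 13299 Q13299 (allL N13299 (tt N13472 (iv F76026)) (tt N12882 F75332) (tt N13498 (iv F76125)) (tt N13267 F75333) (tt N13474 (iv F76038)) (tt N12958 F75334) (tt N12881 (iv D19186)) (tt N12884 F75335) (tt N13591 (iv F76512)))
theorem Q13301 : ∀ i, i < 13301 → P i := stepQ 13300 Q13300 (allL N13300 (tt N13590 (iv F76501)) (tt N13063 F75336) (tt N12886 F75337) (tt N13255 F75338) (tt N13292 F75339) (tt N13081 F75340) (tt N12885 (iv D19187)) (tt N13480 (iv F76063)) (tt N13065 F75341))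
theorem Q13302 : ∀ i, i < 13302 → P i := stepQ 13301 Q13301 (allL N13301 (tt N13265 F75342) (tt N13434 (iv F75859)) (tt N13198 F75343) (tt N12891 F75344) (tt N13372 (iv F75577)) (tt N13007 F75345) (tt N12890 (iv D19188)) (tt N13519 (iv F76218)) (tt N12894 F75346))
theorem Q13303 : ∀ i, i < 13303 → P i := stepQ 13302 Q13302 (allL N13302 (tt N13473 (iv F76032)) (tt N12894 F75347) (tt N13375 (iv F75592)) (tt N12893 F75348) (tt N13270 F75349) (tt N13011 F75350) (tt N12892 (iv D19189)) (tt N13205 F75351) (tt N13434 (iv F75864)))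
theorem Q13304 : ∀ i, i < 13304 → P i := stepQ 13303 Q13303 (allL N13303 (tt N12897 F75352) (tt N13174 F75353) (tt N12914 F75354) (tt N13592 D19479) (tt N12896 (iv D19190)) (tt N13593 D19480) (tt N13501 (iv F76143)) (tt N13318 (iv F75400)) (tt N13191 F75355))
theorem Q13305 : ∀ i, i < 13305 → P i := stepQ 13304 Q13304 (allL N13304 (tt N13592 (iv F76513)) (tt N12898 F75356) (tt N13398 (iv F75679)) (tt N12897 (iv D19191)) (tt N13304 F75357) (tt N13594 D19481) (tt N13489 (iv F76099)) (tt N13595 D19482) (tt N13192 F75358))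
theorem Q13306 : ∀ i, i < 13306 → P i := stepQ 13305 Q13305 (allL N13305 (tt N13593 (iv F76519)) (tt N12899 F75359) (tt N12915 F75360) (tt N13594 (iv F76524)) (tt N13315 (iv F75387)) (tt N12897 (iv D19192)) (tt N13596 D19483) (tt N13320 (iv F75410)) (tt N13193 F75361))
theorem Q13307 : ∀ i, i < 13307 → P i := stepQ 13306 Q13306 (allL N13306 (tt N13359 (iv F75532)) (tt N13594 (iv F76523)) (tt N12901 F75362) (tt N12899 F75363) (tt N13597 D19484) (tt N12898 (iv D19193)) (tt N13598 D19485) (tt N13599 D19486) (tt N13194 F75364))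
theorem Q13308 : ∀ i, i < 13308 → P i := stepQ 13307 Q13307 (allL N13307 (tt N13192 F75365) (tt N13595 (iv F76527)) (tt N12902 F75366) (tt N13191 F75367) (tt N13307 F75368) (tt N13599 (iv F76545)) (tt N13448 (iv F75929)) (tt N12898 (iv D19194)) (tt N13592 (iv F76518)))
theorem Q13309 : ∀ i, i < 13309 → P i := stepQ 13308 Q13308 (allL N13308 (tt N13360 (iv F75535)) (tt N13596 (iv F76533)) (tt N12900 F75369) (tt N13598 (iv F76540)) (tt N13317 (iv F75394)) (tt N13515 (iv F76200)) (tt N12899 (iv D19195)) (tt N13322 (iv F75419)) (tt N13195 F75370))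
theorem Q13310 : ∀ i, i < 13310 → P i := stepQ 13309 Q13309 (allL N13309 (tt N13512 (iv F76186)) (tt N13402 (iv F75699)) (tt N13597 (iv F76536)) (tt N13466 (iv F75997)) (tt N12901 (iv D19196)) (tt N13309 F75371) (tt N13600 D19487) (tt N13601 D19488) (tt N13196 F75372))
theorem Q13311 : ∀ i, i < 13311 → P i := stepQ 13310 Q13310 (allL N13310 (tt N13513 (iv F76189)) (tt N13403 (iv F75702)) (tt N13598 (iv F76539)) (tt N12903 F75373) (tt N13600 (iv F76546)) (tt N13517 (iv F76207)) (tt N12901 (iv D19197)) (tt N13602 D19489) (tt N13197 F75374))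
theorem Q13312 : ∀ i, i < 13312 → P i := stepQ 13311 Q13311 (allL N13311 (tt N13468 (iv F76006)) (tt N13404 (iv F75705)) (tt N13599 (iv F76543)) (tt N12919 F75375) (tt N13601 (iv F76548)) (tt N12902 F75376) (tt N13602 (iv F76551)) (tt N12901 (iv D19198)) (tt N13603 D19490))
theorem Q13313 : ∀ i, i < 13313 → P i := stepQ 13312 Q13312 (allL N13312 (tt N13398 (iv F75677)) (tt N13091 F75377) (tt N13592 (iv F76515)) (tt N12920 F75378) (tt N13312 F75379) (tt N13603 (iv F76554)) (tt N13444 (iv F75908)) (tt N13150 F75380) (tt N12902 (iv D19199)))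
theorem Q13314 : ∀ i, i < 13314 → P i := stepQ 13313 Q13313 (allL N13313 (tt N12905 F75381) (tt N12969 F75382) (tt N13318 (iv F75398)) (tt N13604 D19491) (tt N12904 (iv D19200)) (tt N13605 D19492) (tt N13503 (iv F76154)) (tt N12914 F75383) (tt N13411 (iv F75748)))
theorem Q13315 : ∀ i, i < 13315 → P i := stepQ 13314 Q13314 (allL N13314 (tt N13604 (iv F76556)) (tt N12906 F75384) (tt N13606 D19493) (tt N12905 (iv D19201)) (tt N13314 F75385) (tt N13607 D19494) (tt N13456 (iv F75962)) (tt N13405 (iv F75712)) (tt N13428 (iv F75836)))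
theorem Q13316 : ∀ i, i < 13316 → P i := stepQ 13315 Q13315 (allL N13315 (tt N13605 (iv F76562)) (tt N12907 F75386) (tt N13320 (iv F75408)) (tt N13607 (iv F76574)) (tt N13305 F75387) (tt N12905 (iv D19202)) (tt N13608 D19495) (tt N12915 F75388) (tt N13435 (iv F75869)))
theorem Q13317 : ∀ i, i < 13317 → P i := stepQ 13316 Q13316 (allL N13316 (tt N12972 F75389) (tt N13607 (iv F76573)) (tt N12927 F75390) (tt N12907 F75391) (tt N13609 D19496) (tt N12906 (iv D19203)) (tt N13610 D19497) (tt N13407 (iv F75723)) (tt N13518 (iv F76213)))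
theorem Q13318 : ∀ i, i < 13318 → P i := stepQ 13317 Q13317 (allL N13317 (tt N12973 F75392) (tt N13608 (iv F76575)) (tt N12908 F75393) (tt N13610 (iv F76584)) (tt N13308 F75394) (tt N13508 (iv F76172)) (tt N12907 (iv D19204)) (tt N12916 F75395) (tt N13519 (iv F76219)))
theorem Q13319 : ∀ i, i < 13319 → P i := stepQ 13318 Q13318 (allL N13318 (tt N12910 F75396) (tt N12976 F75397) (tt N13313 F75398) (tt N13257 F75399) (tt N12909 (iv D19205)) (tt N13611 D19498) (tt N13319 (iv F75405)) (tt N13303 F75400) (tt N13199 F75401))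
theorem Q13320 : ∀ i, i < 13320 → P i := stepQ 13319 Q13319 (allL N13319 (tt N13257 F75402) (tt N12911 F75403) (tt N13503 (iv F76152)) (tt N12910 (iv D19206)) (tt N12917 F75404) (tt N13612 D19499) (tt N13318 F75405) (tt N13501 F76145) (tt N13200 F75406))
theorem Q13321 : ∀ i, i < 13321 → P i := stepQ 13320 Q13320 (allL N13320 (tt N13611 (iv F76585)) (tt N12912 F75407) (tt N13315 F75408) (tt N13612 (iv F76594)) (tt N12915 F75409) (tt N12910 (iv D19207)) (tt N13613 D19500) (tt N13305 F75410) (tt N13201 F75411))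
theorem Q13322 : ∀ i, i < 13322 → P i := stepQ 13321 Q13321 (allL N13321 (tt N12978 F75412) (tt N13612 (iv F76593)) (tt N13126 F75413) (tt N12912 F75414) (tt N13410 (iv F75740)) (tt N12911 (iv D19208)) (tt N13614 D19501) (tt N13520 (iv F76222)) (tt N13202 F75415))
theorem Q13323 : ∀ i, i < 13323 → P i := stepQ 13322 Q13322 (allL N13322 (tt N12979 F75416) (tt N13613 (iv F76597)) (tt N12913 F75417) (tt N13614 (iv F76604)) (tt N12916 F75418) (tt N13569 (iv F76424)) (tt N12912 (iv D19209)) (tt N13308 F75419) (tt N13203 F75420))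
theorem Q13324 : ∀ i, i < 13324 → P i := stepQ 13323 Q13323 (allL N13323 (tt N12915 F75421) (tt N12980 F75422) (tt N13593 (iv F76521)) (tt N13413 (iv F75758)) (tt N13611 (iv F76589)) (tt N12914 (iv D19210)) (tt N13615 D19502) (tt N13605 (iv F76565)) (tt N13204 F75423))
theorem Q13325 : ∀ i, i < 13325 → P i := stepQ 13324 Q13324 (allL N13324 (tt N13615 (iv F76606)) (tt N12916 F75424) (tt N13596 (iv F76534)) (tt N13414 (iv F75763)) (tt N13613 (iv F76599)) (tt N13506 (iv F76165)) (tt N12915 (iv D19211)) (tt N13608 (iv F76577)) (tt N13205 F75425))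
theorem Q13326 : ∀ i, i < 13326 → P i := stepQ 13325 Q13325 (allL N13325 (tt N13469 (iv F76010)) (tt N13417 (iv F75780)) (tt N13474 (iv F76037)) (tt N13602 (iv F76550)) (tt N13498 (iv F76126)) (tt N13450 (iv F75939)) (tt N12919 F75426) (tt N12918 (iv D19212)) (tt N13616 D19503))
theorem Q13327 : ∀ i, i < 13327 → P i := stepQ 13326 Q13326 (allL N13326 (tt N13399 (iv F75683)) (tt N13092 F75427) (tt N13413 (iv F75757)) (tt N13603 (iv F76553)) (tt N13499 (iv F76132)) (tt N12920 F75428) (tt N13616 (iv F76610)) (tt N12946 F75429) (tt N12919 (iv D19213)))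
theorem Q13328 : ∀ i, i < 13328 → P i := stepQ 13327 Q13327 (allL N13327 (tt N13488 (iv F76091)) (tt N12922 F75430) (tt N13617 D19504) (tt N12921 (iv D19214)) (tt N13327 F75431) (tt N13618 D19505) (tt N13575 (iv F76448)) (tt N13558 (iv F76378)) (tt N12925 F75432))
theorem Q13329 : ∀ i, i < 13329 → P i := stepQ 13328 Q13328 (allL N13328 (tt N13499 (iv F76129)) (tt N12923 F75433) (tt N13409 (iv F75733)) (tt N13618 (iv F76619)) (tt N13399 (iv F75686)) (tt N12921 (iv D19215)) (tt N13619 D19506) (tt N12953 F75434) (tt N12926 F75435))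
theorem Q13330 : ∀ i, i < 13330 → P i := stepQ 13329 Q13329 (allL N13329 (tt N12990 F75436) (tt N13618 (iv F76618)) (tt N13518 (iv F76210)) (tt N12923 F75437) (tt N13620 D19507) (tt N12922 (iv D19216)) (tt N13621 D19508) (tt N13560 (iv F76388)) (tt N12927 F75438))
theorem Q13331 : ∀ i, i < 13331 → P i := stepQ 13330 Q13330 (allL N13330 (tt N12992 F75439) (tt N13619 (iv F76621)) (tt N12924 F75440) (tt N13621 (iv F76628)) (tt N13401 (iv F75695)) (tt N13578 (iv F76464)) (tt N12923 (iv D19217)) (tt N12955 F75441) (tt N12928 F75442))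
theorem Q13332 : ∀ i, i < 13332 → P i := stepQ 13331 Q13331 (allL N13331 (tt N13250 F75443) (tt N13606 (iv F76567)) (tt N12925 (iv D19218)) (tt N13249 F75444) (tt N13331 F75445) (tt N13622 D19509) (tt N13366 (iv F75561)) (tt N13144 F75446) (tt N13617 (iv F76617)))
theorem Q13333 : ∀ i, i < 13333 → P i := stepQ 13332 Q13332 (allL N13332 (tt N13487 (iv F76087)) (tt N12927 F75447) (tt N13622 (iv F76631)) (tt N12926 F75448) (tt N13623 D19510) (tt N12925 (iv D19219)) (tt N13624 D19511) (tt N13422 (iv F75808)) (tt N13618 (iv F76620)))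
theorem Q13334 : ∀ i, i < 13334 → P i := stepQ 13333 Q13333 (allL N13333 (tt N13498 (iv F76123)) (tt N12928 F75449) (tt N13472 (iv F76028)) (tt N13624 (iv F76637)) (tt N13469 (iv F76013)) (tt N13580 (iv F76475)) (tt N12926 (iv D19220)) (tt N12929 F75450) (tt N13619 (iv F76623)))
theorem Q13335 : ∀ i, i < 13335 → P i := stepQ 13334 Q13334 (allL N13334 (tt N12993 F75451) (tt N13623 (iv F76634)) (tt N13609 (iv F76579)) (tt N13470 (iv F76018)) (tt N12927 (iv D19221)) (tt N13334 F75452) (tt N13625 D19512) (tt N13424 (iv F75817)) (tt N13620 (iv F76626)))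
theorem Q13336 : ∀ i, i < 13336 → P i := stepQ 13335 Q13335 (allL N13335 (tt N12994 F75453) (tt N13624 (iv F76636)) (tt N13610 (iv F76583)) (tt N12928 F75454) (tt N13625 (iv F76639)) (tt N13582 (iv F76481)) (tt N12927 (iv D19222)) (tt N13425 (iv F75820)) (tt N13621 (iv F76629)))
theorem Q13337 : ∀ i, i < 13337 → P i := stepQ 13336 Q13336 (allL N13336 (tt N13575 (iv F76445)) (tt N12931 F75455) (tt N13362 (iv F75545)) (tt N12930 (iv D19223)) (tt N13336 F75456) (tt N13626 D19513) (tt N13488 (iv F76095)) (tt N13627 D19514) (tt N12934 F75457))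
theorem Q13338 : ∀ i, i < 13338 → P i := stepQ 13337 Q13337 (allL N13337 (tt N13576 (iv F76451)) (tt N12932 F75458) (tt N12953 F75459) (tt N13626 (iv F76641)) (tt N13406 (iv F75717)) (tt N12930 (iv D19224)) (tt N13628 D19515) (tt N13409 (iv F75735)) (tt N12935 F75460))
theorem Q13339 : ∀ i, i < 13339 → P i := stepQ 13338 Q13338 (allL N13338 (tt N13427 (iv F75827)) (tt N13626 (iv F76640)) (tt N13227 F75461) (tt N12932 F75462) (tt N13629 D19516) (tt N12931 (iv D19225)) (tt N13630 D19517) (tt N13631 D19518) (tt N12936 F75463))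
theorem Q13340 : ∀ i, i < 13340 → P i := stepQ 13339 Q13339 (allL N13339 (tt N13428 (iv F75831)) (tt N13627 (iv F76644)) (tt N13228 F75464) (tt N13411 (iv F75745)) (tt N13339 F75465) (tt N13631 (iv F76660)) (tt N13537 (iv F76286)) (tt N12931 (iv D19226)) (tt N13604 (iv F76561)))
theorem Q13341 : ∀ i, i < 13341 → P i := stepQ 13340 Q13340 (allL N13340 (tt N13429 (iv F75837)) (tt N13628 (iv F76650)) (tt N12933 F75466) (tt N13630 (iv F76657)) (tt N13408 (iv F75727)) (tt N13538 (iv F76290)) (tt N12932 (iv D19227)) (tt N13412 (iv F75753)) (tt N12938 F75467))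
theorem Q13342 : ∀ i, i < 13342 → P i := stepQ 13341 Q13341 (allL N13341 (tt N13579 (iv F76467)) (tt N12936 F75468) (tt N13368 (iv F75567)) (tt N12935 F75469) (tt N13632 D19519) (tt N12934 (iv D19228)) (tt N13633 D19520) (tt N13481 (iv F76069)) (tt N13626 (iv F76642)))
theorem Q13343 : ∀ i, i < 13343 → P i := stepQ 13342 Q13342 (allL N13342 (tt N13580 (iv F76471)) (tt N12938 F75470) (tt N12958 F75471) (tt N13633 (iv F76664)) (tt N13438 (iv F75882)) (tt N13498 (iv F76127)) (tt N12935 (iv D19229)) (tt N12939 F75472) (tt N13628 (iv F76652)))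
theorem Q13344 : ∀ i, i < 13344 → P i := stepQ 13343 Q13343 (allL N13343 (tt N13533 (iv F76265)) (tt N13632 (iv F76661)) (tt N13230 F75473) (tt N13439 (iv F75885)) (tt N12936 (iv D19230)) (tt N13343 F75474) (tt N13634 D19521) (tt N13635 D19522) (tt N13629 (iv F76655)))
theorem Q13345 : ∀ i, i < 13345 → P i := stepQ 13344 Q13344 (allL N13344 (tt N13534 (iv F76268)) (tt N13633 (iv F76663)) (tt N13231 F75475) (tt N12938 F75476) (tt N13634 (iv F76666)) (tt N13540 (iv F76299)) (tt N12936 (iv D19231)) (tt N13636 D19523) (tt N13630 (iv F76658)))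
theorem Q13346 : ∀ i, i < 13346 → P i := stepQ 13345 Q13345 (allL N13345 (tt N13437 (iv F75875)) (tt N13481 (iv F76066)) (tt N13111 F75477) (tt N12941 F75478) (tt N13635 (iv F76668)) (tt N12937 F75479) (tt N13636 (iv F76672)) (tt N12936 (iv D19232)) (tt N13637 D19524))
theorem Q13347 : ∀ i, i < 13347 → P i := stepQ 13346 Q13346 (allL N13346 (tt N13405 (iv F75708)) (tt N13281 F75480) (tt N13104 F75481) (tt N12942 F75482) (tt N13346 F75483) (tt N13637 (iv F76676)) (tt N13453 (iv F75948)) (tt N13604 (iv F76560)) (tt N12937 (iv D19233)))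
theorem Q13348 : ∀ i, i < 13348 → P i := stepQ 13347 Q13347 (allL N13347 (tt N13438 (iv F75879)) (tt N13482 (iv F76071)) (tt N12945 F75484) (tt N13636 (iv F76671)) (tt N13580 (iv F76474)) (tt N13462 (iv F75986)) (tt N12941 F75485) (tt N12940 (iv D19234)) (tt N13638 D19525))
theorem Q13349 : ∀ i, i < 13349 → P i := stepQ 13348 Q13348 (allL N13348 (tt N13406 (iv F75714)) (tt N13282 F75486) (tt N12946 F75487) (tt N13637 (iv F76675)) (tt N13576 (iv F76454)) (tt N12942 F75488) (tt N13638 (iv F76679)) (tt N13413 (iv F75760)) (tt N12941 (iv D19235)))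
theorem Q13350 : ∀ i, i < 13350 → P i := stepQ 13349 Q13349 (allL N13349 (tt N12958 F75489) (tt N13010 F75490) (tt N13580 (iv F76473)) (tt N13639 D19526) (tt N12945 F75491) (tt N13472 (iv F76030)) (tt N12944 F75492) (tt N12943 (iv D19236)) (tt N13640 D19527))
theorem Q13351 : ∀ i, i < 13351 → P i := stepQ 13350 Q13350 (allL N13350 (tt N12957 F75493) (tt N13009 F75494) (tt N13367 (iv F75564)) (tt N12944 (iv D19237)) (tt N13175 F75495) (tt N12956 F75496) (tt N13639 (iv F76684)) (tt N13240 F75497) (tt N13641 D19528))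
theorem Q13352 : ∀ i, i < 13352 → P i := stepQ 13351 Q13351 (allL N13351 (tt N12953 F75498) (tt N13003 F75499) (tt N13576 (iv F76453)) (tt N13641 (iv F76692)) (tt N12946 F75500) (tt N12951 F75501) (tt N13640 (iv F76689)) (tt N13499 (iv F76134)) (tt N12944 (iv D19238)))
theorem Q13353 : ∀ i, i < 13353 → P i := stepQ 13352 Q13352 (allL N13352 (tt N13535 (iv F76272)) (tt N13291 F75502) (tt N13638 (iv F76678)) (tt N13232 F75503) (tt N13640 (iv F76688)) (tt N13500 (iv F76138)) (tt N12946 F75504) (tt N13616 (iv F76611)) (tt N12945 (iv D19239)))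
theorem Q13354 : ∀ i, i < 13354 → P i := stepQ 13353 Q13353 (allL N13353 (tt N12999 F75505) (tt N13535 (iv F76273)) (tt N12949 F75506) (tt N13164 F75507) (tt N12955 F75508) (tt N13441 (iv F75895)) (tt N12948 (iv D19240)) (tt N13401 (iv F75697)) (tt N12950 F75509))
theorem Q13355 : ∀ i, i < 13355 → P i := stepQ 13354 Q13354 (allL N13354 (tt N12952 F75510) (tt N13002 F75511) (tt N13361 (iv F75541)) (tt N12951 (iv D19241)) (tt N12960 F75512) (tt N13641 (iv F76694)) (tt N13263 F75513) (tt N13557 (iv F76372)) (tt N12956 F75514))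
theorem Q13356 : ∀ i, i < 13356 → P i := stepQ 13355 Q13355 (allL N13355 (tt N13641 (iv F76690)) (tt N12954 F75515) (tt N13363 (iv F75549)) (tt N12953 F75516) (tt N13169 F75517) (tt N12952 (iv D19242)) (tt N13642 D19529) (tt N13559 (iv F76383)) (tt N12957 F75518))
theorem Q13357 : ∀ i, i < 13357 → P i := stepQ 13356 Q13356 (allL N13356 (tt N13640 (iv F76686)) (tt N12955 F75519) (tt N13628 (iv F76651)) (tt N13642 (iv F76696)) (tt N13535 (iv F76275)) (tt N13591 (iv F76511)) (tt N12953 (iv D19243)) (tt N13619 (iv F76622)) (tt N12958 F75520))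
theorem Q13358 : ∀ i, i < 13358 → P i := stepQ 13357 Q13357 (allL N13357 (tt N13007 F75521) (tt N13642 (iv F76695)) (tt N13233 F75522) (tt N12955 F75523) (tt N13172 F75524) (tt N13265 F75525) (tt N12954 (iv D19244)) (tt N13561 (iv F76394)) (tt N12959 F75526))
theorem Q13359 : ∀ i, i < 13359 → P i := stepQ 13358 Q13358 (allL N13358 (tt N13639 (iv F76680)) (tt N12959 F75527) (tt N13369 (iv F75570)) (tt N12958 F75528) (tt N13178 F75529) (tt N13267 F75530) (tt N12957 (iv D19245)) (tt N13241 F75531) (tt N13642 (iv F76699)))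
theorem Q13360 : ∀ i, i < 13360 → P i := stepQ 13359 Q13359 (allL N13359 (tt N13306 F75532) (tt N13494 (iv F76112)) (tt N13181 F75533) (tt N12962 F75534) (tt N13643 D19530) (tt N12961 (iv D19246)) (tt N13644 D19531) (tt N13521 (iv F76226)) (tt N13514 (iv F76196)))
theorem Q13361 : ∀ i, i < 13361 → P i := stepQ 13360 Q13360 (allL N13360 (tt N13308 F75535) (tt N13511 (iv F76182)) (tt N12963 F75536) (tt N13644 (iv F76706)) (tt N12973 F75537) (tt N13195 F75538) (tt N12962 (iv D19247)) (tt N12979 F75539) (tt N13515 (iv F76201)))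
theorem Q13362 : ∀ i, i < 13362 → P i := stepQ 13361 Q13361 (allL N13361 (tt N12965 F75540) (tt N13411 (iv F75743)) (tt N13354 F75541) (tt N13627 (iv F76646)) (tt N12964 (iv D19248)) (tt N13645 D19532) (tt N13557 (iv F76371)) (tt N13263 F75542) (tt N12969 F75543))
theorem Q13363 : ∀ i, i < 13363 → P i := stepQ 13362 Q13362 (allL N13362 (tt N13627 (iv F76643)) (tt N12966 F75544) (tt N13336 F75545) (tt N12965 (iv D19249)) (tt N13362 F75546) (tt N13646 D19533) (tt N13558 (iv F76377)) (tt N13575 (iv F76449)) (tt N12970 F75547))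
theorem Q13364 : ∀ i, i < 13364 → P i := stepQ 13363 Q13363 (allL N13363 (tt N13645 (iv F76708)) (tt N12967 F75548) (tt N13355 F75549) (tt N13646 (iv F76714)) (tt N13505 (iv F76161)) (tt N12965 (iv D19250)) (tt N13647 D19534) (tt N13264 F75550) (tt N12971 F75551))
theorem Q13365 : ∀ i, i < 13365 → P i := stepQ 13364 Q13364 (allL N13364 (tt N13518 (iv F76209)) (tt N13646 (iv F76712)) (tt N12990 F75552) (tt N12967 F75553) (tt N13648 D19535) (tt N12966 (iv D19251)) (tt N13649 D19536) (tt N13577 (iv F76460)) (tt N12972 F75554))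
theorem Q13366 : ∀ i, i < 13366 → P i := stepQ 13365 Q13365 (allL N13365 (tt N13519 (iv F76214)) (tt N13647 (iv F76716)) (tt N12968 F75555) (tt N13649 (iv F76724)) (tt N13515 (iv F76199)) (tt N13561 (iv F76393)) (tt N12967 (iv D19252)) (tt N13265 F75556) (tt N12973 F75557))
theorem Q13367 : ∀ i, i < 13367 → P i := stepQ 13366 Q13366 (allL N13366 (tt N12970 F75558) (tt N13604 (iv F76557)) (tt N13276 F75559) (tt N12969 (iv D19253)) (tt N13366 F75560) (tt N13650 D19537) (tt N13331 F75561) (tt N13281 F75562) (tt N13627 (iv F76649)))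
theorem Q13368 : ∀ i, i < 13368 → P i := stepQ 13367 Q13367 (allL N13367 (tt N12971 F75563) (tt N13605 (iv F76563)) (tt N13350 F75564) (tt N13650 (iv F76728)) (tt N13509 (iv F76177)) (tt N12969 (iv D19254)) (tt N13651 D19538) (tt N12980 F75565) (tt N13645 (iv F76711)))
theorem Q13369 : ∀ i, i < 13369 → P i := stepQ 13368 Q13368 (allL N13368 (tt N13650 (iv F76726)) (tt N12972 F75566) (tt N13341 F75567) (tt N12971 F75568) (tt N13652 D19539) (tt N12970 (iv D19255)) (tt N13653 D19540) (tt N13430 (iv F75846)) (tt N13646 (iv F76715)))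
theorem Q13370 : ∀ i, i < 13370 → P i := stepQ 13369 Q13369 (allL N13369 (tt N13651 (iv F76730)) (tt N12973 F75569) (tt N13358 F75570) (tt N13653 (iv F76738)) (tt N13511 (iv F76184)) (tt N13564 (iv F76405)) (tt N12971 (iv D19256)) (tt N12981 F75571) (tt N13647 (iv F76719)))
theorem Q13371 : ∀ i, i < 13371 → P i := stepQ 13370 Q13370 (allL N13370 (tt N13609 (iv F76578)) (tt N13652 (iv F76733)) (tt N12993 F75572) (tt N13643 (iv F76702)) (tt N12972 (iv D19257)) (tt N13370 F75573) (tt N13654 D19541) (tt N13432 (iv F75855)) (tt N13648 (iv F76722)))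
theorem Q13372 : ∀ i, i < 13372 → P i := stepQ 13371 Q13371 (allL N13371 (tt N13610 (iv F76582)) (tt N13653 (iv F76736)) (tt N12994 F75574) (tt N12973 F75575) (tt N13654 (iv F76740)) (tt N13566 (iv F76411)) (tt N12972 (iv D19258)) (tt N13433 (iv F75858)) (tt N13649 (iv F76725)))
theorem Q13373 : ∀ i, i < 13373 → P i := stepQ 13372 Q13372 (allL N13372 (tt N13569 (iv F76421)) (tt N13375 (iv F75591)) (tt N12975 F75576) (tt N13374 (iv F75588)) (tt N13301 F75577) (tt N12979 F75578) (tt N12974 (iv D19259)) (tt N13195 F75579) (tt N13268 F75580))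
theorem Q13374 : ∀ i, i < 13374 → P i := stepQ 13373 Q13373 (allL N13373 (tt N12977 F75581) (tt N13611 (iv F76586)) (tt N13009 F75582) (tt N13258 F75583) (tt N12980 F75584) (tt N12976 (iv D19260)) (tt N13655 D19542) (tt N13509 (iv F76178)) (tt N13261 F75585))
theorem Q13375 : ∀ i, i < 13375 → P i := stepQ 13374 Q13374 (allL N13374 (tt N13655 (iv F76741)) (tt N12979 F75586) (tt N13011 F75587) (tt N13372 F75588) (tt N12981 F75589) (tt N13375 (iv F75594)) (tt N12977 (iv D19261)) (tt N13511 (iv F76185)) (tt N13269 F75590))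
theorem Q13376 : ∀ i, i < 13376 → P i := stepQ 13375 Q13375 (allL N13375 (tt N13614 (iv F76602)) (tt N13372 F75591) (tt N13302 F75592) (tt N12979 F75593) (tt N13434 (iv F75862)) (tt N13374 F75594) (tt N12978 (iv D19262)) (tt N13522 (iv F76230)) (tt N13270 F75595))
theorem Q13377 : ∀ i, i < 13377 → P i := stepQ 13376 Q13376 (allL N13376 (tt N12981 F75596) (tt N13615 (iv F76607)) (tt N13556 (iv F76364)) (tt N13436 (iv F75872)) (tt N13655 (iv F76744)) (tt N13567 (iv F76414)) (tt N12980 (iv D19263)) (tt N13651 (iv F76732)) (tt N13271 F75597))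
theorem Q13378 : ∀ i, i < 13378 → P i := stepQ 13377 Q13377 (allL N13377 (tt N13117 F75598) (tt N13234 F75599) (tt N12988 F75600) (tt N12983 F75601) (tt N13656 D19543) (tt N12982 (iv D19264)) (tt N13657 D19544) (tt N13136 F75602) (tt N13396 (iv F75669)))
theorem Q13379 : ∀ i, i < 13379 → P i := stepQ 13378 Q13378 (allL N13378 (tt N13118 F75603) (tt N13235 F75604) (tt N12984 F75605) (tt N13657 (iv F76756)) (tt N13182 F75606) (tt N13209 F75607) (tt N12983 (iv D19265)) (tt N13057 F75608) (tt N13397 (iv F75676)))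
theorem Q13380 : ∀ i, i < 13380 → P i := stepQ 13379 Q13379 (allL N13379 (tt N13400 (iv F75689)) (tt N13543 (iv F76313)) (tt N13396 (iv F75666)) (tt N12986 F75609) (tt N13658 D19545) (tt N12985 (iv D19266)) (tt N13659 D19546) (tt N13541 (iv F76304)) (tt N12988 F75610))
theorem Q13381 : ∀ i, i < 13381 → P i := stepQ 13380 Q13380 (allL N13380 (tt N13401 (iv F75693)) (tt N13544 (iv F76319)) (tt N12987 F75611) (tt N13659 (iv F76762)) (tt N12992 F75612) (tt N13476 (iv F76047)) (tt N12986 (iv D19267)) (tt N12999 F75613) (tt N12989 F75614))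
theorem Q13382 : ∀ i, i < 13382 → P i := stepQ 13381 Q13381 (allL N13381 (tt N13470 (iv F76016)) (tt N13545 (iv F76325)) (tt N13656 (iv F76749)) (tt N12993 F75615) (tt N12988 (iv D19268)) (tt N13381 F75616) (tt N13660 D19547) (tt N13531 (iv F76260)) (tt N13658 (iv F76761)))
theorem Q13383 : ∀ i, i < 13383 → P i := stepQ 13382 Q13382 (allL N13382 (tt N13471 (iv F76021)) (tt N13546 (iv F76328)) (tt N13657 (iv F76755)) (tt N12989 F75617) (tt N13660 (iv F76765)) (tt N13478 (iv F76054)) (tt N12988 (iv D19269)) (tt N13532 (iv F76264)) (tt N13659 (iv F76763)))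
theorem Q13384 : ∀ i, i < 13384 → P i := stepQ 13383 Q13383 (allL N13383 (tt N13620 (iv F76624)) (tt N13547 (iv F76330)) (tt N13648 (iv F76720)) (tt N13658 (iv F76759)) (tt N12990 (iv D19270)) (tt N13383 F75618) (tt N13661 D19548) (tt N13662 D19549) (tt N12993 F75619))
theorem Q13385 : ∀ i, i < 13385 → P i := stepQ 13384 Q13384 (allL N13384 (tt N13621 (iv F76627)) (tt N13548 (iv F76333)) (tt N13649 (iv F76723)) (tt N12992 F75620) (tt N13661 (iv F76766)) (tt N13588 (iv F76498)) (tt N12990 (iv D19271)) (tt N13663 D19550) (tt N12994 F75621))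
theorem Q13386 : ∀ i, i < 13386 → P i := stepQ 13385 Q13385 (allL N13385 (tt N13560 (iv F76385)) (tt N13549 (iv F76336)) (tt N13577 (iv F76458)) (tt N13008 F75622) (tt N13662 (iv F76768)) (tt N12991 F75623) (tt N13663 (iv F76772)) (tt N12990 (iv D19272)) (tt N13460 (iv F75976)))
theorem Q13387 : ∀ i, i < 13387 → P i := stepQ 13386 Q13386 (allL N13386 (tt N13625 (iv F76638)) (tt N13550 (iv F76339)) (tt N13654 (iv F76739)) (tt N13660 (iv F76764)) (tt N12994 F75624) (tt N13664 D19551) (tt N12993 (iv D19273)) (tt N13465 (iv F75995)) (tt N13661 (iv F76767)))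
theorem Q13388 : ∀ i, i < 13388 → P i := stepQ 13387 Q13387 (allL N13387 (tt N13291 F75625) (tt N12999 F75626) (tt N13206 F75627) (tt N13292 F75628) (tt N13006 F75629) (tt N13388 (iv F75636)) (tt N12997 (iv D19274)) (tt N13544 (iv F76323)) (tt N13000 F75630))
theorem Q13389 : ∀ i, i < 13389 → P i := stepQ 13388 Q13388 (allL N13388 (tt N13164 F75631) (tt N13292 F75632) (tt N13062 F75633) (tt N12999 F75634) (tt N13063 F75635) (tt N13387 F75636) (tt N12998 (iv D19275)) (tt N13542 (iv F76310)) (tt N13001 F75637))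
theorem Q13390 : ∀ i, i < 13390 → P i := stepQ 13389 Q13389 (allL N13389 (tt N13004 F75638) (tt N13641 (iv F76691)) (tt N13261 F75639) (tt N13003 F75640) (tt N13254 F75641) (tt N13002 (iv D19276)) (tt N13665 D19552) (tt N13666 D19553) (tt N13009 F75642))
theorem Q13391 : ∀ i, i < 13391 → P i := stepQ 13390 Q13390 (allL N13390 (tt N13005 F75643) (tt N13557 (iv F76369)) (tt N13200 F75644) (tt N13537 (iv F76284)) (tt N13013 F75645) (tt N13666 (iv F76782)) (tt N13411 (iv F75747)) (tt N13002 (iv D19277)) (tt N13503 (iv F76155)))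
theorem Q13392 : ∀ i, i < 13392 → P i := stepQ 13391 Q13391 (allL N13391 (tt N13006 F75646) (tt N13640 (iv F76687)) (tt N13256 F75647) (tt N13665 (iv F76776)) (tt N13291 F75648) (tt N13412 (iv F75752)) (tt N13003 (iv D19278)) (tt N13538 (iv F76291)) (tt N13010 F75649))
theorem Q13393 : ∀ i, i < 13393 → P i := stepQ 13392 Q13392 (allL N13392 (tt N13665 (iv F76774)) (tt N13007 F75650) (tt N13269 F75651) (tt N13006 F75652) (tt N13255 F75653) (tt N13434 (iv F75863)) (tt N13004 (iv D19279)) (tt N13667 D19554) (tt N13011 F75654))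
theorem Q13394 : ∀ i, i < 13394 → P i := stepQ 13393 Q13393 (allL N13393 (tt N13666 (iv F76779)) (tt N13008 F75655) (tt N13260 F75656) (tt N13549 (iv F76337)) (tt N13251 F75657) (tt N13005 F75658) (tt N13667 (iv F76786)) (tt N13004 (iv D19280)) (tt N13507 (iv F76169)))
theorem Q13395 : ∀ i, i < 13395 → P i := stepQ 13394 Q13394 (allL N13394 (tt N13561 (iv F76390)) (tt N13667 (iv F76783)) (tt N13243 F75659) (tt N13663 (iv F76771)) (tt N13253 F75660) (tt N13519 (iv F76217)) (tt N13008 F75661) (tt N13007 (iv D19281)) (tt N13508 (iv F76174)))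
theorem Q13396 : ∀ i, i < 13396 → P i := stepQ 13395 Q13395 (allL N13395 (tt N13011 F75662) (tt N13639 (iv F76681)) (tt N13655 (iv F76742)) (tt N13010 F75663) (tt N13556 (iv F76366)) (tt N13473 (iv F76034)) (tt N13009 (iv D19282)) (tt N13510 (iv F76181)) (tt N13665 (iv F76778)))
theorem Q13397 : ∀ i, i < 13397 → P i := stepQ 13396 Q13396 (allL N13396 (tt N13021 F75664) (tt N13208 F75665) (tt N13379 F75666) (tt N13015 F75667) (tt N13668 D19555) (tt N13014 (iv D19283)) (tt N13669 D19556) (tt N13225 F75668) (tt N13377 F75669))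
theorem Q13398 : ∀ i, i < 13398 → P i := stepQ 13397 Q13397 (allL N13397 (tt N13023 F75670) (tt N13209 F75671) (tt N13016 F75672) (tt N13669 (iv F76797)) (tt N13187 F75673) (tt N13235 F75674) (tt N13015 (iv D19284)) (tt N13041 F75675) (tt N13378 F75676))
theorem Q13399 : ∀ i, i < 13399 → P i := stepQ 13398 Q13398 (allL N13398 (tt N13312 F75677) (tt N13018 F75678) (tt N13304 F75679) (tt N13017 (iv D19285)) (tt N13398 F75680) (tt N13670 D19557) (tt N13150 F75681) (tt N13444 (iv F75909)) (tt N13119 F75682))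
theorem Q13400 : ∀ i, i < 13400 → P i := stepQ 13399 Q13399 (allL N13399 (tt N13326 F75683) (tt N13019 F75684) (tt N13033 F75685) (tt N13670 (iv F76804)) (tt N13328 F75686) (tt N13017 (iv D19286)) (tt N13671 D19558) (tt N13213 F75687) (tt N13120 F75688))
theorem Q13401 : ∀ i, i < 13401 → P i := stepQ 13400 Q13400 (allL N13400 (tt N13379 F75689) (tt N13670 (iv F76802)) (tt N13021 F75690) (tt N13019 F75691) (tt N13672 D19559) (tt N13018 (iv D19287)) (tt N13673 D19560) (tt N13446 (iv F75919)) (tt N13121 F75692))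
theorem Q13402 : ∀ i, i < 13402 → P i := stepQ 13401 Q13401 (allL N13401 (tt N13380 F75693) (tt N13671 (iv F76807)) (tt N13020 F75694) (tt N13673 (iv F76820)) (tt N13330 F75695) (tt N13153 F75696) (tt N13019 (iv D19288)) (tt N13353 F75697) (tt N13122 F75698))
theorem Q13403 : ∀ i, i < 13403 → P i := stepQ 13402 Q13402 (allL N13402 (tt N13668 (iv F76787)) (tt N13309 F75699) (tt N13672 (iv F76814)) (tt N13196 F75700) (tt N13021 (iv D19289)) (tt N13402 F75701) (tt N13674 D19561) (tt N13675 D19562) (tt N13466 (iv F76000)))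
theorem Q13404 : ∀ i, i < 13404 → P i := stepQ 13403 Q13403 (allL N13403 (tt N13669 (iv F76794)) (tt N13310 F75702) (tt N13673 (iv F76819)) (tt N13023 F75703) (tt N13674 (iv F76825)) (tt N13554 (iv F76357)) (tt N13021 (iv D19290)) (tt N13676 D19563) (tt N13467 (iv F76005)))
theorem Q13405 : ∀ i, i < 13405 → P i := stepQ 13404 Q13404 (allL N13404 (tt N13225 F75704) (tt N13311 F75705) (tt N13446 (iv F75917)) (tt N13044 F75706) (tt N13675 (iv F76828)) (tt N13022 F75707) (tt N13676 (iv F76835)) (tt N13021 (iv D19291)) (tt N13442 (iv F75901)))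
theorem Q13406 : ∀ i, i < 13406 → P i := stepQ 13405 Q13405 (allL N13405 (tt N13346 F75708) (tt N13025 F75709) (tt N13453 (iv F75946)) (tt N13024 (iv D19292)) (tt N13405 F75710) (tt N13677 D19564) (tt N13104 F75711) (tt N13314 F75712) (tt N13082 F75713))
theorem Q13407 : ∀ i, i < 13407 → P i := stepQ 13406 Q13406 (allL N13406 (tt N13348 F75714) (tt N13026 F75715) (tt N13213 F75716) (tt N13677 (iv F76838)) (tt N13337 F75717) (tt N13024 (iv D19293)) (tt N13678 D19565) (tt N13033 F75718) (tt N13083 F75719))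
theorem Q13408 : ∀ i, i < 13408 → P i := stepQ 13407 Q13407 (allL N13407 (tt N13074 F75720) (tt N13677 (iv F76837)) (tt N13053 F75721) (tt N13026 F75722) (tt N13679 D19566) (tt N13025 (iv D19294)) (tt N13680 D19567) (tt N13316 F75723) (tt N13084 F75724))
theorem Q13409 : ∀ i, i < 13409 → P i := stepQ 13408 Q13408 (allL N13408 (tt N13075 F75725) (tt N13678 (iv F76842)) (tt N13027 F75726) (tt N13680 (iv F76856)) (tt N13340 F75727) (tt N13108 F75728) (tt N13026 (iv D19295)) (tt N13034 F75729) (tt N13085 F75730))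
theorem Q13410 : ∀ i, i < 13410 → P i := stepQ 13409 Q13409 (allL N13409 (tt N13297 F75731) (tt N13030 F75732) (tt N13328 F75733) (tt N13572 (iv F76437)) (tt N13033 F75734) (tt N13028 (iv D19296)) (tt N13681 D19568) (tt N13337 F75735) (tt N13125 F75736))
theorem Q13411 : ∀ i, i < 13411 → P i := stepQ 13410 Q13410 (allL N13410 (tt N13077 F75737) (tt N13572 (iv F76436)) (tt N13202 F75738) (tt N13030 F75739) (tt N13321 F75740) (tt N13029 (iv D19297)) (tt N13682 D19569) (tt N13683 D19570) (tt N13126 F75741))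
theorem Q13412 : ∀ i, i < 13412 → P i := stepQ 13411 Q13411 (allL N13411 (tt N13078 F75742) (tt N13361 F75743) (tt N13199 F75744) (tt N13339 F75745) (tt N13035 F75746) (tt N13683 (iv F76878)) (tt N13390 F75747) (tt N13029 (iv D19298)) (tt N13313 F75748))
theorem Q13413 : ∀ i, i < 13413 → P i := stepQ 13412 Q13412 (allL N13412 (tt N13079 F75749) (tt N13681 (iv F76861)) (tt N13031 F75750) (tt N13682 (iv F76869)) (tt N13034 F75751) (tt N13391 F75752) (tt N13030 (iv D19299)) (tt N13340 F75753) (tt N13127 F75754))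
theorem Q13414 : ∀ i, i < 13414 → P i := stepQ 13413 Q13413 (allL N13413 (tt N13033 F75755) (tt N13080 F75756) (tt N13326 F75757) (tt N13323 F75758) (tt N13297 F75759) (tt N13032 (iv D19300)) (tt N13684 D19571) (tt N13348 F75760) (tt N13128 F75761))
theorem Q13415 : ∀ i, i < 13415 → P i := stepQ 13414 Q13414 (allL N13414 (tt N13684 (iv F76880)) (tt N13034 F75762) (tt N13671 (iv F76808)) (tt N13324 F75763) (tt N13681 (iv F76863)) (tt N13171 F75764) (tt N13033 (iv D19301)) (tt N13678 (iv F76846)) (tt N13129 F75765))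
theorem Q13416 : ∀ i, i < 13416 → P i := stepQ 13415 Q13415 (allL N13415 (tt N13084 F75766) (tt N13285 F75767) (tt N13106 F75768) (tt N13038 F75769) (tt N13685 D19572) (tt N13037 (iv D19302)) (tt N13686 D19573) (tt N13278 F75770) (tt N13074 F75771))
theorem Q13417 : ∀ i, i < 13417 → P i := stepQ 13416 Q13416 (allL N13416 (tt N13085 F75772) (tt N13286 F75773) (tt N13039 F75774) (tt N13686 (iv F76898)) (tt N13211 F75775) (tt N13054 F75776) (tt N13038 (iv D19303)) (tt N13040 F75777) (tt N13075 F75778))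
theorem Q13418 : ∀ i, i < 13418 → P i := stepQ 13417 Q13417 (allL N13417 (tt N13226 F75779) (tt N13325 F75780) (tt N13094 F75781) (tt N13676 (iv F76833)) (tt N13218 F75782) (tt N13102 F75783) (tt N13044 F75784) (tt N13043 (iv D19304)) (tt N13443 (iv F75904)))
theorem Q13419 : ∀ i, i < 13419 → P i := stepQ 13418 Q13418 (allL N13418 (tt N13101 F75785) (tt N13136 F75786) (tt N13543 (iv F76314)) (tt N13046 F75787) (tt N13687 D19574) (tt N13045 (iv D19305)) (tt N13688 D19575) (tt N13234 F75788) (tt N13541 (iv F76305)))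
theorem Q13420 : ∀ i, i < 13420 → P i := stepQ 13419 Q13419 (allL N13419 (tt N13102 F75789) (tt N13137 F75790) (tt N13047 F75791) (tt N13688 (iv F76909)) (tt N13054 F75792) (tt N13226 F75793) (tt N13046 (iv D19306)) (tt N13055 F75794) (tt N13542 (iv F76311)))
theorem Q13421 : ∀ i, i < 13421 → P i := stepQ 13420 Q13420 (allL N13420 (tt N13106 F75795) (tt N13479 (iv F76055)) (tt N13084 F75796) (tt N13049 F75797) (tt N13689 D19576) (tt N13048 (iv D19307)) (tt N13690 D19577) (tt N13252 F75798) (tt N13053 F75799))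
theorem Q13422 : ∀ i, i < 13422 → P i := stepQ 13421 Q13421 (allL N13421 (tt N13108 F75800) (tt N13480 (iv F76059)) (tt N13050 F75801) (tt N13690 (iv F76919)) (tt N13542 (iv F76309)) (tt N13075 F75802) (tt N13049 (iv D19308)) (tt N13063 F75803) (tt N13054 F75804))
theorem Q13423 : ∀ i, i < 13423 → P i := stepQ 13422 Q13422 (allL N13422 (tt N13147 F75805) (tt N13053 F75806) (tt N13483 (iv F76077)) (tt N13052 F75807) (tt N13691 D19578) (tt N13051 (iv D19309)) (tt N13692 D19579) (tt N13332 F75808) (tt N13479 (iv F76058)))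
theorem Q13424 : ∀ i, i < 13424 → P i := stepQ 13423 Q13423 (allL N13423 (tt N13149 F75809) (tt N13054 F75810) (tt N13132 F75811) (tt N13692 (iv F76930)) (tt N13137 F75812) (tt N13286 F75813) (tt N13052 (iv D19310)) (tt N13056 F75814) (tt N13480 (iv F76064)))
theorem Q13425 : ∀ i, i < 13425 → P i := stepQ 13424 Q13424 (allL N13424 (tt N13113 F75815) (tt N13691 (iv F76924)) (tt N13679 (iv F76849)) (tt N13687 (iv F76904)) (tt N13053 (iv D19311)) (tt N13424 F75816) (tt N13693 D19580) (tt N13334 F75817) (tt N13689 (iv F76916)))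
theorem Q13426 : ∀ i, i < 13426 → P i := stepQ 13425 Q13425 (allL N13425 (tt N13114 F75818) (tt N13692 (iv F76929)) (tt N13680 (iv F76855)) (tt N13054 F75819) (tt N13693 (iv F76934)) (tt N13686 (iv F76899)) (tt N13053 (iv D19312)) (tt N13335 F75820) (tt N13690 (iv F76922)))
theorem Q13427 : ∀ i, i < 13427 → P i := stepQ 13426 Q13426 (allL N13426 (tt N13065 F75821) (tt N13176 F75822) (tt N13087 F75823) (tt N13556 (iv F76365)) (tt N13090 F75824) (tt N13296 F75825) (tt N13064 (iv D19313)) (tt N13066 F75826) (tt N13590 (iv F76508)))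
theorem Q13428 : ∀ i, i < 13428 → P i := stepQ 13427 Q13427 (allL N13427 (tt N13338 F75827) (tt N13287 F75828) (tt N13536 (iv F76279)) (tt N13070 F75829) (tt N13694 D19581) (tt N13069 (iv D19314)) (tt N13695 D19582) (tt N13696 D19583) (tt N13210 F75830))
theorem Q13429 : ∀ i, i < 13429 → P i := stepQ 13428 Q13428 (allL N13428 (tt N13339 F75831) (tt N13188 F75832) (tt N13537 (iv F76283)) (tt N13078 F75833) (tt N13428 F75834) (tt N13696 (iv F76949)) (tt N13228 F75835) (tt N13069 (iv D19315)) (tt N13314 F75836))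
theorem Q13430 : ∀ i, i < 13430 → P i := stepQ 13429 Q13429 (allL N13429 (tt N13340 F75837) (tt N13288 F75838) (tt N13071 F75839) (tt N13695 (iv F76943)) (tt N13075 F75840) (tt N13229 F75841) (tt N13070 (iv D19316)) (tt N13079 F75842) (tt N13211 F75843))
theorem Q13431 : ∀ i, i < 13431 → P i := stepQ 13430 Q13430 (allL N13430 (tt N13583 (iv F76482)) (tt N13074 F75844) (tt N13481 (iv F76067)) (tt N13073 F75845) (tt N13697 D19584) (tt N13072 (iv D19317)) (tt N13698 D19585) (tt N13368 F75846) (tt N13285 F75847))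
theorem Q13432 : ∀ i, i < 13432 → P i := stepQ 13431 Q13431 (allL N13431 (tt N13584 (iv F76486)) (tt N13075 F75848) (tt N13284 F75849) (tt N13698 (iv F76957)) (tt N13288 F75850) (tt N13480 (iv F76062)) (tt N13073 (iv D19318)) (tt N13081 F75851) (tt N13286 F75852))
theorem Q13433 : ∀ i, i < 13433 → P i := stepQ 13432 Q13432 (allL N13432 (tt N13679 (iv F76848)) (tt N13697 (iv F76951)) (tt N13113 F75853) (tt N13694 (iv F76938)) (tt N13074 (iv D19319)) (tt N13432 F75854) (tt N13699 D19586) (tt N13370 F75855) (tt N13685 (iv F76894)))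
theorem Q13434 : ∀ i, i < 13434 → P i := stepQ 13433 Q13433 (allL N13433 (tt N13680 (iv F76854)) (tt N13698 (iv F76956)) (tt N13114 F75856) (tt N13075 F75857) (tt N13699 (iv F76961)) (tt N13690 (iv F76920)) (tt N13074 (iv D19320)) (tt N13371 F75858) (tt N13686 (iv F76901)))
theorem Q13435 : ∀ i, i < 13435 → P i := stepQ 13434 Q13434 (allL N13434 (tt N13682 (iv F76867)) (tt N13301 F75859) (tt N13270 F75860) (tt N13079 F75861) (tt N13375 F75862) (tt N13392 F75863) (tt N13077 (iv D19321)) (tt N13700 D19587) (tt N13302 F75864))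
theorem Q13436 : ∀ i, i < 13436 → P i := stepQ 13435 Q13435 (allL N13435 (tt N13683 (iv F76873)) (tt N13189 F75865) (tt N13201 F75866) (tt N13696 (iv F76948)) (tt N13193 F75867) (tt N13078 F75868) (tt N13700 (iv F76967)) (tt N13077 (iv D19322)) (tt N13315 F75869))
theorem Q13437 : ∀ i, i < 13437 → P i := stepQ 13436 Q13436 (allL N13436 (tt N13081 F75870) (tt N13684 (iv F76881)) (tt N13295 F75871) (tt N13376 F75872) (tt N13298 F75873) (tt N13590 (iv F76506)) (tt N13080 (iv D19323)) (tt N13584 (iv F76490)) (tt N13296 F75874))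
theorem Q13438 : ∀ i, i < 13438 → P i := stepQ 13437 Q13437 (allL N13437 (tt N13345 F75875) (tt N13084 F75876) (tt N13461 (iv F75979)) (tt N13083 F75877) (tt N13701 D19588) (tt N13082 (iv D19324)) (tt N13702 D19589) (tt N13210 F75878) (tt N13677 (iv F76840)))
theorem Q13439 : ∀ i, i < 13439 → P i := stepQ 13438 Q13438 (allL N13438 (tt N13347 F75879) (tt N13085 F75880) (tt N13212 F75881) (tt N13702 (iv F76976)) (tt N13342 F75882) (tt N13112 F75883) (tt N13083 (iv D19325)) (tt N13086 F75884) (tt N13678 (iv F76847)))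
theorem Q13440 : ∀ i, i < 13440 → P i := stepQ 13439 Q13439 (allL N13439 (tt N13685 (iv F76888)) (tt N13701 (iv F76970)) (tt N13689 (iv F76913)) (tt N13343 F75885) (tt N13084 (iv D19326)) (tt N13439 F75886) (tt N13703 D19590) (tt N13289 F75887) (tt N13679 (iv F76853)))
theorem Q13441 : ∀ i, i < 13441 → P i := stepQ 13440 Q13440 (allL N13440 (tt N13686 (iv F76895)) (tt N13702 (iv F76975)) (tt N13690 (iv F76918)) (tt N13085 F75888) (tt N13703 (iv F76980)) (tt N13114 F75889) (tt N13084 (iv D19327)) (tt N13290 F75890) (tt N13680 (iv F76859)))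
theorem Q13442 : ∀ i, i < 13442 → P i := stepQ 13441 Q13441 (allL N13441 (tt N13292 F75891) (tt N13232 F75892) (tt N13089 F75893) (tt N13291 F75894) (tt N13590 (iv F76505)) (tt N13353 F75895) (tt N13088 (iv D19328)) (tt N13153 F75896) (tt N13090 F75897))
theorem Q13443 : ∀ i, i < 13443 → P i := stepQ 13442 Q13442 (allL N13442 (tt N13543 (iv F76312)) (tt N13603 (iv F76552)) (tt N13101 F75898) (tt N13092 F75899) (tt N13704 D19591) (tt N13091 (iv D19329)) (tt N13705 D19592) (tt N13152 F75900) (tt N13404 F75901))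
theorem Q13444 : ∀ i, i < 13444 → P i := stepQ 13443 Q13443 (allL N13443 (tt N13544 (iv F76318)) (tt N13616 (iv F76609)) (tt N13093 F75902) (tt N13705 (iv F76987)) (tt N13538 (iv F76289)) (tt N13447 (iv F75923)) (tt N13092 (iv D19330)) (tt N13291 F75903) (tt N13417 F75904))
theorem Q13445 : ∀ i, i < 13445 → P i := stepQ 13444 Q13444 (allL N13444 (tt N13150 F75905) (tt N13096 F75906) (tt N13595 (iv F76528)) (tt N13095 (iv D19331)) (tt N13444 F75907) (tt N13706 D19593) (tt N13312 F75908) (tt N13398 F75909) (tt N13099 F75910))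
theorem Q13446 : ∀ i, i < 13446 → P i := stepQ 13445 Q13445 (allL N13445 (tt N13151 F75911) (tt N13097 F75912) (tt N13167 F75913) (tt N13706 (iv F76992)) (tt N13105 F75914) (tt N13095 (iv D19332)) (tt N13707 D19594) (tt N13163 F75915) (tt N13100 F75916))
theorem Q13447 : ∀ i, i < 13447 → P i := stepQ 13446 Q13446 (allL N13446 (tt N13541 (iv F76300)) (tt N13706 (iv F76991)) (tt N13404 F75917) (tt N13097 F75918) (tt N13708 D19595) (tt N13096 (iv D19333)) (tt N13709 D19596) (tt N13400 F75919) (tt N13101 F75920))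
theorem Q13448 : ∀ i, i < 13448 → P i := stepQ 13447 Q13447 (allL N13447 (tt N13542 (iv F76306)) (tt N13707 (iv F76996)) (tt N13098 F75921) (tt N13709 (iv F77008)) (tt N13108 F75922) (tt N13443 F75923) (tt N13097 (iv D19334)) (tt N13164 F75924) (tt N13102 F75925))
theorem Q13449 : ∀ i, i < 13449 → P i := stepQ 13448 Q13448 (allL N13448 (tt N13154 F75926) (tt N13592 (iv F76514)) (tt N13099 (iv D19335)) (tt N13174 F75927) (tt N13448 F75928) (tt N13710 D19597) (tt N13307 F75929) (tt N13183 F75930) (tt N13595 (iv F76532)))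
theorem Q13450 : ∀ i, i < 13450 → P i := stepQ 13449 Q13449 (allL N13449 (tt N13155 F75931) (tt N13101 F75932) (tt N13710 (iv F77013)) (tt N13100 F75933) (tt N13711 D19598) (tt N13099 (iv D19336)) (tt N13712 D19599) (tt N13186 F75934) (tt N13706 (iv F76994)))
theorem Q13451 : ∀ i, i < 13451 → P i := stepQ 13450 Q13450 (allL N13450 (tt N13156 F75935) (tt N13102 F75936) (tt N13176 F75937) (tt N13712 (iv F77023)) (tt N13112 F75938) (tt N13325 F75939) (tt N13100 (iv D19337)) (tt N13115 F75940) (tt N13707 (iv F77001)))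
theorem Q13452 : ∀ i, i < 13452 → P i := stepQ 13451 Q13451 (allL N13451 (tt N13687 (iv F76902)) (tt N13711 (iv F77017)) (tt N13704 (iv F76982)) (tt N13113 F75941) (tt N13101 (iv D19338)) (tt N13451 F75942) (tt N13713 D19600) (tt N13553 (iv F76351)) (tt N13708 (iv F77006)))
theorem Q13453 : ∀ i, i < 13453 → P i := stepQ 13452 Q13452 (allL N13452 (tt N13688 (iv F76907)) (tt N13712 (iv F77022)) (tt N13705 (iv F76986)) (tt N13102 F75943) (tt N13713 (iv F77027)) (tt N13676 (iv F76834)) (tt N13101 (iv D19339)) (tt N13554 (iv F76358)) (tt N13709 (iv F77011)))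
theorem Q13454 : ∀ i, i < 13454 → P i := stepQ 13453 Q13453 (allL N13453 (tt N13104 F75944) (tt N13144 F75945) (tt N13405 F75946) (tt N13103 (iv D19340)) (tt N13453 F75947) (tt N13714 D19601) (tt N13346 F75948) (tt N13606 (iv F76571)) (tt N13109 F75949))
theorem Q13455 : ∀ i, i < 13455 → P i := stepQ 13454 Q13454 (allL N13454 (tt N13105 F75950) (tt N13145 F75951) (tt N13163 F75952) (tt N13714 (iv F77031)) (tt N13151 F75953) (tt N13103 (iv D19341)) (tt N13715 D19602) (tt N13167 F75954) (tt N13110 F75955))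
theorem Q13456 : ∀ i, i < 13456 → P i := stepQ 13455 Q13455 (allL N13455 (tt N13714 (iv F77028)) (tt N13106 F75956) (tt N13637 (iv F76674)) (tt N13105 F75957) (tt N13716 D19603) (tt N13104 (iv D19342)) (tt N13717 D19604) (tt N13718 D19605) (tt N13111 F75958))
theorem Q13457 : ∀ i, i < 13457 → P i := stepQ 13456 Q13456 (allL N13456 (tt N13606 (iv F76566)) (tt N13107 F75959) (tt N13604 (iv F76558)) (tt N13170 F75960) (tt N13456 F75961) (tt N13718 (iv F77048)) (tt N13314 F75962) (tt N13104 (iv D19343)) (tt N13228 F75963))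
theorem Q13458 : ∀ i, i < 13458 → P i := stepQ 13457 Q13457 (allL N13457 (tt N13715 (iv F77033)) (tt N13108 F75964) (tt N13232 F75965) (tt N13717 (iv F77044)) (tt N13707 (iv F76998)) (tt N13678 (iv F76845)) (tt N13105 (iv D19344)) (tt N13171 F75966) (tt N13112 F75967))
theorem Q13459 : ∀ i, i < 13459 → P i := stepQ 13458 Q13458 (allL N13458 (tt N13689 (iv F76912)) (tt N13716 (iv F77040)) (tt N13685 (iv F76890)) (tt N13708 (iv F77003)) (tt N13106 (iv D19345)) (tt N13458 F75968) (tt N13719 D19606) (tt N13720 D19607) (tt N13113 F75969))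
theorem Q13460 : ∀ i, i < 13460 → P i := stepQ 13459 Q13459 (allL N13459 (tt N13690 (iv F76917)) (tt N13717 (iv F77043)) (tt N13686 (iv F76897)) (tt N13108 F75970) (tt N13719 (iv F77050)) (tt N13680 (iv F76857)) (tt N13106 (iv D19346)) (tt N13721 D19608) (tt N13114 F75971))
theorem Q13461 : ∀ i, i < 13461 → P i := stepQ 13460 Q13460 (allL N13460 (tt N13252 F75972) (tt N13718 (iv F77046)) (tt N13278 F75973) (tt N13173 F75974) (tt N13720 (iv F77054)) (tt N13107 F75975) (tt N13721 (iv F77061)) (tt N13106 (iv D19347)) (tt N13385 F75976))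
theorem Q13462 : ∀ i, i < 13462 → P i := stepQ 13461 Q13461 (allL N13461 (tt N13111 F75977) (tt N13147 F75978) (tt N13437 F75979) (tt N13110 F75980) (tt N13722 D19609) (tt N13109 (iv D19348)) (tt N13723 D19610) (tt N13217 F75981) (tt N13714 (iv F77032)))
theorem Q13463 : ∀ i, i < 13463 → P i := stepQ 13462 Q13462 (allL N13462 (tt N13112 F75982) (tt N13149 F75983) (tt N13165 F75984) (tt N13723 (iv F77072)) (tt N13156 F75985) (tt N13347 F75986) (tt N13110 (iv D19349)) (tt N13116 F75987) (tt N13715 (iv F77039)))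
theorem Q13464 : ∀ i, i < 13464 → P i := stepQ 13463 Q13463 (allL N13463 (tt N13722 (iv F77063)) (tt N13113 F75988) (tt N13635 (iv F76667)) (tt N13711 (iv F77018)) (tt N13111 (iv D19350)) (tt N13463 F75989) (tt N13724 D19611) (tt N13230 F75990) (tt N13716 (iv F77042)))
theorem Q13465 : ∀ i, i < 13465 → P i := stepQ 13464 Q13464 (allL N13464 (tt N13723 (iv F77069)) (tt N13114 F75991) (tt N13636 (iv F76670)) (tt N13112 F75992) (tt N13724 (iv F77076)) (tt N13702 (iv F76977)) (tt N13111 (iv D19351)) (tt N13231 F75993) (tt N13717 (iv F77045)))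
theorem Q13466 : ∀ i, i < 13466 → P i := stepQ 13465 Q13465 (allL N13465 (tt N13693 (iv F76933)) (tt N13724 (iv F77075)) (tt N13699 (iv F76960)) (tt N13713 (iv F77026)) (tt N13114 F75994) (tt N13725 D19612) (tt N13113 (iv D19352)) (tt N13386 F75995) (tt N13719 (iv F77051)))
theorem Q13467 : ∀ i, i < 13467 → P i := stepQ 13466 Q13466 (allL N13466 (tt N13656 (iv F76747)) (tt N13196 F75996) (tt N13470 (iv F76017)) (tt N13309 F75997) (tt N13117 (iv D19353)) (tt N13466 F75998) (tt N13726 D19613) (tt N13157 F75999) (tt N13402 F76000))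
theorem Q13468 : ∀ i, i < 13468 → P i := stepQ 13467 Q13467 (allL N13467 (tt N13657 (iv F76753)) (tt N13197 F76001) (tt N13471 (iv F76022)) (tt N13118 F76002) (tt N13726 (iv F77082)) (tt N13239 F76003) (tt N13117 (iv D19354)) (tt N13158 F76004) (tt N13403 F76005))
theorem Q13469 : ∀ i, i < 13469 → P i := stepQ 13468 Q13468 (allL N13468 (tt N13311 F76006) (tt N13121 F76007) (tt N13521 (iv F76224)) (tt N13120 F76008) (tt N13727 D19614) (tt N13119 (iv D19355)) (tt N13728 D19615) (tt N13181 F76009) (tt N13670 (iv F76805)))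
theorem Q13470 : ∀ i, i < 13470 → P i := stepQ 13469 Q13469 (allL N13469 (tt N13325 F76010) (tt N13122 F76011) (tt N13129 F76012) (tt N13728 (iv F77092)) (tt N13333 F76013) (tt N13156 F76014) (tt N13120 (iv D19356)) (tt N13123 F76015) (tt N13671 (iv F76812)))
theorem Q13471 : ∀ i, i < 13471 → P i := stepQ 13470 Q13470 (allL N13470 (tt N13381 F76016) (tt N13727 (iv F77086)) (tt N13466 F76017) (tt N13334 F76018) (tt N13121 (iv D19357)) (tt N13470 F76019) (tt N13729 D19616) (tt N13238 F76020) (tt N13672 (iv F76817)))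
theorem Q13472 : ∀ i, i < 13472 → P i := stepQ 13471 Q13471 (allL N13471 (tt N13382 F76021) (tt N13728 (iv F77091)) (tt N13467 F76022) (tt N13122 F76023) (tt N13729 (iv F77098)) (tt N13158 F76024) (tt N13121 (iv D19358)) (tt N13239 F76025) (tt N13673 (iv F76822)))
theorem Q13473 : ∀ i, i < 13473 → P i := stepQ 13472 Q13472 (allL N13472 (tt N13299 F76026) (tt N13127 F76027) (tt N13333 F76028) (tt N13574 (iv F76443)) (tt N13129 F76029) (tt N13349 F76030) (tt N13125 (iv D19359)) (tt N13130 F76031) (tt N13681 (iv F76866)))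
theorem Q13474 : ∀ i, i < 13474 → P i := stepQ 13473 Q13473 (allL N13473 (tt N13302 F76032) (tt N13574 (iv F76442)) (tt N13614 (iv F76603)) (tt N13127 F76033) (tt N13529 (iv F76251)) (tt N13395 F76034) (tt N13126 (iv D19360)) (tt N13530 (iv F76256)) (tt N13682 (iv F76872)))
theorem Q13475 : ∀ i, i < 13475 → P i := stepQ 13474 Q13474 (allL N13474 (tt N13129 F76035) (tt N13296 F76036) (tt N13325 F76037) (tt N13530 (iv F76254)) (tt N13299 F76038) (tt N13176 F76039) (tt N13128 (iv D19361)) (tt N13131 F76040) (tt N13684 (iv F76887)))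
theorem Q13476 : ∀ i, i < 13476 → P i := stepQ 13475 Q13475 (allL N13475 (tt N13152 F76041) (tt N13541 (iv F76301)) (tt N13234 F76042) (tt N13134 F76043) (tt N13730 D19617) (tt N13133 (iv D19362)) (tt N13731 D19618) (tt N13543 (iv F76316)) (tt N13136 F76044))
theorem Q13477 : ∀ i, i < 13477 → P i := stepQ 13476 Q13476 (allL N13476 (tt N13153 F76045) (tt N13542 (iv F76307)) (tt N13135 F76046) (tt N13731 (iv F77106)) (tt N13480 (iv F76061)) (tt N13380 F76047) (tt N13134 (iv D19363)) (tt N13292 F76048) (tt N13137 F76049))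
theorem Q13478 : ∀ i, i < 13478 → P i := stepQ 13477 Q13477 (allL N13477 (tt N13157 F76050) (tt N13687 (iv F76903)) (tt N13531 (iv F76258)) (tt N13691 (iv F76925)) (tt N13136 (iv D19364)) (tt N13477 F76051) (tt N13732 D19619) (tt N13656 (iv F76752)) (tt N13730 (iv F77103)))
theorem Q13479 : ∀ i, i < 13479 → P i := stepQ 13478 Q13478 (allL N13478 (tt N13158 F76052) (tt N13688 (iv F76908)) (tt N13532 (iv F76262)) (tt N13137 F76053) (tt N13732 (iv F77110)) (tt N13382 F76054) (tt N13136 (iv D19365)) (tt N13657 (iv F76758)) (tt N13731 (iv F77108)))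
theorem Q13480 : ∀ i, i < 13480 → P i := stepQ 13479 Q13479 (allL N13479 (tt N13483 (iv F76076)) (tt N13420 F76055) (tt N13147 F76056) (tt N13139 F76057) (tt N13733 D19620) (tt N13138 (iv D19366)) (tt N13734 D19621) (tt N13563 (iv F76402)) (tt N13422 F76058))
theorem Q13481 : ∀ i, i < 13481 → P i := stepQ 13480 Q13480 (allL N13480 (tt N13484 (iv F76080)) (tt N13421 F76059) (tt N13140 F76060) (tt N13734 (iv F77118)) (tt N13476 F76061) (tt N13431 F76062) (tt N13139 (iv D19367)) (tt N13300 F76063) (tt N13423 F76064))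
theorem Q13482 : ∀ i, i < 13482 → P i := stepQ 13481 Q13481 (allL N13481 (tt N13285 F76065) (tt N13345 F76066) (tt N13430 F76067) (tt N13142 F76068) (tt N13735 D19622) (tt N13141 (iv D19368)) (tt N13736 D19623) (tt N13341 F76069) (tt N13583 (iv F76485)))
theorem Q13483 : ∀ i, i < 13483 → P i := stepQ 13482 Q13482 (allL N13482 (tt N13286 F76070) (tt N13347 F76071) (tt N13143 F76072) (tt N13736 (iv F77130)) (tt N13279 F76073) (tt N13149 F76074) (tt N13142 (iv D19369)) (tt N13159 F76075) (tt N13584 (iv F76491)))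
theorem Q13484 : ∀ i, i < 13484 → P i := stepQ 13483 Q13483 (allL N13483 (tt N13479 F76076) (tt N13714 (iv F77029)) (tt N13422 F76077) (tt N13145 F76078) (tt N13737 D19624) (tt N13144 (iv D19370)) (tt N13738 D19625) (tt N13622 (iv F76633)) (tt N13147 F76079))
theorem Q13485 : ∀ i, i < 13485 → P i := stepQ 13484 Q13484 (allL N13484 (tt N13480 F76080) (tt N13715 (iv F77034)) (tt N13146 F76081) (tt N13738 (iv F77140)) (tt N13153 F76082) (tt N13584 (iv F76489)) (tt N13145 (iv D19371)) (tt N13590 (iv F76507)) (tt N13149 F76083))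
theorem Q13486 : ∀ i, i < 13486 → P i := stepQ 13485 Q13485 (allL N13485 (tt N13691 (iv F76923)) (tt N13722 (iv F77064)) (tt N13733 (iv F77112)) (tt N13157 F76084) (tt N13147 (iv D19372)) (tt N13485 F76085) (tt N13739 D19626) (tt N13740 D19627) (tt N13737 (iv F77137)))
theorem Q13487 : ∀ i, i < 13487 → P i := stepQ 13486 Q13486 (allL N13486 (tt N13692 (iv F76928)) (tt N13723 (iv F77070)) (tt N13734 (iv F77117)) (tt N13149 F76086) (tt N13739 (iv F77143)) (tt N13736 (iv F77131)) (tt N13147 (iv D19373)) (tt N13741 D19628) (tt N13738 (iv F77141)))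
theorem Q13488 : ∀ i, i < 13488 → P i := stepQ 13487 Q13487 (allL N13487 (tt N13332 F76087) (tt N13217 F76088) (tt N13563 (iv F76400)) (tt N13161 F76089) (tt N13740 (iv F77147)) (tt N13148 F76090) (tt N13741 (iv F77153)) (tt N13147 (iv D19374)) (tt N13742 D19629))
theorem Q13489 : ∀ i, i < 13489 → P i := stepQ 13488 Q13488 (allL N13488 (tt N13327 F76091) (tt N13214 F76092) (tt N13558 (iv F76375)) (tt N13162 F76093) (tt N13488 F76094) (tt N13742 (iv F77157)) (tt N13336 F76095) (tt N13617 (iv F76616)) (tt N13148 (iv D19375)))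
theorem Q13490 : ∀ i, i < 13490 → P i := stepQ 13489 Q13489 (allL N13489 (tt N13595 (iv F76526)) (tt N13183 F76096) (tt N13150 (iv D19376)) (tt N13168 F76097) (tt N13489 F76098) (tt N13743 D19630) (tt N13304 F76099) (tt N13592 (iv F76517)) (tt N13154 F76100))
theorem Q13491 : ∀ i, i < 13491 → P i := stepQ 13490 Q13490 (allL N13490 (tt N13706 (iv F76990)) (tt N13152 F76101) (tt N13743 (iv F77159)) (tt N13151 F76102) (tt N13744 D19631) (tt N13150 (iv D19377)) (tt N13745 D19632) (tt N13603 (iv F76555)) (tt N13155 F76103))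
theorem Q13492 : ∀ i, i < 13492 → P i := stepQ 13491 Q13491 (allL N13491 (tt N13707 (iv F76995)) (tt N13153 F76104) (tt N13171 F76105) (tt N13745 (iv F77166)) (tt N13715 (iv F77036)) (tt N13671 (iv F76810)) (tt N13151 (iv D19378)) (tt N13232 F76106) (tt N13156 F76107))
theorem Q13493 : ∀ i, i < 13493 → P i := stepQ 13492 Q13492 (allL N13492 (tt N13730 (iv F77100)) (tt N13744 (iv F77162)) (tt N13553 (iv F76348)) (tt N13737 (iv F77135)) (tt N13152 (iv D19379)) (tt N13492 F76108) (tt N13746 D19633) (tt N13704 (iv F76984)) (tt N13157 F76109))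
theorem Q13494 : ∀ i, i < 13494 → P i := stepQ 13493 Q13493 (allL N13493 (tt N13731 (iv F77104)) (tt N13745 (iv F77165)) (tt N13554 (iv F76355)) (tt N13153 F76110) (tt N13746 (iv F77168)) (tt N13673 (iv F76821)) (tt N13152 (iv D19380)) (tt N13705 (iv F76988)) (tt N13158 F76111))
theorem Q13495 : ∀ i, i < 13495 → P i := stepQ 13494 Q13494 (allL N13494 (tt N13710 (iv F77012)) (tt N13359 F76112) (tt N13155 F76113) (tt N13177 F76114) (tt N13747 D19634) (tt N13154 (iv D19381)) (tt N13748 D19635) (tt N13194 F76115) (tt N13743 (iv F77161)))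
theorem Q13496 : ∀ i, i < 13496 → P i := stepQ 13495 Q13495 (allL N13495 (tt N13711 (iv F77016)) (tt N13157 F76116) (tt N13747 (iv F77171)) (tt N13722 (iv F77066)) (tt N13155 (iv D19382)) (tt N13495 F76117) (tt N13749 D19636) (tt N13196 F76118) (tt N13744 (iv F77164)))
theorem Q13497 : ∀ i, i < 13497 → P i := stepQ 13496 Q13496 (allL N13496 (tt N13712 (iv F77021)) (tt N13158 F76119) (tt N13748 (iv F77176)) (tt N13156 F76120) (tt N13749 (iv F77180)) (tt N13728 (iv F77093)) (tt N13155 (iv D19383)) (tt N13197 F76121) (tt N13745 (iv F77167)))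
theorem Q13498 : ∀ i, i < 13498 → P i := stepQ 13497 Q13497 (allL N13497 (tt N13732 (iv F77109)) (tt N13749 (iv F77179)) (tt N13555 (iv F76360)) (tt N13739 (iv F77142)) (tt N13158 F76122) (tt N13750 D19637) (tt N13157 (iv D19384)) (tt N13726 (iv F77083)) (tt N13746 (iv F77169)))
theorem Q13499 : ∀ i, i < 13499 → P i := stepQ 13498 Q13498 (allL N13498 (tt N13333 F76123) (tt N13218 F76124) (tt N13299 F76125) (tt N13741 (iv F77151)) (tt N13325 F76126) (tt N13342 F76127) (tt N13161 F76128) (tt N13160 (iv D19385)) (tt N13751 D19638))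
theorem Q13500 : ∀ i, i < 13500 → P i := stepQ 13499 Q13499 (allL N13499 (tt N13328 F76129) (tt N13215 F76130) (tt N13297 F76131) (tt N13742 (iv F77156)) (tt N13326 F76132) (tt N13162 F76133) (tt N13751 (iv F77188)) (tt N13351 F76134) (tt N13161 (iv D19386)))
theorem Q13501 : ∀ i, i < 13501 → P i := stepQ 13500 Q13500 (allL N13500 (tt N13232 F76135) (tt N13164 F76136) (tt N13715 (iv F77035)) (tt N13535 (iv F76274)) (tt N13171 F76137) (tt N13352 F76138) (tt N13163 (iv D19387)) (tt N13707 (iv F77000)) (tt N13165 F76139))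
theorem Q13502 : ∀ i, i < 13502 → P i := stepQ 13501 Q13501 (allL N13501 (tt N13168 F76140) (tt N13191 F76141) (tt N13166 (iv D19388)) (tt N13595 (iv F76529)) (tt N13179 F76142) (tt N13752 D19639) (tt N13303 F76143) (tt N13319 (iv F76145)) (tt N13174 F76144))
theorem Q13503 : ∀ i, i < 13503 → P i := stepQ 13502 Q13502 (allL N13502 (tt N13169 F76146) (tt N13254 F76147) (tt N13752 (iv F77192)) (tt N13167 F76148) (tt N13641 (iv F76693)) (tt N13166 (iv D19389)) (tt N13753 D19640) (tt N13754 D19641) (tt N13175 F76149))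
theorem Q13504 : ∀ i, i < 13504 → P i := stepQ 13503 Q13503 (allL N13503 (tt N13170 F76150) (tt N13249 F76151) (tt N13319 F76152) (tt N13606 (iv F76568)) (tt N13180 F76153) (tt N13754 (iv F77204)) (tt N13313 F76154) (tt N13166 (iv D19390)) (tt N13390 F76155))
theorem Q13505 : ∀ i, i < 13505 → P i := stepQ 13504 Q13504 (allL N13504 (tt N13171 F76156) (tt N13590 (iv F76502)) (tt N13707 (iv F76997)) (tt N13753 (iv F77198)) (tt N13232 F76157) (tt N13684 (iv F76885)) (tt N13167 (iv D19391)) (tt N13715 (iv F77038)) (tt N13176 F76158))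
theorem Q13506 : ∀ i, i < 13506 → P i := stepQ 13505 Q13505 (allL N13505 (tt N13752 (iv F77190)) (tt N13184 F76159) (tt N13169 F76160) (tt N13743 (iv F77160)) (tt N13363 F76161) (tt N13168 (iv D19392)) (tt N13755 D19642) (tt N13568 (iv F76419)) (tt N13177 F76162))
theorem Q13507 : ∀ i, i < 13507 → P i := stepQ 13506 Q13506 (allL N13506 (tt N13753 (iv F77196)) (tt N13172 F76163) (tt N13755 (iv F77207)) (tt N13171 F76164) (tt N13642 (iv F76697)) (tt N13324 F76165) (tt N13169 (iv D19393)) (tt N13756 D19643) (tt N13178 F76166))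
theorem Q13508 : ∀ i, i < 13508 → P i := stepQ 13507 Q13507 (allL N13507 (tt N13754 (iv F77201)) (tt N13173 F76167) (tt N13568 (iv F76417)) (tt N13718 (iv F77047)) (tt N13559 (iv F76382)) (tt N13170 F76168) (tt N13756 (iv F77213)) (tt N13169 (iv D19394)) (tt N13393 F76169))
theorem Q13509 : ∀ i, i < 13509 → P i := stepQ 13508 Q13508 (allL N13508 (tt N13253 F76170) (tt N13756 (iv F77211)) (tt N13242 F76171) (tt N13721 (iv F77059)) (tt N13561 (iv F76392)) (tt N13317 F76172) (tt N13173 F76173) (tt N13172 (iv D19395)) (tt N13394 F76174))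
theorem Q13510 : ∀ i, i < 13510 → P i := stepQ 13509 Q13509 (allL N13509 (tt N13177 F76175) (tt N13593 (iv F76520)) (tt N13175 F76176) (tt N13710 (iv F77014)) (tt N13367 F76177) (tt N13174 (iv D19396)) (tt N13757 D19644) (tt N13373 F76178) (tt N13752 (iv F77195)))
theorem Q13511 : ∀ i, i < 13511 → P i := stepQ 13510 Q13510 (allL N13510 (tt N13178 F76179) (tt N13556 (iv F76363)) (tt N13757 (iv F77216)) (tt N13176 F76180) (tt N13639 (iv F76682)) (tt N13530 (iv F76255)) (tt N13175 (iv D19397)) (tt N13395 F76181) (tt N13753 (iv F77200)))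
theorem Q13512 : ∀ i, i < 13512 → P i := stepQ 13511 Q13511 (allL N13511 (tt N13757 (iv F77215)) (tt N13360 F76182) (tt N13178 F76183) (tt N13748 (iv F77177)) (tt N13369 F76184) (tt N13522 (iv F76229)) (tt N13177 (iv D19398)) (tt N13374 F76185) (tt N13755 (iv F77210)))
theorem Q13513 : ∀ i, i < 13513 → P i := stepQ 13512 Q13512 (allL N13512 (tt N13309 F76186) (tt N13238 F76187) (tt N13643 (iv F76701)) (tt N13656 (iv F76750)) (tt N13181 (iv D19399)) (tt N13512 F76188) (tt N13758 D19645) (tt N13727 (iv F77089)) (tt N13516 (iv F76204)))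
theorem Q13514 : ∀ i, i < 13514 → P i := stepQ 13513 Q13513 (allL N13513 (tt N13310 F76189) (tt N13239 F76190) (tt N13644 (iv F76705)) (tt N13182 F76191) (tt N13758 (iv F77221)) (tt N13197 F76192) (tt N13181 (iv D19400)) (tt N13728 (iv F77094)) (tt N13517 (iv F76208)))
theorem Q13515 : ∀ i, i < 13515 → P i := stepQ 13514 Q13514 (allL N13514 (tt N13194 F76193) (tt N13743 (iv F77158)) (tt N13186 F76194) (tt N13184 F76195) (tt N13759 D19646) (tt N13183 (iv D19401)) (tt N13760 D19647) (tt N13710 (iv F77015)) (tt N13359 F76196))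
theorem Q13516 : ∀ i, i < 13516 → P i := stepQ 13515 Q13515 (allL N13515 (tt N13195 F76197) (tt N13755 (iv F77206)) (tt N13185 F76198) (tt N13760 (iv F77229)) (tt N13365 F76199) (tt N13308 F76200) (tt N13184 (iv D19402)) (tt N13569 (iv F76425)) (tt N13360 F76201))
theorem Q13517 : ∀ i, i < 13517 → P i := stepQ 13516 Q13516 (allL N13516 (tt N13196 F76202) (tt N13553 (iv F76347)) (tt N13759 (iv F77223)) (tt N13668 (iv F76790)) (tt N13186 (iv D19403)) (tt N13516 F76203) (tt N13761 D19648) (tt N13711 (iv F77020)) (tt N13512 F76204))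
theorem Q13518 : ∀ i, i < 13518 → P i := stepQ 13517 Q13517 (allL N13517 (tt N13197 F76205) (tt N13554 (iv F76354)) (tt N13760 (iv F77228)) (tt N13187 F76206) (tt N13761 (iv F77233)) (tt N13310 F76207) (tt N13186 (iv D19404)) (tt N13712 (iv F77025)) (tt N13513 F76208))
theorem Q13519 : ∀ i, i < 13519 → P i := stepQ 13518 Q13518 (allL N13518 (tt N13364 F76209) (tt N13696 (iv F76947)) (tt N13329 F76210) (tt N13189 F76211) (tt N13762 D19649) (tt N13188 (iv D19405)) (tt N13763 D19650) (tt N13287 F76212) (tt N13316 F76213))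
theorem Q13520 : ∀ i, i < 13520 → P i := stepQ 13519 Q13519 (allL N13519 (tt N13365 F76214) (tt N13700 (iv F76963)) (tt N13190 F76215) (tt N13763 (iv F77243)) (tt N13195 F76216) (tt N13394 F76217) (tt N13189 (iv D19406)) (tt N13301 F76218) (tt N13317 F76219))
theorem Q13521 : ∀ i, i < 13521 → P i := stepQ 13520 Q13520 (allL N13520 (tt N13193 F76220) (tt N13752 (iv F77191)) (tt N13204 F76221) (tt N13599 (iv F76544)) (tt N13683 (iv F76877)) (tt N13191 (iv D19407)) (tt N13764 D19651) (tt N13321 F76222) (tt N13593 (iv F76522)))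
theorem Q13522 : ∀ i, i < 13522 → P i := stepQ 13521 Q13521 (allL N13521 (tt N13599 (iv F76542)) (tt N13194 F76223) (tt N13468 F76224) (tt N13193 F76225) (tt N13765 D19652) (tt N13192 (iv D19408)) (tt N13766 D19653) (tt N13359 F76226) (tt N13594 (iv F76525)))
theorem Q13523 : ∀ i, i < 13523 → P i := stepQ 13522 Q13522 (allL N13522 (tt N13764 (iv F77247)) (tt N13195 F76227) (tt N13205 F76228) (tt N13766 (iv F77257)) (tt N13700 (iv F76965)) (tt N13511 F76229) (tt N13193 (iv D19409)) (tt N13375 F76230) (tt N13596 (iv F76535)))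
theorem Q13524 : ∀ i, i < 13524 → P i := stepQ 13523 Q13523 (allL N13523 (tt N13759 (iv F77222)) (tt N13765 (iv F77251)) (tt N13196 F76231) (tt N13762 (iv F77237)) (tt N13194 (iv D19410)) (tt N13523 F76232) (tt N13767 D19654) (tt N13747 (iv F77174)) (tt N13597 (iv F76538)))
theorem Q13525 : ∀ i, i < 13525 → P i := stepQ 13524 Q13524 (allL N13524 (tt N13760 (iv F77227)) (tt N13766 (iv F77255)) (tt N13197 F76233) (tt N13195 F76234) (tt N13767 (iv F77261)) (tt N13644 (iv F76707)) (tt N13194 (iv D19411)) (tt N13748 (iv F77178)) (tt N13598 (iv F76541)))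
theorem Q13526 : ∀ i, i < 13526 → P i := stepQ 13525 Q13525 (allL N13525 (tt N13761 (iv F77232)) (tt N13726 (iv F77080)) (tt N13767 (iv F77260)) (tt N13674 (iv F76824)) (tt N13197 F76235) (tt N13768 D19655) (tt N13196 (iv D19412)) (tt N13749 (iv F77181)) (tt N13600 (iv F76547)))
theorem Q13527 : ∀ i, i < 13527 → P i := stepQ 13526 Q13526 (allL N13526 (tt N13201 F76236) (tt N13261 F76237) (tt N13683 (iv F76875)) (tt N13260 F76238) (tt N13204 F76239) (tt N13199 (iv D19413)) (tt N13769 D19656) (tt N13202 F76240) (tt N13611 (iv F76591)))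
theorem Q13528 : ∀ i, i < 13528 → P i := stepQ 13527 Q13527 (allL N13527 (tt N13260 F76241) (tt N13202 F76242) (tt N13666 (iv F76780)) (tt N13201 F76243) (tt N13266 F76244) (tt N13200 (iv D19414)) (tt N13770 D19657) (tt N13261 F76245) (tt N13612 (iv F76596)))
theorem Q13529 : ∀ i, i < 13529 → P i := stepQ 13528 Q13528 (allL N13528 (tt N13769 (iv F77263)) (tt N13203 F76246) (tt N13700 (iv F76964)) (tt N13770 (iv F77270)) (tt N13205 F76247) (tt N13570 (iv F76429)) (tt N13201 (iv D19415)) (tt N13270 F76248) (tt N13613 (iv F76601)))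
theorem Q13530 : ∀ i, i < 13530 → P i := stepQ 13529 Q13529 (allL N13529 (tt N13270 F76249) (tt N13770 (iv F77269)) (tt N13682 (iv F76868)) (tt N13203 F76250) (tt N13473 F76251) (tt N13571 (iv F76434)) (tt N13202 (iv D19416)) (tt N13769 (iv F77267)) (tt N13614 (iv F76605)))
theorem Q13531 : ∀ i, i < 13531 → P i := stepQ 13530 Q13530 (allL N13530 (tt N13205 F76252) (tt N13271 F76253) (tt N13764 (iv F77248)) (tt N13474 F76254) (tt N13769 (iv F77266)) (tt N13510 F76255) (tt N13204 (iv D19417)) (tt N13473 F76256) (tt N13615 (iv F76608)))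
theorem Q13532 : ∀ i, i < 13532 → P i := stepQ 13531 Q13531 (allL N13531 (tt N13238 F76257) (tt N13668 (iv F76788)) (tt N13477 F76258) (tt N13553 (iv F76349)) (tt N13208 (iv D19418)) (tt N13531 F76259) (tt N13771 D19658) (tt N13381 F76260) (tt N13551 (iv F76343)))
theorem Q13533 : ∀ i, i < 13533 → P i := stepQ 13532 Q13532 (allL N13532 (tt N13239 F76261) (tt N13669 (iv F76795)) (tt N13478 F76262) (tt N13209 F76263) (tt N13771 (iv F77276)) (tt N13657 (iv F76757)) (tt N13208 (iv D19419)) (tt N13382 F76264) (tt N13552 (iv F76345)))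
theorem Q13534 : ∀ i, i < 13534 → P i := stepQ 13533 Q13533 (allL N13533 (tt N13343 F76265) (tt N13289 F76266) (tt N13539 (iv F76294)) (tt N13685 (iv F76891)) (tt N13210 (iv D19420)) (tt N13533 F76267) (tt N13772 D19659) (tt N13701 (iv F76973)) (tt N13694 (iv F76940)))
theorem Q13535 : ∀ i, i < 13535 → P i := stepQ 13534 Q13534 (allL N13534 (tt N13344 F76268) (tt N13290 F76269) (tt N13540 (iv F76297)) (tt N13211 F76270) (tt N13772 (iv F77280)) (tt N13231 F76271) (tt N13210 (iv D19421)) (tt N13702 (iv F76978)) (tt N13695 (iv F76945)))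
theorem Q13536 : ∀ i, i < 13536 → P i := stepQ 13535 Q13535 (allL N13535 (tt N13352 F76272) (tt N13353 F76273) (tt N13678 (iv F76843)) (tt N13500 F76274) (tt N13356 F76275) (tt N13232 F76276) (tt N13213 F76277) (tt N13671 (iv F76811)) (tt N13212 (iv D19422)))
theorem Q13537 : ∀ i, i < 13537 → P i := stepQ 13536 Q13536 (allL N13536 (tt N13227 F76278) (tt N13742 (iv F77155)) (tt N13427 F76279) (tt N13215 F76280) (tt N13773 D19660) (tt N13214 (iv D19423)) (tt N13774 D19661) (tt N13775 D19662) (tt N13217 F76281))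
theorem Q13538 : ∀ i, i < 13538 → P i := stepQ 13537 Q13537 (allL N13537 (tt N13228 F76282) (tt N13617 (iv F76613)) (tt N13428 F76283) (tt N13390 F76284) (tt N13537 F76285) (tt N13775 (iv F77294)) (tt N13339 F76286) (tt N13214 (iv D19424)) (tt N13606 (iv F76572)))
theorem Q13539 : ∀ i, i < 13539 → P i := stepQ 13538 Q13538 (allL N13538 (tt N13229 F76287) (tt N13751 (iv F77184)) (tt N13216 F76288) (tt N13774 (iv F77288)) (tt N13443 F76289) (tt N13340 F76290) (tt N13215 (iv D19425)) (tt N13391 F76291) (tt N13218 F76292))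
theorem Q13540 : ∀ i, i < 13540 → P i := stepQ 13539 Q13539 (allL N13539 (tt N13230 F76293) (tt N13740 (iv F77145)) (tt N13533 F76294) (tt N13675 F76830) (tt N13217 (iv D19426)) (tt N13539 F76295) (tt N13776 D19663) (tt N13722 (iv F77068)) (tt N13773 (iv F77285)))
theorem Q13541 : ∀ i, i < 13541 → P i := stepQ 13540 Q13540 (allL N13540 (tt N13231 F76296) (tt N13741 (iv F77150)) (tt N13534 F76297) (tt N13218 F76298) (tt N13776 (iv F77297)) (tt N13344 F76299) (tt N13217 (iv D19427)) (tt N13723 (iv F77074)) (tt N13774 (iv F77290)))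
theorem Q13542 : ∀ i, i < 13542 → P i := stepQ 13541 Q13541 (allL N13541 (tt N13446 F76300) (tt N13475 F76301) (tt N13225 F76302) (tt N13220 F76303) (tt N13777 D19664) (tt N13219 (iv D19428)) (tt N13778 D19665) (tt N13379 F76304) (tt N13418 F76305))
theorem Q13543 : ∀ i, i < 13543 → P i := stepQ 13542 Q13542 (allL N13542 (tt N13447 F76306) (tt N13476 F76307) (tt N13221 F76308) (tt N13778 (iv F77308)) (tt N13421 F76309) (tt N13544 (iv F76322)) (tt N13220 (iv D19429)) (tt N13388 F76310) (tt N13419 F76311))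
theorem Q13544 : ∀ i, i < 13544 → P i := stepQ 13543 Q13543 (allL N13543 (tt N13442 F76312) (tt N13379 F76313) (tt N13418 F76314) (tt N13223 F76315) (tt N13779 D19666) (tt N13222 (iv D19430)) (tt N13780 D19667) (tt N13475 F76316) (tt N13225 F76317))
theorem Q13545 : ∀ i, i < 13545 → P i := stepQ 13544 Q13544 (allL N13544 (tt N13443 F76318) (tt N13380 F76319) (tt N13224 F76320) (tt N13780 (iv F77321)) (tt N13229 F76321) (tt N13542 F76322) (tt N13223 (iv D19431)) (tt N13387 F76323) (tt N13226 F76324))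
theorem Q13546 : ∀ i, i < 13546 → P i := stepQ 13545 Q13545 (allL N13545 (tt N13675 (iv F76826)) (tt N13381 F76325) (tt N13777 (iv F77300)) (tt N13230 F76326) (tt N13225 (iv D19432)) (tt N13545 F76327) (tt N13781 D19668) (tt N13668 (iv F76792)) (tt N13779 (iv F77317)))
theorem Q13547 : ∀ i, i < 13547 → P i := stepQ 13546 Q13546 (allL N13546 (tt N13676 (iv F76831)) (tt N13382 F76328) (tt N13778 (iv F77307)) (tt N13226 F76329) (tt N13781 (iv F77327)) (tt N13688 (iv F76910)) (tt N13225 (iv D19433)) (tt N13669 (iv F76799)) (tt N13780 (iv F77324)))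
theorem Q13548 : ∀ i, i < 13548 → P i := stepQ 13547 Q13547 (allL N13547 (tt N13773 (iv F77281)) (tt N13383 F76330) (tt N13629 (iv F76653)) (tt N13779 (iv F77314)) (tt N13227 (iv D19434)) (tt N13547 F76331) (tt N13782 D19669) (tt N13783 D19670) (tt N13230 F76332))
theorem Q13549 : ∀ i, i < 13549 → P i := stepQ 13548 Q13548 (allL N13548 (tt N13774 (iv F77286)) (tt N13384 F76333) (tt N13630 (iv F76656)) (tt N13229 F76334) (tt N13782 (iv F77329)) (tt N13695 (iv F76944)) (tt N13227 (iv D19435)) (tt N13784 D19671) (tt N13231 F76335))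
theorem Q13550 : ∀ i, i < 13550 → P i := stepQ 13549 Q13549 (allL N13549 (tt N13775 (iv F77291)) (tt N13385 F76336) (tt N13631 (iv F76659)) (tt N13393 F76337) (tt N13783 (iv F77332)) (tt N13228 F76338) (tt N13784 (iv F77336)) (tt N13227 (iv D19436)) (tt N13718 (iv F77049)))
theorem Q13551 : ∀ i, i < 13551 → P i := stepQ 13550 Q13550 (allL N13550 (tt N13776 (iv F77295)) (tt N13386 F76339) (tt N13634 (iv F76665)) (tt N13781 (iv F77326)) (tt N13231 F76340) (tt N13785 D19672) (tt N13230 (iv D19437)) (tt N13724 (iv F77077)) (tt N13782 (iv F77330)))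
theorem Q13552 : ∀ i, i < 13552 → P i := stepQ 13551 Q13551 (allL N13551 (tt N13553 (iv F76346)) (tt N13656 (iv F76748)) (tt N13730 (iv F77101)) (tt N13238 F76341) (tt N13234 (iv D19438)) (tt N13551 F76342) (tt N13786 D19673) (tt N13687 (iv F76906)) (tt N13531 F76343))
theorem Q13553 : ∀ i, i < 13553 → P i := stepQ 13552 Q13552 (allL N13552 (tt N13554 (iv F76353)) (tt N13657 (iv F76754)) (tt N13731 (iv F77105)) (tt N13235 F76344) (tt N13786 (iv F77340)) (tt N13669 (iv F76798)) (tt N13234 (iv D19439)) (tt N13688 (iv F76911)) (tt N13532 F76345))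
theorem Q13554 : ∀ i, i < 13554 → P i := stepQ 13553 Q13553 (allL N13553 (tt N13551 F76346) (tt N13516 F76347) (tt N13492 F76348) (tt N13531 F76349) (tt N13236 (iv D19440)) (tt N13553 F76350) (tt N13787 D19674) (tt N13451 F76351) (tt N13238 F76352))
theorem Q13555 : ∀ i, i < 13555 → P i := stepQ 13554 Q13554 (allL N13554 (tt N13552 F76353) (tt N13517 F76354) (tt N13493 F76355) (tt N13237 F76356) (tt N13787 (iv F77346)) (tt N13403 F76357) (tt N13236 (iv D19441)) (tt N13452 F76358) (tt N13239 F76359))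
theorem Q13556 : ∀ i, i < 13556 → P i := stepQ 13555 Q13555 (allL N13555 (tt N13771 (iv F77274)) (tt N13758 (iv F77220)) (tt N13497 F76360) (tt N13786 (iv F77339)) (tt N13239 F76361) (tt N13788 D19675) (tt N13238 (iv D19442)) (tt N13729 (iv F77099)) (tt N13787 (iv F77348)))
theorem Q13557 : ∀ i, i < 13557 → P i := stepQ 13556 Q13556 (allL N13556 (tt N13241 F76362) (tt N13510 F76363) (tt N13376 F76364) (tt N13426 F76365) (tt N13395 F76366) (tt N13271 F76367) (tt N13240 (iv D19443)) (tt N13639 (iv F76685)) (tt N13567 (iv F76415)))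
theorem Q13558 : ∀ i, i < 13558 → P i := stepQ 13557 Q13557 (allL N13557 (tt N13245 F76368) (tt N13390 F76369) (tt N13263 F76370) (tt N13617 (iv F76614)) (tt N13244 (iv D19444)) (tt N13789 D19676) (tt N13361 F76371) (tt N13354 F76372) (tt N13249 F76373))
theorem Q13559 : ∀ i, i < 13559 → P i := stepQ 13558 Q13558 (allL N13558 (tt N13617 (iv F76612)) (tt N13246 F76374) (tt N13488 F76375) (tt N13245 (iv D19445)) (tt N13558 F76376) (tt N13790 D19677) (tt N13362 F76377) (tt N13327 F76378) (tt N13250 F76379))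
theorem Q13560 : ∀ i, i < 13560 → P i := stepQ 13559 Q13559 (allL N13559 (tt N13789 (iv F77351)) (tt N13247 F76380) (tt N13264 F76381) (tt N13790 (iv F77359)) (tt N13507 F76382) (tt N13245 (iv D19446)) (tt N13791 D19678) (tt N13355 F76383) (tt N13251 F76384))
theorem Q13561 : ∀ i, i < 13561 → P i := stepQ 13560 Q13560 (allL N13560 (tt N13385 F76385) (tt N13790 (iv F77357)) (tt N13287 F76386) (tt N13247 F76387) (tt N13792 D19679) (tt N13246 (iv D19447)) (tt N13793 D19680) (tt N13329 F76388) (tt N13252 F76389))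
theorem Q13562 : ∀ i, i < 13562 → P i := stepQ 13561 Q13561 (allL N13561 (tt N13394 F76390) (tt N13791 (iv F77362)) (tt N13248 F76391) (tt N13793 (iv F77376)) (tt N13508 F76392) (tt N13365 F76393) (tt N13247 (iv D19448)) (tt N13357 F76394) (tt N13253 F76395))
theorem Q13563 : ∀ i, i < 13563 → P i := stepQ 13562 Q13562 (allL N13562 (tt N13251 F76396) (tt N13754 (iv F77202)) (tt N13266 F76397) (tt N13622 (iv F76632)) (tt N13666 (iv F76781)) (tt N13249 (iv D19449)) (tt N13794 D19681) (tt N13254 F76398) (tt N13789 (iv F77356)))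
theorem Q13564 : ∀ i, i < 13564 → P i := stepQ 13563 Q13563 (allL N13563 (tt N13622 (iv F76630)) (tt N13252 F76399) (tt N13487 F76400) (tt N13251 F76401) (tt N13795 D19682) (tt N13250 (iv D19450)) (tt N13796 D19683) (tt N13479 F76402) (tt N13790 (iv F77361)))
theorem Q13565 : ∀ i, i < 13565 → P i := stepQ 13564 Q13564 (allL N13564 (tt N13794 (iv F77380)) (tt N13253 F76403) (tt N13267 F76404) (tt N13796 (iv F77391)) (tt N13667 (iv F76785)) (tt N13369 F76405) (tt N13251 (iv D19451)) (tt N13255 F76406) (tt N13791 (iv F77367)))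
theorem Q13566 : ∀ i, i < 13566 → P i := stepQ 13565 Q13565 (allL N13565 (tt N13720 (iv F77052)) (tt N13795 (iv F77384)) (tt N13289 F76407) (tt N13662 F76770) (tt N13252 (iv D19452)) (tt N13565 F76408) (tt N13797 D19684) (tt N13689 (iv F76915)) (tt N13792 (iv F77373)))
theorem Q13567 : ∀ i, i < 13567 → P i := stepQ 13566 Q13566 (allL N13566 (tt N13721 (iv F77057)) (tt N13796 (iv F77389)) (tt N13290 F76409) (tt N13253 F76410) (tt N13797 (iv F77395)) (tt N13371 F76411) (tt N13252 (iv D19453)) (tt N13690 (iv F76921)) (tt N13793 (iv F77379)))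
theorem Q13568 : ∀ i, i < 13568 → P i := stepQ 13567 Q13567 (allL N13567 (tt N13255 F76412) (tt N13753 (iv F77197)) (tt N13271 F76413) (tt N13590 (iv F76504)) (tt N13665 (iv F76777)) (tt N13376 F76414) (tt N13254 (iv D19454)) (tt N13794 (iv F77383)) (tt N13556 F76415))
theorem Q13569 : ∀ i, i < 13569 → P i := stepQ 13568 Q13568 (allL N13568 (tt N13612 (iv F76592)) (tt N13258 F76416) (tt N13507 F76417) (tt N13611 (iv F76588)) (tt N13264 F76418) (tt N13257 (iv D19455)) (tt N13798 D19685) (tt N13505 F76419) (tt N13260 F76420))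
theorem Q13570 : ∀ i, i < 13570 → P i := stepQ 13569 Q13569 (allL N13569 (tt N13372 F76421) (tt N13798 (iv F77396)) (tt N13259 F76422) (tt N13655 (iv F76743)) (tt N13265 F76423) (tt N13322 F76424) (tt N13258 (iv D19456)) (tt N13515 F76425) (tt N13262 F76426))
theorem Q13571 : ∀ i, i < 13571 → P i := stepQ 13570 Q13570 (allL N13570 (tt N13770 (iv F77268)) (tt N13262 F76427) (tt N13667 (iv F76784)) (tt N13769 (iv F77265)) (tt N13267 F76428) (tt N13528 F76429) (tt N13260 (iv D19457)) (tt N13269 F76430) (tt N13798 (iv F77401)))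
theorem Q13572 : ∀ i, i < 13572 → P i := stepQ 13571 Q13571 (allL N13571 (tt N13269 F76431) (tt N13769 (iv F77264)) (tt N13665 (iv F76775)) (tt N13262 F76432) (tt N13271 F76433) (tt N13529 F76434) (tt N13261 (iv D19458)) (tt N13770 (iv F77273)) (tt N13655 (iv F76746)))
theorem Q13573 : ∀ i, i < 13573 → P i := stepQ 13572 Q13572 (allL N13572 (tt N13264 F76435) (tt N13410 F76436) (tt N13789 (iv F77353)) (tt N13409 F76437) (tt N13612 (iv F76595)) (tt N13263 (iv D19459)) (tt N13799 D19686) (tt N13645 (iv F76710)) (tt N13266 F76438))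
theorem Q13574 : ∀ i, i < 13574 → P i := stepQ 13573 Q13573 (allL N13573 (tt N13799 (iv F77402)) (tt N13265 F76439) (tt N13791 (iv F77363)) (tt N13591 (iv F76510)) (tt N13798 (iv F77398)) (tt N13642 (iv F76698)) (tt N13264 (iv D19460)) (tt N13647 (iv F76718)) (tt N13267 F76440))
theorem Q13575 : ∀ i, i < 13575 → P i := stepQ 13574 Q13574 (allL N13574 (tt N13267 F76441) (tt N13473 F76442) (tt N13794 (iv F77381)) (tt N13472 F76443) (tt N13770 (iv F77271)) (tt N13639 (iv F76683)) (tt N13266 (iv D19461)) (tt N13271 F76444) (tt N13799 (iv F77405)))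
theorem Q13576 : ∀ i, i < 13576 → P i := stepQ 13575 Q13575 (allL N13575 (tt N13336 F76445) (tt N13273 F76446) (tt N13627 (iv F76645)) (tt N13272 (iv D19462)) (tt N13575 F76447) (tt N13800 D19687) (tt N13327 F76448) (tt N13362 F76449) (tt N13276 F76450))
theorem Q13577 : ∀ i, i < 13577 → P i := stepQ 13576 Q13576 (allL N13576 (tt N13337 F76451) (tt N13274 F76452) (tt N13351 F76453) (tt N13800 (iv F77408)) (tt N13348 F76454) (tt N13272 (iv D19463)) (tt N13801 D19688) (tt N13297 F76455) (tt N13277 F76456))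
theorem Q13578 : ∀ i, i < 13578 → P i := stepQ 13577 Q13577 (allL N13577 (tt N13287 F76457) (tt N13800 (iv F77407)) (tt N13385 F76458) (tt N13274 F76459) (tt N13802 D19689) (tt N13273 (iv D19464)) (tt N13803 D19690) (tt N13364 F76460) (tt N13278 F76461))
theorem Q13579 : ∀ i, i < 13579 → P i := stepQ 13578 Q13578 (allL N13578 (tt N13288 F76462) (tt N13801 (iv F77412)) (tt N13275 F76463) (tt N13803 (iv F77425)) (tt N13584 (iv F76488)) (tt N13330 F76464) (tt N13274 (iv D19465)) (tt N13298 F76465) (tt N13279 F76466))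
theorem Q13580 : ∀ i, i < 13580 → P i := stepQ 13579 Q13579 (allL N13579 (tt N13341 F76467) (tt N13278 F76468) (tt N13650 (iv F76727)) (tt N13277 F76469) (tt N13804 D19691) (tt N13276 (iv D19466)) (tt N13805 D19692) (tt N13285 F76470) (tt N13800 (iv F77410)))
theorem Q13581 : ∀ i, i < 13581 → P i := stepQ 13580 Q13580 (allL N13580 (tt N13342 F76471) (tt N13279 F76472) (tt N13349 F76473) (tt N13805 (iv F77436)) (tt N13347 F76474) (tt N13333 F76475) (tt N13277 (iv D19467)) (tt N13280 F76476) (tt N13801 (iv F77417)))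
theorem Q13582 : ∀ i, i < 13582 → P i := stepQ 13581 Q13581 (allL N13581 (tt N13289 F76477) (tt N13804 (iv F77430)) (tt N13720 (iv F77053)) (tt N13735 (iv F77124)) (tt N13278 (iv D19468)) (tt N13581 F76478) (tt N13806 D19693) (tt N13685 (iv F76893)) (tt N13802 (iv F77422)))
theorem Q13583 : ∀ i, i < 13583 → P i := stepQ 13582 Q13582 (allL N13582 (tt N13290 F76479) (tt N13805 (iv F77435)) (tt N13721 (iv F77058)) (tt N13279 F76480) (tt N13806 (iv F77440)) (tt N13335 F76481) (tt N13278 (iv D19469)) (tt N13686 (iv F76900)) (tt N13803 (iv F77428)))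
theorem Q13584 : ∀ i, i < 13584 → P i := stepQ 13583 Q13583 (allL N13583 (tt N13430 F76482) (tt N13637 (iv F76673)) (tt N13285 F76483) (tt N13282 F76484) (tt N13807 D19694) (tt N13281 (iv D19470)) (tt N13808 D19695) (tt N13650 (iv F76729)) (tt N13481 F76485))
theorem Q13585 : ∀ i, i < 13585 → P i := stepQ 13584 Q13584 (allL N13584 (tt N13431 F76486) (tt N13638 (iv F76677)) (tt N13283 F76487) (tt N13808 (iv F77448)) (tt N13578 F76488) (tt N13484 F76489) (tt N13282 (iv D19471)) (tt N13436 F76490) (tt N13482 F76491))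
theorem Q13586 : ∀ i, i < 13586 → P i := stepQ 13585 Q13585 (allL N13585 (tt N13735 (iv F77121)) (tt N13685 (iv F76889)) (tt N13807 (iv F77442)) (tt N13289 F76492) (tt N13285 (iv D19472)) (tt N13585 F76493) (tt N13809 D19696) (tt N13804 (iv F77433)) (tt N13697 (iv F76955)))
theorem Q13587 : ∀ i, i < 13587 → P i := stepQ 13586 Q13586 (allL N13586 (tt N13736 (iv F77127)) (tt N13686 (iv F76896)) (tt N13808 (iv F77447)) (tt N13286 F76494) (tt N13809 (iv F77452)) (tt N13692 (iv F76931)) (tt N13285 (iv D19473)) (tt N13805 (iv F77438)) (tt N13698 (iv F76959)))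
theorem Q13588 : ∀ i, i < 13588 → P i := stepQ 13587 Q13587 (allL N13587 (tt N13802 (iv F77418)) (tt N13694 (iv F76937)) (tt N13792 (iv F77369)) (tt N13697 (iv F76952)) (tt N13287 (iv D19474)) (tt N13587 F76495) (tt N13810 D19697) (tt N13762 (iv F77239)) (tt N13289 F76496))
theorem Q13589 : ∀ i, i < 13589 → P i := stepQ 13588 Q13588 (allL N13588 (tt N13803 (iv F77423)) (tt N13695 (iv F76942)) (tt N13793 (iv F77375)) (tt N13288 F76497) (tt N13810 (iv F77453)) (tt N13384 F76498) (tt N13287 (iv D19475)) (tt N13763 (iv F77245)) (tt N13290 F76499))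
theorem Q13590 : ∀ i, i < 13590 → P i := stepQ 13589 Q13589 (allL N13589 (tt N13806 (iv F77439)) (tt N13772 (iv F77279)) (tt N13797 (iv F77394)) (tt N13809 (iv F77451)) (tt N13290 F76500) (tt N13811 D19698) (tt N13289 (iv D19476)) (tt N13703 (iv F76981)) (tt N13810 (iv F77454)))
theorem Q13591 : ∀ i, i < 13591 → P i := stepQ 13590 Q13590 (allL N13590 (tt N13300 F76501) (tt N13504 F76502) (tt N13294 F76503) (tt N13567 F76504) (tt N13441 F76505) (tt N13436 F76506) (tt N13293 (iv D19477)) (tt N13484 F76507) (tt N13426 F76508))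
theorem Q13592 : ∀ i, i < 13592 → P i := stepQ 13591 Q13591 (allL N13591 (tt N13681 (iv F76860)) (tt N13298 F76509) (tt N13751 (iv F77185)) (tt N13573 F76510) (tt N13684 (iv F76884)) (tt N13356 F76511) (tt N13297 (iv D19478)) (tt N13801 (iv F77416)) (tt N13299 F76512))
theorem Q13593 : ∀ i, i < 13593 → P i := stepQ 13592 Q13592 (allL N13592 (tt N13304 F76513) (tt N13448 F76514) (tt N13312 F76515) (tt N13303 (iv D19479)) (tt N13592 F76516) (tt N13812 D19699) (tt N13595 (iv F76531)) (tt N13489 F76517) (tt N13307 F76518))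
theorem Q13594 : ∀ i, i < 13594 → P i := stepQ 13593 Q13593 (allL N13593 (tt N13305 F76519) (tt N13509 F76520) (tt N13323 F76521) (tt N13812 (iv F77460)) (tt N13605 (iv F76564)) (tt N13303 (iv D19480)) (tt N13813 D19700) (tt N13611 (iv F76590)) (tt N13520 F76522))
theorem Q13595 : ∀ i, i < 13595 → P i := stepQ 13594 Q13594 (allL N13594 (tt N13812 (iv F77457)) (tt N13306 F76523) (tt N13670 (iv F76803)) (tt N13305 F76524) (tt N13814 D19701) (tt N13304 (iv D19481)) (tt N13815 D19702) (tt N13816 D19703) (tt N13521 F76525))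
theorem Q13596 : ∀ i, i < 13596 → P i := stepQ 13595 Q13595 (allL N13595 (tt N13489 F76526) (tt N13307 F76527) (tt N13444 F76528) (tt N13501 F76529) (tt N13595 F76530) (tt N13816 (iv F77477)) (tt N13592 F76531) (tt N13304 (iv D19482)) (tt N13448 F76532))
theorem Q13597 : ∀ i, i < 13597 → P i := stepQ 13596 Q13596 (allL N13596 (tt N13813 (iv F77463)) (tt N13308 F76533) (tt N13324 F76534) (tt N13815 (iv F77471)) (tt N13608 (iv F76576)) (tt N13755 (iv F77209)) (tt N13305 (iv D19483)) (tt N13613 (iv F76600)) (tt N13522 F76535))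
theorem Q13598 : ∀ i, i < 13598 → P i := stepQ 13597 Q13597 (allL N13597 (tt N13643 (iv F76700)) (tt N13814 (iv F77467)) (tt N13309 F76536) (tt N13609 (iv F76580)) (tt N13306 (iv D19484)) (tt N13597 F76537) (tt N13817 D19704) (tt N13818 D19705) (tt N13523 F76538))
theorem Q13599 : ∀ i, i < 13599 → P i := stepQ 13598 Q13598 (allL N13598 (tt N13644 (iv F76704)) (tt N13815 (iv F77470)) (tt N13310 F76539) (tt N13308 F76540) (tt N13817 (iv F77480)) (tt N13760 (iv F77230)) (tt N13306 (iv D19485)) (tt N13819 D19706) (tt N13524 F76541))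
theorem Q13600 : ∀ i, i < 13600 → P i := stepQ 13599 Q13599 (allL N13599 (tt N13521 F76542) (tt N13816 (iv F77474)) (tt N13311 F76543) (tt N13520 F76544) (tt N13818 (iv F77484)) (tt N13307 F76545) (tt N13819 (iv F77489)) (tt N13306 (iv D19486)) (tt N13812 (iv F77462)))
theorem Q13601 : ∀ i, i < 13601 → P i := stepQ 13600 Q13600 (allL N13600 (tt N13758 (iv F77219)) (tt N13674 (iv F76823)) (tt N13817 (iv F77479)) (tt N13726 (iv F77081)) (tt N13310 F76546) (tt N13820 D19707) (tt N13309 (iv D19487)) (tt N13821 D19708) (tt N13525 F76547))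
theorem Q13602 : ∀ i, i < 13602 → P i := stepQ 13601 Q13601 (allL N13601 (tt N13727 (iv F77085)) (tt N13675 (iv F76827)) (tt N13818 (iv F77483)) (tt N13740 (iv F77146)) (tt N13311 F76548) (tt N13601 F76549) (tt N13821 (iv F77493)) (tt N13309 (iv D19488)) (tt N13822 D19709))
theorem Q13603 : ∀ i, i < 13603 → P i := stepQ 13602 Q13602 (allL N13602 (tt N13728 (iv F77090)) (tt N13676 (iv F76832)) (tt N13819 (iv F77487)) (tt N13325 F76550) (tt N13821 (iv F77492)) (tt N13712 (iv F77024)) (tt N13311 F76551) (tt N13310 (iv D19489)) (tt N13823 D19710))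
theorem Q13604 : ∀ i, i < 13604 → P i := stepQ 13603 Q13603 (allL N13603 (tt N13670 (iv F76801)) (tt N13442 F76552) (tt N13812 (iv F77459)) (tt N13326 F76553) (tt N13822 (iv F77495)) (tt N13312 F76554) (tt N13823 (iv F77500)) (tt N13490 F76555) (tt N13311 (iv D19490)))
theorem Q13605 : ∀ i, i < 13605 → P i := stepQ 13604 Q13604 (allL N13604 (tt N13314 F76556) (tt N13366 F76557) (tt N13456 F76558) (tt N13313 (iv D19491)) (tt N13604 F76559) (tt N13824 D19711) (tt N13606 (iv F76570)) (tt N13346 F76560) (tt N13339 F76561))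
theorem Q13606 : ∀ i, i < 13606 → P i := stepQ 13605 Q13605 (allL N13605 (tt N13315 F76562) (tt N13367 F76563) (tt N13611 (iv F76587)) (tt N13824 (iv F77505)) (tt N13593 F76564) (tt N13313 (iv D19492)) (tt N13825 D19712) (tt N13323 F76565) (tt N13683 (iv F76879)))
theorem Q13607 : ∀ i, i < 13607 → P i := stepQ 13606 Q13606 (allL N13606 (tt N13456 F76566) (tt N13331 F76567) (tt N13314 (iv D19493)) (tt N13503 F76568) (tt N13606 F76569) (tt N13826 D19713) (tt N13604 F76570) (tt N13453 F76571) (tt N13537 F76572))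
theorem Q13608 : ∀ i, i < 13608 → P i := stepQ 13607 Q13607 (allL N13607 (tt N13824 (iv F77502)) (tt N13316 F76573) (tt N13826 (iv F77514)) (tt N13315 F76574) (tt N13827 D19714) (tt N13314 (iv D19494)) (tt N13828 D19715) (tt N13677 (iv F76839)) (tt N13696 (iv F76950)))
theorem Q13609 : ∀ i, i < 13609 → P i := stepQ 13608 Q13608 (allL N13608 (tt N13825 (iv F77508)) (tt N13317 F76575) (tt N13613 (iv F76598)) (tt N13828 (iv F77522)) (tt N13596 F76576) (tt N13756 (iv F77212)) (tt N13315 (iv D19495)) (tt N13324 F76577) (tt N13700 (iv F76968)))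
theorem Q13610 : ∀ i, i < 13610 → P i := stepQ 13609 Q13609 (allL N13609 (tt N13370 F76578) (tt N13827 (iv F77518)) (tt N13334 F76579) (tt N13597 F76580) (tt N13316 (iv D19496)) (tt N13609 F76581) (tt N13829 D19716) (tt N13679 (iv F76852)) (tt N13762 (iv F77240)))
theorem Q13611 : ∀ i, i < 13611 → P i := stepQ 13610 Q13610 (allL N13610 (tt N13371 F76582) (tt N13828 (iv F77521)) (tt N13335 F76583) (tt N13317 F76584) (tt N13829 (iv F77526)) (tt N13721 (iv F77060)) (tt N13316 (iv D19497)) (tt N13680 (iv F76858)) (tt N13763 (iv F77246)))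
theorem Q13612 : ∀ i, i < 13612 → P i := stepQ 13611 Q13611 (allL N13611 (tt N13320 F76585) (tt N13373 F76586) (tt N13605 F76587) (tt N13568 F76588) (tt N13323 F76589) (tt N13318 (iv D19498)) (tt N13830 D19717) (tt N13593 F76590) (tt N13526 F76591))
theorem Q13613 : ∀ i, i < 13613 → P i := stepQ 13612 Q13612 (allL N13612 (tt N13568 F76592) (tt N13321 F76593) (tt N13754 (iv F77203)) (tt N13320 F76594) (tt N13572 F76595) (tt N13319 (iv D19499)) (tt N13831 D19718) (tt N13752 (iv F77194)) (tt N13527 F76596))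
theorem Q13614 : ∀ i, i < 13614 → P i := stepQ 13613 Q13613 (allL N13613 (tt N13830 (iv F77527)) (tt N13322 F76597) (tt N13608 F76598) (tt N13831 (iv F77536)) (tt N13324 F76599) (tt N13798 (iv F77399)) (tt N13320 (iv D19500)) (tt N13596 F76600) (tt N13528 F76601))
theorem Q13615 : ∀ i, i < 13615 → P i := stepQ 13614 Q13614 (allL N13614 (tt N13375 F76602) (tt N13831 (iv F77535)) (tt N13473 F76603) (tt N13322 F76604) (tt N13682 (iv F76870)) (tt N13655 (iv F76745)) (tt N13321 (iv D19501)) (tt N13764 (iv F77250)) (tt N13529 F76605))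
theorem Q13616 : ∀ i, i < 13616 → P i := stepQ 13615 Q13615 (allL N13615 (tt N13324 F76606) (tt N13376 F76607) (tt N13813 (iv F77465)) (tt N13684 (iv F76883)) (tt N13830 (iv F77531)) (tt N13753 (iv F77199)) (tt N13323 (iv D19502)) (tt N13825 (iv F77511)) (tt N13530 F76608))
theorem Q13617 : ∀ i, i < 13617 → P i := stepQ 13616 Q13616 (allL N13616 (tt N13671 (iv F76806)) (tt N13443 F76609) (tt N13684 (iv F76882)) (tt N13823 (iv F77499)) (tt N13751 (iv F77186)) (tt N13707 (iv F76999)) (tt N13326 F76610) (tt N13352 F76611) (tt N13325 (iv D19503)))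
theorem Q13618 : ∀ i, i < 13618 → P i := stepQ 13617 Q13617 (allL N13617 (tt N13558 F76612) (tt N13537 F76613) (tt N13327 (iv D19504)) (tt N13557 F76614) (tt N13617 F76615) (tt N13832 D19719) (tt N13627 (iv F76648)) (tt N13488 F76616) (tt N13331 F76617))
theorem Q13619 : ∀ i, i < 13619 → P i := stepQ 13618 Q13618 (allL N13618 (tt N13742 (iv F77154)) (tt N13329 F76618) (tt N13832 (iv F77542)) (tt N13328 F76619) (tt N13833 D19720) (tt N13327 (iv D19505)) (tt N13834 D19721) (tt N13790 (iv F77360)) (tt N13332 F76620))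
theorem Q13620 : ∀ i, i < 13620 → P i := stepQ 13619 Q13619 (allL N13619 (tt N13751 (iv F77183)) (tt N13330 F76621) (tt N13681 (iv F76862)) (tt N13834 (iv F77550)) (tt N13671 (iv F76809)) (tt N13801 (iv F77415)) (tt N13328 (iv D19506)) (tt N13356 F76622) (tt N13333 F76623))
theorem Q13621 : ∀ i, i < 13621 → P i := stepQ 13620 Q13620 (allL N13620 (tt N13383 F76624) (tt N13833 (iv F77546)) (tt N13762 (iv F77236)) (tt N13672 (iv F76815)) (tt N13329 (iv D19507)) (tt N13620 F76625) (tt N13835 D19722) (tt N13792 (iv F77372)) (tt N13334 F76626))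
theorem Q13622 : ∀ i, i < 13622 → P i := stepQ 13621 Q13621 (allL N13621 (tt N13384 F76627) (tt N13834 (iv F77549)) (tt N13763 (iv F77242)) (tt N13330 F76628) (tt N13835 (iv F77553)) (tt N13803 (iv F77426)) (tt N13329 (iv D19508)) (tt N13793 (iv F77378)) (tt N13335 F76629))
theorem Q13623 : ∀ i, i < 13623 → P i := stepQ 13622 Q13622 (allL N13622 (tt N13563 F76630) (tt N13826 (iv F77513)) (tt N13332 F76631) (tt N13562 F76632) (tt N13836 D19723) (tt N13331 (iv D19509)) (tt N13837 D19724) (tt N13483 F76633) (tt N13832 (iv F77545)))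
theorem Q13624 : ∀ i, i < 13624 → P i := stepQ 13623 Q13623 (allL N13623 (tt N13740 (iv F77144)) (tt N13334 F76634) (tt N13836 (iv F77556)) (tt N13727 (iv F77087)) (tt N13332 (iv D19510)) (tt N13623 F76635) (tt N13838 D19725) (tt N13691 (iv F76927)) (tt N13833 (iv F77548)))
theorem Q13625 : ∀ i, i < 13625 → P i := stepQ 13624 Q13624 (allL N13624 (tt N13741 (iv F77149)) (tt N13335 F76636) (tt N13837 (iv F77560)) (tt N13333 F76637) (tt N13838 (iv F77564)) (tt N13805 (iv F77437)) (tt N13332 (iv D19511)) (tt N13692 (iv F76932)) (tt N13834 (iv F77551)))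
theorem Q13626 : ∀ i, i < 13626 → P i := stepQ 13625 Q13625 (allL N13625 (tt N13386 F76638) (tt N13838 (iv F77563)) (tt N13829 (iv F77524)) (tt N13729 (iv F77097)) (tt N13335 F76639) (tt N13839 D19726) (tt N13334 (iv D19512)) (tt N13693 (iv F76935)) (tt N13835 (iv F77554)))
theorem Q13627 : ∀ i, i < 13627 → P i := stepQ 13626 Q13626 (allL N13626 (tt N13800 (iv F77406)) (tt N13338 F76640) (tt N13646 (iv F76713)) (tt N13337 F76641) (tt N13840 D19727) (tt N13336 (iv D19513)) (tt N13841 D19728) (tt N13842 D19729) (tt N13341 F76642))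
theorem Q13628 : ∀ i, i < 13628 → P i := stepQ 13627 Q13627 (allL N13627 (tt N13362 F76643) (tt N13339 F76644) (tt N13575 F76645) (tt N13361 F76646) (tt N13627 F76647) (tt N13842 (iv F77577)) (tt N13617 F76648) (tt N13336 (iv D19514)) (tt N13366 F76649))
theorem Q13629 : ∀ i, i < 13629 → P i := stepQ 13628 Q13628 (allL N13628 (tt N13801 (iv F77411)) (tt N13340 F76650) (tt N13356 F76651) (tt N13841 (iv F77571)) (tt N13678 (iv F76844)) (tt N13751 (iv F77187)) (tt N13337 (iv D19515)) (tt N13681 (iv F76865)) (tt N13342 F76652))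
theorem Q13630 : ∀ i, i < 13630 → P i := stepQ 13629 Q13629 (allL N13629 (tt N13694 (iv F76936)) (tt N13840 (iv F77567)) (tt N13547 F76653) (tt N13679 (iv F76850)) (tt N13338 (iv D19516)) (tt N13629 F76654) (tt N13843 D19730) (tt N13844 D19731) (tt N13343 F76655))
theorem Q13631 : ∀ i, i < 13631 → P i := stepQ 13630 Q13630 (allL N13630 (tt N13695 (iv F76941)) (tt N13841 (iv F77570)) (tt N13548 F76656) (tt N13340 F76657) (tt N13843 (iv F77580)) (tt N13774 (iv F77289)) (tt N13338 (iv D19517)) (tt N13845 D19732) (tt N13344 F76658))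
theorem Q13632 : ∀ i, i < 13632 → P i := stepQ 13631 Q13631 (allL N13631 (tt N13696 (iv F76946)) (tt N13842 (iv F77574)) (tt N13549 F76659) (tt N13683 (iv F76876)) (tt N13844 (iv F77584)) (tt N13339 F76660) (tt N13845 (iv F77587)) (tt N13338 (iv D19518)) (tt N13824 (iv F77507)))
theorem Q13633 : ∀ i, i < 13633 → P i := stepQ 13632 Q13632 (allL N13632 (tt N13804 (iv F77429)) (tt N13343 F76661) (tt N13652 (iv F76734)) (tt N13701 (iv F76971)) (tt N13341 (iv D19519)) (tt N13632 F76662) (tt N13846 D19733) (tt N13735 (iv F77126)) (tt N13840 (iv F77569)))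
theorem Q13634 : ∀ i, i < 13634 → P i := stepQ 13633 Q13633 (allL N13633 (tt N13805 (iv F77434)) (tt N13344 F76663) (tt N13653 (iv F76737)) (tt N13342 F76664) (tt N13846 (iv F77589)) (tt N13741 (iv F77152)) (tt N13341 (iv D19520)) (tt N13736 (iv F77132)) (tt N13841 (iv F77572)))
theorem Q13635 : ∀ i, i < 13635 → P i := stepQ 13634 Q13634 (allL N13634 (tt N13772 (iv F77278)) (tt N13846 (iv F77588)) (tt N13550 F76665) (tt N13703 (iv F76979)) (tt N13344 F76666) (tt N13847 D19734) (tt N13343 (iv D19521)) (tt N13848 D19735) (tt N13843 (iv F77581)))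
theorem Q13636 : ∀ i, i < 13636 → P i := stepQ 13635 Q13635 (allL N13635 (tt N13701 (iv F76969)) (tt N13735 (iv F77122)) (tt N13463 F76667) (tt N13804 (iv F77431)) (tt N13345 F76668) (tt N13635 F76669) (tt N13848 (iv F77594)) (tt N13343 (iv D19522)) (tt N13849 D19736))
theorem Q13637 : ∀ i, i < 13637 → P i := stepQ 13636 Q13636 (allL N13636 (tt N13702 (iv F76974)) (tt N13736 (iv F77128)) (tt N13464 F76670) (tt N13347 F76671) (tt N13848 (iv F77593)) (tt N13723 (iv F77073)) (tt N13345 F76672) (tt N13344 (iv D19523)) (tt N13850 D19737))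
theorem Q13638 : ∀ i, i < 13638 → P i := stepQ 13637 Q13637 (allL N13637 (tt N13677 (iv F76836)) (tt N13583 F76673) (tt N13455 F76674) (tt N13348 F76675) (tt N13849 (iv F77597)) (tt N13346 F76676) (tt N13850 (iv F77602)) (tt N13824 (iv F77506)) (tt N13345 (iv D19524)))
theorem Q13639 : ∀ i, i < 13639 → P i := stepQ 13638 Q13638 (allL N13638 (tt N13678 (iv F76841)) (tt N13584 F76677) (tt N13352 F76678) (tt N13850 (iv F77601)) (tt N13801 (iv F77414)) (tt N13715 (iv F77037)) (tt N13348 F76679) (tt N13684 (iv F76886)) (tt N13347 (iv D19525)))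
theorem Q13640 : ∀ i, i < 13640 → P i := stepQ 13639 Q13639 (allL N13639 (tt N13358 F76680) (tt N13395 F76681) (tt N13651 (iv F76731)) (tt N13349 (iv D19526)) (tt N13510 F76682) (tt N13574 F76683) (tt N13350 F76684) (tt N13556 F76685) (tt N13851 D19738))
theorem Q13641 : ∀ i, i < 13641 → P i := stepQ 13640 Q13640 (allL N13640 (tt N13356 F76686) (tt N13391 F76687) (tt N13801 (iv F77413)) (tt N13851 (iv F77605)) (tt N13352 F76688) (tt N13681 (iv F76864)) (tt N13351 F76689) (tt N13751 (iv F77189)) (tt N13349 (iv D19527)))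
theorem Q13642 : ∀ i, i < 13642 → P i := stepQ 13641 Q13641 (allL N13641 (tt N13355 F76690) (tt N13389 F76691) (tt N13645 (iv F76709)) (tt N13351 F76692) (tt N13502 F76693) (tt N13354 F76694) (tt N13851 (iv F77608)) (tt N13789 (iv F77355)) (tt N13350 (iv D19528)))
theorem Q13643 : ∀ i, i < 13643 → P i := stepQ 13642 Q13642 (allL N13642 (tt N13851 (iv F77603)) (tt N13357 F76695) (tt N13647 (iv F76717)) (tt N13356 F76696) (tt N13506 F76697) (tt N13573 F76698) (tt N13355 (iv D19529)) (tt N13791 (iv F77366)) (tt N13358 F76699))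
theorem Q13644 : ∀ i, i < 13644 → P i := stepQ 13643 Q13643 (allL N13643 (tt N13597 F76700) (tt N13747 (iv F77170)) (tt N13512 F76701) (tt N13370 F76702) (tt N13359 (iv D19530)) (tt N13643 F76703) (tt N13852 D19739) (tt N13765 (iv F77254)) (tt N13759 (iv F77226)))
theorem Q13645 : ∀ i, i < 13645 → P i := stepQ 13644 Q13644 (allL N13644 (tt N13598 F76704) (tt N13748 (iv F77175)) (tt N13513 F76705) (tt N13360 F76706) (tt N13852 (iv F77612)) (tt N13524 F76707) (tt N13359 (iv D19531)) (tt N13766 (iv F77259)) (tt N13760 (iv F77231)))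
theorem Q13646 : ∀ i, i < 13646 → P i := stepQ 13645 Q13645 (allL N13645 (tt N13363 F76708) (tt N13683 (iv F76874)) (tt N13641 F76709) (tt N13842 (iv F77576)) (tt N13752 (iv F77193)) (tt N13361 (iv D19532)) (tt N13853 D19740) (tt N13572 F76710) (tt N13367 F76711))
theorem Q13647 : ∀ i, i < 13647 → P i := stepQ 13646 Q13646 (allL N13646 (tt N13842 (iv F77573)) (tt N13364 F76712) (tt N13626 F76713) (tt N13363 F76714) (tt N13854 D19741) (tt N13362 (iv D19533)) (tt N13855 D19742) (tt N13800 (iv F77409)) (tt N13368 F76715))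
theorem Q13648 : ∀ i, i < 13648 → P i := stepQ 13647 Q13647 (allL N13647 (tt N13853 (iv F77613)) (tt N13365 F76716) (tt N13642 F76717) (tt N13855 (iv F77623)) (tt N13755 (iv F77208)) (tt N13791 (iv F77365)) (tt N13363 (iv D19534)) (tt N13573 F76718) (tt N13369 F76719))
theorem Q13649 : ∀ i, i < 13649 → P i := stepQ 13648 Q13648 (allL N13648 (tt N13762 (iv F77235)) (tt N13854 (iv F77617)) (tt N13383 F76720) (tt N13759 (iv F77224)) (tt N13364 (iv D19535)) (tt N13648 F76721) (tt N13856 D19743) (tt N13802 (iv F77421)) (tt N13370 F76722))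
theorem Q13650 : ∀ i, i < 13650 → P i := stepQ 13649 Q13649 (allL N13649 (tt N13763 (iv F77241)) (tt N13855 (iv F77621)) (tt N13384 F76723) (tt N13365 F76724) (tt N13856 (iv F77626)) (tt N13793 (iv F77377)) (tt N13364 (iv D19536)) (tt N13803 (iv F77427)) (tt N13371 F76725))
theorem Q13651 : ∀ i, i < 13651 → P i := stepQ 13650 Q13650 (allL N13650 (tt N13368 F76726) (tt N13824 (iv F77503)) (tt N13579 F76727) (tt N13367 F76728) (tt N13857 D19744) (tt N13366 (iv D19537)) (tt N13858 D19745) (tt N13583 F76729) (tt N13842 (iv F77578)))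
theorem Q13652 : ∀ i, i < 13652 → P i := stepQ 13651 Q13651 (allL N13651 (tt N13369 F76730) (tt N13825 (iv F77509)) (tt N13639 F76731) (tt N13858 (iv F77634)) (tt N13757 (iv F77217)) (tt N13794 (iv F77382)) (tt N13367 (iv D19538)) (tt N13376 F76732) (tt N13853 (iv F77616)))
theorem Q13653 : ∀ i, i < 13653 → P i := stepQ 13652 Q13652 (allL N13652 (tt N13857 (iv F77628)) (tt N13370 F76733) (tt N13632 F76734) (tt N13747 (iv F77172)) (tt N13368 (iv D19539)) (tt N13652 F76735) (tt N13859 D19746) (tt N13697 (iv F76954)) (tt N13854 (iv F77620)))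
theorem Q13654 : ∀ i, i < 13654 → P i := stepQ 13653 Q13653 (allL N13653 (tt N13858 (iv F77632)) (tt N13371 F76736) (tt N13633 F76737) (tt N13369 F76738) (tt N13859 (iv F77639)) (tt N13796 (iv F77392)) (tt N13368 (iv D19540)) (tt N13698 (iv F76958)) (tt N13855 (iv F77624)))
theorem Q13655 : ∀ i, i < 13655 → P i := stepQ 13654 Q13654 (allL N13654 (tt N13829 (iv F77523)) (tt N13859 (iv F77637)) (tt N13386 F76739) (tt N13852 (iv F77611)) (tt N13371 F76740) (tt N13860 D19747) (tt N13370 (iv D19541)) (tt N13699 (iv F76962)) (tt N13856 (iv F77627)))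
theorem Q13656 : ∀ i, i < 13656 → P i := stepQ 13655 Q13655 (allL N13655 (tt N13374 F76741) (tt N13830 (iv F77528)) (tt N13395 F76742) (tt N13569 F76743) (tt N13376 F76744) (tt N13614 F76745) (tt N13373 (iv D19542)) (tt N13757 (iv F77218)) (tt N13571 F76746))
theorem Q13657 : ∀ i, i < 13657 → P i := stepQ 13656 Q13656 (allL N13656 (tt N13466 F76747) (tt N13551 F76748) (tt N13381 F76749) (tt N13512 F76750) (tt N13377 (iv D19543)) (tt N13656 F76751) (tt N13861 D19748) (tt N13477 F76752) (tt N13668 (iv F76793)))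
theorem Q13658 : ∀ i, i < 13658 → P i := stepQ 13657 Q13657 (allL N13657 (tt N13467 F76753) (tt N13552 F76754) (tt N13382 F76755) (tt N13378 F76756) (tt N13861 (iv F77646)) (tt N13532 F76757) (tt N13377 (iv D19544)) (tt N13478 F76758) (tt N13669 (iv F76800)))
theorem Q13659 : ∀ i, i < 13659 → P i := stepQ 13658 Q13658 (allL N13658 (tt N13672 (iv F76813)) (tt N13779 (iv F77312)) (tt N13668 (iv F76789)) (tt N13383 F76759) (tt N13379 (iv D19545)) (tt N13658 F76760) (tt N13862 D19749) (tt N13777 (iv F77303)) (tt N13381 F76761))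
theorem Q13660 : ∀ i, i < 13660 → P i := stepQ 13659 Q13659 (allL N13659 (tt N13673 (iv F76818)) (tt N13780 (iv F77319)) (tt N13669 (iv F76796)) (tt N13380 F76762) (tt N13862 (iv F77649)) (tt N13731 (iv F77107)) (tt N13379 (iv D19546)) (tt N13778 (iv F77309)) (tt N13382 F76763))
theorem Q13661 : ∀ i, i < 13661 → P i := stepQ 13660 Q13660 (allL N13660 (tt N13729 (iv F77095)) (tt N13781 (iv F77325)) (tt N13861 (iv F77644)) (tt N13386 F76764) (tt N13382 F76765) (tt N13863 D19750) (tt N13381 (iv D19547)) (tt N13771 (iv F77277)) (tt N13862 (iv F77650)))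
theorem Q13662 : ∀ i, i < 13662 → P i := stepQ 13661 Q13661 (allL N13661 (tt N13835 (iv F77552)) (tt N13782 (iv F77328)) (tt N13856 (iv F77625)) (tt N13862 (iv F77648)) (tt N13384 F76766) (tt N13864 D19751) (tt N13383 (iv D19548)) (tt N13865 D19752) (tt N13386 F76767))
theorem Q13663 : ∀ i, i < 13663 → P i := stepQ 13662 Q13662 (allL N13662 (tt N13792 (iv F77368)) (tt N13783 (iv F77331)) (tt N13802 (iv F77419)) (tt N13565 (iv F76770)) (tt N13385 F76768) (tt N13662 F76769) (tt N13865 (iv F77656)) (tt N13383 (iv D19549)) (tt N13720 (iv F77056)))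
theorem Q13664 : ∀ i, i < 13664 → P i := stepQ 13663 Q13663 (allL N13663 (tt N13793 (iv F77374)) (tt N13784 (iv F77334)) (tt N13803 (iv F77424)) (tt N13394 F76771) (tt N13865 (iv F77655)) (tt N13763 (iv F77244)) (tt N13385 F76772) (tt N13384 (iv D19550)) (tt N13721 (iv F77062)))
theorem Q13665 : ∀ i, i < 13665 → P i := stepQ 13664 Q13664 (allL N13664 (tt N13839 (iv F77565)) (tt N13785 (iv F77337)) (tt N13860 (iv F77640)) (tt N13863 (iv F77651)) (tt N13811 (iv F77455)) (tt N13386 (iv D19551)) (tt N13664 F76773) (tt N13725 (iv F77079)) (tt N13864 (iv F77654)))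
theorem Q13666 : ∀ i, i < 13666 → P i := stepQ 13665 Q13665 (allL N13665 (tt N13392 F76774) (tt N13851 (iv F77604)) (tt N13571 F76775) (tt N13391 F76776) (tt N13567 F76777) (tt N13682 (iv F76871)) (tt N13389 (iv D19552)) (tt N13866 D19753) (tt N13395 F76778))
theorem Q13667 : ∀ i, i < 13667 → P i := stepQ 13666 Q13666 (allL N13666 (tt N13393 F76779) (tt N13789 (iv F77352)) (tt N13527 F76780) (tt N13775 (iv F77293)) (tt N13562 F76781) (tt N13390 F76782) (tt N13866 (iv F77661)) (tt N13389 (iv D19553)) (tt N13754 (iv F77205)))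
theorem Q13668 : ∀ i, i < 13668 → P i := stepQ 13667 Q13667 (allL N13667 (tt N13866 (iv F77658)) (tt N13394 F76783) (tt N13570 F76784) (tt N13784 (iv F77335)) (tt N13564 F76785) (tt N13700 (iv F76966)) (tt N13393 F76786) (tt N13392 (iv D19554)) (tt N13756 (iv F77214)))
theorem Q13669 : ∀ i, i < 13669 → P i := stepQ 13668 Q13668 (allL N13668 (tt N13402 F76787) (tt N13531 F76788) (tt N13658 F76789) (tt N13516 F76790) (tt N13396 (iv D19555)) (tt N13668 F76791) (tt N13867 D19754) (tt N13545 F76792) (tt N13656 F76793))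
theorem Q13670 : ∀ i, i < 13670 → P i := stepQ 13669 Q13669 (allL N13669 (tt N13403 F76794) (tt N13532 F76795) (tt N13659 F76796) (tt N13397 F76797) (tt N13867 (iv F77666)) (tt N13552 F76798) (tt N13396 (iv D19556)) (tt N13546 F76799) (tt N13657 F76800))
theorem Q13671 : ∀ i, i < 13671 → P i := stepQ 13670 Q13670 (allL N13670 (tt N13603 F76801) (tt N13400 F76802) (tt N13594 F76803) (tt N13399 F76804) (tt N13868 D19755) (tt N13398 (iv D19557)) (tt N13869 D19756) (tt N13706 (iv F76993)) (tt N13468 F76805))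
theorem Q13672 : ∀ i, i < 13672 → P i := stepQ 13671 Q13671 (allL N13671 (tt N13616 F76806) (tt N13401 F76807) (tt N13414 F76808) (tt N13869 (iv F77678)) (tt N13619 F76809) (tt N13491 F76810) (tt N13399 (iv D19558)) (tt N13535 F76811) (tt N13469 F76812))
theorem Q13673 : ∀ i, i < 13673 → P i := stepQ 13672 Q13672 (allL N13672 (tt N13658 F76813) (tt N13868 (iv F77670)) (tt N13402 F76814) (tt N13620 F76815) (tt N13400 (iv D19559)) (tt N13672 F76816) (tt N13870 D19757) (tt N13708 (iv F77005)) (tt N13470 F76817))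
theorem Q13674 : ∀ i, i < 13674 → P i := stepQ 13673 Q13673 (allL N13673 (tt N13659 F76818) (tt N13869 (iv F77676)) (tt N13403 F76819) (tt N13401 F76820) (tt N13870 (iv F77684)) (tt N13493 F76821) (tt N13400 (iv D19560)) (tt N13709 (iv F77010)) (tt N13471 F76822))
theorem Q13675 : ∀ i, i < 13675 → P i := stepQ 13674 Q13674 (allL N13674 (tt N13867 (iv F77662)) (tt N13600 F76823) (tt N13870 (iv F77682)) (tt N13525 F76824) (tt N13403 F76825) (tt N13871 D19758) (tt N13402 (iv D19561)) (tt N13872 D19759) (tt N13726 (iv F77084)))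
theorem Q13676 : ∀ i, i < 13676 → P i := stepQ 13675 Q13675 (allL N13675 (tt N13545 F76826) (tt N13601 F76827) (tt N13708 (iv F77002)) (tt N13539 (iv F76830)) (tt N13404 F76828) (tt N13675 F76829) (tt N13872 (iv F77692)) (tt N13402 (iv D19562)) (tt N13704 (iv F76985)))
theorem Q13677 : ∀ i, i < 13677 → P i := stepQ 13676 Q13676 (allL N13676 (tt N13546 F76831) (tt N13602 F76832) (tt N13709 (iv F77007)) (tt N13417 F76833) (tt N13872 (iv F77691)) (tt N13452 F76834) (tt N13404 F76835) (tt N13403 (iv D19563)) (tt N13705 (iv F76989)))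
theorem Q13678 : ∀ i, i < 13678 → P i := stepQ 13677 Q13677 (allL N13677 (tt N13637 F76836) (tt N13407 F76837) (tt N13714 (iv F77030)) (tt N13406 F76838) (tt N13873 D19760) (tt N13405 (iv D19564)) (tt N13874 D19761) (tt N13607 F76839) (tt N13437 F76840))
theorem Q13679 : ∀ i, i < 13679 → P i := stepQ 13678 Q13678 (allL N13678 (tt N13638 F76841) (tt N13408 F76842) (tt N13535 F76843) (tt N13874 (iv F77702)) (tt N13628 F76844) (tt N13457 F76845) (tt N13406 (iv D19565)) (tt N13414 F76846) (tt N13438 F76847))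
theorem Q13680 : ∀ i, i < 13680 → P i := stepQ 13679 Q13679 (allL N13679 (tt N13432 F76848) (tt N13873 (iv F77695)) (tt N13424 F76849) (tt N13629 F76850) (tt N13407 (iv D19566)) (tt N13679 F76851) (tt N13875 D19762) (tt N13609 F76852) (tt N13439 F76853))
theorem Q13681 : ∀ i, i < 13681 → P i := stepQ 13680 Q13680 (allL N13680 (tt N13433 F76854) (tt N13874 (iv F77701)) (tt N13425 F76855) (tt N13408 F76856) (tt N13875 (iv F77709)) (tt N13459 F76857) (tt N13407 (iv D19567)) (tt N13610 F76858) (tt N13440 F76859))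
theorem Q13682 : ∀ i, i < 13682 → P i := stepQ 13681 Q13681 (allL N13681 (tt N13591 F76860) (tt N13412 F76861) (tt N13619 F76862) (tt N13799 (iv F77404)) (tt N13414 F76863) (tt N13640 F76864) (tt N13409 (iv D19568)) (tt N13628 F76865) (tt N13472 F76866))
theorem Q13683 : ∀ i, i < 13683 → P i := stepQ 13682 Q13682 (allL N13682 (tt N13434 F76867) (tt N13799 (iv F77403)) (tt N13529 F76868) (tt N13412 F76869) (tt N13614 F76870) (tt N13665 F76871) (tt N13410 (iv D19569)) (tt N13876 D19763) (tt N13473 F76872))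
theorem Q13684 : ∀ i, i < 13684 → P i := stepQ 13683 Q13683 (allL N13683 (tt N13435 F76873) (tt N13645 F76874) (tt N13526 F76875) (tt N13631 F76876) (tt N13520 F76877) (tt N13411 F76878) (tt N13876 (iv F77718)) (tt N13410 (iv D19570)) (tt N13605 F76879))
theorem Q13685 : ∀ i, i < 13685 → P i := stepQ 13684 Q13684 (allL N13684 (tt N13414 F76880) (tt N13436 F76881) (tt N13616 F76882) (tt N13615 F76883) (tt N13591 F76884) (tt N13504 F76885) (tt N13413 (iv D19571)) (tt N13638 F76886) (tt N13474 F76887))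
theorem Q13686 : ∀ i, i < 13686 → P i := stepQ 13685 Q13685 (allL N13685 (tt N13439 F76888) (tt N13585 F76889) (tt N13458 F76890) (tt N13533 F76891) (tt N13415 (iv D19572)) (tt N13685 F76892) (tt N13877 D19764) (tt N13581 F76893) (tt N13432 F76894))
theorem Q13687 : ∀ i, i < 13687 → P i := stepQ 13686 Q13686 (allL N13686 (tt N13440 F76895) (tt N13586 F76896) (tt N13459 F76897) (tt N13416 F76898) (tt N13877 (iv F77724)) (tt N13425 F76899) (tt N13415 (iv D19573)) (tt N13582 F76900) (tt N13433 F76901))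
theorem Q13688 : ∀ i, i < 13688 → P i := stepQ 13687 Q13687 (allL N13687 (tt N13451 F76902) (tt N13477 F76903) (tt N13779 (iv F77313)) (tt N13424 F76904) (tt N13418 (iv D19574)) (tt N13687 F76905) (tt N13878 D19765) (tt N13551 F76906) (tt N13777 (iv F77304)))
theorem Q13689 : ∀ i, i < 13689 → P i := stepQ 13688 Q13688 (allL N13688 (tt N13452 F76907) (tt N13478 F76908) (tt N13780 (iv F77320)) (tt N13419 F76909) (tt N13878 (iv F77730)) (tt N13546 F76910) (tt N13418 (iv D19575)) (tt N13552 F76911) (tt N13778 (iv F77310)))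
theorem Q13690 : ∀ i, i < 13690 → P i := stepQ 13689 Q13689 (allL N13689 (tt N13458 F76912) (tt N13733 (iv F77111)) (tt N13439 F76913) (tt N13777 (iv F77301)) (tt N13420 (iv D19576)) (tt N13689 F76914) (tt N13879 D19766) (tt N13565 F76915) (tt N13424 F76916))
theorem Q13691 : ∀ i, i < 13691 → P i := stepQ 13690 Q13690 (allL N13690 (tt N13459 F76917) (tt N13734 (iv F77116)) (tt N13440 F76918) (tt N13421 F76919) (tt N13879 (iv F77734)) (tt N13433 F76920) (tt N13420 (iv D19577)) (tt N13566 F76921) (tt N13425 F76922))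
theorem Q13692 : ∀ i, i < 13692 → P i := stepQ 13691 Q13691 (allL N13691 (tt N13485 F76923) (tt N13424 F76924) (tt N13737 (iv F77134)) (tt N13477 F76925) (tt N13422 (iv D19578)) (tt N13691 F76926) (tt N13880 D19767) (tt N13623 F76927) (tt N13733 (iv F77115)))
theorem Q13693 : ∀ i, i < 13693 → P i := stepQ 13692 Q13692 (allL N13692 (tt N13486 F76928) (tt N13425 F76929) (tt N13738 (iv F77139)) (tt N13423 F76930) (tt N13880 (iv F77740)) (tt N13586 F76931) (tt N13422 (iv D19579)) (tt N13624 F76932) (tt N13734 (iv F77120)))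
theorem Q13694 : ∀ i, i < 13694 → P i := stepQ 13693 Q13693 (allL N13693 (tt N13465 F76933) (tt N13880 (iv F77738)) (tt N13875 (iv F77707)) (tt N13878 (iv F77729)) (tt N13425 F76934) (tt N13881 D19768) (tt N13424 (iv D19580)) (tt N13625 F76935) (tt N13879 (iv F77736)))
theorem Q13695 : ∀ i, i < 13695 → P i := stepQ 13694 Q13694 (allL N13694 (tt N13629 F76936) (tt N13587 F76937) (tt N13773 (iv F77282)) (tt N13432 F76938) (tt N13427 (iv D19581)) (tt N13694 F76939) (tt N13882 D19769) (tt N13883 D19770) (tt N13533 F76940))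
theorem Q13696 : ∀ i, i < 13696 → P i := stepQ 13695 Q13695 (allL N13695 (tt N13630 F76941) (tt N13588 F76942) (tt N13774 (iv F77287)) (tt N13429 F76943) (tt N13882 (iv F77748)) (tt N13548 F76944) (tt N13427 (iv D19582)) (tt N13884 D19771) (tt N13534 F76945))
theorem Q13697 : ∀ i, i < 13697 → P i := stepQ 13696 Q13696 (allL N13696 (tt N13631 F76946) (tt N13518 F76947) (tt N13775 (iv F77292)) (tt N13435 F76948) (tt N13883 (iv F77753)) (tt N13428 F76949) (tt N13884 (iv F77760)) (tt N13427 (iv D19583)) (tt N13607 F76950))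
theorem Q13698 : ∀ i, i < 13698 → P i := stepQ 13697 Q13697 (allL N13697 (tt N13807 (iv F77441)) (tt N13432 F76951) (tt N13735 (iv F77123)) (tt N13587 F76952) (tt N13430 (iv D19584)) (tt N13697 F76953) (tt N13885 D19772) (tt N13652 F76954) (tt N13585 F76955))
theorem Q13699 : ∀ i, i < 13699 → P i := stepQ 13698 Q13698 (allL N13698 (tt N13808 (iv F77446)) (tt N13433 F76956) (tt N13736 (iv F77129)) (tt N13431 F76957) (tt N13885 (iv F77764)) (tt N13734 (iv F77119)) (tt N13430 (iv D19585)) (tt N13653 F76958) (tt N13586 F76959))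
theorem Q13700 : ∀ i, i < 13700 → P i := stepQ 13699 Q13699 (allL N13699 (tt N13875 (iv F77706)) (tt N13885 (iv F77762)) (tt N13465 F76960) (tt N13882 (iv F77747)) (tt N13433 F76961) (tt N13886 D19773) (tt N13432 (iv D19586)) (tt N13654 F76962) (tt N13877 (iv F77726)))
theorem Q13701 : ∀ i, i < 13701 → P i := stepQ 13700 Q13700 (allL N13700 (tt N13876 (iv F77712)) (tt N13519 F76963) (tt N13528 F76964) (tt N13884 (iv F77758)) (tt N13522 F76965) (tt N13667 F76966) (tt N13435 F76967) (tt N13434 (iv D19587)) (tt N13608 F76968))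
theorem Q13702 : ∀ i, i < 13702 → P i := stepQ 13701 Q13701 (allL N13701 (tt N13635 F76969) (tt N13439 F76970) (tt N13722 (iv F77065)) (tt N13632 F76971) (tt N13437 (iv D19588)) (tt N13701 F76972) (tt N13887 D19774) (tt N13533 F76973) (tt N13873 (iv F77699)))
theorem Q13703 : ∀ i, i < 13703 → P i := stepQ 13702 Q13702 (allL N13702 (tt N13636 F76974) (tt N13440 F76975) (tt N13723 (iv F77071)) (tt N13438 F76976) (tt N13887 (iv F77773)) (tt N13464 F76977) (tt N13437 (iv D19589)) (tt N13534 F76978) (tt N13874 (iv F77705)))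
theorem Q13704 : ∀ i, i < 13704 → P i := stepQ 13703 Q13703 (allL N13703 (tt N13877 (iv F77720)) (tt N13887 (iv F77771)) (tt N13879 (iv F77733)) (tt N13634 F76979) (tt N13440 F76980) (tt N13888 D19775) (tt N13439 (iv D19590)) (tt N13589 F76981) (tt N13875 (iv F77711)))
theorem Q13705 : ∀ i, i < 13705 → P i := stepQ 13704 Q13704 (allL N13704 (tt N13779 (iv F77311)) (tt N13822 (iv F77494)) (tt N13451 F76982) (tt N13773 (iv F77283)) (tt N13442 (iv D19591)) (tt N13704 F76983) (tt N13889 D19776) (tt N13492 F76984) (tt N13675 F76985))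
theorem Q13706 : ∀ i, i < 13706 → P i := stepQ 13705 Q13705 (allL N13705 (tt N13780 (iv F77318)) (tt N13823 (iv F77498)) (tt N13452 F76986) (tt N13443 F76987) (tt N13889 (iv F77780)) (tt N13709 (iv F77009)) (tt N13442 (iv D19592)) (tt N13493 F76988) (tt N13676 F76989))
theorem Q13707 : ∀ i, i < 13707 → P i := stepQ 13706 Q13706 (allL N13706 (tt N13490 F76990) (tt N13446 F76991) (tt N13816 (iv F77475)) (tt N13445 F76992) (tt N13890 D19777) (tt N13444 (iv D19593)) (tt N13891 D19778) (tt N13670 F76993) (tt N13449 F76994))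
theorem Q13708 : ∀ i, i < 13708 → P i := stepQ 13707 Q13707 (allL N13707 (tt N13491 F76995) (tt N13447 F76996) (tt N13504 F76997) (tt N13891 (iv F77791)) (tt N13457 F76998) (tt N13616 F76999) (tt N13445 (iv D19594)) (tt N13500 F77000) (tt N13450 F77001))
theorem Q13709 : ∀ i, i < 13709 → P i := stepQ 13708 Q13708 (allL N13708 (tt N13777 (iv F77298)) (tt N13890 (iv F77784)) (tt N13675 F77002) (tt N13458 F77003) (tt N13446 (iv D19595)) (tt N13708 F77004) (tt N13892 D19779) (tt N13672 F77005) (tt N13451 F77006))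
theorem Q13710 : ∀ i, i < 13710 → P i := stepQ 13709 Q13709 (allL N13709 (tt N13778 (iv F77305)) (tt N13891 (iv F77790)) (tt N13676 F77007) (tt N13447 F77008) (tt N13892 (iv F77797)) (tt N13705 F77009) (tt N13446 (iv D19596)) (tt N13673 F77010) (tt N13452 F77011))
theorem Q13711 : ∀ i, i < 13711 → P i := stepQ 13710 Q13710 (allL N13710 (tt N13494 F77012) (tt N13812 (iv F77458)) (tt N13449 F77013) (tt N13509 F77014) (tt N13893 D19780) (tt N13448 (iv D19597)) (tt N13894 D19781) (tt N13514 F77015) (tt N13816 (iv F77478)))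
theorem Q13712 : ∀ i, i < 13712 → P i := stepQ 13711 Q13711 (allL N13711 (tt N13495 F77016) (tt N13451 F77017) (tt N13893 (iv F77801)) (tt N13463 F77018) (tt N13449 (iv D19598)) (tt N13711 F77019) (tt N13895 D19782) (tt N13516 F77020) (tt N13890 (iv F77788)))
theorem Q13713 : ∀ i, i < 13713 → P i := stepQ 13712 Q13712 (allL N13712 (tt N13496 F77021) (tt N13452 F77022) (tt N13894 (iv F77806)) (tt N13450 F77023) (tt N13895 (iv F77813)) (tt N13602 F77024) (tt N13449 (iv D19599)) (tt N13517 F77025) (tt N13891 (iv F77794)))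
theorem Q13714 : ∀ i, i < 13714 → P i := stepQ 13713 Q13713 (allL N13713 (tt N13878 (iv F77727)) (tt N13895 (iv F77811)) (tt N13889 (iv F77779)) (tt N13465 F77026) (tt N13452 F77027) (tt N13896 D19783) (tt N13451 (iv D19600)) (tt N13787 (iv F77347)) (tt N13892 (iv F77799)))
theorem Q13715 : ∀ i, i < 13715 → P i := stepQ 13714 Q13714 (allL N13714 (tt N13455 F77028) (tt N13483 F77029) (tt N13677 F77030) (tt N13454 F77031) (tt N13897 D19784) (tt N13453 (iv D19601)) (tt N13898 D19785) (tt N13826 (iv F77516)) (tt N13461 F77032))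
theorem Q13716 : ∀ i, i < 13716 → P i := stepQ 13715 Q13715 (allL N13715 (tt N13457 F77033) (tt N13484 F77034) (tt N13500 F77035) (tt N13898 (iv F77826)) (tt N13491 F77036) (tt N13638 F77037) (tt N13454 (iv D19602)) (tt N13504 F77038) (tt N13462 F77039))
theorem Q13717 : ∀ i, i < 13717 → P i := stepQ 13716 Q13716 (allL N13716 (tt N13897 (iv F77817)) (tt N13458 F77040) (tt N13849 (iv F77596)) (tt N13890 (iv F77785)) (tt N13455 (iv D19603)) (tt N13716 F77041) (tt N13899 D19786) (tt N13900 D19787) (tt N13463 F77042))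
theorem Q13718 : ∀ i, i < 13718 → P i := stepQ 13717 Q13717 (allL N13717 (tt N13898 (iv F77823)) (tt N13459 F77043) (tt N13850 (iv F77600)) (tt N13457 F77044) (tt N13899 (iv F77830)) (tt N13874 (iv F77703)) (tt N13455 (iv D19604)) (tt N13901 D19788) (tt N13464 F77045))
theorem Q13719 : ∀ i, i < 13719 → P i := stepQ 13718 Q13718 (allL N13718 (tt N13826 (iv F77512)) (tt N13460 F77046) (tt N13824 (iv F77504)) (tt N13507 F77047) (tt N13900 (iv F77833)) (tt N13456 F77048) (tt N13901 (iv F77839)) (tt N13455 (iv D19605)) (tt N13549 F77049))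
theorem Q13720 : ∀ i, i < 13720 → P i := stepQ 13719 Q13719 (allL N13719 (tt N13879 (iv F77732)) (tt N13899 (iv F77829)) (tt N13877 (iv F77722)) (tt N13892 (iv F77796)) (tt N13459 F77050) (tt N13902 D19789) (tt N13458 (iv D19606)) (tt N13903 D19790) (tt N13465 F77051))
theorem Q13721 : ∀ i, i < 13721 → P i := stepQ 13720 Q13720 (allL N13720 (tt N13565 F77052) (tt N13900 (iv F77832)) (tt N13581 F77053) (tt N13792 (iv F77370)) (tt N13460 F77054) (tt N13720 F77055) (tt N13903 (iv F77846)) (tt N13458 (iv D19607)) (tt N13662 F77056))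
theorem Q13722 : ∀ i, i < 13722 → P i := stepQ 13721 Q13721 (allL N13721 (tt N13566 F77057) (tt N13901 (iv F77836)) (tt N13582 F77058) (tt N13508 F77059) (tt N13903 (iv F77845)) (tt N13610 F77060) (tt N13460 F77061) (tt N13459 (iv D19608)) (tt N13663 F77062))
theorem Q13723 : ∀ i, i < 13723 → P i := stepQ 13722 Q13722 (allL N13722 (tt N13463 F77063) (tt N13485 F77064) (tt N13701 F77065) (tt N13495 F77066) (tt N13461 (iv D19609)) (tt N13722 F77067) (tt N13904 D19791) (tt N13539 F77068) (tt N13897 (iv F77822)))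
theorem Q13724 : ∀ i, i < 13724 → P i := stepQ 13723 Q13723 (allL N13723 (tt N13464 F77069) (tt N13486 F77070) (tt N13702 F77071) (tt N13462 F77072) (tt N13904 (iv F77852)) (tt N13636 F77073) (tt N13461 (iv D19610)) (tt N13540 F77074) (tt N13898 (iv F77828)))
theorem Q13725 : ∀ i, i < 13725 → P i := stepQ 13724 Q13724 (allL N13724 (tt N13904 (iv F77848)) (tt N13465 F77075) (tt N13848 (iv F77592)) (tt N13895 (iv F77812)) (tt N13464 F77076) (tt N13905 D19792) (tt N13463 (iv D19611)) (tt N13550 F77077) (tt N13899 (iv F77831)))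
theorem Q13726 : ∀ i, i < 13726 → P i := stepQ 13725 Q13725 (allL N13725 (tt N13881 (iv F77742)) (tt N13905 (iv F77854)) (tt N13886 (iv F77767)) (tt N13896 (iv F77815)) (tt N13888 (iv F77776)) (tt N13465 (iv D19612)) (tt N13725 F77078) (tt N13664 F77079) (tt N13902 (iv F77842)))
theorem Q13727 : ∀ i, i < 13727 → P i := stepQ 13726 Q13726 (allL N13726 (tt N13861 (iv F77642)) (tt N13525 F77080) (tt N13729 (iv F77096)) (tt N13600 F77081) (tt N13467 F77082) (tt N13906 D19793) (tt N13466 (iv D19613)) (tt N13497 F77083) (tt N13674 F77084))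
theorem Q13728 : ∀ i, i < 13728 → P i := stepQ 13727 Q13727 (allL N13727 (tt N13601 F77085) (tt N13470 F77086) (tt N13765 (iv F77252)) (tt N13623 F77087) (tt N13468 (iv D19614)) (tt N13727 F77088) (tt N13907 D19794) (tt N13512 F77089) (tt N13868 (iv F77674)))
theorem Q13729 : ∀ i, i < 13729 → P i := stepQ 13728 Q13728 (allL N13728 (tt N13602 F77090) (tt N13471 F77091) (tt N13766 (iv F77256)) (tt N13469 F77092) (tt N13907 (iv F77866)) (tt N13496 F77093) (tt N13468 (iv D19615)) (tt N13513 F77094) (tt N13869 (iv F77680)))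
theorem Q13730 : ∀ i, i < 13730 → P i := stepQ 13729 Q13729 (allL N13729 (tt N13660 F77095) (tt N13907 (iv F77864)) (tt N13726 F77096) (tt N13625 F77097) (tt N13471 F77098) (tt N13908 D19795) (tt N13470 (iv D19616)) (tt N13555 F77099) (tt N13870 (iv F77685)))
theorem Q13731 : ∀ i, i < 13731 → P i := stepQ 13730 Q13730 (allL N13730 (tt N13492 F77100) (tt N13777 (iv F77299)) (tt N13551 F77101) (tt N13733 (iv F77113)) (tt N13475 (iv D19617)) (tt N13730 F77102) (tt N13909 D19796) (tt N13779 (iv F77316)) (tt N13477 F77103))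
theorem Q13732 : ∀ i, i < 13732 → P i := stepQ 13731 Q13731 (allL N13731 (tt N13493 F77104) (tt N13778 (iv F77306)) (tt N13552 F77105) (tt N13476 F77106) (tt N13909 (iv F77876)) (tt N13659 F77107) (tt N13475 (iv D19618)) (tt N13780 (iv F77323)) (tt N13478 F77108))
theorem Q13733 : ∀ i, i < 13733 → P i := stepQ 13732 Q13732 (allL N13732 (tt N13497 F77109) (tt N13878 (iv F77728)) (tt N13771 (iv F77275)) (tt N13880 (iv F77739)) (tt N13478 F77110) (tt N13910 D19797) (tt N13477 (iv D19619)) (tt N13861 (iv F77647)) (tt N13909 (iv F77877)))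
theorem Q13734 : ∀ i, i < 13734 → P i := stepQ 13733 Q13733 (allL N13733 (tt N13737 (iv F77133)) (tt N13689 F77111) (tt N13485 F77112) (tt N13730 F77113) (tt N13479 (iv D19620)) (tt N13733 F77114) (tt N13911 D19798) (tt N13795 (iv F77388)) (tt N13691 F77115))
theorem Q13735 : ∀ i, i < 13735 → P i := stepQ 13734 Q13734 (allL N13734 (tt N13738 (iv F77138)) (tt N13690 F77116) (tt N13486 F77117) (tt N13480 F77118) (tt N13911 (iv F77884)) (tt N13698 F77119) (tt N13479 (iv D19621)) (tt N13796 (iv F77393)) (tt N13692 F77120))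
theorem Q13736 : ∀ i, i < 13736 → P i := stepQ 13735 Q13735 (allL N13735 (tt N13585 F77121) (tt N13635 F77122) (tt N13697 F77123) (tt N13581 F77124) (tt N13481 (iv D19622)) (tt N13735 F77125) (tt N13912 D19799) (tt N13632 F77126) (tt N13807 (iv F77445)))
theorem Q13737 : ∀ i, i < 13737 → P i := stepQ 13736 Q13736 (allL N13736 (tt N13586 F77127) (tt N13636 F77128) (tt N13698 F77129) (tt N13482 F77130) (tt N13912 (iv F77890)) (tt N13486 F77131) (tt N13481 (iv D19623)) (tt N13633 F77132) (tt N13808 (iv F77450)))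
theorem Q13738 : ∀ i, i < 13738 → P i := stepQ 13737 Q13737 (allL N13737 (tt N13733 F77133) (tt N13897 (iv F77818)) (tt N13691 F77134) (tt N13492 F77135) (tt N13483 (iv D19624)) (tt N13737 F77136) (tt N13913 D19800) (tt N13836 (iv F77558)) (tt N13485 F77137))
theorem Q13739 : ∀ i, i < 13739 → P i := stepQ 13738 Q13738 (allL N13738 (tt N13734 F77138) (tt N13898 (iv F77824)) (tt N13692 F77139) (tt N13484 F77140) (tt N13913 (iv F77895)) (tt N13808 (iv F77449)) (tt N13483 (iv D19625)) (tt N13837 (iv F77562)) (tt N13486 F77141))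
theorem Q13740 : ∀ i, i < 13740 → P i := stepQ 13739 Q13739 (allL N13739 (tt N13880 (iv F77737)) (tt N13904 (iv F77849)) (tt N13911 (iv F77882)) (tt N13497 F77142) (tt N13486 F77143) (tt N13914 D19801) (tt N13485 (iv D19626)) (tt N13915 D19802) (tt N13913 (iv F77896)))
theorem Q13741 : ∀ i, i < 13741 → P i := stepQ 13740 Q13740 (allL N13740 (tt N13623 F77144) (tt N13539 F77145) (tt N13795 (iv F77385)) (tt N13601 F77146) (tt N13487 F77147) (tt N13740 F77148) (tt N13915 (iv F77903)) (tt N13485 (iv D19627)) (tt N13916 D19803))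
theorem Q13742 : ∀ i, i < 13742 → P i := stepQ 13741 Q13741 (allL N13741 (tt N13624 F77149) (tt N13540 F77150) (tt N13796 (iv F77390)) (tt N13498 F77151) (tt N13915 (iv F77902)) (tt N13633 F77152) (tt N13487 F77153) (tt N13486 (iv D19628)) (tt N13917 D19804))
theorem Q13743 : ∀ i, i < 13743 → P i := stepQ 13742 Q13742 (allL N13742 (tt N13618 F77154) (tt N13536 F77155) (tt N13790 (iv F77358)) (tt N13499 F77156) (tt N13916 (iv F77907)) (tt N13488 F77157) (tt N13917 (iv F77913)) (tt N13832 (iv F77544)) (tt N13487 (iv D19629)))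
theorem Q13744 : ∀ i, i < 13744 → P i := stepQ 13743 Q13743 (allL N13743 (tt N13816 (iv F77473)) (tt N13514 F77158) (tt N13490 F77159) (tt N13505 F77160) (tt N13918 D19805) (tt N13489 (iv D19630)) (tt N13919 D19806) (tt N13812 (iv F77461)) (tt N13494 F77161))
theorem Q13745 : ∀ i, i < 13745 → P i := stepQ 13744 Q13744 (allL N13744 (tt N13890 (iv F77783)) (tt N13492 F77162) (tt N13918 (iv F77915)) (tt N13897 (iv F77820)) (tt N13490 (iv D19631)) (tt N13744 F77163) (tt N13920 D19807) (tt N13822 (iv F77497)) (tt N13495 F77164))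
theorem Q13746 : ∀ i, i < 13746 → P i := stepQ 13745 Q13745 (allL N13745 (tt N13891 (iv F77789)) (tt N13493 F77165) (tt N13919 (iv F77920)) (tt N13491 F77166) (tt N13920 (iv F77925)) (tt N13869 (iv F77679)) (tt N13490 (iv D19632)) (tt N13823 (iv F77501)) (tt N13496 F77167))
theorem Q13747 : ∀ i, i < 13747 → P i := stepQ 13746 Q13746 (allL N13746 (tt N13909 (iv F77874)) (tt N13920 (iv F77924)) (tt N13787 (iv F77344)) (tt N13913 (iv F77894)) (tt N13493 F77168) (tt N13921 D19808) (tt N13492 (iv D19633)) (tt N13889 (iv F77781)) (tt N13497 F77169))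
theorem Q13748 : ∀ i, i < 13748 → P i := stepQ 13747 Q13747 (allL N13747 (tt N13893 (iv F77800)) (tt N13643 F77170) (tt N13495 F77171) (tt N13652 F77172) (tt N13494 (iv D19634)) (tt N13747 F77173) (tt N13922 D19809) (tt N13523 F77174) (tt N13918 (iv F77918)))
theorem Q13749 : ∀ i, i < 13749 → P i := stepQ 13748 Q13748 (allL N13748 (tt N13894 (iv F77805)) (tt N13644 F77175) (tt N13496 F77176) (tt N13511 F77177) (tt N13922 (iv F77932)) (tt N13766 (iv F77258)) (tt N13494 (iv D19635)) (tt N13524 F77178) (tt N13919 (iv F77923)))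
theorem Q13750 : ∀ i, i < 13750 → P i := stepQ 13749 Q13749 (allL N13749 (tt N13895 (iv F77810)) (tt N13497 F77179) (tt N13922 (iv F77930)) (tt N13904 (iv F77851)) (tt N13496 F77180) (tt N13923 D19810) (tt N13495 (iv D19636)) (tt N13525 F77181) (tt N13920 (iv F77926)))
theorem Q13751 : ∀ i, i < 13751 → P i := stepQ 13750 Q13750 (allL N13750 (tt N13910 (iv F77878)) (tt N13923 (iv F77934)) (tt N13788 (iv F77349)) (tt N13914 (iv F77897)) (tt N13908 (iv F77871)) (tt N13497 (iv D19637)) (tt N13750 F77182) (tt N13906 (iv F77861)) (tt N13921 (iv F77928)))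
theorem Q13752 : ∀ i, i < 13752 → P i := stepQ 13751 Q13751 (allL N13751 (tt N13619 F77183) (tt N13538 F77184) (tt N13591 F77185) (tt N13917 (iv F77911)) (tt N13616 F77186) (tt N13628 F77187) (tt N13499 F77188) (tt N13640 F77189) (tt N13498 (iv D19638)))
theorem Q13753 : ∀ i, i < 13753 → P i := stepQ 13752 Q13752 (allL N13752 (tt N13505 F77190) (tt N13520 F77191) (tt N13502 F77192) (tt N13816 (iv F77476)) (tt N13645 F77193) (tt N13501 (iv D19639)) (tt N13924 D19811) (tt N13612 F77194) (tt N13509 F77195))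
theorem Q13754 : ∀ i, i < 13754 → P i := stepQ 13753 Q13753 (allL N13753 (tt N13506 F77196) (tt N13567 F77197) (tt N13924 (iv F77939)) (tt N13504 F77198) (tt N13851 (iv F77606)) (tt N13615 F77199) (tt N13502 (iv D19640)) (tt N13925 D19812) (tt N13510 F77200))
theorem Q13755 : ∀ i, i < 13755 → P i := stepQ 13754 Q13754 (allL N13754 (tt N13507 F77201) (tt N13562 F77202) (tt N13612 F77203) (tt N13826 (iv F77515)) (tt N13789 (iv F77354)) (tt N13503 F77204) (tt N13925 (iv F77948)) (tt N13502 (iv D19641)) (tt N13666 F77205))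
theorem Q13756 : ∀ i, i < 13756 → P i := stepQ 13755 Q13755 (allL N13755 (tt N13924 (iv F77937)) (tt N13515 F77206) (tt N13506 F77207) (tt N13919 (iv F77921)) (tt N13647 F77208) (tt N13596 F77209) (tt N13505 (iv D19642)) (tt N13798 (iv F77400)) (tt N13511 F77210))
theorem Q13757 : ∀ i, i < 13757 → P i := stepQ 13756 Q13756 (allL N13756 (tt N13925 (iv F77944)) (tt N13508 F77211) (tt N13798 (iv F77397)) (tt N13901 (iv F77837)) (tt N13791 (iv F77364)) (tt N13608 F77212) (tt N13507 F77213) (tt N13506 (iv D19643)) (tt N13667 F77214))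
theorem Q13758 : ∀ i, i < 13758 → P i := stepQ 13757 Q13757 (allL N13757 (tt N13511 F77215) (tt N13813 (iv F77464)) (tt N13510 F77216) (tt N13894 (iv F77807)) (tt N13651 F77217) (tt N13764 (iv F77249)) (tt N13509 (iv D19644)) (tt N13655 F77218) (tt N13924 (iv F77943)))
theorem Q13759 : ∀ i, i < 13759 → P i := stepQ 13758 Q13758 (allL N13758 (tt N13600 F77219) (tt N13555 F77220) (tt N13852 (iv F77610)) (tt N13861 (iv F77645)) (tt N13513 F77221) (tt N13926 D19813) (tt N13512 (iv D19645)) (tt N13907 (iv F77867)) (tt N13761 (iv F77234)))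
theorem Q13760 : ∀ i, i < 13760 → P i := stepQ 13759 Q13759 (allL N13759 (tt N13523 F77222) (tt N13918 (iv F77914)) (tt N13516 F77223) (tt N13648 F77224) (tt N13514 (iv D19646)) (tt N13759 F77225) (tt N13927 D19814) (tt N13893 (iv F77804)) (tt N13643 F77226))
theorem Q13761 : ∀ i, i < 13761 → P i := stepQ 13760 Q13760 (allL N13760 (tt N13524 F77227) (tt N13919 (iv F77919)) (tt N13517 F77228) (tt N13515 F77229) (tt N13927 (iv F77957)) (tt N13598 F77230) (tt N13514 (iv D19647)) (tt N13894 (iv F77809)) (tt N13644 F77231))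
theorem Q13762 : ∀ i, i < 13762 → P i := stepQ 13761 Q13761 (allL N13761 (tt N13525 F77232) (tt N13787 (iv F77343)) (tt N13927 (iv F77955)) (tt N13867 (iv F77665)) (tt N13517 F77233) (tt N13928 D19815) (tt N13516 (iv D19648)) (tt N13895 (iv F77814)) (tt N13758 F77234))
theorem Q13763 : ∀ i, i < 13763 → P i := stepQ 13762 Q13762 (allL N13762 (tt N13648 F77235) (tt N13883 (iv F77751)) (tt N13620 F77236) (tt N13523 F77237) (tt N13518 (iv D19649)) (tt N13762 F77238) (tt N13929 D19816) (tt N13587 F77239) (tt N13609 F77240))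
theorem Q13764 : ∀ i, i < 13764 → P i := stepQ 13763 Q13763 (allL N13763 (tt N13649 F77241) (tt N13884 (iv F77757)) (tt N13621 F77242) (tt N13519 F77243) (tt N13929 (iv F77966)) (tt N13663 F77244) (tt N13518 (iv D19650)) (tt N13588 F77245) (tt N13610 F77246))
theorem Q13765 : ∀ i, i < 13765 → P i := stepQ 13764 Q13764 (allL N13764 (tt N13522 F77247) (tt N13924 (iv F77938)) (tt N13530 F77248) (tt N13819 (iv F77488)) (tt N13876 (iv F77716)) (tt N13757 F77249) (tt N13520 (iv D19651)) (tt N13614 F77250) (tt N13813 (iv F77466)))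
theorem Q13766 : ∀ i, i < 13766 → P i := stepQ 13765 Q13765 (allL N13765 (tt N13818 (iv F77482)) (tt N13523 F77251) (tt N13727 F77252) (tt N13883 (iv F77752)) (tt N13521 (iv D19652)) (tt N13765 F77253) (tt N13930 D19817) (tt N13643 F77254) (tt N13814 (iv F77469)))
theorem Q13767 : ∀ i, i < 13767 → P i := stepQ 13766 Q13766 (allL N13766 (tt N13819 (iv F77486)) (tt N13524 F77255) (tt N13728 F77256) (tt N13522 F77257) (tt N13930 (iv F77971)) (tt N13748 F77258) (tt N13521 (iv D19653)) (tt N13644 F77259) (tt N13815 (iv F77472)))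
theorem Q13768 : ∀ i, i < 13768 → P i := stepQ 13767 Q13767 (allL N13767 (tt N13927 (iv F77954)) (tt N13930 (iv F77969)) (tt N13525 F77260) (tt N13929 (iv F77965)) (tt N13524 F77261) (tt N13931 D19818) (tt N13523 (iv D19654)) (tt N13922 (iv F77933)) (tt N13817 (iv F77481)))
theorem Q13769 : ∀ i, i < 13769 → P i := stepQ 13768 Q13768 (allL N13768 (tt N13928 (iv F77959)) (tt N13906 (iv F77857)) (tt N13931 (iv F77973)) (tt N13871 (iv F77687)) (tt N13926 (iv F77952)) (tt N13525 (iv D19655)) (tt N13768 F77262) (tt N13923 (iv F77936)) (tt N13820 (iv F77491)))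
theorem Q13770 : ∀ i, i < 13770 → P i := stepQ 13769 Q13769 (allL N13769 (tt N13528 F77263) (tt N13571 F77264) (tt N13876 (iv F77714)) (tt N13570 F77265) (tt N13530 F77266) (tt N13770 (iv F77272)) (tt N13526 (iv D19656)) (tt N13529 F77267) (tt N13830 (iv F77533)))
theorem Q13771 : ∀ i, i < 13771 → P i := stepQ 13770 Q13770 (allL N13770 (tt N13570 F77268) (tt N13529 F77269) (tt N13866 (iv F77659)) (tt N13528 F77270) (tt N13574 F77271) (tt N13769 F77272) (tt N13527 (iv D19657)) (tt N13571 F77273) (tt N13831 (iv F77539)))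
theorem Q13772 : ∀ i, i < 13772 → P i := stepQ 13771 Q13771 (allL N13771 (tt N13555 F77274) (tt N13867 (iv F77663)) (tt N13732 F77275) (tt N13787 (iv F77345)) (tt N13532 F77276) (tt N13932 D19819) (tt N13531 (iv D19658)) (tt N13660 F77277) (tt N13786 (iv F77341)))
theorem Q13773 : ∀ i, i < 13773 → P i := stepQ 13772 Q13772 (allL N13772 (tt N13634 F77278) (tt N13589 F77279) (tt N13776 (iv F77296)) (tt N13877 (iv F77723)) (tt N13534 F77280) (tt N13933 D19820) (tt N13533 (iv D19659)) (tt N13887 (iv F77774)) (tt N13882 (iv F77749)))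
theorem Q13774 : ∀ i, i < 13774 → P i := stepQ 13773 Q13773 (allL N13773 (tt N13547 F77281) (tt N13916 (iv F77905)) (tt N13694 F77282) (tt N13704 F77283) (tt N13536 (iv D19660)) (tt N13773 F77284) (tt N13934 D19821) (tt N13935 D19822) (tt N13539 F77285))
theorem Q13775 : ∀ i, i < 13775 → P i := stepQ 13774 Q13774 (allL N13774 (tt N13548 F77286) (tt N13917 (iv F77910)) (tt N13695 F77287) (tt N13538 F77288) (tt N13934 (iv F77986)) (tt N13630 F77289) (tt N13536 (iv D19661)) (tt N13936 D19823) (tt N13540 F77290))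
theorem Q13776 : ∀ i, i < 13776 → P i := stepQ 13775 Q13775 (allL N13775 (tt N13549 F77291) (tt N13832 (iv F77541)) (tt N13696 F77292) (tt N13666 F77293) (tt N13935 (iv F77991)) (tt N13537 F77294) (tt N13936 (iv F77997)) (tt N13536 (iv D19662)) (tt N13826 (iv F77517)))
theorem Q13777 : ∀ i, i < 13777 → P i := stepQ 13776 Q13776 (allL N13776 (tt N13550 F77295) (tt N13915 (iv F77900)) (tt N13772 F77296) (tt N13872 F77693) (tt N13540 F77297) (tt N13937 D19824) (tt N13539 (iv D19663)) (tt N13904 (iv F77853)) (tt N13934 (iv F77987)))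
theorem Q13778 : ∀ i, i < 13778 → P i := stepQ 13777 Q13777 (allL N13777 (tt N13708 F77298) (tt N13730 F77299) (tt N13545 F77300) (tt N13689 F77301) (tt N13541 (iv D19664)) (tt N13777 F77302) (tt N13938 D19825) (tt N13658 F77303) (tt N13687 F77304))
theorem Q13779 : ∀ i, i < 13779 → P i := stepQ 13778 Q13778 (allL N13778 (tt N13709 F77305) (tt N13731 F77306) (tt N13546 F77307) (tt N13542 F77308) (tt N13938 (iv F78006)) (tt N13780 (iv F77322)) (tt N13541 (iv D19665)) (tt N13659 F77309) (tt N13688 F77310))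
theorem Q13780 : ∀ i, i < 13780 → P i := stepQ 13779 Q13779 (allL N13779 (tt N13704 F77311) (tt N13658 F77312) (tt N13687 F77313) (tt N13547 F77314) (tt N13543 (iv D19666)) (tt N13779 F77315) (tt N13939 D19826) (tt N13730 F77316) (tt N13545 F77317))
theorem Q13781 : ∀ i, i < 13781 → P i := stepQ 13780 Q13780 (allL N13780 (tt N13705 F77318) (tt N13659 F77319) (tt N13688 F77320) (tt N13544 F77321) (tt N13939 (iv F78013)) (tt N13778 F77322) (tt N13543 (iv D19667)) (tt N13731 F77323) (tt N13546 F77324))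
theorem Q13782 : ∀ i, i < 13782 → P i := stepQ 13781 Q13781 (allL N13781 (tt N13872 (iv F77689)) (tt N13660 F77325) (tt N13938 (iv F78004)) (tt N13550 F77326) (tt N13546 F77327) (tt N13940 D19827) (tt N13545 (iv D19668)) (tt N13867 (iv F77667)) (tt N13939 (iv F78015)))
theorem Q13783 : ∀ i, i < 13783 → P i := stepQ 13782 Q13782 (allL N13782 (tt N13934 (iv F77983)) (tt N13661 F77328) (tt N13843 (iv F77579)) (tt N13939 (iv F78012)) (tt N13548 F77329) (tt N13941 D19828) (tt N13547 (iv D19669)) (tt N13942 D19829) (tt N13550 F77330))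
theorem Q13784 : ∀ i, i < 13784 → P i := stepQ 13783 Q13783 (allL N13783 (tt N13935 (iv F77988)) (tt N13662 F77331) (tt N13844 (iv F77582)) (tt N13795 (iv F77386)) (tt N13549 F77332) (tt N13783 F77333) (tt N13942 (iv F78024)) (tt N13547 (iv D19670)) (tt N13900 (iv F77835)))
theorem Q13785 : ∀ i, i < 13785 → P i := stepQ 13784 Q13784 (allL N13784 (tt N13936 (iv F77993)) (tt N13663 F77334) (tt N13845 (iv F77586)) (tt N13667 F77335) (tt N13942 (iv F78023)) (tt N13884 (iv F77759)) (tt N13549 F77336) (tt N13548 (iv D19671)) (tt N13901 (iv F77840)))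
theorem Q13786 : ∀ i, i < 13786 → P i := stepQ 13785 Q13785 (allL N13785 (tt N13937 (iv F77998)) (tt N13664 F77337) (tt N13847 (iv F77590)) (tt N13940 (iv F78017)) (tt N13933 (iv F77981)) (tt N13550 (iv D19672)) (tt N13785 F77338) (tt N13905 (iv F77856)) (tt N13941 (iv F78021)))
theorem Q13787 : ∀ i, i < 13787 → P i := stepQ 13786 Q13786 (allL N13786 (tt N13787 (iv F77342)) (tt N13861 (iv F77643)) (tt N13909 (iv F77875)) (tt N13555 F77339) (tt N13552 F77340) (tt N13943 D19830) (tt N13551 (iv D19673)) (tt N13878 (iv F77731)) (tt N13771 F77341))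
theorem Q13788 : ∀ i, i < 13788 → P i := stepQ 13787 Q13787 (allL N13787 (tt N13786 F77342) (tt N13761 F77343) (tt N13746 F77344) (tt N13771 F77345) (tt N13554 F77346) (tt N13944 D19831) (tt N13553 (iv D19674)) (tt N13713 F77347) (tt N13555 F77348))
theorem Q13789 : ∀ i, i < 13789 → P i := stepQ 13788 Q13788 (allL N13788 (tt N13932 (iv F77975)) (tt N13926 (iv F77951)) (tt N13750 F77349) (tt N13943 (iv F78025)) (tt N13906 (iv F77859)) (tt N13555 (iv D19675)) (tt N13788 F77350) (tt N13908 (iv F77873)) (tt N13944 (iv F78035)))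
theorem Q13790 : ∀ i, i < 13790 → P i := stepQ 13789 Q13789 (allL N13789 (tt N13559 F77351) (tt N13666 F77352) (tt N13572 F77353) (tt N13832 (iv F77543)) (tt N13754 F77354) (tt N13557 (iv D19676)) (tt N13945 D19832) (tt N13641 F77355) (tt N13562 F77356))
theorem Q13791 : ∀ i, i < 13791 → P i := stepQ 13790 Q13790 (allL N13790 (tt N13832 (iv F77540)) (tt N13560 F77357) (tt N13742 F77358) (tt N13559 F77359) (tt N13946 D19833) (tt N13558 (iv D19677)) (tt N13947 D19834) (tt N13618 F77360) (tt N13563 F77361))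
theorem Q13792 : ∀ i, i < 13792 → P i := stepQ 13791 Q13791 (allL N13791 (tt N13945 (iv F78036)) (tt N13561 F77362) (tt N13573 F77363) (tt N13947 (iv F78051)) (tt N13756 F77364) (tt N13647 F77365) (tt N13559 (iv D19678)) (tt N13642 F77366) (tt N13564 F77367))
theorem Q13793 : ∀ i, i < 13793 → P i := stepQ 13792 Q13792 (allL N13792 (tt N13662 F77368) (tt N13946 (iv F78043)) (tt N13587 F77369) (tt N13720 F77370) (tt N13560 (iv D19679)) (tt N13792 F77371) (tt N13948 D19835) (tt N13620 F77372) (tt N13565 F77373))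
theorem Q13794 : ∀ i, i < 13794 → P i := stepQ 13793 Q13793 (allL N13793 (tt N13663 F77374) (tt N13947 (iv F78049)) (tt N13588 F77375) (tt N13561 F77376) (tt N13948 (iv F78058)) (tt N13649 F77377) (tt N13560 (iv D19680)) (tt N13621 F77378) (tt N13566 F77379))
theorem Q13795 : ∀ i, i < 13795 → P i := stepQ 13794 Q13794 (allL N13794 (tt N13564 F77380) (tt N13925 (iv F77945)) (tt N13574 F77381) (tt N13837 (iv F77561)) (tt N13866 (iv F77660)) (tt N13651 F77382) (tt N13562 (iv D19681)) (tt N13567 F77383) (tt N13945 (iv F78042)))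
theorem Q13796 : ∀ i, i < 13796 → P i := stepQ 13795 Q13795 (allL N13795 (tt N13836 (iv F77555)) (tt N13565 F77384) (tt N13740 F77385) (tt N13783 F77386) (tt N13563 (iv D19682)) (tt N13795 F77387) (tt N13949 D19836) (tt N13733 F77388) (tt N13946 (iv F78048)))
theorem Q13797 : ∀ i, i < 13797 → P i := stepQ 13796 Q13796 (allL N13796 (tt N13837 (iv F77559)) (tt N13566 F77389) (tt N13741 F77390) (tt N13564 F77391) (tt N13949 (iv F78064)) (tt N13653 F77392) (tt N13563 (iv D19683)) (tt N13734 F77393) (tt N13947 (iv F78054)))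
theorem Q13798 : ∀ i, i < 13798 → P i := stepQ 13797 Q13797 (allL N13797 (tt N13903 (iv F77843)) (tt N13949 (iv F78061)) (tt N13589 F77394) (tt N13865 F77657) (tt N13566 F77395) (tt N13950 D19837) (tt N13565 (iv D19684)) (tt N13879 (iv F77735)) (tt N13948 (iv F78060)))
theorem Q13799 : ∀ i, i < 13799 → P i := stepQ 13798 Q13798 (allL N13798 (tt N13831 (iv F77534)) (tt N13569 F77396) (tt N13756 F77397) (tt N13830 (iv F77530)) (tt N13573 F77398) (tt N13613 F77399) (tt N13568 (iv D19685)) (tt N13755 F77400) (tt N13570 F77401))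
theorem Q13800 : ∀ i, i < 13800 → P i := stepQ 13799 Q13799 (allL N13799 (tt N13573 F77402) (tt N13682 F77403) (tt N13945 (iv F78038)) (tt N13681 F77404) (tt N13831 (iv F77537)) (tt N13851 (iv F77607)) (tt N13572 (iv D19686)) (tt N13853 (iv F77615)) (tt N13574 F77405))
theorem Q13801 : ∀ i, i < 13801 → P i := stepQ 13800 Q13800 (allL N13800 (tt N13626 F77406) (tt N13577 F77407) (tt N13842 (iv F77575)) (tt N13576 F77408) (tt N13951 D19838) (tt N13575 (iv D19687)) (tt N13952 D19839) (tt N13646 F77409) (tt N13579 F77410))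
theorem Q13802 : ∀ i, i < 13802 → P i := stepQ 13801 Q13801 (allL N13801 (tt N13628 F77411) (tt N13578 F77412) (tt N13640 F77413) (tt N13952 (iv F78077)) (tt N13638 F77414) (tt N13619 F77415) (tt N13576 (iv D19688)) (tt N13591 F77416) (tt N13580 F77417))
theorem Q13803 : ∀ i, i < 13803 → P i := stepQ 13802 Q13802 (allL N13802 (tt N13587 F77418) (tt N13951 (iv F78070)) (tt N13662 F77419) (tt N13807 (iv F77443)) (tt N13577 (iv D19689)) (tt N13802 F77420) (tt N13953 D19840) (tt N13648 F77421) (tt N13581 F77422))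
theorem Q13804 : ∀ i, i < 13804 → P i := stepQ 13803 Q13803 (allL N13803 (tt N13588 F77423) (tt N13952 (iv F78076)) (tt N13663 F77424) (tt N13578 F77425) (tt N13953 (iv F78083)) (tt N13621 F77426) (tt N13577 (iv D19690)) (tt N13649 F77427) (tt N13582 F77428))
theorem Q13805 : ∀ i, i < 13805 → P i := stepQ 13804 Q13804 (allL N13804 (tt N13632 F77429) (tt N13581 F77430) (tt N13857 (iv F77629)) (tt N13635 F77431) (tt N13579 (iv D19691)) (tt N13804 F77432) (tt N13954 D19841) (tt N13585 F77433) (tt N13951 (iv F78074)))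
theorem Q13806 : ∀ i, i < 13806 → P i := stepQ 13805 Q13805 (allL N13805 (tt N13633 F77434) (tt N13582 F77435) (tt N13858 (iv F77633)) (tt N13580 F77436) (tt N13954 (iv F78089)) (tt N13624 F77437) (tt N13579 (iv D19692)) (tt N13586 F77438) (tt N13952 (iv F78080)))
theorem Q13807 : ∀ i, i < 13807 → P i := stepQ 13806 Q13806 (allL N13806 (tt N13589 F77439) (tt N13954 (iv F78087)) (tt N13903 (iv F77844)) (tt N13912 (iv F77889)) (tt N13582 F77440) (tt N13955 D19842) (tt N13581 (iv D19693)) (tt N13877 (iv F77725)) (tt N13953 (iv F78085)))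
theorem Q13808 : ∀ i, i < 13808 → P i := stepQ 13807 Q13807 (allL N13807 (tt N13697 F77441) (tt N13849 (iv F77595)) (tt N13585 F77442) (tt N13802 F77443) (tt N13583 (iv D19694)) (tt N13807 F77444) (tt N13956 D19843) (tt N13857 (iv F77631)) (tt N13735 F77445))
theorem Q13809 : ∀ i, i < 13809 → P i := stepQ 13808 Q13808 (allL N13808 (tt N13698 F77446) (tt N13850 (iv F77599)) (tt N13586 F77447) (tt N13584 F77448) (tt N13956 (iv F78097)) (tt N13738 F77449) (tt N13583 (iv D19695)) (tt N13858 (iv F77636)) (tt N13736 F77450))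
theorem Q13810 : ∀ i, i < 13810 → P i := stepQ 13809 Q13809 (allL N13809 (tt N13912 (iv F77886)) (tt N13877 (iv F77721)) (tt N13956 (iv F78095)) (tt N13589 F77451) (tt N13586 F77452) (tt N13957 D19844) (tt N13585 (iv D19696)) (tt N13954 (iv F78090)) (tt N13885 (iv F77766)))
theorem Q13811 : ∀ i, i < 13811 → P i := stepQ 13810 Q13810 (allL N13810 (tt N13953 (iv F78081)) (tt N13882 (iv F77746)) (tt N13948 (iv F78056)) (tt N13885 (iv F77763)) (tt N13588 F77453) (tt N13958 D19845) (tt N13587 (iv D19697)) (tt N13929 (iv F77967)) (tt N13589 F77454))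
theorem Q13812 : ∀ i, i < 13812 → P i := stepQ 13811 Q13811 (allL N13811 (tt N13955 (iv F78091)) (tt N13933 (iv F77980)) (tt N13950 (iv F78066)) (tt N13957 (iv F78099)) (tt N13664 F77455) (tt N13589 (iv D19698)) (tt N13811 F77456) (tt N13888 (iv F77778)) (tt N13958 (iv F78103)))
theorem Q13813 : ∀ i, i < 13813 → P i := stepQ 13812 Q13812 (allL N13812 (tt N13594 F77457) (tt N13710 F77458) (tt N13603 F77459) (tt N13593 F77460) (tt N13959 D19846) (tt N13592 (iv D19699)) (tt N13960 D19847) (tt N13743 F77461) (tt N13599 F77462))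
theorem Q13814 : ∀ i, i < 13814 → P i := stepQ 13813 Q13813 (allL N13813 (tt N13596 F77463) (tt N13757 F77464) (tt N13615 F77465) (tt N13960 (iv F78113)) (tt N13825 (iv F77510)) (tt N13924 (iv F77941)) (tt N13593 (iv D19700)) (tt N13830 (iv F77532)) (tt N13764 F77466))
theorem Q13815 : ∀ i, i < 13815 → P i := stepQ 13814 Q13814 (allL N13814 (tt N13959 (iv F78104)) (tt N13597 F77467) (tt N13868 (iv F77671)) (tt N13827 (iv F77519)) (tt N13594 (iv D19701)) (tt N13814 F77468) (tt N13961 D19848) (tt N13962 D19849) (tt N13765 F77469))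
theorem Q13816 : ∀ i, i < 13816 → P i := stepQ 13815 Q13815 (allL N13815 (tt N13960 (iv F78110)) (tt N13598 F77470) (tt N13869 (iv F77677)) (tt N13596 F77471) (tt N13961 (iv F78117)) (tt N13919 (iv F77922)) (tt N13594 (iv D19702)) (tt N13963 D19850) (tt N13766 F77472))
theorem Q13817 : ∀ i, i < 13817 → P i := stepQ 13816 Q13816 (allL N13816 (tt N13743 F77473) (tt N13599 F77474) (tt N13706 F77475) (tt N13752 F77476) (tt N13962 (iv F78122)) (tt N13595 F77477) (tt N13963 (iv F78130)) (tt N13594 (iv D19703)) (tt N13710 F77478))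
theorem Q13818 : ∀ i, i < 13818 → P i := stepQ 13817 Q13817 (allL N13817 (tt N13852 (iv F77609)) (tt N13961 (iv F78116)) (tt N13600 F77479) (tt N13829 (iv F77525)) (tt N13598 F77480) (tt N13964 D19851) (tt N13597 (iv D19704)) (tt N13965 D19852) (tt N13767 F77481))
theorem Q13819 : ∀ i, i < 13819 → P i := stepQ 13818 Q13818 (allL N13818 (tt N13765 F77482) (tt N13962 (iv F78120)) (tt N13601 F77483) (tt N13844 (iv F77583)) (tt N13599 F77484) (tt N13818 F77485) (tt N13965 (iv F78138)) (tt N13597 (iv D19705)) (tt N13959 (iv F78109)))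
theorem Q13820 : ∀ i, i < 13820 → P i := stepQ 13819 Q13819 (allL N13819 (tt N13766 F77486) (tt N13963 (iv F78126)) (tt N13602 F77487) (tt N13764 F77488) (tt N13965 (iv F78137)) (tt N13894 (iv F77808)) (tt N13599 F77489) (tt N13598 (iv D19706)) (tt N13960 (iv F78115)))
theorem Q13821 : ∀ i, i < 13821 → P i := stepQ 13820 Q13820 (allL N13820 (tt N13926 (iv F77950)) (tt N13871 (iv F77686)) (tt N13964 (iv F78132)) (tt N13906 (iv F77858)) (tt N13928 (iv F77960)) (tt N13600 (iv D19707)) (tt N13820 F77490) (tt N13966 D19853) (tt N13768 F77491))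
theorem Q13822 : ∀ i, i < 13822 → P i := stepQ 13821 Q13821 (allL N13821 (tt N13907 (iv F77863)) (tt N13872 (iv F77690)) (tt N13965 (iv F78136)) (tt N13915 (iv F77901)) (tt N13602 F77492) (tt N13966 (iv F78139)) (tt N13601 F77493) (tt N13600 (iv D19708)) (tt N13967 D19854))
theorem Q13823 : ∀ i, i < 13823 → P i := stepQ 13822 Q13822 (allL N13822 (tt N13868 (iv F77669)) (tt N13704 F77494) (tt N13959 (iv F78106)) (tt N13916 (iv F77906)) (tt N13603 F77495) (tt N13822 F77496) (tt N13967 (iv F78143)) (tt N13744 F77497) (tt N13601 (iv D19709)))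
theorem Q13824 : ∀ i, i < 13824 → P i := stepQ 13823 Q13823 (allL N13823 (tt N13869 (iv F77675)) (tt N13705 F77498) (tt N13960 (iv F78112)) (tt N13616 F77499) (tt N13967 (iv F78142)) (tt N13891 (iv F77792)) (tt N13603 F77500) (tt N13745 F77501) (tt N13602 (iv D19710)))
theorem Q13825 : ∀ i, i < 13825 → P i := stepQ 13824 Q13824 (allL N13824 (tt N13607 F77502) (tt N13650 F77503) (tt N13718 F77504) (tt N13605 F77505) (tt N13968 D19855) (tt N13604 (iv D19711)) (tt N13969 D19856) (tt N13637 F77506) (tt N13631 F77507))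
theorem Q13826 : ∀ i, i < 13826 → P i := stepQ 13825 Q13825 (allL N13825 (tt N13608 F77508) (tt N13651 F77509) (tt N13830 (iv F77529)) (tt N13969 (iv F78155)) (tt N13813 F77510) (tt N13925 (iv F77947)) (tt N13605 (iv D19712)) (tt N13615 F77511) (tt N13876 (iv F77719)))
theorem Q13827 : ∀ i, i < 13827 → P i := stepQ 13826 Q13826 (allL N13826 (tt N13718 F77512) (tt N13622 F77513) (tt N13607 F77514) (tt N13754 F77515) (tt N13970 D19857) (tt N13606 (iv D19713)) (tt N13971 D19858) (tt N13714 F77516) (tt N13775 F77517))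
theorem Q13828 : ∀ i, i < 13828 → P i := stepQ 13827 Q13827 (allL N13827 (tt N13968 (iv F78145)) (tt N13609 F77518) (tt N13970 (iv F78160)) (tt N13814 F77519) (tt N13607 (iv D19714)) (tt N13827 F77520) (tt N13972 D19859) (tt N13873 (iv F77698)) (tt N13883 (iv F77755)))
theorem Q13829 : ∀ i, i < 13829 → P i := stepQ 13828 Q13828 (allL N13828 (tt N13969 (iv F78152)) (tt N13610 F77521) (tt N13971 (iv F78166)) (tt N13608 F77522) (tt N13972 (iv F78173)) (tt N13901 (iv F77838)) (tt N13607 (iv D19715)) (tt N13874 (iv F77704)) (tt N13884 (iv F77761)))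
theorem Q13830 : ∀ i, i < 13830 → P i := stepQ 13829 Q13829 (allL N13829 (tt N13654 F77523) (tt N13972 (iv F78171)) (tt N13625 F77524) (tt N13817 F77525) (tt N13610 F77526) (tt N13973 D19860) (tt N13609 (iv D19716)) (tt N13875 (iv F77710)) (tt N13929 (iv F77968)))
theorem Q13831 : ∀ i, i < 13831 → P i := stepQ 13830 Q13830 (allL N13830 (tt N13613 F77527) (tt N13655 F77528) (tt N13825 F77529) (tt N13798 F77530) (tt N13615 F77531) (tt N13831 (iv F77538)) (tt N13611 (iv D19717)) (tt N13813 F77532) (tt N13769 F77533))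
theorem Q13832 : ∀ i, i < 13832 → P i := stepQ 13831 Q13831 (allL N13831 (tt N13798 F77534) (tt N13614 F77535) (tt N13925 (iv F77946)) (tt N13613 F77536) (tt N13799 F77537) (tt N13830 F77538) (tt N13612 (iv D19718)) (tt N13924 (iv F77942)) (tt N13770 F77539))
theorem Q13833 : ∀ i, i < 13833 → P i := stepQ 13832 Q13832 (allL N13832 (tt N13790 F77540) (tt N13775 F77541) (tt N13618 F77542) (tt N13789 F77543) (tt N13974 D19861) (tt N13617 (iv D19719)) (tt N13975 D19862) (tt N13742 F77544) (tt N13622 F77545))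
theorem Q13834 : ∀ i, i < 13834 → P i := stepQ 13833 Q13833 (allL N13833 (tt N13916 (iv F77904)) (tt N13620 F77546) (tt N13974 (iv F78180)) (tt N13868 (iv F77672)) (tt N13618 (iv D19720)) (tt N13833 F77547) (tt N13976 D19863) (tt N13946 (iv F78047)) (tt N13623 F77548))
theorem Q13835 : ∀ i, i < 13835 → P i := stepQ 13834 Q13834 (allL N13834 (tt N13917 (iv F77909)) (tt N13621 F77549) (tt N13975 (iv F78187)) (tt N13619 F77550) (tt N13976 (iv F78192)) (tt N13952 (iv F78078)) (tt N13618 (iv D19721)) (tt N13947 (iv F78053)) (tt N13624 F77551))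
theorem Q13836 : ∀ i, i < 13836 → P i := stepQ 13835 Q13835 (allL N13835 (tt N13661 F77552) (tt N13976 (iv F78191)) (tt N13929 (iv F77964)) (tt N13870 (iv F77683)) (tt N13621 F77553) (tt N13977 D19864) (tt N13620 (iv D19722)) (tt N13948 (iv F78059)) (tt N13625 F77554))
theorem Q13837 : ∀ i, i < 13837 → P i := stepQ 13836 Q13836 (allL N13836 (tt N13795 F77555) (tt N13970 (iv F78159)) (tt N13623 F77556) (tt N13935 (iv F77990)) (tt N13622 (iv D19723)) (tt N13836 F77557) (tt N13978 D19865) (tt N13737 F77558) (tt N13974 (iv F78184)))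
theorem Q13838 : ∀ i, i < 13838 → P i := stepQ 13837 Q13837 (allL N13837 (tt N13796 F77559) (tt N13971 (iv F78165)) (tt N13624 F77560) (tt N13794 F77561) (tt N13978 (iv F78199)) (tt N13858 (iv F77635)) (tt N13622 (iv D19724)) (tt N13738 F77562) (tt N13975 (iv F78190)))
theorem Q13839 : ∀ i, i < 13839 → P i := stepQ 13838 Q13838 (allL N13838 (tt N13915 (iv F77899)) (tt N13625 F77563) (tt N13978 (iv F78198)) (tt N13907 (iv F77865)) (tt N13624 F77564) (tt N13979 D19866) (tt N13623 (iv D19725)) (tt N13880 (iv F77741)) (tt N13976 (iv F78193)))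
theorem Q13840 : ∀ i, i < 13840 → P i := stepQ 13839 Q13839 (allL N13839 (tt N13664 F77565) (tt N13979 (iv F78201)) (tt N13973 (iv F78175)) (tt N13908 (iv F77870)) (tt N13955 (iv F78092)) (tt N13625 (iv D19726)) (tt N13839 F77566) (tt N13881 (iv F77744)) (tt N13977 (iv F78196)))
theorem Q13841 : ∀ i, i < 13841 → P i := stepQ 13840 Q13840 (allL N13840 (tt N13951 (iv F78069)) (tt N13629 F77567) (tt N13854 (iv F77618)) (tt N13873 (iv F77696)) (tt N13626 (iv D19727)) (tt N13840 F77568) (tt N13980 D19867) (tt N13981 D19868) (tt N13632 F77569))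
theorem Q13842 : ∀ i, i < 13842 → P i := stepQ 13841 Q13841 (allL N13841 (tt N13952 (iv F78075)) (tt N13630 F77570) (tt N13855 (iv F77622)) (tt N13628 F77571) (tt N13980 (iv F78204)) (tt N13917 (iv F77912)) (tt N13626 (iv D19728)) (tt N13982 D19869) (tt N13633 F77572))
theorem Q13843 : ∀ i, i < 13843 → P i := stepQ 13842 Q13842 (allL N13842 (tt N13646 F77573) (tt N13631 F77574) (tt N13800 F77575) (tt N13645 F77576) (tt N13981 (iv F78210)) (tt N13627 F77577) (tt N13982 (iv F78218)) (tt N13626 (iv D19729)) (tt N13650 F77578))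
theorem Q13844 : ∀ i, i < 13844 → P i := stepQ 13843 Q13843 (allL N13843 (tt N13882 (iv F77745)) (tt N13980 (iv F78203)) (tt N13782 F77579) (tt N13875 (iv F77708)) (tt N13630 F77580) (tt N13983 D19870) (tt N13629 (iv D19730)) (tt N13984 D19871) (tt N13634 F77581))
theorem Q13845 : ∀ i, i < 13845 → P i := stepQ 13844 Q13844 (allL N13844 (tt N13883 (iv F77750)) (tt N13981 (iv F78207)) (tt N13783 F77582) (tt N13818 F77583) (tt N13631 F77584) (tt N13844 F77585) (tt N13984 (iv F78226)) (tt N13629 (iv D19731)) (tt N13968 (iv F78151)))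
theorem Q13846 : ∀ i, i < 13846 → P i := stepQ 13845 Q13845 (allL N13845 (tt N13884 (iv F77756)) (tt N13982 (iv F78214)) (tt N13784 F77586) (tt N13876 (iv F77715)) (tt N13984 (iv F78225)) (tt N13936 (iv F77996)) (tt N13631 F77587) (tt N13630 (iv D19732)) (tt N13969 (iv F78157)))
theorem Q13847 : ∀ i, i < 13847 → P i := stepQ 13846 Q13846 (allL N13846 (tt N13954 (iv F78086)) (tt N13634 F77588) (tt N13859 (iv F77638)) (tt N13887 (iv F77772)) (tt N13633 F77589) (tt N13985 D19872) (tt N13632 (iv D19733)) (tt N13912 (iv F77891)) (tt N13980 (iv F78205)))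
theorem Q13848 : ∀ i, i < 13848 → P i := stepQ 13847 Q13847 (allL N13847 (tt N13933 (iv F77979)) (tt N13985 (iv F78227)) (tt N13785 F77590) (tt N13888 (iv F77775)) (tt N13937 (iv F78000)) (tt N13634 (iv D19734)) (tt N13847 F77591) (tt N13986 D19873) (tt N13983 (iv F78222)))
theorem Q13849 : ∀ i, i < 13849 → P i := stepQ 13848 Q13848 (allL N13848 (tt N13887 (iv F77770)) (tt N13912 (iv F77887)) (tt N13724 F77592) (tt N13954 (iv F78088)) (tt N13636 F77593) (tt N13986 (iv F78230)) (tt N13635 F77594) (tt N13634 (iv D19735)) (tt N13987 D19874))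
theorem Q13850 : ∀ i, i < 13850 → P i := stepQ 13849 Q13849 (allL N13849 (tt N13873 (iv F77694)) (tt N13807 F77595) (tt N13716 F77596) (tt N13951 (iv F78071)) (tt N13637 F77597) (tt N13849 F77598) (tt N13987 (iv F78235)) (tt N13968 (iv F78150)) (tt N13635 (iv D19736)))
theorem Q13851 : ∀ i, i < 13851 → P i := stepQ 13850 Q13850 (allL N13850 (tt N13874 (iv F77700)) (tt N13808 F77599) (tt N13717 F77600) (tt N13638 F77601) (tt N13987 (iv F78234)) (tt N13898 (iv F77827)) (tt N13637 F77602) (tt N13969 (iv F78156)) (tt N13636 (iv D19737)))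
theorem Q13852 : ∀ i, i < 13852 → P i := stepQ 13851 Q13851 (allL N13851 (tt N13642 F77603) (tt N13665 F77604) (tt N13853 (iv F77614)) (tt N13640 F77605) (tt N13753 F77606) (tt N13799 F77607) (tt N13641 F77608) (tt N13945 (iv F78041)) (tt N13639 (iv D19738)))
theorem Q13853 : ∀ i, i < 13853 → P i := stepQ 13852 Q13852 (allL N13852 (tt N13817 F77609) (tt N13922 (iv F77929)) (tt N13758 F77610) (tt N13654 F77611) (tt N13644 F77612) (tt N13988 D19875) (tt N13643 (iv D19739)) (tt N13930 (iv F77972)) (tt N13927 (iv F77958)))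
theorem Q13854 : ∀ i, i < 13854 → P i := stepQ 13853 Q13853 (allL N13853 (tt N13647 F77613) (tt N13876 (iv F77713)) (tt N13851 F77614) (tt N13982 (iv F78216)) (tt N13924 (iv F77940)) (tt N13945 (iv F78040)) (tt N13645 (iv D19740)) (tt N13799 F77615) (tt N13651 F77616))
theorem Q13855 : ∀ i, i < 13855 → P i := stepQ 13854 Q13854 (allL N13854 (tt N13981 (iv F78206)) (tt N13648 F77617) (tt N13840 F77618) (tt N13918 (iv F77916)) (tt N13646 (iv D19741)) (tt N13854 F77619) (tt N13989 D19876) (tt N13951 (iv F78073)) (tt N13652 F77620))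
theorem Q13856 : ∀ i, i < 13856 → P i := stepQ 13855 Q13855 (allL N13855 (tt N13982 (iv F78213)) (tt N13649 F77621) (tt N13841 F77622) (tt N13647 F77623) (tt N13989 (iv F78243)) (tt N13947 (iv F78052)) (tt N13646 (iv D19742)) (tt N13952 (iv F78079)) (tt N13653 F77624))
theorem Q13857 : ∀ i, i < 13857 → P i := stepQ 13856 Q13856 (allL N13856 (tt N13929 (iv F77963)) (tt N13989 (iv F78241)) (tt N13661 F77625) (tt N13927 (iv F77956)) (tt N13649 F77626) (tt N13990 D19877) (tt N13648 (iv D19743)) (tt N13953 (iv F78084)) (tt N13654 F77627))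
theorem Q13858 : ∀ i, i < 13858 → P i := stepQ 13857 Q13857 (allL N13857 (tt N13652 F77628) (tt N13968 (iv F78146)) (tt N13804 F77629) (tt N13893 (iv F77802)) (tt N13650 (iv D19744)) (tt N13857 F77630) (tt N13991 D19878) (tt N13807 F77631) (tt N13981 (iv F78212)))
theorem Q13859 : ∀ i, i < 13859 → P i := stepQ 13858 Q13858 (allL N13858 (tt N13653 F77632) (tt N13969 (iv F78153)) (tt N13805 F77633) (tt N13651 F77634) (tt N13991 (iv F78250)) (tt N13837 F77635) (tt N13650 (iv D19745)) (tt N13808 F77636) (tt N13982 (iv F78219)))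
theorem Q13860 : ∀ i, i < 13860 → P i := stepQ 13859 Q13859 (allL N13859 (tt N13991 (iv F78248)) (tt N13654 F77637) (tt N13846 F77638) (tt N13922 (iv F77931)) (tt N13653 F77639) (tt N13992 D19879) (tt N13652 (iv D19746)) (tt N13885 (iv F77765)) (tt N13989 (iv F78244)))
theorem Q13861 : ∀ i, i < 13861 → P i := stepQ 13860 Q13860 (allL N13860 (tt N13973 (iv F78174)) (tt N13992 (iv F78252)) (tt N13664 F77640) (tt N13988 (iv F78238)) (tt N13950 (iv F78067)) (tt N13654 (iv D19747)) (tt N13860 F77641) (tt N13886 (iv F77769)) (tt N13990 (iv F78247)))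
theorem Q13862 : ∀ i, i < 13862 → P i := stepQ 13861 Q13861 (allL N13861 (tt N13726 F77642) (tt N13786 F77643) (tt N13660 F77644) (tt N13758 F77645) (tt N13657 F77646) (tt N13993 D19880) (tt N13656 (iv D19748)) (tt N13732 F77647) (tt N13867 (iv F77668)))
theorem Q13863 : ∀ i, i < 13863 → P i := stepQ 13862 Q13862 (allL N13862 (tt N13870 (iv F77681)) (tt N13939 (iv F78010)) (tt N13867 (iv F77664)) (tt N13661 F77648) (tt N13659 F77649) (tt N13994 D19881) (tt N13658 (iv D19749)) (tt N13938 (iv F78007)) (tt N13660 F77650))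
theorem Q13864 : ∀ i, i < 13864 → P i := stepQ 13863 Q13863 (allL N13863 (tt N13908 (iv F77868)) (tt N13940 (iv F78016)) (tt N13993 (iv F78257)) (tt N13664 F77651) (tt N13910 (iv F77879)) (tt N13660 (iv D19750)) (tt N13863 F77652) (tt N13932 (iv F77978)) (tt N13994 (iv F78264)))
theorem Q13865 : ∀ i, i < 13865 → P i := stepQ 13864 Q13864 (allL N13864 (tt N13977 (iv F78194)) (tt N13941 (iv F78019)) (tt N13990 (iv F78245)) (tt N13994 (iv F78262)) (tt N13958 (iv F78101)) (tt N13661 (iv D19751)) (tt N13864 F77653) (tt N13995 D19882) (tt N13664 F77654))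
theorem Q13866 : ∀ i, i < 13866 → P i := stepQ 13865 Q13865 (allL N13865 (tt N13948 (iv F78055)) (tt N13942 (iv F78022)) (tt N13953 (iv F78082)) (tt N13797 (iv F77657)) (tt N13663 F77655) (tt N13995 (iv F78265)) (tt N13662 F77656) (tt N13661 (iv D19752)) (tt N13903 (iv F77847)))
theorem Q13867 : ∀ i, i < 13867 → P i := stepQ 13866 Q13866 (allL N13866 (tt N13667 F77658) (tt N13945 (iv F78037)) (tt N13770 F77659) (tt N13936 (iv F77995)) (tt N13794 F77660) (tt N13876 (iv F77717)) (tt N13666 F77661) (tt N13665 (iv D19753)) (tt N13925 (iv F77949)))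
theorem Q13868 : ∀ i, i < 13868 → P i := stepQ 13867 Q13867 (allL N13867 (tt N13674 F77662) (tt N13771 F77663) (tt N13862 F77664) (tt N13761 F77665) (tt N13669 F77666) (tt N13996 D19883) (tt N13668 (iv D19754)) (tt N13781 F77667) (tt N13861 F77668))
theorem Q13869 : ∀ i, i < 13869 → P i := stepQ 13868 Q13868 (allL N13868 (tt N13822 F77669) (tt N13672 F77670) (tt N13814 F77671) (tt N13833 F77672) (tt N13670 (iv D19755)) (tt N13868 F77673) (tt N13997 D19884) (tt N13890 (iv F77787)) (tt N13727 F77674))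
theorem Q13870 : ∀ i, i < 13870 → P i := stepQ 13869 Q13869 (allL N13869 (tt N13823 F77675) (tt N13673 F77676) (tt N13815 F77677) (tt N13671 F77678) (tt N13997 (iv F78280)) (tt N13745 F77679) (tt N13670 (iv D19756)) (tt N13891 (iv F77793)) (tt N13728 F77680))
theorem Q13871 : ∀ i, i < 13871 → P i := stepQ 13870 Q13870 (allL N13870 (tt N13862 F77681) (tt N13997 (iv F78277)) (tt N13674 F77682) (tt N13835 F77683) (tt N13673 F77684) (tt N13998 D19885) (tt N13672 (iv D19757)) (tt N13892 (iv F77798)) (tt N13729 F77685))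
theorem Q13872 : ∀ i, i < 13872 → P i := stepQ 13871 Q13871 (allL N13871 (tt N13996 (iv F78268)) (tt N13820 F77686) (tt N13998 (iv F78283)) (tt N13768 F77687) (tt N13944 (iv F78032)) (tt N13674 (iv D19758)) (tt N13871 F77688) (tt N13999 D19886) (tt N13906 (iv F77862)))
theorem Q13873 : ∀ i, i < 13873 → P i := stepQ 13872 Q13872 (allL N13872 (tt N13781 F77689) (tt N13821 F77690) (tt N13892 (iv F77795)) (tt N13776 (iv F77693)) (tt N13676 F77691) (tt N13999 (iv F78291)) (tt N13675 F77692) (tt N13674 (iv D19759)) (tt N13889 (iv F77782)))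
theorem Q13874 : ∀ i, i < 13874 → P i := stepQ 13873 Q13873 (allL N13873 (tt N13849 F77694) (tt N13679 F77695) (tt N13897 (iv F77819)) (tt N13840 F77696) (tt N13677 (iv D19760)) (tt N13873 F77697) (tt N14000 D19887) (tt N13827 F77698) (tt N13701 F77699))
theorem Q13875 : ∀ i, i < 13875 → P i := stepQ 13874 Q13874 (allL N13874 (tt N13850 F77700) (tt N13680 F77701) (tt N13898 (iv F77825)) (tt N13678 F77702) (tt N14000 (iv F78297)) (tt N13717 F77703) (tt N13677 (iv D19761)) (tt N13828 F77704) (tt N13702 F77705))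
theorem Q13876 : ∀ i, i < 13876 → P i := stepQ 13875 Q13875 (allL N13875 (tt N13699 F77706) (tt N14000 (iv F78295)) (tt N13693 F77707) (tt N13843 F77708) (tt N13680 F77709) (tt N14001 D19888) (tt N13679 (iv D19762)) (tt N13829 F77710) (tt N13703 F77711))
theorem Q13877 : ∀ i, i < 13877 → P i := stepQ 13876 Q13876 (allL N13876 (tt N13700 F77712) (tt N13853 F77713) (tt N13769 F77714) (tt N13845 F77715) (tt N13764 F77716) (tt N13866 F77717) (tt N13683 F77718) (tt N13682 (iv D19763)) (tt N13825 F77719))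
theorem Q13878 : ∀ i, i < 13878 → P i := stepQ 13877 Q13877 (allL N13877 (tt N13703 F77720) (tt N13809 F77721) (tt N13719 F77722) (tt N13772 F77723) (tt N13686 F77724) (tt N14002 D19889) (tt N13685 (iv D19764)) (tt N13806 F77725) (tt N13699 F77726))
theorem Q13879 : ∀ i, i < 13879 → P i := stepQ 13878 Q13878 (allL N13878 (tt N13713 F77727) (tt N13732 F77728) (tt N13939 (iv F78011)) (tt N13693 F77729) (tt N13688 F77730) (tt N14003 D19890) (tt N13687 (iv D19765)) (tt N13786 F77731) (tt N13938 (iv F78008)))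
theorem Q13880 : ∀ i, i < 13880 → P i := stepQ 13879 Q13879 (allL N13879 (tt N13719 F77732) (tt N13911 (iv F77881)) (tt N13703 F77733) (tt N13938 (iv F78005)) (tt N13690 F77734) (tt N14004 D19891) (tt N13689 (iv D19766)) (tt N13797 F77735) (tt N13693 F77736))
theorem Q13881 : ∀ i, i < 13881 → P i := stepQ 13880 Q13880 (allL N13880 (tt N13739 F77737) (tt N13693 F77738) (tt N13913 (iv F77893)) (tt N13732 F77739) (tt N13692 F77740) (tt N14005 D19892) (tt N13691 (iv D19767)) (tt N13838 F77741) (tt N13911 (iv F77885)))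
theorem Q13882 : ∀ i, i < 13882 → P i := stepQ 13881 Q13881 (allL N13881 (tt N13725 F77742) (tt N14005 (iv F78328)) (tt N14001 (iv F78301)) (tt N14003 (iv F78317)) (tt N14002 (iv F78311)) (tt N13693 (iv D19768)) (tt N13881 F77743) (tt N13839 F77744) (tt N14004 (iv F78326)))
theorem Q13883 : ∀ i, i < 13883 → P i := stepQ 13882 Q13882 (allL N13882 (tt N13843 F77745) (tt N13810 F77746) (tt N13934 (iv F77984)) (tt N13699 F77747) (tt N13695 F77748) (tt N14006 D19893) (tt N13694 (iv D19769)) (tt N14007 D19894) (tt N13772 F77749))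
theorem Q13884 : ∀ i, i < 13884 → P i := stepQ 13883 Q13883 (allL N13883 (tt N13844 F77750) (tt N13762 F77751) (tt N13935 (iv F77989)) (tt N13765 F77752) (tt N13696 F77753) (tt N13883 F77754) (tt N14007 (iv F78343)) (tt N13694 (iv D19770)) (tt N13827 F77755))
theorem Q13885 : ∀ i, i < 13885 → P i := stepQ 13884 Q13884 (allL N13884 (tt N13845 F77756) (tt N13763 F77757) (tt N13936 (iv F77994)) (tt N13700 F77758) (tt N14007 (iv F78342)) (tt N13784 F77759) (tt N13696 F77760) (tt N13695 (iv D19771)) (tt N13828 F77761))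
theorem Q13886 : ∀ i, i < 13886 → P i := stepQ 13885 Q13885 (allL N13885 (tt N13956 (iv F78094)) (tt N13699 F77762) (tt N13912 (iv F77888)) (tt N13810 F77763) (tt N13698 F77764) (tt N14008 D19895) (tt N13697 (iv D19772)) (tt N13859 F77765) (tt N13809 F77766))
theorem Q13887 : ∀ i, i < 13887 → P i := stepQ 13886 Q13886 (allL N13886 (tt N14001 (iv F78300)) (tt N14008 (iv F78345)) (tt N13725 F77767) (tt N14006 (iv F78335)) (tt N14004 (iv F78323)) (tt N13699 (iv D19773)) (tt N13886 F77768) (tt N13860 F77769) (tt N14002 (iv F78314)))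
theorem Q13888 : ∀ i, i < 13888 → P i := stepQ 13887 Q13887 (allL N13887 (tt N13848 F77770) (tt N13703 F77771) (tt N13904 (iv F77850)) (tt N13846 F77772) (tt N13702 F77773) (tt N14009 D19896) (tt N13701 (iv D19774)) (tt N13772 F77774) (tt N14000 (iv F78299)))
theorem Q13889 : ∀ i, i < 13889 → P i := stepQ 13888 Q13888 (allL N13888 (tt N14002 (iv F78307)) (tt N14009 (iv F78351)) (tt N14004 (iv F78322)) (tt N13847 F77775) (tt N13725 F77776) (tt N13703 (iv D19775)) (tt N13888 F77777) (tt N13811 F77778) (tt N14001 (iv F78306)))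
theorem Q13890 : ∀ i, i < 13890 → P i := stepQ 13889 Q13889 (allL N13889 (tt N13939 (iv F78009)) (tt N13967 (iv F78141)) (tt N13713 F77779) (tt N13934 (iv F77985)) (tt N13705 F77780) (tt N14010 D19897) (tt N13704 (iv D19776)) (tt N13746 F77781) (tt N13872 F77782))
theorem Q13891 : ∀ i, i < 13891 → P i := stepQ 13890 Q13890 (allL N13890 (tt N13744 F77783) (tt N13708 F77784) (tt N13962 (iv F78121)) (tt N13716 F77785) (tt N13706 (iv D19777)) (tt N13890 F77786) (tt N14011 D19898) (tt N13868 F77787) (tt N13711 F77788))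
theorem Q13892 : ∀ i, i < 13892 → P i := stepQ 13891 Q13891 (allL N13891 (tt N13745 F77789) (tt N13709 F77790) (tt N13963 (iv F78127)) (tt N13707 F77791) (tt N14011 (iv F78363)) (tt N13823 F77792) (tt N13706 (iv D19778)) (tt N13869 F77793) (tt N13712 F77794))
theorem Q13893 : ∀ i, i < 13893 → P i := stepQ 13892 Q13892 (allL N13892 (tt N13938 (iv F78002)) (tt N14011 (iv F78361)) (tt N13872 F77795) (tt N13719 F77796) (tt N13709 F77797) (tt N14012 D19899) (tt N13708 (iv D19779)) (tt N13870 F77798) (tt N13713 F77799))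
theorem Q13894 : ∀ i, i < 13894 → P i := stepQ 13893 Q13893 (allL N13893 (tt N13747 F77800) (tt N13959 (iv F78105)) (tt N13711 F77801) (tt N13857 F77802) (tt N13710 (iv D19780)) (tt N13893 F77803) (tt N14013 D19900) (tt N13759 F77804) (tt N13962 (iv F78124)))
theorem Q13895 : ∀ i, i < 13895 → P i := stepQ 13894 Q13894 (allL N13894 (tt N13748 F77805) (tt N13960 (iv F78111)) (tt N13712 F77806) (tt N13757 F77807) (tt N14013 (iv F78375)) (tt N13819 F77808) (tt N13710 (iv D19781)) (tt N13760 F77809) (tt N13963 (iv F78131)))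
theorem Q13896 : ∀ i, i < 13896 → P i := stepQ 13895 Q13895 (allL N13895 (tt N13749 F77810) (tt N13713 F77811) (tt N14013 (iv F78373)) (tt N13724 F77812) (tt N13712 F77813) (tt N14014 D19901) (tt N13711 (iv D19782)) (tt N13761 F77814) (tt N14011 (iv F78365)))
theorem Q13897 : ∀ i, i < 13897 → P i := stepQ 13896 Q13896 (allL N13896 (tt N14003 (iv F78315)) (tt N14014 (iv F78378)) (tt N14010 (iv F78356)) (tt N13725 F77815) (tt N13999 (iv F78290)) (tt N13713 (iv D19783)) (tt N13896 F77816) (tt N13944 (iv F78034)) (tt N14012 (iv F78371)))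
theorem Q13898 : ∀ i, i < 13898 → P i := stepQ 13897 Q13897 (allL N13897 (tt N13716 F77817) (tt N13737 F77818) (tt N13873 F77819) (tt N13744 F77820) (tt N13714 (iv D19784)) (tt N13897 F77821) (tt N14015 D19902) (tt N13970 (iv F78162)) (tt N13722 F77822))
theorem Q13899 : ∀ i, i < 13899 → P i := stepQ 13898 Q13898 (allL N13898 (tt N13717 F77823) (tt N13738 F77824) (tt N13874 F77825) (tt N13715 F77826) (tt N14015 (iv F78387)) (tt N13850 F77827) (tt N13714 (iv D19785)) (tt N13971 (iv F78169)) (tt N13723 F77828))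
theorem Q13900 : ∀ i, i < 13900 → P i := stepQ 13899 Q13899 (allL N13899 (tt N14015 (iv F78383)) (tt N13719 F77829) (tt N13987 (iv F78233)) (tt N14011 (iv F78362)) (tt N13717 F77830) (tt N14016 D19903) (tt N13716 (iv D19786)) (tt N14017 D19904) (tt N13724 F77831))
theorem Q13901 : ∀ i, i < 13901 → P i := stepQ 13900 Q13900 (allL N13900 (tt N13970 (iv F78158)) (tt N13720 F77832) (tt N13968 (iv F78147)) (tt N13946 (iv F78045)) (tt N13718 F77833) (tt N13900 F77834) (tt N14017 (iv F78394)) (tt N13716 (iv D19787)) (tt N13783 F77835))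
theorem Q13902 : ∀ i, i < 13902 → P i := stepQ 13901 Q13901 (allL N13901 (tt N13971 (iv F78164)) (tt N13721 F77836) (tt N13969 (iv F78154)) (tt N13756 F77837) (tt N14017 (iv F78393)) (tt N13828 F77838) (tt N13718 F77839) (tt N13717 (iv D19788)) (tt N13784 F77840))
theorem Q13903 : ∀ i, i < 13903 → P i := stepQ 13902 Q13902 (allL N13902 (tt N14004 (iv F78321)) (tt N14016 (iv F78389)) (tt N14002 (iv F78309)) (tt N14012 (iv F78367)) (tt N14001 (iv F78303)) (tt N13719 (iv D19789)) (tt N13902 F77841) (tt N14018 D19905) (tt N13725 F77842))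
theorem Q13904 : ∀ i, i < 13904 → P i := stepQ 13903 Q13903 (allL N13903 (tt N13797 F77843) (tt N14017 (iv F78392)) (tt N13806 F77844) (tt N13948 (iv F78057)) (tt N13721 F77845) (tt N14018 (iv F78399)) (tt N13720 F77846) (tt N13719 (iv D19790)) (tt N13865 F77847))
theorem Q13905 : ∀ i, i < 13905 → P i := stepQ 13904 Q13904 (allL N13904 (tt N13724 F77848) (tt N13739 F77849) (tt N13887 F77850) (tt N13749 F77851) (tt N13723 F77852) (tt N14019 D19906) (tt N13722 (iv D19791)) (tt N13776 F77853) (tt N14015 (iv F78388)))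
theorem Q13906 : ∀ i, i < 13906 → P i := stepQ 13905 Q13905 (allL N13905 (tt N14019 (iv F78402)) (tt N13725 F77854) (tt N13986 (iv F78229)) (tt N14014 (iv F78379)) (tt N14009 (iv F78353)) (tt N13724 (iv D19792)) (tt N13905 F77855) (tt N13785 F77856) (tt N14016 (iv F78391)))
theorem Q13907 : ∀ i, i < 13907 → P i := stepQ 13906 Q13906 (allL N13906 (tt N13993 (iv F78255)) (tt N13768 F77857) (tt N13908 (iv F77869)) (tt N13820 F77858) (tt N13788 F77859) (tt N13726 (iv D19793)) (tt N13906 F77860) (tt N13750 F77861) (tt N13871 F77862))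
theorem Q13908 : ∀ i, i < 13908 → P i := stepQ 13907 Q13907 (allL N13907 (tt N13821 F77863) (tt N13729 F77864) (tt N13930 (iv F77970)) (tt N13838 F77865) (tt N13728 F77866) (tt N14020 D19907) (tt N13727 (iv D19794)) (tt N13758 F77867) (tt N13997 (iv F78281)))
theorem Q13909 : ∀ i, i < 13909 → P i := stepQ 13908 Q13908 (allL N13908 (tt N13863 F77868) (tt N14020 (iv F78410)) (tt N13906 F77869) (tt N13839 F77870) (tt N13750 F77871) (tt N13729 (iv D19795)) (tt N13908 F77872) (tt N13788 F77873) (tt N13998 (iv F78287)))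
theorem Q13910 : ∀ i, i < 13910 → P i := stepQ 13909 Q13909 (allL N13909 (tt N13746 F77874) (tt N13938 (iv F78003)) (tt N13786 F77875) (tt N13911 (iv F77883)) (tt N13731 F77876) (tt N14021 D19908) (tt N13730 (iv D19796)) (tt N13939 (iv F78014)) (tt N13732 F77877))
theorem Q13911 : ∀ i, i < 13911 → P i := stepQ 13910 Q13910 (allL N13910 (tt N13750 F77878) (tt N14003 (iv F78316)) (tt N13932 (iv F77976)) (tt N14005 (iv F78329)) (tt N13863 F77879) (tt N13732 (iv D19797)) (tt N13910 F77880) (tt N13993 (iv F78261)) (tt N14021 (iv F78419)))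
theorem Q13912 : ∀ i, i < 13912 → P i := stepQ 13911 Q13911 (allL N13911 (tt N13913 (iv F77892)) (tt N13879 F77881) (tt N13739 F77882) (tt N13909 F77883) (tt N13734 F77884) (tt N14022 D19909) (tt N13733 (iv D19798)) (tt N13949 (iv F78065)) (tt N13880 F77885))
theorem Q13913 : ∀ i, i < 13913 → P i := stepQ 13912 Q13912 (allL N13912 (tt N13809 F77886) (tt N13848 F77887) (tt N13885 F77888) (tt N13806 F77889) (tt N13736 F77890) (tt N14023 D19910) (tt N13735 (iv D19799)) (tt N13846 F77891) (tt N13956 (iv F78098)))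
theorem Q13914 : ∀ i, i < 13914 → P i := stepQ 13913 Q13913 (allL N13913 (tt N13911 F77892) (tt N14015 (iv F78384)) (tt N13880 F77893) (tt N13746 F77894) (tt N13738 F77895) (tt N14024 D19911) (tt N13737 (iv D19800)) (tt N13978 (iv F78200)) (tt N13739 F77896))
theorem Q13915 : ∀ i, i < 13915 → P i := stepQ 13914 Q13914 (allL N13914 (tt N14005 (iv F78327)) (tt N14019 (iv F78403)) (tt N14022 (iv F78421)) (tt N13750 F77897) (tt N14023 (iv F78430)) (tt N13739 (iv D19801)) (tt N13914 F77898) (tt N14025 D19912) (tt N14024 (iv F78437)))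
theorem Q13916 : ∀ i, i < 13916 → P i := stepQ 13915 Q13915 (allL N13915 (tt N13838 F77899) (tt N13776 F77900) (tt N13949 (iv F78062)) (tt N13821 F77901) (tt N13741 F77902) (tt N14025 (iv F78442)) (tt N13740 F77903) (tt N13739 (iv D19802)) (tt N14026 D19913))
theorem Q13917 : ∀ i, i < 13917 → P i := stepQ 13916 Q13916 (allL N13916 (tt N13833 F77904) (tt N13773 F77905) (tt N13946 (iv F78044)) (tt N13822 F77906) (tt N13742 F77907) (tt N13916 F77908) (tt N14026 (iv F78448)) (tt N13974 (iv F78183)) (tt N13740 (iv D19803)))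
theorem Q13918 : ∀ i, i < 13918 → P i := stepQ 13917 Q13917 (allL N13917 (tt N13834 F77909) (tt N13774 F77910) (tt N13947 (iv F78050)) (tt N13751 F77911) (tt N14026 (iv F78447)) (tt N13841 F77912) (tt N13742 F77913) (tt N13975 (iv F78189)) (tt N13741 (iv D19804)))
theorem Q13919 : ∀ i, i < 13919 → P i := stepQ 13918 Q13918 (allL N13918 (tt N13962 (iv F78119)) (tt N13759 F77914) (tt N13744 F77915) (tt N13854 F77916) (tt N13743 (iv D19805)) (tt N13918 F77917) (tt N14027 D19914) (tt N13959 (iv F78108)) (tt N13747 F77918))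
theorem Q13920 : ∀ i, i < 13920 → P i := stepQ 13919 Q13919 (allL N13919 (tt N13963 (iv F78125)) (tt N13760 F77919) (tt N13745 F77920) (tt N13755 F77921) (tt N14027 (iv F78452)) (tt N13815 F77922) (tt N13743 (iv D19806)) (tt N13960 (iv F78114)) (tt N13748 F77923))
theorem Q13921 : ∀ i, i < 13921 → P i := stepQ 13920 Q13920 (allL N13920 (tt N14011 (iv F78360)) (tt N13746 F77924) (tt N14027 (iv F78450)) (tt N14015 (iv F78386)) (tt N13745 F77925) (tt N14028 D19915) (tt N13744 (iv D19807)) (tt N13967 (iv F78144)) (tt N13749 F77926))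
theorem Q13922 : ∀ i, i < 13922 → P i := stepQ 13921 Q13921 (allL N13921 (tt N14021 (iv F78415)) (tt N14028 (iv F78454)) (tt N13944 (iv F78030)) (tt N14024 (iv F78435)) (tt N13998 (iv F78285)) (tt N13746 (iv D19808)) (tt N13921 F77927) (tt N14010 (iv F78358)) (tt N13750 F77928))
theorem Q13923 : ∀ i, i < 13923 → P i := stepQ 13922 Q13922 (allL N13922 (tt N14013 (iv F78372)) (tt N13852 F77929) (tt N13749 F77930) (tt N13859 F77931) (tt N13748 F77932) (tt N14029 D19916) (tt N13747 (iv D19809)) (tt N13767 F77933) (tt N14027 (iv F78453)))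
theorem Q13924 : ∀ i, i < 13924 → P i := stepQ 13923 Q13923 (allL N13923 (tt N14014 (iv F78377)) (tt N13750 F77934) (tt N14029 (iv F78458)) (tt N14019 (iv F78405)) (tt N14020 (iv F78412)) (tt N13749 (iv D19810)) (tt N13923 F77935) (tt N13768 F77936) (tt N14028 (iv F78456)))
theorem Q13925 : ∀ i, i < 13925 → P i := stepQ 13924 Q13924 (allL N13924 (tt N13755 F77937) (tt N13764 F77938) (tt N13753 F77939) (tt N13963 (iv F78128)) (tt N13853 F77940) (tt N13813 F77941) (tt N13752 (iv D19811)) (tt N13831 F77942) (tt N13757 F77943))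
theorem Q13926 : ∀ i, i < 13926 → P i := stepQ 13925 Q13925 (allL N13925 (tt N13756 F77944) (tt N13794 F77945) (tt N13831 F77946) (tt N13971 (iv F78167)) (tt N13945 (iv F78039)) (tt N13825 F77947) (tt N13754 F77948) (tt N13753 (iv D19812)) (tt N13866 F77949))
theorem Q13927 : ∀ i, i < 13927 → P i := stepQ 13926 Q13926 (allL N13926 (tt N13820 F77950) (tt N13788 F77951) (tt N13988 (iv F78237)) (tt N13993 (iv F78258)) (tt N13768 F77952) (tt N13758 (iv D19813)) (tt N13926 F77953) (tt N14020 (iv F78414)) (tt N13928 (iv F77962)))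
theorem Q13928 : ∀ i, i < 13928 → P i := stepQ 13927 Q13927 (allL N13927 (tt N13767 F77954) (tt N14027 (iv F78449)) (tt N13761 F77955) (tt N13856 F77956) (tt N13760 F77957) (tt N14030 D19917) (tt N13759 (iv D19814)) (tt N14013 (iv F78376)) (tt N13852 F77958))
theorem Q13929 : ∀ i, i < 13929 → P i := stepQ 13928 Q13928 (allL N13928 (tt N13768 F77959) (tt N13944 (iv F78029)) (tt N14030 (iv F78463)) (tt N13996 (iv F78271)) (tt N13820 F77960) (tt N13761 (iv D19815)) (tt N13928 F77961) (tt N14014 (iv F78382)) (tt N13926 F77962))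
theorem Q13930 : ∀ i, i < 13930 → P i := stepQ 13929 Q13929 (allL N13929 (tt N13856 F77963) (tt N14007 (iv F78340)) (tt N13835 F77964) (tt N13767 F77965) (tt N13763 F77966) (tt N14031 D19918) (tt N13762 (iv D19816)) (tt N13810 F77967) (tt N13829 F77968))
theorem Q13931 : ∀ i, i < 13931 → P i := stepQ 13930 Q13930 (allL N13930 (tt N13965 (iv F78135)) (tt N13767 F77969) (tt N13907 F77970) (tt N14007 (iv F78341)) (tt N13766 F77971) (tt N14032 D19919) (tt N13765 (iv D19817)) (tt N13852 F77972) (tt N13961 (iv F78118)))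
theorem Q13932 : ∀ i, i < 13932 → P i := stepQ 13931 Q13931 (allL N13931 (tt N14030 (iv F78462)) (tt N14032 (iv F78475)) (tt N13768 F77973) (tt N14031 (iv F78470)) (tt N13988 (iv F78239)) (tt N13767 (iv D19818)) (tt N13931 F77974) (tt N14029 (iv F78461)) (tt N13964 (iv F78134)))
theorem Q13933 : ∀ i, i < 13933 → P i := stepQ 13932 Q13932 (allL N13932 (tt N13788 F77975) (tt N13996 (iv F78269)) (tt N13910 F77976) (tt N13944 (iv F78031)) (tt N13993 (iv F78259)) (tt N13771 (iv D19819)) (tt N13932 F77977) (tt N13863 F77978) (tt N13943 (iv F78027)))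
theorem Q13934 : ∀ i, i < 13934 → P i := stepQ 13933 Q13933 (allL N13933 (tt N13847 F77979) (tt N13811 F77980) (tt N13937 (iv F77999)) (tt N14002 (iv F78310)) (tt N13785 F77981) (tt N13772 (iv D19820)) (tt N13933 F77982) (tt N14009 (iv F78355)) (tt N14006 (iv F78338)))
theorem Q13935 : ∀ i, i < 13935 → P i := stepQ 13934 Q13934 (allL N13934 (tt N13782 F77983) (tt N14026 (iv F78445)) (tt N13882 F77984) (tt N13889 F77985) (tt N13774 F77986) (tt N14033 D19920) (tt N13773 (iv D19821)) (tt N14034 D19921) (tt N13776 F77987))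
theorem Q13936 : ∀ i, i < 13936 → P i := stepQ 13935 Q13935 (allL N13935 (tt N13783 F77988) (tt N13974 (iv F78179)) (tt N13883 F77989) (tt N13836 F77990) (tt N13775 F77991) (tt N13935 F77992) (tt N14034 (iv F78490)) (tt N13773 (iv D19822)) (tt N13970 (iv F78163)))
theorem Q13937 : ∀ i, i < 13937 → P i := stepQ 13936 Q13936 (allL N13936 (tt N13784 F77993) (tt N13975 (iv F78186)) (tt N13884 F77994) (tt N13866 F77995) (tt N14034 (iv F78489)) (tt N13845 F77996) (tt N13775 F77997) (tt N13774 (iv D19823)) (tt N13971 (iv F78170)))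
theorem Q13938 : ∀ i, i < 13938 → P i := stepQ 13937 Q13937 (allL N13937 (tt N13785 F77998) (tt N14025 (iv F78439)) (tt N13933 F77999) (tt N13999 F78293) (tt N13847 F78000) (tt N13776 (iv D19824)) (tt N13937 F78001) (tt N14019 (iv F78408)) (tt N14033 (iv F78485)))
theorem Q13939 : ∀ i, i < 13939 → P i := stepQ 13938 Q13938 (allL N13938 (tt N13892 F78002) (tt N13909 F78003) (tt N13781 F78004) (tt N13879 F78005) (tt N13778 F78006) (tt N14035 D19922) (tt N13777 (iv D19825)) (tt N13862 F78007) (tt N13878 F78008))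
theorem Q13940 : ∀ i, i < 13940 → P i := stepQ 13939 Q13939 (allL N13939 (tt N13889 F78009) (tt N13862 F78010) (tt N13878 F78011) (tt N13782 F78012) (tt N13780 F78013) (tt N14036 D19923) (tt N13779 (iv D19826)) (tt N13909 F78014) (tt N13781 F78015))
theorem Q13941 : ∀ i, i < 13941 → P i := stepQ 13940 Q13940 (allL N13940 (tt N13999 (iv F78288)) (tt N13863 F78016) (tt N14035 (iv F78493)) (tt N13785 F78017) (tt N14003 (iv F78318)) (tt N13781 (iv D19827)) (tt N13940 F78018) (tt N13996 (iv F78274)) (tt N14036 (iv F78505)))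
theorem Q13942 : ∀ i, i < 13942 → P i := stepQ 13941 Q13941 (allL N13941 (tt N14033 (iv F78480)) (tt N13864 F78019) (tt N13983 (iv F78220)) (tt N14036 (iv F78501)) (tt N14006 (iv F78336)) (tt N13782 (iv D19828)) (tt N13941 F78020) (tt N14037 D19924) (tt N13785 F78021))
theorem Q13943 : ∀ i, i < 13943 → P i := stepQ 13942 Q13942 (allL N13942 (tt N14034 (iv F78486)) (tt N13865 F78022) (tt N13984 (iv F78223)) (tt N13949 (iv F78063)) (tt N13784 F78023) (tt N14037 (iv F78507)) (tt N13783 F78024) (tt N13782 (iv D19829)) (tt N14017 (iv F78395)))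
theorem Q13944 : ∀ i, i < 13944 → P i := stepQ 13943 Q13943 (allL N13943 (tt N13944 (iv F78028)) (tt N13993 (iv F78256)) (tt N14021 (iv F78416)) (tt N13788 F78025) (tt N13996 (iv F78272)) (tt N13786 (iv D19830)) (tt N13943 F78026) (tt N14003 (iv F78320)) (tt N13932 F78027))
theorem Q13945 : ∀ i, i < 13945 → P i := stepQ 13944 Q13944 (allL N13944 (tt N13943 F78028) (tt N13928 F78029) (tt N13921 F78030) (tt N13932 F78031) (tt N13871 F78032) (tt N13787 (iv D19831)) (tt N13944 F78033) (tt N13896 F78034) (tt N13788 F78035))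
theorem Q13946 : ∀ i, i < 13946 → P i := stepQ 13945 Q13945 (allL N13945 (tt N13791 F78036) (tt N13866 F78037) (tt N13799 F78038) (tt N13975 (iv F78188)) (tt N13925 F78039) (tt N13853 F78040) (tt N13789 (iv D19832)) (tt N13851 F78041) (tt N13794 F78042))
theorem Q13947 : ∀ i, i < 13947 → P i := stepQ 13946 Q13946 (allL N13946 (tt N13974 (iv F78178)) (tt N13792 F78043) (tt N13916 F78044) (tt N13900 F78045) (tt N13790 (iv D19833)) (tt N13946 F78046) (tt N14038 D19925) (tt N13833 F78047) (tt N13795 F78048))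
theorem Q13948 : ∀ i, i < 13948 → P i := stepQ 13947 Q13947 (allL N13947 (tt N13975 (iv F78185)) (tt N13793 F78049) (tt N13917 F78050) (tt N13791 F78051) (tt N14038 (iv F78512)) (tt N13855 F78052) (tt N13790 (iv D19834)) (tt N13834 F78053) (tt N13796 F78054))
theorem Q13949 : ∀ i, i < 13949 → P i := stepQ 13948 Q13948 (allL N13948 (tt N13865 F78055) (tt N14038 (iv F78509)) (tt N13810 F78056) (tt N13903 F78057) (tt N13793 F78058) (tt N14039 D19926) (tt N13792 (iv D19835)) (tt N13835 F78059) (tt N13797 F78060))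
theorem Q13950 : ∀ i, i < 13950 → P i := stepQ 13949 Q13949 (allL N13949 (tt N13978 (iv F78197)) (tt N13797 F78061) (tt N13915 F78062) (tt N13942 F78063) (tt N13796 F78064) (tt N14040 D19927) (tt N13795 (iv D19836)) (tt N13911 F78065) (tt N14038 (iv F78514)))
theorem Q13951 : ∀ i, i < 13951 → P i := stepQ 13950 Q13950 (allL N13950 (tt N14018 (iv F78396)) (tt N14040 (iv F78522)) (tt N13811 F78066) (tt N13995 F78267) (tt N13860 F78067) (tt N13797 (iv D19837)) (tt N13950 F78068) (tt N14004 (iv F78325)) (tt N14039 (iv F78521)))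
theorem Q13952 : ∀ i, i < 13952 → P i := stepQ 13951 Q13951 (allL N13951 (tt N13840 F78069) (tt N13802 F78070) (tt N13981 (iv F78208)) (tt N13849 F78071) (tt N13800 (iv D19838)) (tt N13951 F78072) (tt N14041 D19928) (tt N13854 F78073) (tt N13804 F78074))
theorem Q13953 : ∀ i, i < 13953 → P i := stepQ 13952 Q13952 (allL N13952 (tt N13841 F78075) (tt N13803 F78076) (tt N13982 (iv F78215)) (tt N13801 F78077) (tt N14041 (iv F78531)) (tt N13834 F78078) (tt N13800 (iv D19839)) (tt N13855 F78079) (tt N13805 F78080))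
theorem Q13954 : ∀ i, i < 13954 → P i := stepQ 13953 Q13953 (allL N13953 (tt N13810 F78081) (tt N14041 (iv F78529)) (tt N13865 F78082) (tt N13956 (iv F78096)) (tt N13803 F78083) (tt N14042 D19929) (tt N13802 (iv D19840)) (tt N13856 F78084) (tt N13806 F78085))
theorem Q13955 : ∀ i, i < 13955 → P i := stepQ 13954 Q13954 (allL N13954 (tt N13846 F78086) (tt N13806 F78087) (tt N13991 (iv F78249)) (tt N13848 F78088) (tt N13805 F78089) (tt N14043 D19930) (tt N13804 (iv D19841)) (tt N13809 F78090) (tt N14041 (iv F78533)))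
theorem Q13956 : ∀ i, i < 13956 → P i := stepQ 13955 Q13955 (allL N13955 (tt N13811 F78091) (tt N14043 (iv F78541)) (tt N14018 (iv F78397)) (tt N14023 (iv F78429)) (tt N13839 F78092) (tt N13806 (iv D19842)) (tt N13955 F78093) (tt N14002 (iv F78313)) (tt N14042 (iv F78539)))
theorem Q13957 : ∀ i, i < 13957 → P i := stepQ 13956 Q13956 (allL N13956 (tt N13885 F78094) (tt N13987 (iv F78232)) (tt N13809 F78095) (tt N13953 F78096) (tt N13808 F78097) (tt N14044 D19931) (tt N13807 (iv D19843)) (tt N13991 (iv F78251)) (tt N13912 F78098))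
theorem Q13958 : ∀ i, i < 13958 → P i := stepQ 13957 Q13957 (allL N13957 (tt N14023 (iv F78426)) (tt N14002 (iv F78308)) (tt N14044 (iv F78547)) (tt N13811 F78099) (tt N14005 (iv F78330)) (tt N13809 (iv D19844)) (tt N13957 F78100) (tt N14043 (iv F78545)) (tt N14008 (iv F78349)))
theorem Q13959 : ∀ i, i < 13959 → P i := stepQ 13958 Q13958 (allL N13958 (tt N14042 (iv F78534)) (tt N14006 (iv F78334)) (tt N14039 (iv F78516)) (tt N14008 (iv F78346)) (tt N13864 F78101) (tt N13810 (iv D19845)) (tt N13958 F78102) (tt N14031 (iv F78473)) (tt N13811 F78103))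
theorem Q13960 : ∀ i, i < 13960 → P i := stepQ 13959 Q13959 (allL N13959 (tt N13814 F78104) (tt N13893 F78105) (tt N13822 F78106) (tt N13968 (iv F78148)) (tt N13812 (iv D19846)) (tt N13959 F78107) (tt N14045 D19932) (tt N13918 F78108) (tt N13818 F78109))
theorem Q13961 : ∀ i, i < 13961 → P i := stepQ 13960 Q13960 (allL N13960 (tt N13815 F78110) (tt N13894 F78111) (tt N13823 F78112) (tt N13813 F78113) (tt N14045 (iv F78555)) (tt N13963 (iv F78129)) (tt N13812 (iv D19847)) (tt N13919 F78114) (tt N13819 F78115))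
theorem Q13962 : ∀ i, i < 13962 → P i := stepQ 13961 Q13961 (allL N13961 (tt N14045 (iv F78552)) (tt N13817 F78116) (tt N13997 (iv F78278)) (tt N13972 (iv F78172)) (tt N13815 F78117) (tt N14046 D19933) (tt N13814 (iv D19848)) (tt N14047 D19934) (tt N13930 F78118))
theorem Q13963 : ∀ i, i < 13963 → P i := stepQ 13962 Q13962 (allL N13962 (tt N13918 F78119) (tt N13818 F78120) (tt N13890 F78121) (tt N13981 (iv F78209)) (tt N13816 F78122) (tt N13962 F78123) (tt N14047 (iv F78565)) (tt N13814 (iv D19849)) (tt N13893 F78124))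
theorem Q13964 : ∀ i, i < 13964 → P i := stepQ 13963 Q13963 (allL N13963 (tt N13919 F78125) (tt N13819 F78126) (tt N13891 F78127) (tt N13924 F78128) (tt N14047 (iv F78564)) (tt N13960 F78129) (tt N13816 F78130) (tt N13815 (iv D19850)) (tt N13894 F78131))
theorem Q13965 : ∀ i, i < 13965 → P i := stepQ 13964 Q13964 (allL N13964 (tt N13988 (iv F78236)) (tt N14046 (iv F78558)) (tt N13820 F78132) (tt N13973 (iv F78176)) (tt N14030 (iv F78465)) (tt N13817 (iv D19851)) (tt N13964 F78133) (tt N14048 D19935) (tt N13931 F78134))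
theorem Q13966 : ∀ i, i < 13966 → P i := stepQ 13965 Q13965 (allL N13965 (tt N13930 F78135) (tt N14047 (iv F78562)) (tt N13821 F78136) (tt N13984 (iv F78224)) (tt N13819 F78137) (tt N14048 (iv F78569)) (tt N13818 F78138) (tt N13817 (iv D19852)) (tt N14045 (iv F78557)))
theorem Q13967 : ∀ i, i < 13967 → P i := stepQ 13966 Q13966 (allL N13966 (tt N14020 (iv F78409)) (tt N13999 (iv F78289)) (tt N14048 (iv F78568)) (tt N14025 (iv F78440)) (tt N14014 (iv F78380)) (tt N13821 F78139) (tt N13966 F78140) (tt N13820 (iv D19853)) (tt N14049 D19936))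
theorem Q13968 : ∀ i, i < 13968 → P i := stepQ 13967 Q13967 (allL N13967 (tt N13997 (iv F78276)) (tt N13889 F78141) (tt N14045 (iv F78554)) (tt N14026 (iv F78446)) (tt N13823 F78142) (tt N14049 (iv F78572)) (tt N13822 F78143) (tt N13920 F78144) (tt N13821 (iv D19854)))
theorem Q13969 : ∀ i, i < 13969 → P i := stepQ 13968 Q13968 (allL N13968 (tt N13827 F78145) (tt N13857 F78146) (tt N13900 F78147) (tt N13959 F78148) (tt N13824 (iv D19855)) (tt N13968 F78149) (tt N14050 D19937) (tt N13849 F78150) (tt N13844 F78151))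
theorem Q13970 : ∀ i, i < 13970 → P i := stepQ 13969 Q13969 (allL N13969 (tt N13828 F78152) (tt N13858 F78153) (tt N13901 F78154) (tt N13825 F78155) (tt N14050 (iv F78579)) (tt N13971 (iv F78168)) (tt N13824 (iv D19856)) (tt N13850 F78156) (tt N13845 F78157))
theorem Q13971 : ∀ i, i < 13971 → P i := stepQ 13970 Q13970 (allL N13970 (tt N13900 F78158) (tt N13836 F78159) (tt N13827 F78160) (tt N13974 (iv F78181)) (tt N13826 (iv D19857)) (tt N13970 F78161) (tt N14051 D19938) (tt N13897 F78162) (tt N13935 F78163))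
theorem Q13972 : ∀ i, i < 13972 → P i := stepQ 13971 Q13971 (allL N13971 (tt N13901 F78164) (tt N13837 F78165) (tt N13828 F78166) (tt N13925 F78167) (tt N14051 (iv F78585)) (tt N13969 F78168) (tt N13826 (iv D19858)) (tt N13898 F78169) (tt N13936 F78170))
theorem Q13973 : ∀ i, i < 13973 → P i := stepQ 13972 Q13972 (allL N13972 (tt N14050 (iv F78575)) (tt N13829 F78171) (tt N14051 (iv F78584)) (tt N13961 F78172) (tt N13828 F78173) (tt N14052 D19939) (tt N13827 (iv D19859)) (tt N14000 (iv F78298)) (tt N14007 (iv F78344)))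
theorem Q13974 : ∀ i, i < 13974 → P i := stepQ 13973 Q13973 (allL N13973 (tt N13860 F78174) (tt N14052 (iv F78588)) (tt N13839 F78175) (tt N13964 F78176) (tt N14018 (iv F78398)) (tt N13829 (iv D19860)) (tt N13973 F78177) (tt N14001 (iv F78305)) (tt N14031 (iv F78474)))
theorem Q13975 : ∀ i, i < 13975 → P i := stepQ 13974 Q13974 (allL N13974 (tt N13946 F78178) (tt N13935 F78179) (tt N13833 F78180) (tt N13970 F78181) (tt N13832 (iv D19861)) (tt N13974 F78182) (tt N14053 D19940) (tt N13916 F78183) (tt N13836 F78184))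
theorem Q13976 : ∀ i, i < 13976 → P i := stepQ 13975 Q13975 (allL N13975 (tt N13947 F78185) (tt N13936 F78186) (tt N13834 F78187) (tt N13945 F78188) (tt N14053 (iv F78595)) (tt N13982 (iv F78217)) (tt N13832 (iv D19862)) (tt N13917 F78189) (tt N13837 F78190))
theorem Q13977 : ∀ i, i < 13977 → P i := stepQ 13976 Q13976 (allL N13976 (tt N14026 (iv F78444)) (tt N13835 F78191) (tt N14053 (iv F78593)) (tt N13997 (iv F78279)) (tt N13834 F78192) (tt N14054 D19941) (tt N13833 (iv D19863)) (tt N14038 (iv F78513)) (tt N13838 F78193))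
theorem Q13978 : ∀ i, i < 13978 → P i := stepQ 13977 Q13977 (allL N13977 (tt N13864 F78194) (tt N14054 (iv F78598)) (tt N14031 (iv F78469)) (tt N13998 (iv F78284)) (tt N14042 (iv F78536)) (tt N13835 (iv D19864)) (tt N13977 F78195) (tt N14039 (iv F78520)) (tt N13839 F78196))
theorem Q13979 : ∀ i, i < 13979 → P i := stepQ 13978 Q13978 (allL N13978 (tt N13949 F78197) (tt N14051 (iv F78583)) (tt N13838 F78198) (tt N14034 (iv F78488)) (tt N13837 F78199) (tt N14055 D19942) (tt N13836 (iv D19865)) (tt N13913 F78200) (tt N14053 (iv F78597)))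
theorem Q13980 : ∀ i, i < 13980 → P i := stepQ 13979 Q13979 (allL N13979 (tt N14025 (iv F78438)) (tt N13839 F78201) (tt N14055 (iv F78602)) (tt N14020 (iv F78411)) (tt N14043 (iv F78543)) (tt N13838 (iv D19866)) (tt N13979 F78202) (tt N14005 (iv F78332)) (tt N14054 (iv F78600)))
theorem Q13981 : ∀ i, i < 13981 → P i := stepQ 13980 Q13980 (allL N13980 (tt N14041 (iv F78528)) (tt N13843 F78203) (tt N13989 (iv F78242)) (tt N14000 (iv F78296)) (tt N13841 F78204) (tt N14056 D19943) (tt N13840 (iv D19867)) (tt N14057 D19944) (tt N13846 F78205))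
theorem Q13982 : ∀ i, i < 13982 → P i := stepQ 13981 Q13981 (allL N13981 (tt N13854 F78206) (tt N13844 F78207) (tt N13951 F78208) (tt N13962 F78209) (tt N13842 F78210) (tt N13981 F78211) (tt N14057 (iv F78613)) (tt N13840 (iv D19868)) (tt N13857 F78212))
theorem Q13983 : ∀ i, i < 13983 → P i := stepQ 13982 Q13982 (allL N13982 (tt N13855 F78213) (tt N13845 F78214) (tt N13952 F78215) (tt N13853 F78216) (tt N14057 (iv F78612)) (tt N13975 F78217) (tt N13842 F78218) (tt N13841 (iv D19869)) (tt N13858 F78219))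
theorem Q13984 : ∀ i, i < 13984 → P i := stepQ 13983 Q13983 (allL N13983 (tt N14006 (iv F78333)) (tt N14056 (iv F78605)) (tt N13941 F78220) (tt N14001 (iv F78302)) (tt N14033 (iv F78483)) (tt N13843 (iv D19870)) (tt N13983 F78221) (tt N14058 D19945) (tt N13847 F78222))
theorem Q13985 : ∀ i, i < 13985 → P i := stepQ 13984 Q13984 (allL N13984 (tt N14007 (iv F78339)) (tt N14057 (iv F78609)) (tt N13942 F78223) (tt N13965 F78224) (tt N13845 F78225) (tt N14058 (iv F78617)) (tt N13844 F78226) (tt N13843 (iv D19871)) (tt N14050 (iv F78581)))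
theorem Q13986 : ∀ i, i < 13986 → P i := stepQ 13985 Q13985 (allL N13985 (tt N14043 (iv F78540)) (tt N13847 F78227) (tt N13992 (iv F78253)) (tt N14009 (iv F78352)) (tt N14025 (iv F78441)) (tt N13846 (iv D19872)) (tt N13985 F78228) (tt N14023 (iv F78432)) (tt N14056 (iv F78607)))
theorem Q13987 : ∀ i, i < 13987 → P i := stepQ 13986 Q13986 (allL N13986 (tt N14009 (iv F78350)) (tt N14023 (iv F78427)) (tt N13905 F78229) (tt N14043 (iv F78542)) (tt N14019 (iv F78406)) (tt N13848 F78230) (tt N13986 F78231) (tt N13847 (iv D19873)) (tt N14059 D19946))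
theorem Q13988 : ∀ i, i < 13988 → P i := stepQ 13987 Q13987 (allL N13987 (tt N14000 (iv F78294)) (tt N13956 F78232) (tt N13899 F78233) (tt N14041 (iv F78530)) (tt N13850 F78234) (tt N14059 (iv F78621)) (tt N13849 F78235) (tt N14050 (iv F78580)) (tt N13848 (iv D19874)))
theorem Q13989 : ∀ i, i < 13989 → P i := stepQ 13988 Q13988 (allL N13988 (tt N13964 F78236) (tt N14029 (iv F78457)) (tt N13926 F78237) (tt N13860 F78238) (tt N13931 F78239) (tt N13852 (iv D19875)) (tt N13988 F78240) (tt N14032 (iv F78479)) (tt N14030 (iv F78467)))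
theorem Q13990 : ∀ i, i < 13990 → P i := stepQ 13989 Q13989 (allL N13989 (tt N14057 (iv F78608)) (tt N13856 F78241) (tt N13980 F78242) (tt N14027 (iv F78451)) (tt N13855 F78243) (tt N14060 D19947) (tt N13854 (iv D19876)) (tt N14041 (iv F78532)) (tt N13859 F78244))
theorem Q13991 : ∀ i, i < 13991 → P i := stepQ 13990 Q13990 (allL N13990 (tt N14031 (iv F78468)) (tt N14060 (iv F78623)) (tt N13864 F78245) (tt N14030 (iv F78464)) (tt N14039 (iv F78518)) (tt N13856 (iv D19877)) (tt N13990 F78246) (tt N14042 (iv F78538)) (tt N13860 F78247))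
theorem Q13992 : ∀ i, i < 13992 → P i := stepQ 13991 Q13991 (allL N13991 (tt N13859 F78248) (tt N14050 (iv F78576)) (tt N13954 F78249) (tt N14013 (iv F78374)) (tt N13858 F78250) (tt N14061 D19948) (tt N13857 (iv D19878)) (tt N13956 F78251) (tt N14057 (iv F78614)))
theorem Q13993 : ∀ i, i < 13993 → P i := stepQ 13992 Q13992 (allL N13992 (tt N14061 (iv F78627)) (tt N13860 F78252) (tt N13985 F78253) (tt N14029 (iv F78459)) (tt N14040 (iv F78525)) (tt N13859 (iv D19879)) (tt N13992 F78254) (tt N14008 (iv F78348)) (tt N14060 (iv F78626)))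
theorem Q13994 : ∀ i, i < 13994 → P i := stepQ 13993 Q13993 (allL N13993 (tt N13906 F78255) (tt N13943 F78256) (tt N13863 F78257) (tt N13926 F78258) (tt N13932 F78259) (tt N13861 (iv D19880)) (tt N13993 F78260) (tt N13910 F78261) (tt N13996 (iv F78275)))
theorem Q13995 : ∀ i, i < 13995 → P i := stepQ 13994 Q13994 (allL N13994 (tt N13998 (iv F78282)) (tt N14036 (iv F78499)) (tt N13996 (iv F78270)) (tt N13864 F78262) (tt N14021 (iv F78417)) (tt N13862 (iv D19881)) (tt N13994 F78263) (tt N14035 (iv F78496)) (tt N13863 F78264))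
theorem Q13996 : ∀ i, i < 13996 → P i := stepQ 13995 Q13995 (allL N13995 (tt N14039 (iv F78515)) (tt N14037 (iv F78506)) (tt N14042 (iv F78535)) (tt N13950 (iv F78267)) (tt N14031 (iv F78471)) (tt N13865 F78265) (tt N13995 F78266) (tt N13864 (iv D19882)) (tt N14018 (iv F78401)))
theorem Q13997 : ∀ i, i < 13997 → P i := stepQ 13996 Q13996 (allL N13996 (tt N13871 F78268) (tt N13932 F78269) (tt N13994 F78270) (tt N13928 F78271) (tt N13943 F78272) (tt N13867 (iv D19883)) (tt N13996 F78273) (tt N13940 F78274) (tt N13993 F78275))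
theorem Q13998 : ∀ i, i < 13998 → P i := stepQ 13997 Q13997 (allL N13997 (tt N13967 F78276) (tt N13870 F78277) (tt N13961 F78278) (tt N13976 F78279) (tt N13869 F78280) (tt N14062 D19949) (tt N13868 (iv D19884)) (tt N14011 (iv F78364)) (tt N13907 F78281))
theorem Q13999 : ∀ i, i < 13999 → P i := stepQ 13998 Q13998 (allL N13998 (tt N13994 F78282) (tt N14062 (iv F78633)) (tt N13871 F78283) (tt N13977 F78284) (tt N13921 F78285) (tt N13870 (iv D19885)) (tt N13998 F78286) (tt N14012 (iv F78370)) (tt N13908 F78287))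
theorem Q14000 : ∀ i, i < 14000 → P i := stepQ 13999 Q13999 (allL N13999 (tt N13940 F78288) (tt N13966 F78289) (tt N14012 (iv F78366)) (tt N13937 (iv F78293)) (tt N13896 F78290) (tt N13872 F78291) (tt N13999 F78292) (tt N13871 (iv D19886)) (tt N14010 (iv F78359)))
theorem Q14001 : ∀ i, i < 14001 → P i := stepQ 14000 Q14000 (allL N14000 (tt N13987 F78294) (tt N13875 F78295) (tt N14015 (iv F78385)) (tt N13980 F78296) (tt N13874 F78297) (tt N14063 D19950) (tt N13873 (iv D19887)) (tt N13972 F78298) (tt N13887 F78299))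
theorem Q14002 : ∀ i, i < 14002 → P i := stepQ 14001 Q14001 (allL N14001 (tt N13886 F78300) (tt N14063 (iv F78640)) (tt N13881 F78301) (tt N13983 F78302) (tt N13902 F78303) (tt N13875 (iv D19888)) (tt N14001 F78304) (tt N13973 F78305) (tt N13888 F78306))
theorem Q14003 : ∀ i, i < 14003 → P i := stepQ 14002 Q14002 (allL N14002 (tt N13888 F78307) (tt N13957 F78308) (tt N13902 F78309) (tt N13933 F78310) (tt N13881 F78311) (tt N13877 (iv D19889)) (tt N14002 F78312) (tt N13955 F78313) (tt N13886 F78314))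
theorem Q14004 : ∀ i, i < 14004 → P i := stepQ 14003 Q14003 (allL N14003 (tt N13896 F78315) (tt N13910 F78316) (tt N14036 (iv F78500)) (tt N13881 F78317) (tt N13940 F78318) (tt N13878 (iv D19890)) (tt N14003 F78319) (tt N13943 F78320) (tt N14035 (iv F78497)))
theorem Q14005 : ∀ i, i < 14005 → P i := stepQ 14004 Q14004 (allL N14004 (tt N13902 F78321) (tt N14022 (iv F78420)) (tt N13888 F78322) (tt N14035 (iv F78494)) (tt N13886 F78323) (tt N13879 (iv D19891)) (tt N14004 F78324) (tt N13950 F78325) (tt N13881 F78326))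
theorem Q14006 : ∀ i, i < 14006 → P i := stepQ 14005 Q14005 (allL N14005 (tt N13914 F78327) (tt N13881 F78328) (tt N14024 (iv F78434)) (tt N13910 F78329) (tt N13957 F78330) (tt N13880 (iv D19892)) (tt N14005 F78331) (tt N13979 F78332) (tt N14022 (iv F78425)))
theorem Q14007 : ∀ i, i < 14007 → P i := stepQ 14006 Q14006 (allL N14006 (tt N13983 F78333) (tt N13958 F78334) (tt N14033 (iv F78481)) (tt N13886 F78335) (tt N13941 F78336) (tt N13882 (iv D19893)) (tt N14006 F78337) (tt N14064 D19951) (tt N13933 F78338))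
theorem Q14008 : ∀ i, i < 14008 → P i := stepQ 14007 Q14007 (allL N14007 (tt N13984 F78339) (tt N13929 F78340) (tt N14034 (iv F78487)) (tt N13930 F78341) (tt N13884 F78342) (tt N14064 (iv F78650)) (tt N13883 F78343) (tt N13882 (iv D19894)) (tt N13972 F78344))
theorem Q14009 : ∀ i, i < 14009 → P i := stepQ 14008 Q14008 (allL N14008 (tt N14044 (iv F78546)) (tt N13886 F78345) (tt N14023 (iv F78428)) (tt N13958 F78346) (tt N14022 (iv F78423)) (tt N13885 (iv D19895)) (tt N14008 F78347) (tt N13992 F78348) (tt N13957 F78349))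
theorem Q14010 : ∀ i, i < 14010 → P i := stepQ 14009 Q14009 (allL N14009 (tt N13986 F78350) (tt N13888 F78351) (tt N14019 (iv F78404)) (tt N13985 F78352) (tt N13905 F78353) (tt N13887 (iv D19896)) (tt N14009 F78354) (tt N13933 F78355) (tt N14063 (iv F78645)))
theorem Q14011 : ∀ i, i < 14011 → P i := stepQ 14010 Q14010 (allL N14010 (tt N14036 (iv F78498)) (tt N14049 (iv F78571)) (tt N13896 F78356) (tt N14033 (iv F78482)) (tt N14012 (iv F78368)) (tt N13889 (iv D19897)) (tt N14010 F78357) (tt N13921 F78358) (tt N13999 F78359))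
theorem Q14012 : ∀ i, i < 14012 → P i := stepQ 14011 Q14011 (allL N14011 (tt N13920 F78360) (tt N13892 F78361) (tt N14047 (iv F78563)) (tt N13899 F78362) (tt N13891 F78363) (tt N14065 D19952) (tt N13890 (iv D19898)) (tt N13997 F78364) (tt N13895 F78365))
theorem Q14013 : ∀ i, i < 14013 → P i := stepQ 14012 Q14012 (allL N14012 (tt N14035 (iv F78491)) (tt N14065 (iv F78654)) (tt N13999 F78366) (tt N13902 F78367) (tt N14010 F78368) (tt N13892 (iv D19899)) (tt N14012 F78369) (tt N13998 F78370) (tt N13896 F78371))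
theorem Q14014 : ∀ i, i < 14014 → P i := stepQ 14013 Q14013 (allL N14013 (tt N13922 F78372) (tt N14045 (iv F78553)) (tt N13895 F78373) (tt N13991 F78374) (tt N13894 F78375) (tt N14066 D19953) (tt N13893 (iv D19900)) (tt N13927 F78376) (tt N14047 (iv F78566)))
theorem Q14015 : ∀ i, i < 14015 → P i := stepQ 14014 Q14014 (allL N14014 (tt N13923 F78377) (tt N13896 F78378) (tt N14066 (iv F78661)) (tt N13905 F78379) (tt N13966 F78380) (tt N13895 (iv D19901)) (tt N14014 F78381) (tt N13928 F78382) (tt N14065 (iv F78659)))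
theorem Q14016 : ∀ i, i < 14016 → P i := stepQ 14015 Q14015 (allL N14015 (tt N13899 F78383) (tt N13913 F78384) (tt N14000 F78385) (tt N13920 F78386) (tt N13898 F78387) (tt N14067 D19954) (tt N13897 (iv D19902)) (tt N14051 (iv F78586)) (tt N13904 F78388))
theorem Q14017 : ∀ i, i < 14017 → P i := stepQ 14016 Q14016 (allL N14016 (tt N14067 (iv F78666)) (tt N13902 F78389) (tt N14059 (iv F78620)) (tt N14065 (iv F78655)) (tt N14063 (iv F78642)) (tt N13899 (iv D19903)) (tt N14016 F78390) (tt N14068 D19955) (tt N13905 F78391))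
theorem Q14018 : ∀ i, i < 14018 → P i := stepQ 14017 Q14017 (allL N14017 (tt N14051 (iv F78582)) (tt N13903 F78392) (tt N14050 (iv F78577)) (tt N14038 (iv F78511)) (tt N13901 F78393) (tt N14068 (iv F78675)) (tt N13900 F78394) (tt N13899 (iv D19904)) (tt N13942 F78395))
theorem Q14019 : ∀ i, i < 14019 → P i := stepQ 14018 Q14018 (allL N14018 (tt N13950 F78396) (tt N14068 (iv F78673)) (tt N13955 F78397) (tt N14039 (iv F78517)) (tt N13973 F78398) (tt N13903 F78399) (tt N14018 F78400) (tt N13902 (iv D19905)) (tt N13995 F78401))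
theorem Q14020 : ∀ i, i < 14020 → P i := stepQ 14019 Q14019 (allL N14019 (tt N13905 F78402) (tt N13914 F78403) (tt N14009 F78404) (tt N13923 F78405) (tt N13986 F78406) (tt N13904 (iv D19906)) (tt N14019 F78407) (tt N13937 F78408) (tt N14067 (iv F78672)))
theorem Q14021 : ∀ i, i < 14021 → P i := stepQ 14020 Q14020 (allL N14020 (tt N13966 F78409) (tt N13908 F78410) (tt N14032 (iv F78476)) (tt N13979 F78411) (tt N13923 F78412) (tt N13907 (iv D19907)) (tt N14020 F78413) (tt N13926 F78414) (tt N14062 (iv F78638)))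
theorem Q14022 : ∀ i, i < 14022 → P i := stepQ 14021 Q14021 (allL N14021 (tt N13921 F78415) (tt N14035 (iv F78492)) (tt N13943 F78416) (tt N14022 (iv F78422)) (tt N13994 F78417) (tt N13909 (iv D19908)) (tt N14021 F78418) (tt N14036 (iv F78504)) (tt N13910 F78419))
theorem Q14023 : ∀ i, i < 14023 → P i := stepQ 14022 Q14022 (allL N14022 (tt N14024 (iv F78433)) (tt N14004 F78420) (tt N13914 F78421) (tt N14021 F78422) (tt N14008 F78423) (tt N13911 (iv D19909)) (tt N14022 F78424) (tt N14040 (iv F78527)) (tt N14005 F78425))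
theorem Q14024 : ∀ i, i < 14024 → P i := stepQ 14023 Q14023 (allL N14023 (tt N13957 F78426) (tt N13986 F78427) (tt N14008 F78428) (tt N13955 F78429) (tt N13914 F78430) (tt N13912 (iv D19910)) (tt N14023 F78431) (tt N13985 F78432) (tt N14044 (iv F78551)))
theorem Q14025 : ∀ i, i < 14025 → P i := stepQ 14024 Q14024 (allL N14024 (tt N14022 F78433) (tt N14067 (iv F78667)) (tt N14005 F78434) (tt N13921 F78435) (tt N14044 (iv F78549)) (tt N13913 (iv D19911)) (tt N14024 F78436) (tt N14055 (iv F78604)) (tt N13914 F78437))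
theorem Q14026 : ∀ i, i < 14026 → P i := stepQ 14025 Q14025 (allL N14025 (tt N13979 F78438) (tt N13937 F78439) (tt N14040 (iv F78523)) (tt N13966 F78440) (tt N13985 F78441) (tt N13915 F78442) (tt N14025 F78443) (tt N13914 (iv D19912)) (tt N14069 D19956))
theorem Q14027 : ∀ i, i < 14027 → P i := stepQ 14026 Q14026 (allL N14026 (tt N13976 F78444) (tt N13934 F78445) (tt N14038 (iv F78510)) (tt N13967 F78446) (tt N13917 F78447) (tt N14069 (iv F78682)) (tt N13916 F78448) (tt N14053 (iv F78596)) (tt N13915 (iv D19913)))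
theorem Q14028 : ∀ i, i < 14028 → P i := stepQ 14027 Q14027 (allL N14027 (tt N14047 (iv F78561)) (tt N13927 F78449) (tt N13920 F78450) (tt N13989 F78451) (tt N13919 F78452) (tt N14070 D19957) (tt N13918 (iv D19914)) (tt N14045 (iv F78556)) (tt N13922 F78453))
theorem Q14029 : ∀ i, i < 14029 → P i := stepQ 14028 Q14028 (allL N14028 (tt N14065 (iv F78653)) (tt N13921 F78454) (tt N14070 (iv F78685)) (tt N14067 (iv F78669)) (tt N14062 (iv F78636)) (tt N13920 (iv D19915)) (tt N14028 F78455) (tt N14049 (iv F78574)) (tt N13923 F78456))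
theorem Q14030 : ∀ i, i < 14030 → P i := stepQ 14029 Q14029 (allL N14029 (tt N14066 (iv F78660)) (tt N13988 F78457) (tt N13923 F78458) (tt N13992 F78459) (tt N14032 (iv F78477)) (tt N13922 (iv D19916)) (tt N14029 F78460) (tt N13931 F78461) (tt N14070 (iv F78689)))
theorem Q14031 : ∀ i, i < 14031 → P i := stepQ 14030 Q14030 (allL N14030 (tt N13931 F78462) (tt N14070 (iv F78684)) (tt N13928 F78463) (tt N13990 F78464) (tt N13964 F78465) (tt N13927 (iv D19917)) (tt N14030 F78466) (tt N14066 (iv F78665)) (tt N13988 F78467))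
theorem Q14032 : ∀ i, i < 14032 → P i := stepQ 14031 Q14031 (allL N14031 (tt N13990 F78468) (tt N14064 (iv F78647)) (tt N13977 F78469) (tt N13931 F78470) (tt N13995 F78471) (tt N13929 (iv D19918)) (tt N14031 F78472) (tt N13958 F78473) (tt N13973 F78474))
theorem Q14033 : ∀ i, i < 14033 → P i := stepQ 14032 Q14032 (allL N14032 (tt N14048 (iv F78567)) (tt N13931 F78475) (tt N14020 F78476) (tt N14064 (iv F78648)) (tt N14029 F78477) (tt N13930 (iv D19919)) (tt N14032 F78478) (tt N13988 F78479) (tt N14046 (iv F78560)))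
theorem Q14034 : ∀ i, i < 14034 → P i := stepQ 14033 Q14033 (allL N14033 (tt N13941 F78480) (tt N14069 (iv F78679)) (tt N14006 F78481) (tt N14010 F78482) (tt N13983 F78483) (tt N13934 (iv D19920)) (tt N14033 F78484) (tt N14071 D19958) (tt N13937 F78485))
theorem Q14035 : ∀ i, i < 14035 → P i := stepQ 14034 Q14034 (allL N14034 (tt N13942 F78486) (tt N14053 (iv F78592)) (tt N14007 F78487) (tt N13978 F78488) (tt N13936 F78489) (tt N14071 (iv F78694)) (tt N13935 F78490) (tt N13934 (iv D19921)) (tt N14051 (iv F78587)))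
theorem Q14036 : ∀ i, i < 14036 → P i := stepQ 14035 Q14035 (allL N14035 (tt N14012 F78491) (tt N14021 F78492) (tt N13940 F78493) (tt N14004 F78494) (tt N14036 (iv F78502)) (tt N13938 (iv D19922)) (tt N14035 F78495) (tt N13994 F78496) (tt N14003 F78497))
theorem Q14037 : ∀ i, i < 14037 → P i := stepQ 14036 Q14036 (allL N14036 (tt N14010 F78498) (tt N13994 F78499) (tt N14003 F78500) (tt N13941 F78501) (tt N14035 F78502) (tt N13939 (iv D19923)) (tt N14036 F78503) (tt N14021 F78504) (tt N13940 F78505))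
theorem Q14038 : ∀ i, i < 14038 → P i := stepQ 14037 Q14037 (allL N14037 (tt N14071 (iv F78690)) (tt N13995 F78506) (tt N14058 (iv F78615)) (tt N14040 (iv F78524)) (tt N14064 (iv F78649)) (tt N13942 F78507) (tt N14037 F78508) (tt N13941 (iv D19924)) (tt N14068 (iv F78677)))
theorem Q14039 : ∀ i, i < 14039 → P i := stepQ 14038 Q14038 (allL N14038 (tt N14053 (iv F78591)) (tt N13948 F78509) (tt N14026 F78510) (tt N14017 F78511) (tt N13947 F78512) (tt N14072 D19959) (tt N13946 (iv D19925)) (tt N13976 F78513) (tt N13949 F78514))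
theorem Q14040 : ∀ i, i < 14040 → P i := stepQ 14039 Q14039 (allL N14039 (tt N13995 F78515) (tt N14072 (iv F78696)) (tt N13958 F78516) (tt N14018 F78517) (tt N13990 F78518) (tt N13948 (iv D19926)) (tt N14039 F78519) (tt N13977 F78520) (tt N13950 F78521))
theorem Q14041 : ∀ i, i < 14041 → P i := stepQ 14040 Q14040 (allL N14040 (tt N14055 (iv F78601)) (tt N13950 F78522) (tt N14025 F78523) (tt N14037 F78524) (tt N13992 F78525) (tt N13949 (iv D19927)) (tt N14040 F78526) (tt N14022 F78527) (tt N14072 (iv F78702)))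
theorem Q14042 : ∀ i, i < 14042 → P i := stepQ 14041 Q14041 (allL N14041 (tt N13980 F78528) (tt N13953 F78529) (tt N14057 (iv F78610)) (tt N13987 F78530) (tt N13952 F78531) (tt N14073 D19960) (tt N13951 (iv D19928)) (tt N13989 F78532) (tt N13954 F78533))
theorem Q14043 : ∀ i, i < 14043 → P i := stepQ 14042 Q14042 (allL N14042 (tt N13958 F78534) (tt N14073 (iv F78704)) (tt N13995 F78535) (tt N14044 (iv F78548)) (tt N13977 F78536) (tt N13953 (iv D19929)) (tt N14042 F78537) (tt N13990 F78538) (tt N13955 F78539))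
theorem Q14044 : ∀ i, i < 14044 → P i := stepQ 14043 Q14043 (allL N14043 (tt N13985 F78540) (tt N13955 F78541) (tt N14061 (iv F78628)) (tt N13986 F78542) (tt N13979 F78543) (tt N13954 (iv D19930)) (tt N14043 F78544) (tt N13957 F78545) (tt N14073 (iv F78709)))
theorem Q14045 : ∀ i, i < 14045 → P i := stepQ 14044 Q14044 (allL N14044 (tt N14008 F78546) (tt N14059 (iv F78619)) (tt N13957 F78547) (tt N14042 F78548) (tt N14024 F78549) (tt N13956 (iv D19931)) (tt N14044 F78550) (tt N14061 (iv F78631)) (tt N14023 F78551))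
theorem Q14046 : ∀ i, i < 14046 → P i := stepQ 14045 Q14045 (allL N14045 (tt N13961 F78552) (tt N14013 F78553) (tt N13967 F78554) (tt N14050 (iv F78578)) (tt N13960 F78555) (tt N14074 D19961) (tt N13959 (iv D19932)) (tt N14027 F78556) (tt N13965 F78557))
theorem Q14047 : ∀ i, i < 14047 → P i := stepQ 14046 Q14046 (allL N14046 (tt N14074 (iv F78710)) (tt N13964 F78558) (tt N14062 (iv F78634)) (tt N14052 (iv F78589)) (tt N14070 (iv F78687)) (tt N13961 (iv D19933)) (tt N14046 F78559) (tt N14075 D19962) (tt N14032 F78560))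
theorem Q14048 : ∀ i, i < 14048 → P i := stepQ 14047 Q14047 (allL N14047 (tt N14027 F78561) (tt N13965 F78562) (tt N14011 F78563) (tt N14057 (iv F78611)) (tt N13963 F78564) (tt N14075 (iv F78720)) (tt N13962 F78565) (tt N13961 (iv D19934)) (tt N14013 F78566))
theorem Q14049 : ∀ i, i < 14049 → P i := stepQ 14048 Q14048 (allL N14048 (tt N14032 F78567) (tt N14075 (iv F78717)) (tt N13966 F78568) (tt N14058 (iv F78616)) (tt N14066 (iv F78663)) (tt N13965 F78569) (tt N14048 F78570) (tt N13964 (iv D19935)) (tt N14074 (iv F78715)))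
theorem Q14050 : ∀ i, i < 14050 → P i := stepQ 14049 Q14049 (allL N14049 (tt N14062 (iv F78632)) (tt N14010 F78571) (tt N14074 (iv F78712)) (tt N14069 (iv F78680)) (tt N14065 (iv F78656)) (tt N13967 F78572) (tt N14049 F78573) (tt N14028 F78574) (tt N13966 (iv D19936)))
theorem Q14051 : ∀ i, i < 14051 → P i := stepQ 14050 Q14050 (allL N14050 (tt N13972 F78575) (tt N13991 F78576) (tt N14017 F78577) (tt N14045 F78578) (tt N13969 F78579) (tt N14076 D19963) (tt N13968 (iv D19937)) (tt N13987 F78580) (tt N13984 F78581))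
theorem Q14052 : ∀ i, i < 14052 → P i := stepQ 14051 Q14051 (allL N14051 (tt N14017 F78582) (tt N13978 F78583) (tt N13972 F78584) (tt N14053 (iv F78594)) (tt N13971 F78585) (tt N14077 D19964) (tt N13970 (iv D19938)) (tt N14015 F78586) (tt N14034 F78587))
theorem Q14053 : ∀ i, i < 14053 → P i := stepQ 14052 Q14052 (allL N14052 (tt N14076 (iv F78723)) (tt N13973 F78588) (tt N14077 (iv F78732)) (tt N14046 F78589) (tt N14068 (iv F78674)) (tt N13972 (iv D19939)) (tt N14052 F78590) (tt N14063 (iv F78644)) (tt N14064 (iv F78652)))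
theorem Q14054 : ∀ i, i < 14054 → P i := stepQ 14053 Q14053 (allL N14053 (tt N14038 F78591) (tt N14034 F78592) (tt N13976 F78593) (tt N14051 F78594) (tt N13975 F78595) (tt N14078 D19965) (tt N13974 (iv D19940)) (tt N14026 F78596) (tt N13978 F78597))
theorem Q14055 : ∀ i, i < 14055 → P i := stepQ 14054 Q14054 (allL N14054 (tt N14069 (iv F78678)) (tt N13977 F78598) (tt N14078 (iv F78739)) (tt N14062 (iv F78635)) (tt N14073 (iv F78706)) (tt N13976 (iv D19941)) (tt N14054 F78599) (tt N14072 (iv F78701)) (tt N13979 F78600))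
theorem Q14056 : ∀ i, i < 14056 → P i := stepQ 14055 Q14055 (allL N14055 (tt N14040 F78601) (tt N14077 (iv F78731)) (tt N13979 F78602) (tt N14071 (iv F78692)) (tt N14061 (iv F78629)) (tt N13978 (iv D19942)) (tt N14055 F78603) (tt N14024 F78604) (tt N14078 (iv F78743)))
theorem Q14057 : ∀ i, i < 14057 → P i := stepQ 14056 Q14056 (allL N14056 (tt N14073 (iv F78703)) (tt N13983 F78605) (tt N14060 (iv F78624)) (tt N14063 (iv F78641)) (tt N14069 (iv F78681)) (tt N13980 (iv D19943)) (tt N14056 F78606) (tt N14079 D19966) (tt N13985 F78607))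
theorem Q14058 : ∀ i, i < 14058 → P i := stepQ 14057 Q14057 (allL N14057 (tt N13989 F78608) (tt N13984 F78609) (tt N14041 F78610) (tt N14047 F78611) (tt N13982 F78612) (tt N14079 (iv F78749)) (tt N13981 F78613) (tt N13980 (iv D19944)) (tt N13991 F78614))
theorem Q14059 : ∀ i, i < 14059 → P i := stepQ 14058 Q14058 (allL N14058 (tt N14064 (iv F78646)) (tt N14079 (iv F78745)) (tt N14037 F78615) (tt N14048 F78616) (tt N14071 (iv F78693)) (tt N13984 F78617) (tt N14058 F78618) (tt N13983 (iv D19945)) (tt N14076 (iv F78729)))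
theorem Q14060 : ∀ i, i < 14060 → P i := stepQ 14059 Q14059 (allL N14059 (tt N14063 (iv F78639)) (tt N14044 F78619) (tt N14016 F78620) (tt N14073 (iv F78705)) (tt N14067 (iv F78670)) (tt N13987 F78621) (tt N14059 F78622) (tt N14076 (iv F78728)) (tt N13986 (iv D19946)))
theorem Q14061 : ∀ i, i < 14061 → P i := stepQ 14060 Q14060 (allL N14060 (tt N14079 (iv F78744)) (tt N13990 F78623) (tt N14056 F78624) (tt N14070 (iv F78686)) (tt N14072 (iv F78699)) (tt N13989 (iv D19947)) (tt N14060 F78625) (tt N14073 (iv F78708)) (tt N13992 F78626))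
theorem Q14062 : ∀ i, i < 14062 → P i := stepQ 14061 Q14061 (allL N14061 (tt N13992 F78627) (tt N14076 (iv F78724)) (tt N14043 F78628) (tt N14066 (iv F78662)) (tt N14055 F78629) (tt N13991 (iv D19948)) (tt N14061 F78630) (tt N14044 F78631) (tt N14079 (iv F78751)))
theorem Q14063 : ∀ i, i < 14063 → P i := stepQ 14062 Q14062 (allL N14062 (tt N14049 F78632) (tt N13998 F78633) (tt N14046 F78634) (tt N14054 F78635) (tt N14028 F78636) (tt N13997 (iv D19949)) (tt N14062 F78637) (tt N14065 (iv F78658)) (tt N14020 F78638))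
theorem Q14064 : ∀ i, i < 14064 → P i := stepQ 14063 Q14063 (allL N14063 (tt N14059 F78639) (tt N14001 F78640) (tt N14067 (iv F78668)) (tt N14056 F78641) (tt N14016 F78642) (tt N14000 (iv D19950)) (tt N14063 F78643) (tt N14052 F78644) (tt N14009 F78645))
theorem Q14065 : ∀ i, i < 14065 → P i := stepQ 14064 Q14064 (allL N14064 (tt N14058 F78646) (tt N14031 F78647) (tt N14071 (iv F78691)) (tt N14032 F78648) (tt N14037 F78649) (tt N14007 F78650) (tt N14064 F78651) (tt N14006 (iv D19951)) (tt N14052 F78652))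
theorem Q14066 : ∀ i, i < 14066 → P i := stepQ 14065 Q14065 (allL N14065 (tt N14028 F78653) (tt N14012 F78654) (tt N14075 (iv F78718)) (tt N14016 F78655) (tt N14049 F78656) (tt N14011 (iv D19952)) (tt N14065 F78657) (tt N14062 F78658) (tt N14014 F78659))
theorem Q14067 : ∀ i, i < 14067 → P i := stepQ 14066 Q14066 (allL N14066 (tt N14029 F78660) (tt N14074 (iv F78711)) (tt N14014 F78661) (tt N14061 F78662) (tt N14048 F78663) (tt N14013 (iv D19953)) (tt N14066 F78664) (tt N14030 F78665) (tt N14075 (iv F78722)))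
theorem Q14068 : ∀ i, i < 14068 → P i := stepQ 14067 Q14067 (allL N14067 (tt N14016 F78666) (tt N14024 F78667) (tt N14063 F78668) (tt N14028 F78669) (tt N14059 F78670) (tt N14015 (iv D19954)) (tt N14067 F78671) (tt N14077 (iv F78735)) (tt N14019 F78672))
theorem Q14069 : ∀ i, i < 14069 → P i := stepQ 14068 Q14068 (allL N14068 (tt N14077 (iv F78730)) (tt N14018 F78673) (tt N14076 (iv F78725)) (tt N14072 (iv F78698)) (tt N14052 F78674) (tt N14017 F78675) (tt N14068 F78676) (tt N14016 (iv D19955)) (tt N14037 F78677))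
theorem Q14070 : ∀ i, i < 14070 → P i := stepQ 14069 Q14069 (allL N14069 (tt N14054 F78678) (tt N14033 F78679) (tt N14072 (iv F78697)) (tt N14049 F78680) (tt N14056 F78681) (tt N14026 F78682) (tt N14069 F78683) (tt N14078 (iv F78742)) (tt N14025 (iv D19956)))
theorem Q14071 : ∀ i, i < 14071 → P i := stepQ 14070 Q14070 (allL N14070 (tt N14075 (iv F78716)) (tt N14030 F78684) (tt N14028 F78685) (tt N14060 F78686) (tt N14046 F78687) (tt N14027 (iv D19957)) (tt N14070 F78688) (tt N14074 (iv F78714)) (tt N14029 F78689))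
theorem Q14072 : ∀ i, i < 14072 → P i := stepQ 14071 Q14071 (allL N14071 (tt N14037 F78690) (tt N14078 (iv F78738)) (tt N14064 F78691) (tt N14055 F78692) (tt N14058 F78693) (tt N14034 F78694) (tt N14071 F78695) (tt N14033 (iv D19958)) (tt N14077 (iv F78736)))
theorem Q14073 : ∀ i, i < 14073 → P i := stepQ 14072 Q14072 (allL N14072 (tt N14078 (iv F78737)) (tt N14039 F78696) (tt N14069 F78697) (tt N14068 F78698) (tt N14060 F78699) (tt N14038 (iv D19959)) (tt N14072 F78700) (tt N14054 F78701) (tt N14040 F78702))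
theorem Q14074 : ∀ i, i < 14074 → P i := stepQ 14073 Q14073 (allL N14073 (tt N14056 F78703) (tt N14042 F78704) (tt N14079 (iv F78746)) (tt N14059 F78705) (tt N14054 F78706) (tt N14041 (iv D19960)) (tt N14073 F78707) (tt N14060 F78708) (tt N14043 F78709))
theorem Q14075 : ∀ i, i < 14075 → P i := stepQ 14074 Q14074 (allL N14074 (tt N14046 F78710) (tt N14066 F78711) (tt N14049 F78712) (tt N14076 (iv F78726)) (tt N14075 (iv F78719)) (tt N14045 (iv D19961)) (tt N14074 F78713) (tt N14070 F78714) (tt N14048 F78715))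
theorem Q14076 : ∀ i, i < 14076 → P i := stepQ 14075 Q14075 (allL N14075 (tt N14070 F78716) (tt N14048 F78717) (tt N14065 F78718) (tt N14079 (iv F78747)) (tt N14074 F78719) (tt N14047 F78720) (tt N14075 F78721) (tt N14046 (iv D19962)) (tt N14066 F78722))
theorem Q14077 : ∀ i, i < 14077 → P i := stepQ 14076 Q14076 (allL N14076 (tt N14052 F78723) (tt N14061 F78724) (tt N14068 F78725) (tt N14074 F78726) (tt N14077 (iv F78733)) (tt N14050 (iv D19963)) (tt N14076 F78727) (tt N14059 F78728) (tt N14058 F78729))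
theorem Q14078 : ∀ i, i < 14078 → P i := stepQ 14077 Q14077 (allL N14077 (tt N14068 F78730) (tt N14055 F78731) (tt N14052 F78732) (tt N14078 (iv F78740)) (tt N14076 F78733) (tt N14051 (iv D19964)) (tt N14077 F78734) (tt N14067 F78735) (tt N14071 F78736))
theorem Q14079 : ∀ i, i < 14079 → P i := stepQ 14078 Q14078 (allL N14078 (tt N14072 F78737) (tt N14071 F78738) (tt N14054 F78739) (tt N14077 F78740) (tt N14079 (iv F78748)) (tt N14053 (iv D19965)) (tt N14078 F78741) (tt N14069 F78742) (tt N14055 F78743))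
theorem Q14080 : ∀ i, i < 14080 → P i := stepQ 14079 Q14079 (allL N14079 (tt N14060 F78744) (tt N14058 F78745) (tt N14073 F78746) (tt N14075 F78747) (tt N14078 F78748) (tt N14057 F78749) (tt N14079 F78750) (tt N14056 (iv D19966)) (tt N14061 F78751))

theorem closedN : ∀ i, i < N → P i := Q14080

end Cfsg.Agent.Helper17.Fi22bTC
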